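import Cfsg.Agent.Helper17.ONTC.Facts59

set_option autoImplicit false
set_option linter.all false

noncomputable section

namespace Cfsg.Agent.Helper17.ONTC

theorem F513052 : act 5 n222231 = n202589 := d9_2 D198791 D222231 F424644 F382022 (iv4 D191055) D191056 F382027 D199617 (iv4 F487576) F487577 F426691 F382039 (iv4 D191059) D191060 F382043
theorem F513053 : act 6 n222231 = n199409 := d10_2 (iv6 F409257) D222231 (iv4 D199409)
theorem F513054 : act 7 n222231 = n200048 := d11_2 (iv7 F409258) D222231 (iv4 D200048)
def n222232 : Q := act 5 n198792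
theorem D222232 : act 5 n198792 = n222232 := rfl
theorem F513055 : act 2 n222232 = n199758 := d2_1 D222232 (iv5 D199758) F409270
theorem F513056 : act 3 n222232 = n199429 := d6_1 D222232 (iv5 D199429) F412131
theorem F513057 : act 6 n222232 = n199783 := d12_2 F409267 D222232 (iv5 F482530) F482904 (iv5 D216092)
theorem F513058 : act 7 n222232 = n199728 := d13_2 (iv7 F409265) D222232 (iv5 D199728)
theorem F513059 : act 4 n222232 = n201416 := d16_2 F455855 D222232 (iv5 F455963) (iv4 F505956) F505957 F503411 F389938 (iv7 F413365) F455858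
theorem F513060 : act 0 n222232 = n199762 := d17_2 D198792 D222232 F413378 F280783 (iv5 F277103) (iv0 F346483) (iv5 D107594) D107592 (iv4 F170501)
theorem F513061 : act 1 n222232 = n198799 := d17_6 F412450 (iv5 F426725) F453400 (iv5 F455857) F455855 D222232 F409299 D211117 (iv4 F460171)
def n222233 : Q := act 5 n198793
theorem D222233 : act 5 n198793 = n222233 := rfl
theorem F513062 : act 2 n222233 = n199728 := d2_1 D222233 (iv5 D199728) F409262
theorem F513063 : act 4 n222233 = n201757 := d9_1 D222233 F421699 (iv4 F225985) D211581 F462244 (iv5 F455857) F455855 D222232 F513059 (iv5 F455963) (iv4 F505956) F505957 F503411 F389938 (iv4 F409261)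
theorem F513064 : act 7 n222233 = n199758 := d13_2 F409272 D222233 (iv5 D199758)
theorem F513065 : act 0 n222233 = n198799 := d17_2 F409264 D222233 F409299 F324531 (iv5 F277110) (iv0 F415254) (iv5 D200149) F175411 F173302
theorem F513066 : act 1 n222233 = n199762 := d17_8 F419503 (iv5 D201221) (iv1 F419493) F419456 (iv4 F409281) (iv5 D198795) D198793 D222233 (iv4 F413380)
def n222234 : Q := act 6 n198795
theorem D222234 : act 6 n198795 = n222234 := rfl
theorem F513067 : act 3 n222234 = n198796 := d7_1 D222234 (iv6 D198796) (iv3 F409279)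
theorem F513068 : act 4 n222234 = n218301 := d10_1 D222234 (iv6 D218301) (iv4 F409281)
theorem F513069 : act 5 n222234 = n204720 := d12_1 D222234 (iv6 D204720) (iv5 D124258) (iv6 F325613) D198795
theorem F513070 : act 7 n222234 = n199444 := d14_2 (iv7 F409280) D222234 (iv6 D199444) F172776 D111622
theorem F513071 : act 0 n218346 = n222234 := d21_4 (iv5 F489397) F489398 (iv5 F490922) (iv6 F493433) (iv6 D222234) (iv5 D198795) D198792 D222232 F513057 (iv1 F413494)
theorem F513072 : act 1 n218257 = n222234 := d15_0 (iv0 F513071) F493434 (iv2 F492992)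
def n222235 : Q := act 0 n198800
theorem D222235 : act 0 n198800 = n222235 := rfl
theorem F513073 : act 5 n222235 = n202469 := d17_1 D222235 (iv1 F508788) F508790 (iv4 F413255) D204499 F432717 (iv5 F449316) (iv0 F449317) (iv4 F409305)
theorem F513074 : act 4 n222235 = n208054 := d18_3 F409311 (iv4 F409305) D222235 (iv5 F447659) D215822 F491071 F277618 D178081 (iv5 F386057)
theorem F513075 : act 3 n222235 = n219017 := d20_5 (iv4 D100362) (iv1 F83327) D114253 (iv3 F409304) D222235 F496701 (iv1 D214394) (iv4 F375021) (iv3 D188829) (iv1 F154351)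
theorem F513076 : act 6 n222235 = n208053 := d21_5 (iv5 D66021) D66018 (iv5 F170518) D198800 D222235 (iv5 F461480) (iv1 F461481) (iv5 F343845) F362787 F170930
theorem F513077 : act 2 n199768 = n222235 := d15_3 (iv0 D222235) (iv0 F457525) F457524
theorem F513078 : act 1 n199485 = n222235 := d15_0 (iv0 D222235) F409307 (iv2 F412340)
theorem F513079 : act 7 n222235 = n199769 := d15_2 (iv0 F457526) F513078 F457528
def n222236 : Q := act 5 n198808
theorem D222236 : act 5 n198808 = n222236 := rfl
theorem F513080 : act 2 n222236 = n205100 := d2_1 D222236 (iv5 F506386) F506385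
theorem F513081 : act 3 n222236 = n198809 := d6_1 D222236 (iv5 D198809) D198808
theorem F513082 : act 7 n222236 = n220269 := d13_2 F409360 D222236 F502957
theorem F513083 : act 0 n222236 = n220270 := d17_2 F409348 D222236 F502963 F479653 (iv5 F486335) F498358 F498356 (iv0 D198628) (iv4 F223521)
theorem F513084 : act 1 n222236 = n220266 := d17_8 (iv1 F432883) D209373 (iv1 F453659) (iv5 D209428) (iv4 F219571) D196471 (iv0 F409347) D222236 F502941
def n222237 : Q := act 4 n198814
theorem D222237 : act 4 n198814 = n222237 := rfl
theorem F513085 : act 2 n222237 = n222152 := d1_1 D222237 (iv4 D222152) F409370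
theorem F513086 : act 3 n222237 = n216886 := d5_1 D222237 F486386 (iv3 F486328) (iv4 F498350) (iv3 F498353)
theorem F513087 : act 6 n222237 = n216885 := d10_2 (iv6 F495280) D222237 (iv4 F495277)
theorem F513088 : act 5 n222237 = n222152 := d16_1 D222237 (iv4 D222152) (iv5 D198497) (iv4 F408153) F408154 F395823 (iv5 F409373) F409372 F409370
theorem F513089 : act 0 n222237 = n222092 := d17_0 F512317 (iv1 D200338) (iv5 F206805) (iv4 F336222) (iv5 D112238) (iv0 F173499) (iv5 F379924) F409369 D222237
theorem F513090 : act 1 n222237 = n222091 := d18_6 F409393 F407928 F396732 (iv4 F407808) (iv5 F409368) D222237 (iv4 D222091) (iv0 F409397) F409394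
def n222238 : Q := act 4 n198815
theorem D222238 : act 4 n198815 = n222238 := rfl
theorem F513091 : act 3 n222238 = n218969 := d5_1 D222238 (iv4 D218969) F404372 D214157 F473769
theorem F513092 : act 7 n222238 = n222152 := d11_2 (iv7 F409372) D222238 (iv4 D222152)
theorem F513093 : act 0 n222238 = n222091 := d17_0 F512314 (iv1 F416048) F206805 F336223 (iv5 D112104) (iv0 F166188) D110322 D198815 D222238
theorem F513094 : act 1 n222238 = n222092 := d18_6 F220399 (iv4 F409421) F409420 F395823 (iv5 F409373) D222238 (iv4 D222092) (iv0 F408188) (iv5 D198515)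
def n222239 : Q := act 4 n198820
theorem D222239 : act 4 n198820 = n222239 := rfl
theorem F513095 : act 2 n222239 = n200364 := d1_1 D222239 F416142 (iv2 F409398)
theorem F513096 : act 3 n222239 = n214974 := d5_1 D222239 F477721 F430966 (iv4 F430964) (iv3 F409399)
theorem F513097 : act 5 n222239 = n214967 := d9_2 D198820 D222239 F477681 F379924 (iv4 D111786) (iv5 F169317) (iv4 F407944) (iv5 F414317) (iv4 F475326) F475327 (iv4 D198816) (iv5 D110322) (iv4 D50869) D50870 D110325
theorem F513098 : act 7 n222239 = n214966 := d11_2 (iv7 F409400) D222239 F477675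
theorem F513099 : act 0 n222239 = n199826 := d18_2 (iv1 F409402) D222239 (iv4 D199826) (iv5 D111785) F81318 F161309 D50869 F166189 D112238
theorem F513100 : act 1 n222239 = n199887 := d18_6 F407929 F169371 (iv1 F161303) D110325 D198820 D222239 (iv4 D199887) F413662 F413660
def n222240 : Q := act 5 n198821
theorem D222240 : act 5 n198821 = n222240 := rfl
theorem F513101 : act 2 n222240 = n208184 := d2_1 D222240 (iv5 D208184) F409407
theorem F513102 : act 3 n222240 = n219118 := d6_1 D222240 F497270 F425565
theorem F513103 : act 6 n222240 = n218907 := d12_2 F462866 D222240 F496137 F462832 (iv5 F462865)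
theorem F513104 : act 7 n222240 = n208186 := d13_2 F409406 D222240 (iv5 D208186)
theorem F513105 : act 4 n222240 = n214881 := d16_2 (iv4 F409403) D222240 F477261 F397885 (iv5 F397884) (iv4 D190465) F376745 (iv7 F176055) (iv2 F176054)
def n222241 : Q := act 5 n198822
theorem D222241 : act 5 n198822 = n222241 := rfl
theorem F513106 : act 2 n222241 = n208186 := d2_1 D222241 (iv5 D208186) (iv2 F409412)
theorem F513107 : act 4 n222241 = n214880 := d9_1 D222241 F477256 D215115 F478433 (iv4 D190462) (iv5 F376735) (iv4 F409403) D222240 F513105 F477261 F397885 (iv5 F397884) (iv4 D190465) F376745 F409411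
theorem F513108 : act 7 n222241 = n208184 := d13_2 (iv7 F409410) D222241 (iv5 D208184)
def n222242 : Q := act 0 n198823
theorem D222242 : act 0 n198823 = n222242 := rfl
theorem F513109 : act 5 n222242 = n218739 := d17_3 (iv1 D198822) D198823 D222242 (iv4 D218739) (iv5 F395350) (iv0 D195000) F348091 D113015 F409411
theorem F513110 : act 4 n222242 = n208095 := d18_1 D222242 (iv1 F447851) (iv4 F369655) F369656 (iv4 F361221) F176051 (iv4 F409403) (iv0 D198821) D198823
theorem F513111 : act 3 n222242 = n211739 := d20_5 (iv4 F433393) (iv1 F476239) F476240 (iv3 F409414) D222242 (iv4 D211739) D211737 (iv4 F463247) F463245 F381867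
theorem F513112 : act 6 n222242 = n208094 := d21_5 (iv5 D197486) F167345 D112978 (iv6 F409415) D222242 F447844 (iv1 D174668) D174670 (iv6 F425664) F425666
theorem F513113 : act 2 n208187 = n222242 := d15_3 (iv0 D222242) (iv0 F497196) (iv7 F497198)
theorem F513114 : act 1 n208190 = n222242 := d15_0 (iv0 D222242) F409416 (iv2 F448291)
theorem F513115 : act 7 n222242 = n208188 := d15_2 (iv0 F497197) F513114 (iv2 F497193)
def n222243 : Q := act 2 n198835
theorem D222243 : act 2 n198835 = n222243 := rfl
theorem F513116 : act 3 n222243 = n200515 := d0_2 D198835 D222243 F416818 (iv3 D163846) (iv2 F342285)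
theorem F513117 : act 4 n222243 = n204306 := d1_2 (iv4 F409484) D222243 F431972
theorem F513118 : act 5 n222243 = n210033 := d2_2 (iv5 F409481) D222243 (iv2 F455847)
theorem F513119 : act 6 n222243 = n204305 := d3_2 (iv6 F409482) D222243 F431969
theorem F513120 : act 7 n222243 = n210034 := d4_2 (iv7 F409483) D222243 F455849
theorem F513121 : act 1 n222243 = n199506 := d15_0 (iv0 F412450) (iv7 F409483) D222243
theorem F513122 : act 1 n198871 = n222243 := d15_0 F513121 F412448 (iv2 F409671)
def n222244 : Q := act 4 n198837
theorem D222244 : act 4 n198837 = n222244 := rfl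
theorem F513123 : act 2 n222244 = n214855 := d1_1 D222244 (iv4 D214855) F409494
theorem F513124 : act 5 n222244 = n199244 := d9_2 (iv5 F409493) D222244 F411298 (iv5 F456557) F456556 (iv5 F416611) (iv4 D200475) (iv5 F409486) F410006 (iv5 D198942) (iv4 F221112) D210202 F456547 (iv5 F412997) F413001
theorem F513125 : act 6 n222244 = n221909 := d10_2 (iv6 F434424) D222244 F511343
theorem F513126 : act 7 n222244 = n199243 := d11_2 (iv7 F409492) D222244 F411296
theorem F513127 : act 0 n222244 = n221294 := d17_0 F508210 (iv1 F472145) (iv5 D213799) F244843 (iv5 F350824) (iv0 D110352) D110355 D198837 D222244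
theorem F513128 : act 1 n222244 = n221568 := d18_6 F437079 F402892 F413002 F413001 (iv5 F409493) D222244 (iv4 F510277) (iv0 F510279) F455462
def n222245 : Q := act 5 n198838
theorem D222245 : act 5 n198838 = n222245 := rfl
theorem F513129 : act 2 n222245 = n214854 := d2_1 D222245 (iv5 D214854) (iv2 F409495)
theorem F513130 : act 3 n222245 = n202152 := d6_1 D222245 (iv5 D202152) (iv3 F409496)
theorem F513131 : act 6 n222245 = n211098 := d12_2 (iv6 F409497) D222245 F460087 (iv6 D210897) F351858
theorem F513132 : act 0 n222245 = n213729 := d17_2 F409499 D222245 (iv5 D213729) (iv4 F438646) F438647 F414827 (iv5 F510292) (iv0 D221686) F403006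
theorem F513133 : act 1 n222245 = n202630 := d17_6 F350839 F342290 (iv1 D110353) D110355 D198838 D222245 (iv5 D202630) D202628 F424825
def n222246 : Q := act 4 n198848
theorem D222246 : act 4 n198848 = n222246 := rfl
theorem F513134 : act 2 n222246 = n212167 := d1_1 D222246 F464585 F415366
theorem F513135 : act 3 n222246 = n221739 := d5_1 D222246 (iv4 D221739) F477127 F477123 (iv3 F409551)
theorem F513136 : act 6 n222246 = n212165 := d10_2 (iv6 F409552) D222246 F464578
theorem F513137 : act 7 n222246 = n214849 := d11_2 (iv7 F409553) D222246 F477137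
theorem F513138 : act 0 n222246 = n205441 := d17_0 F436445 F461227 (iv5 F503534) F503533 F415375 F338336 D205431 F436390 D222246
theorem F513139 : act 1 n222246 = n205009 := d18_6 F175507 F82255 (iv1 F169191) (iv4 F170727) D198848 D222246 F434582 F350816 (iv5 F342296)
def n222247 : Q := act 5 n198867
theorem D222247 : act 5 n198867 = n222247 := rfl
theorem F513140 : act 2 n222247 = n214990 := d2_1 D222247 (iv5 D214990) (iv2 F409653)
theorem F513141 : act 3 n222247 = n198869 := d6_1 D222247 (iv5 D198869) D198867
theorem F513142 : act 6 n222247 = n214850 := d12_2 (iv6 F409654) D222247 (iv5 D214850) F353264 (iv5 F257740)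
theorem F513143 : act 7 n222247 = n200503 := d13_2 F415385 D222247 F416758
theorem F513144 : act 4 n222247 = n209286 := d16_2 F409655 D222247 (iv5 D209286) (iv4 F434833) (iv5 F512056) F512055 (iv5 F482037) F482038 F373494
theorem F513145 : act 0 n222247 = n205326 := d17_2 F409656 D222247 (iv5 D205326) (iv4 D125796) D125797 F416842 F93155 D125582 F363243
theorem F513146 : act 1 n222247 = n205330 := d17_6 F416702 (iv5 F507992) F507994 (iv5 D214905) F409655 D222247 (iv5 D205330) F416698 (iv4 F416704)
def n222248 : Q := act 3 n198878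
theorem D222248 : act 3 n198878 = n222248 := rfl
theorem F513147 : act 2 n222248 = n213910 := d0_1 D222248 F472695 F304176 (iv3 F409582) F409715
theorem F513148 : act 6 n222248 = n213844 := d7_2 F428845 D222248 F472355
theorem F513149 : act 7 n222248 = n202167 := d8_2 F409716 D222248 (iv3 D202167)
theorem F513150 : act 4 n222248 = n221753 := d20_6 F108580 D72133 D152880 F360854 D198878 D222248 (iv1 F511056) F472251 (iv3 D213258) (iv1 D152878)
theorem F513151 : act 0 n202429 = n222248 := d20_4 F179657 F84187 D115725 D202429 (iv3 D222248) (iv4 F416586) F463518 F463516 (iv3 F422621) (iv1 F422626)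
def n222249 : Q := act 5 n198887
theorem D222249 : act 5 n198887 = n222249 := rfl
theorem F513152 : act 2 n222249 = n206755 := d2_1 D222249 (iv5 D206755) (iv2 F409754)
theorem F513153 : act 0 n222249 = n205808 := d17_2 (iv1 F446236) D222249 (iv5 D205808) (iv4 F203673) D135215 (iv0 F407070) F407068 (iv0 F217865) (iv4 F446234)
theorem F513154 : act 1 n222249 = n205806 := d17_6 F101877 D61230 F175214 F175212 (iv4 F409755) D222249 (iv5 D205806) (iv0 D126616) F93747
def n222250 : Q := act 6 n198909
theorem D222250 : act 6 n198909 = n222250 := rfl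
theorem F513155 : act 2 n222250 = n219288 := d3_1 D222250 (iv6 D219288) (iv2 F409847)
theorem F513156 : act 3 n222250 = n207767 := d7_1 D222250 F446331 F409846
theorem F513157 : act 4 n222250 = n219079 := d10_1 D222250 (iv6 F497071) (iv4 F409845)
theorem F513158 : act 5 n222250 = n207766 := d12_1 D222250 F446324 D217710 F490251 F461710
theorem F513159 : act 0 n222250 = n221687 := d21_4 (iv5 F420381) (iv1 F461712) F461710 D222250 (iv6 D221687) F403024 (iv1 D107670) D107672 D197120 F403140
theorem F513160 : act 0 n207967 = n222250 := d21_4 (iv5 F430236) (iv1 D203885) (iv5 F413013) (iv6 F447188) (iv6 D222250) (iv5 F461710) (iv1 F461713) (iv5 F427722) F427723 F278239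
def n222251 : Q := act 5 n198916
theorem D222251 : act 5 n198916 = n222251 := rfl
theorem F513161 : act 2 n222251 = n205182 := d2_1 D222251 F435332 F414882
theorem F513162 : act 4 n222251 = n200554 := d9_1 D222251 F494466 F392380 F355836 F129198 D84164 D176525 (iv5 F436259) F436261 F436262 F392360 (iv5 F363541) (iv4 F343350) (iv5 F343348) D198916
theorem F513163 : act 7 n222251 = n220687 := d13_2 F414877 D222251 F504988
theorem F513164 : act 1 n222251 = n205329 := d17_6 (iv1 D113141) F105258 (iv1 F230553) (iv5 F343348) D198916 D222251 (iv5 D205329) (iv0 F416563) (iv4 D200465)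
def n222252 : Q := act 4 n198929
theorem D222252 : act 4 n198929 = n222252 := rfl
theorem F513165 : act 3 n222252 = n201727 := d5_1 D222252 F421579 (iv3 F399357) (iv4 F499094) (iv3 F499099)
theorem F513166 : act 5 n222252 = n201726 := d16_1 D222252 F421576 (iv5 D199107) F171976 D156597 (iv4 F433976) F433979 (iv7 F414993) (iv2 F414995)
theorem F513167 : act 0 n222252 = n205218 := d17_0 F442512 (iv1 F506455) (iv5 D220952) (iv4 D195056) (iv5 D105204) F82856 D113669 F409950 D222252
theorem F513168 : act 1 n222252 = n206086 := d18_6 F403288 F395624 F163605 (iv4 F176715) (iv5 F409949) D222252 (iv4 D206086) F352195 (iv5 F403287)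
def n222253 : Q := act 4 n198930
theorem D222253 : act 4 n198930 = n222253 := rfl
theorem F513169 : act 3 n222253 = n201788 := d5_1 D222253 (iv4 F421804) (iv3 F406148) (iv4 F441277) F441276
theorem F513170 : act 5 n222253 = n201785 := d9_2 F433979 D222253 F421799 (iv5 D199109) F171983 (iv5 F163603) (iv4 F176715) (iv5 F409949) D222252 F513166 F421576 (iv5 D199107) F171976 D156597 (iv4 F433976)
theorem F513171 : act 0 n222253 = n206086 := d17_0 F439191 F435007 (iv5 F417412) F417411 F176526 (iv0 F82686) D110729 D198930 D222253
theorem F513172 : act 1 n222253 = n205218 := d18_6 F202235 F202232 F246277 (iv4 F433976) F433979 D222253 (iv4 D205218) (iv0 F352191) (iv5 F352192)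
def n222254 : Q := act 0 n198931
theorem D222254 : act 0 n198931 = n222254 := rfl
theorem F513173 : act 5 n222254 = n221450 := d17_1 D222254 F509065 (iv5 D212399) (iv4 F395590) (iv5 F402215) F402216 (iv5 F409949) (iv0 D198929) D198931
theorem F513174 : act 4 n222254 = n200671 := d18_1 D222254 (iv1 F417419) D200676 (iv5 F464347) (iv4 D212107) (iv0 D145322) D145323 (iv0 F410716) F410715
theorem F513175 : act 2 n206595 = n222254 := d15_3 (iv0 D222254) F409952 D206595
theorem F513176 : act 1 n200965 = n222254 := d15_0 (iv0 D222254) (iv7 F414997) (iv2 F418531)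
theorem F513177 : act 7 n222254 = n206586 := d15_2 (iv0 F418534) F513176 F441440
theorem F513178 : act 3 n220943 = n222254 := d8_3 F513177 F499250 (iv7 F506405)
theorem F513179 : act 6 n219541 = n222254 := d14_5 F513177 (iv6 D206586) (iv7 F396498) D221014 (iv7 F506808)
def n222255 : Q := act 4 n198935
theorem D222255 : act 4 n198935 = n222255 := rfl
theorem F513180 : act 2 n222255 = n209719 := d1_1 D222255 (iv4 D209719) F409973
theorem F513181 : act 3 n222255 = n202627 := d5_1 D222255 (iv4 D202627) F180911 D116125 (iv3 F409970)
theorem F513182 : act 6 n222255 = n205697 := d10_2 F409975 D222255 F437487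
theorem F513183 : act 7 n222255 = n209714 := d11_2 F409974 D222255 (iv4 D209714)
theorem F513184 : act 5 n222255 = n209617 := d16_1 D222255 F454339 F359150 F359128 (iv5 F228390) F228392 (iv5 F409978) F409977 F409973
theorem F513185 : act 0 n222255 = n206871 := d17_0 (iv5 D206871) D206869 (iv5 F454755) (iv4 D209723) (iv5 F220821) (iv0 F171407) (iv5 F220119) F409971 D222255
theorem F513186 : act 1 n222255 = n210200 := d18_6 (iv1 F410841) (iv4 D199137) D199135 F410827 (iv5 F409972) D222255 (iv4 D210200) (iv0 F411180) (iv5 D199209)
def n222256 : Q := act 4 n198936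
theorem D222256 : act 4 n198936 = n222256 := rfl
theorem F513187 : act 2 n222256 = n209714 := d1_1 D222256 (iv4 D209714) F409979
theorem F513188 : act 3 n222256 = n206099 := d5_1 D222256 (iv4 F439250) F436829 D205524 F436834
theorem F513189 : act 5 n222256 = n210648 := d9_2 (iv5 F409978) D222256 (iv4 D210648) (iv5 F359136) F359135 (iv5 F410826) F410827 (iv5 F409972) D222255 F513184 F454339 F359150 F359128 (iv5 F228390) F228392
theorem F513190 : act 7 n222256 = n209719 := d11_2 (iv7 F409977) D222256 (iv4 D209719)
theorem F513191 : act 0 n222256 = n210200 := d17_0 F456537 (iv1 F445901) (iv5 F442468) F216190 (iv5 F330978) (iv0 D110735) D110738 D198936 D222256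
theorem F513192 : act 1 n222256 = n206871 := d18_6 (iv1 F411167) F411168 (iv1 F402440) F228392 (iv5 F409978) D222256 F442471 F383804 (iv5 F172288)
def n222257 : Q := act 4 n198946
theorem D222257 : act 4 n198946 = n222257 := rfl
theorem F513193 : act 2 n222257 = n219031 := d1_1 D222257 F496790 F410015
theorem F513194 : act 3 n222257 = n207226 := d5_1 D222257 (iv4 F443891) (iv3 F468294) F468295 (iv3 F410016)
theorem F513195 : act 5 n222257 = n205505 := d9_2 (iv5 F410014) D222257 (iv4 D205505) (iv5 D126184) F93337 (iv5 F77767) (iv4 F163799) D196028 (iv4 F399118) (iv5 F381445) (iv4 F408174) F408172 F244995 (iv5 F203324) (iv4 F217948)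
theorem F513196 : act 7 n222257 = n218999 := d11_2 F418986 D222257 F496606
theorem F513197 : act 0 n222257 = n208030 := d17_0 F447523 D222155 F512624 (iv4 D201882) (iv5 D115198) (iv0 F327980) (iv5 F418999) F419002 D222257
theorem F513198 : act 1 n222257 = n203667 := d18_6 D62512 (iv4 F164105) (iv1 F203326) (iv4 F217948) (iv5 F410014) D222257 F429321 F327995 (iv5 D62514)
def n222258 : Q := act 6 n198946
theorem D222258 : act 6 n198946 = n222258 := rfl
theorem F513199 : act 2 n222258 = n218955 := d3_1 D222258 (iv6 F496368) F410015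
theorem F513200 : act 3 n222258 = n212952 := d7_1 D222258 F468292 (iv3 F410016)
theorem F513201 : act 7 n222258 = n218954 := d14_2 F418986 D222258 F496361 (iv7 D209048) F418988
theorem F513202 : act 0 n222258 = n207378 := d21_4 (iv5 D135533) D135531 (iv5 F410014) D222258 F444585 F427656 F370483 D217326 F488442 F418983
theorem F513203 : act 0 n203660 = n222258 := d21_4 F80529 D55263 D120107 D203660 (iv6 D222258) F410014 (iv1 F217950) D135535 F365419 (iv1 D110767)
def n222259 : Q := act 3 n198952
theorem D222259 : act 3 n198952 = n222259 := rfl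
theorem F513204 : act 2 n222259 = n221182 := d0_1 D222259 F507617 F408311 F175967 F410035
theorem F513205 : act 4 n222259 = n214155 := d5_2 (iv4 F410033) D222259 F473757 (iv4 D189297) (iv3 F175853)
theorem F513206 : act 5 n222259 = n199852 := d6_2 (iv5 F410034) D222259 (iv3 D199852)
theorem F513207 : act 7 n222259 = n198960 := d8_2 (iv7 F410032) D222259 (iv3 D198960)
theorem F513208 : act 0 n212477 = n222259 := d20_4 (iv4 F358374) F290527 (iv4 F340437) (iv3 F465987) (iv3 D222259) F410033 F175855 D112928 (iv3 F382221) F382223
theorem F513209 : act 6 n222259 = n214154 := d21_5 (iv5 D189964) (iv1 F205498) D190029 (iv6 F465988) F513208 F473754 F408950 D213750 (iv6 F489151) F489149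
def n222260 : Q := act 6 n198952
theorem D222260 : act 6 n198952 = n222260 := rfl
theorem F513210 : act 2 n222260 = n198961 := d3_1 D222260 (iv6 D198961) F410035
theorem F513211 : act 3 n222260 = n214154 := d7_1 D222260 (iv6 F513209) (iv3 D222259)
theorem F513212 : act 4 n222260 = n200271 := d10_1 D222260 (iv6 D200271) (iv4 F410033)
theorem F513213 : act 5 n222260 = n199952 := d12_1 D222260 (iv6 D199952) (iv5 F248412) F354558 (iv5 F410034)
theorem F513214 : act 7 n222260 = n211467 := d14_2 (iv7 F410032) D222260 (iv6 D211467) (iv7 F227352) F364971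
theorem F513215 : act 0 n222260 = n218628 := d21_4 F381588 (iv1 F381589) (iv5 F410034) D222260 F494858 F414665 (iv1 F397096) (iv5 F429344) (iv6 D203671) F189764
theorem F513216 : act 0 n218627 = n222260 := d21_4 F174554 (iv1 F174535) (iv5 F377408) D218627 (iv6 D222260) F410034 (iv1 D111849) D111850 F173703 D111857
def n222261 : Q := act 5 n198958
theorem D222261 : act 5 n198958 = n222261 := rfl
theorem F513217 : act 2 n222261 = n209394 := d2_1 D222261 (iv5 F453555) F410066
theorem F513218 : act 3 n222261 = n217736 := d6_1 D222261 F490388 (iv3 F410065)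
theorem F513219 : act 4 n222261 = n209393 := d9_1 D222261 F453547 F219573 D205109 (iv4 F512481) F512482 (iv4 D221353) (iv5 F434952) (iv4 D205094) (iv5 D125472) F92813 D58757 D125514 (iv5 F377413) F410063
theorem F513220 : act 6 n222261 = n201556 := d12_2 F410064 D222261 (iv5 F431341) (iv6 F403345) F379723
theorem F513221 : act 7 n222261 = n217754 := d13_2 F420654 D222261 F490468
theorem F513222 : act 0 n222261 = n201540 := d17_2 (iv1 F410062) D222261 F443838 F443826 F395336 (iv0 F443828) (iv5 F430196) (iv0 D142490) (iv4 F225400)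
theorem F513223 : act 1 n222261 = n216344 := d17_6 (iv1 F498358) F486335 (iv1 D205136) (iv5 F377413) F410063 D222261 F483941 D218955 (iv4 F498355)
def n222262 : Q := act 1 n198959
theorem D222262 : act 1 n198959 = n222262 := rfl
theorem F513224 : act 1 n222262 = n201551 := d15_1 D222262 (iv7 D201551) (iv2 F410067)
theorem F513225 : act 7 n222262 = n201549 := d15_2 (iv0 F453454) D222262 (iv2 F453450)
theorem F513226 : act 5 n222262 = n222258 := d17_7 F496375 F477726 F461850 F395081 F379573 D198959 D222262 (iv0 F513203) (iv4 F496370)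
theorem F513227 : act 4 n222262 = n209444 := d17_9 (iv1 F453734) F412018 (iv1 D125470) D125472 D205094 F434952 (iv0 F399546) D198959 D222262
theorem F513228 : act 6 n202239 = n222262 := d21_3 (iv5 D135728) (iv1 F179793) D202239 (iv1 D222262) F410069 (iv5 D113889) (iv1 D52581) D52582 (iv6 F177180) F363766
theorem F513229 : act 2 n222262 = n201550 := d3_1 F513228 (iv6 F444013) F444007
theorem F513230 : act 3 n222262 = n208620 := d7_1 F513228 (iv6 F490636) F490635
def n222263 : Q := act 1 n198960
theorem D222263 : act 1 n198960 = n222263 := rfl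
theorem F513231 : act 1 n222263 = n221182 := d15_1 D222263 F507620 F463034
theorem F513232 : act 7 n222263 = n212477 := d15_2 (iv0 F456108) D222263 F465986
theorem F513233 : act 5 n222263 = n212478 := d17_7 (iv1 F310973) F310976 (iv1 F183346) D117203 D202890 F426066 D222263 F465993 F234567
theorem F513234 : act 3 n215031 = n222263 := d19_19 (iv1 D222263) (iv5 F426066) (iv4 D202890) F331670 (iv1 F346394) (iv5 F349369) (iv4 D134599) (iv3 F216578) (iv1 F355305) (iv5 F389531) F389530 F333214 (iv1 D76333) (iv5 D34870) (iv4 F40383) (iv3 F83148) D114037 D201177 (iv4 F477983)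
def n222264 : Q := act 0 n198966
theorem D222264 : act 0 n198966 = n222264 := rfl
theorem F513235 : act 5 n222264 = n220671 := d17_1 D222264 (iv1 F504909) (iv5 F473745) F473744 F378360 F379304 (iv5 F379466) (iv0 F380884) (iv4 F410093)
theorem F513236 : act 3 n222264 = n222091 := d20_5 (iv4 F379212) F377313 (iv4 F379900) (iv3 F410091) D222264 (iv4 D222091) (iv1 F408187) F414781 F378388 D190013
theorem F513237 : act 6 n222264 = n215951 := d21_5 (iv5 F478348) (iv1 F478351) (iv5 F416034) (iv6 F416038) D222264 F482238 (iv1 F474555) (iv5 F496624) (iv6 F512718) F512720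
theorem F513238 : act 2 n218989 = n222264 := d15_3 (iv0 D222264) (iv0 F481142) (iv7 F496556)
theorem F513239 : act 1 n218619 = n222264 := d15_0 (iv0 D222264) F410092 (iv2 F494801)
theorem F513240 : act 7 n222264 = n218988 := d15_2 (iv0 F494805) F513239 (iv2 F496554)
def n222265 : Q := act 0 n198970
theorem D222265 : act 0 n198970 = n222265 := rfl
theorem F513241 : act 5 n222265 = n205227 := d17_1 D222265 F435516 (iv5 F477319) F477318 F370260 F367020 D209643 F454454 (iv4 F410104)
theorem F513242 : act 4 n222265 = n206007 := d18_3 F454475 (iv4 F410104) D222265 F438810 (iv4 F437959) (iv0 F437964) (iv4 D191173) F367008 D209646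
theorem F513243 : act 3 n222265 = n217502 := d20_5 F150086 D97339 D191170 (iv3 F410103) D222265 F489194 (iv1 F448319) (iv4 F498290) (iv3 D219323) (iv1 D191166)
theorem F513244 : act 6 n222265 = n205230 := d21_5 (iv5 D131817) D131814 F335829 D198970 D222265 (iv5 D205230) D205228 F435518 (iv6 D191111) (iv1 F340415)
theorem F513245 : act 2 n205237 = n222265 := d15_3 (iv0 D222265) (iv0 F445210) F445209
theorem F513246 : act 7 n222265 = n214904 := d4_2 F445209 F513245 F477362
theorem F513247 : act 1 n219303 = n222265 := d15_1 F498214 F513246 F477362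
def n222266 : Q := act 5 n198970
theorem D222266 : act 5 n198970 = n222266 := rfl
theorem F513248 : act 2 n222266 = n219302 := d2_1 D222266 (iv5 D219302) (iv2 F410102)
theorem F513249 : act 3 n222266 = n219325 := d6_1 D222266 (iv5 D219325) (iv3 F410103)
theorem F513250 : act 6 n222266 = n200984 := d12_2 D198970 D222266 (iv5 D200984) F335828 F335829
theorem F513251 : act 4 n222266 = n222166 := d16_2 (iv4 F410104) D222266 F512685 (iv4 D206769) (iv5 F438571) (iv4 F461805) F461806 (iv7 D191129) (iv2 F381016)
theorem F513252 : act 0 n222266 = n207613 := d17_2 F445210 D222266 (iv5 D207613) (iv4 F373556) (iv5 F355416) F206741 D206385 F440535 (iv4 F445206)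
theorem F513253 : act 1 n222266 = n219343 := d17_6 D187414 (iv5 F392734) (iv1 D194299) (iv5 F381017) (iv4 F410104) D222266 (iv5 D219343) F382724 F257726
def n222267 : Q := act 7 n198970
theorem D222267 : act 7 n198970 = n222267 := rfl
theorem F513254 : act 2 n222267 = n219303 := d4_1 D222267 (iv7 D219303) (iv2 F410102)
theorem F513255 : act 3 n222267 = n214900 := d8_1 D222267 F477340 (iv3 F410103)
theorem F513256 : act 4 n222267 = n219083 := d11_1 D222267 (iv7 D219083) (iv4 F410104)
theorem F513257 : act 6 n222267 = n206760 := d14_1 D222267 F442084 (iv6 D191118) F340405 D198970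
theorem F513258 : act 1 n214904 = n222267 := d15_1 (iv0 F477365) (iv7 D222267) F410102
theorem F513259 : act 1 n222267 = n205237 := d15_1 F513258 (iv7 F445209) (iv2 F477362)
def n222268 : Q := act 4 n198976
theorem D222268 : act 4 n198976 = n222268 := rfl
theorem F513260 : act 2 n222268 = n207040 := d1_1 D222268 F443077 (iv2 F410132)
theorem F513261 : act 6 n222268 = n216840 := d10_2 (iv6 F410134) D222268 (iv4 D216840)
theorem F513262 : act 7 n222268 = n221681 := d11_2 (iv7 F410135) D222268 (iv4 D221681)
theorem F513263 : act 5 n222268 = n219091 := d16_1 D222268 (iv4 D219091) (iv5 D190791) (iv4 F341807) (iv5 D132149) (iv4 F341792) D198977 F410138 (iv2 F410132)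
def n222269 : Q := act 4 n198977
theorem D222269 : act 4 n198977 = n222269 := rfl
theorem F513264 : act 2 n222269 = n221681 := d1_1 D222269 (iv4 D221681) (iv2 F410136)
theorem F513265 : act 3 n222269 = n200082 := d5_1 D222269 F414947 F345540 D130161 (iv3 F410137)
theorem F513266 : act 5 n222269 = n219090 := d9_2 D198977 D222269 (iv4 D219090) (iv5 D190790) (iv4 F341809) (iv5 D132144) (iv4 F341789) D198976 D222268 F513263 (iv4 D219091) (iv5 D190791) (iv4 F341807) (iv5 D132149) (iv4 F341792)
theorem F513267 : act 6 n222269 = n221200 := d10_2 (iv6 F410139) D222269 F507703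
theorem F513268 : act 7 n222269 = n207040 := d11_2 (iv7 F410138) D222269 F443077
def n222270 : Q := act 6 n198998
theorem D222270 : act 6 n198998 = n222270 := rfl
theorem F513269 : act 2 n222270 = n219858 := d3_1 D222270 F500920 F411747
theorem F513270 : act 3 n222270 = n199000 := d7_1 D222270 (iv6 D199000) D198998
theorem F513271 : act 4 n222270 = n221760 := d10_1 D222270 (iv6 D221760) (iv4 F410251)
theorem F513272 : act 7 n222270 = n219617 := d14_2 (iv7 F410250) D222270 (iv6 D219617) F384577 D192423
theorem F513273 : act 0 n222270 = n219860 := d21_4 F403706 F426925 (iv5 F426924) D222270 F510697 F510694 F506795 F441921 (iv6 F465727) F465729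
theorem F513274 : act 0 n219851 = n222270 := d21_4 (iv5 D157478) (iv1 F311802) D192350 D219851 (iv6 D222270) F426924 (iv1 F465855) F465851 F411385 (iv1 F386609)
def n222271 : Q := act 6 n198999
theorem D222271 : act 6 n198999 = n222271 := rfl
theorem F513275 : act 2 n222271 = n221285 := d3_1 D222271 (iv6 D221285) (iv2 F410256)
theorem F513276 : act 4 n222271 = n199000 := d10_1 D222271 (iv6 D199000) D198999
theorem F513277 : act 5 n222271 = n199598 := d12_1 D222271 (iv6 D199598) F403537 D111567 (iv5 F410258)
theorem F513278 : act 0 n213432 = n222271 := d21_4 (iv5 F444925) F444928 D211100 (iv6 F470371) (iv6 D222271) F410258 F358653 D198356 F460098 (iv1 F460097)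
def n222272 : Q := act 0 n199000
theorem D222272 : act 0 n199000 = n222272 := rfl
theorem F513279 : act 4 n222272 = n199120 := d20_2 F513276 D222272 (iv3 F473673) F504391 F504387 (iv4 D206129) F319123 (iv4 F353405) D213432 F513278
theorem F513280 : act 6 n222272 = n199058 := d21_5 (iv5 F221798) F345977 F361437 D199000 D222272 (iv5 F510443) (iv1 F510445) F509774 F470665 (iv1 D156464)
theorem F513281 : act 2 n199280 = n222272 := d15_3 (iv0 D222272) (iv0 F410260) (iv7 F411456)
theorem F513282 : act 3 n222272 = n210400 := d0_2 D199280 F513281 (iv2 D210400) (iv3 D138634) (iv2 F172378)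
theorem F513283 : act 7 n222272 = n210405 := d4_2 (iv7 F411456) F513281 (iv2 D210405)
theorem F513284 : act 1 n210404 = n222272 := d15_1 D210404 F513283 (iv2 D210405)
def n222273 : Q := act 7 n199000
theorem D222273 : act 7 n199000 = n222273 := rfl
theorem F513285 : act 2 n222273 = n210404 := d4_1 D222273 (iv7 F473695) F473692
theorem F513286 : act 3 n222273 = n219617 := d8_1 D222273 (iv7 F513272) F513270
theorem F513287 : act 5 n222273 = n212725 := d13_1 D222273 F467276 F426934
theorem F513288 : act 6 n222273 = n216479 := d14_1 D222273 F484581 (iv6 F386288) (iv7 F361439) D199000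
theorem F513289 : act 1 n210405 = n222273 := d15_1 (iv0 F473696) (iv7 D222273) (iv2 F473692)
theorem F513290 : act 1 n222273 = n199280 := d15_1 F513289 F411456 D210405
def n222274 : Q := act 6 n199006
theorem D222274 : act 6 n199006 = n222274 := rfl
theorem F513291 : act 2 n222274 = n199007 := d3_1 D222274 (iv6 D199007) D199006
theorem F513292 : act 3 n222274 = n205192 := d7_1 D222274 (iv6 D205192) (iv3 F410289)
theorem F513293 : act 4 n222274 = n214684 := d10_1 D222274 (iv6 F476386) (iv4 F410290)
theorem F513294 : act 5 n222274 = n217768 := d12_1 D222274 (iv6 D217768) F413458 (iv6 D199778) (iv5 F410291)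
theorem F513295 : act 7 n222274 = n218696 := d14_2 (iv7 F410292) D222274 (iv6 D218696) (iv7 F394997) (iv6 F394999)
theorem F513296 : act 0 n222274 = n222170 := d21_10 F512706 (iv1 D217556) F370799 (iv6 D108662) D108658 F405750 D199435 F412181 (iv5 F410291) D222274
theorem F513297 : act 0 n215242 = n222274 := d21_4 (iv5 F400586) F400589 (iv5 F479782) (iv6 F479784) (iv6 D222274) F410291 (iv1 F412195) (iv5 D199437) D199438 (iv1 F412199)
def n222275 : Q := act 6 n199009
theorem D222275 : act 6 n199009 = n222275 := rfl
theorem F513298 : act 3 n222275 = n199011 := d7_1 D222275 (iv6 D199011) D199009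
theorem F513299 : act 4 n222275 = n217290 := d10_1 D222275 F488307 F455432
theorem F513300 : act 5 n222275 = n213394 := d12_1 D222275 F470210 D213416 F470292 F462271
theorem F513301 : act 7 n222275 = n215411 := d14_2 F438474 D222275 F485464 F485463 F466371
theorem F513302 : act 0 n222275 = n209750 := d21_4 D208246 (iv1 F462270) F462271 D222275 F454837 (iv5 F468221) (iv1 F468223) F411878 F411877 F220833
theorem F513303 : act 0 n209753 = n222275 := d21_4 (iv5 F389705) (iv1 F501451) (iv5 D219972) (iv6 F454838) (iv6 D222275) (iv5 F462271) (iv1 D211587) (iv5 D143245) D143246 F385871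
def n222276 : Q := act 3 n199028
theorem D222276 : act 3 n199028 = n222276 := rfl
theorem F513304 : act 2 n222276 = n199226 := d0_1 D222276 (iv3 F411238) F361413 D202686 F425097
theorem F513305 : act 4 n222276 = n211538 := d5_2 F504246 D222276 (iv3 F509853) F509850 F504250
theorem F513306 : act 7 n222276 = n199225 := d8_2 F502572 D222276 (iv3 F502567)
theorem F513307 : act 0 n222276 = n199206 := d20_4 F500334 D220537 F504246 D222276 F411163 (iv4 F400431) (iv1 F400433) F386526 (iv3 F386459) F500337
theorem F513308 : act 0 n199228 = n222276 := d20_4 F500358 F495575 F495571 F424982 (iv3 D222276) (iv4 F504246) (iv1 F504248) (iv4 F500837) (iv3 F500834) F500362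
theorem F513309 : act 5 n222276 = n199234 := d17_1 F513308 (iv1 F493353) F491749 D218330 (iv5 F493351) (iv0 F491551) (iv5 F451026) F400446 (iv4 F411245)
theorem F513310 : act 6 n222276 = n218318 := d21_5 F452882 F442146 (iv5 F455556) (iv6 F455562) F513308 (iv5 F493296) (iv1 F501900) (iv5 F501898) (iv6 D209974) (iv1 F452880)
def n222277 : Q := act 5 n199028
theorem D222277 : act 5 n199028 = n222277 := rfl
theorem F513311 : act 3 n222277 = n199234 := d6_1 D222277 (iv5 F513309) (iv3 D222276)
theorem F513312 : act 7 n222277 = n208920 := d13_2 F502572 D222277 (iv5 F502569)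
def n222278 : Q := act 6 n199028
theorem D222278 : act 6 n199028 = n222278 := rfl
theorem F513313 : act 2 n222278 = n199352 := d3_1 D222278 (iv6 F425105) F425097
theorem F513314 : act 3 n222278 = n218318 := d7_1 D222278 (iv6 F513310) (iv3 D222276)
theorem F513315 : act 4 n222278 = n214166 := d10_1 D222278 F504251 F504246
theorem F513316 : act 7 n222278 = n199353 := d14_2 F502572 D222278 (iv6 F430745) F430743 D220192
theorem F513317 : act 5 n222278 = n213627 := d21_6 F423849 F366218 F360203 D202316 (iv1 F423615) D222278 (iv1 F471358) (iv5 F349427) (iv6 F457020) F457022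
theorem F513318 : act 0 n199350 = n222278 := d17_0 F513317 (iv1 F471358) (iv5 F349427) (iv4 F422628) (iv5 F485885) (iv0 F485887) (iv5 F473030) (iv0 D213996) (iv4 F411812)
theorem F513319 : act 1 n199355 = n222278 := d17_6 F485887 F485885 F423348 (iv5 F473062) F473066 (iv5 F411825) F513317 F471359 (iv4 F432967)
def n222279 : Q := act 0 n199029
theorem D222279 : act 0 n199029 = n222279 := rfl
theorem F513320 : act 3 n222279 = n210360 := d20_5 (iv4 F404729) (iv1 F404727) (iv4 F343811) (iv3 F410382) D222279 F457198 (iv1 F471974) F471970 (iv3 F365570) (iv1 F221521)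
theorem F513321 : act 2 n208712 = n222279 := d15_3 (iv0 D222279) (iv0 F487547) (iv7 F487549)
theorem F513322 : act 1 n208702 = n222279 := d15_0 (iv0 D222279) (iv7 F410383) (iv2 F450492)
theorem F513323 : act 7 n222279 = n208711 := d15_2 (iv0 F487548) F513322 (iv2 F487546)
theorem F513324 : act 5 n222279 = n210359 := d18_9 F473216 F473215 D214038 F473217 F384848 (iv4 F486494) F510014 (iv4 F510015) F513322
def n222280 : Q := act 6 n199036
theorem D222280 : act 6 n199036 = n222280 := rfl
theorem F513325 : act 3 n222280 = n199037 := d7_1 D222280 (iv6 D199037) D199036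
theorem F513326 : act 5 n222280 = n222203 := d12_1 D222280 F512891 (iv5 F452529) F452531 (iv5 F410418)
theorem F513327 : act 0 n222280 = n219914 := d21_10 F504427 (iv1 D220574) F391412 (iv6 D184253) (iv1 F154102) (iv6 F362381) (iv5 F362383) F387682 (iv5 F410418) D222280
theorem F513328 : act 0 n210313 = n222280 := d21_4 F386605 F345817 F386551 (iv6 F456967) (iv6 D222280) F410418 F405700 D214232 F474121 F386608
def n222281 : Q := act 5 n199044
theorem D222281 : act 5 n199044 = n222281 := rfl
theorem F513329 : act 2 n222281 = n199045 := d2_1 D222281 (iv5 D199045) D199044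
theorem F513330 : act 3 n222281 = n210963 := d6_1 D222281 F459512 (iv3 F410456)
theorem F513331 : act 4 n222281 = n203461 := d9_1 D222281 F428412 F428272 (iv5 F464755) F464754 (iv5 D208244) (iv4 F410467) (iv5 F458323) F458326 (iv5 F464905) F464904 (iv5 F434218) (iv4 F448546) (iv5 D208242) F410457
theorem F513332 : act 7 n222281 = n222071 := d13_2 F507354 D222281 F512200
theorem F513333 : act 0 n222281 = n201495 := d17_2 F410459 D222281 F457881 F457880 (iv5 F434694) (iv0 D205030) (iv5 F353530) D195496 (iv4 F397149)
theorem F513334 : act 1 n222281 = n201428 := d17_6 (iv1 D195344) D195346 (iv1 F448547) (iv5 D208242) F410457 D222281 (iv5 F420476) (iv0 F412758) F396771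
def n222282 : Q := act 5 n199046
theorem D222282 : act 5 n199046 = n222282 := rfl
theorem F513335 : act 3 n222282 = n199050 := d6_1 D222282 (iv5 D199050) (iv3 F410464)
theorem F513336 : act 6 n222282 = n216389 := d12_2 D199046 D222282 F484135 F452651 (iv5 D199045)
theorem F513337 : act 7 n222282 = n211254 := d13_2 F484836 D222282 (iv5 F484832)
theorem F513338 : act 4 n222282 = n206694 := d16_2 (iv4 F410465) D222282 (iv5 F449203) F449202 F424113 F180869 (iv5 F405340) F448552 F448549
theorem F513339 : act 1 n222282 = n216387 := d17_6 (iv1 D195437) (iv5 D105594) D105591 (iv5 F400470) (iv4 F410465) D222282 (iv5 F500943) F500946 F456833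
theorem F513340 : act 0 n222282 = n219056 := d18_0 F496941 F453388 (iv4 F252189) (iv5 F366348) D211248 (iv0 F499342) (iv4 D219540) (iv0 F452875) D222282
def n222283 : Q := act 6 n199047
theorem D222283 : act 6 n199047 = n222283 := rfl
theorem F513341 : act 2 n222283 = n211946 := d3_1 D222283 (iv6 F507353) F507351
theorem F513342 : act 3 n222283 = n199052 := d7_1 D222283 (iv6 D199052) (iv3 F410466)
theorem F513343 : act 4 n222283 = n208245 := d10_1 D222283 (iv6 D208245) (iv4 F410467)
theorem F513344 : act 5 n222283 = n219602 := d12_1 D222283 (iv6 F501760) (iv5 D220033) (iv6 F458324) F458323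
theorem F513345 : act 7 n222283 = n211945 := d14_2 D199047 D222283 (iv6 F484833) F484836 (iv6 D199046)
theorem F513346 : act 0 n222283 = n219639 := d21_4 (iv5 F457881) F458327 F458323 D222283 (iv6 D219639) (iv5 D191899) F311803 D157478 (iv6 F474121) F474123
def n222284 : Q := act 0 n199049
theorem D222284 : act 0 n199049 = n222284 := rfl
theorem F513347 : act 5 n222284 = n208326 := d17_1 D222284 (iv1 D208326) F442468 F442465 (iv5 F345100) F180526 D139466 F222660 D199049
theorem F513348 : act 4 n222284 = n209404 := d18_1 D222284 (iv1 F453595) (iv4 F458333) F458332 (iv4 D210218) (iv0 F383809) (iv4 F445897) (iv0 F454743) F454742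
theorem F513349 : act 1 n199056 = n222284 := d15_0 (iv0 D222284) (iv7 F458330) F458329
theorem F513350 : act 7 n222284 = n201162 := d15_2 F458920 F513349 (iv2 F458917)
theorem F513351 : act 3 n201146 = n222284 := d19_19 (iv1 F513349) (iv5 F454719) (iv4 D209714) F400272 F400271 F331009 D137355 (iv3 F326815) (iv1 D115474) D115475 F423279 (iv3 F460515) F460517 F394143 (iv4 F394418) F394417 (iv1 F161584) D114002 D201146
theorem F513352 : act 6 n222284 = n201706 := d7_2 (iv6 F419261) F513351 (iv3 D201706)
def n222285 : Q := act 3 n199049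
theorem D222285 : act 3 n199049 = n222285 := rfl
theorem F513353 : act 2 n222285 = n212397 := d0_1 D222285 F465661 F441907 F454340 F454338
theorem F513354 : act 4 n222285 = n201313 := d5_2 D199049 D222285 F458120 F458119 F410463
theorem F513355 : act 5 n222285 = n200832 := d6_2 F454742 D222285 (iv3 F454741)
theorem F513356 : act 7 n222285 = n212398 := d8_2 F458330 D222285 (iv3 F465664)
theorem F513357 : act 0 n222285 = n200789 := d19_4 D51134 D110891 D199049 D222285 (iv5 D200789) (iv4 D113459) F82741 (iv1 F78268) (iv5 D49514) (iv4 D24168) (iv3 F37873) (iv1 F38464) (iv5 D24501) F19174 (iv3 D11795) (iv1 D5521) D5522 D11801 D24886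
theorem F513358 : act 0 n212396 = n222285 := d17_0 F513355 (iv1 D200832) D200833 (iv4 F418100) (iv5 F430405) F430408 D221185 F507638 F467558
def n222286 : Q := act 0 n199067
theorem D222286 : act 0 n199067 = n222286 := rfl
theorem F513359 : act 4 n222286 = n218169 := d18_1 D222286 (iv1 F512052) F512048 F511873 F465449 F418692 (iv4 F507699) F507702 F465007
theorem F513360 : act 3 n222286 = n201153 := d20_5 (iv4 D199065) (iv1 D110901) D110902 D199067 D222286 (iv4 D201153) (iv1 F419275) (iv4 F445892) F445891 (iv1 F410521)
theorem F513361 : act 1 n199470 = n222286 := d15_0 (iv0 D222286) F410524 (iv2 F412315)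
theorem F513362 : act 6 n201760 = n222286 := d21_3 (iv5 F475042) (iv1 F475045) (iv5 F421715) (iv1 F513361) (iv6 F443093) F443092 (iv1 F211837) F358293 F341587 F442601
theorem F513363 : act 2 n222286 = n199478 := d3_1 F513362 F421740 D201760
theorem F513364 : act 7 n222286 = n199477 := d14_2 (iv7 F421716) F513362 F446020 F442505 F442503
def n222287 : Q := act 1 n199067
theorem D222287 : act 1 n199067 = n222287 := rfl
theorem F513365 : act 1 n222287 = n199470 := d15_1 D222287 (iv7 F443124) F443122
theorem F513366 : act 7 n222287 = n199478 := d15_2 (iv0 D222286) D222287 (iv2 F513363)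
theorem F513367 : act 4 n222287 = n221463 := d18_7 (iv1 F406793) (iv4 F400739) F356737 (iv4 F81054) (iv5 F171820) (iv4 F410523) D222287 (iv0 F512051) (iv5 D222043)
theorem F513368 : act 3 n201764 = n222287 := d19_19 (iv1 D222287) (iv5 F465007) (iv4 D212259) (iv3 F405876) F452073 (iv5 F465279) F465278 (iv3 D210853) F223209 D202649 F424934 (iv3 F460938) (iv1 F460941) (iv5 F427027) (iv4 F427024) F259547 F259548 F235981 (iv4 F421723)
theorem F513369 : act 2 n222287 = n199477 := d0_1 F513368 F506726 F506721 (iv3 F474974) F474973
theorem F513370 : act 6 n222287 = n206882 := d7_2 F474959 F513368 (iv3 F474956)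
def n222288 : Q := act 6 n199070
theorem D222288 : act 6 n199070 = n222288 := rfl
theorem F513371 : act 2 n222288 = n204637 := d3_1 D222288 F453425 F453424
theorem F513372 : act 3 n222288 = n208153 := d7_1 D222288 (iv6 F468868) F468867
theorem F513373 : act 7 n222288 = n204636 := d14_2 (iv7 F410538) D222288 F433092 F359620 D138185
theorem F513374 : act 0 n222288 = n204632 := d21_4 F484571 F449421 F426962 D222288 (iv6 D204632) (iv5 D124144) (iv1 F305126) (iv5 F318991) D209629 F484573
theorem F513375 : act 0 n204639 = n222288 := d21_4 (iv5 F449929) (iv1 D208568) (iv5 F358535) (iv6 F433098) (iv6 D222288) (iv5 F426962) (iv1 F449503) (iv5 F484615) F484616 (iv1 F454379)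
def n222289 : Q := act 3 n199073
theorem D222289 : act 3 n199073 = n222289 := rfl
theorem F513376 : act 5 n222289 = n199489 := d6_2 (iv5 F410542) D222289 (iv3 D199489)
theorem F513377 : act 6 n222289 = n208807 := d7_2 (iv6 F482650) D222289 F482648
theorem F513378 : act 7 n222289 = n199474 := d8_2 (iv7 F411948) D222289 (iv3 D199474)
theorem F513379 : act 4 n222289 = n208936 := d20_6 (iv4 F360065) (iv1 D179867) F337486 (iv3 F172791) (iv1 F410541) D222289 F468962 (iv4 D199597) F403536 (iv1 F360064)
theorem F513380 : act 0 n199724 = n222289 := d18_0 F513379 F468962 (iv4 D199597) F403537 F323986 F336505 (iv4 F412257) (iv0 F412258) D199724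
def n222290 : Q := act 4 n199073
theorem D222290 : act 4 n199073 = n222290 := rfl
theorem F513381 : act 2 n222290 = n199472 := d1_1 D222290 (iv4 D199472) (iv2 F411944)
theorem F513382 : act 3 n222290 = n207988 := d5_1 D222290 (iv4 F499553) F499552 (iv4 F513379) (iv3 D222289)
theorem F513383 : act 5 n222290 = n205976 := d9_2 (iv5 F410542) D222290 (iv4 F451878) (iv5 F474206) F474205 F463393 (iv4 D199487) (iv5 F410540) (iv4 F465651) (iv5 D212394) F230262 (iv5 F419084) (iv4 F463396) F463397 (iv4 D199490)
theorem F513384 : act 6 n222290 = n207986 := d10_2 (iv6 F482650) D222290 F482649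
theorem F513385 : act 7 n222290 = n199475 := d11_2 (iv7 F411948) D222290 (iv4 D199475)
def n222291 : Q := act 6 n199076
theorem D222291 : act 6 n199076 = n222291 := rfl
theorem F513386 : act 2 n222291 = n219989 := d3_1 D222291 (iv6 F501539) F462524
theorem F513387 : act 3 n222291 = n199079 := d7_1 D222291 (iv6 D199079) D199076
theorem F513388 : act 7 n222291 = n204641 := d14_2 F491327 D222291 F433111 F379876 D217933
theorem F513389 : act 0 n222291 = n204951 := d21_4 (iv5 F391993) (iv1 F427143) (iv5 F427144) D222291 (iv6 D204951) (iv5 D124819) F128808 D98887 (iv6 F252624) F387106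
theorem F513390 : act 1 n222291 = n218356 := d15_1 (iv0 F513389) F493480 (iv2 F434315)
def n222292 : Q := act 3 n199077
theorem D222292 : act 3 n199077 = n222292 := rfl
theorem F513391 : act 2 n222292 = n212142 := d0_1 D222292 F464467 (iv2 F402279) (iv3 F432651) (iv2 F432649)
theorem F513392 : act 4 n222292 = n222279 := d5_2 D199077 D222292 F513320 F457198 (iv3 D199076)
theorem F513393 : act 5 n222292 = n212139 := d6_2 (iv5 F509241) D222292 (iv3 F509238)
theorem F513394 : act 0 n199598 = n222292 := d20_4 F482566 F431503 (iv4 F432826) F432825 (iv3 D222292) (iv4 D199077) (iv1 F410236) F410232 F364130 D216018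
def n222293 : Q := act 3 n199082
theorem D222293 : act 3 n199082 = n222293 := rfl
theorem F513395 : act 2 n222293 = n208839 := d0_1 D222293 (iv3 F457334) F413524 (iv3 D199792) F410583
theorem F513396 : act 5 n222293 = n209183 := d6_2 F410586 D222293 F452615
theorem F513397 : act 7 n222293 = n199794 := d8_2 (iv7 F410582) D222293 (iv3 D199794)
theorem F513398 : act 0 n222293 = n208623 := d19_4 D222060 F512145 F448456 D222293 (iv5 F462387) (iv4 F468308) F468307 (iv1 F487889) (iv5 D217196) (iv4 F387990) F387989 (iv1 F347839) D190854 F381337 (iv3 D189441) (iv1 D93970) (iv5 F138914) (iv4 F370685) (iv3 F407140)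
theorem F513399 : act 0 n202555 = n222293 := d20_4 D136480 F389665 D220321 F503181 (iv3 D222293) (iv4 F448456) (iv1 F448457) F412688 F356116 (iv1 D136479)
theorem F513400 : act 6 n218143 = n222293 := d14_5 F513397 (iv6 F460537) F460534 (iv6 F413432) (iv7 F492355)
def n222294 : Q := act 6 n199082
theorem D222294 : act 6 n199082 = n222294 := rfl
theorem F513401 : act 2 n222294 = n199793 := d3_1 D222294 (iv6 D199793) F410583
theorem F513402 : act 3 n222294 = n218143 := d7_1 D222294 F513400 (iv3 D222293)
theorem F513403 : act 4 n222294 = n213276 := d10_1 D222294 F469672 F448456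
theorem F513404 : act 5 n222294 = n210636 := d12_1 D222294 (iv6 F458284) (iv5 F452626) (iv6 D209186) F410586
theorem F513405 : act 7 n222294 = n199773 := d14_2 (iv7 F410582) D222294 (iv6 D199773) (iv7 F409085) F341519
theorem F513406 : act 0 n222294 = n210529 := d21_4 (iv5 F324295) (iv1 F410585) F410586 D222294 (iv6 D210529) (iv5 F345079) (iv1 F345084) D187106 F369107 (iv1 D159160)
theorem F513407 : act 0 n208054 = n222294 := d21_4 (iv5 F329458) (iv1 F206966) D133288 D208054 (iv6 D222294) (iv5 F410586) F410584 D135922 F350345 (iv1 D141143)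
def n222295 : Q := act 3 n199090
theorem D222295 : act 3 n199090 = n222295 := rfl
theorem F513408 : act 2 n222295 = n214271 := d0_1 D222295 (iv3 D214271) (iv2 F301038) (iv3 F400747) F410616
theorem F513409 : act 5 n222295 = n199100 := d6_2 (iv5 F410615) D222295 (iv3 D199100)
theorem F513410 : act 6 n222295 = n211534 := d7_2 F410617 D222295 F462018
theorem F513411 : act 7 n222295 = n221466 := d8_2 (iv7 F410614) D222295 F509145
theorem F513412 : act 0 n222295 = n199566 := d19_4 F440705 (iv5 F477413) F477412 D222295 (iv5 F502942) F502941 (iv3 F432886) F432889 F390550 (iv4 F412688) (iv3 F451045) (iv1 F451048) F411975 F373058 F140248 D91211 (iv5 F345384) F217104 D206421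
theorem F513413 : act 4 n222295 = n222201 := d20_6 (iv4 D129028) (iv1 D60666) D60667 D129033 (iv1 F410613) D222295 F512880 F477652 F441615 (iv1 F441613)
theorem F513414 : act 0 n215375 = n222295 := d20_4 (iv4 D83536) D83534 (iv4 F342039) D215375 (iv3 D222295) (iv4 F477412) F483057 F483053 F474381 F330858
def n222296 : Q := act 5 n199092
theorem D222296 : act 5 n199092 = n222296 := rfl
theorem F513415 : act 2 n222296 = n214176 := d2_1 D222296 (iv5 D214176) (iv2 F410625)
theorem F513416 : act 3 n222296 = n214284 := d6_1 D222296 (iv5 D214284) F410621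
theorem F513417 : act 7 n222296 = n214177 := d13_2 F410623 D222296 (iv5 D214177)
theorem F513418 : act 4 n222296 = n221313 := d17_4 F410635 (iv5 D199094) D199092 D222296 (iv5 F508562) (iv0 F508565) (iv5 D214246) (iv0 D157738) (iv4 F205642)
theorem F513419 : act 1 n222296 = n216369 := d17_6 (iv1 D214591) (iv5 F429448) F477592 (iv5 D214948) (iv4 F410620) D222296 F484040 F479039 F475949
theorem F513420 : act 0 n222296 = n211122 := d18_0 F460195 (iv1 D183159) (iv4 F284679) F363803 F404429 F404426 F400827 (iv0 F410624) D222296
theorem F513421 : act 6 n222296 = n221312 := d21_3 (iv5 D199094) D199092 D222296 F508315 F399627 F164448 (iv1 D71281) F94508 D127820 F410635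
def n222297 : Q := act 6 n199098
theorem D222297 : act 6 n199098 = n222297 := rfl
theorem F513422 : act 2 n222297 = n214185 := d3_1 D222297 (iv6 D214185) (iv2 F410648)
theorem F513423 : act 3 n222297 = n221973 := d7_1 D222297 F511704 F505328
theorem F513424 : act 4 n222297 = n200924 := d10_1 D222297 (iv6 F419620) F419619
theorem F513425 : act 5 n222297 = n221519 := d12_1 D222297 (iv6 D221519) (iv5 D196557) (iv6 F171957) (iv5 F410649)
theorem F513426 : act 7 n222297 = n221980 := d14_2 D199098 D222297 F511745 F420096 F410633
theorem F513427 : act 0 n222297 = n201101 := d21_4 F165375 (iv1 F171959) (iv5 F410649) D222297 F419090 (iv5 F443564) F443566 (iv5 F411082) (iv6 D199187) (iv1 F172246)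
theorem F513428 : act 0 n201099 = n222297 := d21_4 F420076 F412368 (iv5 F463397) (iv6 F463399) (iv6 D222297) F410649 (iv1 F171958) (iv5 F165374) (iv6 F339966) (iv1 F420077)
def n222298 : Q := act 0 n199105
theorem D222298 : act 0 n199105 = n222298 := rfl
theorem F513429 : act 5 n222298 = n199505 := d17_3 (iv1 F348799) D199105 D222298 F412441 (iv5 F405456) F400509 F400504 F330488 D108669
theorem F513430 : act 4 n222298 = n199478 := d18_1 D222298 (iv1 D199478) (iv4 D111349) (iv5 D51353) F39168 D50177 D108674 (iv0 F361202) D199105
theorem F513431 : act 3 n222298 = n199507 := d20_5 F405545 (iv1 F405543) D197906 (iv3 F410689) D222298 F412454 (iv1 F421704) (iv4 F513059) F513056 F412157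
theorem F513432 : act 6 n222298 = n201754 := d21_5 (iv5 D199109) (iv1 D110940) D110941 (iv6 F410690) D222298 F421690 (iv1 F392878) (iv5 F492472) (iv6 F492475) (iv1 F410713)
theorem F513433 : act 1 n199548 = n222298 := d15_0 (iv0 D222298) (iv7 F512050) F512046
theorem F513434 : act 2 n218169 = n222298 := d3_3 F513432 F421685 D218169
theorem F513435 : act 7 n221463 = n222298 := d15_2 (iv0 F492495) D221463 (iv2 F513434)
def n222299 : Q := act 1 n199105
theorem D222299 : act 1 n199105 = n222299 := rfl
theorem F513436 : act 1 n222299 = n199548 := d15_1 D222299 F412629 (iv2 F410688)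
theorem F513437 : act 7 n222299 = n218169 := d15_2 (iv0 D222298) D222299 F513434
theorem F513438 : act 5 n222299 = n199539 := d17_7 F412368 (iv5 F463397) (iv1 D211884) F227013 (iv4 F171975) D199105 D222299 (iv0 D199539) F406127
theorem F513439 : act 3 n218170 = n222299 := d19_19 (iv1 D222299) (iv5 D199105) F171975 (iv3 F348800) (iv1 D108639) D108641 D197755 F405643 (iv1 F412057) (iv5 D199411) F172719 F93373 (iv1 F93355) D126197 (iv4 F418836) F418835 (iv1 F394422) F394419 (iv4 F492498)
theorem F513440 : act 2 n222299 = n221463 := d0_1 F513439 (iv3 F509132) (iv2 F448453) F412459 (iv2 F492497)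
theorem F513441 : act 4 n222299 = n199477 := d5_2 (iv4 F492498) F513439 F506726 (iv4 D220998) F396157
theorem F513442 : act 6 n222299 = n209349 := d7_2 (iv6 F492500) F513439 F453349
def n222300 : Q := act 4 n199105
theorem D222300 : act 4 n199105 = n222300 := rfl
theorem F513443 : act 2 n222300 = n221464 := d1_1 D222300 (iv4 D221464) (iv2 F410688)
theorem F513444 : act 3 n222300 = n207069 := d5_1 D222300 F443186 F405470 D197906 (iv3 F410689)
theorem F513445 : act 6 n222300 = n199110 := d10_2 (iv6 F410690) D222300 (iv4 D199110)
theorem F513446 : act 7 n222300 = n222008 := d11_2 F512050 D222300 (iv4 F512048)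
theorem F513447 : act 5 n222300 = n207067 := d16_1 D222300 F443178 (iv5 F444535) (iv4 F509179) F509180 F400766 (iv5 F412628) F412629 (iv2 F410688)
theorem F513448 : act 0 n222300 = n212394 := d18_2 (iv1 D222299) D222300 F465651 F410540 D199487 F412349 F405523 F412583 (iv5 F513438)
theorem F513449 : act 1 n222300 = n222290 := d18_6 (iv1 F361206) F361207 (iv1 D144328) (iv4 F171975) D199105 D222300 (iv4 D222290) F410541 (iv5 D111346)
def n222301 : Q := act 2 n199108
theorem D222301 : act 2 n199108 = n222301 := rfl
theorem F513450 : act 3 n222301 = n215896 := d0_2 D199108 D222301 F481972 F375141 F171984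
theorem F513451 : act 4 n222301 = n206197 := d1_2 (iv4 F410704) D222301 (iv2 F439671)
theorem F513452 : act 5 n222301 = n217713 := d2_2 F410707 D222301 F490263
theorem F513453 : act 6 n222301 = n215326 := d3_2 (iv6 F410705) D222301 F479415
theorem F513454 : act 7 n222301 = n221288 := d4_2 (iv7 F410706) D222301 (iv2 F508178)
theorem F513455 : act 1 n222301 = n221289 := d15_0 (iv0 F508185) (iv7 F410706) D222301
theorem F513456 : act 1 n221284 = n222301 := d15_0 F513455 (iv7 D221289) (iv2 F508154)
def n222302 : Q := act 3 n199110
theorem D222302 : act 3 n199110 = n222302 := rfl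
theorem F513457 : act 2 n222302 = n207929 := d0_1 D222302 (iv3 F494989) F509143 (iv3 D221465) (iv2 F410714)
theorem F513458 : act 4 n222302 = n221931 := d5_2 D199110 D222302 F511458 F410687 F410684
theorem F513459 : act 5 n222302 = n207068 := d6_2 (iv5 F410715) D222302 F443182
theorem F513460 : act 6 n222302 = n207069 := d7_2 F513445 D222302 (iv3 F513444)
theorem F513461 : act 7 n222302 = n207931 := d8_2 F509364 D222302 (iv3 F509362)
theorem F513462 : act 0 n214457 = n222302 := d20_4 F421162 (iv1 F251104) D159474 D214457 (iv3 D222302) (iv4 D199110) F171986 D145356 F353315 D201620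
def n222303 : Q := act 5 n199114
theorem D222303 : act 5 n199114 = n222303 := rfl
theorem F513463 : act 2 n222303 = n221896 := d2_1 D222303 (iv5 D221896) (iv2 F410732)
theorem F513464 : act 3 n222303 = n199121 := d6_1 D222303 (iv5 D199121) (iv3 F410733)
theorem F513465 : act 4 n222303 = n201616 := d9_1 D222303 (iv5 F467469) F467468 F466189 (iv4 F277900) (iv5 F404889) (iv4 F490377) (iv5 F493080) F493079 (iv5 F468127) F468126 F466033 F358931 (iv5 F404876) (iv4 F410734)
theorem F513466 : act 6 n222303 = n222233 := d12_2 D199114 D222303 (iv5 D222233) (iv6 F409263) (iv5 F333021)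
theorem F513467 : act 0 n222303 = n221552 := d17_2 F492605 D222303 (iv5 D221552) (iv4 F459805) F459806 (iv0 F262024) D178153 (iv0 F466444) (iv4 F492604)
def n222304 : Q := act 5 n199118
theorem D222304 : act 5 n199118 = n222304 := rfl
theorem F513468 : act 3 n222304 = n222233 := d6_1 D222304 (iv5 D222233) (iv3 F410750)
theorem F513469 : act 4 n222304 = n218349 := d9_1 D222304 F493445 F461302 F354424 (iv4 F403154) (iv5 F403527) (iv4 F403523) D199724 (iv4 F413262) (iv5 F468948) (iv4 D213087) (iv5 F353821) D212296 F465199 (iv4 F410751)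
theorem F513470 : act 6 n222304 = n199121 := d12_2 D199118 D222304 (iv5 D199121) (iv6 D110949) D110948
theorem F513471 : act 1 n222304 = n222289 := d17_6 (iv1 F354829) F354604 F465201 F465199 (iv4 F410751) D222304 F513376 F468936 F468935
def n222305 : Q := act 1 n199128
theorem D222305 : act 1 n199128 = n222305 := rfl
theorem F513472 : act 1 n222305 = n222055 := d15_1 D222305 (iv7 F512123) F509864
theorem F513473 : act 7 n222305 = n199641 := d15_2 (iv0 F412403) D222305 F412949
theorem F513474 : act 5 n222305 = n199642 := d17_7 (iv1 F224260) (iv5 F460683) (iv1 F460684) F431167 D204646 F433115 D222305 F412960 F412958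
theorem F513475 : act 6 n221145 = n222305 := d21_3 F507440 F469667 (iv5 F507434) (iv1 D222305) (iv6 D199128) (iv5 F180732) F401054 F401052 D196835 (iv1 F507442)
theorem F513476 : act 2 n222305 = n221503 := d3_1 F513475 F509335 (iv2 F507437)
theorem F513477 : act 4 n222305 = n221553 := d10_1 F513475 (iv6 D221553) F507436
def n222306 : Q := act 7 n199128
theorem D222306 : act 7 n199128 = n222306 := rfl
theorem F513478 : act 2 n222306 = n222055 := d4_1 D222306 (iv7 F512123) F509864
theorem F513479 : act 3 n222306 = n199134 := d8_1 D222306 (iv7 D199134) (iv3 F410788)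
theorem F513480 : act 4 n222306 = n221537 := d11_1 D222306 (iv7 D221537) (iv4 F410789)
theorem F513481 : act 5 n222306 = n204538 := d13_1 D222306 F443978 F433115
theorem F513482 : act 6 n222306 = n221657 := d14_1 D222306 (iv7 D221657) (iv6 D196947) (iv7 F180728) D199128
theorem F513483 : act 1 n221503 = n222306 := d15_1 (iv0 F509868) (iv7 D222306) (iv2 F509864)
theorem F513484 : act 1 n222306 = n199641 := d15_1 F513483 (iv7 F513473) F513476
def n222307 : Q := act 6 n199136
theorem D222307 : act 6 n199136 = n222307 := rfl
theorem F513485 : act 2 n222307 = n199138 := d3_1 D222307 (iv6 D199138) D199136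
theorem F513486 : act 3 n222307 = n221535 := d7_1 D222307 (iv6 D221535) (iv3 F410832)
theorem F513487 : act 4 n222307 = n220529 := d10_1 D222307 F504209 F456503
theorem F513488 : act 5 n222307 = n214653 := d12_1 D222307 F488608 (iv5 F510088) (iv6 D221648) (iv5 F410833)
theorem F513489 : act 0 n222307 = n221511 := d21_4 F336148 (iv1 F402285) (iv5 F410833) D222307 F509379 F502963 F513414 F513409 F410658 (iv1 F336149)
theorem F513490 : act 0 n220534 = n222307 := d21_4 D219750 (iv1 F504233) (iv5 D220533) D220534 (iv6 D222307) F410833 (iv1 F402286) (iv5 F336129) (iv6 F388923) F388925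
def n222308 : Q := act 0 n199138
theorem D222308 : act 0 n199138 = n222308 := rfl
theorem F513491 : act 5 n222308 = n221991 := d19_1 D222308 (iv4 F512502) (iv3 F512505) F502183 (iv5 D211742) (iv4 F327146) F327145 (iv1 F218703) (iv5 F219613) D209465 F453797 F394087 D211317 (iv4 F480231) (iv3 F505758) F505762 F497743 (iv4 F390650) (iv3 F410842)
theorem F513492 : act 4 n222308 = n209209 := d20_2 F503798 D222308 (iv3 F502993) (iv1 F502996) (iv3 F389397) (iv4 F354162) (iv1 D176126) (iv4 F275380) (iv3 F480776) F503802
theorem F513493 : act 6 n222308 = n209371 := d21_5 D107327 F220059 (iv5 F180717) D199138 D222308 (iv5 F453433) F474341 F474337 F453647 (iv1 D107325)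
theorem F513494 : act 2 n221511 = n222308 := d15_3 (iv0 D222308) (iv0 F502727) (iv7 F509380)
theorem F513495 : act 3 n222308 = n221992 := d0_2 D221511 F513494 F511793 (iv3 F473846) F473845
theorem F513496 : act 7 n222308 = n220534 := d4_2 (iv7 F509380) F513494 F504234
def n222309 : Q := act 5 n199138
theorem D222309 : act 5 n199138 = n222309 := rfl
theorem F513497 : act 2 n222309 = n214653 := d2_1 D222309 (iv5 F513488) F513485
theorem F513498 : act 3 n222309 = n199140 := d6_1 D222309 (iv5 D199140) (iv3 F410842)
theorem F513499 : act 6 n222309 = n218794 := d12_2 D199138 D222309 F495683 (iv6 D196919) (iv5 F180717)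
theorem F513500 : act 1 n222309 = n214646 := d17_8 F505857 F495675 F503666 (iv5 F512504) F512502 (iv5 F513491) (iv0 D222308) D222309 F505858
theorem F513501 : act 4 n222309 = n211813 := d18_5 F476909 (iv4 F480777) F503802 F503798 D222309 (iv0 D211813) D211815 F510072 F510070
theorem F513502 : act 7 n214654 = n222309 := d11_0 F513501 (iv7 F463174) F476233
theorem F513503 : act 1 n214655 = n222309 := d18_6 D144126 D211811 F463168 (iv4 F455326) D222194 F512837 F513501 (iv0 D211813) (iv5 D144128)
def n222310 : Q := act 7 n199138
theorem D222310 : act 7 n199138 = n222310 := rfl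
theorem F513504 : act 3 n222310 = n199141 := d8_1 D222310 (iv7 D199141) (iv3 F410842)
theorem F513505 : act 4 n222310 = n217293 := d11_1 D222310 (iv7 F503800) F503798
theorem F513506 : act 5 n222310 = n214654 := d13_1 D222310 F513502 (iv5 D222309)
theorem F513507 : act 6 n222310 = n221664 := d14_1 D222310 (iv7 D221664) (iv6 D196957) F180724 D199138
theorem F513508 : act 1 n220534 = n222310 := d15_1 (iv0 F513490) (iv7 D222310) (iv2 F513485)
theorem F513509 : act 1 n222310 = n221511 := d15_1 F513508 F509380 (iv2 F504234)
theorem F513510 : act 0 n212129 = n221664 := d21_4 (iv5 D211106) F364761 (iv5 F389169) F464432 (iv6 F513507) F513506 (iv1 D214654) (iv5 F476088) (iv6 D214620) (iv1 F460127)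
def n222311 : Q := act 5 n199164
theorem D222311 : act 5 n199164 = n222311 := rfl
theorem F513511 : act 2 n222311 = n220309 := d2_1 D222311 (iv5 F505754) F505751
theorem F513512 : act 4 n222311 = n219172 := d9_1 D222311 F497557 (iv4 F480445) F480036 F379046 (iv5 F159295) (iv4 F393854) D220827 (iv4 F505761) (iv5 D220829) F480038 (iv5 F497486) F497485 (iv5 F497510) F497509
theorem F513513 : act 6 n222311 = n213372 := d12_2 D199164 D222311 (iv5 D213372) (iv6 F243411) (iv5 F363393)
theorem F513514 : act 7 n222311 = n220804 := d13_2 (iv7 F410963) D222311 (iv5 D220804)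
theorem F513515 : act 0 n222311 = n221517 := d17_2 (iv1 F491863) D222311 (iv5 D221517) F401070 F369858 F379081 (iv5 F393703) F393705 D218044
theorem F513516 : act 1 n222311 = n219147 := d17_6 F495911 (iv5 D218850) (iv1 F381438) (iv5 F497510) F497509 D222311 F497425 (iv0 D196951) (iv4 F402432)
def n222312 : Q := act 4 n199170
theorem D222312 : act 4 n199170 = n222312 := rfl
theorem F513517 : act 2 n222312 = n221606 := d1_1 D222312 F509833 (iv2 F410992)
theorem F513518 : act 3 n222312 = n212501 := d5_1 D222312 F466119 (iv3 F411000) (iv4 D199171) D199170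
theorem F513519 : act 5 n222312 = n212500 := d9_2 (iv5 F410990) D222312 F466111 F357300 F165391 D107343 D196803 F460084 (iv4 F460083) (iv5 F502892) (iv4 F508203) F508201 F502888 F401509 (iv4 F404414)
theorem F513520 : act 7 n222312 = n221600 := d11_2 (iv7 F410991) D222312 (iv4 D221600)
theorem F513521 : act 0 n222312 = n214190 := d18_2 F410993 D222312 F473920 (iv5 F508910) F508909 (iv0 F410942) F180904 (iv0 F386491) F386488
def n222313 : Q := act 6 n199170
theorem D222313 : act 6 n199170 = n222313 := rfl
theorem F513522 : act 2 n222313 = n202434 := d3_1 D222313 (iv6 F481896) (iv2 F410992)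
theorem F513523 : act 3 n222313 = n199172 := d7_1 D222313 (iv6 D199172) D199170
theorem F513524 : act 5 n222313 = n215906 := d12_1 D222313 F482022 F400729 D197455 (iv5 F410990)
theorem F513525 : act 7 n222313 = n202433 := d14_2 (iv7 F410991) D222313 F502145 F502141 F501274
theorem F513526 : act 0 n222313 = n202432 := d21_4 D202624 F424810 (iv5 F410990) D222313 (iv6 D202432) D202431 F423969 (iv5 F228366) D196335 F400372
theorem F513527 : act 0 n202435 = n222313 := d21_4 F501385 (iv1 D204293) (iv5 F363365) (iv6 F423982) (iv6 D222313) F410990 (iv1 F509843) F509845 (iv6 F511885) F511887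
def n222314 : Q := act 1 n199172
theorem D222314 : act 1 n199172 = n222314 := rfl
theorem F513528 : act 1 n222314 = n211726 := d15_1 D222314 F462875 (iv2 F411002)
theorem F513529 : act 7 n222314 = n202488 := d15_2 F511680 D222314 (iv2 F511675)
theorem F513530 : act 5 n222314 = n221484 := d17_7 F411366 (iv5 F424781) F424782 F402613 (iv4 F400734) (iv5 F411004) D222314 (iv0 F509235) F495201
theorem F513531 : act 3 n202493 = n222314 := d19_19 (iv1 D222314) F411004 F400734 F400574 (iv1 F479685) F479683 (iv4 D178502) (iv3 F343430) F343428 F343427 (iv4 F263216) F263215 (iv1 F320836) F319657 F104531 (iv3 F104529) (iv1 F335055) (iv5 F335054) (iv4 F424245)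
theorem F513532 : act 4 n220386 = n222314 := d20_0 (iv1 D222314) F411003 D211728 F462881 F440652 (iv4 F440653) (iv1 F463169) (iv4 D211811) F414066 D220386
theorem F513533 : act 6 n210384 = n222314 := d21_3 F228435 D211901 (iv5 F463495) (iv1 D222314) (iv6 D199172) F172193 F207051 (iv5 F401497) F464556 (iv1 D212161)
theorem F513534 : act 2 n222314 = n221599 := d1_1 F513532 F512433 F512431
def n222315 : Q := act 7 n199172
theorem D222315 : act 7 n199172 = n222315 := rfl
theorem F513535 : act 2 n222315 = n211726 := d4_1 D222315 F462875 (iv2 F411002)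
theorem F513536 : act 3 n222315 = n202433 := d8_1 D222315 (iv7 F513525) F513523
theorem F513537 : act 4 n222315 = n211718 := d11_1 D222315 (iv7 F462835) (iv4 F411003)
theorem F513538 : act 5 n222315 = n221460 := d13_1 D222315 (iv7 D221460) (iv5 F411004)
theorem F513539 : act 6 n222315 = n220246 := d14_1 D222315 F502844 (iv6 F401273) F172195 D199172
theorem F513540 : act 1 n221599 = n222315 := d15_1 D221599 (iv7 D222315) F411002
theorem F513541 : act 1 n222315 = n202488 := d15_1 F513540 (iv7 F513529) F513534
def n222316 : Q := act 0 n199180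
theorem D222316 : act 0 n199180 = n222316 := rfl
theorem F513542 : act 5 n222316 = n214179 := d17_1 D222316 (iv1 F498725) F498721 F490888 (iv5 F374739) F374742 D204355 (iv0 F501892) F501890
theorem F513543 : act 4 n222316 = n217800 := d18_1 D222316 (iv1 F490696) (iv4 F482551) (iv5 F482553) F480782 (iv0 F428887) (iv4 F415393) F401964 D199180
theorem F513544 : act 3 n222316 = n222087 := d20_5 D196409 F400621 F339969 (iv3 F411049) D222316 F512285 (iv1 D208828) (iv4 F451024) F451023 F398721
theorem F513545 : act 6 n222316 = n218807 := d21_5 (iv5 D115732) D115729 (iv5 F371889) (iv6 F411051) D222316 (iv5 D218807) (iv1 F491143) (iv5 D217896) F372352 (iv1 F180534)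
theorem F513546 : act 2 n221418 = n222316 := d15_3 (iv0 D222316) (iv0 F482805) (iv7 F508928)
theorem F513547 : act 1 n221302 = n222316 := d15_0 (iv0 D222316) F411050 (iv2 F508253)
theorem F513548 : act 7 n222316 = n217824 := d15_2 (iv0 F508256) F513547 F490802
def n222317 : Q := act 1 n199182
theorem D222317 : act 1 n199182 = n222317 := rfl
theorem F513549 : act 1 n222317 = n220045 := d15_1 D222317 F501829 (iv2 F411059)
theorem F513550 : act 7 n222317 = n214286 := d15_2 (iv0 F482879) D222317 (iv2 F482875)
theorem F513551 : act 5 n222317 = n214181 := d17_7 (iv1 F473444) (iv5 F480128) F480132 (iv5 D211338) F224887 D199182 D222317 F473884 (iv4 F473441)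
theorem F513552 : act 4 n222317 = n220431 := d17_9 (iv1 D220431) F390606 (iv1 F378933) F378930 D192774 F388931 (iv0 F388933) D199182 D222317
theorem F513553 : act 3 n221900 = n222317 := d20_3 (iv4 F511220) F511222 (iv4 F511294) (iv1 D222317) F411060 D199183 F411064 (iv4 D196409) (iv3 F400599) (iv1 F432958)
theorem F513554 : act 2 n222317 = n221596 := d0_1 F513553 F509778 (iv2 F504228) F504229 (iv2 F511293)
theorem F513555 : act 6 n222317 = n220024 := d7_2 D221900 F513553 (iv3 F501714)
def n222318 : Q := act 6 n199182
theorem D222318 : act 6 n199182 = n222318 := rfl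
theorem F513556 : act 2 n222318 = n209480 := d3_1 D222318 (iv6 F453867) (iv2 F411059)
theorem F513557 : act 3 n222318 = n199184 := d7_1 D222318 (iv6 D199184) (iv3 F411060)
theorem F513558 : act 4 n222318 = n209524 := d10_1 D222318 (iv6 F471957) F471959
theorem F513559 : act 5 n222318 = n218167 := d12_1 D222318 F492485 F410694 F410692 D199182
theorem F513560 : act 7 n222318 = n209481 := d14_2 (iv7 F411061) D222318 F453872 (iv7 F388742) (iv6 F401673)
theorem F513561 : act 0 n222318 = n209149 := d21_4 F388939 (iv1 F388934) D199182 D222318 F452464 F406526 (iv1 F406743) (iv5 F499783) F499784 (iv1 F387724)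
theorem F513562 : act 0 n209478 = n222318 := d21_4 (iv5 F419788) D206371 F440468 (iv6 F453855) (iv6 D222318) (iv5 D199182) F388933 (iv5 F388931) (iv6 F464367) F464368
def n222319 : Q := act 5 n199194
theorem D222319 : act 5 n199194 = n222319 := rfl
theorem F513563 : act 2 n222319 = n211042 := d2_1 D222319 F459861 (iv2 F411114)
theorem F513564 : act 3 n222319 = n199211 := d6_1 D222319 (iv5 D199211) (iv3 F411115)
theorem F513565 : act 4 n222319 = n211074 := d9_1 D222319 F459999 F459217 (iv5 D162025) F117649 D77845 D162045 (iv5 F360587) D211059 (iv5 F498730) F498729 F384749 F309563 (iv5 F331847) (iv4 F411116)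
theorem F513566 : act 6 n222319 = n199197 := d12_2 D199194 D222319 (iv5 D199197) (iv6 D111062) D111061
theorem F513567 : act 7 n222319 = n211058 := d13_2 (iv7 F411117) D222319 F459931
theorem F513568 : act 0 n222319 = n211057 := d17_2 (iv1 F411119) D222319 F459940 F273900 (iv5 D172850) D172849 F273356 F273355 D174487
theorem F513569 : act 1 n222319 = n211029 := d17_6 D83578 F307525 F309561 (iv5 F331847) (iv4 F411116) D222319 (iv5 F459798) (iv0 D175001) (iv4 D83580)
def n222320 : Q := act 0 n199197
theorem D222320 : act 0 n199197 = n222320 := rfl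
theorem F513570 : act 4 n222320 = n202624 := d18_1 D222320 F424810 F404414 (iv5 F401509) (iv4 F502888) (iv0 F502891) (iv4 F419952) (iv0 D199195) D199197
theorem F513571 : act 3 n222320 = n211073 := d20_5 F458582 F456468 (iv4 D199214) (iv3 F411127) D222320 (iv4 F509428) F509429 (iv4 F509257) (iv3 F509262) F458585
theorem F513572 : act 5 n222320 = n221432 := d21_2 D199197 D222320 (iv6 D221432) (iv1 F458560) (iv6 F459619) F496217 (iv1 D218925) (iv5 F480458) F480459 (iv1 D199196)
theorem F513573 : act 6 n222320 = n211033 := d21_5 (iv5 D215417) (iv1 F411119) D222319 F513566 D222320 (iv5 F459817) (iv1 F466429) (iv5 F466446) F466442 (iv1 F479891)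
theorem F513574 : act 0 n222320 = n204942 := d21_4 F481962 F475956 F459817 (iv6 F513573) (iv6 D204942) D204941 F434271 F385173 (iv6 F358688) D215894
def n222321 : Q := act 1 n199197
theorem D222321 : act 1 n199197 = n222321 := rfl
theorem F513575 : act 1 n222321 = n204942 := d15_1 D222321 F508906 F508902
theorem F513576 : act 5 n222321 = n212211 := d17_7 (iv1 F401718) (iv5 D107343) D107341 F400373 F400371 D199197 D222321 (iv0 F509799) (iv4 D221600)
theorem F513577 : act 4 n222321 = n221608 := d17_9 (iv1 D221608) F460084 (iv1 D211097) (iv5 F386488) (iv4 F401792) F411122 (iv0 D199195) D199197 D222321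
theorem F513578 : act 3 n212213 = n222321 := d19_19 (iv1 D222321) (iv5 D199197) (iv4 F400371) F400370 (iv1 D192408) D192409 (iv4 F409638) F434722 (iv1 D205036) (iv5 F353475) F170161 (iv3 D109930) D109928 F382033 F382032 (iv3 F368305) (iv1 D153283) D153284 (iv4 F464773)
theorem F513579 : act 6 n213287 = n222321 := d21_3 (iv5 F404774) (iv1 F459211) (iv5 F469734) (iv1 D222321) (iv6 F513566) (iv5 D222319) (iv1 F411118) D215415 (iv6 F479882) F425112
def n222322 : Q := act 4 n199197
theorem D222322 : act 4 n199197 = n222322 := rfl
theorem F513580 : act 2 n222322 = n212211 := d1_1 D222322 (iv4 F508905) F508902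
theorem F513581 : act 3 n222322 = n211076 := d5_1 D222322 (iv4 F508243) F508242 (iv4 D199214) (iv3 F411127)
theorem F513582 : act 6 n222322 = n211074 := d10_2 F513566 D222322 (iv4 F513565)
theorem F513583 : act 0 n222322 = n222312 := d17_0 F513519 F466114 (iv5 F411126) (iv4 F411124) (iv5 F509798) (iv0 F509800) (iv5 F513572) (iv0 D222320) D222322
theorem F513584 : act 1 n222322 = n209971 := d18_6 (iv1 F401514) (iv4 F508813) (iv1 F508816) F400371 D199197 D222322 F460083 F460080 F401853
theorem F513585 : act 7 n222322 = n221432 := d15_2 (iv0 F513521) (iv0 F513583) F509003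
def n222323 : Q := act 7 n199197
theorem D222323 : act 7 n199197 = n222323 := rfl
theorem F513586 : act 2 n222323 = n204942 := d4_1 D222323 F508906 F508902
theorem F513587 : act 3 n222323 = n199215 := d8_1 D222323 (iv7 D199215) (iv3 F411127)
theorem F513588 : act 4 n222323 = n221432 := d11_1 D222323 (iv7 F513585) (iv4 D222322)
theorem F513589 : act 5 n222323 = n199198 := d13_1 D222323 (iv7 D199198) D199197
theorem F513590 : act 6 n222323 = n204940 := d14_1 D222323 (iv7 F473420) F473419 (iv7 F513567) F513566
def n222324 : Q := act 4 n199200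
theorem D222324 : act 4 n199200 = n222324 := rfl
theorem F513591 : act 2 n222324 = n222284 := d1_1 D222324 F513348 F453590
theorem F513592 : act 5 n222324 = n208689 := d9_2 (iv5 F411134) D222324 (iv4 F453004) F453001 F411168 F402439 F228409 (iv5 F411139) (iv4 F419295) (iv5 F504660) (iv4 D220619) (iv5 F410839) (iv4 D199137) F180717 (iv4 F180621)
theorem F513593 : act 6 n222324 = n209334 := d10_2 (iv6 F446132) D222324 (iv4 F453286)
theorem F513594 : act 7 n222324 = n210824 := d11_2 F411136 D222324 (iv4 D210824)
theorem F513595 : act 0 n222324 = n210648 := d17_0 (iv5 F513189) F513191 F456537 F445899 F388589 F172260 D111084 F411137 D222324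
theorem F513596 : act 1 n222324 = n209617 := d18_6 (iv1 F180527) (iv4 F180529) F220059 (iv4 F180621) (iv5 F411134) D222324 F454339 F359148 F224262
def n222325 : Q := act 6 n199207
theorem D222325 : act 6 n199207 = n222325 := rfl
theorem F513597 : act 2 n222325 = n221662 := d3_1 D222325 (iv6 D221662) F411169
theorem F513598 : act 3 n222325 = n205935 := d7_1 D222325 (iv6 D205935) F411170
theorem F513599 : act 4 n222325 = n221661 := d10_1 D222325 (iv6 D221661) (iv4 F411168)
theorem F513600 : act 0 n222325 = n212096 := d21_4 (iv5 F221116) F453005 F453001 D222325 (iv6 F464304) (iv5 D208919) (iv1 F387391) (iv5 F391943) (iv6 D194066) F361819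
theorem F513601 : act 1 n222325 = n212099 := d15_1 (iv0 F513600) F464308 (iv2 F464302)
def n222326 : Q := act 0 n199210
theorem D222326 : act 0 n199210 = n222326 := rfl
theorem F513602 : act 5 n222326 = n215562 := d17_1 D222326 F480514 (iv5 F500425) (iv4 F500429) F464620 (iv0 F510219) (iv5 D221672) F402573 (iv4 F411183)
theorem F513603 : act 4 n222326 = n221667 := d18_3 (iv1 F402235) (iv4 F411183) D222326 F510188 (iv4 F507348) (iv0 F507350) F464616 (iv0 D212173) (iv5 D145433)
theorem F513604 : act 3 n222326 = n209922 := d20_5 F357401 (iv1 D175699) D175700 (iv3 F411182) D222326 (iv4 D209922) F390878 F390875 F385583 F385581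
theorem F513605 : act 6 n222326 = n215926 := d21_5 D137781 (iv1 F411181) (iv5 D199209) D199210 D222326 (iv5 D215926) F353845 (iv5 D137891) (iv6 D64808) (iv1 F219213)
theorem F513606 : act 1 n203406 = n222326 := d15_0 (iv0 D222326) (iv7 F411184) (iv2 F428169)
theorem F513607 : act 7 n220339 = n222326 := d14_0 F513605 (iv7 F504689) (iv6 F504692) (iv7 F503734) F503733
theorem F513608 : act 2 n222326 = n220340 := d15_3 F503278 F503276 F513607
def n222327 : Q := act 1 n199210
theorem D222327 : act 1 n199210 = n222327 := rfl
theorem F513609 : act 1 n222327 = n203406 := d15_1 D222327 (iv7 F501254) F501252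
theorem F513610 : act 7 n222327 = n220340 := d15_2 (iv0 D222326) D222327 (iv2 F513608)
theorem F513611 : act 5 n222327 = n202287 := d17_7 (iv1 F482170) (iv5 D209884) F346600 D214074 (iv4 F501207) F501208 D222327 F480515 (iv4 F482168)
theorem F513612 : act 4 n221670 = n222327 := d20_6 (iv4 D174474) (iv1 F156778) D193487 (iv3 F390032) D198158 (iv3 F510203) (iv1 D222327) F411183 (iv3 F411115) (iv1 F411118)
theorem F513613 : act 6 n220531 = n222327 := d21_3 D136608 (iv1 F454033) (iv5 F504218) (iv1 D222327) (iv6 D199210) D199209 F411180 (iv5 D137880) (iv6 F386013) (iv1 D136606)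
theorem F513614 : act 2 n222327 = n220339 := d3_1 F513613 (iv6 F503733) (iv2 F504221)
theorem F513615 : act 3 n222327 = n205938 := d7_1 F513613 (iv6 F452523) F504220
def n222328 : Q := act 0 n199211
theorem D222328 : act 0 n199211 = n222328 := rfl
theorem F513616 : act 3 n222328 = n218320 := d20_5 (iv4 F386620) (iv1 F460002) (iv4 F513565) F513564 D222328 F493304 F428798 F428723 (iv3 F407020) (iv1 F407026)
theorem F513617 : act 6 n222328 = n212570 := d21_5 (iv5 D196678) F386818 D111076 (iv6 F411186) D222328 F471711 (iv1 D213704) (iv5 D154731) D154732 F401462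
theorem F513618 : act 2 n200127 = n222328 := d15_3 (iv0 D222328) (iv0 F424722) (iv7 F415132)
theorem F513619 : act 1 n204958 = n222328 := d15_0 (iv0 D222328) (iv7 F510211) F510207
theorem F513620 : act 7 n222328 = n211021 := d15_2 (iv0 F434347) F513619 F459776
def n222329 : Q := act 4 n199216
theorem D222329 : act 4 n199216 = n222329 := rfl
theorem F513621 : act 2 n222329 = n199234 := d1_1 D222329 (iv4 D199234) (iv2 F411190)
theorem F513622 : act 3 n222329 = n211592 := d5_1 D222329 F462295 F387229 (iv4 F400454) (iv3 F411191)
theorem F513623 : act 5 n222329 = n199226 := d9_2 D199216 D222329 (iv4 F411237) F451037 F451035 (iv5 F411246) F411245 (iv5 F411258) (iv4 F411260) F411234 (iv4 F509870) F509874 F407615 (iv5 F411165) F411164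
theorem F513624 : act 6 n222329 = n218032 := d10_2 F510039 D222329 (iv4 F510041)
theorem F513625 : act 7 n222329 = n220316 := d11_2 F505903 D222329 (iv4 F505900)
theorem F513626 : act 0 n222329 = n220320 := d17_0 (iv5 F503176) (iv1 F455639) (iv5 F489589) (iv4 F505563) (iv5 D220792) (iv0 F455665) (iv5 F509768) F509770 D222329
theorem F513627 : act 0 n220319 = n222329 := d20_10 (iv4 D222329) (iv1 F509770) (iv4 F510436) (iv3 F510437) F486968 F486966 (iv4 F375657) D218338 F493389 F503174
def n222330 : Q := act 6 n199223
theorem D222330 : act 6 n199223 = n222330 := rfl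
theorem F513628 : act 2 n222330 = n217917 := d3_1 D222330 F491249 (iv2 F458334)
theorem F513629 : act 4 n222330 = n199224 := d10_1 D222330 (iv6 D199224) D199223
theorem F513630 : act 7 n222330 = n220145 := d14_2 (iv7 F454320) D222330 F502353 (iv7 F453577) D209607
theorem F513631 : act 0 n222330 = n206918 := d21_4 (iv5 F338277) (iv1 F418341) (iv5 F418342) D222330 (iv6 D206918) D206917 F442605 F388583 D193048 (iv1 F388587)
theorem F513632 : act 0 n207815 = n222330 := d21_4 (iv5 F490008) F490006 (iv5 F446158) (iv6 F446575) (iv6 D222330) F418342 F418340 (iv5 D199068) D199069 (iv1 F443112)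
def n222331 : Q := act 5 n199229
theorem D222331 : act 5 n199229 = n222331 := rfl
theorem F513633 : act 2 n222331 = n220535 := d2_1 D222331 (iv5 D220535) (iv2 F411247)
theorem F513634 : act 3 n222331 = n203325 := d6_1 D222331 (iv5 D203325) (iv3 F411248)
theorem F513635 : act 6 n222331 = n210228 := d12_2 D199229 D222331 (iv5 D210228) (iv6 D137991) (iv5 F172288)
theorem F513636 : act 7 n222331 = n203405 := d13_2 F411252 D222331 (iv5 D203405)
def n222332 : Q := act 1 n199230
theorem D222332 : act 1 n199230 = n222332 := rfl
theorem F513637 : act 1 n222332 = n213439 := d15_1 D222332 (iv7 F510040) F510037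
theorem F513638 : act 7 n222332 = n213440 := d15_2 (iv0 F411256) D222332 (iv2 F470411)
theorem F513639 : act 3 n218042 = n222332 := d19_19 (iv1 D222332) (iv5 D199230) (iv4 F411249) F411248 (iv1 D118732) D118734 D203330 (iv3 F450220) (iv1 F513043) (iv5 D222229) F409201 (iv3 F388723) F409203 (iv5 F387514) F387516 (iv3 F394066) F394068 D206920 (iv4 F491847)
theorem F513640 : act 5 n205128 = n222332 := d21_6 (iv5 F78365) D107426 F220816 D110742 (iv1 F401803) F453914 (iv1 D222332) (iv5 D199230) (iv6 D111087) F172281
theorem F513641 : act 2 n222332 = n205499 := d2_1 F513640 F436717 F453912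
def n222333 : Q := act 4 n199230
theorem D222333 : act 4 n199230 = n222333 := rfl
theorem F513642 : act 2 n222333 = n218032 := d1_1 D222333 (iv4 F510041) F510037
theorem F513643 : act 6 n222333 = n199234 := d10_2 (iv6 F411254) D222333 (iv4 D199234)
theorem F513644 : act 7 n222333 = n213441 := d11_2 (iv7 F411255) D222333 (iv4 D213441)
theorem F513645 : act 0 n222333 = n209733 := d18_2 (iv1 D222332) D222333 F490295 (iv5 F505618) F505617 (iv0 D214434) (iv4 F366757) D205128 F513640
theorem F513646 : act 1 n222333 = n216500 := d18_6 F490310 F393761 (iv1 F411251) F411249 D199230 D222333 F484695 (iv0 F373398) D217720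
theorem F513647 : act 5 n220121 = n222333 := d19_1 D220121 (iv4 D222333) F411253 F241273 (iv5 D151163) (iv4 D71240) F52990 (iv1 F50694) (iv5 D32066) (iv4 F45934) (iv3 F55069) (iv1 F55072) D34832 D76253 (iv3 F339161) D99813 D192164 (iv4 F491459) F491456
def n222334 : Q := act 4 n199233
theorem D222334 : act 4 n199233 = n222334 := rfl
theorem F513648 : act 2 n222334 = n221709 := d1_1 D222334 F510429 F439807
theorem F513649 : act 3 n222334 = n207908 := d5_1 D222334 (iv4 D207908) D207907 (iv4 F501822) F501821
theorem F513650 : act 6 n222334 = n217750 := d10_2 F439806 D222334 F490448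
theorem F513651 : act 7 n222334 = n221710 := d11_2 F509769 D222334 F510436
theorem F513652 : act 0 n222334 = n221711 := d17_0 F510443 (iv1 D199058) D199059 (iv4 F449931) (iv5 D196736) F393619 D111090 D199233 D222334
theorem F513653 : act 0 n203785 = n222334 := d20_1 F461381 (iv4 D222334) (iv3 F501821) F501824 F410007 (iv4 F364624) D194657 F462002 (iv3 F511641) F511645
def n222335 : Q := act 1 n199234
theorem D222335 : act 1 n199234 = n222335 := rfl
theorem F513654 : act 1 n222335 = n220316 := d15_1 D222335 (iv7 F513625) F513621
theorem F513655 : act 7 n222335 = n220320 := d15_2 F493353 D222335 F503178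
theorem F513656 : act 4 n222335 = n211541 := d17_9 F462044 (iv5 F462016) F509873 F509874 F407615 (iv5 F411165) (iv0 F513307) F513309 D222335
theorem F513657 : act 6 n220186 = n222335 := d21_3 (iv5 F501654) (iv1 F501656) (iv5 F502538) (iv1 D222335) (iv6 F513643) (iv5 F513647) (iv1 F502232) (iv5 F489599) F489600 (iv1 F387275)
theorem F513658 : act 2 n222335 = n220319 := d3_1 F513657 F503172 (iv2 F502536)
def n222336 : Q := act 6 n199236
theorem D222336 : act 6 n199236 = n222336 := rfl
theorem F513659 : act 2 n222336 = n199248 := d3_1 D222336 (iv6 D199248) (iv2 F411266)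
theorem F513660 : act 3 n222336 = n206355 := d7_1 D222336 F440386 (iv3 F411263)
theorem F513661 : act 4 n222336 = n210267 := d10_1 D222336 (iv6 D210267) (iv4 F411262)
theorem F513662 : act 5 n222336 = n219142 := d12_1 D222336 F497397 (iv5 D205064) D205065 (iv5 F434852)
theorem F513663 : act 0 n222336 = n206037 := d21_4 (iv5 F476303) (iv1 F476305) (iv5 F434852) D222336 (iv6 D206037) D206036 F472152 (iv5 F472150) (iv6 F479635) F479637
theorem F513664 : act 0 n215346 = n222336 := d21_4 D221639 F510043 (iv5 F502297) (iv6 F502301) (iv6 D222336) F434852 (iv1 F476285) F476284 (iv6 D196930) F402223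
theorem F513665 : act 7 n222336 = n215347 := d15_2 (iv0 F438951) (iv0 F513663) (iv2 D215347)
def n222337 : Q := act 6 n199237
theorem D222337 : act 6 n199237 = n222337 := rfl
theorem F513666 : act 2 n222337 = n199251 := d3_1 D222337 (iv6 D199251) F411269
theorem F513667 : act 3 n222337 = n215345 := d7_1 D222337 (iv6 F509909) F509907
theorem F513668 : act 4 n222337 = n215599 := d10_1 D222337 F486929 F486928
theorem F513669 : act 5 n222337 = n219876 := d12_1 D222337 F500992 F498740 (iv6 F512228) F512227
theorem F513670 : act 7 n222337 = n215344 := d14_2 (iv7 F411268) D222337 F479492 F411317 (iv6 D199248)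
theorem F513671 : act 0 n212183 = n222337 := d17_0 F513669 F500994 (iv5 D212172) F228455 F423528 (iv0 F423526) (iv5 F433711) (iv0 F452974) (iv4 F464654)
def n222338 : Q := act 6 n199242
theorem D222338 : act 6 n199242 = n222338 := rfl
theorem F513672 : act 2 n222338 = n206037 := d3_1 D222338 (iv6 D206037) (iv2 F411293)
theorem F513673 : act 3 n222338 = n221566 := d7_1 D222338 (iv6 D221566) (iv3 F411294)
theorem F513674 : act 4 n222338 = n211599 := d10_1 D222338 (iv6 D211599) F411292
theorem F513675 : act 7 n222338 = n215346 := d14_2 (iv7 F411291) D222338 F502301 F502298 (iv6 F453914)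
theorem F513676 : act 0 n222338 = n215347 := d21_10 (iv5 F495808) (iv1 F510073) F510070 F402246 (iv1 F464291) (iv6 F472143) (iv5 D213799) D213798 F472138 D222338
theorem F513677 : act 0 n199248 = n222338 := d21_4 F473915 (iv1 F428773) (iv5 D199247) D199248 (iv6 D222338) (iv5 F472138) F482098 (iv5 F510228) (iv6 F510231) F473917
def n222339 : Q := act 1 n199243
theorem D222339 : act 1 n199243 = n222339 := rfl
theorem F513678 : act 1 n222339 = n214855 := d15_1 D222339 F477154 (iv2 F411295)
theorem F513679 : act 7 n222339 = n221568 := d15_2 (iv0 F435091) D222339 (iv2 D221568)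
theorem F513680 : act 4 n222339 = n221686 := d17_9 (iv1 F510296) (iv5 D207440) D207439 F444914 F438581 (iv5 D196673) (iv0 F362569) D199243 D222339
theorem F513681 : act 3 n221571 = n222339 := d19_19 (iv1 D222339) (iv5 D199243) F172313 F100652 D64821 D137923 (iv4 F343297) F343296 (iv1 F343300) F343305 F355661 F355629 (iv1 F382426) F382423 D202811 F425693 (iv1 F396733) (iv5 F404170) (iv4 F509647)
theorem F513682 : act 5 n221673 = n222339 := d21_0 (iv1 D222339) (iv5 D199243) (iv6 D111108) (iv1 D51240) D51241 F333001 D173983 D215372 F479635 F510225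
theorem F513683 : act 6 n214852 = n222339 := d21_3 (iv5 F464819) (iv1 F510601) F510599 (iv1 D222339) (iv6 F444911) F444912 F357675 D145424 D212167 (iv1 F464588)
theorem F513684 : act 2 n222339 = n221294 := d3_1 F513683 F508211 F503538
def n222340 : Q := act 1 n199248
theorem D222340 : act 1 n199248 = n222340 := rfl
theorem F513685 : act 1 n222340 = n215347 := d15_1 D222340 (iv7 F513665) F513659
theorem F513686 : act 7 n222340 = n206037 := d15_2 (iv0 F513677) D222340 (iv2 F513672)
theorem F513687 : act 3 n199258 = n222340 := d19_19 (iv1 D222340) F463178 (iv4 D211815) F226843 D144134 (iv5 F295868) F295867 F82349 (iv1 F80705) (iv5 F93418) (iv4 F176710) (iv3 F352196) (iv1 F440815) F440817 F211184 F96411 (iv1 F96705) (iv5 F201802) (iv4 F411349)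
theorem F513688 : act 6 n205105 = n222340 := d21_3 D199230 F411256 (iv5 F434992) (iv1 D222340) (iv6 D199248) D199247 (iv1 F428774) D214666 F476298 (iv1 F402332)
theorem F513689 : act 5 n221440 = n222340 := d21_6 (iv5 D180648) (iv1 F280701) (iv5 F434864) F512520 (iv1 D222133) (iv6 F509037) (iv1 D222340) F463178 (iv6 F476308) F476311
theorem F513690 : act 2 n222340 = n215346 := d2_1 F513689 (iv5 F512847) F512844
def n222341 : Q := act 7 n199251
theorem D222341 : act 7 n199251 = n222341 := rfl
theorem F513691 : act 2 n222341 = n215344 := d4_1 D222341 (iv7 F513670) F513666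
theorem F513692 : act 3 n222341 = n211044 := d8_1 D222341 F459871 (iv3 F440006)
theorem F513693 : act 4 n222341 = n220345 := d11_1 D222341 F503305 (iv4 F500429)
theorem F513694 : act 5 n222341 = n211377 := d13_1 D222341 (iv7 F464618) (iv5 F464620)
theorem F513695 : act 6 n222341 = n215347 := d14_1 D222341 (iv7 F513665) (iv6 D222336) (iv7 F411264) D199251
theorem F513696 : act 1 n212183 = n222341 := d15_1 (iv0 F513671) (iv7 D222341) (iv2 F513666)
def n222342 : Q := act 6 n199252
theorem D222342 : act 6 n199252 = n222342 := rfl
theorem F513697 : act 2 n222342 = n222066 := d3_1 D222342 (iv6 D222066) F411328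
theorem F513698 : act 3 n222342 = n199254 := d7_1 D222342 (iv6 D199254) D199252
theorem F513699 : act 4 n222342 = n215241 := d10_1 D222342 F479014 (iv4 F411327)
theorem F513700 : act 5 n222342 = n219247 := d21_6 (iv5 F223613) (iv1 F401427) F401425 D202689 F425113 D222342 F497926 F476980 (iv6 D205488) (iv1 F223616)
theorem F513701 : act 0 n212863 = n222342 := d21_4 (iv5 F373395) F373397 (iv5 F241266) D212863 (iv6 D222342) (iv5 F411337) (iv1 F407235) (iv5 F407282) (iv6 F436699) F436702
def n222343 : Q := act 6 n199255
theorem D222343 : act 6 n199255 = n222343 := rfl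
theorem F513702 : act 3 n222343 = n199257 := d7_1 D222343 (iv6 D199257) D199255
theorem F513703 : act 4 n222343 = n203841 := d10_1 D222343 (iv6 F500241) F500240
theorem F513704 : act 5 n222343 = n220239 := d12_1 D222343 (iv6 F505941) F505940 F457622 (iv5 F433541)
theorem F513705 : act 7 n222343 = n214826 := d14_2 F503453 D222343 F480440 (iv7 F480441) (iv6 F503452)
theorem F513706 : act 0 n222343 = n215422 := d21_10 (iv5 F493110) F493111 F386618 (iv6 D103836) (iv1 F158995) D194471 F393353 D204777 (iv5 F433541) D222343
theorem F513707 : act 0 n220784 = n222343 := d21_4 D220755 (iv1 F505509) (iv5 D220783) D220784 (iv6 D222343) F433541 (iv1 F505592) (iv5 D220796) (iv6 D194560) (iv1 F393296)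
def n222344 : Q := act 0 n199259
theorem D222344 : act 0 n199259 = n222344 := rfl
theorem F513708 : act 5 n222344 = n200123 := d21_2 F464590 D222344 F508794 (iv1 D221394) F425419 F425415 F400559 (iv5 F424697) F461445 F464594
theorem F513709 : act 6 n222344 = n199811 := d21_5 (iv5 D58039) D58036 (iv5 F351085) D199259 D222344 (iv5 F413602) (iv1 F364124) F401095 F401093 (iv1 D124456)
theorem F513710 : act 2 n211072 = n222344 := d15_3 (iv0 D222344) (iv0 F479900) F479899
theorem F513711 : act 1 n210938 = n222344 := d15_0 (iv0 D222344) (iv7 F512037) F512034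
theorem F513712 : act 7 n222344 = n211009 := d15_2 (iv0 F479901) F513711 F479903
def n222345 : Q := act 6 n199263
theorem D222345 : act 6 n199263 = n222345 := rfl
theorem F513713 : act 2 n222345 = n202308 := d3_1 D222345 F423578 F411372
theorem F513714 : act 3 n222345 = n199265 := d7_1 D222345 (iv6 D199265) D199263
theorem F513715 : act 4 n222345 = n201912 := d10_1 D222345 F422339 (iv4 F411371)
theorem F513716 : act 5 n222345 = n211572 := d12_1 D222345 (iv6 F473457) (iv5 F473828) (iv6 D214169) (iv5 F411369)
theorem F513717 : act 7 n222345 = n202303 := d14_2 (iv7 F411370) D222345 (iv6 F423557) F383668 (iv6 F342227)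
theorem F513718 : act 0 n222345 = n219934 := d21_4 F320443 (iv1 F342236) (iv5 F411369) D222345 (iv6 D219934) D219933 (iv1 F503278) (iv5 F503280) (iv6 D213994) (iv1 F247058)
def n222346 : Q := act 0 n199269
theorem D222346 : act 0 n199269 = n222346 := rfl
theorem F513719 : act 5 n222346 = n222334 := d17_1 D222346 F513652 F510443 (iv4 F410499) D199231 F509740 F509737 (iv0 D214186) (iv4 F411395)
theorem F513720 : act 4 n222346 = n222048 := d18_3 F406875 (iv4 F411395) D222346 F512080 F493506 F457114 (iv4 F449931) (iv0 F505564) (iv5 D220792)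
theorem F513721 : act 3 n222346 = n211943 := d20_5 F215957 F112151 (iv4 F172346) D199269 D222346 (iv4 D211943) F438738 F438734 (iv3 D138334) (iv1 F215959)
theorem F513722 : act 6 n222346 = n210644 := d21_5 F386293 F343882 (iv5 F328894) (iv6 F411397) D222346 (iv5 F458317) (iv1 F485792) F485790 (iv6 D192978) (iv1 F386291)
theorem F513723 : act 2 n210341 = n222346 := d15_3 (iv0 D222346) (iv0 F470667) F470666
theorem F513724 : act 1 n210342 = n222346 := d15_0 (iv0 D222346) F411398 D210342
theorem F513725 : act 7 n222346 = n210332 := d15_2 F470668 F513724 (iv2 F470664)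
def n222347 : Q := act 3 n199272
theorem D222347 : act 3 n199272 = n222347 := rfl
theorem F513726 : act 2 n222347 = n218319 := d0_1 D222347 (iv3 D218319) (iv2 F375591) (iv3 F362973) F411411
theorem F513727 : act 4 n222347 = n210117 := d5_2 (iv4 F411410) D222347 (iv3 D210117) F220782 (iv3 F215969)
theorem F513728 : act 6 n222347 = n202523 := d7_2 F411414 D222347 (iv3 D202523)
theorem F513729 : act 7 n222347 = n208259 := d8_2 (iv7 F411413) D222347 F448620
theorem F513730 : act 0 n222347 = n210359 := d20_4 F171766 (iv1 F215973) (iv4 F411410) D222347 (iv3 D210359) (iv4 D138410) (iv1 D65008) (iv4 F100767) F100766 D64971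
theorem F513731 : act 0 n218376 = n222347 := d20_1 (iv4 F493581) F513727 (iv3 D210117) (iv1 F220783) (iv3 F357236) (iv4 D124357) D124355 D204780 (iv3 F482125) F501432
def n222348 : Q := act 5 n199272
theorem D222348 : act 5 n199272 = n222348 := rfl
theorem F513732 : act 2 n222348 = n202666 := d2_1 D222348 F424993 F411411
theorem F513733 : act 6 n222348 = n208749 := d12_2 F411414 D222348 (iv5 F478844) (iv6 F478842) (iv5 D202524)
theorem F513734 : act 7 n222348 = n202667 := d13_2 (iv7 F411413) D222348 F424997
theorem F513735 : act 0 n222348 = n202643 := d17_2 D199272 D222348 (iv5 D202643) (iv4 D116245) (iv5 F95818) F49452 (iv5 F48919) F80862 D111136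
theorem F513736 : act 1 n222348 = n202641 := d17_6 D59543 F166463 (iv1 F206710) (iv5 F215970) (iv4 F411410) D222348 (iv5 D202641) F181188 F93968
def n222349 : Q := act 4 n199281
theorem D222349 : act 4 n199281 = n222349 := rfl
theorem F513737 : act 2 n222349 = n210402 := d1_1 D222349 (iv4 D210402) (iv2 F411457)
theorem F513738 : act 5 n222349 = n222020 := d9_2 D199281 D222349 (iv4 D222020) F406592 (iv4 F222469) (iv5 F223577) F223576 F343244 (iv4 F433036) (iv5 F511946) (iv4 D222021) (iv5 F407181) F407179 (iv5 D197149) (iv4 F172374)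
theorem F513739 : act 7 n222349 = n210407 := d11_2 (iv7 F411458) D222349 (iv4 D210407)
theorem F513740 : act 0 n222349 = n213475 := d17_0 (iv5 F470569) (iv1 F458294) (iv5 D210641) (iv4 D139457) (iv5 D65449) (iv0 F101535) D139393 (iv0 F411459) D222349
theorem F513741 : act 1 n222349 = n222016 := d18_6 F101612 F101611 F166497 (iv4 F172374) D199281 D222349 F511917 F406625 F336654
def n222350 : Q := act 1 n199282
theorem D222350 : act 1 n199282 = n222350 := rfl
theorem F513742 : act 1 n222350 = n210400 := d15_1 D222350 (iv7 F510462) F510459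
theorem F513743 : act 7 n222350 = n210388 := d15_2 (iv0 F473689) D222350 (iv2 F473685)
theorem F513744 : act 4 n222350 = n219736 := d17_9 F500342 F391804 F482518 F482515 (iv4 D210623) D210624 (iv0 F481671) F481669 D222350
theorem F513745 : act 5 n222350 = n219789 := d18_9 F500633 F481746 F484482 F484480 F484337 F482298 (iv0 F453672) (iv4 F411461) D222350
theorem F513746 : act 3 n217872 = n222350 := d20_3 (iv4 F457384) (iv1 F473823) (iv4 F491026) (iv1 D222350) (iv3 D199282) (iv4 F223576) (iv1 F223579) (iv4 F101611) (iv3 F172515) D199352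
theorem F513747 : act 6 n211234 = n222350 := d21_3 (iv5 F456224) (iv1 F456226) (iv5 F460733) (iv1 D222350) F411462 (iv5 D192281) F351962 D170887 F268486 D192018
theorem F513748 : act 2 n222350 = n210399 := d3_1 F513747 F458262 (iv2 F460736)
def n222351 : Q := act 5 n199284
theorem D222351 : act 5 n199284 = n222351 := rfl
theorem F513749 : act 3 n222351 = n199285 := d6_1 D222351 (iv5 D199285) D199284
theorem F513750 : act 6 n222351 = n216662 := d12_2 (iv6 F411470) D222351 F485364 F446928 (iv5 F397025)
theorem F513751 : act 7 n222351 = n204605 := d13_2 (iv7 F411471) D222351 F432990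
def n222352 : Q := act 4 n199285
theorem D222352 : act 4 n199285 = n222352 := rfl
theorem F513752 : act 2 n222352 = n210415 := d1_1 D222352 (iv4 D210415) (iv2 F411472)
theorem F513753 : act 5 n222352 = n222012 := d9_2 D199285 D222352 (iv4 D222012) F406560 F173459 F81292 D111149 D199287 (iv4 F481685) (iv5 F511905) (iv4 D222013) F407162 F407159 (iv5 F169018) D111148
theorem F513754 : act 6 n222352 = n216663 := d10_2 F411476 D222352 (iv4 D216663)
theorem F513755 : act 7 n222352 = n204608 := d11_2 (iv7 F411473) D222352 F433004
theorem F513756 : act 0 n222352 = n210555 := d17_0 F472807 (iv1 F472806) F406578 (iv4 D139386) (iv5 D65418) D65417 D139383 (iv0 F411474) D222352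
theorem F513757 : act 1 n222352 = n202026 := d18_6 (iv1 D111145) F80870 D51268 D111148 D199285 D222352 F422741 (iv0 F343247) (iv5 F343244)
theorem F513758 : act 3 n221499 = n222352 := d7_3 F513754 F485368 D221499
def n222353 : Q := act 4 n199303
theorem D222353 : act 4 n199303 = n222353 := rfl
theorem F513759 : act 2 n222353 = n218463 := d1_1 D222353 F494013 F415647
theorem F513760 : act 3 n222353 = n207534 := d5_1 D222353 (iv4 D207534) (iv3 F382602) F382603 (iv3 F411567)
theorem F513761 : act 5 n222353 = n218412 := d9_2 D199303 D222353 F493762 F376237 (iv4 F347687) (iv5 D111176) D111175 D199306 F411580 (iv5 D189411) F144779 D93960 (iv4 F352982) (iv5 D111171) D111170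
theorem F513762 : act 6 n222353 = n218491 := d10_2 F486035 D222353 F494144
theorem F513763 : act 7 n222353 = n217485 := d11_2 (iv7 F411568) D222353 F489104
theorem F513764 : act 0 n222353 = n218464 := d17_0 (iv5 F494018) F508584 F508585 F493954 (iv5 F447708) (iv0 F447712) D214216 F474031 D222353
theorem F513765 : act 1 n222353 = n207147 := d18_6 (iv1 D52189) F40058 D51277 D111170 D199303 D222353 (iv4 D207147) F361680 (iv5 D113073)
def n222354 : Q := act 4 n199326
theorem D222354 : act 4 n199326 = n222354 := rfl
theorem F513766 : act 2 n222354 = n210500 := d1_1 D222354 (iv4 D210500) (iv2 F411714)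
theorem F513767 : act 5 n222354 = n211181 := d9_2 D199326 D222354 F460489 F411722 F222590 (iv5 D127075) (iv4 F172442) (iv5 F389141) (iv4 F502796) F502797 F460482 F411728 (iv4 F410244) (iv5 D198996) F172448
theorem F513768 : act 7 n222354 = n204822 := d11_2 (iv7 F411715) D222354 F433712
theorem F513769 : act 0 n222354 = n210709 := d17_0 F458523 F433714 F433713 F422581 (iv5 F410598) F410600 (iv5 F357156) (iv0 F411716) D222354
theorem F513770 : act 1 n222354 = n220547 := d18_6 F111889 (iv4 F80594) D110818 F172448 D199326 D222354 F504300 F391292 (iv5 D116834)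
def n222355 : Q := act 6 n199326
theorem D222355 : act 6 n199326 = n222355 := rfl
theorem F513771 : act 2 n222355 = n204815 := d3_1 D222355 F433683 (iv2 F411714)
theorem F513772 : act 5 n222355 = n216048 := d12_1 D222355 F482658 F424378 (iv6 D199327) D199326
theorem F513773 : act 7 n222355 = n204776 := d14_2 (iv7 F411715) D222355 (iv6 D204776) F198826 D124427
theorem F513774 : act 0 n222355 = n204814 := d21_4 (iv5 D115924) (iv1 F172446) D199326 D222355 (iv6 F475227) F485309 F485308 (iv5 F502761) F502762 (iv1 F411723)
theorem F513775 : act 0 n204813 = n222355 := d21_4 F253211 (iv1 F191902) D203745 (iv6 F433680) (iv6 D222355) (iv5 D199326) (iv1 D111198) D111199 (iv6 F411706) F411709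
def n222356 : Q := act 6 n199339
theorem D222356 : act 6 n199339 = n222356 := rfl
theorem F513776 : act 2 n222356 = n221079 := d3_1 D222356 (iv6 D221079) F411769
theorem F513777 : act 3 n222356 = n203259 := d7_1 D222356 (iv6 F446751) F446749
theorem F513778 : act 4 n222356 = n214070 := d10_1 D222356 (iv6 D214070) (iv4 F411768)
theorem F513779 : act 7 n213825 = n222356 := d11_0 F513778 (iv7 F473333) (iv4 F472251)
def n222357 : Q := act 3 n199345
theorem D222357 : act 3 n199345 = n222357 := rfl
def n222358 : Q := act 1 n199346
theorem D222358 : act 1 n199346 = n222358 := rfl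
theorem F513780 : act 1 n222358 = n214121 := d15_1 D222358 (iv7 D214121) (iv2 F411793)
theorem F513781 : act 7 n222358 = n214118 := d15_2 F460819 D222358 (iv2 F473562)
theorem F513782 : act 4 n222358 = n214145 := d17_9 F473706 (iv5 D197103) (iv1 F166267) (iv5 F222631) (iv4 F449168) (iv5 D208392) D208390 (iv5 F449167) D222358
theorem F513783 : act 2 n214119 = n222358 := d1_3 F513782 F473703 (iv4 F473566)
theorem F513784 : act 6 n216204 = n222358 := d10_0 F513782 F473704 D216204
def n222359 : Q := act 6 n199347
theorem D222359 : act 6 n199347 = n222359 := rfl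
theorem F513785 : act 2 n222359 = n212452 := d3_1 D222359 (iv6 D212452) (iv2 F411795)
theorem F513786 : act 3 n222359 = n199348 := d7_1 D222359 (iv6 D199348) D199347
theorem F513787 : act 4 n222359 = n216054 := d10_1 D222359 (iv6 D216054) (iv4 F411796)
theorem F513788 : act 5 n222359 = n205937 := d12_1 D222359 F438494 F397122 F359454 (iv5 F411797)
theorem F513789 : act 7 n222359 = n222280 := d14_2 (iv7 F411798) D222359 (iv6 D222280) F410419 (iv6 F374453)
theorem F513790 : act 0 n222359 = n213534 := d21_4 F457054 (iv1 F243397) (iv5 F411797) D222359 (iv6 D213534) (iv5 D154120) (iv1 F333736) F384819 (iv6 F384820) F457057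
theorem F513791 : act 1 n222359 = n210009 := d15_1 (iv0 F513790) (iv7 F456968) (iv2 F470903)
def n222360 : Q := act 5 n199351
theorem D222360 : act 5 n199351 = n222360 := rfl
theorem F513792 : act 2 n222360 = n213578 := d2_1 D222360 F471123 F471052
theorem F513793 : act 3 n222360 = n199356 := d6_1 D222360 (iv5 D199356) (iv3 F411815)
theorem F513794 : act 6 n222360 = n199354 := d12_2 D199351 D222360 (iv5 D199354) (iv6 D111228) D111227
theorem F513795 : act 7 n222360 = n216449 := d13_2 F487598 D222360 (iv5 F487597)
theorem F513796 : act 0 n222360 = n213464 := d17_2 (iv1 F426619) D222360 (iv5 D213464) D213463 (iv5 F470520) F428828 F428601 (iv0 D147377) (iv4 F184086)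
theorem F513797 : act 1 n222360 = n213462 := d17_6 F467074 F467071 (iv1 F279167) F415442 F415446 D222360 (iv5 D213462) (iv0 D153801) (iv4 F241656)
def n222361 : Q := act 4 n199356
theorem D222361 : act 4 n199356 = n222361 := rfl
theorem F513798 : act 2 n222361 = n215776 := d1_1 D222361 F481527 (iv2 F411828)
theorem F513799 : act 5 n222361 = n200112 := d9_2 D199356 D222361 F415064 (iv5 F363569) (iv4 F401100) (iv5 F362805) (iv4 F353709) (iv5 D185226) (iv4 F287537) D216691 F485490 F401101 (iv4 F363105) F362801 (iv4 F172518)
theorem F513800 : act 6 n222361 = n199358 := d10_2 (iv6 F411829) D222361 (iv4 D199358)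
theorem F513801 : act 7 n222361 = n215775 := d11_2 (iv7 F411832) D222361 F481521
theorem F513802 : act 0 n222361 = n208494 := d18_2 (iv1 F411830) D222361 (iv4 D208494) (iv5 D134443) F98424 (iv0 F342786) (iv4 F90890) F90902 D123900
theorem F513803 : act 1 n222361 = n204661 := d18_6 (iv1 F411444) F411448 (iv1 F363290) (iv4 F172518) D199356 D222361 F433181 F431455 F391071
theorem F513804 : act 3 n202379 = n222361 := d20_5 D213959 F472895 F391116 D210768 F458734 (iv4 D222361) F411831 D204503 F432737 F384692
def n222362 : Q := act 3 n199358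
theorem D222362 : act 3 n199358 = n222362 := rfl
theorem F513805 : act 5 n222362 = n202300 := d6_2 F459591 D222362 (iv3 F459594)
theorem F513806 : act 6 n222362 = n202379 := d7_2 F513800 D222362 F513804
theorem F513807 : act 0 n222362 = n209878 := d20_4 F457432 (iv1 F406650) D199358 D222362 (iv3 F472826) F472827 (iv1 F386169) D192250 (iv3 F458002) (iv1 F457999)
def n222363 : Q := act 6 n199361
theorem D222363 : act 6 n199361 = n222363 := rfl
theorem F513808 : act 2 n222363 = n219988 := d3_1 D222363 F501533 (iv2 F482293)
theorem F513809 : act 3 n222363 = n199364 := d7_1 D222363 (iv6 D199364) D199361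
theorem F513810 : act 4 n222363 = n219637 := d10_1 D222363 (iv6 F504603) F504601
theorem F513811 : act 5 n222363 = n202599 := d12_1 D222363 (iv6 F482443) F482442 (iv6 F462096) F422081
theorem F513812 : act 7 n222363 = n211149 := d14_2 (iv7 F411852) D222363 F460334 (iv7 F391819) (iv6 F411499)
theorem F513813 : act 0 n222363 = n211662 := d21_4 F457028 F422082 F422081 D222363 F462561 (iv5 D192068) F351908 (iv5 F366827) F366828 F457031
def n222364 : Q := act 6 n199369
theorem D222364 : act 6 n199369 = n222364 := rfl
theorem F513814 : act 2 n222364 = n209430 := d3_1 D222364 (iv6 D209430) (iv2 F411881)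
theorem F513815 : act 3 n222364 = n210469 := d7_1 D222364 (iv6 D210469) (iv3 F411885)
theorem F513816 : act 4 n222364 = n199370 := d10_1 D222364 (iv6 D199370) D199369
theorem F513817 : act 5 n222364 = n211204 := d12_1 D222364 (iv6 D211204) D211203 F460596 F453494
theorem F513818 : act 7 n222364 = n209458 := d14_2 (iv7 F411882) D222364 F493551 F426804 (iv6 F386802)
theorem F513819 : act 0 n222364 = n209151 := d21_4 (iv5 F453736) (iv1 F453739) F453494 D222364 F452474 F384225 F488265 F488261 F385367 (iv1 F445875)
theorem F513820 : act 0 n209459 = n222364 := d21_4 (iv5 F467761) (iv1 F467764) (iv5 F510454) (iv6 F510457) (iv6 D222364) (iv5 F453494) (iv1 D209383) (iv5 D136378) (iv6 F328879) D204259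
def n222365 : Q := act 6 n199371
theorem D222365 : act 6 n199371 = n222365 := rfl
theorem F513821 : act 2 n222365 = n210461 := d3_1 D222365 (iv6 D210461) (iv2 F411887)
theorem F513822 : act 3 n222365 = n199372 := d7_1 D222365 (iv6 D199372) D199371
theorem F513823 : act 4 n222365 = n210469 := d10_1 D222365 (iv6 D210469) (iv4 F411888)
theorem F513824 : act 0 n222365 = n210194 := d21_4 F414637 F403673 (iv5 F411889) D222365 (iv6 D210194) (iv5 F403897) (iv1 F463702) F463699 (iv6 F385480) F414639
def n222366 : Q := act 1 n199372
theorem D222366 : act 1 n199372 = n222366 := rfl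
theorem F513825 : act 1 n222366 = n219901 := d15_1 D222366 F501109 (iv2 F411893)
theorem F513826 : act 7 n222366 = n221821 := d15_2 (iv0 F510701) D222366 (iv2 F510942)
theorem F513827 : act 4 n219851 = n222366 := d20_0 (iv1 D222366) F411894 (iv3 F411886) (iv1 F493590) (iv3 D218377) F375960 F242705 (iv4 F353758) (iv3 F386696) F500892
theorem F513828 : act 3 n209887 = n222366 := d20_3 F403981 (iv1 F472491) (iv4 F472494) (iv1 D222366) (iv3 F513822) F513823 F510760 (iv4 D221770) F472934 (iv1 F472945)
theorem F513829 : act 6 n219850 = n222366 := d21_3 (iv5 F507137) (iv1 F507140) (iv5 F500886) (iv1 D222366) (iv6 D199372) (iv5 F356564) F354250 (iv5 F366393) D214065 F473308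
theorem F513830 : act 2 n222366 = n219857 := d3_1 F513829 (iv6 D219857) (iv2 F500885)
def n222367 : Q := act 5 n199372
theorem D222367 : act 5 n199372 = n222367 := rfl
theorem F513831 : act 2 n222367 = n221841 := d2_1 D222367 (iv5 D221841) (iv2 F411893)
theorem F513832 : act 6 n222367 = n216989 := d12_2 D199372 D222367 F486887 (iv6 D197235) F356564
theorem F513833 : act 4 n216239 = n222367 := d10_3 F513832 (iv4 D216989) F483443
def n222368 : Q := act 7 n199372
theorem D222368 : act 7 n199372 = n222368 := rfl
theorem F513834 : act 2 n222368 = n219901 := d4_1 D222368 F501109 (iv2 F411893)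
theorem F513835 : act 4 n222368 = n199379 := d11_1 D222368 (iv7 D199379) (iv4 F411894)
theorem F513836 : act 6 n222368 = n219643 := d14_1 D222368 F499817 F411901 (iv7 D199373) D199372
theorem F513837 : act 1 n219857 = n222368 := d15_1 (iv0 F500917) (iv7 D222368) F411893
theorem F513838 : act 1 n222368 = n221821 := d15_1 F513837 (iv7 F513826) F513830
def n222369 : Q := act 5 n199376
theorem D222369 : act 5 n199376 = n222369 := rfl
theorem F513839 : act 2 n222369 = n222351 := d2_1 D222369 (iv5 D222351) F425013
theorem F513840 : act 3 n222369 = n217275 := d6_1 D222369 F488229 F425014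
theorem F513841 : act 1 n222369 = n222028 := d17_6 D221070 F507084 F510955 F510954 F463689 D222369 (iv5 D222028) (iv0 D198062) (iv4 F396791)
theorem F513842 : act 0 n222369 = n222031 := d21_1 D222369 (iv5 D222031) (iv6 F457166) (iv1 D208721) F217188 (iv5 F329114) (iv1 F356566) (iv5 D111244) D111245 D199376
def n222370 : Q := act 4 n199378
theorem D222370 : act 4 n199378 = n222370 := rfl
theorem F513843 : act 6 n222370 = n219794 := d10_2 (iv6 F411909) D222370 (iv4 D219794)
theorem F513844 : act 3 n222370 = n213183 := d19_3 F425015 D199378 D222370 (iv1 D213183) D213184 (iv4 F469365) (iv3 D192822) D192821 F387904 F172371 F167677 F111577 (iv5 F337416) (iv4 D140487) (iv3 F168562) F168565 F79769 D65102 D138647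
theorem F513845 : act 0 n222370 = n216642 := d20_1 D222370 F485311 (iv3 F485108) (iv1 F387911) F369079 (iv4 F457997) (iv1 F457999) F457432 (iv3 F512000) (iv1 F512003)
def n222371 : Q := act 5 n199384
theorem D222371 : act 5 n199384 = n222371 := rfl
theorem F513846 : act 2 n222371 = n212690 := d2_1 D222371 (iv5 D212690) (iv2 F411915)
theorem F513847 : act 3 n222371 = n199385 := d6_1 D222371 (iv5 D199385) (iv3 F411916)
theorem F513848 : act 7 n222371 = n212692 := d13_2 F411918 D222371 (iv5 D212692)
theorem F513849 : act 0 n222371 = n222231 := d17_2 F461015 D222371 F513052 F424644 F382022 F409858 F409856 F463791 F463787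
theorem F513850 : act 1 n222371 = n217130 := d17_6 (iv1 F425517) (iv5 F382018) (iv1 D191054) (iv5 F347934) (iv4 F411917) D222371 F487577 F470965 F470963
def n222372 : Q := act 4 n199394
theorem D222372 : act 4 n199394 = n222372 := rfl
theorem F513851 : act 2 n222372 = n199597 := d1_1 D222372 (iv4 D199597) F411964
theorem F513852 : act 3 n222372 = n213019 := d5_1 D222372 F468617 F466645 (iv4 F412801) (iv3 F412799)
theorem F513853 : act 7 n222372 = n199595 := d11_2 F411965 D222372 (iv4 D199595)
theorem F513854 : act 0 n222372 = n213094 := d17_0 (iv5 D213094) (iv1 F468980) (iv5 F468982) (iv4 F412042) (iv5 F232083) F172598 D111464 F411963 D222372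
theorem F513855 : act 1 n222372 = n213015 := d18_8 F454122 F454119 F474986 F474981 (iv5 F453761) (iv4 D199592) F411963 D222372 F468600
theorem F513856 : act 6 n222372 = n216907 := d21_5 F451465 F367421 F317517 D213015 (iv1 F513855) F486496 F500803 F500802 (iv6 D208933) D208932
def n222373 : Q := act 6 n199394
theorem D222373 : act 6 n199394 = n222373 := rfl
theorem F513857 : act 2 n222373 = n199598 := d3_1 D222373 (iv6 D199598) F411964
theorem F513858 : act 3 n222373 = n218272 := d7_1 D222373 (iv6 D218272) (iv3 F412799)
theorem F513859 : act 4 n222373 = n216907 := d10_1 D222373 (iv6 F513856) (iv4 D222372)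
theorem F513860 : act 5 n222373 = n221285 := d12_1 D222373 (iv6 D221285) F412032 (iv6 D199407) (iv5 F411962)
theorem F513861 : act 0 n222373 = n212142 := d21_4 (iv5 D111299) D111296 (iv5 F411962) D222373 (iv6 F510167) (iv5 D221663) F456441 (iv5 F454772) (iv6 D199589) (iv1 F232084)
def n222374 : Q := act 4 n199395
theorem D222374 : act 4 n199395 = n222374 := rfl
theorem F513862 : act 2 n222374 = n199595 := d1_1 D222374 (iv4 D199595) F411970
theorem F513863 : act 6 n222374 = n219589 := d10_2 F431493 D222374 (iv4 F499592)
theorem F513864 : act 7 n222374 = n199597 := d11_2 (iv7 F411967) D222374 (iv4 D199597)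
theorem F513865 : act 0 n222374 = n213015 := d17_0 F468600 F454122 (iv5 F454121) F412781 F232076 (iv0 D111271) D111274 D199395 D222374
theorem F513866 : act 1 n222374 = n213094 := d18_8 (iv1 F468980) (iv4 F468981) (iv1 F431407) (iv4 F431403) F431404 (iv4 D199396) D199395 D222374 (iv5 D213094)
def n222375 : Q := act 5 n199409
theorem D222375 : act 5 n199409 = n222375 := rfl
theorem F513867 : act 2 n222375 = n216561 := d2_1 D222375 (iv5 F491680) (iv2 F491682)
theorem F513868 : act 3 n222375 = n202649 := d6_1 D222375 (iv5 D202649) (iv3 F412043)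
theorem F513869 : act 4 n222375 = n201483 := d9_1 D222375 (iv5 D201483) F347808 (iv5 F347812) F173076 D111568 D199657 (iv5 F413031) (iv4 F420670) (iv5 D201481) F347804 (iv5 F347796) F166882 D111299 D199409
theorem F513870 : act 7 n222375 = n199662 := d13_2 (iv7 F412044) D222375 (iv5 D199662)
theorem F513871 : act 1 n222375 = n213087 := d17_6 (iv1 F411966) F411968 (iv1 D111297) D111299 D199409 D222375 F468948 (iv0 F413263) (iv4 D199592)
theorem F513872 : act 0 n222375 = n211365 := d18_0 F461302 (iv1 D152495) D152496 F363655 (iv4 F384629) (iv0 F468992) (iv4 D213096) (iv0 F412045) D222375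
theorem F513873 : act 6 n222375 = n216563 := d21_3 (iv5 F491687) (iv1 F491691) D222375 (iv1 F484957) F431325 (iv5 D123097) D123095 F305153 (iv6 F364656) (iv1 F413403)
def n222376 : Q := act 1 n199413
theorem D222376 : act 1 n199413 = n222376 := rfl
theorem F513874 : act 4 n222376 = n215264 := d17_9 F508876 F508873 (iv1 D203974) D203976 F430676 (iv5 F394361) (iv0 F497531) F497530 D222376
theorem F513875 : act 2 n215265 = n222376 := d1_3 F513874 (iv2 D215264) D215265
def n222377 : Q := act 0 n199420
theorem D222377 : act 0 n199420 = n222377 := rfl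
theorem F513876 : act 4 n222377 = n214331 := d18_1 D222377 F474609 F429973 (iv5 F429438) (iv4 F429441) D215709 (iv4 F511765) F511769 (iv5 F412112)
theorem F513877 : act 3 n222377 = n216090 := d20_5 (iv4 F81276) D111663 F173226 D199420 D222377 (iv4 D216090) (iv1 F327468) (iv4 F173136) (iv3 D111595) F168440
theorem F513878 : act 6 n222377 = n199644 := d21_5 (iv5 F404876) F410735 D214135 F473646 D222377 (iv5 F430769) (iv1 F430771) (iv5 D174145) F334708 (iv1 F277901)
theorem F513879 : act 2 n199674 = n222377 := d15_3 (iv0 D222377) F433423 (iv7 F430990)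
theorem F513880 : act 1 n199675 = n222377 := d15_0 (iv0 D222377) F412113 D199675
theorem F513881 : act 7 n222377 = n199611 := d15_2 (iv0 F430989) F513880 F430988
def n222378 : Q := act 3 n199421
theorem D222378 : act 3 n199421 = n222378 := rfl
theorem F513882 : act 2 n222378 = n218288 := d0_1 D222378 (iv3 F496269) F413091 (iv3 D199677) (iv2 F412114)
theorem F513883 : act 5 n222378 = n199444 := d6_2 (iv5 F412115) D222378 F412229
theorem F513884 : act 6 n222378 = n199447 := d7_2 (iv6 F412116) D222378 F412231
theorem F513885 : act 7 n222378 = n204720 := d8_2 (iv7 F412117) D222378 F433392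
theorem F513886 : act 0 n222378 = n218241 := d20_4 F413065 F405497 D199421 D222378 F492910 F461361 (iv1 F381451) (iv4 F394363) (iv3 F394368) (iv1 F413063)
theorem F513887 : act 1 n222378 = n218181 := d15_1 (iv0 F513886) (iv7 F496267) F496263
def n222379 : Q := act 5 n199424
theorem D222379 : act 5 n199424 = n222379 := rfl
theorem F513888 : act 2 n222379 = n222304 := d2_1 D222379 (iv5 D222304) F412124
theorem F513889 : act 3 n222379 = n199426 := d6_1 D222379 (iv5 D199426) D199424
theorem F513890 : act 6 n222379 = n221636 := d12_2 F412125 D222379 F510021 (iv6 D199113) D199112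
theorem F513891 : act 7 n222379 = n199724 := d13_2 F412126 D222379 (iv5 D199724)
theorem F513892 : act 4 n222379 = n199600 := d16_2 (iv4 F412123) D222379 F412805 (iv4 F448128) (iv5 D208150) (iv4 F403009) F403010 (iv7 F403521) F403520
theorem F513893 : act 0 n222379 = n199474 := d17_2 F465936 D222379 F468932 F468927 (iv5 F425329) (iv0 D202735) (iv5 F339254) F339251 D212467
def n222380 : Q := act 5 n199428
theorem D222380 : act 5 n199428 = n222380 := rfl
theorem F513894 : act 2 n222380 = n199727 := d2_1 D222380 (iv5 D199727) (iv2 F412149)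
theorem F513895 : act 3 n222380 = n200521 := d6_1 D222380 F416843 (iv3 F412153)
theorem F513896 : act 4 n222380 = n205234 := d9_1 D222380 F435546 F287867 (iv5 F407516) (iv4 F412142) (iv5 D199426) D199425 F436171 F436170 F416959 (iv4 F482718) F482719 (iv4 F412159) (iv5 D199429) D199428
theorem F513897 : act 7 n222380 = n199729 := d13_2 (iv7 F412151) D222380 (iv5 D199729)
theorem F513898 : act 0 n222380 = n205372 := d17_2 F412154 D222380 F436122 (iv4 F409183) F409184 F414755 (iv5 D200044) F409228 F409224
theorem F513899 : act 1 n222380 = n200524 := d17_6 (iv1 F410327) F410325 (iv1 F412158) (iv5 D199429) D199428 D222380 (iv5 F455821) (iv0 F455824) (iv4 F361647)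
def n222381 : Q := act 5 n199436
theorem D222381 : act 5 n199436 = n222381 := rfl
theorem F513900 : act 3 n222381 = n199437 := d6_1 D222381 (iv5 D199437) D199436
theorem F513901 : act 6 n222381 = n205123 := d12_2 F412190 D222381 (iv5 D205123) (iv6 D125503) D125502
theorem F513902 : act 7 n222381 = n199699 := d13_2 (iv7 F412189) D222381 (iv5 D199699)
theorem F513903 : act 4 n222381 = n218604 := d16_2 F466306 D222381 F494711 F470963 F425514 (iv4 F368750) (iv5 F461877) F461878 (iv2 F466305)
theorem F513904 : act 0 n222381 = n218176 := d17_2 (iv1 F414298) D222381 (iv5 F492534) (iv4 D199839) F204862 (iv0 F204861) F173664 D112101 (iv4 F174289)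
theorem F513905 : act 1 n222381 = n199471 := d17_6 F382012 D214963 F477661 (iv5 F466307) F466306 D222381 (iv5 F413764) (iv0 F498129) (iv4 D219287)
def n222382 : Q := act 6 n199437
theorem D222382 : act 6 n199437 = n222382 := rfl
theorem F513906 : act 2 n222382 = n199696 := d3_1 D222382 (iv6 D199696) (iv2 F412191)
theorem F513907 : act 3 n222382 = n205123 := d7_1 D222382 (iv6 F513901) F513900
theorem F513908 : act 4 n222382 = n218172 := d10_1 D222382 (iv6 D218172) F412194
theorem F513909 : act 5 n222382 = n205113 := d12_1 D222382 (iv6 D205113) F412200 (iv6 D199438) D199437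
theorem F513910 : act 0 n222382 = n199808 := d21_4 (iv5 D111613) (iv1 F172773) D199437 D222382 (iv6 F509562) (iv5 D221552) (iv1 F493038) (iv5 D218266) F412225 (iv1 F412211)
theorem F513911 : act 0 n214793 = n222382 := d17_2 F346563 D214793 F513909 (iv4 F482333) F482334 (iv0 F464888) F249568 D174602 (iv4 F346559)
def n222383 : Q := act 6 n199439
theorem D222383 : act 6 n199439 = n222383 := rfl
theorem F513912 : act 2 n222383 = n199444 := d3_1 D222383 (iv6 D199444) (iv2 F412202)
theorem F513913 : act 3 n222383 = n199735 := d7_1 D222383 (iv6 D199735) (iv3 F412203)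
theorem F513914 : act 4 n222383 = n216368 := d10_1 D222383 F484037 F419923
theorem F513915 : act 0 n222383 = n218346 := d21_4 (iv5 D111605) (iv1 F172772) D199439 D222383 F493433 F490922 (iv1 F377006) F364225 (iv6 D111726) (iv1 F387850)
theorem F513916 : act 5 n222383 = n218288 := d21_6 F242890 (iv1 D154710) D154712 F412065 (iv1 F412205) D222383 (iv1 F496268) F496265 (iv6 D201307) (iv1 F178146)
theorem F513917 : act 0 n218257 = n222383 := d21_4 D199798 (iv1 F492989) (iv5 D218256) D218257 (iv6 D222383) (iv5 D199439) (iv1 F172774) D111610 D199701 F413171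
def n222384 : Q := act 5 n199440
theorem D222384 : act 5 n199440 = n222384 := rfl
theorem F513918 : act 2 n222384 = n199447 := d2_1 D222384 (iv5 D199447) (iv2 F412207)
theorem F513919 : act 3 n222384 = n199738 := d6_1 D222384 (iv5 D199738) (iv3 F412208)
theorem F513920 : act 6 n222384 = n218288 := d12_2 D199440 D222384 (iv5 F513916) (iv6 D222383) (iv5 D199439)
theorem F513921 : act 7 n222384 = n215294 := d13_2 F412210 D222384 (iv5 D215294)
theorem F513922 : act 1 n222384 = n218819 := d17_6 (iv1 D158032) (iv5 F142018) D188510 F390830 (iv4 F412209) D222384 F495795 (iv0 F433319) F400147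
theorem F513923 : act 4 n222384 = n218817 := d18_5 (iv1 D160294) F115364 D158003 (iv4 F412209) D222384 (iv0 D218817) F382752 (iv0 F475995) (iv5 D214600)
def n222385 : Q := act 0 n199444
theorem D222385 : act 0 n199444 = n222385 := rfl
theorem F513924 : act 5 n222385 = n221995 := d17_1 D222385 (iv1 F511810) F476934 (iv4 F471639) (iv5 F490957) (iv0 D217858) D217859 F490962 F490833
theorem F513925 : act 4 n222385 = n217770 := d18_3 F490834 F490833 D222385 (iv5 D217770) (iv4 F490524) F511262 F511258 (iv0 F490879) (iv5 F489683)
theorem F513926 : act 3 n222385 = n199746 := d20_5 (iv4 F357728) (iv1 F343842) F215929 (iv3 F412229) D222385 (iv4 F473619) F473620 (iv4 F506030) F506029 (iv1 F409244)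
theorem F513927 : act 6 n222385 = n204221 := d21_5 (iv5 D199437) (iv1 D111327) D111329 D199444 D222385 (iv5 F470674) F470677 F413458 (iv6 D199778) (iv1 F412195)
theorem F513928 : act 2 n218346 = n222385 := d15_3 (iv0 D222385) (iv0 F487580) (iv7 F493434)
theorem F513929 : act 7 n222385 = n218257 := d4_2 (iv7 F493434) F513928 F492992
def n222386 : Q := act 5 n199446
theorem D222386 : act 5 n199446 = n222386 := rfl
theorem F513930 : act 2 n222386 = n222067 := d2_1 D222386 (iv5 D222067) F429423
theorem F513931 : act 3 n222386 = n219248 := d6_1 D222386 F497929 (iv3 F476315)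
theorem F513932 : act 6 n222386 = n219247 := d12_2 (iv6 F429424) D222386 (iv5 F513700) (iv6 D222342) (iv5 F411337)
theorem F513933 : act 0 n222386 = n221391 := d17_2 (iv1 F412230) D222386 (iv5 D221391) F400147 (iv5 F365634) F270256 (iv5 F248917) F248919 D172097
def n222387 : Q := act 0 n199447
theorem D222387 : act 0 n199447 = n222387 := rfl
theorem F513934 : act 4 n222387 = n214810 := d20_2 (iv4 F497523) D222387 F476960 F408926 F408182 (iv4 F381664) (iv1 F381663) F377140 (iv3 F381660) (iv1 F497524)
theorem F513935 : act 3 n222387 = n203691 := d20_5 D197938 F412110 F412105 (iv3 F412231) D222387 (iv4 F429428) (iv1 F474446) F474448 F433407 (iv1 F362790)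
theorem F513936 : act 6 n222387 = n214800 := d21_5 F511813 F487580 (iv5 F513883) F513884 D222387 (iv5 D214800) (iv1 D162611) D162613 D214804 F511815
theorem F513937 : act 1 n215294 = n222387 := d15_0 (iv0 D222387) F475965 (iv2 F479261)
theorem F513938 : act 5 n222387 = n214626 := d17_7 (iv1 D164075) F293691 D94363 (iv5 F377571) D172097 D215294 F513937 (iv0 F476106) F413933
theorem F513939 : act 7 n218819 = n222387 := d13_0 F513938 F476105 (iv5 F495795)
def n222388 : Q := act 1 n199447
theorem D222388 : act 1 n199447 = n222388 := rfl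
theorem F513940 : act 1 n222388 = n215294 := d15_1 D222388 (iv7 F513921) F513918
theorem F513941 : act 5 n222388 = n215653 := d17_7 (iv1 F258569) (iv5 F373775) (iv1 F373779) F377568 (iv4 F365620) D199447 D222388 (iv0 F480977) (iv4 D214954)
theorem F513942 : act 4 n218914 = n222388 := d20_6 (iv4 F471646) F471649 (iv4 D194766) D194765 (iv1 F443930) (iv3 F496176) (iv1 D222388) F497523 (iv3 D219165) (iv1 F381450)
theorem F513943 : act 6 n218809 = n222388 := d21_3 F495702 (iv1 F490709) (iv5 F495743) (iv1 D222388) (iv6 F513884) F513883 D222385 F513924 (iv6 F511811) (iv1 F495706)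
theorem F513944 : act 2 n222388 = n218819 := d3_1 F513943 (iv6 D218819) F495749
def n222389 : Q := act 3 n199449
theorem D222389 : act 3 n199449 = n222389 := rfl
theorem F513945 : act 2 n222389 = n199756 := d0_1 D222389 (iv3 D199756) (iv2 F412252) F412253 F412245
theorem F513946 : act 5 n222389 = n221994 := d6_2 (iv5 F412244) D222389 (iv3 D221994)
theorem F513947 : act 6 n222389 = n203797 := d7_2 (iv6 F412242) D222389 (iv3 D203797)
theorem F513948 : act 7 n222389 = n199756 := d8_2 F412246 D222389 (iv3 D199756)
theorem F513949 : act 0 n222389 = n199468 := d20_4 F172729 (iv1 F350354) (iv4 F412241) D222389 F412313 (iv4 D191870) (iv1 F367086) D216898 F486461 (iv1 D199418)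
theorem F513950 : act 0 n199468 = n222389 := d20_4 (iv4 D216897) (iv1 F367085) D191870 (iv3 F412313) (iv3 D222389) F412241 F350353 (iv4 F173116) (iv3 F413047) (iv1 F486459)
def n222390 : Q := act 5 n199451
theorem D222390 : act 5 n199451 = n222390 := rfl
theorem F513951 : act 2 n222390 = n219633 := d2_1 D222390 F499769 F465932
theorem F513952 : act 3 n222390 = n199452 := d6_1 D222390 (iv5 D199452) D199451
theorem F513953 : act 4 n222390 = n212340 := d9_1 D222390 (iv5 F465396) (iv4 D152508) (iv5 D71933) D71932 F336472 (iv4 F253653) F384630 F384629 (iv5 F363655) (iv4 D152496) (iv5 D71928) D71927 (iv5 F341252) (iv4 F412257)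
theorem F513954 : act 6 n222390 = n199456 := d12_2 F430086 D222390 (iv5 D199456) D199457 F430089
theorem F513955 : act 7 n222390 = n199465 := d13_2 (iv7 F412255) D222390 (iv5 D199465)
theorem F513956 : act 0 n222390 = n213096 := d17_2 F412258 D222390 F468991 (iv4 D199575) F351725 F321006 (iv5 F347796) D197206 (iv4 F403523)
theorem F513957 : act 1 n222390 = n199744 := d17_6 F232077 (iv5 D148241) (iv1 F321178) (iv5 F341252) (iv4 F412257) D222390 F413340 (iv0 F465930) (iv4 D212466)
def n222391 : Q := act 5 n199455
theorem D222391 : act 5 n199455 = n222391 := rfl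
theorem F513958 : act 2 n222391 = n199699 := d2_1 D222391 (iv5 D199699) (iv2 F412269)
theorem F513959 : act 3 n222391 = n199759 := d6_1 D222391 (iv5 D199759) F412268
theorem F513960 : act 4 n222391 = n203703 := d9_1 D222391 (iv5 D203703) (iv4 F248334) (iv5 F357688) D212248 (iv5 F466307) F466306 D222381 F513903 F494711 F470963 F425514 (iv4 F368750) (iv5 F461877) F461876
theorem F513961 : act 6 n222391 = n203704 := d12_2 (iv6 F412270) D222391 (iv5 F451307) F511538 (iv5 D221943)
theorem F513962 : act 0 n222391 = n199471 := d17_2 (iv1 F414296) D222391 (iv5 F413764) (iv4 D199841) (iv5 F248414) F397359 F397355 F174288 D199950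
theorem F513963 : act 1 n222391 = n218176 := d17_6 (iv1 F382074) F379117 F461880 (iv5 F461877) F461876 D222391 (iv5 F492534) F460167 F460162
def n222392 : Q := act 1 n199456
theorem D222392 : act 1 n199456 = n222392 := rfl
theorem F513964 : act 1 n222392 = n217018 := d15_1 D222392 (iv7 F512924) F512921
theorem F513965 : act 5 n222392 = n200592 := d17_7 (iv1 F173618) (iv5 F354568) (iv1 F380536) F380534 (iv4 F174289) D199456 D222392 F417106 (iv4 D198533)
theorem F513966 : act 4 n222392 = n222371 := d17_9 F513849 F513052 (iv1 F470966) (iv5 F494711) (iv4 F513903) (iv5 D222381) F414298 D199456 D222392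
theorem F513967 : act 3 n199761 = n222392 := d19_19 (iv1 D222392) (iv5 D199456) F174289 F407205 (iv1 D198199) D198201 F407211 F373187 (iv1 F370345) (iv5 F429682) F429681 F357499 D188139 (iv5 F400187) (iv4 D196281) (iv3 F219089) (iv1 F345472) D193254 (iv4 F413377)
theorem F513968 : act 2 n222392 = n199711 := d0_1 F513967 (iv3 D199711) (iv2 F412219) (iv3 F471666) F471665
def n222393 : Q := act 4 n199459
theorem D222393 : act 4 n199459 = n222393 := rfl
theorem F513969 : act 2 n222393 = n199719 := d1_1 D222393 (iv4 D199719) F412285
theorem F513970 : act 3 n222393 = n206918 := d5_1 D222393 F442608 (iv3 F384896) F384897 (iv3 F412286)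
theorem F513971 : act 6 n222393 = n206916 := d10_2 F499885 D222393 (iv4 F499883)
theorem F513972 : act 0 n222393 = n221948 := d18_2 D199459 D222393 (iv4 D221948) (iv5 D197802) (iv4 D108674) (iv0 F330487) (iv4 F330492) F170398 D111337
theorem F513973 : act 1 n222393 = n221201 := d18_6 (iv1 F406131) (iv4 D197856) (iv1 F345340) (iv4 F409167) (iv5 F412284) D222393 F507709 (iv0 F412893) F412890
def n222394 : Q := act 0 n199460
theorem D222394 : act 0 n199460 = n222394 := rfl
theorem F513974 : act 5 n222394 = n206930 := d17_1 D222394 (iv1 F442638) (iv5 F513383) (iv4 D222290) F410542 F409171 (iv5 F412284) (iv0 D199459) D199460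
theorem F513975 : act 4 n222394 = n199540 := d18_3 F402076 D199460 D222394 (iv5 D199540) F406127 (iv0 F412350) (iv4 D199487) (iv0 D111360) D111363
theorem F513976 : act 3 n222394 = n220146 := d20_5 F418905 (iv1 D146787) D146788 (iv3 F412287) D222394 F502357 (iv1 F406024) D221960 F511619 (iv1 F418907)
theorem F513977 : act 2 n206931 = n222394 := d15_3 (iv0 D222394) (iv0 F438677) (iv7 F442640)
theorem F513978 : act 6 n222394 = n213717 := d3_2 F490860 F513977 (iv2 F490857)
theorem F513979 : act 0 n222394 = n199467 := d21_10 (iv5 F465003) (iv1 F465447) (iv5 F511873) F511874 (iv1 D221386) (iv6 F489539) (iv5 D217568) (iv1 F375105) (iv5 F471772) (iv6 F513978)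
def n222395 : Q := act 7 n199460
theorem D222395 : act 7 n199460 = n222395 := rfl
theorem F513980 : act 2 n222395 = n199467 := d4_1 D222395 F465000 F464996
theorem F513981 : act 3 n222395 = n200913 := d8_1 D222395 F418378 (iv3 F412287)
theorem F513982 : act 4 n222395 = n199461 := d11_1 D222395 (iv7 D199461) D199460
theorem F513983 : act 5 n222395 = n200912 := d13_1 D222395 F418375 (iv5 F412288)
theorem F513984 : act 0 n206931 = n222395 := d17_2 (iv1 F442407) D206931 F513983 (iv4 F418712) F418713 F178419 D151254 (iv0 F405875) (iv4 F442404)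
theorem F513985 : act 6 n219627 = n222395 := d7_0 F513981 (iv6 F418381) D219627
def n222396 : Q := act 6 n199461
theorem D222396 : act 6 n199461 = n222396 := rfl
theorem F513986 : act 2 n222396 = n199468 := d3_1 D222396 (iv6 D199468) (iv2 F412289)
theorem F513987 : act 3 n222396 = n217016 := d7_1 D222396 F512932 F512928
theorem F513988 : act 4 n222396 = n219627 := d10_1 D222396 F513985 F513982
theorem F513989 : act 7 n222396 = n199468 := d14_2 D199461 D222396 (iv6 D199468) (iv7 F412260) (iv6 F412262)
theorem F513990 : act 0 n222396 = n199756 := d21_4 F171820 (iv1 F361210) (iv5 F412290) D222396 F446112 (iv5 F467914) (iv1 F467916) (iv5 F482647) (iv6 F482650) (iv1 D199073)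
theorem F513991 : act 0 n199756 = n222396 := d21_4 (iv5 F508322) (iv1 F508327) F467914 (iv6 F446112) (iv6 D222396) F412290 F361209 D111346 (iv6 F364122) D216044
def n222397 : Q := act 5 n199464
theorem D222397 : act 5 n199464 = n222397 := rfl
theorem F513992 : act 2 n222397 = n199724 := d2_1 D222397 (iv5 D199724) F412302
theorem F513993 : act 3 n222397 = n199758 := d6_1 D222397 (iv5 D199758) (iv3 F412303)
theorem F513994 : act 4 n222397 = n199599 := d9_1 D222397 (iv5 F412810) (iv4 F419988) F419989 (iv4 F342076) F342074 (iv4 F412123) D222379 F513892 F412805 (iv4 F448128) (iv5 D208150) (iv4 F403009) F403010 (iv4 F412301)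
theorem F513995 : act 7 n222397 = n222304 := d13_2 (iv7 F412305) D222397 (iv5 D222304)
theorem F513996 : act 1 n222397 = n199474 := d17_6 F347817 D111443 F403011 F403010 (iv4 F412301) D222397 F468932 (iv0 D213084) (iv4 D152484)
theorem F513997 : act 6 n222397 = n218281 := d21_3 (iv5 D199465) D199464 D222397 F493093 F472086 (iv5 D213786) (iv1 D155834) D155836 D213792 F472113
def n222398 : Q := act 3 n199467
theorem D222398 : act 3 n199467 = n222398 := rfl
theorem F513998 : act 2 n222398 = n212335 := d0_1 D222398 F465365 (iv2 F418376) (iv3 F513981) F513980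
theorem F513999 : act 4 n222398 = n212350 := d5_2 D199467 D222398 F465431 F412308 F412307
theorem F514000 : act 5 n222398 = n212334 := d6_2 F465003 D222398 F465362
theorem F514001 : act 7 n222398 = n212346 := d8_2 (iv7 F465000) D222398 F465416
theorem F514002 : act 6 n217019 = n222398 := d14_5 F514001 (iv6 D212346) (iv7 F418378) (iv6 F418381) (iv7 F487010)
def n222399 : Q := act 6 n199467
theorem D222399 : act 6 n199467 = n222399 := rfl
theorem F514003 : act 2 n222399 = n219627 := d3_1 D222399 F513985 F513980
theorem F514004 : act 3 n222399 = n217019 := d7_1 D222399 F514002 (iv3 D222398)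
theorem F514005 : act 4 n222399 = n199468 := d10_1 D222399 (iv6 D199468) D199467
theorem F514006 : act 7 n222399 = n219627 := d14_2 (iv7 F465000) D222399 F513985 (iv7 D222395) (iv6 F464997)
def n222400 : Q := act 5 n199468
theorem D222400 : act 5 n199468 = n222400 := rfl
theorem F514007 : act 3 n222400 = n205079 := d6_1 D222400 F434898 (iv3 F412313)
theorem F514008 : act 6 n222400 = n199469 := d12_2 D199468 D222400 (iv5 D199469) (iv6 D111343) D111342
def n222401 : Q := act 4 n199469
theorem D222401 : act 4 n199469 = n222401 := rfl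
theorem F514009 : act 3 n222401 = n219612 := d5_1 D222401 F499678 F498259 (iv4 D205078) (iv3 F412314)
theorem F514010 : act 5 n222401 = n218260 := d16_3 F412311 D199469 D222401 F493007 F375078 (iv4 F401159) (iv5 F401163) (iv7 F439849) F439846
theorem F514011 : act 0 n222401 = n221482 := d18_2 F433281 D222401 (iv4 D221482) (iv5 D196492) F164973 D157165 F380718 (iv0 F281219) D204696
def n222402 : Q := act 2 n199474
theorem D222402 : act 2 n199474 = n222402 := rfl
theorem F514012 : act 3 n222402 = n218176 := d0_2 D199474 D222402 F492532 F465754 F411947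
theorem F514013 : act 4 n222402 = n217952 := d1_2 F468986 D222402 F491394
theorem F514014 : act 5 n222402 = n212508 := d2_2 (iv5 F468932) D222402 F468929
theorem F514015 : act 6 n222402 = n213681 := d3_2 (iv6 F471614) D222402 F471606
theorem F514016 : act 1 n222402 = n222304 := d15_0 F513471 F513378 D222402
theorem F514017 : act 1 n199724 = n222402 := d15_0 F514016 (iv7 F513995) F513992
def n222403 : Q := act 3 n199475
theorem D222403 : act 3 n199475 = n222403 := rfl
theorem F514018 : act 2 n222403 = n212622 := d0_1 D222403 (iv3 D212622) (iv2 F231959) (iv3 F465649) F465648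
theorem F514019 : act 5 n222403 = n212650 := d6_2 F442405 D222403 F466878
theorem F514020 : act 6 n222403 = n217838 := d7_2 F412360 D222403 F490861
theorem F514021 : act 7 n222403 = n207988 := d8_2 F513385 D222403 (iv3 F513382)
def n222404 : Q := act 1 n199476
theorem D222404 : act 1 n199476 = n222404 := rfl
theorem F514022 : act 1 n222404 = n217830 := d15_1 D222404 F490827 (iv2 F412357)
theorem F514023 : act 7 n222404 = n219017 := d15_2 (iv0 F457532) D222404 F496700
theorem F514024 : act 5 n222404 = n202470 := d17_7 (iv1 F372075) (iv5 D188009) (iv1 F139632) D103233 D194338 F412358 D222404 F424137 (iv4 D194251)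
theorem F514025 : act 4 n222404 = n201759 := d17_9 (iv1 D201759) (iv5 F179166) F372184 (iv5 F421792) F424145 F424143 (iv0 F392872) F412358 D222404
theorem F514026 : act 3 n199769 = n222404 := d19_19 (iv1 D222404) (iv5 F412358) (iv4 D194338) (iv3 F386677) F386680 F367031 D191157 F382431 (iv1 D183170) (iv5 F135058) D184688 (iv3 F428174) (iv1 F428176) D220342 F503288 F480688 F458514 (iv5 D210707) F413414
theorem F514027 : act 6 n199786 = n222404 := d21_3 F510384 (iv1 F415137) (iv5 F413505) (iv1 D222404) (iv6 D199476) F411953 (iv1 D199391) (iv5 F173197) D199720 F510387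
theorem F514028 : act 2 n222404 = n199786 := d0_1 F514026 (iv3 D199786) F337428 D210436 (iv2 F457528)
def n222405 : Q := act 5 n199477
theorem D222405 : act 5 n199477 = n222405 := rfl
theorem F514029 : act 3 n222405 = n206924 := d6_1 D222405 (iv5 F506724) (iv3 F506726)
theorem F514030 : act 6 n222405 = n209351 := d12_2 (iv6 F446020) D222405 (iv5 D209351) (iv6 D136338) D136337
theorem F514031 : act 4 n222405 = n207264 := d16_2 F513441 D222405 (iv5 F444044) (iv4 D197812) F405456 (iv4 F412441) (iv5 F513429) (iv7 F513435) (iv2 F513440)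
theorem F514032 : act 1 n222405 = n212889 := d17_8 (iv1 F426300) F426297 (iv1 D197815) D197816 (iv4 F507703) F507704 F443127 D222405 (iv4 D212889)
theorem F514033 : act 0 n222405 = n206718 := d18_0 F441959 F365711 (iv4 F442404) F442405 (iv4 D199475) F409216 (iv4 F443123) F443127 D222405
def n222406 : Q := act 5 n199478
theorem D222406 : act 5 n199478 = n222406 := rfl
theorem F514034 : act 3 n222406 = n200782 := d6_1 D222406 F417889 (iv3 F421739)
theorem F514035 : act 4 n222406 = n207263 := d9_1 D222406 F444036 (iv4 D197808) (iv5 F405453) (iv4 F412581) (iv5 F513438) F513441 D222405 F514031 (iv5 F444044) (iv4 D197812) F405456 (iv4 F412441) (iv5 F513429) F513430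
theorem F514036 : act 6 n222406 = n201032 := d12_2 (iv6 F421740) D222406 F421752 (iv6 D201771) F179166
theorem F514037 : act 0 n222406 = n212889 := d17_2 (iv1 F443125) D222406 F467972 (iv4 D199719) F173197 D199391 (iv5 F411953) F409216 (iv4 F443123)
theorem F514038 : act 1 n222406 = n206718 := d17_8 F365711 (iv5 F405872) F464194 F464192 F418708 (iv5 D199479) D199478 D222406 F441959
def n222407 : Q := act 1 n199479
theorem D222407 : act 1 n199479 = n222407 := rfl
theorem F514039 : act 1 n222407 = n221200 := d15_1 D222407 F507707 F465009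
theorem F514040 : act 7 n222407 = n201003 := d15_2 (iv0 F418709) D222407 F418685
theorem F514041 : act 5 n222407 = n221948 := d17_7 (iv1 F412291) (iv5 D111342) (iv1 D51351) D51353 D111349 D199479 D222407 (iv0 F513972) (iv4 D222393)
theorem F514042 : act 4 n222407 = n201006 := d17_9 (iv1 F418701) (iv5 F420126) F420131 F444044 (iv4 F514031) (iv5 D222405) (iv0 D199477) D199479 D222407
theorem F514043 : act 3 n206109 = n222407 := d19_19 (iv1 D222407) (iv5 D199479) (iv4 D111349) F81052 D51355 F81055 (iv4 D27956) F22197 D13341 F22207 F18592 F18591 D11382 F18596 (iv4 F36913) D48657 D105227 (iv5 F204917) D206109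
theorem F514044 : act 2 n221199 = n222407 := d1_3 F514042 F418697 (iv4 F507699)
theorem F514045 : act 6 n215039 = n222407 := d10_0 F514042 F418700 (iv4 F478019)
def n222408 : Q := act 2 n199486
theorem D222408 : act 2 n199486 = n222408 := rfl
theorem F514046 : act 3 n222408 = n199805 := d0_2 D199486 D222408 (iv2 D199805) (iv3 D111753) (iv2 F362233)
theorem F514047 : act 4 n222408 = n201300 := d1_2 F486444 D222408 F486445
theorem F514048 : act 5 n222408 = n216081 := d2_2 (iv5 F412343) D222408 F482834
theorem F514049 : act 6 n222408 = n199762 := d3_2 (iv6 F412344) D222408 (iv2 D199762)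
theorem F514050 : act 7 n222408 = n199796 := d4_2 (iv7 F412345) D222408 (iv2 D199796)
theorem F514051 : act 1 n222408 = n199795 := d15_0 (iv0 D199795) (iv7 F412345) D222408
theorem F514052 : act 1 n199701 = n222408 := d15_0 F514051 (iv7 F504939) F504936
def n222409 : Q := act 4 n199491
theorem D222409 : act 4 n199491 = n222409 := rfl
theorem F514053 : act 2 n222409 = n199492 := d1_1 D222409 (iv4 D199492) (iv2 F412369)
theorem F514054 : act 3 n222409 = n206719 := d5_1 D222409 F441960 (iv3 D202654) F363316 (iv3 F412370)
theorem F514055 : act 5 n222409 = n206718 := d9_2 D199491 D222409 F441959 (iv5 D151259) (iv4 F363672) F169064 (iv4 F172590) (iv5 F173197) D199719 (iv5 F467972) (iv4 D212889) (iv5 D151254) D151253 (iv5 F363678) (iv4 F172814)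
theorem F514056 : act 6 n222409 = n221638 := d10_2 (iv6 F412371) D222409 (iv4 D221638)
theorem F514057 : act 7 n222409 = n222393 := d11_2 (iv7 F412372) D222409 (iv4 D222393)
def n222410 : Q := act 0 n199504
theorem D222410 : act 0 n199504 = n222410 := rfl
theorem F514058 : act 5 n222410 = n204608 := d17_1 D222410 (iv1 F511925) (iv5 D222017) (iv4 F406588) (iv5 F405680) F412994 F412990 (iv0 D199503) D199504
theorem F514059 : act 4 n222410 = n199532 := d18_1 D222410 (iv1 F412557) D210977 F459591 (iv4 D199358) F406650 (iv4 F457432) F457999 (iv5 F458001)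
theorem F514060 : act 3 n222410 = n203602 := d20_5 (iv4 F437166) F438169 F438165 F412439 D222410 (iv4 D203602) (iv1 F312469) (iv4 F423342) F423341 D202236
theorem F514061 : act 6 n222410 = n211351 := d21_5 D213205 F469437 (iv5 D213174) (iv6 F412437) D222410 F461243 F423083 F424180 F424184 (iv1 F422866)
theorem F514062 : act 2 n222013 = n222410 := d15_3 (iv0 D222410) (iv0 F482068) (iv7 F511904)
theorem F514063 : act 1 n202138 = n222410 := d15_0 (iv0 D222410) F412438 (iv2 F423018)
theorem F514064 : act 7 n222410 = n222012 := d15_2 F482070 F514063 F511897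
def n222411 : Q := act 3 n199513
theorem D222411 : act 3 n199513 = n222411 := rfl
theorem F514065 : act 4 n222411 = n217826 := d5_2 (iv4 F412477) D222411 F490808 F439419 F393184
theorem F514066 : act 5 n222411 = n204073 := d6_2 (iv5 F412476) D222411 (iv3 F430986)
theorem F514067 : act 0 n222411 = n218312 := d19_4 F420997 (iv5 F393182) (iv4 F412477) D222411 F493259 F414259 (iv3 D112049) (iv1 F174153) (iv5 F344518) (iv4 D102039) (iv3 F357283) (iv1 D101395) D101396 (iv4 F357252) (iv3 F464981) (iv1 F467075) F467077 F420374 (iv3 F420995)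
theorem F514068 : act 0 n199584 = n222411 := d20_4 F499768 (iv1 F412773) (iv4 D199586) (iv3 F412768) (iv3 D222411) F412477 (iv1 F393189) F413233 (iv3 F491693) (iv1 F499771)
theorem F514069 : act 6 n217825 = n222411 := d21_5 (iv5 F390613) F390617 (iv5 F375066) D218255 (iv1 F492985) F514066 (iv1 F430984) (iv5 F412280) F412283 F390618
def n222412 : Q := act 6 n199513
theorem D222412 : act 6 n199513 = n222412 := rfl
theorem F514070 : act 2 n222412 = n217827 := d3_1 D222412 F490812 F412838
theorem F514071 : act 3 n222412 = n217825 := d7_1 D222412 F514069 (iv3 D222411)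
theorem F514072 : act 4 n222412 = n217134 := d10_1 D222412 (iv6 F487591) (iv4 F412477)
theorem F514073 : act 0 n222412 = n204552 := d21_4 F412667 (iv1 F215897) (iv5 F412476) D222412 (iv6 D204552) (iv5 F390626) (iv1 F490505) (iv5 F492900) F492901 (iv1 F448454)
theorem F514074 : act 0 n219407 = n222412 := d21_4 (iv5 F376854) (iv1 F387431) (iv5 F490514) (iv6 F498749) (iv6 D222412) F412476 (iv1 D133970) D133972 (iv6 F394207) (iv1 D188925)
theorem F514075 : act 7 n217825 = n222412 := d11_0 F514072 F487589 D217825
def n222413 : Q := act 3 n199517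
theorem D222413 : act 3 n199517 = n222413 := rfl
theorem F514076 : act 2 n222413 = n209731 := d0_1 D222413 (iv3 F505659) F505658 (iv3 F471801) F412957
theorem F514077 : act 5 n222413 = n220560 := d6_2 F510917 D222413 (iv3 F510914)
theorem F514078 : act 6 n222413 = n204557 := d7_2 F474848 D222413 (iv3 F474846)
theorem F514079 : act 0 n222413 = n213728 := d19_4 F458363 (iv5 D210658) (iv4 F412958) D222413 (iv5 F471816) (iv4 D209728) (iv3 F389174) (iv1 F460231) F460228 (iv4 F507964) F507963 (iv1 F468097) D212942 F489905 (iv3 D217641) (iv1 F371196) (iv5 F449154) (iv4 F454302) F454301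
theorem F514080 : act 0 n199589 = n222413 := d20_4 F431478 (iv1 F197318) D123887 (iv3 F412783) (iv3 D222413) F412958 (iv1 F224260) F224256 (iv3 F384911) (iv1 F431482)
theorem F514081 : act 4 n208697 = n222413 := d10_3 F514078 F450742 D208697
def n222414 : Q := act 4 n199520
theorem D222414 : act 4 n199520 = n222414 := rfl
theorem F514082 : act 2 n222414 = n210875 := d1_1 D222414 F459107 (iv2 F448533)
theorem F514083 : act 3 n222414 = n203037 := d5_1 D222414 (iv4 F461870) F461869 F241638 (iv3 F412498)
theorem F514084 : act 5 n222414 = n212330 := d9_2 D199520 D222414 (iv4 D212330) (iv5 F427715) (iv4 F477659) (iv5 D214963) F365922 D198781 (iv4 F450513) F450514 (iv4 F227370) (iv5 F427705) F427706 (iv5 F379117) F220428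
theorem F514085 : act 6 n222414 = n212587 := d10_2 F412500 D222414 (iv4 D212587)
theorem F514086 : act 0 n222414 = n203703 := d17_0 (iv5 D203703) F424646 (iv5 F513052) (iv4 D222231) (iv5 D198791) (iv0 F170487) (iv5 F172895) (iv0 F412499) D222414
theorem F514087 : act 1 n222414 = n218604 := d18_6 F460166 F460162 (iv1 F382074) F220428 D199520 D222414 (iv4 F513903) F513905 (iv5 F413764)
def n222415 : Q := act 4 n199524
theorem D222415 : act 4 n199524 = n222415 := rfl
theorem F514088 : act 2 n222415 = n222231 := d1_1 D222415 (iv4 D222231) F412520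
theorem F514089 : act 5 n222415 = n213544 := d9_2 (iv5 F412519) D222415 F470950 F461710 F409845 (iv5 F381992) F174964 D112496 D200048 (iv5 F414770) (iv4 F425195) F425196 F409839 F382005 (iv4 F409252)
theorem F514090 : act 6 n222415 = n218011 := d10_2 (iv6 F412522) D222415 F491681
theorem F514091 : act 7 n222415 = n217130 := d11_2 F412869 D222415 F487576
theorem F514092 : act 0 n222415 = n212692 := d17_0 (iv5 D212692) F354106 (iv5 F450514) F450513 (iv5 D198781) (iv0 F170388) D111386 D199524 D222415
theorem F514093 : act 1 n222415 = n212690 := d18_6 F408940 D199698 F413166 (iv4 F409252) (iv5 F412519) D222415 F467090 (iv0 F512931) (iv5 D222209)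
theorem F514094 : act 3 n222415 = n217981 := d19_3 (iv1 F409254) (iv5 F412519) D222415 (iv1 F491543) (iv5 F393570) (iv4 F393567) F393565 F341059 (iv5 D116149) (iv4 F180886) F393152 (iv1 D194426) D194427 (iv4 F479363) F479362 (iv1 F415259) F346469 (iv4 F215894) F215893
def n222416 : Q := act 6 n199525
theorem D222416 : act 6 n199525 = n222416 := rfl
theorem F514095 : act 2 n222416 = n217745 := d3_1 D222416 (iv6 F490437) F467037
theorem F514096 : act 3 n222416 = n210537 := d7_1 D222416 (iv6 D210537) (iv3 F412523)
theorem F514097 : act 4 n222416 = n199526 := d10_1 D222416 (iv6 D199526) D199525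
def n222417 : Q := act 6 n199528
theorem D222417 : act 6 n199528 = n222417 := rfl
theorem F514098 : act 2 n222417 = n204486 := d3_1 D222417 F432682 (iv2 F412927)
theorem F514099 : act 3 n222417 = n213374 := d7_1 D222417 (iv6 D213374) F412535
theorem F514100 : act 4 n222417 = n210633 := d10_1 D222417 (iv6 D210633) F412537
theorem F514101 : act 5 n222417 = n220779 := d12_1 D222417 F505487 F460323 F460317 (iv5 F412534)
theorem F514102 : act 7 n222417 = n204487 := d14_2 F412931 D222417 (iv6 F432687) (iv7 F198471) F412933
theorem F514103 : act 0 n222417 = n204203 := d21_4 F469676 (iv1 F388287) (iv5 F412534) D222417 F431472 F409229 F174179 D198753 (iv6 F492678) (iv1 F492680)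
theorem F514104 : act 0 n204202 = n222417 := d21_4 (iv5 F336730) (iv1 F167898) D138781 (iv6 F431467) (iv6 D222417) F412534 F365474 (iv5 F374511) F374512 (iv1 D111475)
def n222418 : Q := act 3 n199529
theorem D222418 : act 3 n199529 = n222418 := rfl
theorem F514105 : act 2 n222418 = n210993 := d0_1 D222418 F459661 F235494 F412932 F412935
theorem F514106 : act 4 n222418 = n208925 := d5_2 (iv4 F412540) D222418 (iv3 F501521) F501522 (iv3 D210634)
theorem F514107 : act 5 n222418 = n202442 := d6_2 F412541 D222418 F424012
theorem F514108 : act 6 n222418 = n204551 := d7_2 F412539 D222418 (iv3 D204551)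
theorem F514109 : act 7 n222418 = n213725 := d8_2 (iv7 F412928) D222418 F471804
theorem F514110 : act 0 n222418 = n199587 := d20_4 F413250 (iv1 F224276) (iv4 F412540) D222418 (iv3 F419825) (iv4 D201279) (iv1 F370649) (iv4 F471554) F471553 (iv1 F413260)
theorem F514111 : act 0 n210440 = n222418 := d20_4 (iv4 F373359) (iv1 F373363) F355607 (iv3 F457543) (iv3 D222418) F412540 (iv1 D139453) (iv4 F172863) F345427 F358822
def n222419 : Q := act 4 n199548
theorem D222419 : act 4 n199548 = n222419 := rfl
theorem F514112 : act 2 n222419 = n222008 := d1_1 D222419 (iv4 F512048) F512046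
theorem F514113 : act 3 n222419 = n221420 := d5_1 D222419 (iv4 D221420) F412635 (iv4 D199549) D199548
theorem F514114 : act 5 n222419 = n212256 := d9_2 (iv5 F412628) D222419 F464994 (iv5 F420126) F420125 F227013 (iv4 F171975) D199105 D222300 F513447 F443178 (iv5 F444535) (iv4 F509179) F509180 F400766
theorem F514115 : act 7 n222419 = n221464 := d11_2 (iv7 F412629) D222419 (iv4 D221464)
theorem F514116 : act 0 n222419 = n222290 := d17_0 F513383 (iv1 D205976) D205978 (iv4 F463547) F463548 F412583 (iv5 F513438) F513436 D222419
theorem F514117 : act 1 n222419 = n212394 := d18_6 (iv1 F361210) F361211 (iv1 F400768) F400766 (iv5 F412628) D222419 F465651 (iv0 D199072) F171820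
def n222420 : Q := act 6 n199548
theorem D222420 : act 6 n199548 = n222420 := rfl
theorem F514118 : act 2 n222420 = n218277 := d3_1 D222420 (iv6 F512049) F512046
theorem F514119 : act 3 n222420 = n199550 := d7_1 D222420 (iv6 D199550) D199548
theorem F514120 : act 5 n222420 = n221598 := d12_1 D222420 F509789 F406184 F348802 (iv5 F412628)
theorem F514121 : act 7 n222420 = n212132 := d14_2 (iv7 F412629) D222420 (iv6 D212132) (iv7 F228400) (iv6 F400743)
theorem F514122 : act 0 n222420 = n209344 := d21_4 (iv5 D197802) (iv1 F400742) (iv5 F412628) D222420 F453333 (iv5 F375022) (iv1 F372091) (iv5 F375128) D218265 F493036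
theorem F514123 : act 0 n209349 = n222420 := d21_4 (iv5 D199540) D199539 (iv5 F513438) F513442 (iv6 D222420) F412628 F173422 D197796 (iv6 F509128) F509130
def n222421 : Q := act 6 n199549
theorem D222421 : act 6 n199549 = n222421 := rfl
theorem F514124 : act 2 n222421 = n208569 := d3_1 D222421 (iv6 D208569) (iv2 F412630)
theorem F514125 : act 3 n222421 = n221421 := d7_1 D222421 (iv6 D221421) F412635
theorem F514126 : act 4 n222421 = n199550 := d10_1 D222421 (iv6 D199550) D199549
theorem F514127 : act 7 n222421 = n213430 := d14_2 (iv7 F412632) D222421 F470362 (iv7 F473717) F473716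
theorem F514128 : act 0 n222421 = n203274 := d21_4 (iv5 F220864) (iv1 F405441) (iv5 F412631) D222421 (iv6 D203274) (iv5 D118429) D118426 (iv5 F350050) (iv6 D137692) D137690
theorem F514129 : act 0 n213431 = n222421 := d21_4 (iv5 D108641) D108638 (iv5 F405541) (iv6 F470369) (iv6 D222421) F412631 (iv1 F405442) F394331 F394332 (iv1 F386118)
def n222422 : Q := act 5 n199554
theorem D222422 : act 5 n199554 = n222422 := rfl
theorem F514130 : act 2 n222422 = n215251 := d2_1 D222422 F479046 F435562
theorem F514131 : act 3 n222422 = n199555 := d6_1 D222422 (iv5 D199555) D199554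
theorem F514132 : act 6 n222422 = n221974 := d12_2 (iv6 F412647) D222422 F511711 F495961 F433443
theorem F514133 : act 7 n222422 = n215250 := d13_2 F435570 D222422 F479042
theorem F514134 : act 0 n222422 = n215249 := d17_2 F412648 D222422 (iv5 D215249) F268468 F358842 F288014 F382706 (iv0 D181699) (iv4 F248790)
theorem F514135 : act 1 n222422 = n203976 := d17_6 F478358 F478353 F382689 (iv5 F435518) (iv4 F435522) D222422 (iv5 D203976) D203974 F430660
theorem F514136 : act 4 n222422 = n213376 := d18_5 (iv1 F474380) F435356 D205228 (iv4 F435522) D222422 (iv0 D213376) (iv4 F467828) F467832 (iv5 F474377)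
def n222423 : Q := act 1 n199560
theorem D222423 : act 1 n199560 = n222423 := rfl
theorem F514137 : act 1 n222423 = n212131 := d15_1 D222423 F464441 (iv2 F412670)
theorem F514138 : act 7 n222423 = n212127 := d15_2 (iv0 F412673) D222423 F464418
theorem F514139 : act 5 n222423 = n212128 := d17_7 F459814 (iv5 D178150) (iv1 D84799) D84801 D178156 (iv5 F412672) D222423 F464426 F459813
theorem F514140 : act 4 n222423 = n201404 := d17_9 (iv1 F421154) (iv5 F467469) F467472 F258808 (iv4 F375133) F410694 (iv0 F410698) (iv5 F412672) D222423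
theorem F514141 : act 3 n215472 = n222423 := d19_19 (iv1 D222423) F412672 (iv4 D178156) F130008 D84803 (iv5 F297435) F191503 F90005 (iv1 F358815) F358819 F123215 (iv3 F253230) (iv1 F432183) (iv5 D204354) F374920 F374913 (iv1 F374860) (iv5 F375267) (iv4 F480150)
theorem F514142 : act 2 n222423 = n201723 := d0_1 F514141 F421564 (iv2 F401037) (iv3 F509343) F509342
theorem F514143 : act 6 n222423 = n218184 := d7_2 (iv6 F480151) F514141 F492575
def n222424 : Q := act 0 n199561
theorem D222424 : act 0 n199561 = n222424 := rfl
theorem F514144 : act 5 n222424 = n204126 := d17_1 D222424 (iv1 F431469) (iv5 F508809) F508808 F468838 F432758 (iv5 F481980) (iv0 D215898) F412676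
theorem F514145 : act 4 n222424 = n213849 := d18_1 D222424 (iv1 F472924) F472920 (iv5 D199807) (iv4 F410232) F410236 D199077 (iv0 F411441) D199561
theorem F514146 : act 6 n222424 = n221609 := d21_5 (iv5 D109233) F166155 D111498 (iv6 F412675) D222424 (iv5 F509851) F434650 F502930 (iv6 F502931) (iv1 D198350)
theorem F514147 : act 2 n213433 = n222424 := d15_3 (iv0 D222424) (iv0 F505489) F505488
def n222425 : Q := act 1 n199579
theorem D222425 : act 1 n199579 = n222425 := rfl
theorem F514148 : act 1 n222425 = n202234 := d15_1 D222425 F423345 F412752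
theorem F514149 : act 7 n222425 = n210505 := d15_2 (iv0 F423294) D222425 F457834
theorem F514150 : act 5 n222425 = n207369 := d17_7 (iv1 F218236) (iv5 F218312) F218319 D202237 (iv4 F460416) F460417 D222425 F444546 F423492
theorem F514151 : act 4 n222425 = n202221 := d17_9 (iv1 D202221) (iv5 D115478) (iv1 F165192) (iv5 F401403) (iv4 F410199) (iv5 F423363) (iv0 F460419) F460417 D222425
theorem F514152 : act 3 n202546 = n222425 := d19_19 (iv1 D222425) (iv5 F460417) F460416 F423354 (iv1 F448142) (iv5 D208154) (iv4 F366068) (iv3 F361872) (iv1 F333080) (iv5 D126653) (iv4 F95004) (iv3 D60456) (iv1 D28714) D28716 F85065 D117017 F355658 (iv5 F357478) (iv4 F424434)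
theorem F514153 : act 6 n214044 = n222425 := d21_9 (iv5 F460417) F460419 F423363 F410200 F500803 (iv6 D219833) (iv5 D192329) F384779 (iv5 F473231) (iv1 D222425)
theorem F514154 : act 2 n222425 = n202529 := d3_1 F514153 F424391 F473233
def n222426 : Q := act 6 n199579
theorem D222426 : act 6 n199579 = n222426 := rfl
theorem F514155 : act 2 n222426 = n211306 := d3_1 D222426 (iv6 D211306) F412752
theorem F514156 : act 3 n222426 = n199580 := d7_1 D222426 (iv6 D199580) D199579
theorem F514157 : act 4 n222426 = n202229 := d10_1 D222426 (iv6 D202229) (iv4 F412751)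
theorem F514158 : act 0 n222426 = n214043 := d21_4 D202225 (iv1 F460420) F460417 D222426 (iv6 D214043) F332250 F274364 (iv5 F274443) (iv6 F422366) F422369
theorem F514159 : act 7 n222357 = n222426 := d8_0 F514156 F457877 D222357
def n222427 : Q := act 6 n199581
theorem D222427 : act 6 n199581 = n222427 := rfl
theorem F514160 : act 3 n222427 = n199582 := d7_1 D222427 (iv6 D199582) D199581
theorem F514161 : act 5 n222427 = n216594 := d12_1 D222427 (iv6 F491112) (iv5 D217890) (iv6 F420477) (iv5 F420476)
theorem F514162 : act 7 n220060 = n222427 := d13_0 F514161 F485107 D220060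
theorem F514163 : act 0 n222427 = n216597 := d20_4 (iv4 F481932) F502198 F502194 (iv3 F514160) (iv3 D216597) (iv4 F337994) F231230 (iv4 F231519) D212546 F466361
def n222428 : Q := act 3 n199588
theorem D222428 : act 3 n199588 = n222428 := rfl
theorem F514164 : act 4 n222428 = n204491 := d5_2 D199588 D222428 F432698 (iv4 F363295) F341346
theorem F514165 : act 6 n222428 = n204489 := d7_2 F504407 D222428 (iv3 F504405)
theorem F514166 : act 7 n222428 = n219634 := d8_2 (iv7 F412777) D222428 (iv3 D219634)
theorem F514167 : act 0 n217922 = n222428 := d20_4 (iv4 D139940) D139938 F372565 (iv3 F491273) (iv3 D222428) (iv4 D199588) (iv1 F232084) D199409 F412043 (iv1 F223176)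
def n222429 : Q := act 5 n199588
theorem D222429 : act 5 n199588 = n222429 := rfl
theorem F514168 : act 2 n222429 = n209557 := d2_1 D222429 (iv5 F454121) (iv2 F412780)
theorem F514169 : act 4 n222429 = n215045 := d9_1 D222429 F478051 (iv4 F347814) F182069 (iv4 D111456) D111457 D199586 (iv5 F420682) (iv4 D201486) (iv5 D114608) (iv4 F178695) F320842 (iv4 D111461) D111462 D199588
theorem F514170 : act 6 n222429 = n205117 := d12_2 F504407 D222429 (iv5 D205117) (iv6 F473671) D220570
theorem F514171 : act 7 n222429 = n213093 := d13_2 (iv7 F412777) D222429 (iv5 F468982)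
theorem F514172 : act 0 n222429 = n213039 := d17_2 F412778 D222429 F491397 (iv4 F514013) F514014 (iv0 F468713) (iv5 F491694) F491697 (iv4 F412308)
theorem F514173 : act 1 n222429 = n212298 := d17_6 F411961 (iv5 D199393) (iv1 F172599) D111462 D199588 D222429 F465213 (iv0 F468955) (iv4 D199595)
def n222430 : Q := act 1 n199589
theorem D222430 : act 1 n199589 = n222430 := rfl
theorem F514174 : act 1 n222430 = n213728 := d15_1 D222430 F471815 F413039
theorem F514175 : act 7 n222430 = n209731 := d15_2 (iv0 F514080) D222430 (iv2 F514076)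
theorem F514176 : act 5 n222430 = n220566 := d17_7 (iv1 F494720) F494704 (iv1 F494701) (iv5 D209727) D209726 (iv5 F454772) D222430 F509202 F509199
theorem F514177 : act 6 n218300 = n222430 := d21_3 F375305 D192479 (iv5 F493187) (iv1 D222430) (iv6 D199589) (iv5 D111462) (iv1 D51412) D51414 D111469 F375307
theorem F514178 : act 3 n222430 = n213723 := d7_1 F514177 F471797 (iv3 F493186)
theorem F514179 : act 4 n209732 = n222430 := d19_2 (iv1 F454749) (iv5 F454783) F514178 (iv1 F471799) F412898 F401016 (iv3 D144066) (iv1 F182931) (iv5 F404495) (iv4 F455825) (iv3 F488722) (iv1 F488724) F409044 D220909 F506217 F482729 F482726 F389176 (iv3 F389171)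
def n222431 : Q := act 7 n199589
theorem D222431 : act 7 n199589 = n222431 := rfl
theorem F514180 : act 2 n222431 = n213728 := d4_1 D222431 F471815 F413039
theorem F514181 : act 3 n222431 = n204202 := d8_1 D222431 F431468 (iv3 F412783)
theorem F514182 : act 6 n222431 = n210440 := d14_1 D222431 F457544 (iv6 F359306) F232081 D199589
theorem F514183 : act 0 n209731 = n222431 := d21_4 F446771 F504381 F504379 (iv6 F454780) F514182 (iv5 D210440) F359342 D154771 D213731 (iv1 F471828)
def n222432 : Q := act 4 n199593
theorem D222432 : act 4 n199593 = n222432 := rfl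
theorem F514184 : act 2 n222432 = n199606 := d1_1 D222432 (iv4 D199606) (iv2 F412790)
theorem F514185 : act 3 n222432 = n221767 := d5_1 D222432 F510747 F500393 (iv4 F502865) (iv3 F502870)
theorem F514186 : act 6 n222432 = n213695 := d10_2 (iv6 F412791) D222432 (iv4 F471673)
theorem F514187 : act 7 n222432 = n221720 := d11_2 (iv7 F412792) D222432 F510500
theorem F514188 : act 0 n222432 = n221722 := d17_0 F510510 (iv1 F500761) (iv5 F507065) F507061 (iv5 F433133) (iv0 D204652) F404853 (iv0 F412793) D222432
theorem F514189 : act 0 n221721 = n222432 := d20_10 (iv4 D222432) F412793 (iv4 F510943) (iv3 D221823) (iv1 D197375) (iv3 F404070) F409328 F409329 (iv4 F509724) (iv3 F510503)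
def n222433 : Q := act 6 n199595
theorem D222433 : act 6 n199595 = n222433 := rfl
theorem F514190 : act 2 n222433 = n219589 := d3_1 D222433 (iv6 F513863) F513862
theorem F514191 : act 3 n222433 = n208613 := d7_1 D222433 (iv6 F490671) (iv3 F490675)
theorem F514192 : act 4 n222433 = n199596 := d10_1 D222433 (iv6 D199596) D199595
theorem F514193 : act 0 n222433 = n219590 := d21_10 F499596 (iv1 F437562) (iv5 F437563) (iv6 D191849) F363583 D99040 (iv5 F363655) D213089 F468954 D222433
theorem F514194 : act 5 n208645 = n222433 := d21_2 (iv5 F451508) F451509 (iv6 D222433) F468955 (iv6 D208936) (iv5 F354649) F354614 D191806 (iv6 F432855) F432857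
theorem F514195 : act 0 n208790 = n222433 := d21_4 F412524 (iv1 F233625) D212683 F467044 (iv6 D222433) (iv5 F468954) (iv1 F468956) F465396 (iv6 D212340) F412525
theorem F514196 : act 7 n222433 = n208617 := d13_2 (iv7 F462199) F514194 F462200
def n222434 : Q := act 3 n199597
theorem D222434 : act 3 n199597 = n222434 := rfl
theorem F514197 : act 2 n222434 = n220607 := d0_1 D222434 F504595 F468619 (iv3 F513852) F513851
theorem F514198 : act 4 n222434 = n218027 := d5_2 D199597 D222434 F491767 F413391 (iv3 F403536)
theorem F514199 : act 5 n222434 = n216503 := d6_2 (iv5 F468961) D222434 F484708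
theorem F514200 : act 0 n219562 = n222434 := d20_4 F222695 (iv1 F223159) F388433 (iv3 F499458) (iv3 D222434) (iv4 D199597) (iv1 D111467) D111468 F172980 D139518
theorem F514201 : act 6 n222434 = n219568 := d21_5 (iv5 D174746) (iv1 F319022) D191751 D219562 F514200 F499486 F500362 (iv5 F503850) F503852 F468204
def n222435 : Q := act 6 n199597
theorem D222435 : act 6 n199597 = n222435 := rfl
theorem F514202 : act 2 n222435 = n216907 := d3_1 D222435 (iv6 F513856) F513851
theorem F514203 : act 3 n222435 = n219568 := d7_1 D222435 (iv6 F514201) (iv3 D222434)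
theorem F514204 : act 4 n222435 = n199598 := d10_1 D222435 (iv6 D199598) D199597
theorem F514205 : act 5 n222435 = n219840 := d12_1 D222435 (iv6 F500835) (iv5 F444016) F468960 (iv5 F468961)
theorem F514206 : act 7 n222435 = n216908 := d14_2 F513864 D222435 F486499 (iv7 F499589) (iv6 F513863)
theorem F514207 : act 0 n222435 = n216909 := d21_4 (iv5 F465396) (iv1 F468958) (iv5 F468961) D222435 F486501 (iv5 F391365) F391385 D209558 F454126 (iv1 F465397)
theorem F514208 : act 0 n216900 = n222435 := d21_4 (iv5 D98288) (iv1 F293936) D186287 D216900 (iv6 D222435) F468961 (iv1 D213090) F363655 (iv6 D99040) (iv1 F177443)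
def n222436 : Q := act 1 n199598
theorem D222436 : act 1 n199598 = n222436 := rfl
theorem F514209 : act 7 n222436 = n212142 := d15_2 (iv0 F513394) D222436 (iv2 F513391)
theorem F514210 : act 5 n222436 = n212143 := d17_7 (iv1 F456869) (iv5 F457420) F457422 F426934 (iv4 F513276) F513277 D222436 (iv0 F509326) F509324
theorem F514211 : act 4 n222436 = n217124 := d18_7 (iv1 F423615) (iv4 F504246) (iv1 F504248) (iv4 F500837) (iv5 F514205) F514204 D222436 (iv0 F487548) F450494
theorem F514212 : act 3 n212146 = n222436 := d19_19 (iv1 D222436) (iv5 F513277) F513276 (iv3 F513270) F513273 (iv5 F504867) F504865 (iv3 D220516) F391136 D194084 (iv4 F422480) F469346 (iv1 D212749) (iv5 F433675) (iv4 F505352) F505351 (iv1 F393305) D194553 (iv4 F464481)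
theorem F514213 : act 6 n222436 = n217123 := d7_2 (iv6 F506037) F514212 (iv3 F506035)
def n222437 : Q := act 5 n199602
theorem D222437 : act 5 n199602 = n222437 := rfl
theorem F514214 : act 3 n222437 = n210705 := d6_1 D222437 (iv5 D210705) (iv3 F412812)
theorem F514215 : act 7 n222437 = n219983 := d13_2 F412814 D222437 (iv5 D219983)
def n222438 : Q := act 4 n199604
theorem D222438 : act 4 n199604 = n222438 := rfl
theorem F514216 : act 6 n222438 = n220864 := d10_2 F459644 D222438 F505962
theorem F514217 : act 7 n222438 = n221958 := d11_2 (iv7 F412816) D222438 F511610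
theorem F514218 : act 0 n222438 = n221059 := d18_2 F423985 D222438 F507036 F459769 (iv4 D205041) F201459 (iv4 F198707) F433136 F433133
theorem F514219 : act 0 n221124 = n222438 := d21_4 (iv5 D205450) (iv1 F403986) (iv5 F403985) D221124 F514216 (iv5 D220864) (iv1 D194740) D194742 D220867 F505979
def n222439 : Q := act 4 n199605
theorem D222439 : act 4 n199605 = n222439 := rfl
theorem F514220 : act 2 n222439 = n221823 := d1_1 D222439 F510943 F412818
theorem F514221 : act 3 n222439 = n219857 := d5_1 D222439 F500916 F386552 (iv4 F386589) (iv3 F412817)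
theorem F514222 : act 5 n222439 = n219818 := d9_2 F433148 D222439 (iv4 D219818) F386370 (iv4 D125360) (iv5 D58702) (iv4 F91636) D124224 D204688 (iv5 F500749) (iv4 D219820) (iv5 F386372) (iv4 F384507) F341219 (iv4 F433147)
theorem F514223 : act 6 n222439 = n219855 := d10_2 F412821 D222439 F500909
theorem F514224 : act 7 n222439 = n221843 := d11_2 (iv7 F412820) D222439 F511010
theorem F514225 : act 0 n221845 = n222439 := d20_7 F493056 (iv1 F386831) (iv4 F461104) (iv3 F466397) F501369 F501366 (iv4 F511020) (iv4 D222439) F412817 (iv1 F493060)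
theorem F514226 : act 1 n210462 = n222439 := d15_0 (iv0 F514225) (iv7 D221845) (iv2 F457642)
def n222440 : Q := act 0 n199606
theorem D222440 : act 0 n199606 = n222440 := rfl
theorem F514227 : act 5 n222440 = n219822 := d17_3 (iv1 F499581) F499579 D222440 F500752 F429589 (iv0 F389091) (iv5 F430878) F430877 D213418
theorem F514228 : act 4 n222440 = n215895 := d18_1 D222440 F511009 F511005 D221844 F511016 (iv0 D204041) D204043 (iv0 F499580) F499579
theorem F514229 : act 2 n221722 = n222440 := d15_3 (iv0 D222440) (iv0 F507403) (iv7 F510506)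
theorem F514230 : act 1 n221720 = n222440 := d15_0 (iv0 D222440) F412824 (iv2 F510498)
theorem F514231 : act 7 n222440 = n221721 := d15_2 (iv0 F510501) F514230 F510505
def n222441 : Q := act 1 n199608
theorem D222441 : act 1 n199608 = n222441 := rfl
theorem F514232 : act 1 n222441 = n208457 := d15_1 D222441 F449446 F424154
theorem F514233 : act 7 n222441 = n208279 := d15_2 F412833 D222441 F448710
theorem F514234 : act 5 n222441 = n200867 := d17_7 (iv1 D108793) (iv5 D50226) D50224 D108786 D197938 (iv5 F412832) D222441 F418213 (iv4 D197950)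
theorem F514235 : act 4 n222441 = n204644 := d17_9 (iv1 F433108) F216351 (iv1 F206967) F329458 (iv4 F172729) D199419 (iv0 F412110) (iv5 F412832) D222441
theorem F514236 : act 3 n217127 = n222441 := d19_19 (iv1 D222441) F412832 (iv4 D197938) (iv3 F406239) D221986 F511770 (iv4 F429969) (iv3 D203821) (iv1 D120978) (iv5 F322722) (iv4 F324214) (iv3 D98446) (iv1 F326258) (iv5 F326772) (iv4 F145028) F295039 (iv1 F295037) D186821 D217127
theorem F514237 : act 6 n204642 = n222441 := d21_3 (iv5 F406980) D222055 F512122 (iv1 D222441) (iv6 D199608) F343798 (iv1 F222730) (iv5 F372262) F412493 (iv1 D199518)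
theorem F514238 : act 2 n222441 = n208460 := d3_1 F514237 F449456 F443977
def n222442 : Q := act 5 n199612
theorem D222442 : act 5 n199612 = n222442 := rfl
theorem F514239 : act 2 n222442 = n221945 := d2_1 D222442 (iv5 D221945) (iv2 F412846)
theorem F514240 : act 3 n222442 = n199613 := d6_1 D222442 (iv5 D199613) D199612
theorem F514241 : act 6 n222442 = n199613 := d12_2 F430775 D222442 (iv5 D199613) D199614 (iv5 F430772)
theorem F514242 : act 7 n222442 = n222411 := d13_2 F430985 D222442 F514066
theorem F514243 : act 4 n222442 = n218233 := d16_2 F479731 D222442 F492867 F465121 F473504 (iv4 F482198) (iv5 F482201) F414577 (iv2 F479729)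
theorem F514244 : act 0 n222442 = n199643 := d17_2 F412847 D222442 F412962 (iv4 F366011) D198523 (iv0 F408224) (iv5 D111617) D111616 (iv4 F173166)
theorem F514245 : act 1 n222442 = n199659 := d17_6 (iv1 F496873) (iv5 F496877) F474702 (iv5 F479732) F479731 D222442 F413036 F482801 F482799
def n222443 : Q := act 4 n199623
theorem D222443 : act 4 n199623 = n222443 := rfl
theorem F514246 : act 2 n222443 = n205978 := d1_1 D222443 (iv4 F463547) F463545
theorem F514247 : act 5 n222443 = n205977 := d9_2 (iv5 F412890) D222443 F438673 F419322 (iv4 F406849) F406850 D197897 F493035 F493033 (iv5 D206931) (iv4 F218224) F354429 (iv4 F400769) (iv5 F418225) F418224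
theorem F514248 : act 6 n222443 = n221506 := d10_2 F412892 D222443 (iv4 D221506)
theorem F514249 : act 7 n222443 = n222394 := d11_2 (iv7 F412891) D222443 F513975
theorem F514250 : act 0 n222443 = n212257 := d17_0 (iv5 D212257) F443179 (iv5 F513447) (iv4 D222300) (iv5 D199105) F348799 D197796 (iv0 F412893) D222443
theorem F514251 : act 1 n222443 = n222395 := d18_6 D199390 F411940 (iv1 F418228) F418224 (iv5 F412890) D222443 F513982 F412292 F173197
def n222444 : Q := act 6 n199636
theorem D222444 : act 6 n199636 = n222444 := rfl
theorem F514252 : act 2 n222444 = n199638 := d3_1 D222444 (iv6 D199638) D199636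
theorem F514253 : act 3 n222444 = n218235 := d7_1 D222444 F492878 (iv3 F412937)
theorem F514254 : act 5 n222444 = n221501 := d12_1 D222444 F509328 F455703 F408291 (iv5 F412938)
theorem F514255 : act 7 n222444 = n218253 := d14_2 (iv7 F412939) D222444 (iv6 D218253) (iv7 F375339) (iv6 F412511)
def n222445 : Q := act 0 n199638
theorem D222445 : act 0 n199638 = n222445 := rfl
theorem F514256 : act 3 n222445 = n204126 := d20_5 (iv4 F424355) (iv1 D202520) F180504 (iv3 F412944) D222445 (iv4 D204126) F384913 F384912 F384911 (iv1 F375415)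
theorem F514257 : act 6 n222445 = n204242 := d21_5 F448536 (iv1 D198001) (iv5 F173050) D199638 D222445 (iv5 F434642) F434644 (iv5 F239070) (iv6 F412678) F448538
theorem F514258 : act 4 n213025 = n222445 := d10_3 F514257 F431635 D213025
theorem F514259 : act 0 n222445 = n218253 := d21_4 F451047 F434645 F434642 (iv6 F514257) (iv6 D218253) (iv5 F384825) F405243 (iv5 F490760) F490761 (iv1 F468604)
def n222446 : Q := act 1 n199638
theorem D222446 : act 1 n199638 = n222446 := rfl
theorem F514260 : act 1 n222446 = n218253 := d15_1 D222446 (iv7 F514255) F514252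
theorem F514261 : act 5 n222446 = n213432 := d18_9 F513278 F513276 D222272 F513279 (iv5 F499618) F499617 D219598 F499625 D222446
theorem F514262 : act 3 n206268 = n222446 := d20_3 (iv4 D220759) (iv1 F411215) (iv4 F439997) (iv1 D222446) F412944 (iv4 F180504) D202519 (iv4 F424365) (iv3 F462076) (iv1 F505362)
theorem F514263 : act 6 n206267 = n222446 := d21_3 (iv5 F439987) (iv1 D206265) D206267 (iv1 D222446) (iv6 D199638) F173050 D198000 (iv5 F448530) (iv6 F466557) F466559
theorem F514264 : act 4 n222446 = n222277 := d5_2 (iv4 F439997) F514262 F513311 (iv4 D199234) (iv3 F411212)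
def n222447 : Q := act 7 n199638
theorem D222447 : act 7 n199638 = n222447 := rfl
theorem F514265 : act 2 n222447 = n218253 := d4_1 D222447 (iv7 F514255) F514252
theorem F514266 : act 3 n222447 = n199642 := d8_1 D222447 (iv7 D199642) (iv3 F412944)
theorem F514267 : act 6 n222447 = n218251 := d14_1 D222447 F492968 (iv6 D199526) (iv7 F173051) D199638
def n222448 : Q := act 3 n199640
theorem D222448 : act 3 n199640 = n222448 := rfl
theorem F514268 : act 2 n222448 = n222430 := d0_1 D222448 F514178 (iv2 F505646) F505647 (iv2 F412947)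
theorem F514269 : act 5 n222448 = n221473 := d6_2 F460079 D222448 F509195
theorem F514270 : act 6 n222448 = n218250 := d7_2 F412946 D222448 (iv3 F492963)
theorem F514271 : act 7 n222448 = n222413 := d8_2 F412959 D222448 (iv3 D222413)
theorem F514272 : act 0 n222448 = n199660 := d19_4 F383540 F383539 (iv4 F412948) D222448 (iv5 F464429) F464428 F389171 D193207 D220242 F502822 F398048 (iv1 F363412) D212307 F468970 (iv3 F489918) (iv1 F489920) (iv5 F488083) F488082 F433095
theorem F514273 : act 0 n222431 = n222448 := d20_4 (iv4 D123131) D123129 D204202 (iv3 F514181) (iv3 D222448) F412948 (iv1 D141228) F101834 (iv3 F223800) F364123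
def n222449 : Q := act 0 n199643
theorem D222449 : act 0 n199643 = n222449 := rfl
theorem F514274 : act 5 n222449 = n199656 := d17_1 D222449 (iv1 D199656) (iv5 F412796) F413470 (iv5 F448118) F448116 F444531 (iv0 D201301) F412964
theorem F514275 : act 4 n222449 = n214420 := d18_1 D222449 F475109 F412222 F412221 (iv4 F496875) F496873 (iv4 F482799) F482802 (iv5 F412962)
theorem F514276 : act 2 n222411 = n222449 := d15_3 (iv0 D222449) (iv0 F514244) F514242
theorem F514277 : act 1 n199659 = n222449 := d15_0 (iv0 D222449) (iv7 F493260) F493256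
theorem F514278 : act 7 n222449 = n221945 := d15_2 F514245 F514277 (iv2 F514239)
theorem F514279 : act 3 n221461 = n222449 := d8_3 F514278 F511544 (iv7 F509123)
def n222450 : Q := act 0 n199663
theorem D222450 : act 0 n199663 = n222450 := rfl
theorem F514280 : act 5 n222450 = n213734 := d17_3 F384586 D199663 D222450 F471840 F367129 (iv0 D92551) (iv5 F292416) (iv0 F363583) D191848
theorem F514281 : act 6 n222450 = n211981 := d21_5 (iv5 D76913) F327522 D111576 (iv6 F413046) D222450 (iv5 F511239) (iv1 F511243) F461551 (iv6 F461550) (iv1 D160459)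
theorem F514282 : act 2 n219621 = n222450 := d15_3 (iv0 D222450) (iv0 F497611) (iv7 F499719)
theorem F514283 : act 4 n222450 = n211975 := d1_2 (iv4 F499718) F514282 (iv2 F494968)
theorem F514284 : act 7 n222450 = n219620 := d4_2 (iv7 F499719) F514282 F499711
def n222451 : Q := act 4 n199663
theorem D222451 : act 4 n199663 = n222451 := rfl
theorem F514285 : act 3 n222451 = n199754 := d5_1 D222451 (iv4 D199754) F173224 (iv4 F343776) (iv3 F413045)
theorem F514286 : act 6 n222451 = n199666 := d10_2 (iv6 F413046) D222451 (iv4 D199666)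
theorem F514287 : act 5 n222451 = n216922 := d16_3 F368143 D199663 D222451 F486548 F429290 (iv4 D188249) (iv5 F368137) (iv7 F368139) F368145
theorem F514288 : act 0 n222451 = n211855 := d18_2 F497611 D222451 (iv4 F491647) (iv5 D218005) (iv4 D188284) D188283 D218004 F491645 (iv5 F497610)
theorem F514289 : act 1 n222451 = n218650 := d18_6 (iv1 F450751) F450748 (iv1 F368140) F368143 D199663 D222451 (iv4 F499724) F499728 (iv5 D217017)
def n222452 : Q := act 1 n199666
theorem D222452 : act 1 n199666 = n222452 := rfl
theorem F514290 : act 1 n222452 = n214645 := d15_1 D222452 F476201 F433452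
theorem F514291 : act 7 n222452 = n219235 := d15_2 F434871 D222452 F497867
theorem F514292 : act 5 n222452 = n216103 := d17_7 (iv1 F258627) (iv5 D164094) (iv1 F141770) F250817 D176901 (iv5 F413057) D222452 F482971 F473948
theorem F514293 : act 4 n222452 = n205071 := d18_7 D125428 F201715 (iv1 F327513) F173079 D111576 D199666 D222452 (iv0 D205071) (iv5 D125431)
theorem F514294 : act 3 n218096 = n222452 := d20_3 (iv4 F257603) D214884 (iv4 F492129) (iv1 D222452) F413058 (iv4 F413086) F413090 F379048 (iv3 F381417) (iv1 D163289)
theorem F514295 : act 6 n199908 = n222452 := d21_3 F455794 (iv1 F413659) (iv5 F414095) (iv1 D222452) (iv6 F514286) F514287 (iv1 D216922) D216924 F486553 (iv1 F455792)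
theorem F514296 : act 2 n222452 = n219252 := d3_1 F514295 F497948 F414096
def n222453 : Q := act 6 n199667
theorem D222453 : act 6 n199667 = n222453 := rfl
theorem F514297 : act 2 n222453 = n217765 := d3_1 D222453 (iv6 F498749) F498747
theorem F514298 : act 3 n222453 = n199668 := d7_1 D222453 (iv6 D199668) D199667
theorem F514299 : act 4 n222453 = n218428 := d10_1 D222453 F493836 F490964
theorem F514300 : act 5 n222453 = n217540 := d12_1 D222453 F489390 (iv5 F378942) D218816 (iv5 F495787)
theorem F514301 : act 7 n222453 = n217539 := d14_2 (iv7 F432845) D222453 F489385 (iv7 F375377) D204552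
theorem F514302 : act 0 n222453 = n214401 := d21_4 F492577 F495788 (iv5 F495787) D222453 (iv6 D214401) (iv5 F363561) (iv1 F385093) F385094 D201303 (iv1 F492579)
theorem F514303 : act 1 n222453 = n217764 := d15_1 (iv0 F514302) (iv7 F490512) (iv2 F474994)
def n222454 : Q := act 3 n199670
theorem D222454 : act 3 n199670 = n222454 := rfl
theorem F514304 : act 5 n222454 = n218237 := d6_2 F424156 D222454 F492887
theorem F514305 : act 6 n222454 = n214093 := d7_2 F413066 D222454 F473445
theorem F514306 : act 7 n222454 = n218269 := d8_2 (iv7 F413064) D222454 F493045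
def n222455 : Q := act 3 n199673
theorem D222455 : act 3 n199673 = n222455 := rfl
theorem F514307 : act 4 n222455 = n215518 := d5_2 D199673 D222455 (iv3 F512468) F512471 F413068
theorem F514308 : act 5 n222455 = n204552 := d6_2 (iv5 F413079) D222455 F432843
theorem F514309 : act 6 n222455 = n211445 := d7_2 (iv6 F413077) D222455 (iv3 D211445)
theorem F514310 : act 7 n222455 = n218816 := d8_2 (iv7 F413078) D222455 F495785
theorem F514311 : act 0 n222455 = n218291 := d19_4 D51461 D111585 D199673 D222455 (iv5 D218291) (iv4 D188968) (iv3 F371578) F420556 F420554 (iv4 F410870) F410869 (iv1 F388711) (iv5 D157975) (iv4 D75244) D75243 D157968 (iv5 F327515) F173079 F81235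
theorem F514312 : act 1 n222455 = n215467 := d15_1 (iv0 F514311) (iv7 F480126) (iv2 F493135)
def n222456 : Q := act 3 n199678
theorem D222456 : act 3 n199678 = n222456 := rfl
theorem F514313 : act 5 n222456 = n199878 := d6_2 (iv5 F413092) D222456 (iv3 D199878)
theorem F514314 : act 7 n222456 = n221391 := d8_2 (iv7 F413095) D222456 F508772
theorem F514315 : act 0 n222456 = n222067 := d19_4 (iv1 F412833) D208459 F449449 D222456 (iv5 D222067) (iv4 F455354) F455352 (iv1 F360298) (iv5 F379655) (iv4 D190393) (iv3 F150052) F335369 F295136 (iv4 F138778) (iv3 F142559) (iv1 F142564) F367070 D191854 (iv3 F422746)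
def n222457 : Q := act 0 n199680
theorem D222457 : act 0 n199680 = n222457 := rfl
theorem F514316 : act 5 n222457 = n204695 := d17_3 (iv1 F360129) D199680 D222457 F433275 D214176 F473862 (iv5 F509938) (iv0 F509941) F476344
theorem F514317 : act 6 n222457 = n221950 := d21_5 (iv5 F411352) (iv1 D199258) F228342 (iv6 F413104) D222457 (iv5 D221950) F473432 (iv5 F510076) (iv6 D221645) (iv1 F402255)
theorem F514318 : act 2 n214948 = n222457 := d15_3 (iv0 D222457) (iv0 F483002) F483001
theorem F514319 : act 1 n203679 = n222457 := d15_0 (iv0 D222457) (iv7 F461469) F461466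
theorem F514320 : act 7 n222457 = n221436 := d15_2 (iv0 F483003) F514319 F509022
def n222458 : Q := act 4 n199680
theorem D222458 : act 4 n199680 = n222458 := rfl
theorem F514321 : act 6 n222458 = n212085 := d10_2 (iv6 F413104) D222458 (iv4 D212085)
theorem F514322 : act 5 n222458 = n201724 := d16_1 D222458 F421569 D201725 F421575 F341314 (iv4 F191498) D203679 (iv7 F429449) F429447
def n222459 : Q := act 3 n199681
theorem D222459 : act 3 n199681 = n222459 := rfl
theorem F514323 : act 2 n222459 = n221994 := d0_1 D222459 (iv3 D221994) (iv2 F413096) F413097 (iv2 F413105)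
theorem F514324 : act 5 n222459 = n199756 := d6_2 (iv5 F413106) D222459 (iv3 D199756)
theorem F514325 : act 6 n222459 = n222086 := d7_2 F413110 D222459 (iv3 D222086)
theorem F514326 : act 7 n222459 = n221994 := d8_2 (iv7 F413107) D222459 (iv3 D221994)
theorem F514327 : act 0 n222459 = n212091 := d20_4 F449449 (iv1 F413094) D199681 D222459 F494988 (iv4 D218654) F480286 (iv4 F499703) F499702 (iv1 F449451)
theorem F514328 : act 1 n222459 = n212091 := d15_1 (iv0 F514327) (iv7 F510084) F510081
def n222460 : Q := act 2 n199684
theorem D222460 : act 2 n199684 = n222460 := rfl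
theorem F514329 : act 3 n222460 = n208685 := d0_2 D199684 D222460 (iv2 D208685) (iv3 D134921) F173147
theorem F514330 : act 4 n222460 = n207747 := d1_2 (iv4 F413122) D222460 (iv2 D207747)
theorem F514331 : act 5 n222460 = n219572 := d2_2 (iv5 F491062) D222460 F499509
theorem F514332 : act 7 n222460 = n208684 := d4_2 (iv7 F413123) D222460 (iv2 D208684)
theorem F514333 : act 1 n222460 = n208683 := d15_0 (iv0 D208683) (iv7 F413123) D222460
theorem F514334 : act 1 n208652 = n222460 := d15_0 F514333 (iv7 F499366) F499363
def n222461 : Q := act 6 n199684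
theorem D222461 : act 6 n199684 = n222461 := rfl
theorem F514335 : act 3 n222461 = n199685 := d7_1 D222461 (iv6 D199685) D199684
theorem F514336 : act 4 n222461 = n207749 := d10_1 D222461 (iv6 D207749) (iv4 F413122)
theorem F514337 : act 7 n222461 = n222064 := d14_2 (iv7 F413123) D222461 (iv6 D222064) F407190 (iv6 F217113)
def n222462 : Q := act 4 n199686
theorem D222462 : act 4 n199686 = n222462 := rfl
theorem F514338 : act 2 n222462 = n206729 := d1_1 D222462 (iv4 F456191) F456189
theorem F514339 : act 3 n222462 = n214487 := d5_1 D222462 F475409 D214505 (iv4 F499532) F499536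
theorem F514340 : act 6 n222462 = n206969 := d10_2 F449273 D222462 F442780
theorem F514341 : act 5 n222462 = n217044 := d16_1 D222462 F487119 (iv5 F385011) F385010 D201444 (iv4 F420532) F456196 F456195 F456189
theorem F514342 : act 0 n222462 = n207825 := d17_0 (iv5 D207825) D207823 (iv5 F446602) F442808 D208418 (iv0 F483765) (iv5 D216308) F413137 D222462
theorem F514343 : act 1 n222462 = n205629 := d18_6 (iv1 F468748) F449311 D216352 F483964 (iv5 F449272) D222462 (iv4 F443265) F499120 F499119
def n222463 : Q := act 7 n199686
theorem D222463 : act 7 n199686 = n222463 := rfl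
theorem F514344 : act 2 n222463 = n199687 := d4_1 D222463 F456195 F456189
theorem F514345 : act 3 n222463 = n219571 := d8_1 D222463 F499537 F499536
theorem F514346 : act 5 n222463 = n208419 := d13_1 D222463 F449277 (iv5 F449272)
theorem F514347 : act 1 n199688 = n222463 := d15_1 (iv0 F456194) (iv7 D222463) (iv2 F456189)
theorem F514348 : act 1 n222463 = n199690 := d15_1 F514347 (iv7 D199690) D199688
def n222464 : Q := act 4 n199687
theorem D222464 : act 4 n199687 = n222464 := rfl
theorem F514349 : act 3 n222464 = n205461 := d5_1 D222464 F436544 (iv3 F444291) (iv4 F456199) F456198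
theorem F514350 : act 7 n222464 = n206729 := d11_2 (iv7 F456195) D222464 (iv4 F456191)
theorem F514351 : act 1 n222464 = n207825 := d18_6 D192740 (iv4 F496599) (iv1 F496603) (iv4 F420532) F456196 D222464 (iv4 F446606) (iv0 D191587) (iv5 F154646)
theorem F514352 : act 0 n222464 = n205629 := d20_1 D222464 (iv4 F443265) (iv3 F443264) (iv1 F443263) F378145 (iv4 F377811) F398789 (iv4 D182776) D182775 (iv1 F413132)
def n222465 : Q := act 0 n199696
theorem D222465 : act 0 n199696 = n222465 := rfl
theorem F514353 : act 5 n222465 = n214794 := d17_1 D222465 (iv1 F476884) (iv5 F505246) F505245 F490268 F374869 D208165 F448198 (iv4 F413155)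
theorem F514354 : act 4 n222465 = n207265 := d18_3 F490238 (iv4 F413155) D222465 (iv5 D207265) F318981 D180747 F365714 D187790 D217708
theorem F514355 : act 2 n199808 = n222465 := d15_3 (iv0 D222465) (iv0 F482349) F479988
theorem F514356 : act 7 n222465 = n214793 := d4_2 F479988 F514355 (iv2 F479985)
def n222466 : Q := act 7 n199696
theorem D222466 : act 7 n199696 = n222466 := rfl
theorem F514357 : act 3 n222466 = n206180 := d8_1 D222466 (iv7 F464745) F464748
theorem F514358 : act 4 n222466 = n218240 := d11_1 D222466 F492906 (iv4 F413155)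
theorem F514359 : act 5 n222466 = n206179 := d13_1 D222466 (iv7 F482348) F482347
theorem F514360 : act 6 n222466 = n199795 := d14_1 D222466 (iv7 F504939) F504938 F412180 D199696
theorem F514361 : act 1 n214793 = n222466 := d15_1 (iv0 F513911) (iv7 D222466) (iv2 F513906)
theorem F514362 : act 1 n222466 = n199808 := d15_1 F514361 (iv7 F479988) F479985
def n222467 : Q := act 4 n199697
theorem D222467 : act 4 n199697 = n222467 := rfl
theorem F514363 : act 2 n222467 = n199812 := d1_1 D222467 (iv4 D199812) F413157
theorem F514364 : act 3 n222467 = n220908 := d5_1 D222467 F506211 F418790 F407329 (iv3 F413156)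
theorem F514365 : act 5 n222467 = n215719 := d9_2 (iv5 F479895) D222467 F481223 (iv5 F465956) F465955 F230889 F407654 (iv5 D198337) D198336 (iv5 F479304) F479303 (iv5 F465972) F465971 F343364 (iv4 F479894)
theorem F514366 : act 6 n222467 = n215220 := d10_2 (iv6 F506358) D222467 F506357
theorem F514367 : act 7 n222467 = n215290 := d11_2 (iv7 F413159) D222467 F479241
theorem F514368 : act 0 n222467 = n213833 := d17_0 (iv5 F472298) F377541 (iv5 F481063) F481062 F460145 (iv0 F416503) F416502 F413158 D222467
theorem F514369 : act 1 n222467 = n199707 := d18_6 (iv1 F404383) (iv4 F404380) F343365 (iv4 F479894) (iv5 F479895) D222467 (iv4 F414743) F463481 F463479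
def n222468 : Q := act 4 n199708
theorem D222468 : act 4 n199708 = n222468 := rfl
theorem F514370 : act 2 n222468 = n211208 := d1_1 D222468 F460614 (iv2 F413201)
theorem F514371 : act 3 n222468 = n219879 := d5_1 D222468 F501009 F423281 (iv4 F391495) (iv3 F413202)
theorem F514372 : act 5 n222468 = n207959 := d9_2 D199708 D222468 F447158 F413466 (iv4 F414739) (iv5 D200040) F174940 D199706 (iv4 F456740) F456741 F448120 F448118 (iv4 F413470) F412796 F173166
theorem F514373 : act 6 n222468 = n219740 := d10_2 (iv6 F413203) D222468 F500363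
theorem F514374 : act 7 n222468 = n211186 := d11_2 F416229 D222468 F460516
theorem F514375 : act 0 n222468 = n211209 := d17_0 F460618 F394411 D210243 F456717 (iv5 F390184) (iv0 F174183) (iv5 F219360) (iv0 F413204) D222468
theorem F514376 : act 1 n222468 = n211187 := d18_6 F414579 F414576 (iv1 D199656) F173166 D199708 D222468 F460520 (iv0 F448476) (iv5 F448475)
def n222469 : Q := act 4 n199709
theorem D222469 : act 4 n199709 = n222469 := rfl
theorem F514377 : act 2 n222469 = n210243 := d1_1 D222469 F456717 F413207
theorem F514378 : act 5 n222469 = n201107 := d9_2 (iv5 F414031) D222469 F419107 F371120 F412964 F412962 (iv4 F366011) D198523 D222169 F512702 (iv4 F480693) F480694 (iv4 F413224) F413036 (iv4 F414029)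
theorem F514379 : act 6 n222469 = n215597 := d10_2 (iv6 F413208) D222469 F480704
theorem F514380 : act 0 n222469 = n216544 := d17_0 F484878 (iv1 D211596) (iv5 F456741) F456740 (iv5 D199706) (iv0 D111615) D111617 D199709 D222469
theorem F514381 : act 1 n222469 = n214106 := d18_6 F460626 (iv4 F482799) (iv1 F482801) (iv4 F414029) (iv5 F414031) D222469 (iv4 F482198) (iv0 F498149) (iv5 D219291)
def n222470 : Q := act 0 n199719
theorem D222470 : act 0 n199719 = n222470 := rfl
theorem F514382 : act 5 n222470 = n221199 := d17_1 D222470 F507701 F465011 (iv4 D199470) (iv5 D111346) (iv0 F361209) (iv5 F412290) F412292 D199719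
theorem F514383 : act 4 n222470 = n221461 := d18_1 D222470 F509124 F463547 (iv5 D205978) (iv4 F209241) D207264 (iv4 F514031) F514032 F467972
theorem F514384 : act 3 n222470 = n214421 := d20_5 (iv4 D199056) (iv1 F172284) D141232 (iv3 F413240) D222470 (iv4 D214421) (iv1 F250896) D201146 F513351 (iv1 F513349)
theorem F514385 : act 1 n222409 = n222470 := d15_0 (iv0 D222470) F413241 (iv2 F514053)
theorem F514386 : act 7 n221201 = n222470 := d8_0 F514384 F475101 (iv3 F507708)
theorem F514387 : act 2 n222470 = n221948 := d15_3 (iv0 F513972) F513973 F514386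
def n222471 : Q := act 1 n199719
theorem D222471 : act 1 n199719 = n222471 := rfl
theorem F514388 : act 1 n222471 = n222409 := d15_1 D222471 F514057 F513969
theorem F514389 : act 7 n222471 = n221948 := d15_2 (iv0 D222470) D222471 (iv2 F514387)
theorem F514390 : act 5 n222471 = n201003 := d17_7 (iv1 D146181) F104748 D71284 D151254 D212889 F467972 D222471 (iv0 F465013) (iv4 D212260)
theorem F514391 : act 4 n222471 = n221462 := d17_9 F509130 (iv5 D199540) D199539 (iv5 F513438) F513441 D222405 F514032 F467972 D222471
theorem F514392 : act 6 n221201 = n222471 := d21_3 D199479 F418709 D221201 (iv1 D222471) (iv6 F421795) F421793 F372185 F179166 (iv6 F421740) (iv1 D199478)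
theorem F514393 : act 2 n221201 = n222471 := d1_3 F514391 F509126 (iv4 F507709)
def n222472 : Q := act 6 n199731
theorem D222472 : act 6 n199731 = n222472 := rfl
theorem F514394 : act 2 n222472 = n214089 := d3_1 D222472 F473428 (iv2 F413286)
theorem F514395 : act 3 n222472 = n222078 := d7_1 D222472 (iv6 D222078) (iv3 F413287)
theorem F514396 : act 4 n222472 = n199732 := d10_1 D222472 (iv6 D199732) D199731
theorem F514397 : act 7 n222472 = n214086 := d14_2 (iv7 F413288) D222472 (iv6 D214086) F245654 (iv6 F407545)
theorem F514398 : act 0 n222472 = n214088 := d21_4 F512068 F476117 F476116 D222472 (iv6 F473425) (iv5 D194550) (iv1 F393306) (iv5 F470424) F470427 (iv1 F512072)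
theorem F514399 : act 0 n214087 = n222472 := d21_4 (iv5 D205194) D205193 (iv5 F470488) (iv6 F474374) (iv6 D222472) (iv5 F476116) (iv1 F476118) (iv5 F491231) F491232 F435364
def n222473 : Q := act 0 n199735
theorem D222473 : act 0 n199735 = n222473 := rfl
theorem F514400 : act 3 n222473 = n218257 := d20_5 F432844 F486351 (iv4 F513914) F513913 D222473 F492993 F375075 D217825 (iv3 F514071) F514073
theorem F514401 : act 2 n199745 = n222473 := d15_3 (iv0 D222473) (iv0 F473626) F473625
theorem F514402 : act 6 n222473 = n204572 := d3_2 F430711 F514401 (iv2 D204572)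
theorem F514403 : act 7 n222473 = n199746 := d4_2 F473625 F514401 (iv2 F473622)
theorem F514404 : act 1 n199747 = n222473 := d15_1 F473627 F514403 (iv2 F473622)
def n222474 : Q := act 7 n199735
theorem D222474 : act 7 n199735 = n222474 := rfl
theorem F514405 : act 2 n222474 = n199747 := d4_1 D222474 (iv7 D199747) (iv2 F413301)
theorem F514406 : act 4 n222474 = n221409 := d11_1 D222474 F508874 (iv4 F413302)
theorem F514407 : act 5 n222474 = n218857 := d13_1 D222474 F495933 F413303
theorem F514408 : act 6 n222474 = n199760 := d14_1 D222474 (iv7 F456356) F456355 F406151 D199735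
theorem F514409 : act 1 n199746 = n222474 := d15_1 D199746 (iv7 D222474) F413301
theorem F514410 : act 1 n222474 = n199745 := d15_1 F514409 (iv7 F473625) F473622
def n222475 : Q := act 0 n199738
theorem D222475 : act 0 n199738 = n222475 := rfl
theorem F514411 : act 5 n222475 = n200865 := d17_1 D222475 (iv1 D200865) D200866 F418208 F379755 F378519 D218732 F495385 F413320
theorem F514412 : act 4 n222475 = n218992 := d18_1 D222475 F496574 (iv4 D204728) (iv5 D124277) (iv4 F146907) D189809 (iv4 F413304) (iv0 D199736) D199738
theorem F514413 : act 7 n199753 = n222475 := d11_0 F514412 F497679 F497677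
theorem F514414 : act 1 n199755 = n222475 := d17_8 F496574 (iv5 F480991) F496623 F496621 (iv4 F496434) F496433 F413308 (iv5 F413361) F514412
theorem F514415 : act 3 n203693 = n222475 := d20_5 F119923 (iv1 F91660) F91659 (iv3 F198755) F429435 F514412 F496574 (iv4 D204728) F198771 (iv1 F119925)
theorem F514416 : act 2 n222475 = n199752 := d0_1 F514415 (iv3 F477570) (iv2 F476330) (iv3 F434868) F433348
def n222476 : Q := act 1 n199738
theorem D222476 : act 1 n199738 = n222476 := rfl
theorem F514417 : act 1 n222476 = n199755 := d15_1 D222476 (iv7 D199755) (iv2 F413318)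
theorem F514418 : act 7 n222476 = n199752 := d15_2 (iv0 D222475) D222476 (iv2 F514416)
theorem F514419 : act 5 n222476 = n200864 := d17_7 D113590 F399974 (iv1 F484248) F484244 (iv4 F377864) D199738 D222476 (iv0 D200864) F176734
theorem F514420 : act 4 n222476 = n218867 := d17_9 F497547 (iv5 F508648) (iv1 F508650) (iv5 F495828) F495827 F461349 (iv0 D199736) D199738 D222476
theorem F514421 : act 3 n205071 = n222476 := d19_19 (iv1 D222476) (iv5 D199738) F377864 (iv3 D189816) (iv1 D95287) D95289 D189820 F377873 (iv1 F442051) (iv5 F508140) F508137 F398512 (iv1 F176945) (iv5 F175888) (iv4 F247454) (iv3 F473947) (iv1 F482971) (iv5 F514292) F514293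
theorem F514422 : act 6 n218866 = n222476 := d21_9 (iv5 D199738) D199736 (iv5 F461349) (iv6 D211382) F353408 D212845 F467754 D214087 F496224 (iv1 D222476)
theorem F514423 : act 2 n222476 = n199753 := d3_1 F514422 (iv6 F496282) (iv2 F496283)
def n222477 : Q := act 7 n199738
theorem D222477 : act 7 n199738 = n222477 := rfl
theorem F514424 : act 2 n222477 = n199755 := d4_1 D222477 (iv7 D199755) (iv2 F413318)
theorem F514425 : act 3 n222477 = n215294 := d8_1 D222477 (iv7 F513921) F513919
theorem F514426 : act 4 n222477 = n218967 := d11_1 D222477 F496432 F413320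
theorem F514427 : act 5 n222477 = n199739 := d13_1 D222477 (iv7 D199739) D199738
theorem F514428 : act 6 n222477 = n203689 := d14_1 D222477 (iv7 F476140) (iv6 F495930) F495933 (iv6 F413319)
theorem F514429 : act 1 n199753 = n222477 := d15_1 D199753 (iv7 D222477) F413318
theorem F514430 : act 1 n222477 = n199752 := d15_1 F514429 (iv7 F514418) F514423
def n222478 : Q := act 3 n199742
theorem D222478 : act 3 n199742 = n222478 := rfl
theorem F514431 : act 2 n222478 = n219036 := d0_1 D222478 (iv3 D219036) (iv2 F380711) (iv3 F417824) F417823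
theorem F514432 : act 4 n222478 = n205522 := d5_2 F413334 D222478 F436824 (iv4 F406893) (iv3 F406894)
theorem F514433 : act 6 n222478 = n205521 := d7_2 F413335 D222478 F436818
theorem F514434 : act 7 n222478 = n218673 := d8_2 F476144 D222478 F495086
theorem F514435 : act 0 n222478 = n215057 := d19_4 F433395 (iv5 D204721) F413334 D222478 F478121 F442835 (iv3 F442839) F442842 (iv5 D135477) F99025 F48286 F164313 (iv5 F164314) D50234 (iv3 F326652) F56238 D57927 F91667 D124305
theorem F514436 : act 0 n200709 = n222478 := d20_4 (iv4 F395256) F476468 F476466 F463879 (iv3 D222478) (iv4 F413334) (iv1 F253424) (iv4 F267340) (iv3 F377831) (iv1 F377836)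
def n222479 : Q := act 5 n199745
theorem D222479 : act 5 n199745 = n222479 := rfl
theorem F514437 : act 3 n222479 = n219623 := d6_1 D222479 F499729 (iv3 F413345)
theorem F514438 : act 0 n222479 = n216827 := d17_2 D199745 D222479 F486078 (iv4 F479047) F479046 F474325 (iv5 F479105) F479107 F406123
theorem F514439 : act 1 n222479 = n216826 := d17_6 (iv1 F470494) F470498 F364551 D205194 (iv4 F435365) D222479 F486077 F471630 F375256
def n222480 : Q := act 5 n199746
theorem D222480 : act 5 n199746 = n222480 := rfl
theorem F514440 : act 3 n222480 = n221995 := d6_1 D222480 (iv5 F513924) F513926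
theorem F514441 : act 6 n222480 = n218059 := d12_2 F467825 D222480 (iv5 D218059) F373431 (iv5 F467821)
theorem F514442 : act 4 n222480 = n220735 := d16_2 F473619 D222480 F505227 (iv4 D205243) (iv5 D125629) (iv4 F201993) D205194 F435363 (iv2 F473618)
theorem F514443 : act 0 n222480 = n216826 := d17_2 (iv1 F514409) D222480 F486077 (iv4 F479043) F479042 F435571 (iv5 F430684) (iv0 F508875) (iv4 F514406)
theorem F514444 : act 1 n222480 = n216827 := d17_6 D213458 F470488 F474373 F474372 F473619 D222480 F486078 (iv0 D213687) F242871
def n222481 : Q := act 4 n199752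
theorem D222481 : act 4 n199752 = n222481 := rfl
theorem F514445 : act 2 n222481 = n218992 := d1_1 D222481 (iv4 F514412) F514416
theorem F514446 : act 3 n222481 = n203872 := d5_1 D222481 F492132 (iv3 F497868) F497869 F477570
theorem F514447 : act 5 n222481 = n216850 := d9_2 (iv5 F477569) D222481 F486210 (iv5 F379739) (iv4 F422226) F422227 (iv4 F433333) F433336 (iv4 F497677) F497678 F481152 (iv5 F374777) (iv4 F478755) F478754 (iv4 F477564)
theorem F514448 : act 7 n222481 = n218867 := d11_2 F514418 D222481 (iv4 F514420)
theorem F514449 : act 0 n222481 = n221367 := d17_0 (iv5 D221367) (iv1 F495308) (iv5 F495307) F413357 (iv5 D199750) F413323 (iv5 F514427) F514430 D222481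
theorem F514450 : act 1 n222481 = n214639 := d18_6 (iv1 D163950) (iv4 F146887) D189798 (iv4 F477564) (iv5 F477569) D222481 (iv4 D214639) D214638 F476166
theorem F514451 : act 6 n222481 = n219210 := d21_5 F505227 (iv1 F495938) (iv5 D218858) (iv6 F476169) (iv1 F514450) F497743 F497495 (iv5 D219160) (iv6 F496800) (iv1 F505229)
def n222482 : Q := act 6 n199752
theorem D222482 : act 6 n199752 = n222482 := rfl
theorem F514452 : act 3 n222482 = n219234 := d7_1 D222482 (iv6 F497866) F477570
theorem F514453 : act 4 n222482 = n219210 := d10_1 D222482 (iv6 F514451) (iv4 D222481)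
theorem F514454 : act 5 n222482 = n214801 := d12_1 D222482 (iv6 F505576) F505575 (iv6 F477565) (iv5 F477569)
theorem F514455 : act 7 n222482 = n219253 := d14_2 F514418 D222482 F497955 F496285 F514422
theorem F514456 : act 0 n222482 = n215449 := d21_4 F406282 F477568 (iv5 F477569) D222482 F480047 (iv5 D206260) (iv1 F321312) D141912 D211382 F461348
theorem F514457 : act 1 n222482 = n218056 := d15_1 (iv0 F514456) F491937 (iv2 F480045)
def n222483 : Q := act 7 n199754
theorem D222483 : act 7 n199754 = n222483 := rfl
theorem F514458 : act 2 n222483 = n218967 := d4_1 D222483 F496432 (iv2 F413358)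
theorem F514459 : act 4 n222483 = n199755 := d11_1 D222483 (iv7 D199755) D199754
theorem F514460 : act 5 n222483 = n218945 := d13_1 D222483 F496317 F492054
theorem F514461 : act 6 n222483 = n203692 := d14_1 D222483 F429430 (iv6 D194763) (iv7 F394383) (iv6 F413359)
theorem F514462 : act 1 n218734 = n222483 := d15_1 F495384 (iv7 D222483) F413358
theorem F514463 : act 1 n222483 = n218732 := d15_1 F514462 F495371 (iv2 F495380)
def n222484 : Q := act 1 n199772
theorem D222484 : act 1 n199772 = n222484 := rfl
theorem F514464 : act 1 n222484 = n210683 := d15_1 D222484 (iv7 F460569) F460567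
theorem F514465 : act 7 n222484 = n219560 := d15_2 (iv0 F413430) D222484 F499446
theorem F514466 : act 5 n222484 = n208842 := d17_7 (iv1 D65471) (iv5 D30694) D30691 D65462 D139489 (iv5 F413429) D222484 F451075 (iv4 D139516)
theorem F514467 : act 4 n222484 = n203140 := d17_9 F427127 (iv5 D141461) (iv1 F103073) D143255 (iv4 F372580) F371709 F372566 (iv5 F413429) D222484
theorem F514468 : act 3 n218358 = n222484 := d20_3 (iv4 F453705) F453707 (iv4 F493486) (iv1 D222484) (iv3 D199772) (iv4 F409093) F409091 F360051 (iv3 F431490) F431492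
theorem F514469 : act 6 n218356 = n222484 := d21_3 F458442 D217314 (iv5 F493485) (iv1 D222484) (iv6 F413432) F485600 (iv1 D216716) (iv5 F458409) (iv6 F460558) (iv1 F460559)
theorem F514470 : act 2 n208846 = n222484 := d1_3 F514467 F427123 D208846
def n222485 : Q := act 3 n199774
theorem D222485 : act 3 n199774 = n222485 := rfl
theorem F514471 : act 4 n222485 = n219562 := d5_2 F458903 D222485 F499458 (iv4 F388433) (iv3 F458898)
theorem F514472 : act 6 n222485 = n209552 := d7_2 (iv6 F413438) D222485 F454100
theorem F514473 : act 0 n222485 = n218358 := d20_4 (iv4 F457695) (iv1 F458902) F458903 D222485 F514468 F514467 F427127 (iv4 F460600) (iv3 F489717) F489721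
theorem F514474 : act 0 n204937 = n222485 := d20_4 F373044 F407622 F407620 (iv3 F434256) (iv3 D222485) (iv4 F458903) F458901 (iv4 F457703) (iv3 F457704) (iv1 F373046)
def n222486 : Q := act 5 n199774
theorem D222486 : act 5 n199774 = n222486 := rfl
theorem F514475 : act 2 n222486 = n209560 := d2_1 D222486 (iv5 D209560) F413439
theorem F514476 : act 4 n222486 = n217595 := d9_1 D222486 F489691 F465298 (iv5 D209199) (iv4 F222622) (iv5 F420731) F420730 (iv5 F428118) F428117 (iv5 F397396) (iv4 F452687) (iv5 D209198) (iv4 F223156) D210821 F458903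
theorem F514477 : act 6 n222486 = n209554 := d12_2 (iv6 F413438) D222486 (iv5 D209554) (iv6 D136604) D136603
theorem F514478 : act 1 n222486 = n210619 := d17_6 (iv1 F489567) F489564 F438475 D210821 F458903 D222486 (iv5 D210619) (iv0 F458232) F458231
def n222487 : Q := act 6 n199784
theorem D222487 : act 6 n199784 = n222487 := rfl
theorem F514479 : act 2 n222487 = n218278 := d3_1 D222487 (iv6 D218278) F413501
theorem F514480 : act 3 n222487 = n221635 := d7_1 D222487 F510017 F450491
theorem F514481 : act 4 n222487 = n201722 := d10_1 D222487 (iv6 F421562) F413502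
theorem F514482 : act 5 n222487 = n218309 := d12_1 D222487 (iv6 F493239) F467840 D214425 (iv5 F475124)
theorem F514483 : act 7 n222487 = n222303 := d14_2 (iv7 F413500) D222487 F513466 F513064 (iv6 F413372)
theorem F514484 : act 0 n222487 = n218287 := d21_4 F490914 (iv1 F482536) (iv5 F475124) D222487 (iv6 D218287) F449324 D221995 (iv5 F513924) F513927 (iv1 F490912)
def n222488 : Q := act 2 n199787
theorem D222488 : act 2 n199787 = n222488 := rfl
theorem F514485 : act 3 n222488 = n207369 := d0_2 D199787 D222488 F452208 (iv3 F452206) (iv2 F410220)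
theorem F514486 : act 4 n222488 = n210495 := d1_2 (iv4 F448517) D222488 (iv2 F457782)
theorem F514487 : act 5 n222488 = n202546 := d2_2 (iv5 F413507) D222488 (iv2 F424435)
theorem F514488 : act 6 n222488 = n204936 := d3_2 F443244 D222488 (iv2 F443242)
theorem F514489 : act 7 n222488 = n210675 := d4_2 F484680 D222488 (iv2 F484676)
theorem F514490 : act 1 n222488 = n202553 := d15_0 F484684 F484680 D222488
theorem F514491 : act 1 n210694 = n222488 := d15_0 F514490 F424470 D210694
def n222489 : Q := act 1 n199794
theorem D222489 : act 1 n199794 = n222489 := rfl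
theorem F514492 : act 7 n222489 = n202555 := d15_2 (iv0 F450510) D222489 F424476
theorem F514493 : act 5 n222489 = n211582 := d17_7 (iv1 F245973) F365415 (iv1 F252177) (iv5 F352974) (iv4 F221777) (iv5 F413533) D222489 (iv0 F473476) (iv4 D214101)
theorem F514494 : act 4 n222489 = n208622 := d17_9 (iv1 F450209) (iv5 D135065) (iv1 D63480) D63482 D135071 D208783 (iv0 F450846) (iv5 F413533) D222489
theorem F514495 : act 3 n209564 = n222489 := d19_19 (iv1 D222489) F413533 F221777 (iv3 F247118) F247119 (iv5 F361427) F361426 (iv3 F311075) (iv1 F315687) F315689 F207537 (iv3 F207746) F212240 (iv5 F355256) F235638 (iv3 F429474) (iv1 F429479) (iv5 F366169) (iv4 F454152)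
theorem F514496 : act 6 n210698 = n222489 := d21_3 (iv5 D160077) (iv1 F325373) (iv5 F458480) (iv1 D222489) (iv6 F460537) (iv5 D211189) (iv1 F384445) (iv5 F490422) F490423 (iv1 F387236)
theorem F514497 : act 2 n222489 = n208623 := d3_1 F514496 (iv6 F471971) F471968
theorem F514498 : act 0 n208839 = n222489 := d21_4 F458409 D216715 F485596 (iv6 F457333) (iv6 F514496) F458480 (iv1 F431136) (iv5 F501482) F501485 (iv1 F460580)
def n222490 : Q := act 2 n199794
theorem D222490 : act 2 n199794 = n222490 := rfl
theorem F514499 : act 3 n222490 = n219635 := d0_2 D199794 D222490 (iv2 F504415) F504416 F410577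
theorem F514500 : act 4 n222490 = n210874 := d1_2 F450508 D222490 F459102
theorem F514501 : act 5 n222490 = n209181 := d2_2 (iv5 F413533) D222490 (iv2 D209181)
theorem F514502 : act 6 n222490 = n210683 := d3_2 F460537 D222490 (iv2 F460532)
theorem F514503 : act 7 n222490 = n208839 := d4_2 F513397 D222490 (iv2 F513395)
theorem F514504 : act 1 n222490 = n208623 := d15_0 (iv0 F513398) F513397 D222490
theorem F514505 : act 1 n202555 = n222490 := d15_0 F514504 F450211 (iv2 F424476)
def n222491 : Q := act 3 n199810
theorem D222491 : act 3 n199810 = n222491 := rfl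
theorem F514506 : act 4 n222491 = n214787 := d5_2 F481982 D222491 (iv3 F476848) (iv4 F472435) (iv3 F481981)
theorem F514507 : act 5 n222491 = n204204 := d6_2 (iv5 F413594) D222491 (iv3 D204204)
theorem F514508 : act 6 n222491 = n215619 := d7_2 (iv6 F413597) D222491 (iv3 F480785)
theorem F514509 : act 7 n222491 = n215542 := d8_2 F413599 D222491 F480415
theorem F514510 : act 0 n222491 = n206179 := d19_4 (iv1 F432754) (iv5 F481980) F481982 D222491 (iv5 F514359) F514358 F492904 F490369 F372054 (iv4 F470696) F470695 F431234 F431230 F383257 F195862 F153926 (iv5 F153925) (iv4 F306747) F432755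
theorem F514511 : act 0 n205113 = n222491 := d21_4 F466004 (iv1 F412201) (iv5 F412200) D205113 F514508 F482553 F482552 F459912 (iv6 F279726) (iv1 F466006)
def n222492 : Q := act 5 n199812
theorem D222492 : act 5 n199812 = n222492 := rfl
theorem F514512 : act 2 n222492 = n215719 := d2_1 D222492 (iv5 F514365) F514363
theorem F514513 : act 3 n222492 = n199823 := d6_1 D222492 (iv5 D199823) (iv3 F413604)
theorem F514514 : act 4 n222492 = n212473 := d9_1 D222492 (iv5 D212473) F230827 D147278 D212480 F466004 (iv4 F479241) F479242 (iv4 F399051) (iv5 F468854) F468853 F429855 F400588 F400586 D199812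
theorem F514515 : act 6 n222492 = n215718 := d12_2 (iv6 F413610) D222492 (iv5 F492128) F492130 (iv5 D215479)
theorem F514516 : act 7 n222492 = n215304 := d13_2 (iv7 F413605) D222492 F479304
theorem F514517 : act 0 n222492 = n215706 := d17_2 (iv1 F453098) D222492 F481188 F476404 F404388 F404395 (iv5 F508162) (iv0 D221286) (iv4 F453096)
theorem F514518 : act 1 n222492 = n201415 := d17_6 F480401 F479778 F400590 F400586 D199812 D222492 (iv5 F477620) (iv0 F477621) (iv4 F480400)
def n222493 : Q := act 1 n199820
theorem D222493 : act 1 n199820 = n222493 := rfl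
theorem F514519 : act 1 n222493 = n202158 := d15_1 D222493 F423086 (iv2 F413641)
theorem F514520 : act 7 n222493 = n212134 := d15_2 (iv0 F502076) D222493 (iv2 F502071)
theorem F514521 : act 5 n222493 = n213882 := d17_7 (iv1 D213902) F423036 (iv1 F423040) (iv5 F423097) F500857 F500860 D222493 F502055 F502053
theorem F514522 : act 4 n222493 = n201948 := d18_7 F459736 F459735 F415127 (iv4 F179714) (iv5 F351416) (iv4 F413643) D222493 (iv0 D201948) (iv5 F245126)
theorem F514523 : act 6 n206343 = n222493 := d21_3 (iv5 F440360) (iv1 F449863) F449866 (iv1 D222493) (iv6 D199820) (iv5 D111771) F166171 (iv5 F358693) D196480 (iv1 F440359)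
theorem F514524 : act 2 n222493 = n212149 := d3_1 F514523 (iv6 F508854) F508852
def n222494 : Q := act 5 n199845
theorem D222494 : act 5 n199845 = n222494 := rfl
theorem F514525 : act 2 n222494 = n215093 := d2_1 D222494 (iv5 D215093) (iv2 F413780)
theorem F514526 : act 3 n222494 = n208097 := d6_1 D222494 F447853 (iv3 F413781)
theorem F514527 : act 4 n222494 = n209060 := d9_1 D222494 (iv5 F468974) (iv4 D213092) (iv5 D152512) (iv4 F239688) (iv5 F336470) (iv4 F373679) D218099 F492143 (iv5 F489867) F489866 F371178 (iv4 F403242) F403241 (iv4 F413782)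
theorem F514528 : act 6 n222494 = n215022 := d12_2 D199845 D222494 (iv5 D215022) F413779 (iv5 D199844)
theorem F514529 : act 7 n222494 = n214997 := d13_2 (iv7 F413783) D222494 (iv5 D214997)
theorem F514530 : act 0 n222494 = n215506 := d17_2 F413784 D222494 F480256 F408796 (iv5 F403032) (iv0 F422263) F422262 (iv0 F415307) (iv4 F408063)
theorem F514531 : act 1 n222494 = n222181 := d17_6 (iv1 F199388) (iv5 F262056) (iv1 F403239) F403241 (iv4 F413782) D222494 F512761 F506147 (iv4 D204895)
def n222495 : Q := act 0 n199865
theorem D222495 : act 0 n199865 = n222495 := rfl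
theorem F514532 : act 5 n222495 = n207195 := d17_1 D222495 F443749 F377574 F270248 F400091 F400089 (iv5 F359010) F283863 (iv4 F413861)
theorem F514533 : act 4 n222495 = n218666 := d18_1 D222495 F495050 (iv4 D214314) (iv5 F443687) F443686 (iv0 F416185) (iv4 F382492) F498308 F498303
theorem F514534 : act 3 n222495 = n214964 := d20_5 F326930 (iv1 F170831) (iv4 F173713) D199865 D222495 F477663 (iv1 F328210) (iv4 F173515) F173514 F327193
theorem F514535 : act 6 n222495 = n221371 := d21_5 F394890 D208098 F447857 (iv6 F413862) D222495 F508667 (iv1 F496343) (iv5 F506212) (iv6 D220908) (iv1 F394892)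
theorem F514536 : act 2 n210027 = n222495 := d15_3 (iv0 D222495) (iv0 F417179) (iv7 F455814)
theorem F514537 : act 1 n210024 = n222495 := d15_0 (iv0 D222495) F413863 (iv2 F455800)
theorem F514538 : act 7 n222495 = n210026 := d15_2 (iv0 F455804) F514537 (iv2 F455813)
def n222496 : Q := act 4 n199868
theorem D222496 : act 4 n199868 = n222496 := rfl
theorem F514539 : act 2 n222496 = n218972 := d1_1 D222496 F496457 F414708
theorem F514540 : act 3 n222496 = n218582 := d5_1 D222496 F494597 F492170 (iv4 D218105) F413877
theorem F514541 : act 5 n222496 = n207223 := d9_2 (iv5 F413876) D222496 F443882 (iv5 F328440) (iv4 D125760) (iv5 D58891) (iv4 F93111) D125757 D205317 F435918 F420649 (iv5 F327581) F220677 (iv5 F202250) (iv4 F219334)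
theorem F514542 : act 6 n222496 = n211499 := d10_2 (iv6 F413878) D222496 (iv4 D211499)
theorem F514543 : act 7 n222496 = n207222 := d11_2 (iv7 F413875) D222496 F443878
theorem F514544 : act 0 n222496 = n200032 := d17_0 (iv5 F428313) (iv1 F428316) F345004 (iv4 F413866) (iv5 D199866) (iv0 D111862) D111864 D199868 D222496
theorem F514545 : act 1 n222496 = n200029 := d18_6 D51777 (iv4 F174552) (iv1 F202252) (iv4 F219334) (iv5 F413876) D222496 (iv4 D200029) (iv0 D112260) (iv5 D51779)
def n222497 : Q := act 6 n199883
theorem D222497 : act 6 n199883 = n222497 := rfl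
theorem F514546 : act 2 n222497 = n209310 := d3_1 D222497 (iv6 D209310) (iv2 F413969)
theorem F514547 : act 3 n222497 = n214870 := d7_1 D222497 F477215 F413968
theorem F514548 : act 4 n222497 = n212161 := d10_1 D222497 (iv6 F464556) (iv4 F413967)
theorem F514549 : act 5 n222497 = n214869 := d12_1 D222497 (iv6 D214869) (iv5 D163249) (iv6 F326099) (iv5 F413966)
theorem F514550 : act 7 n222497 = n217828 := d14_2 (iv7 F413965) D222497 (iv6 D217828) (iv7 F372090) F376039
theorem F514551 : act 0 n222497 = n212178 := d21_4 F401467 (iv1 F174031) (iv5 F413966) D222497 (iv6 D212178) (iv5 F435904) (iv1 F435906) (iv5 D145416) (iv6 F172202) (iv1 F401470)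
theorem F514552 : act 0 n220719 = n222497 := d21_4 (iv5 F357172) F226780 (iv5 F416473) (iv6 F505148) (iv6 D222497) F413966 (iv1 D111979) D111981 F346859 (iv1 F357171)
def n222498 : Q := act 6 n199900
theorem D222498 : act 6 n199900 = n222498 := rfl
theorem F514553 : act 2 n222498 = n212539 := d3_1 D222498 F466335 (iv2 F414054)
theorem F514554 : act 3 n222498 = n210802 := d7_1 D222498 (iv6 D210802) (iv3 F414055)
theorem F514555 : act 4 n222498 = n199901 := d10_1 D222498 (iv6 D199901) D199900
theorem F514556 : act 5 n222498 = n212494 := d12_1 D222498 (iv6 F466077) (iv5 D178247) D178248 (iv5 F414056)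
theorem F514557 : act 7 n222498 = n212520 := d14_2 (iv7 F414057) D222498 F466227 (iv7 F341871) (iv6 F341872)
theorem F514558 : act 0 n222498 = n212497 := d21_4 F318576 (iv1 F333972) (iv5 F414056) D222498 F466094 F437960 (iv1 F212650) (iv5 F438571) F438572 (iv1 D155757)
theorem F514559 : act 0 n203161 = n222498 := d21_4 (iv5 D60329) (iv1 F131197) D128096 (iv6 F427237) (iv6 D222498) F414056 (iv1 F351993) (iv5 F440301) (iv6 D206334) (iv1 F206411)
def n222499 : Q := act 5 n199902
theorem D222499 : act 5 n199902 = n222499 := rfl
theorem F514560 : act 2 n222499 = n211816 := d2_1 D222499 F463180 F414064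
theorem F514561 : act 3 n222499 = n218822 := d6_1 D222499 (iv5 F503539) F503542
theorem F514562 : act 7 n222499 = n211801 := d13_2 (iv7 F414063) D222499 (iv5 D211801)
theorem F514563 : act 4 n222499 = n218825 := d18_5 (iv1 F408705) (iv4 F463138) (iv1 F507377) (iv4 F507379) D222499 F510049 F510047 (iv0 F497798) F476232
theorem F514564 : act 0 n222499 = n211814 := d21_1 D222499 (iv5 F463175) (iv6 D200427) F360551 D113122 (iv5 F355199) F321332 D143792 (iv6 F414067) F414065
theorem F514565 : act 0 n211813 = n222499 := d21_10 (iv5 D222499) (iv1 D199902) D199903 F414070 D199907 (iv6 F414091) F381759 (iv1 F367168) (iv5 F381804) F463173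
def n222500 : Q := act 0 n199903
theorem D222500 : act 0 n199903 = n222500 := rfl
theorem F514566 : act 5 n222500 = n200221 := d17_3 (iv1 D199902) D199903 D222500 F415585 D221787 (iv0 F510815) (iv5 D221134) D221133 (iv4 F507379)
theorem F514567 : act 3 n222500 = n200222 := d20_5 (iv4 F461310) (iv1 D211370) D211371 (iv3 F461313) D222500 F480180 F480179 (iv4 F425659) F497410 (iv1 D219144)
theorem F514568 : act 4 n222500 = n221643 := d20_8 F273932 (iv1 F273464) (iv4 F464378) (iv3 F464380) (iv1 D211397) D211398 F461406 D222500 F510065 F479971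
theorem F514569 : act 6 n222500 = n215119 := d21_5 (iv5 D199906) (iv1 D111976) D111977 (iv6 F414070) D222500 (iv5 D215119) (iv1 F262314) (iv5 F476538) (iv6 F476540) (iv1 F414086)
theorem F514570 : act 2 n215121 = n222500 := d3_3 F514569 F478454 D215121
theorem F514571 : act 7 n219241 = n222500 := d14_0 F514569 F478456 F477968 F477965 D219241
theorem F514572 : act 0 n222500 = n211812 := d21_4 (iv5 F476261) (iv1 F262312) D215119 (iv6 F514569) F463170 (iv5 D211676) (iv1 F461774) (iv5 F473956) (iv6 F473961) F476262
def n222501 : Q := act 1 n199903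
theorem D222501 : act 1 n199903 = n222501 := rfl
theorem F514573 : act 1 n222501 = n211812 := d15_1 D222501 F463171 (iv2 F414069)
theorem F514574 : act 7 n222501 = n215121 := d15_2 (iv0 D222500) D222501 F514570
theorem F514575 : act 4 n222501 = n218830 := d17_9 F509034 F513689 (iv1 D222340) F463178 (iv4 D211815) (iv5 D144128) (iv0 F365095) D199903 D222501
theorem F514576 : act 3 n215124 = n222501 := d19_19 (iv1 D222501) (iv5 D199903) (iv4 F175593) (iv3 F223033) F458824 (iv5 F483255) (iv4 D216164) (iv3 F384210) D219549 F499391 (iv4 D214518) (iv3 F369334) F369337 (iv5 F369495) (iv4 F477911) F477912 (iv1 F369059) (iv5 F378992) (iv4 F478475)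
theorem F514577 : act 5 n200437 = n222501 := d21_0 (iv1 D222501) (iv5 D199903) (iv6 D111975) (iv1 F93110) (iv6 F344602) (iv5 F210012) F245705 (iv5 D113108) D113109 D200437
theorem F514578 : act 6 n219230 = n222501 := d21_3 F497879 F487789 (iv5 F497837) (iv1 D222501) F414070 (iv5 D111977) F82848 D113649 (iv6 F381785) D219237
theorem F514579 : act 2 n222501 = n219241 := d3_1 F514578 (iv6 D219241) F497838
def n222502 : Q := act 7 n199903
theorem D222502 : act 7 n199903 = n222502 := rfl
theorem F514580 : act 2 n222502 = n211812 := d4_1 D222502 F463171 (iv2 F414069)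
theorem F514581 : act 3 n222502 = n218062 := d8_1 D222502 F491962 (iv3 F461313)
theorem F514582 : act 5 n222502 = n199904 := d13_1 D222502 (iv7 D199904) D199903
theorem F514583 : act 6 n222502 = n211857 := d14_1 D222502 F463285 (iv6 D198579) (iv7 F174026) (iv6 F414070)
theorem F514584 : act 1 n219241 = n222502 := d15_1 (iv0 F497899) (iv7 D222502) F414069
theorem F514585 : act 1 n222502 = n215121 := d15_1 F514584 (iv7 F514574) F514579
def n222503 : Q := act 5 n199905
theorem D222503 : act 5 n199905 = n222503 := rfl
theorem F514586 : act 2 n222503 = n215142 := d2_1 D222503 F478558 (iv2 F414079)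
theorem F514587 : act 3 n222503 = n199906 := d6_1 D222503 (iv5 D199906) D199905
theorem F514588 : act 6 n222503 = n220693 := d12_2 (iv6 F414076) D222503 (iv5 D220693) (iv6 D194222) F380920
theorem F514589 : act 7 n222503 = n210019 := d13_2 (iv7 F414077) D222503 (iv5 D210019)
theorem F514590 : act 4 n222503 = n214747 := d16_2 (iv4 F414075) D222503 F492220 (iv4 F509381) (iv5 D221512) (iv4 F501744) F501745 (iv7 F480194) F480191
theorem F514591 : act 0 n222503 = n215222 := d17_2 F414082 D222503 (iv5 D215222) F268325 F341279 D140443 D210986 F459635 (iv4 F406535)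
theorem F514592 : act 1 n222503 = n214698 := d17_6 (iv1 D220934) (iv5 F481961) (iv1 F509392) F509391 (iv4 F414075) D222503 F476439 F478938 F506357
def n222504 : Q := act 5 n199918
theorem D222504 : act 5 n199918 = n222504 := rfl
theorem F514593 : act 2 n222504 = n199920 := d2_1 D222504 (iv5 D199920) (iv2 F414143)
theorem F514594 : act 3 n222504 = n222128 := d6_1 D222504 (iv5 D222128) (iv3 F414144)
theorem F514595 : act 4 n222504 = n216380 := d9_1 D222504 (iv5 D216380) (iv4 F429909) F429910 F428674 F360138 F172990 D198562 (iv4 F495820) (iv5 D218827) D218826 F495815 F438212 (iv5 F406082) (iv4 F414145)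
theorem F514596 : act 6 n222504 = n211968 := d12_2 D199918 D222504 (iv5 D211968) (iv6 F408687) F408683
theorem F514597 : act 7 n222504 = n218861 := d13_2 (iv7 F414146) D222504 F495951
theorem F514598 : act 1 n222504 = n218862 := d17_6 F430931 F459673 (iv1 D210995) (iv5 F406082) (iv4 F414145) D222504 F495957 (iv0 F495134) (iv4 F413073)
theorem F514599 : act 0 n222504 = n218859 := d18_0 F495942 (iv1 F379133) F378636 (iv5 F160480) (iv4 F395006) D220926 (iv4 F506309) (iv0 F414147) D222504
def n222505 : Q := act 3 n199921
theorem D222505 : act 3 n199921 = n222505 := rfl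
theorem F514600 : act 4 n222505 = n216381 := d5_2 D199921 D222505 F484108 (iv4 F414158) F414156
theorem F514601 : act 6 n222505 = n216382 := d7_2 F512846 D222505 (iv3 F512845)
theorem F514602 : act 7 n222505 = n222173 := d8_2 (iv7 F414161) D222505 F512722
theorem F514603 : act 2 n222505 = n222175 := d15_3 F512731 (iv0 F512724) (iv7 F514602)
def n222506 : Q := act 5 n199923
theorem D222506 : act 5 n199923 = n222506 := rfl
theorem F514604 : act 2 n222506 = n199926 := d2_1 D222506 (iv5 D199926) (iv2 F414169)
theorem F514605 : act 3 n222506 = n222124 := d6_1 D222506 (iv5 D222124) (iv3 F414170)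
theorem F514606 : act 4 n222506 = n202406 := d9_1 D222506 (iv5 D202406) (iv4 F388807) F388808 (iv4 F388778) F388779 (iv4 F414185) (iv5 F414449) (iv4 F473244) (iv5 D214046) F339885 (iv5 D122376) (iv4 F195723) F298146 (iv4 F414171)
theorem F514607 : act 6 n222506 = n200339 := d12_2 D199923 D222506 F423759 (iv6 D202362) F180024
theorem F514608 : act 7 n222506 = n215532 := d13_2 (iv7 F414172) D222506 (iv5 D215532)
theorem F514609 : act 1 n222506 = n210092 := d17_6 F414435 F384787 F384786 F298146 (iv4 F414171) D222506 F456120 F414326 D199975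
def n222507 : Q := act 5 n199928
theorem D222507 : act 5 n199928 = n222507 := rfl
theorem F514610 : act 2 n222507 = n211144 := d2_1 D222507 F460312 (iv2 F414187)
theorem F514611 : act 3 n222507 = n199979 := d6_1 D222507 (iv5 F458637) F458635
theorem F514612 : act 4 n222507 = n202181 := d9_1 D222507 (iv5 D202181) F179716 (iv5 F176839) F176837 (iv5 F408028) (iv4 F464845) (iv5 F464851) F464850 (iv5 D197977) F168789 (iv5 F81988) F81987 D111999 D199928
theorem F514613 : act 6 n222507 = n206346 := d12_2 (iv6 F424841) D222507 (iv5 F459003) F459004 (iv5 F424837)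
theorem F514614 : act 7 n222507 = n210734 := d13_2 F414451 D222507 F458637
theorem F514615 : act 0 n222507 = n210380 := d17_2 F424685 D222507 (iv5 D210380) F330034 F346903 (iv0 D109289) D109291 (iv0 F245002) (iv4 F424684)
theorem F514616 : act 1 n222507 = n210424 := d17_6 (iv1 F414133) (iv5 D199915) F174051 D111999 D199928 D222507 F457472 F348110 (iv4 F348112)
def n222508 : Q := act 3 n199933
theorem D222508 : act 3 n199933 = n222508 := rfl
theorem F514617 : act 2 n222508 = n211248 := d0_1 D222508 F460802 (iv2 F360677) (iv3 F397113) F414214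
theorem F514618 : act 4 n222508 = n208251 := d5_2 (iv4 F414213) D222508 F448583 (iv4 F221172) D143482
theorem F514619 : act 5 n222508 = n202184 := d6_2 (iv5 F414212) D222508 (iv3 D202184)
theorem F514620 : act 6 n222508 = n210569 := d7_2 (iv6 F414217) D222508 F458073
theorem F514621 : act 7 n222508 = n208248 := d8_2 (iv7 F414216) D222508 F448571
theorem F514622 : act 0 n222508 = n221050 := d19_4 F426426 F425172 (iv4 F414213) D222508 F506988 (iv4 D211019) (iv3 F438201) (iv1 F446701) (iv5 F483919) F483918 (iv3 F413030) (iv1 F491689) F491687 F413397 (iv3 F413385) F413384 (iv5 F419432) F419431 (iv3 F360706)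
theorem F514623 : act 0 n216530 = n222508 := d20_4 (iv4 F219380) (iv1 F438129) (iv4 F510983) F510982 (iv3 D222508) F414213 (iv1 F359468) D211564 F462159 F423252
def n222509 : Q := act 5 n199935
theorem D222509 : act 5 n199935 = n222509 := rfl
theorem F514624 : act 2 n222509 = n213369 := d2_1 D222509 F470106 F454074
theorem F514625 : act 3 n222509 = n199937 := d6_1 D222509 (iv5 D199937) (iv3 F414224)
theorem F514626 : act 6 n222509 = n201972 := d12_2 D199935 D222509 (iv5 D201972) (iv6 D115296) (iv5 F174125)
theorem F514627 : act 7 n222509 = n213324 := d13_2 F454067 D222509 F469931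
theorem F514628 : act 4 n222509 = n201972 := d16_2 (iv4 F414225) D222509 (iv5 D201972) F179562 D115354 D202069 (iv5 F454012) (iv7 F454014) (iv2 F454015)
theorem F514629 : act 1 n222509 = n212054 := d17_6 (iv1 D209844) D209846 (iv1 F504521) (iv5 D220595) (iv4 F414225) D222509 F464151 (iv0 F512419) F512416
theorem F514630 : act 0 n222509 = n212053 := d21_7 F407847 (iv1 F228678) F347240 D143033 (iv1 F349446) D199935 D222509 F464149 F427529 F407851
def n222510 : Q := act 5 n199936
theorem D222510 : act 5 n199936 = n222510 := rfl
theorem F514631 : act 2 n222510 = n219895 := d2_1 D222510 (iv5 D219895) F414230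
theorem F514632 : act 4 n222510 = n219645 := d9_1 D222510 (iv5 D219645) (iv4 D191915) (iv5 D99316) F73296 D47832 D103211 D194326 (iv4 F501070) (iv5 D219891) (iv4 D192415) (iv5 D100167) D100166 D192414 (iv4 F414229)
theorem F514633 : act 7 n222510 = n219908 := d13_2 (iv7 F414228) D222510 F501139
theorem F514634 : act 0 n222510 = n212803 := d17_2 (iv1 F414227) D222510 F467583 (iv4 F392958) (iv5 D184192) (iv0 F154962) F358515 F358520 (iv4 F392833)
theorem F514635 : act 1 n222510 = n220714 := d17_6 (iv1 F331237) (iv5 D103206) F154106 D192414 (iv4 F414229) D222510 F505127 (iv0 D194368) (iv4 D103253)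
def n222511 : Q := act 6 n199936
theorem D222511 : act 6 n199936 = n222511 := rfl
theorem F514636 : act 2 n222511 = n219896 := d3_1 D222511 (iv6 D219896) F414230
theorem F514637 : act 4 n222511 = n200439 := d10_1 D222511 F416435 (iv4 F414229)
theorem F514638 : act 7 n222511 = n200432 := d14_2 (iv7 F414228) D222511 (iv6 D200432) (iv7 F404131) (iv6 F404133)
theorem F514639 : act 0 n220842 = n222511 := d21_4 F392756 D211952 F463720 (iv6 F505838) (iv6 D222511) D222510 F514634 F467583 F392960 F392757
def n222512 : Q := act 4 n199937
theorem D222512 : act 4 n199937 = n222512 := rfl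
theorem F514640 : act 2 n222512 = n219900 := d1_1 D222512 F501104 (iv2 F414231)
theorem F514641 : act 3 n222512 = n201973 := d5_1 D222512 (iv4 D201973) (iv3 F422564) (iv4 F514628) F514625
theorem F514642 : act 6 n222512 = n201973 := d10_2 (iv6 F414232) D222512 (iv4 D201973)
theorem F514643 : act 7 n222512 = n219897 := d11_2 F505189 D222512 (iv4 F505191)
theorem F514644 : act 5 n222512 = n217335 := d16_1 D222512 (iv4 D217335) (iv5 D187203) (iv4 F147375) (iv5 F159290) (iv4 F392833) D220713 F505124 (iv2 F414231)
theorem F514645 : act 0 n222512 = n216537 := d17_0 (iv5 D216537) (iv1 F386674) (iv5 F467587) (iv4 F484812) (iv5 D216525) (iv0 F382445) D219320 F498278 D222512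
theorem F514646 : act 1 n222512 = n216539 := d18_6 (iv1 F396833) (iv4 F396835) (iv1 D112023) (iv4 F174128) D199937 D222512 F484855 (iv0 F472209) (iv5 D212809)
def n222513 : Q := act 3 n199949
theorem D222513 : act 3 n199949 = n222513 := rfl
theorem F514647 : act 4 n222513 = n222041 := d5_2 D199949 D222513 (iv3 D222041) (iv4 D198087) (iv3 F174281)
theorem F514648 : act 5 n222513 = n202169 := d6_2 (iv5 F414289) D222513 F423112
theorem F514649 : act 7 n222513 = n199989 := d8_2 (iv7 F414290) D222513 (iv3 D199989)
theorem F514650 : act 0 n222513 = n202256 := d20_4 (iv4 D198415) F174284 D199949 D222513 (iv3 F502564) (iv4 D220191) (iv1 F431210) F431208 F423804 (iv1 F407950)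
theorem F514651 : act 0 n202175 = n222513 := d20_4 D210734 F458638 F359947 D202175 (iv3 D222513) (iv4 D199949) F174283 (iv4 F179814) (iv3 F423464) F423467
def n222514 : Q := act 5 n199953
theorem D222514 : act 5 n199953 = n222514 := rfl
theorem F514652 : act 2 n222514 = n219339 := d2_1 D222514 F498356 F414316
theorem F514653 : act 3 n222514 = n221370 := d6_1 D222514 F508659 F506192
theorem F514654 : act 4 n222514 = n222258 := d9_1 D222514 (iv5 F513226) F513227 F453730 F389361 (iv5 F435057) F435056 (iv5 F382667) (iv4 F494872) F494873 (iv4 D209375) (iv5 D136372) F99799 D128808 F414313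
theorem F514655 : act 6 n222514 = n222257 := d12_2 (iv6 F506190) D222514 F513195 (iv6 F498116) (iv5 F506186)
theorem F514656 : act 7 n222514 = n219336 := d13_2 (iv7 F414312) D222514 F498345
theorem F514657 : act 0 n222514 = n219338 := d17_2 (iv1 F414311) D222514 (iv5 F511785) F511783 F453433 (iv0 F488274) (iv5 F506386) F506390 F459427
theorem F514658 : act 1 n222514 = n219337 := d17_6 D205130 F435081 (iv1 D128806) D128808 F414313 D222514 (iv5 F509213) F509215 (iv4 D205132)
def n222515 : Q := act 4 n199960
theorem D222515 : act 4 n199960 = n222515 := rfl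
theorem F514659 : act 2 n222515 = n222213 := d1_1 D222515 (iv4 D222213) (iv2 F414357)
theorem F514660 : act 7 n222515 = n222193 := d11_2 (iv7 F414358) D222515 (iv4 D222193)
theorem F514661 : act 5 n222515 = n222213 := d16_1 D222515 (iv4 D222213) (iv5 D198712) (iv4 F174734) F323062 (iv4 F174583) D200011 F414616 (iv2 F414357)
theorem F514662 : act 0 n222515 = n218466 := d17_0 F494031 F480889 F474539 (iv4 D203876) (iv5 D121148) (iv0 F298017) D164121 (iv0 F414359) D222515
def n222516 : Q := act 5 n199973
theorem D222516 : act 5 n199973 = n222516 := rfl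
theorem F514663 : act 2 n222516 = n214377 := d2_1 D222516 (iv5 D214377) F414421
theorem F514664 : act 3 n222516 = n212169 := d6_1 D222516 (iv5 F478441) F478437
theorem F514665 : act 7 n222516 = n214378 := d13_2 (iv7 F414420) D222516 (iv5 D214378)
theorem F514666 : act 0 n222516 = n199978 := d17_2 (iv1 F414424) D222516 F414449 F414185 (iv5 F388779) F388782 (iv5 F386452) (iv0 D174173) D174175
theorem F514667 : act 1 n222516 = n222506 := d17_6 (iv1 F430566) F357448 (iv1 D152172) D152173 F414422 D222516 (iv5 D222506) (iv0 F455403) F455402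
theorem F514668 : act 6 n222516 = n221875 := d21_3 F408735 (iv1 F414424) D222516 (iv1 F511180) (iv6 D200320) D200319 F415981 (iv5 D130559) (iv6 F182968) F408734
def n222517 : Q := act 6 n199978
theorem D222517 : act 6 n199978 = n222517 := rfl
theorem F514669 : act 2 n222517 = n222093 := d3_1 D222517 F512320 F480362
theorem F514670 : act 3 n222517 = n199980 := d7_1 D222517 (iv6 D199980) D199978
theorem F514671 : act 7 n222517 = n222137 := d14_2 (iv7 F414450) D222517 F512540 (iv7 F425551) (iv6 F425555)
theorem F514672 : act 0 n222517 = n221533 := d21_4 (iv5 F509587) F509590 (iv5 F414449) D222517 (iv6 D221533) F401169 (iv1 F488861) F488859 F428521 (iv1 F425877)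
theorem F514673 : act 0 n222127 = n222517 := d21_4 (iv5 D109318) D109315 D198446 D222127 (iv6 D222517) F414449 F455404 (iv5 D209930) (iv6 F408076) (iv1 D198453)
def n222518 : Q := act 3 n199981
theorem D222518 : act 3 n199981 = n222518 := rfl
theorem F514674 : act 2 n222518 = n211528 := d0_1 D222518 F461987 F459381 D211084 (iv2 F460046)
theorem F514675 : act 4 n222518 = n199984 := d5_2 D199981 D222518 (iv3 D199984) (iv4 D112140) (iv3 F174344)
theorem F514676 : act 5 n222518 = n211256 := d6_2 (iv5 F414456) D222518 F460827
theorem F514677 : act 7 n222518 = n221176 := d8_2 (iv7 F414455) D222518 F507587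
theorem F514678 : act 0 n222518 = n221160 := d19_4 (iv1 F168167) D112135 D199981 D222518 F507505 (iv4 D203259) F359934 (iv1 F457195) F457192 F233951 F205777 F112567 D157619 (iv4 F330162) F348407 (iv1 D126214) (iv5 D59170) F45411 (iv3 F76527)
def n222519 : Q := act 0 n199984
theorem D222519 : act 0 n199984 = n222519 := rfl
theorem F514679 : act 5 n222519 = n202265 := d17_3 (iv1 F365960) (iv5 F414474) D222519 F423423 (iv5 D119287) D119286 (iv5 F388840) (iv0 F388843) (iv4 F179638)
theorem F514680 : act 4 n222519 = n213820 := d18_1 D222519 F472230 (iv4 F422534) (iv5 D201961) F357067 (iv0 F403020) (iv4 F415916) (iv0 F415918) (iv5 F414474)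
theorem F514681 : act 3 n222519 = n202265 := d20_5 F245352 F111163 D112140 D199984 D222519 F423423 (iv1 F404636) F404635 F404284 F359506
theorem F514682 : act 6 n222519 = n201906 := d21_5 D202045 F469421 F469420 F449712 D222519 F472705 (iv1 F472703) (iv5 F472364) F472365 (iv1 F360644)
theorem F514683 : act 2 n203545 = n222519 := d15_3 (iv0 D222519) (iv0 F462676) F462675
theorem F514684 : act 7 n222519 = n213976 := d4_2 F462675 F514683 F472950
def n222520 : Q := act 2 n199984
theorem D222520 : act 2 n199984 = n222520 := rfl
theorem F514685 : act 4 n222520 = n211528 := d1_2 F514675 D222520 (iv2 F514674)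
theorem F514686 : act 5 n222520 = n206402 := d2_2 (iv5 F414474) D222520 (iv2 F440615)
theorem F514687 : act 1 n222520 = n213976 := d15_0 F473359 F473357 D222520
theorem F514688 : act 1 n203545 = n222520 := d15_0 F514687 (iv7 F514684) (iv2 F514683)
def n222521 : Q := act 0 n199989
theorem D222521 : act 0 n199989 = n222521 := rfl
theorem F514689 : act 5 n222521 = n202161 := d17_3 D213901 F472649 D222521 F464592 F464590 (iv0 F479900) F479902 F415114 (iv4 F245186)
theorem F514690 : act 3 n222521 = n215942 := d20_5 (iv4 D199916) F174058 D112146 D199989 D222521 F482190 F430744 D204267 F431763 (iv1 F414138)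
theorem F514691 : act 6 n222521 = n213966 := d21_5 (iv5 D214607) (iv1 F303344) F351086 (iv6 F414500) D222521 F472915 (iv1 F432745) (iv5 F509243) F509245 (iv1 F476028)
theorem F514692 : act 2 n202175 = n222521 := d3_3 F514691 (iv2 F472917) F469366
theorem F514693 : act 7 n202256 = n222521 := d14_0 F514691 F472914 F472385 F423391 D202256
def n222522 : Q := act 1 n199989
theorem D222522 : act 1 n199989 = n222522 := rfl
theorem F514694 : act 7 n222522 = n202175 := d15_2 (iv0 D222521) D222522 F514692
theorem F514695 : act 4 n222522 = n211535 := d17_9 F481911 (iv5 D215881) D215880 (iv5 F481907) F407745 F415119 F472653 F472649 D222522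
theorem F514696 : act 3 n201900 = n222522 := d19_19 (iv1 D222522) (iv5 F472649) F472651 (iv3 D212210) F353379 F331031 F104315 (iv3 F85080) D117067 F318342 (iv4 F467996) F467995 (iv1 F351413) (iv5 D152837) (iv4 F240048) (iv3 F414443) F414447 D210380 F457295
theorem F514697 : act 5 n202162 = n222522 := d21_6 D202023 (iv1 F422732) (iv5 F391263) D202197 (iv1 F423210) (iv6 F461443) (iv1 D222522) (iv5 F472649) F472652 (iv1 F400903)
theorem F514698 : act 6 n202245 = n222522 := d21_5 D115396 F180737 (iv5 D115502) D115503 D202245 (iv5 F514697) (iv1 D202162) (iv5 D115410) (iv6 D53240) D53236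
theorem F514699 : act 2 n222522 = n202256 := d3_1 F514698 (iv6 D202256) (iv2 F423388)
def n222523 : Q := act 4 n200011
theorem D222523 : act 4 n200011 = n222523 := rfl
theorem F514700 : act 2 n222523 = n222193 := d1_1 D222523 (iv4 D222193) (iv2 F414614)
theorem F514701 : act 3 n222523 = n207605 := d5_1 D222523 (iv4 D207605) (iv3 D132110) D132111 (iv3 F414615)
theorem F514702 : act 5 n222523 = n222193 := d9_2 D200011 D222523 (iv4 D222193) (iv5 D198636) (iv4 F373746) F373747 (iv4 F362592) D199960 D222515 F514661 (iv4 D222213) (iv5 D198712) (iv4 F174734) F323062 (iv4 F174583)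
theorem F514703 : act 7 n222523 = n222213 := d11_2 (iv7 F414616) D222523 (iv4 D222213)
theorem F514704 : act 1 n222523 = n218466 := d18_6 (iv1 F344527) F261752 (iv1 F323966) (iv4 F174583) D200011 D222523 F494030 F430208 (iv5 D198744)
def n222524 : Q := act 7 n200016
theorem D222524 : act 7 n200016 = n222524 := rfl
theorem F514705 : act 2 n222524 = n216050 := d4_1 D222524 F482667 F472611
theorem F514706 : act 3 n222524 = n200018 := d8_1 D222524 (iv7 D200018) (iv3 F414635)
theorem F514707 : act 4 n222524 = n205082 := d11_1 D222524 (iv7 F434906) (iv4 F414636)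
theorem F514708 : act 5 n222524 = n200431 := d13_1 D222524 F416409 (iv5 F414637)
theorem F514709 : act 6 n222524 = n221159 := d14_1 D222524 (iv7 D221159) (iv6 D195485) (iv7 F174597) D200016
theorem F514710 : act 1 n214064 = n222524 := d15_1 (iv0 F473305) (iv7 D222524) (iv2 F472611)
theorem F514711 : act 1 n222524 = n205026 := d15_1 F514710 F434674 (iv2 F473302)
def n222525 : Q := act 6 n200017
theorem D222525 : act 6 n200017 = n222525 := rfl
theorem F514712 : act 2 n222525 = n220291 := d3_1 D222525 F503058 F414642
theorem F514713 : act 3 n222525 = n206001 := d7_1 D222525 F438784 (iv3 F414643)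
theorem F514714 : act 4 n222525 = n207151 := d10_1 D222525 (iv6 D207151) (iv4 F414641)
theorem F514715 : act 5 n222525 = n205998 := d12_1 D222525 F438757 F403892 (iv6 F473304) F473303
theorem F514716 : act 7 n222525 = n205997 := d14_2 (iv7 F414644) D222525 F438752 (iv7 F496305) F496304
def n222526 : Q := act 0 n200024
theorem D222526 : act 0 n200024 = n222526 := rfl
theorem F514717 : act 4 n222526 = n200426 := d18_3 (iv1 D200023) D200024 D222526 (iv5 D200426) (iv4 F403671) (iv0 F403673) (iv4 F415627) F415996 F415995
theorem F514718 : act 3 n222526 = n215000 := d20_5 (iv4 F392302) (iv1 D194187) (iv4 F392300) (iv3 F414662) D222526 F477822 (iv1 D203804) D203805 (iv3 F468449) (iv1 D212982)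
theorem F514719 : act 6 n222526 = n217122 := d21_5 (iv5 F378537) (iv1 F414706) (iv5 D200034) (iv6 F414663) D222526 (iv5 D217122) F368121 D191847 (iv6 F448260) (iv1 F448261)
theorem F514720 : act 2 n200434 = n222526 := d15_3 (iv0 D222526) (iv0 F496523) F496522
theorem F514721 : act 7 n222526 = n200440 := d4_2 F496522 F514720 (iv2 F496519)
theorem F514722 : act 1 n221354 = n222526 := d15_1 (iv0 F508558) F514721 (iv2 F496519)
def n222527 : Q := act 7 n200024
theorem D222527 : act 7 n200024 = n222527 := rfl
theorem F514723 : act 2 n222527 = n221354 := d4_1 D222527 F508557 F496444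
theorem F514724 : act 3 n222527 = n212979 := d8_1 D222527 F468433 (iv3 F414662)
theorem F514725 : act 4 n222527 = n200025 := d11_1 D222527 (iv7 D200025) D200024
theorem F514726 : act 5 n222527 = n212870 := d13_1 D222527 F467882 F454008
theorem F514727 : act 6 n222527 = n201477 := d14_1 D222527 F420654 (iv6 F410064) F377394 (iv6 F414663)
theorem F514728 : act 1 n200440 = n222527 := d15_1 (iv0 F496449) (iv7 D222527) (iv2 F496444)
theorem F514729 : act 1 n222527 = n200434 := d15_1 F514728 (iv7 F496522) F496519
def n222528 : Q := act 5 n200030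
theorem D222528 : act 5 n200030 = n222528 := rfl
theorem F514730 : act 2 n222528 = n215966 := d2_1 D222528 F482325 (iv2 F414681)
theorem F514731 : act 3 n222528 = n211480 := d6_1 D222528 (iv5 F496557) (iv3 F496559)
theorem F514732 : act 6 n222528 = n200050 := d12_2 D200030 D222528 F414777 (iv6 D158110) (iv5 F327527)
theorem F514733 : act 7 n222528 = n215967 := d13_2 F414685 D222528 F482327
theorem F514734 : act 4 n222528 = n222263 := d16_2 (iv4 F414682) D222528 F513233 F465991 F230851 (iv4 F230836) (iv5 F415806) F415805 F399043
theorem F514735 : act 0 n222528 = n215968 := d17_2 (iv1 F414684) D222528 F482330 F461741 (iv5 D201523) (iv0 F331602) (iv5 F410051) (iv0 D198956) (iv4 F410049)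
theorem F514736 : act 1 n222528 = n214152 := d17_6 (iv1 F426059) (iv5 D202889) F230699 (iv5 F399042) (iv4 F414682) D222528 F473745 F504909 F504907
def n222529 : Q := act 0 n200039
theorem D222529 : act 0 n200039 = n222529 := rfl
theorem F514737 : act 5 n222529 = n215738 := d17_1 D222529 F483064 F483063 (iv4 D205347) (iv5 D125829) F168916 D198080 F406713 (iv4 F414733)
theorem F514738 : act 4 n222529 = n205293 := d18_1 D222529 (iv1 F511487) F511483 (iv5 D199734) (iv4 D111649) F172751 D199425 (iv0 F412137) D200039
theorem F514739 : act 6 n222529 = n205337 := d21_5 F435546 F366140 F202218 F414734 D222529 F435970 (iv1 F418049) F436336 (iv6 F436585) F436588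
theorem F514740 : act 2 n205334 = n222529 := d15_3 (iv0 D222529) (iv0 F416961) (iv7 F435958)
theorem F514741 : act 1 n205353 = n222529 := d15_0 (iv0 D222529) F414732 (iv2 F436042)
theorem F514742 : act 7 n222529 = n205370 := d15_2 (iv0 F436045) F514741 (iv2 F436112)
def n222530 : Q := act 5 n200042
theorem D222530 : act 5 n200042 = n222530 := rfl
theorem F514743 : act 3 n222530 = n221284 := d6_1 D222530 F508156 F447172
theorem F514744 : act 6 n222530 = n200043 := d12_2 D200042 D222530 (iv5 D200043) (iv6 D112453) D112452
theorem F514745 : act 0 n222530 = n221812 := d17_2 (iv1 F432828) D222530 F510917 F412958 D210658 (iv0 F458363) F433122 F431565 F443976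
theorem F514746 : act 1 n222530 = n220809 := d17_6 (iv1 F424362) F364135 (iv1 F478833) F478831 F431510 D222530 F505644 F412954 (iv4 F424359)
def n222531 : Q := act 3 n200050
theorem D222531 : act 3 n200050 = n222531 := rfl
theorem F514747 : act 2 n222531 = n219337 := d0_1 D222531 F498348 (iv2 F473765) F473769 F414778
theorem F514748 : act 5 n222531 = n205135 := d6_2 (iv5 F414777) D222531 (iv3 F435098)
theorem F514749 : act 6 n222531 = n211480 := d7_2 F514732 D222531 (iv3 F514731)
theorem F514750 : act 7 n222531 = n219338 := d8_2 (iv7 F414780) D222531 (iv3 F498353)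
theorem F514751 : act 1 n219339 = n222531 := d15_1 F498358 F514750 (iv2 F498351)
theorem F514752 : act 1 n222531 = n219336 := d15_1 F514751 (iv7 F514656) F514652
def n222532 : Q := act 4 n200050
theorem D222532 : act 4 n200050 = n222532 := rfl
theorem F514753 : act 2 n222532 = n222238 := d1_1 D222532 (iv4 D222238) F414778
theorem F514754 : act 5 n222532 = n222238 := d9_2 (iv5 F414777) D222532 (iv4 D222238) F409373 (iv4 F395823) (iv5 F408154) F408153 D198497 D222152 (iv5 F513088) (iv4 D222237) F409368 F407808 (iv5 F435374) F435373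
theorem F514755 : act 6 n222532 = n222263 := d10_2 F514732 D222532 (iv4 F514734)
theorem F514756 : act 7 n222532 = n222237 := d11_2 (iv7 F414780) D222532 (iv4 D222237)
theorem F514757 : act 0 n222532 = n216104 := d17_0 (iv5 F512824) (iv1 D222192) (iv5 F408962) (iv4 D198711) (iv5 D109878) F169210 D198367 F414779 D222532
theorem F514758 : act 1 n222532 = n219315 := d18_6 F413721 F413718 F435377 F435373 (iv5 F414777) D222532 F498262 (iv0 F489142) F489139
def n222533 : Q := act 6 n200079
theorem D222533 : act 6 n200079 = n222533 := rfl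
theorem F514759 : act 2 n222533 = n206094 := d3_1 D222533 (iv6 F439227) (iv2 F414934)
theorem F514760 : act 3 n222533 = n206100 := d7_1 D222533 (iv6 F506823) F506822
theorem F514761 : act 4 n222533 = n200080 := d10_1 D222533 (iv6 D200080) D200079
theorem F514762 : act 7 n222533 = n207005 := d14_2 (iv7 F414935) D222533 (iv6 D207005) (iv7 F442891) F442890
theorem F514763 : act 5 n222533 = n209451 := d21_6 D129518 (iv1 F213631) (iv5 D132987) D132988 (iv1 F414936) D222533 F453766 F449213 F442193 (iv1 D129516)
def n222534 : Q := act 1 n200086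
theorem D222534 : act 1 n200086 = n222534 := rfl
theorem F514764 : act 7 n222534 = n207658 := d15_2 (iv0 F442402) D222534 F445882
theorem F514765 : act 5 n222534 = n207987 := d17_7 F498640 (iv5 F453348) (iv1 F474538) (iv5 F497143) F497145 F496920 D222534 F467008 (iv4 F498639)
theorem F514766 : act 4 n222534 = n207211 := d17_9 F504625 F504621 (iv1 F416101) F376509 (iv4 F447092) F447093 D219053 F496920 D222534
theorem F514767 : act 3 n205775 = n222534 := d19_19 (iv1 D222534) (iv5 F496920) (iv4 F497145) (iv3 D219093) (iv1 F381092) (iv5 F362766) (iv4 F202936) (iv3 D126188) F163886 D59180 (iv4 F332825) (iv3 F377276) (iv1 F214466) (iv5 F328783) (iv4 F437701) (iv3 D205751) F203584 D126589 D205775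
theorem F514768 : act 6 n205976 = n222534 := d21_9 (iv5 F496920) (iv1 D219053) (iv5 F447093) (iv6 F447098) (iv1 F488370) F488367 (iv5 F514114) F514116 F513383 (iv1 D222534)
theorem F514769 : act 2 n222534 = n207742 := d3_1 F514768 (iv6 F446218) (iv2 F442409)
theorem F514770 : act 1 n222534 = n207743 := d15_0 F446221 F446219 (iv2 F514769)
def n222535 : Q := act 2 n200086
theorem D222535 : act 2 n200086 = n222535 := rfl
theorem F514771 : act 3 n222535 = n207747 := d0_2 D200086 D222535 (iv2 D207747) (iv3 D132262) (iv2 F175208)
theorem F514772 : act 4 n222535 = n208028 := d1_2 (iv4 F414962) D222535 (iv2 D208028)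
theorem F514773 : act 5 n222535 = n218670 := d2_2 F496920 D222535 (iv2 F496923)
theorem F514774 : act 6 n222535 = n215035 := d3_2 F414964 D222535 F478005
theorem F514775 : act 7 n222535 = n207743 := d4_2 (iv7 F414963) D222535 (iv2 D207743)
theorem F514776 : act 1 n222535 = n207742 := d15_0 (iv0 D207742) (iv7 F414963) D222535
theorem F514777 : act 1 n207658 = n222535 := d15_0 F514776 (iv7 F446219) (iv2 F445882)
def n222536 : Q := act 6 n200087
theorem D222536 : act 6 n200087 = n222536 := rfl
theorem F514778 : act 2 n222536 = n207750 := d3_1 D222536 (iv6 D207750) (iv2 F414965)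
theorem F514779 : act 4 n222536 = n218705 := d10_1 D222536 F495241 F441996
theorem F514780 : act 5 n219266 = n222536 := d21_8 F437379 (iv1 F203627) D132684 D207948 (iv1 F508021) F498026 (iv5 D219267) D219266 (iv6 D222536) F437381
theorem F514781 : act 0 n222536 = n217429 := d17_2 D219266 F514780 (iv5 D217429) (iv4 D187307) (iv5 D89889) D89888 D187304 (iv0 F369771) D191018
theorem F514782 : act 1 n222536 = n219199 := d17_6 (iv1 F495547) (iv5 D218124) F373852 D217419 (iv4 F498018) F514780 (iv5 D219199) F488835 (iv4 F495545)
def n222537 : Q := act 5 n200088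
theorem D222537 : act 5 n200088 = n222537 := rfl
theorem F514783 : act 2 n222537 = n207752 := d2_1 D222537 (iv5 D207752) (iv2 F414968)
theorem F514784 : act 3 n222537 = n220306 := d6_1 D222537 F503115 (iv3 F414969)
theorem F514785 : act 6 n222537 = n219266 := d12_2 D200088 D222537 F514780 (iv6 D222536) (iv5 D200087)
theorem F514786 : act 7 n222537 = n222249 := d13_2 (iv7 F414971) D222537 (iv5 D222249)
theorem F514787 : act 0 n222537 = n205698 := d17_2 (iv1 F442061) D222537 (iv5 D205698) F203453 D134457 (iv0 F217848) (iv5 F407068) (iv0 F407071) (iv4 F442060)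
theorem F514788 : act 1 n222537 = n205700 := d17_6 F101897 D62484 (iv1 F170836) (iv5 F175212) (iv4 F414970) D222537 (iv5 D205700) F203455 F95383
def n222538 : Q := act 0 n200090
theorem D222538 : act 0 n200090 = n222538 := rfl
theorem F514789 : act 5 n222538 = n208398 := d17_3 D208948 F451516 D222538 F449191 (iv5 F394036) (iv0 F434955) (iv5 F449272) (iv0 D199686) (iv4 F217845)
theorem F514790 : act 4 n222538 = n217045 := d20_2 (iv4 F414973) D222538 F487120 (iv1 F378150) (iv3 F460609) (iv4 F486622) F486623 (iv4 F491286) F491285 F450339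
theorem F514791 : act 2 n207746 = n222538 := d15_3 (iv0 D222538) (iv0 F443167) (iv7 F446226)
theorem F514792 : act 1 n207747 = n222538 := d15_0 (iv0 D222538) F414975 D207747
theorem F514793 : act 7 n222538 = n207676 := d15_2 F483758 F514792 F445965
def n222539 : Q := act 5 n200092
theorem D222539 : act 5 n200092 = n222539 := rfl
theorem F514794 : act 2 n222539 = n214485 := d2_1 D222539 F475400 (iv2 F435989)
theorem F514795 : act 3 n222539 = n205538 := d6_1 D222539 F436899 F414980
theorem F514796 : act 4 n222539 = n214482 := d9_1 D222539 (iv5 D214482) F402681 (iv5 D197011) (iv4 F202018) D205202 (iv4 F435418) (iv5 F435419) F419317 (iv5 F251333) F251332 (iv5 D113246) (iv4 F168629) (iv5 F202322) (iv4 F414979)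
theorem F514797 : act 6 n222539 = n219007 := d12_2 F418130 D222539 F496648 (iv6 F447903) (iv5 F436285)
theorem F514798 : act 0 n222539 = n206518 := d17_2 D200092 D222539 F441169 (iv4 F436247) (iv5 F436249) (iv0 F417046) (iv5 F435426) (iv0 D205204) F202023
theorem F514799 : act 1 n222539 = n207625 := d17_6 (iv1 F202402) F405916 (iv1 D197825) (iv5 F202322) (iv4 F414979) D222539 F445734 (iv0 F435714) F435711
def n222540 : Q := act 4 n200094
theorem D222540 : act 4 n200094 = n222540 := rfl
theorem F514800 : act 2 n222540 = n200846 := d1_1 D222540 (iv4 D200846) (iv2 F414981)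
theorem F514801 : act 3 n222540 = n205900 := d5_1 D222540 (iv4 F438343) (iv3 F438041) F438046 F433981
theorem F514802 : act 5 n222540 = n221224 := d9_2 D200094 D222540 F507822 F397872 (iv4 F397866) (iv5 F409773) (iv4 F435994) F435995 D220965 F506537 F466975 (iv5 D195685) (iv4 F395467) F395476 F202023
theorem F514803 : act 6 n222540 = n200098 := d10_2 (iv6 F414982) D222540 (iv4 D200098)
theorem F514804 : act 7 n222540 = n221223 := d11_2 F506532 D222540 F507818
def n222541 : Q := act 4 n200096
theorem D222541 : act 4 n200096 = n222541 := rfl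
theorem F514805 : act 2 n222541 = n222253 := d1_1 D222541 (iv4 D222253) (iv2 F414990)
theorem F514806 : act 3 n222541 = n201129 := d5_1 D222541 (iv4 D201129) (iv3 F396113) (iv4 F399346) F414988
theorem F514807 : act 6 n222541 = n206580 := d10_2 (iv6 F414991) D222541 (iv4 F441418)
theorem F514808 : act 7 n222541 = n222252 := d11_2 F414989 D222541 (iv4 D222252)
theorem F514809 : act 5 n222541 = n201638 := d16_1 D222541 F421203 (iv5 F375140) (iv4 D106985) (iv5 F161233) (iv4 F203086) (iv5 F414994) F414993 (iv2 F414990)
theorem F514810 : act 0 n222541 = n200672 := d17_0 F417424 (iv1 F401036) (iv5 F506459) F506458 F395599 F161137 D113320 F414987 D222541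
theorem F514811 : act 1 n222541 = n200676 := d18_6 (iv1 F414491) F414487 F174361 D196440 (iv5 F414986) D222541 (iv4 D200676) F417419 F417416
def n222542 : Q := act 4 n200097
theorem D222542 : act 4 n200097 = n222542 := rfl
theorem F514812 : act 2 n222542 = n222252 := d1_1 D222542 (iv4 D222252) F414995
theorem F514813 : act 3 n222542 = n212657 := d5_1 D222542 (iv4 F466914) D214565 F475823 F443391
theorem F514814 : act 5 n222542 = n221455 := d9_2 (iv5 F414994) D222542 (iv4 D221455) (iv5 D196439) (iv4 D106983) D106984 D196440 (iv5 F414986) D222541 F514809 F421203 (iv5 F375140) (iv4 D106985) (iv5 F161233) (iv4 F203086)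
theorem F514815 : act 6 n222542 = n219532 := d10_2 F439303 D222542 F499302
theorem F514816 : act 7 n222542 = n222253 := d11_2 (iv7 F414993) D222542 (iv4 D222253)
theorem F514817 : act 0 n222542 = n200676 := d17_0 (iv5 F464347) F464350 (iv5 D200668) (iv4 D113324) (iv5 D52306) (iv0 F82078) D112618 D200097 D222542
theorem F514818 : act 1 n222542 = n200672 := d18_6 (iv1 F352199) F176600 F161235 (iv4 F203086) (iv5 F414994) D222542 (iv4 D200672) F352201 D128932
def n222543 : Q := act 5 n200101
theorem D222543 : act 5 n200101 = n222543 := rfl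
theorem F514819 : act 2 n222543 = n221523 := d2_1 D222543 (iv5 D221523) F415011
theorem F514820 : act 3 n222543 = n211005 := d6_1 D222543 (iv5 D211005) F415010
theorem F514821 : act 4 n222543 = n204674 := d9_1 D222543 (iv5 F508150) (iv4 F509542) F509541 F461969 F401966 (iv4 F415015) (iv5 F422482) (iv4 F459226) (iv5 F460010) (iv4 F508243) (iv5 D221300) (iv4 D195929) (iv5 F228395) (iv4 F415008)
theorem F514822 : act 7 n222543 = n211694 := d13_2 F415012 D222543 (iv5 F462727)
theorem F514823 : act 0 n222543 = n221296 := d17_2 D200101 D222543 (iv5 D221296) (iv4 D195908) F172122 F163631 F78311 F82132 D112668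
theorem F514824 : act 1 n222543 = n221295 := d17_6 F220502 (iv5 F172163) (iv1 F398750) (iv5 F228395) (iv4 F415008) D222543 (iv5 D221295) F398695 F220501
theorem F514825 : act 6 n222543 = n204618 := d21_3 (iv5 D200104) D200101 D222543 (iv1 F481519) F481520 F458621 F422452 (iv5 F422427) D211340 (iv1 F461196)
def n222544 : Q := act 6 n200101
theorem D222544 : act 6 n200101 = n222544 := rfl
theorem F514826 : act 2 n222544 = n220750 := d3_1 D222544 F505314 F415011
theorem F514827 : act 3 n222544 = n211006 := d7_1 D222544 (iv6 D211006) F415010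
theorem F514828 : act 4 n222544 = n206342 := d10_1 D222544 F440339 (iv4 F415008)
theorem F514829 : act 5 n222544 = n204619 := d12_1 D222544 (iv6 D204619) D204618 (iv6 F514825) (iv5 D222543)
theorem F514830 : act 0 n220752 = n222544 := d21_4 (iv5 F433528) (iv1 F433531) (iv5 F433545) (iv6 F505319) (iv6 D222544) D222543 F514823 (iv5 D221296) F476036 (iv1 F476034)
theorem F514831 : act 1 n213794 = n222544 := d15_0 (iv0 F514830) (iv7 D220752) (iv2 F472120)
theorem F514832 : act 7 n222544 = n220749 := d15_2 (iv0 F472123) F514831 (iv2 F505309)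
def n222545 : Q := act 6 n200102
theorem D222545 : act 6 n200102 = n222545 := rfl
theorem F514833 : act 2 n222545 = n201949 := d3_1 D222545 (iv6 F462729) F415016
theorem F514834 : act 3 n222545 = n211180 := d7_1 D222545 F460483 F415017
theorem F514835 : act 4 n222545 = n212134 := d10_1 D222545 (iv6 D212134) (iv4 F415015)
theorem F514836 : act 7 n222545 = n201948 := d14_2 (iv7 F415014) D222545 (iv6 F468830) (iv7 F505312) F505314
theorem F514837 : act 0 n222545 = n200118 := d21_4 D221296 F508225 F422482 D222545 (iv6 F415097) (iv5 D115279) (iv1 F362204) D201931 (iv6 F422421) F401781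
theorem F514838 : act 0 n200121 = n222545 := d21_4 F412867 (iv1 F413629) F413625 (iv6 F415110) (iv6 D222545) (iv5 F422482) (iv1 F508219) (iv5 D221295) (iv6 F413626) F413628
def n222546 : Q := act 5 n200103
theorem D222546 : act 5 n200103 = n222546 := rfl
theorem F514839 : act 2 n222546 = n202299 := d2_1 D222546 (iv5 F438126) F438124
theorem F514840 : act 3 n222546 = n200104 := d6_1 D222546 (iv5 D200104) D200103
theorem F514841 : act 7 n222546 = n202329 := d13_2 (iv7 F415023) D222546 F423647
theorem F514842 : act 4 n222546 = n202187 := d16_2 (iv4 F415022) D222546 F423165 (iv4 D144112) (iv5 F367029) (iv4 F382414) (iv5 F454450) F454447 F393014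
theorem F514843 : act 0 n222546 = n202330 := d17_2 F425598 D222546 F423651 F179955 D128571 F365104 (iv5 D144083) F182862 D202790
theorem F514844 : act 1 n222546 = n202327 := d17_6 (iv1 F500523) (iv5 F496571) F496572 (iv5 D211709) (iv4 F415022) D222546 F423646 (iv0 F422346) (iv4 F500519)
theorem F514845 : act 6 n222546 = n213863 := d21_3 (iv5 F425597) F425598 D222546 (iv1 D213863) (iv6 D156003) (iv5 D74201) (iv1 F53405) (iv5 F53511) D74339 D156287
def n222547 : Q := act 6 n200103
theorem D222547 : act 6 n200103 = n222547 := rfl
theorem F514846 : act 2 n222547 = n214058 := d3_1 D222547 (iv6 F473283) F438124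
theorem F514847 : act 3 n222547 = n200105 := d7_1 D222547 (iv6 D200105) D200103
theorem F514848 : act 4 n222547 = n211710 := d10_1 D222547 (iv6 D211710) (iv4 F415022)
theorem F514849 : act 0 n222547 = n214056 := d21_4 (iv5 F423646) (iv1 F514844) (iv5 D222546) D222547 (iv6 D214056) (iv5 F403857) (iv1 F403860) F347949 (iv6 F422344) F422346
theorem F514850 : act 0 n214060 = n222547 := d21_4 F500509 F467285 (iv5 F467360) (iv6 F473291) (iv6 D222547) D222546 F514843 F423651 D202331 (iv1 F500511)
theorem F514851 : act 7 n214057 = n222547 := d11_0 F514848 (iv7 F500304) F500307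
def n222548 : Q := act 0 n200105
theorem D222548 : act 0 n200105 = n222548 := rfl
theorem F514852 : act 4 n222548 = n212135 := d20_2 (iv4 F415028) D222548 (iv3 F473846) F473848 (iv3 D196425) (iv4 D106967) (iv1 F82114) (iv4 F165755) D196909 (iv1 F402251)
theorem F514853 : act 6 n222548 = n213880 := d21_5 (iv5 F461193) (iv1 F461196) (iv5 D200104) D200105 D222548 (iv5 F482110) F482112 F407694 (iv6 F351320) (iv1 F401408)
theorem F514854 : act 2 n221526 = n222548 := d3_3 F514853 (iv2 F482108) (iv6 F509442)
theorem F514855 : act 3 n210909 = n222548 := d7_3 F514853 (iv3 D213880) (iv6 F459243)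
theorem F514856 : act 7 n222548 = n221527 := d8_2 F511935 F514855 (iv3 F511932)
theorem F514857 : act 0 n222548 = n215430 := d20_4 F179625 (iv1 F351250) D210909 F514855 (iv3 D215430) (iv4 D174510) D174508 D215428 F479947 (iv1 F406579)
def n222549 : Q := act 1 n200105
theorem D222549 : act 1 n200105 = n222549 := rfl
theorem F514858 : act 1 n222549 = n215430 := d15_1 D222549 F479957 (iv2 F415027)
theorem F514859 : act 7 n222549 = n221526 := d15_2 (iv0 D222548) D222549 F514854
theorem F514860 : act 4 n222549 = n212136 := d18_7 (iv1 D160467) (iv4 F196335) D204079 F436683 (iv5 D200107) (iv4 F415028) D222549 F472754 F472752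
theorem F514861 : act 3 n213947 = n222549 := d20_9 F415028 D200106 F415032 F245251 D156090 D213929 F502991 (iv1 D220276) F482119 (iv1 D222549)
theorem F514862 : act 2 n222549 = n221527 := d0_1 F514861 (iv3 F511932) F511931 (iv3 F458299) (iv2 F482118)
theorem F514863 : act 6 n222549 = n220274 := d7_2 F482121 F514861 (iv3 D220274)
def n222550 : Q := act 5 n200105
theorem D222550 : act 5 n200105 = n222550 := rfl
theorem F514864 : act 2 n222550 = n221528 := d2_1 D222550 (iv5 D221528) (iv2 F415027)
def n222551 : Q := act 7 n200105
theorem D222551 : act 7 n200105 = n222551 := rfl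
theorem F514865 : act 2 n222551 = n215430 := d4_1 D222551 F479957 (iv2 F415027)
theorem F514866 : act 3 n222551 = n214057 := d8_1 D222551 F514851 F514847
theorem F514867 : act 4 n222551 = n200108 := d11_1 D222551 (iv7 D200108) (iv4 F415028)
theorem F514868 : act 6 n222551 = n216691 := d14_1 D222551 F485489 (iv6 D196565) F182543 D200105
theorem F514869 : act 1 n221527 = n222551 := d15_1 D221527 (iv7 D222551) F415027
theorem F514870 : act 5 n216690 = n222551 := d16_7 F401111 D196573 F436682 D204770 F436685 D213165 (iv4 F485488) (iv7 D222551) F415027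
theorem F514871 : act 7 n222550 = n216690 := d13_0 F514870 (iv7 D222551) D222550
theorem F514872 : act 1 n222551 = n221526 := d15_1 F514869 (iv7 F514859) F514862
def n222552 : Q := act 0 n200112
theorem D222552 : act 0 n200112 = n222552 := rfl
theorem F514873 : act 5 n222552 = n204460 := d17_1 D222552 (iv1 F432724) F432721 (iv4 D204497) (iv5 D123893) D123891 F402192 (iv0 F402193) (iv4 F415064)
theorem F514874 : act 4 n222552 = n204492 := d18_1 D222552 F481274 F481270 (iv5 F504078) (iv4 D220501) (iv0 F391074) D208494 (iv0 F513802) F513799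
theorem F514875 : act 6 n222552 = n222076 := d21_5 D196808 (iv1 F415061) (iv5 D200111) D200112 D222552 F512232 F433536 (iv5 F401422) (iv6 D196668) F165407
theorem F514876 : act 2 n221525 = n222552 := d3_3 F514875 (iv2 F512235) (iv6 F509439)
theorem F514877 : act 7 n201945 = n222552 := d14_0 F514875 F512237 F433650 (iv7 F416783) D201945
theorem F514878 : act 0 n222552 = n216691 := d21_10 (iv5 D216691) F433185 F433182 (iv6 F412865) (iv1 F413622) (iv6 F474860) F474859 (iv1 F433537) (iv5 F512232) (iv6 F514875)
def n222553 : Q := act 1 n200112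
theorem D222553 : act 1 n200112 = n222553 := rfl
theorem F514879 : act 1 n222553 = n216691 := d15_1 D222553 F485489 (iv2 F415062)
theorem F514880 : act 7 n222553 = n221525 := d15_2 (iv0 D222552) D222553 F514876
theorem F514881 : act 5 n222553 = n204461 := d17_7 (iv1 F198333) (iv5 F253206) (iv1 F363297) D199356 D222361 F513799 D222553 (iv0 F432723) (iv4 D204500)
theorem F514882 : act 4 n222553 = n202626 := d18_7 F410571 F172894 D134014 F401100 F363569 (iv4 F415064) D222553 (iv0 F481273) F481275
theorem F514883 : act 3 n215843 = n222553 := d19_19 (iv1 D222553) (iv5 F513799) (iv4 D222361) (iv3 F513793) F513796 (iv5 D213464) D213463 F470516 (iv1 F403175) (iv5 F344915) F203935 F100044 (iv1 F163917) F163919 (iv4 F173134) F323808 (iv1 F196314) F301768 (iv4 F481759)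
theorem F514884 : act 6 n200509 = n222553 := d21_3 (iv5 F400898) (iv1 F400901) (iv5 F416785) (iv1 D222553) (iv6 D200112) D200111 F461195 F461193 (iv6 F422422) F331831
theorem F514885 : act 2 n222553 = n201945 := d3_1 F514884 (iv6 D201945) F416786
def n222554 : Q := act 7 n200112
theorem D222554 : act 7 n200112 = n222554 := rfl
theorem F514886 : act 2 n222554 = n216691 := d4_1 D222554 F485489 (iv2 F415062)
theorem F514887 : act 3 n222554 = n201955 := d8_1 D222554 F422508 (iv3 F415063)
theorem F514888 : act 4 n222554 = n200114 := d11_1 D222554 (iv7 D200114) (iv4 F415064)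
theorem F514889 : act 5 n222554 = n215775 := d13_1 D222554 (iv7 F513801) F513799
theorem F514890 : act 6 n222554 = n215430 := d14_1 D222554 F479957 (iv6 D196571) (iv7 F182533) D200112
theorem F514891 : act 1 n201945 = n222554 := d15_1 (iv0 F422481) (iv7 D222554) F415062
theorem F514892 : act 1 n222554 = n221525 := d15_1 F514891 (iv7 F514880) F514885
def n222555 : Q := act 0 n200118
theorem D222555 : act 0 n200118 = n222555 := rfl
theorem F514893 : act 4 n222555 = n212149 := d20_2 D200118 D222555 F464497 (iv1 D145401) (iv3 D68169) (iv4 F50038) (iv1 D25243) (iv4 F39778) (iv3 F82138) D112677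
theorem F514894 : act 3 n222555 = n211071 := d20_5 F462983 (iv1 F423736) F423732 F415096 D222555 (iv4 D211071) (iv1 F415131) F423089 (iv3 F423119) F462986
theorem F514895 : act 2 n201948 = n222555 := d15_3 (iv0 D222555) (iv0 F514837) F514836
theorem F514896 : act 1 n200121 = n222555 := d15_0 (iv0 D222555) (iv7 F512308) F512304
theorem F514897 : act 7 n222555 = n201949 := d15_2 (iv0 F514838) F514896 (iv2 F514833)
theorem F514898 : act 6 n220749 = n222555 := d14_5 F514897 (iv6 F462729) F415012 D222544 F514832
def n222556 : Q := act 4 n200119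
theorem D222556 : act 4 n200119 = n222556 := rfl
theorem F514899 : act 3 n222556 = n220238 := d5_1 D222556 F502796 F389140 (iv4 F389144) (iv3 F415101)
theorem F514900 : act 6 n222556 = n210898 := d10_2 F415100 D222556 F459200
theorem F514901 : act 5 n222556 = n222545 := d16_1 D222556 F514835 F502062 (iv4 F502063) F472564 (iv4 D200121) D200122 F461446 (iv2 F461444)
theorem F514902 : act 0 n222556 = n204624 := d20_1 D222556 F433041 (iv3 F394590) F384794 F228434 D145404 (iv1 F464545) F464547 (iv3 F461422) (iv1 F461447)
def n222557 : Q := act 4 n200122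
theorem D222557 : act 4 n200122 = n222557 := rfl
theorem F514903 : act 5 n222557 = n222555 := d9_2 D200122 D222557 F514893 F464499 (iv4 F472544) F472545 (iv4 D200118) D200119 D222556 F514901 F514835 F502062 (iv4 F502063) F472564 (iv4 D200121)
theorem F514904 : act 6 n222557 = n222020 := d10_2 (iv6 F415112) D222557 (iv4 D222020)
theorem F514905 : act 1 n222557 = n204624 := d18_6 D212149 (iv4 F514893) (iv1 F514896) (iv4 D200121) D200122 D222557 F433041 (iv0 F424181) F423094
def n222558 : Q := act 3 n200123
theorem D222558 : act 3 n200123 = n222558 := rfl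
theorem F514906 : act 2 n222558 = n218285 := d0_1 D222558 F493108 F470132 F459942 (iv2 F415129)
theorem F514907 : act 6 n222558 = n218190 := d7_2 (iv6 F508794) D222558 F508792
theorem F514908 : act 7 n222558 = n211007 := d8_2 (iv7 F415125) D222558 F459731
theorem F514909 : act 4 n222558 = n212538 := d20_6 (iv4 F332886) F332884 (iv4 D112683) (iv3 F175344) D200123 D222558 F466331 (iv4 F402505) F402504 (iv1 F165857)
theorem F514910 : act 1 n219873 = n222558 := d17_8 F466331 (iv5 F410348) F410349 D218385 (iv4 F502026) F502025 (iv0 F479887) (iv5 F500980) F514909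
theorem F514911 : act 0 n210925 = n222558 := d18_0 F514909 F466331 (iv4 F402505) F402506 F359499 D194467 (iv4 F415092) F415094 F459313
def n222559 : Q := act 4 n200123
theorem D222559 : act 4 n200123 = n222559 := rfl
theorem F514912 : act 2 n222559 = n211071 := d1_1 D222559 (iv4 D211071) (iv2 F415129)
theorem F514913 : act 3 n222559 = n211181 := d5_1 D222559 F460489 (iv3 F466329) (iv4 F514909) (iv3 D222558)
theorem F514914 : act 6 n222559 = n219927 := d10_2 (iv6 F508794) D222559 F508791
theorem F514915 : act 7 n222559 = n211008 := d11_2 (iv7 F415125) D222559 F459735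
theorem F514916 : act 0 n222559 = n213878 := d17_0 F472545 D222555 (iv5 F514903) (iv4 D222557) (iv5 D200122) F415088 F415086 F415123 D222559
theorem F514917 : act 1 n222559 = n213883 := d18_8 F514838 F514835 F464449 (iv4 F423033) (iv5 F423036) F245186 F415123 D222559 F472564
def n222560 : Q := act 4 n200124
theorem D222560 : act 4 n200124 = n222560 := rfl
theorem F514918 : act 2 n222560 = n211008 := d1_1 D222560 F459735 (iv2 F415116)
theorem F514919 : act 3 n222560 = n201949 := d5_1 D222560 (iv4 F502077) F502072 (iv4 F479906) F479905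
theorem F514920 : act 6 n222560 = n202448 := d10_2 F415115 D222560 (iv4 D202448)
theorem F514921 : act 7 n222560 = n211071 := d11_2 F415130 D222560 (iv4 D211071)
theorem F514922 : act 0 n222560 = n213883 := d17_0 F472564 F514838 (iv5 F514901) (iv4 D222556) (iv5 D200119) (iv0 D112677) D112679 D200124 D222560
theorem F514923 : act 1 n222560 = n213878 := d18_8 D222555 F514893 (iv1 F464498) F407745 F415119 (iv4 D200125) D200124 D222560 F472545
theorem F514924 : act 5 n214609 = n222560 := d17_5 F464449 (iv5 F423094) F424181 D215881 (iv4 F481912) F514923 F472545 (iv0 F514837) F514835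
def n222561 : Q := act 4 n200150
theorem D222561 : act 4 n200150 = n222561 := rfl
theorem F514925 : act 2 n222561 = n201295 := d1_1 D222561 F419893 F415258
theorem F514926 : act 3 n222561 = n212488 := d5_1 D222561 (iv4 F472144) F472142 (iv4 F479363) F479362
theorem F514927 : act 5 n222561 = n201277 := d9_2 (iv5 F415256) D222561 F419811 (iv5 F413383) (iv4 D199763) F326447 F132135 (iv5 F129778) (iv4 F339097) (iv5 D114268) F83339 D52743 D114278 (iv5 F415350) (iv4 D200167)
theorem F514928 : act 6 n222561 = n215610 := d10_2 (iv6 F415257) D222561 (iv4 D215610)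
theorem F514929 : act 7 n222561 = n201276 := d11_2 (iv7 F415260) D222561 F419808
theorem F514930 : act 0 n222561 = n201294 := d17_0 (iv5 F426479) F475255 F475252 F456049 F345512 F175407 (iv5 F346469) F415259 D222561
theorem F514931 : act 1 n222561 = n201293 := d18_6 (iv1 F455853) F455854 F415352 (iv4 D200167) (iv5 F415256) D222561 F455456 (iv0 F477589) (iv5 D214947)
def n222562 : Q := act 5 n200153
theorem D222562 : act 5 n200153 = n222562 := rfl
theorem F514932 : act 3 n222562 = n221142 := d6_1 D222562 F507416 (iv3 F415273)
theorem F514933 : act 6 n222562 = n222236 := d12_2 F459676 D222562 (iv5 D222236) (iv6 F430929) F459673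
theorem F514934 : act 7 n222562 = n222245 := d13_2 (iv7 F415274) D222562 (iv5 D222245)
theorem F514935 : act 1 n222562 = n221396 := d17_6 (iv1 F359357) F353032 (iv1 F325674) D112712 D200153 D222562 (iv5 D221396) (iv0 F400263) F223443
def n222563 : Q := act 3 n200191
theorem D222563 : act 3 n200191 = n222563 := rfl
theorem F514936 : act 2 n222563 = n212959 := d0_1 D222563 (iv3 F489242) F489241 (iv3 F488511) (iv2 F430592)
theorem F514937 : act 4 n222563 = n212924 := d5_2 (iv4 F415475) D222563 F468144 (iv4 D178364) D178363
theorem F514938 : act 6 n222563 = n216282 := d7_2 (iv6 F465403) D222563 F483615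
theorem F514939 : act 7 n222563 = n212949 := d8_2 F430595 D222563 F468274
theorem F514940 : act 0 n222563 = n212960 := d20_4 (iv4 F406409) F407056 (iv4 F415475) D222563 F468322 F445275 (iv1 D186841) F356360 (iv3 F430585) F430588
theorem F514941 : act 0 n203012 = n222563 := d20_4 (iv4 F352620) F364334 (iv4 F184133) (iv3 F426635) (iv3 D222563) F415475 F407057 D222003 F511849 (iv1 F426405)
theorem F514942 : act 5 n222563 = n212902 := d17_1 F514941 (iv1 F468043) F431090 F196543 (iv5 F427787) F427790 D212909 (iv0 F468070) (iv4 F426636)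
def n222564 : Q := act 5 n200191
theorem D222564 : act 5 n200191 = n222564 := rfl
theorem F514943 : act 2 n222564 = n219830 := d2_1 D222564 F500789 (iv2 F430592)
theorem F514944 : act 3 n222564 = n212902 := d6_1 D222564 (iv5 F514942) (iv3 D222563)
theorem F514945 : act 4 n222564 = n200195 := d9_1 D222564 (iv5 D200195) (iv4 D112780) D112781 D200196 (iv5 F510311) F510310 (iv5 F419908) (iv4 F415491) (iv5 D200198) (iv4 D112784) D112785 (iv4 F407053) (iv5 F407055) (iv4 F415475)
theorem F514946 : act 7 n222564 = n219829 := d13_2 F430595 D222564 F500785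
theorem F514947 : act 0 n222564 = n219828 := d17_2 F430580 D222564 F500780 (iv4 D215078) (iv5 D166145) D166143 (iv5 F332138) (iv0 F332148) D203956
theorem F514948 : act 1 n222564 = n219825 := d17_6 (iv1 F353498) D203520 (iv1 F428681) (iv5 F407055) (iv4 F415475) D222564 F500764 (iv0 F474597) (iv4 D198913)
def n222565 : Q := act 6 n200192
theorem D222565 : act 6 n200192 = n222565 := rfl
theorem F514949 : act 2 n222565 = n220646 := d3_1 D222565 F510833 (iv2 F510835)
theorem F514950 : act 3 n222565 = n216261 := d7_1 D222565 F485949 F465328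
theorem F514951 : act 4 n222565 = n221786 := d10_1 D222565 F510806 (iv4 F472868)
theorem F514952 : act 5 n222565 = n219783 := d12_1 D222565 F500604 F489261 F415447 D200192
def n222566 : Q := act 5 n200194
theorem D222566 : act 5 n200194 = n222566 := rfl
theorem F514953 : act 3 n222566 = n200195 := d6_1 D222566 (iv5 D200195) D200194
theorem F514954 : act 6 n222566 = n216183 := d12_2 F511125 D222566 F483305 F466858 (iv5 F511124)
theorem F514955 : act 4 n222566 = n216184 := d17_4 F510744 (iv5 F486892) F454880 D222566 F483307 (iv0 D208266) D208268 (iv0 F455984) F510745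
theorem F514956 : act 0 n222566 = n221771 := d21_1 D222566 (iv5 D221771) F503368 (iv1 D194740) F329327 D137791 F360506 F360505 D209766 F454880
theorem F514957 : act 0 n221772 = n222566 := d19_0 (iv5 D222566) F415479 (iv3 D136809) (iv1 F169569) (iv5 F219658) (iv4 F453802) F453805 (iv1 F372350) D217896 F491141 F479307 F393742 (iv5 F393737) F393736 F372519 (iv1 D187700) D187702 D217653 (iv3 F510761)
def n222567 : Q := act 6 n200195
theorem D222567 : act 6 n200195 = n222567 := rfl
theorem F514958 : act 2 n222567 = n214140 := d3_1 D222567 (iv6 F507068) F507066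
theorem F514959 : act 3 n222567 = n216183 := d7_1 D222567 (iv6 F514954) F514953
theorem F514960 : act 5 n222567 = n210463 := d12_1 D222567 (iv6 F457648) (iv5 F404345) F404343 D200195
theorem F514961 : act 7 n221846 = n222567 := d13_0 F514960 F457646 D221846
def n222568 : Q := act 5 n200199
theorem D222568 : act 5 n200199 = n222568 := rfl
theorem F514962 : act 3 n222568 = n200200 := d6_1 D222568 (iv5 D200200) D200199
theorem F514963 : act 0 n222568 = n221813 := d17_2 F415495 D222568 (iv5 D221813) D221812 F510917 (iv0 D199517) (iv5 F406980) (iv0 F412403) F410789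
theorem F514964 : act 1 n222568 = n221815 := d17_6 F482571 F435002 F375414 F360131 (iv4 F415493) D222568 (iv5 D221815) F510911 F510909
def n222569 : Q := act 6 n200200
theorem D222569 : act 6 n200200 = n222569 := rfl
theorem F514965 : act 2 n222569 = n221881 := d3_1 D222569 F511194 F458740
theorem F514966 : act 5 n222569 = n213354 := d12_1 D222569 F470073 F404326 F402143 D200200
theorem F514967 : act 7 n221880 = n222569 := d13_0 F514966 F470070 D221880
def n222570 : Q := act 6 n200201
theorem D222570 : act 6 n200201 = n222570 := rfl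
def n222571 : Q := act 0 n200203
theorem D222571 : act 0 n200203 = n222571 := rfl
theorem F514968 : act 5 n222571 = n221814 := d17_3 (iv1 D200205) (iv5 F415500) D222571 F510919 (iv5 F512839) (iv0 D222195) (iv5 D198649) D198648 F455326
theorem F514969 : act 3 n221815 = n222571 := d6_3 F514968 (iv3 D221814) D221815
theorem F514970 : act 4 n216179 = n222571 := d19_2 (iv1 F502555) F502552 (iv3 F514969) (iv1 F514964) (iv5 D222568) F415493 (iv3 D145318) (iv1 F165727) (iv5 F400668) (iv4 F418512) (iv3 F446505) F446508 (iv5 D132568) (iv4 D62195) D62194 F203327 (iv5 F165742) (iv4 F329003) D193668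
theorem F514971 : act 2 n222571 = n216189 := d1_1 F514970 F483313 (iv2 F483297)
theorem F514972 : act 6 n222571 = n216178 := d10_2 D216179 F514970 (iv4 D216178)
def n222572 : Q := act 1 n200203
theorem D222572 : act 1 n200203 = n222572 := rfl
theorem F514973 : act 7 n222572 = n216189 := d15_2 (iv0 D222571) D222572 (iv2 F514971)
theorem F514974 : act 5 n222572 = n220412 := d17_7 D200437 F514577 (iv1 D222501) (iv5 D199903) (iv4 F175593) (iv5 F415500) D222572 (iv0 F503660) F416410
theorem F514975 : act 4 n216191 = n222572 := d20_6 (iv4 F368802) (iv1 D187001) (iv4 F368830) F368939 (iv1 F368944) (iv3 F483317) (iv1 D222572) (iv4 F504505) F504503 F391539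
def n222573 : Q := act 7 n200203
theorem D222573 : act 7 n200203 = n222573 := rfl
theorem F514976 : act 4 n222573 = n217304 := d11_1 D222573 F504507 F504505
theorem F514977 : act 5 n222573 = n200206 := d13_1 D222573 (iv7 D200206) (iv5 F415500)
theorem F514978 : act 0 n216189 = n222573 := d20_7 (iv4 D192878) F368821 F368820 (iv3 F368940) (iv1 D182169) (iv3 F283608) (iv4 F483313) F514976 (iv3 D217304) (iv1 F388088)
def n222574 : Q := act 5 n200204
theorem D222574 : act 5 n200204 = n222574 := rfl
theorem F514979 : act 3 n222574 = n221536 := d6_1 D222574 (iv5 D221536) F415502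
def n222575 : Q := act 3 n200205
theorem D222575 : act 3 n200205 = n222575 := rfl
theorem F514980 : act 4 n222575 = n209674 := d5_2 F455326 D222575 F503469 (iv4 D220372) F455324
theorem F514981 : act 1 n221157 = n222575 := d18_6 F454597 (iv4 F486991) F486992 F427057 D203125 (iv4 F507493) F514980 (iv0 D209674) D209676
def n222576 : Q := act 5 n200205
theorem D222576 : act 5 n200205 = n222576 := rfl
theorem F514982 : act 6 n222576 = n219823 := d12_2 F503806 D222576 F507402 (iv6 D221139) F503809
theorem F514983 : act 4 n222576 = n220232 := d16_2 F455326 D222576 (iv5 D220232) (iv4 F502769) F502770 F505858 F505855 (iv7 F455321) F455323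
def n222577 : Q := act 6 n200211
theorem D222577 : act 6 n200211 = n222577 := rfl
theorem F514984 : act 2 n222577 = n211756 := d3_1 D222577 (iv6 D211756) (iv2 F415527)
theorem F514985 : act 3 n222577 = n217361 := d7_1 D222577 (iv6 D217361) (iv3 F415528)
theorem F514986 : act 4 n222577 = n211729 := d10_1 D222577 F462883 (iv4 F415530)
theorem F514987 : act 7 n222577 = n219219 := d14_2 (iv7 F415529) D222577 F497780 (iv7 F462980) (iv6 D211757)
theorem F514988 : act 0 n222577 = n211854 := d21_4 (iv5 D117003) F175709 D200211 D222577 (iv6 F510121) (iv5 D221654) (iv1 D196933) D196934 F402356 (iv1 F182926)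
theorem F514989 : act 0 n219218 = n222577 := d21_4 (iv5 F497201) F497202 (iv5 F497341) F497776 (iv6 D222577) (iv5 D200211) F175998 (iv5 F226849) D211824 F488750
def n222578 : Q := act 2 n200221
theorem D222578 : act 2 n200221 = n222578 := rfl
theorem F514990 : act 3 n222578 = n214351 := d0_2 D200221 D222578 F474711 (iv3 D197475) F175753
theorem F514991 : act 4 n222578 = n221768 := d1_2 (iv4 F415585) D222578 (iv2 F510751)
theorem F514992 : act 5 n222578 = n215121 := d2_2 F514566 D222578 F514570
theorem F514993 : act 7 n222578 = n200437 := d4_2 (iv7 F415586) D222578 (iv2 F416430)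
theorem F514994 : act 1 n222578 = n200439 := d15_0 F416436 (iv7 F415586) D222578
theorem F514995 : act 1 n200427 = n222578 := d15_0 F514994 (iv7 D200439) (iv2 F416383)
theorem F514996 : act 6 n222578 = n214350 := d21_5 (iv5 D103206) F154106 D192414 (iv6 F416435) (iv1 F514994) (iv5 D214350) F362850 F160648 (iv6 D103254) (iv1 F331237)
def n222579 : Q := act 6 n200221
theorem D222579 : act 6 n200221 = n222579 := rfl
theorem F514997 : act 2 n222579 = n214350 := d3_1 D222579 (iv6 F514996) (iv2 D222578)
theorem F514998 : act 3 n222579 = n200223 := d7_1 D222579 (iv6 D200223) D200221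
theorem F514999 : act 4 n222579 = n221788 := d10_1 D222579 (iv6 D221788) (iv4 F415585)
theorem F515000 : act 5 n222579 = n202848 := d12_1 D222579 F425853 D215119 (iv6 F514569) F514566
theorem F515001 : act 7 n222579 = n206053 := d14_2 (iv7 F415586) D222579 (iv6 D206053) (iv7 F382051) (iv6 F404482)
theorem F515002 : act 0 n222579 = n212177 := d21_10 F477000 (iv1 D214822) F359250 (iv6 D136291) F99673 D111975 D199903 D222500 F514566 D222579
def n222580 : Q := act 5 n200225
theorem D222580 : act 5 n200225 = n222580 := rfl
theorem F515003 : act 3 n222580 = n200226 := d6_1 D222580 (iv5 D200226) D200225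
theorem F515004 : act 6 n222580 = n215012 := d12_2 (iv6 F415604) D222580 (iv5 D215012) F439055 (iv5 D206059)
theorem F515005 : act 7 n222580 = n221876 := d13_2 (iv7 F415605) D222580 (iv5 D221876)
theorem F515006 : act 0 n222580 = n222129 := d21_1 D222580 (iv5 D222129) (iv6 D198454) D198452 (iv6 F408070) (iv5 F444647) (iv1 F444651) (iv5 D200319) D200320 F423711
def n222581 : Q := act 2 n200228
theorem D222581 : act 2 n200228 = n222581 := rfl
theorem F515007 : act 3 n222581 = n221875 := d0_2 D200228 D222581 (iv2 D221875) (iv3 D197485) (iv2 F175768)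
theorem F515008 : act 4 n222581 = n212170 := d1_2 (iv4 F415619) D222581 F464600
theorem F515009 : act 6 n222581 = n212169 := d3_2 F464543 D222581 F464596
theorem F515010 : act 7 n222581 = n200245 := d4_2 (iv7 F415620) D222581 (iv2 F415691)
theorem F515011 : act 1 n222581 = n200247 := d15_0 (iv0 F415697) (iv7 F415620) D222581
theorem F515012 : act 1 n200234 = n222581 := d15_0 F515011 (iv7 D200247) (iv2 F415642)
def n222582 : Q := act 5 n200228
theorem D222582 : act 5 n200228 = n222582 := rfl
theorem F515013 : act 3 n222582 = n200229 := d6_1 D222582 (iv5 D200229) D200228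
theorem F515014 : act 6 n222582 = n214708 := d12_2 F464543 D222582 (iv5 D214708) (iv6 F435888) (iv5 F464539)
theorem F515015 : act 7 n222582 = n218759 := d13_2 (iv7 F415620) D222582 F495525
theorem F515016 : act 4 n222582 = n202783 := d16_2 (iv4 F415619) D222582 (iv5 D202783) F182845 (iv5 F363321) (iv4 F429387) (iv5 F429390) (iv7 F464603) F464600
theorem F515017 : act 0 n222582 = n211727 := d17_2 (iv1 F415658) D222582 (iv5 D211727) D211726 (iv5 F463485) (iv0 F464532) (iv5 F464530) (iv0 F471766) F471764
theorem F515018 : act 1 n222582 = n211729 := d17_6 (iv1 F459759) F401442 F402152 (iv5 F402153) (iv4 F415619) D222582 (iv5 D211729) F462850 F462848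
def n222583 : Q := act 6 n200229
theorem D222583 : act 6 n200229 = n222583 := rfl
theorem F515019 : act 2 n222583 = n221877 := d3_1 D222583 (iv6 D221877) (iv2 F415621)
theorem F515020 : act 3 n222583 = n214708 := d7_1 D222583 (iv6 F515014) F515013
theorem F515021 : act 4 n222583 = n207232 := d10_1 D222583 F443908 (iv4 F415623)
theorem F515022 : act 5 n222583 = n214707 := d12_1 D222583 F476467 F455292 F409784 D200229
theorem F515023 : act 7 n222583 = n215018 := d14_2 (iv7 F415622) D222583 (iv6 D215018) (iv7 F379270) (iv6 F404514)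
theorem F515024 : act 0 n222583 = n220883 := d21_4 F415970 (iv1 F175943) D200229 D222583 F506057 F497274 (iv1 D202801) D202802 F425648 (iv1 F415973)
def n222584 : Q := act 6 n200235
theorem D222584 : act 6 n200235 = n222584 := rfl
theorem F515025 : act 2 n222584 = n216815 := d3_1 D222584 F486035 (iv2 F415647)
theorem F515026 : act 3 n222584 = n200243 := d7_1 D222584 (iv6 D200243) (iv3 F415648)
theorem F515027 : act 4 n222584 = n218572 := d10_1 D222584 (iv6 F494548) F494013
theorem F515028 : act 7 n222584 = n211786 := d14_2 (iv7 F415649) D222584 F463072 (iv7 F370073) (iv6 F411579)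
theorem F515029 : act 0 n210081 = n222584 := d21_4 (iv5 D137082) (iv1 F218670) (iv5 F220894) D210081 (iv6 D222584) (iv5 D200235) (iv1 F393053) (iv5 F447777) F447778 F391949
theorem F515030 : act 1 n216814 = n222584 := d15_0 (iv0 F515029) (iv7 F497013) F497010
def n222585 : Q := act 5 n200236
theorem D222585 : act 5 n200236 = n222585 := rfl
theorem F515031 : act 2 n222585 = n220837 := d2_1 D222585 F505811 (iv2 F415650)
theorem F515032 : act 3 n222585 = n200246 := d6_1 D222585 (iv5 D200246) (iv3 F415651)
theorem F515033 : act 4 n222585 = n206168 := d9_1 D222585 (iv5 D206168) (iv4 F362115) F289487 (iv4 F387899) (iv5 F393904) F393903 D194640 F393919 (iv5 D186924) F137069 D89386 D186933 (iv5 F411555) (iv4 F415652)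
theorem F515034 : act 7 n222585 = n219155 := d13_2 (iv7 F415653) D222585 F497465
theorem F515035 : act 1 n222585 = n220835 := d17_6 (iv1 F457959) F487802 (iv1 D217177) (iv5 F411555) (iv4 F415652) D222585 F505798 F463763 F393170
theorem F515036 : act 0 n222585 = n220836 := d18_0 F505806 (iv1 D217269) D217270 (iv5 F501926) F501925 F484890 F466344 F415654 D222585
def n222586 : Q := act 5 n200243
theorem D222586 : act 5 n200243 = n222586 := rfl
theorem F515037 : act 2 n222586 = n211785 := d2_1 D222586 (iv5 D211785) (iv2 F415681)
theorem F515038 : act 6 n222586 = n200246 := d12_2 D200243 D222586 (iv5 D200246) (iv6 D112881) D112880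
theorem F515039 : act 7 n222586 = n211787 := d13_2 F415684 D222586 (iv5 D211787)
theorem F515040 : act 0 n222586 = n220920 := d17_2 F415683 D222586 F506273 F498340 (iv5 F488897) F506283 F506279 (iv0 D202829) F182924
theorem F515041 : act 0 n220919 = n222586 := d21_10 (iv5 D222586) (iv1 F415685) (iv5 F463079) F463080 (iv1 F488517) F488515 F378628 (iv1 F177604) D201189 (iv6 F506269)
def n222587 : Q := act 5 n200245
theorem D222587 : act 5 n200245 = n222587 := rfl
theorem F515042 : act 2 n222587 = n218759 := d2_1 D222587 F495525 F415691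
theorem F515043 : act 6 n222587 = n214555 := d12_2 F440569 D222587 F475765 F467385 F467382
theorem F515044 : act 0 n222587 = n211729 := d17_2 D200245 D222587 (iv5 D211729) (iv4 F411003) F411004 D221459 F509113 (iv0 F473662) F415668
theorem F515045 : act 1 n222587 = n211727 := d17_6 D140530 F441243 (iv1 F441241) (iv5 F429390) (iv4 F415692) D222587 (iv5 D211727) (iv0 D144051) F103356
def n222588 : Q := act 2 n200251
theorem D222588 : act 2 n200251 = n222588 := rfl
theorem F515046 : act 3 n222588 = n215187 := d0_2 D200251 D222588 F478791 (iv3 D200376) F415166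
theorem F515047 : act 4 n222588 = n200409 := d1_2 F493954 D222588 (iv2 F493957)
theorem F515048 : act 5 n222588 = n207172 := d2_2 F447708 D222588 F447714
theorem F515049 : act 6 n222588 = n215186 := d3_2 F496839 D222588 (iv2 F496837)
theorem F515050 : act 1 n222588 = n207176 := d15_0 (iv0 F443655) F416187 D222588
theorem F515051 : act 1 n209915 = n222588 := d15_0 F515050 (iv7 F447779) (iv2 F455343)
def n222589 : Q := act 5 n200259
theorem D222589 : act 5 n200259 = n222589 := rfl
theorem F515052 : act 2 n222589 = n206634 := d2_1 D222589 (iv5 F441678) F416070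
theorem F515053 : act 3 n222589 = n215323 := d6_1 D222589 F479395 F416139
theorem F515054 : act 4 n222589 = n216118 := d9_1 D222589 F483044 F441362 F421772 (iv4 D201777) D201778 (iv4 F421779) D221365 F508630 F495055 F419172 F421782 (iv4 D201780) D201781 (iv4 F421790)
theorem F515055 : act 6 n222589 = n214991 := d12_2 D200259 D222589 (iv5 F482952) (iv6 F482954) (iv5 D200258)
theorem F515056 : act 7 n222589 = n206633 := d13_2 F508622 D222589 F508625
theorem F515057 : act 0 n222589 = n202853 := d17_2 (iv1 F416074) D222589 F425882 F209144 (iv5 F114335) D159484 (iv5 F377583) (iv0 D189739) (iv4 F377582)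
theorem F515058 : act 1 n222589 = n206466 := d17_6 (iv1 F210033) (iv5 F250872) (iv1 F250875) D201781 (iv4 F421790) D222589 (iv5 F444660) F444663 F399720
def n222590 : Q := act 5 n200262
theorem D222590 : act 5 n200262 = n222590 := rfl
theorem F515059 : act 3 n222590 = n219169 := d6_1 D222590 (iv5 F508648) F508646
theorem F515060 : act 6 n222590 = n219120 := d12_2 D200262 D222590 F497282 F425637 (iv5 D200261)
theorem F515061 : act 0 n222590 = n208186 := d17_2 (iv1 F474581) D222590 (iv5 D208186) (iv4 F364663) (iv5 F165812) F359020 F147656 D190011 (iv4 F448000)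
theorem F515062 : act 1 n222590 = n208184 := d17_6 D62734 D133659 (iv1 F402833) (iv5 F447981) F447980 D222590 (iv5 D208184) (iv0 D133653) F97862
def n222591 : Q := act 7 n200271
theorem D222591 : act 7 n200271 = n222591 := rfl
theorem F515063 : act 2 n222591 = n200283 := d4_1 D222591 F415823 (iv2 F415776)
theorem F515064 : act 3 n222591 = n207219 := d8_1 D222591 F443863 (iv3 F415777)
theorem F515065 : act 4 n222591 = n211467 := d11_1 D222591 (iv7 F513214) F513212
theorem F515066 : act 5 n222591 = n203584 := d13_1 D222591 (iv7 D203584) (iv5 F415778)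
theorem F515067 : act 6 n222591 = n200274 := d14_1 D222591 (iv7 D200274) (iv6 D112925) (iv7 F175854) D200271
theorem F515068 : act 1 n200285 = n222591 := d15_1 D200285 (iv7 D222591) F415776
theorem F515069 : act 1 n222591 = n200284 := d15_1 F515068 (iv7 F461831) F461830
def n222592 : Q := act 5 n200286
theorem D222592 : act 5 n200286 = n222592 := rfl
theorem F515070 : act 2 n222592 = n209102 := d2_1 D222592 (iv5 F452269) F415827
theorem F515071 : act 3 n222592 = n208970 := d6_1 D222592 F451632 (iv3 F415824)
theorem F515072 : act 4 n222592 = n206605 := d9_1 D222592 (iv5 F445170) F445169 F336603 (iv4 F276077) (iv5 F384252) (iv4 F415834) (iv5 F436980) F436979 (iv5 F364570) F207568 (iv5 F323647) F297201 (iv5 F249012) (iv4 F415825)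
theorem F515073 : act 6 n222592 = n217605 := d12_2 (iv6 F415826) D222592 (iv5 F489759) (iv6 D189227) D189226
theorem F515074 : act 7 n222592 = n219551 := d13_2 F415828 D222592 (iv5 D219551)
theorem F515075 : act 0 n222592 = n209071 := d17_2 D200286 D222592 F452115 (iv4 D190403) (iv5 F364244) F376765 (iv5 F481069) (iv0 F481073) F356894
theorem F515076 : act 1 n222592 = n218961 := d17_6 (iv1 F378605) (iv5 F363845) F363843 (iv5 F249012) (iv4 F415825) D222592 (iv5 D218961) F495448 F495445
def n222593 : Q := act 5 n200305
theorem D222593 : act 5 n200305 = n222593 := rfl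
theorem F515077 : act 2 n222593 = n201897 := d2_1 D222593 (iv5 D201897) F415922
theorem F515078 : act 3 n222593 = n202145 := d6_1 D222593 (iv5 D202145) (iv3 F415920)
theorem F515079 : act 4 n222593 = n212708 := d9_1 D222593 (iv5 D212708) F234357 (iv5 F231681) (iv4 F464087) F464088 (iv4 F415925) F422281 (iv4 D161925) F300211 (iv4 F132400) (iv5 F308517) (iv4 F470063) F470064 (iv4 F415919)
theorem F515080 : act 6 n222593 = n215932 := d12_2 (iv6 F415921) D222593 F482144 F429030 (iv5 F341180)
theorem F515081 : act 7 n222593 = n203544 := d13_2 F472662 D222593 (iv5 F472664)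
theorem F515082 : act 0 n222593 = n203546 := d17_2 D200305 D222593 F462677 (iv4 F472236) (iv5 D213822) F427490 F427488 F404273 F403812
theorem F515083 : act 1 n222593 = n202265 := d17_6 F514678 F507505 F470066 F470064 (iv4 F415919) D222593 (iv5 F514679) (iv0 D222519) (iv4 F514675)
def n222594 : Q := act 0 n200311
theorem D222594 : act 0 n200311 = n222594 := rfl
theorem F515084 : act 5 n222594 = n201705 := d17_3 F415759 D200311 D222594 (iv4 D201705) (iv5 D115004) (iv0 F83765) (iv5 F82382) D112910 D200267
theorem F515085 : act 4 n222594 = n214867 := d18_1 D222594 F477205 (iv4 F443916) F443917 F209202 F175839 (iv4 F376516) (iv0 F376517) D200311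
theorem F515086 : act 2 n214200 = n222594 := d15_3 (iv0 D222594) (iv0 F448305) F473970
theorem F515087 : act 1 n214203 = n222594 := d15_0 (iv0 D222594) (iv7 F498159) F498156
theorem F515088 : act 7 n222594 = n214201 := d15_2 F473978 F515087 F473973
def n222595 : Q := act 3 n200312
theorem D222595 : act 3 n200312 = n222595 := rfl
theorem F515089 : act 2 n222595 = n220457 := d0_1 D222595 (iv3 F503873) F453190 F453111 F415947
theorem F515090 : act 5 n222595 = n221178 := d6_2 (iv5 F415946) D222595 F507596
theorem F515091 : act 6 n222595 = n215480 := d7_2 F496174 D222595 (iv3 F496171)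
theorem F515092 : act 7 n222595 = n214211 := d8_2 (iv7 F415949) D222595 (iv3 D214211)
theorem F515093 : act 0 n222595 = n220451 := d20_10 F503844 F501716 F495718 F378851 F364590 F214425 D133382 D208098 F447858 D222595
theorem F515094 : act 0 n220458 = n222595 := d20_4 (iv4 F381812) (iv1 F476565) (iv4 F476568) (iv3 F503876) (iv3 D222595) (iv4 F447858) (iv1 F447860) F369905 (iv3 F365374) F381553
def n222596 : Q := act 0 n200313
theorem D222596 : act 0 n200313 = n222596 := rfl
theorem F515095 : act 5 n222596 = n214995 := d17_1 D222596 F477801 (iv5 F462944) F462943 F226861 (iv0 F397270) (iv5 F415946) (iv0 D200312) D200313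
theorem F515096 : act 4 n222596 = n200345 := d18_1 D222596 (iv1 F416078) (iv4 F447868) F447869 F394841 (iv0 D128859) D128861 (iv0 F347470) (iv5 F415952)
theorem F515097 : act 3 n222596 = n214997 := d20_5 F302208 (iv1 F303398) F303400 F415953 D222596 F477805 (iv1 D209141) F335982 F273474 (iv1 F302206)
theorem F515098 : act 2 n208094 = n222596 := d15_3 (iv0 D222596) (iv0 F497190) (iv7 F497192)
theorem F515099 : act 1 n214214 = n222596 := d15_0 (iv0 D222596) F415951 (iv2 F474024)
theorem F515100 : act 7 n222596 = n208097 := d15_2 F497191 F515099 (iv2 F497186)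
theorem F515101 : act 6 n208187 = n222596 := d14_5 F515100 F447854 (iv7 F381250) D219103 (iv7 F497198)
def n222597 : Q := act 4 n200314
theorem D222597 : act 4 n200314 = n222597 := rfl
theorem F515102 : act 2 n222597 = n214658 := d1_1 D222597 F476249 (iv2 F415954)
theorem F515103 : act 3 n222597 = n215509 := d5_1 D222597 F480268 (iv3 F415967) (iv4 D200316) (iv3 F415955)
theorem F515104 : act 6 n222597 = n214656 := d10_2 (iv6 F415956) D222597 F476240
theorem F515105 : act 7 n222597 = n217379 := d11_2 (iv7 F415957) D222597 F488653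
theorem F515106 : act 0 n222597 = n220289 := d17_0 F503048 F432259 (iv5 F461170) (iv4 F495835) F495833 F425923 F425921 F415959 D222597
theorem F515107 : act 1 n222597 = n220288 := d18_6 D103246 D194359 F392941 (iv4 F175937) D200314 D222597 F503044 (iv0 D194363) (iv5 D103248)
def n222598 : Q := act 3 n200315
theorem D222598 : act 3 n200315 = n222598 := rfl
theorem F515108 : act 5 n222598 = n202799 := d6_2 (iv5 F415963) D222598 F425632
theorem F515109 : act 7 n222598 = n202798 := d8_2 (iv7 F415962) D222598 F425631
theorem F515110 : act 0 n222598 = n200328 := d19_4 (iv1 F395152) (iv5 F488976) F488977 D222598 (iv5 D200328) (iv4 F245476) F245475 D156206 D214020 (iv4 F473153) (iv3 F511916) (iv1 F513741) F513738 (iv4 D222020) (iv3 F471664) (iv1 D213693) (iv5 F460157) F460156 F393442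
def n222599 : Q := act 5 n200320
theorem D222599 : act 5 n200320 = n222599 := rfl
theorem F515111 : act 2 n222599 = n200328 := d2_1 D222599 (iv5 D200328) (iv2 F415982)
theorem F515112 : act 3 n222599 = n211970 := d6_1 D222599 F463781 (iv3 F415983)
theorem F515113 : act 0 n222599 = n202798 := d17_2 (iv1 F511180) D222599 (iv5 D202798) F182873 D202013 (iv0 F434934) F429103 D215933 (iv4 F511177)
def n222600 : Q := act 5 n200326
theorem D222600 : act 5 n200326 = n222600 := rfl
theorem F515114 : act 2 n222600 = n222580 := d2_1 D222600 (iv5 D222580) F439045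
theorem F515115 : act 3 n222600 = n222587 := d6_1 D222600 (iv5 D222587) (iv3 F439046)
theorem F515116 : act 6 n222600 = n212771 := d12_2 (iv6 F439044) D222600 F467445 (iv6 D212759) (iv5 F439043)
def n222601 : Q := act 0 n200328
theorem D222601 : act 0 n200328 = n222601 := rfl
theorem F515117 : act 5 n222601 = n202793 := d17_3 F439047 D200328 D222601 F425613 (iv5 F422699) D215832 (iv5 F481729) F472883 F472397
theorem F515118 : act 3 n222601 = n211720 := d20_5 F514563 (iv1 F510073) F510069 F486611 D222601 (iv4 F497266) (iv1 F497267) (iv4 F496162) F496161 F514565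
theorem F515119 : act 2 n202798 = n222601 := d15_3 (iv0 D222601) (iv0 F515110) F515109
def n222602 : Q := act 4 n200328
theorem D222602 : act 4 n200328 = n222602 := rfl
theorem F515120 : act 3 n222602 = n207559 := d5_1 D222602 F445444 (iv3 F510068) F510069 F486611
theorem F515121 : act 5 n207558 = n222602 := d6_0 F515120 (iv5 D207559) D207558
theorem F515122 : act 7 n221646 = n222602 := d8_0 F515120 F445445 D221646
def n222603 : Q := act 7 n200328
theorem D222603 : act 7 n200328 = n222603 := rfl
theorem F515123 : act 3 n222603 = n218792 := d8_1 D222603 F495676 F486611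
theorem F515124 : act 4 n222603 = n221646 := d11_1 D222603 F515122 (iv4 D222602)
theorem F515125 : act 5 n222603 = n200329 := d13_1 D222603 (iv7 D200329) D200328
theorem F515126 : act 6 n222603 = n218764 := d14_1 D222603 F497231 (iv6 F497230) (iv7 F486602) F486601
theorem F515127 : act 0 n202798 = n222603 := d21_1 D202798 F515125 F416008 (iv1 F393843) (iv6 F414167) (iv5 D199922) (iv1 F174072) D198450 F425627 (iv1 D202797)
def n222604 : Q := act 0 n200334
theorem D222604 : act 0 n200334 = n222604 := rfl
theorem F515128 : act 5 n222604 = n211557 := d17_1 D222604 F462125 D221182 F507618 F457569 D211495 (iv5 F492012) (iv0 F492015) (iv4 F416033)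
theorem F515129 : act 4 n222604 = n222264 := d18_1 D222604 (iv1 F513239) F494803 (iv5 D190743) (iv4 F359663) D203658 (iv4 F496713) F496716 (iv5 F465980)
theorem F515130 : act 3 n222604 = n218756 := d20_5 F379455 (iv1 F189739) (iv4 F429325) (iv3 F429330) D222604 F495507 (iv1 F463344) F395340 F379534 (iv1 F379453)
theorem F515131 : act 2 n208126 = n222604 := d15_3 (iv0 D222604) (iv0 F443684) (iv7 F447997)
theorem F515132 : act 1 n219310 = n222604 := d15_0 (iv0 D222604) (iv7 F429331) (iv2 F498236)
theorem F515133 : act 7 n222604 = n214992 := d15_2 F498241 F515132 F477780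
theorem F515134 : act 6 n218637 = n222604 := d14_5 F515133 (iv6 D214992) (iv7 F373674) (iv6 F481034) (iv7 F494912)
def n222605 : Q := act 3 n200338
theorem D222605 : act 3 n200338 = n222605 := rfl
theorem F515135 : act 2 n222605 = n215967 := d0_1 D222605 (iv3 F504899) F504898 (iv3 F481038) F481037
theorem F515136 : act 4 n222605 = n210088 := d5_2 (iv4 F416050) D222605 (iv3 D210088) (iv4 F397237) F407771
theorem F515137 : act 5 n222605 = n219331 := d6_2 F512317 D222605 (iv3 F512316)
theorem F515138 : act 6 n222605 = n218714 := d7_2 F481021 D222605 (iv3 F495286)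
theorem F515139 : act 7 n222605 = n215966 := d8_2 F512822 D222605 (iv3 F512827)
theorem F515140 : act 0 n222605 = n214152 := d19_4 F413721 F413719 (iv4 F416050) D222605 F473745 F425191 F420807 F334843 F157311 (iv4 F314436) (iv3 F236541) (iv1 F380191) F380189 (iv4 F193649) F303098 (iv1 F348714) (iv5 F409742) (iv4 F444947) (iv3 F444948)
theorem F515141 : act 0 n215968 = n222605 := d20_4 (iv4 F399671) F496396 F496392 F495440 (iv3 D222605) F416050 (iv1 F407769) D198531 F492048 (iv1 F492046)
def n222606 : Q := act 5 n200344
theorem D222606 : act 5 n200344 = n222606 := rfl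
theorem F515142 : act 2 n222606 = n222590 := d2_1 D222606 (iv5 D222590) (iv2 F416075)
theorem F515143 : act 3 n222606 = n215660 := d6_1 D222606 (iv5 D215660) (iv3 F416076)
theorem F515144 : act 6 n222606 = n211734 := d12_2 D200344 D222606 (iv5 D211734) F415680 F415678
theorem F515145 : act 0 n222606 = n222241 := d17_2 F443683 D222606 (iv5 D222241) (iv4 F409411) (iv5 F376745) F379814 F379812 F379836 (iv4 F443682)
theorem F515146 : act 1 n222606 = n222240 := d17_6 D110335 (iv5 F402839) (iv1 F410115) (iv5 F420343) F420342 D222606 (iv5 D222240) (iv0 D198821) F170572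
def n222607 : Q := act 3 n200345
theorem D222607 : act 3 n200345 = n222607 := rfl
theorem F515147 : act 5 n222607 = n221180 := d6_2 (iv5 F416077) D222607 F507608
theorem F515148 : act 6 n222607 = n218101 := d7_2 F476478 D222607 F492149
theorem F515149 : act 7 n222607 = n208096 := d8_2 F416080 D222607 (iv3 D208096)
def n222608 : Q := act 4 n200347
theorem D222608 : act 4 n200347 = n222608 := rfl
theorem F515150 : act 2 n222608 = n217024 := d1_1 D222608 F487036 F474047
theorem F515151 : act 6 n222608 = n217028 := d10_2 F492154 D222608 F492157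
theorem F515152 : act 7 n222608 = n208134 := d11_2 (iv7 F416086) D222608 (iv4 D208134)
theorem F515153 : act 5 n222608 = n218449 := d16_7 F493954 (iv5 F447708) F447711 (iv5 F411581) F411584 (iv5 F416088) D222608 F493959 (iv2 F493957)
theorem F515154 : act 0 n222608 = n217776 := d17_0 F494018 (iv1 F494020) (iv5 D189411) F144779 D93960 D189422 (iv5 F376574) (iv0 F416089) D222608
theorem F515155 : act 1 n222608 = n201286 := d18_6 F398442 F352392 D199307 F411584 (iv5 F416088) D222608 (iv4 D201286) (iv0 F399104) F399103
def n222609 : Q := act 0 n200353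
theorem D222609 : act 0 n200353 = n222609 := rfl
theorem F515156 : act 5 n222609 = n218969 := d17_1 D222609 F496442 F415704 F365008 D201397 (iv0 F439877) (iv5 F494254) F494257 (iv4 F416111)
theorem F515157 : act 4 n222609 = n216887 := d18_1 D222609 (iv1 F486394) D216890 F486409 (iv4 F425825) F425823 F226902 F206815 F416112
theorem F515158 : act 3 n222609 = n222532 := d20_5 F340685 (iv1 F152166) D113017 D200353 D222609 (iv4 D222532) (iv1 F414779) F407780 F258631 D164102
theorem F515159 : act 2 n216888 = n222609 := d15_3 (iv0 D222609) (iv0 F416113) D216888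
theorem F515160 : act 1 n206395 = n222609 := d15_0 (iv0 D222609) (iv7 F440668) F440666
theorem F515161 : act 7 n222609 = n216886 := d15_2 (iv0 F440579) F515160 F486385
theorem F515162 : act 6 n215031 = n222609 := d21_3 D133421 F352662 (iv5 F477984) (iv1 F515160) (iv6 F444624) F444627 (iv1 F276092) (iv5 F383184) F399048 (iv1 D133420)
def n222610 : Q := act 6 n200354
theorem D222610 : act 6 n200354 = n222610 := rfl
theorem F515163 : act 3 n222610 = n206393 := d7_1 D222610 (iv6 D206393) (iv3 F416114)
theorem F515164 : act 4 n222610 = n218121 := d10_1 D222610 (iv6 F492235) F487041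
theorem F515165 : act 5 n222610 = n214887 := d12_1 D222610 F477285 F477199 (iv6 D200355) D200354
theorem F515166 : act 7 n222610 = n214886 := d14_2 F440661 D222610 F477279 F430165 F440664
theorem F515167 : act 0 n222610 = n219000 := d21_4 (iv5 D189643) (iv1 F176058) D200354 D222610 (iv6 D219000) (iv5 F474541) F474729 F474726 F494818 (iv1 D218621)
theorem F515168 : act 0 n219074 = n222610 := d21_4 F456074 F391645 D220599 (iv6 F504548) (iv6 D222610) (iv5 D200354) F176057 D189648 D218623 F494830
def n222611 : Q := act 6 n200359
theorem D222611 : act 6 n200359 = n222611 := rfl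
theorem F515169 : act 2 n222611 = n211733 := d3_1 D222611 (iv6 F494811) F494810
theorem F515170 : act 3 n222611 = n218858 := d7_1 D222611 F495935 (iv3 F439761)
theorem F515171 : act 5 n222611 = n218818 := d12_1 D222611 (iv6 F495792) (iv5 D214328) (iv6 F369284) D200359
theorem F515172 : act 0 n222611 = n215683 := d21_4 (iv5 D189640) (iv1 F176074) D200359 D222611 (iv6 F497012) (iv5 F497016) (iv1 F477291) (iv5 F515165) (iv6 D222610) F416115
theorem F515173 : act 0 n210079 = n222611 := d21_4 F206772 D135938 (iv5 F220898) D210079 (iv6 D222611) (iv5 D200359) F176073 D189636 (iv6 F391910) F391912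
def n222612 : Q := act 6 n200360
theorem D222612 : act 6 n200360 = n222612 := rfl
theorem F515174 : act 2 n222612 = n214310 := d3_1 D222612 F494818 F494819
theorem F515175 : act 3 n222612 = n216100 := d7_1 D222612 (iv6 F482954) (iv3 F416136)
theorem F515176 : act 4 n222612 = n218507 := d10_1 D222612 F494211 F493916
theorem F515177 : act 0 n222612 = n218536 := d21_4 (iv5 D189636) (iv1 F176076) D200360 D222612 (iv6 F494351) (iv5 D214959) F258597 D176716 (iv6 F384244) F384245
theorem F515178 : act 0 n218542 = n222612 := d21_4 F515048 (iv1 F443639) D215943 (iv6 F494382) (iv6 D222612) (iv5 D200360) F176075 D189640 F443656 (iv1 F515050)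
theorem F515179 : act 7 n222612 = n218540 := d15_2 (iv0 F494349) (iv0 F515177) (iv2 F494369)
def n222613 : Q := act 2 n200374
theorem D222613 : act 2 n200374 = n222613 := rfl
theorem F515180 : act 3 n222613 = n219341 := d0_2 D200374 D222613 F498366 (iv3 D200253) F415172
theorem F515181 : act 4 n222613 = n218449 := d1_2 (iv4 F416322) D222613 (iv2 F493958)
theorem F515182 : act 5 n222613 = n208068 := d2_2 F443551 D222613 (iv2 F447738)
theorem F515183 : act 6 n222613 = n218399 := d3_2 (iv6 F494451) D222613 F494453
theorem F515184 : act 7 n222613 = n222588 := d4_2 (iv7 F416187) D222613 (iv2 D222588)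
theorem F515185 : act 1 n222613 = n208076 := d15_0 (iv0 F447780) (iv7 F416187) D222613
theorem F515186 : act 1 n214150 = n222613 := d15_0 F515185 F447779 (iv2 F473733)
def n222614 : Q := act 5 n200375
theorem D222614 : act 5 n200375 = n222614 := rfl
theorem F515187 : act 2 n222614 = n211738 := d2_1 D222614 (iv5 F462902) (iv2 F416188)
theorem F515188 : act 1 n222614 = n211740 := d17_6 (iv1 F425568) (iv5 F497270) (iv1 F497273) (iv5 F463077) F440572 D222614 F462906 F425646 F425636
theorem F515189 : act 0 n222614 = n202802 := d18_0 (iv4 F506276) (iv1 D220920) (iv4 F506260) F506261 (iv4 F506394) (iv0 F506396) F463340 (iv0 F416189) D222614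
def n222615 : Q := act 7 n200375
theorem D222615 : act 7 n200375 = n222615 := rfl
theorem F515190 : act 2 n222615 = n219333 := d4_1 D222615 (iv7 F498329) (iv2 F416188)
theorem F515191 : act 3 n222615 = n218400 := d8_1 D222615 (iv7 F494449) F494452
theorem F515192 : act 6 n222615 = n212797 := d14_1 D222615 F467562 (iv6 D200252) F415173 D200375
theorem F515193 : act 1 n219334 = n222615 := d15_1 F498336 (iv7 D222615) F416188
theorem F515194 : act 1 n222615 = n208082 := d15_1 F515193 F447807 (iv2 F498331)
theorem F515195 : act 5 n222615 = n211737 := d17_7 F463076 (iv5 D211787) (iv1 D144094) D144095 D211790 (iv5 F498334) F515193 (iv0 D211737) D211739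
theorem F515196 : act 7 n211737 = n222614 := d13_2 D222615 F515195 (iv5 D222614)
def n222616 : Q := act 6 n200387
theorem D222616 : act 6 n200387 = n222616 := rfl
theorem F515197 : act 2 n222616 = n200397 := d3_1 D222616 (iv6 D200397) (iv2 F416249)
theorem F515198 : act 3 n222616 = n218633 := d7_1 D222616 (iv6 D218633) (iv3 F416250)
theorem F515199 : act 0 n211496 = n222616 := d21_4 F425784 (iv1 D202834) (iv5 F225389) D211496 (iv6 D222616) (iv5 D200387) F387956 (iv5 F161798) (iv6 F396251) (iv1 F396254)
theorem F515200 : act 1 n221652 = n222616 := d15_0 (iv0 F515199) (iv7 F494153) (iv2 F510107)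
def n222617 : Q := act 5 n200388
theorem D222617 : act 5 n200388 = n222617 := rfl
theorem F515201 : act 2 n222617 = n200399 := d2_1 D222617 (iv5 D200399) (iv2 F416254)
theorem F515202 : act 4 n222617 = n217271 := d9_1 D222617 F488207 F369054 (iv5 F369063) (iv4 F471254) (iv5 F501032) F501031 D220069 F501959 (iv5 D216971) F367340 D186591 (iv4 F367350) D193814 (iv4 F416255)
theorem F515203 : act 7 n222617 = n217270 := d13_2 F501927 D222617 (iv5 F501926)
theorem F515204 : act 0 n222617 = n202827 := d17_2 F474715 D222617 (iv5 D202827) F182922 D139373 F393908 (iv5 F411555) (iv0 F411557) (iv4 F474712)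
theorem F515205 : act 1 n222617 = n218822 := d17_6 F503285 F466354 F390923 D193814 (iv4 F416255) D222617 (iv5 F503539) (iv0 D220389) (iv4 F503283)
def n222618 : Q := act 5 n200390
theorem D222618 : act 5 n200390 = n222618 := rfl
theorem F515206 : act 3 n222618 = n200399 := d6_1 D222618 (iv5 D200399) (iv3 F416259)
theorem F515207 : act 7 n222618 = n217425 := d13_2 (iv7 F416261) D222618 F488834
theorem F515208 : act 0 n222618 = n217468 := d17_2 (iv1 F504474) D222618 (iv5 F503500) F503497 (iv5 F485093) (iv0 F485094) (iv5 D214017) D214016 (iv4 F504473)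
def n222619 : Q := act 5 n200397
theorem D222619 : act 5 n200397 = n222619 := rfl
theorem F515209 : act 6 n222619 = n200399 := d12_2 D200397 D222619 (iv5 D200399) (iv6 D113069) D113068
theorem F515210 : act 0 n222619 = n220693 := d17_2 F448310 D222619 (iv5 D220693) F392404 F376546 D217027 (iv5 F494142) F494555 F494550
def n222620 : Q := act 4 n200399
theorem D222620 : act 4 n200399 = n222620 := rfl
theorem F515211 : act 2 n222620 = n217271 := d1_1 D222620 (iv4 F515202) F515201
theorem F515212 : act 5 n222620 = n216972 := d9_2 D200399 D222620 F486803 (iv5 F391077) (iv4 F391081) (iv5 F484886) (iv4 F501925) F501926 (iv4 D217270) (iv5 D187083) F137245 D89534 D187093 (iv5 F416277) F416276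
theorem F515213 : act 7 n222620 = n216971 := d11_2 F501958 D222620 (iv4 F501959)
theorem F515214 : act 0 n222620 = n217269 := d17_0 (iv5 F488204) F381788 (iv5 F476581) (iv4 F478470) (iv5 F500249) (iv0 F500251) (iv5 F497386) (iv0 F497390) D222620
theorem F515215 : act 1 n222620 = n215023 := d18_6 D194638 (iv4 F457382) F457383 F416276 D200399 D222620 (iv4 F505799) (iv0 D220835) (iv5 D194640)
theorem F515216 : act 3 n222620 = n218707 := d19_3 (iv1 F415576) D200399 D222620 F495251 (iv5 D191044) F319353 (iv3 D73861) (iv1 D33920) (iv5 F312984) (iv4 F46567) (iv3 F95551) D129901 F330692 (iv4 F327019) (iv3 F176398) F176401 F82763 F167332 D197475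
def n222621 : Q := act 0 n200404
theorem D222621 : act 0 n200404 = n222621 := rfl
theorem F515217 : act 5 n222621 = n218415 := d17_1 D222621 F493777 (iv5 F416307) (iv4 D200401) (iv5 D113073) F176162 (iv5 F396283) F396286 D200404
theorem F515218 : act 4 n222621 = n208076 := d18_1 D222621 (iv1 F515185) F515181 (iv5 F515153) (iv4 D222608) (iv0 F416087) (iv4 F493903) (iv0 F493905) (iv5 F447696)
theorem F515219 : act 2 n218516 = n222621 := d15_3 (iv0 D222621) (iv0 F494058) (iv7 F494247)
theorem F515220 : act 1 n200407 = n222621 := d15_0 (iv0 D222621) (iv7 F494440) F494437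
theorem F515221 : act 7 n222621 = n218514 := d15_2 (iv0 F494059) F515220 (iv2 F494241)
theorem F515222 : act 3 n218415 = n222621 := d19_19 (iv1 F515220) (iv5 F508693) (iv4 D221376) F399867 (iv1 F258853) F239641 F327111 (iv3 F334051) (iv1 D147818) (iv5 F334059) (iv4 F305167) F309831 (iv1 F309827) (iv5 F305850) (iv4 F396304) (iv3 F506738) F506742 F421031 D218415
theorem F515223 : act 6 n220617 = n222621 := d14_5 F515221 F494240 F493710 (iv6 F455338) (iv7 F504648)
def n222622 : Q := act 6 n200406
theorem D222622 : act 6 n200406 = n222622 := rfl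
theorem F515224 : act 2 n222622 = n215716 := d3_1 D222622 (iv6 F481220) (iv2 F416319)
theorem F515225 : act 3 n222622 = n200408 := d7_1 D222622 (iv6 D200408) D200406
theorem F515226 : act 4 n222622 = n217332 := d10_1 D222622 (iv6 F488479) F416318
theorem F515227 : act 5 n222622 = n220459 := d12_1 D222622 (iv6 D220459) F390746 (iv6 F385809) (iv5 F416316)
theorem F515228 : act 7 n222622 = n215712 := d14_2 (iv7 F416317) D222622 (iv6 D215712) F367398 (iv6 F385805)
theorem F515229 : act 0 n222622 = n211872 := d21_4 (iv5 F353349) (iv1 F385811) (iv5 F416316) D222622 (iv6 D211872) (iv5 F372669) (iv1 F372672) D188212 (iv6 F377497) F377498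
theorem F515230 : act 0 n215718 = n222622 := d21_4 (iv5 F453097) (iv1 F453098) D222492 F514515 (iv6 D222622) F416316 (iv1 F385810) (iv5 F353357) (iv6 F377527) (iv1 F377529)
def n222623 : Q := act 5 n200408
theorem D222623 : act 5 n200408 = n222623 := rfl
theorem F515231 : act 3 n222623 = n220459 := d6_1 D222623 (iv5 F515227) F515225
theorem F515232 : act 6 n222623 = n220458 := d12_2 D200408 D222623 F503877 F390733 F396280
theorem F515233 : act 4 n222623 = n204076 := d16_2 (iv4 F481108) D222623 F431002 D214932 F477505 (iv4 F479288) (iv5 F479289) (iv7 F479285) (iv2 F479281)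
theorem F515234 : act 1 n222623 = n222103 := d17_6 (iv1 F377576) F376467 D215300 F479277 (iv4 F481108) D222623 F512381 (iv0 F494416) (iv4 D218548)
def n222624 : Q := act 6 n200409
theorem D222624 : act 6 n200409 = n222624 := rfl
theorem F515235 : act 4 n222624 = n215186 := d10_1 D222624 (iv6 F515049) F515047
theorem F515236 : act 0 n222624 = n217621 := d21_4 D218465 (iv1 F494027) F448029 D222624 F489821 (iv5 F376719) D218564 (iv5 F494544) (iv6 F494548) (iv1 D218463)
theorem F515237 : act 0 n220692 = n222624 := d21_4 (iv5 D218507) D218505 F494206 D220692 (iv6 D222624) (iv5 F448029) F448030 (iv5 F494591) F494592 (iv1 F494212)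
def n222625 : Q := act 6 n200416
theorem D222625 : act 6 n200416 = n222625 := rfl
theorem F515238 : act 2 n222625 = n220719 := d3_1 D222625 F505148 F416477
theorem F515239 : act 3 n222625 = n209315 := d7_1 D222625 (iv6 F461801) (iv3 F461798)
theorem F515240 : act 4 n222625 = n212180 := d10_1 D222625 F464641 F450300
theorem F515241 : act 5 n222625 = n222577 := d12_1 D222625 (iv6 D222577) (iv5 D200211) (iv6 F204582) (iv5 F416341)
theorem F515242 : act 7 n222625 = n212178 := d14_2 F416480 D222625 (iv6 D212178) (iv7 F402584) F416483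
theorem F515243 : act 0 n222625 = n209310 := d21_4 D101879 F357162 (iv5 F416341) D222625 (iv6 D209310) (iv5 F362623) (iv1 F174030) (iv5 F390205) (iv6 D193543) (iv1 D101877)
theorem F515244 : act 0 n217828 = n222625 := d21_4 (iv5 F138091) F369816 (iv5 F372086) D217828 (iv6 D222625) F416341 (iv1 F226948) (iv5 F390191) (iv6 F390197) F177374
def n222626 : Q := act 0 n200419
theorem D222626 : act 0 n200419 = n222626 := rfl
theorem F515245 : act 4 n222626 = n200437 := d20_2 F505836 D222626 F416431 F501929 F501924 F391390 (iv1 F385906) (iv4 F390463) (iv3 F503665) (iv1 F505831)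
theorem F515246 : act 3 n222626 = n211947 := d20_5 F457647 F317358 (iv4 F404533) (iv3 F416351) D222626 F463689 F457459 (iv4 F501108) F501107 (iv1 F457645)
theorem F515247 : act 6 n222626 = n209325 := d21_5 F344606 (iv1 F204006) (iv5 F176179) D200419 D222626 F453236 (iv1 F427474) (iv5 F503722) F503723 (iv1 D195425)
theorem F515248 : act 2 n221726 = n222626 := d15_3 (iv0 D222626) (iv0 F416352) (iv7 F510526)
theorem F515249 : act 1 n221095 = n222626 := d15_0 (iv0 D222626) (iv7 F427499) (iv2 F507191)
theorem F515250 : act 7 n222626 = n221768 := d15_2 F507195 F515249 (iv2 F510751)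
def n222627 : Q := act 5 n200419
theorem D222627 : act 5 n200419 = n222627 := rfl
theorem F515251 : act 2 n222627 = n221769 := d2_1 D222627 (iv5 D221769) (iv2 F416350)
theorem F515252 : act 3 n222627 = n221878 := d6_1 D222627 (iv5 D221878) (iv3 F416351)
theorem F515253 : act 6 n222627 = n221766 := d12_2 D200419 D222627 (iv5 D221766) (iv6 D197322) (iv5 F176179)
theorem F515254 : act 4 n222627 = n209210 := d16_2 F505836 D222627 (iv5 D209210) F218712 D196907 (iv4 F495674) F495675 (iv7 F415998) (iv2 F505835)
theorem F515255 : act 0 n221790 = n222627 := d19_0 (iv5 D222627) (iv4 F505836) (iv3 F505833) F434511 F385456 (iv4 D190239) D190238 (iv1 F479310) (iv5 D215305) F270403 F127112 (iv1 F335728) D186827 (iv4 F432523) F432522 F415470 (iv5 F510822) (iv4 D221791) D221790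
def n222628 : Q := act 6 n200421
theorem D222628 : act 6 n200421 = n222628 := rfl
theorem F515256 : act 2 n222628 = n211803 := d3_1 D222628 (iv6 D211803) (iv2 F416359)
theorem F515257 : act 3 n222628 = n210801 := d7_1 D222628 F458849 F416358
theorem F515258 : act 4 n222628 = n210747 := d10_1 D222628 F458681 F416361
theorem F515259 : act 7 n222628 = n210816 := d14_2 (iv7 F416357) D222628 (iv6 F472252) F513779 (iv6 D222356)
theorem F515260 : act 0 n222628 = n221085 := d21_4 F423241 (iv1 F226827) (iv5 F416360) D222628 (iv6 D221085) (iv5 F426660) F426661 F403788 F397317 (iv1 F423242)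
theorem F515261 : act 1 n222628 = n221744 := d15_1 (iv0 F515260) F510626 (iv2 F507151)
def n222629 : Q := act 5 n200430
theorem D222629 : act 5 n200430 = n222629 := rfl
theorem F515262 : act 2 n222629 = n220723 := d2_1 D222629 F505167 (iv2 F416402)
theorem F515263 : act 3 n222629 = n200438 := d6_1 D222629 (iv5 D200438) (iv3 F416403)
theorem F515264 : act 4 n222629 = n219115 := d9_1 D222629 F497254 (iv4 F459617) F509953 F509951 F412355 F392889 D194348 (iv4 F497263) F497260 F460196 (iv5 F509942) F509943 (iv5 F450269) F450268
theorem F515265 : act 6 n222629 = n211842 := d12_2 D200430 D222629 (iv5 D211842) F416400 (iv5 D200429)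
theorem F515266 : act 7 n222629 = n218911 := d13_2 (iv7 F416404) D222629 F496163
theorem F515267 : act 0 n222629 = n220722 := d17_2 (iv1 F416406) D222629 F505162 F425789 (iv5 F511671) (iv0 F511674) F481917 (iv0 F464531) F464529
theorem F515268 : act 1 n222629 = n219282 := d17_6 (iv1 F459760) F459758 (iv1 F412834) (iv5 F450269) F450268 D222629 (iv5 F512432) F512427 (iv4 D211016)
def n222630 : Q := act 5 n200432
theorem D222630 : act 5 n200432 = n222630 := rfl
def n222631 : Q := act 5 n200435
theorem D222631 : act 5 n200435 = n222631 := rfl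
theorem F515269 : act 2 n222631 = n218964 := d2_1 D222631 F496417 (iv2 F416416)
theorem F515270 : act 3 n222631 = n211842 := d6_1 D222631 (iv5 D211842) (iv3 F416417)
theorem F515271 : act 6 n222631 = n200438 := d12_2 D200435 D222631 (iv5 D200438) (iv6 D113109) D113108
theorem F515272 : act 7 n222631 = n218962 := d13_2 (iv7 F416421) D222631 (iv5 D218962)
theorem F515273 : act 0 n222631 = n218648 := d17_2 F416419 D222631 (iv5 D218648) (iv4 D189757) (iv5 D94442) (iv0 F293480) D88783 (iv0 F291646) F359560
theorem F515274 : act 1 n222631 = n217528 := d17_6 (iv1 D203283) F186438 F157236 D189218 (iv4 F416418) D222631 (iv5 D217528) D217527 F489322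
def n222632 : Q := act 3 n200458
theorem D222632 : act 3 n200458 = n222632 := rfl
theorem F515275 : act 4 n222632 = n201587 := d5_2 (iv4 F416512) D222632 (iv3 D201587) (iv4 D114846) (iv3 F325988)
theorem F515276 : act 5 n222632 = n214342 := d6_2 (iv5 F416511) D222632 F474661
theorem F515277 : act 6 n222632 = n211955 := d7_2 F466831 D222632 (iv3 F466829)
theorem F515278 : act 7 n222632 = n219288 := d8_2 F416514 D222632 F498131
theorem F515279 : act 0 n222632 = n207967 := d19_4 D52943 D114711 (iv4 F416512) D222632 (iv5 D207967) (iv4 F442025) (iv3 F475438) (iv1 F475441) F466916 F421807 (iv3 F375003) (iv1 F375005) F143223 (iv4 F365714) F365713 (iv1 D129266) (iv5 F334123) F178806 F83659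
theorem F515280 : act 0 n221687 = n222632 := d20_4 (iv4 F424266) F439643 (iv4 F443343) (iv3 F510298) (iv3 D222632) F416512 F383063 F383058 (iv3 F361225) F370565
def n222633 : Q := act 5 n200465
theorem D222633 : act 5 n200465 = n222633 := rfl
theorem F515281 : act 2 n222633 = n205304 := d2_1 D222633 F435870 (iv2 F416560)
theorem F515282 : act 3 n222633 = n205176 := d6_1 D222633 F435309 (iv3 F416564)
theorem F515283 : act 6 n222633 = n220616 := d12_2 (iv6 F416561) D222633 (iv5 D220616) F482776 F482773
theorem F515284 : act 7 n222633 = n205169 := d13_2 (iv7 F416562) D222633 (iv5 D205169)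
theorem F515285 : act 0 n222633 = n205336 := d17_2 F434840 D222633 F435965 F416830 (iv5 F343321) F343318 F130074 D125405 D205062
def n222634 : Q := act 4 n200466
theorem D222634 : act 4 n200466 = n222634 := rfl
theorem F515286 : act 2 n222634 = n205851 := d1_1 D222634 (iv4 D205851) (iv2 F416565)
theorem F515287 : act 3 n222634 = n215875 := d5_1 D222634 (iv4 D215875) D215874 (iv4 F481881) F458727
theorem F515288 : act 6 n222634 = n202385 := d10_2 (iv6 F416566) D222634 (iv4 D202385)
theorem F515289 : act 7 n222634 = n209549 := d11_2 (iv7 F416567) D222634 F454093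
theorem F515290 : act 5 n222634 = n209550 := d16_1 D222634 F454096 F219671 (iv4 F201775) F201776 (iv4 F179645) D202107 F422890 (iv2 F416565)
theorem F515291 : act 0 n222634 = n213981 := d17_0 F472970 F452794 (iv5 F459149) (iv4 D210886) F223386 F111511 D137031 (iv0 F416568) D222634
theorem F515292 : act 1 n222634 = n213984 := d18_6 F111232 (iv4 D67596) (iv1 F111378) (iv4 F176281) D200466 D222634 (iv4 D213984) F245411 F179644
def n222635 : Q := act 3 n200470
theorem D222635 : act 3 n200470 = n222635 := rfl
theorem F515293 : act 2 n222635 = n215615 := d0_1 D222635 F480771 F339169 D177658 F416587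
theorem F515294 : act 4 n222635 = n221164 := d5_2 (iv4 F416586) D222635 (iv3 F510677) (iv4 F513150) (iv3 D222248)
theorem F515295 : act 5 n222635 = n215534 := d6_2 F428492 D222635 F480373
theorem F515296 : act 6 n222635 = n203550 := d7_2 (iv6 F416588) D222635 (iv3 D203550)
theorem F515297 : act 7 n222635 = n215755 := d8_2 F423106 D222635 F481424
theorem F515298 : act 0 n222635 = n215744 := d19_4 F469283 F469281 (iv4 F416586) D222635 (iv5 D215744) (iv4 F353977) (iv3 F353978) D199619 (iv5 F418233) F418232 (iv3 F418215) F441608 F441607 (iv4 D203857) (iv3 D121093) (iv1 D55875) F323132 (iv4 F170808) (iv3 F360854)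
theorem F515299 : act 0 n215751 = n222635 := d20_4 D163181 (iv1 F477148) F477149 (iv3 F481404) (iv3 D222635) F416586 (iv1 F409718) (iv4 F409516) F409515 (iv1 F326494)
def n222636 : Q := act 6 n200486
theorem D222636 : act 6 n200486 = n222636 := rfl
theorem F515300 : act 2 n222636 = n200496 := d3_1 D222636 (iv6 D200496) (iv2 F416675)
theorem F515301 : act 3 n222636 = n214705 := d7_1 D222636 F476459 (iv3 F416676)
theorem F515302 : act 4 n222636 = n200489 := d10_1 D222636 (iv6 D200489) (iv4 F416677)
theorem F515303 : act 5 n222636 = n218527 := d12_1 D222636 F494299 F399876 D221348 (iv5 F508522)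
theorem F515304 : act 7 n222636 = n215736 := d14_2 D200486 D222636 (iv6 D215736) F416672 (iv6 D200485)
theorem F515305 : act 0 n222636 = n207975 := d21_4 (iv5 F417700) F508523 (iv5 F508522) D222636 F447227 F441308 (iv1 F417850) (iv5 F499080) (iv6 F499086) (iv1 F402669)
theorem F515306 : act 0 n200740 = n222636 := d21_4 (iv5 F345741) (iv1 F345737) (iv5 F341713) (iv6 F417728) (iv6 D222636) F508522 F508521 F499023 F417282 (iv1 F345742)
def n222637 : Q := act 5 n200490
theorem D222637 : act 5 n200490 = n222637 := rfl
theorem F515307 : act 2 n222637 = n205330 := d2_1 D222637 (iv5 D205330) F416692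
theorem F515308 : act 3 n222637 = n209363 := d6_1 D222637 (iv5 F455857) F455856
theorem F515309 : act 6 n222637 = n209361 := d12_2 F416693 D222637 F453394 F440180 F353638
theorem F515310 : act 7 n222637 = n205326 := d13_2 F416694 D222637 (iv5 D205326)
theorem F515311 : act 4 n222637 = n208310 := d16_6 (iv4 F471006) F471007 (iv4 F436155) F416843 (iv4 F416691) D222637 (iv5 D208310) (iv7 F389045) F389042
theorem F515312 : act 0 n222637 = n214990 := d17_2 D200490 D222637 (iv5 D214990) (iv4 F373495) D218067 F491994 F435705 (iv0 F416714) (iv4 D200492)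
theorem F515313 : act 1 n222637 = n200503 := d17_6 (iv1 D113200) D113202 D200521 F416843 (iv4 F416691) D222637 F416758 (iv0 F415386) F375974
def n222638 : Q := act 2 n200503
theorem D222638 : act 2 n200503 = n222638 := rfl
theorem F515314 : act 3 n222638 = n211554 := d0_2 D200503 D222638 (iv2 F462110) (iv3 F434722) F409636
theorem F515315 : act 4 n222638 = n216408 := d1_2 F470927 D222638 F484238
theorem F515316 : act 5 n222638 = n214929 := d2_2 (iv5 F416758) D222638 F477489
theorem F515317 : act 6 n222638 = n212499 := d3_2 (iv6 F416759) D222638 F466105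
theorem F515318 : act 7 n222638 = n214990 := d4_2 F513143 D222638 (iv2 F513140)
theorem F515319 : act 1 n222638 = n205326 := d15_0 (iv0 F513145) F513143 D222638
theorem F515320 : act 1 n205330 = n222638 := d15_0 F515319 (iv7 F515310) F515307
def n222639 : Q := act 6 n200521
theorem D222639 : act 6 n200521 = n222639 := rfl
theorem F515321 : act 2 n222639 = n205332 := d3_1 D222639 (iv6 D205332) F416845
theorem F515322 : act 4 n222639 = n205411 := d10_1 D222639 F436289 (iv4 F436155)
theorem F515323 : act 5 n222639 = n200640 := d12_1 D222639 (iv6 D200640) F351739 (iv6 F358987) (iv5 F416843)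
theorem F515324 : act 7 n222639 = n205411 := d14_2 F416846 D222639 F436289 F436154 F436177
theorem F515325 : act 0 n222639 = n205412 := d21_4 (iv5 D113210) D113207 (iv5 F416843) D222639 F436293 (iv5 D195768) D195766 (iv5 F398085) (iv6 F416919) (iv1 D200534)
theorem F515326 : act 0 n205190 = n222639 := d21_4 (iv5 D126023) (iv1 F202285) (iv5 F435717) F435718 (iv6 D222639) F416843 (iv1 F176377) D125804 F360841 (iv1 F357904)
def n222640 : Q := act 3 n200522
theorem D222640 : act 3 n200522 = n222640 := rfl
theorem F515327 : act 5 n222640 = n200530 := d6_2 F416850 D222640 (iv3 D200530)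
theorem F515328 : act 7 n222640 = n205329 := d8_2 (iv7 F416848) D222640 F435947
theorem F515329 : act 1 n220687 = n222640 := d15_1 F504990 F515328 (iv2 F455519)
theorem F515330 : act 1 n222640 = n205182 := d15_1 F515329 (iv7 F436260) (iv2 F504986)
theorem F515331 : act 6 n200560 = n222640 := d12_0 F515327 (iv6 F416893) (iv5 F352473) F352547 F416968
def n222641 : Q := act 4 n200522
theorem D222641 : act 4 n200522 = n222641 := rfl
theorem F515332 : act 2 n222641 = n205327 := d1_1 D222641 (iv4 D205327) F416849
theorem F515333 : act 5 n222641 = n208309 := d9_2 F416850 D222641 F448857 D208310 (iv4 F515311) (iv5 D222637) F416691 (iv5 F416843) F436155 (iv5 F471007) F471006 (iv5 F388171) (iv4 F502036) F502037 F416607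
theorem F515334 : act 7 n222641 = n205331 := d11_2 (iv7 F416848) D222641 (iv4 D205331)
theorem F515335 : act 0 n222641 = n205421 := d17_0 (iv5 F436336) (iv1 D182514) D182515 (iv4 F416828) F416829 (iv0 D113199) D113202 D200522 D222641
theorem F515336 : act 1 n222641 = n216293 := d18_6 (iv1 F435796) (iv4 F513019) F513023 F416607 F416850 D222641 (iv4 F491992) F491994 F435705
theorem F515337 : act 3 n222641 = n200560 := d19_3 (iv1 F176381) F416850 D222641 (iv1 D200560) F176416 (iv4 F176693) (iv3 F395991) F395993 (iv5 D194035) D194034 F391818 (iv1 D110854) D110856 (iv4 F406111) F406109 (iv1 F386120) (iv5 D108931) (iv4 F168912) F168911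
theorem F515338 : act 6 n200522 = n222641 := d7_0 F515337 F515331 (iv3 D222640)
def n222642 : Q := act 3 n200534
theorem D222642 : act 3 n200534 = n222642 := rfl
theorem F515339 : act 5 n222642 = n204904 := d6_2 (iv5 F416916) D222642 F434094
theorem F515340 : act 6 n222642 = n205476 := d7_2 (iv6 F416919) D222642 (iv3 D205476)
theorem F515341 : act 7 n222642 = n205336 := d8_2 (iv7 F416915) D222642 (iv3 D205336)
theorem F515342 : act 0 n222642 = n205304 := d19_4 (iv1 D205061) (iv5 F366132) F416918 D222642 F435870 F281208 F132263 (iv1 F345367) (iv5 F322657) (iv4 D53728) (iv3 F84749) (iv1 F204419) (iv5 D67742) (iv4 F320795) (iv3 F207450) (iv1 F382472) (iv5 F437973) (iv4 F439126) F439125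
theorem F515343 : act 4 n222642 = n218454 := d20_6 F406120 (iv1 F360429) (iv4 F406712) F406710 (iv1 F416914) D222642 F493977 (iv4 D200543) (iv3 F416933) F416934
theorem F515344 : act 0 n205169 = n222642 := d20_4 F435437 F435438 (iv4 F361384) (iv3 F435272) (iv3 D222642) (iv4 F416918) D205477 (iv4 F512019) (iv3 F512020) (iv1 F435432)
def n222643 : Q := act 0 n200535
theorem D222643 : act 0 n200535 = n222643 := rfl
theorem F515345 : act 5 n222643 = n206493 := d17_3 D206027 (iv5 F438900) D222643 F441070 (iv5 D205833) F203808 D126922 F382339 D127026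
theorem F515346 : act 4 n222643 = n221374 := d18_1 D222643 F508686 F498299 F436092 F395756 (iv0 F418555) (iv4 F441651) F441655 (iv5 F438900)
theorem F515347 : act 3 n222643 = n221251 := d20_5 (iv4 F435234) (iv1 D205162) F201937 (iv3 F416920) D222643 F507961 F507928 F436118 F418933 (iv1 F399166)
theorem F515348 : act 6 n222643 = n221374 := d21_5 (iv5 F416850) (iv1 D113208) D113210 D200535 D222643 (iv5 D221374) F477421 F477418 (iv6 D205392) (iv1 F416847)
theorem F515349 : act 1 n205472 = n222643 := d15_0 (iv0 D222643) (iv7 F508293) F508289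
def n222644 : Q := act 4 n200537
theorem D222644 : act 4 n200537 = n222644 := rfl
theorem F515350 : act 2 n222644 = n200556 := d1_1 D222644 F416964 (iv2 F416922)
theorem F515351 : act 5 n222644 = n218561 := d9_2 D200537 D222644 F494481 (iv5 D212470) F230824 (iv5 F105258) F82571 D52265 D113229 D200557 (iv4 F463946) (iv5 D212015) F227874 (iv5 F202633) F202632
theorem F515352 : act 7 n222644 = n200548 := d11_2 (iv7 F416923) D222644 (iv4 D200548)
theorem F515353 : act 0 n222644 = n200555 := d17_0 F436262 (iv1 F428291) (iv5 F435465) (iv4 D205213) (iv5 D125607) D125605 (iv5 F355839) (iv0 F416924) D222644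
theorem F515354 : act 1 n222644 = n200554 := d18_6 (iv1 F416542) (iv4 D200463) (iv1 F202635) F202632 D200537 D222644 (iv4 F513162) F513164 (iv5 D205329)
def n222645 : Q := act 4 n200538
theorem D222645 : act 4 n200538 = n222645 := rfl
theorem F515355 : act 2 n222645 = n200540 := d1_1 D222645 (iv4 D200540) (iv2 F416926)
theorem F515356 : act 6 n222645 = n220690 := d10_2 F435966 D222645 F504998
theorem F515357 : act 7 n222645 = n200543 := d11_2 (iv7 F416927) D222645 (iv4 D200543)
theorem F515358 : act 5 n222645 = n220688 := d16_1 D222645 F504991 (iv5 D203434) F334759 F130074 (iv4 F319469) D126085 F202789 (iv2 F416926)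
theorem F515359 : act 0 n222645 = n220689 := d17_0 (iv5 D220689) (iv1 F494572) F494569 (iv4 D200550) (iv5 F356086) (iv0 D125604) D125607 (iv0 F416928) D222645
theorem F515360 : act 1 n222645 = n220690 := d18_6 F416563 F353848 (iv1 F277064) (iv4 F351031) D200538 D222645 F504998 (iv0 F515285) (iv5 D222633)
theorem F515361 : act 1 n205474 = n220689 := d15_0 (iv0 F515359) F515357 (iv2 F436605)
theorem F515362 : act 3 n220689 = n222645 := d6_3 F515358 (iv3 D220688) D220689
def n222646 : Q := act 1 n200540
theorem D222646 : act 1 n200540 = n222646 := rfl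
theorem F515363 : act 1 n222646 = n200543 := d15_1 D222646 (iv7 F515357) F515355
theorem F515364 : act 7 n222646 = n220689 := d15_2 F493978 D222646 F504996
theorem F515365 : act 4 n222646 = n200541 := d18_7 F413273 F413270 (iv1 D177678) (iv4 F318605) D113220 D200540 D222646 (iv0 F436115) F435870
theorem F515366 : act 5 n222646 = n218574 := d18_9 (iv1 D218574) F376811 F164526 (iv4 F392377) D220686 F504985 (iv0 D200539) D200540 D222646
theorem F515367 : act 2 n220690 = n222646 := d2_3 F515366 (iv2 F494559) D220690
theorem F515368 : act 3 n200543 = n222646 := d6_3 F515366 (iv3 F494560) (iv5 F494238)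
theorem F515369 : act 6 n222646 = n200540 := d3_2 F515356 F515367 (iv2 F515355)
def n222647 : Q := act 3 n200540
theorem D222647 : act 3 n200540 = n222647 := rfl
theorem F515370 : act 4 n222647 = n200544 := d5_2 D200540 D222647 (iv3 F436581) (iv4 D205468) F202719
theorem F515371 : act 6 n222647 = n200543 := d7_2 F515369 D222647 F515368
theorem F515372 : act 0 n222647 = n210084 := d19_4 D52262 D113220 D200540 D222647 (iv5 D210084) (iv4 D137494) F100548 (iv1 F85025) (iv5 D53913) (iv4 D26070) D26069 (iv1 F41234) (iv5 D24873) (iv4 F19174) F22463 (iv1 D5715) D5716 D12071 D25386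
theorem F515373 : act 5 n209917 = n222647 := d17_1 (iv1 F483125) F515372 (iv5 D210084) (iv4 D137494) (iv5 D64628) D64626 (iv5 F221261) F340527 (iv4 F483121)
theorem F515374 : act 0 n210103 = n222647 := d18_2 F435468 D210103 F515370 F416943 F383818 (iv0 D64478) D64480 D137169 (iv5 F435467)
def n222648 : Q := act 5 n200540
theorem D222648 : act 5 n200540 = n222648 := rfl
theorem F515375 : act 2 n222648 = n220688 := d2_1 D222648 (iv5 F515358) F515355
theorem F515376 : act 3 n222648 = n209917 := d6_1 D222648 F515373 (iv3 D222647)
theorem F515377 : act 4 n222648 = n211489 := d9_1 D222648 F461789 F419664 F353623 (iv4 D113223) D113224 D200543 F494238 F494237 (iv5 D212610) F347774 (iv5 F316337) (iv4 F318605) D113220 D200540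
def n222649 : Q := act 7 n200541
theorem D222649 : act 7 n200541 = n222649 := rfl
theorem F515378 : act 2 n222649 = n222642 := d4_1 D222649 F515341 (iv2 F435967)
theorem F515379 : act 3 n222649 = n222529 := d8_1 D222649 F514742 F436113
theorem F515380 : act 4 n222649 = n220689 := d11_1 D222649 (iv7 F515364) F515365
theorem F515381 : act 5 n222649 = n219479 := d13_1 D222649 F499090 F468894
theorem F515382 : act 6 n222649 = n200820 := d14_1 D222649 F436610 (iv6 D205475) F202789 D200541
theorem F515383 : act 1 n222633 = n222649 := d15_1 (iv0 F515285) (iv7 D222649) F435967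
theorem F515384 : act 1 n222649 = n221333 := d15_1 F515383 F508433 (iv2 F515281)
theorem F515385 : act 0 n205250 = n200551 := d21_4 F515381 (iv1 F499092) (iv5 F435332) (iv6 F435608) (iv6 D200551) (iv5 F356086) (iv1 F231345) (iv5 F435863) (iv6 F508432) (iv1 F515384)
def n222650 : Q := act 4 n200546
theorem D222650 : act 4 n200546 = n222650 := rfl
theorem F515386 : act 2 n222650 = n200550 := d1_1 D222650 (iv4 D200550) F416948
theorem F515387 : act 5 n222650 = n215605 := d9_2 (iv5 F416946) D222650 (iv4 D215605) (iv5 D175933) F128942 D83959 D175943 (iv5 F416952) (iv4 F494564) (iv5 D218575) F376811 F144857 F342083 (iv5 F414839) (iv4 F414892)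
theorem F515388 : act 7 n222650 = n200553 := d11_2 F416949 D222650 (iv4 D200553)
def n222651 : Q := act 6 n200546
theorem D222651 : act 6 n200546 = n222651 := rfl
theorem F515389 : act 2 n222651 = n200551 := d3_1 D222651 (iv6 D200551) F416948
theorem F515390 : act 3 n222651 = n205395 := d7_1 D222651 (iv6 F511657) F511655
theorem F515391 : act 7 n222651 = n200551 := d14_2 F416949 D222651 (iv6 D200551) (iv7 F416951) (iv6 F416955)
def n222652 : Q := act 0 n200548
theorem D222652 : act 0 n200548 = n222652 := rfl
theorem F515392 : act 5 n222652 = n220679 := d17_1 D222652 (iv1 F504957) (iv5 F435869) (iv4 D205303) F202226 D200070 (iv5 F416946) (iv0 D200546) D200548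
theorem F515393 : act 4 n222652 = n205182 := d18_3 (iv1 D200547) D200548 D222652 F435332 (iv4 D200068) F175146 (iv4 F202057) F342089 (iv5 F416952)
theorem F515394 : act 2 n200554 = n222652 := d15_3 (iv0 D222652) F465964 F494467
theorem F515395 : act 1 n200556 = n222652 := d15_0 (iv0 D222652) (iv7 F515352) F515350
theorem F515396 : act 7 n222652 = n200555 := d15_2 (iv0 F465963) F515395 (iv2 F436263)
def n222653 : Q := act 3 n200548
theorem D222653 : act 3 n200548 = n222653 := rfl
def n222654 : Q := act 5 n200548
theorem D222654 : act 5 n200548 = n222654 := rfl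
theorem F515397 : act 2 n222654 = n200557 := d2_1 D222654 (iv5 D200557) (iv2 F416956)
theorem F515398 : act 4 n222654 = n215604 := d9_1 D222654 (iv5 D215604) F342087 F175177 F93185 (iv5 F176418) (iv4 F416964) (iv5 F465962) (iv4 D212472) (iv5 D147236) F105236 D69040 (iv4 F105261) D113226 D200548
theorem F515399 : act 7 n222654 = n218561 := d13_2 F515352 D222654 (iv5 F515351)
theorem F515400 : act 1 n222654 = n218517 := d17_8 (iv1 F421411) (iv5 D201688) F334782 (iv5 F392369) (iv4 F504955) (iv5 F515392) (iv0 D222652) D222654 F494249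
theorem F515401 : act 1 n220999 = n222654 := d15_0 F515400 F504630 (iv2 F506727)
def n222655 : Q := act 6 n200548
theorem D222655 : act 6 n200548 = n222655 := rfl
theorem F515402 : act 2 n222655 = n200558 := d3_1 D222655 (iv6 D200558) (iv2 F416956)
theorem F515403 : act 4 n222655 = n200549 := d10_1 D222655 (iv6 D200549) D200548
theorem F515404 : act 5 n220684 = n222655 := d16_1 (iv4 F504977) F515403 F416958 F350314 (iv5 F452678) F452677 (iv5 F425784) (iv7 F455470) F455467
theorem F515405 : act 3 n222655 = n200554 := d19_3 (iv1 D200812) (iv5 F416958) (iv4 F515403) (iv1 F515354) F515351 F494481 F477924 (iv1 D215019) (iv5 D164414) F259054 F353129 (iv1 F377889) F377887 F173636 (iv3 F324452) F324450 D126055 (iv4 F398081) (iv3 F418016)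
theorem F515406 : act 6 n200554 = n222653 := d7_2 D222655 F515405 (iv3 D222653)
theorem F515407 : act 7 n220683 = n222655 := d8_0 F515405 (iv7 F494467) (iv3 F504975)
def n222656 : Q := act 7 n200549
theorem D222656 : act 7 n200549 = n222656 := rfl
theorem F515408 : act 2 n222656 = n200561 := d4_1 D222656 (iv7 D200561) (iv2 F416957)
theorem F515409 : act 3 n222656 = n206674 := d8_1 D222656 F441829 F435747
theorem F515410 : act 4 n222656 = n220683 := d11_1 D222656 F515407 F515403
theorem F515411 : act 5 n222656 = n200813 := d13_1 D222656 (iv7 D200813) (iv5 F416958)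
theorem F515412 : act 6 n222656 = n210102 := d14_1 D222656 F456166 (iv6 F455517) F416923 D200549
theorem F515413 : act 1 n200560 = n222656 := d15_1 D200560 (iv7 D222656) F416957
theorem F515414 : act 1 n222656 = n200559 := d15_1 F515413 (iv7 F436159) (iv2 F436163)
def n222657 : Q := act 0 n200550
theorem D222657 : act 0 n200550 = n222657 := rfl
theorem F515415 : act 4 n222657 = n222640 := d18_1 D222657 (iv1 F515329) (iv4 D220687) (iv5 D194209) F158256 D102979 D194212 F494571 F494569
theorem F515416 : act 1 n200553 = n222657 := d15_0 (iv0 D222657) F494565 F494562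
def n222658 : Q := act 1 n200550
theorem D222658 : act 1 n200550 = n222658 := rfl
theorem F515417 : act 1 n222658 = n200553 := d15_1 D222658 (iv7 F515388) F515386
theorem F515418 : act 4 n222658 = n209956 := d17_9 F455522 F435332 (iv1 F416833) (iv5 F435965) (iv4 F504998) (iv5 D220690) F494571 F494569 D222658
theorem F515419 : act 3 n222650 = n222658 := d19_19 (iv1 D222658) (iv5 F494569) F494568 F376819 (iv1 F415789) F415787 (iv4 F419656) F419655 F425199 F425196 F409839 (iv3 F381996) (iv1 D97210) D97211 D191070 F382092 (iv1 F414890) (iv5 F416946) D222650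
theorem F515420 : act 6 n209955 = n222658 := d10_0 F515418 (iv6 D209956) D209955
def n222659 : Q := act 3 n200550
theorem D222659 : act 3 n200550 = n222659 := rfl
theorem F515421 : act 4 n222659 = n200559 := d5_2 D200550 D222659 F436130 F436126 (iv3 F356087)
theorem F515422 : act 5 n222659 = n209947 := d6_2 F494569 D222659 (iv3 F494567)
theorem F515423 : act 0 n222659 = n209918 := d19_4 D125604 F356086 D200550 D222659 (iv5 D209918) (iv4 D137086) F100362 F48773 (iv5 D28720) (iv4 D13691) (iv3 F22854) (iv1 F40823) (iv5 F45239) F45240 F37959 (iv1 F47941) F47944 (iv4 F45221) D58812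
theorem F515424 : act 0 n209955 = n222659 := d17_2 F483122 F483123 F515422 (iv4 D209947) (iv5 D137144) F220322 D209943 F455472 (iv4 F455347)
def n222660 : Q := act 6 n200550
theorem D222660 : act 6 n200550 = n222660 := rfl
theorem F515425 : act 4 n222660 = n200551 := d10_1 D222660 (iv6 D200551) D200550
theorem F515426 : act 0 n222660 = n222660 := d21_4 (iv5 D220689) (iv1 F494572) F494569 D222660 (iv6 D222660) (iv5 F494569) (iv1 F494571) D220690 (iv6 F515356) F515359
def n222661 : Q := act 3 n200553
theorem D222661 : act 3 n200553 = n222661 := rfl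
theorem F515427 : act 5 n222661 = n218496 := d6_2 (iv5 F416963) D222661 F494163
theorem F515428 : act 7 n222661 = n222658 := d8_2 F515388 D222661 (iv3 F515419)
theorem F515429 : act 0 n222661 = n218575 := d19_4 (iv1 F231344) (iv5 F355839) D200553 D222661 (iv5 D218575) F376811 (iv3 F330319) F330324 F175867 (iv4 F177981) (iv3 F419641) F419644 F382022 (iv4 D191055) F347761 (iv1 D127594) F100457 (iv4 F202047) (iv3 F231342)
theorem F515430 : act 0 n222650 = n222661 := d20_4 D220687 (iv1 F504990) (iv4 F515418) (iv3 F515419) (iv3 D222661) (iv4 D200553) (iv1 D113228) D113229 D200556 F465963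
theorem F515431 : act 2 n222661 = n222657 := d15_3 (iv0 D222657) D222658 (iv7 F515428)
def n222662 : Q := act 3 n200555
theorem D222662 : act 3 n200555 = n222662 := rfl
theorem F515432 : act 4 n222662 = n210102 := d5_2 F436261 D222662 F456165 (iv4 D205403) D205402
theorem F515433 : act 5 n222662 = n210078 := d6_2 (iv5 F436262) D222662 F456077
theorem F515434 : act 6 n222662 = n220683 := d7_2 F436264 D222662 F504975
theorem F515435 : act 0 n222662 = n220683 := d19_4 F468895 (iv5 F436259) F436261 D222662 (iv5 D220683) F392376 F158264 F355624 F103445 F82504 (iv3 D29773) F39011 D51117 F80635 (iv3 F81273) D111656 F406157 F361647 (iv3 F468892)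
theorem F515436 : act 0 n200558 = n222662 := d18_2 (iv1 D200560) (iv4 F416966) F515432 (iv5 D210102) F386022 F386018 (iv4 F391973) F391976 F416968
def n222663 : Q := act 6 n200556
theorem D222663 : act 6 n200556 = n222663 := rfl
theorem F515437 : act 3 n222663 = n200558 := d7_1 D222663 (iv6 D200558) D200556
theorem F515438 : act 4 n222663 = n200562 := d10_1 D222663 (iv6 D200562) (iv4 F416964)
theorem F515439 : act 5 n222663 = n210080 := d12_1 D222663 F494470 (iv5 D218558) (iv6 F465960) F465962
theorem F515440 : act 0 n220683 = n222663 := d17_2 F504649 D220683 F515439 (iv4 D210080) F220894 F218670 D137082 (iv0 F391949) D220617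
theorem F515441 : act 1 n200558 = n222663 := d18_8 (iv1 F500527) (iv4 D219768) F386004 D209947 (iv5 F515422) F515421 (iv0 D200559) (iv4 F416966) F515439
def n222664 : Q := act 1 n200557
theorem D222664 : act 1 n200557 = n222664 := rfl
theorem F515442 : act 1 n222664 = n218561 := d15_1 D222664 (iv7 F515399) F515397
theorem F515443 : act 7 n222664 = n220999 := d15_2 F504629 D222664 F506727
theorem F515444 : act 4 n222664 = n201693 := d17_9 (iv1 D201693) (iv5 D114992) (iv1 F353838) (iv5 F355836) (iv4 F392380) (iv5 F494466) (iv0 D200554) D200557 D222664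
theorem F515445 : act 3 n220617 = n222664 := d19_19 (iv1 D222664) (iv5 D200557) (iv4 D113229) F82638 (iv1 F45222) (iv5 D27968) (iv4 D13342) (iv3 F22197) F39846 F39843 F37118 (iv3 F22231) F37789 F37788 (iv4 F46308) D60453 (iv1 F361815) D194067 D220617
theorem F515446 : act 6 n218415 = n222664 := d21_3 (iv5 F447696) D222621 F515217 (iv1 D222664) (iv6 F494463) (iv5 F495269) F495271 F382756 D218509 F494219
theorem F515447 : act 2 n222664 = n218517 := d3_1 F515446 (iv6 D218517) (iv2 F493775)
def n222665 : Q := act 5 n200558
theorem D222665 : act 5 n200558 = n222665 := rfl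
theorem F515448 : act 2 n222665 = n220684 := d2_1 D222665 F515404 F515402
theorem F515449 : act 3 n222665 = n210080 := d6_1 D222665 (iv5 F515439) F515437
theorem F515450 : act 4 n222665 = n209943 := d9_1 D222665 (iv5 D209943) F220321 F383812 (iv4 F418020) (iv5 F515411) F515410 (iv5 D220683) F392376 (iv5 F390838) (iv4 F418039) (iv5 D200817) F176693 (iv5 F176416) (iv4 F416966)
theorem F515451 : act 6 n222665 = n218710 := d12_2 D200558 D222665 F495269 F494463 (iv5 D200557)
theorem F515452 : act 7 n222665 = n220682 := d16_8 F392376 (iv5 F390838) (iv4 F418039) (iv5 D200817) F176693 (iv5 F176416) (iv4 F416966) D222665 F504970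
theorem F515453 : act 1 n222665 = n220615 := d17_8 F391912 F206772 D135938 (iv5 F220898) D210078 (iv5 F515433) (iv0 F515436) D222665 (iv4 D220615)
theorem F515454 : act 1 n220617 = n222665 := d15_0 F515453 F504640 (iv2 F504647)
def n222666 : Q := act 7 n200558
theorem D222666 : act 7 n200558 = n222666 := rfl
theorem F515455 : act 2 n222666 = n220683 := d4_1 D222666 F515407 F515402
theorem F515456 : act 4 n222666 = n200561 := d11_1 D222666 (iv7 D200561) (iv4 F416966)
theorem F515457 : act 5 n222666 = n220682 := d13_1 D222666 (iv7 F515452) (iv5 D222665)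
def n222667 : Q := act 4 n200560
theorem D222667 : act 4 n200560 = n222667 := rfl
theorem F515458 : act 3 n222667 = n222657 := d5_1 D222667 F515415 (iv3 D222640) D222641 F515337
theorem F515459 : act 5 n222667 = n209945 := d9_2 F416968 D222667 (iv4 D209945) (iv5 D137133) (iv4 D64468) D64469 D137137 (iv5 F416967) (iv4 F515421) F515422 (iv4 D209947) (iv5 D137144) (iv4 D64473) D64474 D137146
theorem F515460 : act 6 n222667 = n222657 := d10_2 (iv6 F515331) D222667 F515415
theorem F515461 : act 0 n222667 = n209955 := d17_0 (iv5 F483123) (iv1 F483125) F515373 F515370 F416943 (iv0 D113522) (iv5 F176416) D200560 D222667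
theorem F515462 : act 1 n222667 = n209918 := d18_8 D209916 F455347 (iv1 F455472) (iv4 F515450) (iv5 D222665) F416966 D200560 D222667 (iv5 D209918)
def n222668 : Q := act 0 n200567
theorem D222668 : act 0 n200567 = n222668 := rfl
theorem F515463 : act 5 n222668 = n221241 := d17_3 (iv1 D200566) D200567 D222668 (iv4 D221241) (iv5 D195715) (iv0 D106225) (iv5 F92939) D125571 (iv4 F416991)
theorem F515464 : act 4 n222668 = n206880 := d18_1 D222668 F442494 (iv4 F211325) (iv5 F362930) F202405 F201986 (iv4 F416989) (iv0 D200565) D200567
theorem F515465 : act 3 n222668 = n205587 := d20_5 F380030 D192211 (iv4 F391955) (iv3 F416996) D222668 (iv4 D205587) (iv1 D126385) D126386 F220916 (iv1 F380033)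
theorem F515466 : act 6 n222668 = n206879 := d21_5 (iv5 D125947) F161342 D113237 (iv6 F416997) D222668 F442490 (iv1 F399227) F399224 (iv6 F396539) F413897
theorem F515467 : act 1 n201138 = n222668 := d15_0 (iv0 D222668) (iv7 F504667) F504664
theorem F515468 : act 7 n219492 = n222668 := d14_0 F515466 (iv7 F446011) (iv6 F487164) (iv7 F487169) D219492
def n222669 : Q := act 1 n200567
theorem D222669 : act 1 n200567 = n222669 := rfl
theorem F515469 : act 1 n222669 = n201138 := d15_1 D222669 F435591 F435588
theorem F515470 : act 5 n222669 = n221243 := d17_7 (iv1 F395782) (iv5 D113553) (iv1 D52405) (iv5 F82642) (iv4 F176421) D200567 D222669 F507916 F435848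
theorem F515471 : act 4 n222669 = n206924 := d17_9 (iv1 F442623) (iv5 F475322) (iv1 F475324) (iv5 F507856) F507854 F416987 (iv0 D200565) D200567 D222669
theorem F515472 : act 3 n205413 = n222669 := d19_19 (iv1 D222669) (iv5 D200567) F176421 (iv3 F176415) D200559 F416967 (iv4 D137137) (iv3 F220319) F360827 (iv5 F293822) (iv4 F345447) (iv3 F336131) (iv1 F371991) (iv5 D187976) (iv4 F371064) (iv3 F397715) F421917 F421915 (iv4 F436295)
theorem F515473 : act 6 n217057 = n222669 := d21_3 (iv5 F487132) (iv1 F487136) F487173 (iv1 D222669) F416997 (iv5 D113237) (iv1 F161315) D125941 (iv6 F384036) F397690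
theorem F515474 : act 2 n222669 = n219492 := d3_1 F515473 (iv6 D219492) (iv2 F487174)
def n222670 : Q := act 4 n200567
theorem D222670 : act 4 n200567 = n222670 := rfl
theorem F515475 : act 3 n222670 = n208326 := d5_1 D222670 F448923 (iv3 F391956) (iv4 F391955) (iv3 F416996)
theorem F515476 : act 5 n222670 = n201146 := d9_2 D200567 D222670 (iv4 D201146) (iv5 D114002) (iv4 F161218) (iv5 F395506) (iv4 F435594) F435595 (iv4 F421638) F421639 F179175 F114220 F76655 (iv5 F82642) (iv4 F176421)
theorem F515477 : act 6 n222670 = n200574 := d10_2 (iv6 F416997) D222670 (iv4 D200574)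
theorem F515478 : act 7 n222670 = n201163 := d11_2 F504667 D222670 (iv4 F504665)
def n222671 : Q := act 7 n200571
theorem D222671 : act 7 n200571 = n222671 := rfl
theorem F515479 : act 3 n222671 = n205344 := d8_1 D222671 (iv7 F436219) F436217
theorem F515480 : act 4 n222671 = n206598 := d11_1 D222671 F441501 F435542
theorem F515481 : act 6 n222671 = n205343 := d14_1 D222671 (iv7 F506434) (iv6 D220948) (iv7 F395519) D200571
theorem F515482 : act 1 n205185 = n222671 := d15_1 (iv0 F506422) (iv7 D222671) (iv2 F506417)
theorem F515483 : act 1 n222671 = n205183 := d15_1 F515482 (iv7 F436266) F436265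
def n222672 : Q := act 7 n200599
theorem D222672 : act 7 n200599 = n222672 := rfl
theorem F515484 : act 2 n222672 = n200611 := d4_1 D222672 (iv7 D200611) (iv2 F417137)
theorem F515485 : act 3 n222672 = n206511 := d8_1 D222672 (iv7 F446473) F446469
theorem F515486 : act 4 n222672 = n206607 := d11_1 D222672 (iv7 F445167) F445164
theorem F515487 : act 5 n222672 = n200600 := d13_1 D222672 (iv7 D200600) D200599
theorem F515488 : act 1 n200610 = n222672 := d15_1 D200610 (iv7 D222672) F417137
theorem F515489 : act 1 n222672 = n200609 := d15_1 F515488 (iv7 F496680) F496677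
def n222673 : Q := act 6 n200611
theorem D222673 : act 6 n200611 = n222673 := rfl
theorem F515490 : act 3 n222673 = n200614 := d7_1 D222673 (iv6 D200614) (iv3 F417203)
theorem F515491 : act 4 n222673 = n221323 := d10_1 D222673 (iv6 D221323) (iv4 F417204)
theorem F515492 : act 5 n222673 = n206499 := d12_1 D222673 F445075 (iv5 F445074) F395582 (iv5 F417205)
theorem F515493 : act 7 n222673 = n221323 := d14_2 D200611 D222673 (iv6 D221323) F399131 (iv6 F328354)
theorem F515494 : act 0 n222673 = n221336 := d21_4 D196093 F399376 (iv5 F417205) D222673 F508447 F445039 (iv1 D204882) D204883 (iv6 F434010) (iv1 D196092)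
theorem F515495 : act 1 n222673 = n221008 := d15_1 (iv0 F515494) F506773 (iv2 F508444)
def n222674 : Q := act 5 n200625
theorem D222674 : act 5 n200625 = n222674 := rfl
theorem F515496 : act 2 n222674 = n212328 := d2_1 D222674 F465341 (iv2 F417266)
theorem F515497 : act 3 n222674 = n206302 := d6_1 D222674 (iv5 F440152) (iv3 F417267)
theorem F515498 : act 4 n222674 = n202697 := d9_1 D222674 F425157 (iv4 F237581) D212854 F467798 (iv5 F355918) (iv4 D166490) D166491 F346916 F308699 (iv4 F322939) D211383 F461353 (iv5 D200628) (iv4 F417268)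
theorem F515499 : act 6 n222674 = n202696 := d12_2 D200625 D222674 F425151 (iv6 F236448) F353600
theorem F515500 : act 7 n222674 = n212329 := d13_2 (iv7 F417269) D222674 F465348
theorem F515501 : act 0 n222674 = n201181 := d17_2 F417270 D222674 (iv5 F434047) F434050 (iv5 F418141) (iv0 F478293) (iv5 D215090) F277847 (iv4 F339608)
theorem F515502 : act 1 n222674 = n211910 := d17_6 F430539 (iv5 F478202) (iv1 F478205) (iv5 D200628) (iv4 F417268) D222674 (iv5 F466417) (iv0 D212560) (iv4 F352250)
def n222675 : Q := act 4 n200636
theorem D222675 : act 4 n200636 = n222675 := rfl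
theorem F515503 : act 2 n222675 = n200650 := d1_1 D222675 (iv4 D200650) (iv2 F417310)
theorem F515504 : act 3 n222675 = n213519 := d5_1 D222675 F470815 (iv3 F507799) F507800 (iv3 F445071)
theorem F515505 : act 5 n222675 = n221277 := d9_2 D200636 D222675 F508112 F442252 F213661 D133008 (iv4 F348163) (iv5 F417358) F419205 F419203 (iv4 F503400) (iv5 D220361) F389923 (iv5 F348167) F348166
theorem F515506 : act 6 n222675 = n221008 := d10_2 F495009 D222675 F506771
theorem F515507 : act 7 n222675 = n206482 := d11_2 F437127 D222675 (iv4 F441034)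
theorem F515508 : act 0 n222675 = n205541 := d17_0 F436915 F359266 F396114 (iv4 F399346) (iv5 F399347) (iv0 F435985) F435983 (iv0 F435986) D222675
theorem F515509 : act 1 n222675 = n206481 := d18_6 (iv1 D215053) F260877 D165611 F348166 D200636 D222675 F441028 F436918 (iv5 F478097)
def n222676 : Q := act 4 n200657
theorem D222676 : act 4 n200657 = n222676 := rfl
theorem F515510 : act 2 n222676 = n221280 := d1_1 D222676 F508130 (iv2 F418740)
theorem F515511 : act 3 n222676 = n207415 := d5_1 D222676 (iv4 D207415) (iv3 F444780) (iv4 F496833) F496832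
theorem F515512 : act 6 n222676 = n207792 := d10_2 F441769 D222676 F446460
theorem F515513 : act 0 n222676 = n206083 := d18_2 (iv1 F437002) D222676 (iv4 D206083) (iv5 D127370) F94224 D105303 (iv4 F362902) F203070 (iv5 F437001)
def n222677 : Q := act 1 n200658
theorem D222677 : act 1 n200658 = n222677 := rfl
theorem F515514 : act 4 n222677 = n200836 := d18_7 (iv1 F204679) F391702 (iv1 D52587) (iv4 F82682) D113317 D200658 D222677 F439182 F439181
theorem F515515 : act 3 n218705 = n222677 := d20_9 (iv4 D200658) (iv1 F419198) (iv4 F507795) (iv3 D221219) D221218 F507794 (iv4 F497689) (iv1 F514782) F514779 (iv1 D222677)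
theorem F515516 : act 5 n222677 = n218704 := d6_2 D218705 F515515 (iv3 D218704)
theorem F515517 : act 6 n222677 = n219094 := d7_2 (iv6 F495241) F515515 F497147
def n222678 : Q := act 5 n200658
theorem D222678 : act 5 n200658 = n222678 := rfl
theorem F515518 : act 3 n222678 = n212085 := d6_1 D222678 F464275 F445429
theorem F515519 : act 4 n222678 = n222086 := d16_2 D200658 D222678 F512282 F461114 F396059 (iv4 F203067) (iv5 F437001) (iv7 D205562) F203064
def n222679 : Q := act 7 n200658
theorem D222679 : act 7 n200658 = n222679 := rfl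
theorem F515520 : act 3 n222679 = n221337 := d8_1 D222679 F508452 F445429
theorem F515521 : act 4 n222679 = n200659 := d11_1 D222679 (iv7 D200659) D200658
def n222680 : Q := act 6 n200665
theorem D222680 : act 6 n200665 = n222680 := rfl
theorem F515522 : act 4 n222680 = n200957 := d10_1 D222680 (iv6 D200957) (iv4 F417399)
theorem F515523 : act 5 n222680 = n201315 := d12_1 D222680 F419987 (iv5 F421792) (iv6 F464342) F464341
theorem F515524 : act 7 n222680 = n221350 := d14_2 F439211 D222680 (iv6 D221350) F399502 (iv6 F439210)
theorem F515525 : act 1 n200947 = n222680 := d15_1 F507834 F515524 F508531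
theorem F515526 : act 1 n222680 = n200949 := d15_1 F515525 F418462 (iv2 F418458)
def n222681 : Q := act 6 n200668
theorem D222681 : act 6 n200668 = n222681 := rfl
theorem F515527 : act 3 n222681 = n201724 := d7_1 D222681 (iv6 D201724) (iv3 F417407)
theorem F515528 : act 4 n222681 = n212133 := d10_1 D222681 (iv6 D212133) (iv4 F417408)
def n222682 : Q := act 6 n200669
theorem D222682 : act 6 n200669 = n222682 := rfl
theorem F515529 : act 2 n222682 = n217703 := d3_1 D222682 F506462 F506456
theorem F515530 : act 3 n222682 = n207692 := d7_1 D222682 F446031 F419206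
theorem F515531 : act 4 n222682 = n200670 := d10_1 D222682 (iv6 D200670) (iv4 F417411)
theorem F515532 : act 5 n222682 = n217703 := d12_1 D222682 F506462 F506459 F401035 (iv5 F417412)
theorem F515533 : act 0 n222682 = n207629 := d21_10 F445755 F445518 (iv5 F440993) (iv6 F441724) (iv1 F497133) F497131 F439191 F435007 (iv5 F417412) D222682
theorem F515534 : act 0 n207630 = n222682 := d21_4 (iv5 D195710) D195708 (iv5 F445765) (iv6 F445766) (iv6 D222682) F417412 (iv1 F442513) (iv5 F442512) (iv6 F442520) F442522
def n222683 : Q := act 6 n200672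
theorem D222683 : act 6 n200672 = n222683 := rfl
theorem F515535 : act 2 n222683 = n219090 := d3_1 D222683 F497131 F439189
theorem F515536 : act 3 n222683 = n207824 := d7_1 D222683 (iv6 F446642) (iv3 F417423)
theorem F515537 : act 4 n222683 = n200673 := d10_1 D222683 (iv6 D200673) D200672
theorem F515538 : act 5 n222683 = n221681 := d12_1 D222683 F510268 F465007 (iv6 F410525) (iv5 F417424)
theorem F515539 : act 7 n222683 = n219091 := d14_2 F435478 D222683 F497137 F446635 F442520
theorem F515540 : act 0 n222683 = n214488 := d21_4 D200668 (iv1 F417410) (iv5 F417424) D222683 F475414 F399977 (iv1 F233497) (iv5 F399508) F417401 (iv1 D200666)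
theorem F515541 : act 0 n206659 = n222683 := d21_4 F441816 (iv1 F441815) F399434 (iv6 F441777) (iv6 D222683) F417424 (iv1 F401036) (iv5 F506459) (iv6 F506462) F490212
def n222684 : Q := act 7 n200677
theorem D222684 : act 7 n200677 = n222684 := rfl
theorem F515542 : act 2 n222684 = n219092 := d4_1 D222684 F497141 F435471
theorem F515543 : act 3 n222684 = n221231 := d8_1 D222684 F507861 F419215
theorem F515544 : act 4 n222684 = n214480 := d11_1 D222684 (iv7 F507657) F507654
theorem F515545 : act 5 n222684 = n205179 := d13_1 D222684 F435322 (iv5 F417439)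
theorem F515546 : act 6 n222684 = n205180 := d14_1 D222684 F435325 F381083 F204683 D200677
theorem F515547 : act 1 n206661 = n222684 := d15_1 (iv0 F441786) (iv7 D222684) (iv2 F435471)
def n222685 : Q := act 5 n200679
theorem D222685 : act 5 n200679 = n222685 := rfl
theorem F515548 : act 2 n222685 = n222381 := d2_1 D222685 (iv5 D222381) (iv2 F417446)
theorem F515549 : act 3 n222685 = n200680 := d6_1 D222685 (iv5 D200680) D200679
theorem F515550 : act 4 n222685 = n221887 := d9_1 D222685 F511214 F426591 F353675 D157703 (iv5 F413164) (iv4 D199698) D199699 (iv4 F470959) (iv5 D213545) (iv4 F347964) F347965 D157698 F414761 (iv4 F417447)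
theorem F515551 : act 6 n222685 = n212102 := d12_2 (iv6 F435017) D222685 (iv5 F464310) (iv6 D205111) D205110
theorem F515552 : act 7 n222685 = n222391 := d13_2 (iv7 F417448) D222685 (iv5 D222391)
theorem F515553 : act 0 n222685 = n212425 := d17_2 (iv1 F417450) D222685 F465756 (iv4 D198536) D198537 (iv0 F408270) F248412 F174293 D198702
theorem F515554 : act 1 n222685 = n222171 := d17_6 D191062 (iv5 F472323) F472326 F414761 (iv4 F417447) D222685 (iv5 D222171) (iv0 F408248) (iv4 D191064)
def n222686 : Q := act 6 n200680
theorem D222686 : act 6 n200680 = n222686 := rfl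
theorem F515555 : act 2 n222686 = n212207 := d3_1 D222686 (iv6 F464747) (iv2 F417451)
theorem F515556 : act 3 n222686 = n212102 := d7_1 D222686 (iv6 F515551) F515549
theorem F515557 : act 4 n222686 = n220783 := d10_1 D222686 F505510 (iv4 F417453)
theorem F515558 : act 5 n222686 = n213436 := d12_1 D222686 F470391 (iv5 F417459) (iv6 D200681) D200680
theorem F515559 : act 7 n222686 = n212206 := d14_2 (iv7 F417452) D222686 (iv6 F464743) (iv7 F482557) F482556
theorem F515560 : act 0 n222686 = n202759 := d21_10 (iv5 D202759) F342463 D177184 F412167 (iv1 D199431) (iv6 F409295) (iv5 D198798) F176538 D200680 D222686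
theorem F515561 : act 0 n212208 = n222686 := d21_4 D222480 F514443 F486077 (iv6 F471631) (iv6 D222686) (iv5 D200680) F176537 D199760 (iv6 F514408) (iv1 F514409)
def n222687 : Q := act 6 n200683
theorem D222687 : act 6 n200683 = n222687 := rfl
theorem F515562 : act 2 n222687 = n216017 := d3_1 D222687 F482556 (iv2 F417467)
theorem F515563 : act 3 n222687 = n220676 := d7_1 D222687 F504938 (iv3 F417468)
theorem F515564 : act 4 n222687 = n213452 := d10_1 D222687 F470464 F417472
theorem F515565 : act 5 n222687 = n213454 := d12_1 D222687 F470473 F440433 (iv6 F405746) D200683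
theorem F515566 : act 7 n222687 = n213453 := d14_2 (iv7 F417469) D222687 F470468 (iv7 F464745) (iv6 F464747)
theorem F515567 : act 0 n222687 = n203263 := d21_4 (iv5 D199760) F203212 D200683 D222687 (iv6 D203263) (iv5 D118314) (iv1 F105567) D147918 D212582 (iv1 F466539)
theorem F515568 : act 0 n221978 = n222687 := d21_4 (iv5 F410318) (iv1 F410320) F406190 D221978 (iv6 D222687) (iv5 D200683) F203209 D198798 F409295 (iv1 F407494)
def n222688 : Q := act 5 n200684
theorem D222688 : act 5 n200684 = n222688 := rfl
theorem F515569 : act 2 n222688 = n200691 := d2_1 D222688 (iv5 D200691) (iv2 F417473)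
theorem F515570 : act 3 n222688 = n215720 := d6_1 D222688 F481228 F436767
theorem F515571 : act 4 n222688 = n215238 := d9_1 D222688 F479004 (iv4 F459655) (iv5 F488020) F488019 (iv5 F374947) (iv4 F399449) (iv5 F441550) (iv4 F479000) F479003 F406430 D220228 F502757 (iv5 D218227) (iv4 F417474)
theorem F515572 : act 6 n222688 = n200687 := d12_2 D200684 D222688 (iv5 D200687) (iv6 D113343) D113342
theorem F515573 : act 7 n222688 = n220957 := d13_2 (iv7 F417475) D222688 F506487
theorem F515574 : act 0 n222688 = n206438 := d17_2 (iv1 F417476) D222688 (iv5 D206438) F206887 D134236 D208375 (iv5 F462174) (iv0 F462175) F377738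
theorem F515575 : act 1 n222688 = n205427 := d17_6 D190718 (iv5 F470266) (iv1 F492833) (iv5 D218227) (iv4 F417474) D222688 (iv5 F436363) (iv0 F418137) F267339
def n222689 : Q := act 3 n200692
theorem D222689 : act 3 n200692 = n222689 := rfl
theorem F515576 : act 2 n222689 = n215385 := d0_1 D222689 F479709 (iv2 F343710) (iv3 F413313) (iv2 F417513)
theorem F515577 : act 4 n222689 = n211798 := d5_2 D200692 D222689 (iv3 F464571) F464572 F406046
theorem F515578 : act 5 n222689 = n215384 := d6_2 F418198 D222689 F479704
theorem F515579 : act 6 n222689 = n214356 := d7_2 F417517 D222689 F474732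
theorem F515580 : act 7 n222689 = n204277 := d8_2 (iv7 F417514) D222689 (iv3 D204277)
theorem F515581 : act 0 n222689 = n214679 := d19_4 F412412 (iv5 F406044) D200692 D222689 (iv5 D214679) F253666 (iv3 F253664) F430098 (iv5 F479437) (iv4 F480405) F480404 (iv1 F509603) F509605 F505694 (iv3 F455426) (iv1 F455429) (iv5 F440973) F440969 (iv3 F417570)
theorem F515582 : act 0 n214842 = n222689 := d20_4 (iv4 D78409) D78406 D163061 D214842 (iv3 D222689) (iv4 D200692) (iv1 F417500) F417497 F412880 F329865
def n222690 : Q := act 4 n200698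
theorem D222690 : act 4 n200698 = n222690 := rfl
theorem F515583 : act 2 n222690 = n213553 := d1_1 D222690 F471001 (iv2 F436917)
theorem F515584 : act 3 n222690 = n206125 := d5_1 D222690 (iv4 D206125) (iv3 D127409) (iv4 F178281) D200698
theorem F515585 : act 6 n222690 = n205590 := d10_2 (iv6 F441032) D222690 F441034
theorem F515586 : act 7 n222690 = n213552 := d11_2 F418758 D222690 F470996
theorem F515587 : act 0 n222690 = n206630 := d17_0 (iv5 D206630) (iv1 D129041) D129042 (iv4 F440895) F440896 (iv0 F280579) F348750 (iv0 F417546) D222690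
theorem F515588 : act 1 n222690 = n206627 := d18_6 D200635 F417304 (iv1 F303729) (iv4 F434000) F433999 D222690 F441647 (iv0 F435986) (iv5 D200636)
def n222691 : Q := act 6 n200728
theorem D222691 : act 6 n200728 = n222691 := rfl
theorem F515589 : act 2 n222691 = n207967 := d3_1 D222691 F447188 F417668
theorem F515590 : act 3 n222691 = n206192 := d7_1 D222691 F439652 (iv3 F425363)
theorem F515591 : act 4 n222691 = n206193 := d10_1 D222691 F439656 (iv4 F417666)
theorem F515592 : act 5 n222691 = n207890 := d12_1 D222691 F446897 (iv5 D163725) D163726 (iv5 F417665)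
theorem F515593 : act 7 n222691 = n221687 := d14_2 F417669 D222691 (iv6 D221687) (iv7 F473124) F473128
theorem F515594 : act 0 n222691 = n219288 := d21_4 D186850 (iv1 F368263) (iv5 F417665) D222691 (iv6 D219288) (iv5 F382022) D211474 F461702 F408303 (iv1 D186849)
def n222692 : Q := act 4 n200741
theorem D222692 : act 4 n200741 = n222692 := rfl
theorem F515595 : act 2 n222692 = n215657 := d1_1 D222692 F480989 F445639
theorem F515596 : act 3 n222692 = n206411 := d5_1 D222692 F440660 (iv3 F416195) F380448 (iv3 F417730)
theorem F515597 : act 5 n222692 = n218805 := d9_2 (iv5 F417729) D222692 F495723 F394947 F363502 F194341 D80057 (iv5 F358969) (iv4 F445637) F445638 F439528 F439525 F393481 F281158 (iv4 F258255)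
theorem F515598 : act 6 n222692 = n206409 := d10_2 (iv6 F445605) D222692 (iv4 F445603)
theorem F515599 : act 7 n222692 = n215656 := d11_2 F445610 D222692 F480983
theorem F515600 : act 0 n222692 = n215109 := d17_0 F478397 F381620 F294263 (iv4 F257752) (iv5 F358959) F328090 D163649 F417731 D222692
theorem F515601 : act 1 n222692 = n207619 := d18_6 D91688 (iv4 F140954) (iv1 F258192) (iv4 F258255) (iv5 F417729) D222692 (iv4 D207619) F341797 (iv5 D91691)
def n222693 : Q := act 6 n200747
theorem D222693 : act 6 n200747 = n222693 := rfl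
theorem F515602 : act 2 n222693 = n206650 := d3_1 D222693 (iv6 F441740) F436876
theorem F515603 : act 3 n222693 = n214903 := d7_1 D222693 (iv6 F477360) (iv3 F417754)
theorem F515604 : act 4 n222693 = n221361 := d10_1 D222693 F508603 F421902
theorem F515605 : act 5 n222693 = n207618 := d12_1 D222693 (iv6 F445697) F436808 F202977 (iv5 F417755)
theorem F515606 : act 7 n222693 = n200750 := d14_2 D200747 D222693 (iv6 D200750) (iv7 D113409) (iv6 F176593)
theorem F515607 : act 0 n222693 = n206471 := d21_4 F343629 F343630 (iv5 F417755) D222693 F440987 F373472 (iv1 F373469) (iv5 F367036) (iv6 F382360) F382362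
theorem F515608 : act 0 n206470 = n222693 := d21_4 (iv5 F405973) (iv1 F405976) D205399 (iv6 F440981) (iv6 D222693) F417755 (iv1 F343638) F343640 (iv6 F399424) (iv1 F399425)
def n222694 : Q := act 4 n200758
theorem D222694 : act 4 n200758 = n222694 := rfl
theorem F515609 : act 2 n222694 = n221222 := d1_1 D222694 F507813 F437034
theorem F515610 : act 3 n222694 = n206782 := d5_1 D222694 F442175 (iv3 F347029) (iv4 F204141) D200758
theorem F515611 : act 6 n222694 = n200856 := d10_2 (iv6 F417806) D222694 F418172
theorem F515612 : act 7 n222694 = n221221 := d11_2 F418264 D222694 F507806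
theorem F515613 : act 0 n222694 = n212669 := d18_2 F417807 D222694 F466975 (iv5 D195685) (iv4 F395467) (iv0 F417780) (iv4 D200752) F342906 F342899
theorem F515614 : act 1 n222694 = n221224 := d18_6 D113243 D200580 F417045 F406118 (iv5 F417805) D222694 F507822 F397874 (iv5 D113246)
def n222695 : Q := act 1 n200770
theorem D222695 : act 1 n200770 = n222695 := rfl
theorem F515615 : act 1 n222695 = n200773 := d15_1 D222695 (iv7 F439300) F439299
theorem F515616 : act 7 n222695 = n219534 := d15_2 F507730 D222695 (iv2 F507726)
theorem F515617 : act 4 n222695 = n219542 := d18_7 (iv1 F417445) F414333 F414331 (iv4 D113444) D113445 D200770 D222695 F499349 F445711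
theorem F515618 : act 5 n222695 = n201321 := d18_9 F421725 F421723 (iv1 F250848) (iv4 F440499) F440498 F439256 (iv0 F230611) D200770 D222695
theorem F515619 : act 6 n206669 = n222695 := d21_3 F515532 F490212 F441816 (iv1 D222695) F417862 (iv5 D195710) D195708 (iv5 F445765) (iv6 F445766) F515534
theorem F515620 : act 2 n222695 = n221233 := d3_1 F515619 F507868 F445516
theorem F515621 : act 3 n222695 = n212376 := d7_1 F515619 F487211 (iv3 F441980)
def n222696 : Q := act 5 n200770
theorem D222696 : act 5 n200770 = n222696 := rfl
theorem F515622 : act 3 n222696 = n222471 := d6_1 D222696 F514390 F418686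
theorem F515623 : act 6 n222696 = n201158 := d12_2 (iv6 F417862) D222696 F419291 (iv6 D195711) D195710
theorem F515624 : act 4 n222696 = n201159 := d16_2 D200770 D222696 F421066 F421064 (iv5 F204912) F174309 D113448 (iv7 F204922) (iv2 F204920)
theorem F515625 : act 1 n222696 = n206209 := d17_6 (iv1 D113458) (iv5 D52374) D52370 D113445 D200770 D222696 (iv5 F508534) F508536 (iv4 D200785)
def n222697 : Q := act 3 n200773
theorem D222697 : act 3 n200773 = n222697 := rfl
theorem F515626 : act 2 n222697 = n221237 := d0_1 D222697 F507888 F514044 (iv3 F514043) F439291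
theorem F515627 : act 4 n222697 = n205419 := d5_2 D200773 D222697 (iv3 F436937) F436938 (iv3 F395368)
theorem F515628 : act 7 n222697 = n221230 := d8_2 F439300 D222697 F507853
theorem F515629 : act 0 n222697 = n221236 := d19_4 (iv1 F161164) D113448 D200773 D222697 F507883 F442629 F421914 F444539 F444535 (iv4 F443178) F443177 (iv1 F424823) (iv5 F441905) F441906 (iv3 D198248) (iv1 F405705) (iv5 D197769) F168569 (iv3 F161160)
theorem F515630 : act 0 n212371 = n222697 := d20_4 F176798 (iv1 F177137) (iv4 F230235) D212371 (iv3 D222697) (iv4 D200773) F230613 D113539 F176702 D113618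
theorem F515631 : act 5 n222697 = n201155 := d17_1 F515630 (iv1 F446560) (iv5 D207812) (iv4 F343578) (iv5 D125919) D125918 D205408 (iv0 F484253) F484251
theorem F515632 : act 6 n207577 = n222697 := d21_5 F212430 (iv1 D129640) (iv5 F99344) D135848 (iv1 F445525) F515631 (iv1 F446560) (iv5 D207812) (iv6 D132392) D132390
def n222698 : Q := act 5 n200773
theorem D222698 : act 5 n200773 = n222698 := rfl
theorem F515633 : act 3 n222698 = n201155 := d6_1 D222698 (iv5 F515631) (iv3 D222697)
theorem F515634 : act 4 n222698 = n221185 := d9_1 D222698 (iv5 D221185) F397414 F204811 (iv4 D113444) D113445 D200770 D222696 F515624 F421066 F421064 (iv5 F204912) F174309 D113448 D200773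
theorem F515635 : act 0 n222698 = n206209 := d17_2 F507729 D222698 (iv5 F508534) F508533 (iv5 F399505) F417445 (iv5 F445711) (iv0 F445713) D221205
def n222699 : Q := act 6 n200773
theorem D222699 : act 6 n200773 = n222699 := rfl
theorem F515636 : act 3 n222699 = n207577 := d7_1 D222699 F515632 (iv3 D222697)
theorem F515637 : act 4 n222699 = n200774 := d10_1 D222699 (iv6 D200774) D200773
theorem F515638 : act 0 n221334 = n222699 := d21_4 F508524 F437170 (iv5 F399315) (iv6 F508436) (iv6 D222699) D222698 F515635 (iv5 F508534) (iv6 D221350) D221349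
theorem F515639 : act 1 n206582 = n222699 := d18_6 F395858 F176519 (iv1 F161540) F362906 (iv5 F396543) (iv4 F441426) F515637 F418408 (iv5 D200923)
theorem F515640 : act 5 n221445 = n222699 := d19_1 F509045 F515637 (iv3 F506399) F506402 (iv5 D216833) (iv4 D185856) F135548 (iv1 F63669) (iv5 F69441) F69440 F67696 (iv1 F31571) (iv5 D19801) D19800 D42000 F289535 D95494 D189944 D218704
def n222700 : Q := act 5 n200776
theorem D222700 : act 5 n200776 = n222700 := rfl
theorem F515641 : act 2 n222700 = n200780 := d2_1 D222700 (iv5 D200780) (iv2 F417870)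
theorem F515642 : act 4 n222700 = n208193 := d9_1 D222700 (iv5 D208193) (iv4 D133658) D133659 (iv4 F362868) (iv5 F362866) (iv4 F409029) D222223 F513008 (iv5 D208197) (iv4 D133662) (iv5 F165960) F373521 (iv5 F373522) (iv4 F417871)
theorem F515643 : act 6 n222700 = n218129 := d12_2 D200776 D222700 F492267 F376342 F354591
def n222701 : Q := act 5 n200777
theorem D222701 : act 5 n200777 = n222701 := rfl
theorem F515644 : act 2 n222701 = n200789 := d2_1 D222701 (iv5 D200789) (iv2 F417872)
theorem F515645 : act 3 n222701 = n206792 := d6_1 D222701 (iv5 D206792) (iv3 F417873)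
theorem F515646 : act 4 n222701 = n201793 := d9_1 D222701 F421811 F290482 F354588 F110921 (iv5 F94258) (iv4 F105042) D146881 F375116 F375115 (iv4 F259549) F354591 (iv4 D113450) D113451 D200777
theorem F515647 : act 6 n222701 = n201791 := d12_2 (iv6 F417874) D222701 F441847 (iv6 D206677) F207510
theorem F515648 : act 7 n222701 = n212396 := d13_2 (iv7 F417875) D222701 (iv5 D212396)
theorem F515649 : act 0 n222701 = n212398 := d17_2 F417877 D222701 F465662 (iv4 F439250) (iv5 D205523) F414334 F399505 (iv0 F417052) F411028
theorem F515650 : act 1 n222701 = n212397 := d17_6 D127386 F204917 (iv1 F161159) D113451 D200777 D222701 F465659 (iv0 D206098) F204703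
def n222702 : Q := act 0 n200780
theorem D222702 : act 0 n200780 = n222702 := rfl
theorem F515651 : act 5 n222702 = n215650 := d17_1 D222702 F491986 (iv5 F496173) F496172 F488718 (iv0 F486552) D218723 (iv0 F510117) F510116
theorem F515652 : act 4 n222702 = n222606 := d18_1 D222702 F515145 F513107 F477256 D215115 F478434 F445396 (iv0 F394844) D200780
theorem F515653 : act 3 n222702 = n215651 := d20_5 D198734 (iv1 F436746) (iv4 D205505) (iv3 F417883) D222702 F480967 F433325 (iv4 F474439) F474438 (iv1 F408930)
def n222703 : Q := act 1 n200780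
theorem D222703 : act 1 n200780 = n222703 := rfl
theorem F515654 : act 5 n222703 = n214693 := d17_7 (iv1 D188438) (iv5 F141242) F359019 (iv5 D113463) (iv4 F176642) D200780 D222703 F491987 (iv4 D218066)
theorem F515655 : act 3 n214694 = n222703 := d19_19 (iv1 D222703) (iv5 D200780) F176642 F82742 (iv1 F165617) D113411 (iv4 F332817) (iv3 F398459) (iv1 D189524) F144850 (iv4 F157536) F321700 (iv1 F208643) D130167 (iv4 F433420) (iv3 D204731) (iv1 F253441) D214641 (iv4 F476426)
theorem F515656 : act 6 n218915 = n222703 := d21_3 (iv5 F473972) (iv1 F481126) (iv5 F496179) (iv1 D222703) F417884 (iv5 F382250) (iv1 D191105) D191106 (iv6 F498158) F498160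
def n222704 : Q := act 0 n200782
theorem D222704 : act 0 n200782 = n222704 := rfl
theorem F515657 : act 4 n222704 = n206089 := d18_1 D222704 F439205 F411028 (iv5 F421943) F421942 F206694 (iv4 F421718) (iv0 D201762) (iv5 F417889)
theorem F515658 : act 3 n222704 = n206841 := d20_5 (iv4 F209241) D207263 (iv4 F514035) F514034 D222704 F443069 (iv1 F437821) (iv4 F465636) F465635 (iv1 D205976)
theorem F515659 : act 6 n222704 = n206088 := d21_5 F421756 (iv1 D201773) D201774 F421758 D222704 F446138 (iv1 F446139) (iv5 F514809) F514807 (iv1 D206580)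
theorem F515660 : act 2 n222680 = n222704 := d15_3 (iv0 D222704) (iv0 F508535) (iv7 F515524)
theorem F515661 : act 1 n200785 = n222704 := d15_0 (iv0 D222704) (iv7 F418459) F418458
theorem F515662 : act 7 n222704 = n221226 := d15_2 F508536 F515661 (iv2 F508531)
def n222705 : Q := act 6 n200785
theorem D222705 : act 6 n200785 = n222705 := rfl
theorem F515663 : act 3 n222705 = n219491 := d7_1 D222705 (iv6 F499150) (iv3 F446553)
theorem F515664 : act 4 n222705 = n200786 := d10_1 D222705 (iv6 D200786) D200785
def n222706 : Q := act 0 n200789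
theorem D222706 : act 0 n200789 = n222706 := rfl
theorem F515665 : act 5 n222706 = n200831 := d17_1 D222706 (iv1 F439258) (iv5 F440498) F440499 (iv5 F250850) D201591 (iv5 F421066) (iv0 F427973) F427972
theorem F515666 : act 4 n222706 = n201314 := d18_1 D222706 (iv1 D201314) D201315 (iv5 F515523) F515522 F418501 (iv4 F417897) (iv0 D200787) D200789
theorem F515667 : act 3 n222706 = n206700 := d20_5 F418363 (iv1 F183485) (iv4 F176924) (iv3 F417909) D222706 (iv4 F511857) F511859 (iv4 F441936) F441935 F418909
theorem F515668 : act 2 n212398 = n222706 := d15_3 (iv0 D222706) (iv0 F513357) F513356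
theorem F515669 : act 1 n212396 = n222706 := d15_0 (iv0 D222706) F417910 (iv2 F465657)
theorem F515670 : act 7 n222706 = n212397 := d15_2 (iv0 F513358) F515669 (iv2 F513353)
theorem F515671 : act 6 n222706 = n201161 := d3_2 F465665 F515668 F421875
def n222707 : Q := act 6 n200790
theorem D222707 : act 6 n200790 = n222707 := rfl
theorem F515672 : act 2 n222707 = n219012 := d3_1 D222707 (iv6 F508373) (iv2 F508374)
theorem F515673 : act 3 n222707 = n207466 := d7_1 D222707 (iv6 D207466) F417913
theorem F515674 : act 4 n222707 = n219498 := d10_1 D222707 F508530 F508525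
theorem F515675 : act 5 n222707 = n207474 := d12_1 D222707 (iv6 D207474) (iv5 F358298) D196263 (iv5 F417911)
theorem F515676 : act 0 n207499 = n222707 := d21_4 (iv5 F470821) F470824 F419194 (iv6 F445156) (iv6 D222707) F417911 F400100 F363068 (iv6 F418406) (iv1 F418408)
def n222708 : Q := act 6 n200791
theorem D222708 : act 6 n200791 = n222708 := rfl
theorem F515677 : act 2 n222708 = n201169 := d3_1 D222708 (iv6 F477936) F477930
theorem F515678 : act 3 n222708 = n212190 := d7_1 D222708 F464691 F441019
theorem F515679 : act 4 n222708 = n201176 := d10_1 D222708 (iv6 F446547) F446545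
theorem F515680 : act 5 n222708 = n205203 := d12_1 D222708 F445682 (iv5 F507749) F507750 F419573
theorem F515681 : act 7 n222708 = n222539 := d14_2 F508376 D222708 F514797 (iv7 F496675) (iv6 F508373)
theorem F515682 : act 0 n222708 = n206665 := d21_4 (iv5 F363068) (iv1 F419575) F419573 D222708 (iv6 D206665) (iv5 D129084) (iv1 F95276) D106654 F164283 (iv1 F363070)
def n222709 : Q := act 0 n200808
theorem D222709 : act 0 n200808 = n222709 := rfl
theorem F515683 : act 5 n222709 = n218488 := d17_1 D222709 (iv1 F494543) F494540 (iv4 D214897) (iv5 D163442) (iv0 F334369) (iv5 F417915) F417993 D200808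
theorem F515684 : act 4 n222709 = n207488 := d18_1 D222709 F445122 F400109 (iv5 F400112) F447619 (iv0 D207208) (iv4 F443801) (iv0 F447491) F447490
theorem F515685 : act 2 n219329 = n222709 := d1_3 F515684 (iv2 F508390) F508392
theorem F515686 : act 6 n207487 = n222709 := d10_0 F515684 (iv6 D207488) D207487
theorem F515687 : act 7 n219330 = n222709 := d11_0 F515684 (iv7 F478403) (iv4 F498316)
theorem F515688 : act 1 n214908 = n222709 := d17_8 F445122 D221389 F508765 (iv5 F477385) (iv4 F498390) F498389 (iv0 F508598) F508595 F515684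
def n222710 : Q := act 1 n200808
theorem D222710 : act 1 n200808 = n222710 := rfl
theorem F515689 : act 1 n222710 = n214908 := d15_1 D222710 F477383 (iv2 F417994)
theorem F515690 : act 7 n222710 = n219329 := d15_2 (iv0 D222709) D222710 F515685
theorem F515691 : act 5 n222710 = n218489 := d17_7 (iv1 F447489) (iv5 D208022) (iv1 D133212) D133213 D208023 F447490 D222710 F494542 F494539
theorem F515692 : act 4 n222710 = n207599 := d17_9 (iv1 F494300) (iv5 F515303) F515305 (iv5 F447229) (iv4 F498395) F498394 (iv0 F447491) F447490 D222710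
theorem F515693 : act 3 n218122 = n222710 := d19_19 (iv1 D222710) (iv5 F447490) (iv4 D208023) F214054 (iv1 F327995) F327996 F173733 F173731 (iv1 F171566) F164172 (iv4 F168716) D197958 F477568 (iv5 F477569) D222481 F514446 (iv1 D203872) D203873 F492236
theorem F515694 : act 6 n222710 = n207598 := d7_2 (iv6 F492237) F515693 F445625
theorem F515695 : act 2 n219330 = n222710 := d1_3 F515692 (iv2 F478401) (iv4 F498316)
def n222711 : Q := act 3 n200808
theorem D222711 : act 3 n200808 = n222711 := rfl
theorem F515696 : act 2 n222711 = n218507 := d0_1 D222711 F494210 F376532 (iv3 F382601) (iv2 F417994)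
theorem F515697 : act 4 n222711 = n214310 := d5_2 D200808 D222711 (iv3 D214310) (iv4 F341830) F348771
theorem F515698 : act 5 n222711 = n218504 := d6_2 F447490 D222711 F494204
theorem F515699 : act 6 n222711 = n218457 := d7_2 F445332 D222711 F493989
theorem F515700 : act 0 n222711 = n218105 := d20_4 (iv4 F417992) (iv1 D200807) D200808 D222711 (iv3 F492170) (iv4 F494597) (iv1 F494600) (iv4 F494609) F494608 (iv1 D217864)
theorem F515701 : act 0 n218104 = n222711 := d20_4 (iv4 F443803) (iv1 D207209) (iv4 F443801) (iv3 F492165) (iv3 D222711) (iv4 D200808) (iv1 F417993) (iv4 F417919) (iv3 F493792) (iv1 F493796)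
theorem F515702 : act 7 n222711 = n218639 := d15_2 F494275 (iv0 F515700) (iv2 F494916)
def n222712 : Q := act 7 n200808
theorem D222712 : act 7 n200808 = n222712 := rfl
theorem F515703 : act 2 n222712 = n214908 := d4_1 D222712 F477383 (iv2 F417994)
theorem F515704 : act 3 n222712 = n218639 := d8_1 D222712 (iv7 F515702) (iv3 D222711)
theorem F515705 : act 4 n222712 = n200809 := d11_1 D222712 (iv7 D200809) D200808
theorem F515706 : act 5 n222712 = n218459 := d13_1 D222712 (iv7 F493999) F447490
theorem F515707 : act 1 n219330 = n222712 := d15_1 D219330 (iv7 D222712) F417994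
theorem F515708 : act 1 n222712 = n219329 := d15_1 F515707 (iv7 F515690) (iv2 F515695)
def n222713 : Q := act 4 n200820
theorem D222713 : act 4 n200820 = n222713 := rfl
theorem F515709 : act 3 n222713 = n220690 := d5_1 D222713 F504998 (iv3 D205336) D205337 (iv3 F435971)
theorem F515710 : act 5 n222713 = n209916 := d9_2 D200820 D222713 F455347 (iv5 D137518) (iv4 D64646) F221252 (iv4 F383818) (iv5 F416943) (iv4 F515370) (iv5 F515373) (iv4 F455349) (iv5 D137530) (iv4 D64651) F221259 (iv4 F395994)
theorem F515711 : act 6 n222713 = n220689 := d10_2 F515382 D222713 (iv4 F515380)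
theorem F515712 : act 0 n222713 = n210103 := d18_2 (iv1 F418052) D222713 (iv4 D210103) (iv5 D137556) (iv4 D64658) D64657 D137551 F333067 D196040
theorem F515713 : act 0 n210084 = n222713 := d17_2 (iv1 D210083) D210084 F515710 F455347 (iv5 D137518) F333129 D102618 (iv0 F385793) F456093
def n222714 : Q := act 6 n200831
theorem D222714 : act 6 n200831 = n222714 := rfl
theorem F515714 : act 3 n222714 = n207920 := d7_1 D222714 F446994 F418096
theorem F515715 : act 4 n222714 = n221572 := d10_1 D222714 (iv6 D221572) (iv4 F418095)
theorem F515716 : act 0 n222714 = n221223 := d21_4 D200789 D222706 F515665 D222714 F507819 F442834 (iv1 F445774) F445772 (iv6 F417908) (iv1 D200788)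
theorem F515717 : act 0 n200846 = n222714 := d21_4 F439221 D212108 F464352 F418532 (iv6 D222714) (iv5 F515665) (iv1 F515669) (iv5 D212396) F418505 (iv1 F439223)
theorem F515718 : act 5 n210274 = n222714 := d21_8 (iv5 F440498) (iv1 D206378) (iv5 F417094) (iv6 F421970) (iv1 F421977) (iv6 F451533) F451532 (iv1 F487284) (iv6 D222714) (iv1 F439258)
def n222715 : Q := act 6 n200832
theorem D222715 : act 6 n200832 = n222715 := rfl
theorem F515719 : act 2 n222715 = n205805 := d3_1 D222715 F439248 (iv2 F439255)
theorem F515720 : act 4 n222715 = n206519 := d10_1 D222715 F441173 (iv4 F418097)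
theorem F515721 : act 0 n222715 = n201123 := d21_4 D212396 F513358 F513355 D222715 (iv6 F419169) F421782 (iv1 F421783) (iv5 F343927) F417901 (iv1 F417900)
theorem F515722 : act 0 n205753 = n222715 := d21_4 F99050 D126514 (iv5 F203589) D205753 (iv6 D222715) (iv5 F513355) F513357 (iv5 D200789) (iv6 F365769) F207332
def n222716 : Q := act 4 n200835
theorem D222716 : act 4 n200835 = n222716 := rfl
theorem F515723 : act 2 n222716 = n206582 := d1_1 D222716 F441426 (iv2 F418104)
theorem F515724 : act 6 n222716 = n206446 := d10_2 F418107 D222716 (iv4 D206446)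
theorem F515725 : act 7 n222716 = n221334 := d11_2 (iv7 F418106) D222716 (iv4 D221334)
theorem F515726 : act 3 n207858 = n222716 := d20_5 F93642 D59367 D126539 D205704 (iv1 F474831) (iv4 D222716) (iv1 F421211) (iv4 F437488) (iv3 D205699) (iv1 D126537)
def n222717 : Q := act 0 n200837
theorem D222717 : act 0 n200837 = n222717 := rfl
theorem F515727 : act 4 n222717 = n205560 := d18_3 (iv1 D200836) D200837 D222717 (iv5 F470814) F470815 F418649 (iv4 F440687) (iv0 F440690) F418110
theorem F515728 : act 3 n222717 = n206806 := d20_5 F443468 F219401 (iv4 F446234) F446239 D222717 F442255 (iv1 F350904) (iv4 F443473) (iv3 D207137) D207136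
theorem F515729 : act 2 n221219 = n222717 := d15_3 (iv0 D222717) (iv0 F508132) F508131
theorem F515730 : act 6 n222717 = n206804 := d3_2 (iv6 F507796) F515729 (iv2 F451546)
theorem F515731 : act 7 n222717 = n222676 := d4_2 F508131 F515729 F515510
def n222718 : Q := act 5 n200837
theorem D222718 : act 5 n200837 = n222718 := rfl
theorem F515732 : act 3 n222718 = n205702 := d6_1 D222718 (iv5 F446233) F446239
def n222719 : Q := act 7 n200837
theorem D222719 : act 7 n200837 = n222719 := rfl
theorem F515733 : act 3 n222719 = n206754 := d8_1 D222719 (iv7 F446237) F446239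
theorem F515734 : act 4 n222719 = n200838 := d11_1 D222719 (iv7 D200838) D200837
theorem F515735 : act 6 n222719 = n206873 := d14_1 D222719 (iv7 F445921) F445920 (iv7 D200962) (iv6 F418111)
theorem F515736 : act 1 n222676 = n222719 := d15_1 (iv0 F515513) (iv7 D222719) (iv2 F439178)
theorem F515737 : act 1 n222719 = n221219 := d15_1 F515736 (iv7 F508131) (iv2 F515510)
def n222720 : Q := act 4 n200842
theorem D222720 : act 4 n200842 = n222720 := rfl
theorem F515738 : act 2 n222720 = n219326 := d1_1 D222720 (iv4 F512696) F512694
theorem F515739 : act 5 n222720 = n214900 := d9_2 D200842 D222720 F477341 (iv5 F392729) F392728 D205831 F438046 F433982 (iv4 F512681) F512682 F477334 (iv5 F392734) F392737 F418116 (iv4 D200841)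
theorem F515740 : act 6 n222720 = n216294 := d10_2 F496827 D222720 (iv4 F496830)
theorem F515741 : act 7 n222720 = n219325 := d11_2 (iv7 F436093) D222720 F498299
theorem F515742 : act 0 n222720 = n207607 := d17_0 (iv5 D207607) F436238 (iv5 D205396) (iv4 F436234) (iv5 F454468) F454469 (iv5 F512692) F512690 D222720
def n222721 : Q := act 3 n200844
theorem D222721 : act 3 n200844 = n222721 := rfl
theorem F515743 : act 2 n222721 = n222167 := d0_1 D222721 (iv3 F512693) (iv2 F499390) (iv3 F506543) F506538
theorem F515744 : act 5 n222721 = n207772 := d6_2 F436283 D222721 F446360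
theorem F515745 : act 7 n222721 = n222166 := d8_2 F506546 D222721 (iv3 F512688)
theorem F515746 : act 0 n222721 = n205365 := d19_4 D52404 D113548 D200844 D222721 F436092 F395756 F355500 F454424 F454421 (iv4 D145329) D145328 F228375 (iv5 F166901) D196956 (iv3 F452665) F452668 (iv5 D200817) F176693 F82755
theorem F515747 : act 0 n222168 = n222721 := d20_4 F435850 (iv1 F409774) (iv4 F414984) (iv3 F512695) (iv3 D222721) (iv4 D200844) F365770 (iv4 F435848) F435847 D205300
def n222722 : Q := act 1 n200846
theorem D222722 : act 1 n200846 = n222722 := rfl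
theorem F515748 : act 1 n222722 = n221223 := d15_1 D222722 (iv7 F514804) F514800
theorem F515749 : act 5 n222722 = n221232 := d17_7 (iv1 F163225) (iv5 F163213) (iv1 F163215) D106215 D195700 (iv5 F418129) D222722 (iv0 D221232) (iv4 D195704)
theorem F515750 : act 4 n222722 = n216298 := d17_9 F483705 F417439 D205300 F435851 (iv4 F442424) (iv5 F507815) F507811 (iv5 F418129) D222722
theorem F515751 : act 3 n216297 = n222722 := d19_19 (iv1 D222722) F418129 (iv4 D195700) (iv3 F397882) F417087 F417086 F417083 F357963 (iv1 F149951) (iv5 F149952) F335110 F340694 F104667 D117413 D202971 (iv3 F450532) (iv1 F450537) (iv5 F422498) D216297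
def n222723 : Q := act 6 n200858
theorem D222723 : act 6 n200858 = n222723 := rfl
theorem F515752 : act 2 n222723 = n222670 := d3_1 D222723 F515477 (iv2 F418179)
theorem F515753 : act 3 n222723 = n212649 := d7_1 D222723 (iv6 F466876) (iv3 F437373)
theorem F515754 : act 4 n222723 = n205246 := d10_1 D222723 F435590 (iv4 F418181)
theorem F515755 : act 5 n222723 = n201651 := d12_1 D222723 (iv6 D201651) (iv5 F396128) F396129 D200858
theorem F515756 : act 7 n222723 = n201741 := d14_2 (iv7 F418180) D222723 (iv6 D201741) F179142 (iv6 F395796)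
def n222724 : Q := act 5 n200863
theorem D222724 : act 5 n200863 = n222724 := rfl
theorem F515757 : act 2 n222724 = n200866 := d2_1 D222724 (iv5 D200866) (iv2 F418200)
theorem F515758 : act 4 n222724 = n217377 := d9_1 D222724 F488641 F447561 (iv5 D208038) (iv4 F417226) F417227 (iv4 F406279) (iv5 F406282) (iv4 D190432) (iv5 D96025) (iv4 F147648) D190421 (iv4 F418284) (iv5 D200885) (iv4 F418201)
theorem F515759 : act 6 n222724 = n220273 := d12_2 D200863 D222724 F502976 F432377 F405882
theorem F515760 : act 7 n222724 = n217375 := d13_2 F511832 D222724 (iv5 F511830)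
theorem F515761 : act 0 n222724 = n211382 := d17_2 F477567 D222724 F461349 F413304 F417276 F478762 F478759 F380466 (iv4 F477564)
theorem F515762 : act 1 n222724 = n218968 := d17_6 (iv1 F417828) (iv5 F495002) (iv1 F495006) (iv5 D200885) (iv4 F418201) D222724 F496433 F413308 (iv4 F413337)
def n222725 : Q := act 3 n200867
theorem D222725 : act 3 n200867 = n222725 := rfl
theorem F515763 : act 4 n222725 = n218964 := d5_2 D200867 D222725 F496416 (iv4 F418208) F418206
theorem F515764 : act 5 n222725 = n217127 := d6_2 F514234 D222725 F514236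
theorem F515765 : act 7 n222725 = n218963 := d8_2 (iv7 F476275) D222725 F496412
theorem F515766 : act 0 n222725 = n219408 := d19_4 F168475 D113577 D200867 D222725 (iv5 D219408) (iv4 D191400) (iv3 F374473) F375640 F375637 (iv4 F370987) F370988 F294917 (iv5 F362814) (iv4 F387676) F387675 F400607 (iv5 D196406) (iv4 F201870) (iv3 F364141)
theorem F515767 : act 0 n219618 = n222725 := d20_4 (iv4 D108794) D108792 D197948 (iv3 F499702) (iv3 D222725) (iv4 D200867) F176735 D199679 F413097 (iv1 D197953)
def n222726 : Q := act 3 n200888
theorem D222726 : act 3 n200888 = n222726 := rfl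
theorem F515768 : act 2 n222726 = n216301 := d0_1 D222726 (iv3 D216301) F380714 D218657 (iv2 F495007)
theorem F515769 : act 5 n222726 = n222478 := d6_2 F418289 D222726 (iv3 D222478)
theorem F515770 : act 6 n222726 = n206498 := d7_2 F418290 D222726 (iv3 D206498)
theorem F515771 : act 7 n222726 = n200948 := d8_2 F509668 D222726 (iv3 F509665)
theorem F515772 : act 0 n222726 = n206643 := d19_4 (iv1 F443755) (iv5 F507934) F507932 D222726 (iv5 D206643) (iv4 F400050) F478582 (iv1 D215151) (iv5 F445629) (iv4 F515692) (iv3 F515693) (iv1 D218122) (iv5 F376719) (iv4 F486189) F486188 (iv1 F392279) D220673 F504920 F484213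
theorem F515773 : act 0 n206644 = n222726 := d20_4 F176447 F163446 F396124 (iv3 F441717) (iv3 D222726) (iv4 F507932) F507935 F495409 F478758 F415239
def n222727 : Q := act 0 n200897
theorem D222727 : act 0 n200897 = n222727 := rfl
theorem F515774 : act 5 n222727 = n212446 := d17_1 D222727 F502251 F502249 F442202 (iv5 F442206) F442209 (iv5 F438880) F438881 F434573
theorem F515775 : act 4 n222727 = n205871 := d18_1 D222727 F438209 D205906 (iv5 F442984) (iv4 F452555) (iv0 D209169) (iv4 F396506) (iv0 F442906) (iv5 F418324)
theorem F515776 : act 1 n222533 = n222727 := d15_0 (iv0 D222727) (iv7 F439226) (iv2 F514759)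
theorem F515777 : act 2 n205902 = n222727 := d1_3 F515775 F438206 (iv4 F438347)
theorem F515778 : act 6 n205894 = n222727 := d10_0 F515775 F438208 D205894
def n222728 : Q := act 1 n200897
theorem D222728 : act 1 n200897 = n222728 := rfl
theorem F515779 : act 1 n222728 = n222533 := d15_1 D222728 F514762 F442937
theorem F515780 : act 7 n222728 = n205902 := d15_2 (iv0 D222727) D222728 F515777
theorem F515781 : act 5 n222728 = n212447 := d17_7 F489581 F489577 F449916 F389641 F413434 (iv5 F418324) D222728 F502252 F502248
theorem F515782 : act 4 n222728 = n205870 := d17_9 (iv1 F449860) (iv5 D208552) (iv1 F216736) D205955 (iv4 F442196) F442198 (iv0 F442906) (iv5 F418324) D222728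
theorem F515783 : act 3 n210280 = n222728 := d20_3 (iv4 F465569) (iv1 F384075) (iv4 F456845) (iv1 D222728) (iv3 D200897) (iv4 D113611) F82811 D68845 D146851 D212375
theorem F515784 : act 6 n222728 = n207924 := d7_2 (iv6 F456846) F515783 (iv3 F447016)
def n222729 : Q := act 6 n200902
theorem D222729 : act 6 n200902 = n222729 := rfl
theorem F515785 : act 2 n222729 = n212379 := d3_1 D222729 (iv6 D212379) (iv2 F418343)
theorem F515786 : act 3 n222729 = n222330 := d7_1 D222729 (iv6 D222330) (iv3 F418344)
theorem F515787 : act 4 n222729 = n202914 := d10_1 D222729 (iv6 D202914) (iv4 F418346)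
def n222730 : Q := act 5 n200903
theorem D222730 : act 5 n200903 = n222730 := rfl
theorem F515788 : act 2 n222730 = n212380 := d2_1 D222730 (iv5 D212380) (iv2 F418347)
theorem F515789 : act 3 n222730 = n212661 := d6_1 D222730 (iv5 F475451) F475454
def n222731 : Q := act 4 n200904
theorem D222731 : act 4 n200904 = n222731 := rfl
theorem F515790 : act 2 n222731 = n212355 := d1_1 D222731 F465454 F418350
theorem F515791 : act 3 n222731 = n205899 := d5_1 D222731 F438341 (iv3 F447110) F447111 (iv3 F418351)
theorem F515792 : act 6 n222731 = n205797 := d10_2 (iv6 F418349) D222731 F437894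
theorem F515793 : act 7 n222731 = n212356 := d11_2 (iv7 F418352) D222731 (iv4 F465458)
theorem F515794 : act 5 n222731 = n212668 := d17_5 (iv1 F217985) (iv5 F432782) (iv1 F451784) (iv5 F451788) D222731 F466972 (iv5 F437825) F437828 F437666
theorem F515795 : act 0 n222731 = n209064 := d17_0 (iv5 F452066) F507876 F507873 F437809 D208871 (iv0 F451190) F428444 F418353 D222731
theorem F515796 : act 1 n222731 = n200911 := d18_6 F452331 F451908 F459897 F459894 (iv5 F451788) D222731 F418374 F419027 (iv5 F452325)
def n222732 : Q := act 1 n200909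
theorem D222732 : act 1 n200909 = n222732 := rfl
theorem F515797 : act 1 n222732 = n212334 := d15_1 D222732 F465363 F464990
theorem F515798 : act 7 n222732 = n212333 := d15_2 (iv0 F508020) D222732 (iv2 F465371)
theorem F515799 : act 3 n221239 = n222732 := d20_3 F515627 F436326 D221239 (iv1 D222732) (iv3 D200909) F176798 (iv1 F177137) (iv4 F230235) D212371 F515630
theorem F515800 : act 2 n212332 = n222732 := d4_3 F515798 (iv2 F465371) (iv7 F465373)
def n222733 : Q := act 5 n200909
theorem D222733 : act 5 n200909 = n222733 := rfl
theorem F515801 : act 2 n222733 = n212346 := d2_1 D222733 F465418 F464990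
theorem F515802 : act 3 n222733 = n200910 := d6_1 D222733 (iv5 D200910) D200909
theorem F515803 : act 6 n222733 = n200910 := d12_2 (iv6 F464989) D222733 (iv5 D200910) D200911 (iv5 F464988)
theorem F515804 : act 7 n222733 = n212335 := d13_2 (iv7 F418366) D222733 (iv5 D212335)
theorem F515805 : act 4 n222733 = n202899 := d16_4 (iv4 F230159) F335969 (iv4 F418365) D222733 (iv5 F426107) F387513 (iv5 F362730) F362731 F183413
def n222734 : Q := act 5 n200916
theorem D222734 : act 5 n200916 = n222734 := rfl
theorem F515806 : act 2 n222734 = n212608 := d2_1 D222734 (iv5 F494106) F494104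
theorem F515807 : act 3 n222734 = n200917 := d6_1 D222734 (iv5 D200917) D200916
theorem F515808 : act 6 n222734 = n212593 := d12_2 F451644 D222734 (iv5 F494085) (iv6 D218478) (iv5 F451643)
theorem F515809 : act 7 n222734 = n209084 := d13_2 (iv7 F418388) D222734 (iv5 D209084)
theorem F515810 : act 0 n222734 = n212908 := d17_2 (iv1 F449336) D222734 F468062 F371404 (iv5 F368871) D217237 (iv5 F488053) F384048 D208431
theorem F515811 : act 4 n222734 = n201709 := d17_4 (iv1 F468098) F468096 (iv1 F449336) D222734 F421497 F363932 (iv5 F189731) F237337 (iv4 F426359)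
theorem F515812 : act 1 n222734 = n212906 := d17_8 (iv1 F465243) (iv5 F468004) F468006 F440085 (iv4 F427794) F427795 (iv0 F437224) D222734 (iv4 D212906)
def n222735 : Q := act 4 n200917
theorem D222735 : act 4 n200917 = n222735 := rfl
theorem F515813 : act 3 n222735 = n203643 := d5_1 D222735 (iv4 F466800) (iv3 F466803) (iv4 F515811) F515807
theorem F515814 : act 5 n222735 = n203642 := d9_2 D200917 D222735 F429206 F207925 (iv4 F207838) (iv5 F345882) F203346 D130944 D207362 F444520 (iv4 D206998) (iv5 D129707) (iv4 F207832) F362146 (iv4 F366029)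
theorem F515815 : act 7 n222735 = n207007 := d11_2 (iv7 F418389) D222735 F442947
def n222736 : Q := act 4 n200925
theorem D222736 : act 4 n200925 = n222736 := rfl
theorem F515816 : act 2 n222736 = n221980 := d1_1 D222736 F511744 F420106
theorem F515817 : act 3 n222736 = n220850 := d5_1 D222736 F505877 (iv3 F505872) F505873 F451776
theorem F515818 : act 6 n222736 = n206232 := d10_2 (iv6 F420107) D222736 (iv4 D206232)
theorem F515819 : act 7 n222736 = n214185 := d11_2 F475233 D222736 (iv4 F475231)
theorem F515820 : act 0 n222736 = n201099 := d18_2 (iv1 F418413) D222736 (iv4 D201099) (iv5 D113904) (iv4 F391697) (iv0 D113541) F82760 D52461 D113635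
theorem F515821 : act 1 n222736 = n201101 := d18_6 (iv1 F418310) (iv4 F441042) F441784 F441781 (iv5 F439367) D222736 (iv4 D201101) F419080 F419079
def n222737 : Q := act 6 n200928
theorem D222737 : act 6 n200928 = n222737 := rfl
theorem F515822 : act 3 n222737 = n207055 := d7_1 D222737 (iv6 F443144) F419181
theorem F515823 : act 4 n222737 = n200930 := d10_1 D222737 (iv6 D200930) D200928
theorem F515824 : act 0 n222737 = n207040 := d21_4 (iv5 F475363) (iv1 F421808) F421218 D222737 F443078 (iv5 F475377) F475376 F446029 D217704 F490217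
theorem F515825 : act 1 n222737 = n221681 := d15_1 (iv0 F515824) (iv7 F513262) F513260
def n222738 : Q := act 3 n200932
theorem D222738 : act 3 n200932 = n222738 := rfl
theorem F515826 : act 4 n222738 = n207892 := d5_2 D200932 D222738 (iv3 F475433) F475435 F418414
theorem F515827 : act 6 n222738 = n208642 := d7_2 (iv6 F418425) D222738 (iv3 D208642)
theorem F515828 : act 5 n222176 = n222738 := d12_5 F515827 (iv5 F473375) F484543 (iv5 F495860) F512736
def n222739 : Q := act 5 n200932
theorem D222739 : act 5 n200932 = n222739 := rfl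
theorem F515829 : act 2 n222739 = n220461 := d2_1 D222739 F506584 F506580
theorem F515830 : act 3 n222739 = n222176 := d6_1 D222739 F515828 (iv3 D222738)
theorem F515831 : act 6 n222739 = n211412 := d12_2 (iv6 F418425) D222739 F461459 F390756 F351306
theorem F515832 : act 0 n222739 = n211394 := d17_2 F473433 D222739 (iv5 D211394) F362690 (iv5 D105343) D105342 D195163 F451886 (iv4 F473430)
theorem F515833 : act 1 n222739 = n211416 := d17_6 (iv1 F395875) F395873 (iv1 F161467) D113635 D200932 D222739 F461470 F419105 (iv4 D200936)
def n222740 : Q := act 5 n200936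
theorem D222740 : act 5 n200936 = n222740 := rfl
theorem F515834 : act 3 n222740 = n209511 := d6_1 D222740 (iv5 D209511) (iv3 F418434)
theorem F515835 : act 6 n222740 = n211345 := d12_2 (iv6 F418435) D222740 (iv5 D211345) (iv6 D141858) (iv5 F331551)
theorem F515836 : act 7 n222740 = n221442 := d13_2 (iv7 F418436) D222740 F509035
theorem F515837 : act 0 n222740 = n211421 := d17_2 F418437 D222740 (iv5 F511232) F511231 (iv5 F501408) (iv0 F501407) F396419 (iv0 F248587) (iv4 F362690)
theorem F515838 : act 1 n222740 = n211395 := d17_6 (iv1 F475235) F475232 (iv1 F418649) F397800 D200936 D222740 F461395 (iv0 F506566) (iv4 D220970)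
def n222741 : Q := act 3 n200937
theorem D222741 : act 3 n200937 = n222741 := rfl
theorem F515839 : act 4 n222741 = n207893 := d5_2 D200937 D222741 (iv3 F446909) F421801 F398566
theorem F515840 : act 6 n222741 = n205498 := d7_2 (iv6 F418439) D222741 (iv3 D205498)
theorem F515841 : act 0 n222741 = n217569 := d19_4 (iv1 D201016) F176999 D200937 D222741 (iv5 F497892) (iv4 D219239) (iv3 F419582) F419586 (iv5 D190360) F346176 (iv3 F346173) (iv1 F321738) (iv5 D78921) D78920 (iv3 F355084) (iv1 F256818) (iv5 F281338) F374597 F418752
theorem F515842 : act 0 n211366 = n222741 := d20_4 F425301 (iv1 F393086) F393091 D211366 (iv3 D222741) (iv4 D200937) (iv1 D113638) D113639 F391166 F425303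
theorem F515843 : act 5 n222741 = n222175 := d17_3 (iv1 F497895) F497894 F515842 (iv4 D222175) (iv5 D198554) F348959 D190930 F408345 (iv4 F482989)
def n222742 : Q := act 5 n200937
theorem D222742 : act 5 n200937 = n222742 := rfl
theorem F515844 : act 2 n222742 = n221442 := d2_1 D222742 F509035 (iv2 F418438)
theorem F515845 : act 3 n222742 = n222175 := d6_1 D222742 (iv5 F515843) (iv3 D222741)
theorem F515846 : act 6 n222742 = n211881 := d12_2 (iv6 F418439) D222742 (iv5 D211881) (iv6 D144299) (iv5 F202863)
theorem F515847 : act 0 n222742 = n211395 := d17_2 (iv1 F419104) D222742 F461395 F459356 F419079 (iv0 F418309) F396055 F396052 (iv4 F419103)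
theorem F515848 : act 1 n222742 = n211421 := d17_6 (iv1 F420105) F420103 (iv1 D201016) F176999 D200937 D222742 (iv5 F511232) F511236 (iv4 D220973)
def n222743 : Q := act 0 n200939
theorem D222743 : act 0 n200939 = n222743 := rfl
theorem F515849 : act 5 n222743 = n201099 := d17_3 F402328 D200939 D222743 (iv4 D201099) (iv5 D113904) (iv0 D52586) D52588 D113912 (iv4 F402327)
theorem F515850 : act 3 n222743 = n217157 := d20_5 F488611 D217372 (iv4 F491966) F491965 D222743 F487699 (iv1 F487345) (iv4 F491135) (iv3 F491947) F491950
theorem F515851 : act 6 n221479 = n222743 := d7_0 F515850 (iv6 F487700) (iv3 F509223)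
theorem F515852 : act 7 n220297 = n222743 := d8_0 F515850 (iv7 F495712) (iv3 F503081)
def n222744 : Q := act 1 n200939
theorem D222744 : act 1 n200939 = n222744 := rfl
theorem F515853 : act 5 n222744 = n201101 := d17_7 (iv1 F418410) (iv5 D113635) (iv1 D52461) D52462 D113639 D200939 D222744 (iv0 F513427) F513424
theorem F515854 : act 6 n218878 = n222744 := d21_9 (iv5 D200939) D200938 (iv5 F503113) (iv6 D220305) (iv1 D193319) (iv6 F389450) (iv5 D193317) (iv1 F389443) (iv5 F496002) (iv1 D222744)
theorem F515855 : act 2 n222744 = n220297 := d3_1 F515854 (iv6 D220297) F496003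
theorem F515856 : act 3 n222744 = n220025 := d7_1 F515854 F501715 F496004
def n222745 : Q := act 4 n200939
theorem D222745 : act 4 n200939 = n222745 := rfl
def n222746 : Q := act 7 n200939
theorem D222746 : act 7 n200939 = n222746 := rfl
theorem F515857 : act 3 n222746 = n220289 := d8_1 D222746 F503047 F491965
theorem F515858 : act 5 n222746 = n200940 := d13_1 D222746 (iv7 D200940) D200939
theorem F515859 : act 1 n220297 = n222746 := d15_1 (iv0 F506597) (iv7 D222746) (iv2 F506595)
def n222747 : Q := act 3 n200947
theorem D222747 : act 3 n200947 = n222747 := rfl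
theorem F515860 : act 2 n222747 = n222405 := d0_1 D222747 F514029 F446554 (iv3 F446553) (iv2 F418458)
theorem F515861 : act 4 n222747 = n209087 := d5_2 D200947 D222747 F452188 (iv4 F401530) F401532
theorem F515862 : act 5 n222747 = n222287 := d6_2 F421724 D222747 (iv3 F513368)
theorem F515863 : act 7 n222747 = n222406 := d8_2 (iv7 F418459) D222747 F514034
theorem F515864 : act 0 n222747 = n212652 := d19_4 D52474 D113654 D200947 D222747 F466894 (iv4 D199492) F172815 F81073 (iv5 D51345) F39164 (iv3 D13357) (iv1 F22195) F22192 F9856 F9855 F9915 D5741 D12106 D25467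
def n222748 : Q := act 6 n200947
theorem D222748 : act 6 n200947 = n222748 := rfl
theorem F515865 : act 2 n222748 = n222705 := d3_1 D222748 (iv6 D222705) (iv2 F418458)
theorem F515866 : act 4 n222748 = n200948 := d10_1 D222748 (iv6 D200948) D200947
theorem F515867 : act 0 n222748 = n219094 := d21_4 F515618 F421725 F421724 D222748 (iv6 F515517) F515516 F509045 F515640 (iv6 D222699) (iv1 F515615)
theorem F515868 : act 0 n219095 = n222748 := d18_0 F515866 F441771 (iv4 F446460) F446461 F409751 F362425 (iv4 F251336) D214487 (iv5 F497150)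
def n222749 : Q := act 5 n200950
theorem D222749 : act 5 n200950 = n222749 := rfl
theorem F515869 : act 2 n222749 = n209073 := d2_1 D222749 F452123 (iv2 F418464)
theorem F515870 : act 3 n222749 = n214915 := d6_1 D222749 F477413 F437120
theorem F515871 : act 6 n222749 = n200952 := d12_2 D200950 D222749 (iv5 D200952) (iv6 D113658) D113657
theorem F515872 : act 4 n222749 = n210014 := d16_4 (iv4 F250869) (iv5 F442485) (iv4 F442486) D222749 F455753 F443550 F209181 (iv7 D115057) (iv2 F114202)
theorem F515873 : act 7 n222749 = n214913 := d16_8 (iv4 F417660) F417661 F210025 (iv5 F114203) (iv4 F250869) (iv5 F442485) (iv4 F442486) D222749 (iv2 D214913)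
theorem F515874 : act 0 n222749 = n206522 := d17_2 F441806 D222749 F441186 (iv4 F347621) (iv5 F396533) (iv0 F396534) (iv5 F421969) F421972 (iv4 F441804)
theorem F515875 : act 1 n222749 = n207105 := d17_8 F506128 F506125 F444645 (iv5 F485842) F485841 (iv5 D206517) (iv0 F437122) D222749 F443348
def n222750 : Q := act 7 n200950
theorem D222750 : act 7 n200950 = n222750 := rfl
theorem F515876 : act 2 n222750 = n206498 := d4_1 D222750 F441096 (iv2 F418464)
theorem F515877 : act 3 n222750 = n206505 := d8_1 D222750 (iv7 F441123) F437120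
theorem F515878 : act 4 n222750 = n207686 := d11_1 D222750 F446007 (iv4 F442486)
theorem F515879 : act 5 n222750 = n214913 := d13_1 D222750 (iv7 F515873) (iv5 D222749)
theorem F515880 : act 6 n222750 = n216301 := d14_1 D222750 F483719 (iv6 D200786) (iv7 F357991) D200950
theorem F515881 : act 1 n206416 = n222750 := d15_1 (iv0 F440683) (iv7 D222750) F418464
theorem F515882 : act 1 n222750 = n206516 := d15_1 F515881 (iv7 F441808) F441802
def n222751 : Q := act 4 n200958
theorem D222751 : act 4 n200958 = n222751 := rfl
theorem F515883 : act 5 n222751 = n217308 := d9_2 F480894 D222751 (iv4 D217308) (iv5 D187148) (iv4 F350464) (iv5 F160340) D194843 F394715 (iv4 F442829) (iv5 D206980) F371078 (iv5 F373834) F373833 (iv5 F360315) D215638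
theorem F515884 : act 6 n222751 = n221351 := d10_2 (iv6 F418502) D222751 (iv4 D221351)
def n222752 : Q := act 1 n200977
theorem D222752 : act 1 n200977 = n222752 := rfl
theorem F515885 : act 7 n222752 = n206964 := d15_2 (iv0 F442357) D222752 F442763
theorem F515886 : act 5 n222752 = n220173 := d17_7 F405993 (iv5 D196305) (iv1 F216754) F405337 (iv4 F466718) F466719 D222752 (iv0 F511617) (iv4 D221959)
theorem F515887 : act 4 n222752 = n217040 := d18_7 (iv1 F484834) (iv4 F506991) F506992 (iv4 F424308) (iv5 F450554) (iv4 F450556) D222752 (iv0 F487101) (iv5 F484832)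
theorem F515888 : act 3 n222680 = n222752 := d19_19 (iv1 D222752) (iv5 F466719) F466718 F405335 (iv1 F360242) F424207 F424204 F400902 F223193 (iv5 F423286) F423285 F414163 (iv1 F401519) F401517 F395695 (iv3 F397880) F416661 (iv5 F418498) (iv4 F515522)
theorem F515889 : act 6 n222752 = n217039 := d7_2 D222680 F515888 F487096
theorem F515890 : act 0 n210203 = n222752 := d20_4 F448923 (iv1 D137885) D137886 D210203 (iv3 F515888) F515522 F418500 F417906 (iv3 F454754) F454758
theorem F515891 : act 2 n212386 = n222752 := d15_3 (iv0 F515890) (iv0 F456553) (iv7 F501064)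
def n222753 : Q := act 2 n200977
theorem D222753 : act 2 n200977 = n222753 := rfl
theorem F515892 : act 3 n222753 = n209724 := d0_2 D200977 D222753 (iv2 F454765) (iv3 D146860) (iv2 F176915)
theorem F515893 : act 4 n222753 = n208250 := d1_2 (iv4 F450556) D222753 (iv2 F450557)
theorem F515894 : act 5 n222753 = n221401 := d2_2 F466719 D222753 F508827
theorem F515895 : act 7 n222753 = n210203 := d4_2 (iv7 F418596) D222753 F456550
theorem F515896 : act 1 n222753 = n212386 := d15_0 (iv0 D212386) (iv7 F418596) D222753
theorem F515897 : act 1 n206964 = n222753 := d15_0 F515896 F501064 (iv2 F442763)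
theorem F515898 : act 6 n219485 = n222753 := d21_5 F442540 (iv1 F444128) F444124 D216388 F499123 F515894 F508831 (iv5 D219535) (iv6 D191659) D191655
def n222754 : Q := act 6 n200977
theorem D222754 : act 6 n200977 = n222754 := rfl
theorem F515899 : act 2 n222754 = n219485 := d3_1 D222754 F515898 (iv2 D222753)
theorem F515900 : act 3 n222754 = n200978 := d7_1 D222754 (iv6 D200978) D200977
theorem F515901 : act 4 n222754 = n219580 := d10_1 D222754 F499547 (iv4 F450556)
theorem F515902 : act 5 n222754 = n219531 := d12_1 D222754 F499298 (iv5 F443020) (iv6 F466720) F466719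
theorem F515903 : act 0 n217044 = n222754 := d17_2 (iv1 F514343) F514341 F515902 F499297 (iv5 F448760) (iv0 D192740) F154646 D191588 F443265
def n222755 : Q := act 6 n200992
theorem D222755 : act 6 n200992 = n222755 := rfl
theorem F515904 : act 4 n222755 = n200993 := d10_1 D222755 (iv6 D200993) D200992
theorem F515905 : act 5 n222755 = n222705 := d12_1 D222755 (iv6 D222705) (iv5 F474976) F474977 F421670
theorem F515906 : act 0 n222755 = n221681 := d21_10 (iv5 F515538) F515540 (iv5 D214488) (iv6 D159572) (iv1 F114446) (iv6 F322891) (iv5 F421893) F421894 F421670 D222755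
theorem F515907 : act 0 n207040 = n222755 := d21_4 (iv5 F446025) F475378 F475377 (iv6 F443078) (iv6 D222755) (iv5 F421670) (iv1 F421913) F421910 (iv6 F466948) (iv1 F466949)
def n222756 : Q := act 6 n200994
theorem D222756 : act 6 n200994 = n222756 := rfl
theorem F515908 : act 2 n222756 = n222406 := d3_1 D222756 F514036 (iv2 F418820)
theorem F515909 : act 3 n222756 = n207685 := d7_1 D222756 (iv6 D207685) F418663
theorem F515910 : act 4 n222756 = n200995 := d10_1 D222756 (iv6 D200995) D200994
theorem F515911 : act 5 n222756 = n222286 := d12_1 D222756 (iv6 F513362) F421715 D218164 (iv5 F492469)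
theorem F515912 : act 0 n212652 = n222756 := d21_4 (iv5 F508524) (iv1 F508528) F399508 D212652 (iv6 D222756) F492469 F492468 F446091 F365772 (iv1 F437171)
theorem F515913 : act 7 n222405 = n222756 := d13_0 F515911 F513364 D222405
def n222757 : Q := act 6 n200996
theorem D222757 : act 6 n200996 = n222757 := rfl
theorem F515914 : act 2 n222757 = n222668 := d3_1 D222757 F515466 F442488
theorem F515915 : act 3 n222757 = n200997 := d7_1 D222757 (iv6 D200997) D200996
theorem F515916 : act 4 n222757 = n207685 := d10_1 D222757 (iv6 D207685) (iv4 F418665)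
theorem F515917 : act 5 n222757 = n205564 := d12_1 D222757 F508423 (iv5 F508421) F468338 (iv5 F418666)
theorem F515918 : act 7 n222757 = n222669 := d14_2 (iv7 F418667) D222757 (iv6 F515473) F487170 (iv6 F417739)
theorem F515919 : act 0 n222757 = n220620 := d21_4 (iv5 D196052) (iv1 F398952) (iv5 F418666) D222757 (iv6 F504669) F396133 (iv1 F161574) D113955 F396112 F399238
theorem F515920 : act 0 n205246 = n222757 := d21_4 (iv5 D113556) (iv1 F93085) D125707 (iv6 F435590) (iv6 D222757) F418666 (iv1 F398953) (iv5 F399335) (iv6 F418153) (iv1 D200851)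
def n222758 : Q := act 4 n200999
theorem D222758 : act 4 n200999 = n222758 := rfl
theorem F515921 : act 3 n222758 = n206847 := d5_1 D222758 (iv4 F477596) F477594 (iv4 F506570) F506569
theorem F515922 : act 7 n222758 = n206926 := d11_2 (iv7 F421918) D222758 F442629
theorem F515923 : act 5 n222758 = n207058 := d16_1 D222758 F443147 (iv5 D205322) (iv4 F435929) (iv5 F508513) F508512 F506624 (iv7 F506621) F506616
theorem F515924 : act 0 n222758 = n201153 := d17_0 F446005 F446003 F442626 F251172 (iv5 D106279) D106278 D195803 (iv0 F418678) D222758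
theorem F515925 : act 1 n222758 = n201151 := d18_6 (iv1 F418809) (iv4 F435353) F435354 F418673 D200999 D222758 (iv4 D201151) D201150 F419278
def n222759 : Q := act 3 n201001
theorem D222759 : act 3 n201001 = n222759 := rfl
theorem F515926 : act 2 n222759 = n207686 := d0_1 D222759 (iv3 D207686) (iv2 F418670) F418814 (iv2 F418813)
theorem F515927 : act 4 n222759 = n206498 := d5_2 D201001 D222759 (iv3 D206498) (iv4 F397965) F397967
theorem F515928 : act 5 n222759 = n201775 := d6_2 (iv5 F421221) D222759 F421760
theorem F515929 : act 7 n222759 = n201774 := d8_2 F418818 D222759 F421757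
theorem F515930 : act 0 n222759 = n207642 := d19_4 D195797 F398222 D201001 D222759 (iv5 F493073) F493072 F420013 D201325 F420023 (iv4 F399906) (iv3 D196211) F177833 (iv5 F322879) (iv4 F93705) (iv3 D59386) (iv1 F45631) (iv5 F93641) (iv4 F93659) (iv3 F332599)
theorem F515931 : act 0 n221378 = n222759 := d20_4 (iv4 F444142) F444144 (iv4 F446651) (iv3 F508706) (iv3 D222759) (iv4 D201001) F325759 (iv4 F211786) F211785 (iv1 F211820)
def n222760 : Q := act 6 n201001
theorem D222760 : act 6 n201001 = n222760 := rfl
theorem F515932 : act 4 n222760 = n201002 := d10_1 D222760 (iv6 D201002) D201001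
theorem F515933 : act 5 n222760 = n207055 := d12_1 D222760 (iv6 F443144) F419183 D201642 (iv5 F421221)
theorem F515934 : act 0 n207059 = n222760 := d17_0 F515933 (iv1 F453351) F453357 F251354 F114463 D131127 F364693 (iv0 F448036) F448038
def n222761 : Q := act 1 n201009
theorem D222761 : act 1 n201009 = n222761 := rfl
theorem F515935 : act 7 n222761 = n212253 := d15_2 (iv0 F507876) D222761 (iv2 F507872)
theorem F515936 : act 5 n222761 = n205771 := d17_7 D135593 (iv5 F420748) (iv1 F420750) F420740 (iv4 F452064) (iv5 F452066) D222761 (iv0 D205771) F203622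
theorem F515937 : act 3 n207853 = n222761 := d19_19 (iv1 D222761) F452066 F452064 F335972 (iv1 F229753) (iv5 F335952) (iv4 F335954) F161813 D188826 (iv5 F375017) (iv4 F460254) (iv3 D211133) F223859 (iv5 F343214) (iv4 F224191) (iv3 F460458) F460461 (iv5 F487269) F487268
theorem F515938 : act 4 n207738 = n222761 := d20_6 (iv4 D113611) F82811 D68845 D146851 D212375 (iv3 F465572) (iv1 D222761) F418717 (iv3 D146769) (iv1 F176785)
theorem F515939 : act 6 n222761 = n207737 := d10_2 D207738 F515938 (iv4 D207737)
theorem F515940 : act 1 n222761 = n212254 := d18_6 F447296 (iv4 F499553) (iv1 F501759) (iv4 F501761) (iv5 F446198) F515938 (iv4 F464992) F465359 F465357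
theorem F515941 : act 2 n212252 = n222761 := d16_9 (iv4 F515938) F446198 F501761 (iv5 D220033) (iv4 F451192) (iv5 D208871) (iv4 F437809) (iv5 F507873) F507874
def n222762 : Q := act 2 n201009
theorem D222762 : act 2 n201009 = n222762 := rfl
theorem F515942 : act 3 n222762 = n209145 := d0_2 D201009 D222762 F452448 F452063 F229764
theorem F515943 : act 4 n222762 = n212334 := d1_2 (iv4 F418717) D222762 (iv2 D212334)
theorem F515944 : act 5 n222762 = n209145 := d2_2 (iv5 F452066) D222762 F452448
theorem F515945 : act 6 n222762 = n209144 := d3_2 F496239 D222762 (iv2 F496237)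
theorem F515946 : act 7 n222762 = n212254 := d4_2 (iv7 F418718) D222762 (iv2 D212254)
theorem F515947 : act 1 n222762 = n212252 := d15_0 (iv0 D212252) (iv7 F418718) D222762
theorem F515948 : act 1 n212253 = n222762 := d15_0 F515947 (iv7 F507874) F507872
def n222763 : Q := act 5 n201017
theorem D222763 : act 5 n201017 = n222763 := rfl
theorem F515949 : act 2 n222763 = n221323 := d2_1 D222763 F508378 F489771
theorem F515950 : act 6 n222763 = n206607 := d12_2 F485083 D222763 (iv5 D206607) (iv6 F417132) D216586
theorem F515951 : act 0 n222763 = n221008 := d17_2 F418754 D222763 F506772 F399968 F290245 F364365 (iv5 F143157) (iv0 F335786) F209517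
theorem F515952 : act 1 n222763 = n221336 := d17_6 F391667 (iv5 F489257) F489258 (iv5 D201018) D201017 D222763 (iv5 D221336) (iv0 F440945) F440943
def n222764 : Q := act 4 n201028
theorem D222764 : act 4 n201028 = n222764 := rfl
theorem F515953 : act 3 n222764 = n207663 := d5_1 D222764 F445899 (iv3 F423530) F423531 (iv3 F418803)
theorem F515954 : act 7 n222764 = n207660 := d11_2 F419276 D222764 F445892
theorem F515955 : act 5 n222764 = n221238 := d16_1 D222764 (iv4 D221238) F435872 F435871 F418124 (iv4 F504607) F504608 F474964 (iv2 F419274)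
theorem F515956 : act 0 n222764 = n221261 := d18_2 (iv1 F418804) D222764 (iv4 D221261) (iv5 D195803) F360472 F161221 F161218 F161584 D195187
theorem F515957 : act 1 n222764 = n221259 := d18_6 (iv1 F506626) F418640 (iv1 D131890) (iv4 F324336) D201028 D222764 (iv4 D221259) (iv0 F475153) (iv5 F506624)
def n222765 : Q := act 6 n201031
theorem D222765 : act 6 n201031 = n222765 := rfl
theorem F515958 : act 2 n222765 = n222760 := d3_1 D222765 (iv6 D222760) F418813
theorem F515959 : act 3 n222765 = n206877 := d7_1 D222765 (iv6 D206877) F418814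
theorem F515960 : act 4 n222765 = n207354 := d10_1 D222765 (iv6 D207354) (iv4 F418812)
theorem F515961 : act 5 n222765 = n209352 := d12_1 D222765 F453365 (iv5 D201727) D201728 (iv5 F421583)
theorem F515962 : act 7 n222765 = n209351 := d14_2 F418815 D222765 (iv6 F514030) F515913 (iv6 D222756)
theorem F515963 : act 0 n222765 = n206738 := d21_10 (iv5 D206738) D206735 (iv5 F467012) F467010 (iv1 F447073) (iv6 F446858) (iv5 F490871) F490873 (iv5 F421583) D222765
def n222766 : Q := act 6 n201036
theorem D222766 : act 6 n201036 = n222766 := rfl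
theorem F515964 : act 2 n222766 = n207825 := d3_1 D222766 F446605 (iv2 F423589)
theorem F515965 : act 3 n222766 = n205636 := d7_1 D222766 (iv6 F437663) F437660
theorem F515966 : act 4 n222766 = n219482 := d10_1 D222766 (iv6 F501058) F501057
theorem F515967 : act 5 n222766 = n207820 := d12_1 D222766 (iv6 D207820) (iv5 D132404) D132405 F423587
theorem F515968 : act 7 n222766 = n205629 := d14_2 F437644 D222766 (iv6 D205629) (iv7 F203553) D205738
theorem F515969 : act 0 n206729 = n222766 := d21_4 (iv5 D205635) F437240 (iv5 F443153) F443154 (iv6 D222766) (iv5 F423587) (iv1 F350881) (iv5 F251351) (iv6 F450763) F450761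
def n222767 : Q := act 0 n201038
theorem D222767 : act 0 n201038 = n222767 := rfl
theorem F515970 : act 5 n222767 = n218160 := d17_1 D222767 (iv1 F492445) (iv5 D209126) (iv4 F359051) (iv5 F231075) (iv0 D105185) (iv5 F93396) (iv0 F359803) (iv4 F418836)
theorem F515971 : act 4 n222767 = n201117 := d18_1 D222767 (iv1 F439290) F439287 (iv5 F420063) (iv4 F483233) (iv0 D216159) F467887 (iv0 F492858) F492856
theorem F515972 : act 3 n222767 = n202894 := d20_5 (iv4 F394465) F418842 F418840 (iv3 F418835) D222767 (iv4 F446627) (iv1 F452435) F452054 F488374 (iv1 D217309)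
theorem F515973 : act 6 n222767 = n209050 := d21_5 (iv5 D52545) F82953 D113772 D201038 D222767 (iv5 F494766) (iv1 F494768) (iv5 F418883) (iv6 D201048) (iv1 D113791)
theorem F515974 : act 2 n201079 = n222767 := d15_3 (iv0 D222767) (iv0 F449719) F449718
theorem F515975 : act 1 n205507 = n222767 := d15_0 (iv0 D222767) F418837 (iv2 F436755)
theorem F515976 : act 7 n222767 = n212358 := d15_2 (iv0 F449720) F515975 F465470
def n222768 : Q := act 5 n201040
theorem D222768 : act 5 n201040 = n222768 := rfl
theorem F515977 : act 2 n222768 = n201691 := d2_1 D222768 (iv5 D201691) F418845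
theorem F515978 : act 3 n222768 = n212961 := d6_1 D222768 F468328 F426303
theorem F515979 : act 4 n222768 = n216131 := d9_1 D222768 (iv5 D216131) (iv4 D181930) (iv5 D86895) (iv4 F133291) (iv5 F147039) F364804 (iv5 F376673) (iv4 F493720) F493719 F376529 (iv5 D97470) (iv4 F134462) D183480 (iv4 F418843)
theorem F515980 : act 6 n222768 = n201688 := d12_2 (iv6 F418844) D222768 (iv5 D201688) (iv6 D114980) D114979
theorem F515981 : act 7 n222768 = n218423 := d13_2 F463900 D222768 F493811
theorem F515982 : act 0 n222768 = n215311 := d17_2 D201040 D222768 (iv5 D215311) (iv4 D172228) (iv5 D82489) D82488 D172224 (iv0 F345497) F218982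
theorem F515983 : act 1 n222768 = n218462 := d17_6 D190717 F380770 (iv1 F295113) D183480 (iv4 F418843) D222768 F494009 (iv0 D189404) (iv4 F364702)
def n222769 : Q := act 3 n201065
theorem D222769 : act 3 n201065 = n222769 := rfl
theorem F515984 : act 2 n222769 = n210856 := d0_1 D222769 F459042 F387697 F451847 F451843
theorem F515985 : act 6 n222769 = n212868 := d7_2 (iv6 F418959) D222769 (iv3 D212868)
theorem F515986 : act 7 n222769 = n210855 := d8_2 F451831 D222769 (iv3 F459038)
theorem F515987 : act 0 n222769 = n202569 := d20_4 F454266 (iv1 D201064) D201065 D222769 (iv3 F446133) F453286 (iv1 D209334) F219390 (iv3 F219814) D209594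
theorem F515988 : act 0 n210858 = n222769 := d20_4 F469064 (iv1 D201460) D201461 (iv3 F459045) (iv3 D222769) (iv4 D201065) D201063 (iv4 F454272) (iv3 F493231) F493234
def n222770 : Q := act 6 n201068
theorem D222770 : act 6 n201068 = n222770 := rfl
theorem F515989 : act 3 n222770 = n206929 := d7_1 D222770 (iv6 D206929) (iv3 F418969)
theorem F515990 : act 4 n222770 = n212336 := d10_1 D222770 (iv6 D212336) (iv4 F418970)
theorem F515991 : act 5 n222770 = n207889 := d12_1 D222770 F450776 F450772 (iv6 D201069) D201068
theorem F515992 : act 7 n222770 = n206901 := d14_2 (iv7 F443049) D222770 (iv6 D206901) F209668 D207031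
def n222771 : Q := act 0 n201083
theorem D222771 : act 0 n201083 = n222771 := rfl
theorem F515993 : act 4 n222771 = n216563 := d18_1 D222771 (iv1 F484957) F431326 F418396 (iv4 F418386) (iv0 F418387) F203652 D135649 (iv5 F419031)
theorem F515994 : act 6 n222771 = n201483 := d21_5 F178699 F108561 (iv5 F177185) D201083 D222771 (iv5 D201483) (iv1 D114607) D114608 F178697 D114610
theorem F515995 : act 2 n201561 = n222771 := d15_3 (iv0 D222771) (iv0 F475076) F475074
theorem F515996 : act 1 n201563 = n222771 := d15_0 (iv0 D222771) (iv7 F451986) F451983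
theorem F515997 : act 7 n222771 = n201562 := d15_2 F475077 F515996 (iv2 F475072)
theorem F515998 : act 3 n201093 = n222771 := d19_19 (iv1 F515996) F420947 (iv4 F437222) (iv3 F437225) (iv1 F203368) (iv5 F207850) (iv4 F442816) F442815 (iv1 F364936) F285987 (iv4 F451413) F451412 (iv1 D167767) F206312 F356654 F356740 D192551 D219971 F501443
def n222772 : Q := act 5 n201085
theorem D222772 : act 5 n201085 = n222772 := rfl
theorem F515999 : act 2 n222772 = n209487 := d2_1 D222772 F458927 F458923
theorem F516000 : act 3 n222772 = n201086 := d6_1 D222772 (iv5 D201086) D201085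
theorem F516001 : act 6 n222772 = n219367 := d12_2 (iv6 F419036) D222772 (iv5 F498507) (iv6 F455690) (iv5 F411139)
theorem F516002 : act 7 n222772 = n201567 := d13_2 (iv7 F419037) D222772 (iv5 D201567)
theorem F516003 : act 0 n222772 = n209489 := d17_2 (iv1 F467412) D222772 F453902 (iv4 F442589) (iv5 D206913) D206912 F460695 (iv0 F460694) (iv4 F467413)
theorem F516004 : act 1 n222772 = n202126 := d17_6 (iv1 D209339) (iv5 F421852) (iv1 D159365) (iv5 F177500) (iv4 F419035) D222772 F422983 F388541 F453311
def n222773 : Q := act 3 n201099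
theorem D222773 : act 3 n201099 = n222773 := rfl
theorem F516005 : act 2 n222773 = n221962 := d0_1 D222773 F511628 F502490 F501718 F451888
theorem F516006 : act 4 n222773 = n212303 := d5_2 D201099 D222773 F465233 F419078 F419076
theorem F516007 : act 5 n222773 = n217157 := d6_2 F515849 D222773 (iv3 F515850)
theorem F516008 : act 6 n222773 = n208627 := d7_2 (iv6 F463399) D222773 F463398
theorem F516009 : act 7 n222773 = n217802 := d8_2 F506699 D222773 (iv3 F506697)
theorem F516010 : act 0 n222773 = n218807 := d19_4 D52586 D113904 D201099 D222773 (iv5 D218807) (iv4 D190107) (iv3 D95628) (iv1 D44659) (iv5 D21256) F15998 (iv3 F14597) (iv1 F63164) D41486 D88870 D186584 (iv1 F391671) (iv5 D193993) F349120 F83101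
theorem F516011 : act 0 n211066 = n222773 := d20_4 F405892 (iv1 F223486) D140624 D211066 (iv3 D222773) (iv4 D201099) D201097 (iv4 F459356) (iv3 D198316) (iv1 F405895)
def n222774 : Q := act 3 n201103
theorem D222774 : act 3 n201103 = n222774 := rfl
theorem F516012 : act 4 n222774 = n207818 := d5_2 (iv4 F419099) D222774 F475060 F475055 (iv3 F251166)
theorem F516013 : act 6 n222774 = n206210 := d7_2 (iv6 F419097) D222774 (iv3 D206210)
theorem F516014 : act 7 n222774 = n222741 := d8_2 (iv7 F419100) D222774 (iv3 D222741)
theorem F516015 : act 0 n218057 = n222774 := d20_4 F286024 D184083 F393081 D218057 (iv3 D222774) F419099 (iv1 F375321) (iv4 F418445) (iv3 F432256) F432259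
def n222775 : Q := act 5 n201103
theorem D222775 : act 5 n201103 = n222775 := rfl
theorem F516016 : act 2 n222775 = n222740 := d2_1 D222775 (iv5 D222740) F419098
theorem F516017 : act 7 n222775 = n222742 := d13_2 (iv7 F419100) D222775 (iv5 D222742)
theorem F516018 : act 1 n222775 = n221645 := d17_6 D200924 F418409 (iv1 F418323) F398476 (iv4 F419099) D222775 F510076 (iv0 F473432) F420130
def n222776 : Q := act 0 n201105
theorem D222776 : act 0 n201105 = n222776 := rfl
theorem F516019 : act 5 n222776 = n220970 := d17_3 F401135 D201105 D222776 (iv4 D220970) (iv5 D195119) (iv0 D105302) D105304 (iv0 F375319) (iv4 F401134)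
theorem F516020 : act 3 n222776 = n214949 := d20_5 (iv4 D197543) (iv1 F224865) D211328 (iv3 F461145) D222776 (iv4 F495603) (iv1 F495599) (iv4 F512750) F512749 (iv1 F433478)
theorem F516021 : act 6 n222776 = n214948 := d21_5 (iv5 D222742) F418440 D211394 F461394 D222776 (iv5 D214948) (iv1 F364145) D197960 (iv6 F461477) (iv1 F515848)
theorem F516022 : act 2 n221950 = n222776 := d15_3 (iv0 D222776) (iv0 F503885) (iv7 F511564)
theorem F516023 : act 1 n222086 = n222776 := d15_0 (iv0 D222776) (iv7 F461471) (iv2 F512281)
theorem F516024 : act 7 n222776 = n222739 := d15_2 (iv0 F512284) F516023 F515829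
def n222777 : Q := act 4 n201105
theorem D222777 : act 4 n201105 = n222777 := rfl
def n222778 : Q := act 3 n201109
theorem D222778 : act 3 n201109 = n222778 := rfl
theorem F516025 : act 2 n222778 = n208289 := d0_1 D222778 F448759 F355792 D138039 (iv2 F419120)
theorem F516026 : act 5 n222778 = n213120 := d6_2 (iv5 F419118) D222778 (iv3 F469091)
theorem F516027 : act 6 n222778 = n208287 := d7_2 F449679 D222778 (iv3 F449677)
theorem F516028 : act 7 n222778 = n210256 := d8_2 (iv7 F419117) D222778 F456757
theorem F516029 : act 0 n222778 = n208452 := d20_4 F406306 (iv1 F374713) F419119 D222778 (iv3 D208452) (iv4 F364569) (iv1 F434814) F434810 F388693 F406311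
theorem F516030 : act 0 n210255 = n222778 := d20_4 (iv4 F449303) F456918 (iv4 D210303) (iv3 F456922) (iv3 D222778) (iv4 F419119) (iv1 F371156) (iv4 F449291) (iv3 F511841) (iv1 F511847)
def n222779 : Q := act 4 n201120
theorem D222779 : act 4 n201120 = n222779 := rfl
theorem F516031 : act 2 n222779 = n207666 := d1_1 D222779 F445919 (iv2 F419164)
theorem F516032 : act 3 n222779 = n207667 := d5_1 D222779 F445925 F431310 D204365 F432234
theorem F516033 : act 6 n222779 = n206093 := d10_2 F419163 D222779 F439220
theorem F516034 : act 5 n222779 = n207666 := d16_1 D222779 F445919 F418521 (iv4 F216101) F216102 (iv4 F211257) (iv5 F419156) (iv7 F419160) (iv2 F419164)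
theorem F516035 : act 0 n222779 = n207622 := d17_0 F445722 F442934 (iv5 F437728) F437727 (iv5 F362878) F329383 D113945 D201120 D222779
theorem F516036 : act 1 n222779 = n207624 := d18_6 (iv1 F400126) (iv4 D196268) F176487 (iv4 F417230) (iv5 F419162) D222779 (iv4 D207624) F445716 F445714
def n222780 : Q := act 0 n201121
theorem D222780 : act 0 n201121 = n222780 := rfl
theorem F516037 : act 5 n222780 = n217610 := d17_1 D222780 F489784 F445757 (iv4 D207574) F362882 F211689 (iv5 F419156) (iv0 D201119) D201121
theorem F516038 : act 4 n222780 = n206663 := d18_1 D222780 (iv1 D206663) D206664 F441795 F437719 F207321 D196106 F441815 (iv5 F441816)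
theorem F516039 : act 2 n217610 = n222780 := d15_3 (iv0 D222780) (iv0 F490212) F490211
theorem F516040 : act 1 n206673 = n222780 := d15_0 (iv0 D222780) (iv7 F445758) F445756
theorem F516041 : act 7 n222780 = n222682 := d15_2 F490213 F516040 F515529
theorem F516042 : act 3 n217611 = n222780 := d19_19 (iv1 F516040) F441826 F441818 F419179 (iv1 D201125) (iv5 D113950) F177855 D106115 (iv1 F359187) F230241 (iv4 F348636) F348635 (iv1 F253866) (iv5 F352210) (iv4 F352207) (iv3 F352209) D194501 D220771 F505434
theorem F516043 : act 6 n222780 = n222679 := d7_2 F508451 F516042 F515520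
def n222781 : Q := act 5 n201123
theorem D222781 : act 5 n201123 = n222781 := rfl
theorem F516044 : act 3 n222781 = n221207 := d6_1 D222781 (iv5 D221207) (iv3 F419168)
theorem F516045 : act 4 n222781 = n221950 := d16_2 D201123 D222781 (iv5 D221950) F420130 (iv5 D113630) D113629 D200923 F418407 F417371
theorem F516046 : act 0 n222781 = n222718 := d17_2 F515721 D222781 (iv5 D222718) (iv4 D200837) (iv5 D113543) D113542 D200835 (iv0 F441174) (iv4 F515720)
theorem F516047 : act 0 n222745 = n222781 := d18_2 (iv1 D222744) D222745 F516045 (iv5 D221950) F420130 D200925 D222736 F515821 (iv5 F515853)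
def n222782 : Q := act 7 n201127
theorem D222782 : act 7 n201127 = n222782 := rfl
theorem F516048 : act 2 n222782 = n209348 := d4_1 D222782 (iv7 F506713) F506709
theorem F516049 : act 3 n222782 = n216407 := d8_1 D222782 F484233 (iv3 F419185)
theorem F516050 : act 4 n222782 = n207872 := d11_1 D222782 F446828 F443143
theorem F516051 : act 5 n222782 = n219035 := d13_1 D222782 F496810 F495049
theorem F516052 : act 6 n222782 = n207871 := d14_1 D222782 F446824 F396111 F396104 D201127
theorem F516053 : act 1 n216109 = n222782 := d15_1 F506715 (iv7 D222782) (iv2 F506709)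
theorem F516054 : act 1 n222782 = n219089 := d15_1 F516053 (iv7 F498646) F498643
def n222783 : Q := act 3 n201131
theorem D222783 : act 3 n201131 = n222783 := rfl
theorem F516055 : act 2 n222783 = n220951 := d0_1 D222783 (iv3 D220951) F395597 D200667 (iv2 F419199)
theorem F516056 : act 4 n222783 = n214463 := d5_2 D201131 D222783 F475282 F419197 (iv3 D201130)
theorem F516057 : act 5 n222783 = n201635 := d6_2 (iv5 F419200) D222783 (iv3 D201635)
theorem F516058 : act 6 n222783 = n221276 := d7_2 F508441 D222783 (iv3 F508440)
theorem F516059 : act 7 n222783 = n217607 := d8_2 F421531 D222783 F489767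
theorem F516060 : act 0 n214478 = n222783 := d17_2 D201786 F475363 F516057 (iv4 F421550) (iv5 F467974) F467977 (iv5 D201792) (iv0 D115060) (iv4 F179169)
def n222784 : Q := act 6 n201136
theorem D222784 : act 6 n201136 = n222784 := rfl
theorem F516061 : act 2 n222784 = n217614 := d3_1 D222784 F489792 (iv2 F421630)
theorem F516062 : act 3 n222784 = n206942 := d7_1 D222784 F446712 (iv3 F446705)
theorem F516063 : act 4 n222784 = n201703 := d10_1 D222784 (iv6 D201703) (iv4 F419220)
theorem F516064 : act 5 n222784 = n212664 := d12_1 D222784 F490033 F490030 (iv6 D201675) F419221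
theorem F516065 : act 7 n222784 = n217616 := d14_2 F421633 D222784 (iv6 F508466) F508467 F445460
theorem F516066 : act 0 n222784 = n222751 := d21_10 F515883 F488369 (iv5 F489802) (iv6 F507740) (iv1 D219514) D219516 F499247 F421158 F419221 D222784
theorem F516067 : act 0 n206980 = n222784 := d21_4 F515718 F515716 (iv5 D221223) F442830 (iv6 D222784) (iv5 F419221) (iv1 F420301) (iv5 F507879) (iv6 D221235) (iv1 F487284)
def n222785 : Q := act 1 n201137
theorem D222785 : act 1 n201137 = n222785 := rfl
def n222786 : Q := act 2 n201137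
theorem D222786 : act 2 n201137 = n222786 := rfl
theorem F516068 : act 3 n222786 = n208945 := d0_2 D201137 D222786 F451501 F450458 F396127
theorem F516069 : act 4 n222786 = n206834 := d1_2 F445817 D222786 (iv2 F445815)
theorem F516070 : act 5 n222786 = n209334 := d2_2 F421483 D222786 (iv2 F453285)
theorem F516071 : act 6 n222786 = n205659 := d3_2 F437798 D222786 (iv2 F437797)
theorem F516072 : act 1 n222786 = n212404 := d15_0 (iv0 F465678) F421626 D222786
theorem F516073 : act 0 n206834 = n207668 := d20_1 F516069 F445929 (iv3 D206687) (iv1 F212442) (iv3 F418911) F418912 F371468 F371466 D212404 (iv1 F516072)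
def n222787 : Q := act 4 n201149
theorem D222787 : act 4 n201149 = n222787 := rfl
theorem F516074 : act 2 n222787 = n222764 := d1_1 D222787 (iv4 D222764) F419274
theorem F516075 : act 6 n222787 = n207913 := d10_2 (iv6 F421175) D222787 F446973
theorem F516076 : act 0 n222787 = n221208 := d18_2 D201149 D222787 (iv4 D221208) (iv5 D195646) (iv4 F374585) F161216 (iv4 F161580) F161583 D114006
theorem F516077 : act 1 n222787 = n221016 := d18_6 (iv1 F418681) F418317 (iv1 F391985) (iv4 F395900) (iv5 F419272) D222787 F506818 (iv0 F421916) F421915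
theorem F516078 : act 3 n222787 = n207915 := d19_3 F418297 (iv5 F419272) D222787 F466866 F466741 F233469 (iv3 D69720) D69718 (iv5 F106101) (iv4 D69727) (iv3 F106100) (iv1 F139179) (iv5 D90427) (iv4 F65299) F40310 (iv1 F50247) D68614 D146317 (iv3 F418296)
def n222788 : Q := act 1 n201151
theorem D222788 : act 1 n201151 = n222788 := rfl
theorem F516079 : act 1 n222788 = n201153 := d15_1 D222788 (iv7 F506723) F506721
theorem F516080 : act 4 n222788 = n214431 := d17_9 F475153 (iv5 D195800) (iv1 F163319) (iv5 F251160) (iv4 F446557) (iv5 D207812) D207811 (iv5 F446555) D222788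
theorem F516081 : act 3 n206903 = n222788 := d19_19 (iv1 D222788) F446555 (iv4 F499152) F499151 (iv1 F436906) F360436 F360433 F356042 D125909 F411038 (iv4 F496718) F496719 F405759 (iv5 D189856) F318896 (iv3 D68826) (iv1 F105009) D146779 (iv4 F442558)
theorem F516082 : act 6 n201748 = n222788 := d21_9 F446555 (iv1 D207811) D207812 F446558 (iv1 F251157) D201728 (iv5 F421583) (iv1 F418816) F421663 (iv1 D222788)
theorem F516083 : act 2 n222788 = n206926 := d3_1 F516082 (iv6 F442630) F421909
theorem F516084 : act 5 n222788 = n212331 := d12_1 F516082 F486142 (iv5 D216837) F366211 F421663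
def n222789 : Q := act 6 n201151
theorem D222789 : act 6 n201151 = n222789 := rfl
theorem F516085 : act 2 n222789 = n209345 := d3_1 D222789 (iv6 F506722) F506721
theorem F516086 : act 3 n222789 = n201750 := d7_1 D222789 (iv6 F474977) F474974
theorem F516087 : act 4 n222789 = n201152 := d10_1 D222789 (iv6 D201152) D201151
theorem F516088 : act 7 n222789 = n201747 := d14_2 (iv7 F474971) D222789 (iv6 D201747) (iv7 F250845) D214397
theorem F516089 : act 0 n222789 = n218275 := d21_4 (iv5 F442626) (iv1 F446551) (iv5 F446555) D222789 (iv6 F493075) (iv5 F515618) (iv1 D222695) D222696 F515623 F419292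
theorem F516090 : act 5 n222789 = n206579 := d21_6 (iv5 F421583) (iv1 F418816) F421663 F516082 (iv1 D222788) D222789 (iv1 F441413) (iv5 F421754) (iv6 F490872) F490873
theorem F516091 : act 0 n218274 = n222789 := d21_4 D201727 (iv1 F445436) F445434 (iv6 F493071) (iv6 D222789) F446555 (iv1 D207811) D207812 F446558 (iv1 F251157)
def n222790 : Q := act 6 n201154
theorem D222790 : act 6 n201154 = n222790 := rfl
theorem F516092 : act 2 n222790 = n217822 := d3_1 D222790 F490799 F439417
theorem F516093 : act 3 n222790 = n201156 := d7_1 D222790 (iv6 D201156) D201154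
theorem F516094 : act 4 n222790 = n221186 := d10_1 D222790 (iv6 D221186) F419286
theorem F516095 : act 5 n222790 = n203359 := d12_1 D222790 (iv6 F501415) (iv5 D219965) F386955 (iv5 F419285)
theorem F516096 : act 7 n222790 = n221186 := d14_2 F439436 D222790 (iv6 D221186) F397418 F439440
theorem F516097 : act 0 n222790 = n212309 := d21_4 (iv5 D146440) D146437 (iv5 F419285) D222790 (iv6 F468246) (iv5 F468432) F468434 F465171 (iv6 F465170) (iv1 F375160)
theorem F516098 : act 0 n212312 = n222790 := d21_4 F238076 F403391 (iv5 F492930) (iv6 F492932) (iv6 D222790) F419285 (iv1 F229776) D146446 D212282 F465129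
def n222791 : Q := act 6 n201155
theorem D222791 : act 6 n201155 = n222791 := rfl
theorem F516099 : act 4 n222791 = n201156 := d10_1 D222791 (iv6 D201156) D201155
theorem F516100 : act 5 n222791 = n221438 := d12_1 D222791 F509029 F445529 F515632 F515631
theorem F516101 : act 0 n216154 = n222791 := d21_4 F343648 F219418 (iv5 F442572) (iv6 F483210) (iv6 D222791) (iv5 F515631) F515629 F507883 (iv6 F442630) F421912
def n222792 : Q := act 5 n201160
theorem D222792 : act 5 n201160 = n222792 := rfl
theorem F516102 : act 6 n222792 = n221338 := d12_2 (iv6 F454368) D222792 F508458 (iv6 F511148) F511149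
theorem F516103 : act 4 n222792 = n205424 := d16_2 (iv4 F419293) D222792 (iv5 D205424) F395504 (iv5 F395502) (iv4 F418640) F418642 (iv7 F418644) F418646
theorem F516104 : act 1 n222792 = n221238 := d17_6 F418679 (iv5 D200999) D200998 F418674 (iv4 F419293) D222792 (iv5 F515955) F515957 (iv4 D221259)
theorem F516105 : act 0 n222792 = n221239 := d18_0 (iv4 D221239) (iv1 D195713) (iv4 F397919) (iv5 F419291) (iv4 D201158) F179011 (iv4 F421234) (iv0 F421237) D222792
def n222793 : Q := act 3 n201161
theorem D222793 : act 3 n201161 = n222793 := rfl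
theorem F516106 : act 2 n222793 = n210279 := d0_1 D222793 F502349 F502351 F465824 (iv2 F421875)
theorem F516107 : act 4 n222793 = n211359 := d5_2 (iv4 F419294) D222793 F461270 F459801 F448138
theorem F516108 : act 6 n222793 = n206700 := d7_2 F515671 D222793 (iv3 F515667)
theorem F516109 : act 7 n222793 = n221403 := d8_2 (iv7 F421870) D222793 F508836
theorem F516110 : act 0 n222793 = n220146 := d20_4 F475321 (iv1 F398230) (iv4 F419294) D222793 (iv3 F513976) F513975 (iv1 F509125) (iv4 F514383) F514384 (iv1 F475325)
theorem F516111 : act 0 n206695 = n222793 := d20_4 (iv4 D198009) (iv1 F362468) (iv4 F330983) (iv3 F441880) (iv3 D222793) F419294 (iv1 D159499) (iv4 F251174) F362932 (iv1 F406499)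
theorem F516112 : act 5 n222793 = n210275 := d17_3 (iv1 D206694) D206695 F516111 F456830 D210276 F500959 F500957 (iv0 F513340) F513338
def n222794 : Q := act 5 n201161
theorem D222794 : act 5 n201161 = n222794 := rfl
theorem F516113 : act 3 n222794 = n210275 := d6_1 D222794 (iv5 F516112) (iv3 D222793)
theorem F516114 : act 4 n222794 = n205422 := d9_1 D222794 (iv5 D205422) F395516 (iv5 F395515) F418676 F418674 (iv4 F419293) D222792 F516103 (iv5 D205424) F395504 (iv5 F395502) (iv4 F418640) F418642 (iv4 F419294)
theorem F516115 : act 6 n222794 = n210274 := d12_2 F515671 D222794 F515718 (iv6 D222714) (iv5 F515665)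
theorem F516116 : act 0 n222794 = n221238 := d17_2 (iv1 F421236) D222794 (iv5 F515955) (iv4 D222764) (iv5 D201028) (iv0 F418777) F418778 F179011 (iv4 F421234)
theorem F516117 : act 1 n222794 = n221239 := d17_8 (iv1 D195713) (iv5 F201979) (iv1 F417001) (iv5 F504666) F504665 (iv5 D201163) D201161 D222794 (iv4 D221239)
def n222795 : Q := act 0 n201163
theorem D222795 : act 0 n201163 = n222795 := rfl
theorem F516118 : act 5 n222795 = n221016 := d17_3 (iv1 D201161) D201163 D222795 F506818 (iv5 D195644) (iv0 D106125) (iv5 F114347) D159499 (iv4 F419294)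
theorem F516119 : act 4 n222795 = n205426 := d18_1 D222795 (iv1 D205426) (iv4 F418902) (iv5 F475322) F475321 F398231 (iv4 F419293) (iv0 D201160) D201163
theorem F516120 : act 3 n222795 = n206791 := d20_5 F418580 F391963 D220619 (iv3 F504663) D222795 F442196 F438577 F330968 F330969 F418583
theorem F516121 : act 6 n222795 = n219487 := d21_5 F419239 (iv1 D114913) D114915 (iv6 F419297) D222795 (iv5 F499132) D221017 F506820 (iv6 F508749) (iv1 F508751)
theorem F516122 : act 1 n222723 = n222795 := d15_0 (iv0 D222795) (iv7 F515478) (iv2 F515752)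
def n222796 : Q := act 1 n201163
theorem D222796 : act 1 n201163 = n222796 := rfl
theorem F516123 : act 1 n222796 = n222723 := d15_1 D222796 F515756 F421637
theorem F516124 : act 5 n222796 = n221208 := d17_7 (iv1 F419273) (iv5 D114011) (iv1 D52618) D52619 D114015 D201163 D222796 (iv0 F516076) (iv4 D222787)
theorem F516125 : act 4 n222796 = n205425 := d17_9 (iv1 F436355) (iv5 F362930) (iv1 F202415) D205424 (iv4 F516103) (iv5 D222792) (iv0 D201160) D201163 D222796
theorem F516126 : act 6 n206859 = n222796 := d10_0 F516125 F436354 (iv4 F442442)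
theorem F516127 : act 3 n206693 = n222796 := d20_5 (iv4 D129122) (iv1 D60703) (iv4 F95294) (iv3 F207347) D206693 F516125 (iv1 F436355) F211325 (iv3 D129482) F207360
def n222797 : Q := act 3 n201164
theorem D222797 : act 3 n201164 = n222797 := rfl
theorem F516128 : act 2 n222797 = n217567 := d0_1 D222797 (iv3 D217567) (iv2 F421598) F421603 F421608
theorem F516129 : act 5 n222797 = n217944 := d6_2 (iv5 F492377) D222797 (iv3 F492373)
theorem F516130 : act 7 n222797 = n201802 := d8_2 (iv7 F421609) D222797 (iv3 D201802)
theorem F516131 : act 4 n222797 = n201332 := d20_6 (iv4 D76226) (iv1 F55027) D52620 D114016 D201164 D222797 (iv1 D201332) F178308 (iv3 D76292) (iv1 F114201)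
theorem F516132 : act 1 n217679 = n222797 := d17_8 (iv1 D201332) (iv5 F178323) F365246 (iv5 F370790) D217553 (iv5 F502340) (iv0 D220143) (iv5 F490078) F516131
theorem F516133 : act 0 n206932 = n222797 := d18_0 F516131 (iv1 D201332) F178308 D159494 (iv4 F467024) (iv0 F491292) F491291 (iv0 F475086) F465676
def n222798 : Q := act 4 n201164
theorem D222798 : act 4 n201164 = n222798 := rfl
theorem F516134 : act 2 n222798 = n201805 := d1_1 D222798 (iv4 D201805) F421608
theorem F516135 : act 3 n222798 = n216506 := d5_1 D222798 F484717 (iv3 F420053) (iv4 F516131) (iv3 D222797)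
theorem F516136 : act 6 n222798 = n203581 := d10_2 F502362 D222798 (iv4 F502360)
theorem F516137 : act 7 n222798 = n201803 := d11_2 (iv7 F421609) D222798 (iv4 D201803)
theorem F516138 : act 5 n222798 = n203580 := d17_5 (iv1 F453315) (iv5 F440492) (iv1 F492376) (iv5 F492377) D222798 F485699 F485697 F446925 (iv4 F453313)
theorem F516139 : act 0 n222798 = n211228 := d17_0 F460705 (iv1 D209545) (iv5 D136593) (iv4 F219403) (iv5 F421852) F421851 (iv5 D201807) F419298 D222798
theorem F516140 : act 0 n211225 = n222798 := d20_10 (iv4 D222798) (iv1 F419298) (iv4 F420948) (iv3 F458952) (iv1 F469306) (iv3 F469308) F454167 F484568 F484567 (iv3 F460687)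
def n222799 : Q := act 6 n201167
theorem D222799 : act 6 n201167 = n222799 := rfl
theorem F516141 : act 2 n222799 = n218601 := d3_1 D222799 F494700 F419308
theorem F516142 : act 3 n222799 = n214568 := d7_1 D222799 (iv6 D214568) (iv3 F419309)
theorem F516143 : act 4 n222799 = n221306 := d10_1 D222799 (iv6 D221306) (iv4 F419307)
theorem F516144 : act 5 n222799 = n218595 := d12_1 D222799 F494668 (iv5 D206289) (iv6 F439469) F439471
theorem F516145 : act 7 n222799 = n218594 := d14_2 (iv7 F419306) D222799 F494663 F426322 F418628
theorem F516146 : act 0 n222799 = n218600 := d21_4 F399964 (iv1 F439473) F439471 D222799 (iv6 F494695) F398345 F366153 (iv5 F398011) F398013 F399966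
theorem F516147 : act 0 n206127 = n222799 := d21_4 F492691 (iv1 F439362) (iv5 D206126) D206127 (iv6 D222799) (iv5 F439471) F439472 (iv5 F399948) (iv6 F489754) (iv1 F492689)
def n222800 : Q := act 3 n201184
theorem D222800 : act 3 n201184 = n222800 := rfl
theorem F516148 : act 2 n222800 = n205877 := d0_1 D222800 (iv3 F466334) (iv2 F514553) F514554 F458852
theorem F516149 : act 5 n222800 = n221716 := d6_2 F468910 D222800 F510473
theorem F516150 : act 6 n222800 = n221683 := d7_2 (iv6 F419362) D222800 (iv3 D221683)
theorem F516151 : act 7 n222800 = n205876 := d8_2 F468905 D222800 (iv3 F468904)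
theorem F516152 : act 0 n222800 = n205872 := d20_4 (iv4 F510636) F510639 F458826 D222800 F438211 (iv4 F401002) (iv1 F476863) (iv4 D214790) F466148 (iv1 F468863)
theorem F516153 : act 0 n203519 = n222800 := d20_4 F203907 (iv1 F100093) (iv4 F203935) (iv3 F428673) (iv3 D222800) (iv4 F458826) F458827 F396745 F203904 D126705
def n222801 : Q := act 5 n201199
theorem D222801 : act 5 n201199 = n222801 := rfl
theorem F516154 : act 2 n222801 = n201208 := d2_1 D222801 (iv5 D201208) F419420
theorem F516155 : act 4 n222801 = n217100 := d9_1 D222801 F487416 (iv4 F438195) F438196 (iv4 F421025) (iv5 D201583) (iv4 F419424) (iv5 F458473) F458472 (iv5 F390123) (iv4 F455447) F455446 (iv4 F420989) (iv5 D201576) (iv4 F419418)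
theorem F516156 : act 7 n222801 = n201209 := d13_2 F419421 D222801 (iv5 D201209)
def n222802 : Q := act 4 n201201
theorem D222802 : act 4 n201201 = n222802 := rfl
theorem F516157 : act 2 n222802 = n201213 := d1_1 D222802 (iv4 D201213) (iv2 F419427)
theorem F516158 : act 3 n222802 = n209504 := d5_1 D222802 F453949 F452381 F451984 (iv3 F419428)
theorem F516159 : act 6 n222802 = n204554 := d10_2 F434126 D222802 (iv4 F434125)
theorem F516160 : act 5 n222802 = n209938 := d16_1 D222802 F455443 (iv5 F352360) (iv4 F352364) F142279 (iv4 F177749) (iv5 F419467) (iv7 D201214) (iv2 F419427)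
theorem F516161 : act 0 n222802 = n219678 := d18_2 (iv1 F491764) D222802 F500005 F385148 (iv4 F366174) (iv0 F419411) (iv4 F470702) (iv0 F470704) (iv5 F491762)
theorem F516162 : act 1 n222802 = n204489 := d18_6 (iv1 D123866) (iv4 F347685) (iv1 D114113) (iv4 F177718) D201201 D222802 (iv4 D204489) F432136 F394097
def n222803 : Q := act 5 n201204
theorem D222803 : act 5 n201204 = n222803 := rfl
theorem F516163 : act 2 n222803 = n203429 := d2_1 D222803 (iv5 D203429) F419441
theorem F516164 : act 3 n222803 = n215603 := d6_1 D222803 (iv5 D215603) (iv3 F419442)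
theorem F516165 : act 6 n222803 = n207360 := d12_2 (iv6 F419440) D222803 (iv5 F448145) (iv6 D208155) F335159
theorem F516166 : act 7 n222803 = n203430 := d13_2 (iv7 F419443) D222803 (iv5 D203430)
theorem F516167 : act 0 n222803 = n202880 := d17_2 D201204 D222803 (iv5 D202880) F183172 (iv5 F315159) F317367 (iv5 F319598) (iv0 F333624) F178797
theorem F516168 : act 1 n222803 = n212025 := d17_6 (iv1 F229653) (iv5 F334983) (iv1 F357844) F357845 (iv4 F419439) D222803 F464002 F426006 F426003
theorem F516169 : act 4 n222803 = n204544 := d19_2 D201204 D222803 (iv3 D204544) (iv1 D123979) D123980 D204546 F432833 F449137 (iv5 F483367) F483368 (iv3 F369208) (iv1 F368574) (iv5 D186936) (iv4 D89399) (iv3 F136249) F289522 D89095 F303373 (iv3 F177734)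
def n222804 : Q := act 1 n201208
theorem D222804 : act 1 n201208 = n222804 := rfl
theorem F516170 : act 1 n222804 = n201209 := d15_1 D222804 (iv7 F516156) F516154
def n222805 : Q := act 5 n201212
theorem D222805 : act 5 n201212 = n222805 := rfl
theorem F516171 : act 2 n222805 = n201582 := d2_1 D222805 (iv5 F491762) F491759
theorem F516172 : act 3 n222805 = n212522 := d6_1 D222805 F466237 F419465
theorem F516173 : act 4 n222805 = n201573 := d9_1 D222805 (iv5 D201573) (iv4 F354100) (iv5 F347876) (iv4 F453688) (iv5 F454899) F454902 (iv5 F504685) F504684 (iv5 D201572) F352405 (iv5 F352361) F219552 D136484 (iv4 F419464)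
theorem F516174 : act 7 n222805 = n201580 := d13_2 (iv7 F419463) D222805 (iv5 F421010)
theorem F516175 : act 6 n222805 = n210871 := d21_3 D218140 F492334 D222805 (iv1 F459091) F396205 (iv5 F419894) (iv1 F462245) (iv5 D211581) (iv6 F361681) F374144
theorem F516176 : act 0 n222805 = n214475 := d21_4 F424346 (iv1 F483996) F483994 (iv6 F516175) (iv6 D214475) (iv5 F448731) (iv1 F448733) (iv5 F391112) F391113 (iv1 F392173)
def n222806 : Q := act 0 n201213
theorem D222806 : act 0 n201213 = n222806 := rfl
theorem F516177 : act 5 n222806 = n215088 := d17_3 F512798 (iv5 F454412) D222806 F478281 (iv5 F353789) F353788 (iv5 F438255) (iv0 F438258) (iv4 F512794)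
theorem F516178 : act 4 n222806 = n204201 := d18_3 (iv1 D201212) D201213 D222806 F431462 F419518 F419516 (iv4 F475349) (iv0 F516176) (iv5 D222805)
theorem F516179 : act 6 n222806 = n217903 := d21_5 (iv5 F444473) F444475 (iv5 F470683) F470681 D222806 F491179 (iv1 F480669) (iv5 F484538) (iv6 F498683) F498685
theorem F516180 : act 2 n219678 = n222806 := d3_3 F516179 F491177 D219678
theorem F516181 : act 7 n204489 = n222806 := d14_0 F516179 F491178 (iv6 F499773) (iv7 F514166) F514165
def n222807 : Q := act 1 n201213
theorem D222807 : act 1 n201213 = n222807 := rfl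
theorem F516182 : act 7 n222807 = n219678 := d15_2 (iv0 D222806) D222807 F516180
theorem F516183 : act 5 n222807 = n209553 := d17_7 F389908 F352361 (iv1 D154671) (iv5 F352359) (iv4 F454411) (iv5 F454412) D222807 (iv0 F503394) F503391
theorem F516184 : act 4 n222807 = n204488 := d18_7 (iv1 F377196) (iv4 D114139) (iv1 D52686) (iv4 F83259) D114130 D201213 D222807 (iv0 F494785) (iv5 D218616)
theorem F516185 : act 3 n209554 = n222807 := d19_19 (iv1 D222807) F454412 F454411 F352358 F231631 (iv5 D147444) F310860 (iv3 F310453) (iv1 F308949) F308950 (iv4 F309478) (iv3 F311665) (iv1 F206211) (iv5 D70138) D70137 F319419 (iv1 F229730) (iv5 F428099) (iv4 F454109)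
theorem F516186 : act 2 n222807 = n204489 := d0_1 F516185 (iv3 F504405) F504404 F454125 (iv2 F454107)
def n222808 : Q := act 3 n201213
theorem D222808 : act 3 n201213 = n222808 := rfl
theorem F516187 : act 2 n222808 = n208778 := d0_1 D222808 (iv3 F484063) F484062 (iv3 F516158) F516157
theorem F516188 : act 4 n222808 = n214525 := d5_2 D201213 D222808 (iv3 D214525) (iv4 D159716) (iv3 F177747)
theorem F516189 : act 6 n222808 = n208600 := d7_2 F470681 D222808 (iv3 F470686)
theorem F516190 : act 0 n210684 = n222808 := d20_4 (iv4 F487498) (iv1 F487501) (iv4 F384633) (iv3 F458436) (iv3 D222808) (iv4 D201213) D201211 (iv4 F454902) F454901 F390161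
theorem F516191 : act 7 n219997 = n222808 := d14_0 F516189 F450086 D208780 (iv7 F450833) D219997
def n222809 : Q := act 7 n201213
theorem D222809 : act 7 n201213 = n222809 := rfl
theorem F516192 : act 3 n222809 = n219997 := d8_1 D222809 F516191 (iv3 D222808)
theorem F516193 : act 4 n222809 = n201214 := d11_1 D222809 (iv7 D201214) D201213
theorem F516194 : act 6 n222809 = n219996 := d14_1 D222809 F501569 F491625 (iv7 F470682) F470681
theorem F516195 : act 1 n204489 = n222809 := d15_1 F516162 (iv7 D222809) (iv2 F516157)
theorem F516196 : act 1 n222809 = n219678 := d15_1 F516195 (iv7 F516182) F516186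
def n222810 : Q := act 1 n201218
theorem D222810 : act 1 n201218 = n222810 := rfl
theorem F516197 : act 1 n222810 = n201223 := d15_1 D222810 (iv7 F453527) F453524
theorem F516198 : act 7 n222810 = n204482 := d15_2 F487412 D222810 (iv2 F487407)
theorem F516199 : act 5 n222810 = n212631 := d17_7 (iv1 F475354) F475351 F347650 (iv5 D114135) D114134 D201218 D222810 (iv0 D212631) (iv4 F366174)
theorem F516200 : act 4 n222810 = n209441 := d17_9 (iv1 F487414) F487416 (iv1 F390119) (iv5 F454906) (iv4 F494782) (iv5 D218616) F377197 D201218 D222810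
theorem F516201 : act 3 n220431 = n222810 := d19_19 (iv1 D222810) (iv5 D201218) (iv4 D114134) D114133 (iv1 F398339) F398336 F189374 F87334 (iv1 F50360) F49871 (iv4 F95681) (iv3 F208953) F346541 (iv5 F346540) (iv4 F473877) F473876 (iv1 F473884) (iv5 F513551) F513552
theorem F516202 : act 6 n204531 = n222810 := d21_3 (iv5 F506081) (iv1 F506083) F487643 (iv1 D222810) (iv6 F419485) (iv5 F354517) F328530 (iv5 F211885) D207716 (iv1 F491209)
theorem F516203 : act 2 n222810 = n204481 := d0_1 F516201 F453479 (iv2 F453751) (iv3 F487760) F503747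
def n222811 : Q := act 4 n201227
theorem D222811 : act 4 n201227 = n222811 := rfl
theorem F516204 : act 6 n222811 = n215631 := d10_2 (iv6 F419529) D222811 (iv4 D215631)
theorem F516205 : act 7 n222811 = n209938 := d11_2 (iv7 F419530) D222811 F455443
theorem F516206 : act 0 n222811 = n222188 := d18_2 (iv1 F419532) D222811 F512794 F420977 (iv4 F347651) (iv0 F347650) F275311 (iv0 F360143) (iv5 F390110)
theorem F516207 : act 3 n222811 = n222185 := d20_9 (iv4 F511692) (iv1 D221971) F406164 F389178 (iv1 D101851) (iv3 F156802) (iv4 F390109) (iv1 F419532) D222811 (iv1 F512782)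
def n222812 : Q := act 5 n201238
theorem D222812 : act 5 n201238 = n222812 := rfl
theorem F516208 : act 2 n222812 = n217269 := d2_1 D222812 (iv5 F488204) (iv2 F419588)
theorem F516209 : act 3 n222812 = n201239 := d6_1 D222812 (iv5 D201239) D201238
theorem F516210 : act 7 n222812 = n215023 := d13_2 (iv7 F419590) D222812 (iv5 D215023)
theorem F516211 : act 4 n222812 = n211963 := d16_2 (iv4 F419589) D222812 (iv5 D211963) (iv4 F424446) (iv5 F424451) (iv4 D193803) F368546 (iv7 F354983) F368356
theorem F516212 : act 0 n222812 = n216971 := d17_2 (iv1 F471113) D222812 (iv5 D216971) F367340 D186591 D216976 F486831 F431113 (iv4 F471111)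
theorem F516213 : act 1 n222812 = n217271 := d17_6 (iv1 F289489) (iv5 F368559) (iv1 F368561) (iv5 F368363) (iv4 F419589) D222812 F488207 (iv0 F414766) F414763
theorem F516214 : act 0 n217425 = n217385 := d20_4 (iv4 F516211) F516212 (iv4 F501959) F501956 (iv3 D217385) D217386 F488683 (iv4 F393953) (iv3 F505809) (iv1 F505813)
def n222813 : Q := act 4 n201254
theorem D222813 : act 4 n201254 = n222813 := rfl
theorem F516215 : act 2 n222813 = n218513 := d1_1 D222813 F494237 F466675
theorem F516216 : act 3 n222813 = n218453 := d5_1 D222813 F493973 F425231 F352140 (iv3 F419688)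
theorem F516217 : act 5 n222813 = n205474 := d9_2 D201254 D222813 (iv4 D205474) (iv5 D126085) F319469 (iv5 F130074) (iv4 F334759) D203434 (iv4 F504991) (iv5 F515358) (iv4 D222645) (iv5 D200538) F351031 (iv5 F419685) (iv4 D201253)
theorem F516218 : act 6 n222813 = n218411 := d10_2 (iv6 F419689) D222813 F493756
theorem F516219 : act 7 n222813 = n222648 := d11_2 F461790 D222813 F515377
theorem F516220 : act 0 n222813 = n201694 := d18_2 (iv1 F419690) D222813 (iv4 D201694) (iv5 D114992) (iv4 F334786) F272133 (iv4 F342083) F330316 D147236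
theorem F516221 : act 1 n222813 = n218496 := d18_6 (iv1 D151423) (iv4 F343320) (iv1 F419686) (iv4 D201253) D201254 D222813 F494164 (iv0 F421437) F421435
def n222814 : Q := act 4 n201269
theorem D222814 : act 4 n201269 = n222814 := rfl
theorem F516222 : act 2 n222814 = n218274 := d1_1 D222814 F493070 F443722
theorem F516223 : act 3 n222814 = n206830 := d5_1 D222814 (iv4 F484666) (iv3 F484667) F401658 (iv3 F419775)
theorem F516224 : act 6 n222814 = n201270 := d10_2 (iv6 F419776) D222814 (iv4 D201270)
theorem F516225 : act 7 n222814 = n218275 := d11_2 F420014 D222814 F493072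
theorem F516226 : act 5 n222814 = n206478 := d16_1 D222814 (iv4 D206478) (iv5 F395753) F202196 D198530 F413983 (iv5 F440509) (iv7 F443724) F443722
theorem F516227 : act 0 n222814 = n209345 := d17_0 (iv5 D209345) F441359 (iv5 F475018) F475019 F377589 F415843 (iv5 F506812) F506815 D222814
theorem F516228 : act 1 n222814 = n201747 := d18_6 (iv1 D130605) (iv4 F209133) F419774 F419772 D201269 D222814 F421660 F421733 F421731
def n222815 : Q := act 5 n201274
theorem D222815 : act 5 n201274 = n222815 := rfl
theorem F516229 : act 2 n222815 = n212489 := d2_1 D222815 (iv5 D212489) (iv2 F419795)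
theorem F516230 : act 3 n222815 = n201276 := d6_1 D222815 (iv5 D201276) (iv3 F419796)
theorem F516231 : act 6 n222815 = n215312 := d12_2 D201274 D222815 (iv5 D215312) (iv6 D172314) (iv5 F178055)
theorem F516232 : act 7 n222815 = n212488 := d13_2 F419798 D222815 (iv5 D212488)
theorem F516233 : act 4 n222815 = n206531 := d16_2 (iv4 F419797) D222815 F472150 F472148 F350830 D163847 (iv5 F354868) F343339 (iv2 F343334)
theorem F516234 : act 0 n222815 = n215926 := d17_2 F419799 D222815 (iv5 D215926) F278511 F328010 D110588 (iv5 F348465) F348464 D180610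
def n222816 : Q := act 5 n201296
theorem D222816 : act 5 n201296 = n222816 := rfl
theorem F516235 : act 2 n222816 = n203334 := d2_1 D222816 (iv5 D203334) (iv2 F419895)
theorem F516236 : act 3 n222816 = n204263 := d6_1 D222816 (iv5 D204263) (iv3 F419896)
theorem F516237 : act 6 n222816 = n211218 := d12_2 (iv6 F419897) D222816 (iv5 D211218) (iv6 F449431) (iv5 F419901)
theorem F516238 : act 7 n222816 = n203336 := d13_2 (iv7 F419898) D222816 (iv5 D203336)
theorem F516239 : act 4 n222816 = n203343 := d16_2 D201296 D222816 F427965 (iv4 F448780) (iv5 F510448) F510447 (iv5 D203463) (iv7 F347731) F347730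
def n222817 : Q := act 5 n201303
theorem D222817 : act 5 n201303 = n222817 := rfl
theorem F516240 : act 2 n222817 = n222454 := d2_1 D222817 F514304 F492886
theorem F516241 : act 3 n222817 = n222450 := d6_1 D222817 F514280 F471839
theorem F516242 : act 4 n222817 = n214736 := d9_1 D222817 (iv5 D214736) F254054 D170870 (iv4 F370807) (iv5 F374349) (iv4 F375164) D218269 F493047 (iv5 D215253) (iv4 D170866) D170867 (iv4 F372149) F372150 (iv4 F419929)
theorem F516243 : act 6 n222817 = n218781 := d12_2 D201303 D222817 F495628 F473442 F385094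
theorem F516244 : act 7 n222817 = n218296 := d13_2 (iv7 F419930) D222817 (iv5 D218296)
def n222818 : Q := act 4 n201312
theorem D222818 : act 4 n201312 = n222818 := rfl
theorem F516245 : act 2 n222818 = n201315 := d1_1 D222818 (iv4 D201315) (iv2 F419977)
theorem F516246 : act 5 n222818 = n222704 := d9_2 D201312 D222818 F515657 F439203 F414349 F414348 (iv4 D127780) D127781 D206209 (iv5 F508534) F508533 (iv5 F399505) F414333 F414329 F377878
theorem F516247 : act 6 n222818 = n214410 := d10_2 (iv6 F419979) D222818 F475052
theorem F516248 : act 7 n222818 = n221210 := d11_2 (iv7 F419980) D222818 (iv4 D221210)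
theorem F516249 : act 0 n222818 = n222698 := d17_0 (iv5 D222698) (iv1 F515615) F515618 (iv4 D201321) (iv5 F419548) F419551 (iv5 F439722) F439720 D222818
theorem F516250 : act 1 n222818 = n222696 := d18_6 F283569 (iv4 F146949) D189823 F377878 D201312 D222818 F515624 (iv0 F427973) (iv5 D203344)
def n222819 : Q := act 0 n201315
theorem D222819 : act 0 n201315 = n222819 := rfl
theorem F516251 : act 5 n222819 = n206109 := d17_1 D222819 (iv1 F507871) F507867 F421718 (iv5 F366043) (iv0 F393634) (iv5 F419981) (iv0 D201313) D201315
theorem F516252 : act 4 n222819 = n218247 := d18_1 D222819 F492949 (iv4 F515646) (iv5 D222701) (iv4 D200777) F176847 D200947 F515525 F515523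
theorem F516253 : act 1 n221210 = n222819 := d15_0 (iv0 D222819) (iv7 F439725) (iv2 F507754)
theorem F516254 : act 3 n221948 = n222819 := d19_19 (iv1 F516253) (iv5 F507832) (iv4 D221226) F397882 F348400 (iv5 D107531) (iv4 F92966) (iv3 D58803) (iv1 F45247) (iv5 F45281) (iv4 F45282) (iv3 F92993) D125623 F355946 D125710 (iv3 F361199) F361202 D197802 D221948
theorem F516255 : act 2 n222819 = n222698 := d0_1 F516254 F515633 (iv2 F475100) (iv3 F514384) F514387
theorem F516256 : act 7 n222819 = n222696 := d8_2 F514389 F516254 F515622
def n222820 : Q := act 1 n201315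
theorem D222820 : act 1 n201315 = n222820 := rfl
theorem F516257 : act 1 n222820 = n221210 := d15_1 D222820 (iv7 F516248) F516245
theorem F516258 : act 7 n222820 = n222698 := d15_2 (iv0 D222819) D222820 (iv2 F516255)
theorem F516259 : act 5 n222820 = n206111 := d17_7 (iv1 F401501) F401499 F416661 (iv5 F418498) (iv4 F515522) F515523 D222820 (iv0 F507870) (iv4 D221233)
theorem F516260 : act 4 n222820 = n206140 := d17_9 F439432 F375115 F259548 F235981 (iv4 F421723) F421724 F515525 F515523 D222820
theorem F516261 : act 3 n214423 = n222820 := d19_19 (iv1 D222820) (iv5 F515523) F515522 F418497 (iv1 F479360) (iv5 D215316) F270745 (iv3 F332388) (iv1 F352235) (iv5 F359829) (iv4 D129491) D129490 F211300 F211298 (iv4 F209230) (iv3 F418806) (iv1 F418809) F418298 D214423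
theorem F516262 : act 6 n214423 = n222820 := d21_3 F516084 F507857 F507856 (iv1 D222820) F419987 (iv5 F421792) (iv1 F475010) F475007 (iv6 F419284) (iv1 F516079)
theorem F516263 : act 2 n222820 = n222696 := d3_1 F516262 F515623 (iv2 F475111)
def n222821 : Q := act 2 n201320
theorem D222821 : act 2 n201320 = n222821 := rfl
theorem F516264 : act 3 n222821 = n211352 := d0_2 D201320 D222821 F461246 (iv3 D206210) F205532
theorem F516265 : act 4 n222821 = n209170 := d1_2 (iv4 F420009) D222821 F452559
theorem F516266 : act 5 n222821 = n205951 := d2_2 (iv5 F420010) D222821 F438559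
theorem F516267 : act 6 n222821 = n209172 := d3_2 (iv6 F420011) D222821 F452566
theorem F516268 : act 1 n222821 = n211315 := d15_0 (iv0 F461091) F439714 D222821
theorem F516269 : act 1 n218031 = n222821 := d15_0 F516268 F461090 (iv2 F491785)
def n222822 : Q := act 3 n201321
theorem D222822 : act 3 n201321 = n222822 := rfl
theorem F516270 : act 4 n222822 = n201323 := d5_2 D201321 D222822 (iv3 D201323) (iv4 D114323) D114322
theorem F516271 : act 5 n222822 = n212376 := d6_2 F515618 D222822 (iv3 F515621)
theorem F516272 : act 6 n222822 = n207016 := d7_2 (iv6 F493075) D222822 F493074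
theorem F516273 : act 7 n222822 = n219535 := d8_2 F421720 D222822 F499313
theorem F516274 : act 0 n222822 = n212617 := d19_4 (iv1 F419551) F419548 D201321 D222822 F466719 F450556 (iv3 F450555) (iv1 F252193) (iv5 F330622) F221600 (iv3 F221596) F355134 (iv5 F313262) (iv4 F243297) F350791 (iv1 F253897) (iv5 F461884) F461885 F358942
theorem F516275 : act 0 n220170 = n222822 := d20_4 F445899 (iv1 D193049) (iv4 F388584) (iv3 F502459) (iv3 D222822) (iv4 D201321) F290531 (iv4 F440503) F442462 (iv1 F445902)
def n222823 : Q := act 6 n201323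
theorem D222823 : act 6 n201323 = n222823 := rfl
theorem F516276 : act 2 n222823 = n208820 := d3_1 D222823 (iv6 F490751) (iv2 F490748)
theorem F516277 : act 3 n222823 = n201324 := d7_1 D222823 (iv6 D201324) D201323
theorem F516278 : act 4 n222823 = n207016 := d10_1 D222823 (iv6 F516272) F516270
theorem F516279 : act 5 n222823 = n208760 := d12_1 D222823 (iv6 F490907) F471703 (iv6 D211011) (iv5 F420016)
theorem F516280 : act 7 n222823 = n216493 := d14_2 F420521 D222823 F484668 (iv7 F508241) F508240
theorem F516281 : act 0 n222823 = n216494 := d21_4 (iv5 D140545) (iv1 F340492) (iv5 F420016) D222823 F484672 (iv5 F375582) (iv1 F410771) (iv5 F491846) (iv6 F491848) (iv1 D211023)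
theorem F516282 : act 0 n216495 = n222823 := d21_4 (iv5 D206019) F402864 D198239 (iv6 F484675) (iv6 D222823) F420016 (iv1 F424082) (iv5 F461271) (iv6 F511861) F511859
def n222824 : Q := act 2 n201333
theorem D222824 : act 2 n201333 = n222824 := rfl
theorem F516283 : act 3 n222824 = n212345 := d0_2 D201333 D222824 (iv2 F467022) F467023 F398152
theorem F516284 : act 4 n222824 = n201338 := d1_2 (iv4 F420054) D222824 (iv2 D201338)
theorem F516285 : act 6 n222824 = n212344 := d3_2 (iv6 F449549) D222824 F465415
theorem F516286 : act 7 n222824 = n217750 := d4_2 F439776 D222824 (iv2 F490449)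
theorem F516287 : act 1 n222824 = n207289 := d15_0 (iv0 F444173) F439776 D222824
theorem F516288 : act 1 n209509 = n222824 := d15_0 F516287 (iv7 F454626) F454623
theorem F516289 : act 5 n216001 = n222824 := d17_7 (iv1 F409204) (iv5 D193093) (iv1 D101173) (iv5 F293005) (iv4 F371864) D217793 (iv0 F490659) F516287 F444172
def n222825 : Q := act 5 n201333
theorem D222825 : act 5 n201333 = n222825 := rfl
theorem F516290 : act 2 n222825 = n216001 := d2_1 D222825 F516289 (iv2 D222824)
theorem F516291 : act 3 n222825 = n201334 := d6_1 D222825 (iv5 D201334) D201333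
theorem F516292 : act 7 n222825 = n216002 := d13_2 F439776 D222825 F482489
theorem F516293 : act 0 n222825 = n216004 := d17_2 F420055 D222825 F482495 (iv4 F343151) (iv5 F364313) (iv0 F420144) (iv5 F420157) (iv0 D187882) (iv4 F371715)
theorem F516294 : act 1 n222825 = n215996 := d17_6 (iv1 F387673) (iv5 F371981) (iv1 F387663) F178319 (iv4 F420054) D222825 (iv5 D215996) D215995 (iv4 F482472)
def n222826 : Q := act 1 n201339
theorem D222826 : act 1 n201339 = n222826 := rfl
theorem F516295 : act 1 n222826 = n221944 := d15_1 D222826 (iv7 F512818) F512814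
theorem F516296 : act 7 n222826 = n217979 := d15_2 (iv0 F420078) D222826 F491529
theorem F516297 : act 5 n222826 = n222121 := d17_7 (iv1 F174064) (iv5 F408683) (iv1 F408686) (iv5 F361857) (iv4 F405817) F420070 D222826 (iv0 D222121) (iv4 D198429)
theorem F516298 : act 4 n222826 = n217981 := d17_9 (iv1 F491543) (iv5 F393570) (iv1 D142605) D142607 (iv4 F407225) (iv5 D198205) F405818 F420070 D222826
theorem F516299 : act 3 n222046 = n222826 := d19_19 (iv1 D222826) (iv5 F420070) F405817 D200004 F414578 (iv5 F461904) F461905 (iv3 D194429) (iv1 F158765) (iv5 F352465) (iv4 D113515) D113514 (iv1 F417978) (iv5 D200804) F176684 (iv3 F202211) (iv1 F202214) (iv5 F406854) D222046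
theorem F516300 : act 6 n218031 = n222826 := d21_3 (iv5 F454435) F454436 (iv5 F491787) (iv1 D222826) (iv6 D201339) (iv5 F178319) F370792 F370790 D192756 F451007
theorem F516301 : act 2 n222826 = n217915 := d3_1 F516300 F491238 (iv2 F491785)
def n222827 : Q := act 6 n201343
theorem D222827 : act 6 n201343 = n222827 := rfl
theorem F516302 : act 2 n222827 = n219606 := d3_1 D222827 (iv6 F499655) F420085
theorem F516303 : act 3 n222827 = n201344 := d7_1 D222827 (iv6 D201344) D201343
theorem F516304 : act 4 n222827 = n201346 := d10_1 D222827 (iv6 D201346) (iv4 F420080)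
theorem F516305 : act 7 n222827 = n220165 := d14_2 (iv7 F420081) D222827 (iv6 D220165) (iv7 F484622) F484621
theorem F516306 : act 1 n222062 = n222827 := d18_6 F474366 F474544 (iv1 D214318) (iv4 F365858) (iv5 F407175) D222062 F516304 (iv0 F504891) (iv5 D220668)
def n222828 : Q := act 1 n201344
theorem D222828 : act 1 n201344 = n222828 := rfl
theorem F516307 : act 1 n222828 = n216792 := d15_1 D222828 F485937 F421650
theorem F516308 : act 7 n222828 = n201636 := d15_2 (iv0 F421570) D222828 (iv2 F421568)
theorem F516309 : act 4 n222828 = n201637 := d18_7 (iv1 F248612) (iv4 F407391) (iv1 F407392) F178320 (iv5 F178318) (iv4 F420086) D222828 F421202 F420554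
theorem F516310 : act 3 n201636 = n222828 := d20_9 F420086 F179073 (iv4 F421467) F421466 (iv1 F456904) (iv3 F456907) (iv4 D201451) F178981 (iv4 F421198) (iv1 D222828)
theorem F516311 : act 6 n201635 = n222828 := d21_3 F475363 F516060 F516057 (iv1 D222828) (iv6 D201344) (iv5 F179153) (iv1 D115038) (iv5 F83790) D115059 D201786
def n222829 : Q := act 5 n201344
theorem D222829 : act 5 n201344 = n222829 := rfl
theorem F516312 : act 4 n222829 = n221480 := d16_2 (iv4 F420086) D222829 F509226 (iv4 D216090) (iv5 F402344) F402343 F356718 (iv7 F356719) F205629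
theorem F516313 : act 1 n222829 = n221438 := d17_6 F420101 (iv5 D201351) (iv1 D114351) (iv5 F178318) (iv4 F420086) D222829 (iv5 F516100) (iv0 F516101) F483209
theorem F516314 : act 1 n222000 = n222829 := d18_6 D196490 F400822 (iv1 F327450) F172915 D197960 D222000 F516312 (iv0 D221480) (iv5 D196492)
def n222830 : Q := act 4 n201345
theorem D222830 : act 4 n201345 = n222830 := rfl
theorem F516315 : act 7 n222830 = n214458 := d11_2 (iv7 F420088) D222830 F475261
theorem F516316 : act 0 n222830 = n201451 := d18_2 (iv1 F420087) D222830 (iv4 D201451) (iv5 D114520) (iv4 F178374) F420098 (iv4 D201350) F205634 F356718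
theorem F516317 : act 1 n222830 = n218260 := d18_8 F514011 (iv4 D221482) D221480 (iv4 F516312) (iv5 D222829) F420086 D201345 D222830 (iv5 F514010)
def n222831 : Q := act 5 n201347
theorem D222831 : act 5 n201347 = n222831 := rfl
theorem F516318 : act 2 n222831 = n213122 := d2_1 D222831 (iv5 D213122) (iv2 F439836)
theorem F516319 : act 3 n222831 = n201348 := d6_1 D222831 (iv5 D201348) D201347
theorem F516320 : act 6 n222831 = n210581 := d12_2 F473889 D222831 (iv5 F462143) F462142 (iv5 F473888)
theorem F516321 : act 7 n222831 = n209621 := d13_2 F439833 D222831 F454346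
theorem F516322 : act 4 n222831 = n209192 := d16_2 F500556 D222831 (iv5 F484135) F484134 F446225 F216289 D134283 D208421 (iv2 F500555)
theorem F516323 : act 1 n222831 = n217592 := d17_6 F449262 (iv5 D208417) (iv1 F449239) (iv5 F500557) F500556 D222831 F489679 F486718 F468951
theorem F516324 : act 1 n204548 = n222831 := d15_0 F516323 F489681 F444383
def n222832 : Q := act 4 n201348
theorem D222832 : act 4 n201348 = n222832 := rfl
theorem F516325 : act 3 n222832 = n206825 := d5_1 D222832 F442331 D209192 (iv4 F516322) F516319
theorem F516326 : act 6 n222832 = n222285 := d10_2 (iv6 F420093) D222832 F513354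
theorem F516327 : act 7 n222832 = n209624 := d11_2 F439839 D222832 F454366
def n222833 : Q := act 4 n201351
theorem D222833 : act 4 n201351 = n222833 := rfl
theorem F516328 : act 2 n222833 = n209624 := d1_1 D222833 F454366 F439837
theorem F516329 : act 6 n222833 = n201812 := d10_2 (iv6 F420100) D222833 F421868
theorem F516330 : act 5 n222833 = n221482 := d16_1 D222833 (iv4 D221482) (iv5 D196492) F164973 D157166 (iv4 F350587) D201348 (iv7 F439839) F439837
def n222834 : Q := act 4 n201374
theorem D222834 : act 4 n201374 = n222834 := rfl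
theorem F516331 : act 2 n222834 = n212889 := d1_1 D222834 (iv4 D212889) (iv2 F420232)
theorem F516332 : act 3 n222834 = n206720 := d5_1 D222834 F441962 (iv3 D131006) D131007 (iv3 F420233)
theorem F516333 : act 5 n222834 = n222393 := d9_2 D201374 D222834 (iv4 D222393) F412284 F409167 (iv5 F405829) F405823 (iv5 F233498) (iv4 F466893) F466894 (iv4 D199492) (iv5 D111363) F81070 D108721 F363669
theorem F516334 : act 7 n222834 = n206718 := d11_2 (iv7 F420234) D222834 F441959
theorem F516335 : act 0 n222834 = n222747 := d17_0 F515862 (iv1 D222287) (iv5 F465007) (iv4 D212259) (iv5 F405842) (iv0 F474208) F474206 F451881 D222834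
theorem F516336 : act 1 n222834 = n222756 := d18_6 (iv1 D127809) (iv4 F356726) F356724 F363669 D201374 D222834 F515910 (iv0 F419323) F419322
def n222835 : Q := act 1 n201375
theorem D222835 : act 1 n201375 = n222835 := rfl
theorem F516337 : act 1 n222835 = n201433 := d15_1 D222835 F420498 (iv2 F420236)
theorem F516338 : act 7 n222835 = n212881 := d15_2 (iv0 F508321) D222835 (iv2 F508317)
theorem F516339 : act 4 n222835 = n215257 := d17_9 (iv1 F484041) F484040 F479038 F412312 F178374 D114520 D201450 (iv5 F420550) D222835
theorem F516340 : act 3 n212312 = n222835 := d20_3 (iv4 F229868) (iv1 F356766) D212312 (iv1 D222835) F420237 (iv4 D170875) D170873 F465254 (iv3 D212311) (iv1 D146565)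
theorem F516341 : act 5 n214408 = n222835 := d21_0 (iv1 D222835) F420550 (iv6 F421176) (iv1 F421540) (iv6 F421543) (iv5 D201028) D201027 F418799 D201156 F475040
theorem F516342 : act 6 n201397 = n222835 := d21_3 F112704 D114424 D201397 (iv1 D222835) (iv6 D201375) D201374 (iv1 F451881) (iv5 F474206) (iv6 D214248) (iv1 D157746)
theorem F516343 : act 2 n222835 = n212891 := d3_1 F516342 (iv6 F467979) F447969
def n222836 : Q := act 0 n201388
theorem D222836 : act 0 n201388 = n222836 := rfl
theorem F516344 : act 5 n222836 = n202856 := d17_1 D222836 (iv1 F425897) (iv5 F378565) F378564 (iv5 F343308) (iv0 F340908) F340910 (iv0 F425975) F425974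
theorem F516345 : act 4 n222836 = n218615 := d18_1 D222836 F494778 F490712 (iv5 D194055) F333133 F424914 F424911 F225283 (iv5 F420293)
theorem F516346 : act 3 n222836 = n206386 := d20_5 (iv4 D115006) (iv1 F161748) D114407 D201388 D222836 (iv4 F477364) F477365 F382329 (iv3 F382315) F382320
theorem F516347 : act 2 n202857 = n222836 := d15_3 (iv0 D222836) (iv0 F420294) (iv7 F425899)
theorem F516348 : act 1 n210492 = n222836 := d15_0 (iv0 D222836) (iv7 F448485) (iv2 F457767)
theorem F516349 : act 7 n222836 = n211960 := d15_2 (iv0 F457770) F516348 F463748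
theorem F516350 : act 6 n216816 = n222836 := d14_5 F516349 (iv6 F480950) (iv7 F480953) F448268 (iv7 F486038)
def n222837 : Q := act 3 n201390
theorem D222837 : act 3 n201390 = n222837 := rfl
theorem F516351 : act 2 n222837 = n220136 := d0_1 D222837 F502308 (iv2 F446444) F446445 F421509
theorem F516352 : act 4 n222837 = n212825 := d5_2 D201390 D222837 F467642 F431418 F420286
theorem F516353 : act 6 n222837 = n212824 := d7_2 F453248 D222837 F467636
theorem F516354 : act 0 n222837 = n210300 := d20_10 F456912 F433099 (iv4 F443135) F443134 F435007 F353315 (iv4 D114893) (iv1 F178442) D201390 D222837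
def n222838 : Q := act 6 n201391
theorem D222838 : act 6 n201391 = n222838 := rfl
theorem F516355 : act 2 n222838 = n209104 := d3_1 D222838 (iv6 F464019) (iv2 F464020)
theorem F516356 : act 3 n222838 = n218744 := d7_1 D222838 F495447 (iv3 F420302)
theorem F516357 : act 4 n222838 = n201392 := d10_1 D222838 (iv6 D201392) D201391
theorem F516358 : act 5 n222838 = n201662 := d12_1 D222838 (iv6 D201662) F357312 (iv6 F350248) (iv5 F420304)
theorem F516359 : act 7 n222838 = n209105 := d14_2 (iv7 F420303) D222838 F452282 F376264 D190501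
theorem F516360 : act 0 n222838 = n209106 := d21_4 F355695 (iv1 F229169) (iv5 F420304) D222838 (iv6 F452285) F448240 F466593 (iv5 F468443) F468444 (iv1 F463959)
theorem F516361 : act 0 n209097 = n222838 := d21_4 (iv5 F444705) F452239 (iv5 F495404) F495402 (iv6 D222838) F420304 (iv1 D144938) D144940 D212018 F463965
def n222839 : Q := act 6 n201394
theorem D222839 : act 6 n201394 = n222839 := rfl
theorem F516362 : act 2 n222839 = n211865 := d3_1 D222839 (iv6 D211865) F420320
theorem F516363 : act 3 n222839 = n201396 := d7_1 D222839 (iv6 D201396) D201394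
theorem F516364 : act 4 n222839 = n216916 := d10_1 D222839 (iv6 F486527) (iv4 F420314)
theorem F516365 : act 7 n222839 = n211873 := d14_2 (iv7 F420313) D222839 F463347 F463329 (iv6 D211866)
theorem F516366 : act 0 n222839 = n211715 := d21_4 (iv5 F453152) F453154 (iv5 F420312) D222839 (iv6 D211715) (iv5 F350512) (iv1 D104859) F76243 D96031 F350516
theorem F516367 : act 5 n222839 = n211819 := d21_6 (iv5 D51187) (iv1 F45824) (iv5 F85064) D117018 (iv1 F420317) D222839 (iv1 D211819) (iv5 D144132) (iv6 D67525) (iv1 F80754)
theorem F516368 : act 0 n211874 = n222839 := d21_4 (iv5 F395066) F506215 F506212 (iv6 F496348) (iv6 D222839) F420312 F404370 F404371 F413666 (iv1 D199155)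
def n222840 : Q := act 3 n201402
theorem D222840 : act 3 n201402 = n222840 := rfl
theorem F516369 : act 2 n222840 = n213705 := d0_1 D222840 F471713 (iv2 F450701) (iv3 F508027) F508026
theorem F516370 : act 4 n222840 = n201406 := d5_2 D201402 D222840 (iv3 D201406) (iv4 D114438) (iv3 F178467)
theorem F516371 : act 0 n222840 = n208698 := d20_4 F398401 F371540 D201402 D222840 (iv3 F451333) F451334 (iv1 D201337) (iv4 F420054) (iv3 D201333) (iv1 F398400)
theorem F516372 : act 0 n219993 = n222840 := d20_4 (iv4 D100441) D100439 D192598 D219993 (iv3 D222840) (iv4 D201402) (iv1 F371534) (iv4 F398396) (iv3 F398398) (iv1 D192601)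
def n222841 : Q := act 4 n201403
theorem D222841 : act 4 n201403 = n222841 := rfl
theorem F516373 : act 2 n222841 = n219043 := d1_1 D222841 F496854 (iv2 F420360)
theorem F516374 : act 3 n222841 = n221460 := d5_1 D222841 F509118 F508980 (iv4 D204889) (iv3 F420361)
theorem F516375 : act 5 n222841 = n202433 := d9_2 D201403 D222841 (iv4 F493039) (iv5 D218266) (iv4 D188887) F364518 D201614 F421150 (iv4 F481892) (iv5 F481894) (iv4 F493043) (iv5 D218268) (iv4 D188889) F143263 (iv4 F178470)
theorem F516376 : act 6 n222841 = n205051 := d10_2 (iv6 F420362) D222841 (iv4 D205051)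
theorem F516377 : act 7 n222841 = n215906 := d11_2 (iv7 F420363) D222841 (iv4 D215906)
theorem F516378 : act 0 n222841 = n215080 := d17_0 F478233 F492897 F492894 F481920 (iv5 F480806) (iv0 F480809) D218314 F493274 D222841
theorem F516379 : act 1 n222841 = n204848 := d18_6 (iv1 F334694) (iv4 F353307) (iv1 D114436) (iv4 F178470) D201403 D222841 F433832 F345556 F320068
def n222842 : Q := act 1 n201422
theorem D222842 : act 1 n201422 = n222842 := rfl
theorem F516380 : act 1 n222842 = n216361 := d15_1 D222842 (iv7 F492857) F492853
theorem F516381 : act 7 n222842 = n212871 := d15_2 (iv0 F420453) D222842 F467885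
theorem F516382 : act 5 n222842 = n207254 := d17_7 (iv1 D113393) (iv5 D52343) D52340 (iv5 F351739) D200639 (iv5 F420452) D222842 F444000 (iv4 D200735)
theorem F516383 : act 4 n222842 = n213505 := d17_9 F470733 (iv5 F449545) F449543 (iv5 F466240) (iv4 F489343) F489344 (iv0 F419024) (iv5 F420452) D222842
theorem F516384 : act 6 n211127 = n222842 := d21_3 (iv5 D140782) (iv1 F223836) D211127 (iv1 D222842) (iv6 D201422) (iv5 D114478) F162627 (iv5 F370578) F370580 F232065
theorem F516385 : act 2 n222842 = n207255 := d3_1 F516384 F460290 (iv2 F460287)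
theorem F516386 : act 3 n222842 = n201501 := d7_1 F516384 (iv6 F448599) (iv3 F460213)
def n222843 : Q := act 0 n201441
theorem D222843 : act 0 n201441 = n222843 := rfl
theorem F516387 : act 4 n222843 = n220183 := d18_1 D222843 F502522 (iv4 F499508) F489502 F468751 (iv0 F456766) F456765 (iv0 F428028) F428027
theorem F516388 : act 3 n222843 = n201537 := d20_5 F484070 D216378 (iv4 F484092) F428043 D222843 (iv4 F456765) F456766 (iv4 F468751) (iv3 F484088) (iv1 F484091)
theorem F516389 : act 6 n222843 = n201534 := d21_5 F178388 (iv1 F176821) (iv5 F178579) D201441 D222843 (iv5 D201534) F339321 (iv5 F178401) (iv6 D114377) D114374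
theorem F516390 : act 2 n201442 = n222843 := d15_3 (iv0 D222843) F420535 F420526
theorem F516391 : act 1 n201445 = n222843 := d15_0 (iv0 D222843) (iv7 F500999) F500996
theorem F516392 : act 7 n222843 = n201443 := d15_2 (iv0 F420534) F516391 F420528
def n222844 : Q := act 4 n201447
theorem D222844 : act 4 n201447 = n222844 := rfl
theorem F516393 : act 3 n222844 = n222791 := d5_1 D222844 F516099 (iv3 F516093) F516094 F507640
theorem F516394 : act 6 n222844 = n222698 := d10_2 F507635 D222844 F515634
theorem F516395 : act 7 n222844 = n222791 := d11_2 (iv7 F420539) D222844 F516099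
theorem F516396 : act 1 n222844 = n216371 := d18_6 (iv1 D127815) (iv4 F178588) F400607 (iv4 F400608) D201447 D222844 (iv4 D216371) (iv0 F439840) (iv5 D206233)
def n222845 : Q := act 4 n201448
theorem D222845 : act 4 n201448 = n222845 := rfl
theorem F516397 : act 2 n222845 = n222791 := d1_1 D222845 F516099 (iv2 F420540)
theorem F516398 : act 6 n222845 = n214421 := d10_2 (iv6 F420541) D222845 (iv4 D214421)
theorem F516399 : act 0 n222845 = n216371 := d18_2 F491733 D222845 (iv4 D216371) (iv5 D183161) (iv4 F284679) (iv0 F341313) (iv4 F421575) (iv0 F467931) F491734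
def n222846 : Q := act 4 n201450
theorem D222846 : act 4 n201450 = n222846 := rfl
theorem F516400 : act 2 n222846 = n222828 := d1_1 D222846 F516309 F421199
theorem F516401 : act 7 n222846 = n201724 := d11_2 (iv7 F420549) D222846 F421569
theorem F516402 : act 0 n222846 = n201745 := d18_2 (iv1 F420548) D222846 F421652 (iv5 D127816) (iv4 F178588) (iv0 F370803) F365247 F248619 (iv5 F375078)
theorem F516403 : act 1 n222846 = n217833 := d18_6 F439710 (iv4 F450274) F450276 (iv4 F420238) F420550 D222846 F490840 (iv0 F372172) (iv5 F439708)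
def n222847 : Q := act 5 n201451
theorem D222847 : act 5 n201451 = n222847 := rfl
theorem F516404 : act 0 n221482 = n222847 := d21_7 F83801 (iv1 D53094) D53096 D115071 D201812 (iv6 F516329) F516330 (iv5 D222847) F420552 F179149
def n222848 : Q := act 4 n201456
theorem D222848 : act 4 n201456 = n222848 := rfl
theorem F516405 : act 2 n222848 = n201532 := d1_1 D222848 (iv4 D201532) (iv2 F420570)
theorem F516406 : act 7 n222848 = n201536 := d11_2 (iv7 F420572) D222848 (iv4 D201536)
def n222849 : Q := act 5 n201461
theorem D222849 : act 5 n201461 = n222849 := rfl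
theorem F516407 : act 2 n222849 = n201543 := d2_1 D222849 (iv5 D201543) (iv2 F420597)
theorem F516408 : act 6 n222849 = n216218 := d12_2 (iv6 F420598) D222849 F485124 F481482 (iv5 D201464)
def n222850 : Q := act 5 n201463
theorem D222850 : act 5 n201463 = n222850 := rfl
theorem F516409 : act 3 n222850 = n201464 := d6_1 D222850 (iv5 D201464) D201463
theorem F516410 : act 7 n222850 = n203622 := d13_2 (iv7 F420605) D222850 F429107
theorem F516411 : act 6 n216693 = n222850 := d21_5 (iv5 F501474) F501473 (iv5 F480546) (iv6 F503935) F503937 (iv5 D222850) (iv1 F458945) (iv5 F501455) (iv6 D219973) (iv1 F498545)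
def n222851 : Q := act 5 n201488
theorem D222851 : act 5 n201488 = n222851 := rfl
theorem F516412 : act 2 n222851 = n214449 := d2_1 D222851 F475223 F420690
theorem F516413 : act 3 n222851 = n201489 := d6_1 D222851 (iv5 D201489) D201488
theorem F516414 : act 4 n222851 = n203385 := d9_1 D222851 F428113 (iv4 D192041) (iv5 D99549) F73532 D46538 D99567 F359929 (iv4 F475210) (iv5 F475212) (iv4 F484589) (iv5 D216480) (iv4 F293972) F335403 (iv4 F420687)
theorem F516415 : act 6 n222851 = n203368 := d12_2 (iv6 F420688) D222851 F428063 D203387 F428118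
theorem F516416 : act 7 n222851 = n203414 := d13_2 (iv7 F420689) D222851 F428192
theorem F516417 : act 0 n222851 = n214448 := d17_2 (iv1 F420692) D222851 F475218 F458241 (iv5 D191936) (iv0 F177414) (iv5 F385323) (iv0 F484578) F484575
theorem F516418 : act 1 n222851 = n214447 := d17_6 (iv1 D187574) (iv5 D90364) D90361 F335403 (iv4 F420687) D222851 F475214 (iv0 F458203) F433059
def n222852 : Q := act 6 n201489
theorem D222852 : act 6 n201489 = n222852 := rfl
theorem F516419 : act 3 n222852 = n203368 := d7_1 D222852 (iv6 F516415) F516413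
theorem F516420 : act 4 n222852 = n203615 := d10_1 D222852 (iv6 F429099) (iv4 F420694)
theorem F516421 : act 5 n222852 = n203386 := d12_1 D222852 (iv6 F428115) (iv5 F420682) F420681 D201489
theorem F516422 : act 0 n217519 = n222852 := d17_2 F450146 D217519 F516421 F428114 F412775 F231736 D154771 (iv0 F412828) F422744
def n222853 : Q := act 4 n201500
theorem D222853 : act 4 n201500 = n222853 := rfl
theorem F516423 : act 2 n222853 = n212872 := d1_1 D222853 (iv4 D212872) (iv2 F420747)
theorem F516424 : act 3 n222853 = n211175 := d5_1 D222853 (iv4 D211175) (iv3 F444558) (iv4 D207371) (iv3 F420746)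
theorem F516425 : act 7 n222853 = n210579 := d11_2 (iv7 F420744) D222853 F458110
theorem F516426 : act 5 n222853 = n221885 := d17_5 (iv1 D209116) (iv5 D135788) (iv1 F355296) F420745 D222853 (iv0 F512258) F512256 F448348 (iv4 F452336)
theorem F516427 : act 1 n222853 = n219771 := d18_6 (iv1 D135222) (iv4 F203556) F437594 F437592 F420745 D222853 F500544 (iv0 F451188) (iv5 D208871)
theorem F516428 : act 6 n222853 = n204549 := d21_5 (iv5 D194260) F177437 D192217 D219771 (iv1 F516427) (iv5 F499364) F499367 F450442 (iv6 D201505) (iv1 F392547)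
def n222854 : Q := act 6 n201500
theorem D222854 : act 6 n201500 = n222854 := rfl
theorem F516429 : act 2 n222854 = n212873 := d3_1 D222854 (iv6 D212873) (iv2 F420747)
theorem F516430 : act 3 n222854 = n207372 := d7_1 D222854 (iv6 D207372) (iv3 F420746)
theorem F516431 : act 4 n222854 = n204549 := d10_1 D222854 (iv6 F516428) (iv4 D222853)
theorem F516432 : act 5 n222854 = n218998 := d12_1 D222854 F496600 F451911 F443954 F420745
theorem F516433 : act 7 n222854 = n216365 := d14_2 (iv7 F420744) D222854 F484023 F420891 F420474
theorem F516434 : act 0 n222854 = n216364 := d21_10 (iv5 F484019) (iv1 D216360) F284749 (iv6 F416558) (iv1 D135790) (iv6 F218371) (iv5 D135788) (iv1 F355296) F420745 D222854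
theorem F516435 : act 0 n216363 = n222854 := d21_4 F420206 F356877 D201178 (iv6 F484015) (iv6 D222854) (iv5 F420745) F355295 (iv5 F451909) F451910 (iv1 F420662)
def n222855 : Q := act 4 n201520
theorem D222855 : act 4 n201520 = n222855 := rfl
theorem F516436 : act 2 n222855 = n210815 := d1_1 D222855 F458887 F420842
theorem F516437 : act 6 n222855 = n216116 := d10_2 (iv6 F420846) D222855 (iv4 D216116)
theorem F516438 : act 7 n222855 = n210790 := d11_2 (iv7 F420844) D222855 F458802
theorem F516439 : act 5 n222855 = n221882 := d17_5 (iv1 F363428) (iv5 D146315) D146313 (iv5 F420841) D222855 F511198 (iv5 D203237) F404556 F404554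
theorem F516440 : act 0 n222855 = n210801 := d18_2 D201520 D222855 (iv4 D210801) F318731 (iv4 F319324) F419444 F419439 (iv0 D114753) D114755
theorem F516441 : act 1 n222855 = n210800 := d18_6 (iv1 F278602) (iv4 F104081) D144976 (iv4 F334437) (iv5 F420841) D222855 (iv4 D210800) (iv0 D139818) F319628
theorem F516442 : act 3 n222855 = n221104 := d19_3 D146313 (iv5 F420841) D222855 (iv1 F507236) F415492 (iv4 D192307) F153974 D100056 (iv5 F153988) (iv4 F249721) F311716 (iv1 F274615) (iv5 F334629) (iv4 F374881) (iv3 F396300) F396302 F318943 F104825 (iv3 F104813)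
theorem F516443 : act 6 n221882 = n222572 := d12_2 (iv6 F516437) F516439 F514974 (iv6 D220412) (iv5 F483032)
def n222856 : Q := act 6 n201527
theorem D222856 : act 6 n201527 = n222856 := rfl
theorem F516444 : act 2 n222856 = n207244 := d3_1 D222856 F443943 F422145
theorem F516445 : act 3 n222856 = n201659 := d7_1 D222856 (iv6 D201659) F420867
theorem F516446 : act 4 n222856 = n217615 := d10_1 D222856 F508128 F508126
theorem F516447 : act 5 n222856 = n222771 := d12_1 D222856 F515994 (iv5 D201483) F356622 (iv5 F420866)
theorem F516448 : act 7 n222856 = n207245 := d14_2 F422155 D222856 (iv6 F443946) F426333 (iv6 F422158)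
theorem F516449 : act 0 n222856 = n207247 := d21_4 (iv5 F83945) D115226 (iv5 F420866) D222856 F443954 F420745 (iv1 F420742) (iv5 F362730) (iv6 D135862) (iv1 D63880)
theorem F516450 : act 0 n207243 = n222856 := d21_4 (iv5 F338625) (iv1 F335144) (iv5 F335150) D207243 (iv6 D222856) F420866 (iv1 F179442) F179303 F99143 (iv1 F203438)
def n222857 : Q := act 5 n201529
theorem D222857 : act 5 n201529 = n222857 := rfl
theorem F516451 : act 3 n222857 = n209403 := d6_1 D222857 (iv5 D209403) (iv3 F421486)
theorem F516452 : act 7 n222857 = n201543 := d13_2 (iv7 F420871) D222857 (iv5 D201543)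
theorem F516453 : act 0 n213412 = n222857 := d19_0 (iv5 D222857) (iv4 D201529) F178872 (iv1 F83769) (iv5 F87469) (iv4 F177782) (iv3 F374052) (iv1 F374054) (iv5 F371363) F371362 F307486 (iv1 F334627) F334629 F249607 F155422 (iv1 F309030) F309031 (iv4 F345161) D213412
def n222858 : Q := act 4 n201531
theorem D222858 : act 4 n201531 = n222858 := rfl
theorem F516454 : act 2 n222858 = n213095 := d1_1 D222858 F468988 F464037
theorem F516455 : act 6 n222858 = n209450 := d10_2 F474983 D222858 (iv4 F474981)
theorem F516456 : act 7 n222858 = n204190 := d11_2 (iv7 F420877) D222858 F431418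
theorem F516457 : act 0 n222858 = n204544 := d18_2 (iv1 F420876) D222858 (iv4 F516169) (iv5 D222803) F419439 (iv0 D114753) F83690 D52971 D114797
theorem F516458 : act 3 n222858 = n209453 := d20_3 (iv4 D201536) (iv1 F420876) D222858 (iv1 F502313) F502315 D220175 F502483 F388621 F463999 F463997
def n222859 : Q := act 5 n201532
theorem D222859 : act 5 n201532 = n222859 := rfl
theorem F516459 : act 3 n222859 = n219831 := d6_1 D222859 F500794 (iv3 F493478)
theorem F516460 : act 4 n222859 = n214140 := d16_2 D201532 D222859 (iv5 D214140) (iv4 D156662) (iv5 F333647) (iv4 D114796) D114797 (iv7 F420572) F420570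
theorem F516461 : act 6 n219830 = n222859 := d10_0 F516460 (iv6 F507068) F507070
def n222860 : Q := act 6 n201532
theorem D222860 : act 6 n201532 = n222860 := rfl
theorem F516462 : act 4 n222860 = n201533 := d10_1 D222860 (iv6 D201533) D201532
theorem F516463 : act 0 n207007 = n222860 := d18_0 F516462 (iv1 F452048) F452045 (iv5 D204179) D204178 (iv0 F431361) (iv4 F419415) (iv0 F419417) D207007
def n222861 : Q := act 5 n201535
theorem D222861 : act 5 n201535 = n222861 := rfl
theorem F516464 : act 2 n222861 = n213032 := d2_1 D222861 (iv5 D213032) (iv2 F420884)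
theorem F516465 : act 3 n222861 = n201538 := d6_1 D222861 (iv5 D201538) (iv3 F420885)
theorem F516466 : act 4 n222861 = n213089 := d9_1 D222861 F468954 (iv4 D199595) F365188 D111560 (iv5 F402973) F402972 D207256 (iv4 F468959) (iv5 F468961) (iv4 D199597) F403537 F323986 D180579 (iv4 F420886)
theorem F516467 : act 7 n222861 = n202241 := d13_2 (iv7 F420887) D222861 F423367
theorem F516468 : act 0 n222861 = n215044 := d17_2 (iv1 F430354) D222861 (iv5 D215044) (iv4 F347800) (iv5 D111550) D111548 (iv5 F342074) (iv0 F468926) F468922
theorem F516469 : act 1 n222861 = n203340 := d17_6 (iv1 F321178) (iv5 F341252) (iv1 F336505) D180579 (iv4 F420886) D222861 (iv5 D203340) F290484 F321306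
def n222862 : Q := act 5 n201536
theorem D222862 : act 5 n201536 = n222862 := rfl
theorem F516470 : act 4 n222862 = n221846 := d9_1 D222862 (iv5 D221846) F404122 F315152 (iv4 D114791) D114792 D201532 D222859 F516460 (iv5 D214140) (iv4 D156662) (iv5 F333647) (iv4 D114796) D114797 D201536
theorem F516471 : act 6 n222862 = n219520 := d12_2 (iv6 F456768) D222862 (iv5 D219520) (iv6 F384002) D210258
def n222863 : Q := act 5 n201539
theorem D222863 : act 5 n201539 = n222863 := rfl
theorem F516472 : act 3 n222863 = n217939 := d6_1 D222863 F491344 F454175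
def n222864 : Q := act 5 n201541
theorem D222864 : act 5 n201541 = n222864 := rfl
theorem F516473 : act 3 n222864 = n213263 := d6_1 D222864 F469616 F420897
theorem F516474 : act 4 n222864 = n221882 := d9_1 D222864 (iv5 F516439) (iv4 D222855) F420841 F334437 F355317 (iv4 F375399) D218307 F493229 (iv5 D212198) F228557 D145511 F356608 F356611 (iv4 F420896)
theorem F516475 : act 6 n222864 = n216191 := d12_2 F434950 D222864 (iv5 F502735) F502736 (iv5 F434948)
theorem F516476 : act 7 n222864 = n213420 := d13_2 (iv7 F420895) D222864 F470303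
def n222865 : Q := act 5 n201542
theorem D222865 : act 5 n201542 = n222865 := rfl
theorem F516477 : act 2 n222865 = n209402 := d2_1 D222865 (iv5 D209402) (iv2 F421489)
theorem F516478 : act 3 n222865 = n201543 := d6_1 D222865 (iv5 D201543) D201542
theorem F516479 : act 7 n222865 = n209403 := d13_2 (iv7 F421487) D222865 (iv5 D209403)
theorem F516480 : act 1 n222865 = n220887 := d17_8 F489910 F478877 F442848 (iv5 F487979) F487978 F368840 F420901 D222865 F506079
def n222866 : Q := act 0 n201543
theorem D222866 : act 0 n201543 = n222866 := rfl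
theorem F516481 : act 5 n222866 = n204544 := d17_1 D222866 F475610 (iv5 F511028) (iv4 D221847) (iv5 D197394) (iv0 F361408) D214140 F473679 F458867
theorem F516482 : act 4 n222866 = n222569 := d18_3 F511025 F458867 D222866 F514966 (iv4 D213354) (iv0 D153568) (iv4 F228090) F404125 D221846
theorem F516483 : act 6 n222866 = n204434 := d21_5 F470301 F420952 (iv5 F485165) (iv6 F485168) D222866 F432520 F415470 (iv5 F510822) (iv6 F510826) F485389
theorem F516484 : act 2 n213412 = n222866 := d15_3 (iv0 D222866) (iv0 F502794) F502793
theorem F516485 : act 3 n222866 = n204436 := d0_2 D213412 F516484 (iv2 F458158) (iv3 F469858) (iv2 F469856)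
def n222867 : Q := act 3 n201544
theorem D222867 : act 3 n201544 = n222867 := rfl
theorem F516486 : act 2 n222867 = n217935 := d0_1 D222867 (iv3 D217935) (iv2 F384363) F384364 (iv2 F420902)
theorem F516487 : act 4 n222867 = n201546 := d5_2 D201544 D222867 (iv3 D201546) (iv4 D114803) (iv3 F178877)
theorem F516488 : act 6 n222867 = n213294 := d7_2 (iv6 F420906) D222867 (iv3 D213294)
theorem F516489 : act 7 n222867 = n218087 := d8_2 (iv7 F420903) D222867 (iv3 D218087)
theorem F516490 : act 0 n222867 = n217792 := d19_4 F163348 D114802 D201544 D222867 F490653 (iv4 F483436) D217657 F489965 F383485 (iv4 F421645) (iv3 D201744) (iv1 D115038) (iv5 F83790) (iv4 D53091) (iv3 F83013) (iv1 F143178) (iv5 F143179) (iv4 F83456) (iv3 F163344)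
theorem F516491 : act 0 n216349 = n222867 := d20_4 F491564 (iv1 F493163) F493159 F486483 (iv3 D222867) (iv4 D201544) F178878 D187802 D217712 F491567
def n222868 : Q := act 5 n201546
theorem D222868 : act 5 n201546 = n222868 := rfl
theorem F516492 : act 2 n222868 = n214444 := d2_1 D222868 F475208 (iv2 F420913)
theorem F516493 : act 3 n222868 = n201547 := d6_1 D222868 (iv5 D201547) D201546
theorem F516494 : act 6 n222868 = n213648 := d12_2 (iv6 F454150) D222868 F471440 (iv6 F314605) D209563
theorem F516495 : act 4 n222868 = n218150 := d17_4 (iv1 F489270) (iv5 F489632) F489630 D222868 F492381 (iv0 D191824) F370445 F370444 (iv4 F392117)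
def n222869 : Q := act 6 n201547
theorem D222869 : act 6 n201547 = n222869 := rfl
theorem F516496 : act 2 n222869 = n203413 := d3_1 D222869 F469051 (iv2 F469048)
theorem F516497 : act 3 n222869 = n213648 := d7_1 D222869 (iv6 F516494) F516493
theorem F516498 : act 4 n222869 = n203621 := d10_1 D222869 (iv6 D203621) (iv4 F420915)
theorem F516499 : act 5 n222869 = n214436 := d12_1 D222869 F475173 F435053 (iv6 D201548) D201547
theorem F516500 : act 0 n222869 = n219452 := d21_4 (iv5 D213042) F239374 D201547 D222869 (iv6 D219452) F383590 (iv1 F340213) D215759 F481448 F469005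
theorem F516501 : act 0 n219779 = n222869 := d21_4 (iv5 D99927) F153858 (iv5 F386168) D219779 (iv6 D222869) (iv5 D201547) (iv1 F239380) D213045 F468758 (iv1 F386154)
theorem F516502 : act 7 n219793 = n222869 := d8_0 F516497 (iv7 F485650) F500652
def n222870 : Q := act 6 n201557
theorem D222870 : act 6 n201557 = n222870 := rfl
theorem F516503 : act 2 n222870 = n216359 := d3_1 D222870 (iv6 F483998) F431427
theorem F516504 : act 3 n222870 = n201782 := d7_1 D222870 (iv6 D201782) (iv3 F421784)
theorem F516505 : act 4 n222870 = n208418 := d10_1 D222870 F449269 (iv4 F420938)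
theorem F516506 : act 5 n222870 = n215001 := d12_1 D222870 (iv6 D215001) (iv5 D164231) (iv6 F258850) F420939
theorem F516507 : act 7 n222870 = n216360 := d14_2 F431436 D222870 (iv6 F484001) (iv7 F453554) F453553
theorem F516508 : act 0 n222870 = n216161 := d21_4 F500563 (iv1 D215000) F420939 D222870 F483242 (iv5 D213032) (iv1 F448052) (iv5 F448056) F431400 (iv1 F500565)
theorem F516509 : act 0 n207372 = n222870 := d21_4 (iv5 D205709) (iv1 F203475) D130953 D207372 (iv6 D222870) (iv5 F420939) F452305 (iv5 F501686) F501687 (iv1 F437516)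
def n222871 : Q := act 4 n201564
theorem D222871 : act 4 n201564 = n222871 := rfl
theorem F516510 : act 2 n222871 = n209360 := d1_1 D222871 (iv4 F467413) F467408
theorem F516511 : act 3 n222871 = n220132 := d5_1 D222871 F502292 (iv3 F501679) F501680 F422884
theorem F516512 : act 6 n222871 = n201839 := d10_2 F422885 D222871 F422000
theorem F516513 : act 7 n222871 = n220131 := d11_2 F501856 D222871 F502288
theorem F516514 : act 5 n222871 = n212618 := d16_1 D222871 F466724 D212620 (iv4 F469578) (iv5 F503996) F503995 (iv5 F458930) (iv7 F467410) F467408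
theorem F516515 : act 1 n222871 = n207722 := d18_6 F428978 (iv4 F423475) F467234 (iv4 F390287) (iv5 F422883) D222871 (iv4 F460704) (iv0 F516139) F516138
def n222872 : Q := act 4 n201565
theorem D222872 : act 4 n201565 = n222872 := rfl
theorem F516516 : act 2 n222872 = n220131 := d1_1 D222872 F502288 F501853
theorem F516517 : act 5 n222872 = n220130 := d9_2 (iv5 F458930) D222872 F502281 D221929 (iv4 F511449) (iv5 D209836) (iv4 F390287) (iv5 F422883) D222871 F516514 F466724 D212620 (iv4 F469578) (iv5 F503996) F503995
theorem F516518 : act 7 n222872 = n209360 := d11_2 F467410 D222872 (iv4 F467413)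
theorem F516519 : act 0 n222872 = n207722 := d20_1 D222872 (iv4 F460704) F460703 (iv1 F224276) D210634 (iv4 F501522) F501523 F458944 (iv3 F458924) (iv1 F458929)
theorem F516520 : act 3 n222872 = n214468 := d20_3 (iv4 F458925) (iv1 F458929) D222872 (iv1 F475309) F398575 F387665 (iv1 F387668) (iv4 F421838) (iv3 D201802) (iv1 F419302)
def n222873 : Q := act 5 n201566
theorem D222873 : act 5 n201566 = n222873 := rfl
theorem F516521 : act 2 n222873 = n201567 := d2_1 D222873 (iv5 D201567) D201566
theorem F516522 : act 6 n222873 = n220399 := d12_2 F421490 D222873 (iv5 F503592) F488050 (iv5 D209402)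
theorem F516523 : act 7 n222873 = n209487 := d13_2 F458926 D222873 F458927
theorem F516524 : act 0 n222873 = n202126 := d17_2 (iv1 F501858) D222873 F422983 F179702 D132555 F442597 (iv5 F445856) (iv0 F502290) F502288
theorem F516525 : act 1 n222873 = n209489 := d17_6 F475092 (iv5 D214417) (iv1 F421854) (iv5 D201807) (iv4 F420948) D222873 F453902 (iv0 F388377) F388376
def n222874 : Q := act 4 n201567
theorem D222874 : act 4 n201567 = n222874 := rfl
theorem F516526 : act 3 n222874 = n213178 := d5_1 D222874 (iv4 D213178) F239987 (iv4 F178883) (iv3 F420949)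
theorem F516527 : act 0 n209548 = n213178 := d20_4 (iv4 D137015) F111428 D136595 D209548 (iv3 F516526) (iv4 D222874) F420950 D209488 (iv3 F455025) F455028
theorem F516528 : act 6 n220554 = n222874 := d7_0 F516526 F469344 D220554
def n222875 : Q := act 6 n201567
theorem D222875 : act 6 n201567 = n222875 := rfl
theorem F516529 : act 2 n222875 = n220399 := d3_1 D222875 (iv6 F516522) F516521
theorem F516530 : act 3 n222875 = n201568 := d7_1 D222875 (iv6 D201568) (iv3 F420949)
theorem F516531 : act 4 n222875 = n220554 := d10_1 D222875 F516528 (iv4 D222874)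
theorem F516532 : act 7 n222875 = n216692 := d14_2 F516002 D222875 F485491 (iv7 F498505) (iv6 F516001)
theorem F516533 : act 0 n222875 = n220400 := d21_4 (iv5 F458930) (iv1 D201565) D201567 D222875 F503597 F454970 (iv1 F456186) F456183 (iv6 F502413) (iv1 F502414)
theorem F516534 : act 0 n220117 = n222875 := d21_4 (iv5 F467165) (iv1 F467167) F388328 D220117 (iv6 D222875) (iv5 D201567) D201564 F422883 (iv6 D193561) D193558
def n222876 : Q := act 4 n201575
theorem D222876 : act 4 n201575 = n222876 := rfl
theorem F516535 : act 2 n222876 = n215611 := d1_1 D222876 (iv4 D215611) (iv2 F420985)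
theorem F516536 : act 3 n222876 = n212096 := d5_1 D222876 (iv4 D212096) D212095 F478933 F478936
theorem F516537 : act 5 n222876 = n218995 := d9_2 F420983 D222876 F496588 (iv5 D201218) (iv4 D114134) D114135 F347651 (iv5 F420977) (iv4 F512794) F512795 F496581 (iv5 D201223) (iv4 D114139) D114140 (iv4 F347664)
theorem F516538 : act 6 n222876 = n213649 := d10_2 F420984 D222876 F471446
theorem F516539 : act 7 n222876 = n215610 := d11_2 (iv7 F420982) D222876 (iv4 D215610)
theorem F516540 : act 0 n222876 = n222811 := d18_2 F438257 D222876 (iv4 D222811) (iv5 D201227) (iv4 D114144) D114143 F353811 F353788 (iv5 F438255)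
theorem F516541 : act 1 n222876 = n209635 := d18_6 (iv1 D147844) (iv4 F231611) (iv1 F347666) (iv4 F347664) F420983 D222876 F454411 F352357 (iv5 F332128)
def n222877 : Q := act 0 n201580
theorem D222877 : act 0 n201580 = n222877 := rfl
theorem F516542 : act 5 n222877 = n222804 := d17_1 D222877 (iv1 D222804) (iv5 D201208) F347667 (iv5 F267965) F364022 D176083 F353803 D201580
theorem F516543 : act 4 n222877 = n214476 := d18_1 D222877 (iv1 F475353) (iv4 F432696) (iv5 D204490) D204489 F516195 F516193 (iv0 F419469) F421010
theorem F516544 : act 3 n222877 = n217509 := d20_5 F339649 F480801 F480798 F421009 D222877 F489236 (iv1 F376322) D189287 (iv3 F432385) (iv1 F432389)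
theorem F516545 : act 6 n222877 = n217510 := d21_5 (iv5 F380672) (iv1 D190702) (iv5 F369426) (iv6 F421008) D222877 F489243 (iv1 F383511) (iv5 F398443) F421257 (iv1 F421255)
theorem F516546 : act 1 n201582 = n222877 := d15_0 (iv0 D222877) (iv7 F516174) F516171
theorem F516547 : act 7 n222877 = n214475 := d15_2 (iv0 F470704) F516546 F475347
theorem F516548 : act 3 n214520 = n222804 := d6_3 (iv5 F516542) F516544 F489235
def n222878 : Q := act 1 n201594
theorem D222878 : act 1 n201594 = n222878 := rfl
theorem F516549 : act 1 n222878 = n201596 := d15_1 D222878 F421085 (iv2 F421076)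
theorem F516550 : act 7 n222878 = n201600 := d15_2 (iv0 F421507) D222878 (iv2 F421504)
theorem F516551 : act 5 n222878 = n203913 := d17_7 F360235 (iv5 D103131) (iv1 F317657) D146097 (iv4 F332531) D201594 D222878 (iv0 F430369) F421127
theorem F516552 : act 4 n222878 = n218350 := d17_9 (iv1 F493452) F375829 (iv1 D139108) D139109 (iv4 F363432) F178962 F178955 D201594 D222878
theorem F516553 : act 6 n203313 = n222878 := d21_3 F427965 (iv1 F421197) F427828 (iv1 D222878) (iv6 F504552) (iv5 D220600) F391657 (iv5 F427983) (iv6 D203346) (iv1 F427963)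
theorem F516554 : act 2 n222878 = n201601 := d3_1 F516553 F421194 (iv2 F427829)
theorem F516555 : act 3 n222878 = n212032 := d7_1 F516553 F464039 F427827
def n222879 : Q := act 3 n201598
theorem D222879 : act 3 n201598 = n222879 := rfl
theorem F516556 : act 4 n222879 = n210858 := d5_2 D201598 D222879 F459045 (iv4 D201461) (iv3 F178950)
theorem F516557 : act 5 n222879 = n203390 := d6_2 (iv5 F421093) D222879 F428123
theorem F516558 : act 6 n222879 = n203352 := d7_2 (iv6 F421094) D222879 (iv3 D203352)
theorem F516559 : act 7 n222879 = n210854 := d8_2 F457637 D222879 F459032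
theorem F516560 : act 0 n222879 = n219995 := d20_10 F501564 F387210 (iv4 F460540) F460539 F409144 (iv3 F450866) F450867 (iv1 D201597) D201598 D222879
theorem F516561 : act 0 n209202 = n222879 := d20_4 D136569 (iv1 F452707) (iv4 D209204) (iv3 F452699) (iv3 D222879) (iv4 D201598) F370716 (iv4 F453959) (iv3 D209508) (iv1 D136568)
def n222880 : Q := act 0 n201612
theorem D222880 : act 0 n201612 = n222880 := rfl
theorem F516562 : act 5 n222880 = n209770 := d17_1 D222880 (iv1 F454891) (iv5 D203125) (iv4 F427057) (iv5 F499233) (iv0 F499234) (iv5 F455985) (iv0 D201646) (iv4 F421137)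
theorem F516563 : act 3 n222880 = n209773 := d20_5 (iv4 F421129) (iv1 D114883) D114884 D201612 D222880 (iv4 F494782) F494785 (iv4 F516184) (iv3 F516185) F454110
theorem F516564 : act 7 n209769 = n222880 := d8_0 F516563 (iv7 D209773) (iv3 F454882)
def n222881 : Q := act 2 n201612
theorem D222881 : act 2 n201612 = n222881 := rfl
theorem F516565 : act 4 n222881 = n201648 := d1_2 (iv4 F421137) D222881 (iv2 D201648)
theorem F516566 : act 6 n222881 = n214389 := d3_2 (iv6 F421138) D222881 (iv2 D214389)
theorem F516567 : act 1 n222881 = n209769 := d15_0 (iv0 F457683) (iv7 F457685) D222881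
def n222882 : Q := act 3 n201621
theorem D222882 : act 3 n201621 = n222882 := rfl
theorem F516568 : act 4 n222882 = n221299 := d5_2 (iv4 F421169) D222882 F508239 F398715 F359296
theorem F516569 : act 5 n222882 = n217625 := d6_2 F446933 D222882 (iv3 F489840)
theorem F516570 : act 6 n222882 = n219535 := d7_2 (iv6 F421722) D222882 F499313
theorem F516571 : act 7 n222882 = n221593 := d8_2 (iv7 F421168) D222882 F509762
theorem F516572 : act 0 n222882 = n212412 := d19_4 F178190 (iv5 F251109) (iv4 F421169) D222882 (iv5 D212412) (iv4 D146888) (iv3 F142375) (iv1 F68182) F65314 F31799 (iv3 F31788) F66560 F291031 (iv4 F33495) (iv3 F70213) D95634 D190114 F378888 F369122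
theorem F516573 : act 0 n212416 = n222882 := d20_4 (iv4 F219492) D209378 (iv4 F453471) (iv3 F465707) (iv3 D222882) F421169 (iv1 D159465) D159466 F442418 (iv1 D206853)
def n222883 : Q := act 1 n201622
theorem D222883 : act 1 n201622 = n222883 := rfl
theorem F516574 : act 1 n222883 = n201635 := d15_1 D222883 (iv7 F421523) F421522
theorem F516575 : act 7 n222883 = n214492 := d15_2 F466920 D222883 F475432
theorem F516576 : act 5 n222883 = n214493 := d17_7 (iv1 F328382) (iv5 F398571) (iv1 F398573) D214465 (iv4 F490215) F490216 D222883 F475442 F453320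
theorem F516577 : act 4 n222883 = n214454 := d17_9 (iv1 D214454) F352123 D208151 F448130 F460301 F475363 (iv0 F490217) F490216 D222883
theorem F516578 : act 6 n222758 = n222883 := d21_3 (iv5 F507856) F507855 (iv5 F515923) (iv1 D222883) (iv6 D201622) (iv5 F419207) F419209 (iv5 F398433) (iv6 F475323) (iv1 F475324)
def n222884 : Q := act 7 n201622
theorem D222884 : act 7 n201622 = n222884 := rfl
theorem F516579 : act 2 n222884 = n201635 := d4_1 D222884 (iv7 F421523) F421522
theorem F516580 : act 3 n222884 = n220952 := d8_1 D222884 F506453 (iv3 F421170)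
theorem F516581 : act 4 n222884 = n201625 := d11_1 D222884 (iv7 D201625) (iv4 F421171)
theorem F516582 : act 5 n222884 = n220951 := d13_1 D222884 (iv7 F506450) F490216
theorem F516583 : act 6 n222884 = n222846 := d14_1 D222884 F516401 (iv6 D201724) F179122 D201622
theorem F516584 : act 0 n214492 = n222884 := d17_2 F421802 D214492 F516582 F506448 F448130 (iv0 D195873) F163527 (iv0 F395851) D200928
def n222885 : Q := act 0 n201628
theorem D222885 : act 0 n201628 = n222885 := rfl
theorem F516585 : act 4 n222885 = n217237 := d18_1 D222885 (iv1 D217237) (iv4 F468052) (iv5 D212905) (iv4 D151335) (iv0 D71323) (iv4 F107830) (iv0 F340893) D201628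
theorem F516586 : act 1 n212900 = n222885 := d15_0 (iv0 D222885) (iv7 F421492) (iv2 F468029)
def n222886 : Q := act 4 n201628
theorem D222886 : act 4 n201628 = n222886 := rfl
theorem F516587 : act 3 n222886 = n208531 := d5_1 D222886 (iv4 F486948) F486947 (iv4 F397812) (iv3 F421184)
theorem F516588 : act 6 n222886 = n217900 := d10_2 (iv6 F490667) D222886 F491163
theorem F516589 : act 7 n222886 = n209748 := d11_2 F421492 D222886 (iv4 F454832)
theorem F516590 : act 5 n222886 = n209749 := d16_1 D222886 F454834 (iv5 F452316) F452317 (iv5 D151523) (iv4 F348665) D212900 F468031 F431082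
theorem F516591 : act 1 n222886 = n211645 := d18_6 (iv1 F357215) F357208 (iv1 D114898) D114900 D201628 D222886 (iv4 F468342) F468344 (iv5 D212936)
def n222887 : Q := act 5 n201629
theorem D222887 : act 5 n201629 = n222887 := rfl
theorem F516592 : act 2 n222887 = n217747 := d2_1 D222887 F490442 F431083
theorem F516593 : act 3 n222887 = n210530 := d6_1 D222887 F457942 (iv3 F421185)
theorem F516594 : act 6 n222887 = n217546 := d12_2 D201629 D222887 (iv5 F490666) (iv6 F490667) (iv5 D201628)
theorem F516595 : act 7 n222887 = n221712 := d13_2 F448782 D222887 F510448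
theorem F516596 : act 4 n222887 = n212038 := d16_2 (iv4 F421186) D222887 (iv5 D212038) (iv4 F347732) D203334 F490432 F490430 F475833 F421181
theorem F516597 : act 1 n222887 = n222816 := d17_6 D118702 (iv5 F371712) F420496 F420495 (iv4 F421186) D222887 (iv5 D222816) (iv0 F419900) F186700
def n222888 : Q := act 5 n201630
theorem D222888 : act 5 n201630 = n222888 := rfl
theorem F516598 : act 2 n222888 = n209745 := d2_1 D222888 (iv5 F493131) F493128
theorem F516599 : act 3 n222888 = n212890 := d6_1 D222888 F467974 F421549
theorem F516600 : act 6 n222888 = n209741 := d12_2 (iv6 F492920) D222888 F454813 D212888 (iv5 F492914)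
theorem F516601 : act 7 n222888 = n214501 := d13_2 F421501 D222888 F475490
theorem F516602 : act 0 n222888 = n207249 := d17_2 F506653 D222888 (iv5 F443964) (iv4 D151345) (iv5 D71325) D71324 D151341 F465242 (iv4 F506651)
theorem F516603 : act 1 n222888 = n201679 := d17_6 (iv1 F238400) (iv5 F335499) (iv1 D114898) D114901 D201630 D222888 F421348 (iv0 F366684) F360960
theorem F516604 : act 4 n209742 = n222888 := d16_0 (iv5 D222888) (iv4 D201630) (iv5 D114901) D114900 D201628 D222886 F516590 (iv7 D209749) (iv2 F454816)
def n222889 : Q := act 5 n201636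
theorem D222889 : act 5 n201636 = n222889 := rfl
theorem F516605 : act 2 n222889 = n222458 := d2_1 D222889 F514322 F421568
theorem F516606 : act 6 n222889 = n212121 := d12_2 D201636 D222889 (iv5 F508443) F508441 F419200
theorem F516607 : act 4 n222889 = n203699 := d16_2 (iv4 F421198) D222889 F429448 F253099 (iv5 F248827) (iv4 F420238) F420550 F420549 F179123
def n222890 : Q := act 2 n201644
theorem D222890 : act 2 n201644 = n222890 := rfl
theorem F516608 : act 3 n222890 = n220147 := d0_2 D201644 D222890 (iv2 F502361) (iv3 D201729) (iv2 F193513)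
theorem F516609 : act 4 n222890 = n218057 := d1_2 F489544 D222890 F491938
theorem F516610 : act 5 n222890 = n207922 := d2_2 (iv5 F443199) D222890 F447001
theorem F516611 : act 6 n222890 = n222797 := d3_2 F489535 D222890 F516128
theorem F516612 : act 0 n222890 = n206786 := d21_4 F492997 F492996 (iv5 F516129) (iv6 F516611) F442186 (iv5 D206695) D206693 (iv5 F490744) (iv6 D217810) D217808
def n222891 : Q := act 0 n201646
theorem D222891 : act 0 n201646 = n222891 := rfl
theorem F516613 : act 3 n222891 = n209334 := d20_5 D207908 (iv1 F506796) (iv4 D221012) F455986 D222891 (iv4 F453286) (iv1 D207717) F211888 (iv3 F211876) (iv1 F361177)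
theorem F516614 : act 5 n222891 = n208945 := d21_2 (iv5 F455985) D222891 (iv6 D208945) (iv1 F217838) D208691 F450465 F438601 D207789 (iv6 F499256) (iv1 F499257)
theorem F516615 : act 2 n201650 = n222891 := d15_3 (iv0 D222891) (iv0 D201646) D201650
theorem F516616 : act 7 n222891 = n201648 := d4_2 D201650 F516615 (iv2 D201648)
theorem F516617 : act 1 n201647 = n222891 := d15_1 D201647 F516616 (iv2 D201648)
def n222892 : Q := act 2 n201646
theorem D222892 : act 2 n201646 = n222892 := rfl
theorem F516618 : act 3 n222892 = n221701 := d0_2 F455986 D222892 F510375 F441483 (iv2 F396488)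
theorem F516619 : act 5 n222892 = n219517 := d2_2 (iv5 F455985) D222892 F499252
theorem F516620 : act 6 n222892 = n220143 := d3_2 F499235 D222892 (iv2 F502341)
theorem F516621 : act 7 n201647 = n222892 := d15_2 (iv0 D201646) D201647 (iv2 D222892)
theorem F516622 : act 0 n201648 = n222892 := d21_4 (iv5 D201804) (iv1 F419302) F419300 (iv6 F421230) F516620 F502340 F489460 F490186 F490185 F421885
theorem F516623 : act 0 n222892 = n201650 := d21_10 F450459 F450461 (iv5 F486994) (iv6 D217014) D217011 (iv6 F501624) (iv5 F501627) (iv1 F489459) (iv5 F502340) (iv6 F516620)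
def n222893 : Q := act 4 n201646
theorem D222893 : act 4 n201646 = n222893 := rfl
theorem F516624 : act 3 n222893 = n218339 := d5_1 D222893 F493396 (iv3 F506797) (iv4 D221012) F455986
theorem F516625 : act 6 n222893 = n221270 := d10_2 F499235 D222893 F508075
theorem F516626 : act 5 n209674 = n222893 := d19_1 D209674 (iv4 D222893) (iv3 F455986) F396489 (iv5 D132387) F96821 (iv3 F96388) F329060 D204289 F431886 (iv3 F345431) D198049 F406592 (iv4 F222469) (iv3 F403922) F408803 F408800 F175578 D136809
theorem F516627 : act 7 n222893 = n218337 := d13_2 F503470 F516626 F493386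
theorem F516628 : act 0 n209681 = n222893 := d19_0 (iv5 F516626) (iv4 F514980) (iv3 D222575) (iv1 D200205) (iv5 F415500) (iv4 F504505) F504503 F391539 F288579 F137347 (iv3 F157089) F385935 D144153 D211841 (iv3 F512449) F512452 (iv5 F454610) (iv4 D209682) D209681
def n222894 : Q := act 7 n201646
theorem D222894 : act 7 n201646 = n222894 := rfl
theorem F516629 : act 2 n222894 = n201647 := d4_1 D222894 F516621 (iv2 D222892)
theorem F516630 : act 3 n222894 = n206685 := d8_1 D222894 (iv7 F441867) F455986
theorem F516631 : act 4 n222894 = n218337 := d11_1 D222894 (iv7 F516627) (iv4 D222893)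
theorem F516632 : act 5 n222894 = n207910 := d13_1 D222894 F446960 (iv5 F455985)
theorem F516633 : act 6 n222894 = n206821 := d14_1 D222894 F442318 (iv6 F475084) (iv7 F499237) F499235
theorem F516634 : act 1 n201648 = n222894 := d15_1 (iv0 F516622) (iv7 D222894) D222892
theorem F516635 : act 1 n222894 = n201650 := d15_1 F516634 (iv7 D201650) D201648
def n222895 : Q := act 4 n201647
theorem D222895 : act 4 n201647 = n222895 := rfl
theorem F516636 : act 2 n222895 = n218337 := d1_1 D222895 (iv4 F516631) F516629
theorem F516637 : act 6 n222895 = n218336 := d10_2 F492378 D222895 F493380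
theorem F516638 : act 5 n222895 = n205935 := d17_5 F486992 (iv5 F499233) F506407 F506408 D222895 F512793 F512789 (iv0 F465768) (iv4 F486991)
theorem F516639 : act 0 n222895 = n209681 := d21_1 (iv5 F516638) F454607 F452553 F391550 (iv6 D193967) F349490 (iv1 F349450) D203018 (iv6 F512790) (iv1 F512793)
def n222896 : Q := act 5 n201648
theorem D222896 : act 5 n201648 = n222896 := rfl
theorem F516640 : act 2 n222896 = n201649 := d2_1 D222896 (iv5 D201649) D201648
theorem F516641 : act 6 n222896 = n208325 := d12_2 (iv6 F421230) D222896 (iv5 F458918) (iv6 F458921) F419300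
theorem F516642 : act 7 n222896 = n208945 := d13_2 F516616 D222896 (iv5 F516614)
theorem F516643 : act 4 n222896 = n210188 := d17_4 F448659 (iv5 F516632) (iv1 F516634) D222896 F486900 (iv0 F499263) (iv5 D219520) (iv0 D191636) (iv4 F383990)
theorem F516644 : act 0 n206682 = n222896 := d21_1 F486994 (iv5 D222896) F421230 (iv1 F421861) (iv6 F446387) (iv5 D207776) (iv1 F212117) D132318 D207788 (iv1 F486993)
def n222897 : Q := act 6 n201650
theorem D222897 : act 6 n201650 = n222897 := rfl
theorem F516645 : act 3 n222897 = n201651 := d7_1 D222897 (iv6 D201651) (iv3 F421232)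
theorem F516646 : act 4 n222897 = n217598 := d10_1 D222897 F489711 (iv4 F457684)
theorem F516647 : act 5 n222897 = n212649 := d12_1 D222897 (iv6 F466876) F437372 D208690 (iv5 F450459)
theorem F516648 : act 7 n222897 = n201811 := d14_2 D201650 D222897 (iv6 D201811) F179173 (iv6 F179006)
theorem F516649 : act 0 n222398 = n222897 := d21_4 (iv5 F499755) (iv1 F499756) (iv5 F498029) F514002 (iv6 D222897) F450459 F450461 (iv5 F486994) (iv6 D217014) D217011
theorem F516650 : act 1 n222733 = n222897 := d15_0 (iv0 F516649) F514001 (iv2 F515801)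
def n222898 : Q := act 3 n201670
theorem D222898 : act 3 n201670 = n222898 := rfl
theorem F516651 : act 4 n222898 = n201674 := d5_2 D201670 D222898 (iv3 D201674) (iv4 D114949) (iv3 F179023)
theorem F516652 : act 5 n222898 = n218820 := d6_2 (iv5 F475714) D222898 (iv3 D218820)
def n222899 : Q := act 2 n201674
theorem D222899 : act 2 n201674 = n222899 := rfl
theorem F516653 : act 3 n222899 = n207680 := d0_2 D201674 D222899 (iv2 F445981) (iv3 F442418) F251113
theorem F516654 : act 5 n222899 = n206785 := d2_2 F446706 D222899 (iv2 F446710)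
theorem F516655 : act 6 n222899 = n212405 := d3_2 (iv6 F490037) D222899 (iv2 F490034)
theorem F516656 : act 1 n222899 = n222302 := d15_0 (iv0 F513462) F475259 D222899
theorem F516657 : act 1 n221918 = n222899 := d15_0 F516656 F513461 (iv2 F511390)
def n222900 : Q := act 7 n201675
theorem D222900 : act 7 n201675 = n222900 := rfl
theorem F516658 : act 3 n222900 = n212407 := d8_1 D222900 (iv7 F490036) F490035
theorem F516659 : act 4 n222900 = n201677 := d11_1 D222900 (iv7 D201677) (iv4 F421341)
theorem F516660 : act 5 n222900 = n206678 := d13_1 D222900 (iv7 F490028) F490030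
theorem F516661 : act 6 n222900 = n222830 := d14_1 D222900 F516315 (iv6 D214458) F251128 D201675
theorem F516662 : act 0 n212675 = n222900 := d17_2 F466930 D212675 F516660 (iv4 F475069) (iv5 D214413) (iv0 D159357) F114209 D148739 D212660
def n222901 : Q := act 4 n201676
theorem D222901 : act 4 n201676 = n222901 := rfl
theorem F516663 : act 2 n222901 = n222883 := d1_1 D222901 F516577 (iv2 F475247)
theorem F516664 : act 5 n222901 = n212659 := d9_2 F421342 D222901 F466922 (iv5 F250883) (iv4 F421217) F421218 (iv4 D200928) D200929 (iv4 F475435) (iv5 D214492) F251342 F114457 (iv4 F179169) D201788 (iv4 F421804)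
theorem F516665 : act 7 n222901 = n212658 := d11_2 (iv7 F421908) D222901 F466919
theorem F516666 : act 0 n222901 = n201716 := d17_0 (iv5 F489769) (iv1 F489770) (iv5 F475054) F475055 D214463 (iv0 F475286) F251289 D201676 D222901
theorem F516667 : act 1 n222901 = n222884 := d18_6 (iv1 D159579) (iv4 F251342) F421805 (iv4 F421804) F421342 D222901 F516581 F421547 F421535
def n222902 : Q := act 1 n201681
theorem D222902 : act 1 n201681 = n222902 := rfl
theorem F516668 : act 1 n222902 = n207551 := d15_1 D222902 (iv7 F508448) F508444
theorem F516669 : act 7 n222902 = n222763 := d15_2 (iv0 F508380) D222902 F515949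
theorem F516670 : act 5 n222902 = n206125 := d17_7 (iv1 F364340) F364355 (iv1 F370399) F370402 D216828 F486086 D222902 (iv0 F439359) (iv4 D188616)
theorem F516671 : act 4 n222902 = n222763 := d17_9 F515951 F506772 (iv1 F440944) (iv5 D206463) F206932 D196097 (iv0 F486083) F486086 D222902
theorem F516672 : act 6 n222672 = n222902 := d21_3 (iv5 F399469) (iv1 F417142) (iv5 F515487) (iv1 D222902) F421353 (iv5 F418761) F418490 F418488 (iv6 F211505) (iv1 F417144)
theorem F516673 : act 2 n222902 = n222673 := d3_1 F516672 (iv6 D222673) (iv2 F515484)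
def n222903 : Q := act 4 n201681
theorem D222903 : act 4 n201681 = n222903 := rfl
theorem F516674 : act 2 n222903 = n218659 := d1_1 D222903 (iv4 F508446) F508444
theorem F516675 : act 3 n222903 = n216586 := d5_1 D222903 F485079 (iv3 F398351) (iv4 F179052) D201681
theorem F516676 : act 5 n222903 = n207587 := d9_2 F486086 D222903 (iv4 F489757) (iv5 F489759) F376155 F335769 F349140 D207551 (iv4 F445417) (iv5 D200646) (iv4 F391665) (iv5 F489257) (iv4 D217512) F370402 D216828
theorem F516677 : act 6 n222903 = n213552 := d10_2 (iv6 F421353) D222903 F470996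
theorem F516678 : act 7 n222903 = n218658 := d11_2 F506773 D222903 (iv4 F506771)
theorem F516679 : act 0 n222903 = n217690 := d17_0 (iv5 D217690) D217689 (iv5 F506401) F506400 F440937 (iv0 F489774) (iv5 F508378) (iv0 F508380) D222903
theorem F516680 : act 1 n222903 = n217709 := d18_6 (iv1 F445575) (iv4 D188764) (iv1 F288047) D216828 F486086 D222903 F490243 (iv0 F516679) F516676
def n222904 : Q := act 3 n201683
theorem D222904 : act 3 n201683 = n222904 := rfl
theorem F516681 : act 2 n222904 = n213146 := d0_1 D222904 F469196 (iv2 F384021) (iv3 F484193) F484192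
theorem F516682 : act 4 n222904 = n213144 := d5_2 (iv4 F421360) D222904 F469186 (iv4 F362737) (iv3 F371515)
theorem F516683 : act 5 n222904 = n207610 := d6_2 (iv5 F421359) D222904 F445665
theorem F516684 : act 6 n222904 = n207755 := d7_2 F421362 D222904 F446257
theorem F516685 : act 0 n207503 = n222904 := d20_4 (iv4 D132169) F96590 (iv4 F211272) (iv3 F445174) (iv3 D222904) F421360 (iv1 F371517) D201522 F420850 F417232
def n222905 : Q := act 4 n201688
theorem D222905 : act 4 n201688 = n222905 := rfl
theorem F516686 : act 2 n222905 = n201694 := d1_1 D222905 (iv4 D201694) (iv2 F421407)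
theorem F516687 : act 3 n222905 = n215605 := d5_1 D222905 (iv4 D215605) F359060 (iv4 F353558) (iv3 F421408)
theorem F516688 : act 6 n222905 = n216131 := d10_2 F515980 D222905 (iv4 F515979)
theorem F516689 : act 7 n222905 = n218496 := d11_2 (iv7 F421409) D222905 F494164
theorem F516690 : act 5 n222905 = n222658 := d16_1 D222905 F515418 F455521 F413270 F342092 (iv4 F334781) (iv5 F421449) (iv7 D201695) (iv2 F421407)
theorem F516691 : act 0 n222905 = n222648 := d17_0 (iv5 D222648) (iv1 F493978) (iv5 D218454) F376394 F144715 D105399 D195203 (iv0 F421410) D222905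
theorem F516692 : act 1 n222905 = n218513 := d18_6 F342090 F342080 (iv1 F272126) (iv4 F334784) D201688 D222905 F494237 F466680 (iv5 D212470)
def n222906 : Q := act 5 n201694
theorem D222906 : act 5 n201694 = n222906 := rfl
theorem F516693 : act 2 n222906 = n222658 := d2_1 D222906 (iv5 F516690) F516686
theorem F516694 : act 4 n222906 = n205329 := d16_2 D201694 D222906 (iv5 D205329) F353848 F353633 D175936 (iv5 F376664) (iv7 F421409) F421407
theorem F516695 : act 0 n222906 = n222650 := d17_2 F516220 D222906 F515387 (iv4 D215605) (iv5 D175933) D175932 D215604 F480731 D222813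
theorem F516696 : act 1 n222906 = n218575 := d17_6 (iv1 D194201) (iv5 F363541) F353834 D114992 D201694 D222906 (iv5 D218575) D218574 F494558
theorem F516697 : act 7 n222906 = n222657 := d15_2 (iv0 F515430) (iv0 F516695) (iv2 F515431)
def n222907 : Q := act 7 n201694
theorem D222907 : act 7 n201694 = n222907 := rfl
theorem F516698 : act 2 n222907 = n218496 := d4_1 D222907 (iv7 F516689) F516686
theorem F516699 : act 3 n222907 = n209945 := d8_1 D222907 F456091 (iv3 F456090)
theorem F516700 : act 4 n222907 = n201695 := d11_1 D222907 (iv7 D201695) D201694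
theorem F516701 : act 5 n222907 = n222657 := d13_1 D222907 (iv7 F516697) (iv5 D222906)
theorem F516702 : act 6 n222907 = n208195 := d14_1 D222907 F448307 F493721 F493718 (iv6 F421446)
theorem F516703 : act 1 n218513 = n222907 := d15_1 F516692 (iv7 D222907) (iv2 F516686)
theorem F516704 : act 1 n222907 = n222648 := d15_1 F516703 (iv7 F516219) F516215
def n222908 : Q := act 5 n201700
theorem D222908 : act 5 n201700 = n222908 := rfl
theorem F516705 : act 3 n222908 = n210307 := d6_1 D222908 (iv5 D210307) (iv3 F421466)
theorem F516706 : act 6 n222908 = n221521 := d12_2 D201700 D222908 F509418 F442949 F419216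
theorem F516707 : act 4 n222908 = n221522 := d16_2 (iv4 F421467) D222908 F509424 (iv4 F479036) (iv5 F484040) (iv4 D216369) (iv5 F420089) F420088 F251129
def n222909 : Q := act 7 n201700
theorem D222909 : act 7 n201700 = n222909 := rfl
theorem F516708 : act 2 n222909 = n222830 := d4_1 D222909 F516315 F475260
theorem F516709 : act 3 n222909 = n209292 := d8_1 D222909 F453070 (iv3 F421466)
theorem F516710 : act 4 n222909 = n201701 := d11_1 D222909 (iv7 D201701) (iv4 F421467)
theorem F516711 : act 1 n206377 = n222909 := d15_1 (iv0 F475262) (iv7 D222909) (iv2 F475260)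
theorem F516712 : act 1 n222909 = n220158 := d15_1 F516711 F502419 (iv2 F440494)
def n222910 : Q := act 0 n201705
theorem D222910 : act 0 n201705 = n222910 := rfl
theorem F516713 : act 5 n222910 = n220882 := d17_1 D222910 (iv1 F506056) (iv5 D207238) (iv4 D130632) D130633 F364712 D201102 (iv0 F419096) D201705
theorem F516714 : act 4 n222910 = n218960 := d18_1 D222910 F496399 (iv4 F462864) F462865 F462830 D219107 F497219 F515087 F515084
theorem F516715 : act 6 n222910 = n211867 := d21_5 (iv5 F367004) D194381 F392994 (iv6 F421482) D222910 (iv5 D211867) (iv1 F415711) F415707 (iv6 F178451) (iv1 F178452)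
theorem F516716 : act 1 n208194 = n222910 := d15_0 (iv0 D222910) (iv7 F463912) F463910
theorem F516717 : act 3 n211807 = n222910 := d19_19 (iv1 F516716) (iv5 F448304) F408163 F254018 (iv1 F253754) (iv5 D160640) F115768 F56028 D35318 F56037 (iv4 F28324) (iv3 D17374) (iv1 D8138) D8140 D17376 D35888 D78832 F254080 (iv4 F463147)
theorem F516718 : act 2 n222910 = n220884 := d0_1 F516717 F506060 (iv2 F394381) F410096 F463148
theorem F516719 : act 7 n222910 = n215686 := d8_2 F463149 F516717 (iv3 D215686)
def n222911 : Q := act 1 n201705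
theorem D222911 : act 1 n201705 = n222911 := rfl
theorem F516720 : act 1 n222911 = n208194 := d15_1 D222911 (iv7 F461829) F461826
theorem F516721 : act 7 n222911 = n220884 := d15_2 (iv0 D222910) D222911 (iv2 F516718)
theorem F516722 : act 5 n222911 = n219270 := d17_7 F408177 (iv5 D198511) F365804 D214867 (iv4 F515085) F515084 D222911 (iv0 F498037) F443929
theorem F516723 : act 4 n222911 = n208109 := d17_9 F447912 (iv5 D195867) (iv1 F176945) (iv5 F175888) (iv4 F247454) (iv5 F473977) F515087 F515084 D222911
theorem F516724 : act 3 n219271 = n222911 := d20_9 (iv4 D201705) F419096 (iv4 F462852) F462853 (iv1 F416120) (iv3 F489164) F489165 F477430 (iv4 F498042) (iv1 D222911)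
theorem F516725 : act 6 n207149 = n222911 := d21_3 (iv5 F382489) D210026 F455812 (iv1 D222911) F421482 (iv5 F392994) (iv1 F392997) F340475 D200293 (iv1 F415864)
theorem F516726 : act 2 n222911 = n215686 := d3_1 F516725 F481124 F443758
def n222912 : Q := act 0 n201707
theorem D222912 : act 0 n201707 = n222912 := rfl
theorem F516727 : act 5 n222912 = n203012 := d17_3 (iv1 F356466) D201707 D222912 F426636 (iv5 F466626) F466629 (iv5 D203301) (iv0 D118672) (iv4 F90066)
theorem F516728 : act 4 n222912 = n208430 := d18_1 D222912 F449332 (iv4 F468227) (iv5 D212938) (iv4 F348656) F186652 (iv4 F238052) (iv0 F356465) D201707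
theorem F516729 : act 6 n212902 = n217311 := d21_3 F516727 F514941 F514942 (iv1 F488385) (iv6 F449434) (iv5 D202533) D202531 F454842 F454841 D222912
theorem F516730 : act 1 n204100 = n222912 := d15_0 (iv0 D222912) F421492 (iv2 F431082)
theorem F516731 : act 6 n210073 = n222912 := d21_9 (iv5 D204100) (iv1 D122675) D122676 F196541 D122688 D204114 F440452 F440450 D210073 (iv1 F516730)
theorem F516732 : act 2 n222912 = n208434 := d3_1 F516731 (iv6 F462537) F462535
theorem F516733 : act 3 n222912 = n203013 := d7_1 F516731 F426637 (iv3 F456062)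
theorem F516734 : act 7 n222885 = n222912 := d15_2 (iv0 F468032) F516586 F516732
def n222913 : Q := act 1 n201707
theorem D222913 : act 1 n201707 = n222913 := rfl
theorem F516735 : act 1 n222913 = n204100 := d15_1 D222913 (iv7 F468031) F468029
theorem F516736 : act 7 n222913 = n208434 := d15_2 (iv0 D222912) D222913 (iv2 F516732)
theorem F516737 : act 5 n222913 = n212960 := d17_7 (iv1 F468147) (iv5 F420510) F420512 (iv5 D115013) D115012 D201707 D222913 (iv0 F514940) F514937
theorem F516738 : act 4 n222913 = n208435 := d17_9 (iv1 F488060) F488058 (iv1 F490176) F490173 F470150 F468048 (iv0 F356465) D201707 D222913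
theorem F516739 : act 2 n222885 = n222913 := d1_3 F516738 (iv2 F488054) (iv4 F516585)
theorem F516740 : act 3 n222913 = n204130 := d19_3 F367670 (iv5 F449342) (iv4 F516738) (iv1 D204130) (iv5 D122706) F356483 F74799 (iv1 F64456) (iv5 D41795) F35657 F31741 F35662 D19111 D40440 F61527 (iv1 F75903) (iv5 F75901) D104357 (iv3 F367668)
def n222914 : Q := act 3 n201715
theorem D222914 : act 3 n201715 = n222914 := rfl
theorem F516741 : act 4 n222914 = n209453 := d5_2 D201715 D222914 (iv3 F516458) (iv4 D222858) (iv3 F420879)
theorem F516742 : act 6 n222914 = n209451 := d7_2 (iv6 F440501) D222914 F453768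
theorem F516743 : act 7 n222914 = n222837 := d8_2 (iv7 F421519) D222914 (iv3 D222837)
def n222915 : Q := act 4 n201719
theorem D222915 : act 4 n201719 = n222915 := rfl
theorem F516744 : act 2 n222915 = n207913 := d1_1 D222915 F446973 (iv2 F421544)
theorem F516745 : act 3 n222915 = n206855 := d5_1 D222915 (iv4 F453481) F453480 (iv4 F431371) (iv3 F421545)
theorem F516746 : act 5 n222915 = n207912 := d9_2 F421542 D222915 F446968 F252010 (iv4 F421836) (iv5 F446961) F446962 (iv5 F421535) (iv4 F467002) (iv5 D212675) F233574 (iv5 F163527) (iv4 F250894) (iv5 F445777) F445776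
theorem F516747 : act 6 n222915 = n222764 := d10_2 F421543 D222915 (iv4 D222764)
theorem F516748 : act 7 n222915 = n206851 := d11_2 (iv7 F421541) D222915 F442411
theorem F516749 : act 0 n222915 = n214453 := d17_0 (iv5 F475242) (iv1 D206679) D206680 (iv4 F441852) D214413 (iv0 F475071) F251501 D201719 D222915
theorem F516750 : act 1 n222915 = n222900 := d18_6 (iv1 D159856) (iv4 F252006) F445778 F445776 F421542 D222915 F516659 F451216 F421906
def n222916 : Q := act 5 n201731
theorem D222916 : act 5 n201731 = n222916 := rfl
theorem F516751 : act 2 n222916 = n217568 := d2_1 D222916 (iv5 D217568) (iv2 F421598)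
theorem F516752 : act 3 n222916 = n201806 := d6_1 D222916 (iv5 D201806) (iv3 F421603)
theorem F516753 : act 4 n222916 = n217830 := d9_1 D222916 (iv5 D217830) (iv4 D188013) (iv5 D90725) F65623 D42495 D90751 D188038 (iv4 F412359) (iv5 F412358) (iv4 D194338) (iv5 D103233) (iv4 F205431) (iv5 F251133) (iv4 F421599)
theorem F516754 : act 6 n222916 = n221027 := d12_2 D201731 D222916 (iv5 D221027) F421596 (iv5 D201730)
theorem F516755 : act 7 n222916 = n217834 := d13_2 F421600 D222916 (iv5 D217834)
theorem F516756 : act 0 n222916 = n217699 := d17_2 F421601 D222916 (iv5 D217699) (iv4 D187776) (iv5 D90553) (iv0 F177349) D92871 F374250 (iv4 F374251)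
theorem F516757 : act 1 n222916 = n217840 := d17_6 (iv1 F251991) (iv5 D90740) F205436 (iv5 F251133) (iv4 F421599) D222916 F490866 (iv0 F475816) (iv4 D214564)
def n222917 : Q := act 0 n201732
theorem D222917 : act 0 n201732 = n222917 := rfl
theorem F516758 : act 5 n222917 = n207851 := d17_3 D207928 F447033 D222917 F446717 (iv5 F348926) F348892 F348891 F212842 D132600
theorem F516759 : act 3 n222917 = n212112 := d20_5 F398432 (iv1 F163412) (iv4 F179139) D201732 D222917 (iv4 D212112) (iv1 F375142) (iv4 F421203) (iv3 D201638) (iv1 F398435)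
theorem F516760 : act 2 n217676 = n222917 := d15_3 (iv0 D222917) (iv0 F447056) (iv7 F490062)
theorem F516761 : act 1 n222890 = n222917 := d15_0 (iv0 D222917) F421611 D222890
theorem F516762 : act 7 n222917 = n207850 := d15_2 (iv0 F516612) F516761 F446713
theorem F516763 : act 6 n201796 = n222917 := d21_3 F179200 (iv1 F388358) (iv5 F421817) (iv1 F516761) F516611 F516129 F491369 F490741 (iv6 F490738) F388529
def n222918 : Q := act 2 n201732
theorem D222918 : act 2 n201732 = n222918 := rfl
theorem F516764 : act 3 n222918 = n221026 := d0_2 D201732 D222918 F506863 (iv3 D201645) (iv2 F193514)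
theorem F516765 : act 7 n222918 = n222890 := d4_2 (iv7 F421611) D222918 (iv2 D222890)
theorem F516766 : act 1 n222918 = n207850 := d15_0 (iv0 F446714) (iv7 F421611) D222918
theorem F516767 : act 4 n222918 = n211366 := d16_0 (iv5 F497894) (iv4 D219240) (iv5 D190978) D190977 F381792 (iv4 F443197) (iv5 F443199) (iv7 F421611) D222918
theorem F516768 : act 6 n221025 = n222918 := d10_0 F516767 F461306 (iv4 F506862)
theorem F516769 : act 1 n217676 = n222918 := d17_8 F515842 F515843 F512732 (iv5 F516652) F516651 (iv5 F446706) F446703 D217676 F516767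
def n222919 : Q := act 4 n201732
theorem D222919 : act 4 n201732 = n222919 := rfl
theorem F516770 : act 2 n222919 = n211366 := d1_1 D222919 (iv4 F516767) (iv2 D222918)
theorem F516771 : act 3 n222919 = n214459 := d5_1 D222919 (iv4 D214459) (iv3 D159477) (iv4 F179139) D201732
theorem F516772 : act 7 n222919 = n217569 := d11_2 (iv7 F421611) D222919 F489544
theorem F516773 : act 1 n222919 = n222774 := d18_6 F442028 F442025 (iv1 F447055) F447050 F447033 D222919 F516012 (iv0 F446871) (iv5 D207883)
theorem F516774 : act 6 n222919 = n217848 := d21_5 F424113 F424712 (iv5 F439726) (iv6 F516013) (iv1 F516773) F490911 (iv1 F493373) F493371 (iv6 F490751) (iv1 F490750)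
def n222920 : Q := act 6 n201732
theorem D222920 : act 6 n201732 = n222920 := rfl
theorem F516775 : act 2 n222920 = n221025 := d3_1 D222920 F516768 (iv2 D222918)
theorem F516776 : act 3 n222920 = n201734 := d7_1 D222920 (iv6 D201734) D201732
theorem F516777 : act 4 n222920 = n217848 := d10_1 D222920 (iv6 F516774) (iv4 D222919)
theorem F516778 : act 7 n222920 = n217839 := d14_2 (iv7 F421611) D222920 (iv6 D217839) (iv7 F489536) F489535
theorem F516779 : act 5 n205661 = n222920 := d21_2 F511385 F437377 (iv6 D222920) D222917 (iv6 F516763) F421817 (iv1 F393974) F393971 (iv6 F467652) F511388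
def n222921 : Q := act 5 n201735
theorem D222921 : act 5 n201735 = n222921 := rfl
theorem F516780 : act 3 n222921 = n201860 := d6_1 D222921 (iv5 F465684) F465686
theorem F516781 : act 6 n222921 = n201859 := d12_2 F453290 D222921 (iv5 F467651) F467652 (iv5 F393971)
theorem F516782 : act 7 n222921 = n221024 := d13_2 (iv7 F453288) D222921 (iv5 D221024)
theorem F516783 : act 4 n222921 = n217700 := d16_2 F453289 D222921 F490193 (iv4 F487215) (iv5 F487218) (iv4 D209602) (iv5 D136679) D136680 (iv2 F393975)
def n222922 : Q := act 5 n201737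
theorem D222922 : act 5 n201737 = n222922 := rfl
theorem F516784 : act 2 n222922 = n201738 := d2_1 D222922 (iv5 D201738) D201737
theorem F516785 : act 3 n222922 = n222896 := d6_1 D222922 (iv5 D222896) (iv3 F421621)
theorem F516786 : act 7 n222922 = n222786 := d13_2 F453284 D222922 F516070
theorem F516787 : act 6 n222922 = n212648 := d21_9 (iv5 F465638) F447295 F465369 F465370 F437710 (iv6 F506860) (iv5 D221024) (iv1 F421624) D222922 (iv1 F466870)
theorem F516788 : act 0 n217673 = n222922 := d19_0 (iv5 D222922) F421622 D209401 (iv1 F459040) (iv5 F487061) F487060 (iv3 D216152) F283294 F157216 (iv4 D87705) (iv3 F134613) D183852 (iv5 F344330) (iv4 F422074) F493886 (iv1 D218436) (iv5 F447428) F447429 D217673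
theorem F516789 : act 1 n222785 = n222922 := d15_1 D222785 F516786 (iv2 D222786)
theorem F516790 : act 2 n212404 = n222785 := d15_3 F516789 (iv0 F516788) F490045
theorem F516791 : act 3 n222785 = n206679 := d0_2 D212404 F516790 F490032 (iv3 D217670) F426335
theorem F516792 : act 6 n217613 = n222785 := d7_0 F516791 F446966 D217613
def n222923 : Q := act 1 n201738
theorem D222923 : act 1 n201738 = n222923 := rfl
theorem F516793 : act 1 n222923 = n222786 := d15_1 D222923 (iv7 F516786) F516784
theorem F516794 : act 7 n222923 = n222785 := d15_2 (iv0 F465678) D222923 (iv2 F516790)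
theorem F516795 : act 2 n217673 = n222923 := d4_3 F516794 (iv2 F516790) (iv7 F490045)
theorem F516796 : act 6 n222923 = n219199 := d3_2 F490048 F516795 F497687
def n222924 : Q := act 4 n201738
theorem D222924 : act 4 n201738 = n222924 := rfl
theorem F516797 : act 3 n222924 = n207630 := d5_1 D222924 (iv4 D207630) F365451 (iv4 F179143) (iv3 F421625)
theorem F516798 : act 6 n222924 = n205722 := d10_2 F465634 D222924 (iv4 F465631)
theorem F516799 : act 7 n222924 = n207643 := d11_2 (iv7 F421626) D222924 F445817
theorem F516800 : act 1 n222924 = n207668 := d18_6 (iv1 D132246) (iv4 F211888) F420900 F420898 D201738 D222924 F445929 (iv0 F445931) F437548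
theorem F516801 : act 5 n217063 = n222924 := d19_1 F487208 (iv4 D222924) F421625 D201739 F421627 (iv4 D159466) (iv3 F333223) (iv1 F432626) F432624 F419671 (iv3 F352180) F359842 (iv5 D98521) (iv4 D46066) D46065 D98511 D191524 (iv4 F437322) (iv3 F441966)
def n222925 : Q := act 3 n201739
theorem D222925 : act 3 n201739 = n222925 := rfl
theorem F516802 : act 2 n222925 = n207799 := d0_1 D222925 (iv3 F446495) (iv2 F446710) (iv3 F446705) F421630
theorem F516803 : act 4 n222925 = n204925 := d5_2 (iv4 F421628) D222925 (iv3 D204925) (iv4 F242338) (iv3 F396465)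
theorem F516804 : act 5 n222925 = n206853 := d6_2 (iv5 F421627) D222925 (iv3 F442418)
theorem F516805 : act 7 n222925 = n207798 := d8_2 F421631 D222925 F446493
theorem F516806 : act 0 n222925 = n206789 := d19_4 (iv1 F396429) D195249 (iv4 F421628) D222925 (iv5 F502372) F502371 F431377 (iv1 D204182) (iv5 D123104) (iv4 F109618) F109617 D73120 D154341 (iv4 F354361) (iv3 F354360) F417302 (iv5 F495008) (iv4 F506771) (iv3 D221008)
theorem F516807 : act 0 n207801 = n222925 := d20_4 (iv4 D129110) (iv1 F96828) (iv4 F212419) (iv3 F446501) (iv3 D222925) F421628 F396467 (iv4 F362924) F207369 (iv1 F211973)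
def n222926 : Q := act 0 n201741
theorem D222926 : act 0 n201741 = n222926 := rfl
theorem F516808 : act 5 n222926 = n221259 := d17_1 D222926 (iv1 F515957) F515955 (iv4 D221238) F435872 (iv0 F507915) (iv5 F515470) F515469 (iv4 F421638)
theorem F516809 : act 4 n222926 = n205410 := d18_1 D222926 (iv1 D205410) F343578 D207812 F446557 F398261 (iv4 F421868) (iv0 D201812) (iv5 F421639)
theorem F516810 : act 1 n222670 = n222926 := d15_0 (iv0 D222926) (iv7 F515756) F515752
theorem F516811 : act 2 n222795 = n222926 := d1_3 F516809 F436360 (iv4 F516119)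
theorem F516812 : act 7 n222796 = n222926 := d11_0 F516809 F436357 (iv4 F516125)
def n222927 : Q := act 1 n201741
theorem D222927 : act 1 n201741 = n222927 := rfl
theorem F516813 : act 1 n222927 = n222670 := d15_1 D222927 F515478 (iv2 F421637)
theorem F516814 : act 7 n222927 = n222795 := d15_2 (iv0 D222926) D222927 F516811
theorem F516815 : act 5 n222927 = n221261 := d17_7 F418805 (iv5 D195188) (iv1 D105369) (iv5 F114220) (iv4 F179175) (iv5 F421639) D222927 (iv0 F515956) (iv4 D222764)
theorem F516816 : act 4 n222927 = n205409 := d18_7 D125917 (iv4 F395518) (iv1 F395520) (iv4 F435594) F435595 (iv4 F421638) D222927 (iv0 D205409) (iv5 D125919)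
theorem F516817 : act 3 n207777 = n222927 := d19_19 (iv1 D222927) F421639 F179175 (iv3 F186815) F421874 (iv5 F454813) (iv4 D209741) (iv3 F330973) F330971 (iv5 F220821) F336133 F165388 F336124 D49598 D107370 (iv3 F204069) (iv1 F216735) (iv5 F438218) (iv4 F446391)
theorem F516818 : act 2 n222927 = n222796 := d0_1 F516817 (iv3 F516127) (iv2 F445966) F445967 (iv2 F446390)
theorem F516819 : act 6 n222927 = n207775 := d7_2 D207777 F516817 (iv3 D207775)
def n222928 : Q := act 1 n201744
theorem D222928 : act 1 n201744 = n222928 := rfl
theorem F516820 : act 1 n222928 = n207886 := d15_1 D222928 F499661 F499658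
theorem F516821 : act 7 n222928 = n207881 := d15_2 (iv0 F421648) D222928 F446862
theorem F516822 : act 5 n222928 = n206840 := d17_7 (iv1 F387668) F439804 (iv1 D201337) (iv5 F178319) (iv4 F420080) (iv5 F421646) D222928 (iv0 F442369) F387665
theorem F516823 : act 3 n206845 = n222928 := d19_19 (iv1 D222928) F421646 F420080 (iv3 D114348) (iv1 F83521) F83519 (iv4 D34417) (iv3 F42296) D54679 F114580 F114576 (iv3 F110876) (iv1 F110882) F79155 D60356 D128377 D206356 (iv5 F440394) (iv4 F442384)
theorem F516824 : act 2 n222928 = n207888 := d0_1 F516823 F446892 (iv2 F442586) F442587 (iv2 F442382)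
theorem F516825 : act 6 n222928 = n206842 := d7_2 (iv6 F442383) F516823 F442370
def n222929 : Q := act 5 n201745
theorem D222929 : act 5 n201745 = n222929 := rfl
theorem F516826 : act 2 n222929 = n222829 := d2_1 D222929 (iv5 D222829) (iv2 F421650)
theorem F516827 : act 3 n222929 = n218086 := d6_1 D222929 (iv5 D218086) (iv3 F421651)
theorem F516828 : act 6 n222929 = n222829 := d12_2 D201745 D222929 (iv5 D222829) (iv6 D201344) (iv5 F179153)
theorem F516829 : act 4 n222929 = n221867 := d16_2 (iv4 F421652) D222929 F511136 F430959 (iv5 F401127) F401125 (iv5 F372170) F372171 (iv2 F205629)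
def n222930 : Q := act 1 n201747
theorem D222930 : act 1 n201747 = n222930 := rfl
theorem F516830 : act 1 n222930 = n209345 := d15_1 D222930 F453335 (iv2 F421658)
theorem F516831 : act 7 n222930 = n218274 := d15_2 F516228 D222930 (iv2 F516222)
theorem F516832 : act 4 n222930 = n206380 := d18_7 (iv1 F415843) (iv4 F489219) (iv1 F489221) (iv4 F475787) F475788 (iv4 F421660) D222930 (iv0 F506814) F506812
theorem F516833 : act 5 n222930 = n206477 := d18_9 F441012 (iv4 F421759) (iv1 F441162) F441161 (iv5 F441459) (iv4 F441461) (iv0 F421517) (iv4 F421660) D222930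
theorem F516834 : act 3 n221886 = n222930 := d20_3 (iv4 F396564) (iv1 F450984) (iv4 F511209) (iv1 D222930) F421659 F179156 D115041 D201752 (iv3 F445972) F445975
theorem F516835 : act 6 n201762 = n222930 := d21_3 F516251 (iv1 F507871) F507867 (iv1 D222930) (iv6 D201747) (iv5 F179168) D201783 F421792 (iv6 F419987) D222819
theorem F516836 : act 2 n222930 = n218275 := d3_1 F516835 (iv6 F493075) F421719
def n222931 : Q := act 5 n201747
theorem D222931 : act 5 n201747 = n222931 := rfl
theorem F516837 : act 2 n222931 = n206580 := d2_1 D222931 (iv5 F441420) (iv2 F421658)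
theorem F516838 : act 3 n222931 = n201749 := d6_1 D222931 (iv5 D201749) (iv3 F421659)
theorem F516839 : act 4 n222931 = n206546 := d9_1 D222931 F441270 F436617 F443934 F443933 (iv5 F375208) (iv4 F453336) (iv5 D209345) F441356 (iv5 F505430) F505428 F393451 (iv4 F475787) F475788 (iv4 F421660)
theorem F516840 : act 6 n222931 = n222253 := d12_2 D201747 D222931 F513170 (iv6 D201785) F179168
theorem F516841 : act 7 n222931 = n206579 := d13_2 F516088 D222931 (iv5 F516090)
theorem F516842 : act 0 n222931 = n206446 := d17_2 (iv1 D222930) D222931 (iv5 F475028) F475027 (iv5 F377583) (iv0 D189739) D189741 (iv0 F440510) (iv4 F516832)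
theorem F516843 : act 1 n222931 = n206444 := d17_6 D159352 (iv5 F443936) F475791 F475788 (iv4 F421660) D222931 (iv5 F475018) (iv0 D214405) F250869
def n222932 : Q := act 6 n201780
theorem D222932 : act 6 n201780 = n222932 := rfl
theorem F516844 : act 2 n222932 = n219629 := d3_1 D222932 F499753 F441448
theorem F516845 : act 3 n222932 = n207640 := d7_1 D222932 F445804 F421781
theorem F516846 : act 4 n222932 = n201782 := d10_1 D222932 (iv6 D201782) D201780
theorem F516847 : act 7 n222932 = n207636 := d14_2 (iv7 F421780) D222932 (iv6 D207636) F211727 D195271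
theorem F516848 : act 0 n222932 = n222832 := d21_4 (iv5 D206585) (iv1 F396495) F421782 D222932 F516326 F513355 (iv1 D200832) D200833 (iv6 F442667) F442669
theorem F516849 : act 0 n222833 = n222932 := d20_1 D222833 F516846 (iv3 F516504) F516508 (iv3 D216161) (iv4 D182039) (iv1 D86945) D86946 D182041 F420101
def n222933 : Q := act 3 n201786
theorem D222933 : act 3 n201786 = n222933 := rfl
theorem F516850 : act 0 n220169 = n222933 := d20_4 (iv4 F391220) F502480 F502476 (iv3 F502456) (iv3 D222933) (iv4 F460301) (iv1 F398568) (iv4 F421836) F465692 (iv1 D212410)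
def n222934 : Q := act 5 n201787
theorem D222934 : act 5 n201787 = n222934 := rfl
theorem F516851 : act 3 n222934 = n207819 := d6_1 D222934 (iv5 F446908) (iv3 F446909)
theorem F516852 : act 4 n222934 = n212653 := d9_1 D222934 F466896 (iv4 F516581) F516582 F506448 F448130 F460301 F475363 F475362 F251501 F421524 (iv5 F489769) F489768 F398565 (iv4 F421801)
theorem F516853 : act 6 n222934 = n222834 := d12_2 (iv6 F475046) D222934 F516333 F513971 (iv5 F475042)
theorem F516854 : act 7 n222934 = n207816 := d13_2 (iv7 F475059) D222934 (iv5 F475054)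
theorem F516855 : act 0 n222934 = n217704 := d17_2 (iv1 F421800) D222934 F490216 F421171 (iv5 F233502) (iv0 F421816) (iv5 D201795) F250886 (iv4 F421217)
theorem F516856 : act 1 n222934 = n222783 := d17_6 (iv1 F451216) (iv5 F475357) (iv1 F475359) F398565 (iv4 F421801) D222934 F516057 (iv0 F466921) F466919
def n222935 : Q := act 4 n201792
theorem D222935 : act 4 n201792 = n222935 := rfl
theorem F516857 : act 2 n222935 = n206678 := d1_1 D222935 (iv4 F475069) F475066
theorem F516858 : act 7 n222935 = n206679 := d11_2 (iv7 F421809) D222935 (iv4 F446965)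
theorem F516859 : act 0 n222935 = n206681 := d17_0 F441857 F426361 (iv5 F396517) F396516 F421174 F421552 (iv5 F467974) F467977 D222935
theorem F516860 : act 1 n222935 = n206677 := d18_6 (iv1 D159489) (iv4 F179171) F421835 (iv4 D201791) D201792 D222935 F441846 (iv0 F475293) (iv5 D214465)
theorem F516861 : act 3 n222935 = n222923 := d20_3 F446578 F421810 D222935 (iv1 D222923) F421625 F179143 (iv1 F396119) (iv4 F421530) (iv3 F489767) (iv1 F489770)
def n222936 : Q := act 6 n201792
theorem D222936 : act 6 n201792 = n222936 := rfl
theorem F516862 : act 2 n222936 = n217702 := d3_1 D222936 F490207 F475066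
theorem F516863 : act 3 n222936 = n201870 := d7_1 D222936 (iv6 F443943) (iv3 F443944)
theorem F516864 : act 5 n222936 = n201869 := d12_1 D222936 F422141 (iv5 F421811) (iv6 D201793) D201792
theorem F516865 : act 7 n222936 = n212666 := d14_2 (iv7 F421809) D222936 (iv6 D212666) (iv7 F283560) D187780
theorem F516866 : act 0 n222936 = n203923 := d21_4 F114457 D115060 D201792 D222936 F430418 (iv5 F441741) (iv1 F508311) F508308 (iv6 D214494) (iv1 D159579)
theorem F516867 : act 0 n203922 = n222936 := d21_4 (iv5 F233519) F396239 D208136 F448035 (iv6 D222936) (iv5 D201792) (iv1 F250887) F250883 (iv6 F251360) (iv1 F251362)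
def n222937 : Q := act 4 n201807
theorem D222937 : act 4 n201807 = n222937 := rfl
theorem F516868 : act 2 n222937 = n201810 := d1_1 D222937 (iv4 D201810) (iv2 F421848)
theorem F516869 : act 3 n222937 = n210830 := d5_1 D222937 F458944 (iv3 F458924) F458925 (iv3 F421849)
theorem F516870 : act 7 n222937 = n214389 := d11_2 (iv7 F421850) D222937 F474926
theorem F516871 : act 0 n222937 = n207900 := d18_2 (iv1 F421854) D222937 (iv4 D207900) (iv5 D132555) (iv4 F179702) F388541 F453311 F475093 (iv5 D214417)
theorem F516872 : act 1 n222937 = n206910 := d18_6 (iv1 F502289) F502288 (iv1 F501858) F420948 D201807 D222937 F442582 D206912 F460695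
theorem F516873 : act 6 n222937 = n210829 := d21_5 F357327 F355257 (iv5 F355255) D206910 (iv1 F516872) F458942 (iv1 D204517) D204518 F432789 F357329
def n222938 : Q := act 6 n201807
theorem D222938 : act 6 n201807 = n222938 := rfl
theorem F516874 : act 2 n222938 = n201811 := d3_1 D222938 (iv6 D201811) (iv2 F421848)
theorem F516875 : act 3 n222938 = n210824 := d7_1 D222938 (iv6 F458921) (iv3 F421849)
theorem F516876 : act 4 n222938 = n210829 := d10_1 D222938 (iv6 F516873) (iv4 D222937)
theorem F516877 : act 5 n222938 = n212648 := d12_1 D222938 (iv6 F516787) (iv5 D222922) F421623 D201807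
theorem F516878 : act 0 n222938 = n222398 := d21_4 (iv5 F492377) (iv1 F419298) D201807 D222938 (iv6 F514002) F498029 (iv1 F499759) F499761 (iv6 F486984) (iv1 F492376)
theorem F516879 : act 0 n222733 = n222938 := d21_4 (iv5 D113620) D113618 D200910 (iv6 F515803) (iv6 D222938) (iv5 D201807) (iv1 F419303) (iv5 F465654) (iv6 D212395) F230264
def n222939 : Q := act 5 n201810
theorem D222939 : act 5 n201810 = n222939 := rfl
theorem F516880 : act 3 n222939 = n203354 := d6_1 D222939 (iv5 D203354) (iv3 F421864)
theorem F516881 : act 7 n222939 = n214390 := d13_2 (iv7 F421865) D222939 (iv5 D214390)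
theorem F516882 : act 1 n222939 = n221929 := d17_6 F499675 (iv5 D201806) (iv1 D115068) D115070 D201810 D222939 (iv5 D221929) F466731 (iv4 F499674)
theorem F516883 : act 0 n222939 = n212620 := d21_1 D222939 (iv5 D212620) (iv6 D148133) (iv1 D69400) D69402 (iv5 F314111) F338921 D120476 D203756 F442568
def n222940 : Q := act 5 n201812
theorem D222940 : act 5 n201812 = n222940 := rfl
theorem F516884 : act 2 n222940 = n222792 := d2_1 D222940 (iv5 D222792) F421869
theorem F516885 : act 3 n222940 = n219536 := d6_1 D222940 (iv5 F508834) F508836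
theorem F516886 : act 6 n222940 = n207557 := d12_2 F516329 D222940 (iv5 F445438) (iv6 F509229) (iv5 F516330)
theorem F516887 : act 7 n222940 = n222794 := d13_2 F421870 D222940 (iv5 D222794)
theorem F516888 : act 4 n222940 = n205408 := d16_2 (iv4 F421868) D222940 (iv5 D205408) F395509 (iv5 F365649) (iv4 F418317) F418319 (iv7 F418645) (iv2 F418646)
def n222941 : Q := act 5 n201813
theorem D222941 : act 5 n201813 = n222941 := rfl
theorem F516889 : act 2 n222941 = n222794 := d2_1 D222941 (iv5 D222794) F421875
theorem F516890 : act 3 n222941 = n222727 := d6_1 D222941 F515774 F465824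
theorem F516891 : act 4 n222941 = n205406 := d9_1 D222941 (iv5 D205406) (iv4 F395518) D200570 (iv4 F444508) F444512 (iv4 F421868) D222940 F516888 (iv5 D205408) F395509 (iv5 F365649) (iv4 F418317) F418319 (iv4 F421873)
theorem F516892 : act 7 n222941 = n222792 := d13_2 (iv7 F421872) D222941 (iv5 D222792)
theorem F516893 : act 6 n222941 = n221202 := d21_9 (iv5 F475495) F475497 (iv5 F507815) F507816 F437032 (iv6 F515477) F515476 (iv1 F421871) D222941 (iv1 F507713)
def n222942 : Q := act 3 n201830
theorem D222942 : act 3 n201830 = n222942 := rfl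
theorem F516894 : act 2 n222942 = n221228 := d0_1 D222942 F507841 F437541 F437203 F421962
theorem F516895 : act 4 n222942 = n221225 := d5_2 F473459 D222942 F507825 (iv4 D214099) D214098
theorem F516896 : act 6 n222942 = n221224 := d7_2 (iv6 F450475) D222942 F507821
theorem F516897 : act 7 n222942 = n208318 := d8_2 F421963 D222942 (iv3 D208318)
theorem F516898 : act 0 n222942 = n206933 := d20_4 (iv4 F456541) F473461 F473459 D222942 (iv3 D206933) F207663 F212288 (iv4 D132227) D132226 F446044
theorem F516899 : act 1 n222942 = n206859 := d15_1 (iv0 F516898) (iv7 F445960) F445959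
def n222943 : Q := act 6 n201836
theorem D222943 : act 6 n201836 = n222943 := rfl
theorem F516900 : act 2 n222943 = n219531 := d3_1 D222943 F499298 (iv2 F443019)
theorem F516901 : act 3 n222943 = n201837 := d7_1 D222943 (iv6 D201837) D201836
theorem F516902 : act 4 n222943 = n222778 := d10_1 D222943 F516027 F448752
theorem F516903 : act 5 n222943 = n219485 := d12_1 D222943 F515898 F515894 F508829 F502330
theorem F516904 : act 0 n222943 = n208416 := d21_4 F405385 (iv1 F502332) F502330 D222943 F449257 (iv5 D199068) F388586 (iv5 F388585) (iv6 F442554) (iv1 D206900)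
theorem F516905 : act 0 n206976 = n222943 := d21_4 (iv5 D207669) F211807 F207849 D206976 (iv6 D222943) (iv5 F502330) (iv1 F502331) (iv5 F446057) F446058 (iv1 F445935)
def n222944 : Q := act 3 n201838
theorem D222944 : act 3 n201838 = n222944 := rfl
theorem F516906 : act 2 n222944 = n208742 := d0_1 D222944 F450667 F453382 (iv3 D209357) F421995
theorem F516907 : act 4 n222944 = n208741 := d5_2 (iv4 F421993) D222944 F450662 F375710 (iv3 F366792)
theorem F516908 : act 5 n222944 = n207694 := d6_2 (iv5 F421992) D222944 (iv3 D207694)
theorem F516909 : act 7 n222944 = n209359 := d8_2 F421996 D222944 (iv3 D209359)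
theorem F516910 : act 0 n207707 = n222944 := d20_4 F179170 D159483 (iv4 F475019) (iv3 F475021) (iv3 D222944) F421993 F280360 (iv4 F396555) F421781 (iv1 F421783)
def n222945 : Q := act 5 n201843
theorem D222945 : act 5 n201843 = n222945 := rfl
theorem F516911 : act 2 n222945 = n209105 := d2_1 D222945 (iv5 F452280) (iv2 F439081)
theorem F516912 : act 3 n222945 = n216880 := d6_1 D222945 (iv5 F487080) F487078
theorem F516913 : act 4 n222945 = n217325 := d9_1 D222945 F488436 (iv4 F419061) (iv5 F510263) F510262 F402843 (iv4 F421289) (iv5 F516358) F516357 F420306 F396069 D209046 F452006 (iv5 F451956) F451955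
theorem F516914 : act 6 n222945 = n212931 := d12_2 F451602 D222945 (iv5 F495394) F495395 (iv5 D208973)
theorem F516915 : act 7 n222945 = n209104 := d13_2 (iv7 F439077) D222945 F452278
theorem F516916 : act 0 n222945 = n209097 := d17_2 D201843 D222945 (iv5 D209097) (iv4 F391714) (iv5 F466696) (iv0 F466699) (iv5 D208973) (iv0 D135516) (iv4 F179235)
theorem F516917 : act 1 n222945 = n209106 := d17_6 F371386 (iv5 F488436) F488438 (iv5 F451956) F451955 D222945 F452284 F396067 F396064
def n222946 : Q := act 3 n201851
theorem D222946 : act 3 n201851 = n222946 := rfl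
theorem F516918 : act 4 n222946 = n215550 := d5_2 D201851 D222946 F480453 (iv4 D196252) (iv3 F179273)
theorem F516919 : act 6 n222946 = n222513 := d7_2 (iv6 F422060) D222946 (iv3 D222513)
theorem F516920 : act 7 n222946 = n208523 := d8_2 (iv7 F422061) D222946 (iv3 D208523)
theorem F516921 : act 0 n221560 = n222946 := d20_4 (iv4 F481261) F481260 F432006 (iv3 F509592) (iv3 D222946) (iv4 D201851) F179276 (iv4 F245428) (iv3 F366539) F423824
theorem F516922 : act 1 n213969 = n222946 := d18_6 F498071 (iv4 D219275) (iv1 D191026) (iv4 F381841) F476098 F476097 F516918 (iv0 D215550) (iv5 F461173)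
def n222947 : Q := act 5 n201854
theorem D222947 : act 5 n201854 = n222947 := rfl
theorem F516923 : act 2 n222947 = n208895 := d2_1 D222947 (iv5 D208895) (iv2 F422076)
theorem F516924 : act 3 n222947 = n208585 := d6_1 D222947 F450009 (iv3 F422079)
theorem F516925 : act 4 n222947 = n222293 := d9_1 D222947 F513396 F452616 F360936 F128793 D83999 D176075 (iv5 F459104) (iv4 F514500) F514501 F452612 F360940 (iv4 D159640) (iv5 F327306) D201854
theorem F516926 : act 7 n222947 = n208705 := d13_2 (iv7 F422078) D222947 F450509
theorem F516927 : act 0 n222947 = n209446 := d17_2 F448736 D222947 F453742 (iv4 D159922) (iv5 D76555) D76554 (iv5 F363108) (iv0 F371137) (iv4 F448734)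
def n222948 : Q := act 6 n201871
theorem D222948 : act 6 n201871 = n222948 := rfl
theorem F516928 : act 2 n222948 = n213081 := d3_1 D222948 F468911 F422260
theorem F516929 : act 3 n222948 = n212494 := d7_1 D222948 (iv6 F466077) (iv3 F422149)
theorem F516930 : act 4 n222948 = n201873 := d10_1 D222948 (iv6 D201873) D201871
theorem F516931 : act 5 n222948 = n210802 := d12_1 D222948 (iv6 D210802) (iv5 F223032) (iv6 F353481) (iv5 F422152)
theorem F516932 : act 7 n222948 = n212519 := d14_2 (iv7 F422150) D222948 (iv6 D212519) F347794 D152481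
theorem F516933 : act 0 n222948 = n213079 := d21_4 F398495 (iv1 F353505) (iv5 F422152) D222948 (iv6 F468900) F271940 F310717 D119839 (iv6 F352042) F398497
theorem F516934 : act 0 n212492 = n222948 := d21_4 (iv5 D83007) (iv1 F127921) (iv5 F327795) (iv6 F466066) (iv6 D222948) F422152 F353480 (iv5 F334714) (iv6 F340658) (iv1 D173499)
def n222949 : Q := act 6 n201895
theorem D222949 : act 6 n201895 = n222949 := rfl
theorem F516935 : act 2 n222949 = n221491 := d3_1 D222949 F509275 F438263
theorem F516936 : act 3 n222949 = n201896 := d7_1 D222949 (iv6 D201896) D201895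
theorem F516937 : act 4 n222949 = n208343 := d10_1 D222949 (iv6 D208343) (iv4 F422268)
theorem F516938 : act 0 n222949 = n204801 := d21_4 D136173 (iv1 F401371) F422271 D222949 (iv6 D204801) D204800 F433633 F351461 (iv6 F351560) F219199
theorem F516939 : act 0 n209673 = n222949 := d21_4 (iv5 D115331) D115328 D202019 (iv6 F454592) (iv6 D222949) (iv5 F422271) (iv1 D196656) F330554 D136156 (iv1 F391261)
def n222950 : Q := act 1 n201896
theorem D222950 : act 1 n201896 = n222950 := rfl
theorem F516940 : act 1 n222950 = n202039 := d15_1 D222950 (iv7 D202039) (iv2 F422276)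
theorem F516941 : act 7 n222950 = n202036 := d15_2 (iv0 F472699) D222950 (iv2 F422840)
theorem F516942 : act 6 n206400 = n222950 := d21_3 F365076 D144070 (iv5 F440601) (iv1 D222950) (iv6 D201896) (iv5 F360639) (iv1 D115462) (iv5 D53261) D53262 D115465
theorem F516943 : act 2 n222950 = n201992 := d3_1 F516942 F422645 F440605
theorem F516944 : act 3 n222950 = n202139 := d7_1 F516942 (iv6 F424772) (iv3 F440603)
theorem F516945 : act 4 n222950 = n221736 := d10_1 F516942 (iv6 D221736) (iv4 F440602)
def n222951 : Q := act 0 n201897
theorem D222951 : act 0 n201897 = n222951 := rfl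
theorem F516946 : act 5 n222951 = n213976 := d17_1 D222951 (iv1 F514687) F514686 F440614 (iv5 D161882) F255193 (iv5 F472197) (iv0 F472200) (iv4 F422278)
theorem F516947 : act 4 n222951 = n203498 := d18_1 D222951 (iv1 F428568) D203543 F428815 (iv4 F427509) (iv0 F462544) F462542 (iv0 F415930) D201897
theorem F516948 : act 3 n222951 = n213976 := d20_5 F423465 (iv1 F316176) (iv4 F359942) (iv3 F422277) D222951 F472951 (iv1 D211270) F350931 (iv3 F357085) (iv1 F423468)
theorem F516949 : act 6 n222951 = n213809 := d21_5 F409712 F360253 D213259 F469589 D222951 F472185 (iv1 F432995) (iv5 F432993) F400983 (iv1 F409711)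
theorem F516950 : act 2 n203546 = n222951 := d15_3 (iv0 D222951) F422279 D203546
theorem F516951 : act 1 n203544 = n222951 := d15_0 (iv0 D222951) (iv7 F422280) (iv2 F428818)
theorem F516952 : act 7 n222951 = n202265 := d15_2 D203544 F516951 F423422
def n222952 : Q := act 4 n201906
theorem D222952 : act 4 n201906 = n222952 := rfl
theorem F516953 : act 2 n222952 = n210175 := d1_1 D222952 (iv4 F500461) F500460
theorem F516954 : act 3 n222952 = n203495 := d5_1 D222952 (iv4 D203495) F187743 (iv4 F336269) (iv3 F422314)
theorem F516955 : act 6 n222952 = n213820 := d10_2 F514682 D222952 (iv4 F514680)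
theorem F516956 : act 7 n222952 = n221780 := d11_2 F455275 D222952 F510791
theorem F516957 : act 0 n222952 = n216056 := d17_0 F501152 (iv1 D219911) (iv5 F403903) F472357 (iv5 F504330) (iv0 F504332) F504307 F504304 D222952
def n222953 : Q := act 0 n201907
theorem D222953 : act 0 n201907 = n222953 := rfl
theorem F516958 : act 5 n222953 = n213844 := d19_1 D222953 F472361 D221751 F510669 F440124 (iv4 F462995) (iv3 D211764) (iv1 D144074) D144075 (iv4 F386158) F386156 (iv1 F392016) F392013 (iv4 F485683) F485680 (iv1 F346049) F335595 (iv4 F346021) (iv3 F422315)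
theorem F516959 : act 3 n222953 = n202267 := d20_5 (iv4 F346029) F289780 (iv4 F346021) (iv3 F422315) D222953 (iv4 F428928) F428930 F422406 F422403 (iv1 F220790)
theorem F516960 : act 2 n213909 = n222953 := d15_3 (iv0 D222953) F504333 F504331
theorem F516961 : act 1 n216698 = n222953 := d15_0 (iv0 D222953) (iv7 F422317) (iv2 F485519)
theorem F516962 : act 7 n222953 = n213907 := d15_2 (iv0 F504332) F516961 (iv2 F504329)
def n222954 : Q := act 4 n201915
theorem D222954 : act 4 n201915 = n222954 := rfl
theorem F516963 : act 2 n222954 = n202303 := d1_1 D222954 (iv4 D202303) (iv2 F422349)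
theorem F516964 : act 3 n222954 = n219865 := d5_1 D222954 (iv4 F510572) F510571 F403716 (iv3 F422350)
theorem F516965 : act 5 n222954 = n211571 := d9_2 D201915 D222954 F462186 F450469 F438341 F351373 (iv4 F351376) D201912 (iv4 F513715) F513716 (iv4 F462191) F450474 (iv4 F438343) (iv5 F350852) F350851
theorem F516966 : act 6 n222954 = n214045 := d10_2 (iv6 F422353) D222954 F473238
theorem F516967 : act 7 n222954 = n202308 := d11_2 (iv7 F422351) D222954 (iv4 D202308)
theorem F516968 : act 1 n222954 = n219934 := d18_8 F487270 F487268 (iv1 F483701) (iv4 D216297) F422498 (iv4 D201952) (iv0 F422352) D222954 F501258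
def n222955 : Q := act 3 n201916
theorem D222955 : act 3 n201916 = n222955 := rfl
theorem F516969 : act 2 n222955 = n202329 := d0_1 D222955 (iv3 F423648) (iv2 F415058) F415059 F422358
theorem F516970 : act 5 n222955 = n221524 := d6_2 (iv5 F422357) D222955 F509432
theorem F516971 : act 7 n222955 = n202299 := d8_2 (iv7 F422356) D222955 (iv3 D202299)
theorem F516972 : act 0 n222955 = n202327 := d20_4 (iv4 D219888) (iv1 F501018) F501015 D222955 F423644 F179950 F363489 (iv4 F349435) D202204 (iv1 F501054)
theorem F516973 : act 4 n222955 = n202188 := d20_6 F165193 (iv1 F179877) F179873 (iv3 F179865) (iv1 F422355) D222955 (iv1 D202188) F179736 F84107 D53266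
theorem F516974 : act 0 n202330 = n222955 := d20_4 (iv4 F408043) F408045 (iv4 F179992) (iv3 F423649) (iv3 D222955) (iv4 F501015) (iv1 F501017) (iv4 F423279) F326821 (iv1 F362575)
def n222956 : Q := act 6 n201916
theorem D222956 : act 6 n201916 = n222956 := rfl
theorem F516975 : act 2 n222956 = n202300 := d3_1 D222956 (iv6 D202300) F422358
theorem F516976 : act 0 n202412 = n222956 := d21_4 (iv5 F507272) (iv1 F507275) (iv5 D202411) D202412 (iv6 D222956) F422357 (iv1 D197976) F168786 D115684 D202393
def n222957 : Q := act 5 n201921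
theorem D222957 : act 5 n201921 = n222957 := rfl
theorem F516977 : act 2 n222957 = n201924 := d2_1 D222957 (iv5 D201924) (iv2 F422381)
theorem F516978 : act 3 n222957 = n202310 := d6_1 D222957 (iv5 D202310) (iv3 F422382)
theorem F516979 : act 6 n222957 = n201929 := d12_2 D201921 D222957 F422409 F179528 (iv5 F330521)
theorem F516980 : act 7 n222957 = n202317 := d13_2 (iv7 F422384) D222957 (iv5 D202317)
theorem F516981 : act 4 n222957 = n219365 := d16_2 (iv4 F422383) D222957 F498490 F493283 (iv5 F450525) F450524 (iv5 F410385) (iv7 D199030) (iv2 F410373)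
def n222958 : Q := act 3 n201922
theorem D222958 : act 3 n201922 = n222958 := rfl
theorem F516982 : act 4 n222958 = n210562 := d5_2 F500804 D222958 F458049 D210570 (iv3 F500801)
theorem F516983 : act 7 n222958 = n202344 := d8_2 (iv7 F485891) D222958 F473162
theorem F516984 : act 0 n222958 = n202346 := d20_4 F500435 F500803 F500804 D222958 F423700 F348362 (iv1 F319699) F366197 D202731 F500438
theorem F516985 : act 2 n222958 = n202343 := d15_3 (iv0 D202343) D202344 (iv7 F516983)
theorem F516986 : act 0 n202340 = n222958 := d18_0 F516982 F463687 (iv4 F422319) F422320 (iv4 D185253) D185251 (iv4 F473251) (iv0 F473250) (iv5 F467334)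
def n222959 : Q := act 5 n201922
theorem D222959 : act 5 n201922 = n222959 := rfl
theorem F516987 : act 4 n222959 = n212730 := d16_6 F411454 D221696 F510353 (iv5 F500802) F500804 D222959 F467288 (iv7 F513283) (iv2 F513281)
theorem F516988 : act 1 n222959 = n211466 := d17_8 (iv1 F501899) (iv5 F467152) (iv1 F467155) F411562 F423619 (iv5 D202317) F422393 D222959 (iv4 F501895)
theorem F516989 : act 6 n222959 = n212729 := d21_9 (iv5 F467360) (iv1 D212753) (iv5 D149148) (iv6 F346024) F220793 (iv6 F422387) (iv5 D201924) D201922 D222959 F467285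
theorem F516990 : act 0 n222959 = n209840 := d21_4 F423655 (iv1 F500511) F500509 (iv6 F516989) (iv6 D209840) (iv5 F245413) (iv1 F422904) (iv5 F452816) F452817 F390301
def n222960 : Q := act 3 n201923
theorem D222960 : act 3 n201923 = n222960 := rfl
theorem F516991 : act 4 n222960 = n204064 := d5_2 F500839 D222960 F493497 F493494 (iv3 F500838)
theorem F516992 : act 6 n222960 = n204063 := d7_2 (iv6 F485888) D222960 F473031
theorem F516993 : act 7 n222960 = n220260 := d8_2 F500831 D222960 F502911
theorem F516994 : act 0 n219277 = n222960 := d20_4 F356396 (iv1 F356397) D193145 (iv3 F498081) (iv3 D222960) (iv4 F500839) (iv1 F500842) (iv4 F500435) (iv3 D219754) F385961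
theorem F516995 : act 1 n220261 = n222960 := d15_0 (iv0 F516994) F498082 D220261
theorem F516996 : act 2 n222960 = n204691 := d15_3 (iv0 F461417) F502912 (iv7 F516993)
def n222961 : Q := act 5 n201923
theorem D222961 : act 5 n201923 = n222961 := rfl
theorem F516997 : act 1 n222961 = n209840 := d17_8 D209841 F493296 (iv1 D218318) (iv5 F382930) F422388 (iv5 D201924) D201923 D222961 F455113
theorem F516998 : act 4 n222961 = n220426 := d19_2 (iv1 F422385) D222961 F503716 F411459 (iv5 D139393) (iv4 D65425) (iv3 F168262) (iv1 D14565) F11222 (iv4 F19665) (iv3 F39450) (iv1 F324125) (iv5 D37449) (iv4 F58343) (iv3 F108624) (iv1 F188504) (iv5 D119528) (iv4 F350934) (iv3 F179905)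
theorem F516999 : act 0 n222961 = n211466 := d21_1 D222961 F461661 (iv6 D197253) F167008 (iv6 F339876) (iv5 D115582) (iv1 D53315) D53318 D115594 (iv1 F422385)
theorem F517000 : act 6 n222961 = n220424 := d21_9 F504014 (iv1 F468848) (iv5 F455153) F455163 (iv1 D202324) (iv6 F423618) (iv5 D202317) (iv1 F422385) D222961 (iv1 F504017)
def n222962 : Q := act 0 n201924
theorem D222962 : act 0 n201924 = n222962 := rfl
theorem F517001 : act 5 n222962 = n214039 := d17_1 D222962 (iv1 D214039) D214040 (iv4 F473226) (iv5 F510010) (iv0 F510012) (iv5 F498499) (iv0 D219366) F422388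
theorem F517002 : act 3 n222962 = n214050 := d20_5 (iv4 F382884) F382887 F356796 (iv3 F422386) D222962 F473251 (iv1 D185251) D185253 F388348 (iv1 F388346)
theorem F517003 : act 4 n222962 = n216591 := d20_0 (iv1 D216591) D216592 F485102 F467200 (iv3 D202275) (iv4 F382884) F382887 F356796 (iv3 F422386) D222962
theorem F517004 : act 6 n222962 = n214050 := d21_5 (iv5 F357607) (iv1 F179494) (iv5 F179935) (iv6 F422387) D222962 (iv5 D214050) (iv1 D156257) D156258 F245575 (iv1 F357610)
theorem F517005 : act 0 n222962 = n202317 := d21_4 (iv5 F472580) (iv1 F472583) D214050 (iv6 F517004) F423618 (iv5 D115597) D115595 D202319 (iv6 F473254) F473258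
def n222963 : Q := act 1 n201924
theorem D222963 : act 1 n201924 = n222963 := rfl
theorem F517006 : act 1 n222963 = n202317 := d15_1 D222963 (iv7 F516980) F516977
theorem F517007 : act 5 n222963 = n214038 := d17_7 F493583 F493582 F487547 (iv5 D199029) (iv4 F179523) D201924 D222963 (iv0 D214038) (iv4 F473215)
theorem F517008 : act 4 n222963 = n202540 := d17_9 F467277 (iv5 F513287) (iv1 F513289) (iv5 F467288) (iv4 F516987) (iv5 D222959) (iv0 D201922) D201924 D222963
def n222964 : Q := act 7 n201924
theorem D222964 : act 7 n201924 = n222964 := rfl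
theorem F517009 : act 2 n222964 = n202317 := d4_1 D222964 (iv7 F516980) F516977
theorem F517010 : act 3 n222964 = n201929 := d8_1 D222964 (iv7 D201929) (iv3 F422386)
theorem F517011 : act 4 n222964 = n219368 := d11_1 D222964 (iv7 D219368) F422388
theorem F517012 : act 5 n222964 = n201925 := d13_1 D222964 (iv7 D201925) D201924
theorem F517013 : act 6 n222964 = n202310 := d14_1 D222964 F423580 F179932 D115609 (iv6 F422387)
def n222965 : Q := act 0 n201928
theorem D222965 : act 0 n201928 = n222965 := rfl
theorem F517014 : act 5 n222965 = n203553 := d17_1 D222965 (iv1 D203553) (iv5 F426861) (iv4 D203067) D203068 F426868 D203566 F428914 F422406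
theorem F517015 : act 4 n222965 = n203092 := d18_1 D222965 (iv1 D203092) (iv4 F423429) F423430 (iv4 F416635) F416639 (iv4 F422394) (iv0 D201926) D201928
theorem F517016 : act 2 n202324 = n222965 := d15_3 (iv0 D222965) (iv0 F467224) F467223
theorem F517017 : act 1 n202310 = n222965 := d15_0 (iv0 D222965) F422405 (iv2 F423579)
theorem F517018 : act 7 n222965 = n202323 := d15_2 F467226 F517017 (iv2 F467227)
def n222966 : Q := act 5 n201948
theorem D222966 : act 5 n201948 = n222966 := rfl
theorem F517019 : act 2 n222966 = n222557 := d2_1 D222966 F514903 (iv2 F514895)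
theorem F517020 : act 3 n222966 = n210500 := d6_1 D222966 F457807 (iv3 F425957)
theorem F517021 : act 6 n222966 = n222014 := d12_2 F468830 D222966 F511908 F485357 (iv5 F485358)
theorem F517022 : act 7 n222966 = n222556 := d13_2 F514836 D222966 F514901
theorem F517023 : act 4 n222966 = n211409 := d16_2 F514522 D222966 F461449 (iv4 F512306) F512307 (iv4 D220091) D220092 F502073 (iv2 F514524)
theorem F517024 : act 0 n222966 = n219837 := d18_0 F500824 D219843 F500850 (iv5 D202145) F179707 (iv0 F407699) (iv4 F512306) (iv0 F512310) D222966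
def n222967 : Q := act 5 n201949
theorem D222967 : act 5 n201949 = n222967 := rfl
theorem F517025 : act 2 n222967 = n222556 := d2_1 D222967 F514901 F514833
theorem F517026 : act 3 n222967 = n214609 := d6_1 D222967 F514924 F514919
theorem F517027 : act 4 n222967 = n211408 := d9_1 D222967 F461440 (iv4 F415079) (iv5 F245126) (iv4 F472560) (iv5 F514521) F514522 D222966 F517023 F461449 (iv4 F512306) F512307 (iv4 D220091) D220092 F502077
theorem F517028 : act 6 n222967 = n211693 := d12_2 F462729 D222967 (iv5 D211693) D211694 (iv5 F462727)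
theorem F517029 : act 7 n222967 = n222557 := d13_2 F514897 D222967 F514903
theorem F517030 : act 1 n222967 = n219837 := d17_8 D219843 (iv5 F500853) (iv1 F514519) F514521 F472560 F245126 D201949 D222967 F500824
def n222968 : Q := act 3 n201954
theorem D222968 : act 3 n201954 = n222968 := rfl
theorem F517031 : act 2 n222968 = n202357 := d0_1 D222968 (iv3 F423750) (iv2 F415062) F415063 F422503
theorem F517032 : act 6 n222968 = n221524 := d7_2 (iv6 F422502) D222968 F509432
theorem F517033 : act 7 n222968 = n202358 := d8_2 (iv7 F422505) D222968 F433003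
theorem F517034 : act 0 n202350 = n222968 := d20_4 F458771 (iv1 F505473) F505472 F458662 (iv3 D222968) (iv4 F422504) (iv1 F415282) (iv4 F179640) F349401 D210782
theorem F517035 : act 1 n202360 = n222968 := d15_0 (iv0 F517034) (iv7 F458676) (iv2 F458679)
def n222969 : Q := act 5 n201954
theorem D222969 : act 5 n201954 = n222969 := rfl
theorem F517036 : act 2 n222969 = n202379 := d2_1 D222969 (iv5 D202379) F422503
theorem F517037 : act 7 n222969 = n202381 := d13_2 (iv7 F422505) D222969 (iv5 D202381)
theorem F517038 : act 1 n222969 = n213233 := d17_6 (iv1 F279168) (iv5 F467071) F467073 F432323 F422504 D222969 (iv5 F472426) (iv0 F472428) (iv4 D213812)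
def n222970 : Q := act 5 n201955
theorem D222970 : act 5 n201955 = n222970 := rfl
theorem F517039 : act 2 n222970 = n202381 := d2_1 D222970 (iv5 D202381) (iv2 F422510)
theorem F517040 : act 3 n222970 = n215775 := d6_1 D222970 (iv5 F514889) F514887
theorem F517041 : act 6 n222970 = n215806 := d12_2 (iv6 F422511) D222970 (iv5 F481645) F479961 (iv5 D215431)
theorem F517042 : act 7 n222970 = n202379 := d13_2 (iv7 F422508) D222970 (iv5 D202379)
theorem F517043 : act 0 n222970 = n213233 := d17_2 (iv1 F422507) D222970 (iv5 F472426) F472425 (iv5 F403125) (iv0 F420957) (iv5 F422846) F422844 (iv4 F362475)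
def n222971 : Q := act 0 n201956
theorem D222971 : act 0 n201956 = n222971 := rfl
theorem F517044 : act 5 n222971 = n213860 := d17_3 (iv1 D201955) D201956 D222971 F472440 D215984 (iv0 F482421) (iv5 D200156) F350640 F422509
theorem F517045 : act 2 n202383 = n222971 := d2_3 F517044 (iv2 F472441) F472194
theorem F517046 : act 3 n213228 = n222971 := d6_3 F517044 F473144 (iv5 F473147)
theorem F517047 : act 7 n202384 = n222971 := d13_0 F517044 F472439 F423836
theorem F517048 : act 1 n202386 = n222971 := d18_8 (iv1 D213860) F245090 F355514 (iv4 F423416) F423417 (iv4 F472973) (iv0 F504130) F504128 F517044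
def n222972 : Q := act 1 n201956
theorem D222972 : act 1 n201956 = n222972 := rfl
theorem F517049 : act 1 n222972 = n202386 := d15_1 D222972 (iv7 D202386) (iv2 F422512)
theorem F517050 : act 7 n222972 = n202383 := d15_2 (iv0 D222971) D222972 F517045
theorem F517051 : act 5 n222972 = n213859 := d17_7 F355514 F188514 (iv1 F376353) F402919 F402918 D201956 D222972 (iv0 D213859) F245090
theorem F517052 : act 3 n204464 = n222972 := d19_19 (iv1 D222972) (iv5 D201956) (iv4 F402918) F402917 (iv1 F231118) D147776 F231516 (iv3 F162741) (iv1 F360671) (iv5 F360669) (iv4 D133834) D133833 (iv1 F344907) (iv5 F227869) F227868 F341473 (iv1 F90902) (iv5 F198296) (iv4 F432610)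
theorem F517053 : act 6 n213988 = n222972 := d21_3 F245413 (iv1 F452799) (iv5 F472998) (iv1 D222972) F422513 (iv5 D126688) F101952 D65822 D140268 (iv1 F422901)
theorem F517054 : act 2 n222972 = n202384 := d3_1 F517053 F423837 (iv2 F472996)
theorem F517055 : act 4 n222972 = n213989 := d10_1 F517053 (iv6 D213989) D213988
def n222973 : Q := act 4 n201956
theorem D222973 : act 4 n201956 = n222973 := rfl
theorem F517056 : act 2 n222973 = n202385 := d1_1 D222973 (iv4 D202385) (iv2 F422512)
theorem F517057 : act 6 n222973 = n205851 := d10_2 (iv6 F422513) D222973 (iv4 D205851)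
theorem F517058 : act 1 n222973 = n213982 := d18_6 (iv1 F400985) D202077 F422847 F402918 D201956 D222973 F472973 (iv0 F432992) (iv5 F432993)
def n222974 : Q := act 7 n201956
theorem D222974 : act 7 n201956 = n222974 := rfl
theorem F517059 : act 2 n222974 = n202386 := d4_1 D222974 (iv7 D202386) (iv2 F422512)
theorem F517060 : act 5 n222974 = n201957 := d13_1 D222974 (iv7 D201957) D201956
theorem F517061 : act 1 n202384 = n222974 := d15_1 D202384 (iv7 D222974) F422512
theorem F517062 : act 1 n222974 = n202383 := d15_1 F517061 (iv7 F517050) F517054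
def n222975 : Q := act 0 n201960
theorem D222975 : act 0 n201960 = n222975 := rfl
theorem F517063 : act 5 n222975 = n214068 := d17_1 D222975 (iv1 D214068) (iv5 D156279) D156278 (iv5 F427488) F427491 D213820 F472231 F460852
theorem F517064 : act 4 n222975 = n213824 := d18_1 D222975 F507590 F507588 F473356 F425952 F357064 F180040 F179555 D201960
theorem F517065 : act 2 n202402 = n222975 := d15_3 (iv0 D222975) F473166 (iv7 F473319)
theorem F517066 : act 1 n201961 = n222975 := d15_0 (iv0 D222975) F422530 (iv2 F422531)
theorem F517067 : act 7 n222975 = n202403 := d15_2 (iv0 F473167) F517066 (iv2 F473320)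
theorem F517068 : act 3 n219832 = n222975 := d19_19 (iv1 F517066) (iv5 D201961) F357067 F203721 F100394 D137118 F331941 F238781 (iv1 F215763) (iv5 D70453) F307897 D73815 (iv1 F232964) (iv5 F188525) (iv4 F314401) F195650 F351946 D192329 D219832
theorem F517069 : act 6 n222975 = n222958 := d7_2 F500805 F517068 (iv3 D222958)
def n222976 : Q := act 6 n201960
theorem D222976 : act 6 n201960 = n222976 := rfl
theorem F517070 : act 2 n222976 = n202404 := d3_1 D222976 (iv6 D202404) (iv2 F422529)
theorem F517071 : act 3 n222976 = n210742 := d7_1 D222976 F502583 F502579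
theorem F517072 : act 4 n222976 = n221113 := d10_1 D222976 F507285 F460852
theorem F517073 : act 0 n216588 = n222976 := d21_4 (iv5 F404253) F402383 (iv5 F423647) (iv6 F485090) (iv6 D222976) (iv5 D201960) (iv1 F179555) (iv5 F111533) D156286 (iv1 F404233)
def n222977 : Q := act 0 n201966
theorem D222977 : act 0 n201966 = n222977 := rfl
theorem F517074 : act 4 n222977 = n202036 := d20_2 F481778 D222977 (iv3 F509249) (iv1 F509247) F423024 (iv4 F422813) (iv1 F424572) F424577 D210747 F481776
theorem F517075 : act 3 n222977 = n211113 := d20_5 F507233 (iv1 F459718) D215882 F481913 D222977 F460148 (iv1 F402203) (iv4 F509576) (iv3 F510661) F510664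
theorem F517076 : act 2 n210771 = n222977 := d15_3 (iv0 D222977) F481780 (iv7 F458739)
theorem F517077 : act 6 n222977 = n211112 := d3_2 F463866 F517076 (iv2 F463864)
theorem F517078 : act 7 n222977 = n221736 := d4_2 (iv7 F458739) F517076 F510583
theorem F517079 : act 1 n210771 = n211920 := d15_0 (iv0 F510585) (iv7 F517078) (iv2 F517076)
theorem F517080 : act 1 n221855 = n222977 := d15_1 F511079 F517078 F510583
theorem F517081 : act 0 n214061 = n210747 := d20_1 F511077 (iv4 F515258) F515257 F458851 (iv3 F436642) F436643 F365132 (iv4 F460148) (iv3 F517075) (iv1 F517080)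
def n222978 : Q := act 5 n201966
theorem D222978 : act 5 n201966 = n222978 := rfl
theorem F517082 : act 2 n222978 = n221825 := d2_1 D222978 F510947 F463587
theorem F517083 : act 0 n222978 = n221827 := d17_2 (iv1 F481780) D222978 F510951 F404082 (iv5 F472965) F472967 (iv5 D202038) (iv0 F422838) F422644
theorem F517084 : act 1 n222978 = n209888 := d17_6 (iv1 D213867) (iv5 F459145) F481779 D215849 F481778 D222978 (iv5 D209888) D209887 F472494
theorem F517085 : act 7 n221826 = n222978 := d15_2 (iv0 D221825) D221826 F517082
def n222979 : Q := act 7 n201966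
theorem D222979 : act 7 n201966 = n222979 := rfl
theorem F517086 : act 2 n222979 = n221855 := d4_1 D222979 F511078 F463587
theorem F517087 : act 5 n222979 = n221826 := d13_1 D222979 F517085 (iv5 D222978)
theorem F517088 : act 6 n222979 = n213891 := d14_1 D222979 F472605 (iv6 F414626) (iv7 F422543) D201966
theorem F517089 : act 1 n221736 = n222979 := d15_1 (iv0 F510585) (iv7 D222979) (iv2 F463587)
theorem F517090 : act 1 n222979 = n210771 := d15_1 F517089 F458739 (iv2 F510583)
def n222980 : Q := act 6 n201967
theorem D222980 : act 6 n201967 = n222980 := rfl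
theorem F517091 : act 2 n222980 = n221754 := d3_1 D222980 F510683 F457883
theorem F517092 : act 3 n222980 = n201968 := d7_1 D222980 (iv6 D201968) D201967
theorem F517093 : act 5 n222980 = n222952 := d12_1 D222980 F516955 (iv5 D213820) F434696 F434694
theorem F517094 : act 0 n222980 = n210584 := d21_4 F353530 D205030 F434694 D222980 F458131 F434685 (iv1 D205028) (iv5 F404114) F404115 (iv1 D195496)
theorem F517095 : act 0 n210586 = n222980 := d21_4 (iv5 D195356) (iv1 F162071) D144447 (iv6 F458139) (iv6 D222980) (iv5 F434694) (iv1 F434697) (iv5 F424299) (iv6 F446999) F447000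
theorem F517096 : act 7 n221755 = n222980 := d13_0 F517093 F516956 F510792
def n222981 : Q := act 5 n201969
theorem D222981 : act 5 n201969 = n222981 := rfl
theorem F517097 : act 2 n222981 = n201972 := d2_1 D222981 (iv5 D201972) (iv2 F422558)
theorem F517098 : act 3 n222981 = n222110 := d6_1 D222981 (iv5 D222110) (iv3 F422559)
theorem F517099 : act 4 n222981 = n213369 := d9_1 D222981 F470106 (iv4 D209537) D209538 (iv4 F454078) F422823 (iv4 F227547) D211993 (iv4 F469930) F469931 (iv4 D209533) D209534 (iv4 F454071) (iv5 D202049) (iv4 F422560)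
theorem F517100 : act 6 n222981 = n213369 := d12_2 D201969 D222981 F470106 F454075 F414220
theorem F517101 : act 7 n222981 = n213367 := d13_2 F463849 D222981 F470105
theorem F517102 : act 0 n222981 = n221093 := d18_0 (iv4 D221093) F427368 (iv4 F427506) (iv5 D203239) (iv4 F239524) D213058 (iv4 F468814) (iv0 F463842) D222981
def n222982 : Q := act 5 n201970
theorem D222982 : act 5 n201970 = n222982 := rfl
theorem F517103 : act 2 n222982 = n221837 := d2_1 D222982 F510991 F463844
theorem F517104 : act 6 n222982 = n212812 := d12_2 F485495 D222982 F467597 D220067 (iv5 F501950)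
theorem F517105 : act 7 n222982 = n221836 := d13_2 (iv7 F463845) D222982 F510988
theorem F517106 : act 4 n222982 = n212813 := d16_2 (iv4 F464122) D222982 F467601 F438425 D209522 (iv4 F469482) (iv5 D213222) (iv7 F468813) F468816
theorem F517107 : act 0 n222982 = n209658 := d17_2 D201970 D222982 F454526 (iv4 F220168) D209871 (iv0 F455213) (iv5 D202060) (iv0 D115352) (iv4 F179562)
theorem F517108 : act 1 n222982 = n221839 := d17_6 F472461 F366407 (iv1 F469480) (iv5 D213221) (iv4 F464122) D222982 F510999 F454563 (iv4 F472460)
def n222983 : Q := act 5 n201971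
theorem D222983 : act 5 n201971 = n222983 := rfl
theorem F517109 : act 2 n222983 = n221836 := d2_1 D222983 F510988 (iv2 F463843)
theorem F517110 : act 3 n222983 = n216533 := d6_1 D222983 (iv5 D216533) F422561
theorem F517111 : act 7 n222983 = n221837 := d13_2 F463841 D222983 F510991
theorem F517112 : act 0 n222983 = n221839 := d17_2 (iv1 F463851) D222983 F510999 F404092 (iv5 F455226) F455228 (iv5 D202065) F422801 (iv4 F463847)
theorem F517113 : act 1 n222983 = n209658 := d17_6 (iv1 D213863) (iv5 F458736) (iv1 F469483) (iv5 D213222) (iv4 F422562) D222983 F454526 D209666 F472471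
def n222984 : Q := act 6 n201971
theorem D222984 : act 6 n201971 = n222984 := rfl
theorem F517114 : act 2 n222984 = n221112 := d3_1 D222984 F507279 (iv2 F463843)
theorem F517115 : act 3 n222984 = n216534 := d7_1 D222984 (iv6 D216534) F422561
theorem F517116 : act 4 n222984 = n213223 := d10_1 D222984 (iv6 D213223) (iv4 F422562)
theorem F517117 : act 7 n222984 = n221105 := d14_2 F463841 D222984 F507238 (iv7 F508995) F508994
theorem F517118 : act 0 n222984 = n221110 := d21_4 (iv5 F454526) (iv1 F517113) (iv5 D222983) D222984 F507269 (iv5 F463098) (iv1 F463101) (iv5 F423165) F463104 (iv1 D209666)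
theorem F517119 : act 5 n222984 = n221106 := d21_6 (iv5 D213826) F244894 (iv5 F357030) (iv6 F463848) (iv1 F463851) D222984 (iv1 F507246) F397219 D221176 (iv1 F507591)
theorem F517120 : act 0 n211112 = n222984 := d19_0 F517119 F507244 F460069 (iv1 F440009) F402506 F359499 (iv3 F359498) (iv1 F165840) D113372 D200726 F417656 F326463 D176998 (iv4 F360011) (iv3 D140689) (iv1 D66012) D66014 D140696 D211112
def n222985 : Q := act 5 n201977
theorem D222985 : act 5 n201977 = n222985 := rfl
theorem F517121 : act 2 n222985 = n213065 := d2_1 D222985 (iv5 D213065) (iv2 F422589)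
theorem F517122 : act 6 n222985 = n204461 := d12_2 D201977 D222985 (iv5 F514881) (iv6 F514884) F416785
theorem F517123 : act 7 n222985 = n213063 := d13_2 F422592 D222985 (iv5 D213063)
theorem F517124 : act 4 n222985 = n214439 := d16_2 (iv4 F502900) D222985 (iv5 D214439) (iv4 F426991) (iv5 F469462) F469461 (iv5 F502761) F502763 (iv2 F502903)
theorem F517125 : act 1 n222985 = n213217 := d17_6 F485615 F476004 F449667 F502901 (iv4 F502900) D222985 F469462 F455167 (iv4 F485614)
theorem F517126 : act 0 n222985 = n209860 := d21_1 D222985 (iv5 D209860) D209861 F481735 (iv6 D204812) (iv5 F433669) (iv1 F433671) F429001 (iv6 D203586) (iv1 F422591)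
def n222986 : Q := act 6 n201978
theorem D222986 : act 6 n201978 = n222986 := rfl
theorem F517127 : act 2 n222986 = n201980 := d3_1 D222986 (iv6 D201980) (iv2 F422593)
theorem F517128 : act 3 n222986 = n210737 := d7_1 D222986 (iv6 D210737) (iv3 F422594)
theorem F517129 : act 4 n222986 = n202623 := d10_1 D222986 (iv6 D202623) (iv4 F422595)
theorem F517130 : act 0 n214621 = n222986 := d21_4 F407476 D204774 F433528 D214621 (iv6 D222986) (iv5 D201978) F400893 F400894 D201947 F422484
def n222987 : Q := act 0 n201979
theorem D222987 : act 0 n201979 = n222987 := rfl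
theorem F517131 : act 4 n222987 = n209725 := d18_3 (iv1 F433643) (iv4 F422601) D222987 (iv5 F454768) F429513 D204585 (iv4 F432952) (iv0 F424977) (iv5 F433641)
theorem F517132 : act 3 n222987 = n222552 := d20_5 F349398 (iv1 D139682) (iv4 F222806) (iv3 F422600) D222987 F514874 F481274 F481270 F423024 (iv1 D202055)
theorem F517133 : act 6 n222987 = n204774 := d21_5 (iv5 F422463) (iv1 F422598) (iv5 D201978) D201979 D222987 F433528 F422490 (iv5 D201950) (iv6 D115284) (iv1 F345477)
theorem F517134 : act 1 n201983 = n222987 := d15_0 (iv0 D222987) (iv7 F481819) F481816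
theorem F517135 : act 2 n201981 = n222987 := d3_3 F517133 (iv2 F433530) (iv6 F434658)
theorem F517136 : act 7 n201982 = n222987 := d14_0 F517133 F433532 (iv6 F429658) (iv7 F429663) F504349
def n222988 : Q := act 1 n201979
theorem D222988 : act 1 n201979 = n222988 := rfl
theorem F517137 : act 1 n222988 = n201983 := d15_1 D222988 (iv7 D201983) (iv2 F422599)
theorem F517138 : act 7 n222988 = n201981 := d15_2 (iv0 D222987) D222988 F517135
theorem F517139 : act 4 n222988 = n214604 := d18_7 (iv1 F450380) F407461 F363303 F221657 (iv5 F365139) (iv4 F422601) D222988 (iv0 F503025) F503022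
theorem F517140 : act 3 n204618 = n222988 := d19_19 (iv1 D222988) (iv5 F481825) F481824 (iv3 F469276) F472694 (iv5 D213909) D213908 (iv3 F500035) F500039 D219798 (iv4 F505416) F505415 (iv1 D202456) (iv5 F363321) (iv4 F429387) F429386 F191505 D124210 (iv4 F433037)
theorem F517141 : act 6 n211005 = n222988 := d21_3 D202228 F423321 D211005 (iv1 D222988) (iv6 D201979) D201978 F422597 (iv5 D201931) D201932 (iv1 F422428)
theorem F517142 : act 2 n222988 = n201982 := d3_1 F517141 (iv6 F504349) (iv2 F459724)
theorem F517143 : act 5 n204617 = n222988 := d21_2 D213963 F472904 (iv6 F517141) F459728 (iv6 D178664) D178663 (iv1 F472512) (iv5 D213870) D213871 F481815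
def n222989 : Q := act 0 n201980
theorem D222989 : act 0 n201980 = n222989 := rfl
theorem F517144 : act 4 n222989 = n214624 := d18_3 F433756 (iv4 F422603) D222989 F476099 (iv4 F431009) F431011 (iv4 F436682) (iv0 F433757) (iv5 F433755)
theorem F517145 : act 7 n214621 = n222989 := d11_0 F517144 (iv7 D214624) (iv4 F476089)
def n222990 : Q := act 1 n201980
theorem D222990 : act 1 n201980 = n222990 := rfl
theorem F517146 : act 3 n222015 = n222990 := d19_19 (iv1 D222990) (iv5 F481830) F481829 F423409 D202266 (iv5 F428852) (iv4 D203552) F233268 (iv1 D84013) (iv5 D38694) F298923 (iv3 F120783) F120797 D56124 (iv4 F299223) (iv3 F323823) D199649 F412990 (iv4 F511913)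
theorem F517147 : act 4 n204766 = n222990 := d20_0 (iv1 D222990) F422603 (iv3 D175024) (iv1 D83587) D83588 (iv4 F322782) (iv1 D128375) (iv4 F206494) (iv3 F440368) F440369
theorem F517148 : act 6 n204804 = n222990 := d21_3 (iv5 D124387) D124384 D204804 (iv1 D222990) (iv6 D201980) (iv5 D115302) D115299 (iv5 F416779) (iv6 F433650) F433651
theorem F517149 : act 2 n222990 = n214621 := d3_1 F517148 (iv6 D214621) (iv2 F433645)
def n222991 : Q := act 5 n201981
theorem D222991 : act 5 n201981 = n222991 := rfl
theorem F517150 : act 3 n222991 = n204055 := d6_1 D222991 (iv5 F481765) F481768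
theorem F517151 : act 7 n222991 = n204617 := d13_2 F517138 D222991 F517143
theorem F517152 : act 1 n222991 = n210134 := d17_8 (iv1 F500498) (iv5 D202255) (iv1 F423397) (iv5 F481811) (iv4 D215856) D215857 (iv0 F481820) D222991 (iv4 D210134)
def n222992 : Q := act 4 n201982
theorem D222992 : act 4 n201982 = n222992 := rfl
theorem F517153 : act 2 n222992 = n214604 := d1_1 D222992 (iv4 F517139) F517142
theorem F517154 : act 6 n222992 = n203747 := d10_2 F504349 D222992 F429667
theorem F517155 : act 7 n222992 = n209725 := d11_2 (iv7 F517136) D222992 (iv4 F517131)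
theorem F517156 : act 0 n222992 = n208665 := d17_0 (iv5 D208665) D208663 (iv5 F481843) (iv4 D215862) (iv5 D177992) D177990 F383972 D201982 D222992
theorem F517157 : act 5 n222992 = n221888 := d18_4 D204802 (iv4 F481818) (iv1 F481821) D222992 F511220 F432958 (iv4 F400601) (iv0 D179770) (iv5 F198919)
theorem F517158 : act 1 n222992 = n214610 := d18_8 (iv1 F450675) (iv4 F450372) F407410 F221902 F365138 (iv4 F179570) D201982 D222992 F478845
theorem F517159 : act 3 n222992 = n209721 := d20_3 (iv4 F481818) (iv1 F481821) D222992 (iv1 D209721) (iv3 F452696) F452697 D210611 (iv4 F458207) F433623 D204802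
def n222993 : Q := act 5 n201982
theorem D222993 : act 5 n201982 = n222993 := rfl
theorem F517160 : act 2 n222993 = n204617 := d2_1 D222993 F517143 F517142
theorem F517161 : act 3 n222993 = n204509 := d6_1 D222993 (iv5 F468838) (iv3 F504350)
theorem F517162 : act 0 n222993 = n210134 := d17_2 (iv1 F481821) D222993 F472416 F472412 F391275 F434655 F434653 F433638 (iv4 F481818)
def n222994 : Q := act 3 n201984
theorem D222994 : act 3 n201984 = n222994 := rfl
theorem F517163 : act 4 n222994 = n216557 := d5_2 (iv4 F422606) D222994 (iv3 D216557) (iv4 F358754) F409611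
theorem F517164 : act 6 n222994 = n202372 := d7_2 (iv6 F422607) D222994 F423803
theorem F517165 : act 7 n222994 = n210753 := d8_2 F422610 D222994 (iv3 D210753)
theorem F517166 : act 0 n222994 = n217874 := d20_4 F179775 D198858 (iv4 F422606) D222994 F491035 (iv4 D198036) (iv1 F406565) D222013 F511902 (iv1 D202213)
theorem F517167 : act 0 n222956 = n222994 := d21_4 F422492 (iv1 F406354) (iv5 F422357) D222956 F517164 (iv5 D202372) (iv1 F423747) F423744 (iv6 D202304) (iv1 F422494)
def n222995 : Q := act 5 n201984
theorem D222995 : act 5 n201984 = n222995 := rfl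
theorem F517168 : act 2 n222995 = n210752 := d2_1 D222995 (iv5 D210752) F422609
theorem F517169 : act 4 n222995 = n204457 := d9_1 D222995 (iv5 F476000) (iv4 F478797) F478796 (iv4 F471920) F471919 (iv4 F422613) (iv5 F485140) F485139 F392028 F374046 (iv5 D177028) (iv4 F276443) (iv5 F409605) (iv4 F422606)
theorem F517170 : act 6 n222995 = n214069 := d12_2 (iv6 F422607) D222995 (iv5 D214069) (iv6 D156285) D156284
theorem F517171 : act 7 n222995 = n210754 := d13_2 F422610 D222995 (iv5 D210754)
theorem F517172 : act 1 n222995 = n219887 := d17_6 F437999 F437996 F343387 (iv5 F409605) (iv4 F422606) D222995 F501045 F479420 (iv4 F428589)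
def n222996 : Q := act 3 n201989
theorem D222996 : act 3 n201989 = n222996 := rfl
theorem F517173 : act 4 n222996 = n216574 := d5_2 (iv4 F422632) D222996 (iv3 D216574) (iv4 D184612) (iv3 F286585)
theorem F517174 : act 5 n222996 = n213861 := d6_2 (iv5 F422631) D222996 F472442
theorem F517175 : act 7 n222996 = n210768 := d8_2 (iv7 F422634) D222996 (iv3 D210768)
theorem F517176 : act 0 n222996 = n222970 := d19_4 F289656 D184598 (iv4 F422632) D222996 (iv5 D222970) (iv4 F422509) F273388 D174525 (iv5 F466394) F466393 (iv3 D187489) (iv1 F143267) F143265 (iv4 D88483) D88482 (iv1 F288079) (iv5 D185768) D185767 F288069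
theorem F517177 : act 1 n222996 = n222969 := d15_1 (iv0 F517176) F517037 (iv2 F517039)
def n222997 : Q := act 5 n201994
theorem D222997 : act 5 n201994 = n222997 := rfl
theorem F517178 : act 2 n222997 = n201999 := d2_1 D222997 (iv5 D201999) (iv2 F422653)
def n222998 : Q := act 5 n201997
theorem D222998 : act 5 n201997 = n222998 := rfl
theorem F517179 : act 2 n222998 = n215923 := d2_1 D222998 (iv5 D215923) F422669
theorem F517180 : act 7 n222998 = n209839 := d13_2 F422670 D222998 F455110
theorem F517181 : act 0 n222998 = n215850 := d17_2 D201997 D222998 F481782 F429055 (iv5 F209458) F209460 (iv5 F313691) (iv0 D115807) (iv4 F179608)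
theorem F517182 : act 1 n222998 = n214226 := d17_6 F472292 (iv5 D197171) F348282 F363475 (iv4 F422667) D222998 (iv5 D214226) (iv0 F460393) (iv4 F472288)
def n222999 : Q := act 5 n201998
theorem D222999 : act 5 n201998 = n222999 := rfl
theorem F517183 : act 2 n222999 = n209839 := d2_1 D222999 F455110 F422676
theorem F517184 : act 3 n222999 = n213253 := d6_1 D222999 F472597 F472593
theorem F517185 : act 6 n222999 = n209231 := d12_2 (iv6 F422675) D222999 (iv5 D209231) (iv6 F452755) F452757
theorem F517186 : act 7 n222999 = n215923 := d13_2 (iv7 F422673) D222999 (iv5 D215923)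
theorem F517187 : act 4 n222999 = n209881 := d16_2 F422674 D222999 (iv5 F472900) F472899 (iv5 D183393) (iv4 F312607) F363475 (iv7 F458974) F458979
theorem F517188 : act 0 n222999 = n214226 := d17_2 (iv1 F472843) D222999 (iv5 D214226) (iv4 D157412) (iv5 D74859) D74858 (iv5 F341169) F246204 (iv4 F472839)
theorem F517189 : act 1 n222999 = n215850 := d17_6 F481260 (iv5 D204312) (iv1 F403377) F403379 F422674 D222999 F481782 F429057 (iv4 F481261)
def n223000 : Q := act 1 n201999
theorem D223000 : act 1 n201999 = n223000 := rfl
theorem F517190 : act 5 n223000 = n203598 := d17_7 D119623 (iv5 F381141) F381143 (iv5 D115809) (iv4 F179608) D201999 D223000 (iv0 D203598) F188673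
theorem F517191 : act 6 n222974 = n223000 := d21_3 (iv5 D202379) (iv1 F422518) (iv5 F517060) (iv1 D223000) F469455 F469453 F472434 F472432 (iv6 F469510) F458734
def n223001 : Q := act 5 n202000
theorem D223001 : act 5 n202000 = n223001 := rfl
theorem F517192 : act 2 n223001 = n210885 := d2_1 D223001 F459146 (iv2 F422682)
theorem F517193 : act 3 n223001 = n218379 := d6_1 D223001 (iv5 D218379) F422680
theorem F517194 : act 4 n223001 = n218153 := d9_1 D223001 (iv5 D218153) (iv4 F374324) F396880 (iv4 F392904) F392905 F245472 D156204 D214019 (iv5 F489290) F489286 F386923 (iv4 F386918) (iv5 F376001) F422681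
theorem F517195 : act 7 n223001 = n213257 := d13_2 (iv7 F422679) D223001 F469584
theorem F517196 : act 0 n223001 = n213256 := d17_2 (iv1 F422678) D223001 F469581 F392463 F353039 F106023 D74134 F110852 D120069
theorem F517197 : act 1 n223001 = n203587 := d17_6 (iv1 F438332) F438334 (iv1 F372111) (iv5 F376001) F422681 D223001 F429006 (iv0 F423861) F357058
theorem F517198 : act 6 n220497 = n223001 := d21_5 (iv5 F423349) (iv1 F423351) F359541 D216451 (iv1 F504065) (iv5 D223001) (iv1 D202000) D202001 F422683 (iv1 F361010)
def n223002 : Q := act 6 n202000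
theorem D223002 : act 6 n202000 = n223002 := rfl
theorem F517199 : act 2 n223002 = n213861 := d3_1 D223002 F472444 (iv2 F422682)
theorem F517200 : act 3 n223002 = n213998 := d7_1 D223002 F473043 F422680
theorem F517201 : act 4 n223002 = n203560 := d10_1 D223002 (iv6 F428882) F422681
theorem F517202 : act 7 n223002 = n213857 := d14_2 (iv7 F422679) D223002 (iv6 D213857) F245080 D156194
theorem F517203 : act 0 n223002 = n213860 := d21_4 (iv5 F429006) (iv1 F517197) (iv5 D223001) D223002 (iv6 F476789) F476791 (iv1 D202403) (iv5 D115700) D115701 F423861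
theorem F517204 : act 0 n213859 = n223002 := d21_4 F428585 D220482 F503981 F472437 (iv6 D223002) D223001 F517196 F469581 (iv6 F428902) F428905
def n223003 : Q := act 7 n202008
theorem D223003 : act 7 n202008 = n223003 := rfl
theorem F517205 : act 2 n223003 = n202014 := d4_1 D223003 (iv7 D202014) (iv2 F422697)
theorem F517206 : act 3 n223003 = n215770 := d8_1 D223003 F481501 (iv3 F422698)
theorem F517207 : act 5 n223003 = n215769 := d13_1 D223003 F481496 F422699
theorem F517208 : act 1 n202012 = n223003 := d15_1 D202012 (iv7 D223003) F422697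
theorem F517209 : act 1 n223003 = n202011 := d15_1 F517208 (iv7 F458755) F458752
def n223004 : Q := act 0 n202010
theorem D223004 : act 0 n202010 = n223004 := rfl
theorem F517210 : act 6 n223004 = n222520 := d21_5 (iv5 F404265) (iv1 D115321) D115323 D202010 D223004 F514686 (iv1 F440616) (iv5 F472671) F472672 F440600
theorem F517211 : act 2 n208520 = n223004 := d15_3 (iv0 D223004) (iv0 F442827) (iv7 F449713)
def n223005 : Q := act 3 n202011
theorem D223005 : act 3 n202011 = n223005 := rfl
theorem F517212 : act 4 n223005 = n204773 := d5_2 (iv4 F422705) D223005 F433523 (iv4 F375871) (iv3 F390172)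
theorem F517213 : act 6 n223005 = n204772 := d7_2 (iv6 F422706) D223005 F433517
theorem F517214 : act 7 n223005 = n209673 := d8_2 F458755 D223005 (iv3 F458753)
theorem F517215 : act 0 n221491 = n223005 := d20_4 (iv4 F168812) F365198 F400986 D221491 (iv3 D223005) F422705 D220379 F503492 F433003 (iv1 D115677)
theorem F517216 : act 2 n223005 = n204801 := d15_3 (iv0 F516938) (iv0 F516939) (iv7 F517214)
def n223006 : Q := act 3 n202012
theorem D223006 : act 3 n202012 = n223006 := rfl
theorem F517217 : act 5 n223006 = n213629 := d6_2 F468806 D223006 (iv3 F471365)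
theorem F517218 : act 0 n223006 = n221562 := d20_4 (iv4 F503492) F503495 F423780 D223006 F509600 F422811 D202574 (iv4 F426967) D210745 F458677
def n223007 : Q := act 0 n202013
theorem D223007 : act 0 n202013 = n223007 := rfl
theorem F517219 : act 5 n223007 = n213955 := d17_1 D223007 (iv1 F482154) (iv5 F482152) F504750 (iv5 F504751) (iv0 F503610) F503604 F503603 F484351
theorem F517220 : act 4 n223007 = n208408 := d18_3 (iv1 F503601) F484351 D223007 (iv5 D208408) (iv4 F446841) (iv0 F456648) F456647 D210227 (iv5 F503598)
theorem F517221 : act 2 n215831 = n223007 := d15_3 (iv0 D223007) (iv0 F434934) F482167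
theorem F517222 : act 7 n223007 = n215832 := d4_2 F482167 F517221 F481730
theorem F517223 : act 1 n215769 = n223007 := d15_1 (iv0 F481497) F517222 F481730
theorem F517224 : act 6 n220499 = n223007 := d10_0 F517220 F449224 (iv4 F504067)
def n223008 : Q := act 7 n202013
theorem D223008 : act 7 n202013 = n223008 := rfl
theorem F517225 : act 2 n223008 = n215769 := d4_1 D223008 F481496 (iv2 F422707)
theorem F517226 : act 3 n223008 = n202018 := d8_1 D223008 (iv7 D202018) (iv3 F422708)
theorem F517227 : act 4 n223008 = n219358 := d11_1 D223008 F498451 F484351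
theorem F517228 : act 5 n223008 = n202014 := d13_1 D223008 (iv7 D202014) D202013
theorem F517229 : act 1 n215832 = n223008 := d15_1 D215832 (iv7 D223008) F422707
theorem F517230 : act 1 n223008 = n215831 := d15_1 F517229 (iv7 F482167) (iv2 F481730)
def n223009 : Q := act 5 n202015
theorem D223009 : act 5 n202015 = n223009 := rfl
theorem F517231 : act 3 n223009 = n213776 := d6_1 D223009 (iv5 D213776) (iv3 F422711)
theorem F517232 : act 6 n223009 = n210783 := d12_2 F425399 D223009 (iv5 D210783) (iv6 F366493) (iv5 F425398)
def n223010 : Q := act 1 n202016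
theorem D223010 : act 1 n202016 = n223010 := rfl
theorem F517233 : act 7 n223010 = n212435 := d15_2 F479951 D223010 F465787
theorem F517234 : act 5 n223010 = n215429 := d18_9 F509291 F509289 (iv1 F438311) F428589 (iv5 F458696) (iv4 F458699) (iv0 F484347) F484346 D223010
theorem F517235 : act 4 n212436 = n223010 := d20_6 F430361 (iv1 F310351) (iv4 F391057) (iv3 F480517) F480519 (iv3 F465791) (iv1 D223010) (iv4 F484346) F484345 F430363
theorem F517236 : act 2 n223010 = n222018 := d1_1 F517235 F511927 (iv2 F488248)
def n223011 : Q := act 6 n202018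
theorem D223011 : act 6 n202018 = n223011 := rfl
theorem F517237 : act 2 n223011 = n213960 := d3_1 D223011 (iv6 D213960) (iv2 F422715)
theorem F517238 : act 4 n223011 = n219357 := d10_1 D223011 (iv6 D219357) (iv4 F422716)
theorem F517239 : act 5 n223011 = n219782 := d12_1 D223011 (iv6 D219782) F386184 F226800 (iv5 F422717)
theorem F517240 : act 7 n223011 = n222370 := d14_2 D202018 D223011 F513843 F500655 F422712
theorem F517241 : act 0 n223011 = n213184 := d21_4 (iv5 D139661) (iv1 F179620) (iv5 F422717) D223011 F469364 (iv5 D152786) D152784 D213187 F469371 F245333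
def n223012 : Q := act 5 n202020
theorem D223012 : act 5 n202020 = n223012 := rfl
theorem F517242 : act 2 n223012 = n210778 := d2_1 D223012 (iv5 D210778) (iv2 F422724)
theorem F517243 : act 3 n223012 = n202021 := d6_1 D223012 (iv5 D202021) D202020
theorem F517244 : act 7 n223012 = n215931 := d13_2 F438260 D223012 F482139
theorem F517245 : act 4 n223012 = n219934 := d16_2 F423875 D223012 F501258 (iv4 F466900) F466899 F438966 (iv5 F224815) F322090 (iv2 F423871)
theorem F517246 : act 0 n223012 = n202216 := d17_2 (iv1 F422751) D223012 (iv5 D202216) F326816 D202311 (iv0 F423588) (iv5 D126632) D126630 (iv4 F203713)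
theorem F517247 : act 1 n223012 = n202051 := d17_6 D126005 (iv5 F351373) (iv1 F438888) F438886 F423875 D223012 F422803 F326813 (iv4 F93224)
theorem F517248 : act 6 n204097 = n223012 := d21_5 D214163 F473801 F429104 D213195 F469405 (iv5 D223012) F437993 (iv5 F502593) (iv6 D220196) F388814
def n223013 : Q := act 6 n202024
theorem D223013 : act 6 n202024 = n223013 := rfl
theorem F517249 : act 2 n223013 = n214602 := d3_1 D223013 (iv6 D214602) (iv2 F422733)
theorem F517250 : act 3 n223013 = n202121 := d7_1 D223013 (iv6 F422958) (iv3 F422734)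
theorem F517251 : act 4 n223013 = n202025 := d10_1 D223013 (iv6 D202025) D202024
theorem F517252 : act 5 n223013 = n204507 := d12_1 D223013 (iv6 D204507) (iv5 F374105) F374106 (iv5 F422736)
theorem F517253 : act 7 n223013 = n214450 := d14_2 (iv7 F422735) D223013 F475227 F455945 (iv6 D210051)
def n223014 : Q := act 1 n202025
theorem D223014 : act 1 n202025 = n223014 := rfl
theorem F517254 : act 7 n223014 = n219881 := d15_2 (iv0 F452636) D223014 F501019
theorem F517255 : act 4 n214438 = n223014 := d20_0 (iv1 D223014) (iv4 F517251) F517250 (iv1 D202121) (iv3 D115383) (iv4 D53231) D53229 D115379 D202115 (iv1 F475179)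
theorem F517256 : act 3 n203604 = n223014 := d20_3 (iv4 D188085) D188083 (iv4 F429070) (iv1 D223014) F422739 F179626 (iv1 F393003) (iv4 F359960) (iv3 F245531) (iv1 F372288)
theorem F517257 : act 2 n223014 = n220696 := d0_1 F517256 (iv3 D220696) (iv2 F393235) F393236 F429072
theorem F517258 : act 6 n223014 = n220543 := d7_2 F473821 F517256 F504279
theorem F517259 : act 5 n223014 = n216644 := d21_6 (iv5 F504316) (iv1 D220550) (iv5 D193883) D193884 (iv1 F504278) (iv6 F517258) (iv1 F485321) F481863 F469407 (iv1 F433566)
def n223015 : Q := act 5 n202025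
theorem D223015 : act 5 n202025 = n223015 := rfl
theorem F517260 : act 3 n223015 = n202027 := d6_1 D223015 (iv5 D202027) (iv3 F422739)
theorem F517261 : act 6 n223015 = n202026 := d12_2 D202025 D223015 (iv5 D202026) (iv6 D115332) D115331
theorem F517262 : act 4 n223015 = n210552 := d17_4 F485322 (iv5 F517259) (iv1 D223014) D223015 F458009 (iv0 D203326) (iv5 F391249) F391252 D215865
def n223016 : Q := act 5 n202029
theorem D223016 : act 5 n202029 = n223016 := rfl
theorem F517263 : act 2 n223016 = n215931 := d2_1 D223016 F482139 F438262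
theorem F517264 : act 3 n223016 = n202366 := d6_1 D223016 F423776 F422748
theorem F517265 : act 6 n223016 = n223006 := d12_2 (iv6 F422749) D223016 F517217 F471366 (iv5 D212838)
theorem F517266 : act 7 n223016 = n210778 := d13_2 (iv7 F422750) D223016 (iv5 D210778)
theorem F517267 : act 0 n223016 = n202051 := d17_2 F437992 D223016 F422803 F179899 D202313 (iv0 F423601) (iv5 D126735) F203712 D205821
theorem F517268 : act 1 n223016 = n202216 := d17_6 (iv1 F350850) F350852 F359980 (iv5 F224815) (iv4 F422747) D223016 (iv5 D202216) F401384 F401382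
def n223017 : Q := act 6 n202030
theorem D223017 : act 6 n202030 = n223017 := rfl
theorem F517269 : act 3 n223017 = n202035 := d7_1 D223017 (iv6 D202035) (iv3 F422752)
theorem F517270 : act 4 n223017 = n211299 := d10_1 D223017 (iv6 D211299) (iv4 F422753)
theorem F517271 : act 7 n223017 = n203607 := d14_2 F423236 D223017 (iv6 D203607) (iv7 F426996) F426995
def n223018 : Q := act 6 n202032
theorem D223018 : act 6 n202032 = n223018 := rfl
theorem F517272 : act 2 n223018 = n216991 := d3_1 D223018 F486894 F454872
theorem F517273 : act 3 n223018 = n202034 := d7_1 D223018 (iv6 D202034) D202032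
theorem F517274 : act 4 n223018 = n218135 := d10_1 D223018 F492298 F438001
theorem F517275 : act 5 n223018 = n216210 := d12_1 D223018 (iv6 F500738) (iv5 F507232) F510651 F510649
theorem F517276 : act 7 n223018 = n218134 := d14_2 F438281 D223018 F492294 (iv7 F401593) F438284
theorem F517277 : act 0 n212197 = n223018 := d21_4 (iv5 D144453) F104393 D145505 D212197 (iv6 D223018) (iv5 F510649) (iv1 D221748) (iv5 F438074) (iv6 F438073) (iv1 F227260)
theorem F517278 : act 1 n216188 = n223018 := d15_1 F483312 F517276 F492292
theorem F517279 : act 0 n202034 = n210816 := d20_4 F458826 (iv1 F492300) (iv4 F517274) F517273 (iv3 D210816) (iv4 D139843) (iv1 F223021) (iv4 F458841) (iv3 F510635) F510639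
def n223019 : Q := act 6 n202033
theorem D223019 : act 6 n202033 = n223019 := rfl
theorem F517280 : act 2 n223019 = n221067 := d3_1 D223019 F507073 F426657
theorem F517281 : act 3 n223019 = n221103 := d7_1 D223019 F510651 (iv3 F510650)
theorem F517282 : act 4 n223019 = n222187 := d10_1 D223019 F512790 F426653
theorem F517283 : act 7 n223019 = n221086 := d14_2 F510606 D223019 F507155 F498966 (iv6 F510604)
theorem F517284 : act 0 n223019 = n209766 := d21_4 F423223 (iv1 D202031) D202033 D223019 (iv6 D209766) (iv5 F360505) (iv1 F342912) (iv5 D105576) D105577 D195420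
theorem F517285 : act 0 n221088 = n223019 := d21_4 F446980 (iv1 F348355) D211460 (iv6 F507163) (iv6 D223019) (iv5 D202033) F396954 (iv5 F396953) F427484 F446979
def n223020 : Q := act 5 n202035
theorem D223020 : act 5 n202035 = n223020 := rfl
theorem F517286 : act 6 n223020 = n202038 := d12_2 D202035 D223020 (iv5 D202038) (iv6 D115340) D115339
theorem F517287 : act 7 n223020 = n203609 := d13_2 (iv7 F422766) D223020 (iv5 D203609)
theorem F517288 : act 0 n223020 = n222035 := d17_2 F422767 D223020 F512005 (iv4 D202481) F341169 F209459 F209458 (iv0 F239478) D155719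
def n223021 : Q := act 5 n202036
theorem D223021 : act 5 n202036 = n223021 := rfl
theorem F517289 : act 2 n223021 = n210774 := d2_1 D223021 (iv5 D210774) F422840
theorem F517290 : act 3 n223021 = n204505 := d6_1 D223021 (iv5 F509243) F509249
theorem F517291 : act 0 n223021 = n213973 := d21_1 D223021 (iv5 D213973) F455284 F391293 (iv6 D115243) D115242 (iv1 F330606) (iv5 D115339) D115340 D202036
theorem F517292 : act 1 n223021 = n213975 := d15_1 (iv0 F517291) F472948 (iv2 F472935)
def n223022 : Q := act 6 n202036
theorem D223022 : act 6 n202036 = n223022 := rfl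
theorem F517293 : act 2 n223022 = n210775 := d3_1 D223022 (iv6 D210775) F422840
theorem F517294 : act 3 n223022 = n204790 := d7_1 D223022 (iv6 F509245) F509249
theorem F517295 : act 4 n223022 = n211112 := d10_1 D223022 (iv6 F517077) F517074
theorem F517296 : act 7 n223022 = n221860 := d14_2 F516941 D223022 (iv6 D221860) F440606 F516942
theorem F517297 : act 0 n223022 = n202066 := d21_4 D213975 (iv1 F517292) (iv5 D223021) D223022 (iv6 D202066) D202065 (iv1 F455228) F455226 (iv6 F220237) (iv1 F245390)
theorem F517298 : act 5 n223022 = n204789 := d21_6 D115242 (iv1 F330606) (iv5 D115339) D115340 D202036 D223022 F473799 F473797 (iv6 D201904) (iv1 D115240)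
theorem F517299 : act 0 n222248 = n223022 := d21_4 D201907 D222953 F516958 (iv6 F513148) (iv6 D223022) D223021 F517291 (iv5 D213973) F455284 F391293
def n223023 : Q := act 4 n202038
theorem D223023 : act 4 n202038 = n223023 := rfl
theorem F517300 : act 3 n223023 = n203609 := d19_3 F422838 D202038 D223023 (iv1 F482102) (iv5 D215921) F278460 F307600 D86530 (iv5 F310656) F310655 F325287 (iv1 F325049) (iv5 F112985) F323809 (iv3 F100913) F161374 F84035 D115310 D201992
theorem F517301 : act 5 n203607 = n223023 := d16_1 (iv4 F429083) (iv4 D223023) (iv5 D202038) (iv4 F422764) (iv5 F510796) F510802 F498790 F493602 F493569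
theorem F517302 : act 0 n214025 = n223023 := d20_1 D214025 (iv4 D223023) (iv3 F422841) F481712 (iv3 D215827) F277516 D181153 F282166 (iv3 F485413) (iv1 D214024)
def n223024 : Q := act 0 n202042
theorem D223024 : act 0 n202042 = n223024 := rfl
theorem F517303 : act 6 n223024 = n209367 := d21_5 (iv5 F401366) (iv1 F422779) (iv5 D202041) D202042 D223024 F453415 F366518 (iv5 F453683) F453681 (iv1 F224170)
theorem F517304 : act 1 n220283 = n223024 := d15_0 (iv0 D223024) (iv7 F472765) (iv2 F503013)
theorem F517305 : act 3 n215920 = n223024 := d19_19 (iv1 F517304) F503016 F481598 F475925 F475924 (iv5 F431102) F431103 (iv3 F483325) F483328 (iv5 D213325) F241319 (iv3 F240879) F354013 D216313 F483788 (iv3 F488331) F510801 (iv5 F510800) (iv4 F482099)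
theorem F517306 : act 4 n209014 = n223024 := d20_0 (iv1 F517304) (iv4 D220283) (iv3 F389397) (iv1 F354161) F357916 F328967 (iv1 D63750) D63751 D135577 D209014
theorem F517307 : act 7 n223024 = n219803 := d11_2 F451849 F517306 F500692
theorem F517308 : act 0 n215920 = n213921 := d20_4 F245277 D209014 F517306 (iv3 F517305) (iv3 D213921) D213922 (iv1 F472754) (iv4 F514860) (iv3 F514861) (iv1 D213947)
def n223025 : Q := act 1 n202042
theorem D223025 : act 1 n202042 = n223025 := rfl
theorem F517309 : act 1 n223025 = n220283 := d15_1 D223025 F503015 F454909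
theorem F517310 : act 3 n219728 = n223025 := d20_3 (iv4 F500307) (iv1 D219730) (iv4 F500292) (iv1 D223025) F422781 (iv4 F422786) (iv1 D197277) F167083 (iv3 F245578) D214057
theorem F517311 : act 6 n204782 = n223025 := d21_3 D193885 (iv1 F504314) F504316 (iv1 D223025) (iv6 D202042) D202041 F422778 F401375 (iv6 F385959) F385961
theorem F517312 : act 2 n223025 = n219803 := d3_1 F517311 (iv6 D219803) (iv2 F433562)
theorem F517313 : act 4 n223025 = n204783 := d10_1 F517311 (iv6 D204783) D204782
def n223026 : Q := act 3 n202047
theorem D223026 : act 3 n202047 = n223026 := rfl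
theorem F517314 : act 2 n223026 = n213196 := d0_1 D223026 (iv3 D213196) (iv2 F438331) (iv3 D202058) (iv2 F438324)
theorem F517315 : act 4 n223026 = n219770 := d5_2 F464093 D223026 F500537 (iv4 F428133) (iv3 F464092)
theorem F517316 : act 6 n223026 = n217283 := d7_2 F472349 D223026 (iv3 F488270)
theorem F517317 : act 7 n223026 = n202063 := d8_2 (iv7 F438325) D223026 (iv3 D202063)
theorem F517318 : act 0 n223026 = n209849 := d20_4 (iv4 F228067) D212041 F464093 D223026 (iv3 F489967) (iv4 D217658) (iv1 F371257) D192445 F422563 (iv1 D152840)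
theorem F517319 : act 0 n209671 = n223026 := d20_4 F393260 (iv1 F158949) D194239 (iv3 F454585) (iv3 D223026) (iv4 F464093) (iv1 F464094) F427500 (iv3 F404295) (iv1 F393262)
def n223027 : Q := act 0 n202049
theorem D223027 : act 0 n202049 = n223027 := rfl
theorem F517320 : act 5 n223027 = n209867 := d17_3 (iv1 D202048) D202049 D223027 F455199 F472217 F472214 (iv5 D212044) D212042 (iv4 F464098)
theorem F517321 : act 4 n223027 = n219691 := d18_3 F507025 (iv4 F454071) D223027 (iv5 D219691) (iv4 F500047) (iv0 F500050) F427526 (iv0 F396715) D221056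
theorem F517322 : act 2 n202067 = n223027 := d1_3 F517321 F500076 (iv4 F503966)
theorem F517323 : act 0 n223027 = n202070 := d20_1 (iv4 F517321) F454078 (iv3 F504774) F504776 F504237 F480683 F454954 (iv4 D209788) D209787 (iv1 F500078)
theorem F517324 : act 7 n202068 = n223027 := d15_2 (iv0 D202067) D202068 (iv2 F517322)
def n223028 : Q := act 1 n202049
theorem D223028 : act 1 n202049 = n223028 := rfl
theorem F517325 : act 1 n223028 = n202070 := d15_1 D223028 (iv7 D202070) (iv2 F422798)
theorem F517326 : act 7 n223028 = n202067 := d15_2 (iv0 D223027) D223028 F517322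
theorem F517327 : act 3 n202210 = n223028 := d20_3 F502645 F500578 F500576 (iv1 D223028) (iv3 F433023) F433024 F306745 (iv4 F287495) (iv3 F429257) (iv1 F502647)
theorem F517328 : act 4 n214578 = n223028 := d20_6 F500325 F495173 F471301 F390883 (iv1 F252596) (iv3 F475883) (iv1 D223028) F454071 F454070 (iv1 F500327)
theorem F517329 : act 5 n202207 = n223028 := d21_0 (iv1 D223028) (iv5 D202049) (iv6 D115347) (iv1 F179453) D201896 (iv5 F472952) (iv1 F472959) F455238 F220237 F423247
theorem F517330 : act 2 n223028 = n202068 := d2_1 F517329 (iv5 F423234) (iv2 F423244)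
theorem F517331 : act 6 n223028 = n211762 := d12_2 D202207 F517329 (iv5 D211762) (iv6 D144073) (iv5 F365076)
theorem F517332 : act 0 n210776 = n211762 := d21_4 (iv5 D196514) (iv1 F179586) D139661 D210776 (iv6 F517331) (iv5 F517329) (iv1 F423248) D209871 F455211 (iv1 F400926)
def n223029 : Q := act 7 n202049
theorem D223029 : act 7 n202049 = n223029 := rfl
theorem F517333 : act 2 n223029 = n202070 := d4_1 D223029 (iv7 D202070) (iv2 F422798)
theorem F517334 : act 4 n223029 = n220595 := d11_1 D223029 F504520 (iv4 F454071)
theorem F517335 : act 5 n223029 = n202050 := d13_1 D223029 (iv7 D202050) D202049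
theorem F517336 : act 1 n202068 = n223029 := d15_1 D202068 (iv7 D223029) F422798
theorem F517337 : act 1 n223029 = n202067 := d15_1 F517336 (iv7 F517326) F517330
theorem F517338 : act 6 n215915 = n223029 := d21_9 (iv5 F423234) (iv1 D137039) D137041 F220171 (iv1 F179618) (iv6 F422712) (iv5 D202016) F415321 D215915 (iv1 F517336)
def n223030 : Q := act 0 n202056
theorem D223030 : act 0 n202056 = n223030 := rfl
theorem F517339 : act 5 n223030 = n203103 := d17_1 D223030 (iv1 F426978) (iv5 F469390) F469389 (iv5 F469386) (iv0 F454270) (iv5 F484494) (iv0 F484496) F433012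
theorem F517340 : act 4 n223030 = n219352 := d18_1 D223030 F504757 F504755 (iv5 D210746) F426967 (iv0 D202574) (iv4 F422811) (iv0 D202054) D202056
theorem F517341 : act 6 n223030 = n213853 := d21_5 (iv5 D202065) (iv1 D115353) D115354 (iv6 F422815) D223030 (iv5 D213853) (iv1 D155994) D155995 (iv6 F455211) F455212
theorem F517342 : act 1 n215813 = n223030 := d15_0 (iv0 D223030) (iv7 F458776) (iv2 F481673)
theorem F517343 : act 2 n213187 = n223030 := d3_3 F517341 F472401 (iv6 F469371)
theorem F517344 : act 7 n213188 = n223030 := d15_2 (iv0 F469373) (iv0 F469374) (iv2 F517343)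
def n223031 : Q := act 1 n202056
theorem D223031 : act 1 n202056 = n223031 := rfl
theorem F517345 : act 1 n223031 = n215813 := d15_1 D223031 F481675 F433010
theorem F517346 : act 7 n223031 = n213187 := d15_2 (iv0 D223030) D223031 F517343
theorem F517347 : act 5 n223031 = n203104 := d17_7 F318399 (iv5 F318400) F233279 (iv5 F349396) (iv4 F349398) D202056 D223031 F426982 F239991
theorem F517348 : act 3 n215816 = n223031 := d19_19 (iv1 D223031) (iv5 D202056) F349398 F349395 (iv1 F105965) (iv5 D32334) D32333 D69658 (iv1 F317433) F317435 (iv4 F439572) F439571 F420702 (iv5 F428834) F428835 (iv3 D123851) D123849 (iv5 F341424) (iv4 F481689)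
theorem F517349 : act 2 n213188 = n223031 := d2_3 F517347 F426985 D213188
def n223032 : Q := act 4 n202060
theorem D223032 : act 4 n202060 = n223032 := rfl
theorem F517350 : act 7 n223032 = n203384 := d11_2 (iv7 F455219) D223032 (iv4 F455220)
theorem F517351 : act 5 n223032 = n203322 := d16_1 D223032 F427873 (iv5 F427536) (iv4 F510867) F510865 (iv4 D202064) D202065 (iv7 F455222) F455224
theorem F517352 : act 0 n223032 = n209781 := d17_0 (iv5 D209781) (iv1 F385265) D219691 (iv4 F517321) F517320 F455201 D209871 (iv0 F455213) D223032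
theorem F517353 : act 1 n223032 = n204595 := d18_6 (iv1 F468809) (iv4 F464103) (iv1 F464107) (iv4 D202059) D202060 D223032 (iv4 F469527) F469525 (iv5 F468807)
theorem F517354 : act 3 n223032 = n203323 := d19_3 D115352 D202060 D223032 F427878 (iv5 D127973) (iv4 D60125) F46153 (iv1 F54115) F42055 F41210 (iv3 D14900) (iv1 F18132) D13537 (iv4 F315181) D34190 F101965 (iv5 D25811) (iv4 F40794) (iv3 F84056)
theorem F517355 : act 6 n214390 = n223032 := d7_0 F517354 F427876 (iv3 F474929)
def n223033 : Q := act 6 n202060
theorem D223033 : act 6 n202060 = n223033 := rfl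
theorem F517356 : act 4 n223033 = n214390 := d10_1 D223033 F517355 (iv4 D223032)
def n223034 : Q := act 6 n202064
theorem D223034 : act 6 n202064 = n223034 := rfl
theorem F517357 : act 4 n223034 = n202066 := d10_1 D223034 (iv6 D202066) D202064
theorem F517358 : act 0 n223034 = n221079 := d21_4 D197354 D221801 F510865 D223034 (iv6 D221079) (iv5 D195353) F223001 (iv5 F423241) F423243 (iv1 D197353)
theorem F517359 : act 1 n223034 = n213825 := d15_1 (iv0 F517358) F513779 F513776
def n223035 : Q := act 4 n202065
theorem D223035 : act 4 n202065 = n223035 := rfl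
theorem F517360 : act 2 n223035 = n203384 := d1_1 D223035 (iv4 F455220) (iv2 F455217)
theorem F517361 : act 3 n223035 = n209817 := d5_1 D223035 (iv4 F481849) (iv3 D215864) D215865 F481852
theorem F517362 : act 5 n223035 = n203383 := d9_2 D202065 D223035 (iv4 F467571) (iv5 F505134) (iv4 F510872) F510868 (iv4 D202059) D202060 D223032 F517351 F427873 (iv5 F427536) (iv4 F510867) F510865 (iv4 D202064)
theorem F517363 : act 0 n223035 = n204595 := d17_0 (iv5 F475875) (iv1 D214576) D214578 F517328 (iv5 F517329) (iv0 F423247) (iv5 F455226) F455228 D223035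
theorem F517364 : act 1 n223035 = n209781 := d18_6 (iv1 D213058) F239524 F422821 (iv4 D202064) D202065 D223035 F454935 D214008 (iv5 F473092)
def n223036 : Q := act 6 n202067
theorem D223036 : act 6 n202067 = n223036 := rfl
theorem F517365 : act 4 n223036 = n222028 := d10_1 D223036 F511979 (iv4 F503966)
theorem F517366 : act 5 n223036 = n213183 := d12_1 D223036 (iv6 F472795) (iv5 F472794) (iv6 D209869) (iv5 F503967)
theorem F517367 : act 0 n223036 = n220516 := d21_10 (iv5 F504143) (iv1 F485386) (iv5 F472898) (iv6 D213960) (iv1 D156125) (iv6 F220171) (iv5 D137041) D137038 (iv5 F503967) D223036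
def n223037 : Q := act 3 n202068
theorem D223037 : act 3 n202068 = n223037 := rfl
theorem F517368 : act 2 n223037 = n223015 := d0_1 D223037 F517260 (iv2 F423254) F517327 F517330
theorem F517369 : act 5 n223037 = n209870 := d6_2 F423234 D223037 (iv3 D209870)
theorem F517370 : act 4 n209850 = n223037 := d19_2 D137010 D209850 (iv3 D223037) (iv1 D202068) (iv5 D115354) (iv4 F179562) F179561 F111253 D116901 D202768 F425497 (iv1 F407879) (iv5 D144714) (iv4 F111231) F84021 (iv1 F48754) (iv5 D30325) D30324 D64398
theorem F517371 : act 6 n223037 = n222017 := d10_2 (iv6 F455130) F517370 F511922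
def n223038 : Q := act 4 n202068
theorem D223038 : act 4 n202068 = n223038 := rfl
theorem F517372 : act 2 n223038 = n214578 := d1_1 D223038 F517328 F517330
theorem F517373 : act 3 n223038 = n219695 := d5_1 D223038 (iv4 F501340) F501343 F517370 (iv3 D223037)
theorem F517374 : act 7 n223038 = n219691 := d11_2 (iv7 F517324) D223038 (iv4 F517321)
theorem F517375 : act 1 n223038 = n220478 := d18_8 (iv1 F455938) (iv4 F467571) (iv1 F467575) (iv4 F464128) F454012 (iv4 D202069) D202068 D223038 F503962
theorem F517376 : act 5 n214577 = n223038 := d17_5 F414226 D222509 F514630 F464149 (iv4 F475878) F517375 F503962 (iv0 F455937) F427873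
def n223039 : Q := act 6 n202068
theorem D223039 : act 6 n202068 = n223039 := rfl
theorem F517377 : act 2 n223039 = n211762 := d3_1 D223039 (iv6 F517331) F517330
theorem F517378 : act 3 n223039 = n222017 := d7_1 D223039 (iv6 F517371) (iv3 D223037)
theorem F517379 : act 5 n223039 = n211759 := d12_1 D223039 (iv6 D211759) (iv5 F423228) F423233 F423234
theorem F517380 : act 0 n216773 = n223039 := d21_4 (iv5 D115326) F179585 F359528 D216773 (iv6 D223039) (iv5 F423234) (iv1 D137039) D137041 F220171 (iv1 F179618)
theorem F517381 : act 1 n216773 = n219781 := d15_1 (iv0 F517380) F500598 (iv2 F517377)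
def n223040 : Q := act 1 n202069
theorem D223040 : act 1 n202069 = n223040 := rfl
theorem F517382 : act 1 n223040 = n220595 := d15_1 D223040 F504520 F454069
theorem F517383 : act 4 n223040 = n213226 := d17_9 (iv1 D213226) (iv5 D152842) D152839 D213221 F469477 F454084 F454016 F454012 D223040
theorem F517384 : act 5 n223040 = n221054 := d18_9 F507013 (iv4 F512416) F512419 F427345 D203394 (iv4 F503966) (iv0 D202067) D202069 D223040
theorem F517385 : act 3 n216629 = n223040 := d20_9 (iv4 D202069) D202067 F503966 F428134 D203396 F428141 (iv4 F471183) F471186 (iv4 F485249) (iv1 D223040)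
theorem F517386 : act 2 n223040 = n221056 := d0_1 F517385 F507022 F396717 (iv3 F438159) (iv2 F485251)
theorem F517387 : act 6 n223040 = n216743 := d7_2 F485250 F517385 (iv3 D216743)
def n223041 : Q := act 3 n202069
theorem D223041 : act 3 n202069 = n223041 := rfl
theorem F517388 : act 4 n223041 = n202103 := d5_2 D202069 D223041 (iv3 D202103) (iv4 D115371) (iv3 F179633)
theorem F517389 : act 5 n223041 = n214434 := d6_2 F454012 D223041 F475165
theorem F517390 : act 6 n223041 = n216794 := d7_2 (iv6 F433013) D223041 (iv3 D216794)
theorem F517391 : act 7 n223041 = n220645 := d8_2 F454077 D223041 F504774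
theorem F517392 : act 0 n222331 = n223041 := d20_4 F428137 F391014 (iv4 F427886) (iv3 F513634) (iv3 D223041) (iv4 D202069) D202067 F503966 F428134 D203396
def n223042 : Q := act 6 n202070
theorem D223042 : act 6 n202070 = n223042 := rfl
theorem F517393 : act 2 n223042 = n215915 := d3_1 D223042 F517338 F517333
theorem F517394 : act 3 n223042 = n202106 := d7_1 D223042 (iv6 D202106) (iv3 F422822)
theorem F517395 : act 4 n223042 = n220643 := d10_1 D223042 (iv6 F504769) (iv4 F454078)
theorem F517396 : act 5 n223042 = n202212 := d12_1 D223042 F423259 (iv5 F422281) F415926 (iv5 F422823)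
theorem F517397 : act 7 n223042 = n223009 := d14_2 D202070 D223042 F517232 F458776 F422815
theorem F517398 : act 0 n213761 = n223042 := d17_0 F517396 (iv1 F423262) (iv5 F500654) (iv4 D219794) (iv5 F411907) (iv0 F475999) F476000 F432600 D213761
def n223043 : Q := act 5 n202072
theorem D223043 : act 5 n202072 = n223043 := rfl
theorem F517399 : act 2 n223043 = n214075 := d2_1 D223043 F473356 F425958
theorem F517400 : act 3 n223043 = n211079 := d6_1 D223043 F460028 F423879
theorem F517401 : act 4 n223043 = n211082 := d9_1 D223043 F460042 F404550 F321155 (iv4 D77747) D77748 (iv4 F365961) (iv5 F414474) (iv4 F514675) F514676 F460828 F322336 (iv4 F255195) F350924 (iv4 F422829)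
theorem F517402 : act 6 n223043 = n209885 := d12_2 F423876 D223043 F455254 F517248 (iv5 D223012)
theorem F517403 : act 7 n223043 = n222520 := d13_2 F440617 D223043 F514686
theorem F517404 : act 0 n223043 = n209898 := d17_2 (iv1 F422828) D223043 (iv5 F462677) F428820 F188282 (iv0 F314158) (iv5 F331936) (iv0 F403020) (iv4 F415916)
theorem F517405 : act 1 n223043 = n222519 := d17_6 (iv1 F343415) (iv5 D161685) (iv1 F316556) F350924 (iv4 F422829) D223043 F514679 (iv0 F423424) (iv4 D161925)
def n223044 : Q := act 4 n202075
theorem D223044 : act 4 n202075 = n223044 := rfl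
theorem F517406 : act 2 n223044 = n220629 := d1_1 D223044 (iv4 F509279) F509277
theorem F517407 : act 5 n223044 = n220628 := d16_1 D223044 F504702 F392051 (iv4 F420956) (iv5 F422846) (iv4 D202077) D202078 (iv7 F509278) F509277
theorem F517408 : act 0 n223044 = n216574 := d18_2 F473792 D223044 (iv4 F517173) F517174 F472443 F428828 F455277 (iv0 F455278) D214161
theorem F517409 : act 6 n213978 = n223044 := d21_3 (iv5 D210774) F422770 F472957 F517408 F485016 F481709 (iv1 F473784) (iv5 F509293) F509294 (iv1 F472938)
def n223045 : Q := act 6 n202075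
theorem D223045 : act 6 n202075 = n223045 := rfl
theorem F517410 : act 3 n223045 = n223020 := d7_1 D223045 F517286 (iv3 F422841)
theorem F517411 : act 4 n223045 = n213978 := d10_1 D223045 F517409 (iv4 D223044)
theorem F517412 : act 5 n223045 = n223017 := d12_1 D223045 (iv6 D223017) (iv5 D202030) (iv6 F422755) D202075
theorem F517413 : act 7 n223023 = n223045 := d13_0 F517412 F517271 F517301
def n223046 : Q := act 2 n202076
theorem D223046 : act 2 n202076 = n223046 := rfl
theorem F517414 : act 3 n223046 = n213932 := d0_2 D202076 D223046 F472778 F422769 (iv2 F422760)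
theorem F517415 : act 4 n223046 = n214610 := d1_2 F503020 D223046 (iv2 F503018)
theorem F517416 : act 6 n223046 = n213929 := d3_2 (iv6 F503017) D223046 (iv2 F503013)
theorem F517417 : act 7 n223046 = n222949 := d4_2 F509276 D223046 F516935
theorem F517418 : act 1 n223046 = n223005 := d15_0 (iv0 F517215) F509276 D223046
theorem F517419 : act 5 n220630 = n223046 := d16_7 F509274 (iv5 D208665) (iv4 F222776) (iv5 F401879) (iv4 F422477) (iv5 F467346) (iv4 F504710) F517417 F516935
def n223047 : Q := act 5 n202076
theorem D223047 : act 5 n202076 = n223047 := rfl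
theorem F517420 : act 2 n223047 = n220630 := d2_1 D223047 F517419 (iv2 D223046)
theorem F517421 : act 3 n223047 = n202078 := d6_1 D223047 (iv5 D202078) D202076
theorem F517422 : act 6 n223047 = n215791 := d12_2 (iv6 F503017) D223047 (iv5 D215791) D215792 (iv5 F503016)
theorem F517423 : act 4 n223047 = n220263 := d16_2 F503020 D223047 (iv5 F504272) F504271 F449039 (iv4 F217229) (iv5 F448991) F478846 (iv2 F503018)
def n223048 : Q := act 4 n202078
theorem D223048 : act 4 n202078 = n223048 := rfl
theorem F517424 : act 3 n223048 = n215796 := d5_1 D223048 (iv4 F500701) (iv3 F502924) (iv4 F517423) F517421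
theorem F517425 : act 5 n223048 = n213204 := d9_2 D202078 D223048 F469434 (iv5 F374138) (iv4 F471485) F471484 (iv4 D202074) D202075 D223044 F517407 F504702 F392051 (iv4 F420956) (iv5 F422846) (iv4 D202077)
theorem F517426 : act 7 n223048 = n220629 := d11_2 F509278 D223048 (iv4 F509279)
theorem F517427 : act 1 n223048 = n216574 := d18_6 F422506 F362475 (iv1 F422844) (iv4 D202077) D202078 D223048 (iv4 F517173) F517177 (iv5 D222969)
def n223049 : Q := act 6 n202078
theorem D223049 : act 6 n202078 = n223049 := rfl
theorem F517428 : act 3 n223049 = n215791 := d7_1 D223049 (iv6 F517422) F517421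
theorem F517429 : act 0 n213987 = n223049 := d21_4 F201768 (iv1 F111485) (iv5 F245418) D213987 (iv6 D223049) (iv5 D202078) (iv1 D115361) D115362 F179639 D115369
theorem F517430 : act 5 n223049 = n215790 := d19_1 F517429 F481593 (iv3 F475916) F475920 F467371 F467150 F248393 F241546 F241545 (iv4 F242342) (iv3 F446314) F446315 (iv5 D207623) (iv4 F216411) (iv3 D134453) F101901 D134983 D208731 (iv3 F472994)
def n223050 : Q := act 5 n202079
theorem D223050 : act 5 n202079 = n223050 := rfl
theorem F517431 : act 3 n223050 = n215792 := d6_1 D223050 (iv5 F503016) F503014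
theorem F517432 : act 6 n223050 = n215790 := d12_2 D202079 D223050 (iv5 F517430) (iv6 D223049) (iv5 D202078)
theorem F517433 : act 4 n223050 = n212324 := d16_2 F428865 D223050 (iv5 D212324) (iv4 D146685) (iv5 F215129) (iv4 F438303) (iv5 D205892) D205893 F438307
theorem F517434 : act 0 n223050 = n223009 := d17_2 F428866 D223050 (iv5 D223009) (iv4 F422710) (iv5 F350663) (iv0 D128058) D128060 (iv0 F416814) F416811
theorem F517435 : act 1 n223050 = n215915 := d17_6 D200163 F415323 F432142 F432140 F428865 D223050 (iv5 D215915) (iv0 F415321) F179617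
theorem F517436 : act 7 n213761 = n223050 := d11_0 F517433 F465321 D213761
def n223051 : Q := act 7 n202079
theorem D223051 : act 7 n202079 = n223051 := rfl
theorem F517437 : act 2 n223051 = n205891 := d4_1 D223051 (iv7 F509290) F509287
theorem F517438 : act 3 n223051 = n209774 := d8_1 D223051 (iv7 F503015) F503014
theorem F517439 : act 4 n223051 = n205822 := d11_1 D223051 F437997 F428865
theorem F517440 : act 5 n223051 = n213761 := d13_1 D223051 F517436 (iv5 D223050)
theorem F517441 : act 6 n223051 = n205821 := d14_1 D223051 F437991 (iv6 F400987) (iv7 F422758) D202079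
theorem F517442 : act 1 n215429 = n223051 := d15_1 (iv0 F509291) (iv7 D223051) (iv2 F509287)
theorem F517443 : act 1 n223051 = n215428 := d15_1 F517442 F479949 (iv2 F479952)
def n223052 : Q := act 4 n202080
theorem D223052 : act 4 n202080 = n223052 := rfl
theorem F517444 : act 7 n223052 = n202097 := d11_2 F509299 D223052 (iv4 F509301)
theorem F517445 : act 0 n223052 = n220513 := d18_2 D202080 D223052 F504128 F423840 F362475 (iv0 F422837) (iv4 D202074) (iv0 D115360) D115362
theorem F517446 : act 1 n223052 = n222973 := d18_6 F517204 F517201 (iv1 F428880) (iv4 F472186) F472185 D223052 (iv4 D222973) D222972 F517051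
def n223053 : Q := act 3 n202081
theorem D223053 : act 3 n202081 = n223053 := rfl
theorem F517447 : act 2 n223053 = n220551 := d0_1 D223053 F504319 F472935 (iv3 F509304) F509303
theorem F517448 : act 5 n223053 = n219761 := d6_2 F423417 D223053 F500481
theorem F517449 : act 0 n223053 = n213208 := d19_4 (iv1 D220499) (iv5 F472974) F472973 D223053 F469443 (iv4 D209673) D209672 (iv1 F491314) (iv5 D217931) F372604 (iv3 F384550) D219597 F499858 (iv4 F500686) (iv3 D219801) F386273 (iv5 F391305) (iv4 F504118) F504117
def n223054 : Q := act 0 n202082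
theorem D223054 : act 0 n202082 = n223054 := rfl
theorem F517450 : act 4 n223054 = n202383 := d18_3 (iv1 D202081) D202082 D223054 (iv5 F472194) (iv4 D213812) (iv0 D155880) (iv4 F244859) (iv0 F423418) F423417
theorem F517451 : act 3 n204449 = n223054 := d5_5 F517450 F472448 (iv4 D123834) (iv3 F198288) D204449
theorem F517452 : act 7 n213989 = n223054 := d11_0 F517450 (iv7 F517050) F517055
def n223055 : Q := act 5 n202082
theorem D223055 : act 5 n202082 = n223055 := rfl
theorem F517453 : act 2 n223055 = n220644 := d2_1 D223055 (iv5 F509307) F509305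
theorem F517454 : act 4 n223055 = n217273 := d16_2 D202082 D223055 (iv5 D217273) (iv4 F408969) (iv5 F415291) F415290 F432993 F432991 F400979
theorem F517455 : act 0 n203597 = n223055 := d19_0 (iv5 D223055) (iv4 D202082) (iv3 F422814) D223030 F517339 F426977 (iv3 D138692) (iv1 D65121) D65122 D138698 F339593 (iv1 F274970) F339586 F353312 F353313 F167784 D135212 D208864 F451165
theorem F517456 : act 1 n204449 = n223055 := d15_0 (iv0 F517455) F470539 F470536
theorem F517457 : act 7 n220642 = n223055 := d11_0 F517454 F488218 D220642
def n223056 : Q := act 7 n202082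
theorem D223056 : act 7 n202082 = n223056 := rfl
theorem F517458 : act 3 n223056 = n216656 := d8_1 D223056 F498562 F485153
theorem F517459 : act 4 n223056 = n202083 := d11_1 D223056 (iv7 D202083) D202082
theorem F517460 : act 5 n223056 = n220642 := d13_1 D223056 F517457 (iv5 D223055)
theorem F517461 : act 1 n213989 = n223056 := d15_1 (iv0 F509308) (iv7 D223056) (iv2 F509305)
def n223057 : Q := act 5 n202084
theorem D223057 : act 5 n202084 = n223057 := rfl
theorem F517462 : act 2 n223057 = n202085 := d2_1 D223057 (iv5 D202085) D202084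
theorem F517463 : act 3 n223057 = n213177 := d6_1 D223057 F469340 (iv3 F422853)
theorem F517464 : act 4 n223057 = n202093 := d9_1 D223057 (iv5 F463356) F463355 F372159 F372154 (iv5 D144290) (iv4 F226968) (iv5 F455230) F455229 (iv5 D202085) (iv4 F226726) (iv5 F365050) (iv4 F147980) D190582 (iv4 F422854)
theorem F517465 : act 6 n223057 = n202092 := d12_2 (iv6 F422855) D223057 (iv5 F452772) (iv6 F467320) F467318
theorem F517466 : act 7 n223057 = n202093 := d13_2 F463358 D223057 (iv5 F463356)
theorem F517467 : act 0 n223057 = n220694 := d17_2 (iv1 F422856) D223057 (iv5 D220694) (iv4 D194230) (iv5 D103023) (iv0 D47764) D47766 D103029 D194239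
theorem F517468 : act 1 n223057 = n220697 := d17_6 F401171 (iv5 D194441) (iv1 F176037) D190582 (iv4 F422854) D223057 (iv5 D220697) (iv0 F401172) (iv4 F401168)
def n223058 : Q := act 5 n202088
theorem D223058 : act 5 n202088 = n223058 := rfl
theorem F517469 : act 2 n223058 = n213055 := d2_1 D223058 (iv5 D213055) (iv2 F422862)
theorem F517470 : act 3 n223058 = n213197 := d6_1 D223058 (iv5 D213197) F422861
theorem F517471 : act 7 n223058 = n213205 := d13_2 (iv7 F422859) D223058 (iv5 D213205)
theorem F517472 : act 4 n223058 = n215820 := d16_2 F422860 D223058 (iv5 D215820) F277508 (iv5 F305165) F412936 (iv5 F412934) (iv7 F241496) F388280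
theorem F517473 : act 0 n223058 = n202098 := d17_2 F422863 D223058 F422873 (iv4 F405155) (iv5 F412430) F413252 (iv5 F508790) F508788 F424133
theorem F517474 : act 1 n223058 = n213206 := d17_6 D153175 (iv5 F370338) D199634 F412929 F422860 D223058 F469439 (iv0 D203425) F187147
def n223059 : Q := act 5 n202089
theorem D223059 : act 5 n202089 = n223059 := rfl
theorem F517475 : act 2 n223059 = n202090 := d2_1 D223059 (iv5 D202090) D202089
theorem F517476 : act 3 n223059 = n202093 := d6_1 D223059 (iv5 F463356) F463354
theorem F517477 : act 6 n223059 = n202090 := d12_2 F424184 D223059 (iv5 D202090) D202091 F424180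
theorem F517478 : act 7 n223059 = n213177 := d13_2 (iv7 F422864) D223059 F469340
theorem F517479 : act 0 n223059 = n213175 := d17_2 (iv1 F422865) D223059 (iv5 D213175) (iv4 F465885) (iv5 F492674) (iv0 D218200) F374511 (iv0 F365474) F241495
theorem F517480 : act 1 n223059 = n203427 := d17_6 F413580 (iv5 D199804) (iv1 F413413) (iv5 F462712) F462711 D223059 (iv5 D203427) (iv0 F366541) (iv4 F405155)
def n223060 : Q := act 1 n202090
theorem D223060 : act 1 n202090 = n223060 := rfl
theorem F517481 : act 1 n223060 = n213177 := d15_1 D223060 (iv7 F517478) F517475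
theorem F517482 : act 7 n223060 = n213175 := d15_2 (iv0 F424166) D223060 F469331
theorem F517483 : act 5 n223060 = n203426 := d17_7 (iv1 F469325) F449993 F457526 F457523 F400181 D202090 D223060 F428258 D213172
theorem F517484 : act 3 n203614 = n223060 := d19_19 (iv1 D223060) (iv5 D202090) (iv4 F400181) (iv3 D196280) (iv1 D106868) D106869 (iv4 F373194) (iv3 F373330) (iv1 F373334) (iv5 D184466) (iv4 F138868) (iv3 D90281) (iv1 F67985) (iv5 F142618) F362828 (iv3 F372953) F374335 D213737 F471853
theorem F517485 : act 2 n223060 = n203427 := d0_1 F517484 F428260 F187150 (iv3 F188677) (iv2 F429097)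
def n223061 : Q := act 4 n202090
theorem D223061 : act 4 n202090 = n223061 := rfl
theorem F517486 : act 5 n223061 = n215822 := d16_1 D223061 (iv4 D215822) F447659 (iv4 F513074) F513073 F424133 (iv5 F469340) (iv7 F517478) F517475
theorem F517487 : act 1 n209830 = n220281 := d17_8 (iv1 F517474) (iv5 D223058) (iv1 D202088) D202090 D223061 F517486 F491071 (iv5 F455093) F503005
def n223062 : Q := act 3 n202092
theorem D223062 : act 3 n202092 = n223062 := rfl
theorem F517488 : act 6 n223062 = n213177 := d7_2 F517465 D223062 (iv3 F517463)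
def n223063 : Q := act 2 n202095
theorem D223063 : act 2 n202095 = n223063 := rfl
theorem F517489 : act 3 n223063 = n213206 := d0_2 D202095 D223063 (iv2 F469440) F469328 F245399
theorem F517490 : act 5 n223063 = n209864 := d2_2 (iv5 F422871) D223063 (iv2 D209864)
theorem F517491 : act 1 n223063 = n220699 := d15_0 F505039 F472977 D223063
theorem F517492 : act 1 n220698 = n223063 := d15_0 F517491 (iv7 F505293) F505292
def n223064 : Q := act 6 n202095
theorem D223064 : act 6 n202095 = n223064 := rfl
theorem F517493 : act 3 n223064 = n202097 := d7_1 D223064 (iv6 D202097) D202095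
theorem F517494 : act 4 n223064 = n210845 := d10_1 D223064 (iv6 F472976) F472978
def n223065 : Q := act 1 n202097
theorem D223065 : act 1 n202097 = n223065 := rfl
theorem F517495 : act 7 n223065 = n222973 := d15_2 (iv0 F504707) D223065 F517056
theorem F517496 : act 5 n223065 = n220626 := d17_7 D194097 F486819 F486817 (iv5 F391050) (iv4 F472823) F472824 D223065 (iv0 D220626) F392017
theorem F517497 : act 4 n223065 = n222974 := d18_7 F472428 F472425 F428603 F455277 (iv5 F509300) F509301 D223065 F517062 (iv5 F472194)
theorem F517498 : act 2 n220513 = n223065 := d1_3 F517497 F517059 (iv4 F504128)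
def n223066 : Q := act 4 n202098
theorem D223066 : act 4 n202098 = n223066 := rfl
theorem F517499 : act 5 n223066 = n211232 := d16_1 D223066 (iv4 D211232) (iv5 D141236) (iv4 F173200) (iv5 F406602) (iv4 F428249) (iv5 F469439) F469441 F469326
theorem F517500 : act 0 n209830 = n223066 := d17_2 F481699 (iv5 F455093) F517499 (iv4 D211232) (iv5 D141236) (iv0 F343242) F305165 D177954 D215824
def n223067 : Q := act 3 n202099
theorem D223067 : act 3 n202099 = n223067 := rfl
theorem F517501 : act 5 n223067 = n209825 := d6_2 (iv5 F422875) D223067 (iv3 D209825)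
theorem F517502 : act 6 n223067 = n220551 := d7_2 F472936 D223067 F504319
def n223068 : Q := act 0 n202100
theorem D223068 : act 0 n202100 = n223068 := rfl
theorem F517503 : act 4 n223068 = n215869 := d20_2 (iv4 F472939) D223068 (iv3 F481868) F457390 (iv3 D204510) (iv4 D123909) D123907 D204505 (iv3 F517290) F517291
theorem F517504 : act 6 n223068 = n220698 := d21_5 F245418 (iv1 F111484) (iv5 F179643) D202100 D223068 (iv5 D220698) F392445 (iv5 F455230) (iv6 F455232) (iv1 F245420)
def n223069 : Q := act 1 n202100
theorem D223069 : act 1 n202100 = n223069 := rfl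
theorem F517505 : act 3 n216636 = n223069 := d20_9 F472939 F485863 F485859 F469460 F361009 D185038 F287432 D185072 D216636 (iv1 D223069)
theorem F517506 : act 6 n223021 = n223069 := d21_3 (iv5 D202038) D202036 D223021 (iv1 D223069) (iv6 D202100) F179643 (iv1 D64418) D64420 D137046 F422768
theorem F517507 : act 4 n223069 = n215870 := d5_2 D216636 F517505 (iv3 F505057) (iv4 F485899) (iv3 D216635)
def n223070 : Q := act 7 n202100
theorem D223070 : act 7 n202100 = n223070 := rfl
theorem F517508 : act 3 n223070 = n213923 := d8_1 D223070 F472755 F423008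
theorem F517509 : act 4 n223070 = n209897 := d11_1 D223070 (iv7 F472937) (iv4 F472939)
theorem F517510 : act 5 n223070 = n213921 := d13_1 D223070 F472749 F423005
def n223071 : Q := act 3 n202101
theorem D223071 : act 3 n202101 = n223071 := rfl
theorem F517511 : act 5 n223071 = n209832 := d6_2 (iv5 F422876) D223071 (iv3 D209832)
theorem F517512 : act 0 n223071 = n202103 := d19_4 (iv1 F111488) D137031 (iv4 F422877) D223071 F469296 (iv4 F503904) (iv3 D220465) F390904 F386236 (iv4 F372744) F372430 (iv1 F155708) D101111 F349306 (iv3 F368123) (iv1 F368125) (iv5 F362388) (iv4 F245103) F245102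
def n223072 : Q := act 0 n202103
theorem D223072 : act 0 n202103 = n223072 := rfl
theorem F517513 : act 4 n223072 = n213632 := d18_3 F517392 F517388 D223072 F471377 F490311 (iv0 F496699) F496696 (iv0 F411250) D222331
theorem F517514 : act 5 n223072 = n220424 := d19_1 D223072 (iv4 D220424) F503692 (iv1 F481617) (iv5 D208851) F370505 F370509 F358528 (iv5 F420137) F420136 (iv3 F412341) F457526 F457523 F400181 (iv3 D115366) (iv1 D53219) D53220 D115371 D202103
theorem F517515 : act 3 n223072 = n204590 := d20_5 (iv4 D202099) (iv1 D115370) D115371 D202103 D223072 (iv4 D204590) D204589 (iv4 F481876) (iv3 F481877) F454094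
theorem F517516 : act 6 n204591 = n223072 := d7_0 F517515 F432966 D204591
def n223073 : Q := act 2 n202103
theorem D223073 : act 2 n202103 = n223073 := rfl
theorem F517517 : act 6 n223073 = n216655 := d3_2 (iv6 F485152) D223073 (iv2 F498559)
def n223074 : Q := act 7 n202103
theorem D223074 : act 7 n202103 = n223074 := rfl
theorem F517518 : act 3 n223074 = n202105 := d8_1 D223074 (iv7 D202105) D202103
theorem F517519 : act 4 n223074 = n220645 := d11_1 D223074 (iv7 F517391) F517388
theorem F517520 : act 5 n223074 = n209493 := d13_1 D223074 F469297 (iv5 F469296)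
theorem F517521 : act 6 n220644 = n223074 := d12_0 F517520 F455031 F455026 (iv6 F509306) F509307
def n223075 : Q := act 6 n202105
theorem D223075 : act 6 n202105 = n223075 := rfl
theorem F517522 : act 3 n223075 = n220644 := d7_1 D223075 F517521 F517518
theorem F517523 : act 4 n223075 = n202106 := d10_1 D223075 (iv6 D202106) (iv4 F422887)
theorem F517524 : act 0 n216645 = n223075 := d21_4 (iv5 F472432) F472433 (iv5 F469458) F485325 (iv6 D223075) F422888 (iv1 F220160) (iv5 F455105) F455108 (iv1 F469508)
def n223076 : Q := act 0 n202106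
theorem D223076 : act 0 n202106 = n223076 := rfl
theorem F517525 : act 5 n223076 = n210846 := d17_3 (iv1 F429068) (iv5 F429069) D223076 F458993 (iv5 F459016) (iv0 F459018) (iv5 F472289) (iv0 F472293) F432006
theorem F517526 : act 7 n210845 = n223076 := d13_0 F517525 (iv7 D210846) D210845
def n223077 : Q := act 1 n202106
theorem D223077 : act 1 n202106 = n223077 := rfl
theorem F517527 : act 5 n223077 = n210841 := d17_7 (iv1 D115808) D115809 F361625 F239262 D203603 (iv5 F429069) D223077 (iv0 F458972) (iv4 D202481)
theorem F517528 : act 3 n213925 = n223077 := d19_19 (iv1 D223077) F429069 (iv4 D203603) F212310 (iv1 D55234) (iv5 F46698) (iv4 F95485) (iv3 F207933) F307985 D155090 (iv4 F397144) (iv3 F507515) (iv1 F507518) (iv5 F501950) F485494 D214047 F485496 D220280 F503004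
theorem F517529 : act 2 n223077 = n210845 := d0_1 F517528 (iv3 F472985) F472984 (iv3 F423008) (iv2 F472760)
def n223078 : Q := act 4 n202107
theorem D223078 : act 4 n202107 = n223078 := rfl
theorem F517530 : act 2 n223078 = n209549 := d1_1 D223078 F454093 (iv2 F422889)
theorem F517531 : act 5 n223078 = n209180 := d9_2 D202107 D223078 (iv4 D209180) (iv5 D135907) F99400 F98679 (iv4 F176281) D200466 D222634 F515290 F454096 F219671 (iv4 F201775) F201776 (iv4 F179645)
theorem F517532 : act 7 n223078 = n205851 := d11_2 (iv7 F422890) D223078 (iv4 D205851)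
theorem F517533 : act 0 n223078 = n213984 := d17_0 F472981 (iv1 F455127) (iv5 F459138) (iv4 D210883) F223381 (iv0 F111427) D137034 (iv0 F422891) D223078
theorem F517534 : act 1 n223078 = n213981 := d18_6 D107053 (iv4 F168668) F168667 (iv4 F179645) D202107 D223078 (iv4 D213981) F245402 (iv5 D107054)
def n223079 : Q := act 6 n202107
theorem D223079 : act 6 n202107 = n223079 := rfl
theorem F517535 : act 2 n223079 = n210881 := d3_1 D223079 (iv6 D210881) (iv2 F422889)
theorem F517536 : act 3 n223079 = n213474 := d7_1 D223079 (iv6 F470564) F423883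
theorem F517537 : act 5 n223079 = n211161 := d12_1 D223079 (iv6 D211161) (iv5 D141066) F179649 D202107
theorem F517538 : act 7 n223079 = n223000 := d14_2 (iv7 F422890) D223079 (iv6 F517191) (iv7 D222974) F422513
theorem F517539 : act 0 n223079 = n213945 := d21_10 (iv5 D213945) (iv1 F422672) (iv5 F455110) (iv6 D209839) (iv1 F245415) (iv6 F362129) (iv5 D115375) D115373 D202107 D223079
theorem F517540 : act 0 n222997 = n223079 := d17_2 (iv1 F422671) D222997 F517537 (iv4 F472288) F472289 (iv0 F458985) (iv5 D210843) D210842 (iv4 F458976)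
def n223080 : Q := act 5 n202108
theorem D223080 : act 5 n202108 = n223080 := rfl
theorem F517541 : act 2 n223080 = n213063 := d2_1 D223080 (iv5 D213063) F422893
theorem F517542 : act 7 n223080 = n213065 := d13_2 (iv7 F422895) D223080 (iv5 D213065)
theorem F517543 : act 0 n223080 = n213217 := d17_2 D202108 D223080 F469462 F426991 D214439 (iv0 F475189) (iv5 D209850) (iv0 D137010) (iv4 F179650)
theorem F517544 : act 1 n223080 = n209860 := d17_6 F475228 F485309 F485308 (iv5 F502761) F502764 D223080 (iv5 D209860) F433191 (iv4 F472534)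
theorem F517545 : act 6 n223080 = n216604 := d21_3 (iv5 D202109) D202108 D223080 (iv1 D216604) F364068 D193836 (iv1 F449644) (iv5 F449643) D220536 (iv1 F504244)
def n223081 : Q := act 4 n202110
theorem D223081 : act 4 n202110 = n223081 := rfl
theorem F517546 : act 2 n223081 = n210886 := d1_1 D223081 (iv4 D210886) F422902
theorem F517547 : act 3 n223081 = n222036 := d5_1 D223081 F512008 (iv3 F491093) (iv4 F501243) (iv3 F501246)
theorem F517548 : act 5 n223081 = n209824 := d9_2 (iv5 F422900) D223081 F455073 (iv5 D195327) F162011 (iv5 F82420) F82419 D74308 D156210 (iv5 F455068) F455069 (iv5 D202500) F180435 (iv5 F203898) (iv4 F245106)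
theorem F517549 : act 7 n223081 = n210883 := d11_2 (iv7 F422899) D223081 (iv4 D210883)
theorem F517550 : act 0 n223081 = n209812 := d17_0 (iv5 D209812) (iv1 F452611) (iv5 F517531) (iv4 D223078) (iv5 D202107) (iv0 D115373) D115375 D202110 D223081
theorem F517551 : act 1 n223081 = n209820 := d18_6 D64417 (iv4 F172049) (iv1 F203901) (iv4 F245106) (iv5 F422900) D223081 F455064 (iv0 D137043) (iv5 D64420)
theorem F517552 : act 6 n222035 = n223081 := d21_3 F517525 (iv1 F458995) (iv5 F512005) F517550 F455037 F220177 (iv1 F165009) (iv5 F179644) D202106 D223076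
def n223082 : Q := act 6 n202110
theorem D223082 : act 6 n202110 = n223082 := rfl
theorem F517553 : act 2 n223082 = n210887 := d3_1 D223082 (iv6 D210887) F422902
theorem F517554 : act 3 n223082 = n222033 := d7_1 D223082 F511995 (iv3 F501246)
theorem F517555 : act 4 n223082 = n222035 := d10_1 D223082 F517552 (iv4 D223081)
theorem F517556 : act 5 n223082 = n210767 := d12_1 D223082 (iv6 D210767) F222818 (iv6 F245107) (iv5 F422900)
theorem F517557 : act 0 n223082 = n215806 := d21_4 (iv5 D156162) (iv1 F245109) (iv5 F422900) D223082 (iv6 F517041) (iv5 D222970) (iv1 D201955) D201956 F422513 (iv1 F245426)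
def n223083 : Q := act 3 n202111
theorem D223083 : act 3 n202111 = n223083 := rfl
theorem F517558 : act 4 n223083 = n213049 := d5_2 D202111 D223083 F468775 F239391 (iv3 F323322)
theorem F517559 : act 6 n223083 = n220751 := d7_2 F422910 D223083 F505315
theorem F517560 : act 7 n223083 = n210888 := d8_2 (iv7 F422903) D223083 (iv3 D210888)
theorem F517561 : act 0 n210637 = n223083 := d18_2 (iv1 D210636) D210637 F517558 (iv5 D213049) (iv4 F409305) (iv0 F457525) (iv4 F457938) (iv0 F513406) F513404
def n223084 : Q := act 5 n202115
theorem D223084 : act 5 n202115 = n223084 := rfl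
theorem F517562 : act 2 n223084 = n220635 := d2_1 D223084 F504734 F428101
theorem F517563 : act 3 n223084 = n202116 := d6_1 D223084 (iv5 D202116) D202115
theorem F517564 : act 4 n223084 = n223080 := d9_1 D223084 (iv5 D223080) (iv4 F502764) F502761 (iv4 F469461) F469462 F426991 D214439 (iv4 F517124) (iv5 D222985) F502900 (iv5 F502901) F455177 (iv5 D209860) (iv4 F422929)
theorem F517565 : act 6 n223084 = n215794 := d12_2 (iv6 F433604) D223084 F481605 (iv6 F488324) F488322
theorem F517566 : act 7 n223084 = n209496 := d13_2 (iv7 F422930) D223084 (iv5 D209496)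
theorem F517567 : act 1 n223084 = n208498 := d17_6 (iv1 F422591) D222985 F517126 (iv5 D209860) (iv4 F422929) D223084 F449626 F427903 F427900
theorem F517568 : act 0 n223084 = n209850 := d21_1 D223084 (iv5 D209850) F343873 (iv1 D141173) (iv6 F173438) (iv5 D111745) D111743 F357722 D135919 F422931
def n223085 : Q := act 0 n202118
theorem D223085 : act 0 n202118 = n223085 := rfl
theorem F517569 : act 4 n223085 = n220801 := d18_3 F434994 F434991 D223085 F505615 F451049 (iv0 F373575) (iv4 F402336) (iv0 F402337) (iv5 F366758)
theorem F517570 : act 5 n223085 = n213248 := d19_1 D223085 F469572 F455109 (iv1 D209838) (iv5 D137005) (iv4 D64389) (iv3 F100310) D136943 (iv5 F422950) F422951 F349892 (iv1 F396878) (iv5 D195380) (iv4 D105553) (iv3 F82418) F172051 F201765 F201763 D202118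
theorem F517571 : act 2 n209491 = n223085 := d15_3 (iv0 D223085) (iv0 F452600) (iv7 F453907)
theorem F517572 : act 1 n209492 = n223085 := d15_0 (iv0 D223085) F422943 D209492
theorem F517573 : act 7 n223085 = n209426 := d15_2 (iv0 F453910) F517572 F453648
theorem F517574 : act 6 n209454 = n223085 := d21_3 D136861 D209729 (iv5 F505365) (iv1 F517572) F453909 F365528 (iv1 F426379) (iv5 F453464) F453466 (iv1 D136860)
def n223086 : Q := act 2 n202118
theorem D223086 : act 2 n202118 = n223086 := rfl
theorem F517575 : act 3 n223086 = n209490 := d0_2 D202118 D223086 (iv2 D209490) (iv3 D136532) (iv2 F179681)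
theorem F517576 : act 4 n223086 = n220133 := d1_2 F434991 D223086 F502296
theorem F517577 : act 5 n223086 = n209821 := d2_2 (iv5 F422942) D223086 (iv2 D209821)
theorem F517578 : act 7 n223086 = n209492 := d4_2 (iv7 F422943) D223086 (iv2 D209492)
theorem F517579 : act 1 n223086 = n209426 := d15_0 (iv0 F453650) (iv7 F422943) D223086
theorem F517580 : act 1 n209491 = n223086 := d15_0 F517579 (iv7 F517573) (iv2 F517571)
theorem F517581 : act 6 n220231 = n223086 := d14_5 F517578 F453909 F365531 D211599 (iv7 F502771)
def n223087 : Q := act 6 n202118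
theorem D223087 : act 6 n202118 = n223087 := rfl
theorem F517582 : act 2 n223087 = n220231 := d3_1 D223087 F517581 (iv2 D223086)
theorem F517583 : act 3 n223087 = n202119 := d7_1 D223087 (iv6 D202119) D202118
theorem F517584 : act 4 n223087 = n222340 := d10_1 D223087 (iv6 F513688) F434991
theorem F517585 : act 5 n223087 = n209412 := d12_1 D223087 F485380 (iv5 D216666) (iv6 F455017) (iv5 F422942)
theorem F517586 : act 7 n223087 = n209266 := d14_2 (iv7 F422943) D223087 (iv6 D209266) F218931 (iv6 F219633)
theorem F517587 : act 0 n223087 = n210036 := d21_4 D209720 F454744 (iv5 F422942) D223087 (iv6 D210036) (iv5 F351621) (iv1 F388760) (iv5 F469714) (iv6 F469716) (iv1 F452766)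
theorem F517588 : act 1 n223087 = n220233 := d15_1 (iv0 F517587) (iv7 D220233) (iv2 F455862)
theorem F517589 : act 1 n220233 = n211599 := d15_1 F517588 (iv7 F502771) (iv2 F517582)
def n223088 : Q := act 3 n202125
theorem D223088 : act 3 n202125 = n223088 := rfl
theorem F517590 : act 4 n223088 = n209489 := d5_2 D202125 D223088 (iv3 F491807) F491810 F422973
theorem F517591 : act 7 n223088 = n209488 := d8_2 F455027 D223088 (iv3 F455025)
def n223089 : Q := act 6 n202125
theorem D223089 : act 6 n202125 = n223089 := rfl
theorem F517592 : act 2 n223089 = n209488 := d3_1 D223089 F453901 (iv2 F422981)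
theorem F517593 : act 4 n223089 = n202126 := d10_1 D223089 (iv6 D202126) D202125
def n223090 : Q := act 1 n202132
theorem D223090 : act 1 n202132 = n223090 := rfl
theorem F517594 : act 7 n223090 = n215920 := d15_2 (iv0 F482129) D223090 (iv2 F482128)
theorem F517595 : act 3 n219803 = n223090 := d20_3 F472373 (iv1 F451855) (iv4 F500692) (iv1 D223090) F423004 (iv4 F423007) (iv1 F511797) F511798 F509441 F482115
theorem F517596 : act 6 n223090 = n219801 := d7_2 D219803 F517595 (iv3 D219801)
def n223091 : Q := act 0 n202134
theorem D223091 : act 0 n202134 = n223091 := rfl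
theorem F517597 : act 6 n223091 = n223058 := d21_5 (iv5 D213175) F350661 (iv5 F422873) (iv6 F423009) D223091 (iv5 D223058) (iv1 D202088) D202090 (iv6 F517477) F517479
def n223092 : Q := act 4 n202134
theorem D223092 : act 4 n202134 = n223092 := rfl
theorem F517598 : act 2 n223092 = n220280 := d1_1 D223092 F503004 F472760
theorem F517599 : act 6 n223092 = n223066 := d10_2 (iv6 F423009) D223092 (iv4 D223066)
theorem F517600 : act 5 n223092 = n220279 := d16_3 F423007 D202134 D223092 F503001 (iv5 F461425) F461424 (iv5 F464454) (iv7 D212137) (iv2 F423006)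
def n223093 : Q := act 5 n202136
theorem D223093 : act 5 n202136 = n223093 := rfl
theorem F517601 : act 2 n223093 = n213190 := d2_1 D223093 F469379 (iv2 F423010)
theorem F517602 : act 3 n223093 = n202140 := d6_1 D223093 (iv5 D202140) (iv3 F423011)
theorem F517603 : act 6 n223093 = n210412 := d12_2 D202136 D223093 F457434 (iv6 D202720) F181936
theorem F517604 : act 7 n223093 = n213189 := d13_2 F423014 D223093 F469376
theorem F517605 : act 0 n223093 = n203105 := d17_2 F423013 D223093 (iv5 D203105) (iv4 D117680) (iv5 D54207) D54206 (iv5 F318281) D65569 D139698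
theorem F517606 : act 1 n223093 = n213192 := d17_6 (iv1 F393564) D214033 F473202 (iv5 F393578) (iv4 F423012) D223093 F469390 F426978 F426977
def n223094 : Q := act 0 n202143
theorem D223094 : act 0 n202143 = n223094 := rfl
theorem F517607 : act 5 n223094 = n202153 := d17_1 D223094 (iv1 F459196) F459193 F455245 (iv5 F423988) (iv0 F423990) (iv5 F501263) F501265 (iv4 F423032)
theorem F517608 : act 4 n223094 = n202751 := d18_1 D223094 (iv1 D202751) D202752 (iv5 F459206) F459205 (iv0 F345290) (iv4 F401329) F461236 F461235
theorem F517609 : act 3 n223094 = n202426 := d20_5 F188657 D119615 D203591 F429029 D223094 (iv4 F512856) (iv1 F512860) F463369 (iv3 F429020) (iv1 D203589)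
theorem F517610 : act 6 n223094 = n213913 := d21_5 F365191 (iv1 F164988) D115402 D202143 D223094 (iv5 F502208) F502210 (iv5 D202253) (iv6 D115507) (iv1 F365189)
theorem F517611 : act 2 n202153 = n223094 := d15_3 (iv0 D223094) F423084 F423072
theorem F517612 : act 1 n202156 = n223094 := d15_0 (iv0 D223094) (iv7 F459194) F459191
theorem F517613 : act 7 n223094 = n202154 := d15_2 (iv0 F423083) F517612 (iv2 F424183)
def n223095 : Q := act 1 n202145
theorem D223095 : act 1 n202145 = n223095 := rfl
theorem F517614 : act 1 n223095 = n202164 := d15_1 D223095 (iv7 D202164) (iv2 F423041)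
theorem F517615 : act 7 n223095 = n202161 := d15_2 (iv0 F472891) D223095 (iv2 F472885)
theorem F517616 : act 5 n223095 = n202256 := d17_7 F512038 (iv5 D211009) F415127 (iv5 F331810) (iv4 F179707) D202145 D223095 (iv0 F514650) F514647
theorem F517617 : act 4 n223095 = n211404 := d17_9 (iv1 F461447) (iv5 D200119) (iv1 F415089) F415086 (iv4 F245186) F423036 (iv0 D202144) D202145 D223095
theorem F517618 : act 2 n202162 = n223095 := d1_3 F517617 F461421 (iv4 F461442)
theorem F517619 : act 6 n202252 = n223095 := d10_0 F517617 (iv6 D211404) (iv4 F423408)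
def n223096 : Q := act 7 n202145
theorem D223096 : act 7 n202145 = n223096 := rfl
theorem F517620 : act 2 n223096 = n202164 := d4_1 D223096 (iv7 D202164) (iv2 F423041)
theorem F517621 : act 3 n223096 = n203544 := d8_1 D223096 (iv7 F515081) F515078
theorem F517622 : act 4 n223096 = n215880 := d11_1 D223096 (iv7 F500855) F500850
theorem F517623 : act 5 n223096 = n202146 := d13_1 D223096 (iv7 D202146) D202145
theorem F517624 : act 6 n223096 = n215914 := d14_1 D223096 (iv7 F511904) F511903 F461239 (iv6 F461237)
theorem F517625 : act 1 n202162 = n223096 := d15_1 D202162 (iv7 D223096) F423041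
theorem F517626 : act 1 n223096 = n202161 := d15_1 F517625 (iv7 F517615) (iv2 F517618)
def n223097 : Q := act 3 n202161
theorem D223097 : act 3 n202161 = n223097 := rfl
theorem F517627 : act 4 n223097 = n222516 := d5_2 (iv4 F464592) D223097 F514664 (iv4 D212169) D212168
theorem F517628 : act 5 n223097 = n215942 := d6_2 F514689 D223097 (iv3 F514690)
theorem F517629 : act 6 n223097 = n215933 := d7_2 (iv6 F433002) D223097 (iv3 F482149)
def n223098 : Q := act 4 n202167
theorem D223098 : act 4 n202167 = n223098 := rfl
theorem F517630 : act 2 n223098 = n223034 := d1_1 D223098 F517357 F438326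
theorem F517631 : act 3 n223098 = n221581 := d5_1 D223098 F509697 F481424 (iv4 D202168) D202167
theorem F517632 : act 6 n223098 = n212042 := d10_2 F423111 D223098 (iv4 F464098)
theorem F517633 : act 7 n223098 = n221753 := d11_2 F513149 D223098 (iv4 F513150)
theorem F517634 : act 5 n223098 = n221580 := d16_5 F502851 (iv5 F455643) (iv4 F469402) F469403 D223098 F509690 (iv5 F510238) F510240 (iv2 F502849)
theorem F517635 : act 0 n223098 = n222356 := d18_2 F458746 D223098 F513778 F473332 F473024 F455601 F411808 D215936 (iv5 F482174)
def n223099 : Q := act 1 n202174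
theorem D223099 : act 1 n202174 = n223099 := rfl
theorem F517636 : act 1 n223099 = n213917 := d15_1 D223099 F472731 (iv2 F423121)
theorem F517637 : act 7 n223099 = n215930 := d15_2 F498761 D223099 (iv2 F498756)
theorem F517638 : act 4 n223099 = n214044 := d17_9 (iv1 F473235) (iv5 D191529) (iv1 F345806) (iv5 F386456) D219834 F500809 F423793 D202174 D223099
theorem F517639 : act 3 n211758 = n223099 := d19_19 (iv1 D223099) (iv5 D202174) (iv4 F182967) (iv3 D117033) F100360 D137074 D209902 (iv3 F506509) (iv1 F506513) (iv5 F505442) F505441 F393469 D194508 (iv5 F394897) F394895 (iv3 F379385) (iv1 D158859) D158861 (iv4 F462983)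
theorem F517640 : act 6 n202221 = n223099 := d21_3 F401337 (iv1 F245031) (iv5 F423300) (iv1 D223099) (iv6 F438598) (iv5 D205959) (iv1 F326819) D196658 F401379 F401340
theorem F517641 : act 2 n223099 = n215929 := d3_1 F517640 F482132 F423301
def n223100 : Q := act 5 n202185
theorem D223100 : act 5 n202185 = n223100 := rfl
theorem F517642 : act 2 n223100 = n221151 := d2_1 D223100 (iv5 D221151) (iv2 F423157)
theorem F517643 : act 3 n223100 = n205432 := d6_1 D223100 (iv5 F507324) (iv3 F507326)
theorem F517644 : act 6 n223100 = n212228 := d12_2 D202185 D223100 F464841 (iv6 F414217) F414212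
theorem F517645 : act 7 n223100 = n202872 := d13_2 (iv7 F423158) D223100 F425969
theorem F517646 : act 0 n223100 = n210943 := d17_2 (iv1 F423159) D223100 F459400 (iv4 F511104) F511105 (iv0 D215935) F336251 F422310 (iv4 F397212)
theorem F517647 : act 1 n223100 = n221177 := d17_6 F473253 F469587 (iv1 F423496) (iv5 F452224) F452223 D223100 F507593 F507241 F507240
def n223101 : Q := act 1 n202186
theorem D223101 : act 1 n202186 = n223101 := rfl
theorem F517648 : act 1 n223101 = n202189 := d15_1 D223101 (iv7 D202189) (iv2 F423160)
theorem F517649 : act 7 n223101 = n202187 := d15_2 (iv0 F510986) D223101 (iv2 F510981)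
theorem F517650 : act 5 n223101 = n202811 := d17_7 (iv1 F410803) (iv5 F461669) F495436 F495433 F401729 (iv5 F423163) D223101 F425692 F410804
theorem F517651 : act 4 n223101 = n202329 := d17_9 (iv1 D202329) (iv5 D115619) (iv1 F224450) F351405 (iv4 F166977) F166978 D195322 (iv5 F423163) D223101
theorem F517652 : act 3 n209318 = n223101 := d19_19 (iv1 D223101) F423163 (iv4 F401729) (iv3 D196767) D196766 F401721 (iv4 D195811) (iv3 F215179) D208212 F448387 F422170 (iv3 F440417) F440422 (iv5 F355136) (iv4 F404420) (iv3 F456861) (iv1 D210287) (iv5 F424762) (iv4 F453201)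
theorem F517653 : act 2 n202188 = n223101 := d1_3 F517651 (iv2 F516969) F516973
def n223102 : Q := act 3 n202188
theorem D223102 : act 3 n202188 = n223102 := rfl
theorem F517654 : act 2 n223102 = n221050 := d0_1 D223102 (iv3 D221050) F453204 F517652 (iv2 F517653)
theorem F517655 : act 4 n223102 = n210282 := d5_2 F516973 D223102 (iv3 F501014) F501015 D222955
theorem F517656 : act 5 n223102 = n211797 := d6_2 F423167 D223102 (iv3 D211797)
theorem F517657 : act 7 n223102 = n216530 := d8_2 (iv7 F510987) D223102 (iv3 F510982)
theorem F517658 : act 0 n223102 = n208248 := d19_4 (iv1 F509435) (iv5 F516970) F516973 D223102 F448573 F397100 D196303 (iv1 F405420) D211446 F461557 F431156 F226075 (iv5 D140044) (iv4 D65740) D65739 (iv1 F182085) F182083 F179591 D201993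
theorem F517659 : act 0 n211248 = n223102 := d20_4 (iv4 D143050) (iv1 F225897) (iv4 F350010) (iv3 F460802) (iv3 D223102) (iv4 F516973) F516972 F423645 F397320 F363487
theorem F517660 : act 6 n223102 = n221752 := d21_5 F403915 (iv1 F396983) D207917 (iv6 F460803) F517659 (iv5 D221752) (iv1 D197301) D197302 F403904 D197307
def n223103 : Q := act 6 n202188
theorem D223103 : act 6 n202188 = n223103 := rfl
theorem F517661 : act 3 n223103 = n221752 := d7_1 D223103 (iv6 F517660) (iv3 D223102)
theorem F517662 : act 5 n223103 = n221751 := d12_1 D223103 (iv6 F510670) (iv5 D221164) F397130 F423167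
def n223104 : Q := act 3 n202191
theorem D223104 : act 3 n202191 = n223104 := rfl
theorem F517663 : act 2 n223104 = n222722 := d0_1 D223104 (iv3 F515751) F483699 (iv3 D211246) (iv2 F423178)
theorem F517664 : act 4 n223104 = n206661 := d5_2 D202191 D223104 F441785 F207319 (iv3 F179751)
theorem F517665 : act 5 n223104 = n221203 := d6_2 F442434 D223104 (iv3 F507718)
theorem F517666 : act 6 n223104 = n205699 := d7_2 (iv6 F423179) D223104 (iv3 D205699)
theorem F517667 : act 7 n223104 = n222714 := d8_2 F446997 D223104 F515714
theorem F517668 : act 0 n223104 = n222540 := d19_4 (iv1 F163621) D115439 D202191 D223104 F514802 F507822 (iv3 F416738) (iv1 F417286) (iv5 D200630) (iv4 F366129) (iv3 F414825) (iv1 F477304) (iv5 F482278) F482277 (iv3 D196680) (iv1 F398675) F398672 F163641 (iv3 F163617)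
theorem F517669 : act 0 n220965 = n223104 := d20_4 F230243 D146854 (iv4 F465454) (iv3 F506535) (iv3 D223104) (iv4 D202191) F421984 F421980 (iv3 F446942) (iv1 F452057)
def n223105 : Q := act 6 n202193
theorem D223105 : act 6 n202193 = n223105 := rfl
theorem F517670 : act 3 n223105 = n214779 := d7_1 D223105 (iv6 D214779) (iv3 F423191)
theorem F517671 : act 4 n223105 = n220798 := d10_1 D223105 F505599 F423919
theorem F517672 : act 5 n223105 = n216773 := d12_1 D223105 (iv6 D216773) (iv5 F359528) (iv6 F180051) (iv5 F423190)
theorem F517673 : act 0 n223105 = n202720 := d21_4 F456265 (iv1 F226987) (iv5 F423190) D223105 (iv6 D202720) F181936 F180705 D139669 (iv6 F361877) F456268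
theorem F517674 : act 0 n209865 = n223105 := d21_4 (iv5 F469456) (iv1 F469459) F422871 D209865 (iv6 D223105) F423190 (iv1 F226988) D202094 (iv6 F463357) (iv1 F463360)
def n223106 : Q := act 3 n202194
theorem D223106 : act 3 n202194 = n223106 := rfl
theorem F517675 : act 2 n223106 = n215935 := d0_1 D223106 F482169 F431757 (iv3 F423196) F423199
theorem F517676 : act 5 n223106 = n202429 := d6_2 (iv5 F423194) D223106 (iv3 D202429)
theorem F517677 : act 7 n223106 = n215936 := d8_2 F423201 D223106 (iv3 F482173)
theorem F517678 : act 0 n223106 = n202224 := d19_4 F422663 F423917 F423915 D223106 F423309 (iv4 F403979) (iv3 F509708) (iv1 F509711) F477121 F397133 F352927 (iv1 D137089) D137090 F407246 D198219 F436866 (iv5 F393353) F393352 (iv3 F393264)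
theorem F517679 : act 0 n214162 = n223106 := d20_4 F433647 (iv1 F433744) (iv4 F472379) (iv3 F473795) (iv3 D223106) (iv4 F423915) (iv1 F423933) F423931 (iv3 F401420) (iv1 F433648)
def n223107 : Q := act 6 n202194
theorem D223107 : act 6 n202194 = n223107 := rfl
theorem F517680 : act 4 n223107 = n215363 := d10_1 D223107 F479578 F423915
theorem F517681 : act 5 n223107 = n223099 := d12_1 D223107 (iv6 F517640) F423300 F209565 (iv5 F423194)
def n223108 : Q := act 6 n202195
theorem D223108 : act 6 n202195 = n223108 := rfl
theorem F517682 : act 2 n223108 = n223107 := d3_1 D223108 (iv6 D223107) (iv2 F423199)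
theorem F517683 : act 3 n223108 = n204796 := d7_1 D223108 (iv6 D204796) (iv3 F423196)
theorem F517684 : act 4 n223108 = n220410 := d10_1 D223108 F503647 F473347
theorem F517685 : act 5 n223108 = n215929 := d12_1 D223108 F482132 F423002 (iv6 F245619) (iv5 F423195)
theorem F517686 : act 0 n223108 = n223097 := d21_10 F517628 (iv1 F500823) F500821 F423118 F392445 (iv6 F423948) F423944 (iv1 F245621) (iv5 F423195) D223108
theorem F517687 : act 0 n220553 = n223108 := d21_4 (iv5 F431845) (iv1 F467368) F467366 D220553 (iv6 D223108) F423195 (iv1 F245622) (iv5 F423952) F456261 (iv1 F456260)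
def n223109 : Q := act 6 n202196
theorem D223109 : act 6 n202196 = n223109 := rfl
theorem F517688 : act 2 n223109 = n223105 := d3_1 D223109 (iv6 D223105) F423206
theorem F517689 : act 4 n223109 = n220378 := d10_1 D223109 (iv6 D220378) F423203
theorem F517690 : act 5 n223109 = n210776 := d12_1 D223109 (iv6 D210776) (iv5 D139661) D139662 (iv5 F423202)
theorem F517691 : act 0 n223109 = n221561 := d21_4 F423952 (iv1 F245207) (iv5 F423202) D223109 (iv6 D221561) (iv5 F401390) (iv1 F180749) (iv5 F423782) F423783 (iv1 F423950)
theorem F517692 : act 0 n222022 = n223109 := d21_4 D220699 (iv1 F517491) F517490 (iv6 F511950) (iv6 D223109) F423202 F226973 (iv5 F423944) F423948 F392452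
def n223110 : Q := act 5 n202199
theorem D223110 : act 5 n202199 = n223110 := rfl
theorem F517693 : act 2 n223110 = n210172 := d2_1 D223110 (iv5 D210172) (iv2 F423214)
theorem F517694 : act 3 n223110 = n202200 := d6_1 D223110 (iv5 D202200) D202199
theorem F517695 : act 4 n223110 = n219190 := d9_1 D223110 F497646 (iv4 F452872) (iv5 D209244) (iv4 F362705) D205907 F438370 F396948 F396632 D196313 (iv4 F452862) (iv5 D209243) (iv4 F362709) F423595 F423593
theorem F517696 : act 6 n223110 = n219189 := d12_2 F507536 D223110 F497641 D221543 F509514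
theorem F517697 : act 7 n223110 = n221041 := d13_2 F438593 D223110 F506947
theorem F517698 : act 0 n223110 = n211559 := d17_2 F423216 D223110 F462131 (iv4 D209633) F338729 F203838 (iv5 F203824) (iv0 D126658) D126660
theorem F517699 : act 1 n223110 = n221042 := d17_6 (iv1 F438277) (iv5 D126749) D126747 F423595 F423593 D223110 F506949 (iv0 F454394) (iv4 F438278)
def n223111 : Q := act 6 n202202
theorem D223111 : act 6 n202202 = n223111 := rfl
theorem F517700 : act 2 n223111 = n202424 := d3_1 D223111 (iv6 D202424) F423226
theorem F517701 : act 7 n223111 = n223004 := d14_2 F455252 D223111 F517210 (iv7 F517403) F517402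
theorem F517702 : act 5 n223111 = n213472 := d21_6 D53213 D115348 F336248 D115453 D202202 D223111 F470557 (iv5 D202045) (iv6 D115345) (iv1 D53211)
theorem F517703 : act 0 n209869 = n223111 := d21_4 D115354 D202067 F503967 D209869 (iv6 D223111) F433628 F455647 F455648 (iv6 D202066) (iv1 D115353)
theorem F517704 : act 1 n202209 = n223111 := d15_0 (iv0 F517703) F455206 (iv2 F423253)
def n223112 : Q := act 5 n202205
theorem D223112 : act 5 n202205 = n223112 := rfl
theorem F517705 : act 2 n223112 = n223020 := d2_1 D223112 (iv5 D223020) (iv2 F423238)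
theorem F517706 : act 6 n223112 = n213977 := d12_2 D202205 D223112 F472952 (iv6 D201896) (iv5 F360639)
theorem F517707 : act 0 n223112 = n213164 := d17_2 (iv1 F429062) D223112 (iv5 D213164) F239943 (iv5 F209428) F209433 (iv5 F312471) F312469 D203602
theorem F517708 : act 1 n223112 = n215921 := d17_6 D139977 (iv5 F363475) (iv1 F361519) D204312 F432006 D223112 (iv5 D215921) (iv0 F362577) F223200
def n223113 : Q := act 6 n202208
theorem D223113 : act 6 n202208 = n223113 := rfl
theorem F517709 : act 2 n223113 = n221584 := d3_1 D223113 F509715 (iv2 F423250)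
theorem F517710 : act 4 n223113 = n202209 := d10_1 D223113 (iv6 D202209) D202208
theorem F517711 : act 5 n223113 = n214858 := d12_1 D223113 (iv6 D214858) (iv5 F408731) (iv6 F408738) (iv5 F423251)
theorem F517712 : act 7 n223113 = n221800 := d14_2 F463130 D223113 (iv6 D221800) (iv7 F438465) (iv6 F463132)
theorem F517713 : act 0 n223113 = n221113 := d21_4 F416360 (iv1 F396803) (iv5 F423251) D223113 F507285 (iv5 D211261) F226250 D211658 (iv6 F462545) (iv1 F416356)
def n223114 : Q := act 7 n202209
theorem D223114 : act 7 n202209 = n223114 := rfl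
theorem F517714 : act 2 n223114 = n209869 := d4_1 D223114 F455206 (iv2 F423253)
theorem F517715 : act 4 n223114 = n221800 := d11_1 D223114 (iv7 F517712) F517710
theorem F517716 : act 5 n223114 = n219450 := d13_1 D223114 F498935 F472790
theorem F517717 : act 6 n223114 = n209867 := d14_1 D223114 F455200 (iv6 F423233) F423231 D202209
theorem F517718 : act 1 n202424 = n223114 := d15_1 (iv0 F442827) (iv7 D223114) F423253
theorem F517719 : act 1 n223114 = n223004 := d15_1 F517718 (iv7 F517701) F517700
def n223115 : Q := act 0 n202210
theorem D223115 : act 0 n202210 = n223115 := rfl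
theorem F517720 : act 5 n223115 = n212836 := d17_3 (iv1 F354574) D202210 D223115 (iv4 D212836) F237144 F237137 F357010 (iv0 D74135) D74137
theorem F517721 : act 4 n223115 = n216444 := d18_1 D223115 (iv1 F485397) F485393 (iv5 D213803) (iv4 D155873) F110854 (iv4 F188675) (iv0 F354573) D202210
theorem F517722 : act 2 n212838 = n223115 := d15_3 (iv0 D223115) F423256 (iv7 F467712)
theorem F517723 : act 1 n213198 = n223115 := d15_0 (iv0 D223115) (iv7 F429096) F469414
theorem F517724 : act 7 n223115 = n213197 := d15_2 D213198 F517723 F469409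
theorem F517725 : act 3 n213205 = n223115 := d8_3 F517724 (iv3 F517470) F517471
def n223116 : Q := act 0 n202211
theorem D223116 : act 0 n202211 = n223116 := rfl
theorem F517726 : act 5 n223116 = n216639 := d17_1 D223116 F485301 (iv5 F472777) F502991 (iv5 F502988) F482509 F458189 (iv0 F455942) F455941
theorem F517727 : act 4 n223116 = n210504 := d20_2 F455941 D223116 (iv3 F487328) F487331 (iv3 F504508) (iv4 F505620) F505622 F476087 F455863 F455943
theorem F517728 : act 6 n223116 = n210503 := d21_5 F462389 (iv1 D196511) (iv5 F179772) D202211 D223116 F457823 (iv1 D210502) (iv5 F411937) (iv6 F422826) (iv1 F462392)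
theorem F517729 : act 2 n211684 = n223116 := d15_3 (iv0 D223116) (iv0 F455944) (iv7 F462679)
theorem F517730 : act 7 n223116 = n214779 := d4_2 (iv7 F462679) F517729 F476805
def n223117 : Q := act 7 n202211
theorem D223117 : act 7 n202211 = n223117 := rfl
theorem F517731 : act 3 n223117 = n202215 := d8_1 D223117 (iv7 D202215) (iv3 F423257)
theorem F517732 : act 4 n223117 = n204814 := d11_1 D223117 F455945 F455941
theorem F517733 : act 5 n223117 = n216711 := d13_1 D223117 F485580 F481506
theorem F517734 : act 6 n223117 = n213804 := d14_1 D223117 F472166 (iv6 D202025) (iv7 F179773) D202211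
theorem F517735 : act 1 n214779 = n223117 := d15_1 (iv0 F481736) (iv7 D223117) (iv2 F481731)
theorem F517736 : act 1 n223117 = n211684 := d15_1 F517735 F462679 (iv2 F476805)
def n223118 : Q := act 5 n202213
theorem D223118 : act 5 n202213 = n223118 := rfl
theorem F517737 : act 2 n223118 = n223009 := d2_1 D223118 (iv5 D223009) F423266
theorem F517738 : act 3 n223118 = n215815 := d6_1 D223118 (iv5 F511905) F511902
theorem F517739 : act 4 n223118 = n216797 := d9_1 D223118 F485952 F426472 F426469 F306838 D161725 (iv4 F423258) (iv5 F517396) F517395 F504768 (iv4 F427039) F427040 F244144 D174505 (iv4 F423265)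
theorem F517740 : act 6 n223118 = n215813 := d12_2 F469599 D223118 (iv5 F481676) F458760 D213260
theorem F517741 : act 7 n223118 = n215915 := d13_2 (iv7 F423264) D223118 (iv5 D215915)
theorem F517742 : act 0 n223118 = n213761 := d17_2 (iv1 F423263) D223118 (iv5 F517440) F517439 F437996 F471924 F471919 F415338 (iv4 F422713)
def n223119 : Q := act 7 n202214
theorem D223119 : act 7 n202214 = n223119 := rfl
theorem F517743 : act 2 n223119 = n219794 := d4_1 D223119 F500655 (iv2 F423267)
theorem F517744 : act 3 n223119 = n216711 := d8_1 D223119 F485580 F481504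
theorem F517745 : act 4 n223119 = n216712 := d11_1 D223119 F485585 F426822
theorem F517746 : act 5 n223119 = n202215 := d13_1 D223119 (iv7 D202215) D202214
theorem F517747 : act 1 n223010 = n223119 := d15_1 D223010 (iv7 D223119) F423267
theorem F517748 : act 1 n223119 = n210550 := d15_1 F517747 (iv7 F511928) (iv2 F517236)
def n223120 : Q := act 6 n202217
theorem D223120 : act 6 n202217 = n223120 := rfl
theorem F517749 : act 2 n223120 = n223017 := d3_1 D223120 (iv6 D223017) (iv2 F423278)
theorem F517750 : act 4 n223120 = n218380 := d10_1 D223120 (iv6 F493603) F423547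
def n223121 : Q := act 1 n202222
theorem D223121 : act 1 n202222 = n223121 := rfl
theorem F517751 : act 1 n223121 = n213921 := d15_1 D223121 F472749 (iv2 F423303)
theorem F517752 : act 7 n223121 = n215928 := d15_2 (iv0 F482100) D223121 F482128
theorem F517753 : act 3 n211761 = n223121 := d19_19 (iv1 D223121) (iv5 F472987) F472986 (iv3 F509304) (iv1 D221496) (iv5 D196531) (iv4 F175433) (iv3 F415275) (iv1 F436417) (iv5 F436420) F347844 F147444 (iv1 F71648) D97176 (iv4 F369800) (iv3 F488852) (iv1 F495988) (iv5 F495990) F467430
theorem F517754 : act 5 n214025 = n223121 := d21_6 (iv5 D107054) D107053 (iv5 F220177) (iv6 F455037) F455040 (iv6 F473168) (iv1 D223121) (iv5 F472987) (iv6 D213985) F245410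
theorem F517755 : act 2 n223121 = n223090 := d0_1 F517753 (iv3 F517595) (iv2 F517312) (iv3 F517310) F500291
def n223122 : Q := act 7 n202222
theorem D223122 : act 7 n202222 = n223122 := rfl
theorem F517756 : act 2 n223122 = n213921 := d4_1 D223122 F472749 (iv2 F423303)
theorem F517757 : act 3 n223122 = n210846 := d8_1 D223122 (iv7 D210846) (iv3 F423304)
theorem F517758 : act 4 n223122 = n208331 := d11_1 D223122 (iv7 F448946) (iv4 F423305)
theorem F517759 : act 1 n223090 = n223122 := d15_1 D223090 (iv7 D223122) F423303
theorem F517760 : act 1 n223122 = n215928 := d15_1 F517759 (iv7 F517752) F517755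
def n223123 : Q := act 0 n202223
theorem D223123 : act 0 n202223 = n223123 := rfl
theorem F517761 : act 4 n223123 = n219935 := d20_2 (iv4 F423307) D223123 (iv3 F503282) F503285 (iv3 D212544) (iv4 D147770) (iv1 F231119) F231115 (iv3 F242554) F450768
theorem F517762 : act 6 n223123 = n202423 := d21_5 F401403 (iv1 F165191) D115481 D202223 D223123 (iv5 D202423) (iv1 F433595) (iv5 F423309) (iv6 D202224) (iv1 F401405)
theorem F517763 : act 3 n202427 = n223123 := d7_3 F517762 F423941 D202427
theorem F517764 : act 7 n223006 = n223123 := d14_0 F517762 (iv7 F473352) F473354 (iv7 F517266) F517265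
def n223124 : Q := act 1 n202223
theorem D223124 : act 1 n202223 = n223124 := rfl
theorem F517765 : act 6 n215931 = n223124 := d21_3 F423235 (iv1 F438259) (iv5 F482139) (iv1 D223124) (iv6 D202223) (iv5 D115481) (iv1 D53267) D53268 (iv6 F179776) F423237
theorem F517766 : act 2 n223124 = n223006 := d3_1 F517765 (iv6 F517265) F517263
theorem F517767 : act 4 n223124 = n210626 := d10_1 F517765 F458254 (iv4 F482140)
def n223125 : Q := act 7 n202223
theorem D223125 : act 7 n202223 = n223125 := rfl
theorem F517768 : act 3 n223125 = n213924 := d8_1 D223125 F472757 (iv3 F423306)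
theorem F517769 : act 4 n223125 = n210546 := d11_1 D223125 F457988 (iv4 F423307)
theorem F517770 : act 5 n223125 = n203624 := d13_1 D223125 F472820 F472817
theorem F517771 : act 6 n223125 = n213921 := d14_1 D223125 F472749 (iv6 D202132) F330599 D202223
theorem F517772 : act 1 n223006 = n223125 := d15_1 (iv0 F517218) (iv7 D223125) (iv2 F509599)
def n223126 : Q := act 1 n202229
theorem D223126 : act 1 n202229 = n223126 := rfl
theorem F517773 : act 1 n223126 = n211309 := d15_1 D223126 (iv7 D211309) (iv2 F423322)
theorem F517774 : act 7 n223126 = n211307 := d15_2 (iv0 F423324) D223126 (iv2 F461059)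
theorem F517775 : act 3 n203555 = n223126 := d19_19 (iv1 D223126) (iv5 F473019) F473153 F473151 F473048 F457392 F422501 F242554 (iv1 F231522) F231524 (iv4 D73273) (iv3 F109719) D154571 (iv5 F468540) F468539 (iv3 F409603) F428870 (iv5 D203557) (iv4 F428860)
theorem F517776 : act 6 n203554 = n223126 := d21_3 D222959 F516990 (iv5 F455114) (iv1 D223126) (iv6 D202229) (iv5 D115488) (iv1 F179512) F330513 D115262 D201922
theorem F517777 : act 5 n213979 = n223126 := d21_6 (iv5 D126688) F101952 D65822 D140268 (iv1 F422901) (iv6 F472962) (iv1 D223126) (iv5 F473019) (iv6 D213993) F245435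
theorem F517778 : act 2 n223126 = n211308 := d2_1 F517777 (iv5 F461063) (iv2 F472960)
def n223127 : Q := act 7 n202229
theorem D223127 : act 7 n202229 = n223127 := rfl
theorem F517779 : act 2 n223127 = n211309 := d4_1 D223127 (iv7 D211309) (iv2 F423322)
theorem F517780 : act 3 n223127 = n210973 := d8_1 D223127 (iv7 F459572) (iv3 F423323)
theorem F517781 : act 4 n223127 = n222357 := d11_1 D223127 F514159 F514157
theorem F517782 : act 6 n223127 = n215841 := d14_1 D223127 F481753 (iv6 D210732) (iv7 F330568) D202229
theorem F517783 : act 1 n211308 = n223127 := d15_1 D211308 (iv7 D223127) F423322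
theorem F517784 : act 1 n223127 = n211307 := d15_1 F517783 (iv7 F517774) F517778
def n223128 : Q := act 3 n202230
theorem D223128 : act 3 n202230 = n223128 := rfl
theorem F517785 : act 2 n223128 = n202330 := d0_1 D223128 F423649 F179991 (iv3 F336233) F423328
theorem F517786 : act 4 n223128 = n211302 := d5_2 (iv4 F423326) D223128 (iv3 D211302) (iv4 D141626) (iv3 F364289)
theorem F517787 : act 5 n223128 = n202305 := d6_2 (iv5 F423327) D223128 (iv3 F423567)
theorem F517788 : act 6 n223128 = n202346 := d7_2 (iv6 F423330) D223128 F423700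
theorem F517789 : act 7 n223128 = n202327 := d8_2 (iv7 F423325) D223128 F423644
theorem F517790 : act 0 n223128 = n202329 := d19_4 F464899 F426422 (iv4 F423326) D223128 F423647 (iv4 F402381) (iv3 D196940) (iv1 D107483) (iv5 F103448) (iv4 F225679) F225678 (iv1 F225291) (iv5 F330350) F238180 (iv3 F350763) (iv1 F312501) F312503 (iv4 F440334) (iv3 F464896)
theorem F517791 : act 0 n202299 = n223128 := d20_4 (iv4 F460459) F460461 (iv4 F386652) D202299 (iv3 D223128) F423326 (iv1 D141533) (iv4 F330607) (iv3 F422752) F422754
def n223129 : Q := act 6 n202232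
theorem D223129 : act 6 n202232 = n223129 := rfl
theorem F517792 : act 2 n223129 = n215849 := d3_1 D223129 (iv6 F481775) (iv2 F423336)
theorem F517793 : act 3 n223129 = n202235 := d7_1 D223129 (iv6 D202235) (iv3 F423337)
theorem F517794 : act 4 n223129 = n211920 := d10_1 D223129 (iv6 D211920) (iv4 F423339)
theorem F517795 : act 5 n223129 = n214023 := d12_1 D223129 F485412 F485406 (iv6 D202233) D202232
theorem F517796 : act 7 n223129 = n214061 := d14_2 (iv7 F423338) D223129 (iv6 D214061) (iv7 F463000) (iv6 D211304)
theorem F517797 : act 0 n202356 = n223129 := d21_4 (iv5 D222546) F422651 F422648 D202356 (iv6 D223129) (iv5 D202232) F336240 (iv5 F336232) D202327 (iv1 F514844)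
def n223130 : Q := act 6 n202234
theorem D223130 : act 6 n202234 = n223130 := rfl
theorem F517798 : act 2 n223130 = n210507 := d3_1 D223130 (iv6 D210507) (iv2 F423344)
theorem F517799 : act 4 n223130 = n202235 := d10_1 D223130 (iv6 D202235) D202234
theorem F517800 : act 5 n223130 = n213116 := d12_1 D223130 (iv6 D213116) (iv5 D152541) D152542 (iv5 F423346)
theorem F517801 : act 0 n223130 = n219935 := d21_4 (iv5 F423363) F423364 (iv5 F423346) D223130 (iv6 D219935) F390049 D220339 F503274 (iv6 D211164) F410202
theorem F517802 : act 0 n210626 = n223130 := d21_4 (iv5 F367819) F384098 D210249 (iv6 F458254) (iv6 D223130) F423346 F423312 (iv5 D202225) (iv6 F423280) (iv1 D192402)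
def n223131 : Q := act 3 n202236
theorem D223131 : act 3 n202236 = n223131 := rfl
theorem F517803 : act 2 n223131 = n222994 := d0_1 D223131 (iv3 D222994) (iv2 F422609) (iv3 F442822) F442821
theorem F517804 : act 4 n223131 = n204268 := d5_2 F437166 D223131 F431766 (iv4 F410151) (iv3 F437163)
theorem F517805 : act 5 n223131 = n213216 := d6_2 (iv5 F423349) D223131 F469460
theorem F517806 : act 6 n223131 = n204267 := d7_2 (iv6 F423350) D223131 F431763
theorem F517807 : act 7 n223131 = n202412 := d8_2 (iv7 F423352) D223131 F423905
theorem F517808 : act 0 n202300 = n223131 := d20_4 F514059 (iv1 F412557) D210977 F459594 (iv3 D223131) (iv4 F437166) F438169 F438165 F412439 D222410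
def n223132 : Q := act 6 n202240
theorem D223132 : act 6 n202240 = n223132 := rfl
theorem F517809 : act 2 n223132 = n213090 := d3_1 D223132 (iv6 F468960) F444014
theorem F517810 : act 3 n223132 = n210618 := d7_1 D223132 (iv6 D210618) (iv3 F423365)
theorem F517811 : act 4 n223132 = n202241 := d10_1 D223132 (iv6 D202241) D202240
theorem F517812 : act 5 n223132 = n222372 := d12_1 D223132 F513856 F486496 (iv6 F410200) (iv5 F423363)
theorem F517813 : act 0 n223132 = n213037 := d21_4 F444553 F410202 (iv5 F423363) D223132 F468717 (iv5 D191954) (iv1 F153038) D100544 D192709 (iv1 F444554)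
theorem F517814 : act 1 n223132 = n213038 := d15_1 (iv0 F517813) F468722 (iv2 F468715)
theorem F517815 : act 7 n213089 = n223132 := d13_0 F517812 F513853 (iv5 F468954)
def n223133 : Q := act 5 n202245
theorem D223133 : act 5 n202245 = n223133 := rfl
theorem F517816 : act 2 n223133 = n202255 := d2_1 D223133 (iv5 D202255) (iv2 F423388)
theorem F517817 : act 3 n223133 = n202272 := d6_1 D223133 F423435 (iv3 F423386)
theorem F517818 : act 6 n223133 = n202270 := d12_2 (iv6 F514698) D223133 (iv5 D202270) (iv6 F461443) F514697
theorem F517819 : act 7 n223133 = n202257 := d13_2 F423383 D223133 (iv5 D202257)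
theorem F517820 : act 0 n223133 = n210135 := d17_2 D202245 D223133 F456304 (iv4 F400603) F432950 F451089 (iv5 F508226) (iv0 D221297) F398698
theorem F517821 : act 1 n223133 = n210132 := d17_6 (iv1 F502932) (iv5 F502930) F451107 F451106 (iv4 F423382) D223133 (iv5 D210132) F456283 (iv4 F476072)
def n223134 : Q := act 5 n202246
theorem D223134 : act 5 n202246 = n223134 := rfl
theorem F517822 : act 2 n223134 = n202257 := d2_1 D223134 (iv5 D202257) F423392
theorem F517823 : act 7 n223134 = n202255 := d13_2 (iv7 F423391) D223134 (iv5 D202255)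
theorem F517824 : act 0 n223134 = n210132 := d17_2 (iv1 F423390) D223134 (iv5 D210132) (iv4 F400592) (iv5 F407383) (iv0 F407385) (iv5 F432708) (iv0 F432710) F398704
theorem F517825 : act 1 n223134 = n210135 := d17_8 F472904 F517143 (iv1 D222988) (iv5 F481825) F481824 (iv5 D202247) D202246 D223134 (iv4 F472903)
def n223135 : Q := act 5 n202251
theorem D223135 : act 5 n202251 = n223135 := rfl
theorem F517826 : act 2 n223135 = n220308 := d2_1 D223135 F503120 F461604
theorem F517827 : act 6 n223135 = n211400 := d12_2 D202251 D223135 (iv5 F512097) F512100 (iv5 D202250)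
theorem F517828 : act 7 n223135 = n211427 := d13_2 F459166 D223135 F461492
theorem F517829 : act 4 n223135 = n211401 := d16_6 (iv4 F422603) (iv5 F481830) F481829 (iv5 D202253) (iv4 F423405) D223135 F480017 F480016 F424803
theorem F517830 : act 1 n223135 = n221412 := d17_6 (iv1 F472715) (iv5 F502208) F502210 (iv5 D202253) (iv4 F423405) D223135 F508893 (iv0 F502179) F470123
theorem F517831 : act 0 n223135 = n219181 := d18_0 (iv4 F511470) F511473 F461506 F381931 (iv4 F389324) (iv0 F433271) F433270 (iv0 F459168) D223135
def n223136 : Q := act 5 n202252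
theorem D223136 : act 5 n202252 = n223136 := rfl
theorem F517832 : act 2 n223136 = n202270 := d2_1 D223136 (iv5 D202270) F423407
theorem F517833 : act 3 n223136 = n212733 := d6_1 D223136 (iv5 F500485) F500487
theorem F517834 : act 6 n223136 = n202255 := d12_2 (iv6 F517619) D223136 (iv5 D202255) D202256 (iv5 F517616)
theorem F517835 : act 1 n223136 = n213165 := d17_6 F457233 (iv5 F476267) F476269 (iv5 D211403) (iv4 F423408) D223136 (iv5 D213165) (iv0 F366406) (iv4 F389400)
def n223137 : Q := act 5 n202254
theorem D223137 : act 5 n202254 = n223137 := rfl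
theorem F517836 : act 3 n223137 = n202255 := d6_1 D223137 (iv5 D202255) D202254
theorem F517837 : act 4 n223137 = n213625 := d19_2 (iv1 F500439) D223137 (iv3 D213625) D213623 F471342 F406620 (iv3 D139649) (iv1 F179582) (iv5 F422638) F422637 F346018 (iv1 F289781) (iv5 D102081) (iv4 F74719) (iv3 D47519) (iv1 F73665) D99845 D192198 D219754
theorem F517838 : act 6 n223137 = n212733 := d21_9 F456254 (iv1 D210121) (iv5 F434184) F434181 F220804 D202277 F500440 (iv1 F500439) D223137 (iv1 F467297)
theorem F517839 : act 0 n213166 = n223137 := d19_0 (iv5 D223137) (iv4 F502568) F502567 F411235 (iv5 D189152) D189151 (iv3 F434648) F434650 F502930 F502928 (iv3 D219804) (iv1 F386274) D193867 F391254 (iv3 F391146) F343893 D185220 D216689 (iv3 F485486)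
theorem F517840 : act 0 n223137 = n212735 := d21_4 F467207 D219762 F500485 (iv6 F517838) (iv6 F467301) F455068 F455067 (iv5 D209820) (iv6 F423444) (iv1 F467210)
def n223138 : Q := act 0 n202255
theorem D223138 : act 0 n202255 = n223138 := rfl
theorem F517841 : act 5 n223138 = n210124 := d17_3 D115508 D202255 D223138 (iv4 F459960) (iv5 D211062) F432957 F432955 (iv0 D195910) F163680
theorem F517842 : act 2 n210135 = n223138 := d15_3 (iv0 D223138) F500498 D210135
theorem F517843 : act 1 n202257 = n223138 := d15_0 (iv0 D223138) (iv7 F517823) F517822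
theorem F517844 : act 7 n223138 = n210132 := d15_2 F424800 F517843 F456300
theorem F517845 : act 3 n210136 = n223138 := d20_3 F473257 (iv1 F484535) F484533 (iv1 F517843) (iv3 F454989) (iv4 D209797) (iv1 F449837) F449834 F366512 D214052
def n223139 : Q := act 4 n202255
theorem D223139 : act 4 n202255 = n223139 := rfl
theorem F517846 : act 3 n223139 = n213626 := d5_1 D223139 (iv4 D213626) D213625 (iv4 F517837) F517836
theorem F517847 : act 5 n223139 = n204801 := d9_2 D202255 D223139 F433635 F198919 (iv4 F280002) (iv5 F432959) F401874 D202257 F469444 F469443 (iv4 D209673) (iv5 F434653) (iv4 F509879) (iv5 D221614) (iv4 F423389)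
theorem F517848 : act 1 n223053 = n223139 := d17_6 F454769 (iv5 F454768) F429514 (iv5 F389323) (iv4 F500482) (iv5 F517448) F517847 (iv0 F516938) F516937
def n223140 : Q := act 3 n202259
theorem D223140 : act 3 n202259 = n223140 := rfl
theorem F517849 : act 6 n223140 = n213909 := d7_2 (iv6 F500497) D223140 F500494
theorem F517850 : act 4 n223140 = n216677 := d20_6 F346027 (iv1 F346035) (iv4 D115525) (iv3 F179801) D202259 D223140 (iv1 F498514) (iv4 F517011) F517010 (iv1 F422410)
theorem F517851 : act 0 n202277 = n223140 := d18_0 F517850 (iv1 F498514) (iv4 F517011) F517012 F422391 (iv0 F502570) F502568 F500439 (iv5 F500440)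
theorem F517852 : act 0 n223140 = n216592 := d20_1 (iv4 F517850) (iv4 D216592) (iv3 D184979) (iv1 F310370) D213484 F470617 F368543 (iv4 F387899) (iv3 F498489) F498493
def n223141 : Q := act 4 n202259
theorem D223141 : act 4 n202259 = n223141 := rfl
theorem F517853 : act 3 n223141 = n216678 := d5_1 D223141 (iv4 D216678) D216677 (iv4 F517850) (iv3 D223140)
theorem F517854 : act 6 n223141 = n216643 := d10_2 (iv6 F500497) D223141 (iv4 F500492)
theorem F517855 : act 5 n223141 = n220543 := d16_1 D223141 (iv4 D220543) F450886 (iv4 F450883) (iv5 F473852) F473851 F456278 (iv7 F456294) F456297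
theorem F517856 : act 0 n223141 = n223047 := d17_0 (iv5 D223047) F454593 (iv5 F469443) (iv4 F469444) (iv5 D202257) F423396 (iv5 F481811) (iv0 F481814) D223141
def n223142 : Q := act 4 n202260
theorem D223142 : act 4 n202260 = n223142 := rfl
theorem F517857 : act 3 n223142 = n215832 := d5_1 D223142 (iv4 F481727) (iv3 F452747) (iv4 F469248) F469250
theorem F517858 : act 5 n223142 = n220544 := d9_2 F456278 D223142 (iv4 D220544) F447576 F447573 (iv5 F476073) F476072 (iv5 F456298) D223141 F517855 (iv4 D220543) F450886 (iv4 F450883) (iv5 F473852) F473851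
theorem F517859 : act 1 n223142 = n223047 := d18_6 F508989 (iv4 F502928) F502929 F473851 F456278 D223142 F517423 (iv0 F502925) (iv5 F508988)
theorem F517860 : act 6 n223060 = n223142 := d12_0 F517858 F504282 F415890 (iv6 F428256) (iv5 F517483)
def n223143 : Q := act 6 n202260
theorem D223143 : act 6 n202260 = n223143 := rfl
theorem F517861 : act 4 n223143 = n223060 := d10_1 D223143 F517860 (iv4 D223142)
def n223144 : Q := act 0 n202262
theorem D223144 : act 0 n202262 = n223144 := rfl
theorem F517862 : act 5 n223144 = n203508 := d17_1 D223144 F472680 (iv5 F472679) (iv4 D213753) (iv5 D155375) (iv0 F206398) (iv5 F346073) (iv0 F346076) (iv4 F423415)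
theorem F517863 : act 4 n223144 = n203507 := d18_1 D223144 F485713 F485709 (iv5 D202319) F336275 (iv0 F326826) (iv4 F336260) (iv0 F336265) D202262
theorem F517864 : act 6 n223144 = n204282 := d21_5 (iv5 F515290) F515291 F472970 F452792 D223144 F431845 F415562 (iv5 F423442) F423444 (iv1 F454098)
theorem F517865 : act 1 n202264 = n223144 := d15_0 (iv0 D223144) F423414 (iv2 F423419)
theorem F517866 : act 3 n210272 = n223144 := d19_19 (iv1 F517865) (iv5 D202264) F336269 (iv3 F187743) D203493 (iv5 F445004) F445003 F384790 F275005 F274977 (iv4 F274877) (iv3 F364216) F428205 F428201 (iv4 F448715) F448714 F347015 (iv5 F221313) (iv4 F456823)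
theorem F517867 : act 7 n223144 = n203071 := d8_2 D210272 F517866 (iv3 F426880)
theorem F517868 : act 2 n223144 = n203070 := d15_3 (iv0 D203070) D203071 (iv7 F517867)
def n223145 : Q := act 1 n202262
theorem D223145 : act 1 n202262 = n223145 := rfl
theorem F517869 : act 1 n223145 = n202264 := d15_1 D223145 F423421 (iv2 F423413)
theorem F517870 : act 7 n223145 = n203070 := d15_2 (iv0 D223144) D223145 (iv2 F517868)
theorem F517871 : act 5 n223145 = n203506 := d17_7 (iv1 D203500) (iv5 D119290) (iv1 F86844) (iv5 F87000) (iv4 F336266) D202262 D223145 F472681 F472677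
theorem F517872 : act 4 n223145 = n203509 := d17_9 (iv1 F464010) (iv5 D212026) (iv1 F227960) D203009 (iv4 F469235) (iv5 D213153) (iv0 F336265) D202262 D223145
theorem F517873 : act 2 n203071 = n223145 := d1_3 F517872 F428625 (iv4 F426879)
def n223146 : Q := act 6 n202266
theorem D223146 : act 6 n202266 = n223146 := rfl
def n223147 : Q := act 0 n202270
theorem D223147 : act 0 n202270 = n223147 := rfl
theorem F517874 : act 5 n223147 = n210118 := d17_1 D223147 (iv1 F472715) (iv5 F502208) F502207 (iv5 D213919) (iv0 F351549) D202134 (iv0 F485132) F485130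
theorem F517875 : act 3 n223147 = n209285 := d20_5 (iv4 F382891) F382893 F357602 (iv3 F423431) D223147 (iv4 D209285) D209284 (iv4 F453041) F225255 D142326
theorem F517876 : act 7 n213165 = n223147 := d8_0 F517875 F453043 (iv3 F469294)
theorem F517877 : act 4 n222550 = n223147 := d19_2 (iv1 D222549) D222550 F517875 F454990 F454988 (iv4 F423703) (iv3 F423701) (iv1 F321587) F321588 (iv4 D72659) F306356 (iv1 D54447) D54448 D118203 D203200 F479191 F479190 F482119 F514861
def n223148 : Q := act 1 n202270
theorem D223148 : act 1 n202270 = n223148 := rfl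
theorem F517878 : act 5 n223148 = n203577 := d17_7 F498079 (iv5 F461434) (iv1 D211406) (iv5 D141953) (iv4 F179805) D202270 D223148 F472716 (iv4 F498078)
theorem F517879 : act 3 n203070 = n223148 := d20_3 F503982 F426644 (iv4 F426875) (iv1 D223148) F423431 (iv4 F357602) (iv1 D102323) D102324 D193781 D220482
theorem F517880 : act 6 n212734 = n223148 := d21_3 F391305 (iv1 F369105) (iv5 F467298) (iv1 D223148) (iv6 F517818) (iv5 D223133) F423384 (iv5 F423412) (iv6 F500444) F500446
theorem F517881 : act 2 n223148 = n213165 := d3_1 F517880 F485487 F485482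
def n223149 : Q := act 6 n202273
theorem D223149 : act 6 n202273 = n223149 := rfl
theorem F517882 : act 2 n223149 = n220422 := d3_1 D223149 (iv6 F503703) F467372
theorem F517883 : act 3 n223149 = n202274 := d7_1 D223149 (iv6 D202274) (iv3 F423438)
theorem F517884 : act 4 n223149 = n220122 := d10_1 D223149 (iv6 F502230) F423440
theorem F517885 : act 0 n223149 = n210137 := d21_4 F467199 F391304 D202273 D223149 (iv6 D210137) F220808 (iv1 F111095) (iv5 F346058) (iv6 F388331) (iv1 F467201)
theorem F517886 : act 0 n220420 = n223149 := d21_4 F504330 (iv1 F472356) (iv5 F390542) D220420 (iv6 D223149) (iv5 D202273) F385989 (iv5 F467207) (iv6 F485521) F504332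
theorem F517887 : act 7 n220421 = n223149 := d11_0 F517884 F502228 (iv4 F504005)
def n223150 : Q := act 0 n202274
theorem D223150 : act 0 n202274 = n223150 := rfl
theorem F517888 : act 4 n223150 = n212710 := d18_1 D223150 (iv1 F485700) F485696 (iv5 F485904) F485903 (iv0 F392128) D220663 (iv0 F504861) F472884
theorem F517889 : act 6 n223150 = n212709 := d21_5 F388343 (iv1 F179489) D115522 D202274 D223150 F467189 (iv1 F456259) F456257 F388331 D192960
theorem F517890 : act 2 n212736 = n223150 := d3_3 F517889 F467188 D212736
def n223151 : Q := act 1 n202274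
theorem D223151 : act 1 n202274 = n223151 := rfl
theorem F517891 : act 7 n223151 = n212736 := d15_2 (iv0 D223150) D223151 F517890
theorem F517892 : act 4 n223151 = n203580 := d18_7 (iv1 F446924) (iv4 F396486) F396487 F388532 D193023 (iv4 F423441) D223151 F485699 F485697
theorem F517893 : act 3 n205858 = n223151 := d19_19 (iv1 D223151) (iv5 F472884) (iv4 F484327) F484326 (iv1 F471292) F471289 F428006 F252052 (iv1 D118676) (iv5 D54642) F42235 (iv3 F42227) (iv1 F42262) (iv5 F42319) (iv4 F86528) (iv3 F322305) (iv1 F111426) D126696 D205858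
theorem F517894 : act 6 n203071 = n223151 := d21_3 (iv5 F428852) F428853 (iv5 F426881) (iv1 D223151) (iv6 D202274) (iv5 D115522) (iv1 D53287) D53288 (iv6 F179803) D202266
def n223152 : Q := act 7 n202274
theorem D223152 : act 7 n202274 = n223152 := rfl
theorem F517895 : act 3 n223152 = n220421 := d8_1 D223152 F517887 F517883
theorem F517896 : act 4 n223152 = n220157 := d11_1 D223152 (iv7 D220157) (iv4 F423441)
theorem F517897 : act 6 n223152 = n202732 := d14_1 D223152 (iv7 F454997) F454996 (iv7 F245211) D202274
theorem F517898 : act 0 n212736 = n223152 := d21_4 F467318 (iv1 F456255) (iv5 F456254) D212736 F517897 (iv5 D202732) (iv1 D116639) D116640 F360849 D212742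
def n223153 : Q := act 1 n202277
theorem D223153 : act 1 n202277 = n223153 := rfl
theorem F517899 : act 1 n223153 = n216592 := d15_1 D223153 F485104 (iv2 F467326)
theorem F517900 : act 5 n223153 = n220203 := d17_7 F473230 F384848 D216907 F486496 (iv4 F500435) (iv5 F500440) D223153 (iv0 F502628) F482104
theorem F517901 : act 4 n223153 = n210826 := d17_9 F498492 F498490 F493285 (iv5 F471351) (iv4 F517837) (iv5 D223137) F500439 (iv5 F500440) D223153
theorem F517902 : act 3 n202734 = n223153 := d19_19 (iv1 D223153) F500440 F500435 (iv3 D194010) F331223 (iv5 F403440) (iv4 F419069) F419068 (iv1 F396052) (iv5 F396055) (iv4 F439342) (iv3 F499016) F499020 F441657 (iv4 F449827) (iv3 D208547) F338724 D136971 (iv4 F425326)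
def n223154 : Q := act 7 n202282
theorem D223154 : act 7 n202282 = n223154 := rfl
theorem F517903 : act 2 n223154 = n209833 := d4_1 D223154 F467219 (iv2 F423474)
theorem F517904 : act 4 n223154 = n209543 := d11_1 D223154 F454089 (iv4 F423475)
theorem F517905 : act 6 n223154 = n202348 := d14_1 D223154 (iv7 F469216) F469219 F357609 D202282
theorem F517906 : act 1 n209837 = n223154 := d15_1 F455101 (iv7 D223154) F423474
theorem F517907 : act 1 n223154 = n209835 := d15_1 F517906 (iv7 F503997) F503993
def n223155 : Q := act 6 n202285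
theorem D223155 : act 6 n202285 = n223155 := rfl
theorem F517908 : act 2 n223155 = n222280 := d3_1 D223155 (iv6 D222280) (iv2 F423487)
theorem F517909 : act 3 n223155 = n202287 := d7_1 D223155 (iv6 D202287) D202285
theorem F517910 : act 4 n223155 = n221149 := d10_1 D223155 (iv6 D221149) (iv4 F423488)
theorem F517911 : act 5 n223155 = n205938 := d12_1 D223155 (iv6 F452523) (iv5 F434917) D209528 F454045
theorem F517912 : act 7 n223155 = n212452 := d14_2 (iv7 F423489) D223155 (iv6 D212452) (iv7 F465524) F465523
theorem F517913 : act 0 n223155 = n210009 := d21_10 F455736 (iv1 D193933) (iv5 F384831) (iv6 D191918) F152927 D184259 (iv5 F373276) F454044 F454045 D223155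
theorem F517914 : act 0 n213534 = n223155 := d21_4 F346705 (iv1 D154118) D154120 D213534 (iv6 D223155) (iv5 F454045) F454043 F428410 F424407 (iv1 F386533)
def n223156 : Q := act 1 n202301
theorem D223156 : act 1 n202301 = n223156 := rfl
theorem F517915 : act 1 n223156 = n218055 := d15_1 D223156 F491931 F424753
theorem F517916 : act 7 n223156 = n221475 := d15_2 (iv0 F472532) D223156 F509204
theorem F517917 : act 4 n223156 = n206347 := d18_7 (iv1 F440367) F400300 (iv1 D109094) (iv4 F164718) D196289 (iv4 F423551) D223156 (iv0 D206347) D206350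
theorem F517918 : act 3 n215778 = n223156 := d19_19 (iv1 D223156) (iv5 F485362) F485361 F287498 (iv1 F308378) (iv5 F383126) F383125 F370615 (iv1 F375333) F375331 (iv4 F367612) F367611 F345087 F345079 F345078 D210436 F457525 F409306 (iv4 F481536)
theorem F517919 : act 6 n215777 = n223156 := d21_3 F481529 (iv1 D215776) D215777 (iv1 D223156) (iv6 D202301) F179878 D196507 (iv5 F400891) D201945 F422481
theorem F517920 : act 5 n223156 = n208854 := d12_1 F517919 F451125 (iv5 F448796) F448795 D215777
def n223157 : Q := act 0 n202302
theorem D223157 : act 0 n202302 = n223157 := rfl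
theorem F517921 : act 5 n223157 = n205849 := d17_3 (iv1 F359961) D202302 D223157 F438135 (iv5 F364581) D194382 (iv5 F392999) D200169 F415363
theorem F517922 : act 4 n223157 = n217517 := d20_2 (iv4 F423554) D223157 (iv3 D217517) (iv1 F370450) (iv3 F392110) (iv4 F504819) (iv1 F504821) (iv4 F504805) F504804 F469415
theorem F517923 : act 6 n223157 = n216776 := d21_5 (iv5 D213943) (iv1 F245270) D156105 (iv6 F423553) D223157 F485885 F423348 (iv5 F473062) F473061 (iv1 F472830)
theorem F517924 : act 2 n205850 = n223157 := d15_3 (iv0 D223157) (iv0 F423884) (iv7 F438140)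
theorem F517925 : act 1 n213803 = n223157 := d15_0 (iv0 D223157) (iv7 F429258) (iv2 F472163)
theorem F517926 : act 7 n223157 = n220206 := d15_2 (iv0 F472165) F517925 F502643
theorem F517927 : act 3 n216777 = n223157 := d19_19 (iv1 F517925) (iv5 D213803) (iv4 D155873) (iv3 F347885) F158462 (iv5 F294127) F294126 (iv3 F158583) (iv1 F343918) (iv5 D183984) (iv4 D87767) D87766 F177413 D99549 D192041 F489984 (iv1 D217661) D217663 F489995
def n223158 : Q := act 1 n202303
theorem D223158 : act 1 n202303 = n223158 := rfl
theorem F517928 : act 1 n223158 = n202308 := d15_1 D223158 (iv7 F516967) F516963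
theorem F517929 : act 4 n223158 = n210778 := d17_9 F458750 (iv5 D205959) (iv1 F326819) D196658 (iv4 F460459) F460460 (iv0 F450468) F423556 D223158
theorem F517930 : act 5 n223158 = n217076 := d18_9 (iv1 D217076) (iv4 F487279) (iv1 F487282) F460790 (iv5 F457019) F457018 F422494 D202303 D223158
theorem F517931 : act 3 n222469 = n223158 := d19_19 (iv1 D223158) (iv5 F423556) (iv4 F442837) F442836 D221221 F507805 F437451 F399512 F484173 F484170 (iv4 F435707) (iv3 D205273) (iv1 F435123) (iv5 D205141) F397268 F397264 (iv1 F414033) (iv5 F414031) D222469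
theorem F517932 : act 6 n219924 = n223158 := d21_3 (iv5 F513611) (iv1 D222327) (iv5 F501208) (iv1 D223158) (iv6 F423557) (iv5 D191529) (iv1 F345806) (iv5 F386456) (iv6 F460475) (iv1 F480515)
theorem F517933 : act 2 n223158 = n219934 := d3_1 F517932 (iv6 D219934) (iv2 F501211)
def n223159 : Q := act 4 n202307
theorem D223159 : act 4 n202307 = n223159 := rfl
theorem F517934 : act 2 n223159 = n205899 := d1_1 D223159 F438341 (iv2 F423573)
theorem F517935 : act 3 n223159 = n221223 := d5_1 D223159 F507818 F506529 (iv4 F418118) (iv3 F423574)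
theorem F517936 : act 6 n223159 = n206983 := d10_2 (iv6 F423575) D223159 F442841
theorem F517937 : act 7 n223159 = n205900 := d11_2 (iv7 F423576) D223159 (iv4 F438343)
theorem F517938 : act 5 n223159 = n206982 := d16_1 D223159 F442837 F423556 (iv4 D202303) (iv5 D115577) (iv4 F351321) D179271 F351374 (iv2 F423573)
theorem F517939 : act 0 n223159 = n205825 := d17_0 (iv5 F460791) F460794 (iv5 D206938) F207665 D129528 (iv0 F350870) F223105 (iv0 F423577) D223159
theorem F517940 : act 1 n223159 = n205894 := d18_6 (iv1 F179897) (iv4 F179497) (iv1 F179501) D115581 D202307 D223159 (iv4 D205894) (iv0 F423585) (iv5 D202311)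
def n223160 : Q := act 5 n202308
theorem D223160 : act 5 n202308 = n223160 := rfl
theorem F517941 : act 2 n223160 = n211572 := d2_1 D223160 (iv5 F513716) F513713
theorem F517942 : act 4 n223160 = n208317 := d9_1 D223160 (iv5 F482397) (iv4 D215980) (iv5 D179271) F351321 D115577 D202303 (iv5 F423556) (iv4 F442837) (iv5 F517938) (iv4 D223159) (iv5 D202307) (iv4 D115581) D115582 D202308
theorem F517943 : act 6 n223160 = n208316 := d12_2 (iv6 F423578) D223160 F448889 (iv6 D175392) (iv5 F316173)
theorem F517944 : act 7 n223160 = n211571 := d13_2 F516967 D223160 (iv5 F516965)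
theorem F517945 : act 0 n223160 = n211573 := d17_2 F456739 D223160 (iv5 F501008) F501009 F423282 F326823 (iv5 F351459) D215931 F482140
theorem F517946 : act 1 n223160 = n207829 := d17_6 (iv1 D115560) (iv5 F330520) (iv1 F179501) D115582 D202308 D223160 (iv5 F460460) F460462 (iv4 F386649)
def n223161 : Q := act 5 n202318
theorem D223161 : act 5 n202318 = n223161 := rfl
theorem F517947 : act 3 n223161 = n202319 := d6_1 D223161 (iv5 D202319) D202318
def n223162 : Q := act 6 n202318
theorem D223162 : act 6 n202318 = n223162 := rfl
theorem F517948 : act 3 n223162 = n202320 := d7_1 D223162 (iv6 D202320) D202318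
theorem F517949 : act 4 n223162 = n215419 := d10_1 D223162 (iv6 F508229) F508227
def n223163 : Q := act 6 n202330
theorem D223163 : act 6 n202330 = n223163 := rfl
theorem F517950 : act 2 n223163 = n202346 := d3_1 D223163 (iv6 F517788) F517785
theorem F517951 : act 3 n223163 = n202337 := d7_1 D223163 (iv6 D202337) (iv3 F423649)
theorem F517952 : act 4 n223163 = n222105 := d10_1 D223163 (iv6 D222105) (iv4 F423650)
theorem F517953 : act 5 n223163 = n220398 := d12_1 D223163 (iv6 D220398) F423655 (iv6 D202331) (iv5 F423651)
theorem F517954 : act 7 n223163 = n202340 := d14_2 D202330 D223163 (iv6 D202340) (iv7 F423477) (iv6 F423481)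
theorem F517955 : act 0 n223163 = n202344 := d21_10 F473261 (iv1 D214053) (iv5 D156258) (iv6 D74331) (iv1 F78999) D108151 F401414 F401413 (iv5 F423651) D223163
theorem F517956 : act 0 n202343 = n223163 := d21_4 (iv5 F428815) F428816 (iv5 F423880) (iv6 F461044) (iv6 D223163) F423651 F422347 F422348 (iv6 D156286) (iv1 F245146)
def n223164 : Q := act 5 n202336
theorem D223164 : act 5 n202336 = n223164 := rfl
theorem F517957 : act 2 n223164 = n213213 := d2_1 D223164 F469453 (iv2 F423676)
theorem F517958 : act 6 n223164 = n222997 := d12_2 D202336 D223164 (iv5 D222997) (iv6 D201994) (iv5 F179989)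
theorem F517959 : act 7 n223164 = n213214 := d13_2 (iv7 F423679) D223164 F469458
theorem F517960 : act 4 n223164 = n220717 := d16_2 (iv4 F423677) D223164 (iv5 D220717) (iv4 D194327) F158460 F137997 (iv5 F158460) (iv7 F363046) (iv2 F373303)
theorem F517961 : act 0 n223164 = n213061 := d17_2 (iv1 F505138) D223164 (iv5 D213061) (iv4 F425601) F425602 (iv0 F379908) (iv5 F393841) F393843 (iv4 F505135)
theorem F517962 : act 1 n223164 = n213212 := d17_6 D103028 (iv5 F369783) (iv1 F369785) D188401 (iv4 F423677) D223164 (iv5 D213212) F392447 (iv4 D103030)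
def n223165 : Q := act 6 n202339
theorem D223165 : act 6 n202339 = n223165 := rfl
theorem F517963 : act 2 n223165 = n202342 := d3_1 D223165 (iv6 D202342) (iv2 F423689)
theorem F517964 : act 3 n223165 = n209326 := d7_1 D223165 (iv6 D209326) (iv3 F423690)
theorem F517965 : act 4 n223165 = n202340 := d10_1 D223165 (iv6 D202340) D202339
theorem F517966 : act 5 n223165 = n219910 := d12_1 D223165 (iv6 F501150) (iv5 F506913) (iv6 F510612) F510611
theorem F517967 : act 7 n223165 = n222105 := d14_2 (iv7 F423691) D223165 (iv6 D222105) F407835 (iv6 F397317)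
theorem F517968 : act 0 n223165 = n222952 := d21_4 D202043 (iv1 F510614) F510611 D223165 F516955 (iv5 D213820) (iv1 F427491) F427488 F404274 F222997
theorem F517969 : act 1 n223165 = n220549 := d15_1 (iv0 F517968) F504312 (iv2 F516953)
def n223166 : Q := act 1 n202340
theorem D223166 : act 1 n202340 = n223166 := rfl
theorem F517970 : act 1 n223166 = n202346 := d15_1 D223166 (iv7 D202346) (iv2 F423694)
theorem F517971 : act 7 n223166 = n202343 := d15_2 (iv0 F516986) D223166 (iv2 F516985)
theorem F517972 : act 4 n223166 = n221153 := d17_9 (iv1 D221153) D221154 (iv1 F507481) (iv5 F472586) (iv4 F472584) D214050 (iv0 F473250) (iv5 F467334) D223166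
theorem F517973 : act 5 n223166 = n209831 := d18_9 (iv1 F473277) F472576 F426884 F472706 (iv5 F472705) D222952 (iv0 F517968) F517965 D223166
theorem F517974 : act 3 n204691 = n223166 := d19_19 (iv1 D223166) F467334 (iv4 F503596) F503595 (iv1 F390317) F390985 F390987 F389882 F385785 (iv5 D192152) D192151 F385777 (iv1 F341115) D214193 (iv4 F473938) F433462 (iv1 D124312) (iv5 F198710) (iv4 F433270)
theorem F517975 : act 2 n223166 = n202344 := d0_1 F517974 F473162 F485890 D222960 F516996
theorem F517976 : act 6 n223166 = n204690 := d7_2 D204691 F517974 (iv3 D204690)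
def n223167 : Q := act 5 n202342
theorem D223167 : act 5 n202342 = n223167 := rfl
theorem F517977 : act 2 n223167 = n219910 := d2_1 D223167 (iv5 F517966) F517963
theorem F517978 : act 3 n223167 = n203212 := d6_1 D223167 (iv5 D203212) (iv3 F423697)
theorem F517979 : act 7 n223167 = n219911 := d13_2 F482693 D223167 (iv5 F501152)
theorem F517980 : act 0 n223167 = n219912 := d17_2 (iv1 F510793) D223167 F501157 (iv4 D213908) D213909 (iv0 F472694) F469277 F455272 (iv4 F510791)
theorem F517981 : act 0 n219892 = n223167 := d21_10 (iv5 D223167) F456470 (iv5 F510680) F510683 F457884 (iv6 F427348) (iv5 F440459) (iv1 F501072) (iv5 D219891) D219892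
def n223168 : Q := act 3 n202343
theorem D223168 : act 3 n202343 = n223168 := rfl
theorem F517982 : act 2 n223168 = n220260 := d0_1 D223168 F502911 F500829 D222958 F516985
theorem F517983 : act 4 n223168 = n204694 := d5_2 F473256 D223168 F433461 D220868 (iv3 F505982)
theorem F517984 : act 7 n223168 = n204691 := d8_2 F517971 D223168 F517974
theorem F517985 : act 0 n223168 = n219277 := d20_4 F179480 D195486 F473256 D223168 F498081 (iv4 D193145) D193144 F388908 D193882 F391293
theorem F517986 : act 0 n220261 = n223168 := d20_4 (iv4 F401874) (iv1 D196813) (iv4 F401865) (iv3 F502914) (iv3 D223168) (iv4 F473256) (iv1 F507489) F507485 F504309 (iv1 F423396)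
def n223169 : Q := act 0 n202345
theorem D223169 : act 0 n202345 = n223169 := rfl
theorem F517987 : act 5 n223169 = n213886 := d17_3 (iv1 D202344) D202345 D223169 F507259 (iv5 D221108) (iv0 F453189) (iv5 D195488) D195487 (iv4 F473163)
theorem F517988 : act 4 n223169 = n216456 := d18_1 D223169 (iv1 F484463) D216698 F504307 (iv4 F507485) F507489 F473256 (iv0 D202343) D202345
theorem F517989 : act 1 n220398 = n223169 := d15_0 (iv0 D223169) (iv7 F467344) (iv2 F503586)
theorem F517990 : act 2 n214050 = n223169 := d1_3 F517988 F484467 (iv4 F473251)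
theorem F517991 : act 7 n214049 = n223169 := d11_0 F517988 F484466 (iv4 F473247)
def n223170 : Q := act 1 n202345
theorem D223170 : act 1 n202345 = n223170 := rfl
theorem F517992 : act 1 n223170 = n220398 := d15_1 D223170 F503589 F467333
theorem F517993 : act 7 n223170 = n214050 := d15_2 (iv0 D223169) D223170 F517990
theorem F517994 : act 5 n223170 = n213885 := d17_7 F472686 (iv5 F501075) F517981 (iv5 D223167) F423698 D202345 D223170 (iv0 D213885) (iv4 F403628)
theorem F517995 : act 4 n223170 = n216457 := d17_9 (iv1 D216457) (iv5 F483190) (iv1 F485706) (iv5 D216737) (iv4 F473257) F473255 (iv0 D202343) D202345 D223170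
theorem F517996 : act 2 n214049 = n223170 := d1_3 F517995 (iv2 F484469) (iv4 F473247)
def n223171 : Q := act 4 n202345
theorem D223171 : act 4 n202345 = n223171 := rfl
theorem F517997 : act 2 n223171 = n220400 := d1_1 D223171 F503596 F467333
theorem F517998 : act 3 n223171 = n215578 := d5_1 D223171 F480607 F423715 (iv4 D202349) (iv3 F423699)
theorem F517999 : act 6 n223171 = n215577 := d10_2 F467328 D223171 F480600
theorem F518000 : act 7 n223171 = n220117 := d11_2 F467344 D223171 F502204
theorem F518001 : act 0 n223171 = n216692 := d17_0 F498494 (iv1 D217235) (iv5 F382913) (iv4 F472576) (iv5 D213887) D213886 (iv5 F517987) (iv0 D223169) D223171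
theorem F518002 : act 1 n223171 = n220399 := d18_6 F455271 (iv4 F510791) (iv1 F510793) F423698 D202345 D223171 F503591 F472689 (iv5 F422320)
def n223172 : Q := act 1 n202350
theorem D223172 : act 1 n202350 = n223172 := rfl
theorem F518003 : act 1 n223172 = n202360 := d15_1 D223172 (iv7 D202360) (iv2 F423716)
theorem F518004 : act 7 n223172 = n202357 := d15_2 (iv0 F517034) D223172 (iv2 F517031)
theorem F518005 : act 5 n223172 = n216686 := d18_9 F485470 (iv4 F503600) (iv1 F503601) F484351 (iv5 D202013) (iv4 F182873) D202797 F425630 D223172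
theorem F518006 : act 3 n216691 = n223172 := d19_19 (iv1 D223172) F423717 (iv4 F469086) F469085 (iv1 F392048) (iv5 F395966) F395964 F161566 D105354 D195175 (iv4 F421579) (iv3 F513165) F513167 F442512 F442510 (iv3 F410550) (iv1 F410554) (iv5 F401101) (iv4 F485490)
theorem E104050 : n216684 = n213068 := ((c21_4 F240055 D157414 F247907 D213068 (iv1 D216684) D216686 (iv5 F518005) (iv1 D223172) F423717 (iv6 D152844) (iv1 F240053))).symm
theorem F518007 : act 0 n213068 = n185219 := (sb E104050 (iv1 D216684))
theorem F518008 : act 2 n223172 = n202358 := d0_1 F518006 F433003 (iv2 F422510) (iv3 F514887) F514886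
theorem F518009 : act 6 n223172 = n214057 := d7_2 F514868 F518006 (iv3 F514866)
def n223173 : Q := act 1 n202356
theorem D223173 : act 1 n202356 = n223173 := rfl
theorem F518010 : act 7 n223173 = n215849 := d15_2 (iv0 F517797) D223173 (iv2 F517792)
theorem F518011 : act 5 n223173 = n214024 := d18_9 (iv1 D214024) D214025 F517302 (iv4 D223023) (iv5 D202038) (iv4 F422764) (iv0 F463136) F463135 D223173
theorem F518012 : act 4 n222979 = n223173 := d20_0 (iv1 D223173) (iv4 F463135) F463134 F396962 F226835 F169262 (iv1 F169269) D139658 D210771 (iv1 F517090)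
theorem F518013 : act 3 n215739 = n223173 := d20_3 F432998 (iv1 F276957) D215739 (iv1 D223173) F423748 (iv4 F408079) F425614 F425613 F422698 (iv1 F433000)
theorem F518014 : act 2 n223173 = n214061 := d0_1 F518013 F473293 (iv2 F481751) F481752 (iv2 F481336)
theorem F518015 : act 6 n223173 = n213476 := d7_2 (iv6 F481337) F518013 F470572
def n223174 : Q := act 7 n202356
theorem D223174 : act 7 n202356 = n223174 := rfl
theorem F518016 : act 3 n223174 = n202360 := d8_1 D223174 (iv7 D202360) (iv3 F423748)
theorem F518017 : act 6 n223174 = n202411 := d14_1 D223174 (iv7 F473338) F473337 (iv7 F404232) D202356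
theorem F518018 : act 1 n214061 = n223174 := d15_1 (iv0 F517081) (iv7 D223174) (iv2 F458680)
theorem F518019 : act 1 n223174 = n215849 := d15_1 F518018 (iv7 F518010) F518014
def n223175 : Q := act 5 n202358
theorem D223175 : act 5 n202358 = n223175 := rfl
theorem F518020 : act 2 n223175 = n216686 := d2_1 D223175 (iv5 F518005) F518008
theorem F518021 : act 3 n223175 = n202381 := d6_1 D223175 (iv5 D202381) (iv3 F433003)
theorem F518022 : act 4 n223175 = n216694 := d17_4 F469506 F469504 F458677 D223175 (iv5 F485502) F483662 F483660 (iv0 F431647) (iv4 F432762)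
theorem F518023 : act 0 n223175 = n214017 := d21_1 D223175 (iv5 D214017) (iv6 D156201) D156199 F347955 (iv5 D115292) (iv1 F111535) D156294 (iv6 F458675) F458677
theorem F518024 : act 6 n213240 = n223175 := d21_5 (iv5 D119621) D119618 F188665 D152870 D213240 (iv5 D223175) (iv1 D202358) D202359 F423752 F239536
def n223176 : Q := act 6 n202358
theorem D223176 : act 6 n202358 = n223176 := rfl
theorem F518025 : act 2 n223176 = n214057 := d3_1 D223176 (iv6 F518009) F518008
theorem F518026 : act 3 n223176 = n202382 := d7_1 D223176 (iv6 D202382) (iv3 F433003)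
theorem F518027 : act 4 n223176 = n206279 := d10_1 D223176 F503494 F503492
theorem F518028 : act 7 n223176 = n214058 := d14_2 F517033 D223176 (iv6 F473283) (iv7 F509434) (iv6 F517032)
theorem F518029 : act 0 n214056 = n223176 := d21_4 F347954 (iv1 F403859) F403857 D214056 (iv6 D223176) D223175 F518023 (iv5 D214017) (iv6 D156201) D156199
theorem F518030 : act 1 n214060 = n223176 := d15_0 (iv0 F518029) F473281 (iv2 F473288)
def n223177 : Q := act 1 n202359
theorem D223177 : act 1 n202359 = n223177 := rfl
theorem F518031 : act 1 n223177 = n213230 := d15_1 D223177 (iv7 D213230) (iv2 F423751)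
theorem F518032 : act 7 n223177 = n213228 := d15_2 (iv0 F457390) D223177 (iv2 F469499)
theorem F518033 : act 5 n223177 = n214028 := d17_7 F423711 D222580 F515006 (iv5 D222129) F408079 D202359 D223177 (iv0 D214028) (iv4 F415984)
theorem F518034 : act 6 n223071 = n223177 := d21_3 (iv5 F504014) (iv1 F504016) (iv5 F517511) (iv1 D223177) F423752 (iv5 D152342) (iv1 D71873) D71875 D152351 D213069
theorem F518035 : act 3 n223177 = n202384 := d7_1 F518034 F423837 D223071
theorem F518036 : act 2 n213229 = n223177 := d0_5 F518035 (iv2 F517054) (iv3 F517052) (iv2 F432720) F469497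
theorem F518037 : act 4 n208509 = n223177 := d5_0 F518035 (iv4 F455183) F455182 (iv4 D208510) (iv3 F449665)
def n223178 : Q := act 4 n202359
theorem D223178 : act 4 n202359 = n223178 := rfl
theorem F518038 : act 2 n223178 = n213119 := d1_1 D223178 F469086 (iv2 F423751)
theorem F518039 : act 6 n223178 = n213042 := d10_2 (iv6 F423752) D223178 F468744
theorem F518040 : act 0 n223178 = n220639 := d17_0 (iv5 F504751) F503609 (iv5 F503598) F503600 (iv5 D214030) D214029 F473178 (iv0 F457390) D223178
theorem F518041 : act 0 n210228 = n223178 := d20_10 (iv4 D223178) F457390 F432762 (iv3 D154408) F358577 (iv3 F287444) (iv4 F358598) (iv1 F160580) (iv4 F382863) (iv3 F456653)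
theorem F518042 : act 7 n223178 = n219780 := d15_2 D220639 (iv0 F518040) F500592
def n223179 : Q := act 7 n202359
theorem D223179 : act 7 n202359 = n223179 := rfl
theorem F518043 : act 2 n223179 = n213230 := d4_1 D223179 (iv7 D213230) (iv2 F423751)
theorem F518044 : act 4 n223179 = n219780 := d11_1 D223179 (iv7 F518042) (iv4 D223178)
theorem F518045 : act 5 n223179 = n202360 := d13_1 D223179 (iv7 D202360) D202359
theorem F518046 : act 6 n223179 = n202414 := d14_1 D223179 F423910 (iv6 D152834) (iv7 F239535) (iv6 F423752)
theorem F518047 : act 1 n213229 = n223179 := d15_1 D213229 (iv7 D223179) F423751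
theorem F518048 : act 1 n223179 = n213228 := d15_1 F518047 (iv7 F518032) (iv2 F518036)
def n223180 : Q := act 4 n202365
theorem D223180 : act 4 n202365 = n223180 := rfl
theorem F518049 : act 2 n223180 = n222169 := d1_1 D223180 (iv4 D222169) (iv2 F423769)
theorem F518050 : act 5 n223180 = n220404 := d9_2 (iv5 F423770) D223180 F503614 F488373 (iv4 F493258) F493259 F414259 F390184 (iv4 F456717) (iv5 D210243) (iv4 F374628) (iv5 F419829) F419828 (iv5 D199584) F396724
theorem F518051 : act 7 n223180 = n222469 := d11_2 (iv7 F423771) D223180 (iv4 D222469)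
def n223181 : Q := act 1 n202372
theorem D223181 : act 1 n202372 = n223181 := rfl
theorem F518052 : act 1 n223181 = n202373 := d15_1 D223181 (iv7 F431764) F431762
theorem F518053 : act 7 n223181 = n219832 := d15_2 F431298 D223181 F500797
theorem F518054 : act 4 n223181 = n219641 := d17_9 F499807 F386458 F345803 D191529 (iv4 F423559) (iv5 F423744) F423747 D202372 D223181
theorem F518055 : act 6 n213997 = n223181 := d21_9 (iv5 D202372) (iv1 F423747) F423744 (iv6 D202304) (iv1 F422494) (iv6 F422629) (iv5 F485885) (iv1 F485889) F473038 (iv1 D223181)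
theorem F518056 : act 2 n223181 = n214003 := d3_1 F518055 (iv6 D214003) (iv2 F473039)
theorem F518057 : act 3 n223181 = n202403 := d7_1 F518055 F473321 F473037
def n223182 : Q := act 5 n202376
theorem D223182 : act 5 n202376 = n223182 := rfl
theorem F518058 : act 2 n223182 = n223000 := d2_1 D223182 F517190 (iv2 F429049)
theorem F518059 : act 3 n223182 = n216778 := d6_1 D223182 F485896 F423914
theorem F518060 : act 6 n223182 = n202386 := d12_2 D202376 D223182 F423840 (iv6 F422526) F422525
theorem F518061 : act 7 n223182 = n210881 := d13_2 F429052 D223182 F459133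
theorem F518062 : act 0 n223182 = n222997 := d17_2 F423824 D223182 (iv5 D222997) F422654 D202479 (iv0 F424189) (iv5 D155720) (iv0 F208109) D157412
theorem F518063 : act 1 n223182 = n213945 := d17_6 (iv1 F458980) (iv5 F459016) (iv1 F474104) (iv5 F481257) F481261 D223182 (iv5 D213945) (iv0 F366110) (iv4 F316712)
def n223183 : Q := act 0 n202379
theorem D223183 : act 0 n202379 = n223183 := rfl
theorem F518064 : act 5 n223183 = n223002 := d17_3 D115676 D202379 D223183 F517201 F432574 (iv0 F438271) (iv5 D205886) (iv0 F365198) F168812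
theorem F518065 : act 3 n223183 = n213235 := d20_5 (iv4 D204501) (iv1 F411830) D222361 (iv3 F513804) D223183 (iv4 F500639) (iv1 F500643) (iv4 F482186) (iv3 F481637) F481641
theorem F518066 : act 2 n222996 = n223183 := d15_3 (iv0 D223183) (iv0 F458734) (iv7 F517175)
theorem F518067 : act 1 n202381 = n223183 := d15_0 (iv0 D223183) (iv7 F517042) F517039
theorem F518068 : act 7 n223183 = n213233 := d15_2 (iv0 F458733) F518067 F469514
def n223184 : Q := act 4 n202379
theorem D223184 : act 4 n202379 = n223184 := rfl
theorem F518069 : act 5 n223184 = n204449 := d16_1 D223184 (iv4 D204449) (iv5 D123820) (iv4 F198195) (iv5 F360259) F415295 D202381 (iv7 F517037) F517036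
def n223185 : Q := act 4 n202381
theorem D223185 : act 4 n202381 = n223185 := rfl
theorem F518070 : act 3 n223185 = n208861 := d5_1 D223185 F451145 (iv3 F485499) (iv4 F518022) F518021
theorem F518071 : act 5 n223185 = n203597 := d9_2 D202381 D223185 (iv4 F470542) F470543 (iv4 F415423) (iv5 D200180) F357049 D202379 D223184 F518069 (iv4 D204449) (iv5 D123820) (iv4 F198195) (iv5 F360259) F415295
theorem F518072 : act 6 n203600 = n223185 := d12_0 F518071 (iv6 D203597) (iv5 D119621) D119622 D203600
def n223186 : Q := act 6 n202381
theorem D223186 : act 6 n202381 = n223186 := rfl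
theorem F518073 : act 2 n223186 = n215806 := d3_1 D223186 (iv6 F517041) F517039
theorem F518074 : act 3 n223186 = n213240 := d7_1 D223186 F518024 F518021
theorem F518075 : act 4 n223186 = n203600 := d10_1 D223186 F518072 (iv4 D223185)
theorem F518076 : act 0 n210887 = n223186 := d21_4 (iv5 D137031) (iv1 F111511) (iv5 F223386) D210887 (iv6 D223186) (iv5 D202381) (iv1 D115677) D115678 (iv6 F416566) F416568
def n223187 : Q := act 5 n202382
theorem D223187 : act 5 n202382 = n223187 := rfl
theorem F518077 : act 2 n223187 = n215431 := d2_1 D223187 (iv5 D215431) (iv2 F423834)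
theorem F518078 : act 4 n223187 = n212434 := d9_1 D223187 (iv5 D212434) F357743 (iv5 F341983) F199152 D173299 D215327 (iv5 F501045) F501044 (iv5 D212433) F230291 (iv5 F341979) F162690 D128060 (iv4 F423835)
theorem F518079 : act 0 n223187 = n216602 := d17_2 F510645 D223187 F485140 F422613 (iv5 F471919) (iv0 D213751) (iv5 F438309) F438312 (iv4 F510643)
theorem F518080 : act 1 n223187 = n222995 := d17_6 F350647 (iv5 D84936) F300868 D128060 (iv4 F423835) D223187 (iv5 D222995) (iv0 D201984) F179572
def n223188 : Q := act 0 n202385
theorem D223188 : act 0 n202385 = n223188 := rfl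
theorem F518081 : act 5 n223188 = n215802 := d17_3 F504700 F504699 D223188 F481634 (iv5 F466074) F488214 (iv5 F488215) F489269 F489265
theorem F518082 : act 4 n223188 = n221495 := d18_1 D223188 (iv1 F509295) (iv4 F517459) F517460 (iv4 D220642) (iv0 D194097) (iv4 F392017) D220627 F504699
theorem F518083 : act 3 n223188 = n215803 := d20_5 (iv4 D88232) D88230 D185118 (iv3 F423838) D223188 (iv4 F500697) F500698 F485669 (iv3 D216653) (iv1 D185127)
theorem F518084 : act 6 n223188 = n223070 := d21_5 (iv5 D209820) (iv1 F454098) (iv5 F515290) F515288 D223188 F517510 (iv1 F517751) (iv5 F517754) F473168 F455067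
theorem F518085 : act 2 n223052 = n223188 := d15_3 (iv0 D223188) (iv0 F504707) (iv7 F517444)
theorem F518086 : act 1 n223065 = n223188 := d15_0 (iv0 D223188) (iv7 F504129) F517498
theorem F518087 : act 7 n223188 = n213982 := d15_2 D223065 F518086 F472972
def n223189 : Q := act 0 n202388
theorem D223189 : act 0 n202388 = n223189 := rfl
theorem F518088 : act 5 n223189 = n214051 := d17_3 F423893 F423891 D223189 (iv4 F507240) (iv5 D221105) F403874 (iv5 F507464) F507459 F403749
theorem F518089 : act 4 n223189 = n219926 := d18_1 D223189 (iv1 F501223) F423942 (iv5 D202423) (iv4 F404316) (iv0 F423810) (iv4 F423484) (iv0 F423892) F423891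
theorem F518090 : act 3 n223189 = n214051 := d20_5 F226971 D144284 (iv4 F422912) (iv3 F423844) D223189 (iv4 F507240) (iv1 F507241) F463865 F458744 F226973
theorem F518091 : act 6 n223189 = n214039 := d21_5 F357047 F357043 (iv5 F357060) D202388 D223189 (iv5 F517001) F517005 (iv5 D202317) (iv6 D115594) (iv1 F357046)
theorem F518092 : act 2 n202393 = n223189 := d15_3 (iv0 D223189) F431076 F458418
theorem F518093 : act 1 n202395 = n223189 := d15_0 (iv0 D223189) (iv7 F458715) F458713
theorem F518094 : act 7 n223189 = n202394 := d15_2 (iv0 F431075) F518093 (iv2 F458719)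
def n223190 : Q := act 4 n202391
theorem D223190 : act 4 n202391 = n223190 := rfl
theorem F518095 : act 2 n223190 = n205901 := d1_1 D223190 (iv4 F454724) F454722
theorem F518096 : act 5 n223190 = n205894 := d9_2 D202391 D223190 (iv4 D205894) (iv5 D126735) (iv4 F203869) (iv5 F422492) (iv4 F457018) F457019 (iv4 F460790) F460791 (iv4 D205825) (iv5 D126632) (iv4 F168785) F168786 D115683
theorem F518097 : act 6 n223190 = n222256 := d10_2 (iv6 F423853) D223190 (iv4 D222256)
theorem F518098 : act 7 n223190 = n216297 := d11_2 (iv7 F423851) D223190 (iv4 D216297)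
theorem F518099 : act 0 n223190 = n217075 := d17_0 F487280 (iv1 D205962) F360207 F217131 D134951 F423515 (iv5 F452857) (iv0 F452856) D223190
theorem F518100 : act 1 n223190 = n206938 := d18_6 F456739 (iv4 D202308) F357073 D115683 D202391 D223190 (iv4 F456732) (iv0 D210246) D210249
def n223191 : Q := act 3 n202402
theorem D223191 : act 3 n202402 = n223191 := rfl
theorem F518101 : act 2 n223191 = n219837 := d0_1 D223191 (iv3 D219837) (iv2 F500797) F517068 (iv2 F517065)
theorem F518102 : act 5 n223191 = n223162 := d6_2 (iv5 F423880) D223191 F517948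
theorem F518103 : act 6 n223191 = n223168 := d7_2 F461044 D223191 (iv3 D223168)
theorem F518104 : act 0 n223191 = n222556 := d19_4 F464089 (iv5 F507505) F507504 D223191 F514901 F514835 F464448 F500941 F460087 F459198 F425968 (iv1 F403986) (iv5 F403985) D221123 (iv3 F510479) F510482 F466489 F466488 (iv3 F464086)
theorem F518105 : act 4 n223191 = n219845 := d20_6 (iv4 F359947) D211144 F460313 F357085 D202402 D223191 (iv1 F500865) (iv4 D202163) F179710 D115421
theorem F518106 : act 0 n222557 = n223191 := d18_0 F518105 (iv1 F500865) (iv4 D202163) (iv5 D115410) F84089 D112678 D200121 F514896 (iv5 F514903)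
def n223192 : Q := act 4 n202403
theorem D223192 : act 4 n202403 = n223192 := rfl
theorem F518107 : act 2 n223192 = n213826 := d1_1 D223192 (iv4 F473165) F473320
theorem F518108 : act 3 n223192 = n219850 := d5_1 D223192 (iv4 D219850) (iv3 F499805) (iv4 F518054) F518057
theorem F518109 : act 5 n223192 = n203261 := d9_2 F476791 D223192 (iv4 D203261) (iv5 F343410) F343409 D161685 (iv4 F423620) (iv5 F423880) (iv4 F507504) F507505 (iv4 D203259) (iv5 F333663) F333729 D161879 D214776
theorem F518110 : act 6 n223192 = n209887 := d10_2 (iv6 F473321) D223192 F472494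
theorem F518111 : act 7 n223192 = n213824 := d11_2 F517067 D223192 (iv4 F517064)
theorem F518112 : act 0 n223192 = n222518 := d17_0 F514676 F460830 F404272 F404269 F245148 F179557 D115700 D202403 D223192
theorem F518113 : act 1 n223192 = n211082 := d18_6 (iv1 F515083) F515079 F467186 D214776 F476791 D223192 (iv4 F517401) F517405 F514679
def n223193 : Q := act 1 n202404
theorem D223193 : act 1 n202404 = n223193 := rfl
theorem F518114 : act 5 n223193 = n214062 := d17_7 D191499 (iv5 F444454) F444456 D213010 F470562 F470563 D223193 (iv0 D214062) (iv4 F359546)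
theorem F518115 : act 4 n223103 = n223193 := d20_6 F427302 (iv1 F340772) (iv4 F460871) (iv3 F501149) F510676 (iv3 F517661) (iv1 D223193) F460860 F460858 F427303
theorem F518116 : act 6 n222955 = n223193 := d21_3 (iv5 F422648) (iv1 F509435) (iv5 F516970) (iv1 D223193) (iv6 D202404) (iv5 D115700) (iv1 F179557) (iv5 F245148) (iv6 F404237) (iv1 F404241)
theorem F518117 : act 2 n223193 = n216588 := d3_1 F518116 F485090 (iv2 F516969)
theorem F518118 : act 3 n223193 = n222956 := d7_1 F518116 (iv6 D222956) D222955
def n223194 : Q := act 7 n202404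
theorem D223194 : act 7 n202404 = n223194 := rfl
theorem F518119 : act 3 n223194 = n203598 := d8_1 D223194 (iv7 F460392) F460391
theorem F518120 : act 6 n223194 = n209093 := d14_1 D223194 F452217 F423826 F422533 D202404
theorem F518121 : act 1 n216588 = n223194 := d15_1 (iv0 F517073) (iv7 D223194) (iv2 F517070)
def n223195 : Q := act 0 n202406
theorem D223195 : act 0 n202406 = n223195 := rfl
theorem F518122 : act 5 n223195 = n214003 := d17_1 D223195 F473058 F431765 F414440 (iv5 D199976) D199973 D222516 F514667 F514606
theorem F518123 : act 4 n223195 = n214352 := d18_3 (iv1 F514609) F514606 D223195 (iv5 D214352) F386453 (iv0 D174173) D174175 (iv0 F414325) (iv5 F456120)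
theorem F518124 : act 6 n223195 = n214029 := d21_5 (iv5 D202114) D202113 F422911 (iv6 F423886) D223195 F473178 F469506 F469504 F458675 (iv1 F422920)
theorem F518125 : act 1 n214046 = n223195 := d15_0 (iv0 D223195) (iv7 F502581) F502578
theorem F518126 : act 7 n219838 = n223195 := d14_0 F518124 F473177 (iv6 F500514) F500515 (iv6 F500828)
def n223196 : Q := act 1 n202406
theorem D223196 : act 1 n202406 = n223196 := rfl
theorem F518127 : act 1 n223196 = n214046 := d15_1 D223196 F473243 F458631
theorem F518128 : act 5 n223196 = n219832 := d17_7 (iv1 F430738) (iv5 D203992) (iv1 F195777) (iv5 F388808) F388807 D202406 D223196 F500799 (iv4 D204267)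
theorem F518129 : act 4 n223196 = n214353 := d17_9 (iv1 F479580) (iv5 D215363) F354798 (iv5 F393766) (iv4 F423743) F423744 (iv0 F423561) D202406 D223196
theorem F518130 : act 3 n214068 = n223196 := d19_19 (iv1 D223196) (iv5 D202406) (iv4 F388807) F388806 F306429 F109606 (iv4 F94800) F190006 (iv1 F56379) F307093 F52303 (iv3 F51530) D69880 D149007 F309800 F255218 (iv1 F333720) D203451 (iv4 F473323)
theorem F518131 : act 6 n219765 = n223196 := d21_3 F467353 (iv1 F467286) (iv5 F500509) (iv1 D223196) F423886 (iv5 F422911) (iv1 F422915) D204808 F433663 D212752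
theorem F518132 : act 2 n223196 = n219838 := d3_1 F518131 F500828 (iv2 F500506)
def n223197 : Q := act 4 n202411
theorem D223197 : act 4 n202411 = n223197 := rfl
theorem F518133 : act 2 n223197 = n213825 := d1_1 D223197 F472251 F469586
theorem F518134 : act 3 n223197 = n219856 := d5_1 D223197 F500912 F423908 (iv4 D202413) (iv3 F423904)
theorem F518135 : act 7 n223197 = n221079 := d11_2 F473338 D223197 F507119
theorem F518136 : act 5 n223197 = n219855 := d16_1 D223197 F500909 D219864 F500940 F455871 (iv4 F473024) (iv5 F473332) (iv7 F473333) F469586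
theorem F518137 : act 0 n223197 = n223098 := d17_0 F517634 F509693 (iv5 F510775) F510773 F423825 D202394 F469485 (iv0 F469486) D223197
def n223198 : Q := act 5 n202412
theorem D223198 : act 5 n202412 = n223198 := rfl
theorem F518138 : act 3 n223198 = n202414 := d6_1 D223198 (iv5 D202414) (iv3 F423905)
theorem F518139 : act 7 n223198 = n213216 := d13_2 F517807 D223198 (iv5 F517805)
theorem F518140 : act 4 n223198 = n210774 := d19_2 F491038 D223198 F458743 F245332 (iv5 D156121) F166290 (iv3 F166289) F82346 F79065 D52081 (iv3 F326097) F298916 D181008 (iv4 F405555) F405554 (iv1 F168493) D108882 D198036 (iv3 F491035)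
theorem F518141 : act 0 n223198 = n209863 := d21_1 D223198 F455187 (iv6 D141726) D141723 (iv6 F375955) (iv5 F485893) (iv1 F491034) (iv5 D217873) D217874 F491038
def n223199 : Q := act 7 n202415
theorem D223199 : act 7 n202415 = n223199 := rfl
theorem F518142 : act 2 n223199 = n210742 := d4_1 D223199 (iv7 F502584) F473340
theorem F518143 : act 3 n223199 = n203599 := d8_1 D223199 F429052 (iv3 F423914)
theorem F518144 : act 4 n223199 = n222517 := d11_1 D223199 F514671 F512539
theorem F518145 : act 6 n223199 = n214046 := d14_1 D223199 F473243 F458633 (iv7 F416053) D202415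
theorem F518146 : act 1 n210744 = n223199 := d15_1 F473344 (iv7 D223199) (iv2 F473340)
theorem F518147 : act 1 n223199 = n210737 := d15_1 F518146 (iv7 F505595) F505593
def n223200 : Q := act 1 n202423
theorem D223200 : act 1 n202423 = n223200 := rfl
theorem F518148 : act 1 n223200 = n204097 := d15_1 D223200 (iv7 F433627) F433626
theorem F518149 : act 7 n223200 = n209988 := d15_2 (iv0 F469404) D223200 (iv2 F469400)
theorem F518150 : act 5 n223200 = n213910 := d17_7 F507239 (iv5 D221105) (iv1 F459930) (iv5 F459925) F404316 D202423 D223200 (iv0 F511106) F511104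
theorem F518151 : act 4 n223200 = n209252 := d17_9 (iv1 F511958) F511955 (iv1 F452895) F423528 F423524 F423309 F433595 D202423 D223200
theorem F518152 : act 3 n214606 = n223200 := d19_19 (iv1 D223200) (iv5 D202423) (iv4 F404316) (iv3 D197438) (iv1 D108156) D108157 F396705 D212230 F464854 F457472 (iv4 F348049) D202840 (iv1 F479585) (iv5 D215364) (iv4 F277622) F277621 (iv1 F299358) D160390 (iv4 F476020)
def n223201 : Q := act 5 n202424
theorem D223201 : act 5 n202424 = n223201 := rfl
theorem F518153 : act 2 n223201 = n213472 := d2_1 D223201 (iv5 F517702) F517700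
theorem F518154 : act 3 n223201 = n202428 := d6_1 D223201 (iv5 D202428) (iv3 F423943)
theorem F518155 : act 7 n223201 = n213200 := d13_2 F449713 D223201 F469420
theorem F518156 : act 4 n223201 = n204051 := d16_4 (iv4 F438100) (iv5 F511114) F511113 D223201 F430903 F388787 (iv5 F451453) (iv7 D208930) (iv2 F359091)
theorem F518157 : act 0 n223201 = n213202 := d17_2 (iv1 F517718) D223201 F469426 D213933 F472787 F447323 D221047 (iv0 F510863) (iv4 F517715)
theorem F518158 : act 1 n223201 = n213931 := d17_6 D197414 D221854 F511075 (iv5 F511114) F511113 D223201 (iv5 D213931) (iv0 D156090) (iv4 F167236)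
def n223202 : Q := act 5 n202427
theorem D223202 : act 5 n202427 = n223202 := rfl
theorem F518159 : act 2 n223202 = n213211 := d2_1 D223202 F469450 (iv2 F423953)
theorem F518160 : act 6 n223202 = n202428 := d12_2 D202427 D223202 (iv5 D202428) (iv6 D115724) D115723
theorem F518161 : act 7 n223202 = n213056 := d13_2 (iv7 F423954) D223202 F468806
theorem F518162 : act 4 n223202 = n216443 := d17_4 (iv1 D215832) F422699 F423955 D223202 F484397 (iv0 F483274) (iv5 F485086) (iv0 F485087) F481727
theorem F518163 : act 1 n223202 = n204237 := d17_8 (iv1 D220639) F392027 D217053 F498452 (iv4 F517227) F517228 F458758 D223202 F504750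
theorem F518164 : act 0 n223202 = n213210 := d18_0 (iv4 F469446) F518041 (iv4 D223178) (iv5 D202359) (iv4 F408079) F425635 F425633 F458758 D223202
def n223203 : Q := act 0 n202432
theorem D223203 : act 0 n202432 = n223203 := rfl
theorem F518165 : act 5 n223203 = n219043 := d17_1 D223203 F496857 (iv5 D214135) (iv4 F410691) (iv5 F410694) (iv0 F375425) (iv5 F464407) (iv0 D212125) (iv4 F423974)
theorem F518166 : act 4 n223203 = n221632 := d18_1 D223203 F509997 (iv4 D215892) (iv5 D178150) (iv4 F350678) (iv0 F380625) (iv4 F481920) F481924 (iv5 F423975)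
theorem F518167 : act 6 n223203 = n219937 := d21_5 (iv5 F228371) (iv1 F423970) (iv5 D202431) D202432 D223203 F501267 F501195 (iv5 D196359) (iv6 D106922) (iv1 F181255)
theorem F518168 : act 2 n202433 = n223203 := d15_3 (iv0 D223203) (iv0 F513526) F513525
theorem F518169 : act 1 n202435 = n223203 := d15_0 (iv0 D223203) (iv7 F423976) (iv2 F423978)
theorem F518170 : act 7 n223203 = n202434 := d15_2 (iv0 F513527) F518169 (iv2 F513522)
theorem F518171 : act 3 n215887 = n223203 := d20_3 F400157 F455555 (iv4 F481939) (iv1 F518169) F423979 F180070 (iv1 F84211) D65940 D140485 (iv1 F406612)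
def n223204 : Q := act 6 n202458
theorem D223204 : act 6 n202458 = n223204 := rfl
theorem F518172 : act 2 n223204 = n202459 := d3_1 D223204 (iv6 D202459) D202458
theorem F518173 : act 3 n223204 = n211031 := d7_1 D223204 (iv6 D211031) (iv3 F424079)
theorem F518174 : act 4 n223204 = n221033 := d10_1 D223204 (iv6 D221033) (iv4 F424080)
theorem F518175 : act 5 n223204 = n215099 := d12_1 D223204 F478335 D222004 F511861 F461271
theorem F518176 : act 7 n223204 = n215891 := d14_2 (iv7 F424081) D223204 F481955 F395203 (iv6 F394762)
theorem F518177 : act 0 n211018 = n223204 := d21_4 (iv5 F463430) (iv1 D211889) D211890 F463437 (iv6 D223204) (iv5 F461271) (iv1 F461274) F459780 F424721 (iv1 F463432)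
def n223205 : Q := act 7 n202459
theorem D223205 : act 7 n202459 = n223205 := rfl
theorem F518178 : act 2 n223205 = n215891 := d4_1 D223205 (iv7 F518176) F518172
theorem F518179 : act 3 n223205 = n202461 := d8_1 D223205 (iv7 D202461) (iv3 F424088)
theorem F518180 : act 4 n223205 = n221104 := d11_1 D223205 (iv7 D221104) (iv4 F424089)
theorem F518181 : act 5 n223205 = n214335 := d13_1 D223205 F474629 F424090
theorem F518182 : act 6 n223205 = n210376 := d14_1 D223205 F457272 (iv6 D140546) (iv7 F182536) D202459
theorem F518183 : act 1 n211018 = n223205 := d15_1 (iv0 F518177) (iv7 D223205) (iv2 F518172)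
def n223206 : Q := act 5 n202460
theorem D223206 : act 5 n202460 = n223206 := rfl
theorem F518184 : act 2 n223206 = n210785 := d2_1 D223206 (iv5 D210785) F424092
theorem F518185 : act 3 n223206 = n219349 := d6_1 D223206 (iv5 F506315) (iv3 F506317)
theorem F518186 : act 4 n223206 = n215075 := d9_1 D223206 (iv5 D215075) (iv4 F466418) F466417 (iv4 D211910) (iv5 D144402) D144401 (iv5 F413612) (iv4 F418139) F418141 (iv4 F434050) F434047 F424255 (iv5 D202494) (iv4 F424093)
theorem F518187 : act 6 n223206 = n220234 := d12_2 (iv6 F424091) D223206 (iv5 D220234) (iv6 D193189) (iv5 F344022)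
theorem F518188 : act 7 n223206 = n211037 := d13_2 (iv7 F424094) D223206 (iv5 D211037)
theorem F518189 : act 0 n223206 = n211383 := d17_2 D202460 D223206 (iv5 D211383) F322939 (iv5 F308699) (iv0 F192423) F306848 F231662 (iv4 F352245)
theorem F518190 : act 1 n223206 = n212854 := d17_6 D71120 D150855 (iv1 F424253) (iv5 D202494) (iv4 F424093) D223206 (iv5 D212854) (iv0 D150849) F107639
def n223207 : Q := act 5 n202480
theorem D223207 : act 5 n202480 = n223207 := rfl
theorem F518191 : act 2 n223207 = n215921 := d2_1 D223207 (iv5 D215921) (iv2 F424194)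
theorem F518192 : act 3 n223207 = n223010 := d6_1 D223207 F517234 F479953
theorem F518193 : act 7 n223207 = n213164 := d13_2 (iv7 F424196) D223207 (iv5 D213164)
theorem F518194 : act 0 n223207 = n223020 := d17_2 F458971 D223207 (iv5 D223020) F422765 F349464 (iv0 F348274) (iv5 F316713) (iv0 F349481) (iv4 F458970)
def n223208 : Q := act 5 n202495
theorem D223208 : act 5 n202495 = n223208 := rfl
theorem F518195 : act 2 n223208 = n211649 := d2_1 D223208 F462508 (iv2 F424256)
theorem F518196 : act 3 n223208 = n220228 := d6_1 D223208 (iv5 D220228) (iv3 F424257)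
theorem F518197 : act 4 n223208 = n211607 := d9_1 D223208 F462356 F252714 (iv5 F237175) F334081 F390671 (iv4 D193681) D193682 F390677 (iv5 D149378) (iv4 D70144) F52065 (iv4 F107559) (iv5 F322676) (iv4 F424258)
theorem F518198 : act 6 n223208 = n211569 := d12_2 D202495 D223208 (iv5 D211569) (iv6 D143095) (iv5 F180301)
theorem F518199 : act 7 n223208 = n211647 := d13_2 (iv7 F424261) D223208 F462505
theorem F518200 : act 0 n223208 = n220446 := d17_2 F424259 D223208 F503822 F462439 F342559 (iv0 F342562) F342565 (iv0 F311658) (iv4 F385373)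
theorem F518201 : act 1 n223208 = n211661 := d17_6 F222357 F222356 F309027 (iv5 F322676) (iv4 F424258) D223208 (iv5 D211661) (iv0 F448414) (iv4 D208216)
def n223209 : Q := act 7 n202503
theorem D223209 : act 7 n202503 = n223209 := rfl
theorem F518202 : act 2 n223209 = n202669 := d4_1 D223209 F425004 (iv2 F424303)
theorem F518203 : act 3 n223209 = n210212 := d8_1 D223209 F456600 (iv3 F424304)
theorem F518204 : act 4 n223209 = n210569 := d11_1 D223209 F458074 F446998
theorem F518205 : act 5 n223209 = n221928 := d13_1 D223209 F511445 F446974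
theorem F518206 : act 6 n223209 = n208251 := d14_1 D223209 (iv7 D208251) (iv6 D134003) F180479 D202503
theorem F518207 : act 1 n202670 = n223209 := d15_1 F425011 (iv7 D223209) F424303
theorem F518208 : act 1 n223209 = n202640 := d15_1 F518207 F424886 D202670
def n223210 : Q := act 3 n202507
theorem D223210 : act 3 n202507 = n223210 := rfl
theorem F518209 : act 2 n223210 = n211276 := d0_1 D223210 (iv3 D211276) F425033 F425037 F425040
theorem F518210 : act 5 n223210 = n220352 := d6_2 (iv5 F424320) D223210 (iv3 D220352)
theorem F518211 : act 7 n223210 = n213560 := d8_2 (iv7 F425041) D223210 F471041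
theorem F518212 : act 4 n223210 = n211631 := d20_6 (iv4 F171828) (iv1 F80901) (iv4 F84337) (iv3 F180487) D202507 D223210 (iv1 F462450) F422990 F221778 (iv1 F171826)
theorem F518213 : act 6 n211629 = n223210 := d10_0 F518212 (iv6 D211631) D211629
theorem F518214 : act 1 n222363 = n223210 := d17_8 (iv1 F462450) (iv5 F422992) (iv1 F403445) (iv5 F462418) F462417 (iv5 F408896) (iv0 F424687) (iv5 F513811) F518212
theorem F518215 : act 0 n209961 = n223210 := d18_0 F518212 (iv1 F462450) F422990 (iv5 F353370) F220377 (iv0 F209607) (iv4 F408490) (iv0 F408492) D209961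
def n223211 : Q := act 4 n202507
theorem D223211 : act 4 n202507 = n223211 := rfl
theorem F518216 : act 2 n223211 = n211265 := d1_1 D223211 F460866 F425040
theorem F518217 : act 5 n223211 = n212216 := d9_2 (iv5 F424320) D223211 (iv4 F464789) F452843 (iv4 F510712) F510713 (iv4 D220350) F430768 (iv4 F511058) F511059 F464780 (iv5 D202509) (iv4 F396938) F503345 (iv4 D220353)
theorem F518218 : act 7 n223211 = n221742 := d11_2 (iv7 F425041) D223211 F510617
theorem F518219 : act 0 n223211 = n216054 := d18_2 D202507 D223211 (iv4 F513787) F513788 F438493 (iv0 F463608) (iv4 F512809) (iv0 F512813) (iv5 D202509)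
theorem F518220 : act 1 n223211 = n221149 := d18_8 (iv1 D220333) F389786 D193436 D220350 (iv5 F510713) F510712 F424321 D223211 F507458
theorem F518221 : act 6 n223211 = n223167 := d21_5 F349981 (iv1 F349966) F397112 D221149 (iv1 F518220) (iv5 D223167) F456470 (iv5 F510680) F510683 F457884
def n223212 : Q := act 6 n202507
theorem D223212 : act 6 n202507 = n223212 := rfl
theorem F518222 : act 2 n223212 = n211250 := d3_1 D223212 F460812 F425040
theorem F518223 : act 3 n223212 = n211629 := d7_1 D223212 F518213 (iv3 D223210)
theorem F518224 : act 4 n223212 = n223167 := d10_1 D223212 (iv6 F518221) (iv4 D223211)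
theorem F518225 : act 7 n223212 = n204335 := d14_2 (iv7 F425041) D223212 (iv6 D204335) (iv7 F432037) F432039
theorem F518226 : act 0 n223212 = n211249 := d21_10 (iv5 F488410) F488411 (iv5 D210587) (iv6 F457142) (iv1 D210348) D210350 (iv5 F503318) (iv1 F503321) (iv5 F424320) D223212
theorem F518227 : act 0 n211252 = n223212 := d21_4 F349994 (iv1 F158454) (iv5 F349225) (iv6 F460817) (iv6 D223212) F424320 (iv1 D193437) D193439 (iv6 F389827) (iv1 F365066)
def n223213 : Q := act 6 n202512
theorem D223213 : act 6 n202512 = n223213 := rfl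
theorem F518228 : act 2 n223213 = n202515 := d3_1 D223213 (iv6 D202515) (iv2 F424335)
theorem F518229 : act 3 n223213 = n210575 := d7_1 D223213 (iv6 D210575) (iv3 F424336)
theorem F518230 : act 4 n223213 = n219727 := d10_1 D223213 (iv6 F500289) F483987
theorem F518231 : act 7 n223213 = n217909 := d14_2 (iv7 F424337) D223213 F491212 F491080 (iv6 D210531)
theorem F518232 : act 0 n223213 = n217910 := d21_4 F357473 (iv1 F180496) D202512 D223213 F491216 F390567 F328533 D136388 F356109 D139289
theorem F518233 : act 5 n223213 = n217201 := d21_6 F487381 (iv1 F493405) (iv5 D218340) F375690 (iv1 F424338) D223213 (iv1 D217201) (iv5 F487396) (iv6 D217097) D217095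
theorem F518234 : act 0 n217906 = n223213 := d21_4 F372436 (iv1 F363551) (iv5 F372468) D217906 (iv6 D223213) (iv5 D202512) (iv1 F180498) (iv5 F357488) (iv6 F357626) D188136
def n223214 : Q := act 5 n202513
theorem D223214 : act 5 n202513 = n223214 := rfl
theorem F518235 : act 2 n223214 = n202518 := d2_1 D223214 (iv5 D202518) (iv2 F424341)
theorem F518236 : act 3 n223214 = n210577 := d6_1 D223214 (iv5 D210577) (iv3 F424342)
theorem F518237 : act 6 n223214 = n217201 := d12_2 D202513 D223214 (iv5 F518233) (iv6 D223213) (iv5 D202512)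
theorem F518238 : act 4 n223214 = n219435 := d17_4 F498839 F498835 (iv1 F473586) D223214 F498876 F499922 F499920 (iv0 D216871) (iv4 F486315)
theorem F518239 : act 0 n223214 = n217151 := d21_7 (iv5 D100822) (iv1 F154872) F357491 (iv6 D139359) (iv1 F180496) D202513 D223214 (iv5 F499877) F499878 (iv1 D192851)
def n223215 : Q := act 6 n202514
theorem D223215 : act 6 n202514 = n223215 := rfl
theorem F518240 : act 2 n223215 = n219727 := d3_1 D223215 (iv6 F500289) (iv2 F483988)
theorem F518241 : act 3 n223215 = n219598 := d7_1 D223215 (iv6 F499623) (iv3 F424344)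
theorem F518242 : act 4 n223215 = n202515 := d10_1 D223215 (iv6 D202515) D202514
theorem F518243 : act 5 n223215 = n216550 := d12_1 D223215 (iv6 F484902) (iv5 F480507) F480508 F424346
theorem F518244 : act 0 n223215 = n220453 := d21_4 F448516 (iv1 F392173) F424346 D223215 F503852 (iv5 D212934) (iv1 D151506) D151508 (iv6 F396198) (iv1 F448515)
theorem F518245 : act 0 n220452 = n223215 := d21_4 (iv5 F485629) (iv1 F503685) F503681 F503849 (iv6 D223215) (iv5 F424346) (iv1 D194138) D194139 (iv6 F485985) F485987
theorem F518246 : act 7 n223215 = n220449 := d15_2 D220453 (iv0 F518244) F503834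
def n223216 : Q := act 7 n202515
theorem D223216 : act 7 n202515 = n223216 := rfl
theorem F518247 : act 2 n223216 = n217909 := d4_1 D223216 (iv7 F518231) F518228
theorem F518248 : act 3 n223216 = n202522 := d8_1 D223216 (iv7 D202522) (iv3 F424347)
theorem F518249 : act 4 n223216 = n220449 := d11_1 D223216 (iv7 F518246) F518242
theorem F518250 : act 5 n223216 = n217200 := d13_1 D223216 (iv7 F506088) F506089
theorem F518251 : act 6 n223216 = n204587 := d14_1 D223216 F432960 (iv6 D139370) (iv7 F180500) D202515
theorem F518252 : act 1 n217906 = n223216 := d15_1 (iv0 F518234) (iv7 D223216) (iv2 F518228)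
theorem F518253 : act 1 n223216 = n217910 := d15_1 F518252 (iv7 D217910) (iv2 F491194)
def n223217 : Q := act 3 n202516
theorem D223217 : act 3 n202516 = n223217 := rfl
theorem F518254 : act 5 n223217 = n219415 := d6_2 (iv5 F488015) D223217 (iv3 F498788)
theorem F518255 : act 6 n223217 = n210319 := d7_2 (iv6 F424349) D223217 (iv3 D210319)
theorem F518256 : act 7 n223217 = n212074 := d8_2 F473587 D223217 (iv3 F473584)
theorem F518257 : act 4 n223217 = n212067 := d20_6 F111698 (iv1 F53601) (iv4 F84345) (iv3 F180501) D202516 D223217 (iv1 F464222) F228331 F222666 (iv1 F111701)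
theorem F518258 : act 2 n212072 = n223217 := d1_3 F518257 (iv2 F464217) D212072
theorem F518259 : act 0 n202568 = n223217 := d18_0 F518257 (iv1 F464222) F228331 (iv5 F458357) (iv4 F488116) (iv0 F488118) (iv4 F469987) (iv0 F486007) (iv5 F486009)
def n223218 : Q := act 4 n202516
theorem D223218 : act 4 n202516 = n223218 := rfl
theorem F518260 : act 3 n223218 = n218850 := d5_1 D223218 F495910 (iv3 F476920) (iv4 F518257) (iv3 D223217)
theorem F518261 : act 6 n223218 = n208068 := d10_2 (iv6 F424349) D223218 F447737
theorem F518262 : act 7 n223218 = n220065 := d11_2 F473587 D223218 F501938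
theorem F518263 : act 5 n223218 = n218802 := d16_1 D223218 F495902 (iv5 D198315) (iv4 F388613) (iv5 F388615) D217223 (iv5 F488009) F473470 F473467
theorem F518264 : act 1 n223218 = n208081 := d18_6 (iv1 F488006) (iv4 F486286) (iv1 F486289) D217225 (iv5 F488015) D223218 (iv4 F458427) (iv0 F503840) F503838
theorem F518265 : act 0 n223218 = n214217 := d20_1 D223218 F474032 F458432 F363481 F227310 F111698 (iv1 F53601) (iv4 F84345) (iv3 F180501) D202516
def n223219 : Q := act 4 n202517
theorem D223219 : act 4 n202517 = n223219 := rfl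
theorem F518266 : act 2 n223219 = n220065 := d1_1 D223219 F501938 (iv2 F473585)
theorem F518267 : act 3 n223219 = n208089 := d5_1 D223219 F460196 (iv3 F493333) F493334 (iv3 F473472)
theorem F518268 : act 5 n223219 = n218803 := d9_2 (iv5 F488009) D223219 (iv4 F502967) F502968 F499925 F385196 D217225 (iv5 F488015) D223218 F518263 F495902 (iv5 D198315) (iv4 F388613) (iv5 F388615) D217223
theorem F518269 : act 6 n223219 = n218324 := d10_2 F473471 D223219 (iv4 D218324)
theorem F518270 : act 0 n223219 = n208081 := d17_0 F480229 (iv1 D215498) F366917 (iv4 F388078) (iv5 F498662) (iv0 F498663) (iv5 D202518) D202517 D223219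
theorem F518271 : act 1 n223219 = n214217 := d18_6 (iv1 D217221) F368843 D187017 D217223 (iv5 F488009) D223219 F474032 F503864 F503862
def n223220 : Q := act 4 n202518
theorem D223220 : act 4 n202518 = n223220 := rfl
theorem F518272 : act 2 n223220 = n219435 := d1_1 D223220 (iv4 F518238) F518235
theorem F518273 : act 6 n223220 = n204135 := d10_2 (iv6 F506091) D223220 (iv4 F506090)
theorem F518274 : act 7 n223220 = n220027 := d11_2 F473598 D223220 F501725
theorem F518275 : act 5 n223220 = n204645 := d16_3 (iv4 F180502) D202518 D223220 (iv4 F436653) D222083 F512271 (iv5 D220456) F390725 F226855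
theorem F518276 : act 0 n223220 = n217867 := d17_0 (iv5 D217867) (iv1 F488433) F488430 (iv4 F388081) (iv5 D192876) D192875 (iv5 F498662) (iv0 F498663) D223220
theorem F518277 : act 1 n223220 = n217869 := d18_8 (iv1 D188079) (iv4 F372044) F461078 F461077 D217912 (iv4 F498661) (iv0 F498663) D223220 (iv5 D217869)
theorem F518278 : act 3 n223220 = n204137 := d19_3 (iv1 D202517) D202518 D223220 (iv1 F431168) (iv5 D139478) (iv4 F172819) (iv3 F360130) (iv1 F403284) (iv5 D197151) (iv4 D107759) D107758 F172409 (iv5 D65911) D65910 D140421 D210975 (iv5 F493335) F493334 (iv3 F473472)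
def n223221 : Q := act 4 n202521
theorem D223221 : act 4 n202521 = n223221 := rfl
theorem F518279 : act 2 n223221 = n210595 := d1_1 D223221 (iv4 D210595) (iv2 F424356)
theorem F518280 : act 3 n223221 = n204136 := d5_1 D223221 (iv4 D204136) D204135 (iv4 F506090) F506092
theorem F518281 : act 6 n223221 = n202526 := d10_2 (iv6 F424357) D223221 (iv4 D202526)
def n223222 : Q := act 7 n202521
theorem D223222 : act 7 n202521 = n223222 := rfl
theorem F518282 : act 2 n223222 = n210596 := d4_1 D223222 (iv7 D210596) (iv2 F424356)
theorem F518283 : act 3 n223222 = n217200 := d8_1 D223222 (iv7 F506088) F506092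
theorem F518284 : act 5 n223222 = n202522 := d13_1 D223222 (iv7 D202522) D202521
theorem F518285 : act 6 n223222 = n220523 := d14_1 D223222 F504173 (iv6 D214127) F246048 (iv6 F424357)
theorem F518286 : act 1 n210594 = n223222 := d15_1 D210594 (iv7 D223222) F424356
theorem F518287 : act 1 n223222 = n210593 := d15_1 F518286 (iv7 F458154) (iv2 F458158)
def n223223 : Q := act 1 n202523
theorem D223223 : act 1 n202523 = n223223 := rfl
theorem F518288 : act 7 n223223 = n208332 := d15_2 (iv0 F424372) D223223 F448949
theorem F518289 : act 4 n213921 = n223223 := d20_0 (iv1 D223223) (iv4 F461064) (iv3 F461062) (iv1 F245270) D156104 F245277 D209014 F517306 (iv3 F517305) F517308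
theorem F518290 : act 2 n223223 = n208331 := d1_1 F518289 (iv4 F517758) F517756
theorem F518291 : act 6 n223223 = n210546 := d10_2 F517771 F518289 (iv4 F517769)
theorem F518292 : act 0 n208330 = n223223 := d20_1 (iv4 F461060) (iv4 F518289) (iv3 D213921) (iv1 F472748) F472744 (iv4 F404193) (iv1 F422556) (iv4 F461047) F461046 D211307
def n223224 : Q := act 2 n202523
theorem D223224 : act 2 n202523 = n223224 := rfl
theorem F518293 : act 3 n223224 = n210597 := d0_2 D202523 D223224 (iv2 D210597) (iv3 D139424) F180507
theorem F518294 : act 4 n223224 = n223126 := d1_2 F461064 D223224 F517778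
theorem F518295 : act 6 n223224 = n218319 := d3_2 F513728 D223224 (iv2 F513726)
theorem F518296 : act 7 n223224 = n208330 := d4_2 (iv7 F424371) D223224 F448943
theorem F518297 : act 1 n223224 = n208331 := d15_0 (iv0 D208331) (iv7 F424371) D223224
theorem F518298 : act 1 n208332 = n223224 := d15_0 F518297 (iv7 F448946) (iv2 F448949)
def n223225 : Q := act 5 n202523
theorem D223225 : act 5 n202523 = n223225 := rfl
theorem F518299 : act 3 n223225 = n202524 := d6_1 D223225 (iv5 D202524) D202523
theorem F518300 : act 7 n223225 = n208333 := d13_2 (iv7 F424371) D223225 (iv5 D208333)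
theorem F518301 : act 4 n223225 = n221827 := d16_4 (iv4 F455236) F461063 F461064 D223225 F510951 F404082 (iv5 F472965) (iv7 D213980) F245391
theorem F518302 : act 0 n223225 = n220198 := d17_2 (iv1 D223223) D223225 (iv5 D220198) (iv4 F429083) F517301 (iv0 F517302) F517754 F517751 F518289
theorem F518303 : act 1 n223225 = n219416 := d17_6 F482069 (iv5 F513805) F513807 F461063 F461064 D223225 F498790 (iv0 D218380) (iv4 F458693)
def n223226 : Q := act 4 n202524
theorem D223226 : act 4 n202524 = n223226 := rfl
theorem F518304 : act 2 n223226 = n210598 := d1_1 D223226 (iv4 D210598) (iv2 F424373)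
theorem F518305 : act 5 n223226 = n208385 := d9_2 D202524 D223226 (iv4 D208385) F216281 F98706 F95118 (iv4 F166265) D197103 D221690 F510319 (iv4 D208387) (iv5 F328200) F328199 F216212 F180508
theorem F518306 : act 7 n223226 = n208336 := d11_2 (iv7 F424374) D223226 (iv4 D208336)
theorem F518307 : act 0 n223226 = n214117 := d17_0 F473556 (iv1 F478891) F478888 (iv4 D210603) (iv5 F222630) (iv0 F246509) D214145 F473707 D223226
theorem F518308 : act 1 n223226 = n214115 := d18_6 D74418 (iv4 F166269) (iv1 F166272) F180508 D202524 D223226 (iv4 D214115) (iv0 D156494) (iv5 D74419)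
theorem F518309 : act 6 n223226 = n216033 := d21_3 F473542 (iv1 F449155) (iv5 F518305) (iv1 D216033) F280033 (iv5 F279930) F279931 F195924 D204027 (iv1 F473545)
theorem F518310 : act 4 n216033 = n215198 := d10_1 F518309 (iv6 F478842) D223226
def n223227 : Q := act 3 n202525
theorem D223227 : act 3 n202525 = n223227 := rfl
theorem F518311 : act 2 n223227 = n218382 := d0_1 D223227 F493610 (iv2 F458180) (iv3 D210602) F424379
theorem F518312 : act 5 n223227 = n218381 := d6_2 (iv5 F424378) D223227 F493604
theorem F518313 : act 7 n223227 = n210600 := d8_2 (iv7 F424377) D223227 (iv3 D210600)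
theorem F518314 : act 0 n223227 = n210852 := d20_4 D214113 F473544 F458368 D223227 F459025 D210864 F459057 F449176 F430834 F356529
def n223228 : Q := act 3 n202526
theorem D223228 : act 3 n202526 = n223228 := rfl
theorem F518315 : act 4 n223228 = n204137 := d5_2 D202526 D223228 (iv3 F518278) (iv4 D223220) F424350
theorem F518316 : act 6 n223228 = n204136 := d7_2 F518281 D223228 (iv3 F518280)
theorem F518317 : act 0 n223228 = n210595 := d21_4 F478619 (iv1 F483361) F483358 (iv6 F518316) F458159 (iv5 F449172) (iv1 F473571) (iv5 F473570) (iv6 F473522) F478621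
def n223229 : Q := act 5 n202526
theorem D223229 : act 5 n202526 = n223229 := rfl
theorem F518318 : act 2 n223229 = n208393 := d2_1 D223229 F449172 (iv2 F424380)
theorem F518319 : act 4 n223229 = n208272 := d9_1 D223229 F448667 F216037 F98252 (iv4 F101153) (iv5 F222631) (iv4 F449168) (iv5 D208392) (iv4 D134253) (iv5 D63064) F47997 (iv5 F40921) (iv4 F84345) D115932 D202526
theorem F518320 : act 7 n223229 = n208271 := d13_2 F473601 D223229 (iv5 F473600)
theorem F518321 : act 0 n223229 = n208390 := d17_2 F462694 D223229 (iv5 F449167) (iv4 D199346) (iv5 D111213) (iv0 F84349) D115937 (iv0 F226505) D211687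
theorem F518322 : act 1 n223229 = n208389 := d17_6 (iv1 F424375) (iv5 D202524) (iv1 D115931) D115932 D202526 D223229 (iv5 F473576) (iv0 F473577) (iv4 D211253)
def n223230 : Q := act 5 n202530
theorem D223230 : act 5 n202530 = n223230 := rfl
theorem F518323 : act 2 n223230 = n202533 := d2_1 D223230 (iv5 D202533) (iv2 F424395)
theorem F518324 : act 3 n223230 = n210645 := d6_1 D223230 (iv5 D210645) (iv3 F424396)
theorem F518325 : act 6 n223230 = n216867 := d12_2 D202530 D223230 F486305 (iv6 D211216) F224244
theorem F518326 : act 4 n223230 = n216868 := d19_2 (iv1 F473527) D223230 F486307 (iv1 F483801) (iv5 F498978) F498979 F408109 (iv1 F407796) D222095 (iv4 F512336) (iv3 F497787) F497789 (iv5 F512638) F512639 F503873 (iv1 D220457) (iv5 D193706) (iv4 F390724) (iv3 F473525)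
theorem F518327 : act 0 n223230 = n204116 := d21_1 D223230 (iv5 F500715) (iv6 F500713) F431660 (iv6 F360986) (iv5 F403440) (iv1 F488303) (iv5 D217289) F473530 (iv1 F473527)
theorem F518328 : act 0 n211634 = n223230 := d21_1 F462467 (iv5 D223230) (iv6 D202530) (iv1 F180517) D139441 (iv5 F357355) (iv1 D100015) D100017 D192290 F460473
def n223231 : Q := act 3 n202532
theorem D223231 : act 3 n202532 = n223231 := rfl
theorem F518329 : act 4 n223231 = n223090 := d5_2 F488291 D223231 (iv3 F517595) F500692 (iv3 F488290)
theorem F518330 : act 6 n223231 = n219652 := d7_2 F488288 D223231 F499857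
theorem F518331 : act 7 n223231 = n214043 := d8_2 (iv7 F473496) D223231 (iv3 F473494)
theorem F518332 : act 0 n223231 = n211306 := d21_4 F386460 D219597 F499858 (iv6 F518330) (iv6 D211306) D211305 F461055 F444016 F500835 (iv1 D219840)
theorem F518333 : act 1 n223231 = n222357 := d15_1 (iv0 F518332) F514159 F514155
def n223232 : Q := act 5 n202532
theorem D223232 : act 5 n202532 = n223232 := rfl
theorem F518334 : act 6 n223232 = n217794 := d12_2 F488288 D223232 F490660 F489412 (iv5 F488285)
theorem F518335 : act 0 n223232 = n219809 := d17_2 (iv1 F473537) D223232 (iv5 D219809) F386321 (iv5 F462469) F462471 (iv5 D209754) F453601 (iv4 F473533)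
def n223233 : Q := act 0 n202533
theorem D223233 : act 0 n202533 = n223233 := rfl
theorem F518336 : act 4 n223233 = n211635 := d18_3 (iv1 D219555) F449435 D223233 F462469 (iv4 F386321) D219808 (iv4 F500712) (iv0 F500387) F500385
theorem F518337 : act 5 n223233 = n204254 := d21_2 D202533 D223233 (iv6 D204254) F361506 (iv6 F366724) (iv5 F366725) D197193 (iv5 F488285) F488288 (iv1 D202532)
theorem F518338 : act 6 n223233 = n203988 := d21_5 F498869 (iv1 D211219) (iv5 F449432) (iv6 F449434) D223233 F430717 (iv1 F427146) (iv5 F431093) F431096 D219433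
theorem F518339 : act 2 n204116 = n223233 := d3_3 F518338 (iv2 F430718) D204116
theorem F518340 : act 7 n211634 = n223233 := d14_0 F518338 F430720 D204114 F440456 (iv6 F462466)
def n223234 : Q := act 1 n202533
theorem D223234 : act 1 n202533 = n223234 := rfl
theorem F518341 : act 7 n223234 = n204116 := d15_2 (iv0 D223233) D223234 F518339
theorem F518342 : act 5 n223234 = n211624 := d17_7 (iv1 F462345) (iv5 F462452) (iv1 D209756) (iv5 D136885) (iv4 F180519) D202533 D223234 F500709 F500706
theorem F518343 : act 4 n223234 = n211603 := d17_9 F462341 (iv5 D209754) (iv1 D136884) D136885 D209757 (iv5 F454842) (iv0 D202531) D202533 D223234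
theorem F518344 : act 6 n209696 = n223234 := d21_3 (iv5 D210073) D210072 (iv5 F456061) (iv1 D223234) F449434 F449432 F387712 D209581 (iv6 F482436) F482439
theorem F518345 : act 2 n223234 = n211634 := d3_1 F518344 F462466 F454664
def n223235 : Q := act 5 n202535
theorem D223235 : act 5 n202535 = n223235 := rfl
theorem F518346 : act 2 n223235 = n208445 := d2_1 D223235 F449383 (iv2 F424405)
theorem F518347 : act 4 n223235 = n207526 := d9_1 D223235 F445298 F211398 (iv5 F101619) F101618 (iv5 F222670) (iv4 F449380) (iv5 D208444) (iv4 D134329) (iv5 D63107) (iv4 F80558) (iv5 F93900) F93899 D115937 D202535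
theorem F518348 : act 7 n223235 = n207525 := d13_2 F473543 D223235 (iv5 F473542)
theorem F518349 : act 0 n223235 = n208442 := d17_2 F458184 D223235 (iv5 F449376) (iv4 D208336) (iv5 D134167) (iv0 F98345) D65438 D139427 D210603
theorem F518350 : act 1 n223235 = n208441 := d17_6 F246043 F246042 (iv1 F111700) D115937 D202535 D223235 (iv5 F458167) (iv0 F460772) (iv4 D211241)
def n223236 : Q := act 5 n202537
theorem D223236 : act 5 n202537 = n223236 := rfl
theorem F518351 : act 2 n223236 = n202540 := d2_1 D223236 (iv5 D202540) (iv2 F424410)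
theorem F518352 : act 3 n223236 = n210613 := d6_1 D223236 (iv5 D210613) (iv3 F424411)
theorem F518353 : act 6 n223236 = n209544 := d12_2 D202537 D223236 F460689 (iv6 D211225) F224262
theorem F518354 : act 1 n223236 = n203093 := d17_6 (iv1 F410730) D199121 F509986 (iv5 D221630) (iv4 F424412) D223236 F426934 (iv0 F410260) (iv4 F400664)
theorem F518355 : act 0 n223236 = n213595 := d21_1 D223236 F471212 (iv6 F457412) (iv1 D192284) F329688 (iv5 F360527) (iv1 F219262) (iv5 F221327) D210289 F456867
theorem F518356 : act 7 n223236 = n216591 := d15_2 (iv0 F471215) (iv0 F518355) (iv2 F485100)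
def n223237 : Q := act 7 n202537
theorem D223237 : act 7 n202537 = n223237 := rfl
theorem F518357 : act 2 n223237 = n202541 := d4_1 D223237 (iv7 D202541) (iv2 F424410)
theorem F518358 : act 3 n223237 = n210614 := d8_1 D223237 (iv7 D210614) (iv3 F424411)
theorem F518359 : act 4 n223237 = n221631 := d11_1 D223237 (iv7 D221631) (iv4 F424412)
theorem F518360 : act 5 n223237 = n216591 := d13_1 D223237 (iv7 F518356) (iv5 D223236)
theorem F518361 : act 6 n223237 = n210646 := d14_1 D223237 (iv7 D210646) (iv6 D139467) (iv7 F180524) D202537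
theorem F518362 : act 1 n202539 = n223237 := d15_1 D202539 (iv7 D223237) F424410
theorem F518363 : act 1 n223237 = n202538 := d15_1 F518362 (iv7 F456866) F456865
def n223238 : Q := act 3 n202538
theorem D223238 : act 3 n202538 = n223238 := rfl
theorem F518364 : act 2 n223238 = n216597 := d0_1 D223238 (iv3 D216597) (iv2 F458394) F458395 F455708
theorem F518365 : act 6 n223238 = n219648 := d7_2 (iv6 F424413) D223238 (iv3 F499841)
theorem F518366 : act 0 n223238 = n220060 := d20_4 (iv4 F228413) D212140 (iv4 F464464) D223238 F501913 (iv4 F481928) F481929 (iv4 F501903) F501902 F455589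
def n223239 : Q := act 3 n202542
theorem D223239 : act 3 n202542 = n223239 := rfl
theorem F518367 : act 5 n223239 = n221527 := d6_2 F511933 D223239 (iv3 F511932)
theorem F518368 : act 0 n223239 = n216659 := d19_4 F168886 D115942 D202542 D223239 F485354 F480000 (iv3 D174559) (iv1 F128669) (iv5 F273947) F273946 (iv3 F392210) F392212 F369660 D194888 F394865 F407661 F407659 (iv4 F406608) (iv3 D198057)
def n223240 : Q := act 4 n202545
theorem D223240 : act 4 n202545 = n223240 := rfl
theorem F518369 : act 2 n223240 = n210691 := d1_1 D223240 (iv4 D210691) (iv2 F424431)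
theorem F518370 : act 3 n223240 = n212940 := d5_1 D223240 (iv4 D212940) F238387 D154327 (iv3 F424432)
theorem F518371 : act 7 n223240 = n216714 := d11_2 (iv7 F424433) D223240 F485594
theorem F518372 : act 0 n223240 = n217651 := d18_2 F462663 D223240 F489945 F461029 F461024 F238093 (iv4 F244714) (iv0 F362320) D211680
theorem F518373 : act 1 n223240 = n220314 := d18_6 (iv1 F361509) (iv4 F361510) F424430 F424427 D202545 D223240 F503151 (iv0 F473613) (iv5 D214129)
def n223241 : Q := act 6 n202547
theorem D223241 : act 6 n202547 = n223241 := rfl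
theorem F518374 : act 2 n223241 = n202548 := d3_1 D223241 (iv6 D202548) D202547
theorem F518375 : act 3 n223241 = n210665 := d7_1 D223241 (iv6 D210665) (iv3 F424439)
theorem F518376 : act 4 n223241 = n211961 := d10_1 D223241 (iv6 D211961) (iv4 F424440)
theorem F518377 : act 7 n223241 = n212544 := d14_2 (iv7 F424441) D223241 F503856 F503854 (iv6 D210677)
theorem F518378 : act 0 n223241 = n210622 := d21_4 (iv5 F458428) (iv1 F460564) F460562 D223241 F480711 (iv5 D215598) (iv1 F389943) F424917 (iv6 D202646) D202644
theorem F518379 : act 5 n223241 = n213484 := d21_6 (iv5 F354446) (iv1 F152890) D184316 F368783 (iv1 F424442) D223241 F470619 (iv5 F484886) (iv6 D216546) (iv1 F354453)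
def n223242 : Q := act 1 n202548
theorem D223242 : act 1 n202548 = n223242 := rfl
theorem F518380 : act 1 n223242 = n212544 := d15_1 D223242 (iv7 F518377) F518374
theorem F518381 : act 7 n223242 = n210622 := d15_2 (iv0 F503286) D223242 (iv2 F503281)
theorem F518382 : act 5 n223242 = n213612 := d17_7 F368537 F274765 F342799 (iv5 F368546) D193803 F424451 D223242 (iv0 D213612) F368538
theorem F518383 : act 4 n223242 = n202826 := d17_9 (iv1 D202826) D202827 (iv1 F501960) (iv5 D220069) (iv4 F501031) F501032 (iv0 F471257) F424451 D223242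
theorem F518384 : act 3 n210612 = n223242 := d19_19 (iv1 D223242) (iv5 F424451) (iv4 D193803) F368545 D154371 F242449 (iv4 F440127) F440126 (iv1 D204873) (iv5 F374621) (iv4 F374866) (iv3 F492799) (iv1 F492802) F448088 F284743 (iv3 F152463) (iv1 F427121) F427122 (iv4 F458215)
theorem F518385 : act 6 n222169 = n223242 := d21_3 F394143 F456637 (iv5 F512702) (iv1 D223242) (iv6 D202548) (iv5 F224223) (iv1 F460511) (iv5 D211185) D211186 F460517
def n223243 : Q := act 7 n202548
theorem D223243 : act 7 n202548 = n223243 := rfl
theorem F518386 : act 2 n223243 = n212544 := d4_1 D223243 (iv7 F518377) F518374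
theorem F518387 : act 3 n223243 = n202550 := d8_1 D223243 (iv7 D202550) (iv3 F424445)
theorem F518388 : act 4 n223243 = n211964 := d11_1 D223243 (iv7 D211964) (iv4 F424446)
theorem F518389 : act 5 n223243 = n213605 := d13_1 D223243 F471261 F424451
theorem F518390 : act 6 n223243 = n210682 := d14_1 D223243 (iv7 D210682) (iv6 D139499) F183042 D202548
theorem F518391 : act 0 n210622 = n223243 := d17_0 F518389 (iv1 F471263) (iv5 F416277) F416276 D200399 (iv0 F497731) F497729 (iv0 F500250) F500247
def n223244 : Q := act 3 n202556
theorem D223244 : act 3 n202556 = n223244 := rfl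
theorem F518392 : act 5 n223244 = n208254 := d6_2 (iv5 F458940) D223244 (iv3 F458936)
theorem F518393 : act 6 n223244 = n208255 := d7_2 F462256 D223244 (iv3 F462255)
theorem F518394 : act 7 n223244 = n210699 := d8_2 F424481 D223244 (iv3 D210699)
theorem F518395 : act 0 n223244 = n222080 := d20_4 F451071 F424539 (iv4 F424478) D223244 (iv3 D222080) F407541 (iv1 D197592) F167721 (iv3 F217366) D208841
theorem F518396 : act 0 n207034 = n223244 := d21_4 (iv5 D197168) F208188 (iv5 F208187) D207034 F518393 (iv5 D208255) F424887 (iv5 F424888) (iv6 F429509) F429511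
def n223245 : Q := act 3 n202557
theorem D223245 : act 3 n202557 = n223245 := rfl
theorem F518397 : act 2 n223245 = n212996 := d0_1 D223245 (iv3 F511207) F511206 (iv3 D210699) (iv2 F424485)
theorem F518398 : act 4 n223245 = n217789 := d5_2 F424484 D223245 F490635 (iv4 F423519) F423517
theorem F518399 : act 5 n223245 = n210616 := d6_2 (iv5 F424486) D223245 F458225
theorem F518400 : act 7 n223245 = n210701 := d8_2 (iv7 F424483) D223245 (iv3 D210701)
theorem F518401 : act 0 n223245 = n212932 := d19_4 (iv1 F102994) D116296 F424484 D223245 F468194 (iv4 F457695) F457694 (iv1 F345622) (iv5 D126776) F93902 (iv3 D28254) (iv1 F45725) D59460 F93860 D64582 (iv1 F225846) (iv5 D137338) D137337 F220519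
theorem F518402 : act 0 n212998 = n223245 := d20_4 (iv4 D201327) F324161 D202498 (iv3 F468520) (iv3 D223245) (iv4 F424484) (iv1 F424540) (iv4 F451071) (iv3 F462610) F462613
def n223246 : Q := act 6 n202557
theorem D223246 : act 6 n202557 = n223246 := rfl
theorem F518403 : act 2 n223246 = n209384 := d3_1 D223246 F453498 (iv2 F424485)
theorem F518404 : act 4 n223246 = n202675 := d10_1 D223246 (iv6 D202675) F424484
theorem F518405 : act 5 n223246 = n210067 := d12_1 D223246 F456028 (iv5 D191784) D191785 (iv5 F424486)
theorem F518406 : act 0 n223246 = n222947 := d21_10 (iv5 D222947) (iv1 F441424) (iv5 F453560) (iv6 F453562) F376435 (iv6 F372809) (iv5 F388484) (iv1 F424487) (iv5 F424486) D223246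
theorem F518407 : act 0 n210874 = n223246 := d21_4 (iv5 D116322) D116320 (iv5 F223265) D210874 (iv6 D223246) F424486 (iv1 F424936) (iv5 D202649) F424652 F424650
def n223247 : Q := act 0 n202563
theorem D223247 : act 0 n202563 = n223247 := rfl
theorem F518408 : act 5 n223247 = n209239 := d17_1 D223247 (iv1 F452840) (iv5 F453170) (iv4 D209312) F219360 D195328 (iv5 F423770) F423773 (iv4 F424517)
theorem F518409 : act 4 n223247 = n219291 := d18_1 D223247 F498149 F482198 (iv5 F473504) (iv4 F465121) (iv0 F492507) F492505 (iv0 F448478) (iv5 F424518)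
theorem F518410 : act 3 n223247 = n209248 := d20_5 (iv4 D133570) F168233 (iv4 F180586) (iv3 F424516) D223247 (iv4 F463429) (iv1 D211889) (iv4 F329404) F329080 (iv1 F329400)
theorem F518411 : act 6 n223247 = n210533 := d21_5 F388021 (iv1 F346709) (iv5 F329507) D202563 D223247 F480572 (iv1 F501946) (iv5 D220066) (iv6 D192854) (iv1 F388019)
theorem F518412 : act 2 n210322 = n223247 := d15_3 (iv0 D223247) (iv0 F503375) F503374
theorem F518413 : act 1 n209299 = n223247 := d15_0 (iv0 D223247) F424519 (iv2 F453099)
theorem F518414 : act 7 n223247 = n209238 := d15_2 (iv0 F503376) F518413 (iv2 F503370)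
def n223248 : Q := act 6 n202567
theorem D223248 : act 6 n202567 = n223248 := rfl
theorem F518415 : act 2 n223248 = n202568 := d3_1 D223248 (iv6 D202568) D202567
theorem F518416 : act 3 n223248 = n208332 := d7_1 D223248 (iv6 F448948) (iv3 F424541)
theorem F518417 : act 4 n223248 = n221648 := d10_1 D223248 (iv6 D221648) (iv4 F424542)
theorem F518418 : act 5 n223248 = n216274 := d12_1 D223248 F483597 (iv5 D209403) D209404 F453593
theorem F518419 : act 0 n223248 = n212072 := d21_4 D199190 F453594 F453593 D223248 F464238 F463407 (iv1 F259425) (iv5 F338224) (iv6 F361557) (iv1 F181243)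
theorem F518420 : act 1 n223248 = n212074 := d15_1 (iv0 F518419) (iv7 F518256) (iv2 F518258)
def n223249 : Q := act 1 n202568
theorem D223249 : act 1 n202568 = n223249 := rfl
theorem F518421 : act 7 n223249 = n212072 := d15_2 (iv0 F518259) D223249 F518258
theorem F518422 : act 5 n223249 = n219414 := d17_7 D191419 F383435 (iv1 F285754) D185523 D216809 (iv5 F486009) D223249 (iv0 D219414) (iv4 D191420)
theorem F518423 : act 4 n223249 = n212068 := d17_9 (iv1 D212068) D212069 (iv1 F464227) D219250 (iv4 F498848) F498847 (iv0 F486007) (iv5 F486009) D223249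
theorem F518424 : act 3 n218191 = n223249 := d19_19 (iv1 D223249) F486009 (iv4 D216809) F287796 (iv1 D89599) (iv5 D41846) (iv4 D19700) D19699 F63555 F291131 (iv4 F66726) D44534 D95346 D189861 (iv4 F406554) F406553 (iv1 F406569) F459637 (iv4 F492620)
theorem F518425 : act 6 n209985 = n223249 := d21_3 (iv5 F411234) D220319 F503173 (iv1 D223249) (iv6 D202568) (iv5 F411134) (iv1 F411137) (iv5 D111084) D111085 D199225
theorem F518426 : act 2 n223249 = n212074 := d0_1 F518424 (iv3 F473584) (iv2 F473585) F473472 (iv2 F492619)
def n223250 : Q := act 5 n202569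
theorem D223250 : act 5 n202569 = n223250 := rfl
theorem F518427 : act 2 n223250 = n210857 := d2_1 D223250 (iv5 D210857) (iv2 F424548)
theorem F518428 : act 6 n223250 = n202571 := d12_2 D202569 D223250 (iv5 D202571) (iv6 D115998) D115997
theorem F518429 : act 0 n215077 = n223250 := d21_1 (iv5 F478218) (iv5 D223250) (iv6 D202569) (iv1 F181558) D143248 (iv5 F361418) (iv1 D139519) D139520 D210704 F466798
def n223251 : Q := act 3 n202579
theorem D223251 : act 3 n202579 = n223251 := rfl
theorem F518430 : act 2 n223251 = n210236 := d0_1 D223251 (iv3 F511982) F511981 (iv3 F406633) F424596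
theorem F518431 : act 4 n223251 = n203043 := d5_2 (iv4 F424595) D223251 F426755 (iv4 D198600) F334949
theorem F518432 : act 6 n223251 = n203042 := d7_2 F434419 D223251 (iv3 F434417)
theorem F518433 : act 7 n223251 = n210835 := d8_2 (iv7 F424594) D223251 (iv3 D210835)
theorem F518434 : act 0 n223251 = n220116 := d19_4 F314150 D146619 (iv4 F424595) D223251 F502202 F471457 (iv3 D185314) F135206 (iv5 F137172) (iv4 D89491) (iv3 F137165) D187046 F368911 F352769 (iv3 F479162) F479166 F385464 F250288 (iv3 F314152)
theorem F518435 : act 0 n216683 = n223251 := d20_4 (iv4 F466028) F466029 F352427 (iv3 F485462) (iv3 D223251) F424595 (iv1 F324379) F320790 (iv3 F222675) D210667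
def n223252 : Q := act 7 n202580
theorem D223252 : act 7 n202580 = n223252 := rfl
theorem F518436 : act 2 n223252 = n210840 := d4_1 D223252 (iv7 D210840) (iv2 F424597)
theorem F518437 : act 3 n223252 = n216673 := d8_1 D223252 (iv7 F485421) (iv3 F424598)
theorem F518438 : act 5 n223252 = n202581 := d13_1 D223252 (iv7 D202581) D202580
theorem F518439 : act 6 n223252 = n220503 := d14_1 D223252 F504087 F516411 F516410 F429108
theorem F518440 : act 1 n210839 = n223252 := d15_1 D210839 (iv7 D223252) F424597
theorem F518441 : act 1 n223252 = n210838 := d15_1 F518440 (iv7 F482304) F482302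
def n223253 : Q := act 5 n202582
theorem D223253 : act 5 n202582 = n223253 := rfl
theorem F518442 : act 2 n223253 = n203114 := d2_1 D223253 (iv5 D203114) (iv2 F424604)
theorem F518443 : act 3 n223253 = n202583 := d6_1 D223253 (iv5 D202583) D202582
theorem F518444 : act 4 n223253 = n203313 := d9_1 D223253 (iv5 F427828) F425057 (iv5 F439938) (iv4 D206253) (iv5 D127955) F314115 D148104 (iv4 F427818) F427819 F421309 D212363 F465504 (iv5 D211138) (iv4 F424605)
theorem F518445 : act 6 n223253 = n218350 := d12_2 (iv6 F424606) D223253 F493449 (iv6 F426750) (iv5 D203041)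
theorem F518446 : act 7 n223253 = n203348 := d13_2 (iv7 F424607) D223253 F427990
theorem F518447 : act 0 n223253 = n212615 := d17_2 F424609 D223253 F466707 (iv4 F426128) F421192 F427833 F427832 F186710 D118752
theorem F518448 : act 1 n223253 = n212591 := d17_6 D146399 (iv5 F351274) F460285 (iv5 D211138) (iv4 F424605) D223253 F466587 (iv0 D202902) F183443
def n223254 : Q := act 6 n202583
theorem D223254 : act 6 n202583 = n223254 := rfl
theorem F518449 : act 2 n223254 = n202593 := d3_1 D223254 (iv6 D202593) (iv2 F424610)
theorem F518450 : act 3 n223254 = n218350 := d7_1 D223254 (iv6 F518445) F518443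
theorem F518451 : act 4 n223254 = n210704 := d10_1 D223254 (iv6 D210704) (iv4 F424611)
theorem F518452 : act 5 n223254 = n203043 := d12_1 D223254 (iv6 D203043) (iv5 D117607) (iv6 F322682) D202583
theorem F518453 : act 7 n223254 = n218352 := d14_2 (iv7 F424612) D223254 F493461 F459086 (iv6 D210870)
theorem F518454 : act 0 n219550 = n223254 := d21_4 (iv5 D189341) F152161 D191707 D219550 (iv6 D223254) (iv5 D202583) (iv1 F180775) D140054 F384452 (iv1 F384451)
def n223255 : Q := act 6 n202589
theorem D223255 : act 6 n202589 = n223255 := rfl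
theorem F518455 : act 2 n223255 = n208413 := d3_1 D223255 (iv6 F470952) (iv2 F470953)
theorem F518456 : act 3 n223255 = n202591 := d7_1 D223255 (iv6 D202591) D202589
theorem F518457 : act 4 n223255 = n211476 := d10_1 D223255 (iv6 D211476) (iv4 F424644)
theorem F518458 : act 5 n223255 = n216563 := d12_1 D223255 (iv6 F513873) (iv5 D222375) (iv6 F513053) F513052
theorem F518459 : act 7 n223255 = n208412 := d14_2 (iv7 F424645) D223255 F449243 (iv7 F368191) F368196
theorem F518460 : act 0 n223255 = n208409 := d21_4 D222371 F513849 F513052 D223255 (iv6 D208409) (iv5 D134275) (iv1 F216020) (iv5 F448635) (iv6 F461014) F461015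
theorem F518461 : act 1 n223255 = n208414 := d15_1 (iv0 F518460) (iv7 D208414) (iv2 F449226)
def n223256 : Q := act 1 n202593
theorem D223256 : act 1 n202593 = n223256 := rfl
theorem F518462 : act 1 n223256 = n218352 := d15_1 D223256 (iv7 F518453) F518449
theorem F518463 : act 6 n217125 = n223256 := d21_3 F371021 F368131 D217125 (iv1 D223256) (iv6 D202593) (iv5 D116042) D116040 D202588 F424640 (iv1 F375757)
theorem F518464 : act 2 n223256 = n219550 := d3_1 F518463 (iv6 D219550) (iv2 F487550)
theorem F518465 : act 3 n223256 = n217128 := d7_1 F518463 (iv6 D217128) (iv3 F487551)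
theorem F518466 : act 4 n223256 = n204641 := d10_1 F518463 F433111 (iv4 F487552)
def n223257 : Q := act 7 n202593
theorem D223257 : act 7 n202593 = n223257 := rfl
theorem F518467 : act 2 n223257 = n218352 := d4_1 D223257 (iv7 F518453) F518449
theorem F518468 : act 3 n223257 = n203126 := d8_1 D223257 (iv7 D203126) (iv3 F424661)
theorem F518469 : act 4 n223257 = n219563 := d11_1 D223257 F499522 F499519
theorem F518470 : act 5 n223257 = n211623 := d13_1 D223257 (iv7 D211623) (iv5 F424662)
theorem F518471 : act 6 n223257 = n210878 := d14_1 D223257 (iv7 D210878) (iv6 D140059) (iv7 F180795) D202593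
theorem F518472 : act 1 n219550 = n223257 := d15_1 (iv0 F518454) (iv7 D223257) (iv2 F518449)
def n223258 : Q := act 0 n202600
theorem D223258 : act 0 n202600 = n223258 := rfl
theorem F518473 : act 5 n223258 = n209474 := d17_1 D223258 (iv1 F504284) F504286 (iv4 D204786) (iv5 D124362) (iv0 F351761) D98878 (iv0 F349510) (iv4 F424691)
theorem F518474 : act 4 n223258 = n211620 := d18_1 D223258 (iv1 F462414) (iv4 F455061) (iv5 D203400) F186939 F314634 (iv4 F100434) (iv0 F320750) D202600
theorem F518475 : act 3 n223258 = n205940 := d20_5 (iv4 F385715) (iv1 F385718) (iv4 F389806) (iv3 F424689) D223258 (iv4 F438501) (iv1 F452943) F452940 F389839 (iv1 D193442)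
theorem F518476 : act 6 n223258 = n217288 := d21_5 (iv5 F221082) F355781 D138007 (iv6 F424690) D223258 F488293 (iv1 F450190) F450187 F385857 (iv1 F221285)
theorem F518477 : act 2 n211688 = n223258 := d15_3 (iv0 D223258) (iv0 F455052) (iv7 F462698)
theorem F518478 : act 1 n203408 = n223258 := d15_0 (iv0 D223258) (iv7 F458252) F458249
theorem F518479 : act 7 n223258 = n210116 := d15_2 F455053 F518478 F456231
def n223259 : Q := act 6 n202604
theorem D223259 : act 6 n202604 = n223259 := rfl
theorem F518480 : act 2 n223259 = n211353 := d3_1 D223259 (iv6 D211353) (iv2 F424713)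
theorem F518481 : act 3 n223259 = n202605 := d7_1 D223259 (iv6 D202605) D202604
theorem F518482 : act 4 n223259 = n221116 := d10_1 D223259 F507302 F506967
theorem F518483 : act 7 n223259 = n211372 := d14_2 (iv7 F424710) D223259 (iv6 F461323) F401460 (iv6 F396684)
theorem F518484 : act 0 n223259 = n211374 := d21_4 D140545 F439728 F439726 D223259 (iv6 F464617) (iv5 F479491) F502853 F502852 (iv6 D211021) (iv1 D140542)
theorem F518485 : act 1 n223259 = n211357 := d15_1 (iv0 F518484) F461264 D211374
def n223260 : Q := act 5 n202605
theorem D223260 : act 5 n202605 = n223260 := rfl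
theorem F518486 : act 2 n223260 = n211345 := d2_1 D223260 (iv5 D211345) (iv2 F424714)
theorem F518487 : act 6 n223260 = n222775 := d12_2 D202605 D223260 (iv5 D222775) F419097 (iv5 F331553)
theorem F518488 : act 7 n223260 = n211410 := d13_2 (iv7 F424715) D223260 (iv5 D211410)
theorem F518489 : act 0 n223260 = n211330 := d17_2 (iv1 F424717) D223260 F461153 (iv4 F397750) F397751 (iv0 F259115) F355727 D206391 (iv4 F440567)
theorem F518490 : act 1 n223260 = n211418 := d17_6 F378397 F311739 F259133 (iv5 F453164) F453163 D223260 F477997 F477995 (iv4 D193711)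
def n223261 : Q := act 0 n202607
theorem D223261 : act 0 n202607 = n223261 := rfl
theorem F518491 : act 5 n223261 = n214851 := d17_1 D223261 (iv1 F477146) (iv5 F464809) (iv4 D212221) (iv5 D145646) (iv0 D68273) D68275 D145653 (iv4 F424724)
theorem F518492 : act 4 n223261 = n220867 := d18_1 D223261 F505979 F436483 (iv5 D140335) (iv4 F351688) (iv0 F415369) (iv4 F464585) (iv0 F464587) F424725
theorem F518493 : act 3 n223261 = n208643 := d20_5 (iv4 F345692) F345689 (iv4 F338949) (iv3 F424723) D223261 F450300 (iv1 F416342) D211696 F462735 (iv1 F345687)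
theorem F518494 : act 6 n223261 = n220866 := d21_5 (iv5 F490747) (iv1 F490750) F424113 D202607 D223261 F505972 (iv1 D194853) D194855 (iv6 F394762) (iv1 F424083)
theorem F518495 : act 2 n221121 = n223261 := d15_3 (iv0 D223261) (iv0 F510600) F510598
theorem F518496 : act 1 n212223 = n223261 := d15_0 (iv0 D223261) (iv7 F434377) (iv2 F464818)
theorem F518497 : act 7 n223261 = n211348 := d15_2 F510601 F518496 (iv2 F510596)
def n223262 : Q := act 1 n202614
theorem D223262 : act 1 n202614 = n223262 := rfl
theorem F518498 : act 1 n223262 = n203654 := d15_1 D223262 F429255 (iv2 F424753)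
theorem F518499 : act 7 n223262 = n213875 := d15_2 (iv0 F509207) D223262 (iv2 F509204)
theorem F518500 : act 2 n223156 = n223262 := d4_3 F518499 (iv2 F509204) (iv7 F517916)
theorem F518501 : act 3 n203593 = n223262 := d8_3 F518499 F472530 (iv7 F429045)
def n223263 : Q := act 5 n202614
theorem D223263 : act 5 n202614 = n223263 := rfl
theorem F518502 : act 2 n223263 = n216661 := d2_1 D223263 F485362 (iv2 F424753)
theorem F518503 : act 3 n223263 = n223164 := d6_1 D223263 (iv5 D223164) (iv3 F424754)
theorem F518504 : act 4 n223263 = n204613 := d9_1 D223263 F433028 F405395 F342490 (iv4 F373414) (iv5 F407644) (iv4 F429254) (iv5 F429256) F287495 D185133 F362811 F351197 F331073 D116104 D202614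
theorem F518505 : act 7 n223263 = n216646 := d13_2 F491931 D223263 (iv5 F491930)
theorem F518506 : act 1 n223263 = n216660 := d17_6 (iv1 F393343) (iv5 F351293) (iv1 D116103) D116104 D202614 D223263 (iv5 F485358) (iv0 F472123) F472121
theorem F518507 : act 0 n223263 = n204619 := d18_0 F433038 F481472 F481469 (iv5 D213968) (iv4 F440357) F440359 (iv4 F509206) (iv0 F509207) D223263
def n223264 : Q := act 5 n202629
theorem D223264 : act 5 n202629 = n223264 := rfl
theorem F518508 : act 2 n223264 = n202630 := d2_1 D223264 (iv5 D202630) D202629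
theorem F518509 : act 3 n223264 = n221608 := d6_1 D223264 F509845 F508812
theorem F518510 : act 4 n223264 = n203001 := d9_1 D223264 (iv5 D203001) F353588 F348465 D198905 F409826 (iv4 F400258) D221396 F508805 (iv5 D202999) (iv4 F355560) (iv5 F330805) D198904 (iv5 F428757) F428756
theorem F518511 : act 6 n223264 = n213284 := d12_2 (iv6 F424831) D223264 F469719 (iv6 D198023) D198022
theorem F518512 : act 7 n223264 = n213729 := d13_2 (iv7 F424832) D223264 (iv5 D213729)
theorem F518513 : act 0 n223264 = n214854 := d17_2 (iv1 F424833) D223264 (iv5 D214854) F257476 F119628 D78712 (iv5 F350830) F350828 D200476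
theorem F518514 : act 1 n223264 = n222562 := d17_6 F510279 F510278 F415301 (iv5 F428757) F428756 D223264 (iv5 D222562) F449029 (iv4 F455461)
def n223265 : Q := act 1 n202630
theorem D223265 : act 1 n202630 = n223265 := rfl
theorem F518515 : act 1 n223265 = n213729 := d15_1 D223265 (iv7 F518512) F518508
theorem F518516 : act 7 n223265 = n214854 := d15_2 F513133 D223265 (iv2 F513129)
theorem F518517 : act 5 n223265 = n208346 := d17_7 F482282 F482278 (iv1 F477303) (iv5 F362472) (iv4 F344431) D202630 D223265 F449011 (iv4 F444922)
theorem F518518 : act 4 n223265 = n220625 := d17_9 F504690 (iv5 D212489) F426651 F426648 (iv4 F449900) (iv5 D208562) (iv0 F360185) D202630 D223265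
theorem F518519 : act 3 n205101 = n223265 := d19_19 (iv1 D223265) (iv5 D202630) F344431 F344430 F180908 (iv5 F330499) F168975 (iv3 F168535) (iv1 F168540) (iv5 F354403) D197912 (iv3 F406192) (iv1 F412195) (iv5 D199437) (iv4 F408502) (iv3 D198606) (iv1 F174514) D200000 (iv4 F434976)
theorem F518520 : act 6 n205100 = n223265 := d21_3 F459429 (iv1 F506390) F506386 (iv1 D223265) (iv6 F433703) (iv5 D204819) (iv1 F364762) D211106 F460124 F453992
theorem F518521 : act 2 n223265 = n222562 := d3_1 F518520 F514933 F513080
def n223266 : Q := act 6 n202654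
theorem D223266 : act 6 n202654 = n223266 := rfl
theorem F518522 : act 2 n223266 = n216484 := d3_1 D223266 F484616 (iv2 F454374)
theorem F518523 : act 3 n223266 = n202655 := d7_1 D223266 (iv6 D202655) D202654
theorem F518524 : act 4 n223266 = n219470 := d10_1 D223266 F499039 F441960
theorem F518525 : act 5 n223266 = n203023 := d12_1 D223266 (iv6 D203023) F406088 F406086 (iv5 F424952)
theorem F518526 : act 7 n223266 = n216477 := d14_2 (iv7 F424953) D223266 (iv6 D216477) F285833 D183978
theorem F518527 : act 0 n223266 = n204147 := d21_4 D136566 F358543 (iv5 F424952) D223266 F431195 (iv5 D123382) (iv1 F305159) F236296 F366378 (iv1 D136565)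
theorem F518528 : act 0 n203581 = n223266 := d21_4 (iv5 F485697) (iv1 F485699) (iv5 F516138) F516136 (iv6 D223266) F424952 D210997 F459685 F452563 (iv1 F446925)
def n223267 : Q := act 0 n202656
theorem D223267 : act 0 n202656 = n223267 := rfl
theorem F518529 : act 5 n223267 = n208560 := d17_1 D223267 F449895 F404736 F404734 (iv5 D138327) F172358 (iv5 F411407) F411409 D202656
theorem F518530 : act 4 n223267 = n222348 := d18_1 D223267 F513735 (iv4 F490586) F490589 F433483 F224886 F343805 F343809 (iv5 F424961)
theorem F518531 : act 3 n223267 = n206364 := d20_5 F474182 F396047 (iv4 F419103) (iv3 F424958) D223267 F440429 D213708 (iv4 F506591) (iv3 D220975) F474184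
theorem F518532 : act 6 n223267 = n205496 := d21_5 F304542 F304309 (iv5 F405143) (iv6 F424959) D223267 F436710 (iv1 F400711) (iv5 D179798) (iv6 D85874) D85870
theorem F518533 : act 2 n211390 = n223267 := d15_3 (iv0 D223267) (iv0 F448805) (iv7 F461380)
theorem F518534 : act 1 n202658 = n223267 := d15_0 (iv0 D223267) F424960 (iv2 F424963)
theorem F518535 : act 7 n223267 = n211343 := d15_2 F448806 F518534 F461210
def n223268 : Q := act 2 n202662
theorem D223268 : act 2 n202662 = n223268 := rfl
theorem F518536 : act 3 n223268 = n209687 := d0_2 D202662 D223268 (iv2 F493463) F493464 F404924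
theorem F518537 : act 4 n223268 = n206306 := d1_2 F484789 D223268 (iv2 F484787)
theorem F518538 : act 5 n223268 = n222597 := d2_2 (iv5 F476251) D223268 F515102
theorem F518539 : act 6 n223268 = n216573 := d3_2 F484786 D223268 F485015
theorem F518540 : act 7 n223268 = n221926 := d4_2 (iv7 F424981) D223268 F511432
theorem F518541 : act 1 n223268 = n221927 := d15_0 (iv0 D221927) (iv7 F424981) D223268
theorem F518542 : act 1 n213270 = n223268 := d15_0 F518541 (iv7 F511740) (iv2 F511742)
def n223269 : Q := act 0 n202665
theorem D223269 : act 0 n202665 = n223269 := rfl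
theorem F518543 : act 5 n223269 = n210347 := d17_3 F424340 D202665 D223269 F457134 (iv5 F439587) (iv0 F439590) (iv5 F479610) (iv0 F479612) F448490
theorem F518544 : act 4 n223269 = n216174 := d18_1 D223269 F484688 (iv4 F503847) F503846 (iv4 F469646) (iv0 F495574) F495571 (iv0 D202663) D202665
theorem F518545 : act 3 n223269 = n222335 := d20_5 D138329 (iv1 F425003) (iv4 D202668) (iv3 F424991) D223269 F513656 F462044 (iv4 F424967) F424962 F181224
theorem F518546 : act 2 n218325 = n223269 := d15_3 (iv0 D223269) (iv0 F491819) (iv7 F493329)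
theorem F518547 : act 1 n212448 = n223269 := d15_0 (iv0 D223269) (iv7 F491208) F491204
theorem F518548 : act 7 n223269 = n220072 := d15_2 F491820 F518547 F501973
def n223270 : Q := act 3 n202667
theorem D223270 : act 3 n202667 = n223270 := rfl
theorem F518549 : act 5 n223270 = n208259 := d6_2 (iv5 F424997) D223270 F448620
theorem F518550 : act 6 n223270 = n222371 := d7_2 F424998 D223270 F513847
theorem F518551 : act 0 n223270 = n213025 := d20_4 (iv4 F419101) F461213 F461211 D223270 F468647 F462284 (iv1 D192608) (iv4 F360919) F366563 (iv1 F410410)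
theorem F518552 : act 0 n222277 = n223270 := d20_4 (iv4 D222334) (iv1 D199233) D199234 (iv3 F513311) (iv3 D223270) (iv4 F461211) F461212 (iv4 F363284) (iv3 F429801) F513653
def n223271 : Q := act 0 n202684
theorem D223271 : act 0 n202684 = n223271 := rfl
theorem F518553 : act 5 n223271 = n210356 := d17_1 D223271 (iv1 F457182) D210360 F457198 F427144 F427143 F391993 (iv0 F387106) (iv4 F425088)
theorem F518554 : act 4 n223271 = n212632 := d18_1 D223271 F466793 (iv4 F467743) F467742 (iv4 F348329) F226061 (iv4 F226073) F348334 D202684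
theorem F518555 : act 3 n223271 = n213003 := d20_5 (iv4 D221595) F505905 F505900 F503160 D223271 F468547 F371853 (iv4 F403476) (iv3 F510441) (iv1 F510445)
theorem F518556 : act 6 n223271 = n216562 := d21_5 F459121 (iv1 F387162) (iv5 F384340) F425090 D223271 (iv5 F501513) (iv1 D219984) (iv5 D192573) (iv6 F387095) (iv1 F459123)
theorem F518557 : act 2 n211297 = n223271 := d15_3 (iv0 D223271) F425089 D211297
theorem F518558 : act 1 n202687 = n223271 := d15_0 (iv0 D223271) (iv7 F462296) F462294
theorem F518559 : act 7 n223271 = n211283 := d15_2 (iv0 F425098) F518558 F460947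
def n223272 : Q := act 5 n202686
theorem D223272 : act 5 n202686 = n223272 := rfl
theorem F518560 : act 2 n223272 = n222277 := d2_1 D223272 (iv5 D222277) (iv2 F425097)
theorem F518561 : act 3 n223272 = n202687 := d6_1 D223272 (iv5 D202687) D202686
theorem F518562 : act 7 n223272 = n213025 := d13_2 (iv7 F425094) D223272 F468648
def n223273 : Q := act 6 n202687
theorem D223273 : act 6 n202687 = n223273 := rfl
theorem F518563 : act 4 n223273 = n211198 := d10_1 D223273 (iv6 F501485) F501483
theorem F518564 : act 7 n223273 = n219986 := d14_2 F462283 D223273 (iv6 D219986) (iv7 F431632) (iv6 F462287)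
theorem F518565 : act 0 n211206 = n223273 := d21_4 (iv5 F424659) (iv1 F460603) (iv5 D211205) D211206 (iv6 D223273) (iv5 D202687) (iv1 F348332) D211584 F462256 (iv1 F424479)
def n223274 : Q := act 0 n202720
theorem D223274 : act 0 n202720 = n223274 := rfl
theorem F518566 : act 4 n223274 = n220799 := d20_2 F512493 D223274 (iv3 F505605) (iv1 D220070) (iv3 F453193) F453194 (iv1 F445470) (iv4 D198476) D198475 F512494
theorem F518567 : act 1 n209865 = n223274 := d15_0 (iv0 D223274) (iv7 F511951) F511949
theorem F518568 : act 7 n223274 = n223109 := d15_2 (iv0 F517674) F518567 F517688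
def n223275 : Q := act 5 n202723
theorem D223275 : act 5 n202723 = n223275 := rfl
theorem F518569 : act 2 n223275 = n215926 := d2_1 D223275 (iv5 D215926) (iv2 F425288)
theorem F518570 : act 3 n223275 = n202724 := d6_1 D223275 (iv5 D202724) D202723
theorem F518571 : act 4 n223275 = n222245 := d9_1 D223275 (iv5 D222245) (iv4 D198838) (iv5 D110355) (iv4 F81972) (iv5 F169518) (iv4 F392000) D220625 (iv4 F518518) F518517 F449007 F257479 F324569 (iv5 F348476) (iv4 F425289)
theorem F518572 : act 6 n223275 = n220340 := d12_2 (iv6 F425290) D223275 (iv5 F503280) (iv6 D213994) (iv5 F361427)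
theorem F518573 : act 0 n223275 = n212488 := d17_2 (iv1 F456559) D223275 (iv5 D212488) (iv4 D147363) D147364 F354861 (iv5 D147139) D147137 (iv4 F456556)
theorem F518574 : act 1 n223275 = n212489 := d17_6 D199965 F414372 (iv1 F175029) (iv5 F348476) (iv4 F425289) D223275 (iv5 D212489) (iv0 F391514) F391515
def n223276 : Q := act 5 n202726
theorem D223276 : act 5 n202726 = n223276 := rfl
theorem F518575 : act 2 n223276 = n211427 := d2_1 D223276 F461492 F459163
theorem F518576 : act 3 n223276 = n202728 := d6_1 D223276 (iv5 D202728) (iv3 F425298)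
theorem F518577 : act 6 n223276 = n210345 := d12_2 D202726 D223276 (iv5 D210345) (iv6 F425297) (iv5 D202725)
theorem F518578 : act 7 n223276 = n220308 := d13_2 F461607 D223276 F503120
theorem F518579 : act 4 n223276 = n211335 := d16_2 (iv4 F425299) D223276 F461173 (iv4 F422603) (iv5 F481830) F481829 (iv5 D202253) (iv7 F423209) F423207
theorem F518580 : act 1 n223276 = n219181 := d17_6 F428966 D210120 F456250 F391310 (iv4 F425299) D223276 (iv5 F502158) (iv0 F511895) F511892
theorem F518581 : act 0 n223276 = n221412 := d18_0 F508892 F477557 F477554 (iv5 F381929) D211402 F502912 F502910 (iv0 F500875) D223276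
def n223277 : Q := act 5 n202727
theorem D223277 : act 5 n202727 = n223277 := rfl
theorem F518582 : act 2 n223277 = n220310 := d2_1 D223277 F503130 F453807
theorem F518583 : act 3 n223277 = n210345 := d6_1 D223277 (iv5 D210345) (iv3 F425300)
theorem F518584 : act 4 n223277 = n219143 := d9_1 D223277 F497401 F462929 (iv5 F480799) F480798 F369434 (iv4 F393075) D220733 F505218 F497409 F425654 D211904 (iv4 F470738) F470739 (iv4 F425301)
theorem F518585 : act 6 n223277 = n202728 := d12_2 D202727 D223277 (iv5 D202728) (iv6 D116625) D116624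
theorem F518586 : act 7 n223277 = n211334 := d13_2 (iv7 F425302) D223277 F461170
theorem F518587 : act 0 n223277 = n220727 := d17_2 F425303 D223277 (iv5 F511436) F511437 F448608 F432389 (iv5 D204397) F359723 D188426
theorem F518588 : act 1 n223277 = n219146 := d17_8 D219262 F505206 (iv1 D220731) F488619 F488622 (iv5 D204399) (iv0 F425304) D223277 F497421
def n223278 : Q := act 5 n202731
theorem D223278 : act 5 n202731 = n223278 := rfl
theorem F518589 : act 3 n223278 = n202732 := d6_1 D223278 (iv5 D202732) D202731
theorem F518590 : act 4 n223278 = n220489 := d17_4 F517852 F504257 (iv1 F504256) D223278 F504021 (iv0 F462037) (iv5 F498511) F498514 (iv4 F517850)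
theorem F518591 : act 1 n223278 = n212735 := d17_8 F503719 F503717 (iv1 F513290) F513287 F467275 F500440 (iv0 F500438) D223278 (iv4 F471270)
theorem F518592 : act 0 n223278 = n213166 := d21_1 D223278 (iv5 F482126) (iv6 D215927) (iv1 F278647) D178779 F351459 (iv1 F326823) (iv5 F423282) (iv6 F504253) (iv1 F504256)
theorem F518593 : act 6 n220421 = n223278 := d21_5 (iv5 D137641) (iv1 F111101) (iv5 F328984) D193641 D220421 (iv5 D223278) F500438 (iv5 F500440) (iv6 D202277) (iv1 F220800)
def n223279 : Q := act 6 n202734
theorem D223279 : act 6 n202734 = n223279 := rfl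
theorem F518594 : act 4 n223279 = n209795 := d10_1 D223279 (iv6 D209795) (iv4 F425326)
theorem F518595 : act 5 n223279 = n221188 := d12_1 D223279 (iv6 D221188) (iv5 D195598) (iv6 F397527) (iv5 F425325)
def n223280 : Q := act 6 n202735
theorem D223280 : act 6 n202735 = n223280 := rfl
theorem F518596 : act 2 n223280 = n204188 := d3_1 D223280 F431414 F425330
theorem F518597 : act 3 n223280 = n212462 := d7_1 D223280 (iv6 D212462) (iv3 F425328)
theorem F518598 : act 4 n223280 = n212297 := d10_1 D223280 (iv6 D212297) (iv4 F425327)
theorem F518599 : act 5 n223280 = n203813 := d12_1 D223280 (iv6 F429933) F348593 F409914 (iv5 F425329)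
theorem F518600 : act 7 n223280 = n204185 := d14_2 (iv7 F425332) D223280 F431395 F337847 (iv6 F346137)
theorem F518601 : act 0 n223280 = n203953 := d21_4 D148241 (iv1 F409911) (iv5 F425329) D223280 (iv6 D203953) (iv5 D121723) (iv1 F336469) F336470 (iv6 D152507) (iv1 F321010)
theorem F518602 : act 0 n208906 = n223280 := d21_4 F352134 (iv1 F182175) F225356 (iv6 F451349) (iv6 D223280) F425329 (iv1 D198923) F322481 F318695 (iv1 F352132)
def n223281 : Q := act 1 n202752
theorem D223281 : act 1 n202752 = n223281 := rfl
theorem F518603 : act 1 n223281 = n210903 := d15_1 D223281 (iv7 F508976) F508972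
theorem F518604 : act 7 n223281 = n211692 := d15_2 F501239 D223281 (iv2 F501235)
theorem F518605 : act 5 n223281 = n211691 := d17_7 D143927 (iv5 F404748) F404749 F224911 (iv4 F459205) F459206 D223281 (iv0 D211691) (iv4 D143929)
theorem F518606 : act 4 n223281 = n210895 := d17_9 (iv1 D210895) (iv5 D140336) (iv1 F101522) D108499 D197605 F404997 D210899 F459206 D223281
theorem F518607 : act 3 n221111 = n223281 := d19_19 (iv1 D223281) (iv5 F459206) F459205 D211349 F461232 F457489 F400192 (iv3 F455539) F518215 F518210 F503339 (iv3 F478732) F478735 (iv5 D204950) (iv4 F397216) F397218 (iv1 D195396) D195397 D221111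
theorem F518608 : act 2 n223281 = n211691 := d0_1 F518607 F501220 F518092 F518090 (iv2 F507270)
def n223282 : Q := act 1 n202757
theorem D223282 : act 1 n202757 = n223282 := rfl
theorem F518609 : act 1 n223282 = n215892 := d15_1 D223282 F481958 (iv2 F425446)
theorem F518610 : act 7 n223282 = n218266 := d15_2 (iv0 F509998) D223282 F510000
theorem F518611 : act 4 n223282 = n222313 := d18_7 F404885 (iv4 F404881) F358881 F358892 (iv5 F358911) (iv4 F425448) D223282 (iv0 F513527) F423981
theorem F518612 : act 5 n223282 = n214472 := d18_9 F475336 F374393 D188674 (iv4 F375131) (iv5 F428096) F459813 (iv0 D211032) (iv4 F425448) D223282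
theorem F518613 : act 3 n212202 = n223282 := d20_3 (iv4 F505853) F505851 (iv4 F464730) (iv1 D223282) F425447 F182483 D116860 (iv4 F402274) F410814 (iv1 F410818)
theorem F518614 : act 6 n222312 = n223282 := d21_3 (iv5 F411122) F466115 (iv5 F513519) (iv1 D223282) (iv6 D202757) (iv5 F411111) (iv1 D199193) (iv5 D111061) D111062 D199195
theorem F518615 : act 2 n223282 = n218268 := d3_1 F518614 (iv6 F509831) (iv2 F513517)
def n223283 : Q := act 5 n202757
theorem D223283 : act 5 n202757 = n223283 := rfl
theorem F518616 : act 2 n223283 = n221552 := d2_1 D223283 (iv5 D221552) (iv2 F425446)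
theorem F518617 : act 3 n223283 = n202759 := d6_1 D223283 (iv5 D202759) (iv3 F425447)
theorem F518618 : act 4 n223283 = n215624 := d9_1 D223283 (iv5 D215624) F275659 (iv5 F358884) F350678 D178150 D215892 F493121 F493120 F482054 F440151 (iv5 F440152) F358892 (iv5 F358911) (iv4 F425448)
theorem F518619 : act 6 n223283 = n222465 := d12_2 D202757 D223283 F514353 F476883 F411111
theorem F518620 : act 0 n223283 = n222487 := d17_2 (iv1 D223282) D223283 F514482 F493238 F492894 F481924 (iv5 F423975) (iv0 F513526) (iv4 F518611)
theorem F518621 : act 1 n223283 = n221896 := d17_6 (iv1 D178155) (iv5 D84801) D84798 (iv5 F358911) (iv4 F425448) D223283 (iv5 D221896) F419967 F419966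
def n223284 : Q := act 0 n202758
theorem D223284 : act 0 n202758 = n223284 := rfl
theorem F518622 : act 5 n223284 = n204494 := d17_1 D223284 (iv1 D204494) (iv5 F393760) (iv4 D194584) (iv5 F379183) F488537 F488535 (iv0 D211708) (iv4 F425450)
theorem F518623 : act 4 n223284 = n220820 := d18_3 F425675 (iv4 F425450) D223284 F505707 F488595 F369844 F393751 (iv0 F393749) F425676
theorem F518624 : act 3 n223284 = n218266 := d20_5 F401005 (iv1 F366953) (iv4 F476882) F476881 D223284 F493039 (iv1 F423983) (iv4 F464423) F464422 (iv1 F401004)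
theorem F518625 : act 6 n223284 = n220763 := d21_5 D111082 F172279 D116857 D202758 D223284 (iv5 F506440) F506439 F441619 (iv6 D196664) (iv1 F172273)
theorem F518626 : act 2 n212201 = n223284 := d15_3 (iv0 D223284) F471731 F471737
theorem F518627 : act 1 n212204 = n223284 := d15_0 (iv0 D223284) (iv7 F476878) F476873
theorem F518628 : act 7 n223284 = n212202 := d15_2 (iv0 F471730) F518627 (iv2 F471727)
def n223285 : Q := act 5 n202758
theorem D223285 : act 5 n202758 = n223285 := rfl
theorem F518629 : act 2 n223285 = n212203 := d2_1 D223285 (iv5 D212203) (iv2 F425449)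
theorem F518630 : act 3 n223285 = n222465 := d6_1 D223285 F514353 F476881
theorem F518631 : act 4 n223285 = n221973 := d9_1 D223285 F511703 F495962 (iv5 F488680) (iv4 D217386) D217387 F488676 F464735 (iv4 F511710) F511711 F495960 (iv5 F488684) (iv4 D217388) (iv5 F369650) (iv4 F425450)
theorem F518632 : act 6 n223285 = n202759 := d12_2 D202758 D223285 (iv5 D202759) (iv6 D116858) D116857
theorem F518633 : act 7 n223285 = n220838 := d13_2 F476878 D223285 F505815
theorem F518634 : act 0 n223285 = n220765 := d17_2 (iv1 F471731) D223285 (iv5 D220765) F393377 (iv5 F160417) D194910 (iv5 F402452) (iv0 F488929) F488928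
theorem F518635 : act 1 n223285 = n220839 := d17_6 (iv1 F393321) (iv5 F369897) (iv1 F369900) (iv5 F369650) (iv4 F425450) D223285 F505823 (iv0 F505377) (iv4 D220761)
def n223286 : Q := act 5 n202780
theorem D223286 : act 5 n202780 = n223286 := rfl
theorem F518636 : act 2 n223286 = n202783 := d2_1 D223286 (iv5 D202783) (iv2 F425557)
theorem F518637 : act 3 n223286 = n211769 := d6_1 D223286 (iv5 D211769) (iv3 F425558)
theorem F518638 : act 6 n223286 = n222241 := d12_2 D202780 D223286 (iv5 D222241) (iv6 F419743) F419742
theorem F518639 : act 1 n223286 = n211744 := d17_6 F461224 (iv5 F508981) (iv1 F508983) (iv5 F463470) (iv4 F425559) D223286 F462919 (iv0 F462754) (iv4 F431961)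
def n223287 : Q := act 3 n202781
theorem D223287 : act 3 n202781 = n223287 := rfl
theorem F518640 : act 2 n223287 = n223218 := d0_1 D223287 F518260 (iv2 F497490) F497491 F447725
theorem F518641 : act 6 n223287 = n207156 := d7_2 (iv6 F425560) D223287 (iv3 D207156)
theorem F518642 : act 7 n223287 = n223219 := d8_2 F447831 D223287 F518267
theorem F518643 : act 4 n223287 = n214100 := d20_6 F112217 (iv1 F53926) (iv4 F85016) (iv3 F182844) D202781 D223287 F473468 F246044 (iv3 D133384) (iv1 F112219)
theorem F518644 : act 0 n202858 = n223287 := d18_2 F457316 (iv4 F425902) F518643 (iv5 F501391) F501390 (iv0 F388611) (iv4 F488003) F488416 F488414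
def n223288 : Q := act 4 n202781
theorem D223288 : act 4 n202781 = n223288 := rfl
theorem F518645 : act 2 n223288 = n210981 := d1_1 D223288 F459617 F447725
theorem F518646 : act 3 n223288 = n221961 := d5_1 D223288 F511623 F493343 (iv4 F518643) (iv3 D223287)
theorem F518647 : act 6 n223288 = n207157 := d10_2 (iv6 F425560) D223288 (iv4 D207157)
theorem F518648 : act 7 n223288 = n211123 := d11_2 F447831 D223288 (iv4 F460196)
theorem F518649 : act 5 n223288 = n215888 := d16_1 D223288 (iv4 D215888) F473642 (iv4 F473641) (iv5 F496163) F496162 F495913 F447727 F447725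
theorem F518650 : act 1 n223288 = n211121 := d18_8 (iv1 D211902) F227057 F402152 (iv4 F458013) (iv5 F511350) F511349 F447836 D223288 F463497
theorem F518651 : act 0 n223288 = n210384 := d20_1 D223288 F457317 (iv3 F443602) (iv1 F341116) F247451 F112217 (iv1 F53926) (iv4 F85016) (iv3 F182844) D202781
def n223289 : Q := act 5 n202781
theorem D223289 : act 5 n202781 = n223289 := rfl
theorem F518652 : act 2 n223289 = n219115 := d2_1 D223289 F497254 F447725
theorem F518653 : act 4 n223289 = n220723 := d9_1 D223289 F505167 F392894 F345336 D215890 F481952 (iv4 F447729) (iv5 F495913) (iv4 F496162) F496163 F473641 (iv5 F473642) D215888 (iv5 F518649) (iv4 D223288)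
theorem F518654 : act 6 n223289 = n222614 := d12_2 (iv6 F425560) D223289 (iv5 D222614) (iv6 D200375) (iv5 F405865)
theorem F518655 : act 7 n223289 = n219116 := d13_2 F447831 D223289 F497260
theorem F518656 : act 1 n223289 = n218126 := d17_6 F471769 (iv5 F509959) (iv1 F509961) (iv5 F518649) (iv4 D223288) D223289 F492252 D220821 F505711
theorem F518657 : act 0 n223289 = n219117 := d18_0 F497266 F462846 (iv4 F489080) F489081 F431954 F511354 F511349 F447836 D223289
def n223290 : Q := act 0 n202783
theorem D223290 : act 0 n202783 = n223290 := rfl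
theorem F518658 : act 5 n223290 = n212160 := d17_1 D223290 F493020 F493018 (iv4 F497249) F497251 F462851 D211727 (iv0 F515017) F515016
theorem F518659 : act 4 n223290 = n211850 := d18_1 D223290 F496128 (iv4 F503892) (iv5 D220463) (iv4 F457317) (iv0 F518651) (iv4 D223288) (iv0 D202781) D202783
theorem F518660 : act 6 n223290 = n211793 := d21_5 F394344 F379952 D208186 F448284 D223290 F463087 F477802 (iv5 F515095) (iv6 F515101) (iv1 F448295)
theorem F518661 : act 3 n215337 = n223290 := d7_3 F518660 (iv3 F463089) D215337
theorem F518662 : act 7 n211744 = n223290 := d14_0 F518660 F463086 (iv6 F425664) F425665 D211744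
def n223291 : Q := act 1 n202783
theorem D223291 : act 1 n202783 = n223291 := rfl
theorem F518663 : act 5 n223291 = n211706 := d17_7 (iv1 F464643) F464640 (iv1 F463475) F363321 (iv4 F182845) D202783 D223291 (iv0 F493019) F493017
theorem F518664 : act 4 n223291 = n222117 := d18_7 F493535 F473641 (iv1 D214134) (iv4 F415619) D222582 F515016 D223291 F512437 F496127
theorem F518665 : act 6 n202805 = n223291 := d21_3 (iv5 D116986) D116984 D202805 (iv1 D223291) (iv6 F448284) (iv5 D208186) (iv1 D133654) D133655 F215066 (iv1 F182884)
theorem F518666 : act 2 n223291 = n211744 := d3_1 F518665 (iv6 D211744) (iv2 F425657)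
def n223292 : Q := act 1 n202784
theorem D223292 : act 1 n202784 = n223292 := rfl
theorem F518667 : act 1 n223292 = n211791 := d15_1 D223292 (iv7 D211791) (iv2 F425562)
theorem F518668 : act 7 n223292 = n211788 := d15_2 (iv0 F477275) D223292 (iv2 F477271)
theorem F518669 : act 4 n223292 = n211817 := d18_7 D211873 (iv4 F506394) (iv1 F506397) F486531 (iv5 F497289) F497288 D223292 (iv0 F463183) F381950
theorem F518670 : act 3 n218805 = n223292 := d20_3 F382561 F394949 (iv4 F495723) (iv1 D223292) (iv3 F448283) (iv4 F476469) F476470 D214863 F477186 F430179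
theorem F518671 : act 5 n206411 = n223292 := d21_6 (iv5 D30415) F24101 D28720 D60475 D128580 D206411 (iv1 D223292) (iv5 D202784) (iv6 D116973) F85014
theorem F518672 : act 2 n223292 = n211789 := d2_1 F518671 (iv5 F463077) (iv2 F440659)
theorem F518673 : act 6 n218766 = n223292 := d21_5 F462956 (iv1 F395254) (iv5 F488590) (iv6 F488593) (iv1 F495554) (iv5 F518671) F486390 F462904 F462903 D211752
def n223293 : Q := act 6 n202787
theorem D223293 : act 6 n202787 = n223293 := rfl
theorem F518674 : act 2 n223293 = n211727 := d3_1 D223293 F462877 F425583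
theorem F518675 : act 3 n223293 = n217366 := d7_1 D223293 F488596 F425584
theorem F518676 : act 4 n223293 = n219219 := d10_1 D223293 F497780 (iv4 F425582)
theorem F518677 : act 5 n223293 = n211718 := d12_1 D223293 F462833 (iv5 D200263) D200264 (iv5 F425581)
theorem F518678 : act 7 n223293 = n211729 := d14_2 (iv7 F425580) D223293 F462883 F369600 (iv6 F425578)
theorem F518679 : act 0 n223293 = n218759 := d21_4 (iv5 F401177) F415737 (iv5 F425581) D223293 (iv6 D218759) F378624 F373865 (iv5 F463083) (iv6 D211792) (iv1 F226814)
def n223294 : Q := act 0 n202793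
theorem D223294 : act 0 n202793 = n223294 := rfl
theorem F518680 : act 4 n223294 = n210745 := d18_3 F458756 (iv4 F425613) D223294 (iv5 F469504) F469503 D220639 (iv4 F504750) F482151 (iv5 F458754)
theorem F518681 : act 3 n223294 = n202864 := d20_5 F509643 F401473 (iv4 F226765) (iv3 F425612) D223294 (iv4 F463259) (iv1 F463266) (iv4 F425802) (iv3 F503526) (iv1 F509646)
theorem F518682 : act 6 n223294 = n211878 := d21_5 F365089 (iv1 F425610) (iv5 D202792) D202793 D223294 F463368 (iv1 F425547) F415977 (iv6 D116965) D116962
theorem F518683 : act 2 n202796 = n223294 := d15_3 (iv0 D223294) (iv0 F425614) F425626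
theorem F518684 : act 7 n223294 = n202797 := d4_2 F425626 F518683 F425628
theorem F518685 : act 1 n202799 = n223294 := d15_1 F425635 F518684 F425628
def n223295 : Q := act 7 n202793
theorem D223295 : act 7 n202793 = n223295 := rfl
theorem F518686 : act 2 n223295 = n202799 := d4_1 D223295 (iv7 D202799) (iv2 F425611)
theorem F518687 : act 3 n223295 = n211721 := d8_1 D223295 (iv7 D211721) (iv3 F425612)
theorem F518688 : act 4 n223295 = n223003 := d11_1 D223295 (iv7 D223003) (iv4 F425613)
theorem F518689 : act 6 n223295 = n211770 := d14_1 D223295 (iv7 D211770) (iv6 D144084) (iv7 F182866) D202793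
theorem F518690 : act 1 n202797 = n223295 := d15_1 D202797 (iv7 D223295) F425611
theorem F518691 : act 1 n223295 = n202796 := d15_1 F518690 (iv7 F425626) (iv2 F425628)
def n223296 : Q := act 5 n202795
theorem D223296 : act 5 n202795 = n223296 := rfl
theorem F518692 : act 3 n223296 = n202802 := d6_1 D223296 (iv5 D202802) (iv3 F425619)
theorem F518693 : act 6 n223296 = n202798 := d12_2 D202795 D223296 (iv5 D202798) (iv6 D116982) D116981
theorem F518694 : act 0 n223296 = n219309 := d17_2 F425621 D223296 (iv5 D219309) (iv4 D191141) (iv5 D97313) (iv0 D45452) D45455 D97323 D191148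
theorem F518695 : act 1 n223296 = n219229 := d17_6 (iv1 D190816) (iv5 D96951) D96949 D190811 (iv4 F425620) D223296 (iv5 D219229) (iv0 F447812) F447810
def n223297 : Q := act 5 n202796
theorem D223297 : act 5 n202796 = n223297 := rfl
theorem F518696 : act 3 n223297 = n222131 := d6_1 D223297 F512507 F425624
theorem F518697 : act 6 n223297 = n211782 := d12_2 (iv6 F425623) D223297 (iv5 F512541) F512540 (iv5 F423906)
theorem F518698 : act 7 n223297 = n222129 := d13_2 F425626 D223297 (iv5 D222129)
theorem F518699 : act 0 n223297 = n222600 := d17_2 D202796 D223297 (iv5 D222600) (iv4 F472879) F472880 F471200 F469450 (iv0 D202011) (iv4 F182873)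
theorem F518700 : act 1 n223297 = n221876 := d17_6 (iv1 F473187) (iv5 F473147) (iv1 F518048) F518045 F425625 D223297 (iv5 D221876) (iv0 F505021) F505019
def n223298 : Q := act 5 n202797
theorem D223298 : act 5 n202797 = n223298 := rfl
theorem F518701 : act 2 n223298 = n222129 := d2_1 D223298 (iv5 D222129) (iv2 F425628)
theorem F518702 : act 3 n223298 = n211968 := d6_1 D223298 (iv5 D211968) (iv3 F425629)
theorem F518703 : act 6 n223298 = n222128 := d12_2 F425627 D223298 (iv5 D222128) (iv6 D198451) D198450
theorem F518704 : act 1 n223298 = n222600 := d17_6 D214015 F473143 (iv1 D213229) (iv5 F423717) (iv4 F425630) D223298 (iv5 D222600) (iv0 D200326) (iv4 F245476)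
theorem F518705 : act 0 n223298 = n221876 := d21_7 (iv5 D215532) (iv1 F414179) F415149 F415146 F408641 F425627 D223298 (iv5 D221876) (iv6 F474866) (iv1 F480364)
def n223299 : Q := act 4 n202798
theorem D223299 : act 4 n202798 = n223299 := rfl
theorem F518706 : act 3 n223299 = n209061 := d5_1 D223299 (iv4 F492143) F492141 (iv4 D202807) (iv3 F425631)
def n223300 : Q := act 3 n202801
theorem D223300 : act 3 n202801 = n223300 := rfl
theorem F518707 : act 5 n223300 = n218817 := d6_2 F497274 D223300 (iv3 F497278)
theorem F518708 : act 6 n223300 = n218540 := d7_2 F489159 D223300 F494370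
theorem F518709 : act 7 n223300 = n211733 := d8_2 (iv7 F425643) D223300 (iv3 D211733)
theorem F518710 : act 0 n223300 = n210079 := d20_4 F425773 (iv1 F425567) F425644 D223300 F456081 (iv4 D191317) (iv1 F344302) D189222 (iv3 F376144) (iv1 F425776)
theorem F518711 : act 0 n215683 = n223300 := d20_4 F463147 (iv1 F250195) D176895 D215683 (iv3 D223300) (iv4 F425644) (iv1 D144094) (iv4 F103419) (iv3 F226842) D211807
def n223301 : Q := act 0 n202802
theorem D223301 : act 0 n202802 = n223301 := rfl
theorem F518712 : act 5 n223301 = n219333 := d17_1 D223301 F498330 (iv5 F497289) F497288 (iv5 D202784) (iv0 F370187) (iv5 F394935) D220920 F506276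
theorem F518713 : act 6 n223301 = n215013 := d21_5 (iv5 D202806) (iv1 D116985) D116986 (iv6 F425648) D223301 F477889 (iv1 D201232) F379273 (iv6 F404514) (iv1 F425667)
theorem F518714 : act 2 n211737 = n223301 := d15_3 (iv0 D223301) (iv0 F515189) (iv7 F515196)
theorem F518715 : act 7 n223301 = n211738 := d4_2 (iv7 F515196) F518714 (iv2 F515187)
theorem F518716 : act 3 n218824 = n223301 := d8_3 F518715 (iv3 F496798) F496799
theorem F518717 : act 1 n211740 = n223301 := d15_1 F515188 F518715 (iv2 F515187)
def n223302 : Q := act 7 n202802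
theorem D223302 : act 7 n202802 = n223302 := rfl
theorem F518718 : act 2 n223302 = n211740 := d4_1 D223302 (iv7 D211740) (iv2 F425647)
theorem F518719 : act 4 n223302 = n218755 := d11_1 D223302 (iv7 F506272) F506276
theorem F518720 : act 5 n223302 = n202803 := d13_1 D223302 (iv7 D202803) D202802
theorem F518721 : act 6 n223302 = n218754 := d14_1 D223302 (iv7 F497299) F497298 F415962 (iv6 F425648)
theorem F518722 : act 1 n211738 = n223302 := d15_1 D211738 (iv7 D223302) F425647
theorem F518723 : act 1 n223302 = n211737 := d15_1 F518722 F515196 F515187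
def n223303 : Q := act 4 n202815
theorem D223303 : act 4 n202815 = n223303 := rfl
theorem F518724 : act 2 n223303 = n219195 := d1_1 D223303 F497672 (iv2 F495642)
theorem F518725 : act 3 n223303 = n217411 := d5_1 D223303 F488785 F480201 F381680 (iv3 F425703)
theorem F518726 : act 6 n223303 = n219070 := d10_2 F497056 D223303 F497058
theorem F518727 : act 5 n223303 = n204750 := d16_5 (iv4 F507134) (iv5 D221082) F396811 D202815 D223303 F433466 (iv5 F433264) (iv7 F433460) F449876
theorem F518728 : act 0 n223303 = n222136 := d17_0 (iv5 F512726) F512728 (iv5 F496066) F496065 F453198 F453197 (iv5 F495645) (iv0 F495648) D223303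
theorem F518729 : act 1 n223303 = n219150 := d18_6 (iv1 F503805) F507128 (iv1 D221081) F396811 D202815 D223303 F497441 F512525 F512524
def n223304 : Q := act 5 n202816
theorem D223304 : act 5 n202816 = n223304 := rfl
theorem F518730 : act 2 n223304 = n211842 := d2_1 D223304 (iv5 D211842) F425709
theorem F518731 : act 3 n223304 = n217377 := d6_1 D223304 F488641 (iv3 F425711)
theorem F518732 : act 6 n223304 = n220723 := d12_2 (iv6 F425712) D223304 F505167 F392895 (iv5 F379765)
theorem F518733 : act 7 n223304 = n211843 := d13_2 F425710 D223304 (iv5 D211843)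
theorem F518734 : act 4 n223304 = n222614 := d16_2 F425758 D223304 (iv5 D222614) (iv4 F440572) F463077 (iv4 F496108) F496109 F425763 F425760
theorem F518735 : act 0 n223304 = n211820 := d17_2 D202816 D223304 (iv5 F463190) (iv4 F447804) F447805 D219120 F497282 (iv0 D202800) (iv4 F182910)
theorem F518736 : act 1 n223304 = n218904 := d17_6 (iv1 F497832) F497833 (iv1 F506282) F506279 F425758 D223304 F496122 F495316 F486523
def n223305 : Q := act 5 n202817
theorem D223305 : act 5 n202817 = n223305 := rfl
theorem F518737 : act 2 n223305 = n211843 := d2_1 D223305 (iv5 D211843) (iv2 F425706)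
theorem F518738 : act 3 n223305 = n218962 := d6_1 D223305 (iv5 D218962) (iv3 F425707)
theorem F518739 : act 6 n223305 = n214545 := d12_2 F425705 D223305 F475723 F392140 (iv5 F378503)
theorem F518740 : act 7 n223305 = n211842 := d13_2 (iv7 F425708) D223305 (iv5 D211842)
theorem F518741 : act 4 n223305 = n223301 := d16_6 (iv4 F440572) F463077 (iv4 F496108) F496109 (iv4 F425764) D223305 F518712 (iv7 F498329) (iv2 F416188)
theorem F518742 : act 0 n223305 = n218904 := d17_2 (iv1 F425704) D223305 F496122 (iv4 F498333) F498334 F497284 F497274 F425642 (iv4 F226860)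
theorem F518743 : act 1 n223305 = n211820 := d17_6 F516366 (iv5 F488897) F496112 F496109 (iv4 F425764) D223305 (iv5 F463190) D216916 (iv4 F516364)
def n223306 : Q := act 0 n202818
theorem D223306 : act 0 n202818 = n223306 := rfl
theorem F518744 : act 5 n223306 = n220941 := d17_3 (iv1 D202817) D202818 D223306 F506394 (iv5 F506261) (iv0 F506263) (iv5 D202831) D202830 (iv4 F425764)
theorem F518745 : act 4 n223306 = n211734 := d18_1 D223306 F497185 F497181 F463079 (iv4 F226846) F425767 F425758 (iv0 D202816) D202818
theorem F518746 : act 3 n223306 = n218967 := d20_5 F512607 F497034 F497058 (iv3 F497061) D223306 (iv4 F514426) (iv1 F514429) (iv4 F497677) F497676 F512610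
theorem F518747 : act 6 n223306 = n222702 := d21_5 F247463 (iv1 F112218) D116996 (iv6 F425715) D223306 F515651 F491986 (iv5 F496173) F496174 (iv1 F415948)
theorem F518748 : act 1 n211847 = n223306 := d15_0 (iv0 D223306) (iv7 F497316) F497312
theorem F518749 : act 7 n211845 = n223306 := d8_0 F518746 F496432 F496124
theorem F518750 : act 2 n223306 = n211844 := d15_3 (iv0 D211844) D211845 F518749
def n223307 : Q := act 1 n202818
theorem D223307 : act 1 n202818 = n223307 := rfl
theorem F518751 : act 1 n223307 = n211847 := d15_1 D223307 (iv7 D211847) (iv2 F425714)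
theorem F518752 : act 7 n223307 = n211844 := d15_2 (iv0 D223306) D223307 (iv2 F518750)
theorem F518753 : act 5 n223307 = n211868 := d17_7 F443907 D222614 F515189 (iv5 D202802) (iv4 F182910) D202818 D223307 F486533 F486531
theorem F518754 : act 4 n223307 = n211736 := d17_9 (iv1 F497292) F497289 F443907 D222614 (iv4 F518734) (iv5 D223304) (iv0 D202816) D202818 D223307
theorem F518755 : act 6 n220882 = n223307 := d21_3 F515084 D222910 F516713 (iv1 D223307) F425715 (iv5 D116996) F85042 D112973 (iv6 F415945) D222594
theorem F518756 : act 2 n223307 = n211845 := d3_1 F518755 F496123 D220882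
def n223308 : Q := act 1 n202831
theorem D223308 : act 1 n202831 = n223308 := rfl
theorem F518757 : act 1 n223308 = n211821 := d15_1 D223308 (iv7 D211821) (iv2 F425769)
theorem F518758 : act 7 n223308 = n211818 := d15_2 (iv0 F506263) D223308 (iv2 F506258)
theorem F518759 : act 3 n216823 = n223308 := d19_19 (iv1 D223308) (iv5 D202831) F182924 (iv3 F331462) (iv1 D133654) D133655 D208189 F448289 (iv1 F381521) (iv5 F370051) (iv4 F373618) (iv3 D188477) (iv1 D92175) D92177 D188480 F373633 (iv1 F376172) (iv5 F439550) (iv4 F486069)
theorem F518760 : act 6 n217435 = n223308 := d21_3 (iv5 D211854) F434502 (iv5 F488862) (iv1 D223308) F425770 (iv5 D117003) F175709 D200211 D222577 F514988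
theorem F518761 : act 5 n211865 = n223308 := d21_6 (iv5 D48845) (iv1 F49604) (iv5 F49648) D67555 D144207 D211865 (iv1 D223308) (iv5 D202831) (iv6 D117002) F85048
theorem F518762 : act 2 n223308 = n211819 := d2_1 F518761 (iv5 F516367) F516362
theorem F518763 : act 4 n223308 = n222586 := d9_1 F518761 (iv5 D222586) F415682 D211734 (iv4 F518745) F518744 F506394 (iv5 F506261) F506260 F394935 F425640 D211736 (iv4 F518754) F518753 F463333
def n223309 : Q := act 4 n202831
theorem D223309 : act 4 n202831 = n223309 := rfl
theorem F518764 : act 2 n223309 = n211820 := d1_1 D223309 (iv4 D211820) (iv2 F425769)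
theorem F518765 : act 3 n223309 = n219076 := d5_1 D223309 F497050 (iv3 F506296) F506294 F492187
theorem F518766 : act 6 n223309 = n202833 := d10_2 (iv6 F425770) D223309 (iv4 D202833)
theorem F518767 : act 5 n223309 = n211870 := d16_1 D223309 F463340 (iv5 F497182) F497181 F463079 (iv4 F226846) (iv5 F463191) (iv7 D211821) (iv2 F425769)
theorem F518768 : act 1 n223309 = n211842 := d18_6 (iv1 F425651) (iv4 F425640) F370187 (iv4 F182924) D202831 D223309 F498337 F518722 F518720
theorem F518769 : act 1 n211843 = n223309 := d15_0 F518768 (iv7 F518740) F518737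
theorem F518770 : act 7 n218904 = n223309 := d13_0 F518767 (iv7 F495314) (iv5 F496122)
def n223310 : Q := act 7 n202831
theorem D223310 : act 7 n202831 = n223310 := rfl
theorem F518771 : act 2 n223310 = n211821 := d4_1 D223310 (iv7 D211821) (iv2 F425769)
theorem F518772 : act 3 n223310 = n218095 := d8_1 D223310 (iv7 F492189) F492187
theorem F518773 : act 4 n223310 = n218904 := d11_1 D223310 F518770 (iv4 D223309)
theorem F518774 : act 5 n223310 = n202832 := d13_1 D223310 (iv7 D202832) D202831
theorem F518775 : act 6 n223310 = n218903 := d14_1 D223310 (iv7 F497324) F497323 F404494 (iv6 F425770)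
theorem F518776 : act 1 n211819 = n223310 := d15_1 D211819 (iv7 D223310) F425769
theorem F518777 : act 1 n223310 = n211818 := d15_1 F518776 (iv7 F518758) F518762
def n223311 : Q := act 5 n202858
theorem D223311 : act 5 n202858 = n223311 := rfl
theorem F518778 : act 2 n223311 = n215498 := d2_1 D223311 (iv5 F480229) F447802
theorem F518779 : act 3 n223311 = n202861 := d6_1 D223311 (iv5 D202861) (iv3 F425901)
theorem F518780 : act 6 n223311 = n221988 := d12_2 D202858 D223311 F511778 (iv6 F448271) (iv5 D202857)
theorem F518781 : act 7 n223311 = n215497 := d13_2 F474034 D223311 F480227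
theorem F518782 : act 4 n223311 = n211425 := d16_2 (iv4 F425902) D223311 (iv5 F482867) F482866 (iv5 F487908) F487907 (iv5 F503857) F503854 F458425
theorem F518783 : act 0 n223311 = n215337 := d17_2 F501940 D223311 F479462 (iv4 F499876) F499877 (iv0 F518239) (iv5 D223214) F473586 (iv4 F501938)
theorem F518784 : act 0 n215499 = n223311 := d19_0 (iv5 D223311) F425902 F222682 F340952 D156483 F430645 F445294 (iv1 D207524) (iv5 D131926) F96505 F46994 D29335 D61922 D131970 D207564 (iv1 F445466) D220827 (iv4 F505761) F505758
def n223312 : Q := act 5 n202859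
theorem D223312 : act 5 n202859 = n223312 := rfl
theorem F518785 : act 2 n223312 = n211976 := d2_1 D223312 (iv5 D211976) F425906
theorem F518786 : act 3 n223312 = n222097 := d6_1 D223312 (iv5 F512344) F425907
theorem F518787 : act 4 n223312 = n214945 := d9_1 D223312 (iv5 F484546) F484545 (iv5 D215283) (iv4 F276452) F340798 F425913 (iv5 F512740) F512739 F495860 F484540 (iv5 F479370) F479369 (iv5 F357101) (iv4 F425903)
theorem F518788 : act 6 n223312 = n204747 := d12_2 (iv6 F425904) D223312 (iv5 F474901) F474905 F279038
theorem F518789 : act 7 n223312 = n211978 := d13_2 F425908 D223312 (iv5 D211978)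
theorem F518790 : act 0 n223312 = n211512 := d17_2 D202859 D223312 (iv5 D211512) F225458 (iv5 F322334) F189775 (iv5 F311910) (iv0 F340947) (iv4 F183002)
theorem F518791 : act 1 n223312 = n219222 := d17_6 (iv1 F481248) F276465 (iv1 F276454) (iv5 F357101) (iv4 F425903) D223312 F497793 (iv0 F427586) (iv4 F481244)
def n223313 : Q := act 1 n202861
theorem D223313 : act 1 n202861 = n223313 := rfl
theorem F518792 : act 1 n223313 = n211982 := d15_1 D223313 (iv7 D211982) (iv2 F425914)
theorem F518793 : act 7 n223313 = n211979 := d15_2 (iv0 F425915) D223313 (iv2 F463818)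
theorem F518794 : act 5 n223313 = n203646 := d17_7 F317161 D143800 (iv1 F340944) (iv5 D117053) (iv4 F183002) D202861 D223313 (iv0 D203646) F189500
theorem F518795 : act 4 n223313 = n218930 := d17_9 (iv1 F496241) F463289 F484549 F484546 (iv4 F518787) (iv5 D223312) (iv0 D202859) D202861 D223313
theorem F518796 : act 6 n222131 = n223313 := d21_9 (iv5 D202861) D202859 D223312 F518788 (iv1 F474788) (iv6 F505856) F505855 (iv1 F408703) (iv5 F512507) (iv1 D223313)
theorem F518797 : act 2 n223313 = n211980 := d3_1 F518796 (iv6 F512852) F512849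
theorem F518798 : act 3 n223313 = n211782 := d7_1 F518796 (iv6 F518697) F518696
def n223314 : Q := act 0 n202872
theorem D223314 : act 0 n202872 = n223314 := rfl
theorem F518799 : act 5 n223314 = n211112 := d17_3 (iv1 F423812) (iv5 F425969) D223314 (iv4 F517295) F517298 (iv0 F433596) F423309 F433595 (iv4 F404316)
theorem F518800 : act 4 n223314 = n219876 := d18_1 D223314 F500994 (iv4 F478068) (iv5 F507369) F507368 F455251 F507461 F507459 (iv5 F425969)
theorem F518801 : act 3 n223314 = n210944 := d20_5 F401596 F175513 D125990 (iv3 F425968) D223314 F459403 (iv1 F223500) D140653 D211084 (iv1 F460047)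
theorem F518802 : act 2 n221177 = n223314 := d15_3 (iv0 D223314) (iv0 F511120) F511119
theorem F518803 : act 1 n221151 = n223314 := d15_0 (iv0 D223314) (iv7 F517645) F517642
theorem F518804 : act 7 n223314 = n210943 := d15_2 (iv0 F511121) F518803 (iv2 F511115)
theorem F518805 : act 6 n222440 = n223314 := d21_3 F415492 D219822 (iv5 F514227) (iv1 F518803) F507468 (iv5 D219707) F385894 (iv5 F463695) (iv6 F507235) (iv1 F507236)
def n223315 : Q := act 4 n202880
theorem D223315 : act 4 n202880 = n223315 := rfl
theorem F518806 : act 2 n223315 = n212024 := d1_1 D223315 (iv4 D212024) (iv2 F426009)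
theorem F518807 : act 3 n223315 = n209121 := d5_1 D223315 F452356 (iv3 F452321) (iv4 F466625) F466624
theorem F518808 : act 6 n223315 = n214223 := d10_2 F479157 D223315 (iv4 F479155)
theorem F518809 : act 7 n223315 = n209119 := d11_2 (iv7 F426010) D223315 F452348
theorem F518810 : act 0 n223315 = n220040 := d18_2 F516167 D223315 F501799 (iv5 D201457) (iv4 F313876) (iv0 D146018) (iv4 F319324) F419444 D222803
theorem F518811 : act 1 n223315 = n222848 := d18_6 (iv1 F334435) (iv4 D139853) (iv1 F321608) (iv4 F183172) D202880 D223315 (iv4 D222848) F464040 F464038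
def n223316 : Q := act 1 n202899
theorem D223316 : act 1 n202899 = n223316 := rfl
theorem F518812 : act 1 n223316 = n212350 := d15_1 D223316 (iv7 D212350) (iv2 F426104)
theorem F518813 : act 7 n223316 = n212347 := d15_2 (iv0 F484027) D223316 (iv2 F484028)
theorem F518814 : act 5 n223316 = n209165 := d17_7 (iv1 F452346) (iv5 F451903) (iv1 F362734) F362730 (iv4 F387513) F426107 D223316 (iv0 F452547) (iv4 F452343)
theorem F518815 : act 3 n209170 = n223316 := d19_19 (iv1 D223316) (iv5 F426107) F387513 F237963 (iv1 F178415) (iv5 F233498) (iv4 F466893) F466892 F450481 F388585 F388584 F155778 D101182 F364783 (iv4 D141816) D141815 F438562 (iv5 F516266) F516265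
theorem F518816 : act 2 n223316 = n212348 := d0_1 F518815 F465422 F459898 F358538 (iv2 F452559)
theorem F518817 : act 6 n223316 = n209167 := d7_2 (iv6 F452560) F518815 F452550
def n223317 : Q := act 0 n202905
theorem D223317 : act 0 n202905 = n223317 := rfl
theorem F518818 : act 4 n223317 = n214468 := d18_3 (iv1 D212401) (iv4 F426139) D223317 F475308 F388575 (iv0 F420144) (iv4 F490733) (iv0 D217808) (iv5 F490732)
theorem F518819 : act 3 n223317 = n220490 := d20_5 (iv4 D90622) D90620 D187858 (iv3 F426138) D223317 (iv4 D220490) (iv1 F491082) F491079 (iv3 D217748) (iv1 D187863)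
theorem F518820 : act 6 n223317 = n222880 := d21_5 (iv5 D68875) (iv1 F85257) D117239 D202905 D223317 F516562 (iv1 F454891) (iv5 D203125) (iv6 D117697) (iv1 F105672)
theorem F518821 : act 2 n202915 = n223317 := d15_3 (iv0 D223317) (iv0 F450346) (iv7 F450704)
theorem F518822 : act 7 n223317 = n202916 := d4_2 (iv7 F450704) F518821 (iv2 F450344)
theorem F518823 : act 1 n202918 = n223317 := d15_1 F450347 F518822 (iv2 F450344)
def n223318 : Q := act 7 n202905
theorem D223318 : act 7 n202905 = n223318 := rfl
theorem F518824 : act 2 n223318 = n202918 := d4_1 D223318 (iv7 D202918) (iv2 F426137)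
theorem F518825 : act 3 n223318 = n217543 := d8_1 D223318 F489407 (iv3 F426138)
theorem F518826 : act 4 n223318 = n212403 := d11_1 D223318 (iv7 D212403) (iv4 F426139)
theorem F518827 : act 6 n223318 = n212365 := d14_1 D223318 (iv7 D212365) (iv6 D146826) (iv7 F183447) D202905
theorem F518828 : act 1 n202916 = n223318 := d15_1 D202916 (iv7 D223318) F426137
theorem F518829 : act 1 n223318 = n202915 := d15_1 F518828 F450704 F450344
def n223319 : Q := act 0 n202909
theorem D223319 : act 0 n202909 = n223319 := rfl
theorem F518830 : act 5 n223319 = n203088 := d17_3 F357747 D202909 D223319 F426918 (iv5 D170468) (iv0 F344906) (iv5 F227869) (iv0 F340874) F357745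
theorem F518831 : act 4 n223319 = n210758 := d18_1 D223319 (iv1 F458705) F386209 (iv5 F370348) F370347 (iv0 F332052) (iv4 F426151) (iv0 D202908) D202909
theorem F518832 : act 3 n223319 = n213530 := d20_5 D186933 (iv1 F393908) D210541 (iv3 F457981) D223319 F470884 (iv1 F470593) (iv4 D213479) (iv3 F368551) (iv1 D186932)
theorem F518833 : act 2 n203089 = n223319 := d15_3 (iv0 D223319) (iv0 F499214) (iv7 F499216)
theorem F518834 : act 1 n212436 = n223319 := d15_0 (iv0 D223319) (iv7 F488245) (iv2 F488248)
theorem F518835 : act 7 n223319 = n210757 := d15_2 F499215 F518834 (iv2 F499210)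
theorem F518836 : act 6 n213596 = n223319 := d21_9 F465792 F357748 D203573 F428950 F386559 (iv6 F500924) (iv5 D219859) D219858 F500922 (iv1 F518834)
def n223320 : Q := act 5 n202914
theorem D223320 : act 5 n202914 = n223320 := rfl
theorem F518837 : act 2 n223320 = n212444 := d2_1 D223320 (iv5 D212444) (iv2 F426184)
theorem F518838 : act 6 n223320 = n203120 := d12_2 D202914 D223320 (iv5 D203120) (iv6 D117695) (iv5 F183490)
theorem F518839 : act 7 n223320 = n203469 := d13_2 F487446 D223320 (iv5 F487445)
theorem F518840 : act 4 n223320 = n203472 := d17_4 D204516 (iv5 F489710) (iv1 F489714) D223320 F428444 F418353 F451788 F451784 F432781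
theorem F518841 : act 1 n223320 = n222853 := d17_8 (iv1 F420742) (iv5 F362730) (iv1 F362733) (iv5 F451901) F451899 (iv5 F458942) (iv0 F458943) D223320 (iv4 D222853)
theorem F518842 : act 0 n223320 = n208254 := d18_0 F448600 (iv1 D201501) (iv4 F387507) (iv5 F465432) (iv4 F513999) (iv0 F516878) F516876 (iv0 F458943) D223320
def n223321 : Q := act 6 n202915
theorem D223321 : act 6 n202915 = n223321 := rfl
theorem F518843 : act 2 n223321 = n222880 := d3_1 D223321 (iv6 F518820) (iv2 F518821)
theorem F518844 : act 3 n223321 = n208745 := d7_1 D223321 F450673 F450703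
theorem F518845 : act 4 n223321 = n220169 := d10_1 D223321 (iv6 D220169) (iv4 F426185)
theorem F518846 : act 7 n223321 = n208743 := d14_2 (iv7 F450704) D223321 (iv6 D208743) F217227 D208655
theorem F518847 : act 0 n223321 = n210473 := d21_10 (iv5 D210473) F453712 F453710 (iv6 F427058) D217098 (iv6 F487406) D220009 F501630 F482493 D223321
theorem F518848 : act 0 n222881 = n223321 := d20_1 (iv4 F516565) F518845 F502456 F441931 F441929 D207814 F486968 F486967 (iv3 F516630) (iv1 F516634)
def n223322 : Q := act 0 n202917
theorem D223322 : act 0 n202917 = n223322 := rfl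
theorem F518849 : act 4 n223322 = n216756 := d18_1 D223322 (iv1 F485805) (iv4 F508085) (iv5 D221272) F398403 (iv0 F420562) (iv4 F426185) (iv0 D202915) D202917
theorem F518850 : act 6 n223322 = n208878 := d21_5 (iv5 D202919) (iv1 D117259) D117260 (iv6 F426187) D223322 (iv5 D208878) (iv1 F443975) F443973 F432487 F432490
def n223323 : Q := act 1 n202917
theorem D223323 : act 1 n202917 = n223323 := rfl
theorem F518851 : act 5 n223323 = n207885 := d17_7 F492996 (iv5 F516129) (iv1 F516132) F490078 F388495 D202917 D223323 (iv0 F490381) (iv4 F492994)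
theorem F518852 : act 4 n223323 = n216757 := d17_9 (iv1 D216757) (iv5 F290038) (iv1 D179749) D179750 D216003 F482493 (iv0 D202915) D202917 D223323
theorem F518853 : act 6 n207397 = n223323 := d21_3 F431030 (iv1 F385412) (iv5 F444683) (iv1 D223323) F426187 (iv5 D117260) F356472 D123780 F198261 D204086
def n223324 : Q := act 6 n202920
theorem D223324 : act 6 n202920 = n223324 := rfl
theorem F518854 : act 3 n223324 = n216637 := d7_1 D223324 F485290 (iv3 F432509)
theorem F518855 : act 4 n223324 = n216249 := d10_1 D223324 (iv6 D216249) (iv4 F426192)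
theorem F518856 : act 5 n223324 = n216635 := d12_1 D223324 F485285 (iv5 F466819) (iv6 D212637) (iv5 F426191)
def n223325 : Q := act 6 n202922
theorem D223325 : act 6 n202922 = n223325 := rfl
theorem F518857 : act 2 n223325 = n210585 := d3_1 D223325 F458135 (iv2 F426200)
theorem F518858 : act 3 n223325 = n210859 := d7_1 D223325 F459048 (iv3 F426201)
theorem F518859 : act 4 n223325 = n217116 := d10_1 D223325 (iv6 D217116) (iv4 F426202)
theorem F518860 : act 5 n223325 = n210326 := d12_1 D223325 (iv6 D210326) F356554 (iv6 F183496) (iv5 F426203)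
theorem F518861 : act 7 n223325 = n210587 := d14_2 D202922 D223325 F501667 F501666 F426187
theorem F518862 : act 0 n223325 = n211251 := d21_4 (iv5 D204422) F356473 (iv5 F426203) D223325 (iv6 F478878) F478877 F442848 (iv5 F487979) (iv6 D217216) (iv1 F432474)
theorem F518863 : act 0 n220068 = n223325 := d21_4 F483136 F388065 D192867 (iv6 F501953) (iv6 D223325) F426203 (iv1 F356481) (iv5 F432500) (iv6 F488109) F488111
def n223326 : Q := act 5 n202924
theorem D223326 : act 5 n202924 = n223326 := rfl
theorem F518864 : act 2 n223326 = n219825 := d2_1 D223326 F500764 F474592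
theorem F518865 : act 3 n223326 = n202925 := d6_1 D223326 (iv5 D202925) D202924
theorem F518866 : act 4 n223326 = n213951 := d9_1 D223326 (iv5 D213951) F245282 (iv5 F175025) (iv4 F332135) (iv5 F414904) F414907 (iv5 F486899) F486898 (iv5 D197155) (iv4 D107763) D107764 F326028 (iv5 F318786) (iv4 F426210)
theorem F518867 : act 6 n223326 = n219814 := d12_2 (iv6 F426211) D223326 F500743 F386363 (iv5 F242417)
theorem F518868 : act 7 n223326 = n219828 := d13_2 F478222 D223326 F500780
theorem F518869 : act 0 n223326 = n219830 := d17_2 F426213 D223326 F500789 F430590 (iv5 F406403) (iv0 F363261) (iv5 F414863) (iv0 D200064) D200065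
theorem F518870 : act 1 n223326 = n219829 := d17_6 (iv1 F332151) (iv5 F325665) F332158 (iv5 F318786) (iv4 F426210) D223326 F500785 F430594 (iv4 D200158)
theorem F518871 : act 0 n220646 = n219816 := d21_4 F500789 (iv1 F430591) (iv5 F510831) (iv6 F510833) (iv6 D219816) (iv5 D192301) (iv1 F386365) (iv5 F500743) (iv6 F518867) F518869
def n223327 : Q := act 1 n202962
theorem D223327 : act 1 n202962 = n223327 := rfl
theorem F518872 : act 1 n223327 = n203074 := d15_1 D223327 F426886 (iv2 F426400)
theorem F518873 : act 7 n223327 = n203080 := d15_2 F505485 D223327 (iv2 F505481)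
theorem F518874 : act 5 n223327 = n212321 := d17_7 (iv1 F345706) F229957 (iv1 D72096) (iv5 F85405) (iv4 F183880) D202962 D223327 F465305 F252704
theorem F518875 : act 3 n219711 = n223327 := d19_19 (iv1 D223327) (iv5 D202962) F183880 F85404 D68954 D147059 (iv4 F424097) (iv3 F518179) (iv1 F518183) F459769 (iv4 D205041) D205040 (iv1 F434741) F347503 (iv4 F355387) F156626 (iv1 F156669) D192104 D219711
theorem F518876 : act 6 n219415 = n223327 := d21_3 (iv5 F486009) F518259 F518254 (iv1 D223327) F426401 F390646 (iv1 F218937) D209012 (iv6 F497932) F497935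
theorem F518877 : act 2 n223327 = n203081 := d3_1 F518876 (iv6 F464240) F498789
def n223328 : Q := act 7 n202962
theorem D223328 : act 7 n202962 = n223328 := rfl
theorem F518878 : act 2 n223328 = n203074 := d4_1 D223328 F426886 (iv2 F426400)
theorem F518879 : act 3 n223328 = n221829 := d8_1 D223328 F510957 F507107
theorem F518880 : act 4 n223328 = n216224 := d11_1 D223328 F485755 (iv4 F485756)
theorem F518881 : act 5 n223328 = n202963 := d13_1 D223328 (iv7 D202963) D202962
theorem F518882 : act 1 n203081 = n223328 := d15_1 D203081 (iv7 D223328) F426400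
theorem F518883 : act 1 n223328 = n203080 := d15_1 F518882 (iv7 F518873) F518877
def n223329 : Q := act 5 n202974
theorem D223329 : act 5 n202974 = n223329 := rfl
theorem F518884 : act 2 n223329 = n220625 := d2_1 D223329 (iv5 D220625) (iv2 F426453)
theorem F518885 : act 3 n223329 = n202975 := d6_1 D223329 (iv5 D202975) D202974
theorem F518886 : act 4 n223329 = n222562 := d9_1 D223329 (iv5 D222562) (iv4 D200153) (iv5 D112712) F82199 (iv5 F328010) (iv4 F278511) D215926 F482123 (iv5 D214854) F257476 F119628 (iv4 F119854) D163838 (iv4 F426454)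
theorem F518887 : act 7 n223329 = n223275 := d13_2 (iv7 F426455) D223329 (iv5 D223275)
theorem F518888 : act 0 n223329 = n222815 := d17_2 F426457 D223329 (iv5 D222815) F419797 F354823 F354857 F231393 (iv0 F354813) F354815
def n223330 : Q := act 4 n202981
theorem D223330 : act 4 n202981 = n223330 := rfl
theorem F518889 : act 2 n223330 = n212511 := d1_1 D223330 F466176 (iv2 F426706)
theorem F518890 : act 3 n223330 = n222244 := d5_1 D223330 (iv4 D222244) (iv3 F480869) F480870 (iv3 F426486)
theorem F518891 : act 5 n223330 = n212487 := d9_2 D202981 D223330 F466043 F439600 (iv4 F462591) F462592 F425249 D202983 (iv4 F461951) (iv5 D211519) F225593 (iv5 F330054) (iv4 F464973) F464974 (iv4 D202980)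
theorem F518892 : act 6 n223330 = n220219 := d10_2 F434901 D223330 F502713
theorem F518893 : act 7 n223330 = n212512 := d11_2 (iv7 F426703) D223330 F466181
theorem F518894 : act 0 n223330 = n212213 := d17_0 (iv5 D212213) F366270 F386865 F386863 F355540 (iv0 D153306) D153308 (iv0 F426487) D223330
theorem F518895 : act 1 n223330 = n214235 := d18_6 (iv1 F389312) F368250 (iv1 F426484) (iv4 D202980) D202981 D223330 F474133 F469726 F469721
def n223331 : Q := act 5 n202982
theorem D223331 : act 5 n202982 = n223331 := rfl
theorem F518896 : act 2 n223331 = n206303 := d2_1 D223331 (iv5 D206303) (iv2 F426488)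
theorem F518897 : act 3 n223331 = n222801 := d6_1 D223331 (iv5 D222801) (iv3 F426489)
theorem F518898 : act 4 n223331 = n221926 := d9_1 D223331 F511434 F488653 F379017 (iv4 F392529) F392531 D204383 (iv5 F484790) F484789 F476251 F476249 F393133 (iv4 F393121) F393122 (iv4 F426490)
theorem F518899 : act 6 n223331 = n209175 := d12_2 D202982 D223331 F452587 F434901 (iv5 D202981)
theorem F518900 : act 7 n223331 = n206306 := d13_2 F426493 D223331 (iv5 D206306)
theorem F518901 : act 0 n223331 = n212540 := d17_2 F426491 D223331 (iv5 D212540) (iv4 D147736) D147737 F392933 (iv5 F432245) (iv0 F432246) F205817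
def n223332 : Q := act 5 n202990
theorem D223332 : act 5 n202990 = n223332 := rfl
theorem F518902 : act 2 n223332 = n203013 := d2_1 D223332 (iv5 D203013) (iv2 F426536)
theorem F518903 : act 3 n223332 = n204129 := d6_1 D223332 F431145 F431063
theorem F518904 : act 6 n223332 = n209267 := d12_2 D202990 D223332 (iv5 D209267) (iv6 D136061) (iv5 F329156)
theorem F518905 : act 0 n223332 = n216226 := d17_2 F426538 D223332 F483413 F465715 F426236 (iv0 D117678) (iv5 D54207) D54206 D117675
theorem F518906 : act 1 n223332 = n213383 := d17_6 (iv1 F348685) (iv5 F404537) F468735 F468732 (iv4 F426537) D223332 (iv5 D213383) (iv0 F348674) (iv4 F267780)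
def n223333 : Q := act 7 n203012
theorem D223333 : act 7 n203012 = n223333 := rfl
theorem F518907 : act 2 n223333 = n212960 := d4_1 D223333 (iv7 D212960) (iv2 F426634)
theorem F518908 : act 3 n223333 = n203014 := d8_1 D223333 (iv7 D203014) (iv3 F426635)
theorem F518909 : act 4 n223333 = n212598 := d11_1 D223333 (iv7 F466622) (iv4 F426636)
theorem F518910 : act 5 n223333 = n222885 := d13_1 D223333 F516734 F516727
theorem F518911 : act 6 n223333 = n203085 := d14_1 D223333 F426913 (iv6 D151602) (iv7 F347772) D203012
theorem F518912 : act 1 n212949 = n223333 := d15_1 (iv0 F468277) (iv7 D223333) F426634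
theorem F518913 : act 1 n223333 = n212959 := d15_1 F518912 (iv7 F468321) (iv2 F468273)
def n223334 : Q := act 0 n203013
theorem D223334 : act 0 n203013 = n223334 := rfl
theorem F518914 : act 5 n223334 = n203716 := d17_3 F352600 D203013 D223334 F429523 F320612 F200303 (iv5 F85405) D117407 F352597
theorem F518915 : act 4 n223334 = n216225 := d18_1 D223334 (iv1 F485757) (iv4 F485759) (iv5 D203074) F184238 F183886 D202964 (iv0 F426409) D203013
theorem F518916 : act 6 n223334 = n222825 := d21_5 (iv5 F220036) F352703 D137473 (iv6 F426637) D223334 (iv5 D222825) F454627 (iv5 F485801) F485802 (iv1 F451874)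
theorem F518917 : act 2 n216226 = n223334 := d15_3 (iv0 D223334) (iv0 F485737) F485736
theorem F518918 : act 3 n223334 = n213301 := d0_2 (iv3 F483412) F518917 F469802 (iv3 F467027) F467026
theorem F518919 : act 7 n223334 = n213383 := d4_2 F485736 F518917 (iv2 F485732)
def n223335 : Q := act 4 n203013
theorem D223335 : act 4 n203013 = n223335 := rfl
theorem F518920 : act 6 n223335 = n209415 := d10_2 (iv6 F426637) D223335 F453606
theorem F518921 : act 5 n223335 = n214035 := d16_3 (iv4 F184133) D203013 D223335 (iv4 D214035) (iv5 D156225) (iv4 F245524) D214033 F473199 F418892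
def n223336 : Q := act 7 n203013
theorem D223336 : act 7 n203013 = n223336 := rfl
theorem F518922 : act 3 n223336 = n222885 := d8_1 D223336 F516734 F516733
theorem F518923 : act 5 n223336 = n203014 := d13_1 D223336 (iv7 D203014) D203013
theorem F518924 : act 6 n223336 = n216277 := d14_1 D223336 (iv7 F485717) F485716 F453916 (iv6 F426637)
theorem F518925 : act 1 n213383 = n223336 := d15_1 F518906 (iv7 D223336) (iv2 F518902)
theorem F518926 : act 1 n223336 = n216226 := d15_1 F518925 (iv7 F485736) F485732
def n223337 : Q := act 5 n203021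
theorem D223337 : act 5 n203021 = n223337 := rfl
theorem F518927 : act 2 n223337 = n203336 := d2_1 D223337 (iv5 D203336) (iv2 F426669)
theorem F518928 : act 3 n223337 = n203022 := d6_1 D223337 (iv5 D203022) D203021
theorem F518929 : act 4 n223337 = n203342 := d9_1 D223337 F427959 (iv4 F431085) (iv5 F490442) F490441 F375336 D201296 D222816 F516239 F427965 (iv4 F448780) (iv5 F510448) F510447 (iv5 D203463) (iv4 F426670)
theorem F518930 : act 6 n223337 = n216329 := d12_2 F488175 D223337 F483865 (iv6 F391332) (iv5 F488174)
theorem F518931 : act 7 n223337 = n203334 := d13_2 (iv7 F426671) D223337 (iv5 D203334)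
theorem F518932 : act 1 n223337 = n222887 := d17_6 (iv1 F419495) (iv5 F373017) F428421 (iv5 D203463) (iv4 F426670) D223337 (iv5 D222887) (iv0 F428003) (iv4 F428002)
def n223338 : Q := act 1 n203050
theorem D223338 : act 1 n203050 = n223338 := rfl
theorem F518933 : act 1 n223338 = n203062 := d15_1 D223338 (iv7 D203062) (iv2 F426783)
theorem F518934 : act 7 n223338 = n203059 := d15_2 (iv0 F426784) D223338 (iv2 F426828)
theorem F518935 : act 5 n223338 = n211288 := d17_7 (iv1 F317623) F238975 (iv1 F316803) (iv5 D117802) (iv4 F184218) D203050 D223338 F460980 F366078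
theorem F518936 : act 4 n223338 = n218663 := d17_9 (iv1 F495035) F485240 (iv1 D204118) F426781 D185276 F426782 (iv0 D203048) D203050 D223338
theorem F518937 : act 3 n213610 = n223338 := d19_19 (iv1 D223338) (iv5 D203050) F184218 F85601 D69500 D148266 F324847 F132048 D86097 F132050 (iv4 D58651) (iv3 F298650) F298649 (iv5 D27628) D27627 D57884 (iv1 F317085) (iv5 F431650) (iv4 F471285)
theorem F518938 : act 6 n220655 = n223338 := d21_9 (iv5 D203050) D203048 (iv5 F426782) F458966 (iv1 D210839) (iv6 F458950) (iv5 D210833) D210831 (iv5 F504820) (iv1 D223338)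
theorem F518939 : act 2 n223338 = n203060 := d0_1 F518937 (iv3 F426833) (iv2 F465793) (iv3 F471155) F471286
def n223339 : Q := act 7 n203050
theorem D223339 : act 7 n203050 = n223339 := rfl
theorem F518940 : act 2 n223339 = n203062 := d4_1 D223339 (iv7 D203062) (iv2 F426783)
theorem F518941 : act 3 n223339 = n204448 := d8_1 D223339 (iv7 F470532) F470535
theorem F518942 : act 4 n223339 = n216667 := d11_1 D223339 F485382 (iv4 F485161)
theorem F518943 : act 5 n223339 = n203051 := d13_1 D223339 (iv7 D203051) D203050
theorem F518944 : act 6 n223339 = n216667 := d14_1 D223339 F485382 (iv6 F500084) F500080 F455092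
theorem F518945 : act 1 n203060 = n223339 := d15_1 D203060 (iv7 D223339) F426783
theorem F518946 : act 1 n223339 = n203059 := d15_1 F518945 (iv7 F518934) F518939
def n223340 : Q := act 3 n203054
theorem D223340 : act 3 n203054 = n223340 := rfl
theorem F518947 : act 2 n223340 = n203322 := d0_1 D223340 (iv3 D203322) F186757 D118870 F426806
theorem F518948 : act 4 n223340 = n212049 := d5_2 (iv4 F426805) D223340 F499820 F499818 F465051
theorem F518949 : act 7 n223340 = n203383 := d8_2 (iv7 F426804) D223340 F428111
theorem F518950 : act 0 n223340 = n203382 := d20_4 (iv4 D191927) (iv1 F375916) (iv4 F426805) D223340 (iv3 F476002) F476003 F501023 F501020 F493557 (iv1 F493553)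
theorem F518951 : act 0 n203381 = n223340 := d20_4 F251057 (iv1 F206674) (iv4 F422951) (iv3 F428110) (iv3 D223340) F426805 (iv1 D189166) D189167 (iv3 F440484) (iv1 F440486)
def n223341 : Q := act 5 n203054
theorem D223341 : act 5 n203054 = n223341 := rfl
theorem F518952 : act 2 n223341 = n203389 := d2_1 D223341 (iv5 D203389) F426806
theorem F518953 : act 4 n223341 = n220097 := d9_1 D223341 F502104 F493552 F386319 F289386 (iv5 F352993) F352996 D210483 (iv4 F502097) F502096 F493560 (iv5 F484084) (iv4 D216377) F375918 (iv4 F426805)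
theorem F518954 : act 7 n223341 = n209817 := d13_2 (iv7 F426804) D223341 F455054
theorem F518955 : act 0 n223341 = n209219 := d17_2 (iv1 F453906) D223341 (iv5 D209219) F218755 D139557 (iv0 F374440) (iv5 F460733) F460731 (iv4 F453903)
theorem F518956 : act 1 n223341 = n209813 := d17_6 F157302 (iv5 F292708) F292705 F375918 (iv4 F426805) D223341 (iv5 D209813) F382836 (iv4 D191268)
def n223342 : Q := act 6 n203060
theorem D223342 : act 6 n203060 = n223342 := rfl
theorem F518957 : act 2 n223342 = n220655 := d3_1 D223342 F518938 F518939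
theorem F518958 : act 3 n223342 = n213760 := d7_1 D223342 F471967 F426833
theorem F518959 : act 4 n223342 = n219974 := d10_1 D223342 F501460 (iv4 F485231)
theorem F518960 : act 5 n223342 = n213169 := d12_1 D223342 F469302 (iv5 D155507) D155508 (iv5 F426832)
theorem F518961 : act 7 n223342 = n219973 := d14_2 (iv7 F426831) D223342 (iv6 D219973) (iv7 F475919) F475918
theorem F518962 : act 0 n223342 = n220153 := d21_4 F485560 F425082 (iv5 F426832) D223342 F502393 (iv5 F456218) F471886 F471885 F421396 D216708
theorem F518963 : act 1 n223342 = n220654 := d15_1 (iv0 F518962) (iv7 F504817) (iv2 F502391)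
def n223343 : Q := act 1 n203061
theorem D223343 : act 1 n203061 = n223343 := rfl
theorem F518964 : act 1 n223343 = n216667 := d15_1 D223343 F485382 F485160
theorem F518965 : act 7 n223343 = n214583 := d15_2 (iv0 F484300) D223343 (iv2 F484297)
theorem F518966 : act 5 n223343 = n212991 := d17_7 (iv1 F332471) (iv5 D179710) (iv1 F361500) (iv5 F430717) (iv4 F501986) F501987 D223343 F468494 (iv4 D204110)
theorem F518967 : act 4 n223343 = n214584 := d17_9 F501350 F501347 F427112 (iv5 F366939) D193819 D220505 F504098 F501987 D223343
def n223344 : Q := act 7 n203061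
theorem D223344 : act 7 n203061 = n223344 := rfl
theorem F518968 : act 2 n223344 = n216667 := d4_1 D223344 F485382 F485160
theorem F518969 : act 3 n223344 = n203073 := d8_1 D223344 (iv7 F452787) F452785
theorem F518970 : act 4 n223344 = n203062 := d11_1 D223344 (iv7 D203062) D203061
theorem F518971 : act 5 n223344 = n204113 := d13_1 D223344 (iv7 F501990) F501987
theorem F518972 : act 6 n223344 = n203062 := d14_1 D223344 (iv7 D203062) (iv6 F365479) (iv7 F452776) F452778
theorem F518973 : act 0 n214583 = n223344 := d21_4 (iv5 D184447) (iv1 F290216) (iv5 F332658) (iv6 F475908) F518972 F426835 (iv1 F426776) F426780 (iv6 F421396) (iv1 F382969)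
def n223345 : Q := act 5 n203073
theorem D223345 : act 5 n203073 = n223345 := rfl
theorem F518974 : act 3 n223345 = n204113 := d6_1 D223345 (iv5 F518971) F518969
theorem F518975 : act 6 n223345 = n203074 := d12_2 D203073 D223345 (iv5 D203074) (iv6 D117647) (iv5 F184236)
theorem F518976 : act 7 n223345 = n220436 := d13_2 F452787 D223345 F503772
theorem F518977 : act 0 n223345 = n213334 := d18_0 (iv4 F469971) (iv1 D210589) D210590 (iv5 F484520) F484521 (iv0 F473276) F473273 F455081 D223345
def n223346 : Q := act 4 n203076
theorem D223346 : act 4 n203076 = n223346 := rfl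
theorem F518978 : act 3 n223346 = n220079 := d5_1 D223346 F502000 F388112 (iv4 F388133) (iv3 F426891)
theorem F518979 : act 7 n223346 = n220078 := d11_2 (iv7 F426892) D223346 F501998
theorem F518980 : act 0 n223346 = n223324 := d18_2 (iv1 F470008) D223346 F518855 F483480 F426462 F393547 (iv4 F465303) F465305 (iv5 F470006)
theorem F518981 : act 6 n217318 = n223346 := d21_3 F372659 (iv1 F489921) F489919 F518980 (iv6 D223324) F426191 (iv1 F250276) (iv5 F368838) D217216 F487981
def n223347 : Q := act 6 n203076
theorem D223347 : act 6 n203076 = n223347 := rfl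
theorem F518982 : act 3 n223347 = n220083 := d7_1 D223347 (iv6 D220083) (iv3 F426891)
theorem F518983 : act 4 n223347 = n217318 := d10_1 D223347 F518981 (iv4 D223346)
theorem F518984 : act 7 n223347 = n220887 := d14_2 (iv7 F426892) D223347 (iv6 D220887) F394467 (iv6 F388127)
theorem F518985 : act 0 n223347 = n209403 := d21_4 (iv5 D117650) D117648 D203076 D223347 (iv6 F483597) (iv5 F518418) F518419 F464239 F464240 (iv1 D203081)
theorem F518986 : act 0 n209402 = n223347 := d18_0 F518983 (iv1 F488405) (iv4 F458355) (iv5 D209599) (iv4 F446144) F445842 (iv4 F388490) F388493 D209402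
def n223348 : Q := act 4 n203079
theorem D223348 : act 4 n203079 = n223348 := rfl
theorem F518987 : act 2 n223348 = n220078 := d1_1 D223348 F501998 (iv2 F426896)
theorem F518988 : act 6 n223348 = n208532 := d10_2 (iv6 F426897) D223348 (iv4 D208532)
theorem F518989 : act 1 n223348 = n223324 := d18_6 (iv1 F449353) (iv4 F473201) F473202 F352620 D203079 D223348 F518855 F483483 (iv5 F470196)
theorem F518990 : act 3 n223348 = n220073 := d19_3 (iv1 F426405) D203079 D223348 F501978 F483531 D216634 F485279 (iv1 F471338) D220058 F501903 F481898 (iv1 D202434) F353305 (iv4 D84856) F327745 F168778 D197975 D222003 F511849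
def n223349 : Q := act 4 n203080
theorem D223349 : act 4 n203080 = n223349 := rfl
theorem F518991 : act 3 n223349 = n212991 := d5_1 D223349 (iv4 D212991) F366583 D193395 (iv3 F473512)
theorem F518992 : act 1 n223349 = n223335 := d18_6 F464949 F464946 (iv1 F393550) D220777 F505478 D223349 (iv4 D223335) (iv0 F485737) F485734
def n223350 : Q := act 4 n203081
theorem D223350 : act 4 n203081 = n223350 := rfl
theorem F518993 : act 3 n223350 = n216137 := d5_1 D223350 (iv4 F501546) F501543 (iv4 D217194) (iv3 F426899)
theorem F518994 : act 6 n223350 = n216136 := d10_2 F464240 D223350 F483137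
theorem F518995 : act 5 n223350 = n219352 := d16_1 D223350 (iv4 F517340) F517339 F426977 F393552 D220777 F505478 (iv7 F518873) F518877
theorem F518996 : act 0 n223350 = n223335 := d18_2 (iv1 F518882) D223350 (iv4 D223335) (iv5 D203013) F184133 (iv0 F364334) F352620 F426405 (iv5 F518881)
def n223351 : Q := act 6 n203089
theorem D223351 : act 6 n203089 = n223351 := rfl
theorem F518997 : act 2 n223351 = n213596 := d3_1 D223351 F518836 (iv2 F518833)
theorem F518998 : act 3 n223351 = n203093 := d7_1 D223351 (iv6 D203093) (iv3 F426920)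
theorem F518999 : act 4 n223351 = n216658 := d10_1 D223351 F485351 F480004
theorem F519000 : act 5 n223351 = n222270 := d12_1 D223351 (iv6 D222270) F426924 (iv6 D203090) D203089
theorem F519001 : act 7 n223351 = n216527 := d14_2 (iv7 F499216) D223351 (iv6 D216527) (iv7 F383967) D219509
theorem F519002 : act 0 n223351 = n216594 := d21_4 F504768 F426926 D203089 D223351 (iv6 F491112) (iv5 D217890) (iv1 D188104) D188106 D217894 F504770
theorem F519003 : act 0 n216593 = n223351 := d21_4 (iv5 F283651) D216224 (iv5 F484495) (iv6 F485105) (iv6 D223351) (iv5 D203089) F369058 (iv5 F485952) (iv6 D216797) (iv1 D185498)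
def n223352 : Q := act 6 n203092
theorem D223352 : act 6 n203092 = n223352 := rfl
theorem F519004 : act 3 n223352 = n204471 := d7_1 D223352 (iv6 D204471) F426932
theorem F519005 : act 5 n223352 = n208835 := d12_1 D223352 (iv6 D208835) F217359 F364973 (iv5 F426931)
theorem F519006 : act 7 n223352 = n208837 := d14_2 F428945 D223352 F451061 F217365 (iv6 F428944)
theorem F519007 : act 0 n223352 = n209551 := d21_4 (iv5 D203507) F355071 (iv5 F426931) D223352 (iv6 D209551) F219671 (iv1 F167838) D156767 (iv6 F464006) F464009
def n223353 : Q := act 6 n203098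
theorem D223353 : act 6 n203098 = n223353 := rfl
theorem F519008 : act 2 n223353 = n213410 := d3_1 D223353 F470274 (iv2 F470195)
theorem F519009 : act 3 n223353 = n216252 := d7_1 D223353 (iv6 D216252) (iv3 F426958)
theorem F519010 : act 4 n223353 = n216264 := d10_1 D223353 (iv6 D216264) (iv4 F426959)
theorem F519011 : act 5 n223353 = n222288 := d12_1 D223353 (iv6 D222288) (iv5 F426962) (iv6 D203099) D203098
def n223354 : Q := act 4 n203101
theorem D223354 : act 4 n203101 = n223354 := rfl
theorem F519012 : act 2 n223354 = n213404 := d1_1 D223354 F470255 F449478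
theorem F519013 : act 3 n223354 = n203191 := d5_1 D223354 (iv4 F501161) F501159 F470279 (iv3 F469816)
theorem F519014 : act 5 n223354 = n216455 := d9_2 D203101 D223354 F484458 (iv5 F481805) (iv4 D203100) (iv5 D117671) D117670 D203098 F426959 F283696 (iv4 F363548) (iv5 D139643) F101271 F318281 D117675
theorem F519015 : act 6 n223354 = n203189 := d10_2 F443336 D223354 (iv4 F443338)
theorem F519016 : act 7 n223354 = n216263 := d11_2 F470194 D223354 F483544
theorem F519017 : act 0 n223354 = n216262 := d17_0 F483540 F392065 (iv5 F329966) (iv4 F485733) F485734 (iv0 D203715) (iv5 F427392) (iv0 F427393) D223354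
theorem F519018 : act 1 n223354 = n216261 := d18_6 (iv1 F426406) F426403 (iv1 F183887) D117675 D203101 D223354 (iv4 F487511) F487514 (iv5 D203076)
def n223355 : Q := act 5 n203102
theorem D223355 : act 5 n203102 = n223355 := rfl
theorem F519019 : act 2 n223355 = n212893 := d2_1 D223355 (iv5 D212893) (iv2 F426971)
theorem F519020 : act 4 n223355 = n216463 := d9_1 D223355 F484494 F470167 (iv5 D213383) F348676 F318400 (iv4 F221880) (iv5 F363546) F287751 (iv5 F283651) D216226 F483413 F465715 F426236 D203102
theorem F519021 : act 6 n223355 = n213856 := d12_2 (iv6 F426972) D223355 (iv5 D213856) (iv6 F407949) (iv5 F425949)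
theorem F519022 : act 7 n223355 = n213194 := d13_2 (iv7 F426973) D223355 (iv5 D213194)
theorem F519023 : act 0 n223355 = n216779 := d17_2 (iv1 F426975) D223355 F485898 F458653 (iv5 F364631) (iv0 F348684) D194521 (iv0 F468734) F468731
theorem F519024 : act 1 n223355 = n213227 := d17_6 (iv1 F222854) F349396 D202930 F426236 D203102 D223355 F469494 F458658 F222816
def n223356 : Q := act 0 n203105
theorem D223356 : act 0 n203105 = n223356 := rfl
theorem F519025 : act 5 n223356 = n210782 := d17_1 D223356 (iv1 F458773) F433014 F433011 (iv5 F483540) (iv0 F519017) F519014 F484461 (iv4 F458685)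
theorem F519026 : act 2 n213189 = n223356 := d15_3 (iv0 D223356) (iv0 F517605) F517604
theorem F519027 : act 1 n213192 = n223356 := d15_0 (iv0 D223356) F426989 (iv2 F469387)
theorem F519028 : act 7 n223356 = n213190 := d15_2 F517606 F519027 (iv2 F517601)
def n223357 : Q := act 6 n203105
theorem D223357 : act 6 n203105 = n223357 := rfl
theorem F519029 : act 2 n223357 = n213184 := d3_1 D223357 F469364 (iv2 F426988)
theorem F519030 : act 4 n223357 = n216593 := d10_1 D223357 F485105 (iv4 F458685)
theorem F519031 : act 5 n223357 = n203111 := d12_1 D223357 (iv6 D203111) (iv5 D117685) (iv6 F184273) D203105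
theorem F519032 : act 0 n223357 = n222370 := d21_4 F517347 (iv1 D203104) D203105 D223357 F513843 F500654 (iv1 F423263) D223118 F517740 (iv1 F517345)
theorem F519033 : act 0 n213960 = n223357 := d21_4 (iv5 F359528) (iv1 F245262) (iv5 F245336) D213960 (iv6 D223357) (iv5 D203105) D203103 (iv5 F517339) F517341 F472404
def n223358 : Q := act 6 n203108
theorem D223358 : act 6 n203108 = n223358 := rfl
theorem F519034 : act 2 n223358 = n213969 := d3_1 D223358 (iv6 D213969) (iv2 F427003)
theorem F519035 : act 3 n223358 = n203109 := d7_1 D223358 (iv6 D203109) D203108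
theorem F519036 : act 4 n223358 = n206351 := d10_1 D223358 (iv6 D206351) (iv4 F427000)
theorem F519037 : act 5 n223358 = n213927 := d12_1 D223358 F502922 (iv5 D215796) F469431 F469428
theorem F519038 : act 7 n223358 = n221560 := d14_2 (iv7 F427001) D223358 (iv6 D221560) (iv7 F422776) (iv6 F422780)
theorem F519039 : act 0 n223358 = n208523 := d21_4 (iv5 F433025) F469430 F469428 D223358 F449728 (iv5 F433518) F433520 (iv5 F479025) (iv6 F502609) F502611
def n223359 : Q := act 5 n203109
theorem D223359 : act 5 n203109 = n223359 := rfl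
theorem F519040 : act 2 n223359 = n203609 := d2_1 D223359 (iv5 D203609) (iv2 F427005)
theorem F519041 : act 3 n223359 = n213927 := d6_1 D223359 (iv5 F519037) F519035
theorem F519042 : act 6 n223359 = n223048 := d12_2 D203109 D223359 F517425 (iv6 D213204) F240002
theorem F519043 : act 7 n223359 = n223112 := d13_2 (iv7 F427007) D223359 (iv5 D223112)
theorem F519044 : act 4 n223359 = n223049 := d16_2 (iv4 F427006) D223359 F517430 F481593 (iv5 D204159) (iv4 F276301) (iv5 F349464) (iv7 F403386) F403383
theorem F519045 : act 0 n223359 = n223207 := d17_2 F427009 D223359 (iv5 D223207) (iv4 D202480) F313691 (iv0 D74857) D74859 D157411 (iv4 F423141)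
theorem F519046 : act 1 n223359 = n222035 := d17_6 (iv1 F458973) F458975 (iv1 D208217) F215322 (iv4 F427006) D223359 F512005 F458995 F458993
def n223360 : Q := act 0 n203111
theorem D223360 : act 0 n203111 = n223360 := rfl
theorem F519047 : act 6 n223360 = n223008 := d21_5 F240002 (iv1 D117684) D117685 D203111 D223360 F517228 (iv1 F458757) F458754 (iv6 D152816) (iv1 F240000)
theorem F519048 : act 2 n213182 = n223360 := d3_3 F519047 F517225 F481495
theorem F519049 : act 3 n223011 = n223360 := d7_3 F519047 F517226 D223011
theorem F519050 : act 7 n213183 = n223360 := d14_0 F519047 (iv7 D223008) (iv6 F498928) F498929 F472795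
theorem F519051 : act 0 n223360 = n213185 := d21_4 (iv5 D223202) (iv1 F458758) (iv5 F517228) (iv6 F519047) (iv6 F485440) (iv5 F485443) (iv1 F473822) D215941 (iv6 F482189) (iv1 F518163)
def n223361 : Q := act 1 n203111
theorem D223361 : act 1 n203111 = n223361 := rfl
theorem F519052 : act 1 n223361 = n213185 := d15_1 D223361 (iv7 D213185) (iv2 F427014)
theorem F519053 : act 7 n223361 = n213182 := d15_2 (iv0 D223360) D223361 F519048
theorem F519054 : act 3 n208860 = n223361 := d19_19 (iv1 D223361) (iv5 F519031) F519030 (iv3 F500641) (iv1 F500643) (iv5 D215939) F278675 (iv3 F278667) F416263 F469447 (iv4 F469446) F456653 D210240 (iv5 F498909) F498906 F383556 D191491 F383563 D208860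
theorem F519055 : act 4 n219451 = n223361 := d20_6 (iv4 D220471) (iv1 F390912) F157159 (iv3 F285712) (iv1 F483463) (iv3 F498938) (iv1 D223361) F481480 D216693 (iv1 F503931)
theorem F519056 : act 6 n223361 = n219450 := d10_2 D219451 F519055 (iv4 D219450)
theorem F519057 : act 2 n213183 = n223361 := d3_3 F519056 F498933 F472795
def n223362 : Q := act 7 n203111
theorem D223362 : act 7 n203111 = n223362 := rfl
theorem F519058 : act 2 n223362 = n213185 := d4_1 D223362 (iv7 D213185) (iv2 F427014)
theorem F519059 : act 4 n223362 = n216447 := d11_1 D223362 F484414 (iv4 F481480)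
theorem F519060 : act 6 n223362 = n203625 := d14_1 D223362 (iv7 D203625) (iv6 D119641) (iv7 F184290) D203111
theorem F519061 : act 1 n213183 = n223362 := d15_1 D213183 (iv7 D223362) F427014
theorem F519062 : act 1 n223362 = n213182 := d15_1 F519061 (iv7 F519053) (iv2 F519057)
def n223363 : Q := act 0 n203115
theorem D223363 : act 0 n203115 = n223363 := rfl
theorem F519063 : act 5 n223363 = n220356 := d19_1 D223363 F503363 F503364 F503257 (iv5 F485126) (iv4 D216599) F287405 F356422 (iv5 D98165) F72423 (iv3 F127112) (iv1 F335723) D89361 D186891 (iv3 F464025) (iv1 F464028) F427233 (iv4 F421163) (iv3 F427033)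
theorem F519064 : act 3 n223363 = n217101 := d20_5 (iv4 D201605) (iv1 F421106) (iv4 F421163) (iv3 F427033) D223363 F487421 F453529 (iv4 F510417) F510416 (iv1 F421113)
theorem F519065 : act 2 n203123 = n223363 := d0_5 F519064 F487420 F453716 (iv2 F450543) F457038
theorem F519066 : act 7 n203124 = n223363 := d8_0 F519064 (iv7 D217101) (iv3 F427059)
theorem F519067 : act 0 n223363 = n203126 := d20_4 (iv4 D204483) D204481 (iv4 F487421) (iv3 F519064) (iv3 F518468) F518469 F499460 F491270 (iv3 F478285) F478287
def n223364 : Q := act 1 n203115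
theorem D223364 : act 1 n203115 = n223364 := rfl
theorem F519068 : act 1 n223364 = n203126 := d15_1 D223364 (iv7 D203126) (iv2 F427032)
theorem F519069 : act 7 n223364 = n203123 := d15_2 (iv0 D223363) D223364 F519065
theorem F519070 : act 3 n203776 = n223364 := d20_3 (iv4 F434649) F434650 F429769 (iv1 D223364) F427033 F421163 (iv1 D201601) D201602 F424978 F424976
theorem F519071 : act 5 n221770 = n223364 := d21_0 (iv1 D223364) F454884 F454889 F453518 (iv6 D209387) D209386 (iv1 F457669) (iv5 D210468) D210469 F510760
theorem F519072 : act 6 n216664 = n223364 := d21_3 (iv5 D191140) (iv1 F289236) (iv5 F485370) (iv1 D223364) (iv6 D203115) (iv5 D117687) F85540 (iv5 F105069) D146942 (iv1 F382390)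
theorem F519073 : act 2 n223364 = n203124 := d3_1 F519072 (iv6 F427058) (iv2 F485369)
def n223365 : Q := act 7 n203115
theorem D223365 : act 7 n203115 = n223365 := rfl
theorem F519074 : act 2 n223365 = n203126 := d4_1 D223365 (iv7 D203126) (iv2 F427032)
theorem F519075 : act 3 n223365 = n212986 := d8_1 D223365 F468472 (iv3 F427033)
theorem F519076 : act 4 n223365 = n207788 := d11_1 D223365 F446446 F439265
theorem F519077 : act 5 n223365 = n219705 := d13_1 D223365 F500161 (iv5 F454884)
theorem F519078 : act 6 n223365 = n203752 := d14_1 D223365 F429691 (iv6 D148106) (iv7 F184294) D203115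
theorem F519079 : act 1 n203124 = n223365 := d15_1 D203124 (iv7 D223365) F427032
theorem F519080 : act 1 n223365 = n203123 := d15_1 F519079 (iv7 F519069) F519073
def n223366 : Q := act 6 n203121
theorem D223366 : act 6 n203121 = n223366 := rfl
theorem F519081 : act 2 n223366 = n222914 := d3_1 D223366 F516742 F453764
theorem F519082 : act 3 n223366 = n203122 := d7_1 D223366 (iv6 D203122) D203121
theorem F519083 : act 4 n223366 = n220139 := d10_1 D223366 F502319 F452468
theorem F519084 : act 7 n223366 = n220136 := d14_2 (iv7 F427056) D223366 (iv6 D220136) (iv7 F446416) F446420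
theorem F519085 : act 1 n223366 = n210300 := d15_0 (iv0 F516354) (iv7 F516743) (iv2 F519081)
def n223367 : Q := act 4 n203123
theorem D223367 : act 4 n203123 = n223367 := rfl
theorem F519086 : act 3 n223367 = n212412 := d5_1 D223367 (iv4 F504230) F504229 (iv4 F482528) F457038
theorem F519087 : act 6 n223367 = n206690 := d10_2 (iv6 F457037) D223367 F450541
theorem F519088 : act 0 n223367 = n207033 := d18_2 D203123 D223367 (iv4 F483973) F483974 (iv4 F507154) (iv0 D221086) (iv4 F454869) (iv0 F454871) (iv5 D203125)
theorem F519089 : act 5 n223367 = n212411 := d18_4 F486992 F427057 D203123 D223367 F465693 (iv0 F470719) (iv4 F516643) (iv0 F516644) (iv5 F486994)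
theorem F519090 : act 1 n223367 = n222770 := d18_6 F454086 F452552 (iv1 F510738) F510741 (iv5 F489715) D223367 F515990 (iv0 F465377) (iv5 D210195)
def n223368 : Q := act 4 n203124
theorem D223368 : act 4 n203124 = n223368 := rfl
theorem F519091 : act 3 n223368 = n207047 := d5_1 D223368 (iv4 F449779) (iv3 F487408) F487409 (iv3 F427059)
theorem F519092 : act 6 n223368 = n216790 := d10_2 F427058 D223368 F485929
theorem F519093 : act 0 n223368 = n222770 := d18_2 (iv1 F519079) D223368 F515990 F465375 (iv4 F507072) (iv0 F507075) F461652 (iv0 F500162) (iv5 F519077)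
theorem F519094 : act 1 n223368 = n207033 := d18_6 (iv1 F500400) F452526 F456479 F456478 F453710 D223368 (iv4 F483973) F486997 (iv5 F500398)
def n223369 : Q := act 5 n203130
theorem D223369 : act 5 n203130 = n223369 := rfl
theorem F519095 : act 2 n223369 = n220643 := d2_1 D223369 F504768 (iv2 F427073)
theorem F519096 : act 3 n223369 = n216973 := d6_1 D223369 (iv5 D216973) (iv3 F427074)
theorem F519097 : act 6 n223369 = n220595 := d12_2 D203130 D223369 (iv5 D220595) (iv6 D193967) F349490
theorem F519098 : act 7 n223369 = n216797 := d13_2 (iv7 F427076) D223369 F485952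
theorem F519099 : act 4 n223369 = n215915 := d16_2 (iv4 F427075) D223369 (iv5 D215915) (iv4 D178481) (iv5 D84936) (iv4 F115116) (iv5 F310777) (iv7 F427041) F427037
theorem F519100 : act 0 n223369 = n212434 := d17_2 F427078 D223369 (iv5 D212434) F357743 (iv5 F341983) F380179 (iv5 F478796) F478794 (iv4 F426631)
theorem F519101 : act 1 n223369 = n212433 := d17_6 D68866 D146910 F427085 (iv5 D203131) (iv4 F427075) D223369 (iv5 D212433) (iv0 D146905) F105055
def n223370 : Q := act 4 n203134
theorem D223370 : act 4 n203134 = n223370 := rfl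
theorem F519102 : act 2 n223370 = n212596 := d1_1 D223370 (iv4 D212596) (iv2 F427098)
theorem F519103 : act 3 n223370 = n216412 := d5_1 D223370 (iv4 F498465) F498464 F390320 (iv3 F427099)
theorem F519104 : act 5 n223370 = n216595 := d9_2 D203134 D223370 (iv4 D216595) F341093 F221788 D138671 F335048 (iv5 F465703) (iv4 F492782) (iv5 F492785) (iv4 D216596) (iv5 F363385) F185940 (iv5 F182660) (iv4 F184398)
theorem F519105 : act 7 n223370 = n218211 := d11_2 (iv7 F427100) D223370 F492742
theorem F519106 : act 0 n223370 = n221002 := d18_2 F504618 D223370 (iv4 D221002) (iv5 D195216) F235253 (iv0 F353440) F319649 (iv0 F396330) (iv5 F504616)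
theorem F519107 : act 1 n223370 = n210105 := d18_6 F420833 F339442 F341088 (iv4 F184398) D203134 D223370 F456177 F396358 (iv5 F420830)
def n223371 : Q := act 0 n203139
theorem D223371 : act 0 n203139 = n223371 := rfl
theorem F519108 : act 4 n223371 = n212548 := d18_3 (iv1 F458211) F458215 D223371 F466370 (iv4 F471436) (iv0 F480554) F480552 F458268 F458267
theorem F519109 : act 3 n223371 = n209635 := d20_5 D193522 (iv1 F408231) F408228 (iv3 F427119) D223371 F454411 F390111 F390109 F156802 D101850
theorem F519110 : act 5 n223371 = n222808 := d21_2 F427122 D223371 F516189 (iv1 D208600) F364851 (iv5 D91018) (iv1 F294138) D46286 D98914 (iv1 F427121)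
theorem F519111 : act 6 n223371 = n209634 := d21_5 F385887 (iv1 D117779) D117781 D203139 D223371 F454408 F391841 (iv5 D136150) D136151 (iv1 F385885)
theorem F519112 : act 1 n204798 = n223371 := d15_0 (iv0 D223371) (iv7 F458245) F458244
theorem F519113 : act 2 n211616 = n223371 := d3_3 F519111 (iv2 F456371) (iv6 F462395)
theorem F519114 : act 7 n211617 = n223371 := d15_2 (iv0 D211616) D211617 (iv2 F519113)
def n223372 : Q := act 1 n203139
theorem D223372 : act 1 n203139 = n223372 := rfl
theorem F519115 : act 1 n223372 = n204798 := d15_1 D223372 F433625 (iv2 F427118)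
theorem F519116 : act 7 n223372 = n211616 := d15_2 (iv0 D223371) D223372 F519113
theorem F519117 : act 4 n223372 = n220493 := d17_9 F504043 F471321 (iv1 D213619) (iv5 F466415) (iv4 F500352) F500353 F482519 F427122 D223372
theorem F519118 : act 3 n209678 = n223372 := d19_19 (iv1 D223372) (iv5 F427122) (iv4 F493479) (iv3 D218356) D218355 (iv5 F500794) F500792 (iv3 F500762) (iv1 F514948) (iv5 D222564) F415475 (iv3 D178363) (iv1 F334703) F334705 (iv4 F277702) (iv3 F433203) (iv1 F433207) D215782 F481552
theorem F519119 : act 6 n223372 = n217291 := d7_2 (iv6 F483576) F519118 (iv3 F488308)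
theorem F519120 : act 2 n211617 = n223372 := d1_3 F519117 F504040 (iv4 F485465)
def n223373 : Q := act 0 n203149
theorem D223373 : act 0 n203149 = n223373 := rfl
theorem F519121 : act 5 n223373 = n222860 := d17_3 F475548 (iv5 F427174) D223373 F516462 (iv5 F443941) (iv0 F490203) F490201 F475077 (iv4 F475547)
theorem F519122 : act 4 n223373 = n221906 := d18_1 D223373 (iv1 F511327) (iv4 F518457) F518458 (iv4 F515993) (iv0 D222771) (iv4 F469018) (iv0 F469020) (iv5 F427174)
theorem F519123 : act 6 n223373 = n203959 := d21_5 F368971 (iv1 F157471) (iv5 F369029) (iv6 F427175) D223373 (iv5 F500789) (iv1 F500790) F486899 (iv6 D187062) D187059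
theorem F519124 : act 1 n212338 = n223373 := d15_0 (iv0 D223373) F427176 (iv2 F465383)
theorem F519125 : act 2 n212342 = n223373 := d3_3 F519123 (iv2 F430592) F465403
theorem F519126 : act 7 n212341 = n223373 := d14_0 F519123 (iv7 F430593) (iv6 F510307) F510304 (iv6 F465399)
def n223374 : Q := act 1 n203149
theorem D223374 : act 1 n203149 = n223374 := rfl
theorem F519127 : act 1 n223374 = n212338 := d15_1 D223374 F465386 (iv2 F427173)
theorem F519128 : act 7 n223374 = n212342 := d15_2 (iv0 D223373) D223374 F519125
theorem F519129 : act 4 n223374 = n216285 := d17_9 F483637 F480499 (iv1 F447591) (iv5 F477830) (iv4 F492324) F492325 (iv0 F469020) (iv5 F427174) D223374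
theorem F519130 : act 3 n208290 = n223374 := d19_19 (iv1 D223374) F427174 F387583 F375394 F427797 F427795 F359568 F359590 F160058 (iv5 F365792) (iv4 D88919) (iv3 F136460) D186612 F370476 F370474 F251648 F251567 (iv5 F251566) (iv4 F448762)
theorem F519131 : act 6 n208288 = n223374 := d21_3 (iv5 F445232) (iv1 F445235) D208288 (iv1 D223374) F427175 F369029 (iv1 F157475) (iv5 F368980) (iv6 F391591) (iv1 F391638)
theorem F519132 : act 5 n220039 = n223374 := d21_6 (iv5 D191592) (iv1 D98577) (iv5 F74127) D100576 D192740 D220039 (iv1 D223374) F427174 (iv6 D192710) (iv1 F383917)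
theorem F519133 : act 2 n223374 = n212341 := d3_1 F519131 F465399 (iv2 F448756)
def n223375 : Q := act 5 n203171
theorem D223375 : act 5 n203171 = n223375 := rfl
theorem F519134 : act 3 n223375 = n203172 := d6_1 D223375 (iv5 D203172) D203171
theorem F519135 : act 7 n223375 = n212807 := d13_2 (iv7 F427295) D223375 (iv5 D212807)
theorem F519136 : act 0 n223375 = n213356 := d17_2 F501102 D223375 (iv5 D213356) F407039 F407036 (iv0 F450697) (iv5 F393851) D220824 (iv4 F505729)
theorem F519137 : act 1 n223375 = n213357 := d17_6 (iv1 D126161) D126162 D205496 F436710 (iv4 F427294) D223375 (iv5 D213357) F436708 (iv4 D205495)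
def n223376 : Q := act 5 n203176
theorem D223376 : act 5 n203176 = n223376 := rfl
theorem F519138 : act 2 n223376 = n203201 := d2_1 D223376 (iv5 D203201) (iv2 F427317)
theorem F519139 : act 3 n223376 = n210045 := d6_1 D223376 (iv5 F487941) (iv3 F487943)
theorem F519140 : act 6 n223376 = n210044 := d12_2 (iv6 F427318) D223376 F455899 (iv6 F233294) (iv5 F426196)
theorem F519141 : act 4 n223376 = n203231 := d16_2 D203176 D223376 F427482 F185778 F86004 (iv4 F85998) (iv5 F185742) (iv7 D118204) (iv2 F185687)
theorem F519142 : act 1 n223376 = n211660 := d17_6 D179755 F279975 (iv1 D118171) D118172 D203176 D223376 (iv5 F469977) F469978 (iv4 D179757)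
theorem F519143 : act 7 n203229 = n223376 := d11_0 F519141 (iv7 D203231) D203229
def n223377 : Q := act 7 n203176
theorem D223377 : act 7 n203176 = n223377 := rfl
theorem F519144 : act 2 n223377 = n203202 := d4_1 D223377 (iv7 D203202) (iv2 F427317)
theorem F519145 : act 3 n223377 = n220358 := d8_1 D223377 F503379 (iv3 F487943)
theorem F519146 : act 4 n223377 = n203177 := d11_1 D223377 (iv7 D203177) D203176
theorem F519147 : act 5 n223377 = n203229 := d13_1 D223377 F519143 (iv5 D223376)
theorem F519148 : act 1 n203199 = n223377 := d15_1 D203199 (iv7 D223377) F427317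
theorem F519149 : act 1 n223377 = n203198 := d15_1 F519148 (iv7 F469992) F469989
def n223378 : Q := act 4 n203181
theorem D223378 : act 4 n203181 = n223378 := rfl
theorem F519150 : act 2 n223378 = n203229 := d1_1 D223378 (iv4 D203229) (iv2 F427338)
theorem F519151 : act 5 n223378 = n203202 := d9_2 D203181 D223378 F427390 F185742 F85998 (iv5 F86004) (iv4 F185778) (iv5 F427482) (iv4 F519141) (iv5 D223376) (iv4 D203176) (iv5 D118172) F85981 D54442 D118181
theorem F519152 : act 0 n223378 = n211660 := d17_0 (iv5 F469977) F488092 F488090 F452828 (iv5 D179943) (iv0 F322290) D195499 (iv0 F427339) D223378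
theorem F519153 : act 7 n223378 = n203201 := d15_2 F519142 (iv0 F519152) (iv2 F519138)
def n223379 : Q := act 7 n203181
theorem D223379 : act 7 n203181 = n223379 := rfl
theorem F519154 : act 2 n223379 = n203231 := d4_1 D223379 (iv7 D203231) (iv2 F427338)
theorem F519155 : act 3 n223379 = n223113 := d8_1 D223379 F517712 F510861
theorem F519156 : act 4 n223379 = n203201 := d11_1 D223379 (iv7 F519153) (iv4 D223378)
theorem F519157 : act 5 n223379 = n203182 := d13_1 D223379 (iv7 D203182) D203181
theorem F519158 : act 6 n223379 = n211564 := d14_1 D223379 F462160 D221132 F507376 (iv6 F438420)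
theorem F519159 : act 1 n203228 = n223379 := d15_1 D203228 (iv7 D223379) F427338
theorem F519160 : act 1 n223379 = n203227 := d15_1 F519159 (iv7 F446977) (iv2 F446981)
def n223380 : Q := act 0 n203183
theorem D223380 : act 0 n203183 = n223380 := rfl
theorem F519161 : act 5 n223380 = n221838 := d17_3 (iv1 F471694) F464151 D223380 (iv4 D221838) (iv5 D197383) D197382 D221834 F510979 F470104
theorem F519162 : act 4 n223380 = n209843 := d18_1 D223380 F507014 F507012 (iv5 F438449) (iv4 F510969) F510970 (iv4 F514628) F514629 F464151
theorem F519163 : act 3 n223380 = n211936 := d20_5 (iv4 D72590) F86525 (iv4 F185717) D203183 D223380 F463648 F386669 F187731 (iv3 D118265) (iv1 F109120)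
theorem F519164 : act 2 n203247 = n223380 := d15_3 (iv0 D223380) (iv0 F512419) F512418
theorem F519165 : act 1 n203248 = n223380 := d15_0 (iv0 D223380) F427346 D203248
theorem F519166 : act 7 n223380 = n203246 := d15_2 (iv0 F512420) F519165 (iv2 F512415)
theorem F519167 : act 6 n211935 = n223380 := d21_3 F456442 F484827 F484823 (iv1 F519165) F427529 (iv5 D127091) F163623 F344619 D137784 D210168
def n223381 : Q := act 0 n203188
theorem D223381 : act 0 n203188 = n223381 := rfl
theorem F519168 : act 5 n223381 = n221090 := d19_1 D223381 F507172 F455121 (iv1 F394268) F375253 F364098 (iv3 F391039) (iv1 F485450) (iv5 D193068) D193067 (iv3 F409112) F409113 D216026 (iv4 F512409) (iv3 F512410) (iv1 D203247) D203249 (iv4 F472215) (iv3 F472216)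
theorem F519169 : act 6 n223381 = n216533 := d21_5 F228095 (iv1 D118184) D118186 D203188 D223381 (iv5 D216533) (iv1 F386764) F386768 (iv6 D145124) D145121
theorem F519170 : act 2 n203254 = n223381 := d15_3 (iv0 D223381) (iv0 F427368) F464786
theorem F519171 : act 7 n223381 = n203255 := d4_2 F464786 F519170 F438448
theorem F519172 : act 1 n203256 = n223381 := d15_1 F427538 F519171 F438448
def n223382 : Q := act 7 n203188
theorem D223382 : act 7 n203188 = n223382 := rfl
theorem F519173 : act 2 n223382 = n203256 := d4_1 D223382 (iv7 D203256) (iv2 F427367)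
theorem F519174 : act 4 n223382 = n212044 := d11_1 D223382 F464110 F427506
theorem F519175 : act 5 n223382 = n221132 := d13_1 D223382 F507376 F438418
theorem F519176 : act 6 n223382 = n213818 := d14_1 D223382 (iv7 D213818) (iv6 D155892) (iv7 F185728) D203188
theorem F519177 : act 1 n203255 = n223382 := d15_1 D203255 (iv7 D223382) F427367
theorem F519178 : act 1 n223382 = n203254 := d15_1 F519177 (iv7 F464786) (iv2 F438448)
def n223383 : Q := act 1 n203190
theorem D223383 : act 1 n203190 = n223383 := rfl
theorem F519179 : act 1 n223383 = n203192 := d15_1 D223383 (iv7 F482504) F482502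
theorem F519180 : act 4 n223383 = n213332 := d18_7 (iv1 D72597) F52831 D33510 (iv4 F190221) D118194 D203190 D223383 F469961 (iv5 D153542)
theorem F519181 : act 3 n217083 = n223383 := d20_9 (iv4 D203190) (iv1 F279956) D215997 (iv3 F488095) (iv1 F488098) F389882 F368851 (iv1 F384279) (iv4 F487324) (iv1 D223383)
theorem F519182 : act 5 n223383 = n205934 := d6_2 (iv5 F487325) F519181 F438488
def n223384 : Q := act 3 n203190
theorem D223384 : act 3 n203190 = n223384 := rfl
theorem F519183 : act 2 n223384 = n209708 := d0_1 D223384 (iv3 D209708) F451857 (iv3 F482503) F482502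
theorem F519184 : act 4 n223384 = n217229 := d5_2 D203190 D223384 (iv3 F488033) F443338 F427370
theorem F519185 : act 6 n223384 = n213411 := d7_2 (iv6 F501162) D223384 (iv3 F501159)
theorem F519186 : act 7 n223384 = n213310 := d8_2 F482500 D223384 (iv3 F482498)
theorem F519187 : act 0 n223384 = n213408 := d19_4 D54446 D118194 D203190 D223384 (iv5 F483577) F483574 (iv3 F459258) (iv1 F431994) (iv5 D204310) F304441 F322579 (iv1 F125769) (iv5 D37933) (iv4 D18170) (iv3 F297045) (iv1 D13061) F9681 (iv4 F21785) (iv3 F41998)
theorem F519188 : act 0 n213407 = n223384 := d20_4 (iv4 F390987) (iv1 D193777) (iv4 F374949) (iv3 F470269) (iv3 D223384) (iv4 D203190) (iv1 F279956) D215997 (iv3 F488095) (iv1 F488098)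
theorem F519189 : act 5 n223384 = n220862 := d17_1 F519188 F505953 (iv5 F483193) F483194 (iv5 F294414) (iv0 F336398) D208368 (iv0 F488107) F488101
def n223385 : Q := act 5 n203190
theorem D223385 : act 5 n203190 = n223385 := rfl
theorem F519190 : act 2 n223385 = n220580 := d2_1 D223385 F504452 F482502
theorem F519191 : act 3 n223385 = n220862 := d6_1 D223385 (iv5 F519189) (iv3 D223384)
theorem F519192 : act 4 n223385 = n203228 := d9_1 D223385 F427479 F323265 (iv5 D72608) (iv4 F190217) D118199 D203192 (iv5 F453074) F453073 F427476 F323261 (iv5 D72603) (iv4 F190221) D118194 D203190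
theorem F519193 : act 6 n223385 = n220574 := d12_2 (iv6 F501162) D223385 (iv5 F504427) (iv6 D219914) D219913
theorem F519194 : act 7 n223385 = n214242 := d13_2 F482500 D223385 (iv5 F482501)
theorem F519195 : act 0 n223385 = n213351 := d17_2 (iv1 D223383) D223385 (iv5 F498812) F498813 F388425 F155741 D153541 D213332 (iv4 F519180)
theorem F519196 : act 1 n223385 = n213339 := d17_6 (iv1 D118202) (iv5 D54448) D54446 D118194 D203190 D223385 (iv5 D213339) (iv0 F427385) (iv4 D203197)
def n223386 : Q := act 7 n203191
theorem D223386 : act 7 n203191 = n223386 := rfl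
theorem F519197 : act 2 n223386 = n216149 := d4_1 D223386 F483192 (iv2 F427372)
theorem F519198 : act 3 n223386 = n216263 := d8_1 D223386 (iv7 F519016) F519013
theorem F519199 : act 4 n223386 = n213409 := d11_1 D223386 (iv7 F501160) F501161
theorem F519200 : act 5 n223386 = n216458 := d13_1 D223386 F484474 (iv5 F427373)
theorem F519201 : act 6 n223386 = n209699 := d14_1 D223386 (iv7 F456415) F456414 (iv7 F279977) D203191
theorem F519202 : act 1 n216277 = n223386 := d15_1 D216277 (iv7 D223386) F427372
theorem F519203 : act 1 n223386 = n210590 := d15_1 F519202 (iv7 F485703) F485701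
theorem F519204 : act 0 n216040 = n210605 := d20_1 (iv4 F482635) (iv4 F478629) (iv3 F478630) (iv1 F519203) F519198 F483544 (iv1 F483483) (iv4 F518855) F518854 F485292
def n223387 : Q := act 5 n203199
theorem D223387 : act 5 n203199 = n223387 := rfl
theorem F519205 : act 2 n223387 = n210786 := d2_1 D223387 F469995 F469989
theorem F519206 : act 3 n223387 = n209382 := d6_1 D223387 F462464 (iv3 F462463)
theorem F519207 : act 4 n223387 = n203221 := d9_1 D223387 (iv5 D203221) (iv4 D118240) F185571 D85977 D179934 (iv4 F427386) (iv5 F500136) F500135 (iv5 D203224) (iv4 D118243) F155287 D85982 D179936 (iv4 F427387)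
theorem F519208 : act 6 n223387 = n209381 := d12_2 F456997 D223387 F457665 (iv6 F451836) (iv5 F456996)
theorem F519209 : act 7 n223387 = n209752 := d13_2 F469980 D223387 F469984
theorem F519210 : act 0 n223387 = n216008 := d17_2 (iv1 F519148) D223387 (iv5 D216008) (iv4 D179757) (iv5 D85861) D85860 F233015 F427322 (iv4 F519146)
theorem F519211 : act 1 n223387 = n209236 := d17_6 (iv1 F469961) F469963 (iv1 F280231) D179936 (iv4 F427387) D223387 (iv5 F488090) (iv0 F488092) (iv4 D213335)
def n223388 : Q := act 6 n203202
theorem D223388 : act 6 n203202 = n223388 := rfl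
theorem F519212 : act 3 n223388 = n204037 := d7_1 D223388 (iv6 F488139) F488141
theorem F519213 : act 4 n223388 = n203203 := d10_1 D223388 (iv6 D203203) (iv4 F427390)
theorem F519214 : act 7 n223388 = n223324 := d14_2 D203202 D223388 (iv6 D223324) (iv7 F426193) F284571
theorem F519215 : act 0 n220078 = n223388 := d21_4 (iv5 D212626) F319999 D204084 (iv6 F501999) (iv6 D223388) (iv5 F519151) F519152 (iv5 F469977) F469975 (iv1 F466762)
def n223389 : Q := act 4 n203205
theorem D223389 : act 4 n203205 = n223389 := rfl
theorem F519216 : act 2 n223389 = n220317 := d1_1 D223389 (iv4 D220317) F427407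
theorem F519217 : act 3 n223389 = n216319 := d5_1 D223389 (iv4 D216319) F386330 F427404 (iv3 F427403)
theorem F519218 : act 6 n223389 = n217954 := d10_2 F427402 D223389 F491401
theorem F519219 : act 7 n223389 = n223383 := d11_2 F469962 D223389 F519180
theorem F519220 : act 5 n223389 = n220444 := d16_7 (iv4 F509470) F509471 F427417 (iv5 D124817) (iv4 F200485) (iv5 F427400) D223389 F503811 (iv2 F456506)
theorem F519221 : act 0 n223389 = n216005 := d17_0 F482501 F474173 F453013 (iv4 D192983) (iv5 D101067) F190193 D118234 F427401 D223389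
theorem F519222 : act 1 n223389 = n216006 := d18_6 F306497 (iv4 F233012) F241310 (iv4 F200485) (iv5 F427400) D223389 (iv4 D216006) (iv0 F433081) (iv5 D204633)
def n223390 : Q := act 4 n203206
theorem D223390 : act 4 n203206 = n223390 := rfl
theorem F519223 : act 2 n223390 = n223383 := d1_1 D223390 F519180 (iv2 F469964)
theorem F519224 : act 6 n223390 = n210191 := d10_2 (iv6 F487984) D223390 F487990
theorem F519225 : act 7 n223390 = n220317 := d11_2 (iv7 F427409) D223390 (iv4 D220317)
theorem F519226 : act 5 n223390 = n210189 := d16_1 D223390 (iv4 F509470) F509471 F427417 (iv5 D124817) (iv4 F200485) (iv5 F427400) (iv7 F469962) (iv2 F469964)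
theorem F519227 : act 0 n223390 = n216006 := d17_0 (iv5 F504452) (iv1 F504454) (iv5 F470003) F470002 F241343 (iv0 F190170) D118220 D203206 D223390
theorem F519228 : act 1 n223390 = n216005 := d18_6 D85859 F278979 (iv1 F429157) F429159 (iv5 F427410) D223390 (iv4 D216005) (iv0 D179755) (iv5 D85861)
def n223391 : Q := act 3 n203207
theorem D223391 : act 3 n203207 = n223391 := rfl
theorem F519229 : act 4 n223391 = n212785 := d5_2 D203207 D223391 F467497 (iv4 D192891) F366765
theorem F519230 : act 5 n223391 = n211310 := d6_2 F503351 D223391 (iv3 F503347)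
theorem F519231 : act 7 n223391 = n211661 := d8_2 F469976 D223391 (iv3 F469974)
theorem F519232 : act 0 n223391 = n211647 := d19_4 F190192 D118220 D203207 D223391 F462505 F385507 F305219 (iv1 D86023) (iv5 D39798) (iv4 D18823) (iv3 D8818) (iv1 F9818) D13295 D27885 D58626 D125273 F341200 F236443 F126424
theorem F519233 : act 0 n211649 = n223391 := d20_4 F386414 (iv1 F387896) F387895 (iv3 F462507) (iv3 D223391) (iv4 D203207) D203205 D223389 F519217 F483817
theorem F519234 : act 2 n220446 = n223391 := d15_3 (iv0 F519233) (iv0 F501984) (iv7 F503821)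
def n223392 : Q := act 6 n203207
theorem D223392 : act 6 n203207 = n223392 := rfl
theorem F519235 : act 2 n223392 = n210589 := d3_1 D223392 (iv6 F469972) F469966
theorem F519236 : act 4 n223392 = n203208 := d10_1 D223392 (iv6 D203208) D203207
theorem F519237 : act 5 n223392 = n223212 := d12_1 D223392 (iv6 D223212) F424320 D220354 F503351
theorem F519238 : act 7 n223392 = n210588 := d14_2 F469976 D223392 F458142 F432096 (iv6 F469975)
theorem F519239 : act 0 n223392 = n210577 := d21_4 D203201 F503352 F503351 D223392 F503790 F503785 F458097 (iv5 F456996) F456997 (iv1 D203199)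
theorem F519240 : act 1 n223392 = n210591 := d15_1 (iv0 F519239) (iv7 D210591) (iv2 F458105)
def n223393 : Q := act 1 n203208
theorem D223393 : act 1 n203208 = n223393 := rfl
theorem F519241 : act 7 n223393 = n209414 := d15_2 (iv0 F503773) D223393 (iv2 F503770)
theorem F519242 : act 5 n223393 = n209828 := d17_7 D214052 F473255 F517956 F517953 F503588 (iv5 F427412) D223393 F473269 (iv4 D214054)
theorem F519243 : act 6 n223328 = n223393 := d21_3 (iv5 D203076) (iv1 F426406) (iv5 F518881) (iv1 D223393) (iv6 D203208) (iv5 D118220) F190170 (iv5 F241343) D213341 (iv1 F470008)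
theorem F519244 : act 2 n223393 = n223345 := d3_1 F519243 F518975 (iv2 F518878)
theorem F519245 : act 3 n223393 = n216197 := d7_1 F519243 F510959 (iv3 F518879)
def n223394 : Q := act 7 n203208
theorem D223394 : act 7 n203208 = n223394 := rfl
theorem F519246 : act 3 n223394 = n220081 := d8_1 D223394 (iv7 D220081) (iv3 F427411)
theorem F519247 : act 4 n223394 = n210588 := d11_1 D223394 (iv7 F519238) F519236
theorem F519248 : act 5 n223394 = n220400 := d13_1 D223394 (iv7 D220400) (iv5 F427412)
theorem F519249 : act 6 n223394 = n209759 := d14_1 D223394 (iv7 F455990) F455989 F241339 D203208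
theorem F519250 : act 1 n223345 = n223394 := d15_1 (iv0 F518977) (iv7 D223394) (iv2 F469969)
theorem F519251 : act 1 n223394 = n209414 := d15_1 F519250 (iv7 F519241) F519244
def n223395 : Q := act 5 n203211
theorem D223395 : act 5 n203211 = n223395 := rfl
theorem F519252 : act 2 n223395 = n211548 := d2_1 D223395 (iv5 D211548) F427426
theorem F519253 : act 3 n223395 = n220443 := d6_1 D223395 (iv5 F503809) (iv3 F427427)
theorem F519254 : act 4 n223395 = n220444 := d9_1 D223395 (iv5 F519220) (iv4 D223389) F427400 F200485 D124817 (iv4 F427417) (iv5 F509471) F509470 (iv5 F519226) (iv4 D223390) F427410 (iv4 F429159) F429160 (iv4 F427425)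
theorem F519255 : act 7 n223395 = n221184 := d13_2 (iv7 F427424) D223395 (iv5 D221184)
theorem F519256 : act 0 n223395 = n213344 := d17_2 (iv1 F427423) D223395 (iv5 D213344) F241373 (iv5 D118110) F155242 (iv5 F319581) (iv0 F321538) D118236
theorem F519257 : act 1 n223395 = n213343 := d17_6 D72610 (iv5 F241307) (iv1 F429157) F429160 (iv4 F427425) D223395 (iv5 D213343) (iv0 D153562) (iv4 D72612)
theorem F519258 : act 6 n223395 = n222575 := d21_3 (iv5 D203220) (iv1 F427423) D223395 (iv1 F514981) (iv6 D221157) (iv5 F397124) (iv1 F227210) (iv5 F397185) (iv6 F470058) (iv1 F470059)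
def n223396 : Q := act 6 n203212
theorem D223396 : act 6 n203212 = n223396 := rfl
theorem F519259 : act 2 n223396 = n210168 := d3_1 D223396 (iv6 F456445) (iv2 F427428)
theorem F519260 : act 3 n223396 = n223211 := d7_1 D223396 F518221 F517978
theorem F519261 : act 4 n223396 = n210042 := d10_1 D223396 F462454 (iv4 F462455)
theorem F519262 : act 5 n223396 = n211258 := d12_1 D223396 (iv6 D211258) (iv5 D141333) (iv6 F319621) D203212
theorem F519263 : act 0 n223396 = n209519 := d21_4 (iv5 D223395) (iv1 D203211) D203212 D223396 (iv6 D209519) (iv5 F397098) (iv1 F404159) (iv5 F434673) (iv6 F470017) (iv1 F519257)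
theorem F519264 : act 0 n209271 = n223396 := d21_4 F336173 (iv1 F179746) (iv5 F347219) D209271 (iv6 D223396) (iv5 D203212) D203210 (iv5 F509471) (iv6 D221534) (iv1 F401185)
theorem F519265 : act 7 n223396 = n210169 := d15_2 F460877 (iv0 F519263) (iv2 F460878)
def n223397 : Q := act 6 n203234
theorem D223397 : act 6 n203234 = n223397 := rfl
theorem F519266 : act 3 n223397 = n203236 := d7_1 D223397 (iv6 D203236) (iv3 F427496)
theorem F519267 : act 4 n223397 = n221034 := d10_1 D223397 F506903 F484859
def n223398 : Q := act 5 n203235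
theorem D223398 : act 5 n203235 = n223398 := rfl
theorem F519268 : act 3 n223398 = n203237 := d6_1 D223398 (iv5 D203237) (iv3 F427498)
theorem F519269 : act 7 n223398 = n222627 := d13_2 (iv7 F427499) D223398 (iv5 D222627)
theorem F519270 : act 4 n223398 = n220433 := d16_2 F472050 D223398 (iv5 D220433) (iv4 F402245) (iv5 F510070) F510069 F486612 F415998 (iv2 F472048)
theorem F519271 : act 1 n223398 = n211805 := d17_6 D198456 (iv5 F476232) F497798 F497797 F472050 D223398 (iv5 D211805) (iv0 F396962) F396961
def n223399 : Q := act 0 n203236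
theorem D223399 : act 0 n203236 = n223399 := rfl
theorem F519272 : act 5 n223399 = n216212 := d19_1 D223399 F483389 F283638 D182198 (iv5 F398394) (iv4 D195836) F163402 (iv1 D71328) (iv5 D33005) F25376 (iv3 F25369) (iv1 F51153) D69296 (iv4 F228065) D212039 F464079 D221034 (iv4 F519267) F519266
theorem F519273 : act 4 n223399 = n211995 := d20_8 F241397 F236054 F185828 (iv3 F427364) (iv1 F506911) F506912 F427535 D223399 F464082 (iv1 F241394)
theorem F519274 : act 6 n223399 = n211994 := d21_5 (iv5 D203172) (iv1 F185678) D118253 D203236 D223399 F463854 (iv1 F438379) (iv5 F458536) F458534 (iv1 F427300)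
def n223400 : Q := act 1 n203236
theorem D223400 : act 1 n203236 = n223400 := rfl
theorem F519275 : act 4 n223400 = n212816 := d18_7 (iv1 F471680) F471678 (iv1 F466520) (iv4 F501120) (iv5 F501124) F427535 D223400 F510858 F510857
def n223401 : Q := act 5 n203236
theorem D223401 : act 5 n203236 = n223401 := rfl
theorem F519276 : act 6 n223401 = n203237 := d12_2 D203236 D223401 (iv5 D203237) (iv6 D118254) D118253
theorem F519277 : act 0 n221831 = n223401 := d21_10 (iv5 D223401) D223399 F519272 (iv6 D216212) D216209 (iv6 F483384) (iv5 D197155) F168828 (iv5 F404087) D221831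
def n223402 : Q := act 7 n203236
theorem D223402 : act 7 n203236 = n223402 := rfl
theorem F519278 : act 6 n223402 = n212817 := d14_1 D223402 (iv7 D212817) (iv6 D150048) (iv7 F185794) D203236
def n223403 : Q := act 4 n203237
theorem D223403 : act 4 n203237 = n223403 := rfl
theorem F519279 : act 3 n223403 = n209120 := d5_1 D223403 F452353 (iv3 F503756) (iv4 F519270) F519268
theorem F519280 : act 5 n223403 = n209119 := d9_2 D203237 D223403 F452348 (iv5 F404569) (iv4 D197498) (iv5 D108249) (iv4 F167385) D197496 F488421 F488419 (iv4 D212024) (iv5 D144978) F104081 (iv5 F86008) (iv4 F185795)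
def n223404 : Q := act 0 n203239
theorem D223404 : act 0 n203239 = n223404 := rfl
theorem F519281 : act 5 n223404 = n205929 := d17_1 D223404 (iv1 D205929) (iv5 F438442) (iv4 F507181) (iv5 D221092) F507174 (iv5 F519168) (iv0 D223381) (iv4 F427506)
theorem F519282 : act 4 n223404 = n212054 := d18_1 D223404 (iv1 F514629) F514628 (iv5 D201972) F179562 D115353 D202064 (iv0 F422821) D203239
theorem F519283 : act 3 n223404 = n223382 := d20_5 F228108 F206653 F185817 (iv3 F427504) D223404 F519174 (iv1 F472214) F472215 F427530 (iv1 F228111)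
theorem F519284 : act 1 n213818 = n223404 := d15_0 (iv0 D223404) (iv7 F464110) (iv2 F472219)
theorem F519285 : act 2 n213816 = n223404 := d0_5 F519283 F519173 (iv3 F458539) F458533 F472212
theorem F519286 : act 7 n213817 = n223404 := d8_0 F519283 (iv7 D223382) F472216
def n223405 : Q := act 1 n203239
theorem D223405 : act 1 n203239 = n223405 := rfl
theorem F519287 : act 1 n223405 = n213818 := d15_1 D223405 (iv7 D213818) (iv2 F427503)
theorem F519288 : act 7 n223405 = n213816 := d15_2 (iv0 D223404) D223405 F519285
theorem F519289 : act 4 n223405 = n212053 := d17_9 F464150 (iv5 F469903) (iv1 D212048) (iv5 F427536) (iv4 F510867) F510865 (iv0 F422821) D203239 D223405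
theorem F519290 : act 3 n221098 = n223405 := d19_19 (iv1 D223405) (iv5 D203239) (iv4 F239524) (iv3 D152338) (iv1 F108347) (iv5 F108579) (iv4 F239391) (iv3 F468775) F468778 (iv5 D204588) (iv4 F412552) (iv3 F492966) (iv1 F492969) (iv5 D197852) (iv4 F396599) F396598 F169293 D198400 (iv4 F507206)
theorem F519291 : act 5 n205928 = n223405 := d21_0 (iv1 D223405) (iv5 D203239) D203240 F427512 (iv6 D200423) F176195 (iv1 F82529) D59487 D126772 D205928
theorem F519292 : act 6 n212052 = n223405 := d21_3 (iv5 D205914) F396862 (iv5 F464143) (iv1 D223405) (iv6 F427505) F185829 (iv1 F185721) (iv5 F228095) (iv6 F429249) (iv1 F438395)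
theorem F519293 : act 2 n223405 = n213817 := d3_1 F519292 (iv6 F472218) (iv2 F464141)
def n223406 : Q := act 5 n203241
theorem D223406 : act 5 n203241 = n223406 := rfl
theorem F519294 : act 2 n223406 = n203242 := d2_1 D223406 (iv5 D203242) D203241
theorem F519295 : act 3 n223406 = n213818 := d6_1 D223406 F472221 F464102
theorem F519296 : act 4 n223406 = n210711 := d9_1 D223406 (iv5 D210711) F222742 D139604 F393098 (iv5 F393803) F393805 D212047 F464126 F463877 (iv4 D192880) (iv5 F375506) (iv4 F381201) (iv5 F393795) (iv4 F427513)
theorem F519297 : act 6 n223406 = n223404 := d12_2 (iv6 F427514) D223406 F519281 (iv6 F463132) (iv5 D211802)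
theorem F519298 : act 7 n223406 = n213815 := d13_2 F464119 D223406 F472207
theorem F519299 : act 0 n223406 = n220709 := d17_2 (iv1 F464114) D223406 (iv5 D220709) (iv4 D194322) F349217 (iv0 D97326) D97328 D191159 (iv4 F464111)
theorem F519300 : act 1 n223406 = n220711 := d17_6 F358498 F358496 F381202 (iv5 F393795) (iv4 F427513) D223406 (iv5 D220711) (iv0 F392832) (iv4 F244736)
def n223407 : Q := act 5 n203246
theorem D223407 : act 5 n203246 = n223407 := rfl
theorem F519301 : act 3 n223407 = n212803 := d6_1 D223407 F467583 (iv3 F427525)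
theorem F519302 : act 6 n223407 = n212802 := d12_2 F427527 D223407 (iv5 D212802) F464832 (iv5 F464831)
theorem F519303 : act 7 n223407 = n221838 := d13_2 F519166 D223407 (iv5 F519161)
theorem F519304 : act 4 n223407 = n221839 := d16_4 (iv4 F455215) (iv5 F385842) (iv4 F427526) D223407 F510999 F404092 (iv5 F455226) (iv7 D209874) (iv2 F455210)
theorem F519305 : act 0 n223407 = n220715 := d17_2 D203246 D223407 F505134 F467571 (iv5 F517362) F517364 (iv5 D209781) (iv0 F362178) F252591
theorem F519306 : act 1 n223407 = n203252 := d17_6 (iv1 F454016) (iv5 F454084) (iv1 F454085) (iv5 F385842) (iv4 F427526) D223407 F427536 D212048 (iv4 F464128)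
def n223408 : Q := act 5 n203247
theorem D223408 : act 5 n203247 = n223408 := rfl
theorem F519307 : act 2 n223408 = n221838 := d2_1 D223408 (iv5 F519161) (iv2 F519164)
theorem F519308 : act 4 n223408 = n209658 := d16_2 (iv4 F507018) D223408 F454526 (iv4 F220168) D209871 (iv4 F455215) (iv5 F385842) F455118 (iv2 F507021)
theorem F519309 : act 0 n223408 = n203252 := d17_2 (iv1 F500051) D223408 F427536 (iv4 F427873) (iv5 F517351) F517353 (iv5 F475875) F475876 (iv4 F500047)
theorem F519310 : act 1 n223408 = n220715 := d17_8 (iv1 D221802) (iv5 D197354) D197352 F472217 F472215 (iv5 D203249) D203247 D223408 (iv4 F510872)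
theorem F519311 : act 6 n209657 = n223408 := d21_5 (iv5 D115297) F111253 D116901 D202769 (iv1 F454524) (iv5 D223408) (iv1 D203247) D203249 F427531 F404058
def n223409 : Q := act 6 n203247
theorem D223409 : act 6 n203247 = n223409 := rfl
theorem F519312 : act 2 n223409 = n211935 := d3_1 D223409 F519167 (iv2 F519164)
theorem F519313 : act 3 n223409 = n221939 := d7_1 D223409 F512411 (iv3 F512410)
theorem F519314 : act 4 n223409 = n214241 := d10_1 D223409 F507020 (iv4 F507018)
theorem F519315 : act 5 n223409 = n213752 := d12_1 D223409 F471927 (iv5 F454521) F519311 (iv5 D223408)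
theorem F519316 : act 7 n223409 = n219456 := d14_2 F512418 D223409 F498963 (iv7 F500317) (iv6 F512417)
theorem F519317 : act 0 n223409 = n213819 := d21_4 (iv5 F505134) (iv1 F519310) (iv5 D223408) D223409 F472223 F397120 (iv1 D115294) (iv5 F174125) D199935 (iv1 F467574)
theorem F519318 : act 1 n223409 = n219458 := d15_1 (iv0 F519317) (iv7 F498971) F472225
def n223410 : Q := act 1 n203251
theorem D223410 : act 1 n203251 = n223410 := rfl
theorem F519319 : act 7 n223410 = n211988 := d15_2 (iv0 F502134) D223410 (iv2 F502130)
theorem F519320 : act 5 n223410 = n219942 := d17_7 F459746 (iv5 F419935) (iv1 F470477) F470478 (iv4 F501120) (iv5 F501124) D223410 F502121 F502119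
theorem F519321 : act 3 n222982 = n223410 := d20_9 F427535 D223399 F519273 F464082 (iv1 F241394) D213365 (iv4 F507178) F507179 (iv4 F517106) (iv1 D223410)
theorem F519322 : act 6 n212809 = n223410 := d21_3 (iv5 D150045) D150042 D212809 (iv1 D223410) (iv6 D203251) F185821 (iv1 F110887) (iv5 F228103) (iv6 F463351) F463353
theorem F519323 : act 2 n223410 = n219943 := d3_1 F519322 (iv6 F505103) F505098
def n223411 : Q := act 7 n203251
theorem D223411 : act 7 n203251 = n223411 := rfl
theorem F519324 : act 3 n223411 = n211987 := d8_1 D223411 (iv7 F506908) F506912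
theorem F519325 : act 4 n223411 = n223402 := d11_1 D223411 (iv7 D223402) (iv4 F427535)
theorem F519326 : act 5 n223411 = n213700 := d13_1 D223411 (iv7 F501119) (iv5 F501124)
theorem F519327 : act 1 n219943 = n223411 := d15_1 (iv0 F501295) (iv7 D223411) (iv2 F467578)
theorem F519328 : act 1 n223411 = n211988 := d15_1 F519327 (iv7 F519319) F519323
def n223412 : Q := act 2 n203252
theorem D223412 : act 2 n203252 = n223412 := rfl
theorem F519329 : act 3 n223412 = n219945 := d0_2 D203252 D223412 (iv2 F501302) (iv3 D212814) F236065
theorem F519330 : act 5 n223412 = n212049 := d2_2 (iv5 F427536) D223412 (iv2 D212049)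
theorem F519331 : act 7 n223412 = n220715 := d4_2 F467577 D223412 F505132
theorem F519332 : act 1 n223412 = n221838 := d15_0 F510997 F467577 D223412
def n223413 : Q := act 6 n203252
theorem D223413 : act 6 n203252 = n223413 := rfl
theorem F519333 : act 3 n223413 = n203253 := d7_1 D223413 (iv6 D203253) D203252
theorem F519334 : act 4 n223413 = n221807 := d10_1 D223413 F510897 F510867
theorem F519335 : act 0 n223413 = n221840 := d21_4 (iv5 F469903) (iv1 D212048) (iv5 F427536) D223413 (iv6 D221840) F404096 F323287 D145119 D212053 F464150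
def n223414 : Q := act 0 n203253
theorem D223414 : act 0 n203253 = n223414 := rfl
theorem F519336 : act 4 n223414 = n220102 := d18_3 F469927 (iv4 F427537) D223414 (iv5 D220102) (iv4 D192932) D192930 F388255 (iv0 F366315) D213323
theorem F519337 : act 6 n223414 = n221097 := d21_5 F228103 F110886 (iv5 F185825) D203253 D223414 F507202 F403195 D203652 F429249 (iv1 F228105)
def n223415 : Q := act 1 n203253
theorem D223415 : act 1 n203253 = n223415 := rfl
theorem F519338 : act 4 n223410 = n223415 := d20_6 (iv4 F427518) F454490 F454488 (iv3 F510998) (iv1 F517108) F519321 (iv1 D223415) F427537 F404014 (iv1 F396841)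
theorem F519339 : act 6 n212814 = n223415 := d21_3 (iv5 D192427) D192424 (iv5 F467603) (iv1 D223415) (iv6 D203253) F185825 (iv1 D68024) D68026 D145124 F386769
theorem F519340 : act 3 n223415 = n212815 := d7_1 F519339 (iv6 D212815) D212814
def n223416 : Q := act 5 n203253
theorem D223416 : act 5 n203253 = n223416 := rfl
theorem F519341 : act 6 n223416 = n212051 := d12_2 D203253 D223416 (iv5 D212051) (iv6 D145115) (iv5 F185825)
theorem F519342 : act 0 n221795 = n223416 := d21_4 (iv5 D221727) (iv1 F403658) (iv5 F403989) D221795 F519341 (iv5 D212051) F357855 D214140 (iv6 F507068) (iv1 F510533)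
def n223417 : Q := act 7 n203253
theorem D223417 : act 7 n203253 = n223417 := rfl
theorem F519343 : act 4 n223417 = n221799 := d11_1 D223417 (iv7 D221799) (iv4 F427537)
def n223418 : Q := act 3 n203255
theorem D223418 : act 3 n203255 = n223418 := rfl
theorem F519344 : act 2 n223418 = n221034 := d0_1 D223418 F506902 F396601 (iv3 F396820) (iv2 F438448)
theorem F519345 : act 5 n223418 = n213321 := d6_2 (iv5 F438449) D223418 F469915
theorem F519346 : act 6 n223418 = n221805 := d7_2 F438447 D223418 F510886
theorem F519347 : act 0 n223418 = n212802 := d19_4 D197381 D221832 F510969 D223418 (iv5 D212802) F236056 (iv3 D147917) F105566 (iv5 F339951) F339950 (iv3 F319665) (iv1 F172032) (iv5 D110985) F111189 F111285 (iv1 D30271) D30272 (iv4 F78982) (iv3 F167212)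
def n223419 : Q := act 3 n203257
theorem D223419 : act 3 n203257 = n223419 := rfl
theorem F519348 : act 2 n223419 = n220334 := d0_1 D223419 F503250 F472225 (iv3 D213819) (iv2 F427542)
theorem F519349 : act 4 n223419 = n213768 := d5_2 (iv4 F427539) D223419 (iv3 D213768) (iv4 D155609) (iv3 F360994)
theorem F519350 : act 5 n223419 = n210177 := d6_2 F460879 D223419 (iv3 F460882)
theorem F519351 : act 7 n223419 = n213821 := d8_2 F427541 D223419 (iv3 D213821)
theorem F519352 : act 0 n212218 = n223419 := d20_4 F463593 F459185 F409570 (iv3 F464795) (iv3 D223419) F427539 (iv1 F428784) (iv4 F463589) F463588 D211922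
def n223420 : Q := act 1 n203271
theorem D223420 : act 1 n203271 = n223420 := rfl
theorem F519353 : act 1 n223420 = n206349 := d15_1 D223420 F440358 F427598
theorem F519354 : act 7 n223420 = n206348 := d15_2 (iv0 F427597) D223420 (iv2 F440353)
theorem F519355 : act 5 n223420 = n210951 := d17_7 (iv1 F216789) F216785 (iv1 F167929) F343108 (iv4 F216743) (iv5 F427594) D223420 F459447 (iv4 F343156)
theorem F519356 : act 4 n223420 = n223262 := d17_9 (iv1 D223262) D223263 F518507 (iv5 F514829) F514828 F440337 (iv0 F371626) (iv5 F427594) D223420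
theorem F519357 : act 3 n220801 = n223420 := d20_3 F434991 D223085 F517569 (iv1 D223420) (iv3 D203271) F186217 (iv1 F94429) D60031 (iv3 F366756) F434994
theorem F519358 : act 2 n223420 = n206347 := d0_1 F519357 F440348 (iv2 F419953) F505773 (iv2 F505776)
def n223421 : Q := act 0 n203272
theorem D223421 : act 0 n203272 = n223421 := rfl
theorem F519359 : act 5 n223421 = n222009 := d17_1 D223421 (iv1 F511881) (iv5 D219669) (iv4 D191969) (iv5 F349310) F357621 D189043 F375564 (iv4 F427599)
theorem F519360 : act 4 n223421 = n216479 := d18_1 D223421 (iv1 D216479) (iv4 F410773) (iv5 F491846) F491847 F442614 (iv4 F458605) (iv0 F469654) F469652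
theorem F519361 : act 3 n223421 = n220806 := d20_5 (iv4 D60031) (iv1 F94432) (iv4 F186223) D203272 D223421 (iv4 F505631) (iv1 D212805) (iv4 F237856) (iv3 D151166) F107743
theorem F519362 : act 2 n206357 = n223421 := d15_3 (iv0 D223421) (iv0 F427602) (iv7 F440395)
theorem F519363 : act 1 n206358 = n223421 := d15_0 (iv0 D223421) F427600 D206358
theorem F519364 : act 7 n223421 = n206356 := d15_2 F440401 F519363 (iv2 F440392)
def n223422 : Q := act 0 n203274
theorem D223422 : act 0 n203274 = n223422 := rfl
theorem F519365 : act 4 n223422 = n213278 := d18_1 D223422 (iv1 F469685) (iv4 F451312) F482559 (iv4 D216017) F470474 F470472 F469690 F427614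
theorem F519366 : act 3 n223422 = n208572 := d20_5 F405877 F376780 (iv4 F463402) F463401 D223422 F449951 (iv1 D196379) F164798 (iv3 F168613) D197817
theorem F519367 : act 6 n223422 = n213435 := d21_5 F240280 (iv1 D118427) D118429 D203274 D223422 F470388 (iv1 D194534) F356922 (iv6 D153728) (iv1 F240278)
theorem F519368 : act 2 n213430 = n223422 := d15_3 (iv0 D223422) (iv0 F514128) F514127
theorem F519369 : act 1 n213431 = n223422 := d15_0 (iv0 D223422) F427613 (iv2 F470365)
theorem F519370 : act 7 n223422 = n208569 := d15_2 (iv0 F514129) F519369 (iv2 F514124)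
def n223423 : Q := act 6 n203305
theorem D223423 : act 6 n203305 = n223423 := rfl
theorem F519371 : act 2 n223423 = n212910 := d3_1 D223423 (iv6 D212910) F427777
theorem F519372 : act 3 n223423 = n212956 := d7_1 D223423 F493266 (iv3 F493265)
theorem F519373 : act 4 n223423 = n221704 := d10_1 D223423 F510398 F468095
theorem F519374 : act 5 n223423 = n212955 := d12_1 D223423 F468303 F430298 D203928 F430444
theorem F519375 : act 7 n223423 = n212946 := d14_2 (iv7 F427776) D223423 (iv6 D212946) (iv7 F238412) (iv6 F335931)
theorem F519376 : act 0 n223423 = n217564 := d21_4 D212598 (iv1 F466621) F430444 D223423 (iv6 F489521) F465096 (iv1 D188297) F295290 (iv6 F356761) (iv1 F427792)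
theorem F519377 : act 0 n217851 = n223423 := d21_4 (iv5 F468453) (iv1 F486679) (iv5 F510388) F510391 (iv6 D223423) (iv5 F430444) F468007 F468004 (iv6 F466638) (iv1 F466639)
def n223424 : Q := act 5 n203315
theorem D223424 : act 5 n203315 = n223424 := rfl
theorem F519378 : act 2 n223424 = n223352 := d2_1 D223424 F519005 F451055
theorem F519379 : act 3 n223424 = n203316 := d6_1 D223424 (iv5 D203316) D203315
theorem F519380 : act 4 n223424 = n209857 := d9_1 D223424 F455153 (iv4 F469572) (iv5 F517570) F517569 F505615 F451049 D208837 (iv4 F468800) F468801 (iv4 F351169) (iv5 F434940) (iv4 F490347) (iv5 D217727) (iv4 F427835)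
theorem F519381 : act 6 n223424 = n203570 := d12_2 (iv6 F427836) D223424 (iv5 D203570) D203571 F428939
theorem F519382 : act 7 n223424 = n203416 := d13_2 F450922 D223424 (iv5 F450921)
theorem F519383 : act 0 n223424 = n209853 := d17_2 (iv1 F451058) D223424 F455141 F453983 (iv5 F434992) (iv0 F434994) F366758 (iv0 F402227) F471880
def n223425 : Q := act 6 n203320
theorem D223425 : act 6 n203320 = n223425 := rfl
theorem F519384 : act 2 n223425 = n203387 := d3_1 D223425 (iv6 D203387) (iv2 F427865)
theorem F519385 : act 4 n223425 = n203321 := d10_1 D223425 (iv6 D203321) D203320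
theorem F519386 : act 5 n223425 = n219700 := d12_1 D223425 (iv6 D219700) (iv5 F475223) F475224 F457747
theorem F519387 : act 7 n223425 = n222486 := d14_2 (iv7 F427866) D223425 F514477 F454108 (iv6 D203375)
theorem F519388 : act 0 n223425 = n216337 := d21_4 (iv5 F427911) (iv1 F457749) F457747 D223425 (iv6 D216337) (iv5 F370493) (iv1 F370496) (iv5 F486474) F486475 F419927
theorem F519389 : act 0 n211218 = n223425 := d21_4 (iv5 F307802) F419900 D222816 F516237 (iv6 D223425) (iv5 F457747) F457748 (iv5 D203316) (iv6 F413389) (iv1 D152056)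
def n223426 : Q := act 1 n203322
theorem D223426 : act 1 n203322 = n223426 := rfl
theorem F519390 : act 1 n223426 = n203383 := d15_1 D223426 (iv7 F518949) F518947
theorem F519391 : act 7 n223426 = n203382 := d15_2 (iv0 F455937) D223426 F457681
theorem F519392 : act 4 n223426 = n205918 := d18_7 F510878 (iv4 D221803) D221801 F510867 F427536 (iv4 F427873) D223426 (iv0 D205918) D205921
theorem F519393 : act 6 n223378 = n223426 := d21_3 F469984 F469981 (iv5 F519151) (iv1 D223426) (iv6 F457688) F457687 D222880 F516562 F461650 F469986
theorem F519394 : act 2 n223426 = n203381 := d3_1 F519393 F438429 (iv2 F519150)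
def n223427 : Q := act 3 n203329
theorem D223427 : act 3 n203329 = n223427 := rfl
theorem F519395 : act 2 n223427 = n219793 := d0_1 D223427 (iv3 F500652) (iv2 F485652) (iv3 D203415) F427908
theorem F519396 : act 5 n223427 = n212865 := d6_2 (iv5 F427907) D223427 (iv3 D212865)
theorem F519397 : act 7 n223427 = n203413 := d8_2 (iv7 F427906) D223427 (iv3 D203413)
theorem F519398 : act 0 n223427 = n219779 := d19_4 (iv1 D159335) D159337 F427909 D223427 F500590 (iv4 F496696) F496695 (iv1 D211104) F223768 F222794 (iv3 F450345) F450346 (iv5 F491573) (iv4 D217989) F372904 D188276 D217998 F491606 (iv3 D214387)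
theorem F519399 : act 0 n219452 = n223427 := d20_4 D209485 F498959 F498955 (iv3 F498942) (iv3 D223427) (iv4 F427909) D214391 F474932 F352731 F346670
def n223428 : Q := act 0 n203333
theorem D223428 : act 0 n203333 = n223428 := rfl
theorem F519400 : act 5 n223428 = n211637 := d17_3 (iv1 F348675) D203333 D223428 (iv4 F468069) (iv5 D212909) (iv0 D151343) (iv5 D71325) D71324 D151340
theorem F519401 : act 4 n223428 = n216860 := d18_1 D223428 F486271 F482622 F431090 F196543 F186660 D151335 (iv0 F353310) D203333
theorem F519402 : act 3 n223428 = n204425 := d20_5 (iv4 F487905) F502024 F502021 (iv3 F427929) D223428 F432486 D216858 F486256 F383490 D191465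
theorem F519403 : act 1 n212941 = n223428 := d15_0 (iv0 D223428) (iv7 F486252) F486249
theorem F519404 : act 2 n211638 = n223428 := d0_5 F519402 F432489 F366566 F366559 (iv3 F462478)
theorem F519405 : act 6 n213414 = n223428 := d7_0 F519402 (iv6 F432487) F470285
theorem F519406 : act 7 n212939 = n223428 := d8_0 F519402 (iv7 F432488) F468228
def n223429 : Q := act 1 n203333
theorem D223429 : act 1 n203333 = n223429 := rfl
theorem F519407 : act 1 n223429 = n212941 := d15_1 D223429 (iv7 D212941) (iv2 F427928)
theorem F519408 : act 7 n223429 = n211638 := d15_2 (iv0 D223428) D223429 F519404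
theorem F519409 : act 4 n223429 = n217219 := d17_9 (iv1 F487996) F468046 (iv1 D187771) (iv5 F368871) (iv4 F468052) (iv5 D212905) (iv0 F353310) D203333 D223429
theorem F519410 : act 3 n211606 = n223429 := d19_19 (iv1 D223429) (iv5 D203333) F186799 (iv3 F163337) (iv1 F350594) (iv5 F420515) (iv4 F459350) (iv3 D210933) (iv1 F223485) (iv5 F223730) (iv4 F459989) F459988 F356232 D195562 (iv4 F462555) F462554 F342553 D215069 F478177
theorem F519411 : act 5 n211605 = n223429 := d21_6 F107809 (iv1 F90711) F52280 D71447 D151557 (iv6 F462348) (iv1 D223429) (iv5 D203333) (iv6 D118742) (iv1 F107811)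
theorem F519412 : act 2 n223429 = n212939 := d2_1 F519411 (iv5 F474796) F474791
def n223430 : Q := act 4 n203333
theorem D223430 : act 4 n203333 = n223430 := rfl
theorem F519413 : act 2 n223430 = n212940 := d1_1 D223430 (iv4 D212940) (iv2 F427928)
theorem F519414 : act 3 n223430 = n217318 := d5_1 D223430 (iv4 F518983) F518982 F502021 (iv3 F427929)
theorem F519415 : act 6 n223430 = n220079 := d10_2 (iv6 F427930) D223430 F502000
theorem F519416 : act 5 n223430 = n209747 := d16_1 D223430 (iv4 F468970) (iv5 D212307) F335936 F238399 (iv4 F238389) (iv5 F468231) (iv7 D212941) (iv2 F427928)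
theorem F519417 : act 1 n223430 = n220984 := d18_6 (iv1 F238054) F357118 (iv1 F343522) (iv4 F186799) D203333 D223430 F506641 F468049 F468048
def n223431 : Q := act 6 n203334
theorem D223431 : act 6 n203334 = n223431 := rfl
theorem F519418 : act 2 n223431 = n211218 := d3_1 D223431 (iv6 F516237) F516235
theorem F519419 : act 3 n223431 = n210994 := d7_1 D223431 (iv6 F464070) F464065
theorem F519420 : act 4 n223431 = n203356 := d10_1 D223431 (iv6 F490434) (iv4 F490432)
theorem F519421 : act 5 n223431 = n211215 := d12_1 D223431 F475573 (iv5 F475570) (iv6 D203335) D203334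
theorem F519422 : act 7 n223431 = n216337 := d14_2 F518931 D223431 (iv6 D216337) (iv7 F483866) (iv6 F518930)
theorem F519423 : act 0 n223431 = n203387 := d21_4 (iv5 D118748) D118746 D203334 D223431 (iv6 D203387) (iv5 F428063) (iv1 D203368) (iv5 D118773) (iv6 F186810) F363657
theorem F519424 : act 0 n222486 = n223431 := d21_4 (iv5 F453830) (iv1 F453829) D209554 (iv6 F514477) (iv6 D223431) (iv5 D203334) (iv1 F427812) F427809 D213020 (iv1 F468625)
def n223432 : Q := act 1 n203352
theorem D223432 : act 1 n203352 = n223432 := rfl
theorem F519425 : act 7 n223432 = n220318 := d15_2 F501524 D223432 F503167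
theorem F519426 : act 5 n223432 = n220488 := d18_9 F504018 F501617 (iv1 D220002) (iv4 F392106) (iv5 F481581) F481580 F458945 (iv4 F428008) D223432
theorem F519427 : act 4 n210670 = n223432 := d20_0 (iv1 D223432) F428008 (iv3 D201463) (iv1 F247882) (iv3 F432274) F432275 F420164 (iv4 F458387) F458386 D210670
theorem F519428 : act 3 n218032 = n223432 := d20_3 F511201 (iv1 F510042) F510041 (iv1 D223432) (iv3 D203352) (iv4 D118763) (iv1 F139474) D187810 (iv3 F404587) D221884
theorem F519429 : act 6 n223432 = n211592 := d7_2 F513624 F519428 (iv3 F513622)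
theorem F519430 : act 0 n210830 = n223432 := d20_4 F446389 (iv1 F421854) D222937 F516869 (iv3 F519428) (iv4 F510041) F510043 F470410 (iv3 F499612) (iv1 D219594)
theorem F519431 : act 2 n223273 = n223432 := d15_3 (iv0 F519430) (iv0 F501523) (iv7 F518564)
def n223433 : Q := act 2 n203352
theorem D223433 : act 2 n203352 = n223433 := rfl
theorem F519432 : act 3 n223433 = n214389 := d0_2 D203352 D223433 (iv2 D214389) (iv3 D159336) (iv2 F186813)
theorem F519433 : act 4 n223433 = n210834 := d1_2 (iv4 F428008) D223433 F458951
theorem F519434 : act 7 n223433 = n210830 := d4_2 (iv7 F460607) D223433 (iv2 F460604)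
theorem F519435 : act 1 n223433 = n223273 := d15_0 (iv0 F518565) (iv7 F460607) D223433
theorem F519436 : act 1 n220318 = n223433 := d15_0 F519435 F518564 (iv2 F503167)
def n223434 : Q := act 5 n203352
theorem D223434 : act 5 n203352 = n223434 := rfl
theorem F519437 : act 3 n223434 = n203353 := d6_1 D223434 (iv5 D203353) D203352
theorem F519438 : act 6 n223434 = n203389 := d12_2 F516558 D223434 (iv5 D203389) D203390 (iv5 F516557)
theorem F519439 : act 7 n223434 = n214445 := d13_2 (iv7 F460607) D223434 F475209
theorem F519440 : act 4 n223434 = n216715 := d18_5 F499485 F499482 (iv1 F458954) (iv4 F428008) D223434 (iv0 D216715) (iv4 F390908) D220470 (iv5 F503926)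
def n223435 : Q := act 0 n203358
theorem D223435 : act 0 n203358 = n223435 := rfl
theorem F519441 : act 4 n223435 = n218143 := d20_2 F468760 D223435 (iv3 F513402) F513406 (iv3 F498415) F498414 (iv1 F484592) F484589 (iv3 F502379) F502384
theorem F519442 : act 3 n223435 = n213730 := d20_5 (iv4 D54681) D54679 D118767 D203358 D223435 (iv4 D213730) (iv1 F412830) (iv4 F428053) (iv3 D203364) (iv1 D118771)
theorem F519443 : act 6 n223435 = n222947 := d21_5 (iv5 D188244) F370463 (iv5 F375817) (iv6 F428030) D223435 (iv5 D222947) (iv1 F441424) (iv5 F453560) (iv6 F453562) F376435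
theorem F519444 : act 2 n220001 = n223435 := d15_3 (iv0 D223435) (iv0 F461009) (iv7 F501593)
theorem F519445 : act 1 n219981 = n223435 := d15_0 (iv0 D223435) F428031 (iv2 F501499)
theorem F519446 : act 7 n223435 = n210876 := d15_2 (iv0 F501502) F519445 (iv2 F461008)
def n223436 : Q := act 2 n203358
theorem D223436 : act 2 n203358 = n223436 := rfl
theorem F519447 : act 3 n223436 = n212619 := d0_2 D203358 D223436 (iv2 F466728) F465797 F374794
theorem F519448 : act 4 n223436 = n220154 := d1_2 F468760 D223436 F502395
theorem F519449 : act 6 n223436 = n217755 := d3_2 (iv6 F428030) D223436 F490472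
theorem F519450 : act 7 n223436 = n219981 := d4_2 (iv7 F428031) D223436 F501499
theorem F519451 : act 1 n223436 = n210876 := d15_0 (iv0 F491656) (iv7 F428031) D223436
theorem F519452 : act 1 n220001 = n223436 := d15_0 F519451 (iv7 F519446) (iv2 F519444)
def n223437 : Q := act 5 n203361
theorem D223437 : act 5 n203361 = n223437 := rfl
theorem F519453 : act 3 n223437 = n203362 := d6_1 D223437 (iv5 D203362) D203361
theorem F519454 : act 7 n223437 = n216427 := d13_2 (iv7 F465800) D223437 F484328
theorem F519455 : act 1 n223437 = n216662 := d17_6 (iv1 F421851) F421852 F421886 (iv5 F421640) (iv4 F428045) D223437 F485364 (iv0 F516871) (iv4 D222937)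
def n223438 : Q := act 5 n203364
theorem D223438 : act 5 n203364 = n223438 := rfl
theorem F519456 : act 2 n223438 = n219788 := d2_1 D223438 F500626 F471829
theorem F519457 : act 3 n223438 = n203365 := d6_1 D223438 (iv5 D203365) D203364
theorem F519458 : act 4 n223438 = n203613 := d9_1 D223438 (iv5 D203613) (iv4 F409543) F409544 (iv4 F222761) (iv5 F412826) F422744 (iv5 F386196) F422743 (iv5 D202027) F179626 F392999 (iv4 F424158) F424159 (iv4 F428053)
theorem F519459 : act 7 n223438 = n219777 := d13_2 F471835 D223438 F500577
theorem F519460 : act 0 n223438 = n219787 := d17_2 F428055 D223438 F500619 F492942 F492941 (iv0 F467696) (iv5 F467698) (iv0 F472083) F472085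
theorem F519461 : act 0 n217517 = n223438 := d19_0 (iv5 D223438) F428053 (iv3 D192540) F154350 D188824 (iv4 F467841) F467842 (iv1 F410771) (iv5 F491846) F491847 (iv3 F445857) (iv1 F442597) (iv5 D132555) (iv4 F179702) (iv3 F423000) F489990 F489991 F390935 D217517
theorem F519462 : act 6 n219785 = n223438 := d14_5 F519459 (iv6 D219777) F386157 D192244 D219785
def n223439 : Q := act 6 n203365
theorem D223439 : act 6 n203365 = n223439 := rfl
theorem F519463 : act 3 n223439 = n219785 := d7_1 D223439 F519462 F519457
theorem F519464 : act 4 n223439 = n203398 := d10_1 D223439 (iv6 D203398) (iv4 F428056)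
theorem F519465 : act 5 n223439 = n219968 := d12_1 D223439 (iv6 D219968) (iv5 D192539) F186823 D203365
theorem F519466 : act 7 n223439 = n216422 := d14_2 F475888 D223439 (iv6 D216422) (iv7 F382853) (iv6 F475891)
theorem F519467 : act 0 n223439 = n220633 := d21_4 (iv5 F427843) (iv1 F427844) D203365 D223439 F504722 (iv5 D203379) F186928 (iv5 F186952) F428061 (iv1 F428060)
def n223440 : Q := act 4 n203366
theorem D223440 : act 4 n203366 = n223440 := rfl
theorem F519468 : act 3 n223440 = n204662 := d5_1 D223440 F433187 (iv3 F427914) F427915 (iv3 F428057)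
theorem F519469 : act 5 n223440 = n213875 := d9_2 D203366 D223440 F472531 F440352 F223523 (iv5 F216808) F216807 D135201 D208854 (iv5 F517920) F517917 F440347 F371667 F178595 (iv4 F186824)
theorem F519470 : act 6 n223440 = n204661 := d10_2 F431452 D223440 F433181
def n223441 : Q := act 5 n203372
theorem D223441 : act 5 n203372 = n223441 := rfl
theorem F519471 : act 2 n223441 = n209695 := d2_1 D223441 (iv5 D209695) (iv2 F428076)
theorem F519472 : act 3 n223441 = n216985 := d6_1 D223441 F486876 (iv3 F428077)
theorem F519473 : act 4 n223441 = n203510 := d9_1 D223441 (iv5 D203510) (iv4 D119331) (iv5 D54913) (iv4 F61032) (iv5 F303959) (iv4 F279696) D215987 F482438 (iv5 D213744) F243674 (iv5 F187873) F187872 D166049 (iv4 F428078)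
theorem F519474 : act 6 n223441 = n216134 := d12_2 D203372 D223441 (iv5 D216134) (iv6 F384684) F384683
theorem F519475 : act 7 n223441 = n209693 := d13_2 (iv7 F428079) D223441 (iv5 D209693)
theorem F519476 : act 1 n223441 = n210073 := d17_6 F308024 (iv5 D79725) D79722 D166049 (iv4 F428078) D223441 (iv5 D210073) (iv0 F440450) (iv4 D206368)
def n223442 : Q := act 5 n203380
theorem D223442 : act 5 n203380 = n223442 := rfl
theorem F519477 : act 2 n223442 = n211653 := d2_1 D223442 F462520 (iv2 F428108)
theorem F519478 : act 4 n223442 = n211609 := d9_1 D223442 (iv5 D211609) (iv4 D143384) F308019 (iv4 F308050) (iv5 F310062) (iv4 F220672) D210073 (iv4 F462373) (iv5 D211611) (iv4 D143388) F308020 (iv4 F307068) (iv5 F186932) (iv4 F428109)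
theorem F519479 : act 7 n223442 = n211657 := d13_2 F456056 D223442 F462536
theorem F519480 : act 0 n223442 = n215987 := d17_2 (iv1 F456059) D223442 (iv5 D215987) F279696 F303959 (iv0 F303958) D133731 F306075 (iv4 F456058)
theorem F519481 : act 1 n223442 = n223441 := d17_6 (iv1 F311659) F309453 F307423 (iv5 F186932) (iv4 F428109) D223442 (iv5 D223441) F428081 F219541
def n223443 : Q := act 5 n203382
theorem D223443 : act 5 n203382 = n223443 := rfl
theorem F519482 : act 2 n223443 = n220478 := d2_1 D223443 F503962 (iv2 F457681)
theorem F519483 : act 3 n223443 = n204459 := d6_1 D223443 (iv5 F476004) F476002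
theorem F519484 : act 4 n223443 = n214069 := d9_1 D223443 (iv5 D214069) (iv4 F427500) F427502 F244885 (iv5 F427480) F438428 (iv5 F454946) (iv4 F454947) (iv5 D152842) (iv4 F228067) D212044 (iv4 F519174) F519175 F507373
theorem F519485 : act 6 n223443 = n204457 := d12_2 F457680 D223443 (iv5 F476000) (iv6 D214601) (iv5 F455922)
theorem F519486 : act 0 n223443 = n214578 := d17_2 F518950 D223443 (iv5 D214578) F252591 D203249 F470107 F470106 F464132 (iv4 F518948)
theorem F519487 : act 1 n223443 = n219691 := d17_6 F454930 (iv5 F464784) (iv1 F519178) F519175 F507373 D223443 (iv5 D219691) F385265 D209780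
def n223444 : Q := act 6 n203384
theorem D223444 : act 6 n203384 = n223444 := rfl
theorem F519488 : act 3 n223444 = n203385 := d7_1 D223444 (iv6 D203385) (iv3 F428112)
theorem F519489 : act 4 n223444 = n203619 := d10_1 D223444 (iv6 F455221) F455220
theorem F519490 : act 5 n223444 = n217661 := d12_1 D223444 (iv6 F489985) F457677 (iv6 F366665) D203384
theorem F519491 : act 0 n223444 = n220053 := d21_10 (iv5 D220053) F387813 D213760 F471967 (iv1 F432600) (iv6 F519485) (iv5 D223443) (iv1 D203382) D203384 D223444
theorem F519492 : act 1 n223444 = n218302 := d15_1 (iv0 F519491) F493199 (iv2 F501872)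
def n223445 : Q := act 0 n203386
theorem D223445 : act 0 n203386 = n223445 := rfl
theorem F519493 : act 5 n223445 = n216783 := d17_1 D223445 (iv1 F500628) F500626 (iv4 D213732) (iv5 F362386) F357017 D206267 F439995 (iv4 F428114)
theorem F519494 : act 4 n223445 = n213789 := d18_3 F514110 (iv4 F428114) D223445 (iv5 F492543) F492542 F438352 (iv4 F439984) (iv0 F439988) (iv5 F514107)
theorem F519495 : act 3 n223445 = n214419 := d20_5 F250830 (iv1 F186920) D118868 D203386 D223445 (iv4 D214419) (iv1 D159365) (iv4 F250834) (iv3 D159336) D159334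
theorem F519496 : act 7 n213008 = n223445 := d8_0 F519495 F499606 F499603
def n223446 : Q := act 1 n203394
theorem D223446 : act 1 n203394 = n223446 := rfl
theorem F519497 : act 1 n223446 = n223038 := d15_1 D223446 F517374 F500076
theorem F519498 : act 7 n223446 = n223443 := d15_2 (iv0 F503964) D223446 F519482
theorem F519499 : act 5 n223446 = n223426 := d17_7 (iv1 F467575) F469903 (iv1 F471694) F464151 F427345 D203394 D223446 F519390 (iv4 F467571)
theorem F519500 : act 4 n213224 = n223446 := d20_6 (iv4 F485399) (iv1 F485402) F484394 F469454 (iv1 F505307) F505303 (iv1 D223446) (iv4 F503966) F503965 (iv1 F469411)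
theorem F519501 : act 2 n223446 = n209787 := d1_1 F519500 (iv4 F454947) (iv2 F469487)
def n223447 : Q := act 6 n203401
theorem D223447 : act 6 n203401 = n223447 := rfl
theorem F519502 : act 3 n223447 = n203402 := d7_1 D223447 (iv6 D203402) (iv3 F428154)
theorem F519503 : act 4 n223447 = n210673 := d10_1 D223447 (iv6 F500053) F500054
theorem F519504 : act 5 n223447 = n209738 := d12_1 D223447 (iv6 D209738) (iv5 D136871) (iv6 F349993) D203401
theorem F519505 : act 0 n209799 = n223447 := d21_4 F471543 F486725 F486722 (iv6 F481667) (iv6 D223447) (iv5 D203401) (iv1 F385257) D219690 F500072 F484290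
def n223448 : Q := act 5 n203404
theorem D223448 : act 5 n203404 = n223448 := rfl
theorem F519506 : act 2 n223448 = n203405 := d2_1 D223448 (iv5 D203405) D203404
theorem F519507 : act 3 n223448 = n220342 := d6_1 D223448 (iv5 D220342) (iv3 F428162)
theorem F519508 : act 7 n223448 = n220535 := d13_2 (iv7 F428164) D223448 (iv5 D220535)
theorem F519509 : act 1 n223448 = n223041 := d17_6 F434994 F434992 F470408 (iv5 D213439) (iv4 F428163) D223448 F517389 (iv0 D214434) (iv4 F366757)
def n223449 : Q := act 1 n203405
theorem D223449 : act 1 n203405 = n223449 := rfl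
theorem F519510 : act 1 n223449 = n220535 := d15_1 D223449 (iv7 F519508) F519506
theorem F519511 : act 5 n223449 = n220734 := d17_7 F502300 F502297 (iv1 D213440) (iv5 D153744) (iv4 F186944) D203405 D223449 (iv0 F505226) F475172
theorem F519512 : act 3 n219377 = n223449 := d19_19 (iv1 D223449) (iv5 D203405) F186944 (iv3 D72737) (iv1 F107721) D151155 F237830 (iv3 F143189) (iv1 F178152) (iv5 F419972) F419971 (iv3 F490345) (iv1 F490348) F393706 (iv4 F453825) F453824 F453545 (iv5 F491492) (iv4 F498564)
theorem F519513 : act 2 n223449 = n223041 := d0_1 F519512 (iv3 D223041) (iv2 F454069) F454070 (iv2 F498563)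
theorem F519514 : act 6 n223449 = n219376 := d7_2 D219377 F519512 (iv3 D219376)
theorem F519515 : act 4 n223073 = n223449 := d10_3 F519514 (iv4 F498558) (iv6 F517517)
def n223450 : Q := act 4 n203405
theorem D223450 : act 4 n203405 = n223450 := rfl
theorem F519516 : act 5 n223450 = n220421 := d9_2 D203405 D223450 F504005 F491792 (iv4 F510041) (iv5 D221639) F402225 D220535 F504239 (iv5 F503704) F503702 (iv5 F470418) (iv4 D213441) (iv5 D153744) (iv4 F186944)
theorem F519517 : act 6 n215940 = n223450 := d12_0 F519516 F518593 (iv5 D223278) F457386 D215940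
def n223451 : Q := act 6 n203405
theorem D223451 : act 6 n203405 = n223451 := rfl
theorem F519518 : act 3 n223451 = n203407 := d7_1 D223451 (iv6 D203407) (iv3 F428168)
theorem F519519 : act 4 n223451 = n215940 := d10_1 D223451 F519517 (iv4 D223450)
def n223452 : Q := act 1 n203407
theorem D223452 : act 1 n203407 = n223452 := rfl
theorem F519520 : act 1 n223452 = n216423 := d15_1 D223452 F484313 F458247
theorem F519521 : act 5 n223452 = n221714 := d17_7 (iv1 F500356) F500353 (iv1 D216010) (iv5 F433624) F458207 F458206 D223452 (iv0 F510464) F457402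
theorem F519522 : act 3 n212730 = n223452 := d19_19 (iv1 D223452) (iv5 F458206) (iv4 F458207) F433623 D204802 (iv5 F450875) F450874 F398700 (iv1 F247361) (iv5 D157177) (iv4 D74731) D74730 F166216 F92802 (iv4 F83997) (iv3 F179522) D201922 D222959 F516987
theorem F519523 : act 6 n204243 = n223452 := d21_3 F433165 F403498 (iv5 F431636) (iv1 D223452) (iv6 D203407) (iv5 D118891) (iv1 F186778) (iv5 F427916) F427917 D204659
theorem F519524 : act 2 n223452 = n215812 := d3_1 F519523 (iv6 D215812) F431638
def n223453 : Q := act 1 n203414
theorem D223453 : act 1 n203414 = n223453 := rfl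
theorem F519525 : act 1 n223453 = n214449 := d15_1 D223453 (iv7 D214449) (iv2 F428191)
theorem F519526 : act 7 n223453 = n214447 := d15_2 (iv0 F458239) D223453 (iv2 F475215)
theorem F519527 : act 5 n223453 = n216482 := d17_7 (iv1 D100640) (iv5 D46940) F177420 D97947 D191265 (iv5 F428192) D223453 F484604 (iv4 D192764)
theorem F519528 : act 4 n223453 = n214447 := d17_9 (iv1 F516418) (iv5 D222851) (iv1 F420691) D219699 F500125 (iv5 F498417) (iv0 D219350) (iv5 F428192) D223453
theorem F519529 : act 2 n214448 = n223453 := d1_3 F519528 (iv2 F475215) F475220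
def n223454 : Q := act 0 n203416
theorem D223454 : act 0 n203416 = n223454 := rfl
theorem F519530 : act 5 n223454 = n221884 := d17_1 D223454 (iv1 F511204) (iv5 D220425) D220424 (iv5 F517514) (iv0 D223072) F469296 (iv0 D213167) (iv4 F428197)
theorem F519531 : act 1 n223352 = n223454 := d15_0 (iv0 D223454) (iv7 F519382) F519378
theorem F519532 : act 7 n223454 = n209853 := d15_2 (iv0 F519007) F519531 F455140
def n223455 : Q := act 4 n203427
theorem D223455 : act 4 n203427 = n223455 := rfl
theorem F519533 : act 2 n223455 = n223143 := d1_1 D223455 F517861 F517485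
theorem F519534 : act 7 n223455 = n213178 := d11_2 (iv7 F428261) D223455 (iv4 D213178)
theorem F519535 : act 6 n210128 = n223455 := d14_5 F519534 F469344 F500495 (iv6 F500497) F456299
def n223456 : Q := act 6 n203427
theorem D223456 : act 6 n203427 = n223456 := rfl
theorem F519536 : act 2 n223456 = n223142 := d3_1 D223456 (iv6 F517860) F517485
theorem F519537 : act 3 n223456 = n203428 := d7_1 D223456 (iv6 D203428) (iv3 F428260)
theorem F519538 : act 4 n223456 = n210128 := d10_1 D223456 F519535 (iv4 D223455)
theorem F519539 : act 5 n223456 = n209184 := d12_1 D223456 (iv6 D209184) F247050 (iv6 F319280) D203427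
theorem F519540 : act 7 n223456 = n223141 := d14_2 (iv7 F428261) D223456 F517854 F485316 (iv6 D213179)
theorem F519541 : act 0 n220630 = n223456 := d21_4 (iv5 D220517) F391136 D194084 D220630 (iv6 D223456) (iv5 D203427) D203425 (iv5 F469439) (iv6 F481632) (iv1 F504149)
def n223457 : Q := act 1 n203428
theorem D223457 : act 1 n203428 = n223457 := rfl
theorem F519542 : act 1 n223457 = n203625 := d15_1 D223457 (iv7 D203625) (iv2 F428262)
theorem F519543 : act 7 n223457 = n203623 := d15_2 (iv0 F472818) D223457 (iv2 F472816)
theorem F519544 : act 4 n219792 = n223457 := d20_0 (iv1 D223457) (iv4 F485427) F498506 (iv1 D219367) F382929 F368443 F368441 D191987 D219675 (iv1 F500650)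
theorem F519545 : act 2 n223457 = n203624 := d1_1 F519544 F482186 (iv2 F500645)
theorem F519546 : act 3 n223457 = n223356 := d19_3 F473809 (iv5 F500647) F519544 (iv1 F519027) F469390 F239991 (iv3 F200399) (iv1 F200402) (iv5 F243027) D212329 F465345 (iv1 F421148) F421150 (iv4 F481892) (iv3 D215877) (iv1 D178085) D178087 F394588 (iv3 F473053)
def n223458 : Q := act 4 n203429
theorem D223458 : act 4 n203429 = n223458 := rfl
theorem F519547 : act 2 n223458 = n204544 := d1_1 D223458 (iv4 F516169) F516163
theorem F519548 : act 3 n223458 = n204406 := d5_1 D223458 (iv4 F432419) F366542 F350562 (iv3 F428264)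
theorem F519549 : act 5 n223458 = n213412 := d16_1 D223458 (iv4 F511197) (iv5 D221881) (iv4 F404558) (iv5 F393651) F393655 D203430 (iv7 F516166) F516163
theorem F519550 : act 1 n213412 = n222849 := d17_6 (iv1 F375410) (iv5 D119048) D119046 D203429 D223458 F519549 (iv5 D222849) F458150 F458146
theorem F519551 : act 0 n223458 = n204190 := d18_2 (iv1 F428266) D223458 F431418 (iv5 D201386) F318223 (iv0 F334439) F356608 (iv0 F404566) F404569
theorem F519552 : act 1 n223458 = n213095 := d18_6 (iv1 D114540) (iv4 F178602) F393273 F393268 D203429 D223458 F468988 F464041 (iv5 D201457)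
def n223459 : Q := act 4 n203430
theorem D223459 : act 4 n203430 = n223459 := rfl
theorem F519553 : act 3 n223459 = n204212 := d5_1 D223459 (iv4 F482566) (iv3 F493119) F493120 F482056
theorem F519554 : act 6 n223459 = n208421 := d10_2 F428270 D223459 F449287
theorem F519555 : act 7 n223459 = n204544 := d11_2 F516166 D223459 (iv4 F516169)
theorem F519556 : act 0 n223459 = n213095 := d18_2 (iv1 F428269) D223459 F468988 F464038 (iv4 F314676) F314674 F334437 (iv0 D144976) D144978
theorem F519557 : act 1 n223459 = n204190 := d18_6 (iv1 F178608) (iv4 F178854) (iv1 F393653) F393655 D203430 D223459 F431418 (iv0 F420573) (iv5 D201456)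
def n223460 : Q := act 5 n203432
theorem D223460 : act 5 n203432 = n223460 := rfl
theorem F519558 : act 2 n223460 = n213112 := d2_1 D223460 (iv5 D213112) (iv2 F428274)
theorem F519559 : act 3 n223460 = n220438 := d6_1 D223460 F503782 F491103
theorem F519560 : act 4 n223460 = n210820 := d16_2 D203432 D223460 (iv5 D210820) (iv4 D139848) D139849 (iv4 F419447) F419448 (iv7 D152538) (iv2 F187302)
theorem F519561 : act 0 n223460 = n222859 := d17_2 (iv1 F428277) D223460 (iv5 D222859) (iv4 D201532) (iv5 D114792) (iv0 D52970) D52972 D114800 D201539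
theorem F519562 : act 1 n223460 = n222862 := d17_6 (iv1 F428269) (iv5 D203430) (iv1 D119047) D119048 D203432 D223460 (iv5 D222862) (iv0 F463997) (iv4 D212024)
def n223461 : Q := act 6 n203433
theorem D223461 : act 6 n203433 = n223461 := rfl
theorem F519563 : act 2 n223461 = n213109 := d3_1 D223461 (iv6 D213109) (iv2 F428278)
theorem F519564 : act 3 n223461 = n214164 := d7_1 D223461 F491101 F491096
theorem F519565 : act 4 n223461 = n213068 := d10_1 D223461 (iv6 D213068) (iv4 F428280)
theorem F519566 : act 7 n223461 = n216699 := d14_2 (iv7 F428279) D223461 F500644 F500642 (iv6 D213116)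
theorem F519567 : act 0 n223461 = n216462 := d21_4 (iv5 D201560) (iv1 F187309) D203433 D223461 F484491 F489883 F489886 F487159 (iv6 D213119) (iv1 F420945)
theorem F519568 : act 1 n219451 = n216699 := d15_1 (iv0 F498940) (iv7 F519566) F519563
def n223462 : Q := act 6 n203437
theorem D223462 : act 6 n203437 = n223462 := rfl
theorem F519569 : act 2 n223462 = n216877 := d3_1 D223462 F486342 (iv2 F428295)
theorem F519570 : act 3 n223462 = n216887 := d7_1 D223462 F486393 (iv3 F428296)
theorem F519571 : act 4 n223462 = n222531 := d10_1 D223462 F514749 F461739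
theorem F519572 : act 5 n223462 = n213114 := d12_1 D223462 (iv6 D213114) (iv5 F356611) (iv6 F356610) D203437
theorem F519573 : act 7 n223462 = n216873 := d14_2 (iv7 F428297) D223462 (iv6 D216873) F288660 D194164
theorem F519574 : act 0 n223462 = n208034 := d21_4 F175874 D119067 D203437 D223462 (iv6 D208034) F214066 (iv1 F99081) (iv5 F217463) F415807 (iv1 D200278)
theorem F519575 : act 0 n216876 = n223462 := d21_4 F377676 (iv1 F217929) (iv5 F379614) (iv6 F486337) (iv6 D223462) (iv5 D203437) (iv1 F259010) (iv5 F477853) F477854 F377678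
def n223463 : Q := act 0 n203495
theorem D223463 : act 0 n203495 = n223463 := rfl
theorem F519576 : act 4 n223463 = n205844 := d18_1 D223463 (iv1 F438112) (iv4 F397053) (iv5 F429270) (iv4 F472368) (iv0 D213846) (iv4 F245160) (iv0 F422555) F428553
theorem F519577 : act 6 n223463 = n210792 := d21_5 (iv5 F519315) F519317 (iv5 F472226) (iv6 F428552) D223463 F458811 (iv1 D141332) D141333 D211258 (iv1 F471930)
theorem F519578 : act 2 n211527 = n223463 := d15_3 (iv0 D223463) (iv0 F451450) (iv7 F461983)
theorem F519579 : act 1 n210178 = n223463 := d15_0 (iv0 D223463) (iv7 F511073) F511070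
theorem F519580 : act 7 n223463 = n205842 := d15_2 F456475 F519579 (iv2 F451448)
theorem F519581 : act 3 n211918 = n223463 := d8_3 F519580 (iv3 F438101) (iv7 F463581)
def n223464 : Q := act 6 n203513
theorem D223464 : act 6 n203513 = n223464 := rfl
theorem F519582 : act 2 n223464 = n213660 := d3_1 D223464 F471498 (iv2 F428644)
theorem F519583 : act 4 n223464 = n203514 := d10_1 D223464 (iv6 D203514) D203513
theorem F519584 : act 5 n223464 = n220669 := d12_1 D223464 (iv6 F512875) F512871 F480490 F480486
theorem F519585 : act 0 n223464 = n221569 := d21_4 D175124 D215557 F480486 D223464 (iv6 D221569) F401465 D206531 F472150 F472149 (iv1 D175122)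
def n223465 : Q := act 6 n203529
theorem D223465 : act 6 n203529 = n223465 := rfl
theorem F519586 : act 2 n223465 = n212533 := d3_1 D223465 F466300 F428739
theorem F519587 : act 3 n223465 = n206197 := d7_1 D223465 F439670 F428740
theorem F519588 : act 4 n223465 = n214136 := d10_1 D223465 (iv6 F478597) F478594
theorem F519589 : act 5 n223465 = n212532 := d12_1 D223465 F466296 (iv5 D175197) D175198 (iv5 F428738)
theorem F519590 : act 7 n223465 = n220725 := d14_2 (iv7 F428737) D223465 (iv6 F505177) (iv7 F478074) F478073
theorem F519591 : act 0 n223465 = n220726 := d21_4 (iv5 D193408) F359262 (iv5 F428738) D223465 F505184 (iv5 F465864) F465867 F403147 F209086 (iv1 F389754)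
theorem F519592 : act 0 n220724 = n223465 := d21_4 (iv5 F349887) F354572 (iv5 F392905) D220724 (iv6 D223465) F428738 F343506 (iv5 F438548) (iv6 F438551) F388869
def n223466 : Q := act 3 n203553
theorem D223466 : act 3 n203553 = n223466 := rfl
theorem F519593 : act 2 n223466 = n220742 := d0_1 D223466 (iv3 D220742) F393212 (iv3 F428901) F428900
theorem F519594 : act 4 n223466 = n220757 := d5_2 (iv4 F428856) D223466 F505344 F393680 F392787
theorem F519595 : act 6 n223466 = n213794 := d7_2 F428857 D223466 (iv3 D213794)
theorem F519596 : act 7 n223466 = n221429 := d8_2 F428896 D223466 F508986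
theorem F519597 : act 0 n223466 = n220274 := d20_4 (iv4 D203508) F359981 (iv4 F428856) D223466 (iv3 D220274) (iv4 D193278) F356435 D184626 (iv3 F423102) (iv1 F428624)
def n223467 : Q := act 6 n203566
theorem D223467 : act 6 n203566 = n223467 := rfl
theorem F519598 : act 2 n223467 = n213754 := d3_1 D223467 (iv6 D213754) (iv2 F428910)
theorem F519599 : act 3 n223467 = n213130 := d7_1 D223467 F470514 F470511
theorem F519600 : act 4 n223467 = n223146 := d10_1 D223467 (iv6 D223146) (iv4 F428912)
theorem F519601 : act 5 n223467 = n213451 := d12_1 D223467 F470458 F428919 (iv6 D203567) D203566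
theorem F519602 : act 0 n223467 = n209494 := d21_4 F346069 F364732 D203566 D223467 (iv6 D209494) F219634 F328849 (iv5 F328850) (iv6 F329193) D117643
theorem F519603 : act 0 n220465 = n223467 := d21_4 (iv5 D193023) D193022 D220156 F503907 (iv6 D223467) (iv5 D203566) (iv1 F426868) (iv5 D203068) D203069 (iv1 F426873)
def n223468 : Q := act 4 n203582
theorem D223468 : act 4 n203582 = n223468 := rfl
theorem F519604 : act 2 n223468 = n209556 := d1_1 D223468 (iv4 F454117) (iv2 F428983)
theorem F519605 : act 6 n223468 = n222735 := d10_2 (iv6 F428981) D223468 (iv4 D222735)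
theorem F519606 : act 7 n223468 = n209526 := d11_2 F428982 D223468 (iv4 F454031)
theorem F519607 : act 0 n223468 = n205117 := d17_0 (iv5 D205117) D205114 (iv5 F435033) (iv4 F489513) F489514 (iv0 F461833) F415822 F428988 D223468
theorem F519608 : act 1 n223468 = n205127 := d18_6 F513202 (iv4 F496378) (iv1 D218957) (iv4 F486336) F486338 D223468 F435074 D222262 F513226
theorem F519609 : act 3 n223468 = n209163 := d19_3 D216876 F486338 D223468 (iv1 D209163) (iv5 D135896) F99389 (iv3 D49925) D49924 (iv5 F167078) F167079 (iv3 F175916) D200302 F415902 F390703 F157088 (iv1 F353347) F353349 F292436 (iv3 F288666)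
def n223469 : Q := act 4 n203583
theorem D223469 : act 4 n203583 = n223469 := rfl
theorem F519610 : act 2 n223469 = n209526 := d1_1 D223469 (iv4 F454031) (iv2 F428987)
theorem F519611 : act 3 n223469 = n210526 := d5_1 D223469 F457921 (iv3 F490358) (iv4 F490355) F475129
theorem F519612 : act 6 n223469 = n207370 := d10_2 F428986 D223469 F444552
theorem F519613 : act 7 n223469 = n209556 := d11_2 (iv7 F428985) D223469 (iv4 F454117)
theorem F519614 : act 5 n223469 = n220429 := d16_1 D223469 F503732 F459441 (iv4 F459437) F394616 (iv4 F486336) F486338 (iv7 F428982) (iv2 F428987)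
theorem F519615 : act 0 n223469 = n205127 := d18_2 (iv1 F428984) D223469 F435074 (iv5 D198959) (iv4 F379573) F379576 D211499 (iv0 F461833) F415822
theorem F519616 : act 1 n223469 = n205117 := d18_6 (iv1 F494876) (iv4 F496370) F496375 (iv4 F477728) F447539 D223469 F435046 (iv0 F453453) (iv5 F494873)
def n223470 : Q := act 5 n203592
theorem D223470 : act 5 n203592 = n223470 := rfl
theorem F519617 : act 2 n223470 = n210749 := d2_1 D223470 F458682 (iv2 F429034)
theorem F519618 : act 6 n223470 = n213242 := d12_2 D203592 D223470 (iv5 D213242) (iv6 D152870) (iv5 F188665)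
theorem F519619 : act 7 n223470 = n210750 := d13_2 (iv7 F429036) D223470 F458684
theorem F519620 : act 0 n223470 = n210751 := d17_2 F429037 D223470 F458689 F222816 (iv5 F316828) (iv0 D117406) F85405 D72096 D152788
theorem F519621 : act 1 n223470 = n210740 := d17_6 F505471 F393578 F364334 (iv5 F239723) (iv4 F429035) D223470 (iv5 D210740) D210739 (iv4 F505472)
def n223471 : Q := act 4 n203593
theorem D223471 : act 4 n203593 = n223471 := rfl
theorem F519622 : act 2 n223471 = n216720 := d1_1 D223471 F485614 (iv2 F455166)
theorem F519623 : act 3 n223471 = n223085 := d5_1 D223471 F517569 F519357 F519356 (iv3 F518501)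
theorem F519624 : act 7 n223471 = n213876 := d11_2 (iv7 F429045) D223471 F472534
theorem F519625 : act 5 n223471 = n204601 := d16_1 D223471 F455173 (iv5 D209855) (iv4 F357241) F198921 (iv4 F277541) (iv5 F429041) (iv7 F455168) (iv2 F455166)
theorem F519626 : act 0 n223471 = n223013 := d17_0 F517252 F451162 F451161 F389481 D213065 (iv0 F473012) (iv5 D213991) F429039 D223471
def n223472 : Q := act 4 n203594
theorem D223472 : act 4 n203594 = n223472 := rfl
theorem F519627 : act 2 n223472 = n213876 := d1_1 D223472 F472534 (iv2 F429044)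
theorem F519628 : act 3 n223472 = n213600 := d5_1 D223472 F471239 (iv3 F449992) (iv4 F472526) F472525
theorem F519629 : act 5 n223472 = n204602 := d9_2 (iv5 F429041) D223472 (iv4 F455169) (iv5 D152347) (iv4 F186772) (iv5 F391249) (iv4 F504241) F504242 D223471 F519625 F455173 (iv5 D209855) (iv4 F357241) F198921 (iv4 F277541)
theorem F519630 : act 6 n223472 = n204567 := d10_2 F429042 D223472 F432892
theorem F519631 : act 7 n223472 = n216720 := d11_2 F455168 D223472 F485614
theorem F519632 : act 1 n223472 = n223013 := d18_6 (iv1 F485321) (iv4 D215868) (iv1 D177999) (iv4 F277541) (iv5 F429041) D223472 F517251 D223014 F517259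
def n223473 : Q := act 0 n203596
theorem D223473 : act 0 n203596 = n223473 := rfl
theorem F519633 : act 5 n223473 = n220632 := d17_1 D223473 F504718 (iv5 D213949) F245277 (iv5 F430846) (iv0 D204023) (iv5 F255956) F462681 F462685
theorem F519634 : act 4 n223473 = n204776 := d18_1 D223473 F455943 F455941 (iv5 F481506) F481505 (iv0 F457427) F485430 F485428 F481789
theorem F519635 : act 3 n223473 = n214621 := d20_5 (iv4 D203603) (iv1 D119624) (iv4 F188673) (iv3 F429047) D223473 F476089 D214622 (iv4 F509593) F509592 (iv1 F429068)
theorem F519636 : act 6 n223473 = n204775 := d21_5 D213065 (iv1 F468839) (iv5 D203595) D203596 D223473 (iv5 F512232) (iv1 F512236) F433545 (iv6 F357238) (iv1 F366080)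
theorem F519637 : act 1 n216676 = n223473 := d15_0 (iv0 D223473) F481786 (iv2 F485434)
theorem F519638 : act 2 n204812 = n223473 := d3_3 F519636 F433533 D204812
def n223474 : Q := act 1 n203596
theorem D223474 : act 1 n203596 = n223474 := rfl
theorem F519639 : act 1 n223474 = n216676 := d15_1 D223474 F485437 F455179
theorem F519640 : act 7 n223474 = n204812 := d15_2 (iv0 D223473) D223474 F519638
theorem F519641 : act 5 n223474 = n220634 := d17_7 D216445 (iv5 F484408) (iv1 F488156) F488153 F484449 F481789 D223474 F504727 (iv4 F472855)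
theorem F519642 : act 4 n204815 = n223474 := d20_0 (iv1 D223474) (iv4 F462685) (iv3 F462683) F440451 (iv3 F472043) (iv4 D213775) (iv1 F366509) F349902 (iv3 F455940) F455942
theorem F519643 : act 3 n222014 = n223474 := d20_3 F423019 (iv1 F407704) (iv4 F511909) (iv1 D223474) F429047 F188673 D119623 D203602 (iv3 F514060) (iv1 F514063)
theorem F519644 : act 6 n210500 = n223474 := d21_3 D202183 F423150 (iv5 F457807) (iv1 D223474) (iv6 D203596) D203595 F468831 (iv5 D213063) F455007 (iv1 D202182)
def n223475 : Q := act 1 n203597
theorem D223475 : act 1 n203597 = n223475 := rfl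
theorem F519645 : act 1 n223475 = n204449 := d15_1 D223475 (iv7 F469472) F469470
theorem F519646 : act 7 n223475 = n220644 := d15_2 (iv0 F517455) D223475 (iv2 F517453)
theorem F519647 : act 4 n223475 = n217513 := d18_7 F374136 (iv4 F233683) F415425 F415423 (iv5 F470543) F470542 D223475 (iv0 F489263) F392051
theorem F519648 : act 2 n220642 = n223475 := d1_3 F519647 (iv2 F489262) D220642
theorem F519649 : act 6 n216656 = n223475 := d10_0 F519647 (iv6 F500604) F500603
def n223476 : Q := act 5 n203602
theorem D223476 : act 5 n203602 = n223476 := rfl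
theorem F519650 : act 2 n223476 = n213776 := d2_1 D223476 (iv5 D213776) (iv2 F429058)
theorem F519651 : act 3 n223476 = n204608 := d6_1 D223476 (iv5 F514058) F514060
theorem F519652 : act 6 n223476 = n204606 := d12_2 (iv6 F429059) D223476 (iv5 F432993) F400983 F351565
theorem F519653 : act 7 n223476 = n221499 := d13_2 (iv7 F429060) D223476 F509315
theorem F519654 : act 0 n223476 = n223077 := d17_2 F429061 D223476 F517527 F458970 D210843 (iv0 F474103) (iv5 F481257) (iv0 F481262) (iv4 F403387)
theorem F519655 : act 1 n223476 = n223076 := d17_6 (iv1 F246203) (iv5 F428403) F428405 F381141 D203602 D223476 F517525 F458996 (iv4 D202480)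
def n223477 : Q := act 5 n203604
theorem D223477 : act 5 n203604 = n223477 := rfl
theorem F519656 : act 2 n223477 = n219884 := d2_1 D223477 (iv5 D219884) F429072
theorem F519657 : act 3 n223477 = n216644 := d6_1 D223477 (iv5 F517259) (iv3 F517256)
theorem F519658 : act 4 n223477 = n217890 := d9_1 D223477 (iv5 D217890) (iv4 F420479) F420480 F251832 (iv5 F372278) F372284 D214163 (iv4 F491098) (iv5 D217888) F372331 (iv5 F376456) F376455 F375470 (iv4 F429070)
theorem F519659 : act 6 n223477 = n216642 := d12_2 F473821 D223477 (iv5 F485314) (iv6 F485440) (iv5 F485443)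
theorem F519660 : act 7 n223477 = n219882 := d13_2 (iv7 F429074) D223477 (iv5 D219882)
theorem F519661 : act 1 n223477 = n203619 := d17_6 F367251 (iv5 F292681) D189027 F375470 (iv4 F429070) D223477 F429104 (iv0 F386147) (iv4 D192236)
def n223478 : Q := act 5 n203605
theorem D223478 : act 5 n203605 = n223478 := rfl
theorem F519662 : act 2 n223478 = n203606 := d2_1 D223478 (iv5 D203606) D203605
theorem F519663 : act 3 n223478 = n213968 := d6_1 D223478 (iv5 D213968) (iv3 F429076)
theorem F519664 : act 7 n223478 = n220195 := d13_2 (iv7 F429078) D223478 (iv5 D220195)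
theorem F519665 : act 0 n223478 = n219775 := d17_2 (iv1 F429079) D223478 (iv5 D219775) (iv4 D192236) (iv5 D99919) (iv0 F157760) D188082 F372274 D192394
theorem F519666 : act 1 n223478 = n210777 := d17_6 F339912 (iv5 D93338) D93335 D189173 (iv4 F429077) D223478 F458748 F386627 (iv4 F339914)
def n223479 : Q := act 6 n203605
theorem D223479 : act 6 n203605 = n223479 := rfl
theorem F519667 : act 2 n223479 = n203607 := d3_1 D223479 (iv6 D203607) D203605
theorem F519668 : act 3 n223479 = n213969 := d7_1 D223479 (iv6 D213969) (iv3 F429076)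
theorem F519669 : act 4 n223479 = n218374 := d10_1 D223479 (iv6 D218374) (iv4 F429077)
theorem F519670 : act 7 n223479 = n223120 := d14_2 (iv7 F429078) D223479 (iv6 D223120) (iv7 F502595) (iv6 D220196)
def n223480 : Q := act 0 n203606
theorem D223480 : act 0 n203606 = n223480 := rfl
theorem F519671 : act 5 n223480 = n217658 := d17_3 F372285 D203606 D223480 (iv4 D217658) (iv5 D187708) F157736 D90792 D188084 F372284
theorem F519672 : act 4 n223480 = n217892 := d18_1 D223480 (iv1 D217892) D217893 F491126 (iv4 D192392) F372276 (iv4 F429070) (iv0 D203604) D203606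
theorem F519673 : act 2 n219775 = n223480 := d15_3 (iv0 D223480) (iv0 F485868) (iv7 F500567)
theorem F519674 : act 1 n220195 = n223480 := d15_0 (iv0 D223480) (iv7 F469423) (iv2 F502585)
theorem F519675 : act 7 n223480 = n210777 := d15_2 (iv0 F502587) F519674 (iv2 F485865)
def n223481 : Q := act 4 n203606
theorem D223481 : act 4 n203606 = n223481 := rfl
theorem F519676 : act 3 n223481 = n213601 := d5_1 D223481 (iv4 F504835) F504834 F420943 (iv3 F429081)
theorem F519677 : act 5 n223481 = n204513 := d9_2 D203606 D223481 F432772 (iv5 D193117) (iv4 D101196) D101197 D193118 D220195 F502586 (iv5 D213760) (iv4 F370618) (iv5 D187504) F138871 D101200 F349185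
theorem F519678 : act 0 n223481 = n220208 := d18_2 F485868 D223481 (iv4 D220208) (iv5 D193128) (iv4 D101204) D101203 D193124 (iv0 F491021) F491020
theorem F519679 : act 1 n223481 = n215874 := d18_6 F335720 F245103 F349187 F349185 D203606 D223481 (iv4 F481881) (iv0 F458729) (iv5 D192399)
theorem F519680 : act 6 n223481 = n204317 := d21_5 F472894 F435643 F414239 (iv6 F481880) (iv1 F519679) F432013 F348263 D214225 F474079 (iv1 F472896)
def n223482 : Q := act 6 n203606
theorem D223482 : act 6 n203606 = n223482 := rfl
theorem F519681 : act 3 n223482 = n203608 := d7_1 D223482 (iv6 D203608) (iv3 F429081)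
theorem F519682 : act 4 n223482 = n204317 := d10_1 D223482 (iv6 F519680) (iv4 D223481)
theorem F519683 : act 7 n204316 = n223482 := d11_0 F519682 (iv7 D204317) D204316
def n223483 : Q := act 0 n203607
theorem D223483 : act 0 n203607 = n223483 := rfl
theorem F519684 : act 5 n223483 = n223069 := d19_1 D223483 F517507 (iv3 F505057) (iv1 D216779) F363546 F221880 (iv3 D65141) (iv1 F316091) (iv5 F85187) F323507 D121488 (iv1 F428379) (iv5 D203452) (iv4 F350915) F403380 (iv1 D197170) D197171 (iv4 F403387) (iv3 F429082)
theorem F519685 : act 4 n223483 = n217875 := d20_2 (iv4 F429083) D223483 F499874 (iv1 D211624) F365416 (iv4 F410189) F410192 F410151 (iv3 F431766) F431767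
theorem F519686 : act 3 n223483 = n204791 := d20_5 (iv4 F472288) F472292 (iv4 F403387) (iv3 F429082) D223483 F433599 D204792 F481785 F481784 F460394
theorem F519687 : act 6 n223483 = n204789 := d21_5 F491020 F485868 (iv5 D203606) D203607 D223483 (iv5 F517298) F517297 (iv5 F455648) F455646 (iv1 F491022)
theorem F519688 : act 1 n223120 = n223483 := d15_0 (iv0 D223483) (iv7 F517271) (iv2 F517749)
def n223484 : Q := act 1 n203607
theorem D223484 : act 1 n203607 = n223484 := rfl
theorem F519689 : act 1 n223484 = n223120 := d15_1 D223484 (iv7 F519670) F519667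
theorem F519690 : act 5 n223484 = n223068 := d17_7 F485863 F485860 F422838 D202038 D223023 (iv5 F517301) D223484 (iv0 D223068) F472939
theorem F519691 : act 3 n223274 = n223484 := d19_19 (iv1 D223484) F517301 (iv4 D223023) (iv3 F422841) F481712 F481709 F472161 F244850 (iv1 F434604) F434606 F342267 (iv3 D127628) (iv1 D59929) D59930 D127633 D206166 F506230 F506229 (iv4 F518566)
theorem F519692 : act 4 n217876 = n223484 := d20_6 (iv4 D155687) (iv1 F238097) (iv4 F340830) (iv3 F460627) (iv1 F484893) F500819 (iv1 D223484) F429083 F403436 F403435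
theorem F519693 : act 6 n219836 = n223484 := d21_3 F472730 (iv1 F425275) (iv5 F500821) (iv1 D223484) (iv6 D203607) D203606 D223480 F519671 (iv6 F498758) F498760
def n223485 : Q := act 5 n203608
theorem D223485 : act 5 n203608 = n223485 := rfl
theorem F519694 : act 2 n223485 = n223048 := d2_1 D223485 F517425 F469432
theorem F519695 : act 4 n223485 = n221493 := d9_1 D223485 (iv5 D221493) F406388 F406389 F374016 F367266 (iv4 F392017) D220629 (iv4 F509279) (iv5 D221492) (iv4 F400986) D205886 (iv4 F492309) F492308 F489265
theorem F519696 : act 6 n223485 = n203609 := d12_2 D203608 D223485 (iv5 D203609) (iv6 D119630) D119629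
theorem F519697 : act 7 n223485 = n223044 := d13_2 F504704 D223485 F517407
theorem F519698 : act 0 n223485 = n220508 := d17_2 (iv1 F504695) D223485 (iv5 F504115) F504067 (iv5 D204447) F241664 (iv5 F470543) F470546 (iv4 F504693)
def n223486 : Q := act 4 n203609
theorem D223486 : act 4 n203609 = n223486 := rfl
theorem F519699 : act 2 n223486 = n223049 := d1_1 D223486 (iv4 F519044) F519040
theorem F519700 : act 3 n223486 = n223044 := d5_1 D223486 (iv4 D223044) F422841 D223023 F517300
theorem F519701 : act 6 n223486 = n221493 := d10_2 F519696 D223486 (iv4 F519695)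
theorem F519702 : act 5 n223486 = n204316 := d16_1 D223486 (iv4 D204316) (iv5 D123511) (iv4 F197932) D204312 F432006 D223112 (iv7 F519043) F519040
theorem F519703 : act 1 n223486 = n209881 := d18_6 F460394 (iv4 F472288) F472292 (iv4 F403387) D203609 D223486 (iv4 F517187) F517189 F481782
def n223487 : Q := act 5 n203611
theorem D223487 : act 5 n203611 = n223487 := rfl
theorem F519704 : act 2 n223487 = n203612 := d2_1 D223487 (iv5 D203612) D203611
theorem F519705 : act 3 n223487 = n220195 := d6_1 D223487 (iv5 D220195) (iv3 F429088)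
theorem F519706 : act 4 n223487 = n208851 := d9_1 D223487 (iv5 D208851) F370505 D197698 (iv4 F440365) (iv5 D206350) (iv4 F427000) (iv5 F469428) F469427 F367247 F351281 F351283 (iv4 F164751) D196317 (iv4 F429089)
theorem F519707 : act 7 n223487 = n213968 := d13_2 (iv7 F429091) D223487 (iv5 D213968)
theorem F519708 : act 0 n223487 = n204612 := d17_2 (iv1 F429092) D223487 F433025 F400940 (iv5 F351297) (iv0 D116102) D116104 D202613 F424752
theorem F519709 : act 1 n223487 = n216663 := d17_6 (iv1 F508857) (iv5 D221406) (iv1 D196316) D196317 (iv4 F429089) D223487 F485365 (iv0 F400971) (iv4 F402304)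
def n223488 : Q := act 1 n203612
theorem D223488 : act 1 n203612 = n223488 := rfl
theorem F519710 : act 1 n223488 = n213968 := d15_1 D223488 (iv7 F519707) F519704
theorem F519711 : act 7 n223488 = n204612 := d15_2 (iv0 F429095) D223488 F433022
theorem F519712 : act 5 n223488 = n213444 := d17_7 F499952 (iv5 F449866) (iv1 D208553) (iv5 F427594) F427593 D203612 D223488 F470436 (iv4 F499950)
theorem F519713 : act 4 n223488 = n204614 := d17_9 (iv1 F433033) (iv5 F370637) (iv1 F405407) (iv5 F432733) F432732 (iv5 D156148) (iv0 F366540) D203612 D223488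
theorem F519714 : act 3 n223029 = n223488 := d19_19 (iv1 D223488) (iv5 D203612) (iv4 F427593) (iv3 D203271) (iv1 F186218) (iv5 F237417) (iv4 D150847) F337431 D111735 F337425 (iv4 F111368) D108715 F168667 (iv5 F201776) F201775 (iv3 F219669) F391550 D220595 (iv4 F517334)
theorem F519715 : act 6 n210415 = n223488 := d21_9 (iv5 D203612) F366540 D156148 F432730 F432728 F423022 F423021 (iv1 F482070) (iv5 F482071) (iv1 D223488)
theorem F519716 : act 2 n223488 = n216663 := d3_1 F519715 (iv6 F513754) F513752
def n223489 : Q := act 6 n203613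
theorem D223489 : act 6 n203613 = n223489 := rfl
theorem F519717 : act 3 n223489 = n223036 := d7_1 D223489 (iv6 D223036) F503965
theorem F519718 : act 4 n223489 = n219785 := d10_1 D223489 F519462 F519458
theorem F519719 : act 5 n223489 = n222370 := d12_1 D223489 F513843 F500654 F422714 D203613
theorem F519720 : act 7 n223489 = n219782 := d14_2 (iv7 F429096) D223489 (iv6 D219782) F386185 (iv6 F423255)
theorem F519721 : act 1 n216665 = n223489 := d15_1 F485386 F519720 F500599
theorem F519722 : act 1 n223489 = n216668 := d15_1 F519721 F485384 (iv2 F485373)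
def n223490 : Q := act 6 n203616
theorem D223490 : act 6 n203616 = n223490 := rfl
theorem F519723 : act 4 n223490 = n219793 := d10_1 D223490 (iv6 F503917) F503916
theorem F519724 : act 5 n223490 = n223146 := d12_1 D223490 (iv6 D223146) (iv5 F428852) F428850 F429100
theorem F519725 : act 7 n223490 = n203621 := d14_2 F472173 D223490 (iv6 D203621) (iv7 F427011) F472175
theorem F519726 : act 0 n223490 = n220423 := d21_4 F517720 F467703 F429100 D223490 F503707 (iv5 D211765) (iv1 D144074) D144075 (iv6 F423255) D223115
def n223491 : Q := act 1 n203617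
theorem D223491 : act 1 n203617 = n223491 := rfl
theorem F519727 : act 1 n223491 = n213130 := d15_1 D223491 (iv7 F471852) F471850
theorem F519728 : act 7 n223491 = n213050 := d15_2 (iv0 F429101) D223491 F468779
theorem F519729 : act 4 n223491 = n213256 := d17_9 (iv1 F469583) (iv5 D156204) (iv1 F350660) D203655 F429259 (iv5 F374246) (iv0 F471821) F471820 D223491
theorem F519730 : act 6 n213248 = n223491 := d21_3 (iv5 F422942) D223085 F517570 (iv1 D223491) (iv6 F485098) (iv5 F485096) F450056 (iv5 F471192) (iv6 F471195) F454744
theorem F519731 : act 2 n223491 = n213131 := d3_1 F519730 F469131 (iv2 F469570)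
theorem F519732 : act 3 n223491 = n221902 := d7_1 F519730 F511305 (iv3 F469571)
def n223492 : Q := act 3 n203617
theorem D223492 : act 3 n203617 = n223492 := rfl
theorem F519733 : act 4 n223492 = n203622 := d5_2 D203617 D223492 (iv3 D203622) (iv4 D119640) (iv3 F188677)
theorem F519734 : act 5 n223492 = n223435 := d6_2 F471820 D223492 F519442
theorem F519735 : act 6 n223492 = n220992 := d7_2 F485098 D223492 F506686
theorem F519736 : act 0 n223434 = n223492 := d20_4 (iv4 F427915) (iv1 F427918) (iv4 F428012) (iv3 F519437) (iv3 D223492) (iv4 D203617) D203615 (iv4 F516420) F516419 (iv1 D203368)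
def n223493 : Q := act 6 n203620
theorem D223493 : act 6 n203620 = n223493 := rfl
theorem F519737 : act 3 n223493 = n203621 := d7_1 D223493 (iv6 D203621) D203620
theorem F519738 : act 4 n223493 = n210635 := d10_1 D223493 (iv6 F513040) F513039
theorem F519739 : act 5 n223493 = n223143 := d12_1 D223493 (iv6 D223143) (iv5 F456278) F456275 (iv5 F429105)
theorem F519740 : act 0 n210543 = n223493 := d21_4 F472807 (iv1 F472806) F406578 (iv6 F457983) (iv6 D223493) F429105 F400971 (iv5 F485365) (iv6 F513754) F513756
theorem F519741 : act 0 n223143 = n209548 := d17_2 F519740 F519739 (iv5 F481878) F481876 (iv5 F491053) (iv0 F491052) (iv5 F457982) (iv0 D210542) D210543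
def n223494 : Q := act 0 n203621
theorem D223494 : act 0 n203621 = n223494 := rfl
theorem F519742 : act 4 n223494 = n213247 := d18_3 F516501 F516498 D223494 F469567 F452763 F402331 (iv4 F428163) F428165 (iv5 F500590)
theorem F519743 : act 5 n223494 = n220420 := d19_1 D223494 F503700 F390545 F329952 (iv5 F284725) (iv4 F364060) (iv3 F370607) (iv1 F484940) F484936 F376328 (iv3 F383534) F458519 F458515 (iv4 F498414) F498415 F457940 (iv5 F458282) (iv4 F519738) F519737
theorem F519744 : act 3 n223494 = n220423 := d20_5 (iv4 D210637) D210635 (iv4 F519738) F519737 D223494 F503708 F455016 F351169 (iv3 F468841) (iv1 F469554)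
theorem F519745 : act 7 n220423 = n223494 := d13_0 F519743 F503701 D220423
def n223495 : Q := act 5 n203621
theorem D223495 : act 5 n203621 = n223495 := rfl
theorem F519746 : act 2 n223495 = n223279 := d2_1 D223495 F518595 F507650
theorem F519747 : act 3 n223495 = n223143 := d6_1 D223495 (iv5 F519739) F519737
theorem F519748 : act 6 n223495 = n213155 := d12_2 D203621 D223495 F469247 F239942 (iv5 F188681)
theorem F519749 : act 7 n223495 = n223146 := d13_2 F519725 D223495 (iv5 F519724)
def n223496 : Q := act 0 n203622
theorem D223496 : act 0 n203622 = n223496 := rfl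
theorem F519750 : act 5 n223496 = n213125 := d19_1 D223496 F469112 (iv3 F374181) (iv1 D188468) F295234 (iv4 F285757) (iv3 F390545) (iv1 F467294) (iv5 F483879) (iv4 F490300) F490299 (iv1 D208553) (iv5 F427594) F427593 (iv3 D119631) (iv1 D55043) D55045 D119640 D203622
def n223497 : Q := act 1 n203622
theorem D223497 : act 1 n203622 = n223497 := rfl
theorem F519751 : act 3 n210484 = n223497 := d19_19 (iv1 D223497) F429107 (iv4 F460606) F460605 (iv1 F250832) D214388 F474922 F358623 F466379 F466377 (iv4 F492615) F508792 (iv1 D221394) (iv5 F457523) (iv4 F457938) (iv3 F498415) (iv1 F498419) (iv5 F475223) F475222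
theorem F519752 : act 5 n210482 = n223497 := d21_0 (iv1 D223497) F429107 F363776 (iv1 F224429) (iv6 F372579) D191789 (iv1 F499538) F499540 (iv6 F502397) (iv1 F502398)
theorem F519753 : act 6 n210483 = n223497 := d21_3 (iv5 F365481) F365490 D210483 (iv1 D223497) F429108 (iv5 D202580) (iv1 F396341) (iv5 F500094) (iv6 D219694) F385266
def n223498 : Q := act 4 n203679
theorem D223498 : act 4 n203679 = n223498 := rfl
theorem F519754 : act 3 n223498 = n222889 := d5_1 D223498 F516607 (iv3 D203699) F191550 (iv3 F429385)
theorem F519755 : act 5 n223498 = n222828 := d9_2 D203679 D223498 F516309 F421200 F407186 (iv5 D198195) (iv4 F173136) D199680 D222458 F514322 F421569 D201725 F421575 F341314 (iv4 F191498)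
theorem F519756 : act 7 n223498 = n222889 := d11_2 F429449 D223498 F516607
def n223499 : Q := act 7 n203688
theorem D223499 : act 7 n203688 = n223499 := rfl
theorem F519757 : act 2 n223499 = n204670 := d4_1 D223499 (iv7 F476135) F476132
theorem F519758 : act 3 n223499 = n219042 := d8_1 D223499 F496852 F495136
theorem F519759 : act 4 n223499 = n222040 := d11_1 D223499 F512031 (iv4 F452105)
theorem F519760 : act 5 n223499 = n209503 := d13_1 D223499 F453948 (iv5 F429425)
theorem F519761 : act 6 n223499 = n220818 := d14_1 D223499 F505698 (iv6 F412240) F412091 D203688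
theorem F519762 : act 1 n203784 = n223499 := d15_1 (iv0 F476137) (iv7 D223499) (iv2 F476132)
theorem F519763 : act 1 n223499 = n204672 := d15_1 F519762 (iv7 F482727) F482723
def n223500 : Q := act 4 n203693
theorem D223500 : act 4 n203693 = n223500 := rfl
theorem F519764 : act 3 n223500 = n219078 := d5_1 D223500 F497065 F497001 (iv4 F514412) (iv3 F514415)
theorem F519765 : act 5 n223500 = n218113 := d9_2 D203693 D223500 F492194 F443283 F418537 F362642 (iv4 F330794) D203694 (iv4 F463237) (iv5 D211834) F443280 F443277 F397817 (iv5 F365185) F261369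
theorem F519766 : act 0 n223500 = n216920 := d17_0 (iv5 D216920) (iv1 D186322) (iv5 F289074) F433364 F433361 F253110 D214593 F475962 D223500
theorem F519767 : act 1 n223500 = n216918 := d18_6 D197935 F406237 (iv1 F362640) F261369 D203693 D223500 F511772 (iv0 D221986) (iv5 D197937)
def n223501 : Q := act 4 n203701
theorem D223501 : act 4 n203701 = n223501 := rfl
theorem F519768 : act 2 n223501 = n221789 := d1_1 D223501 F510817 F475966
theorem F519769 : act 6 n223501 = n210418 := d10_2 F432562 D223501 F457450
theorem F519770 : act 7 n223501 = n215270 := d11_2 (iv7 F429457) D223501 (iv4 D215270)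
theorem F519771 : act 0 n223501 = n219820 := d18_2 (iv1 F429459) D223501 (iv4 D219820) (iv5 F386372) (iv4 F384507) (iv0 F357868) F357866 F389107 F389105
theorem F519772 : act 1 n223501 = n219818 := d18_6 D100042 F344419 (iv1 F353899) F353902 D203701 D223501 (iv4 D219818) (iv0 D192305) (iv5 D100044)
def n223502 : Q := act 0 n203719
theorem D223502 : act 0 n203719 = n223502 := rfl
theorem F519773 : act 5 n223502 = n204003 := d17_3 (iv1 F483356) F483352 D223502 (iv4 D204003) (iv5 D122405) F89706 (iv5 F151815) F195857 D204005
theorem F519774 : act 4 n223502 = n203729 := d18_1 D223502 (iv1 F429569) (iv4 F430811) (iv5 D204009) (iv4 D122409) (iv0 F289787) D194090 (iv0 F483355) F483352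
theorem F519775 : act 6 n223502 = n204026 := d21_5 (iv5 F366876) (iv1 F302009) (iv5 F304604) (iv6 F429538) D223502 (iv5 F430885) F510929 F510928 (iv6 D215201) (iv1 F366875)
theorem F519776 : act 1 n204143 = n223502 := d15_0 (iv0 D223502) (iv7 F498677) F498674
theorem F519777 : act 3 n204027 = n223502 := d19_19 (iv1 F519776) F431187 (iv4 D191329) (iv3 F383064) F486239 F486237 (iv4 D194752) F388067 (iv1 F489647) F489643 (iv4 F476568) (iv3 F503876) F515094 F515090 F507597 F460435 F362316 D177486 (iv4 F430851)
theorem F519778 : act 7 n223502 = n204140 := d8_2 F458183 F519777 (iv3 F458182)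
theorem F519779 : act 2 n223502 = n204139 := d15_3 (iv0 D204139) D204140 (iv7 F519778)
def n223503 : Q := act 1 n203719
theorem D223503 : act 1 n203719 = n223503 := rfl
theorem F519780 : act 1 n223503 = n204143 := d15_1 D223503 (iv7 D204143) (iv2 F429537)
theorem F519781 : act 7 n223503 = n204139 := d15_2 (iv0 D223502) D223503 (iv2 F519779)
theorem F519782 : act 5 n223503 = n204001 := d17_7 (iv1 F356425) (iv5 D171173) (iv1 F335655) D182176 D216202 F483352 D223503 (iv0 F458373) F458371
theorem F519783 : act 4 n223503 = n203730 := d17_9 (iv1 D203730) (iv5 D120419) (iv1 F356365) D199388 (iv4 F504746) (iv5 D220638) (iv0 F483355) F483352 D223503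
theorem F519784 : act 6 n208271 = n223503 := d21_3 F478866 (iv1 F473603) F473600 (iv1 D223503) F429538 F304604 F302008 (iv5 D170658) D170659 D215206
theorem F519785 : act 2 n223503 = n204140 := d3_1 F519784 (iv6 F431176) (iv2 F448664)
def n223504 : Q := act 0 n203721
theorem D223504 : act 0 n203721 = n223504 := rfl
theorem F519786 : act 5 n223504 = n209015 := d21_2 (iv5 F429545) D223504 F451851 (iv1 F218682) D136794 (iv5 F449626) (iv1 F517567) (iv5 D223084) F433604 (iv1 D204793)
theorem F519787 : act 6 n223504 = n207524 := d21_5 (iv5 D57862) D57860 (iv5 F191764) D203721 D223504 F445292 (iv1 F328735) F304694 (iv6 D122424) (iv1 F302107)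
theorem F519788 : act 1 n204025 = n223504 := d15_0 (iv0 D223504) (iv7 F462688) F462686
theorem F519789 : act 3 n209688 = n223504 := d20_3 F462557 (iv1 F473511) F473509 (iv1 F519788) F430849 (iv4 D186750) D186749 F368860 (iv3 F390676) (iv1 F462558)
theorem F519790 : act 2 n223504 = n204023 := d0_1 F519789 (iv3 F430848) F218033 (iv3 F220032) (iv2 F454634)
theorem F519791 : act 7 n204024 = n223504 := d15_2 (iv0 D204023) D204024 F519790
def n223505 : Q := act 1 n203721
theorem D223505 : act 1 n203721 = n223505 := rfl
theorem F519792 : act 1 n223505 = n204025 := d15_1 D223505 (iv7 D204025) (iv2 F429544)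
theorem F519793 : act 7 n223505 = n204023 := d15_2 (iv0 D223504) D223505 (iv2 F519790)
theorem F519794 : act 3 n209019 = n223505 := d20_3 (iv4 F454705) (iv1 F454706) (iv4 F451872) (iv1 D223505) (iv3 F501518) F501519 F500720 (iv4 D209757) F220064 D136890
theorem F519795 : act 6 n216022 = n223505 := d21_3 F482457 F449615 (iv5 F482585) (iv1 D223505) (iv6 D203721) F191764 F301707 D85838 (iv6 F279924) D215991
theorem F519796 : act 5 n209016 = n223505 := d21_6 (iv5 D76860) D76858 (iv5 F301971) D204773 F433527 (iv6 F451854) (iv1 D223505) F429545 (iv6 D124367) F304326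
theorem F519797 : act 2 n204024 = n223505 := d4_3 F519793 (iv2 F519790) (iv7 F519791)
def n223506 : Q := act 0 n203722
theorem D223506 : act 0 n203722 = n223506 := rfl
theorem F519798 : act 3 n223506 = n214113 := d20_5 F383246 (iv1 D120382) D120383 D203722 D223506 (iv4 D214113) F246033 (iv4 F384762) (iv3 D191375) D191373
theorem F519799 : act 2 n204031 = n223506 := d15_3 (iv0 D223506) (iv0 F488320) (iv7 F488321)
theorem F519800 : act 1 n204032 = n223506 := d15_0 (iv0 D223506) F429546 D204032
theorem F519801 : act 7 n223506 = n204030 := d15_2 (iv0 F488319) F519800 (iv2 F488316)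
def n223507 : Q := act 2 n203722
theorem D223507 : act 2 n203722 = n223507 := rfl
theorem F519802 : act 3 n223507 = n204146 := d0_2 D203722 D223507 (iv2 D204146) (iv3 D122745) (iv2 F191768)
theorem F519803 : act 5 n223507 = n215159 := d2_2 F430727 D223507 F478623
theorem F519804 : act 7 n223507 = n204032 := d4_2 (iv7 F429546) D223507 (iv2 D204032)
theorem F519805 : act 1 n223507 = n204030 := d15_0 (iv0 D204030) (iv7 F429546) D223507
theorem F519806 : act 1 n204031 = n223507 := d15_0 F519805 (iv7 F519801) (iv2 F519799)
def n223508 : Q := act 4 n203723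
theorem D223508 : act 4 n203723 = n223508 := rfl
theorem F519807 : act 2 n223508 = n213418 := d1_1 D223508 (iv4 D213418) (iv2 F429547)
theorem F519808 : act 3 n223508 = n221556 := d5_1 D223508 F509575 (iv3 D216039) (iv4 F299270) (iv3 F429548)
theorem F519809 : act 7 n223508 = n204043 := d11_2 (iv7 F429549) D223508 (iv4 D204043)
theorem F519810 : act 5 n223508 = n221033 := d16_1 D223508 (iv4 F518174) F518175 F478334 F328130 (iv4 F303724) D204039 F430870 (iv2 F429547)
theorem F519811 : act 1 n223508 = n221723 := d18_6 (iv1 D100043) (iv4 F153973) F344415 (iv4 F191774) D203723 D223508 F510514 F479529 (iv5 D192303)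
def n223509 : Q := act 6 n203723
theorem D223509 : act 6 n203723 = n223509 := rfl
theorem F519812 : act 2 n223509 = n213419 := d3_1 D223509 (iv6 D213419) (iv2 F429547)
theorem F519813 : act 3 n223509 = n203724 := d7_1 D223509 (iv6 D203724) (iv3 F429548)
theorem F519814 : act 5 n223509 = n216448 := d12_1 D223509 F484420 F432977 (iv6 F299269) D203723
theorem F519815 : act 0 n223509 = n216198 := d21_10 F485164 (iv1 D185042) D185043 F287435 D185054 F364162 (iv5 D171090) (iv1 F299268) D203723 D223509
theorem F519816 : act 1 n223509 = n216197 := d15_1 (iv0 F519815) (iv7 F485378) F485376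
theorem F519817 : act 7 n223509 = n216199 := d15_2 D216198 (iv0 F519815) (iv2 D216199)
def n223510 : Q := act 4 n203728
theorem D223510 : act 4 n203728 = n223510 := rfl
theorem F519818 : act 2 n223510 = n204431 := d1_1 D223510 (iv4 D204431) (iv2 F429565)
theorem F519819 : act 5 n223510 = n204005 := d9_2 D203728 D223510 (iv4 D204005) (iv5 F291475) (iv4 F283987) (iv5 F340899) (iv4 F356367) D199388 (iv4 F504746) (iv5 D220638) (iv4 D194090) (iv5 D102666) (iv4 F140522) F140523 (iv4 F336777)
theorem F519820 : act 7 n223510 = n204430 := d11_2 (iv7 F429566) D223510 (iv4 D204430)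
theorem F519821 : act 1 n223510 = n208443 := d18_6 F340881 (iv4 F90882) (iv1 F336773) (iv4 F336777) D203728 D223510 F449379 F449346 (iv5 D156490)
def n223511 : Q := act 6 n203728
theorem D223511 : act 6 n203728 = n223511 := rfl
theorem F519822 : act 2 n223511 = n204432 := d3_1 D223511 (iv6 D204432) (iv2 F429565)
theorem F519823 : act 5 n223511 = n208656 := d12_1 D223511 F450348 F429671 (iv6 F356376) D203728
theorem F519824 : act 7 n223511 = n215198 := d14_2 (iv7 F429566) D223511 (iv6 F478842) F424374 (iv6 F356357)
theorem F519825 : act 0 n223511 = n215199 := d21_4 F198267 (iv1 F191834) D203728 D223511 F478848 F432835 (iv1 F431504) (iv5 F458156) (iv6 F458157) (iv1 F429569)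
theorem F519826 : act 0 n203770 = n223511 := d21_4 (iv5 D81810) D81808 (iv5 F302886) (iv6 F429756) (iv6 D223511) (iv5 D203728) (iv1 D120418) D120419 F191836 (iv1 F125748)
def n223512 : Q := act 3 n203730
theorem D223512 : act 3 n203730 = n223512 := rfl
theorem F519827 : act 2 n223512 = n213571 := d0_1 D223512 (iv3 D213571) (iv2 F432295) F432296 (iv2 F429575)
theorem F519828 : act 5 n223512 = n203958 := d6_2 (iv5 F429573) D223512 F430585
theorem F519829 : act 6 n223512 = n208268 := d7_2 F429574 D223512 F448653
theorem F519830 : act 7 n223512 = n204434 := d8_2 (iv7 F429572) D223512 (iv3 D204434)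
theorem F519831 : act 0 n223512 = n204176 := d19_4 F458373 (iv5 F519782) F519783 D223512 (iv5 D204176) F197296 (iv3 D119367) D119365 (iv5 F406368) (iv4 F431982) (iv3 D204308) (iv1 D123493) D123495 (iv4 F363315) (iv3 D139430) (iv1 F101155) D65457 D139482 D210662
theorem F519832 : act 4 n223512 = n221064 := d20_6 (iv4 D182240) D182238 (iv4 F432499) F432498 (iv1 F429571) D223512 F507059 (iv4 F518866) F518865 F426957
theorem F519833 : act 0 n216177 = n223512 := d20_4 F426959 D216261 (iv4 F487511) F487510 (iv3 D223512) (iv4 F519783) (iv1 D223503) (iv4 D203719) (iv3 F427391) F429524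
def n223513 : Q := act 5 n203756
theorem D223513 : act 5 n203756 = n223513 := rfl
theorem F519834 : act 3 n223513 = n203764 := d6_1 D223513 (iv5 D203764) (iv3 F429709)
theorem F519835 : act 6 n223513 = n203759 := d12_2 D203756 D223513 (iv5 D203759) (iv6 D120477) D120476
theorem F519836 : act 7 n223513 = n216662 := d13_2 F446929 D223513 F485364
theorem F519837 : act 4 n223513 = n216782 := d16_2 F442565 D223513 (iv5 F485907) (iv4 D209488) (iv5 D136530) (iv4 F212711) (iv5 F442595) (iv7 D206914) (iv2 F442563)
theorem F519838 : act 0 n223513 = n216427 := d17_2 (iv1 F474928) D223513 F484328 (iv4 F465799) F440492 F453315 F453314 F421861 (iv4 F474926)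
def n223514 : Q := act 3 n203758
theorem D223514 : act 3 n203758 = n223514 := rfl
theorem F519839 : act 2 n223514 = n213001 := d0_1 D223514 (iv3 D213001) (iv2 F444979) F444984 F444410
theorem F519840 : act 4 n223514 = n218210 := d5_2 F459015 D223514 F492736 F459075 (iv3 F459014)
theorem F519841 : act 5 n223514 = n215799 := d6_2 F432971 D223514 F481629
theorem F519842 : act 6 n223514 = n218218 := d7_2 (iv6 F431278) D223514 F492776
theorem F519843 : act 7 n223514 = n219975 := d8_2 (iv7 F431029) D223514 F501464
theorem F519844 : act 0 n223514 = n219976 := d19_4 (iv1 F458980) (iv5 F459016) F459015 D223514 F501474 F498547 (iv3 D193779) (iv1 F382894) (iv5 D191289) F150999 F153659 (iv1 D99816) D99818 D192168 (iv3 F390572) F392757 F392756 (iv4 D144468) D144467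
theorem F519845 : act 0 n219987 = n223514 := d20_4 F468573 (iv1 F239228) (iv4 F388787) (iv3 F501526) (iv3 D223514) (iv4 F459015) (iv1 F474104) F474101 F468561 D213009
def n223515 : Q := act 4 n203759
theorem D223515 : act 4 n203759 = n223515 := rfl
theorem F519846 : act 3 n223515 = n221497 := d5_1 D223515 (iv4 D221497) F400980 (iv4 F302311) (iv3 F429713)
theorem F519847 : act 6 n223515 = n216782 := d10_2 F519835 D223515 (iv4 F519837)
theorem F519848 : act 7 n223515 = n204604 := d11_2 F429715 D223515 (iv4 D204604)
theorem F519849 : act 5 n223515 = n223075 := d16_1 D223515 F517523 F429069 (iv4 D203603) (iv5 F239262) (iv4 F388028) (iv5 F432009) (iv7 F503554) F503552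
def n223516 : Q := act 5 n203766
theorem D223516 : act 5 n203766 = n223516 := rfl
theorem F519850 : act 2 n223516 = n223323 := d2_1 D223516 F518851 F446883
theorem F519851 : act 3 n223516 = n203770 := d6_1 D223516 (iv5 D203770) (iv3 F429749)
theorem F519852 : act 6 n223516 = n204033 := d12_2 D203766 D223516 F430855 F302805 (iv5 F302803)
theorem F519853 : act 1 n223516 = n220016 := d17_6 (iv1 F475309) (iv5 F475295) (iv1 F475298) (iv5 F446874) F446863 D223516 F501665 F518823 F518818
theorem F519854 : act 0 n223516 = n217989 := d18_0 (iv4 D217989) F453800 (iv4 F493667) (iv5 D218394) D218393 F493663 (iv4 F492752) (iv0 F492755) D223516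
theorem F519855 : act 7 n223322 = n223516 := d14_0 F519852 F430856 (iv6 F451867) F451869 (iv6 F518850)
def n223517 : Q := act 7 n203766
theorem D223517 : act 7 n203766 = n223517 := rfl
theorem F519856 : act 2 n223517 = n220007 := d4_1 D223517 F501619 F446883
theorem F519857 : act 3 n223517 = n203771 := d8_1 D223517 (iv7 D203771) (iv3 F429749)
theorem F519858 : act 4 n223517 = n222928 := d11_1 D223517 F516821 F446863
theorem F519859 : act 5 n223517 = n223322 := d13_1 D223517 F519855 (iv5 D223516)
theorem F519860 : act 6 n223517 = n222080 := d14_1 D223517 F512257 F432789 (iv7 F198355) D203766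
theorem F519861 : act 1 n217734 = n223517 := d15_1 (iv0 F490381) (iv7 D223517) (iv2 F446883)
theorem F519862 : act 1 n223517 = n219979 := d15_1 F519861 F501491 (iv2 F490379)
def n223518 : Q := act 4 n203770
theorem D223518 : act 4 n203770 = n223518 := rfl
theorem F519863 : act 2 n223518 = n215197 := d1_1 D223518 F478841 (iv2 F429755)
theorem F519864 : act 6 n223518 = n204034 := d10_2 (iv6 F429756) D223518 (iv4 D204034)
theorem F519865 : act 0 n223518 = n216029 := d18_2 F458170 D223518 (iv4 D216029) F444181 F444178 (iv0 F444184) F222794 D208657 (iv5 F458168)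
theorem F519866 : act 1 n223518 = n216031 := d18_6 (iv1 F279927) D179807 F429753 F429751 D203770 D223518 (iv4 D216031) F482466 F482465
def n223519 : Q := act 7 n203770
theorem D223519 : act 7 n203770 = n223519 := rfl
theorem F519867 : act 2 n223519 = n215199 := d4_1 D223519 (iv7 D215199) (iv2 F429755)
theorem F519868 : act 3 n223519 = n223322 := d8_1 D223519 F519855 F519851
theorem F519869 : act 5 n223519 = n203771 := d13_1 D223519 (iv7 D203771) D203770
theorem F519870 : act 6 n223519 = n215194 := d14_1 D223519 (iv7 D215194) (iv6 D170651) (iv7 F302887) (iv6 F429756)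
theorem F519871 : act 1 n215198 = n223519 := d15_1 D215198 (iv7 D223519) F429755
theorem F519872 : act 1 n223519 = n204432 := d15_1 F519871 (iv7 F458169) (iv2 F478843)
def n223520 : Q := act 3 n203773
theorem D223520 : act 3 n203773 = n223520 := rfl
theorem F519873 : act 2 n223520 = n216495 := d0_1 D223520 F484673 (iv2 F394210) (iv3 F482531) (iv2 F482532)
theorem F519874 : act 4 n223520 = n221021 := d5_2 F475132 D223520 F506846 F396519 (iv3 F475131)
theorem F519875 : act 5 n223520 = n218281 := d6_2 (iv5 F429762) D223520 (iv3 D218281)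
theorem F519876 : act 6 n223520 = n221946 := d7_2 F429761 D223520 F511550
theorem F519877 : act 7 n223520 = n216494 := d8_2 F475122 D223520 F484669
theorem F519878 : act 0 n223520 = n208820 := d19_4 (iv1 F399069) (iv5 F475133) F475132 D223520 (iv5 F493371) (iv4 D218334) (iv3 D189075) (iv1 F143654) F332676 F207064 (iv3 F206841) (iv1 F206846) (iv5 F342951) D206526 (iv3 F477651) F477654 F461766 F461764 (iv3 F432925)
theorem F519879 : act 0 n216493 = n223520 := d20_4 F463402 (iv1 F399026) (iv4 F401658) F484667 (iv3 D223520) (iv4 F475132) (iv1 F494633) F494632 (iv3 F439740) F463404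
def n223521 : Q := act 3 n203778
theorem D223521 : act 3 n203778 = n223521 := rfl
theorem F519880 : act 2 n223521 = n219566 := d0_1 D223521 (iv3 F499479) F486963 (iv3 F513045) F513044
theorem F519881 : act 4 n223521 = n210672 := d5_2 F429773 D223521 F458408 (iv4 F418447) F418449
theorem F519882 : act 5 n223521 = n220469 := d6_2 F481855 D223521 (iv3 F503924)
theorem F519883 : act 7 n223521 = n210669 := d8_2 F513029 D223521 (iv3 F513026)
theorem F519884 : act 0 n223521 = n215787 := d19_4 (iv1 F216788) D196377 F429773 D223521 F481581 F392106 F392083 (iv1 F489282) F489279 F488041 F488039 F420926 (iv5 F470192) F470191 F482490 (iv1 D216002) (iv5 D179750) (iv4 F279971) (iv3 F343150)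
theorem F519885 : act 0 n219567 = n223521 := d20_4 (iv4 D184068) D184066 D216497 (iv3 F499481) (iv3 D223521) (iv4 F429773) F400515 (iv4 F429490) F429489 F394064
def n223522 : Q := act 4 n203779
theorem D223522 : act 4 n203779 = n223522 := rfl
theorem F519886 : act 2 n223522 = n204619 := d1_1 D223522 F433038 (iv2 F429774)
theorem F519887 : act 3 n223522 = n222985 := d5_1 D223522 F517124 F475186 (iv4 F468555) F468554
theorem F519888 : act 6 n223522 = n203781 := d10_2 (iv6 F429775) D223522 (iv4 D203781)
theorem F519889 : act 7 n223522 = n216660 := d11_2 F457410 D223522 F485356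
theorem F519890 : act 5 n223522 = n220750 := d16_1 D223522 (iv4 F508851) (iv5 D221405) F400305 F407378 (iv4 F424969) (iv5 F481613) F481616 (iv2 F429774)
theorem F519891 : act 0 n223522 = n216646 := d17_0 (iv5 F491930) (iv1 F517915) F517920 (iv4 D208854) (iv5 D135201) (iv0 F351280) (iv5 F367247) (iv0 F429776) D223522
theorem F519892 : act 1 n223522 = n216661 := d18_6 F490581 F429729 F398970 F398965 D203779 D223522 F485361 F433033 (iv5 F490580)
def n223523 : Q := act 0 n203807
theorem D223523 : act 0 n203807 = n223523 := rfl
theorem F519893 : act 5 n223523 = n208167 := d17_1 D223523 F448207 (iv5 F453694) F453693 (iv5 D200445) D200444 (iv5 F451201) (iv0 F451203) F443872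
theorem F519894 : act 4 n223523 = n208880 := d18_1 D223523 (iv1 F467880) (iv4 D209514) (iv5 D136574) D136573 (iv0 F394185) (iv4 F222289) (iv0 F403951) (iv5 F429903)
theorem F519895 : act 3 n223523 = n204246 := d20_5 (iv4 F449947) F449946 F431528 (iv3 F429902) D223523 (iv4 D204246) (iv1 F342612) (iv4 D136642) (iv3 F218639) (iv1 F341521)
theorem F519896 : act 6 n223523 = n208879 := d21_5 F314904 (iv1 F95897) D120665 D203807 D223523 (iv5 F454710) (iv1 D209711) F352114 (iv6 D131161) (iv1 F314902)
theorem F519897 : act 2 n208170 = n223523 := d15_3 (iv0 D223523) (iv0 F468889) F468888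
theorem F519898 : act 1 n208172 = n223523 := d15_0 (iv0 D223523) (iv7 F457661) F457658
theorem F519899 : act 7 n223523 = n208171 := d15_2 F468890 F519898 (iv2 F468886)
def n223524 : Q := act 4 n203860
theorem D223524 : act 4 n203860 = n223524 := rfl
theorem F519900 : act 2 n223524 = n209074 := d1_1 D223524 F452127 (iv2 F430148)
theorem F519901 : act 3 n223524 = n216072 := d5_1 D223524 F482787 F340145 D188501 (iv3 F430144)
theorem F519902 : act 5 n223524 = n207472 := d9_2 F476477 D223524 F445082 (iv5 F398807) (iv4 F443682) F448287 F448288 (iv5 F430152) (iv4 F505067) F505068 F445081 F398804 D218976 F496485 (iv4 F476640)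
theorem F519903 : act 6 n223524 = n205307 := d10_2 F430146 D223524 F435880
theorem F519904 : act 7 n223524 = n214860 := d11_2 F430147 D223524 (iv4 D214860)
theorem F519905 : act 0 n223524 = n221957 := d17_0 F511606 (iv1 F496473) F397884 (iv4 F397885) (iv5 F477261) F477264 (iv5 D214862) F430145 D223524
theorem F519906 : act 1 n223524 = n206524 := d18_6 F475730 (iv4 D208189) D208187 (iv4 F476640) F476477 D223524 (iv4 F480963) (iv0 F480965) (iv5 F475728)
def n223525 : Q := act 6 n203862
theorem D223525 : act 6 n203862 = n223525 := rfl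
theorem F519907 : act 2 n223525 = n203863 := d3_1 D223525 (iv6 D203863) D203862
theorem F519908 : act 3 n223525 = n203867 := d7_1 D223525 (iv6 D203867) (iv3 F430155)
theorem F519909 : act 4 n223525 = n206600 := d10_1 D223525 F441509 (iv4 F430156)
theorem F519910 : act 7 n223525 = n206528 := d14_2 (iv7 F430157) D223525 (iv6 F441200) (iv7 F276090) (iv6 F366961)
theorem F519911 : act 0 n223525 = n206420 := d21_4 D214706 (iv1 F477268) F477266 D223525 F486354 F486352 (iv1 D215392) (iv5 D174242) F299763 D160675
theorem F519912 : act 5 n223525 = n219332 := d21_6 F369464 (iv1 F369463) F251852 F377940 (iv1 F430158) D223525 (iv1 D219332) (iv5 F440724) F440722 F374553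
theorem F519913 : act 0 n206521 = n223525 := d21_4 (iv5 F388044) (iv1 F415162) F415159 (iv6 F441184) (iv6 D223525) (iv5 F477266) (iv1 F477269) (iv5 D214708) (iv6 F435888) F435883
def n223526 : Q := act 5 n203863
theorem D223526 : act 5 n203863 = n223526 := rfl
theorem F519914 : act 2 n223526 = n219332 := d2_1 D223526 (iv5 F519912) F519907
theorem F519915 : act 3 n223526 = n203864 := d6_1 D223526 (iv5 D203864) (iv3 F430160)
theorem F519916 : act 4 n223526 = n212797 := d9_1 D223526 (iv5 D212797) (iv4 D150009) (iv5 F161577) (iv4 F396146) (iv5 F464685) F464686 (iv5 F441198) F440581 (iv5 F416198) (iv4 D150006) (iv5 F193503) (iv4 F419248) F419249 (iv4 F430161)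
theorem F519917 : act 7 n223526 = n206414 := d13_2 (iv7 F430162) D223526 F440673
theorem F519918 : act 0 n223526 = n217493 := d17_2 F430163 D223526 F489155 F377933 (iv5 F362252) F206844 (iv5 F355245) (iv0 D128778) D128780
theorem F519919 : act 1 n223526 = n206569 := d17_6 F435218 F418791 F419251 F419249 (iv4 F430161) D223526 (iv5 D206569) (iv0 F440634) F440631
def n223527 : Q := act 4 n203864
theorem D223527 : act 4 n203864 = n223527 := rfl
theorem F519920 : act 2 n223527 = n203876 := d1_1 D223527 (iv4 D203876) (iv2 F430164)
theorem F519921 : act 6 n223527 = n218510 := d10_2 F477279 D223527 (iv4 F494223)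
theorem F519922 : act 7 n223527 = n214316 := d11_2 (iv7 F430165) D223527 (iv4 D214316)
theorem F519923 : act 5 n223527 = n215647 := d16_1 D223527 (iv4 D215647) (iv5 D176716) F129323 F63836 (iv4 F129323) D176716 (iv7 F366959) (iv2 F430164)
theorem F519924 : act 0 n223527 = n214981 := d17_0 F477745 (iv1 F512831) (iv5 F514702) (iv4 D222523) (iv5 D200011) F325237 D176660 (iv0 F430166) D223527
theorem F519925 : act 1 n223527 = n214978 := d18_6 D78838 F254712 F296612 (iv4 F193186) D203864 D223527 (iv4 D214978) (iv0 D164111) (iv5 D78840)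
def n223528 : Q := act 6 n203866
theorem D223528 : act 6 n203866 = n223528 := rfl
theorem F519926 : act 2 n223528 = n203869 := d3_1 D223528 (iv6 D203869) (iv2 F430170)
theorem F519927 : act 3 n223528 = n211788 := d7_1 D223528 F477270 F477265
theorem F519928 : act 4 n223528 = n214755 := d10_1 D223528 (iv6 F491997) F491996
theorem F519929 : act 5 n223528 = n215656 := d12_1 D223528 F480984 (iv5 F430176) (iv6 D203867) D203866
theorem F519930 : act 7 n223528 = n218805 := d14_2 (iv7 F430171) D223528 (iv6 D218805) F381665 F381662
theorem F519931 : act 0 n223528 = n215134 := d21_4 F344661 (iv1 F193201) D203866 D223528 F478532 D217343 F488539 F476976 (iv6 D166712) (iv1 F344660)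
theorem F519932 : act 0 n215136 = n223528 := d21_4 (iv5 F385756) (iv1 F385758) (iv5 F379191) (iv6 F478542) (iv6 D223528) (iv5 D203866) (iv1 F193203) D163276 F378771 (iv1 F378852)
def n223529 : Q := act 7 n203873
theorem D223529 : act 7 n203873 = n223529 := rfl
theorem F519933 : act 2 n223529 = n222610 := d4_1 D223529 F515166 F477278
theorem F519934 : act 3 n223529 = n215657 := d8_1 D223529 F480988 F445636
theorem F519935 : act 4 n223529 = n218511 := d11_1 D223529 F494225 (iv4 F492236)
theorem F519936 : act 5 n223529 = n203874 := d13_1 D223529 (iv7 D203874) D203873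
theorem F519937 : act 6 n223529 = n212994 := d14_1 D223529 F468505 F384244 (iv7 F366959) (iv6 F430184)
theorem F519938 : act 1 n218715 = n223529 := d15_1 (iv0 F495288) (iv7 D223529) (iv2 F477278)
def n223530 : Q := act 1 n203876
theorem D223530 : act 1 n203876 = n223530 := rfl
theorem F519939 : act 1 n223530 = n214316 := d15_1 D223530 (iv7 F519922) F519920
theorem F519940 : act 7 n223530 = n214981 := d15_2 F480890 D223530 (iv2 F480887)
theorem F519941 : act 4 n223530 = n214957 := d18_7 (iv1 F297269) (iv4 D121154) (iv1 D55902) (iv4 F88443) D121148 D203876 D223530 (iv0 D214957) (iv5 D164079)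
theorem F519942 : act 3 n218284 = n223530 := d19_19 (iv1 D223530) (iv5 F474539) (iv4 D214316) (iv3 F440671) (iv1 F496342) F496340 (iv4 D206567) F362247 (iv1 F345381) (iv5 F339370) (iv4 F217104) (iv3 D134897) (iv1 F216830) D208591 (iv4 F492452) F492454 (iv1 F374319) (iv5 F375224) (iv4 F493104)
theorem F519943 : act 2 n223530 = n214978 := d0_1 F519942 F477730 F490562 (iv3 F490561) (iv2 F493103)
theorem F519944 : act 6 n223530 = n218508 := d7_2 (iv6 F493105) F519942 F494214
def n223531 : Q := act 4 n203878
theorem D223531 : act 4 n203878 = n223531 := rfl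
theorem F519945 : act 2 n223531 = n214976 := d1_1 D223531 (iv4 D214976) (iv2 F430197)
theorem F519946 : act 3 n223531 = n221320 := d5_1 D223531 (iv4 D221320) (iv3 F461832) (iv4 D211499) (iv3 F430198)
theorem F519947 : act 5 n223531 = n223530 := d9_2 D203878 D223531 F519941 F477626 F414515 (iv5 D121155) D121154 D203879 (iv4 F494030) F494031 (iv4 D215637) (iv5 D176676) (iv4 F358810) F358811 D121151
theorem F519948 : act 6 n223531 = n218105 := d10_2 (iv6 F430199) D223531 (iv4 D218105)
theorem F519949 : act 7 n223531 = n214975 := d11_2 (iv7 F430200) D223531 (iv4 D214975)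
theorem F519950 : act 0 n223531 = n222515 := d17_0 F514661 F512953 (iv5 F477745) (iv4 D214981) (iv5 F300516) F344527 D198744 (iv0 F430201) D223531
theorem F519951 : act 1 n223531 = n222523 := d18_6 F298017 F88443 D55901 D121151 D203878 D223531 (iv4 D222523) F414618 (iv5 D164121)
def n223532 : Q := act 4 n203897
theorem D223532 : act 4 n203897 = n223532 := rfl
theorem F519952 : act 2 n223532 = n221549 := d1_1 D223532 F509547 F476893
theorem F519953 : act 5 n223532 = n211064 := d9_2 D203897 D223532 (iv4 D211064) (iv5 D140620) D140619 (iv5 F360121) (iv4 F461405) (iv5 F464381) (iv4 F472623) (iv5 D213896) (iv4 F360105) (iv5 D140625) D140624 (iv5 F360116) F258396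
theorem F519954 : act 6 n223532 = n203900 := d10_2 (iv6 F430288) D223532 (iv4 D203900)
theorem F519955 : act 7 n223532 = n221550 := d11_2 F510131 D223532 (iv4 F510133)
theorem F519956 : act 0 n223532 = n221434 := d17_0 F509013 (iv1 D196712) D196713 (iv4 F406963) F406964 F480107 (iv5 F510139) F510141 D223532
theorem F519957 : act 1 n223532 = n205490 := d18_6 (iv1 F508889) (iv4 D221411) F400343 F258396 D203897 D223532 F436670 D205491 (iv5 F476831)
def n223533 : Q := act 6 n203908
theorem D223533 : act 6 n203908 = n223533 := rfl
theorem F519958 : act 2 n223533 = n220657 := d3_1 D223533 (iv6 D220657) (iv2 F430344)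
theorem F519959 : act 3 n223533 = n216469 := d7_1 D223533 (iv6 F484529) F430342
theorem F519960 : act 4 n223533 = n223452 := d10_1 D223533 (iv6 F519523) F431637
theorem F519961 : act 7 n223533 = n212867 := d14_2 F430343 D223533 (iv6 D212867) F237882 (iv6 F403508)
theorem F519962 : act 0 n223533 = n223439 := d21_4 D193811 F426914 (iv5 F430340) D223533 (iv6 D223439) (iv5 D203365) (iv1 D118771) D118773 (iv6 F427920) (iv1 D193809)
theorem F519963 : act 0 n219353 = n223533 := d21_4 (iv5 D177721) (iv1 F289757) D191271 D219353 (iv6 D223533) F430340 (iv1 F498768) F498765 F480540 (iv1 F428210)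
def n223534 : Q := act 4 n203922
theorem D223534 : act 4 n203922 = n223534 := rfl
theorem F519964 : act 2 n223534 = n221005 := d1_1 D223534 (iv4 D221005) (iv2 F430413)
theorem F519965 : act 3 n223534 = n207060 := d5_1 D223534 F464201 F464197 (iv4 F374884) (iv3 F430414)
theorem F519966 : act 6 n223534 = n207059 := d10_2 F448035 D223534 (iv4 F448038)
theorem F519967 : act 5 n223534 = n221196 := d16_1 D223534 F507685 F497565 F401523 (iv5 D195652) (iv4 F278216) D203923 F430417 (iv2 F430413)
theorem F519968 : act 0 n223534 = n221212 := d17_0 F507766 (iv1 F503080) F503079 F475484 (iv5 F421042) (iv0 F422143) (iv5 F516864) (iv0 F516867) D223534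
theorem F519969 : act 1 n223534 = n217705 := d18_6 (iv1 D49059) (iv4 F77438) D106135 (iv4 F259181) D203922 D223534 F490220 F397765 (iv5 D106147)
def n223535 : Q := act 4 n203923
theorem D223535 : act 4 n203923 = n223535 := rfl
theorem F519970 : act 5 n223535 = n221197 := d9_2 D203923 D223535 F507691 F497559 F461571 (iv5 F340465) (iv4 F259181) D203922 D223534 F519967 F507685 F497565 F401523 (iv5 D195652) (iv4 F278216)
theorem F519971 : act 6 n223535 = n212673 := d10_2 (iv6 F430418) D223535 (iv4 D212673)
theorem F519972 : act 7 n223535 = n221005 := d11_2 (iv7 F430417) D223535 (iv4 D221005)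
theorem F519973 : act 0 n223535 = n217705 := d18_2 F516866 D223535 F490220 (iv5 F397767) (iv4 F456124) (iv0 F477869) F477867 (iv0 F422143) (iv5 F516864)
theorem F519974 : act 1 n223535 = n221212 := d18_6 (iv1 F120168) (iv4 F259121) (iv1 F259122) (iv4 F278216) D203923 D223535 (iv4 D221212) (iv0 D195658) (iv5 D106142)
def n223536 : Q := act 5 n203936
theorem D223536 : act 5 n203936 = n223536 := rfl
theorem F519975 : act 2 n223536 = n209446 := d2_1 D223536 F453742 (iv2 F430479)
theorem F519976 : act 3 n223536 = n218195 := d6_1 D223536 F492645 F448809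
theorem F519977 : act 4 n223536 = n209445 := d9_1 D223536 F453736 F445872 F365415 F252174 (iv5 F252184) (iv4 F450334) (iv5 F453499) (iv4 D209384) (iv5 D136378) (iv4 F111661) (iv5 F329209) F90553 D121369 D203936
theorem F519978 : act 6 n223536 = n211593 := d12_2 (iv6 F430480) D223536 F462301 F330616 (iv5 F330615)
theorem F519979 : act 7 n223536 = n223246 := d13_2 F456031 D223536 F518405
theorem F519980 : act 0 n223536 = n208705 := d17_2 F448188 D223536 F450509 F217258 F327770 F332640 (iv5 F103982) (iv0 F329171) (iv4 F448186)
theorem F519981 : act 1 n223536 = n208895 := d17_6 F489831 F422037 (iv1 D121368) D121369 D203936 D223536 (iv5 D208895) (iv0 F450599) (iv4 F489828)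
def n223537 : Q := act 0 n203941
theorem D223537 : act 0 n203941 = n223537 := rfl
theorem F519982 : act 5 n223537 = n215239 := d17_1 D223537 (iv1 F503033) (iv5 D220286) (iv4 D193292) D193293 (iv0 F417154) (iv5 F388882) (iv0 F467488) F467484
theorem F519983 : act 4 n223537 = n210144 := d18_1 D223537 F456342 (iv4 F456407) F459526 F459522 D215721 (iv4 F503074) F503078 (iv5 F435497)
theorem F519984 : act 3 n223537 = n219919 := d20_5 F350081 F300136 D121687 D203941 D223537 F501183 F464808 (iv4 F386263) (iv3 D169875) (iv1 F350080)
theorem F519985 : act 6 n223537 = n210143 := d21_5 D206272 F466555 (iv5 D212585) (iv6 F430502) D223537 F456337 (iv1 F389223) F389220 D193221 (iv1 F389230)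
theorem F519986 : act 2 n210311 = n223537 := d15_3 (iv0 D223537) (iv0 F482029) F482028
theorem F519987 : act 1 n210148 = n223537 := d15_0 (iv0 D223537) F430503 (iv2 F456359)
theorem F519988 : act 7 n223537 = n215071 := d15_2 (iv0 F482033) F519987 (iv2 F482032)
def n223538 : Q := act 5 n203957
theorem D223538 : act 5 n203957 = n223538 := rfl
theorem F519989 : act 2 n223538 = n204434 := d2_1 D223538 F432520 (iv2 F430582)
theorem F519990 : act 3 n223538 = n204378 := d6_1 D223538 (iv5 F470976) F470974
theorem F519991 : act 4 n223538 = n210772 := d9_1 D223538 (iv5 D210772) (iv4 D139658) D139659 (iv4 F222831) F325665 D203958 (iv5 F519828) F519832 (iv5 D221064) F396750 (iv5 F169264) (iv4 F202703) (iv5 F364893) D203957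
theorem F519992 : act 7 n223538 = n213571 := d13_2 (iv7 F430583) D223538 F471090
theorem F519993 : act 0 n223538 = n216177 := d17_2 (iv1 F430589) D223538 F483294 F432566 F409861 (iv0 F409473) (iv5 F407055) (iv0 F407056) F406409
theorem F519994 : act 1 n223538 = n204176 := d17_6 (iv1 F358631) F318786 (iv1 F332161) (iv5 F364893) D203957 D223538 (iv5 D204176) (iv0 F414912) (iv4 D200073)
theorem F519995 : act 6 n213412 = n223538 := d21_5 F519814 (iv1 F484423) (iv5 F485124) (iv6 F516408) (iv1 F519550) (iv5 D223538) (iv1 F511854) F511850 (iv6 F510959) (iv1 F519816)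
def n223539 : Q := act 1 n203970
theorem D223539 : act 1 n203970 = n223539 := rfl
theorem F519996 : act 1 n223539 = n204151 := d15_1 D223539 (iv7 F454647) F454643
theorem F519997 : act 7 n223539 = n204153 := d15_2 F431099 D223539 F431220
theorem F519998 : act 5 n223539 = n207348 := d17_7 F342386 (iv5 D156542) (iv1 F341098) (iv5 F341104) (iv4 F195541) D203970 D223539 (iv0 F444462) F339043
theorem F519999 : act 3 n215352 = n223539 := d19_19 (iv1 D223539) (iv5 D203970) F195541 (iv3 D81476) F297319 D56226 D121687 D203941 D223537 F519982 F479007 (iv3 F480898) F480902 (iv5 D208105) F214447 F211838 (iv1 F211813) D207669 (iv4 F479516)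
theorem F520000 : act 4 n211568 = n223539 := d20_0 (iv1 D223539) (iv4 F430644) (iv3 F365739) (iv1 F328735) (iv3 F431898) (iv4 F441051) F441053 (iv4 F441110) F441109 (iv1 F462180)
theorem F520001 : act 6 n216433 = n223539 := d21_3 (iv5 F428201) (iv1 F428206) D216433 (iv1 D223539) F430642 (iv5 F424514) (iv1 F427117) F427116 F448787 (iv1 F448784)
theorem F520002 : act 2 n223539 = n204152 := d3_1 F520001 (iv6 F498466) F498463
def n223540 : Q := act 3 n203974
theorem D223540 : act 3 n203974 = n223540 := rfl
theorem F520003 : act 2 n223540 = n215252 := d0_1 D223540 (iv3 F479051) F460201 (iv3 F405651) F430663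
theorem F520004 : act 4 n223540 = n221622 := d5_2 (iv4 F430660) D223540 F509930 F433438 F430661
theorem F520005 : act 6 n223540 = n211902 := d7_2 F503035 D223540 (iv3 F503031)
theorem F520006 : act 7 n223540 = n215248 := d8_2 F430664 D223540 (iv3 D215248)
theorem F520007 : act 0 n223540 = n214675 := d19_4 D205241 (iv5 F435575) (iv4 F430660) D223540 F476345 F410870 (iv3 F420533) F420534 (iv5 F284749) (iv4 F483979) (iv3 D216355) (iv1 F375674) (iv5 F419124) F419123 F177283 (iv1 F161553) F342958 (iv4 D125642) (iv3 F202073)
theorem F520008 : act 0 n206235 = n223540 := d20_4 (iv4 F405786) F474271 (iv4 D214258) (iv3 F439847) (iv3 D223540) F430660 F478358 F478356 (iv3 F478951) F478955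
def n223541 : Q := act 4 n203980
theorem D223541 : act 4 n203980 = n223541 := rfl
theorem F520009 : act 3 n223541 = n215262 := d5_1 D223541 (iv4 D215262) (iv3 D170877) (iv4 F195621) D203980
theorem F520010 : act 7 n223541 = n215262 := d11_2 (iv7 F430691) D223541 (iv4 D215262)
theorem F520011 : act 1 n223541 = n209615 := d18_6 F477606 F474295 (iv1 D164084) (iv4 F256258) (iv5 F430690) D223541 (iv4 F512194) (iv0 F512197) F483869
theorem F520012 : act 6 n223541 = n221913 := d21_5 (iv5 D207069) (iv1 F424823) (iv5 F441905) (iv6 F454343) (iv1 F520011) F511369 F437628 D221021 F506847 (iv1 F443189)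
def n223542 : Q := act 6 n203980
theorem D223542 : act 6 n203980 = n223542 := rfl
theorem F520013 : act 2 n223542 = n221916 := d3_1 D223542 (iv6 F512137) (iv2 F512138)
theorem F520014 : act 3 n223542 = n203981 := d7_1 D223542 (iv6 D203981) D203980
theorem F520015 : act 4 n223542 = n221913 := d10_1 D223542 (iv6 F520012) (iv4 D223541)
theorem F520016 : act 5 n223542 = n204534 := d12_1 D223542 (iv6 F432817) (iv5 D198781) F365921 (iv5 F430690)
theorem F520017 : act 7 n223542 = n221914 := d14_2 (iv7 F430691) D223542 (iv6 D221914) (iv7 D197669) (iv6 F363363)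
theorem F520018 : act 0 n223542 = n206839 := d21_4 F407175 F365859 (iv5 F430690) D223542 (iv6 F442362) (iv5 D187885) D187882 F420157 D220187 (iv1 F502545)
theorem F520019 : act 1 n223542 = n215788 := d15_1 (iv0 F520018) F481585 (iv2 F442359)
def n223543 : Q := act 0 n203984
theorem D223543 : act 0 n203984 = n223543 := rfl
theorem F520020 : act 5 n223543 = n204574 := d17_1 D223543 (iv1 F432915) D204579 F470470 (iv5 D213453) D213452 (iv5 F470463) (iv0 D204571) F430709
theorem F520021 : act 3 n223543 = n208902 := d20_5 (iv4 F301213) F301212 D122341 D203984 D223543 (iv4 D208902) (iv1 D135301) D135302 F347400 (iv1 F277359)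
theorem F520022 : act 6 n223543 = n220041 := d21_5 F470498 F364551 D205194 F435362 D223543 F501803 (iv1 F470354) F370862 D187987 (iv1 F470494)
theorem F520023 : act 1 n204576 = n223543 := d15_0 (iv0 D223543) F430708 (iv2 F432927)
theorem F520024 : act 2 n204577 = n223543 := d3_3 F520022 (iv2 F501805) F432930
theorem F520025 : act 7 n204573 = n223543 := d15_2 (iv0 F490521) (iv0 F490522) (iv2 F520024)
def n223544 : Q := act 1 n203984
theorem D223544 : act 1 n203984 = n223544 := rfl
theorem F520026 : act 1 n223544 = n204576 := d15_1 D223544 (iv7 F490520) F490518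
theorem F520027 : act 7 n223544 = n204577 := d15_2 (iv0 D223543) D223544 F520024
theorem F520028 : act 5 n223544 = n204572 := d17_7 (iv1 F479119) F479116 (iv1 F469689) (iv5 F470368) F470367 (iv5 F430707) D223544 F432916 (iv4 F432439)
theorem F520029 : act 3 n218256 = n223544 := d19_19 (iv1 D223544) F430707 (iv4 F470367) F470366 (iv1 F386085) (iv5 F432443) (iv4 F432445) (iv3 F434338) F434341 (iv5 F343130) (iv4 F343128) (iv3 F404130) (iv1 F404137) (iv5 F414637) F414636 F403728 (iv1 F390597) (iv5 F452640) (iv4 F492987)
theorem F520030 : act 2 n223544 = n204573 := d0_1 F520029 F450948 (iv2 F451322) F482849 (iv2 F492986)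
def n223545 : Q := act 4 n203985
theorem D223545 : act 4 n203985 = n223545 := rfl
theorem F520031 : act 2 n223545 = n204110 := d1_1 D223545 (iv4 D204110) (iv2 F430712)
theorem F520032 : act 3 n223545 = n217234 := d5_1 D223545 (iv4 F503593) F501179 (iv4 F483784) F483782
theorem F520033 : act 7 n223545 = n204107 := d11_2 (iv7 F430713) D223545 (iv4 D204107)
theorem F520034 : act 5 n223545 = n220502 := d16_1 D223545 F504082 (iv5 D211295) F366078 (iv5 F317628) (iv4 F302001) D203986 F430715 (iv2 F430712)
theorem F520035 : act 0 n223545 = n220005 := d18_2 F431561 D223545 F501614 (iv5 D212929) F238339 (iv0 F316802) D203142 F427138 D204227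
def n223546 : Q := act 6 n203985
theorem D223546 : act 6 n203985 = n223546 := rfl
theorem F520036 : act 2 n223546 = n204111 := d3_1 D223546 (iv6 D204111) (iv2 F430712)
theorem F520037 : act 3 n223546 = n216461 := d7_1 D223546 F484488 F483782
theorem F520038 : act 5 n223546 = n216459 := d12_1 D223546 F484478 F433165 (iv6 F332487) D203985
def n223547 : Q := act 4 n203986
theorem D223547 : act 4 n203986 = n223547 := rfl
theorem F520039 : act 2 n223547 = n204107 := d1_1 D223547 (iv4 D204107) (iv2 F430714)
theorem F520040 : act 5 n223547 = n220503 := d9_2 D203986 D223547 F504088 (iv5 D214585) (iv4 D160093) (iv5 F332483) (iv4 F301999) D203985 D223545 F520034 F504082 (iv5 D211295) F366078 (iv5 F317628) (iv4 F302001)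
theorem F520041 : act 6 n223547 = n210865 := d10_2 F501199 D223547 (iv4 F501197)
theorem F520042 : act 7 n223547 = n204110 := d11_2 (iv7 F430715) D223547 (iv4 D204110)
theorem F520043 : act 1 n223547 = n220005 := d18_6 (iv1 F304526) F191861 D151798 (iv4 F302001) D203986 D223547 F501614 F468177 (iv5 D192886)
theorem F520044 : act 3 n223547 = n216613 := d19_3 (iv1 F302000) D203986 D223547 (iv1 D216613) (iv5 D185043) (iv4 F287433) (iv3 F364069) (iv1 F383576) (iv5 F485471) (iv4 F485474) (iv3 F469214) F469217 F452757 F239482 (iv3 D118239) (iv1 F185716) F185713 (iv4 F185689) F305041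
def n223548 : Q := act 0 n203990
theorem D223548 : act 0 n203990 = n223548 := rfl
theorem F520045 : act 5 n223548 = n216041 := d17_3 F488320 (iv5 F430727) D223548 F482641 F429545 D204793 (iv5 F488322) (iv0 D217296) (iv4 F488318)
theorem F520046 : act 4 n223548 = n216640 := d20_8 F489900 F371233 (iv4 F487672) (iv3 F500147) F500151 (iv3 F430725) (iv4 F430726) D223548 (iv3 F499288) F499286
theorem F520047 : act 6 n223548 = n223507 := d21_5 F268100 (iv1 F302102) F195868 (iv6 F430728) D223548 F519803 (iv1 F478628) (iv5 F431191) (iv6 D204022) F302101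
theorem F520048 : act 1 n204146 = n223548 := d15_0 (iv0 D223548) F430729 D204146
theorem F520049 : act 2 n204145 = n223548 := d3_3 F520047 (iv2 D223507) (iv6 F431192)
theorem F520050 : act 7 n204144 = n223548 := d14_0 F520047 F519804 F478622 F478620 F449145
def n223549 : Q := act 1 n203990
theorem D223549 : act 1 n203990 = n223549 := rfl
theorem F520051 : act 1 n223549 = n204146 := d15_1 D223549 F478627 F478623
theorem F520052 : act 7 n223549 = n204145 := d15_2 (iv0 D223548) D223549 F520049
theorem F520053 : act 3 n219396 = n223549 := d19_19 (iv1 D223549) F430727 (iv4 F488138) F488141 (iv1 F469994) (iv5 F469995) (iv4 F470019) F470016 (iv1 F434679) (iv5 F453236) (iv4 D209325) F385939 (iv1 D102613) (iv5 F137107) (iv4 F356536) (iv3 D122704) (iv1 F191755) (iv5 F429540) (iv4 F498675)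
theorem F520054 : act 4 n216637 = n223549 := d20_0 (iv1 D223549) F430726 F430725 (iv1 F485238) F485234 F287449 F135250 D89491 D187051 F485293
theorem F520055 : act 2 n223549 = n204144 := d1_1 F520054 F431189 (iv2 F485289)
theorem F520056 : act 5 n223549 = n216042 := d9_2 D216637 F520054 F482637 (iv5 F457826) (iv4 F517727) F517726 (iv4 D216639) D216640 (iv4 F520046) F520045 F482641 F429545 (iv4 F433599) (iv5 F485287) (iv4 D216636)
def n223550 : Q := act 4 n203996
theorem D223550 : act 4 n203996 = n223550 := rfl
theorem F520057 : act 2 n223550 = n211939 := d1_1 D223550 F463658 (iv2 F430762)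
theorem F520058 : act 3 n223550 = n210419 := d5_1 D223550 F457452 F221812 (iv4 F336651) (iv3 F430763)
theorem F520059 : act 5 n223550 = n211675 := d9_2 D203996 D223550 (iv4 D211675) (iv5 D143792) (iv4 D67352) D67353 D143796 (iv5 F432086) (iv4 F432092) (iv5 D144435) (iv4 F169307) D198407 F407918 F318265 (iv4 F195795)
theorem F520060 : act 6 n223550 = n210417 := d10_2 (iv6 F430767) D223550 F457446
theorem F520061 : act 7 n223550 = n211915 := d11_2 (iv7 F430764) D223550 F463567
theorem F520062 : act 0 n223550 = n211938 := d17_0 (iv5 F507008) (iv1 F507395) (iv5 D221137) F396999 F388037 F197948 D123542 (iv0 F430765) D223550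
theorem F520063 : act 1 n223550 = n211937 := d18_6 (iv1 F232753) F307749 (iv1 F307607) (iv4 F195795) D203996 D223550 F463652 F386549 (iv5 D184243)
def n223551 : Q := act 0 n204002
theorem D223551 : act 0 n204002 = n223551 := rfl
theorem F520064 : act 5 n223551 = n211685 := d17_1 D223551 (iv1 F462681) F255956 (iv4 F430845) F431191 F478628 (iv5 F519803) F519805 F449436
theorem F520065 : act 3 n223551 = n223442 := d20_5 (iv4 F518343) (iv1 D223234) (iv4 F449435) (iv3 F430791) D223551 F519478 (iv1 F467482) (iv4 F500191) F500190 F462342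
theorem F520066 : act 6 n223551 = n204012 := d21_5 (iv5 D56723) D56721 D122400 D204002 D223551 F430820 (iv1 D194087) D194088 F392021 F289787
theorem F520067 : act 2 n217296 = n223551 := d15_3 (iv0 D223551) (iv0 F504340) F504339
theorem F520068 : act 7 n223551 = n217297 := d4_2 F504339 F520067 (iv2 F504336)
theorem F520069 : act 1 n217298 = n223551 := d15_1 (iv0 F504341) F520068 (iv2 F504336)
def n223552 : Q := act 7 n204002
theorem D223552 : act 7 n204002 = n223552 := rfl
theorem F520070 : act 2 n223552 = n217298 := d4_1 D223552 (iv7 D217298) (iv2 F430790)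
theorem F520071 : act 3 n223552 = n219556 := d8_1 D223552 (iv7 D219556) (iv3 F430791)
theorem F520072 : act 4 n223552 = n223506 := d11_1 D223552 F519801 F449436
theorem F520073 : act 5 n223552 = n209014 := d13_1 D223552 (iv7 F451849) (iv5 F430792)
theorem F520074 : act 6 n223552 = n210658 := d14_1 D223552 F458361 (iv6 D191478) (iv7 F364393) D204002
theorem F520075 : act 1 n217297 = n223552 := d15_1 D217297 (iv7 D223552) F430790
theorem F520076 : act 1 n223552 = n217296 := d15_1 F520075 (iv7 F504339) F504336
def n223553 : Q := act 6 n204003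
theorem D223553 : act 6 n204003 = n223553 := rfl
theorem F520077 : act 2 n223553 = n219438 := d3_1 D223553 (iv6 D219438) (iv2 F430793)
theorem F520078 : act 3 n223553 = n214118 := d7_1 D223553 F473561 F449151
theorem F520079 : act 4 n223553 = n204004 := d10_1 D223553 (iv6 D204004) D204003
theorem F520080 : act 0 n204546 = n223553 := d21_4 F195866 F302125 F268105 (iv6 F432834) (iv6 D223553) (iv5 F519773) (iv1 F519776) F431187 F383071 (iv1 F302100)
def n223554 : Q := act 3 n204005
theorem D223554 : act 3 n204005 = n223554 := rfl
theorem F520081 : act 2 n223554 = n215202 := d0_1 D223554 (iv3 F478860) F449370 (iv3 F449371) (iv2 F430798)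
theorem F520082 : act 4 n223554 = n219439 := d5_2 D204005 D223554 (iv3 F498888) (iv4 D191731) (iv3 F290088)
theorem F520083 : act 7 n223554 = n215201 := d8_2 (iv7 F430799) D223554 F478855
theorem F520084 : act 0 n223554 = n215203 := d20_10 F478861 (iv1 D204545) D204546 F432833 F449137 (iv3 D204008) (iv4 D122409) D122407 D204005 D223554
theorem F520085 : act 0 n204035 = n223554 := d20_4 (iv4 D123982) F304296 D122449 D204035 (iv3 D223554) (iv4 D204005) (iv1 F195857) (iv4 F383544) (iv3 F384376) (iv1 F366889)
def n223555 : Q := act 6 n204005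
theorem D223555 : act 6 n204005 = n223555 := rfl
theorem F520086 : act 2 n223555 = n216027 := d3_1 D223555 F482604 (iv2 F430798)
theorem F520087 : act 4 n223555 = n204006 := d10_1 D223555 (iv6 D204006) D204005
theorem F520088 : act 7 n223555 = n216023 := d14_2 (iv7 F430799) D223555 (iv6 F482587) F482469 (iv6 F478851)
def n223556 : Q := act 0 n204006
theorem D223556 : act 0 n204006 = n223556 := rfl
theorem F520089 : act 5 n223556 = n205497 := d17_3 (iv1 F279922) (iv5 F430803) D223556 (iv4 D205497) (iv5 D126162) D126161 (iv5 F407570) (iv0 D198311) F343152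
theorem F520090 : act 2 n216022 = n223556 := d15_3 (iv0 D223556) (iv0 F444190) (iv7 F482584)
theorem F520091 : act 1 n215990 = n223556 := d15_0 (iv0 D223556) (iv7 F430804) (iv2 F482453)
theorem F520092 : act 7 n223556 = n208440 := d15_2 (iv0 F482456) F520091 F449365
theorem F520093 : act 6 n204024 = n223556 := d14_5 F520092 (iv6 D208440) (iv7 F445291) (iv6 F519787) (iv7 F519791)
def n223557 : Q := act 3 n204007
theorem D223557 : act 3 n204007 = n223557 := rfl
theorem F520094 : act 5 n223557 = n204546 := d6_2 F431149 D223557 F432833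
theorem F520095 : act 7 n223557 = n219441 := d8_2 (iv7 F430806) D223557 (iv3 D219441)
def n223558 : Q := act 6 n204007
theorem D223558 : act 6 n204007 = n223558 := rfl
theorem F520096 : act 2 n223558 = n216222 := d3_1 D223558 (iv6 F483405) F430808
theorem F520097 : act 4 n223558 = n216221 := d10_1 D223558 (iv6 D216221) (iv4 F430807)
def n223559 : Q := act 7 n204008
theorem D223559 : act 7 n204008 = n223559 := rfl
theorem F520098 : act 2 n223559 = n204015 := d4_1 D223559 (iv7 F478620) F478617
theorem F520099 : act 3 n223559 = n204010 := d8_1 D223559 (iv7 D204010) D204008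
theorem F520100 : act 4 n223559 = n204429 := d11_1 D223559 (iv7 F449133) (iv4 F449136)
theorem F520101 : act 5 n223559 = n204439 := d13_1 D223559 (iv7 F483366) F483367
theorem F520102 : act 6 n223559 = n223549 := d14_1 D223559 F520052 F431192 F429546 (iv6 F430809)
theorem F520103 : act 1 n214109 = n223559 := d15_1 (iv0 F478621) (iv7 D223559) (iv2 F478617)
theorem F520104 : act 1 n223559 = n219442 := d15_1 F520103 F498895 (iv2 F473521)
def n223560 : Q := act 3 n204012
theorem D223560 : act 3 n204012 = n223560 := rfl
theorem F520105 : act 5 n223560 = n220633 := d6_2 (iv5 F430820) D223560 (iv3 D220633)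
theorem F520106 : act 6 n223560 = n223442 := d7_2 F520066 D223560 (iv3 F520065)
theorem F520107 : act 0 n204111 = n223560 := d21_4 (iv5 D203174) F302002 D122686 D204111 F520106 (iv5 D223442) F440451 (iv5 F440452) (iv6 D204114) (iv1 F427311)
def n223561 : Q := act 4 n204012
theorem D223561 : act 4 n204012 = n223561 := rfl
theorem F520108 : act 2 n223561 = n210605 := d1_1 D223561 (iv4 F478629) F478636
theorem F520109 : act 5 n223561 = n204029 := d16_1 D223561 F430853 (iv5 F433539) (iv4 F519634) F519633 (iv4 D220632) F430821 (iv7 F478635) F478636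
theorem F520110 : act 1 n223561 = n204036 := d18_6 F432735 F472855 (iv1 F504727) (iv4 D220634) (iv5 F430820) D223561 F430867 D204038 (iv5 F432596)
def n223562 : Q := act 4 n204013
theorem D223562 : act 4 n204013 = n223562 := rfl
theorem F520111 : act 3 n223562 = n208392 := d5_1 D223562 F449168 (iv3 F458143) (iv4 F485704) F485702
theorem F520112 : act 5 n223562 = n208391 := d9_2 F430821 D223562 (iv4 F458188) F458189 F519642 F519641 (iv4 D220634) (iv5 F430820) D223561 F520109 F430853 (iv5 F433539) (iv4 F519634) F519633 (iv4 D220632)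
theorem F520113 : act 7 n223562 = n210605 := d11_2 F478635 D223562 (iv4 F478629)
theorem F520114 : act 0 n223562 = n204036 := d18_2 (iv1 F478642) D223562 F430867 F364078 (iv4 F287514) D216675 (iv4 F485430) (iv0 F457428) (iv5 F478640)
def n223563 : Q := act 7 n204016
theorem D223563 : act 7 n204016 = n223563 := rfl
theorem F520115 : act 2 n223563 = n204141 := d4_1 D223563 (iv7 F482629) F482625
theorem F520116 : act 3 n223563 = n223548 := d8_1 D223563 (iv7 F520050) F449146
theorem F520117 : act 4 n223563 = n204017 := d11_1 D223563 (iv7 D204017) (iv4 F430825)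
theorem F520118 : act 5 n223563 = n219810 := d13_1 D223563 F500723 F473550
theorem F520119 : act 6 n223563 = n204146 := d14_1 D223563 F478627 (iv6 D215159) F263582 D204016
theorem F520120 : act 1 n208382 = n223563 := d15_1 F482631 (iv7 D223563) (iv2 F482625)
theorem F520121 : act 1 n223563 = n208383 := d15_1 F520120 (iv7 F478889) F478886
def n223564 : Q := act 4 n204023
theorem D223564 : act 4 n204023 = n223564 := rfl
theorem F520122 : act 3 n223564 = n215192 := d5_1 D223564 F478823 F451870 (iv4 D209018) F430848
theorem F520123 : act 6 n223564 = n208390 := d10_2 (iv6 F430847) D223564 F449165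
theorem F520124 : act 5 n223564 = n223558 := d16_5 F472855 (iv5 D213949) F245277 (iv5 F430846) D223564 F520097 F483401 (iv7 F484411) (iv2 D216446)
theorem F520125 : act 0 n223564 = n208391 := d18_2 D204023 D223564 (iv4 F458188) F458189 F519642 F519639 (iv4 F485438) (iv0 F391322) F255956
theorem F520126 : act 1 n223564 = n204029 := d18_6 (iv1 D220276) F482119 (iv1 D213947) F245277 (iv5 F430846) D223564 F430853 F482508 F502988
def n223565 : Q := act 3 n204024
theorem D223565 : act 3 n204024 = n223565 := rfl
theorem F520127 : act 2 n223565 = n209419 := d0_1 D223565 F453614 (iv2 F451871) F519794 (iv2 F519797)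
theorem F520128 : act 7 n223565 = n209688 := d8_2 (iv7 F519791) D223565 F519789
theorem F520129 : act 4 n204132 = n223565 := d19_2 (iv1 F356490) D204132 (iv3 D223565) (iv1 D204024) (iv5 F255956) (iv4 F476806) (iv3 F517670) F517673 (iv5 F457434) (iv4 F498947) F498946 F457396 (iv5 D209794) (iv4 F395927) F395928 (iv1 F447131) F447133 F420354 F398444
theorem F520130 : act 5 n223565 = n209418 := d9_2 D204132 F520129 F453610 D210385 F457324 F313498 (iv4 F261541) (iv5 F454665) (iv4 D209697) (iv5 D136831) F100288 D65614 (iv4 F342567) F315962 (iv4 F356491)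
theorem F520131 : act 0 n223565 = n204114 := d17_0 F440452 F440450 D210073 (iv4 F462373) (iv5 D211611) F346250 D212787 F467508 F520129
theorem F520132 : act 1 n223565 = n209696 := d18_6 (iv1 F252712) (iv4 F234897) F316940 (iv4 F356491) D204132 F520129 F454663 D211607 F462356
def n223566 : Q := act 4 n204024
theorem D223566 : act 4 n204024 = n223566 := rfl
theorem F520133 : act 3 n223566 = n204133 := d5_1 D223566 (iv4 D204133) (iv3 F431151) F520129 (iv3 D223565)
theorem F520134 : act 5 n223566 = n220519 := d16_1 D223566 F504155 F391190 F472855 (iv5 D213949) F245277 (iv5 F430846) (iv7 F519793) (iv2 F519797)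
theorem F520135 : act 0 n223566 = n204029 := d18_2 (iv1 F462690) D223566 F430853 (iv5 F433539) (iv4 F519634) (iv0 D223473) (iv4 F462685) (iv0 D211685) D211686
theorem F520136 : act 1 n223566 = n208391 := d18_8 F520114 F430867 D204037 F431190 (iv5 F431191) F430845 D204024 D223566 (iv5 F520112)
def n223567 : Q := act 5 n204024
theorem D223567 : act 5 n204024 = n223567 := rfl
theorem F520137 : act 2 n223567 = n209016 := d2_1 D223567 F519796 (iv2 F519797)
theorem F520138 : act 3 n223567 = n209418 := d6_1 D223567 (iv5 F520130) (iv3 D223565)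
theorem F520139 : act 6 n223567 = n204802 := d12_2 (iv6 F520093) D223567 (iv5 F450875) F450876 (iv5 F520089)
theorem F520140 : act 7 n223567 = n209015 := d13_2 (iv7 F519791) D223567 (iv5 F519786)
theorem F520141 : act 0 n223567 = n204783 := d18_0 (iv4 F517313) (iv1 D223025) F422782 (iv5 F478903) F478901 (iv0 F478852) F430845 D204024 D223567
theorem F520142 : act 0 n209014 = n223567 := d21_10 (iv5 D223567) (iv1 D204024) (iv5 F255956) (iv6 D161959) F117152 (iv6 F324296) F324295 D159159 F359222 (iv6 F451848)
def n223568 : Q := act 1 n204026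
theorem D223568 : act 1 n204026 = n223568 := rfl
theorem F520143 : act 7 n223568 = n210659 := d15_2 (iv0 F460681) D223568 (iv2 F460678)
theorem F520144 : act 4 n223568 = n210660 := d17_9 (iv1 F460673) F460675 F410563 D204229 (iv4 F478856) (iv5 F510928) (iv0 F510929) F430885 D223568
theorem F520145 : act 3 n215209 = n223568 := d20_3 F268125 D170660 D215209 (iv1 D223568) (iv3 D204026) F304427 F129721 D122624 D204089 (iv1 F431038)
theorem F520146 : act 2 n223568 = n219437 := d0_1 F520145 (iv3 D219437) (iv2 F430793) (iv3 F449151) (iv2 F478880)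
def n223569 : Q := act 2 n204026
theorem D223569 : act 2 n204026 = n223569 := rfl
theorem F520147 : act 4 n223569 = n204436 := d1_2 F469859 D223569 (iv2 F458158)
theorem F520148 : act 6 n223569 = n204139 := d3_2 F519775 D223569 (iv2 F519779)
theorem F520149 : act 1 n223569 = n219437 := d15_0 (iv0 F498880) F478893 D223569
theorem F520150 : act 1 n210659 = n223569 := d15_0 F520149 F498879 F460678
def n223570 : Q := act 0 n204028
theorem D223570 : act 0 n204028 = n223570 := rfl
theorem F520151 : act 5 n223570 = n211223 := d17_3 F433121 F430863 D223570 (iv4 D211223) (iv5 D141229) D141228 (iv5 F383539) (iv0 F383540) D204648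
theorem F520152 : act 3 n223570 = n223503 := d20_5 (iv4 D122624) (iv1 F301692) F195873 D204028 D223570 F519783 (iv1 D203730) D203731 F429577 (iv1 F383247)
def n223571 : Q := act 1 n204028
theorem D223571 : act 1 n204028 = n223571 := rfl
theorem F520153 : act 3 n210601 = n223571 := d19_19 (iv1 D223571) (iv5 F430863) F430862 F283635 D182188 F372985 F223713 F101667 D65983 D140620 D211064 (iv3 F508998) (iv1 F509001) F472586 F460782 F224334 (iv1 F342829) F342830 D210601
theorem F520154 : act 5 n223571 = n223568 := d6_2 F478883 F520153 (iv3 F520145)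
theorem F520155 : act 6 n223571 = n215204 := d7_2 (iv6 F458174) F520153 F478863
def n223572 : Q := act 2 n204028
theorem D223572 : act 2 n204028 = n223572 := rfl
def n223573 : Q := act 4 n204028
theorem D223573 : act 4 n204028 = n223573 := rfl
theorem F520156 : act 3 n223573 = n216046 := d5_1 D223573 (iv4 D216046) F280146 F195873 D204028
theorem F520157 : act 5 n223573 = n221586 := d16_3 (iv4 F430862) F430863 D223573 F509724 (iv5 F401622) (iv4 F424368) F432832 (iv7 F478827) (iv2 F478826)
theorem F520158 : act 6 n221817 = n223573 := d12_0 F520157 (iv6 D221586) D221585 (iv6 F509723) (iv5 F510926)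
def n223574 : Q := act 6 n204028
theorem D223574 : act 6 n204028 = n223574 := rfl
theorem F520159 : act 3 n223574 = n204029 := d7_1 D223574 (iv6 D204029) D204028
theorem F520160 : act 4 n223574 = n221817 := d10_1 D223574 F520158 (iv4 D223573)
theorem F520161 : act 0 n223574 = n223557 := d20_4 (iv4 F482505) (iv1 F482508) (iv4 F430853) (iv3 F520159) (iv3 D223557) F430807 F356422 D191372 F482636 (iv1 D216042)
def n223575 : Q := act 7 n204029
theorem D223575 : act 7 n204029 = n223575 := rfl
theorem F520162 : act 2 n223575 = n208391 := d4_1 D223575 (iv7 F478899) F478896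
theorem F520163 : act 4 n223575 = n216048 := d11_1 D223575 (iv7 D216048) (iv4 F430853)
theorem F520164 : act 6 n223575 = n210661 := d14_1 D223575 F458367 F458174 (iv7 F304431) D204029
def n223576 : Q := act 5 n204030
theorem D223576 : act 5 n204030 = n223576 := rfl
theorem F520165 : act 3 n223576 = n223235 := d6_1 D223576 (iv5 D223235) (iv3 F430854)
theorem F520166 : act 6 n223576 = n214126 := d12_2 F449437 D223576 F473600 F519784 F519782
theorem F520167 : act 4 n223576 = n214127 := d16_6 F484454 F500694 F500692 (iv5 F430792) (iv4 F449436) D223576 F473605 (iv7 F484444) F484446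
theorem F520168 : act 1 n223576 = n215994 := d17_6 (iv1 F519792) (iv5 F519796) (iv1 F451855) (iv5 F430792) (iv4 F449436) D223576 F482468 D216042 F482637
theorem F520169 : act 1 n220636 = n223576 := d15_0 F520168 F482469 (iv2 F504736)
def n223577 : Q := act 5 n204031
theorem D223577 : act 5 n204031 = n223577 := rfl
theorem F520170 : act 4 n223577 = n216223 := d16_2 F488329 D223577 F483407 F484454 F500694 F500692 (iv5 F430792) D223552 F520070
theorem F520171 : act 1 n223577 = n220636 := d17_8 F481743 (iv5 D215838) (iv1 F421406) (iv5 F430824) F430823 F366895 D204031 D223577 (iv4 D220636)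
theorem F520172 : act 0 n223577 = n215994 := d21_1 D223577 F482468 (iv6 F482616) (iv1 F504167) (iv6 F482587) F482468 D216041 (iv5 F520045) F520047 (iv1 F519806)
def n223578 : Q := act 6 n204031
theorem D223578 : act 6 n204031 = n223578 := rfl
theorem F520173 : act 3 n223578 = n222358 := d7_1 D223578 (iv6 F513784) F483364
theorem F520174 : act 4 n223578 = n204647 := d10_1 D223578 (iv6 F488330) F488329
theorem F520175 : act 7 n223578 = n223553 := d14_2 (iv7 F488321) D223578 (iv6 D223553) F430794 D217295
theorem F520176 : act 1 n215192 = n223578 := d15_1 (iv0 F498882) F520175 F520077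
def n223579 : Q := act 2 n204035
theorem D223579 : act 2 n204035 = n223579 := rfl
theorem F520177 : act 4 n223579 = n215193 := d1_2 (iv4 F430862) D223579 (iv2 F478826)
theorem F520178 : act 5 n223579 = n223572 := d2_2 (iv5 F430863) D223579 (iv2 D223572)
theorem F520179 : act 6 n223579 = n216203 := d3_2 F430865 D223579 F483357
theorem F520180 : act 7 n223579 = n215203 := d4_2 (iv7 F430864) D223579 (iv2 D215203)
theorem F520181 : act 1 n223579 = n215201 := d15_0 (iv0 F478857) (iv7 F430864) D223579
theorem F520182 : act 1 n215202 = n223579 := d15_0 F520181 (iv7 F520083) F520081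
def n223580 : Q := act 5 n204036
theorem D223580 : act 5 n204036 = n223580 := rfl
theorem F520183 : act 3 n223580 = n204437 := d6_1 D223580 F432530 (iv3 F430866)
theorem F520184 : act 6 n223580 = n223561 := d12_2 D204036 D223580 F520109 (iv6 D204029) (iv5 F195899)
theorem F520185 : act 4 n223580 = n223551 := d16_2 (iv4 F430867) D223580 F520064 F462685 (iv5 F481789) (iv4 F484449) (iv5 F488153) F488155 F429550
theorem F520186 : act 0 n217255 = n223580 := d19_0 (iv5 D223580) F430867 F364077 (iv1 F283625) (iv5 F337964) (iv4 F337978) D88315 F151078 (iv5 D97993) F72171 (iv3 D42289) (iv1 F32592) (iv5 F68181) (iv4 F143036) (iv3 F352102) F216209 (iv5 F363078) (iv4 F478872) (iv3 F488135)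
def n223581 : Q := act 4 n204039
theorem D223581 : act 4 n204039 = n223581 := rfl
theorem F520187 : act 2 n223581 = n204043 := d1_1 D223581 (iv4 D204043) (iv2 F430868)
theorem F520188 : act 3 n223581 = n221882 := d5_1 D223581 (iv4 F516474) F516473 (iv4 D213263) (iv3 F430869)
theorem F520189 : act 5 n223581 = n221104 := d9_2 D204039 D223581 (iv4 F518180) F518181 (iv4 D214335) (iv5 D158345) (iv4 F191774) D203723 D223508 F519810 (iv4 F518174) F518175 F478334 F328130 (iv4 F303724)
theorem F520190 : act 7 n223581 = n213418 := d11_2 (iv7 F430870) D223581 (iv4 D213418)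
theorem F520191 : act 0 n223581 = n221723 := d17_0 (iv5 D221723) D221721 F510502 (iv4 D216046) (iv5 D179881) (iv0 F357864) D204191 (iv0 F431423) D223581
def n223582 : Q := act 4 n204042
theorem D223582 : act 4 n204042 = n223582 := rfl
theorem F520192 : act 0 n223582 = n219817 := d18_2 (iv1 F430877) D223582 (iv4 D219817) (iv5 D192303) (iv4 F354006) (iv0 F353898) F353902 F303722 D153681
theorem F520193 : act 1 n223582 = n219815 := d18_6 F427156 F427152 F348590 (iv4 F389087) (iv5 F430878) D223582 (iv4 D219815) (iv0 F479528) (iv5 D215354)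
def n223583 : Q := act 6 n204042
theorem D223583 : act 6 n204042 = n223583 := rfl
theorem F520194 : act 2 n223583 = n219983 := d3_1 D223583 F501510 F451387
theorem F520195 : act 3 n223583 = n220011 := d7_1 D223583 F501639 F430879
theorem F520196 : act 5 n223583 = n218598 := d12_1 D223583 F494683 (iv5 D193378) F389089 (iv5 F430878)
def n223584 : Q := act 0 n204043
theorem D223584 : act 0 n204043 = n223584 := rfl
theorem F520197 : act 5 n223584 = n221720 := d17_1 D223584 F510501 (iv5 F507402) F500756 (iv5 D193184) D193183 (iv5 F430875) (iv0 D204041) D204043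
theorem F520198 : act 2 n221723 = n223584 := d15_3 (iv0 D223584) (iv0 F499580) (iv7 F510513)
theorem F520199 : act 1 n213418 = n223584 := d15_0 (iv0 D223584) (iv7 F519809) F519807
theorem F520200 : act 3 n221766 = n223584 := d19_19 (iv1 F520199) F470299 (iv4 F424089) F424088 D202460 D223206 F518186 F478207 (iv1 D189793) D189795 (iv4 F435490) F435489 F360430 D127366 (iv4 F377738) F455976 (iv1 D210058) D210059 F510745
theorem F520201 : act 6 n221878 = n223584 := d21_9 F470299 F507064 F507065 F500759 (iv1 F415497) D222569 F514966 F470071 D221878 (iv1 F520199)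
def n223585 : Q := act 3 n204043
theorem D223585 : act 3 n204043 = n223585 := rfl
theorem F520202 : act 4 n223585 = n204046 := d5_2 D204043 D223585 (iv3 D204046) (iv4 D122462) (iv3 F195922)
theorem F520203 : act 5 n223585 = n221557 := d6_2 (iv5 F510665) D223585 (iv3 F510661)
theorem F520204 : act 7 n223585 = n221556 := d8_2 F519809 D223585 (iv3 F519808)
theorem F520205 : act 6 n221813 = n223585 := d12_0 F520203 F510659 F510654 F456517 D221813
def n223586 : Q := act 6 n204043
theorem D223586 : act 6 n204043 = n223586 := rfl
theorem F520206 : act 3 n223586 = n221813 := d7_1 D223586 F520205 (iv3 D223585)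
theorem F520207 : act 4 n223586 = n204044 := d10_1 D223586 (iv6 D204044) D204043
theorem F520208 : act 5 n223586 = n210194 := d12_1 D223586 (iv6 D210194) (iv5 F403897) D221750 (iv5 F510665)
theorem F520209 : act 0 n219522 = n223586 := d21_4 F472060 (iv1 F503259) (iv5 F503258) (iv6 F499267) (iv6 D223586) F510665 F510664 F507232 F500738 (iv1 D216210)
def n223587 : Q := act 0 n204044
theorem D223587 : act 0 n204044 = n223587 := rfl
theorem F520210 : act 5 n223587 = n220982 := d17_3 F432205 F432204 D223587 F506630 F466912 (iv0 F519088) F519089 (iv0 F465695) F455972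
theorem F520211 : act 3 n223587 = n220984 := d20_5 D208395 F449181 F430887 (iv3 F430880) D223587 F506641 (iv1 D204103) D204104 (iv3 F444199) F444202
theorem F520212 : act 0 n223587 = n216200 := d19_4 (iv1 F518912) F468276 (iv4 F506641) (iv3 F520211) F483342 (iv4 F455977) (iv3 D206091) F383701 D212399 F465669 (iv3 F509355) F509359 F470130 (iv4 D194523) (iv3 F393558) F393561 D197491 (iv4 F426638) (iv3 F518908)
theorem F520213 : act 7 n216184 = n223587 := d13_0 F520210 F506631 (iv5 F483307)
def n223588 : Q := act 1 n204044
theorem D223588 : act 1 n204044 = n223588 := rfl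
theorem F520214 : act 1 n223588 = n216200 := d15_1 D223588 (iv7 F506415) F506412
theorem F520215 : act 3 n220886 = n223588 := d19_19 (iv1 D223588) (iv5 F432204) (iv4 F446511) (iv3 D207803) (iv1 D132386) D132387 F365820 (iv3 F224551) (iv1 F425089) (iv5 D202684) (iv4 D116330) D116329 F319687 (iv5 D70956) F190163 D72663 (iv1 F310594) D213288 (iv4 F506073)
theorem F520216 : act 5 n208768 = n223588 := d21_0 (iv1 D223588) (iv5 F432204) (iv6 D204359) F389023 F389021 F365396 (iv1 F360777) F360775 D208265 F450781
theorem F520217 : act 6 n216143 = n223588 := d21_3 (iv5 F135144) (iv1 F344323) (iv5 F483164) (iv1 D223588) (iv6 D204044) (iv5 D122460) (iv1 F195921) D184476 F286392 F333367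
theorem F520218 : act 2 n223588 = n216184 := d3_1 F520217 (iv6 D216184) F483165
def n223589 : Q := act 7 n204044
theorem D223589 : act 7 n204044 = n223589 := rfl
theorem F520219 : act 2 n223589 = n216200 := d4_1 D223589 (iv7 F506415) F506412
theorem F520220 : act 3 n223589 = n204048 := d8_1 D223589 (iv7 D204048) (iv3 F430880)
theorem F520221 : act 5 n223589 = n208649 := d13_1 D223589 F450326 F432204
theorem F520222 : act 6 n223589 = n216199 := d14_1 D223589 (iv7 F519817) (iv6 D223509) F429549 D204044
theorem F520223 : act 1 n216184 = n223589 := d15_1 (iv0 F506416) (iv7 D223589) (iv2 F506412)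
def n223590 : Q := act 1 n204046
theorem D223590 : act 1 n204046 = n223590 := rfl
theorem F520224 : act 5 n223590 = n215202 := d17_7 (iv1 F478828) F432835 (iv1 F431504) (iv5 F458156) F469859 (iv5 F430885) D223590 F520182 F520177
theorem F520225 : act 3 n223226 = n223590 := d19_19 (iv1 D223590) F430885 (iv4 F469859) (iv3 F469858) (iv1 D213311) (iv5 F373364) (iv4 F373367) (iv3 F331092) D197773 F405718 D211067 (iv3 F507484) (iv1 F507488) F473157 F458052 F222628 (iv1 F180505) D202524 D223226
def n223591 : Q := act 2 n204046
theorem D223591 : act 2 n204046 = n223591 := rfl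
theorem F520226 : act 3 n223591 = n215203 := d0_2 D204046 D223591 (iv2 D215203) (iv3 D170657) (iv2 F304298)
theorem F520227 : act 5 n223591 = n223569 := d2_2 (iv5 F430885) D223591 (iv2 D223569)
def n223592 : Q := act 6 n204046
theorem D223592 : act 6 n204046 = n223592 := rfl
theorem F520228 : act 3 n223592 = n204047 := d7_1 D223592 (iv6 D204047) D204046
theorem F520229 : act 4 n223592 = n221813 := d10_1 D223592 F520205 F520202
theorem F520230 : act 5 n223592 = n223553 := d12_1 D223592 (iv6 D223553) (iv5 F519773) F519775 (iv5 F430885)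
def n223593 : Q := act 7 n204047
theorem D223593 : act 7 n204047 = n223593 := rfl
theorem F520231 : act 2 n223593 = n215207 := d4_1 D223593 (iv7 D215207) (iv2 F430886)
theorem F520232 : act 4 n223593 = n204048 := d11_1 D223593 (iv7 D204048) (iv4 F430887)
theorem F520233 : act 5 n223593 = n222358 := d13_1 D223593 F513781 F473559
theorem F520234 : act 1 n204089 = n223593 := d15_1 F431038 (iv7 D223593) F430886
theorem F520235 : act 1 n223593 = n215206 := d15_1 F520234 F478871 F449178
def n223594 : Q := act 4 n204050
theorem D223594 : act 4 n204050 = n223594 := rfl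
theorem F520236 : act 2 n223594 = n213469 := d1_1 D223594 (iv4 D213469) (iv2 F430898)
theorem F520237 : act 3 n223594 = n211765 := d5_1 D223594 F463009 (iv3 F484288) (iv4 F487065) F487064
theorem F520238 : act 5 n223594 = n211764 := d9_2 D204050 D223594 F462995 (iv5 F440124) (iv4 D206296) (iv5 D128170) (iv4 F155625) D192954 (iv4 F388326) (iv5 D156092) (iv4 F167236) D197416 F477174 (iv5 F477175) (iv4 D204049)
theorem F520239 : act 6 n223594 = n223494 := d10_2 F469564 D223594 F519742
theorem F520240 : act 7 n223594 = n213471 := d11_2 (iv7 F430899) D223594 (iv4 D213471)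
theorem F520241 : act 0 n223594 = n213935 := d17_0 (iv5 F472794) F517703 F517702 (iv4 D213472) (iv5 F430751) F430754 (iv5 F242483) (iv0 F430900) D223594
theorem F520242 : act 1 n223594 = n213934 := d18_6 F331891 F321380 F430897 (iv4 D204049) D204050 D223594 F472791 F471427 (iv5 D191495)
def n223595 : Q := act 4 n204052
theorem D223595 : act 4 n204052 = n223595 := rfl
theorem F520243 : act 2 n223595 = n213200 := d1_1 D223595 F469419 (iv2 F430910)
theorem F520244 : act 6 n223595 = n213197 := d10_2 F485400 D223595 (iv4 F485399)
theorem F520245 : act 7 n223595 = n213472 := d11_2 (iv7 F430908) D223595 (iv4 D213472)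
theorem F520246 : act 5 n223595 = n223004 := d16_7 (iv4 F511113) F511114 F438100 F359093 (iv4 F239223) F430909 D223595 (iv7 F517701) F517700
theorem F520247 : act 0 n223595 = n213931 := d17_0 (iv5 D213931) F463006 (iv5 F520238) (iv4 D223594) (iv5 D204050) (iv0 D122557) D122559 D204052 D223595
theorem F520248 : act 1 n223595 = n213202 := d18_6 F444457 F444453 F353871 (iv4 F239223) F430909 D223595 (iv4 F481447) (iv0 F499813) (iv5 D219642)
theorem F520249 : act 3 n223091 = n223595 := d7_3 F520244 (iv3 F517470) (iv6 F517597)
def n223596 : Q := act 0 n204053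
theorem D223596 : act 0 n204053 = n223596 := rfl
theorem F520250 : act 5 n223596 = n223194 := d17_1 D223596 (iv1 F518121) (iv5 D216588) (iv4 D184952) D184953 F388789 (iv5 F430903) (iv0 D204051) D204053
theorem F520251 : act 4 n223596 = n219447 := d18_1 D223596 (iv1 F498919) F422795 (iv5 D202045) (iv4 F422786) F510489 F510486 F472596 F463002
theorem F520252 : act 1 n213218 = n223596 := d15_0 (iv0 D223596) F430913 (iv2 F469465)
theorem F520253 : act 2 n213473 = n223596 := d1_3 F520251 (iv2 F499810) F499815
theorem F520254 : act 7 n213474 = n223596 := d11_0 F520251 F498920 F470562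
theorem F520255 : act 3 n223596 = n223000 := d19_3 (iv1 F468586) (iv5 F498918) (iv4 F520251) (iv1 D223000) (iv5 D201999) F179608 F84260 F40874 F307200 (iv4 F307053) (iv3 F232324) (iv1 D119016) (iv5 F183891) F340857 F342594 (iv1 F329364) (iv5 D133316) (iv4 F332475) (iv3 F386367)
def n223597 : Q := act 1 n204053
theorem D223597 : act 1 n204053 = n223597 := rfl
theorem F520256 : act 1 n223597 = n213218 := d15_1 D223597 F469469 (iv2 F430912)
theorem F520257 : act 7 n223597 = n213473 := d15_2 (iv0 D223596) D223597 F520253
theorem F520258 : act 4 n223597 = n208935 := d17_9 F451475 (iv5 D191496) F340204 D215284 F479210 F472597 F472596 F463002 D223597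
theorem F520259 : act 5 n222976 = n223597 := d21_0 (iv1 D223597) (iv5 F463002) D214061 F517081 F458681 (iv5 F404253) F402383 (iv5 F423647) (iv6 F485090) F517073
theorem F520260 : act 6 n220206 = n223597 := d21_9 (iv5 F463002) (iv1 F472596) (iv5 F472597) (iv6 D213253) (iv1 F468850) (iv6 F472128) (iv5 D213795) F388835 D220206 (iv1 D223597)
theorem F520261 : act 2 n223597 = n213474 := d3_1 F520260 (iv6 F470564) (iv2 F502643)
theorem F520262 : act 3 n223597 = n220209 := d7_1 F520260 (iv6 D220209) (iv3 F502644)
def n223598 : Q := act 3 n204053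
theorem D223598 : act 3 n204053 = n223598 := rfl
theorem F520263 : act 4 n223598 = n204056 := d5_2 D204053 D223598 (iv3 D204056) (iv4 D122568) (iv3 F196225)
theorem F520264 : act 5 n223598 = n211309 := d6_2 F463002 D223598 (iv3 F463001)
theorem F520265 : act 6 n223598 = n223054 := d7_2 F432576 D223598 (iv3 F517451)
theorem F520266 : act 7 n223598 = n209863 := d8_2 (iv7 F430913) D223598 F455185
theorem F520267 : act 0 n213216 = n223598 := d20_4 (iv4 F386158) F386160 (iv4 F361011) (iv3 F469460) (iv3 D223598) (iv4 D204053) D204051 (iv4 F518156) F518154 F423960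
def n223599 : Q := act 0 n204056
theorem D223599 : act 0 n204056 = n223599 := rfl
theorem F520268 : act 3 n223599 = n223179 := d20_5 (iv4 F302311) F191925 D122568 D204056 D223599 F518044 F500596 F480679 (iv3 D177950) (iv1 F277492)
theorem F520269 : act 5 n223599 = n223174 := d21_2 (iv5 F472450) D223599 F518017 F469486 (iv6 D213223) D213222 F469526 (iv5 F366407) (iv6 F472498) (iv1 F472499)
theorem F520270 : act 1 n214020 = n223599 := d15_0 (iv0 D223599) F430922 (iv2 F473150)
theorem F520271 : act 6 n223198 = n223599 := d12_0 F520269 F518017 (iv5 D202411) D202412 D223198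
theorem F520272 : act 7 n215869 = n223599 := d13_0 F520269 (iv7 D223174) (iv5 F481866)
theorem F520273 : act 2 n215870 = n223599 := d0_5 F520268 F518043 F469502 F485901 F505057
def n223600 : Q := act 1 n204056
theorem D223600 : act 1 n204056 = n223600 := rfl
theorem F520274 : act 7 n223600 = n215870 := d15_2 (iv0 D223599) D223600 F520273
theorem F520275 : act 5 n223600 = n210747 := d17_7 (iv1 F511079) D221861 F511110 (iv5 D221824) (iv4 F472458) (iv5 F472450) D223600 (iv0 F517081) (iv4 F511077)
theorem F520276 : act 6 n220748 = n223600 := d21_3 (iv5 F422906) (iv1 F393251) D220748 (iv1 D223600) (iv6 F472449) (iv5 F472194) F472428 F472426 (iv6 D213233) F422909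
theorem F520277 : act 2 n223600 = n215869 := d3_1 F520276 F481867 (iv2 F505302)
theorem F520278 : act 3 n223600 = n210748 := d7_1 F520276 (iv6 F469488) (iv3 F505303)
theorem F520279 : act 0 n214020 = n223600 := d21_4 (iv5 D209231) D209228 (iv5 F473014) (iv6 F473152) (iv6 F520276) (iv5 D220748) (iv1 D194448) D194450 F422910 (iv1 F452807)
def n223601 : Q := act 2 n204056
theorem D223601 : act 2 n204056 = n223601 := rfl
theorem F520280 : act 3 n223601 = n204622 := d0_2 D204056 D223601 (iv2 D204622) (iv3 D124052) (iv2 F196273)
theorem F520281 : act 5 n223601 = n213867 := d2_2 (iv5 F472450) D223601 (iv2 F472493)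
theorem F520282 : act 6 n223601 = n222971 := d3_2 F472449 D223601 (iv2 F517045)
theorem F520283 : act 7 n223601 = n214020 := d4_2 (iv7 F430922) D223601 F473150
theorem F520284 : act 1 n223601 = n215869 := d15_0 (iv0 D215869) (iv7 F430922) D223601
theorem F520285 : act 1 n215870 = n223601 := d15_0 F520284 F520272 (iv2 F520273)
def n223602 : Q := act 6 n204057
theorem D223602 : act 6 n204057 = n223602 := rfl
theorem F520286 : act 2 n223602 = n204624 := d3_1 D223602 (iv6 D204624) (iv2 F430923)
theorem F520287 : act 3 n223602 = n214022 := d7_1 D223602 (iv6 D214022) F472451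
theorem F520288 : act 4 n223602 = n204655 := d10_1 D223602 (iv6 D204655) (iv4 F430925)
theorem F520289 : act 7 n223602 = n223191 := d14_2 (iv7 F430924) D223602 F518103 F517984 (iv6 D204691)
theorem F520290 : act 0 n223602 = n222966 := d21_4 F481758 F429783 D204057 D223602 F517021 F511908 (iv1 F457991) (iv5 F459568) F459570 D215843
theorem F520291 : act 0 n222967 = n223602 := d21_4 (iv5 F501240) (iv1 D211692) D211693 (iv6 F517028) (iv6 D223602) (iv5 D204057) D204055 (iv5 F481765) (iv6 F481767) (iv1 F501239)
def n223603 : Q := act 4 n204068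
theorem D223603 : act 4 n204068 = n223603 := rfl
theorem F520292 : act 3 n223603 = n219269 := d5_1 D223603 (iv4 F498034) (iv3 F516827) F516829 (iv3 F511139)
theorem F520293 : act 5 n223603 = n218548 := d9_2 D204068 D223603 (iv4 D218548) (iv5 D189467) D189466 (iv5 F430977) (iv4 D204071) D204072 (iv4 F492181) (iv5 D218109) (iv4 F430969) (iv5 D189462) D189461 (iv5 F430960) (iv4 D204067)
theorem F520294 : act 1 n223603 = n215483 := d18_8 F494435 (iv4 D218551) (iv1 D189473) D189474 (iv5 F381661) (iv4 F477509) F477510 D223603 F480184
theorem F520295 : act 6 n223603 = n215707 := d21_5 (iv5 D170744) (iv1 F298306) (iv5 F273509) D215483 (iv1 F520294) (iv5 D215707) (iv1 D176917) D176918 F276272 (iv1 F298772)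
def n223604 : Q := act 6 n204068
theorem D223604 : act 6 n204068 = n223604 := rfl
theorem F520296 : act 2 n223604 = n221987 := d3_1 D223604 (iv6 F511776) F475993
theorem F520297 : act 3 n223604 = n221480 := d7_1 D223604 (iv6 F511137) (iv3 F511139)
theorem F520298 : act 4 n223604 = n215707 := d10_1 D223604 (iv6 F520295) (iv4 D223603)
theorem F520299 : act 5 n223604 = n222377 := d12_1 D223604 F513878 (iv5 F430769) F430974 D204068
theorem F520300 : act 0 n223604 = n214290 := d21_10 (iv5 D214290) D214289 (iv5 F480312) (iv6 F501317) F501319 (iv6 D204078) (iv5 D122590) D122587 D204068 D223604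
theorem F520301 : act 1 n223604 = n221477 := d15_1 (iv0 F520300) F509217 (iv2 F474415)
theorem F520302 : act 7 n221986 = n223604 := d13_0 F520299 F513881 (iv5 F511770)
def n223605 : Q := act 5 n204070
theorem D223605 : act 5 n204070 = n223605 := rfl
theorem F520303 : act 2 n223605 = n221986 := d2_1 D223605 F511770 F430988
theorem F520304 : act 3 n223605 = n204072 := d6_1 D223605 (iv5 D204072) D204070
theorem F520305 : act 4 n223605 = n215705 := d9_1 D223605 (iv5 D215705) F369295 D189680 (iv4 F377379) D214331 (iv4 F513876) (iv5 F520299) F520298 (iv5 D215707) F369378 (iv5 F374850) F374849 (iv5 F474696) F474695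
theorem F520306 : act 7 n223605 = n221987 := d13_2 F430990 D223605 F511773
theorem F520307 : act 0 n223605 = n221477 := d17_2 F430989 D223605 (iv5 D221477) F400807 F336091 F209363 F321980 (iv0 F336023) (iv4 F413081)
theorem F520308 : act 1 n223605 = n214290 := d17_6 (iv1 F433341) (iv5 F444062) F444061 (iv5 F474696) F474695 D223605 (iv5 D214290) (iv0 F459452) F459451
def n223606 : Q := act 6 n204072
theorem D223606 : act 6 n204072 = n223606 := rfl
theorem F520309 : act 4 n223606 = n214275 := d10_1 D223606 (iv6 F492180) F492181
theorem F520310 : act 5 n223606 = n217825 := d12_1 D223606 F514069 F514066 (iv6 D204073) D204072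
theorem F520311 : act 0 n223606 = n222454 := d21_4 F433495 (iv1 F253204) D204072 D223606 F514305 (iv5 D214093) F397754 (iv5 F461513) (iv6 F461517) (iv1 F433497)
theorem F520312 : act 0 n218296 = n223606 := d21_4 (iv5 D219950) (iv1 D192483) D192484 (iv6 F493166) (iv6 D223606) (iv5 D204072) (iv1 D122588) D122590 D204078 (iv1 F501324)
def n223607 : Q := act 4 n204074
theorem D223607 : act 4 n204074 = n223607 := rfl
theorem F520313 : act 2 n223607 = n204077 := d1_1 D223607 (iv4 D204077) (iv2 F431000)
theorem F520314 : act 3 n223607 = n219378 := d5_1 D223607 F498572 F481148 F276266 (iv3 F431001)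
theorem F520315 : act 5 n223607 = n210079 := d9_2 D204074 D223607 F456082 F392357 F158255 (iv5 F112838) (iv4 F115364) (iv5 F198789) (iv4 F433464) (iv5 F481110) (iv4 F494128) F494129 (iv4 D215295) (iv5 D172105) (iv4 F196332)
theorem F520316 : act 6 n220374 = n223607 := d12_0 F520315 (iv6 D210079) F220898 F390147 D220374
def n223608 : Q := act 6 n204074
theorem D223608 : act 6 n204074 = n223608 := rfl
theorem F520317 : act 2 n223608 = n204078 := d3_1 D223608 (iv6 D204078) (iv2 F431000)
theorem F520318 : act 3 n223608 = n204742 := d7_1 D223608 (iv6 D204742) (iv3 F431001)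
theorem F520319 : act 4 n223608 = n220374 := d10_1 D223608 F520316 (iv4 D223607)
theorem F520320 : act 5 n223608 = n220870 := d12_1 D223608 F505989 F493050 F430938 D204074
theorem F520321 : act 0 n223608 = n218331 := d21_4 (iv5 D214598) (iv1 F253198) D204074 D223608 (iv6 F501325) (iv5 F501879) F501880 F459973 (iv6 F382753) F475986
theorem F520322 : act 0 n218326 = n223608 := d21_4 (iv5 D197937) D197935 D221985 F511766 (iv6 D223608) (iv5 D204074) (iv1 F253203) D214600 F511776 (iv1 D221987)
def n223609 : Q := act 4 n204075
theorem D223609 : act 4 n204075 = n223609 := rfl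
theorem F520323 : act 5 n223609 = n218422 := d9_2 (iv5 F433491) D223609 (iv4 D218422) F479289 F479288 (iv5 F477505) (iv4 D214932) (iv5 F431002) (iv4 F515233) (iv5 D222623) F481108 (iv5 F479277) F479278 (iv5 F477500) (iv4 D214931)
theorem F520324 : act 0 n223609 = n222103 := d17_0 F512381 (iv1 D218108) D218109 F492181 (iv5 D204072) F253204 (iv5 F433495) F433497 D223609
def n223610 : Q := act 6 n204076
theorem D223610 : act 6 n204076 = n223610 := rfl
theorem F520325 : act 3 n223610 = n218799 := d7_1 D223610 (iv6 F511636) F511635
theorem F520326 : act 4 n223610 = n220458 := d10_1 D223610 (iv6 F515232) F515233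
theorem F520327 : act 5 n223610 = n220177 := d12_1 D223610 F502492 F501734 (iv6 F433499) (iv5 F431002)
theorem F520328 : act 7 n223610 = n220176 := d14_2 F433488 D223610 F502487 F480131 F480129
theorem F520329 : act 0 n218801 = n223610 := d21_4 (iv5 D217897) F372361 (iv5 F378850) D218801 (iv6 D223610) F431002 (iv1 D163939) D163941 F382753 (iv1 F491147)
theorem F520330 : act 1 n211445 = n223610 := d15_1 F501717 F520328 F502485
def n223611 : Q := act 0 n204077
theorem D223611 : act 0 n204077 = n223611 := rfl
theorem F520331 : act 5 n223611 = n218400 := d17_1 D223611 (iv1 D218400) (iv5 F480155) F480154 F477543 F430247 (iv5 F433491) (iv0 D204075) D204077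
theorem F520332 : act 6 n223611 = n215525 := d21_5 F479458 (iv1 F390152) D209909 (iv6 F474761) D223611 F480325 F477874 (iv5 F381600) (iv6 F391379) F479460
theorem F520333 : act 3 n211737 = n223611 := d7_3 F520332 (iv3 F480327) (iv6 F477880)
def n223612 : Q := act 1 n204077
theorem D223612 : act 1 n204077 = n223612 := rfl
theorem F520334 : act 5 n223612 = n218399 := d17_7 D189258 (iv5 F479277) (iv1 F479279) (iv5 F494384) F494385 F474759 D223612 (iv0 D218399) F376173
theorem F520335 : act 4 n223612 = n221391 := d17_9 F508774 F497461 (iv1 F412236) D215294 (iv4 F497810) F497807 (iv0 F474760) F474759 D223612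
theorem F520336 : act 6 n218802 = n223612 := d10_0 F520335 F508773 (iv4 F495902)
theorem F520337 : act 3 n223612 = n218851 := d7_1 F520336 (iv6 D218851) (iv3 F495901)
def n223613 : Q := act 6 n204087
theorem D223613 : act 6 n204087 = n223613 := rfl
theorem F520338 : act 2 n223613 = n210588 := d3_1 D223613 F458142 F432094
theorem F520339 : act 3 n223613 = n210862 := d7_1 D223613 F489942 F489938
theorem F520340 : act 7 n223613 = n210589 := d14_2 F444677 D223613 (iv6 F469972) F469967 F444681
theorem F520341 : act 0 n210577 = n223613 := d21_4 (iv5 F451846) F458098 (iv5 F503785) (iv6 F503790) (iv6 D223613) F431032 (iv1 D203454) F311986 (iv6 F451867) F451868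
theorem F520342 : act 1 n210591 = n223613 := d15_1 F519240 F520340 (iv2 F519235)
def n223614 : Q := act 4 n204100
theorem D223614 : act 4 n204100 = n223614 := rfl
theorem F520343 : act 2 n223614 = n222886 := d1_1 D223614 (iv4 D222886) (iv2 F431082)
theorem F520344 : act 6 n223614 = n220003 := d10_2 F490439 D223614 F501601
def n223615 : Q := act 4 n204102
theorem D223615 : act 4 n204102 = n223615 := rfl
theorem F520345 : act 3 n223615 = n208529 := d5_1 D223615 F449746 F383469 (iv4 F383510) (iv3 F431174)
theorem F520346 : act 5 n223615 = n208528 := d9_2 F468319 D223615 F449742 D209112 F452313 (iv5 F238437) (iv4 F468275) F468276 (iv4 F506641) (iv5 D220984) F395937 (iv5 F238408) (iv4 F360959) (iv5 F238512) (iv4 F468320)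
theorem F520347 : act 7 n223615 = n219418 := d11_2 F431175 D223615 F498797
theorem F520348 : act 1 n223615 = n223430 := d18_6 F462350 F238510 D151651 (iv4 F468320) F468319 D223615 (iv4 D223430) D223429 (iv5 F519411)
theorem F520349 : act 6 n217214 = n223615 := d14_5 F520347 F498799 (iv7 F467791) F493881 F493880
def n223616 : Q := act 6 n204102
theorem D223616 : act 6 n204102 = n223616 := rfl
theorem F520350 : act 2 n223616 = n217311 := d3_1 D223616 (iv6 F516729) (iv2 F468041)
theorem F520351 : act 3 n223616 = n216171 := d7_1 D223616 (iv6 F483279) (iv3 F431174)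
theorem F520352 : act 4 n223616 = n217214 := d10_1 D223616 F520349 (iv4 D223615)
theorem F520353 : act 7 n223616 = n217312 := d14_2 F431175 D223616 F488388 (iv7 D191463) (iv6 F383506)
theorem F520354 : act 0 n223616 = n216867 := d21_10 F486305 F460646 (iv5 F491344) (iv6 F491347) (iv1 F462539) F462537 (iv5 F449348) D212959 F468319 D223616
theorem F520355 : act 1 n223616 = n217029 := d15_1 (iv0 F520354) F487046 (iv2 F486303)
def n223617 : Q := act 0 n204107
theorem D223617 : act 0 n204107 = n223617 := rfl
theorem F520356 : act 5 n223617 = n216420 := d17_1 D223617 (iv1 F501997) (iv5 F501995) F501992 (iv5 D203146) D203144 (iv5 F431093) (iv0 D204106) D204107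
theorem F520357 : act 4 n223617 = n204403 := d18_3 F361490 D204107 D223617 (iv5 D204403) (iv4 F361486) F316796 (iv4 F361502) F361500 D179710
theorem F520358 : act 6 n223617 = n216421 := d21_5 (iv5 D210859) (iv1 F361517) D214129 (iv6 F473617) D223617 (iv5 D216421) F388818 D220197 (iv6 F510411) F510413
theorem F520359 : act 1 n204110 = n223617 := d15_0 (iv0 D223617) (iv7 F520033) F520031
theorem F520360 : act 7 n223617 = n220005 := d15_2 F468494 F520359 F501613
theorem F520361 : act 3 n216424 = n223617 := d19_19 (iv1 F520359) (iv5 F485497) (iv4 F485561) (iv3 F485563) F471126 F471123 F471054 (iv3 F363112) (iv1 F466395) F466394 (iv4 F401005) D221503 F509868 F509866 F443983 (iv3 F513387) F513389 F488392 F488393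
def n223618 : Q := act 5 n204107
theorem D223618 : act 5 n204107 = n223618 := rfl
theorem F520362 : act 2 n223618 = n220503 := d2_1 D223618 (iv5 F520040) F520039
theorem F520363 : act 4 n223618 = n216709 := d9_1 D223618 F485568 F428922 (iv5 F317910) (iv4 D122685) D122686 D204110 (iv5 F485497) (iv4 F485561) F485560 F425079 (iv5 F332481) (iv4 D122680) D122681 D204107
theorem F520364 : act 6 n223618 = n210840 := d12_2 (iv6 F473617) D223618 F458967 F361515 D214129
theorem F520365 : act 7 n223618 = n220502 := d13_2 F520033 D223618 (iv5 F520034)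
theorem F520366 : act 0 n223618 = n220472 := d17_2 F468493 D223618 F503934 (iv4 D216133) (iv5 D181939) (iv0 F337196) (iv5 F468481) (iv0 D212989) D212991
theorem F520367 : act 1 n223618 = n220471 := d17_6 (iv1 D122689) (iv5 D56987) D56985 D122681 D204107 D223618 F503930 F502002 (iv4 D204115)
def n223619 : Q := act 6 n204110
theorem D223619 : act 6 n204110 = n223619 := rfl
theorem F520368 : act 3 n223619 = n222849 := d7_1 D223619 F516408 (iv3 F483395)
theorem F520369 : act 4 n223619 = n204111 := d10_1 D223619 (iv6 D204111) D204110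
theorem F520370 : act 5 n223619 = n210858 := d12_1 D223619 F459046 D222850 (iv6 F516411) F485497
theorem F520371 : act 7 n223619 = n210857 := d14_2 F520042 D223619 F459043 D210865 (iv6 F520041)
theorem F520372 : act 0 n223619 = n215077 := d21_4 (iv5 F503934) F503937 F485497 D223619 (iv6 D215077) (iv5 D166122) (iv1 F321592) (iv5 F226218) (iv6 F440455) (iv1 F483129)
def n223620 : Q := act 1 n204111
theorem D223620 : act 1 n204111 = n223620 := rfl
theorem F520373 : act 5 n223533 = n223620 := d21_0 (iv1 D223620) (iv5 F481460) (iv6 D215762) (iv1 D177734) (iv6 F277175) (iv5 D177721) (iv1 F289757) D191271 D219353 F519963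
theorem F520374 : act 6 n222885 = n223620 := d21_3 (iv5 F468319) (iv1 F518913) F518910 (iv1 D223620) (iv6 D204111) (iv5 D122686) (iv1 D56986) D56987 (iv6 F196541) D204102
theorem F520375 : act 3 n223620 = n216277 := d7_1 F520374 (iv6 F518924) F518922
def n223621 : Q := act 7 n204111
theorem D223621 : act 7 n204111 = n223621 := rfl
theorem F520376 : act 4 n223621 = n210857 := d11_1 D223621 (iv7 F520371) F520369
theorem F520377 : act 5 n223621 = n219360 := d13_1 D223621 F498461 F481460
theorem F520378 : act 6 n223621 = n210864 := d14_1 D223621 (iv7 F501200) F501199 F430715 D204111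
def n223622 : Q := act 6 n204115
theorem D223622 : act 6 n204115 = n223622 := rfl
theorem F520379 : act 2 n223622 = n211635 := d3_1 D223622 F501989 (iv2 F501988)
theorem F520380 : act 4 n223622 = n204116 := d10_1 D223622 (iv6 D204116) D204115
theorem F520381 : act 5 n223622 = n211604 := d12_1 D223622 F462344 (iv5 F500081) F500084 F485162
theorem F520382 : act 7 n223622 = n211603 := d14_2 F501991 D223622 F462340 D211608 F501993
theorem F520383 : act 1 n211633 = n223622 := d15_1 D211633 F520382 F462339
theorem F520384 : act 1 n223622 = n211632 := d15_1 F520383 (iv7 F462461) (iv2 F462465)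
def n223623 : Q := act 6 n204118
theorem D223623 : act 6 n204118 = n223623 := rfl
theorem F520385 : act 2 n223623 = n219554 := d3_1 D223623 F499422 (iv2 F485239)
theorem F520386 : act 4 n223623 = n220074 := d10_1 D223623 (iv6 D220074) (iv4 F431107)
theorem F520387 : act 5 n223623 = n216553 := d12_1 D223623 (iv6 D216553) D216552 (iv6 F485246) F485240
theorem F520388 : act 7 n223623 = n219555 := d14_2 F500150 D223623 (iv6 F499424) F467498 (iv6 F500149)
theorem F520389 : act 0 n216868 = n223623 := d21_4 (iv5 D89025) F135773 D186007 D216868 (iv6 D223623) (iv5 F485240) (iv1 F485241) (iv5 F483182) (iv6 F483179) (iv1 D186672)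
theorem F520390 : act 1 n219556 = n223623 := d15_0 (iv0 F520389) (iv7 F501969) (iv2 F501972)
def n223624 : Q := act 4 n204119
theorem D223624 : act 4 n204119 = n223624 := rfl
theorem F520391 : act 2 n223624 = n213612 := d1_1 D223624 F471294 (iv2 F431108)
theorem F520392 : act 6 n223624 = n204235 := d10_2 (iv6 F431110) D223624 (iv4 D204235)
theorem F520393 : act 7 n223624 = n213613 := d11_2 F488222 D223624 (iv4 F488224)
theorem F520394 : act 0 n223624 = n213487 := d17_0 (iv5 F479605) F479606 (iv5 D193814) F367350 (iv5 D186591) D186590 (iv5 F392062) (iv0 F431111) D223624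
theorem F520395 : act 1 n223624 = n213614 := d18_6 (iv1 F368380) (iv4 F381787) F381788 F367871 D204119 D223624 F471297 F426858 (iv5 F426856)
def n223625 : Q := act 7 n204123
theorem D223625 : act 7 n204123 = n223625 := rfl
theorem F520396 : act 2 n223625 = n215816 := d4_1 D223625 (iv7 D215816) (iv2 F431124)
theorem F520397 : act 4 n223625 = n204124 := d11_1 D223625 (iv7 D204124) D204123
theorem F520398 : act 5 n223625 = n213849 := d13_1 D223625 (iv7 F472914) F472915
theorem F520399 : act 6 n223625 = n215821 := d14_1 D223625 (iv7 D215821) (iv6 D177952) (iv7 F301760) (iv6 F431125)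
theorem F520400 : act 1 n204458 = n223625 := d15_1 (iv0 F432602) (iv7 D223625) F431124
theorem F520401 : act 1 n223625 = n204455 := d15_1 F520400 (iv7 F432748) F432746
def n223626 : Q := act 4 n204129
theorem D223626 : act 4 n204129 = n223626 := rfl
theorem F520402 : act 2 n223626 = n208443 := d1_1 D223626 F449379 F449343
theorem F520403 : act 5 n223626 = n216204 := d16_1 D223626 (iv4 D216204) F356415 (iv4 F153788) (iv5 F368213) (iv4 F445275) (iv5 F445276) (iv7 F449344) F449343
theorem F520404 : act 0 n223626 = n204431 := d17_0 F432511 (iv1 F431183) (iv5 D204142) (iv4 D122715) (iv5 D56995) D56994 D122711 F431146 D223626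
theorem F520405 : act 1 n223626 = n204430 := d18_6 F369017 (iv4 F356360) D186840 (iv4 F431064) (iv5 F431145) D223626 (iv4 D204430) D204429 F432508
theorem F520406 : act 3 n223626 = n223577 := d19_3 F431067 (iv5 F431145) D223626 F520172 F482468 (iv4 F482505) (iv3 D216007) (iv1 F469978) F469977 F462555 (iv3 F462547) (iv1 F462551) (iv5 F510629) F510628 F443711 (iv1 F368778) (iv5 F367377) (iv4 F445268) F445267
def n223627 : Q := act 4 n204130
theorem D223627 : act 4 n204130 = n223627 := rfl
theorem F520407 : act 3 n223627 = n208445 := d5_1 D223627 F449382 (iv3 F449341) (iv4 F516738) F516740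
theorem F520408 : act 5 n223627 = n210662 := d9_2 (iv5 F445276) D223627 F458371 F356423 (iv4 F356511) (iv5 F368208) (iv4 F431064) (iv5 F431145) D223626 F520403 (iv4 D216204) F356415 (iv4 F153788) (iv5 F368213) (iv4 F445275)
theorem F520409 : act 7 n223627 = n208443 := d11_2 F449344 D223627 F449379
theorem F520410 : act 0 n223627 = n204430 := d17_0 F432510 F383541 D219396 F498675 F429540 F191755 D122706 D204130 D223627
theorem F520411 : act 1 n223627 = n204431 := d18_6 (iv1 F369020) (iv4 F411529) (iv1 F411531) (iv4 F445275) (iv5 F445276) D223627 (iv4 D204431) F432504 F432503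
def n223628 : Q := act 3 n204138
theorem D223628 : act 3 n204138 = n223628 := rfl
theorem F520412 : act 4 n223628 = n217297 := d5_2 D204138 D223628 (iv3 F488325) (iv4 D211657) F365285
theorem F520413 : act 5 n223628 = n217254 := d6_2 (iv5 F431170) D223628 (iv3 D217254)
theorem F520414 : act 6 n223628 = n208443 := d7_2 (iv6 F431169) D223628 (iv3 D208443)
theorem F520415 : act 7 n223628 = n223580 := d8_2 (iv7 F432534) D223628 F520183
theorem F520416 : act 0 n215205 = n223628 := d20_4 (iv4 D215210) (iv1 D170661) (iv4 F268125) (iv3 F478865) (iv3 D223628) (iv4 D204138) (iv1 D122714) D122715 D204141 (iv1 F478891)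
def n223629 : Q := act 3 n204139
theorem D223629 : act 3 n204139 = n223629 := rfl
theorem F520417 : act 2 n223629 = n223571 := d0_1 D223629 (iv3 F520153) F458173 F519777 F519779
theorem F520418 : act 4 n223629 = n222568 := d5_2 (iv4 F431184) D223629 F514962 F432519 (iv3 D204434)
theorem F520419 : act 5 n223629 = n219437 := d6_2 (iv5 F431185) D223629 (iv3 D219437)
theorem F520420 : act 7 n223629 = n223570 := d8_2 F519781 D223629 F520152
theorem F520421 : act 0 n215204 = n223629 := d20_4 (iv4 D170647) (iv1 F191843) (iv4 F268122) (iv3 F478863) (iv3 D223629) F431184 (iv1 F429587) F429583 F384377 F302101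
theorem F520422 : act 1 n223572 = n223629 := d15_0 (iv0 F520421) F478864 D223572
def n223630 : Q := act 5 n204144
theorem D223630 : act 5 n204144 = n223630 := rfl
theorem F520423 : act 2 n223630 = n216042 := d2_1 D223630 (iv5 F520056) F520055
theorem F520424 : act 3 n223630 = n214115 := d6_1 D223630 F473550 (iv3 F449146)
theorem F520425 : act 6 n223630 = n211687 := d12_2 F449145 D223630 F462692 F449180 F430839
theorem F520426 : act 7 n223630 = n216041 := d13_2 (iv7 F520050) D223630 (iv5 F520045)
theorem F520427 : act 4 n223630 = n211686 := d17_4 (iv1 D204031) (iv5 F366895) D204144 D223630 (iv5 D211686) (iv0 F431737) D220556 (iv0 F504341) F488329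
theorem F520428 : act 0 n223630 = n216043 := d18_0 F482643 (iv1 D215214) (iv4 F478898) (iv5 F478900) (iv4 F478629) (iv0 D215160) (iv4 F478625) (iv0 F478626) D223630
theorem F520429 : act 0 n204651 = n223630 := d21_10 (iv5 D223630) F478626 (iv5 F519803) (iv6 F520047) (iv1 F520048) (iv6 F520119) F520118 F500724 F449376 (iv6 F449378)
def n223631 : Q := act 4 n204152
theorem D223631 : act 4 n204152 = n223631 := rfl
theorem F520430 : act 2 n223631 = n211568 := d1_1 D223631 F520000 F520002
theorem F520431 : act 6 n223631 = n216412 := d10_2 F498466 D223631 (iv4 F498465)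
theorem F520432 : act 7 n223631 = n211567 := d11_2 F431218 D223631 F462176
theorem F520433 : act 5 n223631 = n223240 := d16_1 D223631 (iv4 D223240) (iv5 D202545) (iv4 F424427) (iv5 F444467) F444466 F431219 (iv7 F519997) F520002
theorem F520434 : act 0 n223631 = n210098 := d18_2 D204152 D223631 F456147 (iv5 D192061) F348285 (iv0 F331872) F331874 (iv0 D123018) D123020
theorem F520435 : act 1 n223631 = n211570 := d18_6 (iv1 F389577) F389576 F444452 F444449 (iv5 F431217) D223631 F462184 (iv0 F459070) (iv5 D210868)
def n223632 : Q := act 4 n204163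
theorem D223632 : act 4 n204163 = n223632 := rfl
theorem F520436 : act 2 n223632 = n212415 := d1_1 D223632 (iv4 F492770) F492769
theorem F520437 : act 5 n223632 = n207047 := d9_2 (iv5 F439914) D223632 (iv4 F449779) (iv5 D208537) (iv4 F449773) F449774 F439904 (iv5 F431272) (iv4 F490004) F490008 F453750 F487752 F487750 F439912 (iv4 F439910)
theorem F520438 : act 7 n223632 = n219469 := d11_2 F503138 D223632 (iv4 F503140)
theorem F520439 : act 0 n223632 = n217039 := d18_2 D204163 D223632 (iv4 D217039) (iv5 D186689) D186688 F385381 F385377 F364927 D123068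
theorem F520440 : act 1 n223632 = n206963 := d18_6 (iv1 F456451) (iv4 F478778) F478782 (iv4 F439910) (iv5 F439914) D223632 F442762 F434208 F434205
theorem F520441 : act 6 n223632 = n219504 := d21_3 (iv5 D207049) D207047 (iv5 F520437) (iv1 D219504) (iv6 D191609) D191608 (iv1 F444130) (iv5 F442540) F499074 (iv1 F499073)
def n223633 : Q := act 6 n204163
theorem D223633 : act 6 n204163 = n223633 := rfl
theorem F520442 : act 3 n223633 = n216413 := d7_1 D223633 (iv6 F487527) (iv3 F487531)
theorem F520443 : act 4 n223633 = n219504 := d10_1 D223633 (iv6 F520441) (iv4 D223632)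
theorem F520444 : act 5 n223633 = n219362 := d12_1 D223633 F498470 F480534 (iv6 D207339) (iv5 F439914)
theorem F520445 : act 7 n223633 = n217648 := d14_2 F503138 D223633 (iv6 D217648) F489902 F503142
theorem F520446 : act 0 n222461 = n223633 := d21_4 (iv5 F427209) (iv1 F491063) (iv5 F491062) D222461 (iv6 D223633) F439914 (iv1 D130874) D130875 (iv6 F444397) F444398
def n223634 : Q := act 5 n204190
theorem D223634 : act 5 n204190 = n223634 := rfl
theorem F520447 : act 2 n223634 = n221847 := d2_1 D223634 F511028 F464035
theorem F520448 : act 3 n223634 = n217218 := d6_1 D223634 (iv5 F487985) F467642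
theorem F520449 : act 6 n223634 = n204191 := d12_2 D204190 D223634 (iv5 D204191) (iv6 D123114) D123113
theorem F520450 : act 4 n223634 = n210464 := d16_2 (iv4 F431418) D223634 (iv5 D210464) F222271 D139089 F314676 (iv5 F464038) (iv7 D212032) (iv2 F420285)
theorem F520451 : act 0 n223634 = n218307 := d17_2 F519551 D223634 (iv5 D218307) F375399 (iv5 F355317) (iv0 D144976) D144978 (iv0 F428265) D223458
theorem F520452 : act 1 n223634 = n222864 := d17_6 (iv1 F420603) (iv5 F334442) F334434 D201386 (iv4 F431418) D223634 (iv5 D222864) (iv0 F459023) F459021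
def n223635 : Q := act 4 n204191
theorem D223635 : act 4 n204191 = n223635 := rfl
theorem F520453 : act 2 n223635 = n221844 := d1_1 D223635 F511016 (iv2 F431419)
theorem F520454 : act 6 n223635 = n210464 := d10_2 F520449 D223635 (iv4 F520450)
theorem F520455 : act 7 n223635 = n223582 := d11_2 (iv7 F431421) D223635 (iv4 D223582)
theorem F520456 : act 5 n223635 = n210462 := d17_5 F389109 (iv5 F389105) (iv1 F389107) D204191 D223635 F514226 F514222 F500747 (iv4 D216559)
theorem F520457 : act 3 n222630 = n223635 := d6_3 F520456 F457643 D222630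
def n223636 : Q := act 6 n204196
theorem D223636 : act 6 n204196 = n223636 := rfl
theorem F520458 : act 3 n223636 = n212277 := d7_1 D223636 F468082 F468084
theorem F520459 : act 5 n223636 = n207332 := d12_1 D223636 (iv6 D207332) F209468 (iv6 F429896) (iv5 F431440)
theorem F520460 : act 7 n223636 = n212308 := d14_2 F469001 D223636 F490940 (iv7 F492585) F492584
theorem F520461 : act 0 n223636 = n216370 := d21_4 (iv5 F376255) (iv1 F429898) (iv5 F431440) D223636 F484044 F419989 (iv1 F353832) F346145 D152518 F387472
theorem F520462 : act 0 n207366 = n223636 := d21_4 (iv5 D61436) D61435 D130947 D207366 (iv6 D223636) F431440 F429897 (iv5 F444542) (iv6 D207368) (iv1 D130949)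
def n223637 : Q := act 5 n204200
theorem D223637 : act 5 n204200 = n223637 := rfl
theorem F520463 : act 2 n223637 = n204477 := d2_1 D223637 (iv5 D204477) (iv2 F431456)
theorem F520464 : act 3 n223637 = n220565 := d6_1 D223637 F504382 F499743
theorem F520465 : act 6 n223637 = n223420 := d12_2 (iv6 F431457) D223637 F519355 F459445 (iv5 F412689)
theorem F520466 : act 7 n223637 = n204485 := d13_2 (iv7 F431458) D223637 (iv5 D204485)
theorem F520467 : act 0 n223637 = n220779 := d17_2 (iv1 F431460) D223637 (iv5 F514101) F514100 F458276 F255580 (iv5 F410233) F410236 D199077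
theorem F520468 : act 1 n223637 = n222424 := d17_6 (iv1 D123130) (iv5 D57295) D57293 D123122 D204200 D223637 F514144 (iv0 F431474) (iv4 D204203)
def n223638 : Q := act 6 n204207
theorem D223638 : act 6 n204207 = n223638 := rfl
theorem F520469 : act 3 n223638 = n222374 := d7_1 D223638 F513863 (iv3 F499591)
theorem F520470 : act 4 n223638 = n204208 := d10_1 D223638 (iv6 D204208) D204207
theorem F520471 : act 5 n223638 = n218342 := d12_1 D223638 (iv6 D218342) (iv5 F443262) (iv6 D207088) (iv5 F431489)
theorem F520472 : act 7 n223638 = n222434 := d14_2 (iv7 F431488) D223638 F514201 F499490 (iv6 D204529)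
theorem F520473 : act 0 n223638 = n216341 := d21_4 F470683 (iv1 D207087) (iv5 F431489) D223638 (iv6 D216341) (iv5 D183083) F272106 (iv5 F403465) (iv6 F432848) (iv1 F470685)
def n223639 : Q := act 6 n204210
theorem D223639 : act 6 n204210 = n223639 := rfl
theorem F520474 : act 2 n223639 = n221504 := d3_1 D223639 F509339 F453876
theorem F520475 : act 3 n223639 = n204211 := d7_1 D223639 (iv6 D204211) D204210
theorem F520476 : act 4 n223639 = n207964 := d10_1 D223639 (iv6 F448245) F448249
theorem F520477 : act 5 n223639 = n214788 := d12_1 D223639 F476849 F440468 (iv6 F453855) F453857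
theorem F520478 : act 7 n223639 = n207963 := d14_2 (iv7 F431496) D223639 F447173 F414737 F412283
theorem F520479 : act 0 n223639 = n221505 := d21_10 F509345 F476857 F476855 (iv6 D188852) (iv1 D92854) D92857 D188856 (iv1 F453858) F453857 D223639
theorem F520480 : act 0 n221500 = n223639 := d21_4 F464416 (iv1 D212126) D212127 (iv6 F509319) (iv6 D223639) (iv5 F453857) F513562 F513559 F492485 (iv1 F375451)
def n223640 : Q := act 5 n204211
theorem D223640 : act 5 n204211 = n223640 := rfl
theorem F520481 : act 2 n223640 = n204540 := d2_1 D223640 (iv5 D204540) (iv2 F431497)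
theorem F520482 : act 3 n223640 = n214788 := d6_1 D223640 (iv5 F520477) F520475
theorem F520483 : act 6 n223640 = n220823 := d12_2 D204211 D223640 F505721 (iv6 D215218) (iv5 F302066)
theorem F520484 : act 7 n223640 = n222530 := d13_2 (iv7 F431499) D223640 (iv5 D222530)
theorem F520485 : act 0 n223640 = n211096 := d17_2 (iv1 F433117) D223640 F460079 F412948 (iv5 F383539) (iv0 F383540) (iv5 D124158) D124157 D204646
theorem F520486 : act 1 n223640 = n220843 := d17_6 D202519 (iv5 F469636) F469638 F268109 (iv4 F431498) D223640 F505839 (iv0 D199639) (iv4 F180504)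
def n223641 : Q := act 0 n204226
theorem D223641 : act 0 n204226 = n223641 := rfl
theorem F520487 : act 5 n223641 = n217312 := d17_1 D223641 (iv1 D217312) (iv5 F454283) F454219 D214523 F475614 F468286 (iv0 F475554) (iv4 F475555)
theorem F520488 : act 4 n223641 = n214530 := d18_1 D223641 (iv1 F475652) D214537 F475682 (iv4 F475660) F475659 (iv4 F491351) F491349 F487055
theorem F520489 : act 3 n223641 = n217971 := d20_5 F436649 (iv1 F436648) (iv4 F366921) (iv3 F431557) D223641 F491487 D219568 (iv4 F499489) F432814 (iv1 F431504)
theorem F520490 : act 6 n223641 = n210222 := d21_5 (iv5 F337494) (iv1 D123171) D123173 D204226 D223641 (iv5 D210222) (iv1 F221243) F219803 (iv6 D136656) D136652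
theorem F520491 : act 1 n217942 = n223641 := d15_0 (iv0 D223641) (iv7 F475608) (iv2 F491360)
theorem F520492 : act 2 n210260 = n223641 := d3_3 F520490 F456638 D210260
def n223642 : Q := act 1 n204226
theorem D223642 : act 1 n204226 = n223642 := rfl
theorem F520493 : act 1 n223642 = n217942 := d15_1 D223642 F491363 F475600
theorem F520494 : act 7 n223642 = n210260 := d15_2 (iv0 D223641) D223642 F520492
theorem F520495 : act 5 n223642 = n217311 := d17_7 D187150 F369246 F290942 (iv5 F367619) D217031 F487055 D223642 (iv0 D217311) (iv4 D187151)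
theorem F520496 : act 4 n223642 = n212630 := d17_9 F466785 (iv5 D159727) D159724 D214529 F475647 (iv5 F491352) F491349 F487055 D223642
theorem F520497 : act 3 n222848 = n223642 := d19_19 (iv1 D223642) (iv5 F487055) (iv4 D217031) (iv3 F367621) (iv1 D98394) (iv5 D46029) F34494 (iv3 F51893) D70663 D150139 (iv4 F339709) (iv3 F426625) F426629 F339612 (iv4 F314939) F83731 D114539 D201456 D222848
def n223643 : Q := act 2 n204237
theorem D223643 : act 2 n204237 = n223643 := rfl
theorem F520498 : act 3 n223643 = n213853 := d0_2 D204237 D223643 F472401 F360096 (iv2 F301759)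
theorem F520499 : act 4 n223643 = n219356 := d1_2 (iv4 F504750) D223643 (iv2 F504752)
theorem F520500 : act 5 n223643 = n213852 := d2_2 (iv5 F482152) D223643 (iv2 F482153)
theorem F520501 : act 7 n223643 = n213210 := d4_2 (iv7 F431613) D223643 (iv2 F472396)
theorem F520502 : act 1 n223643 = n213056 := d15_0 (iv0 F471199) (iv7 F431613) D223643
theorem F520503 : act 1 n213211 = n223643 := d15_0 F520502 (iv7 F518161) F518159
def n223644 : Q := act 6 n204252
theorem D223644 : act 6 n204252 = n223644 := rfl
theorem F520504 : act 2 n223644 = n216548 := d3_1 D223644 (iv6 F500818) F500812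
theorem F520505 : act 3 n223644 = n204254 := d7_1 D223644 (iv6 D204254) (iv3 F431681)
theorem F520506 : act 4 n223644 = n215362 := d10_1 D223644 (iv6 D215362) (iv4 F431682)
theorem F520507 : act 7 n223644 = n216547 := d14_2 F480358 D223644 F484891 F460470 (iv6 F480357)
theorem F520508 : act 0 n223644 = n212916 := d21_4 (iv5 D124682) (iv1 F235761) D204252 D223644 (iv6 D212916) F354449 F159079 D189907 F434135 (iv1 D204912)
theorem F520509 : act 1 n223644 = n216549 := d15_1 (iv0 F520508) (iv7 D216549) (iv2 F468105)
def n223645 : Q := act 3 n204282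
theorem D223645 : act 3 n204282 = n223645 := rfl
theorem F520510 : act 2 n223645 = n213166 := d0_1 D223645 F485486 F485482 (iv3 D212734) (iv2 F431843)
theorem F520511 : act 4 n223645 = n210273 := d5_2 D204282 D223645 F456827 (iv4 D153939) (iv3 F197754)
theorem F520512 : act 5 n223645 = n215922 := d6_2 (iv5 F431845) D223645 F482103
theorem F520513 : act 6 n223645 = n210272 := d7_2 F517864 D223645 F517866
theorem F520514 : act 7 n223645 = n212735 := d8_2 (iv7 F431844) D223645 (iv3 D212735)
def n223646 : Q := act 4 n204284
theorem D223646 : act 4 n204284 = n223646 := rfl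
theorem F520515 : act 2 n223646 = n207798 := d1_1 D223646 F446492 (iv2 F431851)
theorem F520516 : act 3 n223646 = n207848 := d5_1 D223646 (iv4 F474662) F474661 F374896 D204284
theorem F520517 : act 5 n223646 = n206852 := d9_2 F431855 D223646 F442414 F410537 (iv4 F428399) (iv5 D203457) (iv4 F387287) (iv5 F434205) (iv4 F516803) F516804 F442417 (iv5 F426962) F426961 F187518 (iv4 F387293)
theorem F520518 : act 6 n223646 = n219508 := d10_2 F456188 D223646 (iv4 D219508)
theorem F520519 : act 7 n223646 = n207799 := d11_2 (iv7 F431852) D223646 F446494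
theorem F520520 : act 0 n223646 = n207801 := d17_0 (iv5 F502263) F502265 (iv5 F421591) F396560 F285124 F233027 D186689 (iv0 F431853) D223646
theorem F520521 : act 1 n223646 = n206789 := d18_6 (iv1 F428391) F209469 (iv1 F187517) (iv4 F387293) F431855 D223646 F442191 D220312 F503139
def n223647 : Q := act 5 n204298
theorem D223647 : act 5 n204298 = n223647 := rfl
theorem F520522 : act 2 n223647 = n221532 := d2_1 D223647 F509459 (iv2 F431930)
theorem F520523 : act 3 n223647 = n204299 := d6_1 D223647 (iv5 D204299) (iv3 F431931)
theorem F520524 : act 4 n223647 = n210901 := d9_1 D223647 (iv5 D210901) F391473 (iv5 D193942) (iv4 F405136) D220411 F503654 (iv5 F464436) F464435 (iv5 F474114) F474113 (iv5 D193945) (iv4 F431686) F431687 (iv4 F431932)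
theorem F520525 : act 6 n223647 = n221399 := d12_2 D204298 D223647 (iv5 D221399) F431929 (iv5 D204297)
theorem F520526 : act 7 n223647 = n204826 := d13_2 (iv7 F431933) D223647 (iv5 D204826)
theorem F520527 : act 0 n223647 = n214183 := d17_2 (iv1 F433725) D223647 (iv5 F479071) F479070 (iv5 D193939) D193938 (iv5 F394663) (iv0 F479795) F479792
theorem F520528 : act 1 n223647 = n220105 := d17_6 (iv1 F474428) (iv5 F500211) F500214 F431687 (iv4 F431932) D223647 F502147 (iv0 F474277) (iv4 F474424)
def n223648 : Q := act 4 n204313
theorem D223648 : act 4 n204313 = n223648 := rfl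
theorem F520529 : act 2 n223648 = n223050 := d1_1 D223648 F517433 F465318
theorem F520530 : act 3 n223648 = n219448 := d5_1 D223648 (iv4 D219448) F383580 (iv4 F468018) F468016
theorem F520531 : act 5 n223648 = n221494 := d9_2 D204313 D223648 F509289 F438309 F305947 (iv5 D73967) (iv4 F110738) D155512 D213761 (iv5 F517440) F517439 F437996 (iv4 F426170) (iv5 D202911) F310207
theorem F520532 : act 6 n223648 = n204316 := d10_2 (iv6 F432007) D223648 (iv4 D204316)
theorem F520533 : act 0 n223648 = n223118 := d17_0 (iv5 D223118) (iv1 D202213) D202214 (iv4 F426822) (iv5 F426821) (iv0 F426820) (iv5 F392028) (iv0 F432589) D223648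
theorem F520534 : act 1 n223648 = n223042 := d18_6 (iv1 F426156) F230292 (iv1 F183468) F310207 D204313 D223648 F517395 (iv0 F504770) F491132
def n223649 : Q := act 4 n204315
theorem D223649 : act 4 n204315 = n223649 := rfl
theorem F520535 : act 2 n223649 = n204604 := d1_1 D223649 (iv4 D204604) F432011
theorem F520536 : act 3 n223649 = n216606 := d5_1 D223649 F485151 (iv3 D194102) F388034 (iv3 F432010)
def n223650 : Q := act 6 n204315
theorem D223650 : act 6 n204315 = n223650 := rfl
theorem F520537 : act 2 n223650 = n204605 := d3_1 D223650 (iv6 D204605) F432011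
theorem F520538 : act 3 n223650 = n220066 := d7_1 D223650 F501943 (iv3 F432010)
theorem F520539 : act 5 n223650 = n210421 := d12_1 D223650 F457463 (iv5 D192852) D192853 (iv5 F432009)
theorem F520540 : act 7 n222369 = n223650 := d13_0 F520539 F457464 D222369
def n223651 : Q := act 1 n204316
theorem D223651 : act 1 n204316 = n223651 := rfl
theorem F520541 : act 4 n223651 = n212727 := d18_7 (iv1 F310394) (iv4 F312607) (iv1 F361519) F197932 D123511 D204316 D223651 F467283 (iv5 D154557)
def n223652 : Q := act 6 n204320
theorem D223652 : act 6 n204320 = n223652 := rfl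
theorem F520542 : act 2 n223652 = n204335 := d3_1 D223652 (iv6 D204335) (iv2 F432026)
theorem F520543 : act 3 n223652 = n211300 := d7_1 D223652 F461025 F460376
theorem F520544 : act 5 n223652 = n223613 := d12_1 D223652 (iv6 D223613) F431032 (iv6 F428388) D204320
theorem F520545 : act 7 n223652 = n211250 := d14_2 (iv7 F432027) D223652 F460812 F425038 (iv6 F424324)
theorem F520546 : act 0 n223652 = n211252 := d21_4 (iv5 D123524) D123522 D204320 D223652 F460817 F349225 (iv1 D99516) D99517 (iv6 F385211) F385213
theorem F520547 : act 0 n211249 = n223652 := d21_4 (iv5 D210233) D210230 F456657 D211249 (iv6 D223652) (iv5 D204320) (iv1 F197946) (iv5 F197972) D204345 (iv1 F456675)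
def n223653 : Q := act 3 n204334
theorem D223653 : act 3 n204334 = n223653 := rfl
theorem F520548 : act 2 n223653 = n220353 := d0_1 D223653 F503343 (iv2 F407841) F500900 F500903
theorem F520549 : act 4 n223653 = n220351 := d5_2 D204334 D223653 F503333 F456216 F432072
theorem F520550 : act 5 n223653 = n221128 := d6_2 F512385 D223653 (iv3 F512383)
theorem F520551 : act 6 n223653 = n213350 := d7_2 F501154 D223653 (iv3 F501153)
theorem F520552 : act 7 n223653 = n220350 := d8_2 F500905 D223653 F503329
theorem F520553 : act 0 n223653 = n220573 := d19_4 D57577 D123542 D204334 D223653 (iv5 F507227) F507226 F438495 D205940 F438498 F219618 F161301 F49007 (iv5 D24667) (iv4 F324188) (iv3 F56018) (iv1 F326968) F326972 F42966 (iv3 F44418)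
theorem F520554 : act 1 n223653 = n220578 := d15_1 (iv0 F520553) (iv7 D220578) (iv2 F504422)
def n223654 : Q := act 6 n204343
theorem D223654 : act 6 n204343 = n223654 := rfl
theorem F520555 : act 3 n223654 = n221122 := d7_1 D223654 (iv6 D221122) (iv3 F432118)
theorem F520556 : act 4 n223654 = n221675 := d10_1 D223654 F510234 (iv4 F432119)
theorem F520557 : act 5 n223654 = n221583 := d12_1 D223654 F509709 F403973 F365422 D204343
theorem F520558 : act 7 n223654 = n221543 := d14_2 (iv7 F507566) D223654 (iv6 D221543) F438766 D221172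
theorem F520559 : act 0 n222005 = n223654 := d21_4 F496306 F427463 F453221 (iv6 F511865) (iv6 D223654) (iv5 D204343) D204341 (iv5 F463553) F463551 (iv1 F496308)
def n223655 : Q := act 1 n204345
theorem D223655 : act 1 n204345 = n223655 := rfl
theorem F520560 : act 1 n223655 = n208722 := d15_1 D223655 F450575 (iv2 F432125)
theorem F520561 : act 7 n223655 = n208721 := d15_2 F456675 D223655 (iv2 F456672)
theorem F520562 : act 5 n223655 = n212318 := d17_7 (iv1 D210278) D210279 F456844 (iv5 F441884) (iv4 F450047) F450048 D223655 (iv0 F465288) (iv4 F456839)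
theorem F520563 : act 3 n204977 = n223655 := d19_19 (iv1 D223655) (iv5 F450048) F450047 F441883 (iv1 F207355) (iv5 F406529) (iv4 F511551) F511550 F407428 (iv5 F366062) (iv4 F320724) F320723 F318602 (iv5 F105482) D69189 (iv3 F162442) F162444 (iv5 F317208) D204977
theorem F520564 : act 6 n213768 = n223655 := d21_3 (iv5 F503262) F503265 (iv5 F472010) (iv1 D223655) (iv6 D204345) F197972 (iv1 F197943) D204322 F432039 (iv1 F424317)
theorem F520565 : act 2 n223655 = n208720 := d3_1 F520564 F462701 (iv2 F472009)
def n223656 : Q := act 0 n204355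
theorem D223656 : act 0 n204355 = n223656 := rfl
theorem F520566 : act 5 n223656 = n207357 := d17_3 (iv1 F365363) D204355 D223656 F444504 (iv5 D174722) (iv0 F331918) D153953 F371171 F371169
theorem F520567 : act 4 n223656 = n221302 := d18_1 D223656 F508256 (iv4 F489480) F489483 (iv4 F374911) F470692 F470688 F374742 D204355
theorem F520568 : act 6 n223656 = n213132 := d21_5 (iv5 F161593) F356461 D201667 (iv6 F432186) D223656 (iv5 F469133) (iv1 F376919) F372236 F251147 (iv1 F251148)
theorem F520569 : act 2 n221597 = n223656 := d15_3 (iv0 D223656) (iv0 F501892) (iv7 F509785)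
theorem F520570 : act 1 n217629 = n223656 := d15_0 (iv0 D223656) (iv7 F451797) (iv2 F489856)
theorem F520571 : act 7 n223656 = n207356 := d15_2 (iv0 F501893) F520570 (iv2 F501888)
theorem F520572 : act 3 n207363 = n223656 := d8_3 F520571 F444499 D207363
def n223657 : Q := act 4 n204355
theorem D223657 : act 4 n204355 = n223657 := rfl
theorem F520573 : act 2 n223657 = n215613 := d1_1 D223657 F480767 (iv2 F432184)
theorem F520574 : act 3 n223657 = n211040 := d5_1 D223657 F459850 (iv3 F444035) (iv4 D207262) (iv3 F432185)
theorem F520575 : act 5 n223657 = n213313 := d9_2 D204355 D223657 F469861 F344762 (iv4 F331913) D193334 (iv4 F389491) D217629 (iv4 F490783) F490784 (iv4 D204350) (iv5 D123601) F90760 D57619 D123621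
theorem F520576 : act 6 n223657 = n222079 := d10_2 (iv6 F432186) D223657 F512251
theorem F520577 : act 7 n223657 = n211053 := d11_2 F451797 D223657 (iv4 F459913)
def n223658 : Q := act 5 n204356
theorem D223658 : act 5 n204356 = n223658 := rfl
theorem F520578 : act 2 n223658 = n211545 := d2_1 D223658 F462060 (iv2 F432187)
theorem F520579 : act 3 n223658 = n206483 := d6_1 D223658 (iv5 D206483) (iv3 F432188)
theorem F520580 : act 4 n223658 = n204927 := d9_1 D223658 (iv5 D204927) (iv4 D124729) F190134 (iv4 F240098) F240099 D204365 F432231 (iv4 D201522) (iv5 D114758) F190164 (iv5 F108593) (iv4 F240122) F240123 D204356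
theorem F520581 : act 6 n223658 = n207117 := d12_2 (iv6 F432189) D223658 (iv5 D207117) F394694 (iv5 F394695)
theorem F520582 : act 7 n223658 = n213518 := d13_2 (iv7 F432190) D223658 (iv5 D213518)
theorem F520583 : act 0 n223658 = n216399 := d17_2 (iv1 F432192) D223658 (iv5 D216399) (iv4 D183457) (iv5 F134768) (iv0 F311650) F241545 (iv0 D124723) D124725
theorem F520584 : act 1 n223658 = n216398 := d17_6 D101272 F306915 F240124 F240123 D204356 D223658 (iv5 D216398) (iv0 F360826) (iv4 D101274)
def n223659 : Q := act 5 n204371
theorem D223659 : act 5 n204371 = n223659 := rfl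
theorem F520585 : act 3 n223659 = n204372 := d6_1 D223659 (iv5 D204372) D204371
theorem F520586 : act 7 n223659 = n204966 := d13_2 F432262 D223659 F434385
theorem F520587 : act 0 n223659 = n209354 := d17_2 F467920 D223659 F453368 F439741 F248592 F164406 (iv5 F398960) F398964 D212878
theorem F520588 : act 1 n223659 = n209353 := d17_6 (iv1 F399026) (iv5 D196001) (iv1 F164446) (iv5 F399629) (iv4 F432260) D223659 F453367 (iv0 F463403) F463402
def n223660 : Q := act 6 n204372
theorem D223660 : act 6 n204372 = n223660 := rfl
theorem F520589 : act 2 n223660 = n204419 := d3_1 D223660 (iv6 D204419) (iv2 F432263)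
theorem F520590 : act 4 n223660 = n204971 := d10_1 D223660 (iv6 D204971) (iv4 F432264)
theorem F520591 : act 0 n223660 = n220878 := d21_4 F457266 F394196 D204372 D223660 F506031 F406858 F202212 (iv5 F405547) (iv6 F412644) (iv1 F457270)
theorem F520592 : act 0 n220877 = n223660 := d21_4 F354462 (iv1 F172721) D199411 (iv6 F506026) (iv6 D223660) (iv5 D204372) (iv1 F338876) (iv5 F350380) (iv6 D111405) D111402
theorem F520593 : act 7 n223660 = n222376 := d15_2 (iv0 F506033) (iv0 F520591) (iv2 F513875)
def n223661 : Q := act 3 n204380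
theorem D223661 : act 3 n204380 = n223661 := rfl
theorem F520594 : act 2 n223661 = n210681 := d0_1 D223661 F458431 (iv2 F424431) F424432 (iv2 F432305)
theorem F520595 : act 5 n223661 = n210677 := d6_2 F438515 D223661 F458426
theorem F520596 : act 6 n223661 = n214233 := d7_2 (iv6 F432306) D223661 (iv3 D214233)
theorem F520597 : act 7 n223661 = n216247 := d8_2 (iv7 F432307) D223661 F483471
def n223662 : Q := act 1 n204391
theorem D223662 : act 1 n204391 = n223662 := rfl
theorem F520598 : act 1 n223662 = n204395 := d15_1 D223662 (iv7 F502973) F502969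
theorem F520599 : act 7 n223662 = n221952 := d15_2 (iv0 F505870) D223662 F511576
theorem F520600 : act 5 n223662 = n211370 := d17_7 (iv1 D218920) F392491 (iv1 D194249) (iv5 F369611) (iv4 F488611) F488612 D223662 F491899 (iv4 F496201)
theorem F520601 : act 3 n222079 = n223662 := d19_19 (iv1 D223662) (iv5 F488612) F488611 (iv3 F488602) F488604 F463180 (iv4 F463143) F463142 (iv1 F403913) D221068 F507078 F500784 (iv1 D204103) (iv5 D122676) F90066 (iv3 F161591) F356461 D201667 (iv4 F512251)
theorem F520602 : act 6 n211040 = n223662 := d21_3 (iv5 D153458) D153455 (iv5 F459849) (iv1 D223662) (iv6 F432360) F407609 D220219 F502712 F469880 (iv1 D213316)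
theorem F520603 : act 2 n223662 = n211052 := d3_1 F520602 (iv6 D211052) F459852
def n223663 : Q := act 0 n204394
theorem D223663 : act 0 n204394 = n223663 := rfl
theorem F520604 : act 5 n223663 = n211639 := d17_3 (iv1 F355762) D204394 D223663 F462483 F371141 (iv0 D187664) (iv5 F142430) (iv0 F374071) F374072
theorem F520605 : act 3 n223663 = n211643 := d20_5 (iv4 F505866) F505869 (iv4 D204395) (iv3 F432374) D223663 F462492 (iv1 F384412) (iv4 F471970) F471969 (iv1 F470779)
theorem F520606 : act 2 n212630 = n223663 := d15_3 (iv0 D223663) (iv0 F502529) (iv7 F502531)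
theorem F520607 : act 1 n210477 = n223663 := d15_0 (iv0 D223663) F432375 (iv2 F457698)
theorem F520608 : act 7 n223663 = n214530 := d15_2 (iv0 F502530) F520607 (iv2 F502525)
def n223664 : Q := act 4 n204394
theorem D223664 : act 4 n204394 = n223664 := rfl
theorem F520609 : act 2 n223664 = n214537 := d1_1 D223664 (iv4 D214537) (iv2 F432373)
theorem F520610 : act 3 n223664 = n218029 := d5_1 D223664 F491778 F432378 (iv4 D204395) (iv3 F432374)
theorem F520611 : act 5 n223664 = n217032 := d9_2 D204394 D223664 (iv4 F499392) F499391 (iv4 D214518) (iv5 D159697) D159696 (iv5 F457701) F457700 (iv5 F483373) (iv4 F484304) (iv5 D216421) F285527 (iv5 D159701) (iv4 F354948)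
theorem F520612 : act 6 n223664 = n218028 := d10_2 F491904 D223664 (iv4 F491902)
theorem F520613 : act 7 n223664 = n214531 := d11_2 (iv7 F432375) D223664 (iv4 D214531)
theorem F520614 : act 1 n223664 = n220185 := d18_6 F251583 F114560 (iv1 F114544) (iv4 F354948) D204394 D223664 F502533 (iv0 F475554) (iv5 D214512)
def n223665 : Q := act 2 n204398
theorem D223665 : act 2 n204398 = n223665 := rfl
theorem F520615 : act 3 n223665 = n220977 := d0_2 D204398 D223665 F506598 (iv3 F432256) F432255
theorem F520616 : act 4 n223665 = n204495 := d1_2 (iv4 F432392) D223665 (iv2 D204495)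
theorem F520617 : act 6 n223665 = n204413 := d3_2 (iv6 F432393) D223665 (iv2 D204413)
theorem F520618 : act 7 n220975 = n223665 := d15_2 (iv0 F432394) (iv0 F506593) (iv2 D223665)
theorem F520619 : act 1 n206352 = n223665 := d17_8 F466506 F466505 (iv1 D212202) D212203 (iv4 F464731) (iv5 F497664) F497659 F477548 F520616
theorem F520620 : act 0 n219194 = n223665 := d18_0 F520616 F466506 (iv4 F467856) (iv5 F496233) F496232 F381939 (iv4 F497654) (iv0 D219192) D219194
def n223666 : Q := act 7 n204398
theorem D223666 : act 7 n204398 = n223666 := rfl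
theorem F520621 : act 2 n223666 = n220975 := d4_1 D223666 F520618 (iv2 D223665)
theorem F520622 : act 3 n223666 = n204400 := d8_1 D223666 (iv7 D204400) D204398
theorem F520623 : act 4 n223666 = n204496 := d11_1 D223666 (iv7 D204496) (iv4 F432392)
theorem F520624 : act 6 n223666 = n220979 := d14_1 D223666 F506613 (iv6 F467936) (iv7 D204415) (iv6 F432393)
theorem F520625 : act 1 n219194 = n223666 := d15_1 (iv0 F520620) (iv7 D223666) D223665
theorem F520626 : act 1 n223666 = n206352 := d15_1 F520625 F440372 (iv2 F497666)
def n223667 : Q := act 6 n204399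
theorem D223667 : act 6 n204399 = n223667 := rfl
theorem F520627 : act 4 n223667 = n216825 := d10_1 D223667 (iv6 F492061) F488622
theorem F520628 : act 5 n223667 = n204419 := d12_1 D223667 (iv6 D204419) (iv5 D123772) (iv6 F198207) D204399
def n223668 : Q := act 1 n204402
theorem D223668 : act 1 n204402 = n223668 := rfl
theorem F520629 : act 1 n223668 = n223664 := d15_1 D223668 F520613 F475654
theorem F520630 : act 3 n207251 = n223668 := d19_19 (iv1 D223668) (iv5 F483373) (iv4 F484304) F484302 F285533 (iv5 D88593) F63691 F63690 D41347 D88596 D185993 D216860 F486271 F482623 (iv4 F443962) (iv3 D207249) (iv1 D130647) D130648 D207251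
theorem F520631 : act 6 n212630 = n223668 := d21_3 (iv5 F368492) F374092 D212630 (iv1 D223668) (iv6 D204402) (iv5 D123750) (iv1 F311848) (iv5 F342018) F387710 (iv1 D192771)
theorem F520632 : act 5 n213414 = n223668 := d21_6 F468489 F340972 (iv5 F388113) (iv6 F427930) D223428 (iv6 F519405) (iv1 D223668) (iv5 F483373) F483374 (iv1 F468487)
def n223669 : Q := act 4 n204411
theorem D223669 : act 4 n204411 = n223669 := rfl
theorem F520633 : act 2 n223669 = n204414 := d1_1 D223669 (iv4 F479115) F479113
theorem F520634 : act 6 n223669 = n222376 := d10_2 F479108 D223669 F513874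
theorem F520635 : act 7 n223669 = n204967 := d11_2 (iv7 F467949) D223669 F434386
theorem F520636 : act 5 n223669 = n204413 := d16_1 D223669 F432439 D204579 F470470 (iv5 D213453) F241641 (iv5 F467953) (iv7 F479117) F479113
def n223670 : Q := act 4 n204412
theorem D223670 : act 4 n204412 = n223670 := rfl
theorem F520637 : act 2 n223670 = n204967 := d1_1 D223670 F434386 (iv2 F467952)
theorem F520638 : act 3 n223670 = n204420 := d5_1 D223670 F432461 (iv3 F434223) (iv4 F479121) F479120
theorem F520639 : act 5 n223670 = n204415 := d9_2 (iv5 F467953) D223670 F432442 F366869 D216017 (iv5 F482559) F451312 (iv5 F467948) D223669 F520636 F432439 D204579 F470470 (iv5 D213453) F241641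
theorem F520640 : act 6 n223670 = n204420 := d10_2 (iv6 F467954) D223670 F432461
theorem F520641 : act 7 n223670 = n204414 := d11_2 F479117 D223670 (iv4 F479115)
def n223671 : Q := act 0 n204414
theorem D223671 : act 0 n204414 = n223671 := rfl
theorem F520642 : act 5 n223671 = n222421 := d19_1 D223671 F514126 (iv3 F514119) F514122 (iv5 F467919) (iv4 D212878) F467877 (iv1 F467875) F451833 (iv4 D201395) D201394 (iv1 F420316) F340015 (iv4 F314696) (iv3 D124867) (iv1 F200396) (iv5 F432452) (iv4 D204418) (iv3 F432440)
theorem F520643 : act 4 n223671 = n223543 := d20_2 F479115 D223671 F520021 F451330 (iv3 F450288) F450289 (iv1 F399625) (iv4 F467962) F467961 (iv1 F479119)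
theorem F520644 : act 3 n223671 = n204558 := d20_5 F432408 (iv1 F432454) (iv4 D204418) (iv3 F432440) D223671 (iv4 F434128) (iv1 F365166) D208596 F450064 F432410
theorem F520645 : act 1 n204967 = n223671 := d15_0 (iv0 D223671) (iv7 F520641) F520637
theorem F520646 : act 6 n213720 = n223671 := d21_3 F440016 (iv1 F389469) (iv5 F471782) (iv1 F520645) (iv6 D204967) (iv5 F432269) (iv1 F432271) (iv5 F338866) (iv6 F384916) F440018
def n223672 : Q := act 1 n204414
theorem D223672 : act 1 n204414 = n223672 := rfl
theorem F520647 : act 1 n223672 = n204967 := d15_1 D223672 (iv7 F520635) F520633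
theorem F520648 : act 5 n223672 = n223422 := d17_7 F471583 (iv5 D213453) F432943 (iv5 D124018) (iv4 F198250) D204414 D223672 (iv0 D223422) (iv4 F471581)
theorem F520649 : act 4 n223672 = n223544 := d17_9 (iv1 D223544) F430707 F482560 (iv5 F482559) F451312 (iv5 F467948) (iv0 D204411) D204414 D223672
theorem F520650 : act 3 n204561 = n223672 := d19_19 (iv1 D223672) (iv5 D204414) F198250 (iv3 D57774) D57772 (iv5 F192030) (iv4 D120543) (iv3 F192028) F305538 (iv5 D69966) (iv4 F51829) (iv3 F60242) F232469 D39338 D85065 (iv3 F314470) (iv1 F445861) F445863 (iv4 F449000)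
theorem F520651 : act 6 n213724 = n223672 := d21_9 (iv5 D204414) D204411 F467948 (iv6 F466567) (iv1 F466568) (iv6 F410685) (iv5 D199104) (iv1 F393951) F471802 (iv1 D223672)
def n223673 : Q := act 0 n204419
theorem D223673 : act 0 n204419 = n223673 := rfl
theorem F520652 : act 5 n223673 = n219167 := d17_1 D223673 F497535 D219178 F497582 (iv5 D215249) F430657 F430654 (iv0 F430686) (iv4 F432458)
theorem F520653 : act 4 n223673 = n214132 := d18_3 F508875 (iv4 F432458) D223673 F473628 F407336 (iv0 D166575) (iv4 F195590) D203974 (iv5 F508873)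
theorem F520654 : act 3 n223673 = n217129 := d20_5 F413302 (iv1 F430672) D215265 F479110 D223673 (iv4 D217129) (iv1 F368136) (iv4 F450748) (iv3 F473623) F473626
theorem F520655 : act 6 n223673 = n221941 := d21_5 F338866 (iv1 D123770) D123772 D204419 D223673 F511521 (iv1 F409228) D200044 F479185 (iv1 D215278)
theorem F520656 : act 2 n220878 = n223673 := d15_3 (iv0 D223673) (iv0 F432459) (iv7 F506032)
theorem F520657 : act 1 n222376 = n223673 := d15_0 (iv0 D223673) (iv7 F479111) F513875
theorem F520658 : act 7 n223673 = n220877 := d15_2 D222376 F520657 F506024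
def n223674 : Q := act 6 n204437
theorem D223674 : act 6 n204437 = n223674 := rfl
theorem F520659 : act 2 n223674 = n223228 := d3_1 D223674 F518316 F432533
theorem F520660 : act 3 n223674 = n223561 := d7_1 D223674 (iv6 F520184) F520183
theorem F520661 : act 4 n223674 = n211222 := d10_1 D223674 (iv6 F460676) (iv4 F432531)
theorem F520662 : act 5 n223674 = n223574 := d12_1 D223674 (iv6 D223574) (iv5 F430863) (iv6 F430865) (iv5 F432530)
theorem F520663 : act 0 n223674 = n223221 := d21_4 (iv5 F483367) (iv1 D216205) (iv5 F432530) D223674 F518281 D223229 F518321 (iv5 F449167) (iv6 F431148) F449137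
def n223675 : Q := act 3 n204438
theorem D223675 : act 3 n204438 = n223675 := rfl
theorem F520664 : act 4 n223675 = n223222 := d5_2 (iv4 F432537) D223675 F518283 F487905 F429536
theorem F520665 : act 7 n223675 = n223221 := d8_2 (iv7 F432536) D223675 F518280
theorem F520666 : act 0 n223675 = n223228 := d20_4 F431186 (iv1 F429531) (iv4 F432537) D223675 (iv3 D223228) (iv4 D202526) (iv1 F362323) (iv4 F430851) F519777 (iv1 F519776)
def n223676 : Q := act 6 n204455
theorem D223676 : act 6 n204455 = n223676 := rfl
theorem F520667 : act 2 n223676 = n216636 := d3_1 D223676 F485286 F432743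
theorem F520668 : act 3 n223676 = n216773 := d7_1 D223676 (iv6 D216773) (iv3 F432591)
theorem F520669 : act 4 n223676 = n204456 := d10_1 D223676 (iv6 D204456) D204455
theorem F520670 : act 5 n223676 = n214779 := d12_1 D223676 (iv6 D214779) (iv5 F423962) F423963 (iv5 F432592)
theorem F520671 : act 0 n223676 = n220631 := d21_4 (iv5 D202140) F422643 (iv5 F432592) D223676 F504714 (iv5 D203612) F366540 D156148 F432730 F432728
theorem F520672 : act 0 n215792 = n223676 := d21_4 D216575 F485019 (iv5 D215791) D215792 (iv6 D223676) F432592 (iv1 F472759) F481639 (iv6 D215804) F367270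
theorem F520673 : act 7 n216639 = n223676 := d13_0 F520670 (iv7 F517730) F517726
def n223677 : Q := act 3 n204458
theorem D223677 : act 3 n204458 = n223677 := rfl
theorem F520674 : act 2 n223677 = n216769 := d0_1 D223677 (iv3 D216769) (iv2 F359515) (iv3 F432747) F432746
theorem F520675 : act 5 n223677 = n222950 := d6_2 (iv5 F432601) D223677 F516944
theorem F520676 : act 7 n223677 = n223021 := d8_2 F432744 D223677 F517290
theorem F520677 : act 0 n223677 = n209897 := d19_4 F363293 F253206 D204458 D223677 (iv5 D209897) (iv4 F472240) F510740 (iv1 D221765) D221766 (iv4 F510745) F455981 F352101 (iv5 D134550) F98473 (iv3 F98469) D134530 F359718 (iv4 D185248) (iv3 F287538)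
theorem F520678 : act 0 n209893 = n223677 := d20_4 (iv4 F517497) (iv1 D223065) (iv4 F509301) F509304 (iv3 D223677) (iv4 D204458) (iv1 D123833) D123834 (iv3 F472448) (iv1 F517062)
theorem F520679 : act 6 n223677 = n220699 := d21_5 F459149 (iv1 F452782) (iv5 F472981) (iv6 F472983) F520678 (iv5 D220699) (iv1 F422856) D223057 F517465 (iv1 F459152)
def n223678 : Q := act 6 n204458
theorem D223678 : act 6 n204458 = n223678 := rfl
theorem F520680 : act 3 n223678 = n220699 := d7_1 D223678 (iv6 F520679) (iv3 D223677)
theorem F520681 : act 4 n223678 = n204459 := d10_1 D223678 (iv6 D204459) D204458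
theorem F520682 : act 5 n223678 = n209671 := d12_1 D223678 (iv6 D209671) (iv5 F424769) F424772 (iv5 F432601)
theorem F520683 : act 0 n223015 = n223678 := d21_4 (iv5 F406578) (iv1 F406579) D202026 (iv6 F517261) (iv6 D223678) F432601 (iv1 D202139) D202140 F423022 (iv1 F222595)
def n223679 : Q := act 7 n204459
theorem D223679 : act 7 n204459 = n223679 := rfl
theorem F520684 : act 2 n223679 = n216641 := d4_1 D223679 F485307 F432751
theorem F520685 : act 3 n223679 = n223446 := d8_1 D223679 F519498 F519483
theorem F520686 : act 6 n223679 = n216445 := d14_1 D223679 F484407 F411839 F370315 D204459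
theorem F520687 : act 1 n222024 = n223679 := d15_1 (iv0 F511964) (iv7 D223679) (iv2 F432751)
theorem F520688 : act 1 n223679 = n208865 := d15_1 F520687 (iv7 F457986) (iv2 F511959)
def n223680 : Q := act 3 n204460
theorem D223680 : act 3 n204460 = n223680 := rfl
theorem F520689 : act 2 n223680 = n222991 := d0_1 D223680 F517150 (iv2 F430919) F432755 F432757
theorem F520690 : act 4 n223680 = n223161 := d5_2 (iv4 F432603) D223680 F517947 (iv4 F485709) F485708
theorem F520691 : act 5 n223680 = n222987 := d6_2 F514873 D223680 F517132
theorem F520692 : act 7 n223680 = n222993 := d8_2 F432759 D223680 F517161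
theorem F520693 : act 0 n223680 = n213963 := d20_4 (iv4 D204123) D204121 (iv4 F432603) D223680 F472901 F340571 (iv1 F285722) F359514 (iv3 F432747) F432750
def n223681 : Q := act 6 n204463
theorem D223681 : act 6 n204463 = n223681 := rfl
theorem F520694 : act 3 n223681 = n214067 := d7_1 D223681 (iv6 F473317) F472447
theorem F520695 : act 4 n223681 = n211072 := d10_1 D223681 F459991 (iv4 F432609)
theorem F520696 : act 5 n223681 = n223602 := d12_1 D223681 (iv6 D223602) (iv5 D204057) (iv6 F198295) D204463
theorem F520697 : act 7 n223681 = n223162 := d14_2 F481984 D223681 (iv6 D223162) (iv7 F508235) F508234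
theorem F520698 : act 0 n214609 = n223681 := d21_4 F433545 F304501 D160336 D214609 (iv6 D223681) (iv5 D204463) D204460 (iv5 F514873) F514875 (iv1 F512236)
def n223682 : Q := act 1 n204468
theorem D223682 : act 1 n204468 = n223682 := rfl
theorem F520699 : act 1 n223682 = n209434 := d15_1 D223682 F453696 F453509
theorem F520700 : act 7 n223682 = n210468 := d15_2 (iv0 F432630) D223682 F457667
theorem F520701 : act 5 n223682 = n209431 := d17_7 (iv1 D126770) (iv5 F176183) (iv1 D113090) (iv5 F167073) D197265 (iv5 F432628) D223682 (iv0 F453677) F219587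
theorem F520702 : act 4 n223682 = n217533 := d18_7 F410022 F410019 (iv1 F178459) (iv4 F238579) (iv5 F454046) F454047 D223682 (iv0 F489349) F420507
theorem F520703 : act 3 n208771 = n223682 := d19_19 (iv1 D223682) F432628 (iv4 D197265) F167074 F82525 (iv5 D49909) (iv4 D24339) (iv3 F38131) (iv1 F46395) (iv5 D28758) F22963 (iv3 F24194) D30710 F49149 (iv4 F46412) D29984 D63479 D135060 D208771
theorem F520704 : act 2 n223682 = n210471 := d0_1 F520703 F457676 F222291 (iv3 F222337) (iv2 F450793)
theorem F520705 : act 6 n223682 = n217532 := d7_2 (iv6 F502390) F520703 F502388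
def n223683 : Q := act 6 n204470
theorem D223683 : act 6 n204470 = n223683 := rfl
theorem F520706 : act 2 n223683 = n223440 := d3_1 D223683 F519470 (iv2 F433184)
theorem F520707 : act 4 n223683 = n204471 := d10_1 D223683 (iv6 D204471) D204470
theorem F520708 : act 5 n223683 = n221475 := d12_1 D223683 (iv6 D221475) (iv5 F472506) (iv6 F481988) F481987
theorem F520709 : act 7 n223683 = n208854 := d14_2 F449619 D223683 F451125 F217387 (iv6 F449618)
theorem F520710 : act 0 n223683 = n221529 := d21_4 D204463 (iv1 F481989) F481987 D223683 F509447 (iv5 D203585) (iv1 F422591) D222985 F517122 (iv1 D204461)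
theorem F520711 : act 0 n220751 = n223683 := d17_0 F520708 (iv1 F509208) (iv5 F429256) F287495 D185133 F404972 (iv5 F432582) F511454 F511451
def n223684 : Q := act 3 n204474
theorem D223684 : act 3 n204474 = n223684 := rfl
theorem F520712 : act 2 n223684 = n222436 := d0_1 D223684 (iv3 F514212) (iv2 F481276) F481277 F432644
theorem F520713 : act 4 n223684 = n208711 := d5_2 (iv4 F432642) D223684 (iv3 F450529) (iv4 F491323) F491322
theorem F520714 : act 6 n223684 = n218004 := d7_2 F448711 D223684 F491642
theorem F520715 : act 7 n223684 = n222292 := d8_2 F432645 D223684 (iv3 D222292)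
theorem F520716 : act 0 n223684 = n222373 := d19_4 F431044 (iv5 F410228) (iv4 F432642) D223684 F513860 F508160 F473693 (iv1 F337998) (iv5 F231492) (iv4 D73188) D73187 (iv1 F338139) (iv5 D154241) (iv4 F197416) (iv3 F383608) (iv1 F383612) (iv5 F439492) F439491 (iv3 F431040)
theorem F520717 : act 0 n204537 = n223684 := d20_4 (iv4 F401234) (iv1 D123979) (iv4 F198392) (iv3 F432821) (iv3 D223684) F432642 (iv1 D198994) F171626 (iv3 F170523) F401232
def n223685 : Q := act 5 n204474
theorem D223685 : act 5 n204474 = n223685 := rfl
theorem F520718 : act 2 n223685 = n215727 := d2_1 D223685 F481275 F432644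
theorem F520719 : act 4 n223685 = n213924 := d9_1 D223685 F481639 F481638 (iv5 F364405) (iv4 F363021) (iv5 F410221) (iv4 F432648) (iv5 F432650) F402273 D202140 (iv4 F423023) (iv5 D138632) (iv4 F216058) (iv5 F410228) (iv4 F432642)
theorem F520720 : act 6 n223685 = n213922 := d12_2 F448711 D223685 F472752 D214662 (iv5 F476272)
theorem F520721 : act 7 n223685 = n221485 := d13_2 F432645 D223685 (iv5 F509241)
theorem F520722 : act 0 n223685 = n221397 := d17_2 D204474 D223685 F508809 (iv4 D204202) (iv5 F357149) (iv0 D134285) (iv5 F329808) (iv0 D123855) D123857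
theorem F520723 : act 1 n223685 = n204827 := d17_6 (iv1 F458278) (iv5 F431042) F431044 (iv5 F410228) (iv4 F432642) D223685 F433735 (iv0 F514103) F514100
def n223686 : Q := act 0 n204477
theorem D223686 : act 0 n204477 = n223686 := rfl
theorem F520724 : act 5 n223686 = n204486 := d17_1 D223686 (iv1 F432683) D204492 (iv4 F514874) F514873 (iv0 D204460) D204463 (iv0 F481533) F481532
theorem F520725 : act 4 n223686 = n213966 := d18_1 D223686 (iv1 D213966) F365205 (iv5 D111760) (iv4 F171626) D198994 (iv4 F432642) (iv0 D204474) D204477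
theorem F520726 : act 2 n220779 = n223686 := d15_3 (iv0 D223686) (iv0 F470375) (iv7 F505488)
theorem F520727 : act 1 n204485 = n223686 := d15_0 (iv0 D223686) F432655 (iv2 F432679)
theorem F520728 : act 7 n223686 = n222424 := d15_2 F470377 F520727 (iv2 F514147)
def n223687 : Q := act 6 n204481
theorem D223687 : act 6 n204481 = n223687 := rfl
theorem F520729 : act 2 n223687 = n204531 := d3_1 D223687 F516202 F516203
theorem F520730 : act 4 n223687 = n217969 := d10_1 D223687 F491479 F487421
theorem F520731 : act 5 n223687 = n220083 := d12_1 D223687 (iv6 D220083) F426889 (iv6 F480752) F480754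
theorem F520732 : act 7 n223687 = n204530 := d14_2 (iv7 F487413) D223687 (iv6 F432811) F372724 D217099
theorem F520733 : act 0 n223687 = n204525 := d21_4 F431462 (iv1 F480756) F480754 D223687 (iv6 D204525) (iv5 D123962) (iv1 F315060) D204158 F431250 F431465
theorem F520734 : act 1 n223687 = n204533 := d15_1 (iv0 F520733) (iv7 D204533) (iv2 F432804)
def n223688 : Q := act 0 n204484
theorem D223688 : act 0 n204484 = n223688 := rfl
theorem F520735 : act 5 n223688 = n221661 := d17_1 D223688 F510161 F464429 F454127 (iv5 D209558) (iv0 F391385) F391365 F499708 F499705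
theorem F520736 : act 3 n223688 = n204539 := d20_5 F410546 (iv1 F198317) D123874 D204484 D223688 F443983 F410563 F366921 (iv3 F364130) (iv1 F410544)
theorem F520737 : act 6 n223688 = n222292 := d21_5 F412519 (iv1 F409255) (iv5 F215911) (iv6 F432678) D223688 F513393 F509327 (iv5 F514254) (iv6 D222444) (iv1 F412941)
theorem F520738 : act 1 n208937 = n223688 := d15_0 (iv0 D223688) (iv7 F499745) F499742
theorem F520739 : act 2 n221663 = n223688 := d3_3 F520737 F513391 (iv6 F510167)
def n223689 : Q := act 1 n204484
theorem D223689 : act 1 n204484 = n223689 := rfl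
theorem F520740 : act 1 n223689 = n208937 := d15_1 D223689 (iv7 F499740) F499737
theorem F520741 : act 7 n223689 = n221663 := d15_2 (iv0 D223688) D223689 F520739
theorem F520742 : act 4 n223689 = n209456 := d17_9 (iv1 F494709) F494707 (iv1 D209721) (iv5 F450485) F514081 F514077 (iv0 F509189) F509187 D223689
theorem F520743 : act 3 n221666 = n223689 := d19_19 (iv1 D223689) (iv5 F509187) F509186 F502909 (iv1 D220259) F389323 (iv4 F482523) (iv3 F482526) F474405 (iv5 D196747) F165314 (iv3 D66567) D66565 D141980 D211429 F461498 (iv1 F495970) (iv5 F496224) (iv4 F510179)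
theorem F520744 : act 5 n221664 = n223689 := d21_0 (iv1 D223689) (iv5 F509187) (iv6 D221472) (iv1 F453991) (iv6 F460124) (iv5 D211106) F364761 (iv5 F389169) F464432 F513510
theorem F520745 : act 6 n223689 = n217984 := d21_3 (iv5 F464429) F513510 F520744 F491555 (iv6 F493161) F493160 (iv1 F388261) (iv5 F492964) (iv6 F514270) F514272
def n223690 : Q := act 3 n204486
theorem D223690 : act 3 n204486 = n223690 := rfl
theorem F520746 : act 2 n223690 = n222446 := d0_1 D223690 (iv3 F514262) (iv2 F470128) (iv3 F514099) F514098
theorem F520747 : act 4 n223690 = n223272 := d5_2 (iv4 F432681) D223690 F518561 (iv4 F501483) F501484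
theorem F520748 : act 6 n223690 = n213725 := d7_2 (iv6 F432682) D223690 F471804
theorem F520749 : act 7 n223690 = n222445 := d8_2 F432684 D223690 F514256
theorem F520750 : act 0 n223690 = n222444 := d19_4 F341512 (iv5 F431140) (iv4 F432681) D223690 F514254 F509324 (iv3 F458395) (iv1 F458392) F231511 (iv4 D73175) (iv3 F109652) D154471 F364030 (iv4 F337888) D197202 F420622 F420620 F204827 F341507
theorem F520751 : act 0 n222447 = n223690 := d20_4 (iv4 F424368) (iv1 F424370) F424359 (iv3 F514266) (iv3 D223690) F432681 (iv1 F449429) F449427 F223800 D140710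
def n223691 : Q := act 6 n204488
theorem D223691 : act 6 n204488 = n223691 := rfl
theorem F520752 : act 2 n223691 = n204491 := d3_1 D223691 (iv6 D204491) D204488
theorem F520753 : act 3 n223691 = n223320 := d7_1 D223691 F518838 (iv3 F432689)
theorem F520754 : act 5 n223691 = n217108 := d12_1 D223691 F487462 F426180 D203119 F432691
theorem F520755 : act 7 n223691 = n217107 := d14_2 (iv7 F432690) D223691 F487456 F372426 D191997
theorem F520756 : act 0 n223691 = n208233 := d21_4 (iv5 F480754) F480755 F432691 D223691 (iv6 D208233) (iv5 D133979) (iv1 D62937) D62939 (iv6 F329925) D204481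
theorem F520757 : act 0 n217106 = n223691 := d21_4 F449306 (iv1 F450353) (iv5 F450352) D217106 (iv6 D223691) (iv5 F432691) (iv1 F432179) (iv5 F432674) (iv6 F432675) (iv1 F449309)
def n223692 : Q := act 4 n204499
theorem D223692 : act 4 n204499 = n223692 := rfl
theorem F520758 : act 2 n223692 = n215872 := d1_1 D223692 F481870 (iv2 F432712)
theorem F520759 : act 6 n223692 = n204500 := d10_2 (iv6 F432714) D223692 (iv4 D204500)
theorem F520760 : act 7 n223692 = n204590 := d11_2 (iv7 F432715) D223692 (iv4 D204590)
theorem F520761 : act 0 n223692 = n215824 := d18_2 (iv1 F432717) D223692 (iv4 D215824) (iv5 F457939) F457938 (iv0 F457526) (iv4 F457803) (iv0 F457806) F449316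
theorem F520762 : act 1 n223692 = n215822 := d18_6 F343242 (iv4 F173200) D199721 (iv4 F413255) D204499 D223692 (iv4 D215822) (iv0 D177953) (iv5 F305165)
def n223693 : Q := act 6 n204506
theorem D223693 : act 6 n204506 = n223693 := rfl
theorem F520763 : act 2 n223693 = n223678 := d3_1 D223693 (iv6 D223678) (iv2 F432746)
theorem F520764 : act 3 n223693 = n210777 := d7_1 D223693 (iv6 D210777) (iv3 F432747)
theorem F520765 : act 4 n223693 = n204507 := d10_1 D223693 (iv6 D204507) D204506
theorem F520766 : act 5 n223693 = n219878 := d12_1 D223693 F501004 (iv5 F444563) F444564 (iv5 F432749)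
theorem F520767 : act 0 n223037 = n223693 := d21_4 (iv5 F472796) (iv1 F472800) D222017 (iv6 F517371) (iv6 D223693) F432749 (iv1 F426969) D221487 F509253 F411467
def n223694 : Q := act 1 n204511
theorem D223694 : act 1 n204511 = n223694 := rfl
theorem F520768 : act 1 n223694 = n215898 := d15_1 D223694 F481984 (iv2 F432764)
theorem F520769 : act 7 n223694 = n215899 := d15_2 F432767 D223694 (iv2 D215899)
theorem F520770 : act 5 n223694 = n208494 := d17_7 F411831 (iv5 D123905) (iv1 D57728) D57729 D123909 D204511 D223694 (iv0 F513802) (iv4 D222361)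
theorem F520771 : act 4 n223694 = n223637 := d17_9 F520467 (iv5 F514101) F514103 (iv5 F433735) (iv4 F509438) F509437 (iv0 D204508) D204511 D223694
theorem F520772 : act 2 n215777 = n223694 := d1_3 F520771 F520463 (iv4 F481532)
theorem F520773 : act 6 n223262 = n223694 := d10_0 F520771 F520465 F519356
theorem F520774 : act 3 n215860 = n223694 := d20_5 F112063 (iv1 F318287) D152788 D213193 F481835 F520771 F520467 F505486 (iv3 D213186) F320446
def n223695 : Q := act 6 n204511
theorem D223695 : act 6 n204511 = n223695 := rfl
theorem F520775 : act 2 n223695 = n223681 := d3_1 D223695 (iv6 D223681) (iv2 F432764)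
theorem F520776 : act 3 n223695 = n223195 := d7_1 D223695 F518124 (iv3 F473179)
theorem F520777 : act 4 n223695 = n222344 := d10_1 D223695 F513709 (iv4 F432766)
theorem F520778 : act 5 n223695 = n204624 := d12_1 D223695 (iv6 D204624) (iv5 D124053) (iv6 F198340) D204511
def n223696 : Q := act 0 n204518
theorem D223696 : act 0 n204518 = n223696 := rfl
theorem F520779 : act 5 n223696 = n210579 := d17_3 (iv1 D204517) D204518 D223696 F458110 (iv5 F338618) F364475 (iv5 F452344) F452347 F451899
theorem F520780 : act 4 n223696 = n207915 := d18_1 D223696 F466866 (iv4 F493671) F493672 (iv4 D209027) D209026 (iv4 F451905) (iv0 D204516) D204518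
theorem F520781 : act 3 n223696 = n218193 := d20_5 F362605 F360045 (iv4 F360048) (iv3 F432788) D223696 F492631 (iv1 D217790) (iv4 F490629) F490628 F407397
theorem F520782 : act 6 n223696 = n207914 := d21_5 F429705 (iv1 D123932) D123933 (iv6 F432789) D223696 F446974 (iv1 F424890) (iv5 F446098) (iv6 D207708) (iv1 F429704)
theorem F520783 : act 2 n223244 = n223696 := d15_3 (iv0 D223696) (iv0 F458483) (iv7 F518394)
theorem F520784 : act 7 n223696 = n221885 := d4_2 (iv7 F518394) F520783 F511206
def n223697 : Q := act 1 n204532
theorem D223697 : act 1 n204532 = n223697 := rfl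
theorem F520785 : act 7 n223697 = n216861 := d15_2 (iv0 F503829) D223697 (iv2 F503825)
theorem F520786 : act 5 n223697 = n217910 := d17_7 (iv1 F504586) (iv5 D220605) (iv1 F500366) F500364 F432807 D204532 D223697 (iv0 F518232) F518230
theorem F520787 : act 4 n223697 = n217175 := d17_9 F487792 (iv5 D216970) (iv1 D186583) (iv5 F288565) (iv4 F394470) (iv5 F432810) (iv0 D204530) D204532 D223697
theorem F520788 : act 3 n216864 = n223697 := d19_19 (iv1 D223697) (iv5 D204532) (iv4 F432807) F486497 (iv1 D216908) (iv5 F384848) (iv4 F473217) (iv3 F502169) (iv1 F503002) (iv5 F517600) (iv4 D223092) F423008 D223068 (iv5 F519690) (iv4 F519692) (iv3 F500819) (iv1 D216548) (iv5 F483507) (iv4 F486286)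
theorem F520789 : act 6 n217209 = n223697 := d21_3 F368882 (iv1 F385752) (iv5 F487949) (iv1 D223697) F432809 (iv5 D123974) (iv1 F355390) D193444 (iv6 F456990) F456993
def n223698 : Q := act 7 n204532
theorem D223698 : act 7 n204532 = n223698 := rfl
theorem F520790 : act 3 n223698 = n204547 := d8_1 D223698 (iv7 D204547) (iv3 F432808)
theorem F520791 : act 4 n223698 = n220558 := d11_1 D223698 F504354 F432813
theorem F520792 : act 5 n223698 = n204533 := d13_1 D223698 (iv7 D204533) D204532
theorem F520793 : act 0 n216861 = n223698 := d17_0 F520792 (iv1 F520734) F520731 F502021 F388137 F289457 D186991 D217191 F487874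
def n223699 : Q := act 6 n204536
theorem D223699 : act 6 n204536 = n223699 := rfl
theorem F520794 : act 2 n223699 = n204537 := d3_1 D223699 (iv6 D204537) D204536
theorem F520795 : act 3 n223699 = n221504 := d7_1 D223699 F509339 F453877
theorem F520796 : act 7 n223699 = n222373 := d14_2 (iv7 F432819) D223699 (iv6 D222373) (iv7 F411965) D199596
theorem F520797 : act 1 n222436 = n223699 := d15_1 D222436 F520796 F513857
theorem F520798 : act 1 n223699 = n222292 := d15_1 F520797 (iv7 F520715) F520712
def n223700 : Q := act 5 n204537
theorem D223700 : act 5 n204537 = n223700 := rfl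
theorem F520799 : act 3 n223700 = n204540 := d6_1 D223700 (iv5 D204540) (iv3 F432821)
theorem F520800 : act 6 n223700 = n223421 := d12_2 D204537 D223700 F519359 F511880 F429750
theorem F520801 : act 7 n223700 = n222271 := d13_2 (iv7 F432822) D223700 F513277
theorem F520802 : act 4 n223700 = n222273 := d17_4 (iv1 D212141) D212142 F489595 D223700 F513287 (iv0 F467277) (iv5 D202540) D202539 F464466
theorem F520803 : act 0 n211539 = n223700 := d19_0 (iv5 D223700) (iv4 F486498) (iv3 F486497) F443444 (iv5 F286280) (iv4 F361894) F154891 F346783 F346786 F205276 (iv3 F205275) F360235 (iv5 D103131) (iv4 F75488) F75487 D48028 D103701 (iv4 F353401) (iv3 F462035)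
def n223701 : Q := act 4 n204540
theorem D223701 : act 4 n204540 = n223701 := rfl
theorem F520804 : act 6 n223701 = n212805 := d10_2 (iv6 F505632) D223701 F505631
theorem F520805 : act 0 n223701 = n211091 := d18_2 (iv1 F510918) D223701 F460066 F342482 (iv4 F364134) F424362 F424359 F412960 (iv5 F510917)
theorem F520806 : act 1 n223701 = n221586 := d18_6 F401232 (iv4 F401234) (iv1 D123979) (iv4 F198392) D204540 D223701 F509724 (iv0 F409329) (iv5 D198805)
def n223702 : Q := act 7 n204540
theorem D223702 : act 7 n204540 = n223702 := rfl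
theorem F520807 : act 2 n223702 = n222530 := d4_1 D223702 (iv7 F520484) F520481
theorem F520808 : act 3 n223702 = n222271 := d8_1 D223702 (iv7 F520801) F520799
theorem F520809 : act 5 n223702 = n204541 := d13_1 D223702 (iv7 D204541) D204540
theorem F520810 : act 6 n223702 = n216063 := d14_1 D223702 (iv7 F508189) F508188 F505726 (iv6 F505632)
theorem F520811 : act 1 n220843 = n223702 := d15_1 F520486 (iv7 D223702) (iv2 F520481)
theorem F520812 : act 1 n223702 = n211096 := d15_1 F520811 (iv7 F510916) F510913
def n223703 : Q := act 3 n204545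
theorem D223703 : act 3 n204545 = n223703 := rfl
theorem F520813 : act 2 n223703 = n222864 := d0_1 D223703 F516473 F469615 D213267 (iv2 F469640)
theorem F520814 : act 5 n223703 = n210592 := d6_2 F432832 D223703 (iv3 D210592)
theorem F520815 : act 7 n223703 = n218307 := d8_2 F478827 D223703 F493227
theorem F520816 : act 1 n221847 = n223703 := d15_1 (iv0 F511029) F520815 F493226
def n223704 : Q := act 6 n204545
theorem D223704 : act 6 n204545 = n223704 := rfl
theorem F520817 : act 2 n223704 = n217258 := d3_1 D223704 F488150 (iv2 F469640)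
theorem F520818 : act 5 n223704 = n220277 := d12_1 D223704 F502995 (iv5 F453429) F431534 F432832
theorem F520819 : act 7 n223704 = n215280 := d14_2 F478827 D223704 (iv6 D215280) F356428 (iv6 F478825)
theorem F520820 : act 0 n223704 = n217257 := d21_4 (iv5 D139422) D139420 F432832 D223704 (iv6 F488144) F432503 (iv1 F369020) (iv5 F429567) F458157 (iv1 D210594)
theorem F520821 : act 0 n217256 = n223704 := d21_4 F391190 D216445 (iv5 F484408) (iv6 F488139) (iv6 D223704) (iv5 F432832) (iv1 F424370) (iv5 F518284) F518285 (iv1 D220523)
def n223705 : Q := act 1 n204546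
theorem D223705 : act 1 n204546 = n223705 := rfl
theorem F520822 : act 7 n223705 = n219438 := d15_2 (iv0 F520080) D223705 (iv2 F520077)
theorem F520823 : act 4 n223705 = n210658 := d18_7 (iv1 F410564) (iv4 F443983) (iv1 D204539) F198392 D123980 D204546 D223705 (iv0 F458363) F433122
theorem F520824 : act 2 n223578 = n223705 := d1_3 F520823 F458360 (iv4 F520174)
theorem F520825 : act 6 n223506 = n223705 := d10_0 F520823 (iv6 F520074) F520072
def n223706 : Q := act 7 n204546
theorem D223706 : act 7 n204546 = n223706 := rfl
theorem F520826 : act 3 n223706 = n219442 := d8_1 D223706 F498895 (iv3 F432833)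
theorem F520827 : act 4 n223706 = n204547 := d11_1 D223706 (iv7 D204547) D204546
theorem F520828 : act 5 n223706 = n219441 := d13_1 D223706 (iv7 F520095) F520094
theorem F520829 : act 1 n223578 = n223706 := d15_1 F520176 (iv7 D223706) (iv2 F478822)
theorem F520830 : act 1 n223706 = n219438 := d15_1 F520829 (iv7 F520822) (iv2 F520824)
def n223707 : Q := act 0 n204548
theorem D223707 : act 0 n204548 = n223707 := rfl
theorem F520831 : act 5 n223707 = n208420 := d17_1 D223707 (iv1 F449284) (iv5 F421879) F421878 (iv5 F450442) (iv0 F499367) F499364 (iv0 D204549) (iv4 F432837)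
theorem F520832 : act 4 n223707 = n209620 := d18_3 F384438 (iv4 F432837) D223707 (iv5 F484138) F484139 F446228 (iv4 F413122) (iv0 F499550) (iv5 D219580)
theorem F520833 : act 3 n223707 = n218297 := d20_5 (iv4 F514072) F514073 F432844 (iv3 F432836) D223707 F493171 F511250 F511246 (iv3 F490528) F490531
theorem F520834 : act 6 n223707 = n208869 := d21_5 F333555 F164534 (iv5 F314242) D204548 D223707 (iv5 D208869) (iv1 F217987) (iv5 F448339) (iv6 D208203) (iv1 F333553)
theorem F520835 : act 2 n209621 = n223707 := d15_3 (iv0 D223707) F516324 F516321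
theorem F520836 : act 7 n223707 = n213122 := d4_2 F516321 F520835 (iv2 F516318)
theorem F520837 : act 1 n217592 = n223707 := d15_1 F516323 F520836 (iv2 F516318)
def n223708 : Q := act 5 n204548
theorem D223708 : act 5 n204548 = n223708 := rfl
theorem F520838 : act 2 n223708 = n223636 := d2_1 D223708 F520459 F444383
theorem F520839 : act 3 n223708 = n216949 := d6_1 D223708 F486675 (iv3 F432836)
theorem F520840 : act 6 n223708 = n208115 := d12_2 D204548 D223708 (iv5 D208115) (iv6 D133406) (iv5 F314242)
theorem F520841 : act 4 n223708 = n219660 := d16_2 (iv4 F432837) D223708 F499902 F487109 (iv5 F449205) (iv4 F511842) F511843 (iv7 D207336) (iv2 F366698)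
theorem F520842 : act 0 n223708 = n213088 := d17_2 (iv1 F516324) D223708 F468952 (iv4 F456926) (iv5 D210304) F388692 (iv5 F387286) (iv0 F452653) (iv4 F516322)
theorem F520843 : act 1 n223708 = n209088 := d17_6 (iv1 D219572) F449304 (iv1 D208424) (iv5 F358468) (iv4 F432837) D223708 F452195 (iv0 F489504) F499508
theorem F520844 : act 7 n223708 = n217855 := d15_2 F486718 (iv0 F520842) F490941
def n223709 : Q := act 7 n204548
theorem D223709 : act 7 n204548 = n223709 := rfl
theorem F520845 : act 2 n223709 = n217592 := d4_1 D223709 F489681 F444383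
theorem F520846 : act 3 n223709 = n217859 := d8_1 D223709 F490961 (iv3 F432836)
theorem F520847 : act 4 n223709 = n204550 := d11_1 D223709 (iv7 D204550) (iv4 F432837)
theorem F520848 : act 5 n223709 = n217855 := d13_1 D223709 (iv7 F520844) (iv5 D223708)
theorem F520849 : act 6 n223709 = n209593 := d14_1 D223709 F454265 (iv6 D207221) (iv7 F314243) D204548
theorem F520850 : act 1 n213122 = n223709 := d15_1 (iv0 F469097) (iv7 D223709) (iv2 F444383)
theorem F520851 : act 1 n223709 = n209621 := d15_1 F520850 (iv7 F516321) F516318
def n223710 : Q := act 1 n204551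
theorem D223710 : act 1 n204551 = n223710 := rfl
theorem F520852 : act 1 n223710 = n208829 := d15_1 D223710 (iv7 F468635) F468632
theorem F520853 : act 7 n223710 = n204560 := d15_2 F490504 D223710 (iv2 F490499)
theorem F520854 : act 5 n223710 = n206779 := d17_7 F338471 (iv5 D136865) (iv1 F330959) D206772 F442129 (iv5 F432841) D223710 (iv0 F451296) (iv4 D208894)
theorem F520855 : act 4 n223710 = n208932 := d17_9 (iv1 F451467) (iv5 D135416) (iv1 D63657) D63658 D135420 (iv5 F450915) F450918 (iv5 F432841) D223710
theorem F520856 : act 3 n204563 = n223710 := d19_19 (iv1 D223710) F432841 (iv4 F442129) F442127 F287073 (iv5 F332709) F217212 D205255 F435627 (iv5 F508478) F508477 (iv3 F459440) (iv1 D210950) (iv5 F453641) (iv4 D209425) (iv3 F245119) F362243 F344818 (iv4 F432867)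
theorem F520857 : act 2 n223710 = n219406 := d0_1 F520856 F498741 (iv2 F514297) F514298 (iv2 F432866)
theorem F520858 : act 6 n223710 = n216898 := d7_2 (iv6 F432868) F520856 F486461
def n223711 : Q := act 0 n204552
theorem D223711 : act 0 n204552 = n223711 := rfl
theorem F520859 : act 4 n223711 = n217133 := d18_1 D223711 F490532 (iv4 F513925) F513924 F511809 F480173 (iv4 F493136) (iv0 F514311) F514308
theorem F520860 : act 6 n223711 = n222449 := d21_5 F490276 F390627 F390626 D204552 D223711 F514274 (iv1 D199656) (iv5 F412796) (iv6 F432795) F490278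
theorem F520861 : act 2 n217825 = n223711 := d15_3 (iv0 D223711) (iv0 F514073) (iv7 F514075)
theorem F520862 : act 1 n219407 = n223711 := d15_0 (iv0 D223711) (iv7 F432845) (iv2 F498747)
theorem F520863 : act 7 n223711 = n217827 := d15_2 (iv0 F514074) F520862 (iv2 F514070)
def n223712 : Q := act 3 n204569
theorem D223712 : act 3 n204569 = n223712 := rfl
theorem F520864 : act 2 n223712 = n208761 := d0_1 D223712 (iv3 F450745) (iv2 F451019) F453372 (iv2 F453371)
theorem F520865 : act 4 n223712 = n217929 := d5_2 F506874 D223712 (iv3 F493379) F493380 D221028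
theorem F520866 : act 5 n223712 = n216493 := d6_2 (iv5 F432900) D223712 (iv3 F484667)
theorem F520867 : act 6 n223712 = n221449 := d7_2 F432901 D223712 F509061
theorem F520868 : act 7 n223712 = n208760 := d8_2 F453376 D223712 F490908
theorem F520869 : act 0 n223712 = n208755 := d19_4 (iv1 F507844) (iv5 F506873) F506874 D223712 (iv5 F490911) (iv4 F516777) F516776 F421619 (iv5 D132173) (iv4 F98445) (iv3 D63186) (iv1 D29873) D29874 (iv4 F93618) (iv3 F203361) D205627 F437272 D205714 (iv3 F507841)
theorem F520870 : act 1 n223712 = n208596 := d15_1 (iv0 F520869) F450066 (iv2 F450724)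
def n223713 : Q := act 4 n204570
theorem D223713 : act 4 n204570 = n223713 := rfl
theorem F520871 : act 3 n223713 = n207776 := d5_1 D223713 F446384 F384537 D213007 F468570
theorem F520872 : act 5 n223713 = n207775 := d9_2 (iv5 F432902) D223713 F446380 (iv5 F343683) (iv4 F364645) D196001 (iv4 F401658) (iv5 F432900) (iv4 F506874) F506873 F445961 F358297 (iv4 F364642) (iv5 F205545) (iv4 F405877)
theorem F520873 : act 6 n223713 = n220730 := d10_2 F432903 D223713 (iv4 D220730)
def n223714 : Q := act 4 n204573
theorem D223714 : act 4 n204573 = n223714 := rfl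
theorem F520874 : act 2 n223714 = n223672 := d1_1 D223714 F520649 F520030
theorem F520875 : act 3 n223714 = n208759 := d5_1 D223714 (iv4 D208759) F361061 (iv4 F450944) (iv3 F450948)
theorem F520876 : act 6 n223714 = n220812 := d10_2 F454789 D223714 F505663
theorem F520877 : act 7 n223714 = n223671 := d11_2 (iv7 F520025) D223714 F520643
theorem F520878 : act 5 n223714 = n213430 := d16_1 D223714 (iv4 F470363) F427614 (iv4 F471581) F471582 (iv4 D204576) D204577 (iv7 F520027) F520030
theorem F520879 : act 0 n223714 = n223669 := d17_0 F520636 (iv1 F479119) F479116 (iv4 F470472) (iv5 F515565) (iv0 F515568) F511735 (iv0 F490522) D223714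
theorem F520880 : act 1 n223714 = n223670 := d18_6 (iv1 F520647) F520649 (iv1 D223544) (iv4 F430709) D204573 D223714 (iv4 D223670) F467951 F467944
def n223715 : Q := act 4 n204577
theorem D223715 : act 4 n204577 = n223715 := rfl
theorem F520881 : act 2 n223715 = n223671 := d1_1 D223715 F520643 (iv2 F520024)
theorem F520882 : act 3 n223715 = n208571 := d5_1 D223715 F449947 (iv3 F369112) (iv4 F394079) (iv3 F432929)
theorem F520883 : act 5 n223715 = n208569 := d9_2 D204577 D223715 F449934 (iv5 F470368) F470367 (iv5 F430707) (iv4 F430709) D204573 D223714 F520878 (iv4 F470363) F427614 (iv4 F471581) F471582 (iv4 D204576)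
theorem F520884 : act 6 n223715 = n206272 := d10_2 F432930 D223715 F440012
theorem F520885 : act 7 n223715 = n223672 := d11_2 F520027 D223715 F520649
theorem F520886 : act 0 n223715 = n223670 := d17_0 F520639 F451463 F200562 (iv4 F243428) (iv5 F432938) (iv0 F432937) F427559 (iv0 F432931) D223715
theorem F520887 : act 1 n223715 = n223669 := d18_6 D223671 F520643 (iv1 F520023) (iv4 D204576) D204577 D223715 (iv4 D223669) (iv0 D204411) D204414
def n223716 : Q := act 4 n204587
theorem D223716 : act 4 n204587 = n223716 := rfl
theorem F520888 : act 2 n223716 = n217748 := d1_1 D223716 (iv4 F491079) F491078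
theorem F520889 : act 6 n223716 = n220449 := d10_2 F518251 D223716 (iv4 F518249)
theorem F520890 : act 7 n223716 = n210537 := d11_2 (iv7 F432960) D223716 F457970
theorem F520891 : act 5 n223716 = n217953 := d16_1 D223716 (iv4 D217953) (iv5 D188199) F367227 D188613 D218154 (iv5 F492409) (iv7 F491080) F491078
theorem F520892 : act 0 n223716 = n217231 := d17_0 (iv5 D217231) F483823 (iv5 F496577) (iv4 F504872) (iv5 D220665) F392137 (iv5 F504032) F504035 D223716
theorem F520893 : act 1 n223716 = n219996 := d18_8 (iv1 F491632) F488036 (iv1 D188202) D188203 D217959 (iv4 F504031) F504035 D223716 F501568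
def n223717 : Q := act 4 n204588
theorem D223717 : act 4 n204588 = n223717 := rfl
theorem F520894 : act 7 n223717 = n210543 := d11_2 (iv7 F432961) D223717 (iv4 D210543)
def n223718 : Q := act 0 n204590
theorem D223718 : act 0 n204590 = n223718 := rfl
theorem F520895 : act 4 n223718 = n215768 := d18_3 F391138 D204590 D223718 (iv5 F500121) F500116 (iv0 D199768) (iv4 F413409) (iv0 F479173) F479171
theorem F520896 : act 2 n215822 = n223718 := d15_3 (iv0 D223718) F504153 (iv7 F504154)
theorem F520897 : act 1 n215872 = n223718 := d15_0 (iv0 D223718) (iv7 F520760) F520758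
theorem F520898 : act 7 n223718 = n215824 := d15_2 (iv0 F504152) F520897 (iv2 F504150)
theorem F520899 : act 6 n216651 = n223718 := d14_5 F520898 F481698 (iv7 F383574) (iv6 F498913) F498914
theorem F520900 : act 3 n223718 = n215824 := d7_1 F520899 F481698 D216651
def n223719 : Q := act 5 n204590
theorem D223719 : act 5 n204590 = n223719 := rfl
theorem F520901 : act 2 n223719 = n209830 := d2_1 D223719 F455093 (iv2 F432965)
theorem F520902 : act 3 n223719 = n220424 := d6_1 D223719 (iv5 F517514) F517515
def n223720 : Q := act 1 n204591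
theorem D223720 : act 1 n204591 = n223720 := rfl
theorem F520903 : act 1 n223720 = n204622 := d15_1 D223720 (iv7 F473047) F473046
theorem F520904 : act 7 n223720 = n204621 := d15_2 (iv0 F485887) D223720 (iv2 F485884)
theorem F520905 : act 3 n222974 = n223720 := d19_19 (iv1 D223720) (iv5 F473030) (iv4 F482177) F482176 (iv1 D189031) F367263 (iv4 F378897) (iv3 F484366) F484370 (iv5 D183949) F134719 F129802 (iv1 F289723) D47615 D102664 D194083 D220626 (iv5 F517496) F517497
theorem F520906 : act 5 n210760 = n223720 := d21_0 (iv1 D223720) (iv5 F473030) (iv6 F485888) (iv1 D201923) (iv6 D115262) (iv5 F330513) (iv1 F179511) D115491 D202235 (iv1 F458710)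
theorem F520907 : act 2 n223720 = n204620 := d2_1 F520906 F469520 D210760
theorem F520908 : act 6 n223720 = n223596 := d12_2 (iv6 F458711) F520906 F520250 F518120 F452220
def n223721 : Q := act 4 n204592
theorem D223721 : act 4 n204592 = n223721 := rfl
theorem F520909 : act 0 n223721 = n217003 := d17_0 F486944 F517429 F517430 F481593 (iv5 D204159) F315671 D214225 F474082 D223721
theorem F520910 : act 6 n223356 = n223721 := d21_3 (iv5 D210783) D210782 (iv5 F519025) F520909 F486943 F384690 (iv1 F245071) D156123 (iv6 F469371) F469372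
def n223722 : Q := act 6 n204592
theorem D223722 : act 6 n204592 = n223722 := rfl
theorem F520911 : act 2 n223722 = n220504 := d3_1 D223722 F504092 F483025
theorem F520912 : act 3 n223722 = n213602 := d7_1 D223722 (iv6 D213602) (iv3 F432969)
theorem F520913 : act 4 n223722 = n223356 := d10_1 D223722 F520910 (iv4 D223721)
theorem F520914 : act 5 n223722 = n223348 := d12_1 D223722 F518988 F449756 F429711 (iv5 F432970)
theorem F520915 : act 1 n214035 = n223722 := d17_6 F483482 (iv5 D208466) F352600 D203013 D223335 F518921 F520914 F518989 F518855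
def n223723 : Q := act 6 n204593
theorem D223723 : act 6 n204593 = n223723 := rfl
theorem F520916 : act 2 n223723 = n219362 := d3_1 D223723 F498470 F480536
theorem F520917 : act 3 n223723 = n216596 := d7_1 D223723 F485114 F481629
theorem F520918 : act 0 n223723 = n208360 := d21_4 F432009 (iv1 F429712) (iv5 F432971) D223723 F449071 F386228 (iv1 F354938) D204313 F432007 D204315
theorem F520919 : act 1 n223723 = n219454 := d15_1 (iv0 F520918) (iv7 D219454) (iv2 F449069)
theorem F520920 : act 7 n223723 = n219453 := d15_2 (iv0 F484353) (iv0 F520918) (iv2 F498948)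
def n223724 : Q := act 3 n204594
theorem D223724 : act 3 n204594 = n223724 := rfl
theorem F520921 : act 4 n223724 = n204598 := d5_2 D204594 D223724 (iv3 D204598) (iv4 D124033) (iv3 F198416)
theorem F520922 : act 6 n223724 = n220753 := d7_2 (iv6 F469528) D223724 (iv3 F505325)
theorem F520923 : act 5 n223724 = n220498 := d21_6 (iv5 D202107) (iv1 F179647) D115377 D202112 (iv1 F505321) (iv6 F520922) F504066 F484437 (iv6 D209862) (iv1 F422892)
def n223725 : Q := act 5 n204594
theorem D223725 : act 5 n204594 = n223725 := rfl
theorem F520924 : act 3 n223725 = n220498 := d6_1 D223725 (iv5 F520923) (iv3 D223724)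
theorem F520925 : act 4 n223725 = n223207 := d9_1 D223725 (iv5 D223207) (iv4 D202480) F313691 D157409 D214225 (iv4 F474083) (iv5 F517556) F517555 F512005 (iv4 D202481) F341169 (iv4 F307071) D124029 D204594
theorem F520926 : act 6 n223725 = n214026 := d12_2 (iv6 F469528) D223725 F473169 (iv6 F472477) F472476
theorem F520927 : act 7 n223725 = n210887 := d13_2 F483028 D223725 (iv5 F483029)
theorem F520928 : act 0 n215806 = n223725 := d19_0 (iv5 D223725) (iv4 D204594) F198416 D124031 F302096 (iv4 D84790) F299524 (iv1 F113079) F113076 D82414 (iv3 F325080) (iv1 F380391) F380393 D199940 F414241 F356400 (iv5 D185215) (iv4 F336770) D215806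
def n223726 : Q := act 4 n204596
theorem D223726 : act 4 n204596 = n223726 := rfl
theorem F520929 : act 2 n223726 = n220331 := d1_1 D223726 F503241 F474159
theorem F520930 : act 3 n223726 = n223034 := d5_1 D223726 F517357 (iv3 F438327) F431072 (iv3 F432973)
theorem F520931 : act 5 n223726 = n220328 := d9_2 D204596 D223726 (iv4 D220328) (iv5 D193406) F344060 F188619 (iv4 F303706) D192826 D220061 (iv5 F503213) (iv4 D220326) (iv5 D193404) F344077 (iv5 F305745) (iv4 F304177)
theorem F520932 : act 6 n223726 = n221089 := d10_2 (iv6 F475872) D223726 F507167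
theorem F520933 : act 7 n223726 = n214605 := d11_2 (iv7 F432974) D223726 (iv4 D214605)
theorem F520934 : act 0 n223726 = n213290 := d17_0 (iv5 F471908) F471909 F469171 F438456 (iv5 D133592) (iv0 F351918) D203725 (iv0 F432975) D223726
theorem F520935 : act 1 n223726 = n221864 := d18_6 (iv1 F366234) F305768 (iv1 F305743) (iv4 F304177) D204596 D223726 F511123 (iv0 F427286) (iv5 D191507)
def n223727 : Q := act 4 n204597
theorem D223727 : act 4 n204597 = n223727 := rfl
theorem F520936 : act 2 n223727 = n213594 := d1_1 D223727 (iv4 D213594) (iv2 F432976)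
theorem F520937 : act 3 n223727 = n215848 := d5_1 D223727 (iv4 D215848) (iv3 D177986) (iv4 F302095) D204597
theorem F520938 : act 7 n223727 = n214062 := d11_2 (iv7 F432978) D223727 F473294
theorem F520939 : act 0 n223727 = n213889 := d17_0 (iv5 D213889) F470574 (iv5 D213476) (iv4 D153817) (iv5 D72761) D72760 D153813 F432979 D223727
theorem F520940 : act 1 n223727 = n214063 := d18_6 F451441 F217749 F384812 F302492 (iv5 F432977) D223727 F473298 (iv0 F471425) (iv5 F471426)
def n223728 : Q := act 3 n204604
theorem D223728 : act 3 n204604 = n223728 := rfl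
theorem F520941 : act 2 n223728 = n223056 := d0_1 D223728 F517458 (iv2 F498561) (iv3 F520536) F520535
theorem F520942 : act 4 n223728 = n204606 := d5_2 D204604 D223728 (iv3 D204606) (iv4 D124045) D124044
theorem F520943 : act 7 n223728 = n221497 := d8_2 F519848 D223728 (iv3 F519846)
theorem F520944 : act 0 n223728 = n209862 := d19_4 (iv1 F431027) F429719 D204604 D223728 (iv5 F484437) F484436 F285698 (iv1 F353706) (iv5 D153822) F354974 F338587 (iv1 F258908) F143134 (iv4 F349323) (iv3 F349317) F371164 (iv5 F459067) (iv4 F501465) F501464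
theorem F520945 : act 0 n223054 = n223728 := d20_4 F504697 F426601 D204449 F517451 (iv3 D223728) (iv4 D204604) F432014 (iv4 F519682) F519681 F504700
theorem F520946 : act 5 n223728 = n223475 := d17_1 F520945 (iv1 D223475) (iv5 F518071) (iv4 D223185) (iv5 D202381) F422517 (iv5 F517060) F517062 (iv4 F517450)
def n223729 : Q := act 5 n204604
theorem D223729 : act 5 n204604 = n223729 := rfl
theorem F520947 : act 3 n223729 = n223475 := d6_1 D223729 (iv5 F520946) (iv3 D223728)
theorem F520948 : act 7 n223729 = n223075 := d13_2 F519848 D223729 (iv5 F519849)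
theorem F520949 : act 4 n223729 = n213776 := d16_2 D204604 D223729 (iv5 D213776) (iv4 D155719) D155720 (iv4 F429696) (iv5 F503553) F503554 (iv2 F432011)
theorem F520950 : act 6 n223729 = n223056 := d21_3 (iv5 F481645) F467284 D223729 (iv1 F517461) (iv6 D213989) (iv5 D156162) (iv1 F245109) (iv5 F422900) D223082 F517557
theorem F520951 : act 0 n220511 = n223729 := d19_0 (iv5 D223729) (iv4 D204604) (iv3 D124044) (iv1 F302313) (iv5 D39167) (iv4 D18583) F297329 (iv1 F29295) D18457 D38837 F325353 (iv1 F81583) (iv5 F329647) F147952 F135034 (iv1 F289632) D102375 D193829 D220511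
def n223730 : Q := act 6 n204604
theorem D223730 : act 6 n204604 = n223730 := rfl
theorem F520952 : act 4 n223730 = n204605 := d10_1 D223730 (iv6 D204605) D204604
theorem F520953 : act 5 n223730 = n216606 := d12_1 D223730 (iv6 F504765) (iv5 F517460) (iv6 F520950) (iv5 D223729)
theorem F520954 : act 0 n216685 = n223730 := d17_2 F518007 D216685 F520953 F485151 D220646 (iv0 F504779) F499295 (iv0 F519567) F519565
def n223731 : Q := act 0 n204617
theorem D223731 : act 0 n204617 = n223731 := rfl
theorem F520955 : act 5 n223731 = n215861 := d17_3 (iv1 F517137) (iv5 F517143) D223731 (iv4 F500455) F500456 (iv0 F424977) (iv5 F433641) F433644 (iv4 F422605)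
theorem F520956 : act 3 n223731 = n223355 := d20_5 (iv4 D84712) (iv1 F129934) (iv4 F306749) D204617 D223731 F519020 (iv1 F484498) (iv4 F481674) (iv3 D215813) (iv1 F277491)
theorem F520957 : act 2 n210134 = n223731 := d15_3 (iv0 D223731) (iv0 F472904) F472902
theorem F520958 : act 1 n223680 = n223731 := d15_0 (iv0 D223731) (iv7 F517151) (iv2 F520689)
theorem F520959 : act 4 n223731 = n210132 := d17_9 (iv1 F517821) (iv5 D223133) F423384 (iv5 F423412) (iv4 F481798) F481799 F517134 (iv5 F520691) F520958
theorem F520960 : act 6 n210134 = n223731 := d21_9 F520691 (iv1 F517134) (iv5 F481799) (iv6 F481800) (iv1 F449644) F449641 D215860 F481833 (iv5 F472416) (iv1 F520958)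
def n223732 : Q := act 4 n204617
theorem D223732 : act 4 n204617 = n223732 := rfl
theorem F520961 : act 3 n223732 = n212731 := d5_1 D223732 (iv4 D212731) F264403 (iv4 F306749) D204617
theorem F520962 : act 5 n223732 = n221610 := d9_2 (iv5 F517143) D223732 F509856 F432708 (iv4 F429513) F454768 (iv4 F517131) (iv5 F520691) F520690 (iv5 D223161) (iv4 F508227) F508226 F451086 (iv5 F476014) (iv4 F517139)
def n223733 : Q := act 6 n204617
theorem D223733 : act 6 n204617 = n223733 := rfl
theorem F520963 : act 3 n223733 = n204619 := d7_1 D223733 (iv6 D204619) D204617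
theorem F520964 : act 5 n223733 = n211006 := d12_1 D223733 (iv6 D211006) D211005 F517141 (iv5 F517143)
theorem F520965 : act 0 n219886 = n223733 := d17_2 (iv1 F413422) D219886 F520964 F459729 F413245 F413243 F412430 (iv0 F413419) (iv4 F413421)
def n223734 : Q := act 7 n204619
theorem D223734 : act 7 n204619 = n223734 := rfl
theorem F520966 : act 2 n223734 = n216660 := d4_1 D223734 (iv7 F519889) F519886
theorem F520967 : act 4 n223734 = n215797 := d11_1 D223734 F481616 (iv4 F433038)
theorem F520968 : act 5 n223734 = n220749 := d13_1 D223734 (iv7 F514832) F514829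
theorem F520969 : act 6 n223734 = n222349 := d14_1 D223734 F513739 F457419 F430921 D204619
theorem F520970 : act 1 n216661 = n223734 := d15_1 F519892 (iv7 D223734) (iv2 F519886)
theorem F520971 : act 1 n223734 = n216646 := d15_1 F520970 (iv7 F518505) F518502
def n223735 : Q := act 4 n204620
theorem D223735 : act 4 n204620 = n223735 := rfl
theorem F520972 : act 3 n223735 = n217974 := d5_1 D223735 (iv4 D217974) (iv3 F458726) (iv4 D210763) (iv3 F469519)
theorem F520973 : act 6 n223735 = n219642 := d10_2 (iv6 F470559) D223735 F499815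
theorem F520974 : act 7 n223735 = n220473 := d11_2 F485886 D223735 F503938
theorem F520975 : act 5 n223735 = n214002 := d16_1 D223735 (iv4 D214002) F457388 F198434 D154526 (iv4 F422501) (iv5 F457392) (iv7 F520904) F520907
theorem F520976 : act 0 n223735 = n223451 := d18_2 D204620 D223735 F519519 (iv5 D215940) F457384 (iv0 D199352) F172516 D156173 F457388
def n223736 : Q := act 4 n204621
theorem D223736 : act 4 n204621 = n223736 := rfl
theorem F520977 : act 2 n223736 = n220473 := d1_1 D223736 F503938 F485884
theorem F520978 : act 5 n223736 = n213999 := d9_2 (iv5 F457392) D223736 (iv4 D213999) D214000 F473049 F471342 F406620 (iv5 F469520) D223735 F520975 (iv4 D214002) F457388 F198434 D154526 (iv4 F422501)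
theorem F520979 : act 6 n223736 = n216783 := d10_2 F457389 D223736 F485908
theorem F520980 : act 0 n223451 = n223736 := d20_10 (iv4 D223736) (iv1 D204621) F198434 (iv3 D73193) D73191 D154518 (iv4 F390971) F485271 F485270 (iv3 F519518)
theorem F520981 : act 3 n216785 = n223736 := d20_5 (iv4 F231587) (iv1 F231588) D154558 D213638 (iv1 F504868) (iv4 D223736) (iv1 D204621) F198434 (iv3 D73193) D73191
def n223737 : Q := act 4 n204630
theorem D223737 : act 4 n204630 = n223737 := rfl
theorem F520982 : act 2 n223737 = n220020 := d1_1 D223737 (iv4 D220020) F433071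
theorem F520983 : act 3 n223737 = n210470 := d5_1 D223737 (iv4 D210470) F222286 (iv4 F359389) D204630
theorem F520984 : act 5 n223737 = n207224 := d9_2 (iv5 F433067) D223737 F443885 D208116 (iv4 F451347) F451346 F383364 D191404 (iv4 F492448) F492449 (iv4 D208117) (iv5 F420784) (iv4 F430560) (iv5 F444580) F444579
theorem F520985 : act 6 n223737 = n207505 := d10_2 F452207 D223737 (iv4 F452205)
theorem F520986 : act 7 n223737 = n219774 := d11_2 (iv7 F433068) D223737 (iv4 D219774)
theorem F520987 : act 0 n223737 = n215273 := d17_0 F479153 F443790 F209192 (iv4 F420936) F387379 (iv0 D173494) D173495 (iv0 F433069) D223737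
theorem F520988 : act 1 n223737 = n212030 := d18_6 D82003 D171092 F444583 F444579 (iv5 F433067) D223737 F464034 (iv0 D171098) (iv5 D82005)
def n223738 : Q := act 7 n204632
theorem D223738 : act 7 n204632 = n223738 := rfl
theorem F520989 : act 2 n223738 = n204639 := d4_1 D223738 (iv7 D204639) (iv2 F433076)
theorem F520990 : act 3 n223738 = n217942 := d8_1 D223738 F491363 F475601
theorem F520991 : act 5 n223738 = n217941 := d13_1 D223738 F491356 F454290
theorem F520992 : act 6 n223738 = n209169 := d14_1 D223738 F452557 (iv6 F366378) F355288 D204632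
theorem F520993 : act 1 n204637 = n223738 := d15_1 D204637 (iv7 D223738) F433076
theorem F520994 : act 1 n223738 = n204636 := d15_1 F520993 (iv7 F513373) F513371
def n223739 : Q := act 0 n204635
theorem D223739 : act 0 n204635 = n223739 := rfl
def n223740 : Q := act 1 n204635
theorem D223740 : act 1 n204635 = n223740 := rfl
theorem F520995 : act 6 n206888 = n223740 := d21_3 (iv5 F484128) (iv1 F499035) F499036 (iv1 D223740) (iv6 D204635) (iv5 F355287) (iv1 F211848) (iv5 F355281) D209358 F453384
theorem F520996 : act 5 n223740 = n207807 := d21_6 F458332 F456627 (iv5 F410514) (iv6 F443118) (iv1 F443120) F520995 F446533 (iv5 F445843) (iv6 F446147) D210649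
theorem F520997 : act 3 n207808 = n223740 := d6_3 F520996 (iv3 D207807) D207808
def n223741 : Q := act 4 n204636
theorem D223741 : act 4 n204636 = n223741 := rfl
theorem F520998 : act 2 n223741 = n210300 := d1_1 D223741 F456912 F433093
theorem F520999 : act 6 n223741 = n209292 := d10_2 (iv6 F433092) D223741 (iv4 D209292)
theorem F521000 : act 0 n223741 = n222914 := d20_1 D223741 F516741 (iv3 F516458) F516457 (iv3 D204544) F401234 (iv1 F401233) F198614 (iv3 F198610) D204636
theorem F521001 : act 0 n220136 = n223741 := d20_1 (iv4 F502309) (iv4 D223741) F451220 F451219 (iv3 F387448) (iv4 F501719) F502484 (iv4 D220175) (iv3 F502315) (iv1 D220138)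
theorem F521002 : act 5 n223741 = n222923 := d17_1 F521001 (iv1 D222923) (iv5 D201738) (iv4 F420898) D222865 F516480 F506080 (iv0 D220137) (iv4 F502309)
def n223742 : Q := act 5 n204636
theorem D223742 : act 5 n204636 = n223742 := rfl
theorem F521003 : act 2 n223742 = n210301 := d2_1 D223742 (iv5 D210301) F433093
theorem F521004 : act 3 n223742 = n209702 := d6_1 D223742 F454673 (iv3 F451220)
theorem F521005 : act 6 n223742 = n208469 := d12_2 (iv6 F433092) D223742 F449493 F359621 D136232
theorem F521006 : act 7 n223742 = n223353 := d13_2 F513373 D223742 F519011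
theorem F521007 : act 1 n223742 = n209599 := d17_6 (iv1 F453287) (iv5 F516070) (iv1 F516793) (iv5 F521002) (iv4 D223741) D223742 (iv5 D209599) (iv0 F393979) F453289
theorem F521008 : act 0 n223742 = n209597 := d21_1 D223742 (iv5 D209597) D209598 F454287 F421840 (iv5 D124142) (iv1 D57854) D57856 D124149 D204636
def n223743 : Q := act 4 n204637
theorem D223743 : act 4 n204637 = n223743 := rfl
theorem F521009 : act 3 n223743 = n212405 := d5_1 D223743 F465679 (iv3 D211050) D211051 F459910
theorem F521010 : act 6 n223743 = n207680 := d10_2 (iv6 F453425) D223743 (iv4 F453422)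
theorem F521011 : act 7 n223743 = n210300 := d11_2 (iv7 F433094) D223743 F456912
theorem F521012 : act 5 n223743 = n212404 := d17_5 D136677 D209597 F470277 F470273 D223743 (iv0 F465678) (iv5 D201738) (iv0 F421856) F219390
theorem F521013 : act 0 n223743 = n220136 := d20_1 D223743 F502309 (iv3 F499459) F499460 (iv3 F502532) F502533 (iv1 F475560) (iv4 F491361) (iv3 F520990) (iv1 F520993)
theorem F521014 : act 0 n222914 = n223743 := d20_10 (iv4 D223743) (iv1 D204637) (iv4 F433091) (iv3 F464346) F464350 F417407 (iv4 D115025) (iv1 F179103) D201715 D222914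
def n223744 : Q := act 0 n204641
theorem D223744 : act 0 n204641 = n223744 := rfl
theorem F521015 : act 5 n223744 = n216278 := d17_1 D223744 F488398 F488397 F460547 (iv5 D209202) (iv0 F365750) (iv5 F424662) D223256 F518466
theorem F521016 : act 4 n223744 = n208847 := d18_3 (iv1 F518462) F518466 D223744 F451100 (iv4 F353583) F458219 F462426 F462422 (iv5 F493460)
theorem F521017 : act 3 n223744 = n204956 := d20_5 (iv4 F431498) (iv1 F443981) (iv4 D204642) D204641 D223744 F434335 D211536 (iv4 F500551) (iv3 F500552) (iv1 D204213)
theorem F521018 : act 6 n223744 = n208846 := d21_5 D188177 (iv1 F448708) F448705 (iv6 F433111) D223744 (iv5 F458914) F458915 (iv5 F490412) F490415 (iv1 D188176)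
theorem F521019 : act 2 n218356 = n223744 := d15_3 (iv0 D223744) (iv0 F448709) (iv7 F493480)
theorem F521020 : act 1 n219989 = n223744 := d15_0 (iv0 D223744) (iv7 F513388) F513386
theorem F521021 : act 7 n223744 = n204951 := d15_2 D219989 F521020 F434315
def n223745 : Q := act 5 n204641
theorem D223745 : act 5 n204641 = n223745 := rfl
theorem F521022 : act 3 n223745 = n204643 := d6_1 D223745 (iv5 D204643) D204641
theorem F521023 : act 6 n223745 = n208435 := d12_2 (iv6 F433111) D223745 F449342 (iv6 F448706) F448705
theorem F521024 : act 0 n223745 = n216141 := d21_1 D223745 F483155 F460558 (iv1 F460573) (iv6 F460574) F384342 (iv1 F197502) (iv5 F338897) D192589 F448709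
theorem F521025 : act 0 n210687 = n223745 := d19_0 (iv5 D223745) (iv4 F518466) F518465 F487567 (iv5 F389175) D209728 (iv3 F464417) (iv1 D212126) D212127 F464419 F421152 F238515 (iv5 D151653) (iv4 F238510) (iv3 F390510) F487770 F487769 D217198 F487900
def n223746 : Q := act 3 n204642
theorem D223746 : act 3 n204642 = n223746 := rfl
theorem F521026 : act 2 n223746 = n223689 := d0_1 D223746 (iv3 F520743) F510178 (iv3 F505667) F443977
theorem F521027 : act 4 n223746 = n217128 := d5_2 D204642 D223746 (iv3 F518465) F518466 (iv3 D204641)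
theorem F521028 : act 6 n223746 = n217127 := d7_2 (iv6 F514237) D223746 F514236
theorem F521029 : act 7 n223746 = n223688 := d8_2 (iv7 F443980) D223746 F520736
theorem F521030 : act 0 n223746 = n219625 := d19_4 F433109 (iv5 D204643) D204642 D223746 F499741 (iv4 F453668) (iv3 F454778) (iv1 D193232) F156183 (iv4 F377019) (iv3 F489686) F489689 (iv5 D209084) (iv4 F452171) F452170 F441977 D208381 (iv4 F458355) F454288
theorem F521031 : act 0 n219626 = n223746 := d20_4 (iv4 F401100) (iv1 F342793) D204200 (iv3 F499743) (iv3 D223746) (iv4 D204642) (iv1 F409322) F409319 F170523 D111758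
def n223747 : Q := act 4 n204643
theorem D223747 : act 4 n204643 = n223747 := rfl
theorem F521032 : act 6 n223747 = n208445 := d10_2 (iv6 F433106) D223747 F449382
theorem F521033 : act 7 n223747 = n223674 := d11_2 F460674 D223747 F520661
theorem F521034 : act 0 n223747 = n223675 := d18_2 F433109 D223747 F520664 F518284 F424359 F412960 F412958 (iv0 D139476) D139478
theorem F521035 : act 1 n223747 = n210595 := d18_6 (iv1 D204213) (iv4 F431498) (iv1 F443981) (iv4 D204642) D204643 D223747 (iv4 D210595) D210594 F458156
def n223748 : Q := act 5 n204648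
theorem D223748 : act 5 n204648 = n223748 := rfl
theorem F521036 : act 2 n223748 = n221818 := d2_1 D223748 F510928 F478854
theorem F521037 : act 3 n223748 = n208336 := d6_1 D223748 F449376 F449377
theorem F521038 : act 6 n223748 = n221818 := d12_2 (iv6 F433120) D223748 F510928 (iv6 D215201) F268115
theorem F521039 : act 7 n223748 = n223590 := d13_2 F478858 D223748 F520224
theorem F521040 : act 4 n223748 = n221810 := d16_2 D204648 D223748 (iv5 D221810) F409328 (iv5 D198805) (iv4 F409319) (iv5 F498883) F498887 F431568
theorem F521041 : act 0 n223748 = n216039 := d17_2 (iv1 F478862) D223748 F482632 F478892 (iv5 D204543) (iv0 D123978) D123980 D204545 (iv4 F478861)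
theorem F521042 : act 1 n223748 = n223591 := d17_6 (iv1 F460684) F431167 (iv1 D124157) D124158 D204648 D223748 F520227 F520149 F498878
def n223749 : Q := act 2 n204651
theorem D223749 : act 2 n204651 = n223749 := rfl
theorem F521043 : act 3 n223749 = n220636 := d0_2 D204651 D223749 F504736 (iv3 D215200) (iv2 F268117)
theorem F521044 : act 4 n223749 = n208388 := d1_2 F478901 D223749 F478904
theorem F521045 : act 5 n223749 = n220636 := d2_2 F478850 D223749 F504736
theorem F521046 : act 6 n223749 = n208387 := d3_2 (iv6 F449378) D223749 F449375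
theorem F521047 : act 7 n223749 = n216043 := d4_2 (iv7 F433132) D223749 (iv2 D216043)
theorem F521048 : act 1 n223749 = n216041 := d15_0 (iv0 D216041) (iv7 F433132) D223749
theorem F521049 : act 1 n216042 = n223749 := d15_0 F521048 (iv7 F520426) F520423
def n223750 : Q := act 5 n204657
theorem D223750 : act 5 n204657 = n223750 := rfl
theorem F521050 : act 2 n223750 = n205512 := d2_1 D223750 (iv5 F511682) (iv2 F511686)
theorem F521051 : act 3 n223750 = n204658 := d6_1 D223750 (iv5 D204658) D204657
theorem F521052 : act 4 n223750 = n218222 := d9_1 D223750 F492800 F491700 F389259 F481559 (iv5 D215783) (iv4 F433876) (iv5 F490142) F490141 (iv5 F387747) (iv4 F501867) F501868 F433211 (iv5 D204668) (iv4 F433157)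
theorem F521053 : act 6 n223750 = n216400 := d12_2 (iv6 F433158) D223750 (iv5 D216400) (iv6 F418027) F418026
theorem F521054 : act 7 n223750 = n204859 := d13_2 (iv7 F433159) D223750 (iv5 D204859)
theorem F521055 : act 0 n223750 = n205509 := d17_2 F503156 D223750 (iv5 F481228) F481227 (iv5 F464520) F502868 F502864 (iv0 F411984) (iv4 F503155)
theorem F521056 : act 1 n223750 = n205514 := d17_6 F482728 F429425 F433212 (iv5 D204668) (iv4 F433157) D223750 (iv5 F478385) (iv0 F478388) (iv4 F482725)
def n223751 : Q := act 6 n204658
theorem D223751 : act 6 n204658 = n223751 := rfl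
theorem F521057 : act 2 n223751 = n204888 := d3_1 D223751 (iv6 D204888) (iv2 F433160)
theorem F521058 : act 3 n223751 = n216400 := d7_1 D223751 (iv6 F521053) F521051
theorem F521059 : act 4 n223751 = n204875 := d10_1 D223751 (iv6 D204875) (iv4 F433161)
theorem F521060 : act 5 n223751 = n205473 := d12_1 D223751 (iv6 D205473) (iv5 D126055) (iv6 F325188) D204658
theorem F521061 : act 7 n223751 = n222904 := d14_2 (iv7 F433162) D223751 F516684 F446262 F377713
theorem F521062 : act 0 n206512 = n223751 := d21_4 D132101 F358970 F338346 D206512 (iv6 D223751) (iv5 D204658) F297506 D124613 (iv6 F359048) (iv1 D132100)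
def n223752 : Q := act 4 n204663
theorem D223752 : act 4 n204663 = n223752 := rfl
theorem F521063 : act 2 n223752 = n215865 := d1_1 D223752 (iv4 D215865) F452632
theorem F521064 : act 6 n223752 = n221490 := d10_2 F453922 D223752 F509273
theorem F521065 : act 7 n223752 = n215868 := d11_2 (iv7 F452631) D223752 (iv4 D215868)
theorem F521066 : act 5 n223752 = n209785 := d16_1 D223752 (iv4 D209785) (iv5 F430916) (iv4 F481707) F501024 F501020 F452626 (iv7 F452630) F452632
theorem F521067 : act 0 n223752 = n220510 := d17_0 (iv5 F505027) F505025 (iv5 F517369) (iv4 F517370) (iv5 D209850) (iv0 D137010) D137013 F433192 D223752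
theorem F521068 : act 1 n223752 = n215826 := d18_6 F475228 F475226 F505026 F505023 F452637 D223752 F481707 F469560 (iv5 F472535)
theorem F521069 : act 3 n223752 = n213806 := d19_3 (iv1 F452639) F452637 D223752 (iv1 D213806) (iv5 D155878) (iv4 D74137) F53332 (iv1 F25924) (iv5 F25978) (iv4 D16455) (iv3 F25927) (iv1 F42009) F50644 (iv4 F55627) F55626 F55631 (iv5 F86517) D118860 D203378
def n223753 : Q := act 4 n204664
theorem D223753 : act 4 n204664 = n223753 := rfl
theorem F521070 : act 2 n223753 = n215868 := d1_1 D223753 (iv4 D215868) (iv2 F452629)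
theorem F521071 : act 5 n223753 = n223026 := d9_2 F452626 D223753 F517315 F500538 (iv4 F504122) (iv5 F505027) F505023 F452637 D223752 F521066 (iv4 D209785) (iv5 F430916) (iv4 F481707) F501024 F501020
theorem F521072 : act 7 n223753 = n215865 := d11_2 F452630 D223753 (iv4 D215865)
theorem F521073 : act 0 n223753 = n215826 := d18_2 (iv1 F433193) D223753 F481707 F430916 D209785 (iv0 F455129) (iv4 D209849) (iv0 D137010) D137013
theorem F521074 : act 1 n223753 = n220510 := d18_6 F485615 F476003 F501023 F501020 F452626 D223753 F504122 F469563 D216720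
theorem F521075 : act 3 n223753 = n209873 := d19_3 F452627 F452626 D223753 (iv1 D209873) (iv5 D137041) (iv4 F167213) F167212 F103855 D144754 (iv4 F463838) F463837 (iv1 F404098) F404096 F167215 F100062 (iv1 F53497) (iv5 F81361) D64192 D136540
def n223754 : Q := act 5 n204665
theorem D223754 : act 5 n204665 = n223754 := rfl
theorem F521076 : act 2 n223754 = n215782 := d2_1 D223754 (iv5 D215782) F433200
theorem F521077 : act 3 n223754 = n223464 := d6_1 D223754 F519584 F504894
theorem F521078 : act 4 n223754 = n222185 := d9_1 D223754 F512779 F508066 F490254 F418928 (iv5 F418938) F433196 (iv5 F508784) F508783 (iv5 F484065) F484064 (iv5 D209009) F218009 F395578 F433878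
theorem F521079 : act 6 n223754 = n210972 := d12_2 F480379 D223754 (iv5 F512214) F512215 (iv5 F480378)
theorem F521080 : act 7 n223754 = n215780 := d13_2 F433202 D223754 (iv5 D215780)
theorem F521081 : act 0 n223754 = n218605 := d17_2 D204665 D223754 F494715 F433218 F361242 D193368 (iv5 F439154) (iv0 F439158) F433157
theorem F521082 : act 1 n223754 = n214237 := d17_6 F512032 F443398 F441279 F395578 F433878 D223754 F474146 F519762 F519759
def n223755 : Q := act 6 n204688
theorem D223755 : act 6 n204688 = n223755 := rfl
theorem F521083 : act 2 n223755 = n220871 := d3_1 D223755 (iv6 F511012) (iv2 F511013)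
theorem F521084 : act 3 n223755 = n221153 := d7_1 D223755 F507477 F455255
theorem F521085 : act 4 n223755 = n204689 := d10_1 D223755 (iv6 D204689) D204688
theorem F521086 : act 5 n223755 = n221756 := d21_6 (iv5 D108140) F101022 D139080 D210462 F457644 D223755 (iv1 F510691) F507126 (iv6 D216052) (iv1 F315146)
theorem F521087 : act 7 n220868 = n223755 := d13_0 F521086 F510689 F507117
theorem F521088 : act 1 n221046 = n223755 := d17_6 (iv1 F503804) (iv5 F512524) (iv1 F512525) (iv5 D198477) D198476 (iv5 F506973) F521086 F510690 F507120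
theorem F521089 : act 0 n209321 = n223755 := d19_0 F521086 F510687 F473984 (iv1 D193705) D193706 (iv4 F502488) F502486 (iv1 F487697) (iv5 D187919) F139594 (iv3 F139577) (iv1 F205656) (iv5 F193577) (iv4 F350572) F350571 F319844 F110952 (iv4 F219367) (iv3 F453216)
def n223756 : Q := act 5 n204691
theorem D223756 : act 5 n204691 = n223756 := rfl
theorem F521090 : act 3 n223756 = n209831 := d6_1 D223756 (iv5 F517973) (iv3 F517974)
theorem F521091 : act 6 n223756 = n209830 := d12_2 D204691 D223756 F455093 (iv6 D178079) (iv5 F304977)
theorem F521092 : act 1 n223756 = n223092 := d17_6 F409193 F406581 (iv1 D124312) (iv5 F198710) (iv4 F433270) D223756 F517600 F503002 F502170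
def n223757 : Q := act 1 n204696
theorem D223757 : act 1 n204696 = n223757 := rfl
theorem F521093 : act 1 n223757 = n205138 := d15_1 D223757 F435105 (iv2 F433278)
theorem F521094 : act 7 n223757 = n221437 := d15_2 (iv0 F433281) D223757 (iv2 F509028)
theorem F521095 : act 5 n223757 = n214591 := d17_7 (iv1 F281406) (iv5 F401127) (iv1 F401129) (iv5 D180393) (iv4 F198717) D204696 D223757 F475947 F412119
theorem F521096 : act 3 n214678 = n223757 := d19_19 (iv1 D223757) (iv5 D204696) F198717 (iv3 D86155) (iv1 F60677) D75205 F112755 (iv3 F132132) D180409 F280784 (iv4 F201726) F201727 (iv1 D86279) D86281 F254085 D163275 (iv1 F408137) D222144 F512582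
theorem F521097 : act 6 n214676 = n223757 := d21_9 (iv5 D204696) F281219 D216110 F483000 (iv1 F461458) F461456 (iv5 D203679) F253665 D214676 (iv1 D223757)
theorem F521098 : act 2 n223757 = n214676 := d0_1 F521096 F476348 F254444 (iv3 F434860) (iv2 F476357)
theorem F521099 : act 4 n223757 = n222847 := d16_0 (iv5 D222847) (iv4 D201451) (iv5 D114520) (iv4 F178374) (iv5 F412312) F412311 D199469 (iv7 F476349) (iv2 F521098)
def n223758 : Q := act 4 n204696
theorem D223758 : act 4 n204696 = n223758 := rfl
theorem F521100 : act 2 n223758 = n222000 := d1_1 D223758 (iv4 D222000) (iv2 F433278)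
theorem F521101 : act 3 n223758 = n221438 := d5_1 D223758 (iv4 D221438) F400643 (iv4 F198720) (iv3 F433279)
theorem F521102 : act 7 n223758 = n221438 := d11_2 (iv7 F433280) D223758 (iv4 D221438)
theorem F521103 : act 5 n223758 = n222844 := d16_1 D223758 (iv4 D222844) (iv5 D201447) F400608 (iv5 D196406) (iv4 F201870) D205138 F435105 (iv2 F433278)
theorem F521104 : act 1 n223758 = n222929 := d18_6 D197458 F404423 (iv1 D180391) (iv4 F198717) D204696 D223758 F516829 (iv0 D221867) (iv5 D197460)
theorem F521105 : act 6 n221445 = n223758 := d12_0 F521103 F516394 (iv5 D222698) D222699 (iv5 F515640)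
def n223759 : Q := act 6 n204696
theorem D223759 : act 6 n204696 = n223759 := rfl
theorem F521106 : act 2 n223759 = n211421 := d3_1 D223759 F461477 (iv2 F433278)
theorem F521107 : act 3 n223759 = n204697 := d7_1 D223759 (iv6 D204697) (iv3 F433279)
theorem F521108 : act 4 n223759 = n221445 := d10_1 D223759 F521105 (iv4 D223758)
theorem F521109 : act 5 n223759 = n216078 := d12_1 D223759 (iv6 D216078) (iv5 D180393) (iv6 F297087) D204696
theorem F521110 : act 7 n223759 = n211395 := d14_2 (iv7 F433280) D223759 (iv6 F461396) F228336 (iv6 F400644)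
theorem F521111 : act 0 n223759 = n221442 := d21_4 F514316 (iv1 D204695) D204696 D223759 (iv6 D221442) (iv5 F411352) (iv1 D199258) F228342 (iv6 F413104) D222457
theorem F521112 : act 0 n222775 = n223759 := d21_4 (iv5 D211411) (iv1 F424717) D223260 F518487 (iv6 D223759) (iv5 D204696) F281219 D216110 F483000 (iv1 F461458)
def n223760 : Q := act 3 n204700
theorem D223760 : act 3 n204700 = n223760 := rfl
theorem F521113 : act 2 n223760 = n206524 := d0_1 D223760 F441191 (iv2 F367212) F405969 (iv2 F433304)
theorem F521114 : act 4 n223760 = n214719 := d5_2 D204700 D223760 (iv3 D214719) (iv4 F433289) (iv3 D204699)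
theorem F521115 : act 5 n223760 = n221309 := d6_2 F436868 D223760 F508295
theorem F521116 : act 6 n223760 = n206419 := d7_2 (iv6 F433293) D223760 (iv3 F440699)
theorem F521117 : act 7 n223760 = n221957 := d8_2 F433302 D223760 (iv3 D221957)
theorem F521118 : act 0 n223760 = n209074 := d19_4 (iv1 F433306) (iv5 D204701) D204700 D223760 (iv5 F452128) F445390 (iv3 F428323) (iv1 D203441) (iv5 F415782) F415781 F413712 (iv1 D172107) (iv5 D82423) (iv4 F89952) (iv3 D56906) (iv1 F55842) D76908 F115541 (iv3 F253405)
theorem F521119 : act 0 n214860 = n223760 := d20_4 (iv4 F334368) F362645 D208534 (iv3 F477178) (iv3 D223760) (iv4 D204700) (iv1 F253363) (iv4 F287861) F287860 (iv1 F334375)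
def n223761 : Q := act 4 n204709
theorem D223761 : act 4 n204709 = n223761 := rfl
theorem F521120 : act 2 n223761 = n211834 := d1_1 D223761 F463237 (iv2 F433344)
theorem F521121 : act 3 n223761 = n218724 := d5_1 D223761 (iv4 F495327) (iv3 F497676) F497677 (iv3 F433345)
theorem F521122 : act 7 n223761 = n223500 := d11_2 (iv7 F433346) D223761 (iv4 D223500)
theorem F521123 : act 5 n223761 = n211826 := d16_1 D223761 F463214 (iv5 D207270) (iv4 F366058) (iv5 D165939) F198742 D204710 F433349 (iv2 F433344)
theorem F521124 : act 0 n223761 = n215705 := d17_0 (iv5 D215705) (iv1 F289103) (iv5 F486516) F486515 F429442 F253109 D204718 F433389 D223761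
theorem F521125 : act 1 n223761 = n215707 := d18_6 F459453 F459451 (iv1 F433341) (iv4 D204708) D204709 D223761 (iv4 F520298) F520301 (iv5 D221477)
theorem F521126 : act 6 n211827 = n223761 := d21_3 (iv5 D220451) (iv1 F390737) D211827 F521124 F481184 (iv5 D214687) D214684 (iv5 F480169) (iv6 F515091) F515093
def n223762 : Q := act 6 n204709
theorem D223762 : act 6 n204709 = n223762 := rfl
theorem F521127 : act 2 n223762 = n211841 := d3_1 D223762 F463243 (iv2 F433344)
theorem F521128 : act 3 n223762 = n218938 := d7_1 D223762 F496282 (iv3 F433345)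
theorem F521129 : act 4 n223762 = n211827 := d10_1 D223762 F521126 (iv4 D223761)
theorem F521130 : act 5 n223762 = n216079 := d12_1 D223762 (iv6 D216079) (iv5 D180405) (iv6 F330797) D204709
theorem F521131 : act 0 n223762 = n215549 := d21_4 (iv5 D124245) D124242 D204709 D223762 (iv6 D215549) (iv5 D175022) (iv1 F303412) F303414 F433363 (iv1 D204713)
theorem F521132 : act 0 n211317 = n223762 := d21_4 (iv5 D211320) (iv1 D141826) D141827 (iv6 F461095) (iv6 D223762) (iv5 D204709) (iv1 F198741) D203695 F495881 (iv1 F495879)
theorem F521133 : act 7 n222083 = n223762 := d13_0 F521130 F482824 D222083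
def n223763 : Q := act 4 n204710
theorem D223763 : act 4 n204710 = n223763 := rfl
theorem F521134 : act 2 n223763 = n223500 := d1_1 D223763 (iv4 D223500) (iv2 F433348)
theorem F521135 : act 3 n223763 = n211847 := d5_1 D223763 (iv4 F488896) F488895 (iv4 F434870) (iv3 F434868)
theorem F521136 : act 5 n223763 = n211835 := d9_2 D204710 D223763 F463239 (iv5 D207269) D207268 F444062 (iv4 D204708) D204709 D223761 F521123 F463214 (iv5 D207270) (iv4 F366058) (iv5 D165939) F198742
theorem F521137 : act 7 n223763 = n211834 := d11_2 (iv7 F433349) D223763 F463237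
theorem F521138 : act 0 n223763 = n215707 := d17_0 (iv5 D215707) (iv1 D176917) D176918 F429441 F429438 (iv0 D160263) D160266 (iv0 F433350) D223763
theorem F521139 : act 1 n223763 = n215705 := d18_6 D214289 F474409 (iv1 D165937) F198742 D204710 D223763 (iv4 F520305) F520308 (iv5 D214290)
def n223764 : Q := act 6 n204718
theorem D223764 : act 6 n204718 = n223764 := rfl
theorem F521140 : act 2 n223764 = n204720 := d3_1 D223764 (iv6 D204720) (iv2 F433388)
theorem F521141 : act 3 n223764 = n218857 := d7_1 D223764 F495930 F476139
theorem F521142 : act 7 n223764 = n218288 := d14_2 F475960 D223764 (iv6 F513920) F513921 F479262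
theorem F521143 : act 0 n223764 = n218181 := d21_4 F429438 (iv1 F253105) D204718 D223764 F492561 (iv5 D189061) D189059 (iv5 F429444) (iv6 D203698) D203696
theorem F521144 : act 0 n218241 = n223764 := d21_4 (iv5 F480472) F419976 (iv5 F461356) (iv6 F492912) (iv6 D223764) (iv5 D204718) (iv1 F253109) (iv5 F429442) (iv6 F502882) F502885
def n223765 : Q := act 0 n204719
theorem D223765 : act 0 n204719 = n223765 := rfl
theorem F521145 : act 5 n223765 = n216932 := d17_1 D223765 (iv1 F486591) F443287 F433369 (iv5 D204711) F198744 D203693 (iv0 F429435) D204719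
theorem F521146 : act 4 n223765 = n221477 := d18_1 D223765 (iv1 F520301) F520298 (iv5 D215707) F369378 F369385 F369382 F276115 (iv5 F433391)
theorem F521147 : act 3 n223765 = n216934 := d20_5 (iv4 F434983) (iv1 D204727) D204728 F433406 D223765 (iv4 F497609) F497611 D222451 F514285 (iv1 F434984)
theorem F521148 : act 1 n215660 = n223765 := d15_0 (iv0 D223765) (iv7 F474591) (iv2 F481001)
theorem F521149 : act 6 n215143 = n223765 := d21_9 (iv5 D215660) (iv1 D176739) (iv5 F271777) (iv6 D173335) (iv1 F299370) D162672 F256910 D166713 D215143 (iv1 F521148)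
theorem F521150 : act 7 n221988 = n223765 := d8_0 F521147 (iv7 F494970) (iv3 F511777)
def n223766 : Q := act 1 n204719
theorem D223766 : act 1 n204719 = n223766 := rfl
theorem F521151 : act 1 n223766 = n215660 := d15_1 D223766 F481003 F474582
theorem F521152 : act 5 n223766 = n216816 := d17_7 D207092 F443277 F397818 (iv5 F369268) (iv4 F369283) (iv5 F433391) D223766 (iv0 F486040) (iv4 D207094)
theorem F521153 : act 4 n223766 = n214290 := d17_9 (iv1 F520308) (iv5 D223605) (iv1 F433423) F412112 (iv4 F406261) F273558 F276115 (iv5 F433391) D223766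
theorem F521154 : act 3 n215136 = n223766 := d19_19 (iv1 D223766) F433391 F369283 (iv3 F444743) (iv1 F506708) (iv5 D220995) F396064 F161550 D105347 (iv5 F377369) (iv4 F415000) F414999 (iv1 F370265) F288005 F262066 F253816 F122823 D166708 D215136
theorem F521155 : act 6 n215498 = n223766 := d21_9 F433391 (iv1 F276115) (iv5 F273558) D215524 (iv1 F497753) F497759 (iv5 F518268) F518270 F480229 (iv1 D223766)
theorem F521156 : act 2 n223766 = n221988 := d3_1 F521155 (iv6 F518780) F518778
def n223767 : Q := act 6 n204719
theorem D223767 : act 6 n204719 = n223767 := rfl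
theorem F521157 : act 3 n223767 = n214298 := d7_1 D223767 (iv6 F474449) F433406
theorem F521158 : act 4 n223767 = n204720 := d10_1 D223767 (iv6 D204720) D204719
theorem F521159 : act 5 n223767 = n214873 := d12_1 D223767 (iv6 F479404) (iv5 F480999) (iv6 D215659) (iv5 F433391)
theorem F521160 : act 0 n223767 = n215253 := d21_4 F271777 D176738 (iv5 F433391) D223767 (iv6 F502182) F502181 (iv1 F390464) D200231 (iv6 F448274) F448277
theorem F521161 : act 0 n214736 = n223767 := d21_4 F497755 (iv1 F488184) F380532 (iv6 F476595) (iv6 D223767) F433391 (iv1 F276115) (iv5 F273558) D215524 (iv1 F497753)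
def n223768 : Q := act 5 n204722
theorem D223768 : act 5 n204722 = n223768 := rfl
theorem F521162 : act 2 n223768 = n219203 := d2_1 D223768 (iv5 F509931) F509929
theorem F521163 : act 3 n223768 = n204723 := d6_1 D223768 (iv5 D204723) D204722
theorem F521164 : act 6 n223768 = n219202 := d12_2 F509116 D223768 F497703 (iv6 F473659) (iv5 F509113)
theorem F521165 : act 7 n223768 = n212119 := d13_2 (iv7 F433397) D223768 F464384
theorem F521166 : act 0 n223768 = n221866 := d17_2 F475983 D223768 (iv5 D221866) (iv4 F404429) (iv5 F363803) (iv0 F341313) F341314 D180481 (iv4 F475975)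
theorem F521167 : act 1 n223768 = n221865 := d17_6 D199092 D222296 F513420 F479052 (iv4 F479050) D223768 (iv5 D221865) (iv0 D197458) (iv4 F171941)
def n223769 : Q := act 6 n204733
theorem D223769 : act 6 n204733 = n223769 := rfl
theorem F521168 : act 2 n223769 = n204737 := d3_1 D223769 (iv6 D204737) (iv2 F433425)
theorem F521169 : act 3 n223769 = n219167 := d7_1 D223769 F497537 F476155
theorem F521170 : act 5 n223769 = n217129 := d12_1 D223769 (iv6 F487573) (iv5 D199617) F382029 D204733
theorem F521171 : act 7 n223769 = n204741 := d14_2 F476181 D223769 (iv6 D204741) F257963 (iv6 F476180)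
theorem F521172 : act 0 n223769 = n219184 := d21_4 (iv5 D214640) (iv1 F253438) D204733 D223769 (iv6 D219184) D219183 F497606 (iv5 F461525) F461526 F476177
theorem F521173 : act 0 n222450 = n223769 := d21_4 F461547 (iv1 F511242) F511239 (iv6 F514281) (iv6 D223769) (iv5 D204733) (iv1 F358385) D199671 (iv6 F413071) D211442
def n223770 : Q := act 3 n204734
theorem D223770 : act 3 n204734 = n223770 := rfl
theorem F521174 : act 2 n223770 = n221477 := d0_1 D223770 F509216 F405499 (iv3 F406254) F433429
theorem F521175 : act 5 n223770 = n207319 := d6_2 (iv5 F433430) D223770 F444319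
theorem F521176 : act 7 n223770 = n214290 := d8_2 F476187 D223770 (iv3 F476188)
theorem F521177 : act 0 n223770 = n221987 := d19_4 F358156 D214739 F476606 D223770 F511773 F430993 (iv3 F474687) F474690 F436532 F418080 F176698 (iv1 F332804) (iv5 D60619) F46419 (iv3 F46418) D60608 (iv5 F173732) (iv4 F169876) D109903
theorem F521178 : act 6 n221512 = n223770 := d21_3 (iv5 D196555) D196553 D221512 F521177 (iv6 F511776) (iv5 D214600) (iv1 D160294) (iv5 F198789) D204763 F459182
theorem F521179 : act 1 n223770 = n221986 := d15_1 (iv0 F521177) F520302 F520296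
def n223771 : Q := act 6 n204734
theorem D223771 : act 6 n204734 = n223771 := rfl
theorem F521180 : act 2 n223771 = n221991 := d3_1 D223771 (iv6 D221991) F433429
theorem F521181 : act 3 n223771 = n221512 := d7_1 D223771 F521178 (iv3 D223770)
theorem F521182 : act 4 n223771 = n222195 := d10_1 D223771 F512840 F476606
theorem F521183 : act 5 n223771 = n221511 := d12_1 D223771 F509379 F502963 F479654 (iv5 F433430)
theorem F521184 : act 0 n211398 = n223771 := d21_4 F365448 D209684 F454618 (iv6 F461407) (iv6 D223771) F433430 (iv1 F406250) (iv5 F433471) F480270 (iv1 D215509)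
def n223772 : Q := act 6 n204736
theorem D223772 : act 6 n204736 = n223772 := rfl
theorem F521185 : act 3 n223772 = n222483 := d7_1 D223772 F514461 (iv3 F433431)
theorem F521186 : act 4 n223772 = n204737 := d10_1 D223772 (iv6 D204737) D204736
theorem F521187 : act 5 n223772 = n217527 := d12_1 D223772 (iv6 F496382) (iv5 F496380) (iv6 D214692) F433432
theorem F521188 : act 7 n223772 = n222451 := d14_2 F476191 D223772 F514286 F413056 (iv6 F476190)
theorem F521189 : act 0 n223772 = n216931 := d21_4 (iv5 D160619) D160616 F433432 D223772 (iv6 F497965) F497966 D222142 F512567 F503065 (iv1 D214695)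
theorem F521190 : act 0 n211497 = n223772 := d21_4 F473965 (iv1 F341117) D202835 (iv6 F461825) (iv6 D223772) (iv5 F433432) (iv1 F254005) D214721 F476532 (iv1 F473967)
def n223773 : Q := act 6 n204740
theorem D223773 : act 6 n204740 = n223773 := rfl
theorem F521191 : act 2 n223773 = n222451 := d3_1 D223773 F514286 (iv2 F433452)
theorem F521192 : act 3 n223773 = n223307 := d7_1 D223773 (iv6 F518755) F506053
theorem F521193 : act 4 n223773 = n204741 := d10_1 D223773 (iv6 D204741) D204740
theorem F521194 : act 5 n223773 = n217526 := d12_1 D223773 (iv6 F489318) (iv5 F492032) F492033 (iv5 F463150)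
theorem F521195 : act 0 n223773 = n211497 := d21_4 (iv5 D211809) D211807 (iv5 F463150) D223773 F461825 (iv5 D202835) (iv1 F341115) D214193 F473934 (iv1 F463160)
theorem F521196 : act 1 n223773 = n216931 := d15_1 (iv0 F521195) F486587 F463281
def n223774 : Q := act 1 n204743
theorem D223774 : act 1 n204743 = n223774 := rfl
theorem F521197 : act 1 n223774 = n204745 := d15_1 D223774 F473945 F473941
theorem F521198 : act 5 n223774 = n216099 := d17_7 (iv1 F250195) (iv5 D84326) (iv1 F113713) D158900 (iv4 F473929) F473931 D223774 F482950 F463147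
theorem F521199 : act 4 n223774 = n214255 := d17_9 F474252 (iv5 D180689) (iv1 F281177) (iv5 F434867) F434870 (iv5 F482964) F482966 F473931 D223774
theorem F521200 : act 3 n218112 = n223774 := d19_19 (iv1 D223774) (iv5 F473931) F473929 (iv3 F394777) (iv1 F492073) F492071 (iv4 D214872) D214871 (iv1 F477220) F394521 (iv4 F462830) (iv3 F462905) (iv1 F515188) (iv5 D222614) (iv4 F440572) (iv3 F515163) F515167 (iv5 F506016) (iv4 F506020)
def n223775 : Q := act 0 n204749
theorem D223775 : act 0 n204749 = n223775 := rfl
theorem F521201 : act 5 n223775 = n218554 := d17_1 D223775 (iv1 D218554) (iv5 F381661) (iv4 F477509) (iv5 D214933) F430242 (iv5 F433486) (iv0 D204760) (iv4 F433464)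
theorem F521202 : act 3 n223775 = n222614 := d20_5 (iv4 D204745) (iv1 D124302) D124303 D204749 D223775 (iv4 F518734) F518735 (iv4 D211820) (iv3 F463158) F463161
theorem F521203 : act 1 n223607 = n223775 := d15_0 (iv0 D223775) F433465 (iv2 F520313)
theorem F521204 : act 2 n223612 = n223775 := d0_5 F521202 F515187 (iv3 F496798) F496797 (iv3 F520337)
theorem F521205 : act 7 n223611 = n223775 := d8_0 F521202 (iv7 F515196) F520333
def n223776 : Q := act 1 n204749
theorem D223776 : act 1 n204749 = n223776 := rfl
theorem F521206 : act 7 n223776 = n223612 := d15_2 (iv0 D223775) D223776 F521204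
theorem F521207 : act 5 n223776 = n218553 := d17_7 D189472 (iv5 F413685) (iv1 F479266) (iv5 F494129) F494128 F481110 D223776 (iv0 D218553) (iv4 D189474)
theorem F521208 : act 4 n223776 = n222456 := d17_9 F514315 (iv5 D222067) (iv1 F412239) D222384 F513923 (iv5 F518707) (iv0 F518711) F481110 D223776
theorem F521209 : act 6 n219138 = n223776 := d21_3 (iv5 F380532) (iv1 F488188) (iv5 F497373) (iv1 D223776) (iv6 F480293) (iv5 F488786) F488905 (iv5 F496143) F496144 F379279
theorem F521210 : act 2 n223776 = n223611 := d3_1 F521209 F520332 (iv2 F497372)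
theorem F521211 : act 3 n223776 = n219032 := d7_1 F521209 F496795 D219138
theorem F521212 : act 0 n223607 = n223776 := d21_4 (iv5 F408657) (iv1 F408661) D220374 F520316 (iv6 F521209) F497373 (iv1 D217266) (iv5 F378937) (iv6 F390461) F408659
def n223777 : Q := act 2 n204749
theorem D223777 : act 2 n204749 = n223777 := rfl
theorem F521213 : act 3 n223777 = n218485 := d0_2 D204749 D223777 F494122 F481148 F276265
theorem F521214 : act 4 n223777 = n204762 := d1_2 (iv4 F433464) D223777 (iv2 D204762)
theorem F521215 : act 5 n223777 = n218484 := d2_2 F481110 D223777 F494117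
theorem F521216 : act 6 n223777 = n214817 := d3_2 F480293 D223777 F495890
theorem F521217 : act 7 n223777 = n223607 := d4_2 (iv7 F433465) D223777 F520313
theorem F521218 : act 1 n223777 = n223611 := d15_0 (iv0 D223611) (iv7 F433465) D223777
theorem F521219 : act 1 n223612 = n223777 := d15_0 F521218 F521205 (iv2 F521204)
def n223778 : Q := act 4 n204760
theorem D223778 : act 4 n204760 = n223778 := rfl
theorem F521220 : act 2 n223778 = n222623 := d1_1 D223778 F515233 F433487
theorem F521221 : act 7 n223778 = n223609 := d11_2 F433492 D223778 (iv4 D223609)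
theorem F521222 : act 5 n223778 = n218551 := d16_1 D223778 (iv4 D218551) F474468 (iv4 F392373) (iv5 F474541) F474540 (iv5 F433489) F433488 F433487
theorem F521223 : act 3 n223778 = n219317 := d19_3 D203886 (iv5 F433486) D223778 (iv1 D219317) (iv5 D191152) (iv4 D97324) F71709 F291938 (iv5 D42063) (iv4 D19835) F14527 F14529 F17522 D9591 (iv3 F14945) (iv1 F21445) D26978 D55942 D121263
theorem F521224 : act 6 n211838 = n223778 := d7_0 F521223 (iv6 F498268) (iv3 F488847)
def n223779 : Q := act 6 n204760
theorem D223779 : act 6 n204760 = n223779 := rfl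
theorem F521225 : act 2 n223779 = n223610 := d3_1 D223779 (iv6 D223610) F433487
theorem F521226 : act 4 n223779 = n211838 := d10_1 D223779 F521224 (iv4 D223778)
theorem F521227 : act 5 n223779 = n220026 := d12_1 D223779 F501720 (iv5 F495183) F495187 (iv5 F433486)
theorem F521228 : act 7 n223779 = n220025 := d14_2 F433492 D223779 F501715 F480134 (iv6 F461517)
theorem F521229 : act 0 n217784 = n223779 := d21_4 F487687 (iv1 D187918) D187919 (iv6 F490609) (iv6 D223779) F433486 (iv1 F430242) D214933 (iv6 F477512) (iv1 F487688)
def n223780 : Q := act 4 n204761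
theorem D223780 : act 4 n204761 = n223780 := rfl
theorem F521230 : act 2 n223780 = n223609 := d1_1 D223780 (iv4 D223609) (iv2 F433490)
theorem F521231 : act 5 n223780 = n218550 := d9_2 (iv5 F433489) D223780 (iv4 D218550) (iv5 F413685) (iv4 F498384) F498385 F495190 (iv5 F433486) D223778 F521222 (iv4 D218551) F474468 (iv4 F392373) (iv5 F474541) F474540
theorem F521232 : act 7 n223780 = n222623 := d11_2 (iv7 F433488) D223780 F515233
def n223781 : Q := act 7 n204763
theorem D223781 : act 7 n204763 = n223781 := rfl
theorem F521233 : act 2 n223781 = n221516 := d4_1 D223781 (iv7 F509916) F509913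
theorem F521234 : act 3 n223781 = n204767 := d8_1 D223781 (iv7 D204767) (iv3 F433501)
theorem F521235 : act 4 n223781 = n214816 := d11_1 D223781 (iv7 F495893) (iv4 F480292)
theorem F521236 : act 5 n223781 = n219848 := d13_1 D223781 F500878 F480062
theorem F521237 : act 6 n223781 = n219849 := d14_1 D223781 F500882 (iv6 D204078) (iv7 F198790) D204763
theorem F521238 : act 1 n221447 = n223781 := d15_1 F509919 (iv7 D223781) (iv2 F509913)
theorem F521239 : act 1 n223781 = n221510 := d15_1 F521238 F509376 (iv2 F509052)
def n223782 : Q := act 7 n204766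
theorem D223782 : act 7 n204766 = n223782 := rfl
theorem F521240 : act 2 n223782 = n214624 := d4_1 D223782 (iv7 D214624) (iv2 F433503)
theorem F521241 : act 3 n223782 = n219848 := d8_1 D223782 F500878 (iv3 F480064)
theorem F521242 : act 5 n223782 = n204767 := d13_1 D223782 (iv7 D204767) D204766
theorem F521243 : act 6 n223782 = n219846 := d14_1 D223782 F500868 F481910 F277625 (iv6 F433504)
theorem F521244 : act 1 n214623 = n223782 := d15_1 D214623 (iv7 D223782) F433503
theorem F521245 : act 1 n223782 = n214622 := d15_1 F521244 F476093 (iv2 F476095)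
def n223783 : Q := act 1 n204776
theorem D223783 : act 1 n204776 = n223783 := rfl
theorem F521246 : act 1 n223783 = n204815 := d15_1 D223783 (iv7 D204815) (iv2 F433538)
theorem F521247 : act 7 n223783 = n204813 := d15_2 (iv0 F455943) D223783 (iv2 F455939)
theorem F521248 : act 5 n223783 = n217256 := d17_7 F520186 (iv5 D223580) (iv1 F520110) F520109 F430853 (iv5 F433539) D223783 (iv0 D217256) (iv4 F488136)
theorem F521249 : act 3 n223378 = n223783 := d19_19 (iv1 D223783) F433539 (iv4 F430853) (iv3 F520159) F520161 F520094 (iv4 D204546) (iv3 F432808) F503829 F503828 F491196 (iv3 D212448) (iv1 D146946) D146947 (iv4 F458068) F458065 (iv1 D203179) D203181 D223378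
theorem F521250 : act 2 n223783 = n204814 := d0_1 F521249 (iv3 F455956) F455955 (iv3 F438430) (iv2 F519150)
def n223784 : Q := act 7 n204783
theorem D223784 : act 7 n204783 = n223784 := rfl
theorem F521251 : act 2 n223784 = n209014 := d4_1 D223784 (iv7 F451849) (iv2 F433567)
theorem F521252 : act 3 n223784 = n216979 := d8_1 D223784 (iv7 D216979) (iv3 F433568)
theorem F521253 : act 5 n223784 = n217298 := d13_1 D223784 (iv7 D217298) (iv5 F433569)
theorem F521254 : act 6 n223784 = n207654 := d14_1 D223784 F445862 (iv6 F343226) F357228 D204783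
theorem F521255 : act 1 n209016 = n223784 := d15_1 F451855 (iv7 D223784) F433567
theorem F521256 : act 1 n223784 = n209015 := d15_1 F521255 (iv7 F520140) F520137
def n223785 : Q := act 6 n204785
theorem D223785 : act 6 n204785 = n223785 := rfl
theorem F521257 : act 2 n223785 = n204787 := d3_1 D223785 (iv6 D204787) (iv2 F433577)
theorem F521258 : act 3 n223785 = n215596 := d7_1 D223785 (iv6 D215596) (iv3 F433578)
theorem F521259 : act 4 n223785 = n211177 := d10_1 D223785 (iv6 D211177) F433581
theorem F521260 : act 5 n223785 = n213381 := d12_1 D223785 (iv6 D213381) (iv5 F433127) F433128 D204785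
theorem F521261 : act 7 n223785 = n220584 := d14_2 (iv7 F433579) D223785 (iv6 D220584) (iv7 F472000) F471997
theorem F521262 : act 0 n223785 = n219743 := d21_4 (iv5 D177809) (iv1 F351780) D204785 D223785 (iv6 D219743) F385881 (iv1 F184465) D117794 (iv6 F349514) F301778
theorem F521263 : act 0 n219654 = n223785 := d21_4 (iv5 F500087) F500088 F485245 D219654 (iv6 D223785) (iv5 D204785) F351779 (iv5 F384328) F385252 (iv1 F391752)
def n223786 : Q := act 3 n204786
theorem D223786 : act 3 n204786 = n223786 := rfl
theorem F521264 : act 2 n223786 = n220346 := d0_1 D223786 F503308 (iv2 F460471) (iv3 D211176) (iv2 F433582)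
theorem F521265 : act 4 n223786 = n204789 := d5_2 D204786 D223786 (iv3 D204789) (iv4 D124366) (iv3 F198895)
theorem F521266 : act 5 n223786 = n220345 := d6_2 F504286 D223786 F504290
theorem F521267 : act 6 n223786 = n217875 := d7_2 F462434 D223786 F499874
theorem F521268 : act 7 n223786 = n211178 := d8_2 (iv7 F433583) D223786 (iv3 D211178)
theorem F521269 : act 0 n223786 = n213994 := d19_4 F351761 D124362 D204786 D223786 F503280 F503279 (iv3 D211098) (iv1 F223762) (iv5 D66002) (iv4 D30882) D30881 F49334 (iv5 F82669) F82668 (iv3 F175149) (iv1 F389508) (iv5 D193338) F156288 F152437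
theorem F521270 : act 0 n211164 = n223786 := d20_4 D193495 (iv1 F404911) (iv4 F404912) (iv3 F460408) (iv3 D223786) (iv4 D204786) F387180 D219988 F501531 (iv1 D193494)
def n223787 : Q := act 1 n204791
theorem D223787 : act 1 n204791 = n223787 := rfl
theorem F521271 : act 1 n223787 = n223116 := d15_1 D223787 F517730 F476805
theorem F521272 : act 7 n223787 = n215835 := d15_2 (iv0 F455944) D223787 F481731
theorem F521273 : act 4 n223787 = n223783 := d18_7 (iv1 F482509) F482505 D216041 F482641 F429545 (iv4 F433599) D223787 F521246 (iv5 F458189)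
theorem F521274 : act 3 n223114 = n223787 := d20_9 F433599 D204792 F481785 F481784 F460394 F460391 F460860 F510864 (iv4 F517715) (iv1 D223787)
theorem F521275 : act 5 n215836 = n223787 := d21_6 F481690 F472390 F472388 (iv6 F481715) (iv1 F481717) (iv6 F481739) (iv1 D223787) (iv5 F485287) F485286 (iv1 F481692)
theorem F521276 : act 2 n223787 = n223117 := d2_1 F521275 F517733 F485578
def n223788 : Q := act 1 n204799
theorem D223788 : act 1 n204799 = n223788 := rfl
theorem F521277 : act 1 n223788 = n214074 := d15_1 D223788 F473352 (iv2 F433626)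
theorem F521278 : act 7 n223788 = n213195 := d15_2 (iv0 F455647) D223788 F469400
theorem F521279 : act 5 n223788 = n222248 := d17_7 (iv1 D221110) (iv5 D195397) D195395 D221109 F507262 F433628 D223788 (iv0 F513151) (iv4 F507268)
theorem F521280 : act 3 n213162 = n223788 := d19_19 (iv1 D223788) (iv5 F433628) (iv4 F507262) F507261 (iv1 F454559) (iv5 F459389) F459388 (iv3 F512111) F512115 F467608 F459407 F444905 (iv1 F357063) F357062 F333408 D131598 (iv1 F359901) (iv5 F457192) (iv4 F469280)
theorem F521281 : act 2 n223788 = n223200 := d0_1 F521280 (iv3 F518152) F476019 (iv3 F423098) (iv2 F469279)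
theorem F521282 : act 6 n223788 = n213161 := d7_2 D213162 F521280 (iv3 D213161)
def n223789 : Q := act 6 n204799
theorem D223789 : act 6 n204799 = n223789 := rfl
theorem F521283 : act 2 n223789 = n223123 := d3_1 D223789 F517762 (iv2 F433626)
theorem F521284 : act 3 n223789 = n204801 := d7_1 D223789 (iv6 D204801) D204799
theorem F521285 : act 5 n223789 = n213626 := d12_1 D223789 F471356 (iv5 F517702) (iv6 D223111) F433628
theorem F521286 : act 7 n223789 = n223124 := d14_2 (iv7 F433627) D223789 (iv6 F517765) (iv7 F517244) (iv6 F517248)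
theorem F521287 : act 0 n223789 = n223125 := d21_10 F517770 (iv1 D203624) F188685 (iv6 D85205) D85202 D178806 F336251 D202202 F433628 D223789
theorem F521288 : act 0 n221562 = n223789 := d21_4 F179782 (iv1 F165184) D196661 D221562 (iv6 D223789) (iv5 F433628) (iv1 F423227) D209884 F455248 (iv1 F401341)
def n223790 : Q := act 6 n204800
theorem D223790 : act 6 n204800 = n223790 := rfl
theorem F521289 : act 2 n223790 = n208523 := d3_1 D223790 F449728 (iv2 F433629)
theorem F521290 : act 3 n223790 = n223111 := d7_1 D223790 (iv6 D223111) (iv3 F433630)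
theorem F521291 : act 4 n223790 = n204832 := d10_1 D223790 (iv6 D204832) (iv4 F433631)
theorem F521292 : act 0 n223790 = n221560 := d21_4 (iv5 D214606) F304174 D204800 D223790 (iv6 D221560) F422271 F422270 (iv5 F424784) (iv6 F433614) (iv1 F476022)
theorem F521293 : act 0 n213969 = n223790 := d21_4 D196525 (iv1 F472926) (iv5 D213968) D213969 (iv6 D223790) (iv5 D204800) F356081 D214607 F476029 (iv1 D196524)
def n223791 : Q := act 7 n204801
theorem D223791 : act 7 n204801 = n223791 := rfl
theorem F521294 : act 2 n223791 = n209673 := d4_1 D223791 (iv7 F517214) F517216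
theorem F521295 : act 3 n223791 = n223124 := d8_1 D223791 (iv7 F521286) F521284
theorem F521296 : act 4 n223791 = n204803 := d11_1 D223791 (iv7 D204803) (iv4 F433635)
theorem F521297 : act 6 n223791 = n211615 := d14_1 D223791 F462390 F422727 F301790 D204801
theorem F521298 : act 1 n221491 = n223791 := d15_1 (iv0 F517215) (iv7 D223791) (iv2 F517216)
theorem F521299 : act 1 n223791 = n223046 := d15_1 F521298 F517417 F516935
def n223792 : Q := act 6 n204807
theorem D223792 : act 6 n204807 = n223792 := rfl
theorem F521300 : act 2 n223792 = n214609 := d3_1 D223792 (iv6 D214609) (iv2 F433656)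
theorem F521301 : act 3 n223792 = n204822 := d7_1 D223792 (iv6 D204822) (iv3 F433657)
theorem F521302 : act 4 n223792 = n204830 := d10_1 D223792 (iv6 D204830) (iv4 F433658)
theorem F521303 : act 5 n223792 = n211008 := d12_1 D223792 (iv6 D211008) (iv5 F429659) F429658 D204807
theorem F521304 : act 0 n223792 = n223695 := d21_4 F429001 (iv1 F429002) D204807 D223792 (iv6 D223695) (iv5 D204511) D204508 (iv5 F509437) F509439 (iv1 F433671)
theorem F521305 : act 1 n223792 = n223162 := d15_1 (iv0 F521304) (iv7 F520697) (iv2 F520775)
def n223793 : Q := act 0 n204810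
theorem D223793 : act 0 n204810 = n223793 := rfl
theorem F521306 : act 4 n223793 = n222228 := d18_1 D223793 (iv1 F513036) (iv4 D210127) D210128 (iv4 F519538) (iv0 F519541) F504710 (iv0 D212748) (iv5 F433675)
theorem F521307 : act 3 n223793 = n221859 := d20_5 F456252 (iv1 F337142) F337146 (iv3 F433674) D223793 F511098 (iv1 F457234) (iv4 F456243) F456240 (iv1 F456255)
theorem F521308 : act 6 n223793 = n221858 := d21_5 (iv5 D204807) (iv1 D124385) D124387 D204810 D223793 F511093 F452214 (iv5 F413620) (iv6 F474860) F474861
theorem F521309 : act 2 n219804 = n223793 := d15_3 (iv0 D223793) (iv0 F502980) F502979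
theorem F521310 : act 1 n223466 = n223793 := d15_0 (iv0 D223793) (iv7 F505272) (iv2 F519593)
def n223794 : Q := act 5 n204814
theorem D223794 : act 5 n204814 = n223794 := rfl
theorem F521311 : act 2 n223794 = n217256 := d2_1 D223794 (iv5 F521248) F521250
theorem F521312 : act 3 n223794 = n217207 := d6_1 D223794 F487937 F455956
theorem F521313 : act 4 n223794 = n223507 := d9_1 D223794 F519803 F478625 F263584 (iv4 F277530) D215835 F481734 F433682 F427388 (iv5 F366895) (iv4 F430823) F430824 D216711 (iv5 F517733) F517732
theorem F521314 : act 6 n223794 = n216640 := d12_2 F475227 D223794 (iv5 D216640) D216641 (iv5 F485309)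
theorem F521315 : act 7 n223794 = n217257 := d13_2 (iv7 F455945) D223794 (iv5 F488143)
theorem F521316 : act 1 n223794 = n215280 := d17_6 (iv1 F500695) (iv5 F500694) (iv1 F485581) (iv5 F517733) F517732 D223794 F479190 D220276 (iv4 F502991)
theorem F521317 : act 0 n223794 = n217258 := d18_0 F488148 F520416 F520412 (iv5 F488326) F481785 (iv0 F481787) F433679 D204814 D223794
def n223795 : Q := act 6 n204820
theorem D223795 : act 6 n204820 = n223795 := rfl
theorem F521318 : act 2 n223795 = n219864 := d3_1 D223795 F500939 F455864
theorem F521319 : act 3 n223795 = n204830 := d7_1 D223795 (iv6 D204830) (iv3 F433707)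
theorem F521320 : act 4 n223795 = n204821 := d10_1 D223795 (iv6 D204821) D204820
theorem F521321 : act 5 n223795 = n219863 := d12_1 D223795 F500935 (iv5 F404853) F304738 (iv5 F433708)
theorem F521322 : act 0 n223795 = n211094 := d21_4 F502811 (iv1 D204828) (iv5 F433708) D223795 F509194 (iv5 F514269) F514272 (iv5 F464429) (iv6 F464432) D220241
theorem F521323 : act 0 n219751 = n223795 := d21_4 D193259 (iv1 F500422) (iv5 D219750) D219751 (iv6 D223795) F433708 (iv1 F362471) D197742 (iv6 F406880) (iv1 D193257)
def n223796 : Q := act 1 n204826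
theorem D223796 : act 1 n204826 = n223796 := rfl
theorem F521324 : act 1 n223796 = n221532 := d15_1 D223796 (iv7 F509462) F464433
theorem F521325 : act 7 n223796 = n220105 := d15_2 (iv0 F433733) D223796 F502146
theorem F521326 : act 5 n223796 = n204831 := d17_7 (iv1 D198213) (iv5 F385723) F498988 F498986 F414265 D204826 D223796 F479067 F479061
theorem F521327 : act 4 n223796 = n220106 := d17_9 (iv1 F502153) F501267 F501195 (iv5 D196359) F164788 D107390 (iv0 F402112) D204826 D223796
theorem F521328 : act 3 n204853 = n223796 := d19_19 (iv1 D223796) (iv5 D204826) (iv4 F414265) F414264 F326439 (iv5 F356139) F356138 F356132 F93911 (iv5 F329523) F58438 F300690 (iv1 F43193) F44622 (iv4 F56358) D78263 D162805 (iv5 F360733) D204853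
theorem F521329 : act 6 n214182 = n223796 := d21_3 (iv5 F388931) (iv1 F387725) (iv5 F473882) (iv1 D223796) (iv6 F464406) F464407 F375425 F410694 F410692 F388933
theorem F521330 : act 2 n223796 = n214183 := d3_1 F521329 (iv6 D214183) D214182
def n223797 : Q := act 7 n204830
theorem D223797 : act 7 n204830 = n223797 := rfl
theorem F521331 : act 2 n223797 = n219846 := d4_1 D223797 F500868 F481908
theorem F521332 : act 5 n223797 = n219845 := d13_1 D223797 F500863 (iv5 F433749)
theorem F521333 : act 6 n223797 = n214624 := d14_1 D223797 (iv7 D214624) (iv6 D160400) (iv7 F302227) D204830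
theorem F521334 : act 1 n211535 = n223797 := d15_1 (iv0 F481911) (iv7 D223797) (iv2 F481908)
def n223798 : Q := act 1 n204888
theorem D223798 : act 1 n204888 = n223798 := rfl
theorem F521335 : act 1 n223798 = n222904 := d15_1 D223798 (iv7 F521061) F521057
theorem F521336 : act 5 n223798 = n222690 := d17_7 F417947 F417358 F416826 (iv5 F436969) (iv4 F445351) F445352 D223798 F515588 F441647
theorem F521337 : act 4 n223798 = n206813 := d17_9 (iv1 F446485) F446487 (iv1 D133095) (iv5 D62444) (iv4 F96577) D132123 (iv0 F445356) F445352 D223798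
theorem F521338 : act 3 n222902 = n223798 := d19_19 (iv1 D223798) (iv5 F445352) F445351 F436968 (iv1 F395419) F354342 (iv4 F268402) (iv3 D170814) (iv1 D81893) F341273 F49312 (iv3 F37849) F53458 (iv5 F95914) F95913 (iv3 F206988) F418754 D222763 (iv4 F516671)
theorem F521339 : act 6 n206511 = n223798 := d21_3 (iv5 F395547) (iv1 F429947) (iv5 F441144) (iv1 D223798) (iv6 D204888) F199313 (iv1 F199177) (iv5 F341955) F212914 (iv1 F358979)
theorem F521340 : act 2 n223798 = n206512 := d3_1 F521339 (iv6 D206512) D206511
def n223799 : Q := act 6 n204892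
theorem D223799 : act 6 n204892 = n223799 := rfl
theorem F521341 : act 2 n223799 = n215467 := d3_1 D223799 (iv6 D215467) (iv2 F434039)
theorem F521342 : act 3 n223799 = n212123 := d7_1 D223799 (iv6 D212123) (iv3 F434044)
theorem F521343 : act 4 n223799 = n204893 := d10_1 D223799 (iv6 D204893) D204892
theorem F521344 : act 5 n223799 = n218182 := d12_1 D223799 (iv6 F509346) F509345 F401013 (iv5 F434040)
theorem F521345 : act 7 n223799 = n218291 := d14_2 (iv7 F434041) D223799 (iv6 F509054) F509055 F401068
theorem F521346 : act 0 n218816 = n223799 := d21_4 (iv5 D217896) F372351 (iv5 F378942) D218816 (iv6 D223799) F434040 F330952 D214795 (iv6 F476892) (iv1 F491143)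
def n223800 : Q := act 6 n204897
theorem D223800 : act 6 n204897 = n223800 := rfl
theorem F521347 : act 2 n223800 = n215457 := d3_1 D223800 (iv6 D215457) (iv2 F434062)
theorem F521348 : act 3 n223800 = n221651 := d7_1 D223800 F510105 (iv3 F434988)
theorem F521349 : act 4 n223800 = n204898 := d10_1 D223800 (iv6 D204898) D204897
theorem F521350 : act 5 n223800 = n217868 := d12_1 D223800 F491009 F402325 (iv6 F346508) (iv5 F434064)
theorem F521351 : act 0 n211425 = n223800 := d21_4 (iv5 D221963) F444321 D197937 (iv6 F461484) (iv6 D223800) F434064 (iv1 F271718) (iv5 F271774) D215339 F511640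
def n223801 : Q := act 4 n204907
theorem D223801 : act 4 n204907 = n223801 := rfl
theorem F521352 : act 2 n223801 = n212728 := d1_1 D223801 (iv4 D212728) (iv2 F434112)
theorem F521353 : act 6 n223801 = n223187 := d10_2 F465786 D223801 F518078
theorem F521354 : act 7 n223801 = n213636 := d11_2 (iv7 F434114) D223801 (iv4 D213636)
theorem F521355 : act 5 n223801 = n223186 := d16_1 D223801 F518075 (iv5 D203600) F188673 (iv5 F95895) (iv4 F209451) D207327 F444365 (iv2 F434112)
theorem F521356 : act 0 n223801 = n223649 := d18_2 (iv1 F485917) D223801 (iv4 D223649) F432009 F388028 (iv0 F361625) F311564 (iv0 F386562) (iv5 F485914)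
theorem F521357 : act 1 n223801 = n223515 := d18_6 F348260 F132706 (iv1 F306030) (iv4 F307980) D204907 D223801 (iv4 D223515) (iv0 F448331) (iv5 D208201)
def n223802 : Q := act 6 n204935
theorem D223802 : act 6 n204935 = n223802 := rfl
theorem F521358 : act 2 n223802 = n204937 := d3_1 D223802 (iv6 D204937) (iv2 F434246)
theorem F521359 : act 3 n223802 = n219560 := d7_1 D223802 (iv6 D219560) (iv3 F434247)
theorem F521360 : act 4 n223802 = n215602 := d10_1 D223802 (iv6 F480724) (iv4 F434250)
theorem F521361 : act 5 n223802 = n219562 := d12_1 D223802 (iv6 D219562) (iv5 D191751) F366732 D204935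
theorem F521362 : act 7 n223802 = n218358 := d14_2 (iv7 F434248) D223802 (iv6 D218358) (iv7 F492651) F492650
def n223803 : Q := act 1 n204937
theorem D223803 : act 1 n204937 = n223803 := rfl
theorem F521363 : act 1 n223803 = n218358 := d15_1 D223803 (iv7 F521362) F521358
theorem F521364 : act 5 n223803 = n219634 := d18_9 F499774 (iv4 F493410) (iv1 F493413) F484711 (iv5 F373104) (iv4 F453705) (iv0 F511334) F511331 D223803
theorem F521365 : act 3 n213093 = n223803 := d20_3 (iv4 F474981) F474985 F468981 (iv1 D223803) F434256 (iv4 F407620) (iv1 F407623) (iv4 F373039) F373037 (iv1 F453763)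
theorem F521366 : act 6 n223803 = n213118 := d7_2 (iv6 F468984) F521365 (iv3 D213118)
def n223804 : Q := act 7 n204937
theorem D223804 : act 7 n204937 = n223804 := rfl
theorem F521367 : act 2 n223804 = n218358 := d4_1 D223804 (iv7 F521362) F521358
theorem F521368 : act 3 n223804 = n204938 := d8_1 D223804 (iv7 D204938) (iv3 F434256)
theorem F521369 : act 4 n223804 = n215601 := d11_1 D223804 (iv7 F511333) F511331
theorem F521370 : act 6 n223804 = n218354 := d14_1 D223804 F493473 (iv6 D216491) (iv7 F366804) D204937
def n223805 : Q := act 6 n204955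
theorem D223805 : act 6 n204955 = n223805 := rfl
theorem F521371 : act 3 n223805 = n212352 := d7_1 D223805 F465440 F444035
theorem F521372 : act 4 n223805 = n223662 := d10_1 D223805 (iv6 F520602) F459850
theorem F521373 : act 5 n223805 = n212351 := d12_1 D223805 (iv6 F470772) F470771 F469808 (iv5 F434334)
theorem F521374 : act 7 n223805 = n212540 := d14_2 F459918 D223805 F466338 F394239 (iv6 F459917)
theorem F521375 : act 0 n223805 = n206303 := d21_4 (iv5 D182139) D182136 (iv5 F434334) D223805 F440156 (iv5 F448167) (iv1 D208159) (iv5 F218649) (iv6 F393986) (iv1 F393987)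
theorem F521376 : act 0 n206306 = n223805 := d21_4 (iv5 D199054) (iv1 F220523) F373282 (iv6 F440171) (iv6 D223805) F434334 (iv1 F429606) (iv5 F460528) (iv6 D211188) F410492
def n223806 : Q := act 5 n204999
theorem D223806 : act 5 n204999 = n223806 := rfl
theorem F521377 : act 2 n223806 = n221905 := d2_1 D223806 (iv5 D221905) F434535
theorem F521378 : act 3 n223806 = n205016 := d6_1 D223806 (iv5 F450284) F450282
theorem F521379 : act 6 n223806 = n208804 := d12_2 (iv6 F434536) D223806 F450954 F472086 (iv5 D213786)
theorem F521380 : act 7 n223806 = n212724 := d13_2 (iv7 F434533) D223806 F467273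
theorem F521381 : act 4 n223806 = n206906 := d16_2 (iv4 F434534) D223806 F442569 F216015 (iv5 F448635) (iv4 F465863) F465864 F403097 F403098
theorem F521382 : act 0 n223806 = n221023 := d17_2 (iv1 F434532) D223806 (iv5 F511344) F511343 F434422 (iv0 D125095) (iv5 D58477) D58475 D125089
theorem F521383 : act 1 n223806 = n219671 := d17_6 F403151 (iv5 F403147) (iv1 F466017) F466015 (iv4 F434534) D223806 F499969 (iv0 F457242) F457241
def n223807 : Q := act 1 n205001
theorem D223807 : act 1 n205001 = n223807 := rfl
theorem F521384 : act 1 n223807 = n205008 := d15_1 D223807 F489464 F489461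
theorem F521385 : act 7 n223807 = n215998 := d15_2 (iv0 F450297) D223807 F482482
theorem F521386 : act 5 n223807 = n221684 := d17_7 F348485 D178907 (iv1 F352320) (iv5 D125085) D125084 D205001 D223807 F510284 F405107
theorem F521387 : act 4 n223807 = n207030 := d18_7 (iv1 D207025) F216015 (iv1 D134036) (iv4 F161907) D195253 (iv4 F434544) D223807 (iv0 F443041) F443020
theorem F521388 : act 3 n205018 = n223807 := d19_19 (iv1 D223807) (iv5 D205001) (iv4 D125084) D125083 F352323 (iv5 F217455) F323564 F127983 (iv1 F127963) F298377 (iv4 D75696) F113085 (iv1 D16838) (iv5 F299501) D26797 D55507 F312654 F311688 D205018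
theorem F521389 : act 6 n221951 = n223807 := d21_3 F511555 (iv1 F459478) (iv5 F511568) (iv1 D223807) (iv6 F434546) F420561 (iv1 F387658) F365259 F405835 D221947
theorem F521390 : act 2 n223807 = n221923 := d3_1 F521389 F511415 D221951
def n223808 : Q := act 5 n205039
theorem D223808 : act 5 n205039 = n223808 := rfl
theorem F521391 : act 2 n223808 = n205053 := d2_1 D223808 (iv5 D205053) (iv2 F434734)
theorem F521392 : act 4 n223808 = n221124 := d9_1 D223808 (iv5 F510818) F510817 (iv5 D214595) (iv4 F306770) (iv5 F345820) D205041 (iv5 F459769) (iv4 F507036) F507037 (iv4 D215270) (iv5 D171090) (iv4 F236443) (iv5 F341200) D205039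
theorem F521393 : act 6 n223808 = n221123 := d12_2 (iv6 F434735) D223808 F507337 (iv6 F477139) (iv5 F337712)
theorem F521394 : act 7 n223808 = n205049 := d13_2 (iv7 F434736) D223808 (iv5 D205049)
theorem F521395 : act 0 n223808 = n223205 := d17_2 F498737 D223808 F518181 (iv4 D214335) (iv5 D158345) (iv0 F344415) (iv5 F278246) F383314 D219405
theorem F521396 : act 1 n223808 = n223204 := d17_6 F353953 (iv5 F280552) (iv1 F353881) (iv5 F341200) D205039 D223808 F518175 (iv0 F478337) (iv4 D208915)
def n223809 : Q := act 4 n205042
theorem D223809 : act 4 n205042 = n223809 := rfl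
theorem F521397 : act 2 n223809 = n215055 := d1_1 D223809 (iv4 D215055) F434750
theorem F521398 : act 3 n223809 = n218697 := d5_1 D223809 F495211 F413759 F362491 (iv3 F434748)
theorem F521399 : act 6 n223809 = n212508 := d10_2 (iv6 F434749) D223809 (iv4 D212508)
theorem F521400 : act 7 n223809 = n214953 := d11_2 (iv7 F434752) D223809 F477608
theorem F521401 : act 0 n223809 = n214335 := d17_0 (iv5 F518181) (iv1 F518183) F459769 (iv4 D205041) F345820 F353883 (iv5 F322455) F434751 D223809
theorem F521402 : act 5 n223809 = n213701 := d18_4 (iv1 D178096) (iv4 F302659) D205042 D223809 (iv4 F511020) (iv0 F511022) (iv4 D204688) F404848 F404847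
theorem F521403 : act 1 n223809 = n215099 := d18_6 (iv1 F333745) (iv4 F389104) (iv1 F389107) (iv4 F357866) (iv5 F434747) D223809 F478334 (iv0 F409620) F409622
def n223810 : Q := act 5 n205047
theorem D223810 : act 5 n205047 = n223810 := rfl
theorem F521404 : act 2 n223810 = n212567 := d2_1 D223810 F474260 F474254
theorem F521405 : act 3 n223810 = n215894 := d6_1 D223810 F481962 F475954
theorem F521406 : act 4 n223810 = n221721 := d9_1 D223810 F510502 (iv4 D216046) (iv5 D179881) F304301 (iv5 F151594) D191393 F467794 F510507 F510510 (iv4 D216169) (iv5 F389105) F389104 (iv5 F474245) F474244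
theorem F521407 : act 7 n223810 = n215895 := d13_2 F498736 D223810 F498740
theorem F521408 : act 0 n223810 = n213701 := d17_2 (iv1 F434778) D223810 (iv5 F521402) (iv4 D223809) F434747 (iv0 D125358) (iv5 D58702) D58700 D125354
theorem F521409 : act 6 n223810 = n220254 := d21_3 (iv5 D205053) (iv1 F434778) D223810 F502879 (iv6 D211353) D211352 F461248 F224932 D202459 F477610
def n223811 : Q := act 5 n205048
theorem D223811 : act 5 n205048 = n223811 := rfl
theorem F521410 : act 2 n223811 = n221569 := d2_1 D223811 F509638 F441231
theorem F521411 : act 3 n223811 = n205049 := d6_1 D223811 (iv5 D205049) D205048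
theorem F521412 : act 4 n223811 = n222800 := d9_1 D223811 F516149 F510474 F436742 (iv4 F495942) F495943 (iv4 F506157) F506159 (iv4 F506467) (iv5 D220954) F395602 F379121 (iv4 F495956) F495957 F495132
theorem F521413 : act 6 n223811 = n221568 := d12_2 (iv6 F441230) D223811 F509634 F441210 D206537
theorem F521414 : act 1 n223811 = n213660 := d17_6 F414148 D198562 F495959 F495957 F495132 D223811 F471500 D220926 (iv4 F506309)
def n223812 : Q := act 4 n205049
theorem D223812 : act 4 n205049 = n223812 := rfl
theorem F521415 : act 2 n223812 = n221059 := d1_1 D223812 F507036 (iv2 F459771)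
theorem F521416 : act 3 n223812 = n210795 := d5_1 D223812 F458826 D222800 (iv4 F521412) F521411
theorem F521417 : act 6 n223812 = n210793 := d10_2 (iv6 F463425) D223812 F458819
theorem F521418 : act 7 n223812 = n221124 := d11_2 F521394 D223812 (iv4 F521392)
theorem F521419 : act 5 n223812 = n216559 := d16_1 D223812 (iv4 D216559) (iv5 D184476) (iv4 F330649) (iv5 D125355) D125354 D205053 (iv7 F459770) (iv2 F459771)
theorem F521420 : act 0 n223812 = n221958 := d18_2 F481956 D223812 F511610 F406014 (iv4 F406490) (iv0 F406494) (iv4 F477608) (iv0 F477611) D215891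
def n223813 : Q := act 4 n205053
theorem D223813 : act 4 n205053 = n223813 := rfl
theorem F521421 : act 2 n223813 = n221124 := d1_1 D223813 (iv4 F521392) F521391
theorem F521422 : act 3 n223813 = n211811 := d5_1 D223813 (iv4 D211811) F414066 F459753 (iv3 F459755)
theorem F521423 : act 5 n223813 = n223501 := d9_2 D205053 D223813 (iv4 D223501) (iv5 D203701) (iv4 F353902) (iv5 D125350) D125349 D205049 D223812 F521419 (iv4 D216559) (iv5 D184476) (iv4 F330649) (iv5 D125355) D125354
theorem F521424 : act 6 n223813 = n221039 := d10_2 F503522 D223813 F506932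
theorem F521425 : act 7 n223813 = n221059 := d11_2 F459770 D223813 F507036
theorem F521426 : act 1 n223813 = n221958 := d18_6 (iv1 F433151) F433147 (iv1 F201460) D125354 D205053 D223813 F511610 (iv0 F406015) F360094
def n223814 : Q := act 5 n205055
theorem D223814 : act 5 n205055 = n223814 := rfl
theorem F521427 : act 2 n223814 = n215354 := d2_1 D223814 (iv5 D215354) F434798
theorem F521428 : act 3 n223814 = n210063 := d6_1 D223814 F456006 (iv3 F434797)
theorem F521429 : act 4 n223814 = n223584 := d9_1 D223814 F520197 F510500 F404847 (iv4 F348180) (iv5 F340664) F348182 D191810 D219587 F499579 (iv4 D199606) (iv5 D111472) (iv4 F172955) F348176 (iv4 F434796)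
theorem F521430 : act 7 n223814 = n219583 := d13_2 (iv7 F434800) D223814 (iv5 D219583)
theorem F521431 : act 0 n223814 = n215313 := d17_2 D205055 D223814 (iv5 D215313) (iv4 D172368) (iv5 F322455) F434751 F434747 (iv0 D125358) D125360
theorem F521432 : act 1 n223814 = n219586 := d17_6 (iv1 F315278) D82609 (iv1 F348174) F348176 (iv4 F434796) D223814 F499574 F386352 F302450
def n223815 : Q := act 5 n205062
theorem D223815 : act 5 n205062 = n223815 := rfl
theorem F521433 : act 2 n223815 = n222640 := d2_1 D223815 F515327 (iv2 F434836)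
theorem F521434 : act 3 n223815 = n205383 := d6_1 D223815 (iv5 F436171) (iv3 F434837)
theorem F521435 : act 4 n223815 = n222661 := d9_1 D223815 F515427 F494164 F376664 (iv4 D175936) (iv5 F353633) (iv4 F353848) D205329 (iv4 F516694) (iv5 D222906) (iv4 D201694) (iv5 D114992) (iv4 F334786) (iv5 F336016) D205062
theorem F521436 : act 6 n223815 = n205381 := d12_2 (iv6 F434838) D223815 F436162 (iv6 D128718) D128717
theorem F521437 : act 7 n223815 = n209956 := d13_2 (iv7 F434839) D223815 F455521
theorem F521438 : act 0 n223815 = n205402 := d17_2 (iv1 F434841) D223815 F436259 (iv4 D176525) (iv5 D84164) F343354 (iv5 F202633) F202635 D200463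
theorem F521439 : act 1 n223815 = n222251 := d17_6 (iv1 F414843) F414839 (iv1 F272133) (iv5 F336016) D205062 D223815 (iv5 D222251) F434098 F434095
def n223816 : Q := act 4 n205064
theorem D223816 : act 4 n205064 = n223816 := rfl
theorem F521440 : act 2 n223816 = n211809 := d1_1 D223816 (iv4 F476310) F476306
theorem F521441 : act 3 n223816 = n218094 := d5_1 D223816 (iv4 F497392) F497391 (iv4 F496434) F496437
theorem F521442 : act 6 n223816 = n211801 := d10_2 F497397 D223816 (iv4 F497396)
theorem F521443 : act 7 n223816 = n223774 := d11_2 F474251 D223816 F521199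
theorem F521444 : act 5 n223816 = n211800 := d16_1 D223816 F463120 F413846 F326846 (iv5 F256538) (iv4 F256579) D205066 (iv7 F476309) F476306
theorem F521445 : act 0 n223816 = n214647 := d17_0 F476205 (iv1 F473939) (iv5 F497947) F497946 F476334 F258470 D164011 (iv0 F434845) D223816
theorem F521446 : act 1 n223816 = n214195 := d18_6 (iv1 F115550) (iv4 F119798) (iv1 F257782) (iv4 F201715) D205064 D223816 F473944 F253462 (iv5 D124300)
def n223817 : Q := act 4 n205066
theorem D223817 : act 4 n205066 = n223817 := rfl
theorem F521447 : act 2 n223817 = n223774 := d1_1 D223817 F521199 F474249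
theorem F521448 : act 5 n223817 = n211810 := d9_2 D205066 D223817 (iv4 F474882) (iv5 D214380) F250781 F248744 (iv4 F201715) D205064 D223816 F521444 F463120 F413846 F326846 (iv5 F256538) (iv4 F256579)
theorem F521449 : act 7 n223817 = n211809 := d11_2 F476309 D223817 (iv4 F476310)
theorem F521450 : act 0 n223817 = n214195 := d17_0 (iv5 D214195) F382412 (iv5 F497870) F497869 F476328 (iv0 D164000) D164003 (iv0 F434854) D223817
theorem F521451 : act 1 n223817 = n214647 := d18_6 F327522 (iv4 F173079) F327512 (iv4 F256579) D205066 D223817 (iv4 D214647) (iv0 D160458) (iv5 D76913)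
theorem F521452 : act 3 n223817 = n211821 := d19_3 (iv1 F201716) D205066 D223817 (iv1 F518757) (iv5 F518761) (iv4 F463333) F489317 (iv1 F489315) D218648 (iv4 F499730) (iv3 F514437) F514438 F486078 (iv4 F479047) (iv3 F479048) (iv1 F420098) (iv5 F412312) F412311 F349858
def n223818 : Q := act 6 n205066
theorem D223818 : act 6 n205066 = n223818 := rfl
theorem F521453 : act 3 n223818 = n220255 := d7_1 D223818 F502882 (iv3 F434853)
theorem F521454 : act 5 n223818 = n220254 := d12_1 D223818 (iv6 F521409) (iv5 D223810) (iv6 F434856) D205066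
def n223819 : Q := act 5 n205067
theorem D223819 : act 5 n205067 = n223819 := rfl
theorem F521455 : act 2 n223819 = n214723 := d2_1 D223819 F476545 F476127
theorem F521456 : act 4 n223819 = n214721 := d9_1 D223819 (iv5 D214721) (iv4 F258413) (iv5 F433471) (iv4 F476539) F476538 (iv4 F429393) (iv5 F476432) (iv4 D214696) (iv5 D160619) (iv4 F191540) (iv5 F253469) D214660 (iv5 F476261) F434858
theorem F521457 : act 6 n223819 = n218839 := d12_2 (iv6 F434859) D223819 F495865 (iv6 F466398) F466399
theorem F521458 : act 7 n223819 = n219248 := d13_2 F476313 D223819 F497929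
theorem F521459 : act 0 n223819 = n214944 := d17_2 (iv1 F476324) D223819 (iv5 D214944) (iv4 F380647) F380648 (iv0 F409001) F408159 (iv0 F409000) (iv4 F476320)
def n223820 : Q := act 1 n205069
theorem D223820 : act 1 n205069 = n223820 := rfl
theorem F521460 : act 5 n223820 = n214691 := d17_7 F496891 (iv5 F409008) F476607 (iv5 D214739) F254097 D205069 D223820 F477574 (iv4 F496888)
theorem F521461 : act 4 n223820 = n215119 := d17_9 F478457 (iv5 D214694) (iv1 D160617) D160619 D214696 F476432 (iv0 F429395) D205069 D223820
theorem F521462 : act 6 n221643 = n223820 := d21_3 (iv5 D196907) D196905 D221643 (iv1 D223820) (iv6 F434876) (iv5 D125431) D125428 D205064 (iv6 F497397) F497399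
theorem F521463 : act 2 n223820 = n215120 := d3_1 F521462 (iv6 F496214) (iv2 F510064)
def n223821 : Q := act 7 n205079
theorem D223821 : act 7 n205079 = n223821 := rfl
theorem F521464 : act 2 n223821 = n217017 := d4_1 D223821 F487004 (iv2 F434897)
theorem F521465 : act 4 n223821 = n216874 := d11_1 D223821 F486331 F434899
theorem F521466 : act 5 n223821 = n217016 := d13_1 D223821 F487000 (iv5 F434898)
theorem F521467 : act 1 n218597 = n223821 := d15_1 (iv0 F494680) (iv7 D223821) F434897
theorem F521468 : act 1 n223821 = n218856 := d15_1 F521467 (iv7 F499726) F499722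
def n223822 : Q := act 3 n205083
theorem D223822 : act 3 n205083 = n223822 := rfl
theorem F521469 : act 2 n223822 = n217284 := d0_1 D223822 (iv3 D217284) (iv2 F390579) (iv3 F403728) (iv2 F434908)
theorem F521470 : act 4 n223822 = n222236 := d5_2 F472614 D223822 F513081 F409349 D213893
theorem F521471 : act 5 n223822 = n223468 := d6_2 F452537 D223822 F519609
theorem F521472 : act 6 n223822 = n223329 := d7_2 F434907 D223822 F518885
theorem F521473 : act 7 n223822 = n220531 := d8_2 F434910 D223822 (iv3 F504220)
theorem F521474 : act 0 n223822 = n206534 := d20_4 F500177 F473305 F472614 D223822 (iv3 F480742) (iv4 D215607) F327862 (iv4 F354509) D193649 (iv1 F500180)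
theorem F521475 : act 0 n206535 = n223822 := d20_4 (iv4 D156379) (iv1 F312125) (iv4 F313704) (iv3 F441211) (iv3 D223822) (iv4 F472614) (iv1 F472615) (iv4 F448205) (iv3 D208167) (iv1 F245804)
def n223823 : Q := act 6 n205084
theorem D223823 : act 6 n205084 = n223823 := rfl
theorem F521476 : act 2 n223823 = n205085 := d3_1 D223823 (iv6 D205085) D205084
theorem F521477 : act 3 n223823 = n209701 := d7_1 D223823 F454671 F448170
theorem F521478 : act 4 n223823 = n211461 := d10_1 D223823 (iv6 F461645) (iv4 F434912)
theorem F521479 : act 5 n223823 = n219422 := d12_1 D223823 F498821 F454700 (iv6 F451198) (iv5 F434913)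
theorem F521480 : act 7 n223823 = n209704 := d14_2 (iv7 F434914) D223823 F454677 F377072 D192268
theorem F521481 : act 0 n223823 = n209703 := d21_10 (iv5 F503164) F503165 (iv5 F453074) (iv6 D209293) (iv1 F444903) F444900 (iv5 F444895) (iv1 F444896) (iv5 F434913) D223823
theorem F521482 : act 0 n205934 = n223823 := d21_4 D64005 D136101 (iv5 F386031) D205934 (iv6 D223823) F434913 F452516 (iv5 D209159) F391939 (iv1 D64003)
def n223824 : Q := act 5 n205089
theorem D223824 : act 5 n205089 = n223824 := rfl
theorem F521483 : act 2 n223824 = n209730 := d2_1 D223824 (iv5 F454776) F453667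
theorem F521484 : act 3 n223824 = n208664 := d6_1 D223824 F502907 (iv3 F502909)
theorem F521485 : act 6 n223824 = n218012 := d12_2 D205089 D223824 F491687 (iv6 F434938) (iv5 D205088)
theorem F521486 : act 7 n223824 = n209729 := d13_2 F494722 D223824 (iv5 F505365)
theorem F521487 : act 4 n223824 = n220782 := d16_2 F509186 D223824 (iv5 D220782) F451480 (iv5 D208938) (iv4 F451477) (iv5 F509200) (iv7 D221474) (iv2 F509184)
theorem F521488 : act 0 n223824 = n208697 := d17_2 (iv1 F453776) D223824 F450485 (iv4 F228354) D212093 (iv0 F464295) (iv5 D205123) (iv0 F473667) (iv4 F452482)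
theorem F521489 : act 1 n223824 = n209732 := d17_6 F513510 F520744 (iv1 D223689) (iv5 F509187) F509186 D223824 F454783 F454749 (iv4 F464428)
def n223825 : Q := act 0 n205104
theorem D223825 : act 0 n205104 = n223825 := rfl
theorem F521490 : act 4 n223825 = n206038 := d18_1 D223825 F438954 D212081 F464259 (iv4 D206500) F206989 D131966 D207557 (iv5 F445438)
theorem F521491 : act 1 n211958 = n223825 := d15_0 (iv0 D223825) (iv7 F509406) F509404
theorem F521492 : act 2 n221439 = n223825 := d1_3 F521490 F438952 D221439
theorem F521493 : act 7 n221441 = n223825 := d11_0 F521490 F438953 D221441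
def n223826 : Q := act 1 n205104
theorem D223826 : act 1 n205104 = n223826 := rfl
theorem F521494 : act 1 n223826 = n211958 := d15_1 D223826 F463747 (iv2 F434990)
theorem F521495 : act 7 n223826 = n221439 := d15_2 (iv0 D223825) D223826 F521492
theorem F521496 : act 4 n223826 = n211881 := d17_9 F463385 (iv5 D145303) (iv1 F165764) (iv5 F402263) (iv4 F445444) (iv5 D207559) D207557 (iv5 F445438) D223826
theorem F521497 : act 3 n218898 = n223826 := d19_19 (iv1 D223826) F445438 F445437 D207576 (iv1 F445524) (iv5 D132086) (iv4 F211610) F321346 (iv1 F327757) (iv5 F283776) F283777 (iv3 F288216) F288218 (iv5 F178165) F142166 D96974 F353221 D190739 (iv4 F496095)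
theorem F521498 : act 2 n221441 = n223826 := d1_3 F521496 F463383 D221441
def n223827 : Q := act 3 n205104
theorem D223827 : act 3 n205104 = n223827 := rfl
theorem F521499 : act 5 n223827 = n205792 := d6_2 (iv5 F445438) D223827 F445439
def n223828 : Q := act 0 n205105
theorem D223828 : act 0 n205105 = n223828 := rfl
theorem F521500 : act 5 n223828 = n213742 := d17_1 D223828 (iv1 F471879) F401118 (iv4 F385262) D209806 F469573 (iv5 F517570) (iv0 D223085) (iv4 F434991)
theorem F521501 : act 3 n223828 = n206185 := d20_5 F78166 D58745 D125480 D205105 D223828 F439626 (iv1 F205395) D128507 F346504 F164933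
theorem F521502 : act 6 n223828 = n205124 := d21_5 (iv5 F495832) F509034 F513689 (iv6 F513688) D223828 F464333 (iv1 F464331) F464327 (iv6 F510055) (iv1 F510056)
theorem F521503 : act 2 n205129 = n223828 := d15_3 (iv0 D223828) (iv0 F434994) D205129
theorem F521504 : act 1 n205128 = n223828 := d15_0 (iv0 D223828) F434993 F453912
theorem F521505 : act 7 n223828 = n205125 := d15_2 D205128 F521504 F435062
def n223829 : Q := act 4 n205107
theorem D223829 : act 4 n205107 = n223829 := rfl
theorem F521506 : act 2 n223829 = n211091 := d1_1 D223829 F460066 (iv2 F435005)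
theorem F521507 : act 3 n223829 = n222440 := d5_1 D223829 F514228 (iv3 D215895) (iv4 F419966) F435003
theorem F521508 : act 6 n223829 = n210944 := d10_2 F435004 D223829 F459403
theorem F521509 : act 7 n223829 = n221586 := d11_2 (iv7 F435001) D223829 F509724
def n223830 : Q := act 5 n205112
theorem D223830 : act 5 n205112 = n223830 := rfl
theorem F521510 : act 2 n223830 = n211111 := d2_1 D223830 F460145 (iv2 F435025)
theorem F521511 : act 3 n223830 = n206461 := d6_1 D223830 F440931 F435023
theorem F521512 : act 4 n223830 = n214956 := d9_1 D223830 F477622 F377526 F331428 (iv4 F470649) F470648 F413614 (iv5 F481057) (iv4 D215675) (iv5 D176841) F129375 D102874 D194177 (iv5 F392265) (iv4 F435022)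
theorem F521513 : act 6 n223830 = n211110 := d12_2 F435024 D223830 F460141 (iv6 D202689) (iv5 F401425)
theorem F521514 : act 7 n223830 = n215539 := d13_2 F482342 D223830 (iv5 F482338)
theorem F521515 : act 0 n223830 = n205133 := d17_2 (iv1 F435021) D223830 (iv5 F463456) F463459 F275320 F272151 F334746 F319235 (iv4 F206483)
theorem F521516 : act 1 n223830 = n215955 := d17_6 F362989 F256839 (iv1 F392263) (iv5 F392265) (iv4 F435022) D223830 (iv5 D215955) (iv0 F407656) (iv4 F407654)
def n223831 : Q := act 7 n205113
theorem D223831 : act 7 n205113 = n223831 := rfl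
theorem F521517 : act 2 n223831 = n206179 := d4_1 D223831 (iv7 F482348) F482344
theorem F521518 : act 3 n223831 = n205124 := d8_1 D223831 (iv7 D205124) (iv3 F435026)
theorem F521519 : act 4 n223831 = n206199 := d11_1 D223831 (iv7 F482335) F482333
theorem F521520 : act 6 n223831 = n206185 := d14_1 D223831 F439628 (iv6 F416500) F416501 D205113
theorem F521521 : act 1 n215542 = n223831 := d15_1 (iv0 F482350) (iv7 D223831) (iv2 F482344)
def n223832 : Q := act 5 n205115
theorem D223832 : act 5 n205115 = n223832 := rfl
theorem F521522 : act 2 n223832 = n209555 := d2_1 D223832 (iv5 D209555) F435036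
theorem F521523 : act 3 n223832 = n209159 := d6_1 D223832 (iv5 D209159) F435037
theorem F521524 : act 4 n223832 = n217854 := d9_1 D223832 F490939 (iv4 D211500) D211501 (iv4 F509147) (iv5 D221466) (iv4 F435027) (iv5 F435033) (iv4 F489513) F489514 (iv4 D211499) F430196 (iv4 F474336) F474337 F453646
theorem F521525 : act 7 n223832 = n209517 := d13_2 (iv7 F435035) D223832 (iv5 D209517)
theorem F521526 : act 0 n223832 = n209572 := d17_2 (iv1 F435034) D223832 F454189 F441215 (iv5 F435084) (iv0 D125512) (iv5 D58757) D58755 D125506
theorem F521527 : act 1 n223832 = n209568 := d17_6 F488274 (iv5 F453433) F474341 F474337 F453646 D223832 F454170 (iv0 F488273) F488272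
def n223833 : Q := act 5 n205121
theorem D223833 : act 5 n205121 = n223833 := rfl
theorem F521528 : act 2 n223833 = n221449 := d2_1 D223833 (iv5 D221449) F473672
theorem F521529 : act 3 n223833 = n219596 := d6_1 D223833 F499618 (iv3 F473673)
theorem F521530 : act 4 n223833 = n217930 := d16_2 (iv4 F473674) D223833 (iv5 F510164) F510163 D221663 (iv4 F510170) (iv5 F494704) F452483 D209455
theorem F521531 : act 0 n223833 = n212100 := d17_2 D205121 D223833 (iv5 D212100) D212099 (iv5 F464323) (iv0 D191859) (iv5 F157420) D193909 F473670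
theorem F521532 : act 1 n223833 = n212097 := d17_6 D136859 D209727 F487568 F487566 (iv4 F473674) D223833 (iv5 D212097) (iv0 D145314) F104291
theorem F521533 : act 6 n223833 = n208761 := d21_9 D208762 (iv1 F490896) (iv5 F490899) (iv6 F467054) (iv1 F513905) F513901 (iv5 D205123) D205121 D223833 (iv1 D208761)
def n223834 : Q := act 4 n205138
theorem D223834 : act 4 n205138 = n223834 := rfl
theorem F521534 : act 2 n223834 = n221438 := d1_1 D223834 (iv4 D221438) (iv2 F435102)
theorem F521535 : act 5 n223834 = n222845 := d9_2 D205138 D223834 (iv4 D222845) (iv5 D201448) (iv4 F365247) (iv5 D180393) (iv4 F198717) D204696 D223758 F521103 (iv4 D222844) (iv5 D201447) F400608 (iv5 D196406) (iv4 F201870)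
theorem F521536 : act 6 n223834 = n212080 := d10_2 (iv6 F435104) D223834 (iv4 D212080)
theorem F521537 : act 7 n223834 = n222000 := d11_2 (iv7 F435105) D223834 (iv4 D222000)
theorem F521538 : act 0 n223834 = n222929 := d17_0 (iv5 D222929) F421653 D222889 F516607 F429448 D214591 (iv5 F521095) F521093 D223834
def n223835 : Q := act 3 n205144
theorem D223835 : act 3 n205144 = n223835 := rfl
theorem F521539 : act 2 n223835 = n205250 := d0_1 D223835 (iv3 D205250) F435144 F435146 F435139
theorem F521540 : act 4 n223835 = n222653 := d5_2 (iv4 F435138) D223835 (iv3 D222653) (iv4 D200548) F366357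
theorem F521541 : act 7 n223835 = n205250 := d8_2 F435141 D223835 (iv3 D205250)
theorem F521542 : act 0 n223835 = n222651 := d20_4 F93156 D125688 (iv4 F435138) D223835 F515390 (iv4 F438906) (iv1 F445222) F445223 (iv3 F436152) (iv1 D125902)
theorem F521543 : act 0 n222651 = n223835 := d20_4 (iv4 F435549) (iv1 F438905) F438906 (iv3 F515390) (iv3 D223835) F435138 (iv1 F435195) F435191 F405972 F360409
theorem F521544 : act 6 n223835 = n222251 := d21_5 F416929 (iv1 F414890) (iv5 F416946) D222651 F521543 (iv5 D222251) (iv1 F468896) F468894 (iv6 D200541) D200539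
def n223836 : Q := act 5 n205144
theorem D223836 : act 5 n205144 = n223836 := rfl
theorem F521545 : act 2 n223836 = n205248 := d2_1 D223836 (iv5 D205248) F435139
theorem F521546 : act 7 n223836 = n205251 := d13_2 F435141 D223836 (iv5 D205251)
theorem F521547 : act 4 n223836 = n215019 := d16_2 (iv4 F435138) D223836 (iv5 F477921) F397791 (iv5 D109515) (iv4 F93079) (iv5 F202075) F202076 F366356
theorem F521548 : act 0 n223836 = n219323 := d17_2 D205144 D223836 (iv5 F498293) (iv4 D205361) (iv5 D125851) D125849 (iv5 F416870) (iv0 D200527) (iv4 F201893)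
theorem F521549 : act 1 n223836 = n212963 := d17_6 (iv1 F435785) (iv5 D205287) (iv1 F202188) (iv5 F366354) (iv4 F435138) D223836 F508421 F508418 (iv4 D205298)
theorem F521550 : act 6 n223836 = n207472 := d21_3 F342980 D205144 D223836 (iv1 D207472) (iv6 D131819) (iv5 D61854) (iv1 F46956) D29323 D61888 D131893
def n223837 : Q := act 6 n205144
theorem D223837 : act 6 n205144 = n223837 := rfl
theorem F521551 : act 2 n223837 = n205249 := d3_1 D223837 (iv6 D205249) F435139
theorem F521552 : act 3 n223837 = n222251 := d7_1 D223837 (iv6 F521544) (iv3 D223835)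
theorem F521553 : act 4 n223837 = n205281 := d10_1 D223837 (iv6 D205281) (iv4 F435138)
theorem F521554 : act 5 n223837 = n205307 := d12_1 D223837 (iv6 F519903) F519902 (iv6 F521550) (iv5 D223836)
theorem F521555 : act 7 n223837 = n205404 := d14_2 F435141 D223837 (iv6 D205404) (iv7 F405927) F405908
theorem F521556 : act 0 n223837 = n220948 := d21_4 (iv5 F508421) (iv1 F521549) (iv5 D223836) D223837 (iv6 D220948) (iv5 F395502) (iv1 D131890) D131891 F435846 (iv1 F508418)
theorem F521557 : act 1 n223837 = n206496 := d15_1 (iv0 F521556) F441087 (iv2 F506429)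
def n223838 : Q := act 5 n205145
theorem D223838 : act 5 n205145 = n223838 := rfl
theorem F521558 : act 2 n223838 = n205251 := d2_1 D223838 (iv5 D205251) F435144
theorem F521559 : act 3 n223838 = n205248 := d6_1 D223838 (iv5 D205248) (iv3 F435146)
theorem F521560 : act 4 n223838 = n212023 := d9_1 D223838 F463990 F229102 F110943 (iv4 F161091) (iv5 F366354) (iv4 F435138) D223836 F521547 (iv5 F477921) F397791 (iv5 D109515) (iv4 F93079) (iv5 F202075) F435145
theorem F521561 : act 6 n223838 = n209075 := d12_2 (iv6 F435147) D223838 (iv5 D209075) (iv6 F405919) (iv5 F405918)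
theorem F521562 : act 7 n223838 = n205248 := d13_2 (iv7 F435143) D223838 (iv5 D205248)
theorem F521563 : act 0 n223838 = n212963 := d17_2 (iv1 F435142) D223838 F508421 F508420 F437010 F408238 (iv5 F416882) F416880 F356045
theorem F521564 : act 1 n223838 = n219323 := d17_6 F435801 (iv5 D205290) (iv1 D125704) (iv5 F202075) F435145 D223838 (iv5 F498293) F436077 (iv4 F435453)
def n223839 : Q := act 6 n205150
theorem D223839 : act 6 n205150 = n223839 := rfl
theorem F521565 : act 2 n223839 = n205152 := d3_1 D223839 (iv6 D205152) (iv2 F435172)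
theorem F521566 : act 3 n223839 = n205271 := d7_1 D223839 (iv6 D205271) (iv3 F435173)
theorem F521567 : act 4 n223839 = n205421 := d10_1 D223839 (iv6 F436585) F436584
theorem F521568 : act 5 n223839 = n205267 := d12_1 D223839 (iv6 F435680) (iv5 F435179) (iv6 D205151) D205150
theorem F521569 : act 7 n223839 = n214905 := d14_2 (iv7 F435174) D223839 F477368 F436151 (iv6 D205227)
theorem F521570 : act 0 n223839 = n205273 := d21_4 (iv5 D125614) (iv1 F201907) D205150 D223839 (iv6 F435706) F398101 F397937 D195764 (iv6 F398077) F360417
theorem F521571 : act 0 n205416 = n223839 := d21_4 (iv5 F483773) F483775 F436306 F436309 (iv6 D223839) (iv5 D205150) (iv1 F201909) D125619 D205223 (iv1 F435955)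
def n223840 : Q := act 6 n205162
theorem D223840 : act 6 n205162 = n223840 := rfl
theorem F521572 : act 2 n223840 = n205305 := d3_1 D223840 (iv6 D205305) F435235
theorem F521573 : act 3 n223840 = n205179 := d7_1 D223840 (iv6 F435323) (iv3 F435237)
theorem F521574 : act 4 n223840 = n205324 := d10_1 D223840 (iv6 F435937) (iv4 F435234)
theorem F521575 : act 5 n223840 = n221231 := d12_1 D223840 F507858 (iv5 D219390) F383181 F435236
theorem F521576 : act 7 n223840 = n205299 := d14_2 (iv7 F435233) D223840 (iv6 D205299) F202223 (iv6 F366350)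
theorem F521577 : act 0 n223840 = n205564 := d21_4 F506432 F397274 F435236 D223840 F508423 (iv5 F508421) (iv1 F521549) (iv5 D223836) D223837 F521556
theorem F521578 : act 1 n223840 = n205567 := d15_1 (iv0 F521577) (iv7 F507906) F507903
def n223841 : Q := act 4 n205169
theorem D223841 : act 4 n205169 = n223841 := rfl
theorem F521579 : act 6 n223841 = n205303 := d10_2 F435273 D223841 (iv4 D205303)
theorem F521580 : act 5 n223841 = n220999 := d16_1 D223841 (iv4 D220999) (iv5 D195203) F347783 (iv5 F330672) (iv4 F281208) (iv5 F435870) (iv7 F508433) F508430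
theorem F521581 : act 0 n223841 = n205213 := d17_0 F435465 F428290 (iv5 F494466) (iv4 F513162) (iv5 D222251) F434098 (iv5 F515339) (iv0 F515344) D223841
def n223842 : Q := act 6 n205172
theorem D223842 : act 6 n205172 = n223842 := rfl
theorem F521582 : act 2 n223842 = n206529 := d3_1 D223842 (iv6 D206529) (iv2 F435287)
theorem F521583 : act 4 n223842 = n214481 := d10_1 D223842 (iv6 D214481) (iv4 F435288)
theorem F521584 : act 5 n223842 = n214919 := d12_1 D223842 F477435 F455428 (iv6 D205173) D205172
theorem F521585 : act 7 n223842 = n208104 := d14_2 F445097 D223842 F447884 F214457 D207476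
theorem F521586 : act 0 n223842 = n208103 := d21_4 (iv5 D200753) F201970 D205172 D223842 (iv6 F447880) (iv5 D195249) (iv1 F396432) (iv5 F396437) (iv6 F365421) F417783
theorem F521587 : act 0 n208102 = n223842 := d21_4 F211526 (iv1 F164165) D196061 (iv6 F447874) (iv6 D223842) (iv5 D205172) F362949 (iv5 F419142) (iv6 F419144) F211958
def n223843 : Q := act 4 n205180
theorem D223843 : act 4 n205180 = n223843 := rfl
theorem F521588 : act 2 n223843 = n219091 := d1_1 D223843 (iv4 D219091) (iv2 F435324)
theorem F521589 : act 3 n223843 = n205739 := d5_1 D223843 (iv4 F437708) F484152 (iv4 F498645) F498644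
theorem F521590 : act 5 n223843 = n207040 := d9_2 D205180 D223843 F443077 F288367 (iv4 F358282) F358283 F281466 (iv5 F417427) (iv4 F515537) F515538 (iv4 D221681) (iv5 D197057) (iv4 F358288) D196105 (iv4 F399431)
theorem F521591 : act 6 n223843 = n214480 := d10_2 F515546 D223843 (iv4 F515544)
theorem F521592 : act 7 n223843 = n219090 := d11_2 (iv7 F435325) D223843 (iv4 D219090)
theorem F521593 : act 0 n223843 = n206659 := d17_0 (iv5 F475404) (iv1 F475407) (iv5 F497150) (iv4 D219095) (iv5 F381095) (iv0 F327651) (iv5 F399322) (iv0 F435326) D223843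
theorem F521594 : act 1 n223843 = n214488 := d18_6 F514436 F514432 F436826 (iv4 F399431) D205180 D223843 F475413 (iv0 F417395) (iv5 F417590)
def n223844 : Q := act 1 n205190
theorem D223844 : act 1 n205190 = n223844 := rfl
theorem F521595 : act 1 n223844 = n205412 := d15_1 D223844 F436294 (iv2 F435348)
theorem F521596 : act 7 n223844 = n205332 := d15_2 (iv0 F515326) D223844 (iv2 F515321)
theorem F521597 : act 5 n223844 = n217687 := d17_7 (iv1 D106240) (iv5 D49098) (iv1 F77490) D106231 D195721 F435347 D223844 F490120 (iv4 D195736)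
theorem F521598 : act 4 n223844 = n205332 := d17_9 (iv1 F435951) F398105 (iv1 F397954) D221246 (iv4 F507961) F507960 F490233 F435347 D223844
theorem F521599 : act 2 n205411 = n223844 := d1_3 F521598 (iv2 F515321) F515322
theorem F521600 : act 6 n205331 = n223844 := d10_0 F521598 (iv6 D205332) D205331
def n223845 : Q := act 5 n205192
theorem D223845 : act 5 n205192 = n223845 := rfl
theorem F521601 : act 2 n223845 = n205194 := d2_1 D223845 (iv5 D205194) (iv2 F435355)
theorem F521602 : act 3 n223845 = n217768 := d6_1 D223845 (iv5 F513294) F513292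
theorem F521603 : act 6 n223845 = n217767 := d12_2 D205192 D223845 (iv5 F511735) (iv6 D221978) (iv5 F406190)
theorem F521604 : act 7 n223845 = n214130 := d13_2 F474368 D223845 (iv5 F474372)
theorem F521605 : act 0 n223845 = n214133 := d17_2 (iv1 F474380) D223845 F473634 F280908 F476736 F476733 F382451 F282840 (iv4 F474376)
theorem F521606 : act 1 n223845 = n214132 := d17_6 F435832 (iv5 F506048) F506051 (iv5 D205230) (iv4 F435356) D223845 F473628 F407334 F365123
theorem F521607 : act 4 n223845 = n222473 := d18_5 (iv1 F476716) (iv4 F435531) (iv1 D205229) (iv4 F435356) D223845 (iv0 D222473) F413302 (iv0 F434389) (iv5 F476712)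
def n223846 : Q := act 0 n205213
theorem D223846 : act 0 n205213 = n223846 := rfl
theorem F521608 : act 5 n223846 = n218517 := d17_1 D223846 (iv1 F515400) (iv5 D222654) (iv4 D200548) (iv5 D113226) F93258 D126085 (iv0 F362996) D205213
theorem F521609 : act 4 n223846 = n205304 := d18_1 D223846 F436115 (iv4 F515365) F515366 F494558 F392361 (iv4 F392380) (iv0 F428290) (iv5 F435465)
def n223847 : Q := act 6 n205213
theorem D223847 : act 6 n205213 = n223847 := rfl
theorem F521610 : act 3 n223847 = n223841 := d7_1 D223847 F521579 F435867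
theorem F521611 : act 4 n223847 = n205214 := d10_1 D223847 (iv6 D205214) D205213
theorem F521612 : act 5 n223847 = n209912 := d12_1 D223847 F455338 F376425 (iv6 F428288) (iv5 F435465)
def n223848 : Q := act 1 n205214
theorem D223848 : act 1 n205214 = n223848 := rfl
theorem F521613 : act 1 n223848 = n209952 := d15_1 D223848 (iv7 F499061) F499059
theorem F521614 : act 7 n223848 = n210097 := d15_2 (iv0 F435468) D223848 F456143
theorem F521615 : act 5 n223848 = n209264 := d17_7 (iv1 F386015) F157832 (iv1 F153749) (iv5 F367709) F367711 (iv5 F435467) D223848 F452963 F391955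
theorem F521616 : act 4 n223848 = n210084 := d17_9 F515713 F515710 F483122 F483123 (iv4 D209955) (iv5 D137170) D137169 (iv5 F435467) D223848
theorem F521617 : act 3 n221245 = n223848 := d19_19 (iv1 D223848) F435467 (iv4 F367711) F367708 F360510 (iv5 F204037) F360502 (iv3 F360501) (iv1 F396590) (iv5 F403878) (iv4 F456833) F470932 (iv1 D213540) F366844 (iv4 F484169) F484168 (iv1 F456142) (iv5 F507951) F507952
theorem F521618 : act 2 n209265 = n223848 := d16_9 F521616 (iv5 D210084) (iv4 D137494) (iv5 D64628) F48847 D30423 D64658 D137556 (iv7 F452964)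
def n223849 : Q := act 0 n205216
theorem D223849 : act 0 n205216 = n223849 := rfl
theorem F521619 : act 5 n223849 = n222671 := d17_1 D223849 (iv1 F515482) (iv5 F445761) (iv4 F445764) F445765 (iv0 D195708) D195710 (iv0 F442522) F442521
theorem F521620 : act 3 n223849 = n205525 := d20_5 (iv4 F418041) (iv1 F418042) F367711 (iv3 F435472) D223849 F436837 (iv1 D182326) (iv4 F201663) F418009 (iv1 F418017)
theorem F521621 : act 6 n223849 = n205523 := d21_5 F176855 (iv1 F92991) D125610 (iv6 F435473) D223849 (iv5 D205523) F397850 (iv5 F439203) (iv6 D206089) (iv1 F204690)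
theorem F521622 : act 2 n221572 = n223849 := d15_3 (iv0 D223849) (iv0 F441786) (iv7 F509653)
theorem F521623 : act 1 n222684 = n223849 := d15_0 (iv0 D223849) (iv7 F497141) (iv2 F515542)
theorem F521624 : act 7 n223849 = n216298 := d15_2 F515547 F521623 F483702
def n223850 : Q := act 4 n205230
theorem D223850 : act 4 n205230 = n223850 := rfl
theorem F521625 : act 2 n223850 = n205243 := d1_1 D223850 (iv4 D205243) (iv2 F435532)
theorem F521626 : act 3 n223850 = n215648 := d5_1 D223850 F480949 F373751 (iv4 F370267) (iv3 F435533)
theorem F521627 : act 6 n223850 = n206007 := d10_2 F513244 D223850 (iv4 F513242)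
theorem F521628 : act 7 n223850 = n217495 := d11_2 F477432 D223850 F489165
theorem F521629 : act 0 n223850 = n219168 := d17_0 (iv5 D219168) (iv1 D190885) (iv5 F367205) (iv4 F380443) F380444 (iv0 F479035) F479033 (iv0 F476727) D223850
theorem F521630 : act 1 n223850 = n215655 := d18_6 D161007 (iv4 F474376) (iv1 F474380) F435356 D205230 D223850 F480981 (iv0 D214766) (iv5 D161010)
def n223851 : Q := act 0 n205245
theorem D223851 : act 0 n205245 = n223851 := rfl
theorem F521631 : act 5 n223851 = n221572 := d17_1 D223851 F509654 F497140 F435475 F435309 F342908 (iv5 F93159) D125914 (iv4 F435584)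
theorem F521632 : act 4 n223851 = n205276 := d18_1 D223851 (iv1 D205276) F435334 (iv5 F445734) F451528 (iv0 D208950) F217851 D196124 (iv5 F435585)
theorem F521633 : act 3 n223851 = n206495 := d20_5 F395504 (iv1 D195036) (iv4 F202078) (iv3 F435583) D223851 F441080 F435122 F362565 F362929 (iv1 F202415)
theorem F521634 : act 6 n223851 = n206496 := d21_5 (iv5 D205290) (iv1 D125704) (iv5 F202075) D205245 D223851 F441088 (iv1 F507601) F507603 (iv6 F435454) F435801
theorem F521635 : act 2 n222671 = n223851 := d15_3 (iv0 D223851) (iv0 F435587) D222671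
theorem F521636 : act 1 n205403 = n223851 := d15_0 (iv0 D223851) (iv7 F435586) (iv2 F436265)
theorem F521637 : act 7 n223851 = n220946 := d15_2 (iv0 F436268) F521636 F506417
def n223852 : Q := act 4 n205250
theorem D223852 : act 4 n205250 = n223852 := rfl
theorem F521638 : act 2 n223852 = n222653 := d1_1 D223852 (iv4 F521540) F521539
theorem F521639 : act 3 n223852 = n222644 := d5_1 D223852 (iv4 D222644) F435189 F435186 D205250
theorem F521640 : act 6 n223852 = n222652 := d10_2 (iv6 F435608) D223852 F515393
theorem F521641 : act 7 n223852 = n222653 := d11_2 F521541 D223852 (iv4 F521540)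
theorem F521642 : act 0 n223852 = n222653 := d20_7 (iv4 F356045) (iv1 F416880) F416883 (iv3 F435149) (iv1 F435153) D205250 D223852 (iv4 F521540) (iv3 D223835) (iv1 F435140)
theorem F521643 : act 5 n218579 = n223852 := d19_1 F504983 (iv4 D223852) (iv3 D205250) (iv1 D125634) D125635 F342969 F342975 (iv1 D142486) D142488 (iv4 F248516) (iv3 F320153) F320151 (iv5 F225423) F330335 D201250 F419666 F187318 (iv4 F392377) D220685
theorem F521644 : act 0 n222653 = n223852 := d20_1 F521540 (iv4 D223852) (iv3 D205250) (iv1 D125634) (iv3 F202072) (iv4 F435549) (iv1 F438905) F438906 (iv3 F515390) F521543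
def n223853 : Q := act 5 n205250
theorem D223853 : act 5 n205250 = n223853 := rfl
theorem F521645 : act 3 n223853 = n205251 := d6_1 D223853 (iv5 D205251) D205250
theorem F521646 : act 0 n219307 = n223853 := d19_0 (iv5 D223853) D223852 F521639 F515353 F436262 F392360 F363540 (iv1 F398281) (iv5 D195809) F318198 F84798 (iv1 F181668) (iv5 D53681) D53680 D116469 (iv1 F206736) D206385 (iv4 F440536) (iv3 F498230)
theorem F521647 : act 1 n219307 = n223853 := d15_0 (iv0 F521646) F498231 (iv2 F498229)
def n223854 : Q := act 6 n205297
theorem D223854 : act 6 n205297 = n223854 := rfl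
theorem F521648 : act 2 n223854 = n205299 := d3_1 D223854 (iv6 D205299) D205297
theorem F521649 : act 3 n223854 = n219474 := d7_1 D223854 F499060 (iv3 F435838)
theorem F521650 : act 4 n223854 = n207507 := d10_1 D223854 (iv6 F508427) F508425
theorem F521651 : act 5 n223854 = n219473 := d12_1 D223854 (iv6 D219473) F383805 (iv6 F382093) (iv5 F435839)
theorem F521652 : act 7 n223854 = n205305 := d14_2 (iv7 F435840) D223854 (iv6 D205305) F399169 (iv6 F435454)
theorem F521653 : act 0 n223854 = n205567 := d21_4 (iv5 F366352) (iv1 F382096) (iv5 F435839) D223854 F437018 (iv5 F508544) (iv1 F508546) (iv5 F435585) (iv6 D205245) F366358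
theorem F521654 : act 0 n205564 = n223854 := d21_4 D223838 F521563 F508421 (iv6 F508423) (iv6 D223854) F435839 (iv1 F382095) (iv5 F435192) F435193 (iv1 F435142)
def n223855 : Q := act 4 n205302
theorem D223855 : act 4 n205302 = n223855 := rfl
theorem F521655 : act 2 n223855 = n205303 := d1_1 D223855 (iv4 D205303) D205302
theorem F521656 : act 5 n223855 = n220678 := d9_2 (iv5 F435863) D223855 F504951 (iv5 F409874) (iv4 D198917) (iv5 D110621) (iv4 F92985) D125607 D205213 F435465 (iv4 D203435) (iv5 D119062) F310813 D69152 D147555
theorem F521657 : act 7 n223855 = n220686 := d11_2 (iv7 F435864) D223855 F504985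
theorem F521658 : act 0 n223855 = n223841 := d17_0 F521580 F506730 F465962 F416964 F176418 F176409 D200538 F435866 D223855
theorem F521659 : act 1 n223855 = n223846 := d18_6 (iv1 F434098) (iv4 D198916) (iv1 F171206) D147555 (iv5 F435863) D223855 F521609 (iv0 F515342) F515339
def n223856 : Q := act 0 n205303
theorem D223856 : act 0 n205303 = n223856 := rfl
theorem F521660 : act 5 n223856 = n220612 := d17_1 D223856 F504628 (iv5 F515351) (iv4 D222644) (iv5 D200537) (iv0 D113217) D113220 (iv0 F364296) D205303
theorem F521661 : act 4 n223856 = n221333 := d18_1 D223856 (iv1 F515384) F515380 (iv5 D220689) (iv4 D194211) (iv0 D102978) (iv4 F158256) D194208 (iv5 F435869)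
theorem F521662 : act 3 n223856 = n220613 := d20_5 (iv4 D222645) F416928 D205213 (iv3 F435867) D223856 F504631 (iv1 F418052) D222713 F515709 (iv1 F515360)
theorem F521663 : act 6 n223856 = n223855 := d21_5 D222654 (iv1 F515401) (iv5 F521580) F521579 D223856 F521656 (iv1 D220678) (iv5 F436262) (iv6 F436264) (iv1 F465964)
theorem F521664 : act 1 n220686 = n223856 := d15_0 (iv0 D223856) F435868 (iv2 F504984)
theorem F521665 : act 2 n223841 = n223856 := d3_3 F521663 F521655 (iv6 F521579)
theorem F521666 : act 7 n223846 = n223856 := d15_2 (iv0 F521658) F521659 (iv2 F521665)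
def n223857 : Q := act 1 n205303
theorem D223857 : act 1 n205303 = n223857 := rfl
theorem F521667 : act 1 n223857 = n220686 := d15_1 D223857 (iv7 F521657) F521655
theorem F521668 : act 7 n223857 = n223841 := d15_2 (iv0 D223856) D223857 F521665
theorem F521669 : act 5 n223857 = n222664 := d17_7 (iv1 F466680) (iv5 D212610) F347777 F376816 (iv4 F392379) (iv5 F435869) D223857 F515442 F494481
theorem F521670 : act 4 n223857 = n222633 := d17_9 F515285 F435965 F416831 (iv5 F504988) (iv4 D220687) (iv5 D194209) D194208 (iv5 F435869) D223857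
theorem F521671 : act 2 n223846 = n223857 := d1_3 F521670 F515281 (iv4 F521609)
def n223858 : Q := act 2 n205315
theorem D223858 : act 2 n205315 = n223858 := rfl
theorem F521672 : act 3 n223858 = n211146 := d0_2 D205315 D223858 (iv2 F460320) (iv3 D205577) F203158
theorem F521673 : act 4 n223858 = n220786 := d1_2 F436726 D223858 F505528
theorem F521674 : act 5 n223858 = n217453 := d2_2 (iv5 F435908) D223858 F488947
theorem F521675 : act 6 n223858 = n217455 := d3_2 F445463 D223858 F488951
theorem F521676 : act 7 n223858 = n221601 := d4_2 (iv7 F435909) D223858 F509801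
theorem F521677 : act 1 n223858 = n220811 := d15_0 (iv0 F505657) (iv7 F435909) D223858
theorem F521678 : act 1 n220415 = n223858 := d15_0 F521677 F505656 (iv2 F503667)
def n223859 : Q := act 0 n205368
theorem D223859 : act 0 n205368 = n223859 := rfl
theorem F521679 : act 5 n223859 = n205834 := d17_3 F508009 F508005 D223859 (iv4 D205834) (iv5 D126653) D126651 F418116 F418120 D206026
theorem F521680 : act 4 n223859 = n207607 := d18_1 D223859 F512684 F512681 (iv5 F433982) (iv4 F438046) F438045 D205846 (iv0 F508008) F508005
theorem F521681 : act 6 n223859 = n207607 := d21_5 (iv5 D125797) (iv1 F176380) D200532 (iv6 F436104) D223859 (iv5 D207607) F436238 (iv5 D205396) (iv6 D125900) (iv1 F416842)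
theorem F521682 : act 1 n221308 = n223859 := d15_0 (iv0 D223859) (iv7 F436600) (iv2 F508289)
theorem F521683 : act 2 n222643 = n223859 := d3_3 F521681 (iv2 F508685) (iv6 F515348)
theorem F521684 : act 7 n206013 = n223859 := d14_0 F521681 (iv7 F498232) (iv6 F507925) F507957 F507953
theorem F521685 : act 3 n223859 = n209265 := d8_1 F521684 F452964 (iv3 F438835)
def n223860 : Q := act 1 n205368
theorem D223860 : act 1 n205368 = n223860 := rfl
theorem F521686 : act 1 n223860 = n221308 := d15_1 D223860 F508293 (iv2 F436103)
theorem F521687 : act 7 n223860 = n222643 := d15_2 (iv0 D223859) D223860 F521683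
theorem F521688 : act 5 n223860 = n206005 := d17_7 D132505 (iv5 F364107) F438017 (iv5 F447117) (iv4 F508004) F508005 D223860 F438802 F211339
theorem F521689 : act 3 n221246 = n223860 := d19_19 (iv1 D223860) (iv5 F508005) F508004 F447116 (iv1 F437968) (iv5 D126793) (iv4 F204021) F204020 (iv1 F222570) (iv5 F410377) (iv4 F419016) F419015 (iv1 F250897) (iv5 F418298) (iv4 F435353) F435350 (iv1 F490233) (iv5 F507960) F507961
theorem F521690 : act 6 n221246 = n223860 := d21_3 F398105 (iv1 F397954) D221246 (iv1 D223860) F436104 (iv5 D200532) (iv1 F176382) D125802 D205332 (iv1 F435951)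
theorem F521691 : act 2 n223860 = n206013 := d3_1 F521690 (iv6 F507953) (iv2 F507956)
def n223861 : Q := act 6 n205373
theorem D223861 : act 6 n205373 = n223861 := rfl
theorem F521692 : act 2 n223861 = n205380 := d3_1 D223861 (iv6 D205380) F436128
theorem F521693 : act 3 n223861 = n209214 := d7_1 D223861 (iv6 F455486) F436130
theorem F521694 : act 4 n223861 = n205598 := d10_1 D223861 (iv6 D205598) (iv4 F436126)
theorem F521695 : act 5 n223861 = n205846 := d12_1 D223861 F438121 F437124 (iv6 D205589) (iv5 F436125)
theorem F521696 : act 7 n223861 = n206028 := d14_2 F436129 D223861 F438904 (iv7 F436173) (iv6 D205383)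
theorem F521697 : act 0 n223861 = n206494 := d21_4 F436086 F228495 (iv5 F436125) D223861 F441077 (iv5 D198097) F169124 D198288 F407484 (iv1 F436088)
theorem F521698 : act 0 n205376 = n223861 := d21_4 (iv5 D182515) D182513 D216293 F483685 (iv6 D223861) F436125 (iv1 F436902) F436899 F483690 (iv1 D216295)
def n223862 : Q := act 1 n205376
theorem D223862 : act 1 n205376 = n223862 := rfl
theorem F521699 : act 1 n223862 = n206494 := d15_1 D223862 (iv7 F445220) F445218
theorem F521700 : act 7 n223862 = n205380 := d15_2 (iv0 F521698) D223862 (iv2 F521692)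
theorem F521701 : act 5 n223862 = n206026 := d17_7 F437975 F437973 F437964 F437960 (iv4 F438831) F438834 D223862 F438897 F433993
theorem F521702 : act 4 n223862 = n219342 := d17_9 F498375 (iv5 F477418) F477420 D219308 F498233 (iv5 D206013) D206012 F438834 D223862
theorem F521703 : act 3 n222639 = n223862 := d19_19 (iv1 D223862) (iv5 F438834) F438831 (iv3 F325319) F325317 (iv5 F345628) F203734 F179847 (iv1 F179846) (iv5 F410339) (iv4 F444009) F444008 (iv1 D201150) (iv5 D114006) F377849 (iv3 F377848) (iv1 F398036) (iv5 F436286) (iv4 F515322)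
theorem F521704 : act 6 n222380 = n223862 := d21_3 F436044 F412154 D222380 (iv1 D223862) (iv6 F483685) (iv5 D216293) F418050 (iv5 F435970) (iv6 F514739) (iv1 F514741)
theorem F521705 : act 2 n223862 = n206028 := d3_1 F521704 F438904 (iv2 F513894)
def n223863 : Q := act 4 n205381
theorem D223863 : act 4 n205381 = n223863 := rfl
theorem F521706 : act 2 n223863 = n222667 := d1_1 D223863 (iv4 D222667) F436163
theorem F521707 : act 3 n223863 = n218575 := d5_1 D223863 F494564 (iv3 F416954) F360443 D205381
theorem F521708 : act 6 n223863 = n222661 := d10_2 F521436 D223863 (iv4 F521435)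
theorem F521709 : act 7 n223863 = n222659 := d11_2 (iv7 F436159) D223863 F515421
theorem F521710 : act 5 n223863 = n210083 := d16_1 D223863 (iv4 F456093) F225389 F182933 F220891 D137551 D210100 F456156 F436163
def n223864 : Q := act 5 n205385
theorem D223864 : act 5 n205385 = n223864 := rfl
theorem F521711 : act 2 n223864 = n206518 := d2_1 D223864 F441169 (iv2 F436188)
theorem F521712 : act 3 n223864 = n206008 := d6_1 D223864 F438813 (iv3 F436189)
theorem F521713 : act 4 n223864 = n207787 := d9_1 D223864 F446451 (iv4 D195634) (iv5 F361380) D197008 F435697 (iv4 F436178) (iv5 F441797) (iv4 F475494) F475495 (iv4 D195637) (iv5 F395220) F395223 (iv5 F435727) F436186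
theorem F521714 : act 6 n223864 = n206516 := d12_2 F436187 D223864 (iv5 F441163) (iv6 D205346) (iv5 F416882)
theorem F521715 : act 7 n223864 = n207625 := d13_2 (iv7 F436185) D223864 F445734
theorem F521716 : act 0 n223864 = n222708 := d17_2 (iv1 F436184) D223864 F515680 (iv4 D205203) (iv5 D125589) D125587 (iv5 F405918) F202401 D205181
theorem F521717 : act 1 n223864 = n214485 := d17_6 D198892 (iv5 F418261) F418259 (iv5 F435727) F436186 D223864 F475400 (iv0 D205341) F202325
def n223865 : Q := act 3 n205425
theorem D223865 : act 3 n205425 = n223865 := rfl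
theorem F521718 : act 5 n223865 = n205477 := d6_2 F506540 D223865 (iv3 F506543)
theorem F521719 : act 6 n223865 = n207475 := d7_2 (iv6 F436354) D223865 (iv3 D207475)
theorem F521720 : act 7 n223865 = n219548 := d8_2 F436357 D223865 F499382
theorem F521721 : act 0 n223865 = n213554 := d19_4 F516076 (iv5 F516124) F516125 D223865 F471007 (iv4 F436155) (iv3 F513895) F513898 F436122 (iv4 F409183) F409182 (iv1 F174180) (iv5 F409229) (iv4 F410397) (iv3 F465819) F465821 (iv5 F520779) F520780 (iv3 F516078)
theorem F521722 : act 4 n223865 = n216397 := d20_6 F456138 F371424 D195722 (iv3 F397948) D205425 D223865 (iv1 D216397) (iv4 F484169) F484168 (iv1 F456142)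
theorem F521723 : act 0 n208309 = n223865 := d20_4 (iv4 D137538) (iv1 F220920) D137146 (iv3 F448856) (iv3 D223865) (iv4 F516125) (iv1 D222796) (iv4 F504665) (iv3 D220620) F391961
def n223866 : Q := act 5 n205448
theorem D223866 : act 5 n205448 = n223866 := rfl
theorem F521724 : act 2 n223866 = n221149 := d2_1 D223866 F507458 F503625
theorem F521725 : act 3 n223866 = n205449 := d6_1 D223866 (iv5 D205449) D205448
theorem F521726 : act 4 n223866 = n222280 := d9_1 D223866 F513326 F512889 (iv5 F510721) F510717 F470905 D220579 (iv5 F510936) F510935 (iv5 F512897) F512896 (iv5 F510726) (iv4 F510728) F455736 (iv4 F436476)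
theorem F521727 : act 6 n223866 = n208247 := d12_2 F446976 D223866 F448564 (iv6 F360678) (iv5 F446980)
theorem F521728 : act 7 n223866 = n216054 := d13_2 F456964 D223866 F482686
theorem F521729 : act 0 n223866 = n211265 := d17_2 (iv1 F503255) D223866 (iv5 F506913) F506915 (iv5 D199383) D199382 (iv5 F503334) F503336 (iv4 F503254)
theorem F521730 : act 1 n223866 = n221742 := d17_6 (iv1 F512908) (iv5 F517911) F517913 F455736 (iv4 F436476) D223866 (iv5 D221742) F464794 (iv4 F512903)
def n223867 : Q := act 3 n205474
theorem D223867 : act 3 n205474 = n223867 := rfl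
theorem F521731 : act 2 n223867 = n222713 := d0_1 D223867 F515709 F515367 (iv3 F515368) (iv2 F436605)
theorem F521732 : act 4 n223867 = n205476 := d5_2 D205474 D223867 (iv3 D205476) (iv4 D126087) (iv3 F202788)
theorem F521733 : act 5 n223867 = n218453 := d6_2 F516217 D223867 (iv3 F516216)
theorem F521734 : act 7 n223867 = n222647 := d8_2 (iv7 F436606) D223867 (iv3 D222647)
theorem F521735 : act 6 n218454 = n223867 := d14_5 F521734 F515371 (iv7 F515357) F515356 F504997
def n223868 : Q := act 6 n205474
theorem D223868 : act 6 n205474 = n223868 := rfl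
theorem F521736 : act 2 n223868 = n222647 := d3_1 D223868 F515371 (iv2 F436605)
theorem F521737 : act 3 n223868 = n218454 := d7_1 D223868 F521735 (iv3 D223867)
theorem F521738 : act 4 n223868 = n205475 := d10_1 D223868 (iv6 D205475) D205474
theorem F521739 : act 5 n223868 = n218452 := d12_1 D223868 (iv6 D218452) F493759 (iv6 F516218) F516217
theorem F521740 : act 7 n223868 = n222713 := d14_2 (iv7 F436606) D223868 F515711 (iv7 F515364) F515369
def n223869 : Q := act 5 n205485
theorem D223869 : act 5 n205485 = n223869 := rfl
theorem F521741 : act 2 n223869 = n221556 := d2_1 D223869 (iv5 D221556) (iv2 F436641)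
theorem F521742 : act 3 n223869 = n212198 := d6_1 D223869 (iv5 D212198) (iv3 F436642)
def n223870 : Q := act 7 n205485
theorem D223870 : act 7 n205485 = n223870 := rfl
theorem F521743 : act 2 n223870 = n221557 := d4_1 D223870 (iv7 D221557) (iv2 F436641)
theorem F521744 : act 3 n223870 = n210815 := d8_1 D223870 F458889 (iv3 F436642)
theorem F521745 : act 4 n223870 = n205487 := d11_1 D223870 (iv7 D205487) (iv4 F436643)
theorem F521746 : act 6 n223870 = n221434 := d14_1 D223870 F509012 (iv6 D196613) (iv7 F202848) D205485
theorem F521747 : act 1 n221555 = n223870 := d15_1 D221555 (iv7 D223870) F436641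
theorem F521748 : act 1 n223870 = n221554 := d15_1 F521747 (iv7 F509570) (iv2 F509574)
def n223871 : Q := act 7 n205488
theorem D223871 : act 7 n205488 = n223871 := rfl
theorem F521749 : act 2 n223871 = n212193 := d4_1 D223871 (iv7 D212193) (iv2 F436660)
theorem F521750 : act 3 n223871 = n205493 := d8_1 D223871 (iv7 D205493) (iv3 F436661)
theorem F521751 : act 4 n223871 = n215893 := d11_1 D223871 (iv7 F506169) F506168
theorem F521752 : act 5 n223871 = n221984 := d13_1 D223871 F511762 F476980
theorem F521753 : act 6 n223871 = n215892 := d14_1 D223871 F481958 (iv6 D196616) (iv7 F202853) D205488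
theorem F521754 : act 1 n212191 = n223871 := d15_1 D212191 (iv7 D223871) F436660
theorem F521755 : act 1 n223871 = n212071 := d15_1 F521754 F464233 F464700
def n223872 : Q := act 5 n205495
theorem D223872 : act 5 n205495 = n223872 := rfl
theorem F521756 : act 2 n223872 = n213363 := d2_1 D223872 F470091 (iv2 F436704)
theorem F521757 : act 3 n223872 = n221798 := d6_1 D223872 F510850 F463830
theorem F521758 : act 6 n223872 = n222115 := d12_2 (iv6 F436705) D223872 F512426 F407873 (iv5 F407313)
theorem F521759 : act 7 n223872 = n213358 := d13_2 (iv7 F436706) D223872 (iv5 D213358)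
theorem F521760 : act 0 n223872 = n213360 := d17_2 F436707 D223872 (iv5 F510847) F505631 F505630 (iv0 F429753) D216026 F482602 (iv4 F407039)
theorem F521761 : act 1 n223872 = n213359 := d17_6 (iv1 F400714) F400698 D198311 F407570 D205495 D223872 (iv5 F470087) (iv0 D212804) (iv4 F237856)
def n223873 : Q := act 3 n205500
theorem D223873 : act 3 n205500 = n223873 := rfl
theorem F521762 : act 2 n223873 = n219862 := d0_1 D223873 F500932 F461542 (iv3 D211439) (iv2 F436720)
theorem F521763 : act 4 n223873 = n223100 := d5_2 D205500 D223873 F517643 (iv4 D205432) (iv3 F202883)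
theorem F521764 : act 5 n223873 = n221670 := d6_2 (iv5 F436723) D223873 F510203
theorem F521765 : act 6 n223873 = n215236 := d7_2 (iv6 F436721) D223873 F478995
theorem F521766 : act 7 n223873 = n210897 := d8_2 (iv7 F436722) D223873 F459197
theorem F521767 : act 0 n223873 = n219640 := d20_4 F246267 F217019 D205500 D223873 (iv3 D219640) (iv4 D191902) (iv1 F343495) (iv4 F459217) F459216 (iv1 F246271)
theorem F521768 : act 0 n219863 = n223873 := d20_4 (iv4 F517027) F520291 F520288 (iv3 F500934) (iv3 D223873) (iv4 D205500) F225002 F224999 (iv3 F224997) D211408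
def n223874 : Q := act 6 n205560
theorem D223874 : act 6 n205560 = n223874 := rfl
theorem F521769 : act 2 n223874 = n207499 := d3_1 D223874 F445156 F436995
theorem F521770 : act 3 n223874 = n206802 := d7_1 D223874 (iv6 F508113) F508111
theorem F521771 : act 4 n223874 = n206804 := d10_1 D223874 (iv6 F515730) F515727
theorem F521772 : act 5 n223874 = n221381 := d12_1 D223874 (iv6 F508728) F400082 (iv6 F470816) F470814
theorem F521773 : act 0 n223874 = n219012 := d21_4 F439295 D213519 F470814 D223874 (iv6 F508373) F508370 F402821 (iv5 F399189) F399190 (iv1 F439298)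
def n223875 : Q := act 0 n205561
theorem D223875 : act 0 n205561 = n223875 := rfl
theorem F521774 : act 4 n223875 = n206081 := d18_3 F418742 D205561 D223875 F441046 F441042 F418310 F418308 (iv0 F421534) (iv5 F418739)
theorem F521775 : act 2 n219501 = n223875 := d1_3 F521774 (iv2 F439173) (iv4 F499195)
theorem F521776 : act 6 n207942 = n223875 := d10_0 F521774 F439174 (iv4 F447090)
theorem F521777 : act 7 n222677 = n223875 := d11_0 F521774 (iv7 F439175) (iv4 F515514)
theorem F521778 : act 1 n222679 = n223875 := d18_6 (iv1 F362101) F164149 (iv1 F362883) (iv4 F176519) (iv5 F417381) (iv4 F515521) F521774 (iv0 D206081) (iv5 D127370)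
theorem F521779 : act 3 n223875 = n207943 := d8_1 F521777 (iv7 F495242) F515515
def n223876 : Q := act 1 n205561
theorem D223876 : act 1 n205561 = n223876 := rfl
theorem F521780 : act 1 n223876 = n222679 := d15_1 D223876 (iv7 D222679) (iv2 F436998)
theorem F521781 : act 7 n223876 = n219501 := d15_2 (iv0 D223875) D223876 F521775
theorem F521782 : act 4 n223876 = n206082 := d18_7 (iv1 F204672) (iv4 F362906) (iv1 D105342) (iv4 F93403) D126291 D205561 D223876 F439170 F418113
theorem F521783 : act 2 n222677 = n223876 := d1_3 F521782 F439176 (iv4 F515514)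
theorem F521784 : act 3 n219506 = n223876 := d5_5 F521782 (iv3 F439171) F383978 (iv3 F383963) (iv4 F499202)
def n223877 : Q := act 5 n205561
theorem D223877 : act 5 n205561 = n223877 := rfl
theorem F521785 : act 2 n223877 = n222678 := d2_1 D223877 (iv5 D222678) (iv2 F436998)
theorem F521786 : act 3 n223877 = n211414 := d6_1 D223877 (iv5 F507766) F507763
theorem F521787 : act 4 n223877 = n211416 := d16_2 D205561 D223877 F461470 F419103 F177207 (iv4 F176519) (iv5 F417381) (iv7 D200659) (iv2 F203064)
theorem F521788 : act 7 n222777 = n223877 := d11_0 F521787 F461471 D222777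
def n223878 : Q := act 7 n205561
theorem D223878 : act 7 n205561 = n223878 := rfl
theorem F521789 : act 2 n223878 = n222679 := d4_1 D223878 (iv7 D222679) (iv2 F436998)
theorem F521790 : act 3 n223878 = n217612 := d8_1 D223878 (iv7 F507765) F507763
theorem F521791 : act 4 n223878 = n205562 := d11_1 D223878 (iv7 D205562) D205561
theorem F521792 : act 5 n223878 = n222777 := d13_1 D223878 F521788 (iv5 D223877)
theorem F521793 : act 6 n223878 = n217610 := d14_1 D223878 (iv7 F490211) F506462 (iv7 D220953) (iv6 F436999)
theorem F521794 : act 1 n222677 = n223878 := d15_1 D222677 (iv7 D223878) F436998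
theorem F521795 : act 1 n223878 = n219501 := d15_1 F521794 (iv7 F521781) (iv2 F521783)
def n223879 : Q := act 3 n205590
theorem D223879 : act 3 n205590 = n223879 := rfl
theorem F521796 : act 2 n223879 = n207469 := d0_1 D223879 (iv3 F445073) F395598 (iv3 F417357) F437126
theorem F521797 : act 4 n223879 = n206127 := d5_2 (iv4 F441034) D223879 F439364 (iv4 F417549) F441031
theorem F521798 : act 5 n223879 = n220950 := d6_2 (iv5 F437125) D223879 F506443
theorem F521799 : act 6 n223879 = n206125 := d7_2 F515585 D223879 (iv3 F515584)
theorem F521800 : act 7 n223879 = n207468 := d8_2 (iv7 F437127) D223879 (iv3 F445071)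
theorem F521801 : act 0 n223879 = n207467 := d19_4 F496836 F496834 (iv4 F441034) D223879 (iv5 F452102) (iv4 F452105) (iv3 F495136) F495139 (iv5 F479237) (iv4 F506663) F506662 F395975 D202549 (iv4 F450805) F450803 F365548 (iv5 F365547) F369419 (iv3 F469252)
theorem F521802 : act 0 n207470 = n223879 := d20_4 F211189 (iv1 F164291) (iv4 F211233) (iv3 F445077) (iv3 D223879) F441034 (iv1 D206482) (iv4 F211176) F211175 D131802
def n223880 : Q := act 0 n205594
theorem D223880 : act 0 n205594 = n223880 := rfl
theorem F521803 : act 5 n223880 = n216294 := d17_1 D223880 (iv1 F483696) F435970 F418046 (iv5 F375942) F375945 D189182 (iv0 F448642) F448640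
theorem F521804 : act 4 n223880 = n213523 := d18_1 D223880 (iv1 D213523) F398848 F435339 (iv4 F507991) (iv0 F507995) (iv4 F512055) (iv0 F512059) (iv5 F437145)
theorem F521805 : act 3 n223880 = n206761 := d20_5 (iv4 D205586) (iv1 F203218) D126418 D205594 D223880 F442087 (iv1 F212648) (iv4 F438831) (iv3 F438833) (iv1 F437113)
theorem F521806 : act 6 n223880 = n206759 := d21_5 (iv5 F349815) F378172 F378171 F437146 D223880 (iv5 F445600) (iv1 F450630) (iv5 D208734) (iv6 F355001) (iv1 F216267)
theorem F521807 : act 2 n223865 = n223880 := d15_3 (iv0 D223880) (iv0 F499385) (iv7 F521720)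
theorem F521808 : act 1 n210099 = n223880 := d15_0 (iv0 D223880) (iv7 F471008) F471004
theorem F521809 : act 7 n223880 = n216303 := d15_2 (iv0 F499386) F521808 (iv2 F499381)
def n223881 : Q := act 5 n205606
theorem D223881 : act 5 n205606 = n223881 := rfl
theorem F521810 : act 2 n223881 = n221423 := d2_1 D223881 F508950 F437544
theorem F521811 : act 4 n223881 = n221421 := d9_1 D223881 F508939 (iv4 F434128) (iv5 D134941) (iv4 F207381) F380832 D205608 (iv5 F511385) F511384 F508954 F450742 (iv5 D134938) D134937 (iv5 F365160) D205606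
theorem F521812 : act 0 n223881 = n212827 := d17_2 F437376 D223881 F467651 (iv4 F437432) F437433 F217841 (iv5 F437369) (iv0 D205659) D205661
theorem F521813 : act 1 n223881 = n221021 := d17_6 (iv1 D126564) D126566 (iv1 F217154) (iv5 F365160) D205606 D223881 (iv5 D221021) (iv0 F437628) (iv4 D205734)
theorem F521814 : act 6 n223881 = n221420 := d21_9 F449203 (iv1 D206694) D206695 (iv6 F442186) F447056 D222920 (iv5 F516779) F437376 D223881 F508936
def n223882 : Q := act 6 n205606
theorem D223882 : act 6 n205606 = n223882 := rfl
theorem F521815 : act 2 n223882 = n206987 := d3_1 D223882 (iv6 F442862) F437544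
theorem F521816 : act 3 n223882 = n222751 := d7_1 D223882 F515884 F508538
theorem F521817 : act 4 n223882 = n205607 := d10_1 D223882 (iv6 D205607) D205606
theorem F521818 : act 5 n223882 = n206986 := d12_1 D223882 F456841 (iv5 F508935) (iv6 F521814) (iv5 D223881)
theorem F521819 : act 7 n223882 = n212670 := d14_2 F437542 D223882 (iv6 D212670) D212671 (iv6 F466984)
theorem F521820 : act 0 n217613 = n223882 := d19_0 F521818 F442857 (iv3 D194783) (iv1 F291718) (iv5 D89484) (iv4 D41780) F31413 D40390 (iv5 F63559) F62378 (iv3 F69226) F69228 F63348 F62871 (iv3 F69439) D94324 (iv5 F353200) (iv4 F371102) D217613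
def n223883 : Q := act 0 n205607
theorem D223883 : act 0 n205607 = n223883 := rfl
theorem F521821 : act 3 n223883 = n206715 := d20_5 F439220 (iv1 F204694) (iv4 F417400) (iv3 F437202) D223883 F444236 (iv1 F212559) (iv4 F446717) F446716 (iv1 F439223)
theorem F521822 : act 2 n206687 = n223883 := d15_3 (iv0 D223883) (iv0 F446533) F446532
def n223884 : Q := act 5 n205609
theorem D223884 : act 5 n205609 = n223884 := rfl
theorem F521823 : act 4 n223884 = n223316 := d16_2 F442355 D223884 F518814 F452546 F451194 (iv4 F465454) F465453 D212671 F466979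
theorem F521824 : act 0 n223884 = n212379 := d17_2 F443066 D223884 (iv5 F465588) (iv4 F465593) (iv5 D212380) F452057 (iv5 F446944) F437657 F443064
def n223885 : Q := act 7 n205609
theorem D223885 : act 7 n205609 = n223885 := rfl
theorem F521825 : act 2 n223885 = n206841 := d4_1 D223885 F443068 F437543
theorem F521826 : act 3 n223885 = n212386 := d8_1 D223885 F501064 F441954
theorem F521827 : act 4 n223885 = n212668 := d11_1 D223885 (iv7 F466969) F442355
theorem F521828 : act 1 n206702 = n223885 := d15_1 F445838 (iv7 D223885) (iv2 F437543)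
theorem F521829 : act 1 n223885 = n206836 := d15_1 F521828 F443065 F443061
def n223886 : Q := act 6 n205612
theorem D223886 : act 6 n205612 = n223886 := rfl
theorem F521830 : act 2 n223886 = n206958 := d3_1 D223886 (iv6 D206958) F437217
theorem F521831 : act 3 n223886 = n214500 := d7_1 D223886 (iv6 D214500) (iv3 F437215)
theorem F521832 : act 4 n223886 = n208594 := d10_1 D223886 (iv6 D208594) (iv4 F437216)
theorem F521833 : act 7 n223886 = n221194 := d14_2 (iv7 F437219) D223886 F507680 F446837 (iv6 F347106)
theorem F521834 : act 0 n223886 = n210225 := d21_4 (iv5 D126486) D126483 (iv5 F437218) D223886 (iv6 D210225) (iv5 F411143) F446168 F446167 F365140 F212447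
theorem F521835 : act 0 n209057 = n223886 := d21_4 F446614 (iv1 F475426) F475428 F466908 (iv6 D223886) F437218 (iv1 F203549) D205736 F437633 F446613
def n223887 : Q := act 1 n205617
theorem D223887 : act 1 n205617 = n223887 := rfl
theorem F521836 : act 1 n223887 = n206737 := d15_1 D223887 (iv7 F496952) F496950
theorem F521837 : act 7 n223887 = n206705 := d15_2 (iv0 F446542) D223887 (iv2 F446539)
theorem F521838 : act 5 n223887 = n206119 := d17_7 (iv1 F251362) (iv5 F233519) F396239 D208136 F448038 F443148 D223887 F475460 F475457
theorem F521839 : act 4 n223887 = n219494 := d17_9 F499165 F497143 F495051 F495049 (iv4 F443143) (iv5 F515933) (iv0 F515934) F443148 D223887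
theorem F521840 : act 6 n206885 = n223887 := d21_9 (iv5 F443148) F515934 F515933 (iv6 F443144) (iv1 F507669) (iv6 D221191) (iv5 F475384) (iv1 F475387) (iv5 F442518) (iv1 D223887)
theorem F521841 : act 2 n223887 = n206735 := d3_1 F521840 (iv6 F442005) F442517
theorem F521842 : act 3 n223887 = n219499 := d7_1 F521840 F499187 F475380
def n223888 : Q := act 6 n205617
theorem D223888 : act 6 n205617 = n223888 := rfl
theorem F521843 : act 3 n223888 = n205618 := d7_1 D223888 (iv6 D205618) D205617
theorem F521844 : act 4 n223888 = n206484 := d10_1 D223888 F441038 (iv4 F437241)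
theorem F521845 : act 5 n223888 = n221443 := d12_1 D223888 (iv6 F509041) (iv5 F519967) F519966 F443148
theorem F521846 : act 0 n223888 = n207556 := d21_4 D209351 F453359 F443148 D223888 F446028 F446025 (iv1 D187783) D187785 F453355 (iv1 D209350)
theorem F521847 : act 0 n207554 = n223888 := d21_4 (iv5 F507668) F419778 (iv5 F417405) (iv6 F445430) (iv6 D223888) (iv5 F443148) F515934 F515933 (iv6 F443144) (iv1 F507669)
def n223889 : Q := act 5 n205621
theorem D223889 : act 5 n205621 = n223889 := rfl
theorem F521848 : act 2 n223889 = n221913 := d2_1 D223889 F511369 F437625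
theorem F521849 : act 3 n223889 = n221383 := d6_1 D223889 (iv5 D221383) (iv3 F437259)
theorem F521850 : act 7 n223889 = n221915 := d13_2 F437622 D223889 F511377
theorem F521851 : act 4 n223889 = n221916 := d16_2 D205621 D223889 F511381 F471858 F450015 (iv4 F216847) F216363 (iv7 F336991) F336993
theorem F521852 : act 0 n223889 = n221032 := d17_2 F437468 D223889 F506896 F466863 F364736 F203614 (iv5 F437448) (iv0 F437348) D205689
theorem F521853 : act 1 n223889 = n222920 := d17_6 (iv1 D126474) D126476 D205612 F437218 D205621 D223889 (iv5 F516779) (iv0 F437377) (iv4 D205608)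
def n223890 : Q := act 0 n205622
theorem D223890 : act 0 n205622 = n223890 := rfl
theorem F521854 : act 5 n223890 = n218702 := d19_1 D223890 F495228 (iv3 D214552) (iv1 F251881) (iv5 D89819) (iv4 F69387) F69386 F63213 D40438 D87042 D182294 F440130 F440128 (iv4 F362098) F204668 (iv1 F362101) D196051 D221334 (iv3 F508438)
theorem F521855 : act 2 n205704 = n223890 := d15_3 (iv0 D223890) (iv0 F488824) F437946
theorem F521856 : act 1 n207013 = n223890 := d15_0 (iv0 D223890) (iv7 F446754) F446753
theorem F521857 : act 3 n206959 = n223890 := d19_19 (iv1 F521856) (iv5 F488822) (iv4 D217350) F476435 (iv1 D214697) (iv5 F353205) (iv4 D182924) (iv3 F364400) F368605 (iv5 F470143) (iv4 D213378) (iv3 F366798) (iv1 F383492) F383494 (iv4 F344107) F337638 (iv1 F344116) (iv5 F344118) (iv4 F442742)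
def n223891 : Q := act 5 n205623
theorem D223891 : act 5 n205623 = n223891 := rfl
theorem F521858 : act 2 n223891 = n221915 := d2_1 D223891 F511377 F437620
theorem F521859 : act 3 n223891 = n208321 := d6_1 D223891 F448905 (iv3 F437260)
theorem F521860 : act 4 n223891 = n221914 := d9_1 D223891 F511373 F471825 F450009 (iv4 F437216) F437218 D205621 D223889 F521851 F511381 F471858 F450015 (iv4 F216847) F216363 D205623
theorem F521861 : act 6 n223891 = n208321 := d12_2 (iv6 F437762) D223891 F448905 (iv6 F437753) F437747
theorem F521862 : act 7 n223891 = n221913 := d13_2 F437627 D223891 F511369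
theorem F521863 : act 0 n223891 = n222920 := d17_2 F437447 D223891 (iv5 F516779) (iv4 D205661) (iv5 D126501) D126499 D205656 (iv0 F437356) D205681
theorem F521864 : act 1 n223891 = n221032 := d17_6 (iv1 F203525) D205718 F437553 F216363 D205623 D223891 F506896 F466867 (iv4 D205606)
def n223892 : Q := act 6 n205625
theorem D223892 : act 6 n205625 = n223892 := rfl
theorem F521865 : act 2 n223892 = n205629 := d3_1 D223892 (iv6 D205629) (iv2 F437263)
theorem F521866 : act 3 n223892 = n206961 := d7_1 D223892 (iv6 D206961) (iv3 F437264)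
theorem F521867 : act 4 n223892 = n219483 := d10_1 D223892 F499115 F450309
theorem F521868 : act 5 n223892 = n207826 := d12_1 D223892 F446608 F441989 (iv6 D205626) D205625
theorem F521869 : act 7 n223892 = n207825 := d14_2 F437634 D223892 F446605 F418829 (iv6 F437633)
theorem F521870 : act 0 n223892 = n206729 := d21_4 (iv5 F336995) (iv1 F203546) D205625 D223892 (iv6 F443154) F443153 (iv1 F437239) (iv5 F437568) (iv6 D205721) F217260
def n223893 : Q := act 0 n205626
theorem D223893 : act 0 n205626 = n223893 := rfl
theorem F521871 : act 5 n223893 = n207838 := d17_3 (iv1 F487209) F441989 D223893 F446656 D210191 (iv0 F487219) F487218 (iv0 D217064) (iv4 F487207)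
theorem F521872 : act 3 n223893 = n206725 := d20_5 (iv4 D206996) (iv1 D129706) (iv4 F207832) (iv3 F437268) D223893 (iv4 F442750) F449477 F449475 F442854 (iv1 F442905)
theorem F521873 : act 6 n223893 = n205744 := d21_5 F365160 F437265 (iv5 D205625) D205626 D223893 (iv5 D205744) (iv1 F203560) (iv5 F345890) (iv6 D126477) D126473
theorem F521874 : act 1 n205633 = n223893 := d15_0 (iv0 D223893) F441984 F441981
theorem F521875 : act 2 n205630 = n223893 := d3_3 F521873 F437667 (iv6 F437276)
theorem F521876 : act 7 n205631 = n223893 := d15_2 (iv0 D205630) D205631 (iv2 F521875)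
def n223894 : Q := act 1 n205626
theorem D223894 : act 1 n205626 = n223894 := rfl
theorem F521877 : act 1 n223894 = n205633 := d15_1 D223894 (iv7 D205633) (iv2 F437267)
theorem F521878 : act 7 n223894 = n205630 := d15_2 (iv0 D223893) D223894 F521875
theorem F521879 : act 3 n207575 = n223894 := d19_19 (iv1 D223894) (iv5 F441989) (iv4 F506065) F506066 F499518 (iv5 F498798) F498797 (iv3 D191452) D191451 F383504 (iv4 F178464) (iv3 F178625) F191340 D114758 D201522 F420850 F417232 F366018 D207575
theorem F521880 : act 2 n205631 = n223894 := d4_3 F521878 F521875 (iv7 F521876)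
def n223895 : Q := act 6 n205627
theorem D223895 : act 6 n205627 = n223895 := rfl
theorem F521881 : act 2 n223895 = n206711 := d3_1 D223895 (iv6 D206711) F437271
theorem F521882 : act 3 n223895 = n214478 := d7_1 D223895 (iv6 D214478) (iv3 F437269)
theorem F521883 : act 4 n223895 = n208583 := d10_1 D223895 (iv6 D208583) (iv4 F437270)
theorem F521884 : act 0 n212411 = n223895 := d21_4 (iv5 F207849) F211812 D207670 (iv6 F465694) (iv6 D223895) F437272 (iv1 F203522) D205610 F437326 (iv1 F437324)
theorem F521885 : act 5 n222933 = n223895 := d21_8 (iv5 D205736) (iv1 F203551) (iv5 F216363) (iv6 F347105) F443012 (iv6 F492723) (iv5 F502457) F516850 (iv6 D223895) F437636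
def n223896 : Q := act 5 n205629
theorem D223896 : act 5 n205629 = n223896 := rfl
theorem F521886 : act 2 n223896 = n207826 := d2_1 D223896 (iv5 F521868) F521865
theorem F521887 : act 3 n223896 = n205635 := d6_1 D223896 (iv5 D205635) (iv3 F437275)
theorem F521888 : act 4 n223896 = n222001 := d9_1 D223896 F511835 F499512 (iv5 F444560) F454243 F454241 F446606 (iv5 D207825) (iv4 F410162) (iv5 F427209) F427208 (iv5 F483241) (iv4 F493406) F493407 F443265
theorem F521889 : act 6 n223896 = n205632 := d12_2 D205629 D223896 (iv5 D205632) (iv6 D126487) D126486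
theorem F521890 : act 7 n223896 = n207820 := d13_2 F515968 D223896 (iv5 F515967)
theorem F521891 : act 0 n223896 = n207824 := d17_2 F514352 D223896 (iv5 F449258) (iv4 D208416) D208417 (iv0 F449262) (iv5 D199689) D199687 D222464
theorem F521892 : act 1 n223896 = n207823 := d17_8 (iv1 F452998) D209291 F453066 F385011 (iv4 F487119) (iv5 F514341) F514343 D223896 (iv4 F452995)
def n223897 : Q := act 4 n205630
theorem D223897 : act 4 n205630 = n223897 := rfl
theorem F521893 : act 3 n223897 = n221387 := d5_1 D223897 F508748 (iv3 F419179) (iv4 F441818) (iv3 F441819)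
theorem F521894 : act 6 n223897 = n207736 := d10_2 (iv6 F437276) D223897 (iv4 D207736)
theorem F521895 : act 0 n223897 = n221024 := d18_2 D205630 D223897 (iv4 F506861) (iv5 D205783) (iv4 F437846) F487224 F487222 F441979 (iv5 D205632)
theorem F521896 : act 5 n222914 = n223897 := d17_1 F521000 F521895 (iv5 D221024) F396548 D209191 (iv0 F491357) (iv5 F520991) F520994 D223741
def n223898 : Q := act 5 n205630
theorem D223898 : act 5 n205630 = n223898 := rfl
theorem F521897 : act 2 n223898 = n207838 := d2_1 D223898 (iv5 F521871) (iv2 F521875)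
theorem F521898 : act 3 n223898 = n206673 := d6_1 D223898 F441826 (iv3 F441819)
theorem F521899 : act 6 n223898 = n205730 := d12_2 (iv6 F437276) D223898 F437605 (iv6 D132673) (iv5 F211895)
theorem F521900 : act 1 n223898 = n217646 := d17_6 (iv1 F516793) (iv5 F521002) F521000 F521896 (iv4 D223897) D223898 (iv5 F489923) (iv0 F516073) (iv4 F516069)
theorem F521901 : act 0 n223898 = n217642 := d18_0 (iv4 D217642) (iv1 F371196) F217089 D206867 F446781 F446779 (iv4 F445847) F441986 D223898
theorem F521902 : act 4 n223898 = n209274 := d19_2 D205630 D223898 (iv3 F500529) F500533 F431899 (iv4 F499228) F499226 (iv1 D204038) F364078 (iv4 F287514) (iv3 D185171) D185169 (iv5 F359545) (iv4 F179614) F112241 (iv1 F112239) (iv5 F78607) (iv4 F93620) (iv3 F203362)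
def n223899 : Q := act 3 n205631
theorem D223899 : act 3 n205631 = n223899 := rfl
theorem F521903 : act 2 n223899 = n206726 := d0_1 D223899 (iv3 F441980) (iv2 F445516) F521879 (iv2 F521880)
theorem F521904 : act 7 n223899 = n206725 := d8_2 (iv7 F521876) D223899 (iv3 F521872)
theorem F521905 : act 4 n223899 = n208463 := d20_6 (iv4 D129725) (iv1 F207895) (iv4 F362143) (iv3 F441982) (iv1 F441985) D223899 (iv1 D208463) (iv4 F437834) (iv3 F442874) (iv1 F442878)
theorem F521906 : act 6 n210281 = n223899 := d10_0 F521905 (iv6 F449470) D210281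
theorem F521907 : act 1 n206721 = n223899 := d18_6 F487219 F487990 (iv1 D217218) (iv4 F487978) F487979 (iv4 F441967) F521905 F487217 (iv5 F487218)
theorem F521908 : act 0 n206728 = n223899 := d20_10 F521905 (iv1 D208463) (iv4 F437834) (iv3 F442874) (iv1 F442878) F437475 F437471 (iv1 F366027) F366029 (iv3 F441988)
theorem F521909 : act 5 n223899 = n206834 := d17_1 F521908 F516073 F489923 (iv4 D217646) D217647 (iv0 F489927) F478877 F506070 F506065
def n223900 : Q := act 4 n205631
theorem D223900 : act 4 n205631 = n223900 := rfl
theorem F521910 : act 1 n223900 = n221024 := d18_8 (iv1 F421624) F421622 (iv1 F388493) F388490 (iv5 F361173) F212709 D205631 D223900 (iv5 D221024)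
theorem F521911 : act 5 n220136 = n223900 := d19_1 F521013 (iv4 D223900) D223899 (iv1 F521907) F441968 F437279 (iv3 F361172) (iv1 F212726) D132560 F446538 (iv3 F450980) F483863 F483860 (iv4 F473902) F473901 (iv1 D213422) (iv5 F459904) (iv4 F465679) (iv3 F521009)
theorem F521912 : act 6 n223900 = n212253 := d12_2 D220136 F521911 F464985 F360184 (iv5 F388460)
def n223901 : Q := act 5 n205631
theorem D223901 : act 5 n205631 = n223901 := rfl
theorem F521913 : act 3 n223901 = n206834 := d6_1 D223901 (iv5 F521909) (iv3 D223899)
theorem F521914 : act 7 n223901 = n207838 := d13_2 (iv7 F521876) D223901 (iv5 F521871)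
theorem F521915 : act 1 n223901 = n217642 := d17_8 (iv1 F371196) (iv5 F449154) F454303 F453598 F449147 (iv5 D205632) D205631 D223901 (iv4 D217642)
theorem F521916 : act 0 n223901 = n217646 := d18_0 (iv4 D217646) (iv1 D187690) (iv4 F371106) (iv5 F447104) F447103 (iv0 D207862) F212709 D205631 D223901
theorem F521917 : act 6 n223901 = n206832 := d21_3 D206727 (iv1 F441985) D223901 F450332 (iv6 F456552) (iv5 F502461) F516275 F516271 F487211 (iv1 D206726)
theorem F521918 : act 4 n210192 = n223901 := d20_0 F521916 (iv4 D217646) (iv3 F489929) (iv1 D211568) (iv3 F462170) F462171 F470994 F470992 D218226 F492827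
def n223902 : Q := act 6 n205631
theorem D223902 : act 6 n205631 = n223902 := rfl
theorem F521919 : act 3 n223902 = n210281 := d7_1 D223902 F521906 (iv3 D223899)
theorem F521920 : act 4 n223902 = n212253 := d10_1 D223902 (iv6 F521912) (iv4 D223900)
theorem F521921 : act 7 n223902 = n207738 := d14_2 (iv7 F521876) D223902 (iv6 D207738) (iv7 F437669) (iv6 F521873)
theorem F521922 : act 1 n205973 = n223902 := d18_6 (iv1 F465457) (iv4 F465458) (iv1 D146855) (iv4 F230243) D212380 F465593 F521920 F515948 F515944
def n223903 : Q := act 6 n205641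
theorem D223903 : act 6 n205641 = n223903 := rfl
theorem F521923 : act 2 n223903 = n206976 := d3_1 D223903 (iv6 D206976) F437313
theorem F521924 : act 3 n223903 = n222268 := d7_1 D223903 F513261 F486157
theorem F521925 : act 4 n223903 = n208410 := d10_1 D223903 (iv6 F449232) (iv4 F437312)
theorem F521926 : act 5 n223903 = n207834 := d12_1 D223903 (iv6 D207834) (iv5 D132418) (iv6 F211840) (iv5 F437311)
theorem F521927 : act 7 n223903 = n208416 := d14_2 (iv7 F437310) D223903 F449257 F442805 (iv6 D206975)
theorem F521928 : act 0 n223903 = n219531 := d21_4 (iv5 D206768) (iv1 F211842) (iv5 F437311) D223903 F499298 (iv5 F443020) F443041 F443038 F363933 (iv1 F442114)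
def n223904 : Q := act 5 n205644
theorem D223904 : act 5 n205644 = n223904 := rfl
theorem F521929 : act 2 n223904 = n212670 := d2_1 D223904 F466978 (iv2 F437852)
theorem F521930 : act 3 n223904 = n205645 := d6_1 D223904 (iv5 D205645) D205644
theorem F521931 : act 6 n223904 = n212668 := d12_2 (iv6 F437328) D223904 (iv5 F515794) F515792 F437895
theorem F521932 : act 7 n223904 = n206987 := d13_2 (iv7 F437329) D223904 (iv5 D206987)
theorem F521933 : act 0 n223904 = n217613 := d18_0 F489791 (iv1 F516072) F516069 (iv5 F521909) F521905 F487217 F487215 F442853 D223904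
def n223905 : Q := act 5 n205646
theorem D223905 : act 5 n205646 = n223905 := rfl
theorem F521934 : act 2 n223905 = n222751 := d2_1 D223905 F515883 F488365
theorem F521935 : act 3 n223905 = n205647 := d6_1 D223905 (iv5 D205647) D205646
theorem F521936 : act 6 n223905 = n208318 := d12_2 F465452 D223905 (iv5 F508744) (iv6 F511874) F511873
theorem F521937 : act 7 n223905 = n206980 := d13_2 (iv7 F437334) D223905 (iv5 D206980)
theorem F521938 : act 4 n223905 = n217041 := d16_2 (iv4 F437333) D223905 F487104 (iv4 D190396) (iv5 D96006) (iv4 F144649) (iv5 F374645) F374646 F369242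
theorem F521939 : act 0 n223905 = n217616 := d17_2 F486133 D223905 (iv5 D217616) F371105 (iv5 F350454) F377346 F377344 F288318 D216836
theorem F521940 : act 1 n223905 = n217614 := d17_6 D90422 D187642 (iv1 F371090) (iv5 F369240) (iv4 F437333) D223905 (iv5 D217614) (iv0 D187648) (iv4 D90424)
def n223906 : Q := act 6 n205650
theorem D223906 : act 6 n205650 = n223906 := rfl
theorem F521941 : act 3 n223906 = n205653 := d7_1 D223906 (iv6 D205653) D205650
theorem F521942 : act 4 n223906 = n207013 := d10_1 D223906 (iv6 D207013) (iv4 F437347)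
theorem F521943 : act 0 n223906 = n219267 := d21_4 (iv5 D126501) D126498 (iv5 F437448) D223906 (iv6 F498026) (iv5 F514000) F516649 F516647 (iv6 F466876) (iv1 D205660)
theorem F521944 : act 0 n209144 = n223906 := d21_4 (iv5 F465453) (iv1 F465456) (iv5 F515944) F515945 (iv6 D223906) F437448 (iv1 F203614) (iv5 F364736) F233505 D148762
theorem F521945 : act 5 n217352 = n223906 := d21_8 (iv5 F217129) (iv1 F217842) (iv5 F437795) F437798 F490046 (iv6 F490048) (iv5 D217355) D217352 (iv6 D223906) (iv1 F437349)
def n223907 : Q := act 6 n205651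
theorem D223907 : act 6 n205651 = n223907 := rfl
theorem F521946 : act 2 n223907 = n210227 := d3_1 D223907 F456652 F437771
theorem F521947 : act 3 n223907 = n209282 := d7_1 D223907 (iv6 F467066) F450899
theorem F521948 : act 4 n223907 = n205653 := d10_1 D223907 (iv6 D205653) D205651
theorem F521949 : act 7 n223907 = n210226 := d14_2 (iv7 F437766) D223907 F456649 F434597 F437751
theorem F521950 : act 0 n223907 = n210223 := d21_4 F514194 F514193 F499596 D223907 (iv6 D210223) F402219 (iv1 F402442) (iv5 F402443) (iv6 F451506) F451509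
theorem F521951 : act 0 n210229 = n223907 := d21_4 F423556 F456738 (iv5 D210249) (iv6 F456656) (iv6 D223907) (iv5 F499596) (iv1 F499599) (iv5 F437639) F462194 (iv1 F462195)
def n223908 : Q := act 0 n205653
theorem D223908 : act 0 n205653 = n223908 := rfl
theorem F521952 : act 4 n223908 = n208407 := d18_3 F521951 F521948 D223908 (iv5 F471192) F471191 F518047 F518044 (iv0 F500595) F498444
theorem F521953 : act 6 n223908 = n209719 := d21_5 (iv5 F203447) F437348 F437448 D205653 D223908 F454742 D222284 F513347 (iv6 F448924) (iv1 D135474)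
theorem F521954 : act 2 n205697 = n223908 := d15_3 (iv0 D223908) F445443 F437939
theorem F521955 : act 1 n207558 = n223908 := d15_0 (iv0 D223908) (iv7 F506776) F506774
theorem F521956 : act 3 n223908 = n222715 := d0_2 D205697 F521954 F515719 (iv3 D205805) (iv2 F203669)
def n223909 : Q := act 5 n205653
theorem D223909 : act 5 n205653 = n223909 := rfl
theorem F521957 : act 2 n223909 = n221646 := d2_1 D223909 F510079 F437782
theorem F521958 : act 3 n223909 = n217352 := d6_1 D223909 F521945 F521941
theorem F521959 : act 6 n223909 = n217352 := d12_2 D205653 D223909 F521945 (iv6 D223906) F437448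
def n223910 : Q := act 4 n205657
theorem D223910 : act 4 n205657 = n223910 := rfl
theorem F521960 : act 2 n223910 = n205661 := d1_1 D223910 (iv4 D205661) (iv2 F437358)
theorem F521961 : act 3 n223910 = n207779 := d5_1 D223910 F446403 F335152 (iv4 F333196) (iv3 F437359)
theorem F521962 : act 5 n223910 = n221025 := d9_2 D205657 D223910 F506862 (iv5 D208762) (iv4 D135037) (iv5 D63465) (iv4 F93713) D126586 D205769 F490865 F490864 D217847 F490903 (iv5 D208595) F216854
theorem F521963 : act 7 n223910 = n212647 := d11_2 (iv7 F437360) D223910 F466863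
theorem F521964 : act 0 n223910 = n205716 := d17_0 (iv5 F508950) F508951 (iv5 F475150) (iv4 D205689) F203447 D135474 (iv5 F437795) F437793 D223910
theorem F521965 : act 1 n223910 = n205714 := d18_6 F217260 (iv4 D135027) (iv1 F216856) F216854 D205657 D223910 (iv4 D205714) (iv0 D126553) D126556
def n223911 : Q := act 6 n205661
theorem D223911 : act 6 n205661 = n223911 := rfl
theorem F521966 : act 3 n223911 = n207658 := d7_1 D223911 (iv6 D207658) (iv3 F437375)
theorem F521967 : act 4 n223911 = n205662 := d10_1 D223911 (iv6 D205662) D205661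
theorem F521968 : act 5 n223911 = n207074 := d12_1 D223911 F447034 F447033 D222920 (iv5 F516779)
theorem F521969 : act 7 n223911 = n205775 := d14_2 F437801 D223911 (iv6 F465637) (iv7 F466881) F466880
theorem F521970 : act 0 n223911 = n207732 := d21_4 D223891 F521863 (iv5 F516779) D223911 F446178 (iv5 D132260) D132258 D207741 F446214 F437447
theorem F521971 : act 1 n223911 = n207733 := d15_1 (iv0 F521970) F446184 (iv2 F446177)
def n223912 : Q := act 3 n205663
theorem D223912 : act 3 n205663 = n223912 := rfl
theorem F521972 : act 2 n223912 = n207946 := d0_1 D223912 F447102 (iv2 F466963) F466964 (iv2 F437408)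
theorem F521973 : act 4 n223912 = n207727 := d5_2 F442811 D223912 (iv3 F499069) (iv4 D219475) F442813
theorem F521974 : act 5 n223912 = n206868 := d6_2 (iv5 F437383) D223912 F442455
theorem F521975 : act 7 n223912 = n206867 := d8_2 (iv7 F437385) D223912 F442453
theorem F521976 : act 0 n223912 = n205783 := d19_4 F499900 F499899 F442811 D223912 (iv5 D205783) (iv4 F437846) F437845 (iv1 D183500) (iv5 F283695) F364083 (iv3 F462488) (iv1 F500195) F500192 F385513 F308052 F247761 F233352 (iv4 F444459) (iv3 F499043)
theorem F521977 : act 0 n205690 = n223912 := d20_4 F363936 F339344 (iv4 F203448) (iv3 F437470) (iv3 D223912) (iv4 F442811) (iv1 D206977) (iv4 D129674) (iv3 F207836) F345877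
theorem F521978 : act 6 n223912 = n205749 := d21_5 F437795 (iv1 D135474) (iv5 F203447) D205690 F521977 (iv5 D205749) F203575 (iv5 F437423) F437424 (iv1 F437793)
def n223913 : Q := act 6 n205663
theorem D223913 : act 6 n205663 = n223913 := rfl
theorem F521979 : act 2 n223913 = n208402 := d3_1 D223913 (iv6 F449206) (iv2 F437408)
theorem F521980 : act 3 n223913 = n205749 := d7_1 D223913 (iv6 F521978) (iv3 D223912)
theorem F521981 : act 4 n223913 = n210255 := d10_1 D223913 F456923 F442811
theorem F521982 : act 5 n223913 = n205748 := d12_1 D223913 (iv6 F437688) (iv5 F344613) (iv6 F207613) (iv5 F437383)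
theorem F521983 : act 0 n223913 = n208398 := d21_4 (iv5 F445905) (iv1 F211802) (iv5 F437383) D223913 (iv6 D208398) D208397 F449188 (iv5 F421965) F437339 (iv1 F445908)
theorem F521984 : act 1 n223913 = n207062 := d15_1 (iv0 F521983) F443158 (iv2 F449190)
theorem F521985 : act 7 n207947 = n223913 := d13_0 F521982 F437686 D207947
def n223914 : Q := act 1 n205669
theorem D223914 : act 1 n205669 = n223914 := rfl
theorem F521986 : act 1 n223914 = n206589 := d15_1 D223914 F441457 F437711
theorem F521987 : act 7 n223914 = n222715 := d15_2 (iv0 F437935) D223914 F515719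
theorem F521988 : act 4 n223914 = n206584 := d18_7 (iv1 D127369) F94224 D105302 (iv4 F395842) (iv5 F396108) (iv4 F437410) D223914 (iv0 D206584) F396543
theorem F521989 : act 6 n222722 = n223914 := d21_3 F451525 D221232 (iv5 F515749) (iv1 D223914) (iv6 D205669) F203414 F203429 F203428 D135479 D208950
theorem F521990 : act 2 n223914 = n205699 := d3_1 F521989 (iv6 F517666) F517663
def n223915 : Q := act 5 n205669
theorem D223915 : act 5 n205669 = n223915 := rfl
theorem F521991 : act 3 n223915 = n205696 := d6_1 D223915 (iv5 D205696) (iv3 F437409)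
theorem F521992 : act 6 n223915 = n205688 := d12_2 D205669 D223915 (iv5 D205688) (iv6 D126526) (iv5 F203414)
theorem F521993 : act 7 n223915 = n222781 := d13_2 (iv7 F437411) D223915 (iv5 D222781)
theorem F521994 : act 4 n223915 = n220461 := d16_2 (iv4 F437410) D223915 F506584 (iv4 D220973) (iv5 D195122) (iv4 F362902) D200654 (iv7 F418407) F418404
def n223916 : Q := act 0 n205670
theorem D223916 : act 0 n205670 = n223916 := rfl
theorem F521995 : act 5 n223916 = n216392 := d17_1 D223916 F484148 (iv5 F453281) F453280 (iv5 D190792) (iv0 F361396) D205180 F435327 (iv4 F437414)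
theorem F521996 : act 4 n223916 = n206645 := d18_1 D223916 (iv1 D206645) D206646 (iv5 F475366) F475365 (iv0 F397779) (iv4 F466986) (iv0 D212672) (iv5 F437415)
theorem F521997 : act 3 n223916 = n205694 := d20_5 F442786 (iv1 D182701) D182702 (iv3 F437413) D223916 F437900 (iv1 F217927) (iv4 F437586) F437585 D206971
theorem F521998 : act 6 n223916 = n220965 := d21_5 (iv5 F207510) F333201 (iv5 F333202) D205670 D223916 F506537 F466974 (iv5 D208952) (iv6 D135479) F207509
theorem F521999 : act 2 n205671 = n223916 := d15_3 (iv0 D223916) (iv0 F443174) F443172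
theorem F522000 : act 1 n205673 = n223916 := d15_0 (iv0 D223916) (iv7 F474214) F474210
theorem F522001 : act 7 n223916 = n205672 := d15_2 (iv0 F443175) F522000 (iv2 F443170)
def n223917 : Q := act 7 n205674
theorem D223917 : act 7 n205674 = n223917 := rfl
theorem F522002 : act 2 n223917 = n223911 := d4_1 D223917 F521969 F437829
theorem F522003 : act 3 n223917 = n212393 := d8_1 D223917 (iv7 D212393) (iv3 F437420)
theorem F522004 : act 4 n223917 = n205675 := d11_1 D223917 (iv7 D205675) D205674
theorem F522005 : act 5 n223917 = n216384 := d13_1 D223917 F484118 (iv5 F443203)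
theorem F522006 : act 6 n223917 = n223910 := d14_1 D223917 F521963 F466864 F233470 (iv6 F437421)
theorem F522007 : act 1 n206800 = n223917 := d15_1 (iv0 F442242) (iv7 D223917) (iv2 F437829)
theorem F522008 : act 1 n223917 = n206805 := d15_1 F522007 (iv7 F446179) F446177
def n223918 : Q := act 5 n205676
theorem D223918 : act 5 n205676 = n223918 := rfl
theorem F522009 : act 2 n223918 = n205688 := d2_1 D223918 (iv5 D205688) (iv2 F437427)
theorem F522010 : act 4 n223918 = n211412 := d9_1 D223918 F461459 (iv4 D193711) F378399 F378395 (iv5 F332614) F216447 D207638 F461464 (iv5 F461465) F390776 (iv5 F390786) F390785 F259025 (iv4 F437428)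
theorem F522011 : act 7 n223918 = n220462 := d13_2 (iv7 F437429) D223918 F503887
theorem F522012 : act 0 n223918 = n218871 := d17_2 F437430 D223918 (iv5 F507774) F507773 F466961 (iv0 F430384) F430382 (iv0 F233489) D203926
def n223919 : Q := act 5 n205678
theorem D223919 : act 5 n205678 = n223919 := rfl
theorem F522013 : act 2 n223919 = n206980 := d2_1 D223919 (iv5 D206980) F437437
theorem F522014 : act 3 n223919 = n212670 := d6_1 D223919 F466978 F437853
theorem F522015 : act 4 n223919 = n206087 := d9_1 D223919 (iv5 F496734) F496733 F394706 (iv4 F369238) (iv5 F369240) (iv4 F437333) D223905 F521938 F487104 (iv4 D190396) (iv5 D96006) (iv4 F144649) (iv5 F374645) (iv4 F437436)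
theorem F522016 : act 6 n223919 = n212669 := d12_2 F484146 D223919 (iv5 F506537) (iv6 F521998) F521995
theorem F522017 : act 7 n223919 = n222751 := d13_2 F488368 D223919 F515883
theorem F522018 : act 0 n223919 = n217614 := d17_2 D205678 D223919 (iv5 D217614) F371102 F353200 (iv0 D94324) (iv5 F135579) (iv0 F288323) (iv4 F363814)
theorem F522019 : act 1 n223919 = n217616 := d17_6 F326588 D187646 F371101 (iv5 F374645) (iv4 F437436) D223919 (iv5 D217616) F371104 F211793
def n223920 : Q := act 5 n205681
theorem D223920 : act 5 n205681 = n223920 := rfl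
theorem F522020 : act 2 n223920 = n221021 := d2_1 D223920 (iv5 D221021) (iv2 F437443)
theorem F522021 : act 3 n223920 = n205801 := d6_1 D223920 (iv5 D205801) (iv3 F437444)
theorem F522022 : act 4 n223920 = n216495 := d9_1 D223920 F484674 (iv4 D208587) (iv5 D134760) (iv4 F99023) (iv5 F203447) D205689 F475150 (iv4 F484670) F484671 (iv4 D208701) (iv5 D134943) (iv4 F217128) F217129 D205681
theorem F522023 : act 6 n223920 = n206699 := d12_2 F446214 D223920 (iv5 D206699) F211901 D207741
theorem F522024 : act 7 n223920 = n212827 := d13_2 (iv7 F437445) D223920 F467651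
theorem F522025 : act 0 n223920 = n221423 := d17_2 (iv1 F437446) D223920 F508950 (iv4 D205716) F380826 (iv0 F437635) (iv5 D205736) F203549 D205621
def n223921 : Q := act 7 n205683
theorem D223921 : act 7 n205683 = n223921 := rfl
theorem F522026 : act 2 n223921 = n206856 := d4_1 D223921 F442425 (iv2 F437450)
theorem F522027 : act 4 n223921 = n221352 := d11_1 D223921 (iv7 D221352) (iv4 F437451)
theorem F522028 : act 5 n223921 = n222694 := d13_1 D223921 F515612 F507805
theorem F522029 : act 1 n208951 = n223921 := d15_1 D208951 (iv7 D223921) F437450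
theorem F522030 : act 1 n223921 = n208950 := d15_1 F522029 (iv7 F451529) F451534
def n223922 : Q := act 5 n205687
theorem D223922 : act 5 n205687 = n223922 := rfl
theorem F522031 : act 2 n223922 = n219176 := d2_1 D223922 F497577 F445797
theorem F522032 : act 3 n223922 = n209143 := d6_1 D223922 (iv5 D209143) (iv3 F437459)
theorem F522033 : act 4 n223922 = n219175 := d9_1 D223922 F497571 F389433 (iv5 F366707) F147489 (iv5 F176974) (iv4 F418719) (iv5 F418721) (iv4 D193320) (iv5 D101449) F74482 D47463 D102269 D193733 (iv4 F437458)
theorem F522034 : act 7 n223922 = n220301 := d13_2 (iv7 F437461) D223922 F503098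
theorem F522035 : act 0 n223922 = n220307 := d17_2 D205687 D223922 (iv5 F503118) (iv4 D195662) (iv5 D106147) F120167 (iv5 F259208) F259210 F332604
theorem F522036 : act 1 n223922 = n220306 := d17_6 F466962 (iv5 D195222) F340923 D193733 (iv4 F437458) D223922 F503115 D221214 F507773
def n223923 : Q := act 0 n205688
theorem D223923 : act 0 n205688 = n223923 := rfl
theorem F522037 : act 5 n223923 = n217617 := d17_3 F418720 D205688 D223923 F489799 (iv5 F475799) (iv0 F475802) F421042 (iv0 F251496) (iv4 F418719)
theorem F522038 : act 4 n223923 = n211455 := d18_1 D223923 F461615 D220299 F503089 F443027 F418723 (iv4 F437458) (iv0 D205687) D205688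
theorem F522039 : act 2 n218871 = n223923 := d15_3 (iv0 D223923) (iv0 F497686) F497685
theorem F522040 : act 1 n220462 = n223923 := d15_0 (iv0 D223923) (iv7 F445799) (iv2 F503886)
theorem F522041 : act 6 n223923 = n221520 := d3_2 F495978 F522039 F509411
def n223924 : Q := act 6 n205689
theorem D223924 : act 6 n205689 = n223924 := rfl
theorem F522042 : act 2 n223924 = n222921 := d3_1 D223924 F516781 (iv2 F437465)
theorem F522043 : act 3 n223924 = n207633 := d7_1 D223924 (iv6 D207633) (iv3 F437466)
theorem F522044 : act 4 n223924 = n205690 := d10_1 D223924 (iv6 D205690) D205689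
theorem F522045 : act 5 n223924 = n209336 := d12_1 D223924 F453295 (iv5 F250915) D214430 (iv5 F475150)
theorem F522046 : act 7 n223924 = n209335 := d14_2 (iv7 F437467) D223924 F453291 D209338 F453309
theorem F522047 : act 0 n223924 = n223897 := d21_4 (iv5 F508950) F508951 (iv5 F475150) D223924 F521894 F446191 (iv1 F484120) (iv5 F522005) F522006 F521964
theorem F522048 : act 0 n223900 = n223924 := d17_0 F522045 (iv1 F453296) F421483 (iv4 F445817) F445818 F441979 (iv5 D205632) D205631 D223900
def n223925 : Q := act 1 n205690
theorem D223925 : act 1 n205690 = n223925 := rfl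
theorem F522049 : act 1 n223925 = n205783 := d15_1 D223925 (iv7 F490195) F490192
theorem F522050 : act 7 n223925 = n207946 := d15_2 (iv0 F521977) D223925 (iv2 F521972)
theorem F522051 : act 4 n223925 = n207726 := d17_9 F446767 F446766 (iv1 F445852) (iv5 F437548) (iv4 F442863) (iv5 D206987) D206985 F442855 D223925
theorem F522052 : act 3 n217620 = n223925 := d20_3 (iv4 F496739) F496742 (iv4 F489816) (iv1 D223925) F437470 F203448 D135627 (iv4 F418948) (iv3 F371483) F441821
theorem F522053 : act 2 n223925 = n206867 := d0_1 F522052 F442453 (iv2 F211797) (iv3 F445893) (iv2 F489815)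
theorem F522054 : act 5 n223925 = n206863 := d6_2 (iv5 F489817) F522052 F442448
theorem F522055 : act 6 n223925 = n222732 := d7_2 F507895 F522052 (iv3 F515799)
def n223926 : Q := act 7 n205690
theorem D223926 : act 7 n205690 = n223926 := rfl
theorem F522056 : act 2 n223926 = n205783 := d4_1 D223926 (iv7 F490195) F490192
theorem F522057 : act 3 n223926 = n205693 := d8_1 D223926 (iv7 D205693) (iv3 F437470)
theorem F522058 : act 4 n223926 = n209335 := d11_1 D223926 (iv7 F522046) F522044
theorem F522059 : act 5 n223926 = n205777 := d13_1 D223926 (iv7 F442850) F442855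
theorem F522060 : act 6 n223926 = n209337 := d14_1 D223926 F453302 (iv6 D205796) F203655 D205690
theorem F522061 : act 1 n206867 = n223926 := d15_1 (iv0 F490197) (iv7 D223926) (iv2 F490192)
theorem F522062 : act 1 n223926 = n207946 := d15_1 F522061 (iv7 F522050) F522053
def n223927 : Q := act 1 n205696
theorem D223927 : act 1 n205696 = n223927 := rfl
theorem F522063 : act 5 n223927 = n212408 := d17_7 F398501 F239691 (iv1 F327114) (iv5 F332592) F332591 D205696 D223927 (iv0 F508122) (iv4 D221278)
theorem F522064 : act 4 n223927 = n217356 := d17_9 (iv1 F488564) (iv5 D194976) (iv1 D104832) D104834 D194980 F395286 F364262 D205696 D223927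
theorem F522065 : act 2 n217354 = n223927 := d1_3 F522064 (iv2 D217356) (iv4 F488555)
def n223928 : Q := act 5 n205697
theorem D223928 : act 5 n205697 = n223928 := rfl
theorem F522066 : act 3 n223928 = n205698 := d6_1 D223928 (iv5 D205698) D205697
theorem F522067 : act 6 n223928 = n209616 := d12_2 F513182 D223928 (iv5 D209616) D209617 (iv5 F513184)
def n223929 : Q := act 6 n205698
theorem D223929 : act 6 n205698 = n223929 := rfl
theorem F522068 : act 3 n223929 = n209616 := d7_1 D223929 (iv6 F522067) F522066
theorem F522069 : act 5 n223929 = n209615 := d12_1 D223929 F454343 F441905 F424820 D205698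
def n223930 : Q := act 5 n205699
theorem D223930 : act 5 n205699 = n223930 := rfl
theorem F522070 : act 3 n223930 = n205700 := d6_1 D223930 (iv5 D205700) D205699
theorem F522071 : act 6 n223930 = n221518 := d12_2 F517666 D223930 F509405 (iv6 F507719) (iv5 F517665)
theorem F522072 : act 4 n223930 = n221519 := d16_2 (iv4 F437488) D223930 (iv5 F513425) F513424 F418409 F418321 D206519 (iv7 F441436) (iv2 F441434)
def n223931 : Q := act 6 n205700
theorem D223931 : act 6 n205700 = n223931 := rfl
theorem F522073 : act 3 n223931 = n221518 := d7_1 D223931 (iv6 F522071) F522070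
theorem F522074 : act 5 n223931 = n206822 := d12_1 D223931 F442437 F442434 F423179 D205700
theorem F522075 : act 7 n223827 = n223931 := d13_0 F522074 (iv7 F442440) (iv5 F521499)
def n223932 : Q := act 3 n205701
theorem D223932 : act 3 n205701 = n223932 := rfl
def n223933 : Q := act 4 n205701
theorem D223933 : act 4 n205701 = n223933 := rfl
theorem F522076 : act 5 n223933 = n218940 := d16_1 D223933 (iv4 F496289) (iv5 D205700) (iv4 F203456) D135483 (iv4 F446234) F446233 (iv7 F445918) (iv2 F445915)
theorem F522077 : act 0 n223933 = n207874 := d18_2 D205701 D223933 (iv4 D207874) (iv5 D132539) F96946 (iv0 F102163) (iv4 F203453) (iv0 D126536) D126538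
theorem F522078 : act 1 n223933 = n207936 := d18_6 F437957 (iv4 F217847) F217848 (iv4 F445910) F445913 D223933 (iv4 D207936) F446831 F446829
theorem F522079 : act 0 n221646 = n223932 := d20_4 F464391 F402127 D196912 D221646 (iv3 D223932) D223933 F522077 (iv4 D207874) (iv3 F445530) (iv1 F464389)
theorem F522080 : act 3 n223933 = n217386 := d20_9 (iv4 F393953) (iv1 F394966) (iv4 F489001) F489003 F481158 F437493 (iv4 D205703) D205701 D223933 F488683
theorem F522081 : act 4 n223932 = n217385 := d5_2 (iv4 D223933) D223932 (iv3 D217385) D217386 (iv3 F522080)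
theorem F522082 : act 6 n217385 = n223933 := d7_0 F522080 (iv6 F488682) D217385
theorem F522083 : act 6 n205701 = n223932 := d10_2 F522082 (iv4 D223933) F522081
def n223934 : Q := act 4 n205702
theorem D223934 : act 4 n205702 = n223934 := rfl
theorem F522084 : act 5 n223934 = n217367 := d9_2 F446233 D223934 F495747 (iv5 D205698) F203453 D134457 (iv4 F445910) F445913 D223933 F522076 (iv4 F496289) (iv5 D205700) (iv4 F203456) D135483 (iv4 F446234)
theorem F522085 : act 6 n223934 = n217499 := d10_2 F499630 D223934 (iv4 F499629)
theorem F522086 : act 0 n223934 = n207936 := d18_2 (iv1 F437491) D223934 (iv4 D207936) (iv5 D132655) F97057 D63700 F203456 F203455 D129416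
theorem F522087 : act 1 n223934 = n207874 := d18_6 D207136 F443468 F219401 (iv4 F446234) F446233 D223934 (iv4 D207874) (iv0 F443480) (iv5 D207138)
theorem F522088 : act 3 n223934 = n217368 := d20_3 (iv4 D206829) (iv1 F437491) D223934 (iv1 F488757) (iv3 F497204) (iv4 D219104) (iv1 F381256) D190829 D219113 (iv1 F497247)
def n223935 : Q := act 1 n205703
theorem D223935 : act 1 n205703 = n223935 := rfl
theorem F522089 : act 1 n223935 = n206829 := d15_1 D223935 F442339 F437944
theorem F522090 : act 4 n223935 = n206956 := d18_7 F102061 (iv4 D62483) (iv1 F101896) (iv4 F93642) D126538 D205703 D223935 F442736 (iv5 D129823)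
theorem F522091 : act 5 n223935 = n219283 := d17_3 (iv1 D223935) (iv5 F442340) (iv1 F522089) F498108 (iv5 D205705) (iv0 F203459) D129642 D206956 (iv4 F522090)
theorem F522092 : act 3 n218754 = n223935 := d20_9 (iv4 D205703) D205701 D223933 F522080 F488683 (iv3 F488749) (iv4 F495480) (iv1 F495483) D218754 (iv1 D223935)
def n223936 : Q := act 6 n205704
theorem D223936 : act 6 n205704 = n223936 := rfl
theorem F522093 : act 3 n223936 = n205706 := d7_1 D223936 (iv6 D205706) D205704
theorem F522094 : act 0 n207738 = n223936 := d21_4 (iv5 F437212) (iv1 F203570) (iv5 F211896) D207738 (iv6 D223936) (iv5 F496976) (iv1 F496979) (iv5 F495239) (iv6 D207943) (iv1 F437213)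
theorem F522095 : act 5 n223936 = n222006 := d17_3 D207035 (iv5 F446198) F522094 F511867 (iv5 F500545) (iv0 F500547) (iv5 F518392) (iv0 F518396) F443058
theorem F522096 : act 7 n205973 = n223936 := d13_0 F522095 F511868 (iv5 F465588)
def n223937 : Q := act 6 n205705
theorem D223937 : act 6 n205705 = n223937 := rfl
theorem F522097 : act 2 n223937 = n207135 := d3_1 D223937 (iv6 D207135) (iv2 F437494)
theorem F522098 : act 5 n223937 = n222007 := d12_1 D223937 (iv6 D222007) (iv5 F437497) (iv6 D205706) D205705
def n223938 : Q := act 3 n205707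
theorem D223938 : act 3 n205707 = n223938 := rfl
theorem F522099 : act 5 n223938 = n219111 := d6_2 F442734 D223938 F497241
theorem F522100 : act 6 n223938 = n207668 := d7_2 (iv6 F437502) D223938 (iv3 D207668)
theorem F522101 : act 0 n223938 = n218705 := d19_4 D59367 D126540 D205707 D223938 (iv5 D218705) (iv4 D189944) (iv3 F367893) D217088 F487346 F394942 F380664 (iv1 F391334) (iv5 F488174) F488173 F428418 F339560 (iv5 D135251) F98903 F93589
theorem F522102 : act 1 n223938 = n207734 := d15_1 (iv0 F522101) (iv7 F496984) F496982
def n223939 : Q := act 6 n205711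
theorem D223939 : act 6 n205711 = n223939 := rfl
theorem F522103 : act 2 n223939 = n222755 := d3_1 D223939 (iv6 D222755) (iv2 F437524)
theorem F522104 : act 3 n223939 = n207872 := d7_1 D223939 (iv6 D207872) (iv3 F437527)
theorem F522105 : act 4 n223939 = n205712 := d10_1 D223939 (iv6 D205712) D205711
theorem F522106 : act 5 n223939 = n222748 := d12_1 D223939 (iv6 D222748) (iv5 F421724) (iv6 F474959) F474958
theorem F522107 : act 7 n223939 = n222737 := d14_2 (iv7 F437525) D223939 (iv6 D222737) F453323 (iv6 D209342)
theorem F522108 : act 0 n223939 = n222269 := d21_4 D201033 (iv1 F474961) F474958 D223939 F513267 F507704 (iv1 F443125) D222406 F514036 (iv1 D201032)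
theorem F522109 : act 0 n222268 = n223939 := d21_4 D217611 F489788 (iv5 F486158) (iv6 F513261) (iv6 D223939) (iv5 F474958) (iv1 F474960) (iv5 F421663) (iv6 F366211) (iv1 F371095)
def n223940 : Q := act 5 n205714
theorem D223940 : act 5 n205714 = n223940 := rfl
theorem F522110 : act 2 n223940 = n221917 := d2_1 D223940 F511385 (iv2 F437541)
theorem F522111 : act 3 n223940 = n221385 := d6_1 D223940 F508739 F507841
theorem F522112 : act 4 n223940 = n220564 := d9_1 D223940 F504379 (iv4 D208759) (iv5 F365142) (iv4 F216810) (iv5 F380826) D205716 (iv5 F508950) F508949 F450732 (iv4 D208757) F365167 (iv4 F437270) F437272 D205714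
theorem F522113 : act 6 n223940 = n220563 := d12_2 (iv6 F466984) D223940 F504375 (iv6 F508015) F508017
theorem F522114 : act 7 n223940 = n223881 := d13_2 (iv7 F437542) D223940 (iv5 D223881)
theorem F522115 : act 0 n223940 = n223920 := d17_2 F437802 D223940 (iv5 D223920) (iv4 D205681) (iv5 F217129) F217838 (iv5 F437787) (iv0 D205767) D205769
theorem F522116 : act 1 n223940 = n214430 := d17_6 (iv1 D126484) D126486 D205627 F437272 D205714 D223940 (iv5 F475150) (iv0 F437469) (iv4 D205623)
def n223941 : Q := act 5 n205715
theorem D223941 : act 5 n205715 = n223941 := rfl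
theorem F522117 : act 2 n223941 = n223884 := d2_1 D223941 (iv5 D223884) (iv2 F437543)
theorem F522118 : act 3 n223941 = n221210 := d6_1 D223941 (iv5 F507832) F507830
theorem F522119 : act 6 n223941 = n222933 := d12_2 D205715 D223941 F521885 (iv6 D223895) F437272
theorem F522120 : act 4 n223941 = n212348 := d16_2 F466981 D223941 (iv5 F465421) F459894 (iv5 F451788) D222731 F515794 (iv7 F466969) (iv2 F466979)
theorem F522121 : act 1 n223941 = n222006 := d17_6 (iv1 D222761) F452066 F508019 F508017 F466981 D223941 (iv5 F522095) (iv0 F522094) F515938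
theorem F522122 : act 0 n223941 = n222729 := d18_0 F515787 F458943 (iv4 F516876) F516877 F466868 (iv0 F446654) (iv4 F442351) (iv0 F445837) D223941
def n223942 : Q := act 1 n205717
theorem D223942 : act 1 n205717 = n223942 := rfl
theorem F522123 : act 1 n223942 = n207721 := d15_1 D223942 F446154 (iv2 F437547)
theorem F522124 : act 7 n223942 = n223883 := d15_2 (iv0 F445931) D223942 (iv2 F521822)
theorem F522125 : act 3 n207817 = n223942 := d19_19 (iv1 D223942) F437548 D207724 (iv3 F460645) F460646 (iv5 F491344) F491345 (iv3 D216616) (iv1 D185055) (iv5 D88205) (iv4 F135138) F135137 (iv1 F65432) D88509 (iv4 F283777) (iv3 F354319) F446726 (iv5 D207852) (iv4 F446581)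
theorem F522126 : act 2 n223942 = n207807 := d0_1 F522125 (iv3 D207807) F212424 D206689 F446582
def n223943 : Q := act 7 n205717
theorem D223943 : act 7 n205717 = n223943 := rfl
theorem F522127 : act 2 n223943 = n207721 := d4_1 D223943 F446154 (iv2 F437547)
theorem F522128 : act 3 n223943 = n216386 := d8_1 D223943 F484127 F442761
theorem F522129 : act 4 n223943 = n223904 := d11_1 D223943 F521932 F442863
theorem F522130 : act 5 n223943 = n207650 := d13_1 D223943 F445853 (iv5 F437548)
theorem F522131 : act 6 n223943 = n223885 := d14_1 D223943 (iv7 D223885) (iv6 D205609) F380829 D205717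
theorem F522132 : act 1 n207807 = n223943 := d15_1 (iv0 F446533) (iv7 D223943) F437547
theorem F522133 : act 1 n223943 = n223883 := d15_1 F522132 (iv7 F522124) F522126
theorem F522134 : act 5 n223883 = n223739 := d17_7 D204636 D223742 F521008 (iv5 D209597) F446146 (iv5 F522130) F522133 (iv0 D223739) F433091
def n223944 : Q := act 5 n205727
theorem D223944 : act 5 n205727 = n223944 := rfl
theorem F522135 : act 2 n223944 = n207939 := d2_1 D223944 (iv5 D207939) (iv2 F437591)
theorem F522136 : act 3 n223944 = n205728 := d6_1 D223944 (iv5 D205728) D205727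
theorem F522137 : act 6 n223944 = n207740 := d12_2 F442552 D223944 F446206 (iv6 F436571) (iv5 F442551)
theorem F522138 : act 7 n223944 = n207697 := d13_2 (iv7 F437593) D223944 (iv5 D207697)
theorem F522139 : act 1 n223944 = n222730 := d17_6 (iv1 D146799) (iv5 F178742) D201500 (iv5 F420745) (iv4 F437592) D223944 (iv5 D222730) F465480 (iv4 D212359)
theorem F522140 : act 4 n223944 = n207948 := d18_5 (iv1 D159655) F333184 (iv1 F355296) (iv4 F437592) D223944 (iv0 F508020) F418365 D212253 F464985
def n223945 : Q := act 6 n205734
theorem D223945 : act 6 n205734 = n223945 := rfl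
theorem F522141 : act 2 n223945 = n221339 := d3_1 D223945 F508461 (iv2 F437625)
theorem F522142 : act 3 n223945 = n221009 := d7_1 D223945 (iv6 D221009) (iv3 F437626)
theorem F522143 : act 4 n223945 = n205735 := d10_1 D223945 (iv6 D205735) D205734
theorem F522144 : act 7 n223945 = n223906 := d14_2 (iv7 F437627) D223945 (iv6 D223906) F437763 (iv6 F437762)
theorem F522145 : act 0 n223945 = n218929 := d21_4 F521962 F511371 F511369 D223945 F496239 F452066 F508019 F508017 (iv6 F466984) (iv1 F521965)
theorem F522146 : act 5 n223945 = n217426 := d21_6 (iv5 D201738) D201735 D222921 F516781 F437629 D223945 (iv1 F488835) D219199 (iv6 F516796) (iv1 D222923)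
theorem F522147 : act 0 n209062 = n223945 := d21_4 (iv5 F465633) F465367 (iv5 D212335) (iv6 F452059) (iv6 D223945) (iv5 F511369) F511370 (iv5 F490865) (iv6 F466880) (iv1 F466883)
def n223946 : Q := act 1 n205735
theorem D223946 : act 1 n205735 = n223946 := rfl
theorem F522148 : act 1 n223946 = n207858 := d15_1 D223946 F446754 (iv2 F437630)
theorem F522149 : act 7 n223946 = n223890 := d15_2 (iv0 F474830) D223946 (iv2 F521855)
theorem F522150 : act 5 n223946 = n218767 := d17_7 F369552 F147504 (iv1 F343083) F369779 D217424 (iv5 F488832) D223946 F495560 (iv4 D217345)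
theorem F522151 : act 4 n223946 = n223890 := d18_7 (iv1 F495553) (iv4 D218765) D218763 F495545 (iv5 F522146) F522143 D223946 (iv0 D223890) (iv5 F488823)
theorem F522152 : act 3 n207878 = n223946 := d19_19 (iv1 D223946) F488832 (iv4 D217424) (iv3 F388068) F388070 (iv5 D190989) F152403 (iv3 F283243) (iv1 F335694) D191468 (iv4 F386379) F386377 (iv1 F367514) (iv5 D186635) (iv4 F155440) (iv3 F346976) F346974 (iv5 F337662) (iv4 F446850)
theorem F522153 : act 2 n223946 = n205812 := d0_1 F522152 (iv3 D205812) F203676 D133169 F446851
def n223947 : Q := act 5 n205741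
theorem D223947 : act 5 n205741 = n223947 := rfl
theorem F522154 : act 2 n223947 = n207697 := d2_1 D223947 (iv5 D207697) (iv2 F437652)
theorem F522155 : act 3 n223947 = n221189 := d6_1 D223947 F507653 F442496
theorem F522156 : act 6 n223947 = n207726 := d12_2 F437651 D223947 F446171 (iv6 D204635) (iv5 F355287)
theorem F522157 : act 7 n223947 = n207939 := d13_2 (iv7 F437650) D223947 (iv5 D207939)
theorem F522158 : act 0 n223947 = n222730 := d17_2 (iv1 F437649) D223947 (iv5 D222730) F418348 D200905 (iv0 F451188) (iv5 D208871) F217986 F217984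
theorem F522159 : act 4 n223947 = n222732 := d18_5 (iv1 F437828) F437824 (iv1 F218369) (iv4 F437653) D223947 F515797 (iv4 F515943) F515947 F465461
def n223948 : Q := act 6 n205747
theorem D223948 : act 6 n205747 = n223948 := rfl
theorem F522160 : act 2 n223948 = n207738 := d3_1 D223948 (iv6 D207738) (iv2 F437681)
theorem F522161 : act 3 n223948 = n221205 := d7_1 D223948 F507727 F499304
theorem F522162 : act 4 n223948 = n212252 := d10_1 D223948 (iv6 F465462) F443214
theorem F522163 : act 5 n223948 = n207902 := d12_1 D223948 (iv6 D207902) (iv5 D132558) F203565 D205747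
theorem F522164 : act 0 n205973 = n223948 := d21_4 F446944 (iv1 F452057) D212380 F465590 (iv6 D223948) (iv5 D205747) (iv1 D126570) D126571 (iv6 F437655) (iv1 F437657)
def n223949 : Q := act 0 n205748
theorem D223949 : act 0 n205748 = n223949 := rfl
theorem F522165 : act 5 n223949 = n208947 := d17_1 D223949 F451513 (iv5 F496909) F496908 F450442 F499515 (iv5 F511835) (iv0 D222001) (iv4 F437685)
theorem F522166 : act 4 n223949 = n209290 := d18_1 D223949 (iv1 F453063) D210303 F456920 F443074 (iv0 F409984) (iv4 F449191) (iv0 F521983) F521982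
theorem F522167 : act 3 n223949 = n219514 := d20_5 F93689 D59383 D126573 D205748 D223949 (iv4 F508732) (iv1 F508735) (iv4 F437678) (iv3 D205746) (iv1 D126570)
theorem F522168 : act 6 n223949 = n205784 := d21_5 F329051 F203545 F344613 F437688 D223949 (iv5 F490193) F490196 F447104 F371107 (iv1 D137823)
theorem F522169 : act 2 n205790 = n223949 := d15_3 (iv0 D223949) (iv0 F437689) D205790
theorem F522170 : act 1 n205788 = n223949 := d15_0 (iv0 D223949) F437686 (iv2 F444400)
theorem F522171 : act 7 n223949 = n205785 := d15_2 D205788 F522170 F437855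
def n223950 : Q := act 5 n205753
theorem D223950 : act 5 n205753 = n223950 := rfl
theorem F522172 : act 2 n223950 = n223915 := d2_1 D223950 (iv5 D223915) (iv2 F437711)
theorem F522173 : act 3 n223950 = n207949 := d6_1 D223950 (iv5 D207949) (iv3 F437712)
theorem F522174 : act 4 n223950 = n222739 := d9_1 D223950 (iv5 D222739) (iv4 D200932) (iv5 D113635) D113634 F396110 D201123 D222781 F516045 (iv5 D221950) F420130 (iv5 D113630) D113629 D200923 (iv4 F437713)
theorem F522175 : act 6 n223950 = n223918 := d12_2 D205753 D223950 (iv5 D223918) (iv6 D205676) (iv5 F203589)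
theorem F522176 : act 1 n223950 = n222718 := d17_6 F418742 (iv5 D126291) (iv1 F395859) D200923 (iv4 F437713) D223950 (iv5 D222718) (iv0 F508132) F508130
theorem F522177 : act 1 n222745 = n223950 := d18_6 (iv1 F419104) (iv4 D200937) (iv1 D113638) D113639 D200939 D222745 F522174 F515833 F461470
def n223951 : Q := act 6 n205765
theorem D223951 : act 6 n205765 = n223951 := rfl
theorem F522178 : act 2 n223951 = n223906 := d3_1 D223951 (iv6 D223906) (iv2 F437777)
theorem F522179 : act 3 n223951 = n212089 := d7_1 D223951 F508717 F508713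
theorem F522180 : act 4 n223951 = n207858 := d10_1 D223951 (iv6 D207858) (iv4 F437780)
theorem F522181 : act 5 n223951 = n212088 := d12_1 D223951 (iv6 F510080) F510079 (iv6 D205766) D205765
theorem F522182 : act 7 n223951 = n221339 := d14_2 (iv7 F437778) D223951 F508461 (iv7 F437622) F437621
theorem F522183 : act 0 n223951 = n209062 := d21_10 F452058 D218897 F496088 (iv6 D207750) (iv1 F437426) F437424 (iv5 D205657) (iv1 F203615) D205765 D223951
theorem F522184 : act 0 n218929 = n223951 := d21_4 (iv5 F515794) F515795 (iv5 F452066) (iv6 F496239) (iv6 D223951) (iv5 D205765) (iv1 D126584) D126586 (iv6 F364738) (iv1 F466972)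
def n223952 : Q := act 1 n205766
theorem D223952 : act 1 n205766 = n223952 := rfl
theorem F522185 : act 1 n223952 = n221009 := d15_1 D223952 F506776 (iv2 F437782)
theorem F522186 : act 7 n223952 = n223908 := d15_2 (iv0 F445450) D223952 (iv2 F521954)
theorem F522187 : act 4 n223952 = n208753 := d18_7 (iv1 D216695) (iv4 F485468) F485470 (iv4 F503600) F503598 F456651 D223952 F450717 F485507
theorem F522188 : act 3 n223914 = n223952 := d20_3 F441426 D206584 (iv4 F521988) (iv1 D223952) (iv3 F445446) F445447 (iv1 F399245) (iv4 F445527) (iv3 F515636) (iv1 F515639)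
theorem F522189 : act 2 n223952 = n205807 := d0_1 F522188 (iv3 D205807) F203674 D205699 (iv2 F521990)
theorem F522190 : act 6 n223952 = n216297 := d7_2 F521989 F522188 F515751
def n223953 : Q := act 5 n205776
theorem D223953 : act 5 n205776 = n223953 := rfl
theorem F522191 : act 2 n223953 = n205794 := d2_1 D223953 (iv5 D205794) (iv2 F437831)
theorem F522192 : act 3 n223953 = n223918 := d6_1 D223953 (iv5 D223918) (iv3 F437832)
theorem F522193 : act 6 n223953 = n207949 := d12_2 D205776 D223953 (iv5 D207949) (iv6 D132691) (iv5 F203631)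
theorem F522194 : act 4 n223953 = n211780 := d16_6 (iv4 F365084) D214059 F473287 (iv5 F449066) F449065 D223953 (iv5 D211780) F443606 F443599
theorem F522195 : act 0 n223953 = n217430 := d20_7 F369791 F361095 D190069 (iv3 F461911) (iv1 F512743) F512738 (iv4 F522194) F488845 F369781 D187311
def n223954 : Q := act 5 n205780
theorem D223954 : act 5 n205780 = n223954 := rfl
theorem F522196 : act 2 n223954 = n208464 := d2_1 D223954 (iv5 D208464) (iv2 F437844)
theorem F522197 : act 3 n223954 = n213393 := d6_1 D223954 F470207 (iv3 F437845)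
theorem F522198 : act 6 n223954 = n213392 := d12_2 D205780 D223954 (iv5 F470760) (iv6 D213509) (iv5 F360769)
theorem F522199 : act 7 n223954 = n209602 := d13_2 F487216 D223954 F487218
theorem F522200 : act 4 n223954 = n209603 := d16_2 (iv4 F437846) D223954 F454306 (iv4 F453294) (iv5 F522045) F522044 (iv5 F442855) F442850 F437833
def n223955 : Q := act 5 n205788
theorem D223955 : act 5 n205788 = n223955 := rfl
theorem F522201 : act 2 n223955 = n207947 := d2_1 D223955 (iv5 D207947) (iv2 F444400)
theorem F522202 : act 3 n223955 = n221388 := d6_1 D223955 F508753 (iv3 F444401)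
theorem F522203 : act 6 n223955 = n210200 := d12_2 F444419 D223955 F456537 F445900 (iv5 F444420)
theorem F522204 : act 7 n223955 = n208402 := d13_2 F446669 D223955 (iv5 F449205)
theorem F522205 : act 0 n223955 = n207062 := d17_2 (iv1 F522170) D223955 F443166 (iv4 F454350) (iv5 D209622) D209619 F454356 F453063 (iv4 F522166)
theorem F522206 : act 1 n223955 = n208398 := d17_6 D208683 F450440 (iv1 D207334) D207335 F444399 D223955 (iv5 F514789) (iv0 D222538) F414973
theorem F522207 : act 4 n223955 = n208452 := d18_5 (iv1 F521892) F521888 (iv1 F511839) F444399 D223955 (iv0 F516029) (iv4 F516902) (iv0 F516905) F446602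
def n223956 : Q := act 5 n205793
theorem D223956 : act 5 n205793 = n223956 := rfl
theorem F522208 : act 2 n223956 = n223931 := d2_1 D223956 F522074 (iv2 F442438)
theorem F522209 : act 3 n223956 = n218895 := d6_1 D223956 F496082 F442884
theorem F522210 : act 6 n223956 = n205808 := d12_2 (iv6 F437884) D223956 (iv5 D205808) (iv6 F224326) F360509
theorem F522211 : act 4 n223956 = n218782 := d19_2 (iv1 F442309) D223956 (iv3 D218782) (iv1 F381614) (iv5 F392838) F392839 F364909 (iv1 F188191) D175119 F274102 (iv3 F130244) F190106 (iv5 F109384) D154035 D213524 F470847 F390781 D195629 (iv3 F442307)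
def n223957 : Q := act 1 n205794
theorem D223957 : act 1 n205794 = n223957 := rfl
theorem F522212 : act 7 n223957 = n217430 := d15_2 (iv0 F499206) D223957 (iv2 F495981)
theorem F522213 : act 5 n219508 = n223957 := d21_6 F208379 (iv1 F207500) D129316 D206789 (iv1 F520521) F520518 (iv1 D223957) (iv5 D205794) (iv6 D126607) (iv1 F208378)
theorem F522214 : act 3 n223957 = n219284 := d6_1 F522213 F498111 (iv3 F499208)
theorem F522215 : act 4 n223957 = n217433 := d16_2 D219508 F522213 F488853 F458667 D210743 (iv4 F458671) F384042 F470790 F470786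
def n223958 : Q := act 4 n205794
theorem D223958 : act 4 n205794 = n223958 := rfl
theorem F522216 : act 2 n223958 = n211780 := d1_1 D223958 (iv4 F522194) F522191
theorem F522217 : act 6 n223958 = n212760 := d10_2 F442887 D223958 F467395
theorem F522218 : act 7 n223958 = n211778 := d11_2 F442326 D223958 F463058
theorem F522219 : act 5 n223958 = n211768 := d18_4 F495986 (iv4 F522215) (iv1 D223957) D223958 (iv4 F473290) F518030 F518027 F500314 F500312
theorem F522220 : act 1 n223958 = n222607 := d18_8 F512323 F512322 F505597 F505594 F393697 (iv4 F495983) (iv0 F499206) D223958 F515147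
theorem F522221 : act 3 n223958 = n222096 := d19_3 (iv1 D205793) D205794 D223958 (iv1 F512339) F408133 (iv4 F397189) (iv3 F469896) F469897 (iv5 D203212) (iv4 D118223) (iv3 F319617) F319615 F264606 (iv4 F239308) (iv3 F444769) (iv1 F444772) F347023 F442883 F442884
theorem F522222 : act 1 n219112 = n223958 := d15_0 F522220 F515149 (iv2 F497242)
def n223959 : Q := act 5 n205803
theorem D223959 : act 5 n205803 = n223959 := rfl
theorem F522223 : act 2 n223959 = n221207 := d2_1 D223959 (iv5 D221207) (iv2 F437925)
theorem F522224 : act 3 n223959 = n207925 := d6_1 D223959 (iv5 D207925) (iv3 F437926)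
theorem F522225 : act 4 n223959 = n222161 := d9_1 D223959 F512660 F481994 F395179 (iv4 F335994) (iv5 F332592) F332591 D205696 F437486 (iv5 F482002) F482000 D220932 F506345 F448155 (iv4 F437927)
theorem F522226 : act 6 n223959 = n222160 := d12_2 D205803 D223959 F512655 F442336 F388444
theorem F522227 : act 7 n223959 = n205804 := d13_2 (iv7 F437928) D223959 (iv5 D205804)
theorem F522228 : act 0 n223959 = n223927 := d17_2 F437929 D223959 F522063 F465682 (iv5 D201872) F179443 F179441 F99354 D135657
theorem F522229 : act 1 n223959 = n217428 := d17_6 D195667 F397794 (iv1 F448158) F448155 (iv4 F437927) D223959 (iv5 F507791) (iv0 D221218) (iv4 D195668)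
def n223960 : Q := act 0 n205804
theorem D223960 : act 0 n205804 = n223960 := rfl
theorem F522230 : act 5 n223960 = n221279 := d17_1 D223960 (iv1 D221279) (iv5 F506383) F506382 (iv5 D215500) F413785 D222494 F514531 F512760
theorem F522231 : act 4 n223960 = n215094 := d18_1 D223960 F478313 (iv4 F443014) (iv5 D207023) F208180 F99352 D135855 (iv0 F350917) D205804
theorem F522232 : act 3 n223960 = n223923 := d20_5 (iv4 F495501) F495502 F467395 F442886 D223960 F522038 F461615 D220299 F503091 (iv1 F478616)
theorem F522233 : act 2 n217428 = n223960 := d15_3 (iv0 D223960) (iv0 F488556) (iv7 F488838)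
theorem F522234 : act 1 n221207 = n223960 := d15_0 (iv0 D223960) (iv7 F522227) F522223
theorem F522235 : act 7 n223960 = n223927 := d15_2 (iv0 F507743) F522234 (iv2 F522065)
theorem F522236 : act 6 n223960 = n219259 := d3_2 F496077 F522233 F497983
def n223961 : Q := act 5 n205805
theorem D223961 : act 5 n205805 = n223961 := rfl
theorem F522237 : act 3 n223961 = n205806 := d6_1 D223961 (iv5 D205806) D205805
theorem F522238 : act 7 n223961 = n223930 := d13_2 (iv7 F437934) D223961 (iv5 D223930)
def n223962 : Q := act 6 n205806
theorem D223962 : act 6 n205806 = n223962 := rfl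
theorem F522239 : act 2 n223962 = n223929 := d3_1 D223962 (iv6 D223929) (iv2 F437936)
theorem F522240 : act 5 n223962 = n222059 := d12_1 D223962 (iv6 D222059) F407119 F220485 D205806
def n223963 : Q := act 5 n205807
theorem D223963 : act 5 n205807 = n223963 := rfl
theorem F522241 : act 3 n223963 = n205808 := d6_1 D223963 (iv5 D205808) D205807
theorem F522242 : act 6 n223963 = n218895 := d12_2 F460792 D223963 F496082 F442885 (iv5 F460791)
theorem F522243 : act 7 n223963 = n223928 := d13_2 (iv7 F437939) D223963 (iv5 D223928)
theorem F522244 : act 4 n223963 = n218896 := d16_2 (iv4 F437938) D223963 F496085 (iv4 F473141) F473143 (iv4 F471191) F471192 (iv7 F450718) F450721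
def n223964 : Q := act 3 n205809
theorem D223964 : act 3 n205809 = n223964 := rfl
theorem F522245 : act 5 n223964 = n222719 := d6_2 F442059 D223964 F515733
theorem F522246 : act 7 n223964 = n222718 := d8_2 (iv7 F445918) D223964 F515732
theorem F522247 : act 4 n220976 = n223964 := d19_2 F410876 D220976 (iv3 D223964) (iv1 F437942) (iv5 D132176) F96601 (iv3 F93663) F328641 D113872 (iv4 F338631) (iv3 F338636) (iv1 F161858) (iv5 D48767) F177795 D76281 (iv1 F356462) F161593 D188118 (iv3 F410874)
theorem F522248 : act 2 n223964 = n222745 := d1_1 F522247 (iv4 D222745) (iv2 F506595)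
theorem F522249 : act 6 n223964 = n222745 := d10_2 (iv6 F506596) F522247 (iv4 D222745)
theorem F522250 : act 1 n223964 = n223915 := d18_6 F461116 F401134 F375319 D195124 D220976 F522247 F521994 (iv0 F512284) F512282
def n223965 : Q := act 4 n205809
theorem D223965 : act 4 n205809 = n223965 := rfl
theorem F522251 : act 2 n223965 = n223933 := d1_1 D223965 (iv4 D223933) F445915
theorem F522252 : act 3 n223965 = n217452 := d5_1 D223965 (iv4 F511752) F511754 F522247 (iv3 D223964)
theorem F522253 : act 7 n223965 = n223934 := d11_2 (iv7 F445918) D223965 (iv4 D223934)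
theorem F522254 : act 5 n223965 = n217451 := d16_1 D223965 (iv4 F495745) (iv5 D205808) (iv4 F203673) D135215 (iv4 F441860) F441861 (iv7 F445916) F445915
theorem F522255 : act 0 n223965 = n207024 := d18_2 D205809 D223965 (iv4 D207024) (iv5 D129823) F95528 F99074 (iv4 F203667) (iv0 D126616) D126618
theorem F522256 : act 1 n223965 = n206957 := d18_6 F437245 F437244 F217909 (iv4 F442060) F442059 D223965 (iv4 D206957) D206956 F442737
def n223966 : Q := act 6 n205809
theorem D223966 : act 6 n205809 = n223966 := rfl
theorem F522257 : act 2 n223966 = n223932 := d3_1 D223966 (iv6 F522083) F445915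
theorem F522258 : act 3 n223966 = n222745 := d7_1 D223966 (iv6 F522249) (iv3 D223964)
theorem F522259 : act 0 n223909 = n223966 := d21_4 (iv5 F452446) F521944 (iv5 F521945) (iv6 F521959) (iv6 D223966) (iv5 F442059) (iv1 F442061) D222537 F514785 (iv1 F498020)
def n223967 : Q := act 3 n205810
theorem D223967 : act 3 n205810 = n223967 := rfl
theorem F522260 : act 6 n223967 = n217013 := d7_2 F441862 D223967 F486988
theorem F522261 : act 7 n223967 = n223932 := d8_2 F445916 D223967 (iv3 D223932)
theorem F522262 : act 4 n217468 = n223967 := d11_3 F522261 F522081 (iv7 F489020)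
theorem F522263 : act 1 n223909 = n223967 := d15_1 (iv0 F522259) F522261 (iv2 F522257)
theorem F522264 : act 1 n223967 = n222602 := d15_1 F522263 (iv7 F515122) (iv2 F521957)
def n223968 : Q := act 4 n205810
theorem D223968 : act 4 n205810 = n223968 := rfl
theorem F522265 : act 2 n223968 = n223934 := d1_1 D223968 (iv4 D223934) (iv2 F445917)
theorem F522266 : act 3 n223968 = n217469 := d5_1 D223968 (iv4 D217469) D217468 F522262 (iv3 D223967)
theorem F522267 : act 5 n223968 = n219280 := d9_2 F441861 D223968 (iv4 F498100) (iv5 D205806) F203667 D135500 (iv4 F442060) F442059 D223965 F522254 (iv4 F495745) (iv5 D205808) (iv4 F203673) D135215 (iv4 F441860)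
theorem F522268 : act 6 n223968 = n219615 := d10_2 F441862 D223968 (iv4 D219615)
theorem F522269 : act 7 n223968 = n223933 := d11_2 F445916 D223968 (iv4 D223933)
theorem F522270 : act 0 n223968 = n206957 := d18_2 (iv1 F437943) D223968 (iv4 D206957) (iv5 D129642) F95444 (iv0 F102161) F203673 F203671 D132176
theorem F522271 : act 1 n223968 = n207024 := d18_6 F437504 (iv4 F407067) F407070 (iv4 F441860) F441861 D223968 (iv4 D207024) F442735 F442734
def n223969 : Q := act 0 n205811
theorem D223969 : act 0 n205811 = n223969 := rfl
theorem F522272 : act 4 n223969 = n207138 := d18_3 (iv1 D205810) D205811 D223969 (iv5 D207138) (iv4 D130504) (iv0 F101884) (iv4 F207405) F441864 F441861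
theorem F522273 : act 6 n223969 = n222598 := d21_5 F495565 (iv1 F506147) (iv5 F512761) F512762 D223969 F515108 (iv1 F425635) D222129 F512501 F495567
theorem F522274 : act 1 n207641 = n223969 := d15_0 (iv0 D223969) (iv7 F442339) (iv2 F445807)
theorem F522275 : act 5 n219122 = n223969 := d17_5 F443480 (iv5 D132539) F203679 D205813 (iv4 F497294) (iv0 D223969) (iv5 F445809) F522274 F522272
theorem F522276 : act 2 n223969 = n219113 := d2_1 F522275 F497245 (iv2 F497293)
theorem F522277 : act 3 n223969 = n219123 := d6_1 F522275 (iv5 D219123) D219122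
theorem F522278 : act 7 n223969 = n223935 := d13_2 F498109 F522275 F522091
def n223970 : Q := act 1 n205811
theorem D223970 : act 1 n205811 = n223970 := rfl
theorem F522279 : act 1 n223970 = n207641 := d15_1 D223970 F445808 (iv2 F437944)
theorem F522280 : act 7 n223970 = n219113 := d15_2 (iv0 D223969) D223970 (iv2 F522276)
theorem F522281 : act 4 n223970 = n207873 := d18_7 F203679 (iv4 D126619) (iv1 D59404) (iv4 F93747) D126618 D205811 D223970 (iv0 D207873) (iv5 D132539)
theorem F522282 : act 5 n223970 = n207134 := d17_3 (iv1 D223970) (iv5 F445809) (iv1 F522279) (iv4 D207134) (iv5 D130503) (iv0 F102048) D132655 F446831 (iv4 F522281)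
theorem F522283 : act 3 n217392 = n223970 := d20_9 (iv4 D205811) D205809 D223965 F522252 F488945 (iv3 F506002) (iv4 D220872) F394339 (iv4 F488701) (iv1 D223970)
theorem F522284 : act 2 n223970 = n223935 := d0_1 F522283 (iv3 F522092) (iv2 F497210) (iv3 D219105) F488703
def n223971 : Q := act 3 n205811
theorem D223971 : act 3 n205811 = n223971 := rfl
theorem F522285 : act 2 n223971 = n222141 := d0_1 D223971 (iv3 F512566) F480253 F437493 (iv2 F437944)
theorem F522286 : act 4 n223971 = n222096 := d5_2 D205811 D223971 (iv3 F522221) (iv4 D223958) F437885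
theorem F522287 : act 5 n223971 = n222184 := d6_2 F445809 D223971 F512776
theorem F522288 : act 6 n223971 = n222164 := d7_2 F512762 D223971 (iv3 F512759)
theorem F522289 : act 7 n223971 = n222101 := d8_2 F442339 D223971 F512368
theorem F522290 : act 0 n223971 = n222158 := d20_10 F512645 (iv1 F489046) (iv4 F489048) (iv3 F477468) (iv1 F489025) (iv3 F522266) (iv4 D223968) (iv1 D205810) D205811 D223971
theorem F522291 : act 1 n223971 = n222157 := d15_1 (iv0 F522290) (iv7 F512642) (iv2 F512647)
def n223972 : Q := act 6 n205812
theorem D223972 : act 6 n205812 = n223972 := rfl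
theorem F522292 : act 3 n223972 = n205814 := d7_1 D223972 (iv6 D205814) D205812
theorem F522293 : act 4 n223972 = n223936 := d10_1 D223972 (iv6 D223936) (iv4 F437945)
theorem F522294 : act 5 n223972 = n209139 := d12_1 D223972 (iv6 D209139) D209138 F495232 (iv5 F495234)
theorem F522295 : act 7 n223972 = n212380 := d14_2 (iv7 F437946) D223972 F465590 F522096 (iv6 D223936)
theorem F522296 : act 0 n223972 = n223947 := d21_10 (iv5 D223947) (iv1 D205741) D205742 F437655 (iv1 F211893) D207734 (iv5 F495238) (iv1 F495230) (iv5 F495234) D223972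
theorem F522297 : act 0 n223944 = n223972 := d21_4 (iv5 D200083) D200081 (iv5 F446206) (iv6 F522137) (iv6 D223972) F495234 (iv1 D218703) D218705 F495241 F441997
def n223973 : Q := act 6 n205813
theorem D223973 : act 6 n205813 = n223973 := rfl
theorem F522298 : act 2 n223973 = n208012 := d3_1 D223973 (iv6 D208012) (iv2 F437947)
theorem F522299 : act 3 n223973 = n209138 := d7_1 D223973 F495232 F495233
theorem F522300 : act 4 n223973 = n211784 := d10_1 D223973 (iv6 F497295) F497294
theorem F522301 : act 5 n223973 = n209137 := d12_1 D223973 (iv6 F454808) F446050 (iv6 D205814) D205813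
theorem F522302 : act 0 n219505 = n223973 := d21_4 (iv5 F468974) F499201 (iv5 F506223) (iv6 F506226) (iv6 D223973) (iv5 D205813) F203678 D132655 (iv6 F218149) D209060
theorem F522303 : act 7 n211783 = n223973 := d13_0 F522301 F452424 F463063
theorem F522304 : act 0 n223973 = n219063 := d20_4 (iv4 F512496) F512498 F482009 (iv3 F522299) (iv3 D219063) (iv4 D190740) (iv1 F343070) D190253 (iv3 F395284) D220938
def n223974 : Q := act 3 n205815
theorem D223974 : act 3 n205815 = n223974 := rfl
theorem F522305 : act 4 n223974 = n223938 := d5_2 D205815 D223974 (iv3 D223938) (iv4 D205707) (iv3 F203681)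
theorem F522306 : act 6 n223974 = n206687 := d7_2 (iv6 F437955) D223974 (iv3 D206687)
theorem F522307 : act 7 n223974 = n223938 := d8_2 (iv7 F437956) D223974 (iv3 D223938)
theorem F522308 : act 0 n223974 = n207943 := d19_4 (iv1 F93749) D126620 D205815 D223974 F495239 (iv4 D217345) (iv3 F486766) F486768 F387932 F387929 F285786 F289918 (iv5 F480501) F480502 (iv3 D212244) F338693 (iv5 D134493) F98447 F93663
theorem F522309 : act 1 n223974 = n219064 := d15_1 (iv0 F522308) F496984 (iv2 F447091)
def n223975 : Q := act 4 n205824
theorem D223975 : act 4 n205824 = n223975 := rfl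
theorem F522310 : act 2 n223975 = n205825 := d1_1 D223975 (iv4 D205825) (iv2 F438004)
theorem F522311 : act 3 n223975 = n221232 := d5_1 D223975 F507862 (iv3 D206074) (iv4 F204624) (iv3 F438005)
theorem F522312 : act 5 n223975 = n216297 := d9_2 D205824 D223975 (iv4 D216297) F422498 (iv4 D201952) F179547 F93824 D59465 D126739 D205901 (iv4 F454724) F454727 (iv4 D202387) F357060 (iv4 F357037)
theorem F522313 : act 6 n223975 = n207122 := d10_2 (iv6 F438006) D223975 (iv4 D207122)
theorem F522314 : act 7 n223975 = n205894 := d11_2 (iv7 F438007) D223975 (iv4 D205894)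
theorem F522315 : act 0 n223975 = n205900 := d17_0 (iv5 F450474) (iv1 D208693) (iv5 F360207) (iv4 D126840) (iv5 D59520) D59518 (iv5 F347037) (iv0 F438009) D223975
theorem F522316 : act 1 n223975 = n205899 := d18_6 F354187 F357044 F357043 (iv4 F357037) D205824 D223975 F438341 (iv0 F359760) (iv5 F224815)
def n223976 : Q := act 0 n205838
theorem D223976 : act 0 n205838 = n223976 := rfl
theorem F522317 : act 5 n223976 = n205888 := d17_1 D223976 F438282 (iv5 F471687) F471686 (iv5 F463430) F463427 (iv5 F509648) F509650 (iv4 F438084)
theorem F522318 : act 4 n223976 = n220244 := d18_1 D223976 (iv1 F511049) F511045 F404175 (iv4 F479225) F479229 F423593 (iv0 F423216) D205838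
theorem F522319 : act 3 n223976 = n221740 := d20_5 (iv4 F424767) F434997 (iv4 F509006) F509005 D223976 F510603 F469747 F425292 (iv3 F401546) (iv1 F401550)
theorem F522320 : act 6 n223976 = n211923 := d21_5 D108110 (iv1 F246691) (iv5 F403587) (iv6 F438083) D223976 F463600 F401597 (iv5 F404004) (iv6 D197347) (iv1 D108108)
theorem F522321 : act 2 n210174 = n223976 := d15_3 (iv0 D223976) F449005 (iv7 F456467)
theorem F522322 : act 1 n205841 = n223976 := d15_0 (iv0 D223976) (iv7 F438085) (iv2 F438097)
theorem F522323 : act 7 n223976 = n221748 := d15_2 (iv0 F449004) F522322 F510652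
def n223977 : Q := act 5 n205845
theorem D223977 : act 5 n205845 = n223977 := rfl
theorem F522324 : act 2 n223977 = n207932 := d2_1 D223977 (iv5 D207932) (iv2 F438114)
theorem F522325 : act 3 n223977 = n210254 := d6_1 D223977 (iv5 D210254) (iv3 F438115)
theorem F522326 : act 4 n223977 = n212626 := d9_1 D223977 (iv5 D212626) (iv4 D148391) (iv5 D69535) D69534 (iv5 F323492) D129769 (iv5 F431034) (iv4 D204088) (iv5 D122622) F299059 (iv5 F315551) (iv4 F402942) F402943 (iv4 F438116)
theorem F522327 : act 6 n223977 = n216811 := d12_2 D205845 D223977 F486014 (iv6 D211236) F357364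
theorem F522328 : act 7 n223977 = n208467 := d13_2 (iv7 F438117) D223977 (iv5 D208467)
theorem F522329 : act 0 n223977 = n210164 := d17_2 (iv1 F438119) D223977 (iv5 D210164) (iv4 F438628) (iv5 F438625) (iv0 F443344) (iv5 D207104) F443333 F443330
theorem F522330 : act 1 n223977 = n210163 := d17_6 D144342 F352094 F402946 F402943 (iv4 F438116) D223977 (iv5 D210163) (iv0 D137729) (iv4 F103653)
def n223978 : Q := act 5 n205848
theorem D223978 : act 5 n205848 = n223978 := rfl
theorem F522331 : act 2 n223978 = n219887 := d2_1 D223978 F501045 F479416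
theorem F522332 : act 4 n223978 = n217894 := d9_1 D223978 F491132 F426151 (iv5 D124539) F118459 D83404 D174510 D215431 F479958 (iv5 D203573) (iv4 F357745) (iv5 F380173) (iv4 F380169) (iv5 F440029) F440028
theorem F522333 : act 6 n223978 = n217893 := d12_2 D205848 D223978 F491126 (iv6 F386653) F359763
theorem F522334 : act 7 n223978 = n223187 := d13_2 (iv7 F438130) D223978 (iv5 D223187)
theorem F522335 : act 0 n223978 = n210752 := d17_2 F438132 D223978 (iv5 D210752) (iv4 F415322) F415323 (iv0 F438305) (iv5 D205892) (iv0 F336280) (iv4 F428860)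
theorem F522336 : act 1 n223978 = n210754 := d17_6 (iv1 F337056) (iv5 D174505) (iv1 F300871) (iv5 F440029) F440028 D223978 (iv5 D210754) F350654 (iv4 D174556)
def n223979 : Q := act 6 n205854
theorem D223979 : act 6 n205854 = n223979 := rfl
theorem F522337 : act 2 n223979 = n217290 := d3_1 D223979 F488307 F455431
theorem F522338 : act 3 n223979 = n205855 := d7_1 D223979 (iv6 D205855) D205854
theorem F522339 : act 7 n223979 = n217291 := d14_2 F456373 D223979 (iv6 F519119) F519116 F462395
theorem F522340 : act 0 n223979 = n217292 := d21_4 D136150 (iv1 F391842) (iv5 F438149) D223979 F488311 F457046 (iv1 F450834) (iv5 F391828) (iv6 D194036) F333115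
theorem F522341 : act 0 n217287 = n223979 := d21_4 D102593 (iv1 F157696) D187126 D217287 (iv6 D223979) F438149 (iv1 D194040) (iv5 D102604) (iv6 D47588) D47585
def n223980 : Q := act 5 n205855
theorem D223980 : act 5 n205855 = n223980 := rfl
theorem F522342 : act 2 n223980 = n213407 := d2_1 D223980 F470271 F456366
theorem F522343 : act 4 n223980 = n208375 := d9_1 D223980 (iv5 F462174) F462171 (iv5 F499101) (iv4 F512213) F512214 F459563 (iv5 F485823) F485820 F449120 (iv4 F450395) (iv5 F478379) (iv4 F482735) F482736 F459254
theorem F522344 : act 6 n223980 = n218227 := d12_2 D205855 D223980 (iv5 D218227) F374943 F220880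
theorem F522345 : act 7 n223980 = n213408 := d13_2 F483573 D223980 (iv5 F483577)
theorem F522346 : act 0 n223980 = n209708 := d17_2 F438153 D223980 (iv5 F456063) (iv4 F482025) F482026 (iv0 F503034) (iv5 D220286) F389430 (iv4 F377076)
theorem F522347 : act 1 n223980 = n213310 := d17_6 F472096 D220234 F502781 F482736 F459254 D223980 F469852 (iv0 F483561) F483558
def n223981 : Q := act 5 n205860
theorem D223981 : act 5 n205860 = n223981 := rfl
theorem F522348 : act 2 n223981 = n211559 := d2_1 D223981 F462131 F454402
theorem F522349 : act 3 n223981 = n221293 := d6_1 D223981 F508206 (iv3 F438170)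
theorem F522350 : act 4 n223981 = n209972 := d9_1 D223981 (iv5 D209972) (iv4 D137202) (iv5 D64488) (iv4 F94022) (iv5 F331748) D205861 (iv5 F471687) F471686 (iv5 F463430) F463429 F452891 F336105 (iv5 F336106) D205860
theorem F522351 : act 6 n223981 = n212225 := d12_2 F460090 D223981 F464827 (iv6 F498963) F498962
theorem F522352 : act 7 n223981 = n221042 := d13_2 F454392 D223981 F506949
theorem F522353 : act 0 n223981 = n221041 := d17_2 F454876 D223981 F506947 (iv4 D205958) F364307 F362713 F389759 (iv0 F389762) (iv4 F454873)
theorem F522354 : act 1 n223981 = n210172 := d17_6 F359084 F93811 D64894 (iv5 F336106) D205860 D223981 (iv5 D210172) (iv0 F438071) (iv4 D205836)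
def n223982 : Q := act 4 n205865
theorem D223982 : act 4 n205865 = n223982 := rfl
theorem F522355 : act 2 n223982 = n216188 := d1_1 D223982 F483310 F466142
theorem F522356 : act 3 n223982 = n222054 := d5_1 D223982 F512118 F476864 (iv4 D214790) F466148
theorem F522357 : act 5 n223982 = n216178 := d9_2 (iv5 F438189) D223982 (iv4 D216178) (iv5 D182151) F133492 D92489 D188566 (iv5 F438191) (iv4 F507611) F507614 (iv4 D216144) (iv5 D181967) F133341 (iv5 F108436) (iv4 F239674)
theorem F522358 : act 6 n223982 = n213828 := d10_2 (iv6 F438190) D223982 (iv4 D213828)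
theorem F522359 : act 7 n223982 = n212197 := d11_2 F479993 D223982 F479996
theorem F522360 : act 0 n223982 = n218134 := d17_0 F492293 (iv1 D216619) D216620 F485205 F434528 (iv0 F374002) D213072 F468863 D223982
theorem F522361 : act 1 n223982 = n216991 := d18_6 F516933 F468898 (iv1 D152498) (iv4 F239674) (iv5 F438189) D223982 F486896 F468908 (iv5 F516931)
def n223983 : Q := act 4 n205876
theorem D223983 : act 4 n205876 = n223983 := rfl
theorem F522362 : act 2 n223983 = n211015 := d1_1 D223983 (iv4 F506467) F506463
theorem F522363 : act 5 n223983 = n218681 := d9_2 (iv5 F438224) D223983 F495125 (iv5 F379054) (iv4 F495946) F495947 F466290 F466289 (iv4 F509637) F509638 (iv4 F506185) F506186 F498118 (iv5 D205503) (iv4 F403548)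
theorem F522364 : act 6 n223983 = n221717 := d10_2 (iv6 F438222) D223983 (iv4 D221717)
theorem F522365 : act 7 n223983 = n223811 := d11_2 F516151 D223983 F521412
theorem F522366 : act 0 n223983 = n223464 := d17_0 F519584 F504896 F481945 (iv4 F505182) F505183 (iv0 F432356) F429928 F438223 D223983
theorem F522367 : act 1 n223983 = n210915 := d18_6 (iv1 F408985) F342267 F390765 (iv4 F403548) (iv5 F438224) D223983 F459271 F436417 F415276
theorem F522368 : act 3 n223983 = n223808 := d19_3 F408916 (iv5 F438224) D223983 F521395 F518181 (iv4 D214335) F249483 F322044 F320373 F298297 (iv3 F296876) F118842 (iv5 D36762) (iv4 F296563) D37348 D81716 (iv5 F344141) (iv4 D147684) D147683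
def n223984 : Q := act 5 n205891
theorem D223984 : act 5 n205891 = n223984 := rfl
theorem F522369 : act 2 n223984 = n213761 := d2_1 D223984 (iv5 F517440) F517437
theorem F522370 : act 3 n223984 = n213202 := d6_1 D223984 F469426 (iv3 F438296)
theorem F522371 : act 4 n223984 = n212437 := d9_1 D223984 (iv5 D212437) (iv4 D146909) D146910 (iv4 F432139) F432140 F428865 D223050 F517433 (iv5 D212324) (iv4 D146685) (iv5 F215129) (iv4 F438303) (iv5 D205892) (iv4 F438297)
theorem F522372 : act 6 n223984 = n213201 := d12_2 D205891 D223984 F469422 F426995 F423235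
theorem F522373 : act 7 n223984 = n223648 := d13_2 F509290 D223984 F520531
theorem F522374 : act 0 n223984 = n215915 := d17_2 F438299 D223984 (iv5 D215915) (iv4 D178481) (iv5 D84936) (iv0 F130350) D173299 (iv0 F341161) (iv4 F428908)
theorem F522375 : act 1 n223984 = n223009 := d17_6 (iv1 F415328) (iv5 F433904) (iv1 F438304) (iv5 D205892) (iv4 F438297) D223984 (iv5 D223009) F423272 F423270
def n223985 : Q := act 0 n205906
theorem D223985 : act 0 n205906 = n223985 := rfl
theorem F522376 : act 5 n223985 = n220145 := d17_1 D223985 F502354 (iv5 D206719) (iv4 F214714) F361154 F219938 D205870 (iv0 F438205) D205906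
theorem F522377 : act 4 n223985 = n206044 := d18_1 D223985 (iv1 F438982) (iv4 F442939) (iv5 F449207) (iv4 F449208) F388467 F219606 F442986 F442984
theorem F522378 : act 2 n205975 = n223985 := d15_3 (iv0 D223985) (iv0 F438885) F438884
theorem F522379 : act 1 n206966 = n223985 := d15_0 (iv0 D223985) (iv7 F443141) F443137
theorem F522380 : act 6 n223985 = n206959 := d3_2 (iv6 F438672) F522378 (iv2 F442743)
def n223986 : Q := act 6 n205910
theorem D223986 : act 6 n205910 = n223986 := rfl
theorem F522381 : act 2 n223986 = n221856 := d3_1 D223986 (iv6 F511084) (iv2 F454480)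
theorem F522382 : act 3 n223986 = n213906 := d7_1 D223986 F472683 (iv3 F438380)
theorem F522383 : act 4 n223986 = n205911 := d10_1 D223986 (iv6 D205911) D205910
theorem F522384 : act 7 n223986 = n221751 := d14_2 F454483 D223986 (iv6 F510670) (iv7 F509696) F509700
theorem F522385 : act 0 n223986 = n213892 := d21_4 D221695 F510346 F507196 D223986 F472608 (iv5 D156037) F112178 D157218 F454497 F454495
theorem F522386 : act 0 n221857 = n223986 := d21_4 F403959 F454536 F454534 (iv6 F511089) (iv6 D223986) (iv5 F507196) F507198 (iv5 F429245) F429243 (iv1 F403976)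
def n223987 : Q := act 5 n205913
theorem D223987 : act 5 n205913 = n223987 := rfl
theorem F522387 : act 3 n223987 = n205914 := d6_1 D223987 (iv5 D205914) D205913
theorem F522388 : act 6 n223987 = n219645 := d12_2 F507031 D223987 (iv5 D219645) (iv6 F499340) (iv5 F507030)
theorem F522389 : act 7 n223987 = n221807 := d13_2 F502126 D223987 F510896
theorem F522390 : act 0 n223987 = n219906 := d17_2 F502112 D223987 (iv5 D219906) F386709 (iv5 F375338) (iv0 F406028) (iv5 D197852) F388267 D220098
def n223988 : Q := act 6 n205914
theorem D223988 : act 6 n205914 = n223988 := rfl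
theorem F522391 : act 3 n223988 = n219645 := d7_1 D223988 (iv6 F522388) F522387
theorem F522392 : act 4 n223988 = n221808 := d10_1 D223988 (iv6 D221808) (iv4 F438393)
theorem F522393 : act 5 n223988 = n219644 := d12_1 D223988 F499822 F453207 F396736 D205914
theorem F522394 : act 7 n223988 = n219906 := d14_2 (iv7 F438392) D223988 (iv6 F507177) (iv7 F510876) F510875
theorem F522395 : act 0 n221807 = n223988 := d21_4 (iv5 D203239) F422821 (iv5 F510865) (iv6 F510897) (iv6 D223988) (iv5 D205914) F396862 (iv5 F464143) F519292 (iv1 D223405)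
def n223989 : Q := act 0 n205918
theorem D223989 : act 0 n205918 = n223989 := rfl
theorem F522396 : act 4 n223989 = n209523 := d18_3 (iv1 F519390) F519392 D223989 F471474 F473091 F473089 F469527 (iv0 F517363) F517362
theorem F522397 : act 3 n223989 = n213695 := d20_5 (iv4 F220168) (iv1 F455201) F455199 (iv3 F454498) D223989 (iv4 F471673) (iv1 F405253) (iv4 F506984) F506983 (iv1 D209666)
theorem F522398 : act 2 n205922 = n223989 := d15_3 (iv0 D223989) (iv0 D205918) D205922
theorem F522399 : act 1 n205919 = n223989 := d15_0 (iv0 D223989) (iv7 F507376) F507371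
theorem F522400 : act 7 n223989 = n205920 := d15_2 D205919 F522399 (iv2 D205920)
theorem F522401 : act 6 n221767 = n223989 := d14_5 F522400 F438426 F204011 D197322 D221767
def n223990 : Q := act 1 n205921
theorem D223990 : act 1 n205921 = n223990 := rfl
theorem F522402 : act 7 n223990 = n221092 := d15_2 (iv0 F510878) D223990 (iv2 F510873)
theorem F522403 : act 5 n223990 = n209780 := d17_7 F507013 F473099 (iv1 D209540) (iv5 D136589) (iv4 F203997) D205921 D223990 (iv0 F500049) (iv4 F507012)
theorem F522404 : act 3 n221806 = n223990 := d20_3 F507201 (iv1 F404043) D221806 (iv1 D223990) F438431 D205923 F438438 F429248 (iv3 F463837) (iv1 F507204)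
theorem F522405 : act 2 n223990 = n221091 := d0_1 F522404 F507176 (iv2 F510871) (iv3 F510869) (iv2 F510891)
def n223991 : Q := act 7 n205921
theorem D223991 : act 7 n205921 = n223991 := rfl
theorem F522406 : act 3 n223991 = n205925 := d8_1 D223991 (iv7 D205925) (iv3 F438431)
theorem F522407 : act 4 n223991 = n222983 := d11_1 D223991 F517111 F510992
theorem F522408 : act 5 n223991 = n205922 := d13_1 D223991 (iv7 D205922) D205921
theorem F522409 : act 1 n221091 = n223991 := d15_1 (iv0 F507179) (iv7 D223991) (iv2 F467599)
theorem F522410 : act 1 n223991 = n221092 := d15_1 F522409 (iv7 F522402) F522405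
def n223992 : Q := act 0 n205924
theorem D223992 : act 0 n205924 = n223992 := rfl
theorem F522411 : act 5 n223992 = n212042 := d17_1 D223992 (iv1 D212042) D212044 (iv4 F519174) F519175 F507375 (iv5 F522408) F522410 F507181
theorem F522412 : act 4 n223992 = n223412 := d18_3 F507183 F507181 D223992 F519330 (iv4 F518948) (iv0 F518951) (iv4 F438428) (iv0 F438427) (iv5 F467601)
theorem F522413 : act 3 n223992 = n221804 := d20_5 F484812 (iv1 F484862) (iv4 F484866) F467590 D223992 (iv4 D221804) F404024 (iv4 F507201) F507200 F501088
theorem F522414 : act 2 n221801 = n223992 := d15_3 (iv0 D223992) F501146 F510866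
theorem F522415 : act 7 n223992 = n221802 := d4_2 F510866 F522414 F510871
theorem F522416 : act 1 n213365 = n223992 := d15_1 F501147 F522415 F510871
def n223993 : Q := act 7 n205924
theorem D223993 : act 7 n205924 = n223993 := rfl
theorem F522417 : act 2 n223993 = n213365 := d4_1 D223993 F470100 (iv2 F438441)
theorem F522418 : act 3 n223993 = n221094 := d8_1 D223993 F507188 F467590
theorem F522419 : act 4 n223993 = n223990 := d11_1 D223993 F522402 F507181
theorem F522420 : act 5 n223993 = n205930 := d13_1 D223993 (iv7 D205930) (iv5 F438442)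
theorem F522421 : act 1 n221802 = n223993 := d15_1 D221802 (iv7 D223993) F438441
theorem F522422 : act 1 n223993 = n221801 := d15_1 F522421 (iv7 F510866) (iv2 F510871)
def n223994 : Q := act 6 n205925
theorem D223994 : act 6 n205925 = n223994 := rfl
theorem F522423 : act 2 n223994 = n221808 := d3_1 D223994 (iv6 D221808) (iv2 F438443)
theorem F522424 : act 5 n223994 = n221795 := d12_1 D223994 (iv6 D221795) F403989 (iv6 F204002) (iv5 F438444)
theorem F522425 : act 0 n223994 = n223397 := d21_4 (iv5 D197356) (iv1 F204004) (iv5 F438444) D223994 (iv6 D223397) (iv5 D203234) F392832 D220711 F505115 (iv1 F404025)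
def n223995 : Q := act 4 n205938
theorem D223995 : act 4 n205938 = n223995 := rfl
theorem F522426 : act 2 n223995 = n221159 := d1_1 D223995 (iv4 F512889) (iv2 F512893)
theorem F522427 : act 3 n223995 = n211078 := d5_1 D223995 F460022 (iv3 F510203) F513612 F513615
theorem F522428 : act 5 n223995 = n221130 := d9_2 F517911 D223995 (iv4 F507364) (iv5 D210313) (iv4 F456963) (iv5 F482686) (iv4 F513787) F513788 F438493 (iv5 F507359) F507360 F504427 F504430 (iv5 F507458) (iv4 F517910)
theorem F522429 : act 6 n223995 = n216050 := d10_2 F452523 D223995 F482669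
theorem F522430 : act 7 n223995 = n221152 := d11_2 F512895 D223995 (iv4 F512896)
theorem F522431 : act 0 n223995 = n211925 := d18_2 (iv1 F512908) D223995 (iv4 F512809) F512810 (iv4 F503252) (iv0 F503251) F484844 D216535 (iv5 F512904)
theorem F522432 : act 1 n223995 = n221158 := d18_6 (iv1 F424322) (iv4 F511058) F511062 (iv4 F517910) F517911 D223995 F507495 (iv0 F500062) F452843
def n223996 : Q := act 2 n205973
theorem D223996 : act 2 n205973 = n223996 := rfl
theorem F522433 : act 4 n223996 = n222730 := d1_2 F465593 D223996 F515788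
theorem F522434 : act 5 n223996 = n222729 := d2_2 (iv5 F465588) D223996 F515785
theorem F522435 : act 6 n223996 = n222730 := d3_2 F465590 D223996 F515788
theorem F522436 : act 0 n223996 = n207738 := d21_4 (iv5 F465477) (iv1 F465480) D222730 (iv6 F522435) (iv6 D207738) F211896 (iv1 D62258) D62259 (iv6 F212988) (iv1 F442343)
def n223997 : Q := act 6 n205993
theorem D223997 : act 6 n205993 = n223997 := rfl
theorem F522437 : act 3 n223997 = n205994 := d7_1 D223997 (iv6 D205994) D205993
theorem F522438 : act 4 n223997 = n210350 := d10_1 D223997 (iv6 D210350) (iv4 F438734)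
theorem F522439 : act 5 n223997 = n211925 := d12_1 D223997 (iv6 D211925) (iv5 F364301) D202190 (iv5 F438735)
theorem F522440 : act 7 n223997 = n210712 := d14_2 (iv7 F438736) D223997 (iv6 D210712) (iv7 F365057) (iv6 F403820)
theorem F522441 : act 0 n221101 = n223997 := d21_4 (iv5 D105562) D105559 D195387 D221101 (iv6 D223997) F438735 (iv1 F449706) (iv5 F463577) F463578 (iv1 D195393)
def n223998 : Q := act 5 n205996
theorem D223998 : act 5 n205996 = n223998 := rfl
theorem F522442 : act 2 n223998 = n205997 := d2_1 D223998 (iv5 D205997) D205996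
theorem F522443 : act 3 n223998 = n219798 := d6_1 D223998 (iv5 D219798) (iv3 F438745)
theorem F522444 : act 6 n223998 = n219799 := d12_2 (iv6 F438747) D223998 F500679 (iv6 D205025) (iv5 F403601)
theorem F522445 : act 7 n223998 = n220291 := d13_2 F438749 D223998 (iv5 D220291)
theorem F522446 : act 4 n223998 = n214204 := d17_4 F414459 D196604 F438748 D223998 F496069 F496067 (iv5 D209302) (iv0 F440306) F440305
def n223999 : Q := act 6 n206010
theorem D223999 : act 6 n206010 = n223999 := rfl
theorem F522447 : act 2 n223999 = n207623 := d3_1 D223999 (iv6 F454466) F454464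
theorem F522448 : act 3 n223999 = n206520 := d7_1 D223999 F441178 F438823
theorem F522449 : act 4 n223999 = n206011 := d10_1 D223999 (iv6 D206011) D206010
theorem F522450 : act 5 n223999 = n207582 := d12_1 D223999 (iv6 F445548) (iv5 F436218) (iv6 F436221) (iv5 F438822)
theorem F522451 : act 7 n223999 = n206315 := d14_2 F445202 D223999 F440202 (iv7 F434661) (iv6 F445201)
theorem F522452 : act 0 n223999 = n213515 := d21_4 (iv5 F435544) F435545 (iv5 F438822) D223999 (iv6 F470796) (iv5 D181690) (iv1 F296421) D124602 D204877 F433983
theorem F522453 : act 0 n213573 = n223999 := d21_4 (iv5 F399331) F399333 D207561 (iv6 F471102) (iv6 D223999) F438822 F436149 F436146 F436148 F337579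
def n224000 : Q := act 4 n206022
theorem D224000 : act 4 n206022 = n224000 := rfl
theorem F522454 : act 2 n224000 = n206023 := d1_1 D224000 (iv4 D206023) D206022
theorem F522455 : act 3 n224000 = n223996 := d5_1 D224000 F522433 F515789 F466933 F438972
theorem F522456 : act 5 n224000 = n222330 := d9_2 (iv5 F438880) D224000 F513629 F449920 (iv4 D208566) F404824 (iv4 F322101) F224816 (iv4 F438671) (iv5 F454328) (iv4 F489576) F489577 (iv4 D208565) F404831 D202441
theorem F522457 : act 6 n224000 = n212661 := d10_2 F438973 D224000 F466933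
theorem F522458 : act 7 n224000 = n223985 := d11_2 F438980 D224000 F522377
theorem F522459 : act 0 n224000 = n207052 := d17_0 (iv5 D207052) (iv1 F361181) (iv5 D129476) F95401 D60872 D129578 (iv5 F414938) F438882 D224000
theorem F522460 : act 1 n224000 = n207054 := d18_6 (iv1 D136746) F100102 D115740 D202441 (iv5 F438880) D224000 F443139 F447394 F447393
def n224001 : Q := act 5 n206037
theorem D224001 : act 5 n206037 = n224001 := rfl
theorem F522461 : act 3 n224001 = n206038 := d6_1 D224001 (iv5 D206038) (iv3 F438950)
theorem F522462 : act 6 n224001 = n218930 := d12_2 D206037 D224001 (iv5 F498622) (iv6 F498626) (iv5 D206036)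
theorem F522463 : act 7 n224001 = n221440 := d13_2 F513686 D224001 F513689
theorem F522464 : act 4 n224001 = n222131 := d16_6 (iv4 F396793) D221074 F507096 F503775 F452966 D224001 F512507 (iv7 D198459) (iv2 F169716)
theorem F522465 : act 1 n224001 = n218923 := d17_6 (iv1 F502738) F502735 F503777 F503775 F452966 D224001 F496213 (iv0 F463465) (iv4 F452723)
def n224002 : Q := act 5 n206040
theorem D224002 : act 5 n206040 = n224002 := rfl
theorem F522466 : act 2 n224002 = n209763 := d2_1 D224002 (iv5 D209763) (iv2 F438961)
theorem F522467 : act 3 n224002 = n209199 := d6_1 D224002 (iv5 D209199) (iv3 F438962)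
theorem F522468 : act 4 n224002 = n207698 := d9_1 D224002 F446050 F437950 F203690 F179739 F364301 (iv4 F408479) D222189 F512803 (iv5 D206042) (iv4 D127092) (iv5 D59646) D59645 D127091 D206040
theorem F522469 : act 7 n224002 = n209739 := d13_2 (iv7 F438963) D224002 (iv5 D209739)
theorem F522470 : act 0 n224002 = n207683 := d17_2 (iv1 F438965) D224002 F445997 F220536 (iv5 F344611) (iv0 F360521) (iv5 D105543) D105541 (iv4 F218795)
theorem F522471 : act 1 n224002 = n207840 := d17_6 (iv1 F219215) (iv5 F347215) F102035 D127091 D206040 D224002 F446665 (iv0 F218962) (iv4 F162230)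
theorem F522472 : act 6 n224002 = n208359 := d21_3 F220569 (iv1 F438965) D224002 (iv1 D208359) (iv6 D134216) (iv5 F216175) F336970 (iv5 F336978) F347284 F220981
def n224003 : Q := act 5 n206083
theorem D224003 : act 5 n206083 = n224003 := rfl
theorem F522473 : act 2 n224003 = n222718 := d2_1 D224003 (iv5 D222718) (iv2 F439178)
theorem F522474 : act 4 n224003 = n222746 := d9_1 D224003 F515858 F418445 F176816 (iv4 F176705) (iv5 F418113) (iv4 F515734) (iv5 F522245) (iv4 F522247) (iv5 D220976) (iv4 D195124) (iv5 D105304) (iv4 F94224) D127370 D206083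
theorem F522475 : act 7 n224003 = n222745 := d16_8 (iv4 F522247) (iv5 D220976) (iv4 D195124) (iv5 D105304) (iv4 F94224) D127370 D206083 D224003 (iv2 F522248)
theorem F522476 : act 0 n224003 = n223915 := d17_2 F515513 D224003 (iv5 D223915) F437410 F396108 (iv0 D113315) D113317 D200657 D222676
def n224004 : Q := act 7 n206083
theorem D224004 : act 7 n206083 = n224004 := rfl
theorem F522477 : act 2 n224004 = n222719 := d4_1 D224004 (iv7 D222719) (iv2 F439178)
theorem F522478 : act 4 n224004 = n206084 := d11_1 D224004 (iv7 D206084) D206083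
theorem F522479 : act 5 n224004 = n222745 := d13_1 D224004 (iv7 F522475) (iv5 D224003)
theorem F522480 : act 1 n221280 = n224004 := d15_1 (iv0 F508132) (iv7 D224004) F439178
theorem F522481 : act 1 n224004 = n222717 := d15_1 F522480 F515731 F515510
def n224005 : Q := act 5 n206091
theorem D224005 : act 5 n206091 = n224005 := rfl
theorem F522482 : act 2 n224005 = n217014 := d2_1 D224005 F486994 F441859
theorem F522483 : act 3 n224005 = n206092 := d6_1 D224005 (iv5 D206092) D206091
theorem F522484 : act 4 n224005 = n210195 := d16_2 (iv4 F455977) D224005 (iv5 D210195) (iv4 F456515) (iv5 F520208) F520207 (iv5 F432204) (iv7 F450326) (iv2 F455978)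
theorem F522485 : act 0 n224005 = n206102 := d17_2 (iv1 F451503) D224005 F439266 F383990 D191638 (iv0 F487965) F487964 D217634 (iv4 F489874)
theorem F522486 : act 1 n224005 = n206937 := d17_8 (iv1 F519068) (iv5 F519071) F510759 F457687 F421137 D201649 (iv0 F439214) D224005 F442656
theorem F522487 : act 6 n224005 = n216789 := d21_3 F516614 (iv1 F451503) D224005 F485927 F492998 (iv5 F492997) (iv1 F506791) F506788 F499235 D222891
theorem F522488 : act 7 n212109 = n224005 := d14_0 F522487 F485926 F446510 F446506 (iv6 F464356)
def n224006 : Q := act 7 n206091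
theorem D224006 : act 7 n206091 = n224006 := rfl
theorem F522489 : act 2 n224006 = n207803 := d4_1 D224006 F446513 F441859
theorem F522490 : act 3 n224006 = n206093 := d8_1 D224006 (iv7 D206093) D206091
theorem F522491 : act 4 n224006 = n208699 := d11_1 D224006 (iv7 F455975) (iv4 F455977)
theorem F522492 : act 5 n224006 = n212109 := d13_1 D224006 F522488 (iv5 D224005)
theorem F522493 : act 1 n208690 = n224006 := d15_1 (iv0 F450461) (iv7 D224006) (iv2 F441859)
theorem F522494 : act 1 n224006 = n222896 := d15_1 F522493 F516642 F451501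
theorem F522495 : act 6 n207667 = n224006 := d21_3 F437383 (iv1 F211796) D207667 (iv1 F522493) (iv6 D208690) (iv5 F437372) (iv1 D205660) (iv5 D126501) D126502 D205663
def n224007 : Q := act 6 n206092
theorem D224007 : act 6 n206092 = n224007 := rfl
theorem F522496 : act 2 n224007 = n219600 := d3_1 D224007 F499627 (iv2 F439215)
theorem F522497 : act 3 n224007 = n216789 := d7_1 D224007 (iv6 F522487) F522483
theorem F522498 : act 4 n224007 = n212110 := d10_1 D224007 (iv6 D212110) (iv4 F439216)
theorem F522499 : act 7 n224007 = n219600 := d14_2 (iv7 F439217) D224007 F499627 F418513 F402209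
def n224008 : Q := act 0 n206094
theorem D224008 : act 0 n206094 = n224008 := rfl
theorem F522500 : act 5 n224008 = n209626 := d17_1 D224008 (iv1 F454372) (iv5 D206792) F207516 D129322 F354199 (iv5 F438978) F438981 (iv4 F439224)
theorem F522501 : act 4 n224008 = n208004 := d18_1 D224008 (iv1 F447394) (iv4 F443139) (iv5 D207054) (iv4 F366380) F452564 (iv4 F506841) F506845 (iv5 F439225)
theorem F522502 : act 3 n224008 = n222792 := d20_5 (iv4 D113614) (iv1 F94242) D127378 D206094 D224008 F516103 (iv1 F436353) (iv4 F465356) (iv3 D212331) F230131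
theorem F522503 : act 6 n224008 = n206991 := d21_5 (iv5 F453299) F453300 (iv5 D207075) F439227 D224008 (iv5 F496204) F496206 F467449 (iv6 D206806) (iv1 F442184)
theorem F522504 : act 2 n222728 = n224008 := d15_3 (iv0 D224008) (iv0 F439228) (iv7 F515780)
theorem F522505 : act 1 n207005 = n224008 := d15_0 (iv0 D224008) F439226 (iv2 F442937)
theorem F522506 : act 7 n224008 = n222727 := d15_2 (iv0 F442940) F522505 (iv2 F515777)
def n224009 : Q := act 6 n206099
theorem D224009 : act 6 n206099 = n224009 := rfl
theorem F522507 : act 2 n224009 = n222714 := d3_1 D224009 (iv6 D222714) (iv2 F439251)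
theorem F522508 : act 3 n224009 = n223190 := d7_1 D224009 F518097 F513188
theorem F522509 : act 4 n224009 = n223849 := d10_1 D224009 F521621 F439250
theorem F522510 : act 5 n224009 = n221202 := d12_1 D224009 (iv6 F516893) (iv5 D222941) F465665 F465662
theorem F522511 : act 7 n224009 = n222722 := d14_2 (iv7 F439252) D224009 F521989 F521987 (iv6 D222715)
theorem F522512 : act 0 n224009 = n220965 := d21_4 D222701 F515649 F465662 D224009 (iv6 F521998) F521995 F484148 (iv5 F453281) F453282 F417877
theorem F522513 : act 0 n222540 = n224009 := d21_4 F418517 (iv1 F509366) F509363 (iv6 F514803) (iv6 D224009) (iv5 F465662) (iv1 D212398) (iv5 D146881) D146882 (iv1 F418519)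
def n224010 : Q := act 0 n206102
theorem D224010 : act 0 n206102 = n224010 := rfl
theorem F522514 : act 5 n224010 = n207803 := d17_3 (iv1 D219517) (iv5 F439266) D224010 F446511 F432204 D223588 (iv5 F520216) (iv0 F450781) F499251
theorem F522515 : act 4 n224010 = n217015 := d18_1 D224010 (iv1 F486997) F483973 (iv5 F466912) (iv4 F506630) (iv0 F506633) F448656 (iv0 F448659) (iv5 F439266)
theorem F522516 : act 3 n224010 = n207804 := d20_5 (iv4 D114903) (iv1 F178966) D201619 (iv3 F439264) D224010 F446516 (iv1 F499637) F499639 F446796 (iv1 F421165)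
theorem F522517 : act 6 n224010 = n207804 := d21_5 F230150 F105014 D127381 D206102 D224010 (iv5 D207804) (iv1 D132386) D132387 F365821 (iv1 F230152)
theorem F522518 : act 2 n212109 = n224010 := d15_3 (iv0 D224010) (iv0 F522485) (iv7 F522488)
theorem F522519 : act 1 n206937 = n224010 := d15_0 (iv0 D224010) (iv7 F446446) F446444
theorem F522520 : act 7 n224010 = n217014 := d15_2 F522486 F522519 (iv2 F522482)
def n224011 : Q := act 3 n206105
theorem D224011 : act 3 n206105 = n224011 := rfl
theorem F522521 : act 2 n224011 = n210257 := d0_1 D224011 F487199 (iv2 F487198) (iv3 F499125) F499124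
theorem F522522 : act 4 n224011 = n210256 := d5_2 D206105 D224011 F456757 F371151 F204710
theorem F522523 : act 6 n224011 = n217626 := d7_2 (iv6 F439275) D224011 (iv3 D217626)
theorem F522524 : act 7 n224011 = n222943 := d8_2 (iv7 F439276) D224011 F516901
theorem F522525 : act 0 n224011 = n223903 := d19_4 F399894 (iv5 F364868) D206105 D224011 F521926 F446638 (iv3 F383858) F383860 (iv5 F354681) (iv4 F354680) F407370 (iv1 D198260) (iv5 D109091) (iv4 F161184) F161183 (iv1 F165570) (iv5 F202083) F332818 (iv3 F399889)
theorem F522526 : act 0 n207039 = n224011 := d20_4 F213634 D132991 (iv4 F351694) D207039 (iv3 D224011) (iv4 D206105) F391732 D220603 F504568 F414931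
def n224012 : Q := act 6 n206109
theorem D224012 : act 6 n206109 = n224012 := rfl
theorem F522527 : act 2 n224012 = n222699 := d3_1 D224012 (iv6 D222699) (iv2 F439291)
theorem F522528 : act 3 n224012 = n215039 := d7_1 D224012 F514045 (iv3 F514043)
theorem F522529 : act 4 n224012 = n206110 := d10_1 D224012 (iv6 D206110) D206109
theorem F522530 : act 7 n224012 = n215037 := d14_2 (iv7 F439292) D224012 F478012 (iv7 F397917) (iv6 F417862)
theorem F522531 : act 0 n224012 = n222716 := d21_4 F515523 D222819 F516251 D224012 F515724 (iv5 F475028) (iv1 D214406) (iv5 F442485) F442487 (iv1 F515526)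
theorem F522532 : act 0 n207572 = n224012 := d21_4 F441916 F217901 F212958 D207572 (iv6 D224012) (iv5 F516251) (iv1 F516253) (iv5 F507832) F507831 F441918
def n224013 : Q := act 6 n206124
theorem D224013 : act 6 n206124 = n224013 := rfl
theorem F522533 : act 2 n224013 = n206127 := d3_1 D224013 (iv6 D206127) D206124
theorem F522534 : act 3 n224013 = n214465 := d7_1 D224013 F475291 (iv3 F439353)
theorem F522535 : act 4 n224013 = n207469 := d10_1 D224013 (iv6 F445075) F441098
theorem F522536 : act 5 n224013 = n214464 := d12_1 D224013 F475287 (iv5 F377594) (iv6 F488363) F488362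
theorem F522537 : act 7 n224013 = n218600 := d14_2 (iv7 F439354) D224013 (iv6 F494695) (iv7 F470852) F470855
theorem F522538 : act 0 n224013 = n218601 := d21_4 (iv5 F489759) F488364 F488362 D224013 F494700 F418630 (iv1 F382274) F382271 D196221 (iv1 F489756)
theorem F522539 : act 0 n218594 = n224013 := d21_4 D195781 (iv1 F398151) (iv5 F426321) (iv6 F494663) (iv6 D224013) (iv5 F488362) F489259 F489257 F391666 F377850
def n224014 : Q := act 4 n206156
theorem D224014 : act 4 n206156 = n224014 := rfl
theorem F522540 : act 2 n224014 = n209625 := d1_1 D224014 (iv4 F478151) F478149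
theorem F522541 : act 6 n224014 = n206161 := d10_2 (iv6 F439513) D224014 (iv4 D206161)
theorem F522542 : act 7 n224014 = n209616 := d11_2 F476690 D224014 (iv4 F476691)
theorem F522543 : act 5 n224014 = n206826 := d16_1 D224014 F442327 (iv5 F444152) (iv4 F446349) F446350 F429954 (iv5 F492121) F492120 F478149
theorem F522544 : act 0 n224014 = n222148 := d17_0 F512597 (iv1 F456901) D210307 (iv4 F492115) (iv5 D218091) F373646 D215062 F478146 D224014
def n224015 : Q := act 5 n206157
theorem D224015 : act 5 n206157 = n224015 := rfl
theorem F522545 : act 3 n224015 = n206158 := d6_1 D224015 (iv5 D206158) D206157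
theorem F522546 : act 4 n224015 = n211433 := d9_1 D224015 F461513 (iv4 F393679) (iv5 F461514) (iv4 F504538) (iv5 D220598) F391604 D217268 F488201 (iv5 F461518) (iv4 F505909) F505908 F459301 F391611 (iv4 F439516)
theorem F522547 : act 6 n224015 = n223609 := d12_2 (iv6 F439515) D224015 F520323 F496992 (iv5 D219065)
theorem F522548 : act 0 n224015 = n218886 := d17_2 (iv1 F487746) D224015 (iv5 D218886) F379118 (iv5 F459298) (iv0 F459299) F391569 F391568 (iv4 F487744)
theorem F522549 : act 1 n224015 = n216914 := d17_6 F378936 D218812 F495767 F391611 (iv4 F439516) D224015 F486522 (iv0 F379250) F368384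
def n224016 : Q := act 6 n206158
theorem D224016 : act 6 n206158 = n224016 := rfl
theorem F522550 : act 2 n224016 = n218987 := d3_1 D224016 F496548 F495248
theorem F522551 : act 3 n224016 = n223609 := d7_1 D224016 (iv6 F522547) F522545
theorem F522552 : act 4 n224016 = n216155 := d10_1 D224016 F483211 F443031
theorem F522553 : act 5 n224016 = n216820 := d12_1 D224016 (iv6 F486057) (iv5 D190743) (iv6 F378357) D206158
theorem F522554 : act 7 n224016 = n219317 := d14_2 F497978 D224016 (iv6 F498268) (iv7 F495989) F497982
theorem F522555 : act 0 n224016 = n217499 := d21_10 (iv5 D217499) F373638 D218090 F492110 F439514 F439513 (iv5 D127617) D127615 D206158 D224016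
theorem F522556 : act 0 n219311 = n224016 := d21_4 F506244 (iv1 F503496) F503500 F498246 (iv6 D224016) (iv5 D206158) (iv1 F439511) F439508 D219261 F506245
def n224017 : Q := act 4 n206160
theorem D224017 : act 4 n206160 = n224017 := rfl
theorem F522557 : act 5 n224017 = n206741 := d9_2 (iv5 F439524) D224017 F442016 (iv5 F351664) F210577 (iv5 F114989) (iv4 F147124) D189942 D218700 F495222 F441999 (iv5 F428795) F428792 F337079 (iv4 F362066)
theorem F522558 : act 7 n224017 = n212777 := d11_2 (iv7 F439523) D224017 (iv4 D212777)
theorem F522559 : act 1 n224017 = n208009 := d18_6 D149264 F362060 F337084 (iv4 F362066) (iv5 F439524) D224017 F467446 (iv0 D212771) (iv5 D149266)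
theorem F522560 : act 6 n206742 = n224017 := d14_5 F522558 F467457 (iv7 F488816) (iv6 F495235) F443466
def n224018 : Q := act 6 n206160
theorem D224018 : act 6 n206160 = n224018 := rfl
theorem F522561 : act 4 n224018 = n206742 := d10_1 D224018 F522560 (iv4 D224017)
theorem F522562 : act 7 n224018 = n217421 := d14_2 (iv7 F439523) D224018 (iv6 D217421) F369769 (iv6 F234656)
theorem F522563 : act 0 n224018 = n217451 := d21_4 (iv5 D191006) F362067 (iv5 F439524) D224018 (iv6 F495632) F495631 F467432 F495990 F497982 (iv1 D219258)
theorem F522564 : act 1 n224018 = n219280 := d15_1 (iv0 F522563) F498099 F496288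
def n224019 : Q := act 0 n206161
theorem D224019 : act 0 n206161 = n224019 := rfl
theorem F522565 : act 5 n224019 = n215155 := d17_1 D224019 F478606 (iv5 F497985) (iv4 D219259) (iv5 D191006) F362087 D189942 F378320 D206161
theorem F522566 : act 4 n224019 = n207417 := d18_3 (iv1 D206160) D206161 D224019 (iv5 D207417) (iv4 D131396) F317618 (iv4 F319353) F362065 (iv5 F439524)
theorem F522567 : act 1 n219260 = n224019 := d15_0 (iv0 D224019) (iv7 F496081) (iv2 F497988)
theorem F522568 : act 3 n220938 = n224019 := d19_19 (iv1 F522567) F497990 (iv4 D207122) (iv3 D130396) (iv1 D61189) D61190 (iv4 F306316) F113293 (iv1 F54800) D37911 D82587 (iv3 F328788) F175695 D200208 (iv4 F415516) (iv3 F392645) F408064 D222128 F512496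
theorem F522569 : act 2 n212773 = n224019 := d1_3 F522566 F444794 D212773
theorem F522570 : act 6 n218699 = n224019 := d10_0 F522566 F444795 D218699
def n224020 : Q := act 1 n206161
theorem D224020 : act 1 n206161 = n224020 := rfl
theorem F522571 : act 1 n224020 = n219260 := d15_1 D224020 F497991 F496202
theorem F522572 : act 7 n224020 = n212773 := d15_2 (iv0 D224019) D224020 F522569
theorem F522573 : act 5 n224020 = n207415 := d17_7 (iv1 F351666) (iv5 F351664) F233103 D207416 (iv4 F447013) (iv5 F447015) D224020 (iv0 F474656) (iv4 D214340)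
theorem F522574 : act 4 n224020 = n212774 := d17_9 F495531 F495528 (iv1 F439636) D206190 (iv4 F447019) (iv5 D207925) D207924 (iv5 F447015) D224020
theorem F522575 : act 6 n222249 = n224020 := d21_3 (iv5 F446233) (iv1 F446236) D222249 (iv1 D224020) (iv6 F522541) F522543 (iv1 D206826) D206827 F442334 (iv1 F437491)
def n224021 : Q := act 3 n206161
theorem D224021 : act 3 n206161 = n224021 := rfl
theorem F522576 : act 2 n224021 = n223827 := d0_1 D224021 (iv3 D223827) F434990 (iv3 F496203) F496202
theorem F522577 : act 4 n224021 = n206166 := d5_2 D206161 D224021 (iv3 D206166) (iv4 D127633) (iv3 F205183)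
theorem F522578 : act 5 n224021 = n206823 := d6_2 (iv5 F447015) D224021 F447016
theorem F522579 : act 7 n224021 = n223956 := d8_2 F496081 D224021 F522209
def n224022 : Q := act 1 n206166
theorem D224022 : act 1 n206166 = n224022 := rfl
theorem F522580 : act 7 n224022 = n220937 := d15_2 (iv0 F506230) D224022 F506372
theorem F522581 : act 4 n224022 = n219063 := d18_7 F454809 (iv4 F474827) (iv1 F474832) F449550 (iv5 F522578) F522577 D224022 (iv0 F522304) F522301
theorem F522582 : act 3 n218853 = n224022 := d19_19 (iv1 D224022) F500301 F500296 F473284 F438131 (iv5 F403863) F386209 (iv3 D99940) (iv1 F74671) (iv5 F347701) F347700 (iv3 F139578) (iv1 F283553) (iv5 D159842) (iv4 F138024) (iv3 F284521) F289562 D190738 (iv4 F495917)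
theorem F522583 : act 5 n220798 = n224022 := d21_0 (iv1 D224022) F500301 F500299 F393015 (iv6 F368784) (iv5 F158943) F343057 (iv5 F292221) D194562 D220798
def n224023 : Q := act 2 n206166
theorem D224023 : act 2 n206166 = n224023 := rfl
theorem F522584 : act 3 n224023 = n211711 := d0_2 D206166 D224023 (iv2 F495638) (iv3 D218783) (iv2 F378793)
theorem F522585 : act 4 n224023 = n223827 := d1_2 F522577 D224023 (iv2 F522576)
theorem F522586 : act 5 n224023 = n211710 := d2_2 (iv5 F500301) D224023 F500300
theorem F522587 : act 6 n224023 = n218966 := d3_2 (iv6 F498312) D224023 (iv2 F498310)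
theorem F522588 : act 0 n224023 = n220937 := d21_4 F488828 F462794 D218966 (iv6 F522587) (iv6 D220937) (iv5 F430546) F430547 (iv5 F369559) D217357 F488829
def n224024 : Q := act 6 n206168
theorem D224024 : act 6 n206168 = n224024 := rfl
theorem F522589 : act 3 n224024 = n206169 := d7_1 D224024 (iv6 D206169) (iv3 F439548)
theorem F522590 : act 5 n224024 = n215661 := d12_1 D224024 (iv6 D215661) (iv5 F368652) F368653 D206168
theorem F522591 : act 0 n224024 = n215144 := d21_4 (iv5 F368514) F368518 D206168 D224024 (iv6 D215144) D215143 F496147 F496143 F488902 (iv1 D215131)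
def n224025 : Q := act 5 n206189
theorem D224025 : act 5 n206189 = n224025 := rfl
theorem F522592 : act 2 n224025 = n206190 := d2_1 D224025 (iv5 D206190) (iv2 F439644)
theorem F522593 : act 3 n224025 = n218774 := d6_1 D224025 F495600 F495109
theorem F522594 : act 4 n224025 = n207073 := d9_1 D224025 (iv5 D207073) F208221 (iv5 F322468) (iv4 F306999) F210713 (iv4 F234550) D212760 F467395 (iv5 D206993) F207876 (iv5 F319575) (iv4 F309311) (iv5 F333726) D206189
theorem F522595 : act 6 n224025 = n219309 := d12_2 (iv6 F465985) D224025 (iv5 D219309) D219310 F498240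
theorem F522596 : act 7 n224025 = n206194 := d13_2 (iv7 F439645) D224025 (iv5 D206194)
theorem F522597 : act 0 n224025 = n218753 := d17_2 (iv1 F439646) D224025 (iv5 D218753) F378619 (iv5 D170568) (iv0 F300252) D190797 (iv0 F381105) (iv4 F419567)
theorem F522598 : act 1 n224025 = n215022 := d17_6 F318755 (iv5 F318065) (iv1 F312933) (iv5 F333726) D206189 D224025 (iv5 D215022) F362085 (iv4 D131396)
def n224026 : Q := act 6 n206204
theorem D224026 : act 6 n206204 = n224026 := rfl
theorem F522599 : act 2 n224026 = n211122 := d3_1 D224026 (iv6 D211122) (iv2 F439701)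
theorem F522600 : act 3 n224026 = n221409 := d7_1 D224026 (iv6 D221409) (iv3 F439706)
theorem F522601 : act 4 n224026 = n206205 := d10_1 D224026 (iv6 D206205) D206204
theorem F522602 : act 5 n224026 = n223540 := d12_1 D224026 F520005 (iv5 F463497) (iv6 D211121) (iv5 F439702)
theorem F522603 : act 7 n224026 = n216369 := d14_2 (iv7 F439703) D224026 F484039 (iv7 F406851) (iv6 F419995)
theorem F522604 : act 0 n224026 = n214177 := d21_4 (iv5 F402521) (iv1 F402523) (iv5 F439702) D224026 F473867 F387341 (iv1 F404858) (iv5 F420192) F420193 (iv1 F205566)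
theorem F522605 : act 0 n214176 = n224026 := d21_4 D216568 F484986 (iv5 F467927) (iv6 F473864) (iv6 D224026) F439702 (iv1 F388306) (iv5 F388305) D201330 (iv1 F420044)
def n224027 : Q := act 2 n206206
theorem D224027 : act 2 n206206 = n224027 := rfl
theorem F522606 : act 3 n224027 = n211023 := d0_2 D206206 D224027 (iv2 F459781) (iv3 D201318) (iv2 F205417)
theorem F522607 : act 4 n224027 = n210997 := d1_2 F453955 D224027 (iv2 F459686)
theorem F522608 : act 5 n224027 = n208550 := d2_2 (iv5 F439712) D224027 F449845
theorem F522609 : act 6 n224027 = n222332 := d3_2 (iv6 F439713) D224027 F513641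
theorem F522610 : act 7 n224027 = n222821 := d4_2 (iv7 F439714) D224027 (iv2 D222821)
theorem F522611 : act 1 n224027 = n210914 := d15_0 F459269 (iv7 F439714) D224027
theorem F522612 : act 1 n216339 = n224027 := d15_0 F522611 (iv7 F461090) (iv2 F483917)
def n224028 : Q := act 3 n206209
theorem D224028 : act 3 n206209 = n224028 := rfl
theorem F522613 : act 4 n224028 = n206210 := d5_2 D206209 D224028 (iv3 D206210) (iv4 D127783) (iv3 F205529)
theorem F522614 : act 5 n224028 = n206964 := d6_2 F508534 D224028 (iv3 F508532)
theorem F522615 : act 6 n224028 = n207818 := d7_2 (iv6 F475058) D224028 F475060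
theorem F522616 : act 7 n224028 = n220173 := d8_2 (iv7 F439725) D224028 F502472
theorem F522617 : act 0 n224028 = n212378 := d19_4 (iv1 F178289) D127781 D206209 D224028 (iv5 D212378) (iv4 F465284) (iv3 D212318) F229930 F330620 (iv4 D66385) (iv3 F319216) D128380 (iv5 F280370) (iv4 F280373) F363179 F363180 (iv5 F409881) F409880 F352151
theorem F522618 : act 0 n221402 = n224028 := d20_4 F419295 (iv1 D199201) D199202 (iv3 F508832) (iv3 D224028) (iv4 D206209) D206207 (iv4 F465663) (iv3 F465664) F458331
def n224029 : Q := act 7 n206218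
theorem D224029 : act 7 n206218 = n224029 := rfl
theorem F522619 : act 2 n224029 = n221252 := d4_1 D224029 (iv7 D221252) (iv2 F439767)
theorem F522620 : act 3 n224029 = n220325 := d8_1 D224029 F503207 (iv3 F439768)
theorem F522621 : act 4 n224029 = n208737 := d11_1 D224029 (iv7 F491710) (iv4 F491712)
theorem F522622 : act 5 n224029 = n220972 := d13_1 D224029 F506575 (iv5 F439769)
theorem F522623 : act 6 n224029 = n208736 := d14_1 D224029 F450641 (iv6 D195835) (iv7 F205584) D206218
theorem F522624 : act 1 n218299 = n224029 := d15_1 (iv0 F493185) (iv7 D224029) F439767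
theorem F522625 : act 1 n224029 = n211141 := d15_1 F522624 (iv7 F475288) (iv2 F493180)
def n224030 : Q := act 4 n206230
theorem D224030 : act 4 n206230 = n224030 := rfl
theorem F522626 : act 2 n224030 = n222832 := d1_1 D224030 (iv4 D222832) (iv2 F439823)
theorem F522627 : act 3 n224030 = n222059 := d5_1 D224030 F512143 F498601 F498599 F493175
theorem F522628 : act 6 n224030 = n212397 := d10_2 (iv6 F439824) D224030 F465660
theorem F522629 : act 7 n224030 = n222833 := d11_2 (iv7 F439825) D224030 (iv4 D222833)
theorem F522630 : act 0 n224030 = n207636 := d18_2 F439826 D224030 (iv4 F508561) F508562 (iv4 F513418) F513419 (iv4 D216369) (iv0 D183158) D183161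
theorem F522631 : act 1 n224030 = n219629 := d18_6 (iv1 D157739) (iv4 F205642) F410635 F410634 D206230 D224030 F499752 (iv0 F475040) F419290
def n224031 : Q := act 6 n206251
theorem D224031 : act 6 n206251 = n224031 := rfl
theorem F522632 : act 2 n224031 = n218276 := d3_1 D224031 (iv6 D218276) (iv2 F439930)
theorem F522633 : act 3 n224031 = n206252 := d7_1 D224031 (iv6 D206252) (iv3 F439931)
theorem F522634 : act 7 n224031 = n218276 := d14_2 (iv7 F439932) D224031 (iv6 D218276) (iv7 F471864) (iv6 F471867)
theorem F522635 : act 0 n224031 = n212133 := d21_4 F374268 F365475 D206251 D224031 (iv6 D212133) F228401 (iv1 F165025) D196544 F492475 (iv1 D218165)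
theorem F522636 : act 0 n212133 = n224031 := d21_4 (iv5 D196542) (iv1 F165032) (iv5 F228401) D212133 (iv6 D224031) (iv5 D206251) (iv1 F365477) (iv5 F374991) (iv6 F410710) F410712
def n224032 : Q := act 1 n206256
theorem D224032 : act 1 n206256 = n224032 := rfl
theorem F522637 : act 4 n224032 = n213494 := d17_9 F470667 F411396 D216335 F483894 (iv4 F462014) F462016 (iv0 F462044) F462042 D224032
theorem F522638 : act 3 n213492 = n224032 := d19_19 (iv1 D224032) (iv5 F462042) (iv4 F513656) (iv3 F518545) (iv1 F518547) F465832 (iv4 D194052) (iv3 F385939) (iv1 F319853) (iv5 D103157) D103156 F319850 (iv1 F230556) F310751 (iv4 F270133) F270132 F306724 D153910 D213492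
theorem F522639 : act 5 n217985 = n224032 := d21_0 (iv1 D224032) (iv5 F462042) F462043 (iv1 F420155) (iv6 F444169) F444166 (iv1 F432861) (iv5 F434642) (iv6 F434646) F491561
theorem F522640 : act 6 n214105 = n224032 := d21_3 (iv5 D213135) D213134 (iv5 F473499) (iv1 D224032) F439949 F388721 F420156 F440394 (iv6 F440393) (iv1 F469150)
def n224033 : Q := act 6 n206261
theorem D224033 : act 6 n206261 = n224033 := rfl
theorem F522641 : act 2 n224033 = n212845 := d3_1 D224033 (iv6 D212845) (iv2 F439971)
theorem F522642 : act 3 n224033 = n218798 := d7_1 D224033 F495703 F493309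
theorem F522643 : act 4 n224033 = n217405 := d10_1 D224033 F488754 (iv4 F439972)
theorem F522644 : act 5 n224033 = n214086 := d12_1 D224033 (iv6 D214086) (iv5 D156320) (iv6 F312932) D206261
def n224034 : Q := act 4 n206267
theorem D224034 : act 4 n206267 = n224034 := rfl
theorem F522645 : act 3 n224034 = n222333 := d5_1 D224034 (iv4 D222333) F411253 F241271 (iv3 F439994)
theorem F522646 : act 5 n224034 = n216444 := d9_2 D206267 D224034 (iv4 F517721) F517720 (iv4 D212836) F237144 (iv4 F424013) (iv5 F514107) F514106 F469417 (iv4 D213199) (iv5 D152795) (iv4 F189404) F189405 (iv4 F206033)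
theorem F522647 : act 6 n224034 = n222277 := d10_2 (iv6 F514263) D224034 (iv4 F514264)
theorem F522648 : act 7 n224034 = n213023 := d11_2 F459662 D224034 F468639
theorem F522649 : act 1 n224034 = n213097 := d18_6 (iv1 D189056) F357084 (iv1 D150601) (iv4 F206033) D206267 D224034 F468995 D218246 F492941
def n224035 : Q := act 5 n206274
theorem D224035 : act 5 n206274 = n224035 := rfl
theorem F522650 : act 6 n224035 = n217454 := d12_2 F510181 D224035 F495907 F410853 (iv5 F510180)
theorem F522651 : act 4 n224035 = n219033 := d16_2 (iv4 F470491) D224035 (iv5 D219033) F380448 (iv5 F356069) (iv4 F282832) (iv5 F470498) F470495 F470492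
def n224036 : Q := act 5 n206275
theorem D224036 : act 5 n206275 = n224036 := rfl
theorem F522652 : act 3 n224036 = n208459 := d6_1 D224036 (iv5 D208459) (iv3 F464058)
theorem F522653 : act 4 n224036 = n219032 := d9_1 D224036 (iv5 D219032) (iv4 F382707) F382706 (iv4 F435358) (iv5 F470488) (iv4 F470491) D224035 F522651 (iv5 D219033) F380448 (iv5 F356069) (iv4 F282832) (iv5 F470498) F470497
theorem F522654 : act 6 n224036 = n212138 := d12_2 F481281 D224036 F464457 F357274 D215728
def n224037 : Q := act 3 n206292
theorem D224037 : act 3 n206292 = n224037 := rfl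
theorem F522655 : act 4 n224037 = n218267 := d5_2 D206292 D224037 (iv3 D218267) (iv4 D188889) (iv3 F206225)
theorem F522656 : act 5 n224037 = n218319 := d6_2 (iv5 F440106) D224037 (iv3 D218319)
theorem F522657 : act 6 n224037 = n222840 := d7_2 (iv6 F440105) D224037 (iv3 D222840)
theorem F522658 : act 0 n224037 = n222277 := d19_4 (iv1 D128128) D128129 D206292 D224037 (iv5 D222277) (iv4 F504246) (iv3 F504250) (iv1 D202246) D202247 (iv4 F481824) F481823 (iv1 F519621) (iv5 D223470) F429035 (iv3 F315158) F317366 F317359 F313876 F206220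
theorem F522659 : act 0 n213025 = n224037 := d20_4 (iv4 F459093) F459096 (iv4 F462284) (iv3 F468647) (iv3 D224037) (iv4 D206292) F370629 (iv4 F483951) F483950 (iv1 F467744)
def n224038 : Q := act 3 n206321
theorem D224038 : act 3 n206321 = n224038 := rfl
theorem F522660 : act 2 n224038 = n214217 := d0_1 D224038 (iv3 D214217) (iv2 F341156) (iv3 F340950) F440236
theorem F522661 : act 4 n224038 = n220454 := d5_2 (iv4 F440235) D224038 (iv3 F503855) F466356 (iv3 F354066)
theorem F522662 : act 5 n224038 = n218780 := d6_2 (iv5 F440234) D224038 (iv3 D218780)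
theorem F522663 : act 7 n224038 = n208081 := d8_2 (iv7 F440233) D224038 (iv3 D208081)
theorem F522664 : act 0 n224038 = n220065 := d19_4 F131212 D153245 (iv4 F440235) D224038 F501939 F501741 F501737 (iv1 F407590) (iv5 D141944) D141943 (iv3 F371629) F411070 F411068 F410646 (iv3 F345591) (iv1 D107647) F345597 (iv4 F304143) (iv3 F305901)
theorem F522665 : act 0 n223287 = n224038 := d20_4 (iv4 F460192) (iv1 F518650) (iv4 D223288) D223287 (iv3 D224038) F440235 D213281 F469699 F378407 (iv1 F443604)
def n224039 : Q := act 6 n206357
theorem D224039 : act 6 n206357 = n224039 := rfl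
theorem F522666 : act 2 n224039 = n223700 := d3_1 D224039 F520800 (iv2 F519362)
theorem F522667 : act 3 n224039 = n221289 := d7_1 D224039 F508184 F463389
theorem F522668 : act 4 n224039 = n210404 := d10_1 D224039 (iv6 F457412) (iv4 F440396)
theorem F522669 : act 5 n224039 = n223699 := d12_1 D224039 (iv6 D223699) F446771 (iv6 F502510) F502509
theorem F522670 : act 7 n224039 = n221285 := d14_2 (iv7 F440395) D224039 (iv6 D221285) (iv7 F410265) F410264
theorem F522671 : act 0 n224039 = n213432 := d21_4 (iv5 F479019) F502513 F502509 D224039 F470371 (iv5 D211100) (iv1 D140675) D140677 (iv6 F388352) F455653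
def n224040 : Q := act 0 n206364
theorem D224040 : act 0 n206364 = n224040 := rfl
theorem F522672 : act 4 n224040 = n213723 := d18_1 D224040 (iv1 F471799) (iv4 F497667) (iv5 D219194) F381497 D190903 (iv4 F496286) (iv0 F498016) F498014
theorem F522673 : act 3 n224040 = n209510 := d20_5 F481588 (iv1 F513736) (iv4 F518530) F518531 D224040 F453971 (iv1 F220056) D209156 F452496 F481591
theorem F522674 : act 6 n224040 = n217757 := d21_5 (iv5 D60361) D60358 D128384 D206364 D224040 F490484 (iv1 D187985) (iv5 D90713) (iv6 F109101) F109098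
theorem F522675 : act 1 n217786 = n224040 := d15_0 (iv0 D224040) (iv7 F498094) F498091
theorem F522676 : act 2 n217815 = n224040 := d3_3 F522674 (iv2 F490486) D217815
theorem F522677 : act 7 n209734 = n224040 := d14_0 F522674 (iv7 F501802) (iv6 F520022) (iv7 F520025) (iv6 F454789)
def n224041 : Q := act 1 n206364
theorem D224041 : act 1 n206364 = n224041 := rfl
theorem F522678 : act 1 n224041 = n217786 := d15_1 D224041 F490619 F467854
theorem F522679 : act 7 n224041 = n217815 := d15_2 (iv0 D224040) D224041 F522676
theorem F522680 : act 4 n224041 = n213724 := d17_9 (iv1 D213724) (iv5 F402455) (iv1 D196961) D196962 D221665 F510174 (iv0 F498016) F498014 D224041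
theorem F522681 : act 3 n211316 = n224041 := d19_19 (iv1 D224041) (iv5 F498014) F498013 (iv3 F497912) (iv1 F497916) (iv5 F512577) F512576 (iv3 F476629) (iv1 F476633) F390664 F157082 F329359 D64143 D136442 (iv4 F451916) F451914 (iv1 F486326) F486323 (iv4 F461092)
theorem F522682 : act 6 n223544 = n224041 := d21_3 (iv5 D204579) (iv1 F432916) (iv5 F520028) (iv1 D224041) (iv6 D206364) (iv5 D128384) (iv1 F204805) F204803 D154779 (iv1 F432940)
theorem F522683 : act 2 n224041 = n209734 := d3_1 F522682 F454789 (iv2 F520030)
def n224042 : Q := act 3 n206373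
theorem D224042 : act 3 n206373 = n224042 := rfl
theorem F522684 : act 2 n224042 = n212865 := d0_1 D224042 (iv3 D212865) (iv2 F237877) (iv3 F206675) (iv2 F440478)
theorem F522685 : act 4 n224042 = n223828 := d5_2 D206373 D224042 F521501 F439626 (iv3 F206669)
theorem F522686 : act 5 n224042 = n219793 := d6_2 F485651 D224042 (iv3 F500652)
theorem F522687 : act 6 n224042 = n220561 := d7_2 F478283 D224042 F504364
theorem F522688 : act 7 n224042 = n214436 := d8_2 (iv7 F440479) D224042 F475171
theorem F522689 : act 0 n224042 = n214435 := d20_4 (iv4 D159434) (iv1 F206672) D206373 D224042 (iv3 F475167) F385957 F159303 F352866 (iv3 F422962) (iv1 F422966)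
theorem F522690 : act 0 n214434 = n224042 := d20_4 (iv4 F467571) (iv1 F467575) (iv4 F464128) (iv3 F475165) (iv3 D224042) (iv4 D206373) (iv1 F206671) (iv4 F360743) (iv3 F455934) (iv1 F455938)
def n224043 : Q := act 5 n206377
theorem D224043 : act 5 n206377 = n224043 := rfl
theorem F522691 : act 2 n224043 = n222847 := d2_1 D224043 (iv5 D222847) (iv2 F440494)
theorem F522692 : act 3 n224043 = n219631 := d6_1 D224043 F499761 (iv3 F486983)
theorem F522693 : act 6 n224043 = n222847 := d12_2 D206377 D224043 (iv5 D222847) F420552 (iv5 F206678)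
theorem F522694 : act 7 n224043 = n222401 := d13_2 F493008 D224043 F514010
theorem F522695 : act 4 n224043 = n214676 := d16_2 (iv4 F440495) D224043 (iv5 D214676) (iv4 F476344) F476345 F410870 (iv5 F420554) (iv7 D201452) (iv2 F248613)
theorem F522696 : act 1 n224043 = n221869 := d17_6 F508564 F419290 (iv1 D157739) D157740 (iv4 F440495) D224043 F511149 (iv0 F454367) (iv4 F508561)
def n224044 : Q := act 4 n206381
theorem D224044 : act 4 n206381 = n224044 := rfl
theorem F522697 : act 2 n224044 = n206382 := d1_1 D224044 (iv4 D206382) (iv2 F440511)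
theorem F522698 : act 5 n224044 = n210103 := d9_2 D206381 D224044 (iv4 D210103) (iv5 D137556) (iv4 D64658) (iv5 D30423) (iv4 F48847) D64628 D137494 D210084 (iv4 F521616) F521615 (iv4 D209264) (iv5 D136036) (iv4 F206720)
theorem F522699 : act 6 n224044 = n222523 := d10_2 (iv6 F440513) D224044 (iv4 D222523)
theorem F522700 : act 7 n224044 = n210076 := d11_2 (iv7 F440514) D224044 (iv4 D210076)
theorem F522701 : act 0 n224044 = n210083 := d18_2 (iv1 F440516) D224044 (iv4 F456093) F225389 F182933 F99444 (iv4 F100361) F218665 (iv5 F220898)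
theorem F522702 : act 1 n224044 = n210082 := d18_6 (iv1 F333129) (iv4 D64646) (iv1 F99531) (iv4 F206720) D206381 D224044 F456088 (iv0 D194056) (iv5 D102618)
def n224045 : Q := act 5 n206382
theorem D224045 : act 5 n206382 = n224045 := rfl
theorem F522703 : act 2 n224045 = n210103 := d2_1 D224045 (iv5 F522698) F522697
theorem F522704 : act 3 n224045 = n210084 := d6_1 D224045 (iv5 D210084) (iv3 F440517)
theorem F522705 : act 6 n224045 = n210103 := d12_2 F512829 D224045 (iv5 F522698) F522699 F514702
theorem F522706 : act 7 n224045 = n210084 := d13_2 (iv7 F440518) D224045 (iv5 D210084)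
theorem F522707 : act 4 n224045 = n210097 := d16_2 D206382 D224045 (iv5 D210097) (iv4 D137538) (iv5 D64654) (iv4 F100547) D137490 (iv7 F440514) F440511
theorem F522708 : act 0 n224045 = n223868 := d17_2 F455489 D224045 F521739 F493968 F396253 (iv0 F345454) (iv5 F391903) F391905 D209947
theorem F522709 : act 1 n224045 = n223867 := d17_6 F391913 (iv5 D194060) F333097 D128526 D206382 D224045 F521733 F493976 (iv4 D209910)
def n224046 : Q := act 5 n206387
theorem D224046 : act 5 n206387 = n224046 := rfl
theorem F522710 : act 2 n224046 = n219308 := d2_1 D224046 (iv5 D219308) (iv2 F440542)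
theorem F522711 : act 3 n224046 = n221374 := d6_1 D224046 (iv5 D221374) (iv3 F440543)
theorem F522712 : act 4 n224046 = n223860 := d9_1 D224046 F521688 (iv4 D206005) (iv5 D126930) D126929 D206004 (iv4 F438798) D207607 (iv4 F521680) F521679 (iv4 D205834) (iv5 D126653) (iv4 F95004) D128533 D206387
theorem F522713 : act 6 n224046 = n221251 := d12_2 (iv6 F440544) D224046 F507960 F490230 F442066
theorem F522714 : act 7 n224046 = n221374 := d13_2 (iv7 F440545) D224046 (iv5 D221374)
theorem F522715 : act 0 n224046 = n222720 := d17_2 (iv1 F440546) D224046 F515739 F477341 (iv5 F392729) (iv0 D194298) (iv5 F381017) (iv0 F454475) F454474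
theorem F522716 : act 1 n224046 = n222165 := d17_6 D181933 F339724 (iv1 D128531) D128533 D206387 D224046 F512682 (iv0 D214899) F257731
def n224047 : Q := act 3 n206388
theorem D224047 : act 3 n206388 = n224047 := rfl
theorem F522717 : act 2 n224047 = n222263 := d0_1 D224047 (iv3 F513234) F477982 (iv3 D210089) F440551
theorem F522718 : act 4 n224047 = n215966 := d5_2 F440552 D224047 (iv3 F512827) F512823 (iv3 F413665)
theorem F522719 : act 5 n224047 = n219019 := d6_2 (iv5 F440550) D224047 F496712
theorem F522720 : act 6 n224047 = n222238 := d7_2 F496440 D224047 F513091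
theorem F522721 : act 7 n224047 = n210088 := d8_2 (iv7 F440549) D224047 (iv3 D210088)
theorem F522722 : act 0 n224047 = n211771 := d19_4 F510249 F510246 F440552 D224047 F463037 F234604 (iv3 F234592) (iv1 F360158) (iv5 F432061) (iv4 F432058) F426923 (iv1 F250314) F358649 (iv4 F400563) F400562 (iv1 F227051) (iv5 F435081) (iv4 F477652) F477651
theorem F522723 : act 0 n222259 = n224047 := d20_4 (iv4 D112926) (iv1 F175856) (iv4 F410033) D222259 (iv3 D224047) (iv4 F440552) (iv1 D199155) F172129 (iv3 F355228) (iv1 F175869)
def n224048 : Q := act 5 n206392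
theorem D224048 : act 5 n206392 = n224048 := rfl
theorem F522724 : act 2 n224048 = n209955 := d2_1 D224048 (iv5 F483123) F483120
theorem F522725 : act 3 n224048 = n209918 := d6_1 D224048 (iv5 D209918) (iv3 F440570)
theorem F522726 : act 6 n224048 = n222906 := d12_2 F483099 D224048 (iv5 D222906) F421446 (iv5 F483101)
theorem F522727 : act 7 n224048 = n209918 := d13_2 (iv7 F440571) D224048 (iv5 D209918)
theorem F522728 : act 4 n224048 = n209949 := d16_2 D206392 D224048 (iv5 D209949) (iv4 D137152) (iv5 D64476) (iv4 F100361) D137082 (iv7 F340525) (iv2 F340523)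
theorem F522729 : act 1 n224048 = n223863 := d17_6 F440515 F220894 (iv1 D135939) (iv5 F206772) D206392 D224048 F521710 (iv0 F522701) (iv4 D224044)
def n224049 : Q := act 1 n206393
theorem D224049 : act 1 n206393 = n224049 := rfl
theorem F522730 : act 7 n224049 = n209929 := d15_2 (iv0 F498341) D224049 (iv2 F498338)
theorem F522731 : act 5 n224049 = n220919 := d17_7 F506262 F463191 (iv1 F425762) (iv5 F496109) F496108 (iv5 F463077) D224049 (iv0 D220919) (iv4 F506260)
theorem F522732 : act 4 n224049 = n211874 := d17_9 F516368 F516367 (iv1 D211819) (iv5 D144132) F103419 D144095 D211789 (iv5 F463077) D224049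
theorem F522733 : act 3 n207182 = n224049 := d19_19 (iv1 D224049) F463077 (iv4 F496108) (iv3 D218901) (iv1 F379207) F363595 (iv4 F373816) F373814 F161694 (iv5 D94036) F293507 (iv3 D88447) (iv1 D41287) D41289 D88453 D185701 (iv1 F398806) (iv5 F398807) (iv4 F443682)
theorem F522734 : act 6 n207181 = n224049 := d21_3 (iv5 F439465) (iv1 F439467) (iv5 F443680) (iv1 D224049) (iv6 D206393) F416112 D222609 F515156 F496440 (iv1 D206388)
def n224050 : Q := act 7 n206393
theorem D224050 : act 7 n206393 = n224050 := rfl
theorem F522735 : act 3 n224050 = n214886 := d8_1 D224050 (iv7 F515166) F515163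
theorem F522736 : act 4 n224050 = n222615 := d11_1 D224050 (iv7 D222615) (iv4 F440572)
theorem F522737 : act 5 n224050 = n214883 := d13_1 D224050 (iv7 F477276) (iv5 F463077)
theorem F522738 : act 6 n224050 = n223526 := d14_1 D224050 F519917 (iv6 D206414) (iv7 F415174) D206393
theorem F522739 : act 0 n209929 = n224050 := d21_4 (iv5 F474721) F474724 (iv5 D209928) D209929 F522738 (iv5 D223526) F477818 F477815 F438995 (iv1 F370184)
def n224051 : Q := act 5 n206397
theorem D224051 : act 5 n206397 = n224051 := rfl
theorem F522740 : act 2 n224051 = n218991 := d2_1 D224051 F496571 (iv2 F440582)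
theorem F522741 : act 3 n224051 = n210094 := d6_1 D224051 (iv5 D210094) (iv3 F440583)
theorem F522742 : act 4 n224051 = n209913 := d9_1 D224051 F455340 (iv4 F396689) (iv5 F423171) F423170 F330557 (iv4 F438984) (iv5 F463216) (iv4 F495432) F495433 F401729 (iv5 F423163) F423162 F330555 D206397
theorem F522743 : act 6 n224051 = n210441 := d12_2 (iv6 F440584) D224051 F457547 (iv6 F395056) (iv5 F391505)
theorem F522744 : act 7 n224051 = n219066 := d13_2 (iv7 F440585) D224051 F496996
theorem F522745 : act 0 n224051 = n219305 := d17_2 F440587 D224051 F498224 (iv4 F438125) F438126 F438129 (iv5 D115619) D115616 (iv4 F410911)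
theorem F522746 : act 1 n224051 = n219312 := d17_6 (iv1 D115321) D115323 (iv1 F355427) F330555 D206397 D224051 F498252 (iv0 F402384) F226852
def n224052 : Q := act 6 n206410
theorem D224052 : act 6 n206410 = n224052 := rfl
theorem F522747 : act 2 n224052 = n211722 := d3_1 D224052 F462854 (iv2 F440657)
theorem F522748 : act 3 n224052 = n215693 := d7_1 D224052 (iv6 F495427) F495426
theorem F522749 : act 4 n224052 = n212006 := d10_1 D224052 (iv6 F474199) F474198
theorem F522750 : act 5 n224052 = n218766 := d12_1 D224052 F518673 (iv5 F518671) (iv6 D206411) D206410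
theorem F522751 : act 7 n224052 = n211723 := d14_2 (iv7 F440658) D224052 (iv6 F462859) (iv7 F444625) F444624
theorem F522752 : act 0 n224052 = n211724 := d21_4 (iv5 F95045) D128580 D206410 D224052 F462866 D222240 (iv1 F515146) (iv5 D222606) (iv6 D200344) (iv1 D112997)
theorem F522753 : act 0 n211717 = n224052 := d21_4 (iv5 F331471) (iv1 F182835) D144045 D211717 (iv6 D224052) (iv5 D206410) (iv1 F331502) F331504 F331487 (iv1 F331483)
def n224053 : Q := act 1 n206411
theorem D224053 : act 1 n206411 = n224053 := rfl
theorem F522754 : act 1 n224053 = n224050 := d15_1 D224053 (iv7 D224050) (iv2 F440659)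
theorem F522755 : act 7 n224053 = n219335 := d15_2 (iv0 F486390) D224053 F498338
theorem F522756 : act 5 n224053 = n218755 := d17_7 (iv1 F518777) F518774 (iv1 F425775) D211817 (iv4 F518669) (iv5 F518671) D224053 (iv0 F495505) F463187
theorem F522757 : act 3 n218637 = n224053 := d19_19 (iv1 D224053) F518671 F518669 F463182 (iv1 F408927) (iv5 F447535) F447534 (iv3 F447493) (iv1 F447495) F399585 (iv4 F363981) F441578 (iv1 D206613) (iv5 F348596) F304018 (iv3 F413828) (iv1 F474554) (iv5 F482238) (iv4 F494909)
theorem F522758 : act 6 n218756 = n224053 := d21_3 D137502 (iv1 F419245) D218756 (iv1 D224053) (iv6 D206411) D206410 (iv1 F486401) F486398 (iv6 D210090) (iv1 D137501)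
theorem F522759 : act 2 n224053 = n224049 := d3_1 F522758 (iv6 F522734) (iv2 F495506)
def n224054 : Q := act 7 n206411
theorem D224054 : act 7 n206411 = n224054 := rfl
theorem F522760 : act 2 n224054 = n224050 := d4_1 D224054 (iv7 D224050) (iv2 F440659)
theorem F522761 : act 3 n224054 = n215656 := d8_1 D224054 (iv7 F515599) F515596
theorem F522762 : act 4 n224054 = n219333 := d11_1 D224054 (iv7 F498329) (iv4 F440660)
theorem F522763 : act 5 n224054 = n211788 := d13_1 D224054 (iv7 F518668) (iv5 F518671)
theorem F522764 : act 6 n224054 = n219332 := d14_1 D224054 F498324 (iv6 D206396) (iv7 F415171) D206411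
theorem F522765 : act 1 n224049 = n224054 := d15_1 D224049 (iv7 D224054) F440659
theorem F522766 : act 1 n224054 = n219335 := d15_1 F522765 (iv7 F522755) F522759
def n224055 : Q := act 3 n206477
theorem D224055 : act 3 n206477 = n224055 := rfl
theorem F522767 : act 2 n224055 = n206832 := d0_1 D224055 (iv3 D206832) F437791 D207642 (iv2 F445812)
theorem F522768 : act 4 n224055 = n210186 := d5_2 D206477 D224055 F456495 (iv4 F417929) F417928
theorem F522769 : act 5 n224055 = n221886 := d6_2 F516833 D224055 F516834
theorem F522770 : act 7 n224055 = n207836 := d8_2 F508709 D224055 (iv3 F508706)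
theorem F522771 : act 0 n224055 = n206892 := d19_4 (iv1 F395672) F395669 D206477 D224055 (iv5 F453386) F453385 (iv3 F450682) (iv1 F450687) F375715 (iv4 D135813) (iv3 D63863) (iv1 F48432) (iv5 D30129) (iv4 F48373) (iv3 D30103) (iv1 F46339) D60484 (iv4 F95087) (iv3 F206902)
def n224056 : Q := act 4 n206483
theorem D224056 : act 4 n206483 = n224056 := rfl
theorem F522772 : act 3 n224056 = n219502 := d5_1 D224056 F499198 (iv3 F434212) (iv4 F520580) F520579
theorem F522773 : act 5 n224056 = n221444 := d9_2 D206483 D224056 F509043 F434987 (iv4 F245356) F245357 (iv4 F206975) D206484 (iv4 F521844) F521845 F509039 (iv5 D196699) F165239 (iv5 F164878) (iv4 F211348)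
theorem F522774 : act 6 n224056 = n219500 := d10_2 (iv6 F445139) D224056 F499191
theorem F522775 : act 0 n224056 = n207554 := d17_0 (iv5 F464275) F464276 F401086 (iv4 F362876) F211526 (iv0 F164007) D129793 (iv0 F441035) D224056
theorem F522776 : act 1 n224056 = n207556 := d18_6 F211981 (iv4 D106970) D106968 (iv4 F211348) D206483 D224056 (iv4 D207556) F445419 F445418
def n224057 : Q := act 4 n206487
theorem D224057 : act 4 n206487 = n224057 := rfl
theorem F522777 : act 5 n224057 = n223826 := d16_1 D224057 F521496 (iv5 D211881) F227004 F103525 D128685 D206489 (iv7 F445424) (iv2 F445428)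
theorem F522778 : act 0 n224057 = n207008 := d17_0 (iv5 F509418) F509420 (iv5 F445448) F445447 F211441 F164159 D196055 (iv0 F441049) D224057
theorem F522779 : act 1 n224057 = n221340 := d18_6 (iv1 D128679) F95136 D60520 D128683 D206487 D224057 (iv4 D221340) (iv0 F441039) (iv5 D206484)
def n224058 : Q := act 4 n206489
theorem D224058 : act 4 n206489 = n224058 := rfl
theorem F522780 : act 5 n224058 = n223825 := d9_2 D206489 D224058 F521490 (iv5 D206038) F204333 (iv5 F95137) D128683 D206487 D224057 F522777 F521496 (iv5 D211881) F227004 F103525 D128685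
theorem F522781 : act 6 n224058 = n218670 := d10_2 F499170 D224058 (iv4 F499168)
theorem F522782 : act 0 n224058 = n221340 := d17_0 (iv5 F509414) F509415 F464290 (iv4 D196059) (iv5 D106590) D106589 D196057 (iv0 F441054) D224058
theorem F522783 : act 1 n224058 = n207008 := d18_6 (iv1 F211347) F211343 (iv1 F96485) D128685 D206489 D224058 (iv4 D207008) (iv0 F441035) (iv5 D206483)
def n224059 : Q := act 3 n206500
theorem D224059 : act 3 n206500 = n224059 := rfl
theorem F522784 : act 2 n224059 = n215037 := d0_1 D224059 (iv3 D215037) F259205 (iv3 F397653) (iv2 F441100)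
theorem F522785 : act 4 n224059 = n220997 := d5_2 D206500 D224059 (iv3 F507938) F507939 F398182
theorem F522786 : act 6 n224059 = n221190 := d7_2 (iv6 F441101) D224059 F507658
theorem F522787 : act 7 n224059 = n222699 := d8_2 F445526 D224059 F515636
theorem F522788 : act 0 n224059 = n207572 := d20_4 (iv4 D131966) (iv1 F206989) D206500 D224059 (iv3 F446600) (iv4 F449388) (iv1 F499332) F499329 F445439 (iv1 D207557)
theorem F522789 : act 0 n222716 = n224059 := d20_4 (iv4 F496240) F522184 F522180 F515726 (iv3 D224059) (iv4 D206500) (iv1 F399253) (iv4 F464284) (iv3 F522179) F522183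
def n224060 : Q := act 7 n206503
theorem D224060 : act 7 n206503 = n224060 := rfl
theorem F522790 : act 2 n224060 = n207541 := d4_1 D224060 F445358 F441656
theorem F522791 : act 3 n224060 = n209134 := d8_1 D224060 F452416 (iv3 F441115)
theorem F522792 : act 4 n224060 = n209213 := d11_1 D224060 (iv7 F483679) F483677
theorem F522793 : act 5 n224060 = n206504 := d13_1 D224060 (iv7 D206504) D206503
theorem F522794 : act 6 n224060 = n209212 := d14_1 D224060 F452730 (iv6 F384092) (iv7 F417327) (iv6 F441116)
theorem F522795 : act 1 n207532 = n224060 := d15_1 (iv0 F445329) (iv7 D224060) (iv2 F441656)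
theorem F522796 : act 1 n224060 = n207542 := d15_1 F522795 (iv7 D207542) (iv2 F445325)
def n224061 : Q := act 4 n206532
theorem D224061 : act 4 n206532 = n224061 := rfl
theorem F522797 : act 2 n224061 = n212488 := d1_1 D224061 (iv4 F472144) F472141
theorem F522798 : act 3 n224061 = n210007 := d5_1 D224061 F455726 F434728 (iv4 F456397) F456400
theorem F522799 : act 5 n224061 = n212456 := d9_2 (iv5 F456401) D224061 (iv4 D212456) F354868 (iv4 D163847) (iv5 F350830) (iv4 F472148) (iv5 F472150) (iv4 F516233) (iv5 D222815) F419797 F354823 (iv4 D163842) (iv5 F353032) (iv4 F456393)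
theorem F522800 : act 6 n224061 = n212099 := d10_2 (iv6 F456402) D224061 (iv4 D212099)
theorem F522801 : act 7 n224061 = n212489 := d11_2 F510227 D224061 (iv4 F510229)
theorem F522802 : act 0 n224061 = n223329 := d17_0 (iv5 D223329) F426456 (iv5 F391205) (iv4 F401430) (iv5 F477152) (iv0 F477155) F401465 D206532 D224061
theorem F522803 : act 1 n224061 = n215926 := d18_6 (iv1 F424834) F223443 (iv1 F359357) (iv4 F456393) (iv5 F456401) D224061 F482123 (iv0 F518513) (iv5 D223264)
def n224062 : Q := act 5 n206534
theorem D224062 : act 5 n206534 = n224062 := rfl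
theorem F522804 : act 2 n224062 = n209568 := d2_1 D224062 F454170 (iv2 F448178)
theorem F522805 : act 3 n224062 = n209576 := d6_1 D224062 (iv5 F480743) F480742
theorem F522806 : act 4 n224062 = n216584 := d9_1 D224062 F485067 (iv4 F496370) F496369 F477652 F435081 D206535 (iv5 F441212) D209573 (iv5 F454196) (iv4 F496378) (iv5 F496380) F476418 (iv5 F435089) D206534
theorem F522807 : act 7 n224062 = n209572 := d13_2 (iv7 F441217) D224062 F454189
theorem F522808 : act 0 n224062 = n209555 := d17_2 F521474 D224062 (iv5 D209555) (iv4 F410657) (iv5 F513409) (iv0 F513414) (iv5 F502963) (iv0 F513083) (iv4 F521470)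
theorem F522809 : act 1 n224062 = n209517 := d17_6 F219720 (iv5 F201862) (iv1 F435087) (iv5 F435089) D206534 D224062 (iv5 D209517) F366314 (iv4 F219722)
theorem F522810 : act 6 n224062 = n213111 := d21_3 (iv5 F521471) F521474 D224062 (iv1 D213111) (iv6 D152536) D152535 D213107 F469045 (iv6 F435076) (iv1 F519608)
def n224063 : Q := act 5 n206536
theorem D224063 : act 5 n206536 = n224063 := rfl
theorem F522811 : act 2 n224063 = n220530 := d2_1 D224063 (iv5 D220530) (iv2 F441218)
theorem F522812 : act 3 n224063 = n211041 := d6_1 D224063 F459856 (iv3 F441219)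
theorem F522813 : act 7 n224063 = n211050 := d13_2 F441222 D224063 F459904
theorem F522814 : act 4 n224063 = n217674 := d16_2 (iv4 F441220) D224063 (iv5 D217674) (iv4 F447429) F447428 F376339 F365762 (iv7 F363856) F371295
theorem F522815 : act 0 n224063 = n221299 := d17_2 F441223 D224063 (iv5 D221299) F398707 (iv5 F377058) (iv0 D189597) F145059 (iv0 F290179) D193105
theorem F522816 : act 1 n224063 = n221592 := d17_6 F157222 F74730 D99016 (iv5 F371298) (iv4 F441220) D224063 (iv5 D221592) F401650 (iv4 D193850)
def n224064 : Q := act 6 n206544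
theorem D224064 : act 6 n206544 = n224064 := rfl
theorem F522817 : act 2 n224064 = n209071 := d3_1 D224064 (iv6 D209071) (iv2 F441259)
theorem F522818 : act 3 n224064 = n220974 := d7_1 D224064 F506588 (iv3 F441260)
theorem F522819 : act 4 n224064 = n206545 := d10_1 D224064 (iv6 D206545) D206544
theorem F522820 : act 5 n224064 = n215684 := d12_1 D224064 (iv6 F481117) (iv5 F507934) (iv6 D221247) (iv5 F441261)
theorem F522821 : act 7 n224064 = n218961 := d14_2 (iv7 F441262) D224064 F496406 F395861 (iv6 F342937)
theorem F522822 : act 0 n224064 = n219551 := d21_4 (iv5 F364324) D195728 (iv5 F441261) D224064 F499407 D221257 F508001 F494690 (iv6 F444484) F444486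
theorem F522823 : act 0 n209102 = n224064 := d21_4 D217609 F489782 (iv5 F492691) (iv6 F492694) (iv6 D224064) F441261 (iv1 F397971) (iv5 F397970) F439352 (iv1 F439349)
def n224065 : Q := act 5 n206572
theorem D224065 : act 5 n206572 = n224065 := rfl
theorem F522824 : act 2 n224065 = n206573 := d2_1 D224065 (iv5 D206573) D206572
theorem F522825 : act 3 n224065 = n218687 := d6_1 D224065 F495155 F443406
theorem F522826 : act 4 n224065 = n208954 := d9_1 D224065 F499139 F499137 (iv5 F384084) (iv4 F499305) F499306 F437678 (iv5 F445155) F451545 (iv5 F487152) F487151 (iv5 F367789) (iv4 F487201) F487202 (iv4 F446623)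
theorem F522827 : act 6 n224065 = n206643 := d12_2 F506518 D224065 (iv5 D206643) F418249 (iv5 F506517)
theorem F522828 : act 7 n224065 = n223874 := d13_2 F508725 D224065 F521772
theorem F522829 : act 1 n224065 = n222707 := d17_8 (iv1 F499181) (iv5 D207731) D207728 (iv5 F453361) F453338 (iv5 F508733) F508736 D224065 F515674
theorem F522830 : act 0 n224065 = n219007 := d18_0 F499184 (iv1 D219499) F383960 (iv5 F152003) (iv4 F383989) D219514 (iv4 F508732) F508736 D224065
def n224066 : Q := act 0 n206573
theorem D224066 : act 0 n206573 = n224066 := rfl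
theorem F522831 : act 5 n224066 = n221303 := d17_1 D224066 (iv1 F508261) F445138 (iv4 F443212) (iv5 F507734) (iv0 F507736) (iv5 F451553) (iv0 F499144) F499143
theorem F522832 : act 4 n224066 = n208961 := d18_1 D224066 F451577 F447090 (iv5 F383996) (iv4 F499243) F499244 (iv4 F451549) (iv0 D206571) D206573
theorem F522833 : act 3 n224066 = n221304 := d20_5 (iv4 F395879) F397807 F397805 (iv3 F441391) D224066 F508266 F399792 (iv4 F421371) F421370 F342962
theorem F522834 : act 6 n224066 = n214485 := d21_5 (iv5 D129082) D129080 D206656 F441765 D224066 F475400 (iv1 F435991) (iv5 F506530) F506531 (iv1 D206658)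
theorem F522835 : act 2 n219007 = n224066 := d15_3 (iv0 D224066) (iv0 F496676) F496675
theorem F522836 : act 1 n223874 = n224066 := d15_0 (iv0 D224066) (iv7 F445157) (iv2 F521769)
theorem F522837 : act 7 n224066 = n222707 := d15_2 (iv0 F521773) F522836 F515672
def n224067 : Q := act 6 n206579
theorem D224067 : act 6 n206579 = n224067 := rfl
theorem F522838 : act 2 n224067 = n209346 := d3_1 D224067 (iv6 D209346) (iv2 F441415)
theorem F522839 : act 3 n224067 = n222755 := d7_1 D224067 (iv6 D222755) F441414
theorem F522840 : act 4 n224067 = n209070 := d10_1 D224067 (iv6 D209070) (iv4 F441412)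
theorem F522841 : act 5 n224067 = n219491 := d12_1 D224067 (iv6 F499150) (iv5 F446555) D222789 F516090
theorem F522842 : act 7 n224067 = n219532 := d14_2 F516841 D224067 (iv6 F514815) F514816 (iv6 F516840)
theorem F522843 : act 0 n224067 = n219533 := d21_4 F508707 F516091 F516090 D224067 (iv6 F507727) F507728 F421949 (iv5 F418463) (iv6 F442487) (iv1 F508710)
theorem F522844 : act 0 n217062 = n224067 := d21_4 F516037 F489784 F445757 F487204 (iv6 D224067) (iv5 F516090) F516089 F493073 (iv6 F445813) D222780
def n224068 : Q := act 6 n206581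
theorem D224068 : act 6 n206581 = n224068 := rfl
theorem F522845 : act 3 n224068 = n206582 := d7_1 D224068 (iv6 D206582) D206581
theorem F522846 : act 4 n224068 = n208794 := d10_1 D224068 (iv6 D208794) (iv4 F441421)
theorem F522847 : act 7 n224068 = n207822 := d14_2 (iv7 F441973) D224068 (iv6 D207822) F212475 D206723
theorem F522848 : act 1 n209137 = n224068 := d15_1 (iv0 F454809) F522847 F446599
def n224069 : Q := act 5 n206582
theorem D224069 : act 5 n206582 = n224069 := rfl
theorem F522849 : act 0 n224069 = n223877 := d17_2 (iv1 F515639) D224069 (iv5 D223877) (iv4 D205561) (iv5 D126291) (iv0 F395856) F396110 (iv0 F417869) (iv4 F515637)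
def n224070 : Q := act 5 n206589
theorem D224070 : act 5 n206589 = n224070 := rfl
theorem F522850 : act 2 n224070 = n222781 := d2_1 D224070 (iv5 D222781) (iv2 F441454)
theorem F522851 : act 3 n224070 = n207073 := d6_1 D224070 (iv5 D207073) (iv3 F441455)
theorem F522852 : act 4 n224070 = n222776 := d9_1 D224070 F516019 (iv4 D220970) (iv5 D195119) (iv4 F395842) (iv5 F396108) (iv4 F437410) D223915 F521994 F506584 (iv4 D220973) (iv5 D195122) (iv4 F362902) D200654 (iv4 F441456)
theorem F522853 : act 7 n224070 = n223950 := d13_2 (iv7 F441457) D224070 (iv5 D223950)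
theorem F522854 : act 0 n224070 = n224003 := d17_2 F441458 D224070 (iv5 D224003) (iv4 D206083) (iv5 D127370) D127369 (iv5 F396543) (iv0 F396544) (iv4 F437933)
theorem F522855 : act 1 n224070 = n223964 := d17_6 (iv1 F437003) F437001 (iv1 F203070) D200654 (iv4 F441456) D224070 F522245 F515737 F507795
def n224071 : Q := act 1 n206627
theorem D224071 : act 1 n206627 = n224071 := rfl
theorem F522856 : act 1 n224071 = n206630 := d15_1 D224071 F441662 (iv2 F441644)
theorem F522857 : act 7 n224071 = n213553 := d15_2 F515588 D224071 (iv2 F515583)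
theorem F522858 : act 5 n224071 = n207503 := d17_7 F468786 F442252 F366647 D193462 F389932 D206627 D224071 (iv0 F445177) (iv4 F468785)
theorem F522859 : act 4 n224071 = n207461 := d17_9 (iv1 F445041) F409104 (iv1 F441536) F441533 F440880 F399956 F211544 D206627 D224071
theorem F522860 : act 3 n206663 = n224071 := d20_3 D201121 D222780 F516038 (iv1 D224071) F441645 F242344 (iv1 F198109) D204365 F432234 (iv1 D201120)
theorem F522861 : act 6 n218659 = n224071 := d21_3 (iv5 D217649) (iv1 F417349) (iv5 F495015) (iv1 D224071) (iv6 F441648) F417941 (iv1 F398095) (iv5 D195768) D195769 (iv1 F489935)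
theorem F522862 : act 2 n224071 = n213552 := d3_1 F522861 (iv6 F516677) F516674
def n224072 : Q := act 4 n206649
theorem D224072 : act 4 n206649 = n224072 := rfl
theorem F522863 : act 2 n224072 = n219095 := d1_1 D224072 (iv4 D219095) (iv2 F441733)
theorem F522864 : act 3 n224072 = n207042 := d5_1 D224072 F443087 (iv3 F446222) (iv4 F499157) F499156
theorem F522865 : act 6 n224072 = n207731 := d10_2 F487133 D224072 (iv4 F487131)
theorem F522866 : act 7 n224072 = n219094 := d11_2 (iv7 F441734) D224072 (iv4 D219094)
theorem F522867 : act 5 n224072 = n212674 := d16_1 D224072 (iv4 D212674) (iv5 F441754) (iv4 D206654) (iv5 D129077) D129076 D206653 F441750 (iv2 F441733)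
theorem F522868 : act 0 n224072 = n222705 := d17_0 (iv5 F515905) F515906 (iv5 F515538) F515537 F417427 F281471 D190792 (iv0 F441736) D224072
def n224073 : Q := act 4 n206653
theorem D224073 : act 4 n206653 = n224073 := rfl
theorem F522869 : act 2 n224073 = n219094 := d1_1 D224073 (iv4 D219094) (iv2 F441748)
theorem F522870 : act 5 n224073 = n212673 := d9_2 D206653 D224073 (iv4 D212673) (iv5 F441741) (iv4 D206651) (iv5 D129072) D129071 D206649 D224072 F522867 (iv4 D212674) (iv5 F441754) (iv4 D206654) (iv5 D129077) D129076
theorem F522871 : act 6 n224073 = n223876 := d10_2 (iv6 F441749) D224073 F521782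
theorem F522872 : act 7 n224073 = n219095 := d11_2 (iv7 F441750) D224073 (iv4 D219095)
theorem F522873 : act 1 n224073 = n222705 := d18_6 (iv1 F207314) F207311 (iv1 F206946) D129076 D206653 D224073 F515664 (iv0 F441716) (iv5 D206643)
def n224074 : Q := act 4 n206656
theorem D224074 : act 4 n206656 = n224074 := rfl
theorem F522874 : act 2 n224074 = n206748 := d1_1 D224074 (iv4 F442043) (iv2 F441763)
theorem F522875 : act 3 n224074 = n212385 := d5_1 D224074 (iv4 D212385) (iv3 F398516) D197023 (iv3 F441764)
theorem F522876 : act 5 n224074 = n206747 := d9_2 D206656 D224074 F442038 D214489 F475418 (iv5 D209077) F362861 D206657 (iv4 F446460) F446461 F409751 D207275 (iv4 F452130) (iv5 D209075) F354466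
theorem F522877 : act 6 n224074 = n219490 := d10_2 (iv6 F441765) D224074 F499143
theorem F522878 : act 7 n224074 = n209331 := d11_2 (iv7 F441766) D224074 F453270
theorem F522879 : act 0 n224074 = n209333 := d17_0 F453281 (iv1 F396523) D207066 F443173 F409954 (iv0 F495089) F495088 F441772 D224074
theorem F522880 : act 1 n224074 = n209329 := d18_6 F341793 F330371 D135695 F354466 D206656 D224074 F453257 (iv0 F441752) (iv5 D206653)
def n224075 : Q := act 1 n206664
theorem D224075 : act 1 n206664 = n224075 := rfl
theorem F522881 : act 1 n224075 = n206666 := d15_1 D224075 (iv7 F445731) F445729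
theorem F522882 : act 7 n224075 = n222779 := d15_2 F445923 D224075 F516031
theorem F522883 : act 5 n224075 = n206873 := d17_7 D207621 F445714 (iv1 F400126) F400124 (iv4 F437719) (iv5 F441795) D224075 (iv0 F445723) (iv4 D207622)
theorem F522884 : act 4 n224075 = n207628 := d17_9 (iv1 F445749) (iv5 D132167) F102066 F325499 (iv4 F203601) D205756 (iv0 F437724) (iv5 F441795) D224075
theorem F522885 : act 3 n206874 = n224075 := d19_19 (iv1 D224075) F441795 F437719 F400127 (iv1 F439142) F439144 F396136 F354898 D215587 F480651 (iv4 D175572) (iv3 F310382) (iv1 F392096) F392094 (iv4 F479176) F479175 (iv1 F470862) F470858 F442478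
theorem F522886 : act 6 n224004 = n224075 := d21_3 D223950 (iv1 F522177) (iv5 F522479) (iv1 D224075) (iv6 F475499) F475495 (iv1 F507715) (iv5 F517665) F517666 F437714
theorem F522887 : act 2 n224075 = n206873 := d3_1 F522886 (iv6 F515735) (iv2 F522477)
def n224076 : Q := act 7 n206677
theorem D224076 : act 7 n206677 = n224076 := rfl
theorem F522888 : act 2 n224076 = n206681 := d4_1 D224076 (iv7 D206681) (iv2 F441845)
theorem F522889 : act 3 n224076 = n220148 := d8_1 D224076 F502366 F442190
theorem F522890 : act 4 n224076 = n214477 := d11_1 D224076 (iv7 D214477) (iv4 F441846)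
theorem F522891 : act 5 n224076 = n214415 := d13_1 D224076 F475081 F441847
theorem F522892 : act 6 n224076 = n206930 := d14_1 D224076 F442636 F438674 F212393 D206677
theorem F522893 : act 1 n206679 = n224076 := d15_1 D206679 (iv7 D224076) F441845
theorem F522894 : act 1 n224076 = n206678 := d15_1 F522893 (iv7 F490028) (iv2 F490032)
def n224077 : Q := act 6 n206682
theorem D224077 : act 6 n206682 = n224077 := rfl
theorem F522895 : act 2 n224077 = n218661 := d3_1 D224077 F495023 (iv2 F441859)
theorem F522896 : act 3 n224077 = n206683 := d7_1 D224077 (iv6 D206683) D206682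
theorem F522897 : act 4 n224077 = n208868 := d10_1 D224077 F451174 F450325
theorem F522898 : act 5 n224077 = n223967 := d12_1 D224077 F522260 (iv5 D217013) D217014 F486994
theorem F522899 : act 0 n217052 = n224077 := d21_4 (iv5 F437739) (iv1 F437741) (iv5 F437391) D217052 (iv6 D224077) (iv5 F486994) F486992 (iv5 F499233) (iv6 D219512) F383986
def n224078 : Q := act 5 n206687
theorem D224078 : act 5 n206687 = n224078 := rfl
theorem F522900 : act 2 n224078 = n223739 := d2_1 D224078 (iv5 F522134) (iv2 F521822)
theorem F522901 : act 3 n224078 = n206688 := d6_1 D224078 (iv5 D206688) D206687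
theorem F522902 : act 7 n224078 = n223740 := d13_2 F446532 D224078 F520996
theorem F522903 : act 4 n224078 = n220137 := d16_4 D217646 (iv5 F489923) F445929 D224078 (iv5 F506080) F506079 (iv5 D217643) D217644 F489917
theorem F522904 : act 1 n224078 = n207046 := d17_6 (iv1 F441985) D223901 F521916 (iv5 F489923) F445929 D224078 F446783 F446779 (iv4 F445847)
theorem F522905 : act 0 n224078 = n207053 := d21_1 D224078 (iv5 F446774) F446775 (iv1 F446201) (iv6 F436556) D205736 F437635 (iv5 F380826) D205717 F445931
theorem F522906 : act 6 n224078 = n220162 := d21_3 (iv5 F437548) F445931 D224078 F502433 (iv6 D193037) D193036 (iv1 F502435) F502437 (iv6 F445850) (iv1 F445852)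
def n224079 : Q := act 5 n206689
theorem D224079 : act 5 n206689 = n224079 := rfl
theorem F522907 : act 3 n224079 = n206690 := d6_1 D224079 (iv5 D206690) D206689
theorem F522908 : act 6 n224079 = n212412 := d12_2 F444239 D224079 (iv5 D212412) (iv6 F442544) F444243
theorem F522909 : act 4 n224079 = n221920 := d16_2 (iv4 F441871) D224079 F511403 F495616 F495613 F488180 (iv5 D206788) (iv7 F358027) (iv2 F358028)
theorem F522910 : act 0 n224079 = n221922 := d17_2 (iv1 F446588) D224079 F511411 F446868 (iv5 F510300) (iv0 F513159) F513158 (iv0 F446326) (iv4 F446586)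
def n224080 : Q := act 1 n206692
theorem D224080 : act 1 n206692 = n224080 := rfl
theorem F522911 : act 1 n224080 = n206696 := d15_1 D224080 (iv7 D206696) (iv2 F441878)
theorem F522912 : act 7 n224080 = n206693 := d15_2 (iv0 F445968) D224080 (iv2 F445966)
theorem F522913 : act 3 n222926 = n224080 := d20_3 F442625 F436332 (iv4 F516809) (iv1 D224080) F441879 F438673 F419323 (iv4 F515910) F515909 F446003
theorem F522914 : act 6 n222538 = n224080 := d21_3 (iv5 F521982) F521983 (iv5 F514789) (iv1 D224080) (iv6 D206692) F207346 (iv1 F203639) (iv5 D126600) D126601 F437689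
theorem F522915 : act 2 n224080 = n206694 := d3_1 F522914 F446227 F514791
theorem F522916 : act 5 n224080 = n221422 := d12_1 F522914 F508946 (iv5 D208397) D208398 (iv5 F514789)
def n224081 : Q := act 5 n206692
theorem D224081 : act 5 n206692 = n224081 := rfl
theorem F522917 : act 2 n224081 = n206695 := d2_1 D224081 (iv5 D206695) (iv2 F441878)
theorem F522918 : act 3 n224081 = n222443 := d6_1 D224081 F514247 (iv3 F441879)
theorem F522919 : act 4 n224081 = n208554 := d9_1 D224081 (iv5 D208554) F216751 D195435 (iv4 F432127) (iv5 F450048) F450047 F441884 (iv4 D196309) (iv5 D106888) (iv4 F161968) D195300 (iv4 F450572) F450573 F450559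
theorem F522920 : act 6 n224081 = n207850 := d12_2 D206692 D224081 (iv5 D207850) (iv6 D132453) (iv5 F207346)
theorem F522921 : act 7 n224081 = n220146 := d16_8 (iv4 D196309) (iv5 D106888) (iv4 F161968) D195300 (iv4 F450572) F450573 F450559 D224081 F502356
theorem F522922 : act 1 n224081 = n221403 := d17_6 (iv1 D210231) D210233 F456676 F450573 F450559 D224081 F508834 (iv0 F499319) F456836
theorem F522923 : act 0 n224081 = n210279 := d18_0 F456843 F420001 (iv4 F502473) (iv5 F515886) F515887 (iv0 F487101) F460820 (iv0 F445968) D224081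
def n224082 : Q := act 7 n206692
theorem D224082 : act 7 n206692 = n224082 := rfl
theorem F522924 : act 2 n224082 = n206696 := d4_1 D224082 (iv7 D206696) (iv2 F441878)
theorem F522925 : act 3 n224082 = n206930 := d8_1 D224082 F442636 (iv3 F441879)
theorem F522926 : act 4 n224082 = n210210 := d11_1 D224082 F456590 F450559
theorem F522927 : act 5 n224082 = n220146 := d13_1 D224082 (iv7 F522921) (iv5 D224081)
theorem F522928 : act 6 n224082 = n220148 := d14_1 D224082 F502366 (iv6 D206789) F207513 D206692
theorem F522929 : act 1 n206694 = n224082 := d15_1 D206694 (iv7 D224082) F441878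
theorem F522930 : act 1 n224082 = n206693 := d15_1 F522929 (iv7 F522912) F522915
def n224083 : Q := act 4 n206693
theorem D224083 : act 4 n206693 = n224083 := rfl
theorem F522931 : act 2 n224083 = n211254 := d1_1 D224083 F460820 F445966
theorem F522932 : act 3 n224083 = n216397 := d5_1 D224083 (iv4 F521722) (iv3 D223865) (iv4 F516125) (iv3 F516127)
theorem F522933 : act 5 n224083 = n219539 := d9_2 F490744 D224083 F499333 F405340 (iv4 F180869) (iv5 F424113) (iv4 F449202) F449203 (iv4 F513338) (iv5 D222282) F410465 F400470 F224917 F371985 (iv4 F490743)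
theorem F522934 : act 6 n224083 = n206860 := d10_2 (iv6 F442314) D224083 (iv4 D206860)
theorem F522935 : act 0 n224083 = n216387 := d17_0 (iv5 F500943) F500945 F456853 (iv4 F456845) (iv5 F459783) F502358 (iv5 F522927) F522930 D224083
theorem F522936 : act 1 n224083 = n219056 := d18_6 F508831 F499315 F420522 (iv4 F490743) F490744 D224083 F496941 F515897 F515894
def n224084 : Q := act 6 n206704
theorem D224084 : act 6 n206704 = n224084 := rfl
theorem F522937 : act 2 n224084 = n219498 := d3_1 D224084 F508530 (iv2 F508527)
theorem F522938 : act 3 n224084 = n206705 := d7_1 D224084 (iv6 D206705) D206704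
theorem F522939 : act 4 n224084 = n219012 := d10_1 D224084 (iv6 F508373) F508371
theorem F522940 : act 5 n224084 = n207941 := d12_1 D224084 F447086 F442788 F371079 (iv5 F441916)
theorem F522941 : act 7 n224084 = n219499 := d14_2 F446548 D224084 F499187 F475381 (iv6 F446547)
theorem F522942 : act 0 n224084 = n217043 := d21_4 (iv5 F341593) F363273 (iv5 F441916) D224084 (iv6 F497151) F497150 (iv1 D214487) D214488 F475414 F399979
theorem F522943 : act 1 n224084 = n207942 := d15_1 (iv0 F522942) F447089 (iv2 F487113)
def n224085 : Q := act 0 n206706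
theorem D224085 : act 0 n206706 = n224085 := rfl
theorem F522944 : act 5 n224085 = n210570 := d17_1 D224085 (iv1 F463684) F463683 (iv4 F446538) (iv5 D132560) F212726 (iv5 F345874) F361179 D206706
theorem F522945 : act 4 n224085 = n207805 := d18_1 D224085 (iv1 F446524) (iv4 F465512) F465513 (iv4 D197309) D197308 (iv4 F438416) (iv0 F440143) (iv5 F441921)
theorem F522946 : act 3 n224085 = n208933 := d20_5 F478276 (iv1 F439788) (iv4 F440145) (iv3 F441919) D224085 (iv4 F510353) F510352 (iv4 F522655) (iv3 D224037) (iv1 F478280)
theorem F522947 : act 6 n224085 = n208931 := d21_5 (iv5 D68870) (iv1 F105053) (iv5 F230149) (iv6 F441920) D224085 (iv5 D208931) (iv1 F386434) (iv5 F434623) F434624 (iv1 F230284)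
theorem F522948 : act 2 n217008 = n224085 := d15_3 (iv0 D224085) (iv0 F506795) F506794
theorem F522949 : act 1 n207908 = n224085 := d15_0 (iv0 D224085) (iv7 F501309) F501306
theorem F522950 : act 7 n224085 = n209341 := d15_2 F506796 F522949 (iv2 F506792)
def n224086 : Q := act 1 n206711
theorem D224086 : act 1 n206711 = n224086 := rfl
theorem F522951 : act 4 n217694 = n224086 := d20_0 (iv1 D224086) F441941 F365151 (iv1 F220602) D209758 (iv4 F487301) (iv1 F504676) F504672 F489870 (iv1 F490163)
theorem F522952 : act 3 n219469 = n224086 := d20_3 F446502 (iv1 F503137) F503140 (iv1 D224086) F441940 (iv4 F441944) F474665 F474662 (iv3 F520516) F520520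
theorem F522953 : act 6 n206876 = n224086 := d21_3 F437311 (iv1 F211841) D206876 (iv1 D224086) (iv6 D206711) F380832 (iv1 D126474) D126476 (iv6 F362142) (iv1 F437309)
theorem F522954 : act 2 n224086 = n212411 := d3_1 F522953 F465694 F445936
def n224087 : Q := act 5 n206711
theorem D224087 : act 5 n206711 = n224087 := rfl
theorem F522955 : act 2 n224087 = n222933 := d2_1 D224087 F521885 F521881
theorem F522956 : act 3 n224087 = n206716 := d6_1 D224087 (iv5 D206716) (iv3 F441940)
theorem F522957 : act 6 n224087 = n223884 := d12_2 D206711 D224087 (iv5 D223884) (iv6 D205609) (iv5 F380832)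
theorem F522958 : act 4 n224087 = n209167 := d16_2 (iv4 F441941) D224087 (iv5 D209167) F218602 D197326 D221774 (iv5 F510769) (iv7 F450001) F450000
def n224088 : Q := act 6 n206713
theorem D224088 : act 6 n206713 = n224088 := rfl
theorem F522959 : act 2 n224088 = n219056 := d3_1 D224088 (iv6 D219056) (iv2 F441948)
theorem F522960 : act 3 n224088 = n223160 := d7_1 D224088 F517943 F448888
theorem F522961 : act 4 n224088 = n206714 := d10_1 D224088 (iv6 D206714) D206713
theorem F522962 : act 5 n224088 = n210284 := d12_1 D224088 F457026 F403706 (iv6 F363162) (iv5 F441949)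
theorem F522963 : act 7 n224088 = n216387 := d14_2 (iv7 F441950) D224088 (iv6 D216387) (iv7 F383762) F383761
theorem F522964 : act 0 n224088 = n211254 := d21_4 F360769 F349793 (iv5 F441949) D224088 F460821 (iv5 F450971) (iv1 F450975) (iv5 F441254) F441255 (iv1 F336998)
def n224089 : Q := act 5 n206714
theorem D224089 : act 5 n206714 = n224089 := rfl
theorem F522965 : act 2 n224089 = n224028 := d2_1 D224089 F522614 F442763
theorem F522966 : act 3 n224089 = n223884 := d6_1 D224089 (iv5 D223884) (iv3 F441954)
theorem F522967 : act 4 n224089 = n211352 := d9_1 D224089 (iv5 D211352) (iv4 F396676) (iv5 F500952) F500951 (iv5 F487100) (iv4 F515887) F515886 F502473 F419999 (iv4 F396686) (iv5 F403708) (iv4 F457025) (iv5 F522962) F522961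
theorem F522968 : act 6 n224089 = n206716 := d12_2 D206714 D224089 (iv5 D206716) (iv6 D129140) D129139
theorem F522969 : act 0 n224089 = n221959 := d17_2 F442357 D224089 F511616 F465578 F456632 (iv0 D208720) (iv5 F356550) D208717 (iv4 F450556)
theorem F522970 : act 1 n224089 = n221960 := d17_6 D191660 D219537 (iv1 F499325) (iv5 F522962) F522961 D224089 F511620 (iv0 F456671) F384071
def n224090 : Q := act 5 n206715
theorem D224090 : act 5 n206715 = n224090 := rfl
theorem F522971 : act 3 n224090 = n223739 := d6_1 D224090 (iv5 F522134) F521821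
theorem F522972 : act 4 n224090 = n221919 := d9_1 D224090 F511396 (iv4 D219217) F381608 F377995 (iv5 F358024) (iv4 F441871) D224079 F522909 F511403 F495616 F495613 F488180 (iv5 D206788) (iv4 F444236)
theorem F522973 : act 1 n224090 = n221922 := d17_6 (iv1 F212834) F347852 F442188 (iv5 D206788) (iv4 F444236) D224090 F511411 F446864 F212777
def n224091 : Q := act 4 n206716
theorem D224091 : act 4 n206716 = n224091 := rfl
theorem F522974 : act 2 n224091 = n222774 := d1_1 D224091 F516012 F446584
theorem F522975 : act 3 n224091 = n209172 := d5_1 D224091 (iv4 D209172) (iv3 F452550) (iv4 F522958) F522956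
theorem F522976 : act 5 n224091 = n222173 := d9_2 D206716 D224091 (iv4 D222173) (iv5 D198552) D198551 (iv5 F444256) (iv4 F446586) (iv5 F446908) (iv4 F515839) F515843 (iv4 D222175) (iv5 D198554) D198553 (iv5 F441945) F441944
theorem F522977 : act 6 n224091 = n211352 := d10_2 F522968 D224091 (iv4 F522967)
theorem F522978 : act 0 n224091 = n211366 := d17_0 (iv5 F497894) F512735 F515828 F515826 (iv5 D207892) F446880 F446878 (iv0 F446882) D224091
theorem F522979 : act 1 n224091 = n217569 := d18_6 (iv1 F446703) F446704 F446325 F441944 D206716 D224091 F489544 (iv0 F490063) (iv5 D217676)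
def n224092 : Q := act 0 n206722
theorem D224092 : act 0 n206722 = n224092 := rfl
theorem F522980 : act 4 n224092 = n208358 := d20_2 F474827 D224092 F449067 D210237 (iv3 F456692) (iv4 F445303) (iv1 F446269) F446268 (iv3 F453034) F474829
theorem F522981 : act 3 n224092 = n210225 := d20_5 F496240 F522147 F522143 (iv3 F441970) D224092 F456647 D210226 (iv4 F506775) (iv3 F522142) F522145
theorem F522982 : act 6 n224092 = n210224 := d21_5 (iv5 D60903) D60900 (iv5 F212465) D206722 D224092 (iv5 F508833) F522618 F522614 (iv6 D206964) (iv1 D129654)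
theorem F522983 : act 2 n209055 = n224092 := d15_3 (iv0 D224092) (iv0 F454809) F452424
theorem F522984 : act 0 n224092 = n224068 := d20_4 (iv4 F456651) (iv1 D210227) (iv4 F456647) (iv3 F522981) F522845 F441426 D206584 (iv4 F521988) F522188 (iv1 D223952)
def n224093 : Q := act 5 n206722
theorem D224093 : act 5 n206722 = n224093 := rfl
theorem F522985 : act 3 n224093 = n217424 := d6_1 D224093 (iv5 F488832) (iv3 F441970)
theorem F522986 : act 6 n224093 = n206960 := d12_2 D206722 D224093 (iv5 D206960) (iv6 D129647) (iv5 F212465)
theorem F522987 : act 4 n224093 = n217432 := d19_2 F454809 D224093 (iv3 F488848) (iv1 F388072) D219156 F497470 (iv3 F448415) F448414 D211661 F462557 F462518 (iv1 F487650) F487652 (iv4 D195846) F334815 (iv1 F334810) (iv5 F398218) (iv4 F398220) D209137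
def n224094 : Q := act 7 n206722
theorem D224094 : act 7 n206722 = n224094 := rfl
theorem F522988 : act 2 n224094 = n224068 := d4_1 D224094 F522847 F446599
theorem F522989 : act 3 n224094 = n207013 := d8_1 D224094 F442961 (iv3 F441970)
theorem F522990 : act 4 n224094 = n209282 := d11_1 D224094 (iv7 F474828) F474827
theorem F522991 : act 6 n224094 = n207012 := d14_1 D224094 (iv7 F446598) (iv6 D207821) (iv7 F212472) D206722
theorem F522992 : act 0 n209055 = n224094 := d20_10 F522990 (iv1 D209282) F437883 (iv3 F442884) (iv1 D206992) F207875 F203666 F359184 F359185 D209055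
def n224095 : Q := act 5 n206725
theorem D224095 : act 5 n206725 = n224095 := rfl
theorem F522993 : act 2 n224095 = n222924 := d2_1 D224095 (iv5 F516801) F487205
theorem F522994 : act 3 n224095 = n207838 := d6_1 D224095 (iv5 F521871) F521872
theorem F522995 : act 6 n224095 = n207837 := d12_2 (iv6 F442749) D224095 (iv5 F465467) F465465 F437570
theorem F522996 : act 7 n224095 = n206834 := d13_2 F521904 D224095 (iv5 F521909)
theorem F522997 : act 4 n224095 = n222922 := d16_6 (iv4 F421485) D209403 (iv4 F483598) F483599 F442750 D224095 (iv5 D222922) (iv7 F453284) (iv2 F453285)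
theorem F522998 : act 0 n224095 = n206875 := d18_0 (iv4 F446530) F446533 (iv4 F521817) F521818 F442857 F449148 F449147 F441990 D224095
def n224096 : Q := act 6 n206731
theorem D224096 : act 6 n206731 = n224096 := rfl
theorem F522999 : act 2 n224096 = n223535 := d3_1 D224096 F519971 F466992
theorem F523000 : act 3 n224096 = n206733 := d7_1 D224096 (iv6 D206733) D206731
theorem F523001 : act 4 n224096 = n212793 := d10_1 D224096 F467543 F441995
theorem F523002 : act 5 n224096 = n220304 := d12_1 D224096 (iv6 F503110) (iv5 F515516) F515517 F497148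
theorem F523003 : act 7 n224096 = n223534 := d14_2 F466996 D224096 F519966 F443149 (iv6 F466995)
theorem F523004 : act 0 n224096 = n217612 := d21_4 F522106 F515867 F497148 D224096 (iv6 D217612) D217611 F489788 (iv5 F486158) (iv6 F513261) F522109
theorem F523005 : act 1 n224096 = n221276 := d15_1 (iv0 F523004) F508109 F490218
def n224097 : Q := act 5 n206737
theorem D224097 : act 5 n206737 = n224097 := rfl
theorem F523006 : act 2 n224097 = n206738 := d2_1 D224097 (iv5 D206738) D206737
theorem F523007 : act 3 n224097 = n206969 := d6_1 D224097 (iv5 D206969) (iv3 F442006)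
theorem F523008 : act 4 n224097 = n209122 := d9_1 D224097 F452360 (iv4 F498304) F498303 F413861 F359046 (iv4 F437241) (iv5 F443148) (iv4 F448038) (iv5 D208136) F396241 (iv5 F455803) F455802 F377947 (iv4 F442007)
theorem F523009 : act 6 n224097 = n214487 := d12_2 F446174 D224097 (iv5 F497150) F497151 F487115
theorem F523010 : act 0 n224097 = n209351 := d17_2 (iv1 F446543) D224097 (iv5 D209351) (iv4 F453346) (iv5 F453348) (iv0 F474533) (iv5 F474534) (iv0 F418171) (iv4 F446540)
theorem F523011 : act 1 n224097 = n222760 := d17_6 F359014 (iv5 F359010) (iv1 F283868) F377947 (iv4 F442007) D224097 F515933 (iv0 D207055) (iv4 F332791)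
def n224098 : Q := act 0 n206738
theorem D224098 : act 0 n206738 = n224098 := rfl
theorem F523012 : act 5 n224098 = n207872 := d17_1 D224098 (iv1 F466943) (iv5 F475458) F475457 F251359 F210021 D207211 (iv0 F447645) F447643
theorem F523013 : act 4 n224098 = n208108 := d18_1 D224098 F447906 (iv4 F514772) F514773 (iv4 F499168) (iv0 F499171) (iv4 F442003) (iv0 D206735) D206738
theorem F523014 : act 3 n224098 = n222748 := d20_5 F443160 (iv1 F262495) (iv4 F334302) (iv3 F442008) D224098 F515866 F441771 (iv4 F446460) (iv3 D207792) (iv1 F443163)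
theorem F523015 : act 2 n209351 = n224098 := d15_3 (iv0 D224098) (iv0 F515963) F515962
theorem F523016 : act 6 n224098 = n222747 := d3_2 F514030 F523015 F515860
theorem F523017 : act 7 n224098 = n222760 := d4_2 F515962 F523015 (iv2 F515958)
def n224099 : Q := act 6 n206739
theorem D224099 : act 6 n206739 = n224099 := rfl
theorem F523018 : act 3 n224099 = n206741 := d7_1 D224099 (iv6 D206741) (iv3 F442009)
theorem F523019 : act 4 n224099 = n216289 := d10_1 D224099 (iv6 D216289) (iv4 F442011)
def n224100 : Q := act 5 n206744
theorem D224100 : act 5 n206744 = n224100 := rfl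
theorem F523020 : act 2 n224100 = n206929 := d2_1 D224100 F442634 (iv2 F442024)
theorem F523021 : act 3 n224100 = n222883 := d6_1 D224100 F516576 F475438
theorem F523022 : act 6 n224100 = n206847 := d12_2 D206744 D224100 F442391 (iv6 D129850) (iv5 F207398)
theorem F523023 : act 7 n224100 = n207892 := d13_2 (iv7 F442026) D224100 (iv5 D207892)
theorem F523024 : act 0 n224100 = n224079 := d17_2 F442028 D224100 (iv5 D224079) F441871 F358024 (iv0 F447024) (iv5 D207926) (iv0 D132594) (iv4 F212772)
theorem F523025 : act 1 n224100 = n224090 := d17_6 F474665 (iv5 F515276) F515279 (iv5 D207967) (iv4 F442025) D224100 (iv5 D224090) (iv0 D206715) (iv4 F441944)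
def n224101 : Q := act 3 n206749
theorem D224101 : act 3 n206749 = n224101 := rfl
theorem F523026 : act 2 n224101 = n219488 := d0_1 D224101 (iv3 F499134) F445965 F443165 F443159
theorem F523027 : act 4 n224101 = n207474 := d5_2 (iv4 F442048) D224101 F445086 F442088 (iv3 F430215)
theorem F523028 : act 5 n224101 = n221019 := d6_2 (iv5 F442047) D224101 F506835
theorem F523029 : act 6 n224101 = n206933 := d7_2 F442049 D224101 (iv3 D206933)
theorem F523030 : act 7 n224101 = n219487 := d8_2 (iv7 F442046) D224101 F499131
theorem F523031 : act 0 n224101 = n219489 := d20_4 F345860 (iv1 F430219) (iv4 F442048) D224101 F499136 (iv4 D207732) F211892 F345894 F208190 D129852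
theorem F523032 : act 0 n217051 = n224101 := d20_4 F465603 (iv1 D186711) D186712 D217051 (iv3 D224101) F442048 F430218 F345861 D207061 F465606
def n224102 : Q := act 5 n206752
theorem D224102 : act 5 n206752 = n224102 := rfl
theorem F523033 : act 3 n224102 = n206755 := d6_1 D224102 (iv5 D206755) (iv3 F442057)
theorem F523034 : act 6 n224102 = n220915 := d12_2 D206752 D224102 (iv5 F508119) F508120 (iv5 D206751)
theorem F523035 : act 4 n224102 = n211781 := d16_4 (iv4 F504127) (iv5 F512167) F512166 D224102 F512324 F512322 (iv5 F502659) F502660 (iv2 F485895)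
theorem F523036 : act 0 n224102 = n223931 := d17_2 F499209 D224102 F522074 (iv4 F453035) (iv5 F485739) (iv0 F485740) F287750 D191611 D219508
theorem F523037 : act 1 n224102 = n224021 := d17_8 F506230 F506229 (iv1 D220799) F393697 (iv4 F495983) F499205 (iv0 F499207) D224102 F522577
def n224103 : Q := act 0 n206753
theorem D224103 : act 0 n206753 = n224103 := rfl
theorem F523038 : act 5 n224103 = n218918 := d17_1 D224103 F496190 (iv5 D207949) F213019 (iv5 F320709) F340787 D167342 (iv0 F350897) (iv4 F442058)
theorem F523039 : act 4 n224103 = n214339 := d18_3 F350898 (iv4 F442058) D224103 (iv5 D214339) F344399 (iv0 D131593) (iv4 F307905) (iv0 F340789) (iv5 F306850)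
theorem F523040 : act 6 n224103 = n206784 := d21_5 F437860 (iv1 F207402) D129173 D206753 D224103 (iv5 F475258) F513462 F513459 (iv6 D207068) F437862
theorem F523041 : act 2 n214341 = n224103 := d15_3 (iv0 D224103) (iv0 F469207) (iv7 F474657)
theorem F523042 : act 1 n206806 = n224103 := d15_0 (iv0 D224103) (iv7 F478605) F478602
theorem F523043 : act 7 n224103 = n214340 := d15_2 F469208 F523042 F474654
theorem F523044 : act 3 n207563 = n224103 := d19_19 (iv1 F523042) (iv5 F467449) (iv4 D212773) (iv3 F408337) (iv1 F495614) F495613 F488180 (iv3 F446435) F446440 F415473 D206994 F442889 F437724 (iv5 D205756) F203601 F96549 (iv1 F103752) D131969 D207563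
def n224104 : Q := act 5 n206753
theorem D224104 : act 5 n206753 = n224104 := rfl
theorem F523045 : act 2 n224104 = n224020 := d2_1 D224104 F522573 F444785
theorem F523046 : act 3 n224104 = n220915 := d6_1 D224104 (iv5 F508119) F508118
theorem F523047 : act 4 n224104 = n222215 := d9_1 D224104 F512962 F444798 F210607 (iv4 F210598) F350903 (iv4 F442255) (iv5 F467449) (iv4 D212773) (iv5 D149266) F106462 (iv5 F96213) (iv4 F210551) F350895 (iv4 F442058)
theorem F523048 : act 6 n224104 = n206755 := d12_2 D206753 D224104 (iv5 D206755) (iv6 D129174) D129173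
theorem F523049 : act 7 n224104 = n224019 := d13_2 F478605 D224104 F522565
theorem F523050 : act 0 n224104 = n218921 := d17_2 F469207 D224104 F496204 F442880 F359264 (iv0 F235424) D212064 F464200 D213148
theorem F523051 : act 1 n224104 = n218895 := d17_6 F350873 D133176 F344113 F350895 (iv4 F442058) D224104 F496082 F442882 F208221
theorem F523052 : act 0 n223966 = n222602 := d21_10 (iv5 F515121) F445441 D223963 F522242 (iv1 F523051) F523048 (iv5 D206755) D206754 F442059 D223966
def n224105 : Q := act 4 n206755
theorem D224105 : act 4 n206755 = n224105 := rfl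
theorem F523053 : act 3 n224105 = n222216 := d5_1 D224105 F512967 F512327 (iv4 F523035) F523033
theorem F523054 : act 6 n224105 = n222215 := d10_2 F523048 D224105 (iv4 F523047)
theorem F523055 : act 0 n224105 = n208011 := d17_0 (iv5 F497245) (iv1 F497247) F442340 (iv4 D205703) (iv5 D126538) D126537 D205700 (iv0 F442063) D224105
theorem F523056 : act 1 n224105 = n219283 := d18_6 (iv1 F443471) (iv4 D205815) F203683 (iv4 F207405) D206755 D224105 F498108 F447425 F447423
def n224106 : Q := act 5 n206767
theorem D224106 : act 5 n206767 = n224106 := rfl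
theorem F523057 : act 2 n224106 = n206896 := d2_1 D224106 F446073 (iv2 F446070)
theorem F523058 : act 3 n224106 = n206768 := d6_1 D224106 (iv5 D206768) D206767
theorem F523059 : act 4 n224106 = n212413 := d9_1 D224106 F465698 F418390 F465387 F465385 (iv5 D206944) (iv4 F442562) (iv5 F490017) F490015 (iv5 F375395) (iv4 F387583) (iv5 F427174) (iv4 F430497) F430498 (iv4 F442111)
theorem F523060 : act 7 n224106 = n206897 := d13_2 F444240 D224106 F444243
theorem F523061 : act 0 n224106 = n206899 := d17_2 F442112 D224106 F442551 (iv4 F436570) (iv5 F511325) F511328 F480499 (iv0 D208044) F214102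
theorem F523062 : act 1 n224106 = n206895 := d17_6 (iv1 F207894) D129731 F430501 F430498 (iv4 F442111) D224106 (iv5 F442542) F362147 F362143
theorem F523063 : act 6 n224106 = n221217 := d21_3 (iv5 F437234) F442112 D224106 F507789 F420869 (iv5 F383955) (iv1 F442753) F442747 F212486 (iv1 F437229)
def n224107 : Q := act 6 n206768
theorem D224107 : act 6 n206768 = n224107 := rfl
theorem F523064 : act 3 n224107 = n221217 := d7_1 D224107 (iv6 F523063) F523058
theorem F523065 : act 4 n224107 = n217054 := d10_1 D224107 F487157 F442115
def n224108 : Q := act 5 n206782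
theorem D224108 : act 5 n206782 = n224108 := rfl
theorem F523066 : act 2 n224108 = n207682 := d2_1 D224108 F445989 (iv2 F442174)
theorem F523067 : act 3 n224108 = n223921 := d6_1 D224108 F522028 F515610
theorem F523068 : act 4 n224108 = n208704 := d9_1 D224108 F450504 (iv4 D201917) (iv5 D115253) F83986 D59520 D126840 F360207 F217131 D134951 F360202 F359765 D115584 F347030 (iv4 F442175)
theorem F523069 : act 6 n224108 = n216307 := d12_2 D206782 D224108 F483756 (iv6 D205785) F208379
theorem F523070 : act 7 n224108 = n208691 := d13_2 F442176 D224108 F450465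
theorem F523071 : act 0 n224108 = n208693 := d17_2 F442177 D224108 F450474 (iv4 F438343) (iv5 F350852) F350850 F324736 (iv0 F350854) (iv4 F207665)
theorem F523072 : act 1 n224108 = n208692 := d17_6 D126737 F233516 (iv1 F179893) F347030 (iv4 F442175) D224108 F450469 (iv0 D205899) (iv4 D126739)
def n224109 : Q := act 5 n206804
theorem D224109 : act 5 n206804 = n224109 := rfl
theorem F523073 : act 2 n224109 = n217051 := d2_1 D224109 F487152 F451546
theorem F523074 : act 3 n224109 = n206805 := d6_1 D224109 (iv5 D206805) D206804
theorem F523075 : act 4 n224109 = n217058 := d9_1 D224109 F487177 (iv4 F446188) F446186 F212990 D206573 (iv4 F499143) (iv5 D219490) F383899 (iv5 F152017) (iv4 F384066) (iv5 F451574) (iv4 F508726) (iv5 F521772) F521771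
theorem F523076 : act 7 n224109 = n219489 := d13_2 (iv7 F451543) D224109 (iv5 F499139)
theorem F523077 : act 0 n224109 = n219488 := d17_2 F451555 D224109 (iv5 F499343) (iv4 D219541) (iv5 F417422) (iv0 D191640) F152003 D191615 (iv4 F451552)
theorem F523078 : act 1 n224109 = n219487 := d17_6 F452109 (iv5 F452110) (iv1 F508724) (iv5 F521772) F521771 D224109 (iv5 F499132) D221018 F506829
theorem F523079 : act 6 n224109 = n224057 := d21_3 (iv5 F451553) F451555 D224109 F522778 F442949 F419216 (iv1 F421159) (iv5 F499247) (iv6 D219516) F443379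
def n224110 : Q := act 6 n206805
theorem D224110 : act 6 n206805 = n224110 := rfl
theorem F523080 : act 3 n224110 = n224057 := d7_1 D224110 (iv6 F523079) F523074
theorem F523081 : act 4 n224110 = n207943 := d10_1 D224110 (iv6 D207943) (iv4 F442253)
theorem F523082 : act 5 n224110 = n218898 := d12_1 D224110 (iv6 F496097) F467449 (iv6 D206806) D206805
theorem F523083 : act 7 n224110 = n222536 := d14_2 F446179 D224110 (iv6 D222536) F414966 (iv6 F446178)
theorem F523084 : act 0 n224110 = n217355 := d21_10 (iv5 D217355) D217352 F521945 (iv6 D223906) (iv1 F437349) D205682 (iv5 F442237) (iv1 F442234) D206805 D224110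
theorem F523085 : act 0 n218872 = n224110 := d18_2 F523084 (iv4 F495980) F523081 F495239 (iv4 D217345) (iv0 F369553) D190253 D218898 (iv5 F523082)
def n224111 : Q := act 5 n206819
theorem D224111 : act 5 n206819 = n224111 := rfl
theorem F523086 : act 2 n224111 = n206824 := d2_1 D224111 (iv5 D206824) (iv2 F442306)
theorem F523087 : act 3 n224111 = n220462 := d6_1 D224111 F503887 (iv3 F442307)
theorem F523088 : act 7 n224111 = n223953 := d13_2 (iv7 F442308) D224111 (iv5 D223953)
theorem F523089 : act 0 n224111 = n223957 := d17_2 (iv1 F442311) D224111 (iv5 F522213) (iv4 D219508) (iv5 F467317) (iv0 F485538) F485537 (iv0 F499331) F499329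
theorem F523090 : act 1 n224111 = n218873 := d17_6 F512168 (iv5 F489931) F498953 F498952 F450602 D224111 F499205 (iv0 F499207) (iv4 F512166)
def n224112 : Q := act 3 n206820
theorem D224112 : act 3 n206820 = n224112 := rfl
theorem F523091 : act 2 n224112 = n223713 := d0_1 D224112 F520871 F446382 F396569 F442315
theorem F523092 : act 4 n224112 = n209356 := d5_2 F450931 D224112 (iv3 F490908) F493367 F493362
theorem F523093 : act 5 n224112 = n206859 := d6_2 (iv5 F442313) D224112 (iv3 D206859)
theorem F523094 : act 7 n224112 = n221028 := d8_2 F442316 D224112 (iv3 D221028)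
theorem F523095 : act 0 n224112 = n221384 := d20_4 F494642 (iv1 F450930) F450931 D224112 F508737 (iv4 D197672) F403107 D208354 (iv3 F450667) F494645
theorem F523096 : act 0 n221383 = n224112 := d20_4 D207648 (iv1 F511383) (iv4 F521851) F521849 (iv3 D224112) (iv4 F450931) (iv1 D208799) (iv4 F442570) F445834 (iv1 D207647)
def n224113 : Q := act 0 n206824
theorem D224113 : act 0 n206824 = n224113 := rfl
theorem F523097 : act 4 n224113 = n218876 := d18_1 D224113 (iv1 F495995) (iv4 F522987) (iv5 D224093) (iv4 F474827) (iv0 F474829) F453035 (iv0 D206822) D206824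
theorem F523098 : act 3 n224113 = n221521 := d20_5 (iv4 F497244) (iv1 F497247) (iv4 D206829) (iv3 F442325) D224113 (iv4 D221521) (iv1 D196559) D196560 (iv3 F401087) D206955
theorem F523099 : act 2 n223957 = n224113 := d15_3 (iv0 D224113) (iv0 F488849) (iv7 F522212)
theorem F523100 : act 1 n223953 = n224113 := d15_0 (iv0 D224113) F442326 (iv2 F522191)
theorem F523101 : act 7 n224113 = n218873 := d15_2 (iv0 F522195) F523100 F495981
theorem F523102 : act 6 n210307 = n224113 := d21_3 F512597 (iv1 F456901) D210307 (iv1 F523100) F522193 (iv5 D207949) (iv1 F447011) (iv5 F447015) (iv6 F522541) F522544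
def n224114 : Q := act 5 n206825
theorem D224114 : act 5 n206825 = n224114 := rfl
theorem F523103 : act 2 n224114 = n209616 := d2_1 D224114 (iv5 D209616) F442330
theorem F523104 : act 4 n224114 = n218092 := d9_1 D224114 F492121 (iv4 F429954) (iv5 F446350) F446349 F444152 (iv4 F442327) (iv5 F522543) (iv4 D224014) (iv5 D206156) (iv4 F402897) D221682 F510273 F444323 (iv4 F442331)
theorem F523105 : act 7 n224114 = n209625 := d13_2 (iv7 F442332) D224114 (iv5 D209625)
theorem F523106 : act 1 n224114 = n222148 := d17_6 D138165 (iv5 F333870) D207320 F444323 (iv4 F442331) D224114 F512597 (iv0 D210296) (iv4 D138167)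
def n224115 : Q := act 3 n206826
theorem D224115 : act 3 n206826 = n224115 := rfl
theorem F523107 : act 4 n224115 = n211025 := d5_2 (iv4 F442327) D224115 F459785 F452656 (iv3 D209193)
theorem F523108 : act 6 n224115 = n211024 := d7_2 F465831 D224115 F465828
theorem F523109 : act 7 n224115 = n209615 := d8_2 F442329 D224115 (iv3 D209615)
theorem F523110 : act 0 n224115 = n215262 := d20_10 (iv4 D215262) F407114 (iv4 F454322) (iv3 D209608) (iv1 D136683) (iv3 F219815) F219816 (iv1 F218652) (iv4 F442327) D224115
def n224116 : Q := act 1 n206827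
theorem D224116 : act 1 n206827 = n224116 := rfl
theorem F523111 : act 7 n224116 = n210299 := d15_2 (iv0 F497694) D224116 (iv2 F497690)
theorem F523112 : act 5 n224116 = n208472 := d17_7 D193029 F388552 F340134 (iv5 F219510) F219509 D206827 D224116 F449511 F388551
theorem F523113 : act 4 n224116 = n214892 := d17_9 (iv1 F497695) F497697 (iv1 F429953) (iv5 F492121) (iv4 F523104) (iv5 D224114) (iv0 D206825) D206827 D224116
theorem F523114 : act 2 n210307 = n224116 := d1_3 F523113 (iv2 F492113) F492115
theorem F523115 : act 6 n223957 = n224116 := d10_0 F523113 (iv6 F488854) (iv4 F522215)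
def n224117 : Q := act 4 n206832
theorem D224117 : act 4 n206832 = n224117 := rfl
theorem F523116 : act 2 n224117 = n210186 := d1_1 D224117 (iv4 F522768) F522767
theorem F523117 : act 3 n224117 = n208944 := d5_1 D224117 (iv4 D208944) F437370 F437367 D206832
theorem F523118 : act 5 n224117 = n208799 := d9_2 F450986 D224117 F450931 F442313 D206860 F467058 (iv4 F511420) F511419 F446651 (iv5 F375653) (iv4 F442319) (iv5 F442320) (iv4 F442148) F442149 D208816
theorem F523119 : act 6 n224117 = n210192 := d10_2 F521917 D224117 F521918
theorem F523120 : act 7 n224117 = n209276 := d11_2 F445821 D224117 F453010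
theorem F523121 : act 0 n224117 = n207284 := d17_0 (iv5 F450971) (iv1 F450975) (iv5 F441254) (iv4 F441972) (iv5 F446095) F450928 F450343 (iv0 F450332) D224117
theorem F523122 : act 1 n224117 = n207675 := d18_6 F442290 (iv4 F442289) F442322 D208816 F450986 D224117 (iv4 D207675) (iv0 D132208) D132211
def n224118 : Q := act 6 n206833
theorem D224118 : act 6 n206833 = n224118 := rfl
theorem F523123 : act 2 n224118 = n222822 := d3_1 D224118 F516272 (iv2 F442976)
theorem F523124 : act 4 n224118 = n217811 := d10_1 D224118 F490751 F450999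
theorem F523125 : act 5 n224118 = n210281 := d12_1 D224118 F521906 F521909 (iv6 D206834) D206833
theorem F523126 : act 0 n224118 = n221401 := d21_4 (iv5 D207645) (iv1 F211740) D206833 D224118 F508829 F502330 F421989 D208406 F449219 (iv1 F445826)
theorem F523127 : act 0 n212387 = n224118 := d21_4 F251171 D195876 (iv5 F502449) (iv6 F502455) (iv6 D224118) (iv5 D206833) (iv1 D129418) D129420 D206840 (iv1 F442368)
def n224119 : Q := act 1 n206834
theorem D224119 : act 1 n206834 = n224119 := rfl
theorem F523128 : act 1 n224119 = n222924 := d15_1 D224119 F516799 F445815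
theorem F523129 : act 4 n224119 = n223942 := d17_9 (iv1 D223942) F437548 (iv1 D132246) D132247 (iv4 F437279) (iv5 F441968) F521907 F521909 D224119
theorem F523130 : act 3 n206904 = n224119 := d19_19 (iv1 D224119) (iv5 F521909) F521905 F492727 (iv1 D218208) F374655 (iv4 F486890) (iv3 D216990) (iv1 F483379) (iv5 F510335) (iv4 D221693) F403212 F383691 (iv5 F383689) (iv4 F433958) (iv3 F433961) F442680 (iv5 D206944) (iv4 F442562)
theorem F523131 : act 5 n217642 = n224119 := d21_0 (iv1 D224119) (iv5 F521909) (iv6 F521906) (iv1 F465581) F465579 (iv5 D206042) F217257 (iv5 F437605) (iv6 F521899) F521901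
theorem F523132 : act 6 n224119 = n223942 := d21_3 D223898 F521901 F523131 (iv1 D223942) (iv6 D205717) F380826 F212447 (iv5 D126486) D126487 D205630
theorem F523133 : act 2 n206875 = n224119 := d3_3 F523132 F522126 F446531
def n224120 : Q := act 4 n206837
theorem D224120 : act 4 n206837 = n224120 := rfl
theorem F523134 : act 2 n224120 = n208804 := d1_1 D224120 F450953 (iv2 F445836)
theorem F523135 : act 3 n224120 = n221314 := d5_1 D224120 F508323 (iv3 F399028) (iv4 F421753) (iv3 F442353)
theorem F523136 : act 6 n224120 = n221905 := d10_2 F449219 D224120 F511319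
theorem F523137 : act 7 n224120 = n217846 := d11_2 (iv7 F445830) D224120 F490897
theorem F523138 : act 5 n224120 = n218177 := d16_1 D224120 (iv4 F499595) F499596 (iv4 D205651) (iv5 F437448) F437347 (iv5 F442358) (iv7 F445832) (iv2 F445836)
theorem F523139 : act 0 n224120 = n217848 := d17_0 F490911 (iv1 F493373) F493371 F450999 (iv5 D206833) F211740 D207645 F445826 D224120
theorem F523140 : act 1 n224120 = n217845 := d18_6 (iv1 F437446) (iv4 D205681) F437356 F437357 (iv5 F442352) D224120 (iv4 F506895) (iv0 F521852) (iv5 D223889)
def n224121 : Q := act 3 n206838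
theorem D224121 : act 3 n206838 = n224121 := rfl
theorem F523141 : act 2 n224121 = n218591 := d0_1 D224121 F494641 F475029 (iv3 F475030) (iv2 F445829)
theorem F523142 : act 5 n224121 = n207012 := d6_2 (iv5 F442358) D224121 (iv3 D207012)
theorem F523143 : act 7 n224121 = n206907 := d8_2 F445832 D224121 F445834
theorem F523144 : act 4 n224121 = n208800 := d20_6 (iv4 F442576) (iv1 F442578) F429508 (iv3 F445823) F445825 D224121 (iv1 F450937) (iv4 F396570) (iv3 F396569) (iv1 F384541)
theorem F523145 : act 6 n217010 = n224121 := d10_0 F523144 F450936 D217010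
theorem F523146 : act 1 n208654 = n224121 := d17_8 (iv1 F450937) (iv5 F456496) (iv1 F456497) F467058 (iv4 F511420) F511419 (iv0 F450331) (iv5 F450343) F523144
theorem F523147 : act 0 n222944 = n224121 := d18_0 F523144 (iv1 F450937) (iv4 F396570) F396571 (iv4 F444142) (iv0 F523121) (iv4 D224117) F450333 (iv5 F516908)
def n224122 : Q := act 4 n206838
theorem D224122 : act 4 n206838 = n224122 := rfl
theorem F523148 : act 2 n224122 = n217846 := d1_1 D224122 F490897 (iv2 F445829)
theorem F523149 : act 3 n224122 = n208805 := d5_1 D224122 F450958 (iv3 F450934) (iv4 F523144) (iv3 D224121)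
theorem F523150 : act 7 n224122 = n208804 := d11_2 F445832 D224122 F450953
theorem F523151 : act 0 n224122 = n217845 := d17_0 F490894 (iv1 F520870) F520866 F484666 (iv5 D206830) (iv0 D129417) D129420 D206838 D224122
theorem F523152 : act 1 n224122 = n217848 := d18_6 F437469 (iv4 D205689) F437348 F437347 (iv5 F442358) D224122 (iv4 F516777) (iv0 F521863) (iv5 D223891)
def n224123 : Q := act 6 n206838
theorem D224123 : act 6 n206838 = n224123 := rfl
theorem F523153 : act 3 n224123 = n217010 := d7_1 D224123 F523145 (iv3 D224121)
theorem F523154 : act 7 n224123 = n219411 := d14_2 F445832 D224123 F498770 F446089 (iv6 F445835)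
theorem F523155 : act 0 n222007 = n224123 := d21_4 F442391 F437499 F437497 D222007 (iv6 D224123) F442358 (iv1 D129810) D129812 (iv6 F361163) (iv1 F442389)
def n224124 : Q := act 5 n206841
theorem D224124 : act 5 n206841 = n224124 := rfl
theorem F523156 : act 3 n224124 = n222818 := d6_1 D224124 F516246 F515658
theorem F523157 : act 4 n224124 = n216366 := d9_1 D224124 (iv5 F501785) F501782 F387817 F465458 (iv5 F465459) F442355 D223884 F521823 F518814 F452546 F451194 (iv4 F465454) F465453 (iv4 F443069)

end Cfsg.Agent.Helper17.ONTC
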