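import Cfsg.Agent.Helper17.ONTC.Facts60

set_option autoImplicit false
set_option linter.all false

noncomputable section

namespace Cfsg.Agent.Helper17.ONTC

theorem F523158 : act 7 n224124 = n223941 := d13_2 (iv7 F443068) D224124 (iv5 D223941)
theorem F523159 : act 1 n224124 = n212379 := d17_6 (iv1 D212253) (iv5 F335969) D212355 F465453 (iv4 F443069) D224124 (iv5 F465588) F521922 F521920
def n224125 : Q := act 3 n206843
theorem D224125 : act 3 n206843 = n224125 := rfl
theorem F523160 : act 2 n224125 = n211226 := d0_1 D224125 F460691 (iv2 F475016) (iv3 D206916) F442373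
theorem F523161 : act 4 n224125 = n211225 := d5_2 (iv4 F442371) D224125 F460687 (iv4 F484567) F484563
theorem F523162 : act 5 n224125 = n220171 := d6_2 F442375 D224125 (iv3 D220171)
theorem F523163 : act 6 n224125 = n210056 := d7_2 (iv6 F442598) D224125 F455967
theorem F523164 : act 7 n224125 = n206919 := d8_2 F442374 D224125 (iv3 D206919)
theorem F523165 : act 0 n224125 = n222872 := d19_4 D87757 D183966 (iv4 F442371) D224125 F516517 F502281 F405393 D197695 (iv5 F433028) (iv4 F518504) F518503 F517961 (iv5 D213061) (iv4 F425601) F425600 (iv1 D119190) (iv5 F329977) F147955 F73781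
theorem F523166 : act 0 n222871 = n224125 := d20_4 (iv4 F499938) F499941 (iv4 F502292) (iv3 F516511) (iv3 D224125) F442371 (iv1 F345094) D194655 F393970 (iv1 F388498)
def n224126 : Q := act 6 n206844
theorem D224126 : act 6 n206844 = n224126 := rfl
theorem F523167 : act 2 n224126 = n206921 := d3_1 D224126 (iv6 D206921) F442379
theorem F523168 : act 3 n224126 = n212106 := d7_1 D224126 F464342 F442380
theorem F523169 : act 4 n224126 = n216477 := d10_1 D224126 (iv6 D216477) (iv4 F442378)
theorem F523170 : act 5 n224126 = n217039 := d12_1 D224126 (iv6 F515889) F515886 (iv6 D220173) F442381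
theorem F523171 : act 7 n224126 = n219470 := d14_2 (iv7 F442377) D224126 F499039 F442610 (iv6 D206918)
theorem F523172 : act 0 n224126 = n220049 := d21_4 (iv5 F502293) (iv1 F502294) F442381 D224126 (iv6 F502287) (iv5 D220131) D220129 F502276 F441479 (iv1 F388396)
theorem F523173 : act 0 n220150 = n224126 := d21_4 F208196 D132221 (iv5 F421992) (iv6 F502377) (iv6 D224126) (iv5 F442381) (iv1 D193044) (iv5 D101116) (iv6 F155750) (iv1 F347624)
def n224127 : Q := act 0 n206851
theorem D224127 : act 0 n206851 = n224127 := rfl
theorem F523174 : act 5 n224127 = n222935 := d17_1 D224127 F516859 F441857 (iv4 D201794) D201795 (iv0 F467976) F467974 F421553 (iv4 F442411)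
theorem F523175 : act 4 n224127 = n208876 := d18_1 D224127 (iv1 F451215) D222901 F516664 F466922 (iv0 F325506) (iv4 F445776) (iv0 F445778) (iv5 F442412)
theorem F523176 : act 2 n222900 = n224127 := d15_3 (iv0 D224127) (iv0 F442413) D222900
theorem F523177 : act 1 n207913 = n224127 := d15_0 (iv0 D224127) (iv7 F516748) F516744
theorem F523178 : act 7 n224127 = n214453 := d15_2 F467003 F523177 F475239
theorem F523179 : act 3 n223741 = n224127 := d20_9 F446973 (iv1 D201624) (iv4 F421171) F421170 (iv1 F464351) F464346 F433091 D204636 D223741 (iv1 F523177)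
theorem F523180 : act 6 n224127 = n222909 := d7_2 (iv6 F520999) F523179 F516709
def n224128 : Q := act 3 n206852
theorem D224128 : act 3 n206852 = n224128 := rfl
theorem F523181 : act 2 n224128 = n214457 := d0_1 D224128 (iv3 D214457) F251127 D201699 F442415
theorem F523182 : act 5 n224128 = n207848 := d6_2 F520517 D224128 (iv3 F520516)
theorem F523183 : act 7 n224128 = n222899 := d8_2 F445982 D224128 F516653
theorem F523184 : act 0 n224128 = n207929 := d19_4 (iv1 D208471) (iv5 F410537) (iv4 F442414) D224128 (iv5 D207929) (iv4 D132600) F354295 (iv1 D88537) (iv5 F328234) F328233 D93848 (iv1 F373964) (iv5 D188560) F370295 F370296 (iv1 F142401) D188582 (iv4 F427932) F449506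
theorem F523185 : act 0 n207931 = n224128 := d20_4 (iv4 D196546) D196545 D221508 F509362 (iv3 D224128) F442414 (iv1 D199071) (iv4 F410530) F410529 (iv1 F401036)
def n224129 : Q := act 6 n206853
theorem D224129 : act 6 n206853 = n224129 := rfl
theorem F523186 : act 2 n224129 = n223743 := d3_1 D224129 F521010 (iv2 F445981)
theorem F523187 : act 3 n224129 = n214453 := d7_1 D224129 (iv6 D214453) F442418
theorem F523188 : act 4 n224129 = n222288 := d10_1 D224129 (iv6 D222288) (iv4 F442417)
theorem F523189 : act 7 n224129 = n223741 := d14_2 (iv7 F442416) D224129 F520999 F453070 F421465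
theorem F523190 : act 0 n224129 = n222837 := d21_4 F502263 F516807 F516804 D224129 F516353 F467637 F446406 F446404 D221026 F506867
theorem F523191 : act 5 n222785 = n224129 := d21_2 D222922 (iv1 F516789) (iv6 D224129) (iv1 D206853) (iv6 D129429) (iv5 D60824) (iv1 F83817) (iv5 F161929) D195273 (iv1 F421624)
theorem F523192 : act 0 n223366 = n224129 := d21_4 F502347 F439228 F439225 D223366 (iv6 D224129) (iv5 F516804) F516806 (iv5 F502372) F502373 (iv1 F502345)
def n224130 : Q := act 6 n206862
theorem D224130 : act 6 n206862 = n224130 := rfl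
theorem F523193 : act 2 n224130 = n206864 := d3_1 D224130 (iv6 D206864) (iv2 F442443)
theorem F523194 : act 4 n224130 = n221885 := d10_1 D224130 (iv6 D221885) F442444
theorem F523195 : act 5 n224130 = n222732 := d12_1 D224130 (iv6 F522055) F522054 (iv6 D206863) D206862
theorem F523196 : act 7 n224130 = n207915 := d14_2 F445973 D224130 (iv6 D207915) (iv7 F446819) F446818
theorem F523197 : act 0 n224130 = n212392 := d21_4 (iv5 F442310) (iv1 F211816) D206862 D224130 F465641 F384486 (iv1 D129867) D129869 (iv6 F366065) D195282
theorem F523198 : act 0 n222403 = n224130 := d21_4 (iv5 F490078) (iv1 F490080) D217838 (iv6 F514020) (iv6 D224130) (iv5 D206862) (iv1 F211820) (iv5 F396571) (iv6 F475084) F475087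
def n224131 : Q := act 0 n206863
theorem D224131 : act 0 n206863 = n224131 := rfl
theorem F523199 : act 4 n224131 = n209698 := d18_1 D224131 (iv1 F489878) (iv4 F521902) (iv5 D223898) D223897 (iv0 F522047) F522044 D223925 F522054
theorem F523200 : act 3 n224131 = n206941 := d20_5 F371473 (iv1 F251306) (iv4 F371109) (iv3 F442448) D224131 F442672 (iv1 D187798) (iv4 F371479) (iv3 D187784) D187782
theorem F523201 : act 1 n206868 = n224131 := d15_0 (iv0 D224131) F442450 (iv2 F442454)
theorem F523202 : act 7 n206866 = n224131 := d8_0 F523200 F447597 (iv3 F447599)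
theorem F523203 : act 2 n224131 = n206865 := d15_3 (iv0 D206865) D206866 F523202
def n224132 : Q := act 1 n206863
theorem D224132 : act 1 n206863 = n224132 := rfl
theorem F523204 : act 1 n224132 = n206868 := d15_1 D224132 (iv7 D206868) (iv2 F442447)
theorem F523205 : act 7 n224132 = n206865 := d15_2 (iv0 D224131) D224132 (iv2 F523203)
theorem F523206 : act 5 n224132 = n217613 := d17_7 (iv1 F522132) (iv5 F520996) (iv1 D223740) (iv5 F446171) (iv4 F522051) F522054 D224132 (iv0 F521933) (iv4 F522129)
theorem F523207 : act 3 n217614 = n224132 := d19_19 (iv1 D224132) (iv5 F522054) F522051 F446170 (iv1 F514811) F514809 F421203 F375130 D188883 (iv5 F428096) F459813 F459810 F481554 (iv5 D215782) D215781 F481546 F394514 (iv5 F447879) (iv4 F489793)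
theorem F523208 : act 4 n218226 = n224132 := d20_0 (iv1 D224132) F442449 F371195 (iv1 F143028) D188762 F380140 (iv1 F441823) (iv4 F500530) F500529 F492828
theorem F523209 : act 6 n222925 = n224132 := d21_3 (iv5 F446804) (iv1 F445986) (iv5 F516804) (iv1 D224132) (iv6 D206863) D206862 (iv1 F442446) (iv5 D206816) D206817 (iv1 F446806)
theorem F523210 : act 2 n224132 = n206866 := d3_1 F523209 (iv6 F446497) (iv2 F516802)
def n224133 : Q := act 7 n206864
theorem D224133 : act 7 n206864 = n224133 := rfl
theorem F523211 : act 2 n224133 = n207915 := d4_1 D224133 (iv7 F523196) F523193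
theorem F523212 : act 3 n224133 = n206872 := d8_1 D224133 (iv7 D206872) (iv3 F442451)
theorem F523213 : act 4 n224133 = n223244 := d11_1 D224133 F518394 F458481
theorem F523214 : act 5 n224133 = n207948 := d13_1 D224133 (iv7 F465373) F465357
theorem F523215 : act 6 n224133 = n207868 := d14_1 D224133 F446809 F347257 F211823 D206864
theorem F523216 : act 1 n222403 = n224133 := d15_1 (iv0 F523198) (iv7 D224133) (iv2 F523193)
theorem F523217 : act 1 n224133 = n212392 := d15_1 F523216 (iv7 F466742) (iv2 F514018)
def n224134 : Q := act 3 n206865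
theorem D224134 : act 3 n206865 = n224134 := rfl
theorem F523218 : act 2 n224134 = n217616 := d0_1 D224134 F489797 F447593 (iv3 F523200) F523203
theorem F523219 : act 4 n224134 = n207567 := d5_2 (iv4 F485546) D224134 (iv3 F482766) (iv4 F483550) (iv3 F485544)
theorem F523220 : act 6 n224134 = n207566 := d7_2 F499204 D224134 (iv3 F499203)
theorem F523221 : act 7 n224134 = n217614 := d8_2 F523205 D224134 F523207
theorem F523222 : act 0 n222751 = n224134 := d20_4 (iv4 F446530) F446533 (iv4 F521817) F521816 (iv3 D224134) F485546 (iv1 D210190) (iv4 F446656) (iv3 F522994) F522998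
theorem F523223 : act 5 n224134 = n212665 := d17_1 F523222 F466957 D212667 F466966 (iv5 F393465) F393467 F417553 F439195 D222751
theorem F523224 : act 1 n206980 = n224134 := d15_0 (iv0 F523222) (iv7 F522017) F522013
def n224135 : Q := act 5 n206865
theorem D224135 : act 5 n206865 = n224135 := rfl
theorem F523225 : act 3 n224135 = n212665 := d6_1 D224135 (iv5 F523223) (iv3 D224134)
theorem F523226 : act 6 n224135 = n218872 := d12_2 F499204 D224135 (iv5 D218872) D218873 F499205
theorem F523227 : act 7 n224135 = n217613 := d13_2 F523205 D224135 (iv5 F523206)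
theorem F523228 : act 4 n224135 = n217673 := d16_2 (iv4 F485546) D224135 F490047 F456912 D210301 (iv4 F498794) F498795 F456411 (iv2 F485543)
theorem F523229 : act 0 n224135 = n212670 := d17_2 D206865 D224135 F466978 F437851 (iv5 F486311) (iv0 F489926) (iv5 D217647) F371193 F217089
theorem F523230 : act 1 n224135 = n206987 := d17_8 F445931 D224078 F522905 (iv5 F446774) (iv4 F447103) F447104 F442458 D224135 F442863
def n224136 : Q := act 5 n206866
theorem D224136 : act 5 n206866 = n224136 := rfl
theorem F523231 : act 2 n224136 = n217613 := d2_1 D224136 (iv5 F523206) F523210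
theorem F523232 : act 3 n224136 = n212406 := d6_1 D224136 F465680 (iv3 F447599)
theorem F523233 : act 4 n224136 = n222785 := d9_1 D224136 F523191 F523188 (iv5 F519011) F519010 (iv5 F485545) (iv4 F485546) D224135 F523228 F490047 F456912 D210301 (iv4 F498794) F498795 F456409
theorem F523234 : act 6 n224136 = n212404 := d12_2 F446497 D224136 (iv5 F521012) F521010 F446496
theorem F523235 : act 0 n224136 = n206987 := d17_2 (iv1 F442452) D224136 (iv5 D206987) (iv4 F442845) (iv5 F478877) (iv0 F489910) (iv5 D217643) (iv0 D187689) (iv4 F371106)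
theorem F523236 : act 1 n224136 = n212670 := d17_6 F437847 (iv5 F483599) F498796 F498795 F456409 D224136 F466978 (iv0 D205782) (iv4 F437846)
def n224137 : Q := act 7 n206871
theorem D224137 : act 7 n206871 = n224137 := rfl
theorem F523237 : act 2 n224137 = n210200 := d4_1 D224137 F456538 F445895
theorem F523238 : act 3 n224137 = n207948 := d8_1 D224137 (iv7 F465373) F465358
theorem F523239 : act 4 n224137 = n209272 := d11_1 D224137 F452991 (iv4 F442471)
theorem F523240 : act 5 n224137 = n206872 := d13_1 D224137 (iv7 D206872) D206871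
theorem F523241 : act 6 n224137 = n207947 := d14_1 D224137 F521985 (iv6 D223913) F437385 (iv6 F442470)
theorem F523242 : act 1 n209719 = n224137 := d15_1 (iv0 F454743) (iv7 D224137) (iv2 F445895)
theorem F523243 : act 1 n224137 = n209714 := d15_1 F523242 (iv7 F513183) F513180
def n224138 : Q := act 6 n206874
theorem D224138 : act 6 n206874 = n224138 := rfl
theorem F523244 : act 3 n224138 = n224004 := d7_1 D224138 F522886 (iv3 F522885)
theorem F523245 : act 4 n224138 = n213550 := d10_1 D224138 (iv6 D213550) F442478
theorem F523246 : act 5 n224138 = n223966 := d12_1 D224138 (iv6 D223966) (iv5 F442059) (iv6 F442062) D206874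
theorem F523247 : act 7 n224138 = n218661 := d14_2 F445926 D224138 F495023 D224006 (iv6 F522495)
theorem F523248 : act 0 n224138 = n217052 := d21_4 (iv5 D129440) D129438 D206874 D224138 (iv6 D217052) F437391 (iv1 D205665) D205666 F437395 (iv1 F207611)
def n224139 : Q := act 5 n206875
theorem D224139 : act 5 n206875 = n224139 := rfl
theorem F523249 : act 2 n224139 = n217642 := d2_1 D224139 F523131 (iv2 F523133)
theorem F523250 : act 3 n224139 = n206876 := d6_1 D224139 (iv5 D206876) D206875
theorem F523251 : act 6 n224139 = n219469 := d12_2 F446531 D224139 F499036 F520995 F520996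
theorem F523252 : act 7 n224139 = n217646 := d13_2 F445930 D224139 (iv5 F489923)
theorem F523253 : act 4 n224139 = n217640 := d17_4 D206725 D224095 F522998 D224139 F489913 F488406 (iv5 D208381) (iv0 F441977) F441976
theorem F523254 : act 0 n207838 = n224139 := d19_0 (iv5 D224139) (iv4 F446530) (iv3 D207807) F212427 D132394 D207814 F510437 (iv1 D221710) F403464 F401633 F401629 (iv1 F401646) D221591 F509752 F490067 (iv1 F421624) D222922 (iv4 F522997) F522994
def n224140 : Q := act 5 n206877
theorem D224140 : act 5 n206877 = n224140 := rfl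
theorem F523255 : act 2 n224140 = n219532 := d2_1 D224140 F499301 F446021
theorem F523256 : act 3 n224140 = n209352 := d6_1 D224140 (iv5 F515961) F515959
theorem F523257 : act 6 n224140 = n222252 := d12_2 D206877 D224140 F513166 F421585 (iv5 F417741)
theorem F523258 : act 7 n224140 = n209346 := d13_2 (iv7 F453363) D224140 F453361
theorem F523259 : act 4 n224140 = n219543 := d16_6 F451549 (iv5 D208956) F217874 (iv5 F395883) (iv4 F442483) D224140 F499351 D221382 F508730
theorem F523260 : act 0 n224140 = n217062 := d17_2 F445142 D224140 F487202 (iv4 F446623) D224065 F522829 F515675 (iv0 F445087) D207496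
theorem F523261 : act 1 n224140 = n219533 := d17_6 (iv1 F487295) F383996 F441176 (iv5 F395883) (iv4 F442483) D224140 F499306 F451581 (iv4 F487292)
def n224141 : Q := act 4 n206882
theorem D224141 : act 4 n206882 = n224141 := rfl
theorem F523262 : act 2 n224141 = n209349 := d1_1 D224141 (iv4 D209349) F442506
theorem F523263 : act 3 n224141 = n218239 := d5_1 D224141 F492899 F375033 (iv4 F474957) F474956
theorem F523264 : act 5 n224141 = n221312 := d9_2 (iv5 F442507) D224141 (iv4 D221312) (iv5 F399553) F399552 (iv5 D196078) F212742 (iv5 F442500) (iv4 F442502) (iv5 F490931) F490930 (iv5 F488455) (iv4 F494520) F494521 (iv4 D207871)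
theorem F523265 : act 6 n224141 = n221463 := d10_2 F513370 D224141 (iv4 F513367)
theorem F523266 : act 7 n224141 = n209344 := d11_2 (iv7 F442508) D224141 (iv4 D209344)
theorem F523267 : act 0 n224141 = n218277 := d17_0 F493077 (iv1 F484990) (iv5 F453368) (iv4 D209354) (iv5 F358293) F211837 (iv5 F443092) F443095 D224141
theorem F523268 : act 1 n224141 = n212132 := d18_6 D196254 F400074 (iv1 F446826) (iv4 D207871) (iv5 F442507) D224141 (iv4 F508740) (iv0 D221385) (iv5 D196256)
def n224142 : Q := act 3 n206888
theorem D224142 : act 3 n206888 = n224142 := rfl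
theorem F523269 : act 2 n224142 = n223367 := d0_1 D224142 F519086 (iv2 F490010) F490011 (iv2 F453475)
theorem F523270 : act 4 n224142 = n223363 := d5_2 (iv4 F453478) D224142 F519064 F487421 F453479
theorem F523271 : act 5 n224142 = n224086 := d6_2 F499036 D224142 (iv3 F522952)
theorem F523272 : act 6 n224142 = n207808 := d7_2 (iv6 F520995) D224142 F520997
theorem F523273 : act 7 n224142 = n223368 := d8_2 (iv7 F453473) D224142 F519091
theorem F523274 : act 0 n224142 = n206901 := d20_10 F454598 F454597 (iv4 F486991) F486990 (iv1 F446811) F446808 (iv4 F453754) (iv1 F453757) (iv4 F453478) D224142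
theorem F523275 : act 4 n219521 = n221771 := d16_4 (iv4 F523270) F523271 (iv4 F522951) (iv5 F499265) (iv5 D221771) D221770 F519071 F519069 F519065
def n224143 : Q := act 6 n206891
theorem D224143 : act 6 n206891 = n224143 := rfl
theorem F523276 : act 2 n224143 = n209137 := d3_1 D224143 (iv6 F454808) (iv2 F446051)
theorem F523277 : act 4 n224143 = n208728 := d10_1 D224143 (iv6 F454866) F454863
theorem F523278 : act 5 n224143 = n208012 := d12_1 D224143 (iv6 D208012) (iv5 D133170) D133171 (iv5 F442532)
theorem F523279 : act 7 n224143 = n224092 := d14_2 (iv7 F442531) D224143 F522982 (iv7 F465580) F465579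
theorem F523280 : act 0 n224143 = n207822 := d21_4 (iv5 F437675) (iv1 F437677) (iv5 F442532) D224143 (iv6 D207822) F212476 (iv1 D62252) D62254 D132663 (iv1 F345904)
theorem F523281 : act 0 n224094 = n224143 := d21_4 (iv5 F516908) F523147 F523142 (iv6 F522991) (iv6 D224143) F442532 (iv1 F446647) (iv5 D207835) D207836 F450338
def n224144 : Q := act 3 n206896
theorem D224144 : act 3 n206896 = n224144 := rfl
theorem F523282 : act 2 n224144 = n217646 := d0_1 D224144 F489922 F445932 (iv3 F523058) F523057
theorem F523283 : act 4 n224144 = n217644 := d5_2 F468965 D224144 F489918 (iv4 F468970) (iv3 F468964)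
theorem F523284 : act 6 n224144 = n219503 := d7_2 F468972 D224144 F508133
theorem F523285 : act 7 n224144 = n217642 := d8_2 F490016 D224144 (iv3 F490014)
theorem F523286 : act 0 n224144 = n207838 := d20_4 (iv4 F448144) F468969 F468965 D224144 (iv3 F522994) F522997 (iv1 F516789) (iv4 F523233) F523232 (iv1 F465681)
def n224145 : Q := act 0 n206901
theorem D224145 : act 0 n206901 = n224145 := rfl
theorem F523287 : act 4 n224145 = n223364 := d20_8 F511220 (iv1 F432957) F404739 (iv3 F452502) F452504 (iv3 F454595) (iv4 F454598) D224145 (iv3 F519070) F511223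
theorem F523288 : act 2 n223368 = n224145 := d15_3 (iv0 D224145) (iv0 F523274) F523273
theorem F523289 : act 3 n224145 = n217631 := d0_2 (iv3 F519091) F523288 F489863 F465707 (iv2 F453472)
theorem F523290 : act 6 n224145 = n218085 := d3_2 (iv6 F519092) F523288 (iv2 F492097)
theorem F523291 : act 7 n224145 = n223367 := d4_2 F523273 F523288 (iv2 F523269)
theorem F523292 : act 5 n217630 = n224145 := d13_3 F523291 F519089 (iv7 F489861)
def n224146 : Q := act 5 n206901
theorem D224146 : act 5 n206901 = n224146 := rfl
theorem F523293 : act 2 n224146 = n212656 := d2_1 D224146 F466912 F443056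
theorem F523294 : act 3 n224146 = n207882 := d6_1 D224146 (iv5 F511411) F511410
theorem F523295 : act 6 n224146 = n206902 := d12_2 D206901 D224146 (iv5 D206902) (iv6 D129463) D129462
theorem F523296 : act 7 n224146 = n207889 := d13_2 F515992 D224146 (iv5 F515991)
theorem F523297 : act 0 n224146 = n218207 := d18_0 F492722 F383999 (iv4 F383990) (iv5 F439266) F439265 D223364 (iv4 F523287) (iv0 D224145) D224146
theorem F523298 : act 4 n224146 = n208267 := d19_2 F523274 D224146 (iv3 F448651) (iv1 D134549) D134550 D208532 (iv3 F449759) (iv1 F468177) (iv5 D212929) F238339 (iv3 F112323) F233138 F356516 (iv4 F427192) (iv3 F486748) F486752 F453477 (iv4 F453478) D224142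
theorem F523299 : act 0 n219519 = n224146 := d19_0 (iv5 D224146) F454598 F454595 (iv1 F246403) (iv5 D156668) (iv4 D74499) (iv3 D34164) F26176 F24152 D24639 D50581 (iv1 F326120) F91640 F55784 (iv3 F90345) (iv1 F364927) D192059 D219702 F500141
def n224147 : Q := act 0 n206905
theorem D224147 : act 0 n206905 = n224147 := rfl
theorem F523300 : act 5 n224147 = n207722 := d17_1 D224147 (iv1 F516515) F516514 F466724 D212620 (iv0 F516883) (iv5 D222939) (iv0 F442568) (iv4 F442565)
theorem F523301 : act 4 n224147 = n219593 := d18_1 D224147 F499609 (iv4 D214419) F421852 F219403 D136592 F446789 F446786 (iv5 F442566)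
theorem F523302 : act 3 n224147 = n214410 := d20_5 (iv4 F501763) (iv1 F501766) (iv4 F421823) (iv3 F442564) D224147 F475052 (iv1 D187568) D187569 D217567 (iv1 F489538)
theorem F523303 : act 6 n224147 = n224124 := d21_5 F209669 (iv1 F96668) D129468 D206905 D224147 (iv5 D224124) (iv1 F443067) (iv5 D207037) (iv6 D129836) D129833
theorem F523304 : act 2 n206911 = n224147 := d15_3 (iv0 D224147) (iv0 F502465) F502464
theorem F523305 : act 1 n206914 = n224147 := d15_0 (iv0 D224147) F442567 (iv2 F442593)
theorem F523306 : act 7 n224147 = n206912 := d15_2 (iv0 F502466) F523305 (iv2 F502462)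
def n224148 : Q := act 5 n206910
theorem D224148 : act 5 n206910 = n224148 := rfl
theorem F523307 : act 2 n224148 = n223513 := d2_1 D224148 (iv5 D223513) (iv2 F442581)
theorem F523308 : act 3 n224148 = n217972 := d6_1 D224148 F491492 F453543
theorem F523309 : act 6 n224148 = n220391 := d12_2 D206910 D224148 F503553 (iv6 D203753) (iv5 F355255)
theorem F523310 : act 1 n224148 = n223437 := d17_6 (iv1 F502285) (iv5 D207896) F442591 (iv5 D206913) (iv4 F442582) D224148 (iv5 D223437) (iv0 F428047) (iv4 F502281)
def n224149 : Q := act 4 n206911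
theorem D224149 : act 4 n206911 = n224149 := rfl
theorem F523311 : act 2 n224149 = n219593 := d1_1 D224149 (iv4 F523301) (iv2 F523304)
theorem F523312 : act 7 n224149 = n219594 := d11_2 F502464 D224149 (iv4 F502463)
theorem F523313 : act 0 n224149 = n219595 := d17_0 F499616 F392128 F465776 F465777 (iv5 D207896) (iv0 D132553) D132555 F442597 D224149
theorem F523314 : act 1 n224149 = n219592 := d18_6 (iv1 F419304) D201805 F454286 F454285 F445856 D224149 F499604 F421861 (iv5 F419300)
theorem F523315 : act 6 n212347 = n224149 := d14_5 F523312 (iv6 F499611) F454608 (iv6 F518817) F518813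
def n224150 : Q := act 6 n206911
theorem D224150 : act 6 n206911 = n224150 := rfl
theorem F523316 : act 2 n224150 = n224124 := d3_1 D224150 (iv6 F523303) (iv2 F523304)
theorem F523317 : act 4 n224150 = n212347 := d10_1 D224150 F523315 (iv4 D224149)
theorem F523318 : act 5 n224150 = n223885 := d12_1 D224150 (iv6 F522131) F522130 F445855 F445856
theorem F523319 : act 0 n222729 = n224150 := d21_4 F442559 F230131 D200902 D222729 (iv6 D224150) (iv5 F445856) F453392 (iv5 F465627) (iv6 D212388) (iv1 F442561)
theorem F523320 : act 7 n223884 = n224150 := d13_0 F523318 (iv7 D223885) D223884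
theorem F523321 : act 1 n222006 = n224150 := d17_6 F446654 (iv5 F465467) F465469 (iv5 F522294) F522293 F522095 F523318 F521829 F442351
def n224151 : Q := act 4 n206912
theorem D224151 : act 4 n206912 = n224151 := rfl
theorem F523322 : act 2 n224151 = n219594 := d1_1 D224151 (iv4 F502463) F502462
theorem F523323 : act 3 n224151 = n217835 := d5_1 D224151 (iv4 D217835) (iv3 D188032) D188033 F442585
theorem F523324 : act 7 n224151 = n219593 := d11_2 F523306 D224151 (iv4 F523301)
theorem F523325 : act 0 n224151 = n219592 := d17_0 F499605 (iv1 D216766) F465771 (iv4 F472908) (iv5 D207898) F442592 (iv5 D206913) D206912 D224151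
theorem F523326 : act 1 n224151 = n219595 := d18_6 D115067 D201803 F421842 (iv4 F460692) (iv5 F460695) D224151 F499615 (iv0 D201808) (iv5 D115070)
def n224152 : Q := act 6 n206912
theorem D224152 : act 6 n206912 = n224152 := rfl
theorem F523327 : act 3 n224152 = n214412 := d7_1 D224152 (iv6 F475064) F442585
theorem F523328 : act 7 n224152 = n222933 := d14_2 F523306 D224152 (iv6 F522119) (iv7 F523158) (iv6 F523303)
def n224153 : Q := act 6 n206920
theorem D224153 : act 6 n206920 = n224153 := rfl
theorem F523329 : act 2 n224153 = n220173 := d3_1 D224153 (iv6 D220173) (iv2 F442611)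
theorem F523330 : act 3 n224153 = n224150 := d7_1 D224153 (iv6 D224150) F445857
theorem F523331 : act 4 n224153 = n211023 := d10_1 D224153 F491848 F491847
theorem F523332 : act 5 n224153 = n212386 := d12_1 D224153 (iv6 F501063) F484128 (iv6 D206921) D206920
theorem F523333 : act 7 n224153 = n224089 := d14_2 (iv7 F442612) D224153 F522968 (iv7 F502471) (iv6 D220172)
theorem F523334 : act 0 n224153 = n221402 := d21_10 F508833 F465576 (iv5 F516271) F516272 (iv1 F446760) (iv6 F502440) F502437 F394068 D206920 D224153
theorem F523335 : act 0 n212378 = n224153 := d21_4 F437306 F437307 (iv5 F407116) (iv6 F465584) (iv6 D224153) (iv5 D206920) (iv1 D129479) D129480 F207636 D129484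
def n224154 : Q := act 0 n206921
theorem D224154 : act 0 n206921 = n224154 := rfl
theorem F523336 : act 5 n224154 = n219477 := d17_1 D224154 (iv1 D219477) F410532 F410530 (iv5 F410275) F410278 D203581 (iv0 F428980) (iv4 F442615)
theorem F523337 : act 4 n224154 = n212010 := d18_1 D224154 (iv1 F463917) (iv4 F502371) F502372 F442191 D220312 F503140 F499035 F484128
theorem F523338 : act 6 n224154 = n222872 := d21_5 (iv5 F388583) (iv1 F442614) (iv5 D206920) D206921 D224154 F516517 (iv1 F502285) (iv5 D207896) (iv6 F441480) F285875
theorem F523339 : act 2 n220049 = n224154 := d15_3 (iv0 D224154) (iv0 F453384) (iv7 F501849)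
theorem F523340 : act 1 n219470 = n224154 := d15_0 (iv0 D224154) (iv7 F446159) (iv2 F499038)
theorem F523341 : act 7 n224154 = n220150 := d15_2 (iv0 F499040) F523340 F502375
def n224155 : Q := act 6 n206928
theorem D224155 : act 6 n206928 = n224155 := rfl
theorem F523342 : act 3 n224155 = n222180 := d7_1 D224155 F512755 (iv3 F442632)
theorem F523343 : act 4 n224155 = n206929 := d10_1 D224155 (iv6 D206929) D206928
theorem F523344 : act 5 n224155 = n216107 := d12_1 D224155 (iv6 D216107) (iv5 D180648) D180649 (iv5 F442633)
def n224156 : Q := act 0 n206929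
theorem D224156 : act 0 n206929 = n224156 := rfl
theorem F523345 : act 5 n224156 = n207817 := d17_3 D132549 (iv5 F442634) D224156 F446581 D207852 (iv0 F446726) (iv5 D132601) (iv0 D62218) (iv4 F96958)
theorem F523346 : act 4 n224156 = n221932 := d18_1 D224156 (iv1 F511467) F502496 (iv5 D207931) (iv4 D132605) F212841 (iv4 F446877) F446881 (iv5 F442634)
theorem F523347 : act 6 n224156 = n217667 := d21_5 F407116 F418967 F418966 D206929 D224156 (iv5 D217667) F371317 D206967 F442769 (iv1 F407118)
theorem F523348 : act 1 n207892 = n224156 := d15_0 (iv0 D224156) (iv7 F511412) F511409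
theorem F523349 : act 2 n224079 = n224156 := d3_3 F523347 F490010 (iv6 F522908)
theorem F523350 : act 7 n224090 = n224156 := d15_2 (iv0 F523024) F523025 (iv2 F523349)
def n224157 : Q := act 1 n206929
theorem D224157 : act 1 n206929 = n224157 := rfl
theorem F523351 : act 1 n224157 = n207892 := d15_1 D224157 (iv7 F523023) F523020
theorem F523352 : act 7 n224157 = n224079 := d15_2 (iv0 D224156) D224157 F523349
theorem F523353 : act 4 n224157 = n221899 := d18_7 (iv1 D222178) (iv4 D198557) D198555 (iv4 F482989) (iv5 F523344) F523343 D224157 (iv0 F511292) F512746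
theorem F523354 : act 3 n207769 = n224157 := d19_19 (iv1 D224157) F442634 D207890 F446900 (iv1 F443321) (iv5 F359633) F225471 F102686 (iv1 F311567) (iv5 F96022) (iv4 F311127) F311126 F348330 F232646 (iv4 F278923) F364011 F411420 (iv5 F498594) F498593
theorem F523355 : act 5 n207302 = n224157 := d21_0 (iv1 D224157) F442634 F437251 (iv1 F437248) F326007 D132660 (iv1 F212968) F207833 D132403 F444234
theorem F523356 : act 2 n224157 = n224090 := d2_1 F523355 (iv5 D224090) F444235
def n224158 : Q := act 5 n206933
theorem D224158 : act 5 n206933 = n224158 := rfl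
theorem F523357 : act 2 n224158 = n221028 := d2_1 D224158 F506873 F445959
theorem F523358 : act 3 n224158 = n206934 := d6_1 D224158 (iv5 D206934) D206933
theorem F523359 : act 4 n224158 = n209355 := d9_1 D224158 F453369 F451013 (iv5 D196146) (iv4 F364644) F358291 (iv4 F442442) (iv5 F523093) F523092 F453377 F420018 F178299 (iv4 F364643) F358298 (iv4 F442644)
theorem F523360 : act 6 n224158 = n221697 := d12_2 F523029 D224158 F510356 (iv6 F506837) (iv5 F523028)
theorem F523361 : act 7 n224158 = n223713 := d13_2 F446381 D224158 F520872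
theorem F523362 : act 0 n224158 = n221383 := d17_2 F516898 D224158 (iv5 D221383) F400074 (iv5 D196052) (iv0 F398950) (iv5 F446012) (iv0 F507828) (iv4 F516895)
theorem F523363 : act 1 n224158 = n221384 := d17_6 (iv1 D49365) D49367 D106845 F358298 (iv4 F442644) D224158 (iv5 D221384) F400077 (iv4 D106840)
def n224159 : Q := act 5 n206937
theorem D224159 : act 5 n206937 = n224159 := rfl
theorem F523364 : act 2 n224159 = n219518 := d2_1 D224159 F499255 F446444
theorem F523365 : act 3 n224159 = n223900 := d6_1 D224159 (iv5 F521911) F502308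
theorem F523366 : act 6 n224159 = n206938 := d12_2 D206937 D224159 (iv5 D206938) (iv6 D129519) D129518
theorem F523367 : act 7 n224159 = n219512 := d13_2 (iv7 F442657) D224159 F499233
theorem F523368 : act 1 n224159 = n207910 := d17_6 F457683 (iv5 D209769) D209767 F454885 (iv4 F442656) D224159 (iv5 F516632) F516635 F457684
theorem F523369 : act 0 n224159 = n219517 := d18_0 (iv4 F499251) F450781 F450779 (iv5 F515991) F515990 (iv0 F465377) (iv4 F522484) F522486 D224159
theorem F523370 : act 4 n224159 = n218208 := d19_2 (iv1 F522519) D224159 (iv3 F492727) (iv1 D208463) D208464 (iv4 F449473) F368607 (iv1 F470220) (iv5 F484662) F484661 F460185 (iv1 F493504) (iv5 F512080) (iv4 F513720) F513721 F463674 F386773 (iv4 F446516) (iv3 F522516)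
def n224160 : Q := act 5 n206941
theorem D224160 : act 5 n206941 = n224160 := rfl
theorem F523371 : act 2 n224160 = n217615 := d2_1 D224160 F489796 F447593
theorem F523372 : act 4 n224160 = n207244 := d9_1 D224160 F443942 F431378 (iv5 F449247) (iv4 F490248) (iv5 D217710) (iv4 F442673) (iv5 F490041) F490040 F443947 (iv4 F431372) (iv5 F449240) F449241 (iv5 F371527) (iv4 F442672)
theorem F523373 : act 6 n224160 = n221218 := d12_2 F469206 D224160 F507791 (iv6 F496077) F496078
theorem F523374 : act 7 n224160 = n212406 := d13_2 (iv7 F447597) D224160 F465680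
theorem F523375 : act 0 n224160 = n207000 := d17_2 D206941 D224160 (iv5 D207000) (iv4 D129725) D129726 (iv0 F430500) F430498 F363457 (iv4 F207678)
theorem F523376 : act 1 n224160 = n207004 := d17_6 F447250 F447246 F427167 (iv5 F371527) (iv4 F442672) D224160 (iv5 D207004) (iv0 F437890) (iv4 F442957)
def n224161 : Q := act 6 n206949
theorem D224161 : act 6 n206949 = n224161 := rfl
theorem F523377 : act 2 n224161 = n210915 := d3_1 D224161 (iv6 D210915) (iv2 F442704)
theorem F523378 : act 3 n224161 = n215780 := d7_1 D224161 F481543 (iv3 F442705)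
theorem F523379 : act 4 n224161 = n206950 := d10_1 D224161 (iv6 D206950) D206949
theorem F523380 : act 5 n224161 = n215779 := d12_1 D224161 (iv6 F512459) (iv5 F516297) (iv6 F516300) F491787
theorem F523381 : act 7 n224161 = n223464 := d14_2 F446700 D224161 (iv6 D223464) F428645 (iv6 F446699)
theorem F523382 : act 0 n224161 = n211015 := d21_4 (iv5 F516266) (iv1 F516269) F491787 D224161 F477147 (iv5 F518491) (iv1 F518496) F464819 (iv6 F359766) F438562
theorem F523383 : act 0 n223811 = n224161 := d21_4 D213799 (iv1 F472146) (iv5 F509634) (iv6 F521413) (iv6 D224161) (iv5 F491787) F491789 F439712 F424702 F410982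
def n224162 : Q := act 6 n206955
theorem D224162 : act 6 n206955 = n224162 := rfl
def n224163 : Q := act 6 n206956
theorem D224163 : act 6 n206956 = n224163 := rfl
theorem F523384 : act 5 n224163 = n216791 := d12_1 D224163 (iv6 F485934) (iv5 D207769) (iv6 F213946) (iv5 F442737)
theorem F523385 : act 0 n219412 = n224163 := d17_0 F523384 (iv1 D216791) D216793 F496102 F496098 (iv0 F489173) (iv5 F499690) F499693 (iv4 F498773)
theorem F523386 : act 1 n218590 = n224163 := d17_6 (iv1 D98990) (iv5 D46308) F69180 D94097 D189571 D218590 F523384 F485932 (iv4 D191835)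
def n224164 : Q := act 1 n206958
theorem D224164 : act 1 n206958 = n224164 := rfl
theorem F523387 : act 1 n224164 = n221194 := d15_1 D224164 (iv7 F521833) F521830
theorem F523388 : act 7 n224164 = n210225 := d15_2 (iv0 F452421) D224164 F456646
theorem F523389 : act 3 n224143 = n224164 := d20_3 (iv4 F217208) D208728 (iv4 F523277) (iv1 D224164) F442740 (iv4 F366307) (iv1 F444793) (iv4 F447013) (iv3 F447016) (iv1 D206823)
theorem F523390 : act 4 n210229 = n224164 := d20_6 F327364 (iv1 F98987) (iv4 F216360) (iv3 F448714) F448717 (iv3 F456655) (iv1 D224164) F442741 (iv3 F347098) (iv1 D135977)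
theorem F523391 : act 6 n210248 = n224164 := d21_3 F233521 (iv1 F438893) F456736 (iv1 D224164) (iv6 D206958) (iv5 F336990) (iv1 D126564) D126566 D205738 F437642
theorem F523392 : act 2 n224164 = n209057 := d3_1 F523391 (iv6 F466908) F466907
def n224165 : Q := act 5 n206958
theorem D224165 : act 5 n206958 = n224165 := rfl
theorem F523393 : act 3 n224165 = n206960 := d6_1 D224165 (iv5 D206960) (iv3 F442740)
theorem F523394 : act 6 n224165 = n217424 := d12_2 D206958 D224165 (iv5 F488832) (iv6 D205735) F336990
theorem F523395 : act 4 n224165 = n217425 := d16_2 (iv4 F442741) D224165 F488834 (iv4 F482160) (iv5 F482165) F485506 (iv5 F485507) (iv7 F450055) F450053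
def n224166 : Q := act 5 n206959
theorem D224166 : act 5 n206959 = n224166 := rfl
theorem F523396 : act 2 n224166 = n207131 := d2_1 D224166 (iv5 D207131) F442743
theorem F523397 : act 3 n224166 = n218702 := d6_1 D224166 (iv5 F521854) (iv3 F521857)
theorem F523398 : act 4 n224166 = n212772 := d9_1 D224166 F467447 F419567 F321823 (iv4 F307467) (iv5 D133176) (iv4 F213941) D208009 F467446 F467445 F467388 (iv5 D207413) (iv4 F344119) (iv5 F344118) (iv4 F442742)
theorem F523399 : act 0 n224166 = n218700 := d17_2 D206959 D224166 F495222 F441999 (iv5 F428795) F428790 D207416 F444793 F366307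
theorem F523400 : act 1 n224166 = n224017 := d17_6 F350898 (iv5 F350895) (iv1 F344116) (iv5 F344118) (iv4 F442742) D224166 F522557 F443477 F443473
def n224167 : Q := act 0 n206960
theorem D224167 : act 0 n206960 = n224167 := rfl
theorem F523401 : act 4 n224167 = n215022 := d18_1 D224167 (iv1 F522598) F522594 (iv5 D207073) F208221 F326063 (iv4 F442742) (iv0 D206959) D206960
theorem F523402 : act 6 n224167 = n209060 := d21_5 F522301 F454809 D224093 F522986 D224167 (iv5 F468974) F499201 (iv5 F506223) (iv6 F506226) F522302
theorem F523403 : act 1 n207028 = n224167 := d15_0 (iv0 D224167) (iv7 F446855) F446854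
theorem F523404 : act 3 n218765 = n224167 := d19_19 (iv1 F523403) (iv5 D207028) (iv4 F213191) F213190 D132761 F321104 (iv4 F275089) (iv3 F433125) (iv1 F433131) D215786 F481575 D216854 (iv1 F495660) (iv5 D218787) (iv4 D190082) (iv3 F369767) F369766 D190041 D218765
def n224168 : Q := act 6 n206971
theorem D224168 : act 6 n206971 = n224168 := rfl
theorem F523405 : act 2 n224168 = n207889 := d3_1 D224168 F450776 F450770
theorem F523406 : act 3 n224168 = n212659 := d7_1 D224168 (iv6 F475459) F475456
theorem F523407 : act 4 n224168 = n208266 := d10_1 D224168 F448649 (iv4 F442786)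
theorem F523408 : act 7 n224168 = n212656 := d14_2 F450759 D224168 (iv6 D212656) (iv7 F251352) (iv6 F450763)
theorem F523409 : act 0 n218207 = n224168 := d21_4 (iv5 F443038) F443040 (iv5 F443010) (iv6 F492723) (iv6 D224168) F465558 (iv1 F465559) (iv5 F487146) F487147 (iv1 D207699)
theorem F523410 : act 1 n219519 = n224168 := d15_0 (iv0 F523409) F492724 (iv2 F499258)
def n224169 : Q := act 5 n207001
theorem D224169 : act 5 n207001 = n224169 := rfl
theorem F523411 : act 2 n224169 = n208256 := d2_1 D224169 (iv5 F449251) F449248
theorem F523412 : act 3 n224169 = n218065 := d6_1 D224169 (iv5 D218065) (iv3 F442924)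
theorem F523413 : act 4 n224169 = n209085 := d9_1 D224169 (iv5 F490020) F490021 (iv5 D207004) (iv4 D129730) D129731 F352318 (iv5 F432640) (iv4 F452179) (iv5 F452180) F451182 (iv5 D207000) (iv4 D129725) D129726 D207001
theorem F523414 : act 6 n224169 = n223458 := d12_2 (iv6 F442923) D224169 F519549 F519995 (iv5 D223538)
theorem F523415 : act 7 n224169 = n220849 := d13_2 F449229 D224169 F505874
theorem F523416 : act 0 n224169 = n209376 := d17_2 (iv1 F449245) D224169 F453460 F431311 (iv5 F442954) (iv0 F442958) D207079 (iv0 F443222) (iv4 F449241)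
theorem F523417 : act 1 n224169 = n209053 := d17_6 (iv1 D129734) (iv5 D60937) D60935 D129726 D207001 D224169 F452040 F431317 (iv4 F350860)
def n224170 : Q := act 3 n207008
theorem D224170 : act 3 n207008 = n224170 := rfl
theorem F523418 : act 2 n224170 = n219508 := d0_1 D224170 F499208 F523041 (iv3 F523044) F445459
theorem F523419 : act 4 n224170 = n213514 := d5_2 D207008 D224170 F470787 (iv4 F377721) F377719
theorem F523420 : act 5 n224170 = n224113 := d6_2 F509418 D224170 F523098
theorem F523421 : act 6 n224170 = n207798 := d7_2 (iv6 F442949) D224170 F446493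
theorem F523422 : act 7 n224170 = n219507 := d8_2 F445478 D224170 F499203
theorem F523423 : act 0 n224170 = n221215 := d20_4 (iv4 D224056) F441035 D207008 D224170 (iv3 D221215) (iv4 D195662) (iv1 F397765) (iv4 F490220) F490219 (iv1 F522776)
theorem F523424 : act 0 n207749 = n224170 := d20_4 (iv4 D205707) F203461 (iv4 F211910) (iv3 F446231) (iv3 D224170) (iv4 D207008) (iv1 F441040) (iv4 F521844) F521843 (iv1 F437503)
def n224171 : Q := act 3 n207010
theorem D224171 : act 3 n207010 = n224171 := rfl
theorem F523425 : act 2 n224171 = n222632 := d0_1 D224171 (iv3 D222632) F416515 (iv3 F446318) F446317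
theorem F523426 : act 4 n224171 = n217174 := d5_2 (iv4 F442953) D224171 (iv3 D217174) (iv4 D186929) (iv3 F368298)
theorem F523427 : act 5 n224171 = n207305 := d6_2 F446295 D224171 (iv3 F446328)
theorem F523428 : act 6 n224171 = n215403 := d7_2 (iv6 F446296) D224171 (iv3 D215403)
theorem F523429 : act 7 n224171 = n222250 := d8_2 F446332 D224171 F513156
theorem F523430 : act 0 n224171 = n222691 := d20_4 F442929 F353701 (iv4 F442953) D224171 F515590 (iv4 D206192) F439640 F439639 (iv3 F462579) F462581
theorem F523431 : act 0 n222214 = n224171 := d20_4 (iv4 F478653) F478656 F466277 (iv3 F512956) (iv3 D224171) F442953 F353699 (iv4 F368207) F478662 (iv1 D215165)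
def n224172 : Q := act 4 n207017
theorem D224172 : act 4 n207017 = n224172 := rfl
theorem F523432 : act 2 n224172 = n216493 := d1_1 D224172 F484666 F442983
theorem F523433 : act 3 n224172 = n208811 := d5_1 D224172 (iv4 D208811) D208810 F450973 F446946
theorem F523434 : act 5 n224172 = n208761 := d9_2 (iv5 F442979) D224172 F450744 (iv5 F451508) (iv4 D208946) (iv5 F437795) F437799 (iv5 F442975) (iv4 F516278) F516279 F493367 F493363 (iv4 D208944) (iv5 F437787) F437783
theorem F523435 : act 6 n224172 = n221592 := d10_2 F446945 D224172 F509760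
theorem F523436 : act 7 n224172 = n208820 := d11_2 (iv7 F442978) D224172 F450999
theorem F523437 : act 0 n224172 = n216495 := d17_0 F484674 F492538 (iv5 F523138) (iv4 D224120) F442352 (iv0 D129809) D129812 D207017 D224172
theorem F523438 : act 1 n224172 = n216494 := d18_6 (iv1 F437803) (iv4 D205769) D205767 F437783 (iv5 F442979) D224172 F484670 (iv0 F508951) F508950
def n224173 : Q := act 6 n207018
theorem D224173 : act 6 n207018 = n224173 := rfl
theorem F523439 : act 2 n224173 = n207053 := d3_1 D224173 (iv6 D207053) (iv2 F442988)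
theorem F523440 : act 3 n224173 = n207050 := d7_1 D224173 F443118 (iv3 F442985)
theorem F523441 : act 4 n224173 = n223738 := d10_1 D224173 F520992 F452555
theorem F523442 : act 5 n224173 = n207727 := d12_1 D224173 (iv6 F446172) F437648 (iv6 F438366) (iv5 F442984)
theorem F523443 : act 7 n224173 = n207046 := d14_2 F442987 D224173 (iv6 D207046) F208197 F355283
theorem F523444 : act 0 n224173 = n223740 := d21_4 F491251 F438885 (iv5 F442984) D224173 (iv6 F520995) (iv5 F499036) (iv1 D219469) D219470 F499039 (iv1 F491253)
theorem F523445 : act 0 n223739 = n224173 := d19_0 F523442 (iv4 F521973) (iv3 D223912) (iv1 F437384) (iv5 D126581) F93712 F48322 D49336 D106770 D196217 (iv3 F399945) F440428 (iv5 F476824) F476825 D214941 F497773 (iv5 F511396) (iv4 F522972) F522971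
def n224174 : Q := act 1 n207029
theorem D224174 : act 1 n207029 = n224174 := rfl
theorem F523446 : act 1 n224174 = n207038 := d15_1 D224174 (iv7 D207038) (iv2 F443032)
theorem F523447 : act 7 n224174 = n207035 := d15_2 (iv0 F446938) D224174 (iv2 F446936)
theorem F523448 : act 4 n224174 = n208817 := d17_9 F454360 (iv5 F444816) F459897 F465421 (iv4 F522120) (iv5 D223941) F445838 (iv5 F443035) D224174
theorem F523449 : act 5 n224174 = n223902 := d18_9 (iv1 F521922) (iv4 F465593) F465591 F465372 (iv5 F465369) (iv4 F520780) (iv0 D223696) (iv4 F443034) D224174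
theorem F523450 : act 3 n224118 = n224174 := d19_19 (iv1 D224174) F443035 F441908 (iv3 F345898) (iv1 F203541) D132225 F347217 (iv3 F221029) (iv1 F411181) (iv5 D199209) (iv4 D111071) (iv3 F172257) (iv1 F227076) (iv5 F202852) (iv4 F424102) F424101 (iv1 F424083) (iv5 F490747) (iv4 F523124)
theorem F523451 : act 6 n208816 = n224174 := d21_3 F516908 (iv1 F450333) (iv5 F450986) (iv1 D224174) (iv6 D207029) (iv5 D129831) (iv1 F96953) F212264 D207707 F516910
theorem F523452 : act 2 n224174 = n207036 := d3_1 F523451 F511212 (iv2 F511210)
def n224175 : Q := act 7 n207033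
theorem D224175 : act 7 n207033 = n224175 := rfl
theorem F523453 : act 2 n224175 = n222770 := d4_1 D224175 F515992 (iv2 F443056)
theorem F523454 : act 3 n224175 = n222901 := d8_1 D224175 F516665 F466917
theorem F523455 : act 4 n224175 = n212428 := d11_1 D224175 (iv7 F483976) F483973
theorem F523456 : act 5 n224175 = n224168 := d13_1 D224175 F523408 F466912
theorem F523457 : act 6 n224175 = n212372 := d14_1 D224175 F465550 (iv6 D206903) (iv7 F209666) D207033
theorem F523458 : act 1 n224142 = n224175 := d15_1 (iv0 F523274) (iv7 D224175) F443056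
theorem F523459 : act 1 n224175 = n224145 := d15_1 F523458 F523291 (iv2 F523269)
def n224176 : Q := act 7 n207034
theorem D224176 : act 7 n207034 = n224176 := rfl
theorem F523460 : act 2 n224176 = n222080 := d4_1 D224176 F512257 (iv2 F443057)
theorem F523461 : act 4 n224176 = n207038 := d11_1 D224176 (iv7 D207038) (iv4 F443058)
theorem F523462 : act 5 n224176 = n208206 := d13_1 D224176 (iv7 D208206) (iv5 F443059)
theorem F523463 : act 6 n224176 = n220007 := d14_1 D224176 F501619 (iv6 D207885) F212773 D207034
theorem F523464 : act 1 n210699 = n224176 := d15_1 (iv0 F458483) (iv7 D224176) F443057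
theorem F523465 : act 1 n224176 = n223696 := d15_1 F523464 F520784 F511206
def n224177 : Q := act 3 n207035
theorem D224177 : act 3 n207035 = n224177 := rfl
theorem F523466 : act 2 n224177 = n219535 := d0_1 D224177 F499313 (iv2 F421946) (iv3 F446937) F446936
theorem F523467 : act 4 n224177 = n211020 := d5_2 (iv4 F501761) D224177 (iv3 F512265) (iv4 D222081) (iv3 F501756)
theorem F523468 : act 5 n224177 = n212375 := d6_2 F446198 D224177 (iv3 F465572)
theorem F523469 : act 7 n224177 = n224118 := d8_2 F523447 D224177 F523450
theorem F523470 : act 0 n224177 = n220170 := d19_4 (iv1 F465429) D220033 (iv4 F501761) D224177 F502461 F456551 (iv3 D137911) D137909 D210208 F456579 F455457 (iv1 F514931) F514927 F419811 F178068 (iv1 F108286) D71933 D152508 (iv3 F465424)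
theorem F523471 : act 0 n212617 = n224177 := d20_4 (iv4 D69401) D69399 D148129 D212617 (iv3 D224177) F501761 F501758 F493671 (iv3 D212622) (iv1 D148135)
def n224178 : Q := act 5 n207036
theorem D224178 : act 5 n207036 = n224178 := rfl
theorem F523472 : act 2 n224178 = n223902 := d2_1 D224178 (iv5 F523449) F523452
theorem F523473 : act 3 n224178 = n221233 := d6_1 D224178 F507867 (iv3 F443190)
theorem F523474 : act 4 n224178 = n221234 := d9_1 D224178 F507873 F437809 D208871 F451192 D220033 (iv4 F501761) (iv5 F446198) F515938 F515936 F437813 D208869 F451178 D220032 F501754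
theorem F523475 : act 7 n224178 = n223948 := d13_2 (iv7 F446940) D224178 F522163
theorem F523476 : act 0 n224178 = n223996 := d17_2 (iv1 F443060) D224178 F522434 F515787 D223320 F518841 F516426 (iv0 F512258) F512255
theorem F523477 : act 1 n224178 = n223936 := d17_6 (iv1 F465434) F367566 D192694 D220032 F501754 D224178 F522095 F523321 F523317
theorem F523478 : act 6 n224178 = n223894 := d21_3 D206842 (iv1 F443060) D224178 (iv1 D223894) (iv6 D205626) D205625 F437266 F380832 D205609 F442354
def n224179 : Q := act 3 n207041
theorem D224179 : act 3 n207041 = n224179 := rfl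
theorem F523479 : act 4 n224179 = n216391 := d5_2 (iv4 F443080) D224179 (iv3 F499117) F499118 F446229
theorem F523480 : act 5 n224179 = n222464 := d6_2 (iv5 F443079) D224179 F514349
theorem F523481 : act 7 n224179 = n216388 := d8_2 F443083 D224179 F484131
theorem F523482 : act 0 n222754 = n224179 := d20_4 F446452 (iv1 D200979) (iv4 F418598) (iv3 F515900) (iv3 D224179) F443080 (iv1 F437426) (iv4 F522004) F522003 (iv1 F465647)
def n224180 : Q := act 1 n207046
theorem D224180 : act 1 n207046 = n224180 := rfl
theorem F523483 : act 1 n224180 = n207053 := d15_1 D224180 F443136 (iv2 F443109)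
theorem F523484 : act 7 n224180 = n223739 := d15_2 F522904 D224180 (iv2 F522900)
theorem F523485 : act 5 n224180 = n223942 := d17_7 (iv1 F523236) (iv5 D224136) (iv1 D206866) D206867 F446781 (iv5 F446783) D224180 F522123 (iv4 F466977)
theorem F523486 : act 4 n224180 = n220138 := d17_9 (iv1 D220138) (iv5 F453596) F487506 F487504 F388490 (iv5 F361173) D207863 (iv5 F446783) D224180
theorem F523487 : act 3 n224156 = n224180 := d19_19 (iv1 D224180) F446783 (iv4 F446781) F442453 (iv1 F437366) (iv5 F437365) F203606 F99065 (iv1 F78039) (iv5 F163703) (iv4 F172322) (iv3 F407008) (iv1 F498009) (iv5 D219264) (iv4 F477513) (iv3 F477519) F495618 (iv5 F511463) (iv4 F523346)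
theorem F523488 : act 6 n207048 = n224180 := d21_3 F523170 F490007 F490008 (iv1 D224180) (iv6 D207046) F208196 D132221 (iv5 F421992) (iv6 F502377) F523173
theorem F523489 : act 2 n224180 = n223740 := d3_1 F523488 (iv6 F520995) F453475
def n224181 : Q := act 2 n207059
theorem D224181 : act 2 n207059 = n224181 := rfl
theorem F523490 : act 3 n224181 = n216167 := d0_2 D207059 D224181 F483268 F442009 F208201
theorem F523491 : act 4 n224181 = n220611 := d1_2 F448038 D224181 F504620
theorem F523492 : act 5 n224181 = n219058 := d2_2 (iv5 F443148) D224181 F496950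
theorem F523493 : act 6 n224181 = n221005 := d3_2 F519966 D224181 (iv2 F519964)
theorem F523494 : act 7 n224181 = n224097 := d4_2 (iv7 F443149) D224181 F523006
theorem F523495 : act 1 n224181 = n224098 := d15_0 (iv0 D224098) (iv7 F443149) D224181
theorem F523496 : act 1 n222765 = n224181 := d15_0 F523495 F523017 (iv2 F515958)
def n224182 : Q := act 1 n207060
theorem D224182 : act 1 n207060 = n224182 := rfl
theorem F523497 : act 1 n224182 = n215156 := d15_1 D224182 F478612 (iv2 F443150)
theorem F523498 : act 7 n224182 = n215154 := d15_2 F464202 D224182 F478598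
theorem F523499 : act 4 n224182 = n207139 := d18_7 F346974 F337663 (iv1 D151938) (iv4 F228253) D212064 (iv4 F464201) D224182 F443486 F350906
theorem F523500 : act 5 n224182 = n224167 := d18_9 (iv1 F523403) F443031 F439518 D218918 (iv5 F523038) F523039 F474652 (iv4 F464201) D224182
theorem F523501 : act 6 n207702 = n224182 := d21_3 (iv5 D206898) D206896 F446073 (iv1 D224182) (iv6 D207060) F208200 (iv1 D126480) D126481 F345886 F442548
theorem F523502 : act 2 n224182 = n207137 := d3_1 F523501 F443474 F446070
def n224183 : Q := act 5 n207060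
theorem D224183 : act 5 n207060 = n224183 := rfl
theorem F523503 : act 2 n224183 = n224017 := d2_1 D224183 F522557 (iv2 F443150)
theorem F523504 : act 3 n224183 = n221196 := d6_1 D224183 (iv5 F519967) F519965
theorem F523505 : act 4 n224183 = n218701 := d9_1 D224183 F495225 F378322 F252622 (iv4 F444770) (iv5 F469202) (iv4 F478608) F478609 (iv4 D212777) (iv5 D149277) (iv4 F230854) F230855 (iv4 F228253) D212064 (iv4 F464201)
theorem F523506 : act 6 n224183 = n207132 := d12_2 D207060 D224183 F443462 (iv6 D205618) (iv5 F208200)
theorem F523507 : act 7 n224183 = n218700 := d13_2 (iv7 F443151) D224183 F495222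
theorem F523508 : act 0 n224183 = n207131 := d17_2 (iv1 D224182) D224183 (iv5 D207131) F209064 (iv5 F307534) (iv0 F316719) D131389 F443487 (iv4 F523499)
def n224184 : Q := act 2 n207062
theorem D224184 : act 2 n207062 = n224184 := rfl
theorem F523509 : act 3 n224184 = n219541 := d0_2 D207062 D224184 (iv2 F506834) F506835 F396511
theorem F523510 : act 4 n224184 = n208411 := d1_2 (iv4 F443157) D224184 F449235
theorem F523511 : act 5 n224184 = n207676 := d2_2 (iv5 F443166) D224184 F445965
theorem F523512 : act 6 n224184 = n220943 := d3_2 F446959 D224184 F506404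
theorem F523513 : act 7 n224184 = n208398 := d4_2 (iv7 F443158) D224184 F449190
theorem F523514 : act 1 n224184 = n207947 := d15_0 (iv0 F447106) (iv7 F443158) D224184
theorem F523515 : act 1 n208402 = n224184 := d15_0 F523514 F521985 F521979
def n224185 : Q := act 0 n207068
theorem D224185 : act 0 n207068 = n224185 := rfl
theorem F523516 : act 5 n224185 = n222918 := d17_1 D224185 (iv1 F516769) (iv5 D217676) F371321 F348912 (iv0 D112593) (iv5 F326082) F212840 (iv4 F443183)
theorem F523517 : act 4 n224185 = n210308 := d18_3 D132594 (iv4 F443183) D224185 F456939 (iv4 F348883) (iv0 D97110) (iv4 F149847) (iv0 F336920) (iv5 D132596)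
theorem F523518 : act 3 n224185 = n207918 := d20_5 (iv4 D222253) (iv1 D198930) D198931 (iv3 F443182) D224185 F446987 F367705 (iv4 F442526) F442523 (iv1 F513172)
theorem F523519 : act 6 n224185 = n216384 := d21_5 (iv5 D195262) F173088 D129859 D207068 D224185 (iv5 F522005) (iv1 F522007) (iv5 D206800) (iv6 F361185) (iv1 F396510)
theorem F523520 : act 2 n207928 = n224185 := d15_3 (iv0 D224185) (iv0 F443198) (iv7 F447031)
theorem F523521 : act 1 n207927 = n224185 := d15_0 (iv0 D224185) (iv7 F443184) (iv2 F447026)
theorem F523522 : act 7 n224185 = n207922 := d15_2 (iv0 F447029) F523521 F447001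
def n224186 : Q := act 6 n207070
theorem D224186 : act 6 n207070 = n224186 := rfl
theorem F523523 : act 2 n224186 = n217944 := d3_1 D224186 F491368 (iv2 F443191)
theorem F523524 : act 3 n224186 = n217568 := d7_1 D224186 F489539 (iv3 F443192)
theorem F523525 : act 4 n224186 = n217943 := d10_1 D224186 F491365 F467257
theorem F523526 : act 5 n224186 = n217567 := d12_1 D224186 F489535 F443199 (iv6 D207071) D207070
theorem F523527 : act 7 n224186 = n217838 := d14_2 (iv7 F443193) D224186 (iv6 F514020) F514021 (iv6 D207988)
theorem F523528 : act 0 n224186 = n217698 := d21_4 (iv5 D129869) D129866 D207070 D224186 F490185 F421640 F475092 (iv5 D214417) F446388 (iv1 F384541)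
theorem F523529 : act 0 n220008 = n224186 := d21_4 D191867 D219630 F499755 (iv6 F501624) (iv6 D224186) (iv5 D207070) (iv1 F208216) D129876 F403371 (iv1 D191866)
def n224187 : Q := act 6 n207075
theorem D224187 : act 6 n207075 = n224187 := rfl
theorem F523530 : act 2 n224187 = n223897 := d3_1 D224187 F521894 F446189
theorem F523531 : act 3 n224187 = n219512 := d7_1 D224187 (iv6 D219512) (iv3 F443209)
theorem F523532 : act 4 n224187 = n223893 := d10_1 D224187 F521873 (iv4 F443210)
theorem F523533 : act 5 n224187 = n223366 := d12_1 D224187 (iv6 D223366) (iv5 F439225) (iv6 F439227) D207075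
theorem F523534 : act 7 n224187 = n223900 := d14_2 F446196 D224187 F521912 (iv7 F515935) F515939
theorem F523535 : act 0 n224187 = n209335 := d21_4 F443203 (iv1 F443205) D207075 D224187 F453291 (iv5 D136321) (iv1 F175226) D132260 (iv6 F446178) F446181
theorem F523536 : act 0 n222921 = n224187 := d21_4 D223881 F521812 F467651 (iv6 F516781) (iv6 D224187) (iv5 D207075) D207074 (iv5 F521968) (iv6 D223911) F437376
def n224188 : Q := act 4 n207132
theorem D224188 : act 4 n207132 = n224188 := rfl
theorem F523537 : act 2 n224188 = n224018 := d1_1 D224188 F522561 F443464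
theorem F523538 : act 5 n224188 = n224018 := d9_2 (iv5 F443462) D224188 F522561 (iv5 D206742) (iv4 F217847) (iv5 F407068) F407067 (iv5 F443467) (iv4 F495237) F488818 (iv4 F495240) F447423 F443468 F219399 (iv4 F437244)
theorem F523539 : act 6 n224188 = n218701 := d10_2 F523506 D224188 (iv4 F523505)
theorem F523540 : act 7 n224188 = n217346 := d11_2 F447426 D224188 (iv4 F495240)
theorem F523541 : act 0 n224188 = n218940 := d17_0 (iv5 F522076) F522077 (iv5 F447068) (iv4 D207936) (iv5 D132655) (iv0 F203678) D205813 F443463 D224188
theorem F523542 : act 1 n224188 = n217367 := d18_6 F441863 F441860 F217885 (iv4 F437244) (iv5 F443462) D224188 F495747 (iv0 F514787) (iv5 D222537)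
def n224189 : Q := act 0 n207134
theorem D224189 : act 0 n207134 = n224189 := rfl
theorem F523543 : act 5 n224189 = n224105 := d17_1 D224189 F523055 (iv5 F497245) F497244 F442734 F437503 (iv5 F443462) (iv0 D207132) D207134
theorem F523544 : act 4 n224189 = n222249 := d18_1 D224189 F513153 F495745 (iv5 F522254) (iv4 D223965) (iv0 D205809) D205811 D223970 F522282
theorem F523545 : act 1 n219122 = n224189 := d15_0 (iv0 D224189) (iv7 F447427) (iv2 F497293)
theorem F523546 : act 6 n212774 = n224189 := d21_3 (iv5 D215022) F362084 (iv5 F467450) (iv1 F523545) F497295 F463066 (iv1 F463025) (iv5 F522219) F522217 (iv1 F477940)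
theorem F523547 : act 2 n224189 = n224105 := d3_1 F523546 F523054 F512961
def n224190 : Q := act 1 n207134
theorem D224190 : act 1 n207134 = n224190 := rfl
theorem F523548 : act 1 n224190 = n219122 := d15_1 D224190 (iv7 F498109) F498107
theorem F523549 : act 7 n224190 = n224105 := d15_2 (iv0 D224189) D224190 (iv2 F523547)
theorem F523550 : act 4 n224190 = n207752 := d17_9 F446241 (iv5 D205806) (iv1 F203668) D132176 D207641 F445809 D223970 F522282 D224190
theorem F523551 : act 3 n219150 = n224190 := d20_3 (iv4 F512522) (iv1 F512525) (iv4 F497441) (iv1 D224190) (iv3 F495533) (iv4 D218761) (iv1 D190036) D190037 D218762 (iv1 F495543)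
theorem F523552 : act 6 n224190 = n217344 := d7_2 D219150 F523551 F488540
def n224191 : Q := act 6 n207134
theorem D224191 : act 6 n207134 = n224191 := rfl
theorem F523553 : act 3 n224191 = n208184 := d7_1 D224191 (iv6 F495535) F495533
theorem F523554 : act 4 n224191 = n207135 := d10_1 D224191 (iv6 D207135) D207134
theorem F523555 : act 5 n224191 = n208183 := d21_6 (iv5 D214549) F369550 D217344 (iv6 F523552) (iv1 D224190) D224191 F448280 D215701 F497230 (iv1 F497228)
theorem F523556 : act 0 n222149 = n224191 := d17_2 (iv1 F494908) (iv5 F512601) F523555 F448279 F413844 (iv0 F414582) (iv5 F482204) (iv0 F482205) F481138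
theorem F523557 : act 1 n215671 = n224191 := d17_6 (iv1 F382068) (iv5 D176827) (iv1 D84300) D84302 D176833 D215671 F523555 F463047 F463044
def n224192 : Q := act 0 n207135
theorem D224192 : act 0 n207135 = n224192 := rfl
theorem F523558 : act 5 n224192 = n222827 := d17_3 F498771 F454324 D224192 F516304 (iv5 F482893) (iv0 F482897) (iv5 F512196) (iv0 F512197) (iv4 F498769)
theorem F523559 : act 3 n222829 = n224192 := d6_3 F523558 F516303 D222829
theorem F523560 : act 6 n218086 = n224192 := d12_0 F523558 (iv6 D222827) (iv5 F421646) (iv6 F421649) D218086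
def n224193 : Q := act 1 n207135
theorem D224193 : act 1 n207135 = n224193 := rfl
theorem F523561 : act 4 n224193 = n215065 := d18_7 (iv1 F495303) F496628 (iv1 F496627) (iv4 F448279) (iv5 F523555) F523554 D224193 (iv0 F496428) (iv5 D218966)
theorem F523562 : act 6 n215064 = n224193 := d10_0 F523561 (iv6 D215065) D215064
def n224194 : Q := act 7 n207135
theorem D224194 : act 7 n207135 = n224194 := rfl
def n224195 : Q := act 3 n207136
theorem D224195 : act 3 n207136 = n224195 := rfl
theorem F523563 : act 2 n224195 = n224056 := d0_1 D224195 F522772 F499197 F420868 F443470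
theorem F523564 : act 4 n224195 = n207497 := d5_2 (iv4 F443468) D224195 F445144 F211257 (iv3 F219398)
theorem F523565 : act 5 n224195 = n221873 := d6_2 F447423 D224195 F511171
theorem F523566 : act 6 n224195 = n207496 := d7_2 (iv6 F443469) D224195 F445140
theorem F523567 : act 7 n224195 = n223888 := d8_2 (iv7 F443472) D224195 F521843
theorem F523568 : act 0 n224195 = n221335 := d20_4 F445910 F219402 (iv4 F443468) D224195 F508440 (iv4 D221276) (iv1 F398471) D215036 F478008 F445914
theorem F523569 : act 0 n221337 = n224195 := d20_4 F515727 (iv1 F436997) (iv4 F515521) F515520 (iv3 D224195) F443468 F219401 (iv4 F446234) F446239 D222717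
def n224196 : Q := act 5 n207137
theorem D224196 : act 5 n207137 = n224196 := rfl
theorem F523570 : act 2 n224196 = n224167 := d2_1 D224196 (iv5 F523500) F523502
theorem F523571 : act 3 n224196 = n207138 := d6_1 D224196 (iv5 D207138) D207137
theorem F523572 : act 6 n224196 = n209140 := d12_2 (iv6 F443474) D224196 (iv5 F507787) (iv6 F523063) (iv5 D224106)
theorem F523573 : act 7 n224196 = n215157 := d13_2 (iv7 F443475) D224196 (iv5 D215157)
theorem F523574 : act 4 n224196 = n212769 := d16_2 (iv4 F443473) D224196 (iv5 D212769) F362060 (iv5 F334996) (iv4 F303002) D167342 (iv7 F443485) (iv2 D207139)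
theorem F523575 : act 0 n224196 = n207879 := d17_2 F443476 D224196 (iv5 D207879) (iv4 F446845) F446846 F249653 D158464 (iv0 F420358) (iv4 F441999)
theorem F523576 : act 1 n224196 = n207938 := d17_6 F326066 (iv5 F320709) (iv1 F340790) (iv5 F306850) (iv4 F443473) D224196 (iv5 D207938) F446852 F446850
def n224197 : Q := act 6 n207138
theorem D224197 : act 6 n207138 = n224197 := rfl
theorem F523577 : act 2 n224197 = n224162 := d3_1 D224197 (iv6 D224162) (iv2 F443478)
theorem F523578 : act 3 n224197 = n209140 := d7_1 D224197 (iv6 F523572) F523571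
theorem F523579 : act 4 n224197 = n222598 := d10_1 D224197 (iv6 F522273) F522272
theorem F523580 : act 5 n224197 = n224107 := d12_1 D224197 (iv6 D224107) (iv5 D206768) (iv6 F209065) D207138
theorem F523581 : act 0 n224165 = n224197 := d21_4 (iv5 F522150) (iv1 D223946) F488832 (iv6 F523394) (iv6 D224197) (iv5 D207138) D207136 (iv5 F447423) (iv6 F495236) (iv1 F495560)
theorem F523582 : act 7 n223299 = n224197 := d11_0 F523579 F515109 D223299
def n224198 : Q := act 5 n207165
theorem D224198 : act 5 n207165 = n224198 := rfl
theorem F523583 : act 2 n224198 = n211778 := d2_1 D224198 (iv5 D211778) (iv2 F443599)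
theorem F523584 : act 3 n224198 = n211976 := d6_1 D224198 (iv5 D211976) (iv3 F443600)
theorem F523585 : act 6 n224198 = n218882 := d12_2 D207165 D224198 (iv5 D218882) F379091 (iv5 F245141)
theorem F523586 : act 7 n224198 = n211780 := d13_2 F443606 D224198 (iv5 D211780)
theorem F523587 : act 4 n224198 = n224111 := d18_5 F496999 (iv4 F514848) F514849 F473280 D224198 F523090 F495983 D218875 (iv5 F495990)
theorem F523588 : act 0 n224198 = n222607 := d21_1 D224198 F515147 (iv6 D221180) F397289 F336227 D128569 (iv1 F365097) (iv5 D144083) D144084 F443601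
theorem F523589 : act 0 n219112 = n224198 := d21_10 (iv5 D224198) F443605 (iv5 F463066) (iv6 F497295) (iv1 F523548) F523552 (iv5 D217344) F369549 D190827 D219112
def n224199 : Q := act 6 n207167
theorem D224199 : act 6 n207167 = n224199 := rfl
theorem F523590 : act 2 n224199 = n211760 := d3_1 D224199 F462990 F443620
theorem F523591 : act 3 n224199 = n215928 := d7_1 D224199 (iv6 D215928) F443621
theorem F523592 : act 4 n224199 = n211836 := d10_1 D224199 F463241 (iv4 F443618)
theorem F523593 : act 7 n224199 = n211761 := d14_2 (iv7 F443617) D224199 F467431 F456251 (iv6 F390700)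
theorem F523594 : act 0 n224199 = n211763 := d21_4 F400977 (iv1 F415911) (iv5 F443619) D224199 F462994 (iv5 F517228) (iv1 F517229) (iv5 F481729) (iv6 D200300) (iv1 F245314)
theorem F523595 : act 0 n211759 = n224199 := d21_4 (iv5 F330555) D202203 F423228 D211759 (iv6 D224199) F443619 (iv1 D200303) (iv5 D112966) (iv6 F95022) D128560
def n224200 : Q := act 5 n207225
theorem D224200 : act 5 n207225 = n224200 := rfl
theorem F523596 : act 2 n224200 = n207227 := d2_1 D224200 (iv5 D207227) (iv2 F443887)
theorem F523597 : act 3 n224200 = n218614 := d6_1 D224200 (iv5 D218614) (iv3 F443888)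
theorem F523598 : act 6 n224200 = n214744 := d12_2 D207225 D224200 F476624 F385773 F329300
theorem F523599 : act 7 n224200 = n224024 := d13_2 F481007 D224200 F522590
theorem F523600 : act 4 n224200 = n218835 := d16_2 F486701 D224200 F495846 (iv4 F494147) (iv5 F494149) (iv4 F494597) F494598 (iv7 F443870) (iv2 F486699)
theorem F523601 : act 0 n224200 = n218116 := d17_2 (iv1 F498364) D224200 (iv5 D218116) (iv4 D188520) D188521 (iv0 F376491) (iv5 F488481) F488477 (iv4 F498361)
theorem F523602 : act 1 n224200 = n218118 := d17_6 (iv1 F372513) (iv5 F379820) F493846 F493843 F486701 D224200 (iv5 D218118) F416120 F416117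
def n224201 : Q := act 0 n207227
theorem D224201 : act 0 n207227 = n224201 := rfl
theorem F523603 : act 5 n224201 = n215648 := d17_1 D224201 (iv1 F480951) F468511 (iv4 F477284) (iv5 F515165) (iv0 F515168) (iv5 F506295) (iv0 D220924) F443896
theorem F523604 : act 6 n224201 = n220836 := d21_5 F488781 (iv1 F385766) (iv5 F390664) (iv6 F443895) D224201 F505805 F463755 (iv5 F474450) F474451 (iv1 F488779)
theorem F523605 : act 2 n218116 = n224201 := d15_3 (iv0 D224201) (iv0 F480959) (iv7 F492209)
theorem F523606 : act 7 n224201 = n218118 := d4_2 (iv7 F492209) F523605 F492216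
theorem F523607 : act 1 n224024 = n224201 := d15_1 (iv0 F522591) F523606 F492216
def n224202 : Q := act 7 n207227
theorem D224202 : act 7 n207227 = n224202 := rfl
theorem F523608 : act 2 n224202 = n224024 := d4_1 D224202 (iv7 F523599) F523596
theorem F523609 : act 3 n224202 = n207236 := d8_1 D224202 (iv7 D207236) (iv3 F443894)
theorem F523610 : act 4 n224202 = n217404 := d11_1 D224202 F488752 F443896
theorem F523611 : act 5 n224202 = n207228 := d13_1 D224202 (iv7 D207228) D207227
theorem F523612 : act 6 n224202 = n217173 := d14_1 D224202 (iv7 D217173) F368523 D193677 (iv6 F443895)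
theorem F523613 : act 1 n218118 = n224202 := d15_1 F523602 (iv7 D224202) (iv2 F523596)
theorem F523614 : act 1 n224202 = n218116 := d15_1 F523613 F492209 (iv2 F492216)
def n224203 : Q := act 5 n207229
theorem D224203 : act 5 n207229 = n224203 := rfl
theorem F523615 : act 3 n224203 = n207230 := d6_1 D224203 (iv5 D207230) D207229
theorem F523616 : act 6 n224203 = n214552 := d12_2 (iv6 F443902) D224203 F475752 F394920 F393035
theorem F523617 : act 0 n224203 = n219316 := d17_2 F443903 D224203 (iv5 D219316) (iv4 D191148) F294039 F138333 F291953 F177430 D190210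
theorem F523618 : act 1 n224203 = n219314 := d17_6 F381196 F379917 (iv1 F373596) (iv5 F379879) (iv4 F443901) D224203 (iv5 D219314) F425622 F425620
def n224204 : Q := act 1 n207230
theorem D224204 : act 1 n207230 = n224204 := rfl
theorem F523619 : act 1 n224204 = n207232 := d15_1 D224204 F443909 (iv2 F443904)
theorem F523620 : act 7 n224204 = n214864 := d15_2 F497818 D224204 (iv2 F497812)
theorem F523621 : act 5 n224204 = n211722 := d17_7 (iv1 F418427) (iv5 D200933) F418411 (iv5 D200369) F365039 D207230 D224204 (iv0 D211722) F397830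
theorem F523622 : act 4 n224204 = n214726 := d17_9 F476559 (iv5 D166681) D166678 (iv5 F477207) F477208 F447826 F214436 D207230 D224204
theorem F523623 : act 6 n211789 = n224204 := d21_3 (iv5 F522731) (iv1 D224049) F463077 (iv1 D224204) F443905 F251859 (iv1 D104702) D104704 D194900 D220919
theorem F523624 : act 2 n224204 = n218766 := d3_1 F523623 F518673 F518672
theorem F523625 : act 3 n224204 = n214866 := d7_1 F523623 (iv6 F477285) F477283
def n224205 : Q := act 3 n207233
theorem D224205 : act 3 n207233 = n224205 := rfl
theorem F523626 : act 2 n224205 = n223296 := d0_1 D224205 F518692 F425647 F447822 (iv2 F462827)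
theorem F523627 : act 5 n224205 = n218985 := d6_2 F462825 D224205 F496537
theorem F523628 : act 6 n224205 = n222601 := d7_2 F462844 D224205 F515118
theorem F523629 : act 0 n224205 = n222162 := d21_4 (iv5 D222129) F425614 (iv5 F515117) (iv6 F523628) F512665 (iv5 D206190) (iv1 F346187) D215012 (iv6 F515004) F515006
theorem F523630 : act 1 n224205 = n218882 := d15_1 (iv0 F523629) (iv7 F498235) (iv2 F512663)
def n224206 : Q := act 4 n207233
theorem D224206 : act 4 n207233 = n224206 := rfl
theorem F523631 : act 2 n224206 = n219108 := d1_1 D224206 F497221 (iv2 F462827)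
theorem F523632 : act 5 n224206 = n215060 := d9_2 F462825 D224206 F478140 F415207 (iv4 F365045) (iv5 F416103) (iv4 F462864) F462865 F462830 (iv5 F394521) F418166 F417224 (iv4 F396124) D195867 (iv4 F462823)
theorem F523633 : act 6 n224206 = n219117 := d10_2 F462844 D224206 F497266
theorem F523634 : act 7 n224206 = n218125 := d11_2 (iv7 F462828) D224206 F492246
theorem F523635 : act 0 n224206 = n219107 := d17_0 F497217 F476468 (iv5 F515022) F515021 (iv5 D207232) F214435 (iv5 F447826) F447829 D224206
theorem F523636 : act 1 n224206 = n219106 := d18_6 (iv1 F516720) F516723 F447912 (iv4 F462823) F462825 D224206 F497212 (iv0 F448305) F448304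
theorem F523637 : act 3 n215061 = n224206 := d20_5 (iv4 F512625) (iv1 F512627) (iv4 D198502) D198501 (iv1 F478144) (iv4 D224206) (iv1 F447829) (iv4 F477208) (iv3 F477212) (iv1 F488578)
def n224207 : Q := act 4 n207246
theorem D224207 : act 4 n207246 = n224207 := rfl
theorem F523638 : act 2 n224207 = n222860 := d1_1 D224207 F516462 (iv2 F443948)
theorem F523639 : act 6 n224207 = n222848 := d10_2 (iv6 F443950) D224207 (iv4 D222848)
theorem F523640 : act 7 n224207 = n220039 := d11_2 F451912 D224207 F501795
theorem F523641 : act 5 n224207 = n212342 := d16_1 D224207 F465402 (iv5 D207079) (iv4 F442754) (iv5 F447079) (iv4 F451895) F452034 F452033 (iv2 F443948)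
theorem F523642 : act 0 n224207 = n222735 := d17_0 F515814 (iv1 F492328) F492325 F469018 F419031 F218141 (iv5 F451990) (iv0 F451991) D224207
theorem F523643 : act 1 n224207 = n207362 := d18_6 F451774 F442543 (iv1 D206897) (iv4 F209219) D207246 D224207 (iv4 D207362) D207361 (iv5 F451775)
def n224208 : Q := act 4 n207248
theorem D224208 : act 4 n207248 = n224208 := rfl
theorem F523644 : act 2 n224208 = n209595 := d1_1 D224208 F454272 (iv2 F443955)
theorem F523645 : act 3 n224208 = n210522 := d5_1 D224208 F490601 (iv3 F490600) F474182 (iv3 F443956)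
theorem F523646 : act 5 n224208 = n220435 := d9_2 D207248 D224208 (iv4 D220435) F390640 (iv4 F441152) (iv5 D206513) (iv4 F214589) D207250 (iv4 F491104) (iv5 F503782) (iv4 D220438) F390646 (iv4 F328414) F328415 (iv4 F209220)
theorem F523647 : act 6 n224208 = n210517 := d10_2 (iv6 F443957) D224208 F457890
theorem F523648 : act 7 n224208 = n209594 := d11_2 (iv7 F443958) D224208 F454266
theorem F523649 : act 0 n224208 = n208873 := d17_0 (iv5 F454700) F454702 F452726 F452356 F218383 (iv0 F100273) D135570 (iv0 F443959) D224208
theorem F523650 : act 1 n224208 = n208875 := d18_6 F214601 F97715 F206980 (iv4 F209220) D207248 D224208 (iv4 D208875) (iv0 F372327) F372326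
def n224209 : Q := act 5 n207289
theorem D224209 : act 5 n207289 = n224209 := rfl
theorem F523651 : act 2 n224209 = n216757 := d2_1 D224209 (iv5 F485809) (iv2 F444170)
theorem F523652 : act 3 n224209 = n207293 := d6_1 D224209 (iv5 D207293) (iv3 F444171)
theorem F523653 : act 6 n224209 = n207290 := d12_2 D207289 D224209 (iv5 D207290) (iv6 D130721) D130720
theorem F523654 : act 7 n224209 = n216756 := d13_2 F454626 D224209 F485801
theorem F523655 : act 4 n224209 = n223516 := d16_2 (iv4 F444172) D224209 (iv5 D223516) (iv4 F446863) F446874 (iv4 F387516) F387514 F370719 D187884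
theorem F523656 : act 0 n224209 = n216326 := d17_2 F444173 D224209 F483852 (iv4 F482472) F387672 (iv0 D188053) (iv5 F372040) (iv0 F372041) (iv4 F439775)
theorem F523657 : act 1 n224209 = n216758 := d17_6 F439856 (iv5 F501762) (iv1 F501766) F429732 (iv4 F444172) D224209 F485813 F420111 (iv4 F370764)
def n224210 : Q := act 4 n207293
theorem D224210 : act 4 n207293 = n224210 := rfl
theorem F523658 : act 3 n224210 = n223518 := d5_1 D224210 (iv4 D223518) (iv3 F519851) (iv4 F523655) F523652
theorem F523659 : act 6 n224210 = n207297 := d10_2 (iv6 F444189) D224210 (iv4 D207297)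
theorem F523660 : act 5 n224210 = n222114 := d16_1 D224210 (iv4 D222114) (iv5 D198395) F169284 D126162 D205497 (iv5 F520089) F520092 F449365
theorem F523661 : act 0 n224210 = n220520 := d18_2 F482456 D224210 F504158 F391189 (iv4 F407568) (iv0 D198311) F343152 F279926 D215990
def n224211 : Q := act 3 n207322
theorem D224211 : act 3 n207322 = n224211 := rfl
theorem F523662 : act 4 n224211 = n220164 := d5_2 D207322 D224211 F502441 F388570 (iv3 F350363)
theorem F523663 : act 5 n224211 = n211420 := d6_2 (iv5 F444336) D224211 F461476
theorem F523664 : act 6 n224211 = n210437 := d7_2 (iv6 F444335) D224211 (iv3 D210437)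
theorem F523665 : act 0 n224211 = n212110 := d20_4 F449455 (iv1 F216354) D207322 D224211 F464359 (iv4 D191850) (iv1 F367067) D216902 F486480 (iv1 F449458)
theorem F523666 : act 0 n212110 = n224211 := d20_4 F471840 (iv1 F367125) D191850 (iv3 F464359) (iv3 D224211) (iv4 D207322) (iv1 F216060) D208279 (iv3 F491642) F491644
def n224212 : Q := act 4 n207327
theorem D224212 : act 4 n207327 = n224212 := rfl
theorem F523667 : act 2 n224212 = n213636 := d1_1 D224212 (iv4 D213636) (iv2 F444363)
theorem F523668 : act 6 n224212 = n217873 := d10_2 F485870 D224212 F491032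
theorem F523669 : act 7 n224212 = n212728 := d11_2 (iv7 F444365) D224212 (iv4 D212728)
theorem F523670 : act 0 n224212 = n223515 := d18_2 F500896 D224212 (iv4 D223515) (iv5 D203759) (iv4 F381140) (iv0 F428405) (iv4 F467312) F467313 D219852
theorem F523671 : act 1 n224212 = n223649 := d18_6 D123509 F348254 F209432 (iv4 F209451) D207327 D224212 (iv4 D223649) (iv0 D204315) (iv5 D123511)
def n224213 : Q := act 5 n207330
theorem D224213 : act 5 n207330 = n224213 := rfl
theorem F523672 : act 2 n224213 = n223481 := d2_1 D224213 F519677 (iv2 F444377)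
theorem F523673 : act 3 n224213 = n219973 := d6_1 D224213 F501455 F458947
theorem F523674 : act 6 n224213 = n208201 := d12_2 D207330 D224213 (iv5 D208201) (iv6 D133672) (iv5 F209464)
theorem F523675 : act 7 n224213 = n213760 := d13_2 (iv7 F444379) D224213 (iv5 D213760)
theorem F523676 : act 4 n224213 = n223478 := d16_2 (iv4 F444378) D224213 (iv5 D223478) F429077 (iv5 D189173) F235260 D212792 F467536 F388811
theorem F523677 : act 0 n224213 = n217880 := d17_2 (iv1 F444381) D224213 (iv5 D217880) (iv4 D188096) (iv5 D90806) F138963 D187561 (iv0 F370817) D188100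
theorem F523678 : act 1 n224213 = n217663 := d17_6 (iv1 D212061) F228240 F157734 D188617 (iv4 F444378) D224213 (iv5 D217663) D217661 F489983
def n224214 : Q := act 1 n207362
theorem D224214 : act 1 n207362 = n224214 := rfl
theorem F523679 : act 1 n224214 = n222735 := d15_1 D224214 F515815 (iv2 F444518)
theorem F523680 : act 7 n224214 = n222860 := d15_2 F523643 D224214 (iv2 F523638)
theorem F523681 : act 5 n224214 = n212341 := d17_7 F434568 F434567 (iv1 D129706) D129707 D206998 (iv5 F444520) D224214 (iv0 D212341) (iv4 F425527)
theorem F523682 : act 4 n224214 = n209052 := d17_9 (iv1 D209052) (iv5 D135650) (iv1 F363816) (iv5 F420947) (iv4 F475547) (iv5 D214511) (iv0 F442916) (iv5 F444520) D224214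
theorem F523683 : act 3 n217970 = n224214 := d19_19 (iv1 D224214) F444520 (iv4 D206998) (iv3 F212836) F336920 F325473 (iv4 F212552) (iv3 F417396) F417398 D206092 F439216 (iv3 F464312) (iv1 F464314) (iv5 D205123) (iv4 F473670) D220569 F504401 F394272 (iv4 F491482)
theorem F523684 : act 6 n224214 = n213120 := d7_2 D217970 F523683 (iv3 F469091)
theorem F523685 : act 2 n220039 = n224214 := d3_3 F523684 (iv2 F469090) D220039
def n224215 : Q := act 7 n207362
theorem D224215 : act 7 n207362 = n224215 := rfl
theorem F523686 : act 2 n224215 = n222735 := d4_1 D224215 F515815 (iv2 F444518)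
theorem F523687 : act 3 n224215 = n218812 := d8_1 D224215 F495766 F444521
theorem F523688 : act 4 n224215 = n207363 := d11_1 D224215 (iv7 D207363) D207362
theorem F523689 : act 5 n224215 = n218811 := d13_1 D224215 F495760 (iv5 F444520)
theorem F523690 : act 6 n224215 = n209556 := d14_1 D224215 (iv7 F519613) F519612 (iv7 D207370) (iv6 F444519)
theorem F523691 : act 1 n220039 = n224215 := d15_1 (iv0 F501796) (iv7 D224215) F444518
theorem F523692 : act 1 n224215 = n222860 := d15_1 F523691 (iv7 F523680) (iv2 F523685)
def n224216 : Q := act 7 n207372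
theorem D224216 : act 7 n207372 = n224216 := rfl
theorem F523693 : act 2 n224216 = n216161 := d4_1 D224216 F483243 (iv2 F444559)
theorem F523694 : act 3 n224216 = n216365 := d8_1 D224216 (iv7 F516433) F516430
theorem F523695 : act 5 n224216 = n222843 := d13_1 D224216 F516392 (iv5 F444560)
theorem F523696 : act 6 n224216 = n222861 := d14_1 D224216 F516467 (iv6 D202241) (iv7 F209562) D207372
theorem F523697 : act 1 n216360 = n224216 := d15_1 D216360 (iv7 D224216) F444559
theorem F523698 : act 1 n224216 = n216359 := d15_1 F523697 (iv7 F489674) F489677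
def n224217 : Q := act 6 n207375
theorem D224217 : act 6 n207375 = n224217 := rfl
theorem F523699 : act 2 n224217 = n223194 := d3_1 D224217 F518120 F452219
theorem F523700 : act 3 n224217 = n214072 := d7_1 D224217 (iv6 D214072) F444574
theorem F523701 : act 4 n224217 = n221047 := d10_1 D224217 F510785 F510783
theorem F523702 : act 5 n224217 = n213473 := d12_1 D224217 (iv6 F470559) F469520 D210762 F458716
theorem F523703 : act 7 n224217 = n222976 := d14_2 (iv7 F444573) D224217 (iv6 D222976) F422530 D202408
theorem F523704 : act 0 n224217 = n223193 := d21_4 F507272 (iv1 F458718) F458716 D224217 (iv6 F518116) F516970 (iv1 F509436) F425597 D214070 F507274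
theorem F523705 : act 0 n214007 = n224217 := d21_4 D152842 D213225 (iv5 F469490) D214007 (iv6 D224217) (iv5 F458716) (iv1 F458717) F469485 (iv6 D213223) (iv1 D152840)
def n224218 : Q := act 1 n207421
theorem D224218 : act 1 n207421 = n224218 := rfl
theorem F523706 : act 1 n224218 = n209117 := d15_1 D224218 (iv7 F452340) (iv2 F444814)
theorem F523707 : act 7 n224218 = n209165 := d15_2 (iv0 F459897) D224218 (iv2 F459893)
theorem F523708 : act 5 n224218 = n212347 := d17_7 F465419 F465633 (iv1 D212390) D212392 F465642 (iv5 F444816) D224218 (iv0 D212347) (iv4 F465417)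
theorem F523709 : act 4 n224218 = n209000 := d17_9 (iv1 F451780) F432782 (iv1 F217980) F428443 (iv4 F459825) (iv5 F499555) (iv0 D219582) (iv5 F444816) D224218
theorem F523710 : act 3 n209171 = n224218 := d19_19 (iv1 D224218) F444816 (iv4 F465642) F465640 F230260 (iv5 F204697) (iv4 D127378) F94240 F139269 (iv5 D90494) F65408 (iv3 D32020) (iv1 F40275) D52496 D113695 F326342 F446393 (iv5 F506842) F506841
theorem F523711 : act 2 n224218 = n220037 := d0_1 F523710 F501781 F424116 F358544 (iv2 F452562)
theorem F523712 : act 6 n224218 = n209532 := d7_2 (iv6 F452563) F523710 F454062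
def n224219 : Q := act 4 n207436
theorem D224219 : act 4 n207436 = n224219 := rfl
theorem F523713 : act 2 n224219 = n209519 := d1_1 D224219 F454004 (iv2 F444898)
theorem F523714 : act 3 n224219 = n211473 := d5_1 D224219 (iv4 D211473) F361828 (iv4 F384956) (iv3 F444899)
theorem F523715 : act 5 n224219 = n214772 := d9_2 D207436 D224219 (iv4 D214772) (iv5 F364284) (iv4 F236160) (iv5 F381151) F381154 (iv5 D137789) (iv4 F221031) F362494 (iv4 D152633) (iv5 D72007) F52495 (iv5 F96308) (iv4 F210756)
theorem F523716 : act 6 n224219 = n209158 := d10_2 (iv6 F444900) D224219 (iv4 D209158)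
theorem F523717 : act 7 n224219 = n209271 := d11_2 (iv7 F444901) D224219 F452987
theorem F523718 : act 0 n224219 = n210169 := d17_0 (iv5 F478056) F478058 (iv5 F498962) (iv4 D219456) (iv5 D191507) F366233 (iv5 F362505) (iv0 F444902) D224219
theorem F523719 : act 1 n224219 = n210168 := d18_6 (iv1 F351919) F351921 (iv1 D131490) (iv4 F210756) D207436 D224219 F456443 F455886 F455884
def n224220 : Q := act 3 n207438
theorem D224220 : act 3 n207438 = n224220 := rfl
theorem F523720 : act 2 n224220 = n210925 := d0_1 D224220 (iv3 D210925) (iv2 F343491) D192384 (iv2 F444910)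
theorem F523721 : act 4 n224220 = n220362 := d5_2 D207438 D224220 (iv3 D220362) (iv4 D193463) (iv3 F342406)
theorem F523722 : act 5 n224220 = n212066 := d6_2 (iv5 F444912) D224220 F464211
theorem F523723 : act 6 n224220 = n212512 := d7_2 (iv6 F444911) D224220 F466180
theorem F523724 : act 7 n224220 = n219873 := d8_2 F467178 D224220 F500978
theorem F523725 : act 0 n224220 = n218285 := d19_4 F314258 D131500 D207438 D224220 F493110 F479915 F393753 (iv1 F395020) (iv5 D194923) F160483 F358394 (iv1 F326420) (iv5 D109724) F79983 F38660 D24660 F324268 (iv4 F28722) (iv3 F57447)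
theorem F523726 : act 0 n211007 = n224220 := d20_4 F472560 F459736 F459735 (iv3 F459731) (iv3 D224220) (iv4 D207438) D207437 (iv4 F459407) (iv3 F502052) (iv1 F502055)
def n224221 : Q := act 7 n207467
theorem D224221 : act 7 n207467 = n224221 := rfl
theorem F523727 : act 2 n224221 = n207470 := d4_1 D224221 (iv7 D207470) (iv2 F445067)
theorem F523728 : act 3 n224221 = n223842 := d8_1 D224221 F521585 F447882
theorem F523729 : act 4 n224221 = n218221 := d11_1 D224221 F492793 F448066
theorem F523730 : act 5 n224221 = n222040 := d13_1 D224221 F512031 F452102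
theorem F523731 : act 6 n224221 = n221574 := d14_1 D224221 F509663 F401534 F398776 D207467
theorem F523732 : act 1 n207469 = n224221 := d15_1 D207469 (iv7 D224221) F445067
theorem F523733 : act 1 n224221 = n207468 := d15_1 F523732 (iv7 F521800) F521796
def n224222 : Q := act 0 n207479
theorem D224222 : act 0 n207479 = n224222 := rfl
theorem F523734 : act 4 n224222 = n207485 := d18_1 D224222 (iv1 F508703) F508699 (iv5 F495102) (iv4 D218676) F377974 (iv4 F456097) (iv0 F493908) (iv5 F493909)
theorem F523735 : act 3 n224222 = n215647 := d20_5 F382732 (iv1 F416135) (iv4 F493912) F493911 D224222 (iv4 D215647) (iv1 F409367) (iv4 F493701) F493700 (iv1 F376423)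
theorem F523736 : act 1 n207481 = n224222 := d15_0 (iv0 D224222) (iv7 F445333) F445331
theorem F523737 : act 6 n207484 = n224222 := d7_0 F523735 F493934 (iv3 F493933)
theorem F523738 : act 7 n207598 = n224222 := d8_0 F523735 F480946 (iv3 F445625)
def n224223 : Q := act 1 n207479
theorem D224223 : act 1 n207479 = n224223 := rfl
theorem F523739 : act 1 n224223 = n207481 := d15_1 D224223 (iv7 F445335) F445334
theorem F523740 : act 5 n224223 = n222624 := d17_7 F416314 (iv5 F416315) (iv1 F449399) (iv5 F477857) (iv4 F493906) (iv5 F493909) D224223 (iv0 F515237) F505009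
theorem F523741 : act 4 n224223 = n207596 := d17_9 F445619 F399105 F445063 F445060 D207605 F456098 (iv0 F493908) (iv5 F493909) D224223
theorem F523742 : act 2 n207598 = n224223 := d1_3 F523741 F445618 D207598
theorem F523743 : act 6 n219330 = n224223 := d10_0 F523741 F478405 (iv4 F498316)
def n224224 : Q := act 5 n207482
theorem D224224 : act 5 n207482 = n224224 := rfl
theorem F523744 : act 2 n224224 = n207491 := d2_1 D224224 (iv5 D207491) (iv2 F445106)
theorem F523745 : act 3 n224224 = n221318 := d6_1 D224224 F508348 (iv3 F445107)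
theorem F523746 : act 4 n224224 = n208488 := d9_1 D224224 (iv5 D208488) (iv4 D134416) (iv5 F111642) F111641 D106572 D196038 D221329 F508411 (iv5 D216968) F367314 (iv5 F157838) F327935 D131838 D207482
theorem F523747 : act 6 n224224 = n222225 := d12_2 (iv6 F445108) D224224 F513014 (iv6 F494394) (iv5 D207491)
theorem F523748 : act 7 n224224 = n217188 := d13_2 F494317 D224224 F494320
theorem F523749 : act 0 n224224 = n218469 := d17_2 F494306 D224224 F494045 (iv4 F445341) F399105 (iv0 F383794) (iv5 F477395) (iv0 F477399) (iv4 F494304)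
theorem F523750 : act 1 n224224 = n218676 := d17_6 D131944 F362894 (iv1 F163836) D131838 D207482 D224224 F495102 (iv0 D207536) (iv4 D131946)
def n224225 : Q := act 1 n207484
theorem D224225 : act 1 n207484 = n224225 := rfl
theorem F523751 : act 1 n224225 = n207487 := d15_1 D224225 (iv7 F508399) F508397
theorem F523752 : act 7 n224225 = n219306 := d15_2 F445653 D224225 F498228
theorem F523753 : act 4 n224225 = n214911 := d18_7 F422209 F422206 (iv1 F355061) (iv4 D131934) (iv5 F367308) D207484 D224225 (iv0 F477399) F445347
theorem F523754 : act 2 n221375 = n224225 := d1_3 F523753 F477394 D221375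
theorem F523755 : act 6 n221375 = n224225 := d10_0 F523753 F477396 D221375
def n224226 : Q := act 5 n207487
theorem D224226 : act 5 n207487 = n224226 := rfl
theorem F523756 : act 2 n224226 = n217621 := d2_1 D224226 (iv5 F508387) F508384
theorem F523757 : act 3 n224226 = n222608 := d6_1 D224226 F515153 F493952
theorem F523758 : act 4 n224226 = n217185 := d9_1 D224226 (iv5 D217185) (iv4 D186973) F367305 (iv4 D131934) (iv5 F367308) D207484 (iv5 F493980) F493979 F479275 (iv4 D186974) (iv5 F354705) (iv4 D131939) (iv5 F354693) D207487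
theorem F523759 : act 6 n224226 = n218123 := d12_2 (iv6 F515686) D224226 F492239 (iv6 F494136) (iv5 F515683)
theorem F523760 : act 7 n224226 = n220692 := d13_2 F508399 D224226 (iv5 F508398)
def n224227 : Q := act 5 n207489
theorem D224227 : act 5 n207489 = n224227 := rfl
theorem F523761 : act 2 n224227 = n220681 := d2_1 D224227 F504966 F494324
theorem F523762 : act 3 n224227 = n217772 := d6_1 D224227 (iv5 F490544) F445124
theorem F523763 : act 4 n224227 = n219348 := d9_1 D224227 F498405 (iv4 D193989) (iv5 F354692) (iv4 F399298) (iv5 F494312) F494311 D218531 (iv4 F504545) (iv5 D220599) (iv4 D193987) (iv5 F354715) D207515 F445238 (iv4 F445123)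
theorem F523764 : act 6 n224227 = n215301 := d12_2 F445125 D224227 (iv5 F479289) F483096 (iv5 D207538)
theorem F523765 : act 7 n224227 = n218524 := d13_2 F494305 D224227 F494307
theorem F523766 : act 1 n224227 = n207538 := d17_6 F445115 F445114 (iv1 F445239) F445238 (iv4 F445123) D224227 (iv5 D207538) D207537 (iv4 F445341)
def n224228 : Q := act 4 n207494
theorem D224228 : act 4 n207494 = n224228 := rfl
theorem F523767 : act 2 n224228 = n219487 := d1_1 D224228 (iv4 F508257) (iv2 F508260)
theorem F523768 : act 3 n224228 = n222538 := d5_1 D224228 F514790 F487120 (iv4 F417182) F445136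
theorem F523769 : act 5 n224228 = n221014 := d9_2 F496648 D224228 F506806 (iv5 F487293) F487292 (iv5 F499179) (iv4 F515674) F515675 (iv4 F523027) F523028 F506836 F440867 (iv4 F442722) F499185 (iv4 F499184)
theorem F523770 : act 6 n224228 = n222926 := d10_2 F447903 D224228 F516809
theorem F523771 : act 7 n224228 = n219488 := d11_2 (iv7 F447902) D224228 F499133
theorem F523772 : act 0 n224228 = n217051 := d17_0 F487152 (iv1 D208955) D208956 (iv4 F451549) F452110 (iv0 F452109) F439307 D207494 D224228
theorem F523773 : act 1 n224228 = n219489 := d18_6 (iv1 F487135) F487131 (iv1 F499183) (iv4 F499184) F496648 D224228 F499137 F487165 F487163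
def n224229 : Q := act 6 n207502
theorem D224229 : act 6 n207502 = n224229 := rfl
theorem F523774 : act 2 n224229 = n207503 := d3_1 D224229 (iv6 D207503) D207502
theorem F523775 : act 3 n224229 = n222763 := d7_1 D224229 F515950 (iv3 F445168)
theorem F523776 : act 4 n224229 = n207796 := d10_1 D224229 (iv6 D207796) (iv4 F445169)
theorem F523777 : act 5 n224229 = n213552 := d12_1 D224229 (iv6 F516677) F516676 F445573 (iv5 F445170)
theorem F523778 : act 7 n224229 = n223798 := d14_2 (iv7 F445171) D224229 (iv6 F521339) (iv7 F446473) F446472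
theorem F523779 : act 0 n224229 = n213146 := d21_4 (iv5 F436982) (iv1 F441540) (iv5 F445170) D224229 F469197 F434022 (iv1 F377711) (iv5 F377714) (iv6 F213123) (iv1 F365893)
theorem F523780 : act 0 n223751 = n224229 := d21_4 (iv5 D124610) (iv1 F297507) D204658 D223751 (iv6 D224229) F445170 (iv1 F441539) (iv5 D186813) (iv6 F361253) F299823
def n224230 : Q := act 6 n207514
theorem D224230 : act 6 n207514 = n224230 := rfl
theorem F523781 : act 2 n224230 = n210226 := d3_1 D224230 F456649 (iv2 F445231)
theorem F523782 : act 3 n224230 = n207516 := d7_1 D224230 (iv6 D207516) D207514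
theorem F523783 : act 4 n224230 = n207558 := d10_1 D224230 F445440 (iv4 F445234)
theorem F523784 : act 7 n224230 = n210227 := d14_2 (iv7 F445233) D224230 F456652 F437772 (iv6 F354753)
theorem F523785 : act 0 n224230 = n210229 := d21_4 F391593 (iv1 F391638) (iv5 F445232) D224230 F456656 D210249 F456739 D223160 F517943 F448891
theorem F523786 : act 0 n210223 = n224230 := d21_4 D210187 F456502 (iv5 F402219) D210223 (iv6 D224230) F445232 (iv1 F391637) (iv5 F411692) (iv6 D137887) (iv1 F345912)
def n224231 : Q := act 5 n207516
theorem D224231 : act 5 n207516 = n224231 := rfl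
theorem F523787 : act 2 n224231 = n208448 := d2_1 D224231 (iv5 D208448) (iv2 F445243)
theorem F523788 : act 6 n224231 = n216976 := d12_2 D207516 D224231 F486831 (iv6 D193988) (iv5 F354715)
theorem F523789 : act 7 n224231 = n217523 := d13_2 (iv7 F445245) D224231 F489302
theorem F523790 : act 0 n224231 = n216460 := d17_2 F445247 D224231 F484486 (iv4 F384009) (iv5 D191646) D191645 F440834 F367310 (iv4 F216409)
theorem F523791 : act 1 n224231 = n208500 := d17_6 (iv1 F383979) (iv5 F383724) (iv1 D131949) D131950 (iv4 F445244) D224231 F449631 F367779 (iv4 F383978)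
def n224232 : Q := act 5 n207522
theorem D224232 : act 5 n207522 = n224232 := rfl
theorem F523792 : act 2 n224232 = n210254 := d2_1 D224232 (iv5 D210254) (iv2 F445279)
theorem F523793 : act 3 n224232 = n207523 := d6_1 D224232 (iv5 D207523) D207522
theorem F523794 : act 6 n224232 = n211625 := d12_2 (iv6 F445281) D224232 (iv5 D211625) (iv6 D143485) (iv5 F221082)
theorem F523795 : act 7 n224232 = n208394 := d13_2 (iv7 F445282) D224232 (iv5 D208394)
theorem F523796 : act 4 n224232 = n211680 := d16_2 (iv4 F445280) D224232 (iv5 D211680) F226493 D143903 (iv4 F454236) F454237 F221297 (iv2 F221086)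
theorem F523797 : act 0 n224232 = n217303 := d17_2 F445284 D224232 F488349 F389552 (iv5 F459076) F459078 (iv5 F349694) (iv0 F349698) F357352
theorem F523798 : act 1 n224232 = n219922 := d17_6 F454648 (iv5 F431219) (iv1 F444463) (iv5 F356283) (iv4 F445280) D224232 F501198 F450321 (iv4 F454645)
def n224233 : Q := act 3 n207525
theorem D224233 : act 3 n207525 = n224233 := rfl
theorem F523799 : act 2 n224233 = n223577 := d0_1 D224233 (iv3 F520406) F520402 (iv3 D208443) (iv2 F445295)
theorem F523800 : act 4 n224233 = n220523 := d5_2 D207525 D224233 (iv3 F504175) (iv4 D219527) F384058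
theorem F523801 : act 5 n224233 = n223506 := d6_2 F473542 D224233 F519798
theorem F523802 : act 6 n224233 = n223675 := d7_2 (iv6 F445296) D224233 (iv3 D223675)
theorem F523803 : act 7 n224233 = n223576 := d8_2 F518348 D224233 F520165
theorem F523804 : act 0 n215200 = n224233 := d20_4 (iv4 D179822) (iv1 F304435) (iv4 F268116) D215200 (iv3 D224233) (iv4 D207525) F211396 D207297 F444205 F430860
def n224234 : Q := act 1 n207533
theorem D224234 : act 1 n207533 = n224234 := rfl
theorem F523805 : act 1 n224234 = n207534 := d15_1 D224234 F445335 (iv2 F445331)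
theorem F523806 : act 7 n224234 = n224223 := d15_2 F445627 D224234 (iv2 F523742)
theorem F523807 : act 4 n224234 = n221328 := d18_7 (iv1 F487847) F487843 (iv1 F380023) (iv4 F380025) (iv5 F362894) D207533 D224234 (iv0 F508407) F445620
theorem F523808 : act 3 n222624 = n224234 := d19_19 (iv1 D224234) (iv5 F508343) F508342 (iv3 D200275) (iv1 F356949) D190367 F379568 (iv3 F346915) F230737 (iv5 F334063) (iv4 F303523) F200440 F305634 D86407 F296545 (iv3 F146968) F366649 D215186 (iv4 F515235)
theorem F523809 : act 6 n224234 = n221327 := d7_2 D222624 F523808 F508401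
theorem F523810 : act 2 n224222 = n224234 := d3_3 F523809 F508397 F523737
def n224235 : Q := act 0 n207535
theorem D224235 : act 0 n207535 = n224235 := rfl
theorem F523811 : act 5 n224235 = n208534 := d17_1 D224235 F449766 (iv5 F445121) (iv4 F515684) F515683 F494138 D218495 F494162 F494001
theorem F523812 : act 4 n224235 = n218431 := d18_1 D224235 (iv1 D218431) (iv4 F382777) F382778 F416745 F429952 (iv4 F481323) (iv0 F481325) (iv5 F445338)
theorem F523813 : act 3 n224235 = n207545 := d20_5 (iv4 F370189) (iv1 F370199) (iv4 F430225) (iv3 F445337) D224235 F445383 (iv1 F395351) F376732 (iv3 F324247) F324245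
theorem F523814 : act 6 n224235 = n218577 := d21_5 (iv5 D131838) (iv1 F163840) F362887 D207535 D224235 F494574 F452134 (iv5 F508393) (iv6 D221326) (iv1 F399143)
theorem F523815 : act 1 n215754 = n224235 := d15_0 (iv0 D224235) (iv7 F477386) (iv2 F481420)
theorem F523816 : act 2 n218577 = n224235 := d0_5 F523813 (iv2 F445384) (iv3 F497101) F497104 (iv3 F494573)
theorem F523817 : act 7 n218578 = n224235 := d8_0 F523813 (iv7 F445385) (iv3 F494577)
def n224236 : Q := act 1 n207535
theorem D224236 : act 1 n207535 = n224236 := rfl
theorem F523818 : act 1 n224236 = n215754 := d15_1 D224236 F481423 (iv2 F445336)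
theorem F523819 : act 7 n224236 = n218577 := d15_2 (iv0 D224235) D224236 F523816
theorem F523820 : act 5 n224236 = n215151 := d17_7 F334667 F323673 (iv1 F336068) F336072 (iv4 F430220) (iv5 F445338) D224236 F478579 F441138
theorem F523821 : act 4 n224236 = n218430 := d17_9 (iv1 F493848) F376824 F493791 F493787 (iv4 F496476) F496477 (iv0 F481325) (iv5 F445338) D224236
theorem F523822 : act 3 n219085 = n224236 := d19_19 (iv1 D224236) F445338 F430220 (iv3 D121215) (iv1 F193279) D203881 (iv4 F442048) D224101 F523031 (iv5 F499139) (iv4 F522826) F522825 (iv1 F495157) (iv5 F508265) F508266 F399787 F397780 D221216 F507782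
theorem F523823 : act 6 n223853 = n224236 := d21_3 F477331 F435968 D223853 (iv1 D224236) (iv6 D207535) (iv5 F362887) (iv1 D106570) D106572 D196039 F477333
theorem F523824 : act 2 n224236 = n218578 := d0_1 F523822 F494577 F445392 (iv3 F452129) F497110
def n224237 : Q := act 5 n207550
theorem D224237 : act 5 n207550 = n224237 := rfl
theorem F523825 : act 2 n224237 = n221383 := d2_1 D224237 (iv5 D221383) (iv2 F445409)
theorem F523826 : act 3 n224237 = n208322 := d6_1 D224237 F448910 (iv3 F445410)
theorem F523827 : act 7 n224237 = n221384 := d13_2 (iv7 F445412) D224237 (iv5 D221384)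
theorem F523828 : act 4 n224237 = n223659 := d16_2 D207550 D224237 (iv5 D223659) F432260 F399629 (iv4 F399223) F399224 F399218 F399215
theorem F523829 : act 0 n224237 = n223713 := d17_2 (iv1 F445413) D224237 F520872 F446380 (iv5 F343683) (iv0 D107562) F78521 (iv0 F213172) (iv4 F396558)
theorem F523830 : act 1 n224237 = n221028 := d17_6 F417742 F417738 (iv1 D131957) D131958 D207550 D224237 F506873 F507844 F507842
def n224238 : Q := act 4 n207552
theorem D224238 : act 4 n207552 = n224238 := rfl
theorem F523831 : act 2 n224238 = n224058 := d1_1 D224238 (iv4 D224058) F445420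
theorem F523832 : act 3 n224238 = n222536 := d5_1 D224238 F514779 F515515 F515514 F445421
theorem F523833 : act 6 n224238 = n219053 := d10_2 F497144 D224238 (iv4 F497145)
theorem F523834 : act 7 n224238 = n224057 := d11_2 F445422 D224238 (iv4 D224057)
theorem F523835 : act 5 n224238 = n221439 := d16_1 D224238 (iv4 D221439) F400645 F165220 (iv5 F96701) D132273 (iv5 F445425) F445424 F445420
theorem F523836 : act 0 n224238 = n207566 := d17_0 F464278 (iv1 F464279) (iv5 D207559) (iv4 D131966) (iv5 D61917) D61916 D131963 F445419 D224238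
theorem F523837 : act 1 n224238 = n207563 := d18_6 (iv1 F211945) F206977 (iv1 F96705) D132275 (iv5 F445418) D224238 (iv4 D207563) F445148 F445145
def n224239 : Q := act 4 n207553
theorem D224239 : act 4 n207553 = n224239 := rfl
theorem F523838 : act 2 n224239 = n224057 := d1_1 D224239 (iv4 D224057) F445428
theorem F523839 : act 3 n224239 = n217052 := d5_1 D224239 F487154 F367772 (iv4 F367778) (iv3 F445427)
theorem F523840 : act 5 n224239 = n221441 := d9_2 (iv5 F445425) D224239 (iv4 D221441) (iv5 F411352) F411349 F201802 D132275 (iv5 F445418) D224238 F523835 (iv4 D221439) F400645 F165220 (iv5 F96701) D132273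
theorem F523841 : act 6 n224239 = n217051 := d10_2 F445426 D224239 F487151
theorem F523842 : act 7 n224239 = n224058 := d11_2 (iv7 F445424) D224239 (iv4 D224058)
theorem F523843 : act 0 n224239 = n207563 := d17_0 F464282 (iv1 D212087) D212089 F464284 F399251 F164161 D131961 D207553 D224239
theorem F523844 : act 1 n224239 = n207566 := d18_6 (iv1 D132270) F96700 D62056 D132273 (iv5 F445425) D224239 (iv4 D207566) F445457 F445454
def n224240 : Q := act 6 n207559
theorem D224240 : act 6 n207559 = n224240 := rfl
theorem F523845 : act 4 n224240 = n221647 := d10_1 D224240 (iv6 D221647) (iv4 F445444)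
def n224241 : Q := act 4 n207562
theorem D224241 : act 4 n207562 = n224241 := rfl
theorem F523846 : act 2 n224241 = n223888 := d1_1 D224241 F521844 F445456
theorem F523847 : act 3 n224241 = n213028 := d5_1 D224241 (iv4 D213028) F259177 (iv4 F470812) F470811
theorem F523848 : act 5 n224241 = n221871 := d9_2 (iv5 F445454) D224241 (iv4 D221871) F404437 F172192 (iv5 F209493) (iv4 F211944) (iv5 F445145) (iv4 F523564) F523565 (iv4 D221873) F404443 F400720 F209500 (iv4 F211953)
theorem F523849 : act 6 n224241 = n219058 := d10_2 (iv6 F445455) D224241 (iv4 D219058)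
theorem F523850 : act 7 n224241 = n224056 := d11_2 (iv7 F445458) D224241 (iv4 D224056)
theorem F523851 : act 0 n224241 = n221337 := d17_0 F508450 (iv1 F464388) (iv5 D207578) (iv4 D132033) (iv5 D61957) (iv0 F103751) D131972 F445457 D224241
theorem F523852 : act 1 n224241 = n221335 := d18_6 F211332 F211329 (iv1 F209498) (iv4 F211953) (iv5 F445454) D224241 (iv4 D221335) (iv0 F441049) (iv5 D206487)
def n224242 : Q := act 5 n207572
theorem D224242 : act 5 n207572 = n224242 := rfl
theorem F523853 : act 6 n224242 = n221193 := d12_2 D207572 D224242 (iv5 D221193) (iv6 F397659) F212958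
theorem F523854 : act 7 n224242 = n224069 := d13_2 (iv7 F445505) D224242 (iv5 D224069)
theorem F523855 : act 4 n224242 = n222744 := d16_2 (iv4 F445504) D224242 F515853 (iv4 D201101) (iv5 D113909) (iv4 F391702) D200835 F418106 F399212
theorem F523856 : act 0 n224242 = n222777 := d17_2 F522788 D224242 (iv5 F521792) F521791 F437001 F203071 (iv5 F396108) D220997 (iv4 F522785)
theorem F523857 : act 1 n224242 = n222678 := d17_6 (iv1 D200836) (iv5 D113543) D113541 F363271 (iv4 F445504) D224242 (iv5 D222678) D222677 F515514
def n224243 : Q := act 5 n207573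
theorem D224243 : act 5 n207573 = n224243 := rfl
theorem F523858 : act 2 n224243 = n221384 := d2_1 D224243 (iv5 D221384) (iv2 F445506)
theorem F523859 : act 3 n224243 = n221915 := d6_1 D224243 F511377 (iv3 F445507)
theorem F523860 : act 4 n224243 = n212885 := d9_1 D224243 (iv5 D212885) F237972 (iv5 D106513) (iv4 F96520) D131958 D207550 D224237 F523828 (iv5 D223659) F432260 F399629 (iv4 F399223) F399224 D207573
theorem F523861 : act 6 n224243 = n221384 := d12_2 (iv6 F445508) D224243 (iv5 D221384) (iv6 F437353) (iv5 F437837)
theorem F523862 : act 7 n224243 = n221383 := d13_2 (iv7 F445509) D224243 (iv5 D221383)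
theorem F523863 : act 0 n224243 = n221028 := d17_2 (iv1 F445510) D224243 F506873 F445961 F358297 F165954 (iv5 D106844) F97292 (iv4 F213628)
theorem F523864 : act 1 n224243 = n223713 := d17_6 F494527 F442490 (iv1 F399227) F399224 D207573 D224243 F520872 (iv0 F448894) (iv4 F494529)
def n224244 : Q := act 6 n207578
theorem D224244 : act 6 n207578 = n224244 := rfl
theorem F523865 : act 3 n224244 = n207714 := d7_1 D224244 F446122 (iv3 F445530)
theorem F523866 : act 4 n224244 = n221448 := d10_1 D224244 (iv6 D221448) (iv4 F445531)
theorem F523867 : act 5 n224244 = n207711 := d12_1 D224244 (iv6 D207711) F211881 (iv6 F327165) D207578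
def n224245 : Q := act 0 n207580
theorem D224245 : act 0 n207580 = n224245 := rfl
theorem F523868 : act 5 n224245 = n216402 := d17_1 D224245 F484203 F398844 (iv4 F450657) (iv5 F450659) (iv0 F493089) (iv5 D218280) F492462 F492460
theorem F523869 : act 4 n224245 = n211452 := d18_1 D224245 F461596 (iv4 D208675) F332713 D134986 F217215 (iv4 F362904) (iv0 F337797) D207580
theorem F523870 : act 3 n224245 = n208815 := d20_5 (iv4 F405086) (iv1 F434251) F434254 (iv3 F445540) D224245 (iv4 F511209) (iv1 F511211) F467645 F405387 (iv1 F405082)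
theorem F523871 : act 6 n224245 = n211362 := d21_5 (iv5 F449545) F449543 (iv5 F466240) (iv6 F466241) D224245 (iv5 D211362) (iv1 F394221) F394218 (iv6 F470735) F470733
theorem F523872 : act 2 n208808 = n224245 := d15_3 (iv0 D224245) F445541 (iv7 F450965)
theorem F523873 : act 1 n207581 = n224245 := d15_0 (iv0 D224245) (iv7 F483654) F483652
theorem F523874 : act 7 n224245 = n208823 := d15_2 (iv0 F445602) F523873 (iv2 D208823)
def n224246 : Q := act 5 n207598
theorem D224246 : act 5 n207598 = n224246 := rfl
theorem F523875 : act 2 n224246 = n222624 := d2_1 D224246 (iv5 F523740) (iv2 F523742)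
theorem F523876 : act 3 n224246 = n214316 := d6_1 D224246 F474539 (iv3 F445625)
theorem F523877 : act 6 n224246 = n218450 := d12_2 F515694 D224246 (iv5 F508585) F508581 (iv5 F515691)
theorem F523878 : act 4 n224246 = n219040 := d16_2 D207598 D224246 (iv5 D219040) F380513 F368373 (iv4 F422206) (iv5 F508404) F508405 F445618
theorem F523879 : act 0 n224246 = n224226 := d17_2 (iv1 F445627) D224246 (iv5 D224226) (iv4 D207487) F354693 F164180 D196065 F399272 D207533
theorem F523880 : act 1 n224246 = n218455 := d17_6 F477398 (iv5 F445323) F216344 D132093 D207598 D224246 F493980 D224225 F523753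
def n224247 : Q := act 6 n207605
theorem D224247 : act 6 n207605 = n224247 := rfl
theorem F523881 : act 3 n224247 = n224044 := d7_1 D224247 F522699 F514701
theorem F523882 : act 4 n224247 = n207606 := d10_1 D224247 (iv6 D207606) D207605
def n224248 : Q := act 0 n207606
theorem D224248 : act 0 n207606 = n224248 := rfl
theorem F523883 : act 5 n224248 = n223835 := d19_1 D224248 F521540 (iv3 D222653) D222652 F515392 F504955 F392368 F225736 (iv5 F225397) (iv4 D67281) F319497 (iv1 F320149) (iv5 D31133) D31132 D66779 (iv1 F204184) D206004 (iv4 F438798) (iv3 F445654)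
theorem F523884 : act 3 n224248 = n223836 := d20_5 F435557 (iv1 F438797) (iv4 F438798) (iv3 F445654) D224248 F521547 (iv1 D215019) D215020 F477925 (iv1 F435558)
theorem F523885 : act 4 n224248 = n218579 := d20_8 F515444 (iv1 D201693) D201694 F456090 (iv1 F522702) (iv3 F523881) F523882 D224248 F494581 (iv1 F515442)
theorem F523886 : act 6 n224248 = n218578 := d21_5 F399105 F445063 F445060 D207606 D224248 F494578 (iv1 D216072) (iv5 F478402) (iv6 F478405) F445619
theorem F523887 : act 1 n207606 = n224248 := d15_0 (iv0 D224248) (iv7 F498231) F498229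
theorem F523888 : act 2 n223853 = n224248 := d3_3 F523886 (iv2 F523824) (iv6 F523823)
theorem F523889 : act 7 n223853 = n224248 := d14_0 F523886 F523817 F523814 (iv7 F523819) (iv6 F523823)
def n224249 : Q := act 5 n207606
theorem D224249 : act 5 n207606 = n224249 := rfl
theorem F523890 : act 3 n224249 = n207607 := d6_1 D224249 (iv5 D207607) (iv3 F445654)
theorem F523891 : act 6 n224249 = n209265 := d12_2 D207606 D224249 (iv5 D209265) (iv6 F445061) F445060
theorem F523892 : act 0 n224249 = n221330 := d21_1 D224249 (iv5 D221330) (iv6 D196039) D196036 D221326 F508393 (iv1 F482785) (iv5 F494578) (iv6 F523886) (iv1 F523887)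
theorem F523893 : act 0 n221330 = n224249 := d19_0 (iv5 D224249) (iv4 F523882) F523881 F522701 (iv5 F521710) (iv4 D223863) (iv3 D205381) (iv1 D125884) D125886 F202379 (iv3 F163221) (iv1 F163223) (iv5 F395220) F395223 (iv3 F413729) (iv1 F413730) D205208 F435453 (iv3 F508416)
def n224250 : Q := act 0 n207613
theorem D224250 : act 0 n207613 = n224250 := rfl
theorem F523894 : act 5 n224250 = n219303 := d17_1 D224250 (iv1 F498214) F445207 (iv4 F436143) (iv5 F438834) F441073 (iv5 F515345) (iv0 D222643) (iv4 F445680)
theorem F523895 : act 4 n224250 = n222167 := d18_1 D224250 (iv1 D222167) (iv4 F512681) F512682 F477334 (iv0 D187414) (iv4 F257726) (iv0 F373555) D207613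
theorem F523896 : act 3 n224250 = n207615 := d20_5 F508420 F437012 F435226 (iv3 F445678) D224250 F445683 F395492 F366349 (iv3 F435843) (iv1 F508418)
theorem F523897 : act 6 n224250 = n222721 := d21_5 (iv5 F436306) F397958 D195957 (iv6 F445679) D224250 F515744 F446362 F438822 F436221 (iv1 F436304)
theorem F523898 : act 1 n219343 = n224250 := d15_0 (iv0 D224250) (iv7 F498287) (iv2 F498377)
theorem F523899 : act 7 n224250 = n219302 := d15_2 F513253 F523898 (iv2 F513248)
def n224251 : Q := act 3 n207629
theorem D224251 : act 3 n207629 = n224251 := rfl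
theorem F523900 : act 2 n224251 = n223901 := d0_1 D224251 F521913 (iv2 F445815) F445816 (iv2 F445752)
theorem F523901 : act 5 n224251 = n223894 := d6_2 (iv5 F445755) D224251 (iv3 F521879)
theorem F523902 : act 6 n224251 = n224055 := d7_2 (iv6 F445753) D224251 (iv3 D224055)
theorem F523903 : act 7 n224251 = n223898 := d8_2 (iv7 F445754) D224251 F521898
theorem F523904 : act 0 n224251 = n224144 := d20_4 F445919 F418522 D207629 D224251 (iv3 D224144) (iv4 F468965) F468968 (iv4 F475502) F475501 (iv1 F445923)
theorem F523905 : act 0 n224139 = n224251 := d20_4 F332374 D191526 (iv4 F442481) (iv3 F523250) (iv3 D224251) (iv4 D207629) D207628 (iv4 F522884) (iv3 F522885) F442476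
def n224252 : Q := act 6 n207634
theorem D224252 : act 6 n207634 = n224252 := rfl
theorem F523906 : act 2 n224252 = n207636 := d3_1 D224252 (iv6 D207636) (iv2 F445780)
theorem F523907 : act 3 n224252 = n217020 := d7_1 D224252 (iv6 F487016) (iv3 F445781)
theorem F523908 : act 4 n224252 = n218020 := d10_1 D224252 F491731 (iv4 F445782)
theorem F523909 : act 7 n224252 = n219629 := d14_2 (iv7 F445783) D224252 F499753 F441450 F421771
theorem F523910 : act 0 n224252 = n222833 := d21_10 F516330 F516404 (iv5 D222847) F420552 F179149 D115076 (iv5 F333530) (iv1 F211724) D207634 D224252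
theorem F523911 : act 0 n222832 = n224252 := d21_4 F440498 (iv1 F439259) (iv5 F513355) (iv6 F516326) (iv6 D224252) (iv5 D207634) (iv1 F211725) D195266 (iv6 F421944) (iv1 F440496)
def n224253 : Q := act 5 n207636
theorem D224253 : act 5 n207636 = n224253 := rfl
theorem F523912 : act 3 n224253 = n207639 := d6_1 D224253 (iv5 D207639) (iv3 F445793)
theorem F523913 : act 6 n224253 = n207638 := d12_2 D207636 D224253 (iv5 D207638) (iv6 D132174) D132173
theorem F523914 : act 4 n224253 = n221436 := d16_2 F508561 D224253 (iv5 D221436) F410629 (iv5 F479076) (iv4 F516339) (iv5 F516341) (iv7 F491732) (iv2 F508559)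
theorem F523915 : act 0 n224253 = n222908 := d17_2 F522630 D224253 (iv5 D222908) F421467 (iv5 F365001) F484034 F484031 F483253 D224030
def n224254 : Q := act 0 n207638
theorem D224254 : act 0 n207638 = n224254 := rfl
theorem F523916 : act 5 n224254 = n221213 := d17_1 D224254 (iv1 F507769) F503118 F503117 (iv5 D211345) F390437 D141962 D211413 (iv4 F461464)
theorem F523917 : act 4 n224254 = n219202 := d18_1 D224254 (iv1 F497706) (iv4 F507677) (iv5 D221193) F397657 (iv0 F233489) D203926 F430435 D207638
theorem F523918 : act 3 n224254 = n223927 := d20_5 (iv4 F522272) (iv1 F522274) (iv4 D207641) (iv3 F445798) D224254 F522064 (iv1 F488564) F395269 F218148 (iv1 F443481)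
theorem F523919 : act 2 n219198 = n224254 := d15_3 (iv0 D224254) (iv0 F495977) (iv7 F497685)
theorem F523920 : act 1 n223918 = n224254 := d15_0 (iv0 D224254) F445799 (iv2 F522009)
theorem F523921 : act 7 n224254 = n223923 := d15_2 (iv0 F522012) F523920 (iv2 F522039)
def n224255 : Q := act 4 n207639
theorem D224255 : act 4 n207639 = n224255 := rfl
theorem F523922 : act 2 n224255 = n222099 := d1_1 D224255 F512356 (iv2 F445800)
theorem F523923 : act 5 n224255 = n222207 := d9_2 D207639 D224255 F512916 F436561 (iv4 F342183) (iv5 F388448) (iv4 F442335) (iv5 F512655) (iv4 D222160) F408160 (iv4 F407058) F407059 F203971 (iv5 F201782) (iv4 F211731)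
theorem F523924 : act 6 n224255 = n207641 := d10_2 (iv6 F445801) D224255 (iv4 D207641)
theorem F523925 : act 0 n224255 = n208541 := d17_0 (iv5 D208541) F408144 D198492 D222148 F512597 (iv0 D210296) D210299 F456910 D224255
theorem F523926 : act 1 n224255 = n215061 := d18_8 (iv1 F449788) F449790 (iv1 F359635) (iv4 F373639) (iv5 F373644) (iv4 F456909) F456910 D224255 (iv5 D215061)
theorem F523927 : act 3 n224255 = n222153 := d20_3 F492115 F456937 D224255 (iv1 F512619) F495671 (iv4 F495786) F521346 F521343 (iv3 F456884) (iv1 F492118)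
theorem F523928 : act 7 n222159 = n224255 := d8_0 F523927 F512617 (iv3 F512649)
def n224256 : Q := act 7 n207639
theorem D224256 : act 7 n207639 = n224256 := rfl
theorem F523929 : act 2 n224256 = n222160 := d4_1 D224256 F512654 (iv2 F445800)
theorem F523930 : act 4 n224256 = n222159 := d11_1 D224256 F523928 (iv4 D224255)
theorem F523931 : act 5 n224256 = n207640 := d13_1 D224256 (iv7 D207640) D207639
theorem F523932 : act 6 n224256 = n221207 := d14_1 D224256 F507741 F437485 (iv7 F211733) (iv6 F445801)
theorem F523933 : act 1 n224116 = n224256 := d15_1 D224116 (iv7 D224256) F445800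
theorem F523934 : act 1 n224256 = n219200 := d15_1 F523933 (iv7 F497692) F523114
def n224257 : Q := act 0 n207643
theorem D224257 : act 0 n207643 = n224257 := rfl
theorem F523935 : act 5 n224257 = n224144 := d17_1 D224257 F523286 (iv5 F521871) (iv4 F523532) F523533 F519085 (iv5 F490047) (iv0 F490046) (iv4 F445817)
theorem F523936 : act 4 n224257 = n223883 := d18_1 D224257 (iv1 F522133) F522129 (iv5 D223904) F437327 (iv0 F441977) F441976 D206726 (iv5 F445818)
theorem F523937 : act 3 n224257 = n207702 := d20_5 (iv4 D222779) (iv1 D201120) D201121 (iv3 F445816) D224257 F446069 (iv1 F212128) (iv4 F442674) (iv3 F445730) (iv1 F516036)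
theorem F523938 : act 2 n207668 = n224257 := d15_3 (iv0 D224257) (iv0 F445819) (iv7 F445930)
theorem F523939 : act 1 n224095 = n224257 := d15_0 (iv0 D224257) (iv7 F516799) (iv2 F522993)
theorem F523940 : act 7 n224257 = n224119 := d15_2 (iv0 F522998) F523939 (iv2 F523133)
def n224258 : Q := act 0 n207644
theorem D224258 : act 0 n207644 = n224258 := rfl
theorem F523941 : act 5 n224258 = n208742 := d17_1 D224258 F494645 F494644 F441421 D208793 F450989 (iv5 F442149) (iv0 F453012) F453010
theorem F523942 : act 4 n224258 = n207671 := d18_1 D224258 (iv1 F445942) F217086 D206862 (iv4 F442444) (iv0 D197527) D197529 (iv0 F446948) F446947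
theorem F523943 : act 3 n224258 = n207699 := d20_5 (iv4 D205769) D205767 F437783 D207644 D224258 (iv4 F448815) F496939 F496934 (iv3 F437546) (iv1 F437803)
theorem F523944 : act 2 n207694 = n224258 := d15_3 (iv0 D224258) (iv0 F450596) (iv7 F446035)
theorem F523945 : act 1 n224055 = n224258 := d15_0 (iv0 D224258) F445821 (iv2 F522767)
theorem F523946 : act 7 n224258 = n208650 := d15_2 (iv0 F522771) F523945 F450329
def n224259 : Q := act 6 n207646
theorem D224259 : act 6 n207646 = n224259 := rfl
theorem F523947 : act 2 n224259 = n224123 := d3_1 D224259 (iv6 D224123) F445829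
theorem F523948 : act 0 n224259 = n222061 := d21_4 (iv5 D132525) D132522 (iv5 F445827) D224259 F512153 F511620 F456848 (iv5 F523125) (iv6 D224118) F442344
theorem F523949 : act 0 n209608 = n224259 := d21_4 (iv5 F418966) (iv1 F418968) (iv5 F407109) F454323 (iv6 D224259) F445827 (iv1 F212699) D207014 (iv6 F442967) F441914
def n224260 : Q := act 6 n207648
theorem D224260 : act 6 n207648 = n224260 := rfl
theorem F523950 : act 3 n224260 = n209400 := d7_1 D224260 (iv6 D209400) (iv3 F445839)
theorem F523951 : act 4 n224260 = n207649 := d10_1 D224260 (iv6 D207649) D207648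
theorem F523952 : act 7 n224260 = n220036 := d14_2 (iv7 F445840) D224260 (iv6 D220036) F387515 F442362
theorem F523953 : act 5 n224260 = n219214 := d21_6 F167914 (iv1 F246659) (iv5 F405312) D221914 F511374 D224260 (iv1 F512744) (iv5 F512746) (iv6 D220178) (iv1 F388635)
theorem F523954 : act 0 n208555 = n224260 := d21_4 (iv5 F405337) (iv1 D134727) D134729 D208555 (iv6 D224260) (iv5 F492976) F492978 (iv5 F508939) (iv6 D221421) (iv1 F405341)
def n224261 : Q := act 6 n207659
theorem D224261 : act 6 n207659 = n224261 := rfl
theorem F523955 : act 2 n224261 = n207660 := d3_1 D224261 (iv6 D207660) (iv2 F445885)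
theorem F523956 : act 3 n224261 = n224130 := d7_1 D224261 (iv6 D224130) (iv3 F445886)
theorem F523957 : act 4 n224261 = n214396 := d10_1 D224261 (iv6 D214396) (iv4 F445887)
theorem F523958 : act 5 n224261 = n221239 := d12_1 D224261 F507895 F489817 F371110 D207659
theorem F523959 : act 7 n224261 = n222787 := d14_2 (iv7 F445888) D224261 F516075 (iv7 F467001) F467000
theorem F523960 : act 0 n224261 = n221259 := d21_4 F396525 (iv1 F211788) D207659 D224261 F508011 (iv5 D221013) (iv1 F396500) (iv5 F396533) (iv6 D195271) D195269
theorem F523961 : act 0 n221261 = n224261 := d21_4 D217836 (iv1 F505202) F505200 (iv6 F508023) (iv6 D224261) (iv5 D207659) (iv1 F211789) F372198 (iv6 D188039) D188035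
def n224262 : Q := act 5 n207660
theorem D224262 : act 5 n207660 = n224262 := rfl
theorem F523962 : act 2 n224262 = n221239 := d2_1 D224262 (iv5 F523958) F523955
theorem F523963 : act 3 n224262 = n207662 := d6_1 D224262 (iv5 D207662) (iv3 F445891)
theorem F523964 : act 6 n224262 = n207661 := d12_2 D207660 D224262 (iv5 D207661) (iv6 D132199) D132198
theorem F523965 : act 7 n224262 = n221238 := d13_2 F515954 D224262 (iv5 F515955)
theorem F523966 : act 4 n224262 = n219473 := d16_2 (iv4 F445892) D224262 (iv5 F521651) F521650 (iv5 D207507) (iv4 F395900) (iv5 F419272) (iv7 F474964) F474962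
theorem F523967 : act 0 n224262 = n222941 := d17_2 F507746 D224262 (iv5 D222941) F421873 (iv5 F418319) F418681 (iv5 F421915) (iv0 F421917) D221208
theorem F523968 : act 1 n224262 = n222940 := d17_6 D159367 D214422 F475108 (iv5 F419278) (iv4 F445892) D224262 (iv5 D222940) (iv0 D201812) F179175
def n224263 : Q := act 6 n207664
theorem D224263 : act 6 n207664 = n224263 := rfl
theorem F523969 : act 2 n224263 = n224138 := d3_1 D224263 (iv6 D224138) (iv2 F445906)
theorem F523970 : act 3 n224263 = n207665 := d7_1 D224263 (iv6 D207665) D207664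
theorem F523971 : act 4 n224263 = n208512 := d10_1 D224263 F449668 (iv4 F445903)
theorem F523972 : act 5 n224263 = n223932 := d12_1 D224263 (iv6 F522083) (iv5 F445913) (iv6 D207665) F445905
theorem F523973 : act 7 n224263 = n224077 := d14_2 (iv7 F445904) D224263 (iv6 D224077) (iv7 F446513) F446512
def n224264 : Q := act 6 n207669
theorem D224264 : act 6 n207669 = n224264 := rfl
theorem F523974 : act 2 n224264 = n224107 := d3_1 D224264 (iv6 D224107) (iv2 F445932)
theorem F523975 : act 5 n224264 = n224162 := d12_1 D224264 (iv6 D224162) F442734 F437502 D207669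
theorem F523976 : act 0 n224264 = n224099 := d21_4 F207846 (iv1 F211813) D207669 D224264 (iv6 D224099) (iv5 D206739) F378885 D129664 F207840 D129672
def n224265 : Q := act 6 n207686
theorem D224265 : act 6 n207686 = n224265 := rfl
theorem F523977 : act 3 n224265 = n207689 := d7_1 D224265 (iv6 D207689) D207686
theorem F523978 : act 4 n224265 = n216301 := d10_1 D224265 (iv6 F515880) F515878
theorem F523979 : act 7 n224265 = n222705 := d14_2 (iv7 F446007) D224265 (iv6 D222705) (iv7 F418462) (iv6 F442487)
theorem F523980 : act 0 n224265 = n219095 := d21_4 (iv5 F421754) (iv1 F475037) F475034 D224265 F497151 F487115 F499149 (iv5 F522841) (iv6 D224067) (iv1 F441413)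
theorem F523981 : act 1 n224265 = n219094 := d15_1 (iv0 F523980) (iv7 F522866) F522863
def n224266 : Q := act 6 n207694
theorem D224266 : act 6 n207694 = n224266 := rfl
theorem F523982 : act 3 n224266 = n207695 := d7_1 D224266 (iv6 D207695) D207694
theorem F523983 : act 4 n224266 = n208652 := d10_1 D224266 (iv6 D208652) (iv4 F446036)
theorem F523984 : act 7 n224266 = n222754 := d14_2 (iv7 F446035) D224266 (iv6 D222754) F418596 (iv6 F442533)
theorem F523985 : act 0 n224266 = n216388 := d21_4 (iv5 F446095) F516910 F516908 D224266 (iv6 D216388) (iv5 F444124) F444127 (iv5 F418599) (iv6 F450583) F450586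
theorem F523986 : act 5 n224266 = n210257 := d21_6 F442532 (iv1 F446647) (iv5 D207835) D207836 F450338 D224266 F456760 F446602 F446601 (iv1 F442530)
def n224267 : Q := act 1 n207697
theorem D224267 : act 1 n207697 = n224267 := rfl
theorem F523987 : act 1 n224267 = n207939 := d15_1 D224267 (iv7 F522157) F522154
theorem F523988 : act 7 n224267 = n222730 := d15_2 F465592 D224267 F515788
theorem F523989 : act 5 n224267 = n209059 := d17_7 (iv1 F426081) (iv5 F420740) (iv1 F420743) (iv5 F338618) (iv4 F211850) D207697 D224267 F452435 F446627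
theorem F523990 : act 3 n214491 = n224267 := d19_19 (iv1 D224267) (iv5 D207697) F211850 (iv3 D115495) F96461 D131869 (iv4 F423531) F423530 (iv1 D193049) F357570 (iv4 F223164) D145293 (iv1 F228316) (iv5 F180740) D200109 F415044 F423874 (iv5 F438886) (iv4 F475429)
theorem F523991 : act 6 n223946 = n224267 := d21_3 F495239 (iv1 F495560) (iv5 F522150) (iv1 D224267) F446782 (iv5 F446783) (iv1 F522904) (iv5 D224078) (iv6 F522306) F522308
theorem F523992 : act 2 n224267 = n223972 := d3_1 F523991 (iv6 D223972) (iv2 F522153)
def n224268 : Q := act 2 n207705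
theorem D224268 : act 2 n207705 = n224268 := rfl
theorem F523993 : act 3 n224268 = n221321 := d0_2 D207705 D224268 F508365 (iv3 D206908) F212267
theorem F523994 : act 4 n224268 = n208635 := d1_2 F467272 D224268 (iv2 F467271)
theorem F523995 : act 5 n224268 = n207875 := d2_2 (iv5 F446088) D224268 (iv2 D207875)
theorem F523996 : act 7 n224268 = n208406 := d4_2 (iv7 F446089) D224268 F449218
theorem F523997 : act 1 n224268 = n209357 := d15_0 (iv0 F453381) (iv7 F446089) D224268
theorem F523998 : act 1 n210727 = n224268 := d15_0 F523997 (iv7 F511366) F511362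
def n224269 : Q := act 6 n207709
theorem D224269 : act 6 n207709 = n224269 := rfl
theorem F523999 : act 2 n224269 = n207711 := d3_1 D224269 (iv6 D207711) D207709
theorem F524000 : act 3 n224269 = n207715 := d7_1 D224269 F446125 (iv3 F446102)
theorem F524001 : act 4 n224269 = n222389 := d10_1 D224269 F513947 F446107
theorem F524002 : act 7 n224269 = n207711 := d14_2 (iv7 F446104) D224269 (iv6 D207711) F211882 (iv6 F219423)
def n224270 : Q := act 0 n207711
theorem D224270 : act 0 n207711 = n224270 := rfl
theorem F524003 : act 3 n224270 = n222845 := d20_5 F442327 (iv1 D135934) (iv4 F211884) (iv3 F446114) D224270 (iv4 D222845) F467981 (iv4 F516846) F516845 (iv1 F445805)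
theorem F524004 : act 6 n224270 = n222470 := d21_5 F442500 (iv1 D132536) (iv5 F211881) D207711 D224270 F514382 F507701 F465011 (iv6 F443093) (iv1 F443096)
theorem F524005 : act 1 n207711 = n224270 := d15_0 (iv0 D224270) (iv7 F524002) F523999
def n224271 : Q := act 3 n207712
theorem D224271 : act 3 n207712 = n224271 := rfl
theorem F524006 : act 2 n224271 = n222061 := d0_1 D224271 F512152 (iv2 F494638) (iv3 D209605) F453579
theorem F524007 : act 4 n224271 = n216112 := d5_2 (iv4 F446116) D224271 F483010 (iv4 F384171) (iv3 F411145)
theorem F524008 : act 6 n224271 = n221402 := d7_2 (iv6 F446117) D224271 F508832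
theorem F524009 : act 7 n224271 = n209608 := d8_2 (iv7 F453580) D224271 (iv3 D209608)
theorem F524010 : act 0 n224123 = n224271 := d20_4 (iv4 D191864) F367523 D217010 (iv3 F523153) (iv3 D224271) F446116 F411149 (iv4 F442335) (iv3 F447006) F447009
theorem F524011 : act 5 n224194 = n224271 := d13_3 F524009 F454324 D224194
def n224272 : Q := act 5 n207712
theorem D224272 : act 5 n207712 = n224272 := rfl
theorem F524012 : act 2 n224272 = n209606 := d2_1 D224272 (iv5 D209606) F453579
theorem F524013 : act 3 n224272 = n224194 := d6_1 D224272 F524011 (iv3 D224271)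
theorem F524014 : act 7 n224272 = n209609 := d13_2 (iv7 F453580) D224272 (iv5 D209609)
theorem F524015 : act 4 n224272 = n222217 := d16_2 (iv4 F446116) D224272 (iv5 D222217) F409004 F346121 (iv4 F444224) F444227 F453576 (iv2 F453575)
theorem F524016 : act 0 n224272 = n218093 := d17_2 D207712 D224272 F492125 F446927 (iv5 F442267) F444326 F444323 (iv0 D135933) (iv4 F211884)
theorem F524017 : act 1 n224272 = n220166 := d17_6 (iv1 D193030) (iv5 F338484) F411148 (iv5 F411147) (iv4 F446116) D224272 (iv5 D220166) (iv0 F502433) (iv4 D220162)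
def n224273 : Q := act 5 n207713
theorem D224273 : act 5 n207713 = n224273 := rfl
theorem F524018 : act 2 n224273 = n209609 := d2_1 D224273 (iv5 D209609) (iv2 F453578)
theorem F524019 : act 4 n224273 = n222211 := d9_1 D224273 (iv5 D222211) F408947 F345360 F384164 (iv5 F411147) (iv4 F446116) D224272 F524015 (iv5 D222217) F409004 F346121 (iv4 F444224) F444227 (iv4 F446120)
theorem F524020 : act 6 n224273 = n224166 := d12_2 F502353 D224273 (iv5 D224166) (iv6 F522380) F522376
theorem F524021 : act 7 n224273 = n209606 := d13_2 F453577 D224273 (iv5 D209606)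
theorem F524022 : act 0 n224273 = n220166 := d17_2 (iv1 F446119) D224273 (iv5 D220166) F388570 (iv5 F333870) (iv0 F444151) F444152 F218652 (iv4 F219816)
theorem F524023 : act 1 n224273 = n218093 := d17_6 (iv1 F502272) F502269 (iv1 F444298) F444227 (iv4 F446120) D224273 F492125 (iv0 F502428) (iv4 D220161)
def n224274 : Q := act 0 n207714
theorem D224274 : act 0 n207714 = n224274 := rfl
theorem F524024 : act 4 n224274 = n208541 := d18_1 D224274 F449794 D222160 F512655 F442335 (iv0 F411149) (iv4 F446116) (iv0 D207712) D207714
theorem F524025 : act 2 n209611 = n224274 := d1_3 F524024 (iv2 F492145) F492147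
theorem F524026 : act 7 n209612 = n224274 := d11_0 F524024 (iv7 F492150) F492151
theorem F524027 : act 1 n209604 = n224274 := d17_8 F449794 F408160 F408948 D222211 (iv4 F524019) (iv5 D224273) F446119 D209604 F524024
def n224275 : Q := act 1 n207714
theorem D224275 : act 1 n207714 = n224275 := rfl
theorem F524028 : act 1 n224275 = n209604 := d15_1 D224275 F454311 (iv2 F446121)
theorem F524029 : act 7 n224275 = n209611 := d15_2 (iv0 D224274) D224275 F524025
theorem F524030 : act 5 n224275 = n208539 := d17_7 F375557 (iv5 D134379) F359623 (iv5 F99414) (iv4 F211884) D207714 D224275 F484651 F484647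
theorem F524031 : act 4 n224275 = n215061 := d17_9 (iv1 F523926) F523923 (iv1 F512920) D222217 (iv4 F524015) (iv5 D224272) (iv0 D207712) D207714 D224275
theorem F524032 : act 2 n209612 = n224275 := d1_3 F524031 (iv2 F492148) F492151
def n224276 : Q := act 7 n207714
theorem D224276 : act 7 n207714 = n224276 := rfl
theorem F524033 : act 2 n224276 = n209604 := d4_1 D224276 F454311 (iv2 F446121)
theorem F524034 : act 4 n224276 = n210292 := d11_1 D224276 (iv7 F497696) (iv4 F497701)
theorem F524035 : act 5 n224276 = n207715 := d13_1 D224276 (iv7 D207715) D207714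
theorem F524036 : act 6 n224276 = n209142 := d14_1 D224276 (iv7 D209142) F218510 (iv7 F212753) (iv6 F446122)
theorem F524037 : act 1 n209612 = n224276 := d15_1 D209612 (iv7 D224276) F446121
theorem F524038 : act 1 n224276 = n209611 := d15_1 F524037 (iv7 F524029) (iv2 F524032)
def n224277 : Q := act 5 n207716
theorem D224277 : act 5 n207716 = n224277 := rfl
theorem F524039 : act 2 n224277 = n223697 := d2_1 D224277 F520786 F491213
theorem F524040 : act 3 n224277 = n207718 := d6_1 D224277 (iv5 D207718) (iv3 F446128)
theorem F524041 : act 4 n224277 = n217190 := d9_1 D224277 F487863 F486762 (iv5 F369047) (iv4 F424896) (iv5 F491207) F491206 (iv5 F486274) (iv4 F487874) F487870 F487617 (iv5 F385931) (iv4 F424987) (iv5 F487372) F487371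
theorem F524042 : act 6 n224277 = n209146 := d12_2 D207716 D224277 (iv5 D209146) (iv6 D135879) (iv5 F211885)
theorem F524043 : act 7 n224277 = n220447 := d13_2 F491197 D224277 F503828
theorem F524044 : act 0 n224277 = n209712 := d17_2 F446129 D224277 F454714 (iv4 F499497) F499493 D219739 (iv5 F503850) (iv0 F518244) F518242
theorem F524045 : act 1 n224277 = n223698 := d17_6 F375854 F375853 (iv1 F424990) (iv5 F487372) F487371 D224277 F520792 F487398 F487395
def n224278 : Q := act 5 n207717
theorem D224278 : act 5 n207717 = n224278 := rfl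
theorem F524046 : act 2 n224278 = n209403 := d2_1 D224278 (iv5 D209403) F446134
theorem F524047 : act 3 n224278 = n223250 := d6_1 D224278 (iv5 D223250) (iv3 F446133)
theorem F524048 : act 6 n224278 = n216809 := d12_2 F446132 D224278 (iv5 F486009) (iv6 D202568) (iv5 F411134)
theorem F524049 : act 7 n224278 = n209402 := d13_2 (iv7 F446131) D224278 (iv5 D209402)
theorem F524050 : act 4 n224278 = n216810 := d16_2 (iv4 F453286) D224278 F486013 (iv4 F487207) F516801 (iv4 D222924) (iv5 D201738) (iv7 F421484) F453285
theorem F524051 : act 0 n224278 = n220887 := d17_2 (iv1 F446130) D224278 F506080 (iv4 F522903) (iv5 D224078) (iv0 F445931) F437548 F445852 F445849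
def n224279 : Q := act 5 n207720
theorem D224279 : act 5 n207720 = n224279 := rfl
theorem F524052 : act 2 n224279 = n209597 := d2_1 D224279 (iv5 D209597) (iv2 F446145)
theorem F524053 : act 3 n224279 = n210660 := d6_1 D224279 F458366 (iv3 F446140)
theorem F524054 : act 6 n224279 = n216228 := d12_2 F460706 D224279 F483419 F467194 (iv5 F460705)
theorem F524055 : act 7 n224279 = n209599 := d13_2 F446143 D224279 (iv5 D209599)
theorem F524056 : act 4 n224279 = n215208 := d16_2 D207720 D224279 F478877 F442845 D206987 F442863 F437548 (iv7 F445853) F445858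
theorem F524057 : act 0 n224279 = n223353 := d17_2 F446141 D224279 F519011 (iv4 F523188) (iv5 F523191) F516789 (iv5 D222922) F421624 F396548
theorem F524058 : act 1 n224279 = n210301 := d17_6 (iv1 F522904) (iv5 D224078) F446156 (iv5 D207721) D207720 D224279 (iv5 D210301) (iv0 F433077) (iv4 F443111)
def n224280 : Q := act 5 n207724
theorem D224280 : act 5 n207724 = n224280 := rfl
theorem F524059 : act 2 n224280 = n209599 := d2_1 D224280 (iv5 D209599) (iv2 F446160)
theorem F524060 : act 3 n224280 = n216867 := d6_1 D224280 F486305 F460645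
theorem F524061 : act 4 n224280 = n216869 := d9_1 D224280 F486311 (iv4 F437851) (iv5 F466978) F466977 (iv5 D207721) D207720 D224279 F524056 F478877 F442845 D206987 F442863 F437548 D207724
theorem F524062 : act 6 n224280 = n210645 := d12_2 F446164 D224280 (iv5 D210645) (iv6 D139467) D139466
theorem F524063 : act 7 n224280 = n209597 := d13_2 (iv7 F446161) D224280 (iv5 D209597)
theorem F524064 : act 0 n224280 = n210301 := d17_2 (iv1 F446163) D224280 (iv5 D210301) (iv4 F456912) (iv5 F490047) (iv0 F490046) (iv5 F421483) F453296 F453294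
theorem F524065 : act 1 n224280 = n223353 := d17_6 (iv1 F523483) F523485 (iv1 D223942) F437548 D207724 D224280 F519011 (iv0 F513375) (iv4 F443135)
def n224281 : Q := act 6 n207733
theorem D224281 : act 6 n207733 = n224281 := rfl
theorem F524066 : act 2 n224281 = n224110 := d3_1 D224281 (iv6 D224110) (iv2 F446182)
theorem F524067 : act 4 n224281 = n207734 := d10_1 D224281 (iv6 D207734) D207733
theorem F524068 : act 5 n224281 = n218699 := d12_1 D224281 F522570 F522565 F478604 (iv5 F446183)
theorem F524069 : act 7 n224281 = n207750 := d14_2 (iv7 F446184) D224281 (iv6 D207750) (iv7 F414977) (iv6 F442240)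
theorem F524070 : act 0 n224281 = n219199 := d21_4 F437893 (iv1 F436543) (iv5 F446183) D224281 (iv6 F516796) (iv5 F521002) F521000 F521896 F521894 F446192
theorem F524071 : act 0 n217429 = n224281 := d18_2 F524070 F497689 F524067 (iv5 F495238) (iv4 D217420) (iv0 F369771) D191018 (iv0 F495218) (iv5 F524068)
def n224282 : Q := act 1 n207734
theorem D224282 : act 1 n207734 = n224282 := rfl
theorem F524072 : act 1 n224282 = n218705 := d15_1 D224282 F495242 F447091
theorem F524073 : act 3 n215154 = n224282 := d19_19 (iv1 D224282) (iv5 F495238) (iv4 D217420) (iv3 F488806) F488808 F485775 (iv4 D216750) (iv3 F382846) F382848 (iv5 F470156) (iv4 D213380) F368417 (iv1 D98364) (iv5 D46018) (iv4 F59167) (iv3 F128277) F340788 D167342 D215154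
theorem F524074 : act 6 n223883 = n224282 := d21_3 F446171 D223739 (iv5 F522134) (iv1 D224282) (iv6 D207734) (iv5 D132252) (iv1 D62044) D62045 (iv6 F211889) D207726
theorem F524075 : act 2 n224282 = n223974 := d3_1 F524074 F522306 F521822
def n224283 : Q := act 6 n207747
theorem D224283 : act 6 n207747 = n224283 := rfl
theorem F524076 : act 2 n224283 = n207749 := d3_1 D224283 (iv6 D207749) D207747
theorem F524077 : act 3 n224283 = n215035 := d7_1 D224283 (iv6 F514774) F514771
theorem F524078 : act 7 n224283 = n221215 := d14_2 F496912 D224283 F507779 F442050 D219051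
theorem F524079 : act 0 n224283 = n219508 := d21_4 (iv5 F483756) F483757 F451524 D224283 (iv6 F520518) F520517 (iv1 F445987) F446804 F446801 (iv1 F437880)
theorem F524080 : act 0 n219507 = n224283 := d21_4 D206987 (iv1 F523230) (iv5 D224135) (iv6 F499204) (iv6 D224283) (iv5 F451524) (iv1 D208949) (iv5 F437878) F442852 (iv1 D206985)
def n224284 : Q := act 6 n207748
theorem D224284 : act 6 n207748 = n224284 := rfl
theorem F524081 : act 3 n224284 = n207750 := d7_1 D224284 (iv6 D207750) (iv3 F446229)
theorem F524082 : act 0 n224284 = n224138 := d21_4 (iv5 F446225) (iv1 D207746) D207748 D224284 (iv6 D224138) (iv5 D206874) (iv1 F211804) (iv5 F437406) F449206 (iv1 D208402)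
theorem F524083 : act 0 n224077 = n224284 := d21_4 F499255 (iv1 F486993) F486994 D224077 (iv6 D224284) (iv5 D207748) (iv1 F446228) (iv5 F523511) F523512 F506406
def n224285 : Q := act 1 n207749
theorem D224285 : act 1 n207749 = n224285 := rfl
theorem F524084 : act 1 n224285 = n221215 := d15_1 D224285 (iv7 F524078) F524076
theorem F524085 : act 7 n224285 = n219508 := d15_2 (iv0 F523424) D224285 (iv2 F523418)
theorem F524086 : act 3 n213148 = n224285 := d20_3 F478608 (iv1 D213147) D213148 (iv1 D224285) F446231 F211910 F101903 D133172 (iv3 F366840) D215156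
theorem F524087 : act 4 n213149 = n224285 := d20_6 (iv4 D134460) (iv1 F164124) (iv4 F209404) (iv3 F444345) (iv1 F444350) D213149 (iv1 D224285) (iv4 F514336) F514335 F413127
theorem F524088 : act 2 n224285 = n219507 := d1_1 F524087 (iv4 D219507) (iv2 F469209)
theorem F524089 : act 6 n224285 = n224131 := d10_2 (iv6 F469210) F524087 F523199
theorem F524090 : act 5 n217430 = n224285 := d19_1 F522195 (iv4 F524087) (iv3 D213149) (iv1 F456533) F456530 (iv4 F453041) F225255 D142326 F225256 F167011 (iv3 F98223) F112151 F112152 F112157 D156335 F390751 (iv5 F461459) (iv4 F522010) (iv3 F522192)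
def n224286 : Q := act 5 n207749
theorem D224286 : act 5 n207749 = n224286 := rfl
theorem F524091 : act 3 n224286 = n207752 := d6_1 D224286 (iv5 D207752) (iv3 F446231)
theorem F524092 : act 7 n224286 = n224102 := d13_2 (iv7 F446232) D224286 (iv5 D224102)
theorem F524093 : act 4 n224286 = n222138 := d17_4 F522195 F524090 (iv1 D224285) D224286 (iv5 D222138) (iv0 F509467) F509465 (iv0 F477886) (iv4 F522194)
theorem F524094 : act 0 n224286 = n223827 := d21_7 (iv5 F508935) F508936 F449203 F446227 (iv1 D207746) D207749 D224286 F521499 F499320 F499318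
theorem F524095 : act 0 n223956 = n224286 := d21_10 (iv5 D224286) F523424 F523420 (iv6 F523102) F456937 F445801 (iv5 D132176) (iv1 F203671) D205808 (iv6 F522210)
def n224287 : Q := act 4 n207808
theorem D224287 : act 4 n207808 = n224287 := rfl
theorem F524096 : act 2 n224287 = n208714 := d1_1 D224287 (iv4 F450541) (iv2 F446534)
theorem F524097 : act 5 n224287 = n210349 := d9_2 D207808 D224287 (iv4 F472723) F472722 F396989 F162199 D132291 D207769 (iv4 F498593) F498594 F411416 (iv5 F438401) F438398 F203987 D132389
theorem F524098 : act 6 n224287 = n223363 := d10_2 F523272 D224287 (iv4 F523270)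
theorem F524099 : act 7 n224287 = n217967 := d11_2 (iv7 F446535) D224287 F491467
theorem F524100 : act 0 n224287 = n207919 := d17_0 F446991 (iv1 D202669) F397025 (iv4 D132563) (iv5 D62191) D62190 D132560 (iv0 F446536) D224287
theorem F524101 : act 1 n224287 = n207914 := d18_6 (iv1 F212421) F207334 (iv1 F96822) D132389 D207808 D224287 (iv4 D207914) (iv0 F446508) (iv5 D207802)
theorem F524102 : act 3 n224287 = n217969 := d19_3 (iv1 F212428) D207808 D224287 (iv1 F491480) (iv5 F448507) F448506 (iv3 F439028) (iv1 F440564) (iv5 F467382) (iv4 F470844) (iv3 D213524) (iv1 F398139) (iv5 D195778) F349025 (iv3 D113976) F177632 (iv5 F397694) (iv4 F398427) F398426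
def n224288 : Q := act 5 n207822
theorem D224288 : act 5 n207822 = n224288 := rfl
theorem F524103 : act 2 n224288 = n224093 := d2_1 D224288 (iv5 D224093) (iv2 F446599)
theorem F524104 : act 3 n224288 = n224242 := d6_1 D224288 (iv5 D224242) (iv3 F446600)
theorem F524105 : act 6 n224288 = n207938 := d12_2 D207822 D224288 (iv5 D207938) (iv6 D132659) (iv5 F212476)
theorem F524106 : act 4 n224288 = n218875 := d18_5 (iv1 F442309) (iv4 F437883) F449389 F449388 D224288 F495988 (iv4 F522215) (iv0 F523089) (iv5 D224111)
def n224289 : Q := act 5 n207832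
theorem D224289 : act 5 n207832 = n224289 := rfl
theorem F524107 : act 2 n224289 = n222882 := d2_1 D224289 F516569 F489842
theorem F524108 : act 3 n224289 = n207865 := d6_1 D224289 (iv5 D207865) (iv3 F446630)
theorem F524109 : act 4 n224289 = n220247 := d9_1 D224289 (iv5 D220247) (iv4 D193224) (iv5 F283609) D216192 F483320 F465485 (iv5 F509764) (iv4 D221593) (iv5 D196740) F165308 D137602 (iv4 F449710) (iv5 D208519) (iv4 F446631)
theorem F524110 : act 6 n224289 = n224177 := d12_2 D207832 D224289 F523468 F465567 (iv5 F384121)
theorem F524111 : act 7 n224289 = n207904 := d13_2 F446632 D224289 (iv5 D207904)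
theorem F524112 : act 0 n224289 = n217667 := d17_2 F446633 D224289 (iv5 D217667) (iv4 D187720) (iv5 F145629) (iv0 D94449) D94450 (iv0 F145634) D188735
theorem F524113 : act 1 n224289 = n217631 := d17_6 F371390 (iv5 F475688) F475690 (iv5 D208519) (iv4 F446631) D224289 (iv5 D217631) (iv0 F371174) (iv4 F209518)
def n224290 : Q := act 6 n207843
theorem D224290 : act 6 n207843 = n224290 := rfl
theorem F524114 : act 2 n224290 = n222107 := d3_1 D224290 (iv6 D222107) (iv2 F446673)
theorem F524115 : act 3 n224290 = n221060 := d7_1 D224290 F507040 (iv3 F446674)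
theorem F524116 : act 4 n224290 = n210185 := d10_1 D224290 (iv6 D210185) (iv4 F446675)
theorem F524117 : act 5 n224290 = n222570 := d12_1 D224290 (iv6 D222570) (iv5 D200201) (iv6 F217138) D207843
theorem F524118 : act 7 n224290 = n222575 := d14_2 (iv7 F446676) D224290 (iv6 F519258) F519255 F507629
theorem F524119 : act 0 n210808 = n224290 := d21_4 F414220 (iv1 F227211) (iv5 F414628) (iv6 F458865) (iv6 D224290) (iv5 D207843) (iv1 D132431) D132433 (iv6 F397107) (iv1 F414222)
def n224291 : Q := act 3 n207844
theorem D224291 : act 3 n207844 = n224291 := rfl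
theorem F524120 : act 2 n224291 = n221732 := d0_1 D224291 (iv3 F510562) (iv2 F422550) (iv3 F434698) F446681
theorem F524121 : act 4 n224291 = n223655 := d5_2 (iv4 F446679) D224291 (iv3 F520563) (iv4 D204977) D204976
theorem F524122 : act 5 n224291 = n221099 := d6_2 (iv5 F457886) D224291 F507212
theorem F524123 : act 6 n224291 = n223419 := d7_2 F446682 D224291 (iv3 D223419)
theorem F524124 : act 7 n224291 = n221733 := d8_2 F446683 D224291 (iv3 F510567)
theorem F524125 : act 0 n224291 = n221734 := d19_4 F349958 (iv5 F434409) (iv4 F446679) D224291 F510573 F506967 (iv3 D202604) (iv1 D116086) F331530 (iv4 D52856) (iv3 F83487) D114472 D201418 (iv4 F461891) F461890 (iv1 F440157) F440160 F230999 (iv3 F310542)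
theorem F524126 : act 0 n221731 = n224291 := d20_4 (iv4 F449002) F450250 F450249 (iv3 F510554) (iv3 D224291) F446679 (iv1 F462150) F462148 (iv3 F458032) F449004
def n224292 : Q := act 4 n207850
theorem D224292 : act 4 n207850 = n224292 := rfl
theorem F524127 : act 2 n224292 = n208555 := d1_1 D224292 F449874 (iv2 F446713)
theorem F524128 : act 3 n224292 = n219194 := d5_1 D224292 F497667 F412897 D221506 (iv3 F509353)
theorem F524129 : act 5 n224292 = n219191 := d9_2 D207850 D224292 (iv4 F497849) F497850 F381734 (iv5 F348912) (iv4 F371321) D217676 (iv4 F497910) (iv5 D219244) (iv4 D190982) (iv5 D97112) (iv4 F149847) F325473 (iv4 F212552)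
theorem F524130 : act 6 n224292 = n208554 := d10_2 F522920 D224292 (iv4 F522919)
theorem F524131 : act 1 n224292 = n220036 := d18_6 (iv1 F446579) F446581 (iv1 D132455) (iv4 F212552) D207850 D224292 F501778 (iv0 F502469) F502468
def n224293 : Q := act 3 n207873
theorem D224293 : act 3 n207873 = n224293 := rfl
theorem F524132 : act 4 n224293 = n218124 := d5_2 F522281 D224293 F492241 (iv4 F488701) F522283
theorem F524133 : act 5 n224293 = n223974 := d6_2 (iv5 F446829) D224293 (iv3 D223974)
theorem F524134 : act 7 n224293 = n219111 := d8_2 (iv7 F446832) D224293 F497241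
theorem F524135 : act 0 n224293 = n217348 := d19_4 (iv1 D224190) (iv5 F522282) F522281 D224293 F488823 (iv4 F508459) (iv3 D221339) (iv1 F446273) (iv5 F509405) (iv4 D221518) (iv3 F509399) F509402 (iv5 D220827) F393854 (iv3 F393846) (iv1 F393849) D198477 (iv4 F497441) F523551
theorem F524136 : act 1 n224293 = n217350 := d15_1 (iv0 F524135) (iv7 F488831) F488830
theorem F524137 : act 6 n209611 = n224293 := d12_0 F524133 F522306 D224078 F522906 F502431
def n224294 : Q := act 6 n207873
theorem D224294 : act 6 n207873 = n224294 := rfl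
theorem F524138 : act 2 n224294 = n224163 := d3_1 D224294 (iv6 D224163) F446830
theorem F524139 : act 3 n224294 = n209611 := d7_1 D224294 F524137 (iv3 D224293)
theorem F524140 : act 5 n224294 = n217966 := d12_1 D224294 F491465 (iv5 D206688) (iv6 F437955) (iv5 F446829)
theorem F524141 : act 0 n216155 = n224294 := d21_4 (iv5 D224166) (iv1 F442744) D207028 (iv6 F483211) (iv6 D224294) F446829 F437957 D206742 F522560 (iv1 F523400)
def n224295 : Q := act 5 n207876
theorem D224295 : act 5 n207876 = n224295 := rfl
theorem F524142 : act 3 n224295 = n207879 := d6_1 D224295 (iv5 D207879) (iv3 F446840)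
theorem F524143 : act 7 n224295 = n224165 := d13_2 (iv7 F446842) D224295 (iv5 D224165)
theorem F524144 : act 4 n224295 = n222618 := d16_2 (iv4 F446841) D224295 (iv5 D222618) F416260 (iv5 F429103) (iv4 F485095) (iv5 F485096) F450055 F448644
theorem F524145 : act 0 n224295 = n223299 := d18_0 (iv4 D223299) F515127 F515124 F510079 (iv4 F456651) (iv0 F503609) F503607 (iv0 F452053) D224295
theorem F524146 : act 0 n224162 = n224295 := d21_7 (iv5 F502330) (iv1 F502331) (iv5 F446057) F446058 (iv1 F445935) D224264 F523975 (iv5 D224295) (iv6 D207876) F421990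
def n224296 : Q := act 5 n207878
theorem D224296 : act 5 n207878 = n224296 := rfl
theorem F524147 : act 2 n224296 = n208009 := d2_1 D224296 (iv5 D208009) F446851
theorem F524148 : act 3 n224296 = n218767 := d6_1 D224296 (iv5 F522150) (iv3 F522152)
theorem F524149 : act 4 n224296 = n215012 := d9_1 D224296 (iv5 D215012) (iv4 F346186) (iv5 D170600) (iv4 F303286) F307534 (iv4 F209064) D207131 (iv4 F495530) F495528 F439634 F427107 (iv4 F337663) (iv5 F337662) (iv4 F446850)
theorem F524150 : act 7 n224296 = n224166 := d13_2 (iv7 F446853) D224296 (iv5 D224166)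
theorem F524151 : act 0 n224296 = n224183 := d17_2 D207878 D224296 (iv5 D224183) F464201 (iv5 D212064) F344088 F347023 (iv0 F446848) F446845
theorem F524152 : act 1 n224296 = n212777 := d17_6 D167347 F350906 F346974 (iv5 F337662) (iv4 F446850) D224296 (iv5 F478609) (iv0 D215156) (iv4 D167349)
def n224297 : Q := act 0 n207879
theorem D224297 : act 0 n207879 = n224297 := rfl
theorem F524153 : act 5 n224297 = n215154 := d17_1 D224297 F478600 (iv5 F495222) (iv4 D218700) (iv5 D189942) (iv0 F362064) D191044 (iv0 F495251) F495250
theorem F524154 : act 4 n224297 = n212770 := d18_1 D224297 F467443 (iv4 F447108) (iv5 D207949) F213019 (iv0 F326066) (iv4 F446850) (iv0 D207878) D207879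
theorem F524155 : act 2 n215157 = n224297 := d15_3 (iv0 D224297) (iv0 F523575) F523573
theorem F524156 : act 1 n207938 = n224297 := d15_0 (iv0 D224297) F446855 (iv2 F447075)
theorem F524157 : act 7 n224297 = n224167 := d15_2 F523576 F524156 (iv2 F523570)
def n224298 : Q := act 1 n207894
theorem D224298 : act 1 n207894 = n224298 := rfl
theorem F524158 : act 1 n224298 = n224260 := d15_1 D224298 F523952 F501776
theorem F524159 : act 7 n224298 = n224292 := d15_2 (iv0 F449875) D224298 F524127
theorem F524160 : act 5 n224298 = n219231 := d17_7 F408339 (iv5 D198554) (iv1 D109569) D109570 D198557 (iv5 F446912) D224298 F497845 (iv4 D219217)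
theorem F524161 : act 4 n224298 = n222917 := d17_9 (iv1 F516761) F516610 F447003 D207929 (iv4 F447037) (iv5 F476210) (iv0 F477534) (iv5 F446912) D224298
theorem F524162 : act 3 n213272 = n224298 := d20_3 (iv4 F505663) F505661 (iv4 F469657) (iv1 D224298) F446911 (iv4 D202671) (iv1 F424996) (iv4 F461211) (iv3 F498092) (iv1 F498097)
theorem F524163 : act 6 n213271 = n224298 := d21_3 F442619 F427602 (iv5 F469652) (iv1 D224298) (iv6 F501775) F501771 (iv1 F407135) (iv5 F420148) (iv6 F499961) F499960
theorem F524164 : act 2 n224298 = n219244 := d3_1 F524163 (iv6 F499939) F499936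
def n224299 : Q := act 7 n207894
theorem D224299 : act 7 n207894 = n224299 := rfl
theorem F524165 : act 2 n224299 = n224260 := d4_1 D224299 F523952 F501776
theorem F524166 : act 3 n224299 = n215789 := d8_1 D224299 F481590 (iv3 F446911)
theorem F524167 : act 4 n224299 = n207895 := d11_1 D224299 (iv7 D207895) D207894
theorem F524168 : act 5 n224299 = n222179 := d13_1 D224299 (iv7 D222179) (iv5 F446912)
theorem F524169 : act 6 n224299 = n215788 := d14_1 D224299 F481585 (iv6 F429733) (iv7 F501772) F501775
theorem F524170 : act 1 n219244 = n224299 := d15_1 (iv0 F501780) (iv7 D224299) (iv2 F501776)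
theorem F524171 : act 1 n224299 = n224292 := d15_1 F524170 (iv7 F524159) F524164
def n224300 : Q := act 3 n207919
theorem D224300 : act 3 n207919 = n224300 := rfl
theorem F524172 : act 2 n224300 = n211593 := d0_1 D224300 F462299 F484079 (iv3 F511441) F511440
theorem F524173 : act 4 n224300 = n209447 := d5_2 D207919 D224300 F453743 F219604 F347258
theorem F524174 : act 5 n224300 = n211585 := d6_2 (iv5 F446991) D224300 F462260
theorem F524175 : act 6 n224300 = n209446 := d7_2 (iv6 F446990) D224300 F453740
theorem F524176 : act 7 n224300 = n211584 := d8_2 F448602 D224300 F462255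
theorem F524177 : act 0 n224300 = n210357 := d20_4 (iv4 F446516) F446518 D207919 D224300 F457187 (iv4 F491550) (iv1 F509729) F509728 F499636 (iv1 F499635)
theorem F524178 : act 0 n210360 = n224300 := d20_4 F514204 F513394 F513392 F513320 (iv3 D224300) (iv4 D207919) (iv1 F446509) F446507 (iv3 F486471) F514208
def n224301 : Q := act 5 n207923
theorem D224301 : act 5 n207923 = n224301 := rfl
theorem F524179 : act 2 n224301 = n219614 := d2_1 D224301 F499686 (iv2 F447005)
theorem F524180 : act 3 n224301 = n222160 := d6_1 D224301 F512655 (iv3 F447006)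
theorem F524181 : act 6 n224301 = n207925 := d12_2 D207923 D224301 (iv5 D207925) (iv6 D132581) D132580
theorem F524182 : act 7 n224301 = n219613 := d13_2 (iv7 F447008) D224301 F499680
theorem F524183 : act 4 n224301 = n222162 := d16_2 (iv4 F447007) D224301 F512664 (iv4 D216819) F335376 (iv4 F142797) (iv5 F373068) F373069 (iv2 F379083)
theorem F524184 : act 0 n224301 = n219601 := d17_2 (iv1 F447010) D224301 (iv5 D219601) (iv4 D191832) (iv5 D98988) F72954 D86937 (iv0 F140420) D186653
theorem F524185 : act 1 n224301 = n217013 := d17_6 (iv1 F379868) (iv5 D186772) F157292 D190208 (iv4 F447007) D224301 (iv5 D217013) D217012 F486981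
def n224302 : Q := act 5 n207930
theorem D224302 : act 5 n207930 = n224302 := rfl
theorem F524186 : act 2 n224302 = n219238 := d2_1 D224302 (iv5 F497888) F497073
theorem F524187 : act 3 n224302 = n214215 := d6_1 D224302 (iv5 F486103) F486100
theorem F524188 : act 4 n224302 = n222178 := d9_1 D224302 (iv5 F512746) F502496 (iv5 D207931) (iv4 D132605) D132606 (iv4 F380983) (iv5 F496184) (iv4 F496187) F476210 F447037 (iv5 D207929) (iv4 D132600) D132601 D207930
theorem F524189 : act 6 n224302 = n214199 := d12_2 (iv6 F447038) D224302 F473965 F346759 F346943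
theorem F524190 : act 7 n224302 = n219237 := d13_2 F482391 D224302 F497879
theorem F524191 : act 0 n224302 = n210020 := d17_2 F453124 D224302 (iv5 D210020) F361969 (iv5 F447051) F447055 D207967 (iv0 F515279) F515275
theorem F524192 : act 1 n224302 = n215025 := d17_6 (iv1 D132609) (iv5 D62220) D62218 D132601 D207930 D224302 (iv5 D215025) F361973 F348928
def n224303 : Q := act 3 n207936
theorem D224303 : act 3 n207936 = n224303 := rfl
theorem F524193 : act 2 n224303 = n215231 := d0_1 D224303 F478968 F478948 (iv3 F442738) (iv2 F447065)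
theorem F524194 : act 4 n224303 = n220935 := d5_2 D207936 D224303 F506362 F395269 F218148
theorem F524195 : act 5 n224303 = n215476 := d6_2 (iv5 F447068) D224303 F480159
theorem F524196 : act 6 n224303 = n220935 := d7_2 (iv6 F447066) D224303 F506362
theorem F524197 : act 7 n224303 = n214294 := d8_2 (iv7 F447067) D224303 F474431
theorem F524198 : act 0 n224303 = n214753 := d20_10 (iv4 D214753) (iv1 D160914) (iv4 F254110) (iv3 F369652) D217392 F522283 F522281 (iv1 F446831) D207936 D224303
theorem F524199 : act 0 n214751 = n224303 := d21_4 F492204 (iv1 F373797) D218095 (iv6 F492126) F524196 (iv5 D220935) (iv1 F395263) D215479 (iv6 F492130) (iv1 F492206)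
def n224304 : Q := act 0 n207943
theorem D224304 : act 0 n207943 = n224304 := rfl
theorem F524200 : act 5 n224304 = n218765 := d17_1 D224304 F495552 F488822 (iv4 F521942) (iv5 F521945) (iv0 D217352) D217355 (iv0 F523084) F523081
theorem F524201 : act 4 n224304 = n224282 := d18_1 D224304 (iv1 D224282) (iv4 F524067) F524068 (iv4 D218699) F394506 D218767 F495560 (iv5 F495239)
theorem F524202 : act 3 n224304 = n224182 := d20_5 (iv4 D206083) D206081 (iv4 F521774) F521779 D224304 F523499 (iv1 F443487) D207415 (iv3 F515511) F515513
theorem F524203 : act 6 n224304 = n224257 := d21_5 F361164 (iv1 F211747) (iv5 F212991) D207943 D224304 F523935 F523286 (iv5 F521871) F521873 F437670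
theorem F524204 : act 2 n223938 = n224304 := d15_3 (iv0 D224304) (iv0 F522308) F522307
theorem F524205 : act 1 n219064 = n224304 := d15_0 (iv0 D224304) (iv7 F495242) (iv2 F496982)
theorem F524206 : act 7 n224304 = n224282 := d15_2 F522309 F524205 F524075
def n224305 : Q := act 4 n207947
theorem D224305 : act 4 n207947 = n224305 := rfl
theorem F524207 : act 2 n224305 = n208452 := d1_1 D224305 (iv4 F522207) F522201
theorem F524208 : act 3 n224305 = n209273 := d5_1 D224305 F452995 F446603 F446207 (iv3 F447105)
theorem F524209 : act 6 n224305 = n209272 := d10_2 F523241 D224305 (iv4 F523239)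
theorem F524210 : act 7 n224305 = n210255 := d11_2 (iv7 F521985) D224305 (iv4 F521981)
theorem F524211 : act 0 n224305 = n210256 := d17_0 F456759 (iv1 D192741) F154646 (iv4 F383901) (iv5 F496909) (iv0 F496911) (iv5 F523511) F523514 D224305
theorem F524212 : act 1 n224305 = n208289 := d18_6 F449786 F449303 (iv1 D208424) F216313 D207947 D224305 (iv4 F499297) (iv0 F521928) F521926
def n224306 : Q := act 6 n207965
theorem D224306 : act 6 n207965 = n224306 := rfl
theorem F524213 : act 2 n224306 = n223638 := d3_1 D224306 (iv6 D223638) (iv2 F447177)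
theorem F524214 : act 3 n224306 = n208616 := d7_1 D224306 (iv6 D208616) F447182
theorem F524215 : act 4 n224306 = n207966 := d10_1 D224306 (iv6 D207966) D207965
theorem F524216 : act 5 n224306 = n216502 := d12_1 D224306 F487471 D217109 F487470 (iv5 F447178)
theorem F524217 : act 7 n224306 = n220607 := d14_2 (iv7 F447179) D224306 (iv6 D220607) (iv7 F499492) (iv6 F499495)
theorem F524218 : act 0 n224306 = n219562 := d21_4 F432850 (iv1 F443250) (iv5 F447178) D224306 (iv6 D219562) (iv5 D191751) F281956 D175734 (iv6 F344854) D204554
def n224307 : Q := act 3 n207972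
theorem D224307 : act 3 n207972 = n224307 := rfl
theorem F524219 : act 2 n224307 = n218497 := d0_1 D224307 (iv3 D218497) (iv2 F483116) (iv3 F494538) F494537
theorem F524220 : act 4 n224307 = n208890 := d5_2 D207972 D224307 (iv3 D208890) (iv4 D135263) (iv3 F213438)
theorem F524221 : act 6 n224307 = n209947 := d7_2 F494570 D224307 (iv3 F494567)
theorem F524222 : act 7 n224307 = n218494 := d8_2 (iv7 F447211) D224307 F494155
theorem F524223 : act 0 n224307 = n218642 := d19_4 F324730 D132870 D207972 D224307 (iv5 D218642) (iv4 D189735) F377567 (iv1 F413704) (iv5 D199830) (iv4 D111796) (iv3 F172582) (iv1 D111268) F80962 (iv4 F93719) (iv3 F203619) D205770 (iv5 F504569) (iv4 D220603) (iv3 D194005)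
theorem F524224 : act 5 n219347 = n224307 := d17_1 (iv1 F498402) F524223 (iv5 D218642) (iv4 D189735) F377568 F248921 F248917 F270255 D215296
theorem F524225 : act 1 n224307 = n218641 := d17_6 F515177 F494350 (iv1 F475992) F474481 (iv4 F498399) F524224 (iv5 D218641) F494213 (iv4 F515176)
def n224308 : Q := act 5 n207972
theorem D224308 : act 5 n207972 = n224308 := rfl
theorem F524226 : act 2 n224308 = n214897 := d2_1 D224308 (iv5 F494540) F494537
theorem F524227 : act 3 n224308 = n219347 := d6_1 D224308 F524224 (iv3 D224307)
theorem F524228 : act 4 n224308 = n214896 := d9_1 D224308 (iv5 D214896) (iv4 F334377) (iv5 F334633) F157536 (iv5 F144850) (iv4 F376798) (iv5 F382759) F382758 F294071 F323709 (iv5 D62360) (iv4 F97233) D132870 D207972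
theorem F524229 : act 7 n224308 = n218495 := d13_2 (iv7 F447211) D224308 (iv5 D218495)
theorem F524230 : act 0 n224308 = n219346 := d17_2 F486184 D224308 F498394 F443801 F209186 F288299 (iv5 F376476) F376478 D216845
theorem F524231 : act 1 n224308 = n219345 := d17_6 (iv1 F399587) (iv5 D194006) F324730 D132870 D207972 D224308 F498389 (iv0 F508598) (iv4 D221360)
def n224309 : Q := act 0 n207986
theorem D224309 : act 0 n207986 = n224309 := rfl
theorem F524232 : act 5 n224309 = n221351 := d17_1 D224309 F508540 (iv5 F523093) F523092 F453377 (iv0 F420021) F405845 D216045 (iv4 F482649)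
theorem F524233 : act 4 n224309 = n222420 := d18_1 D224309 F514122 (iv4 D209344) (iv5 D136332) D136331 F399219 D207573 F445510 D207986
theorem F524234 : act 3 n224309 = n223881 := d20_5 D207032 F443054 F384480 (iv3 F447290) D224309 F521811 (iv1 F508942) (iv4 F446758) F446756 (iv1 F212770)
theorem F524235 : act 6 n224309 = n222419 := d21_5 F513974 (iv1 F442638) (iv5 F513383) F513384 D224309 F514114 (iv1 D212256) D212257 F464997 D222394
theorem F524236 : act 1 n221027 = n224309 := d15_0 (iv0 D224309) F447291 (iv2 F506869)
theorem F524237 : act 2 n221386 = n224309 := d3_3 F524235 F514112 F511874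
theorem F524238 : act 7 n221385 = n224309 := d14_0 F524235 F514115 F509134 (iv7 F464355) (iv6 F508741)
def n224310 : Q := act 1 n207986
theorem D224310 : act 1 n207986 = n224310 := rfl
theorem F524239 : act 1 n224310 = n221027 := d15_1 D224310 F506871 (iv2 F447289)
theorem F524240 : act 7 n224310 = n221386 := d15_2 (iv0 D224309) D224310 F524237
theorem F524241 : act 5 n224310 = n222942 := d17_7 (iv1 D131822) D131824 F361707 (iv5 D132995) (iv4 F213628) D207986 D224310 F516899 F442442
theorem F524242 : act 4 n224310 = n216568 := d17_9 F484986 (iv5 F467927) F467928 D212885 (iv4 F523860) (iv5 D224243) F445510 D207986 D224310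
theorem F524243 : act 3 n208399 = n224310 := d19_19 (iv1 D224310) (iv5 D207986) F213628 (iv3 D62404) (iv1 F97276) D132936 D207981 (iv3 F494851) F513216 F513213 F414307 F400774 D196475 F400783 F247327 (iv3 F222786) (iv1 F222790) (iv5 F388631) (iv4 F449194)
theorem F524244 : act 6 n221508 = n224310 := d21_3 F510356 (iv1 F441487) (iv5 F509363) (iv1 D224310) (iv6 F513384) F513383 (iv1 D205976) D205978 F463544 (iv1 F510358)
theorem F524245 : act 2 n224310 = n221385 := d3_1 F524244 F508741 (iv2 F509361)
def n224311 : Q := act 6 n208009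
theorem D224311 : act 6 n208009 = n224311 := rfl
theorem F524246 : act 3 n224311 = n208012 := d7_1 D224311 (iv6 D208012) (iv3 F447421)
theorem F524247 : act 4 n224311 = n222600 := d10_1 D224311 F515116 (iv4 F467446)
theorem F524248 : act 5 n224311 = n224164 := d12_1 D224311 (iv6 F523391) (iv5 F456736) F438891 D208009
def n224312 : Q := act 0 n208011
theorem D224312 : act 0 n208011 = n224312 := rfl
theorem F524249 : act 5 n224312 = n224190 := d17_1 D224312 (iv1 D224190) (iv5 F522282) F522281 F446829 F443471 (iv5 F447423) (iv0 D208010) D208011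
theorem F524250 : act 4 n224312 = n222537 := d18_1 D224312 F514787 (iv4 F495747) (iv5 F522084) (iv4 D223934) F437491 D206829 F497247 F497245
theorem F524251 : act 2 n224190 = n224312 := d15_3 (iv0 D224312) (iv0 F523055) (iv7 F523549)
theorem F524252 : act 1 n219283 = n224312 := d15_0 (iv0 D224312) F447427 (iv2 F498107)
theorem F524253 : act 7 n224312 = n224189 := d15_2 F523056 F524252 F523547
theorem F524254 : act 6 n217419 = n224312 := d21_9 (iv5 F522091) (iv1 D223935) (iv5 F442340) F512357 (iv1 F512359) (iv6 F492242) (iv5 D218124) F373852 D217419 (iv1 F524252)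
theorem F524255 : act 3 n224312 = n218789 := d7_1 F524254 (iv6 D218789) (iv3 F488811)
def n224313 : Q := act 6 n208011
theorem D224313 : act 6 n208011 = n224313 := rfl
theorem F524256 : act 2 n224313 = n211784 := d3_1 D224313 (iv6 F497295) F497293
theorem F524257 : act 4 n224313 = n208012 := d10_1 D224313 (iv6 D208012) D208011
theorem F524258 : act 5 n224313 = n211770 := d21_6 (iv5 D212769) (iv1 F444801) (iv5 F512962) (iv6 F523054) F523055 D224313 (iv1 F463032) D211780 F463062 (iv1 F467441)
theorem F524259 : act 0 n224313 = n211782 := d21_10 (iv5 F512541) F512542 (iv5 F515147) F515148 F512358 (iv6 F512357) F442340 F497246 F497245 D224313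
theorem F524260 : act 0 n211781 = n224313 := d21_4 (iv5 D215093) F277911 D215910 (iv6 F512325) (iv6 D224313) (iv5 F497245) (iv1 F497247) F442340 F437492 F482004
theorem F524261 : act 7 n224313 = n211769 := d15_2 D211782 (iv0 F524259) F463029
def n224314 : Q := act 0 n208012
theorem D224314 : act 0 n208012 = n224314 := rfl
theorem F524262 : act 5 n224314 = n219506 := d17_3 F523281 F523278 D224314 F499202 (iv5 F485882) (iv0 F485883) (iv5 D209283) D209282 (iv4 F522990)
theorem F524263 : act 7 n219505 = n224314 := d13_0 F524262 (iv7 D219506) D219505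
theorem F524264 : act 2 n224314 = n219063 := d15_3 (iv0 F522304) (iv0 F522302) F524263
def n224315 : Q := act 1 n208012
theorem D224315 : act 1 n208012 = n224315 := rfl
theorem F524265 : act 1 n224315 = n211783 := d15_1 D224315 F522303 F522298
theorem F524266 : act 7 n224315 = n219063 := d15_2 (iv0 D224314) D224315 (iv2 F524264)
theorem F524267 : act 4 n224315 = n220937 := d17_9 F506375 F495631 F467432 F495990 (iv4 F524106) (iv5 D224288) (iv0 F523280) F523278 D224315
theorem F524268 : act 3 n217420 = n224315 := d19_19 (iv1 D224315) (iv5 F523278) F523277 (iv3 F456699) (iv1 F456702) (iv5 D191286) (iv4 D97966) F72125 D45734 F291497 F290963 (iv3 D44003) F290959 (iv5 D21624) D21623 D45352 (iv1 F137993) D187304 D217420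
theorem F524269 : act 6 n220936 = n224315 := d21_3 (iv5 F507787) F507789 (iv5 F506367) (iv1 D224315) (iv6 D208012) (iv5 D133170) (iv1 F102070) D129642 (iv6 F218510) D209140
theorem F524270 : act 5 n219496 = n224315 := d21_6 (iv5 D129450) F95396 D126560 (iv6 F437578) F437579 D219496 (iv1 D224315) (iv5 F523278) (iv6 D224143) (iv1 D206891)
theorem F524271 : act 2 n224315 = n219505 := d2_1 F524270 (iv5 D219505) (iv2 F499172)
theorem F524272 : act 1 n211783 = n224314 := d15_1 F524265 (iv7 F524263) (iv2 F524271)
def n224316 : Q := act 7 n208012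
theorem D224316 : act 7 n208012 = n224316 := rfl
theorem F524273 : act 2 n224316 = n211783 := d4_1 D224316 F522303 F522298
theorem F524274 : act 4 n224316 = n211769 := d11_1 D224316 (iv7 F524261) F524257
theorem F524275 : act 5 n224316 = n224092 := d13_1 D224316 (iv7 F523279) F523278
theorem F524276 : act 6 n224316 = n224194 := d14_1 D224316 (iv7 D224194) (iv6 D207135) (iv7 F213943) D208012
theorem F524277 : act 1 n219505 = n224316 := d15_1 (iv0 F522302) (iv7 D224316) (iv2 F522298)
theorem F524278 : act 1 n224316 = n219063 := d15_1 F524277 (iv7 F524266) F524271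
def n224317 : Q := act 5 n208031
theorem D224317 : act 5 n208031 = n224317 := rfl
theorem F524279 : act 2 n224317 = n218914 := d2_1 D224317 F496177 F494183
theorem F524280 : act 3 n224317 = n208032 := d6_1 D224317 (iv5 D208032) D208031
theorem F524281 : act 6 n224317 = n217088 := d12_2 (iv6 F447526) D224317 F487346 F394943 F380767
theorem F524282 : act 7 n224317 = n214810 := d13_2 F477735 D224317 (iv5 F477734)
theorem F524283 : act 4 n224317 = n218819 := d16_2 F494205 D224317 F495795 F480972 (iv5 F494367) F494368 F494272 (iv7 D218508) (iv2 F494203)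
theorem F524284 : act 0 n224317 = n218109 := d17_2 F494434 D224317 (iv5 D218109) (iv4 F430969) (iv5 D189462) (iv0 D93976) D93979 D189473 D218551
theorem F524285 : act 1 n224317 = n223603 := d17_8 (iv1 F477510) (iv5 D214933) (iv1 F430248) (iv5 F433489) D223780 F521231 (iv0 F494430) D224317 (iv4 D223603)
def n224318 : Q := act 3 n208041
theorem D224318 : act 3 n208041 = n224318 := rfl
theorem F524286 : act 2 n224318 = n220571 := d0_1 D224318 F504409 F493391 (iv3 F493393) F450881
theorem F524287 : act 4 n224318 = n211193 := d5_2 F450883 D224318 F460557 F462009 (iv3 F462008)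
theorem F524288 : act 5 n224318 = n219736 := d6_2 F450886 D224318 (iv3 F500340)
theorem F524289 : act 6 n224318 = n223521 := d7_2 (iv6 F450885) D224318 (iv3 D223521)
theorem F524290 : act 7 n224318 = n211190 := d8_2 (iv7 F450882) D224318 F460539
theorem F524291 : act 0 n222808 = n224318 := d20_4 (iv4 F419464) (iv1 D201212) D201213 D222808 (iv3 D224318) (iv4 F450883) (iv1 F409157) (iv4 F450379) F453722 (iv1 D209442)
def n224319 : Q := act 3 n208053
theorem D224319 : act 3 n208053 = n224319 := rfl
theorem F524292 : act 2 n224319 = n224211 := d0_1 D224319 (iv3 D224211) F444334 F511825 (iv2 F511827)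
theorem F524293 : act 6 n224319 = n219017 := d7_2 F513076 D224319 (iv3 F513075)
theorem F524294 : act 7 n224319 = n224211 := d8_2 (iv7 F447654) D224319 (iv3 D224211)
theorem F524295 : act 0 n224319 = n221454 := d20_4 (iv4 D134354) (iv1 F214252) D208053 D224319 F509083 (iv4 D216899) (iv1 F367068) D191854 (iv3 F422746) (iv1 F412833)
theorem F524296 : act 0 n221454 = n224319 := d20_4 (iv4 D191852) (iv1 F367126) D216899 (iv3 F509083) (iv3 D224319) (iv4 D208053) F433107 (iv4 F514235) (iv3 F514236) F487563
def n224320 : Q := act 4 n208055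
theorem D224320 : act 4 n208055 = n224320 := rfl
theorem F524297 : act 2 n224320 = n216651 := d1_1 D224320 F485332 (iv2 F451129)
theorem F524298 : act 3 n224320 = n216652 := d5_1 D224320 (iv4 F500450) F500449 F423707 (iv3 F447660)
theorem F524299 : act 5 n224320 = n216651 := d9_2 D208055 D224320 F485332 F451128 F383571 (iv5 F169026) (iv4 F341434) D191492 D219446 F498915 F485340 F392009 F209404 (iv5 F97534) (iv4 F214253)
theorem F524300 : act 6 n224320 = n215822 := d10_2 (iv6 F447661) D224320 (iv4 D215822)
theorem F524301 : act 7 n224320 = n216654 := d11_2 (iv7 F447662) D224320 F485340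
theorem F524302 : act 0 n224320 = n208507 := d17_0 F449675 (iv1 D208503) D208505 F449648 (iv5 D134816) F98645 D134445 (iv0 F447663) D224320
theorem F524303 : act 1 n224320 = n208510 := d18_6 (iv1 F407195) (iv4 D135218) (iv1 F164114) (iv4 F214253) D208055 D224320 (iv4 D208510) (iv0 F406335) (iv5 F407193)
def n224321 : Q := act 6 n208069
theorem D224321 : act 6 n208069 = n224321 := rfl
theorem F524304 : act 2 n224321 = n214106 := d3_1 D224321 (iv6 D214106) (iv2 F447741)
theorem F524305 : act 3 n224321 = n216545 := d7_1 D224321 F484882 (iv3 F447742)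
theorem F524306 : act 4 n224321 = n208071 := d10_1 D224321 (iv6 D208071) D208069
theorem F524307 : act 5 n224321 = n219060 := d12_1 D224321 (iv6 D219060) F380872 (iv6 F419880) (iv5 F447744)
theorem F524308 : act 7 n224321 = n216544 := d14_2 (iv7 F447743) D224321 (iv6 D216544) (iv7 F356171) (iv6 F419876)
theorem F524309 : act 0 n224321 = n210243 := d21_4 F416281 (iv1 F419882) (iv5 F447744) D224321 F456716 (iv5 D193426) D193424 (iv5 F473700) (iv6 D214144) F416283
theorem F524310 : act 1 n224321 = n223180 := d15_1 (iv0 F524309) F518051 F514377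
def n224322 : Q := act 5 n208083
theorem D224322 : act 5 n208083 = n224322 := rfl
theorem F524311 : act 3 n224322 = n208084 := d6_1 D224322 (iv5 D208084) D208083
theorem F524312 : act 6 n224322 = n215903 := d12_2 (iv6 F482218) D224322 (iv5 D215903) (iv6 F340150) D215947
theorem F524313 : act 7 n224322 = n224203 := d13_2 (iv7 F447811) D224322 (iv5 D224203)
theorem F524314 : act 0 n224322 = n222150 := d17_2 (iv1 F447813) D224322 F512605 (iv4 D217496) (iv5 D187408) F138332 (iv5 F295136) (iv0 F335369) D191141
def n224323 : Q := act 3 n208087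
theorem D224323 : act 3 n208087 = n224323 := rfl
theorem F524315 : act 4 n224323 = n224294 := d5_2 F492246 D224323 F524139 (iv4 F492147) (iv3 F492245)
theorem F524316 : act 5 n224323 = n219098 := d6_2 F448282 D224323 F497166
theorem F524317 : act 6 n224323 = n223970 := d7_2 F488705 D224323 (iv3 F522283)
theorem F524318 : act 7 n224323 = n224205 := d8_2 F462828 D224323 (iv3 D224205)
theorem F524319 : act 0 n224323 = n219229 := d19_4 F495046 (iv5 F492247) F492246 D224323 (iv5 D219229) (iv4 D190963) (iv3 F381716) F381717 (iv5 D188209) (iv4 D91085) D91084 F288890 D91165 D188288 (iv3 F489377) (iv1 F489381) (iv5 F474301) F477231 (iv3 F495044)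
theorem F524320 : act 0 n219309 = n224323 := d20_4 (iv4 D223816) F434845 F434847 (iv3 F498234) (iv3 D224323) (iv4 F492246) F492248 (iv4 D214202) (iv3 F473942) (iv1 F521446)
def n224324 : Q := act 5 n208090
theorem D224324 : act 5 n208090 = n224324 := rfl
theorem F524321 : act 2 n224324 = n208091 := d2_1 D224324 (iv5 D208091) D208090
theorem F524322 : act 3 n224324 = n224313 := d6_1 D224324 F524258 F463031
theorem F524323 : act 4 n224324 = n222587 := d9_1 D224324 (iv5 D222587) F415692 F429390 F429387 F363321 (iv4 F182845) D202783 (iv4 F515016) (iv5 D222582) F415619 F402153 (iv4 F458013) (iv5 F511350) F511349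
theorem F524324 : act 6 n224324 = n218906 := d12_2 F462849 D224324 F496129 D219114 F497251
theorem F524325 : act 7 n224324 = n223286 := d13_2 (iv7 F447835) D224324 (iv5 D223286)
theorem F524326 : act 0 n224324 = n223291 := d17_2 (iv1 F447836) D224324 F518663 (iv4 F471777) (iv5 F509106) F509109 (iv5 F463495) (iv0 F518651) (iv4 D223288)
theorem F524327 : act 1 n224324 = n223290 := d17_6 F424782 F402613 F458015 (iv5 F511350) F511349 D224324 F518658 F505719 F505716
def n224325 : Q := act 1 n208091
theorem D224325 : act 1 n208091 = n224325 := rfl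
theorem F524328 : act 1 n224325 = n223286 := d15_1 D224325 (iv7 F524325) F524321
theorem F524329 : act 7 n224325 = n223291 := d15_2 (iv0 F462920) D224325 F518666
theorem F524330 : act 4 n224325 = n220387 := d17_9 F503532 F496074 (iv1 D194347) D194348 (iv4 F497263) F497260 (iv0 D208089) D208091 D224325
theorem F524331 : act 3 n219172 = n224325 := d19_19 (iv1 D224325) (iv5 D208091) (iv4 F405127) (iv3 D197637) (iv1 F167809) (iv5 F341375) (iv4 D57254) (iv3 F61364) (iv1 F297384) F126016 D76023 (iv3 F310658) (iv1 D131608) D131609 (iv4 F440374) (iv3 F491858) (iv1 F491863) D222311 F513512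
theorem F524332 : act 6 n219124 = n224325 := d21_3 F447853 F418496 (iv5 F497301) (iv1 D224325) F495522 F495519 (iv1 D217393) (iv5 F480289) (iv6 D215514) (iv1 F447856)
theorem F524333 : act 2 n224325 = n223290 := d3_1 F524332 F518660 F497303
theorem F524334 : act 5 n224325 = n220821 := d12_1 F524332 (iv6 F505713) (iv5 F476984) F476985 (iv5 F497301)
def n224326 : Q := act 4 n208096
theorem D224326 : act 4 n208096 = n224326 := rfl
theorem F524335 : act 3 n224326 = n209060 := d5_1 D224326 (iv4 F514527) F514526 (iv4 D208097) D208096
theorem F524336 : act 6 n224326 = n218765 := d10_2 (iv6 F447852) D224326 (iv4 D218765)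
theorem F524337 : act 1 n224326 = n224288 := d18_6 (iv1 F505603) (iv4 F518566) (iv1 F518567) (iv4 F509464) F509465 D224326 F524106 F495988 F488853
theorem F524338 : act 5 n219503 = n224326 := d19_1 D219503 (iv4 D224326) (iv3 D208096) (iv1 D133381) (iv5 D62598) F47523 (iv3 F47489) D62579 F100096 (iv4 F203606) (iv3 F437726) F442935 (iv5 F445722) (iv4 D207622) (iv3 F440686) F440688 F421352 (iv4 F499195) F499194
def n224327 : Q := act 3 n208099
theorem D224327 : act 3 n208099 = n224327 := rfl
theorem F524339 : act 2 n224327 = n210019 := d0_1 D224327 F455778 F220416 (iv3 F418450) (iv2 F447866)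
theorem F524340 : act 4 n224327 = n214748 := d5_2 (iv4 F447864) D224327 (iv3 F512648) F512645 F488570
theorem F524341 : act 5 n224327 = n210016 := d6_2 (iv5 F447863) D224327 F455763
theorem F524342 : act 6 n224327 = n215023 := d7_2 F447865 D224327 F477942
theorem F524343 : act 7 n224327 = n215142 := d8_2 F474006 D224327 (iv3 F478556)
theorem F524344 : act 0 n224327 = n214698 := d19_4 (iv1 F393734) F393732 (iv4 F447864) D224327 F476439 (iv4 F431918) F431917 F341258 (iv5 F428658) F428657 (iv3 F314138) F207455 (iv5 F318953) F216706 F322117 (iv1 F348138) F222977 (iv4 F447045) (iv3 D207933)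
theorem F524345 : act 0 n215222 = n224327 := d20_4 D173334 (iv1 F434032) F434030 (iv3 F478946) (iv3 D224327) F447864 F381687 D200313 (iv3 F415953) (iv1 D173333)
def n224328 : Q := act 4 n208101
theorem D224328 : act 4 n208101 = n224328 := rfl
theorem F524346 : act 2 n224328 = n222083 := d1_1 D224328 F512271 F503866
theorem F524347 : act 3 n224328 = n222132 := d5_1 D224328 F512510 (iv3 F414090) (iv4 F381683) (iv3 F447871)
theorem F524348 : act 5 n224328 = n220028 := d9_2 D208101 D224328 (iv4 D220028) (iv5 F498876) (iv4 F518238) (iv5 D223214) F424343 D211827 (iv4 F521129) F521130 F482823 D220027 F501725 (iv5 D214125) F246044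
theorem F524349 : act 6 n224328 = n218924 := d10_2 F497319 D224328 (iv4 F497320)
theorem F524350 : act 7 n224328 = n211841 := d11_2 (iv7 F447872) D224328 (iv4 D211841)
theorem F524351 : act 0 n224328 = n211317 := d17_0 (iv5 D211317) D211316 (iv5 F512277) F512278 F503872 (iv0 F453178) D220383 (iv0 F503513) D224328
theorem F524352 : act 1 n224328 = n215549 := d18_6 F518644 F518643 F473468 F246044 D208101 D224328 F480451 (iv0 F518783) (iv5 D223311)
def n224329 : Q := act 6 n208111
theorem D224329 : act 6 n208111 = n224329 := rfl
theorem F524353 : act 2 n224329 = n215007 := d3_1 D224329 F477858 (iv2 F447920)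
theorem F524354 : act 3 n224329 = n215043 := d7_1 D224329 (iv6 F494269) F494266
theorem F524355 : act 4 n224329 = n218458 := d10_1 D224329 (iv6 D218458) (iv4 F447922)
theorem F524356 : act 5 n224329 = n215041 := d12_1 D224329 (iv6 F478086) F478085 (iv6 F438998) D208111
theorem F524357 : act 7 n224329 = n215040 := d14_2 (iv7 F447921) D224329 F478025 F381943 F377267
theorem F524358 : act 0 n224329 = n216968 := d21_4 F376426 (iv1 F214476) D208111 D224329 F486786 (iv5 D192209) F333110 D202711 (iv6 F477708) (iv1 F477713)
theorem F524359 : act 0 n208488 = n224329 := d21_4 (iv5 F300520) F344524 D198744 (iv6 F449589) (iv6 D224329) (iv5 D208111) F293657 D164104 F258635 D164111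
def n224330 : Q := act 5 n208180
theorem D224330 : act 5 n208180 = n224330 := rfl
theorem F524360 : act 2 n224330 = n223765 := d2_1 D224330 F521145 F486588
theorem F524361 : act 3 n224330 = n214740 := d6_1 D224330 F476608 (iv3 F448267)
theorem F524362 : act 4 n224330 = n223770 := d9_1 D224330 F521175 (iv4 D207319) (iv5 D130820) D130819 D207318 F448270 (iv5 F511778) (iv4 D221988) (iv5 D197937) F327948 F330889 D130814 (iv5 F373812) (iv4 F448266)
theorem F524363 : act 6 n224330 = n217414 := d12_2 F448268 D224330 (iv5 F492220) (iv6 F492217) (iv5 D218118)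
theorem F524364 : act 7 n224330 = n223766 := d13_2 F486038 D224330 F521152
theorem F524365 : act 0 n224330 = n214328 := d17_2 D208180 D224330 (iv5 D214328) F369281 (iv5 F176983) F366055 D207269 F444068 F443291
theorem F524366 : act 1 n224330 = n214325 := d17_6 D187176 F369362 F369371 (iv5 F373812) (iv4 F448266) D224330 (iv5 D214325) (iv0 D158125) (iv4 F137620)
def n224331 : Q := act 1 n208184
theorem D224331 : act 1 n208184 = n224331 := rfl
theorem F524367 : act 1 n224331 = n208186 := d15_1 D224331 (iv7 F513104) F513101
theorem F524368 : act 7 n224331 = n222606 := d15_2 F515062 D224331 F515142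
theorem F524369 : act 5 n224331 = n214324 := d17_7 (iv1 F379835) (iv5 D190466) (iv1 F379818) F379816 (iv4 F409408) D208184 D224331 (iv0 F495416) (iv4 D218739)
theorem F524370 : act 3 n214325 = n224331 := d19_19 (iv1 D224331) (iv5 D208184) F409408 D196935 F402360 F377644 (iv4 D135809) (iv3 F218412) F364718 (iv5 D144784) D144783 D212005 (iv1 F478752) (iv5 D215179) F377828 (iv3 F377829) (iv1 F253105) D204718 (iv4 F474583)
def n224332 : Q := act 3 n208187
theorem D224332 : act 3 n208187 = n224332 := rfl
theorem F524371 : act 5 n224332 = n214996 := d6_2 F496485 D224332 (iv3 F496482)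
theorem F524372 : act 6 n224332 = n214997 := d7_2 (iv6 F515101) D224332 (iv3 F515097)
theorem F524373 : act 0 n224332 = n215701 := d19_4 D203860 (iv5 F476477) F476640 D224332 (iv5 D215701) (iv4 D176914) (iv3 D84331) (iv1 F59911) (iv5 F54664) (iv4 D34457) (iv3 F27971) F27973 (iv5 F21985) (iv4 F28313) F28312 (iv1 F21416) D26962 D55895 D121135
def n224333 : Q := act 1 n208196
theorem D224333 : act 1 n208196 = n224333 := rfl
theorem F524374 : act 1 n224333 = n218493 := d15_1 D224333 F494153 F461822
theorem F524375 : act 7 n224333 = n222616 := d15_2 (iv0 F448310) D224333 F515197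
theorem F524376 : act 3 n211833 = n224333 := d19_19 (iv1 D224333) (iv5 F497740) F497739 (iv3 F497515) F497518 (iv5 F413836) (iv4 F413837) (iv3 F415872) (iv1 D200294) F233582 D212677 (iv3 F475412) (iv1 F521594) F521590 F443077 F288366 (iv1 F362718) D208909 (iv4 F463233)
theorem F524377 : act 6 n217962 = n224333 := d21_3 F463301 F372680 D217962 (iv1 D224333) F448309 (iv5 D137133) D137130 D209943 F455469 (iv1 F463305)
theorem F524378 : act 2 n224333 = n218712 := d3_1 F524377 (iv6 D218712) (iv2 F491435)
def n224334 : Q := act 4 n208201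
theorem D224334 : act 4 n208201 = n224334 := rfl
theorem F524379 : act 2 n224334 = n223482 := d1_1 D224334 F519682 (iv2 F448328)
theorem F524380 : act 3 n224334 = n215763 := d5_1 D224334 (iv4 D215763) (iv3 F290089) D192554 (iv3 F448329)
theorem F524381 : act 6 n224334 = n223478 := d10_2 F523674 D224334 (iv4 F523676)
theorem F524382 : act 7 n224334 = n215790 := d11_2 (iv7 F448330) D224334 F481593
theorem F524383 : act 0 n224334 = n223651 := d18_2 F448332 D224334 F520541 (iv5 F468563) (iv4 F474101) F474104 F459015 F429712 (iv5 F432009)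
theorem F524384 : act 1 n224334 = n219861 := d18_6 D149111 (iv4 F403382) (iv1 D197170) (iv4 F215095) D208201 D224334 (iv4 D219861) (iv0 F386559) (iv5 D149115)
def n224335 : Q := act 2 n208202
theorem D224335 : act 2 n208202 = n224335 := rfl
theorem F524385 : act 3 n224335 = n216878 := d0_2 D208202 D224335 F486345 F352839 F314906
theorem F524386 : act 4 n224335 = n208613 := d1_2 (iv4 F448333) D224335 (iv2 F450161)
theorem F524387 : act 5 n224335 = n212954 := d2_2 (iv5 F448334) D224335 (iv2 F468300)
theorem F524388 : act 6 n224335 = n211594 := d3_2 F466655 D224335 (iv2 F466654)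
theorem F524389 : act 7 n224335 = n208618 := d4_2 (iv7 F448335) D224335 F450180
theorem F524390 : act 1 n224335 = n212592 := d15_0 (iv0 F466593) (iv7 F448335) D224335
theorem F524391 : act 1 n214433 = n224335 := d15_0 F524390 F466592 (iv2 F475161)
def n224336 : Q := act 4 n208240
theorem D224336 : act 4 n208240 = n224336 := rfl
theorem F524392 : act 2 n224336 = n208706 := d1_1 D224336 F450513 F448537
theorem F524393 : act 3 n224336 = n208899 := d5_1 D224336 (iv4 F511535) F511534 (iv4 F466565) F466564
theorem F524394 : act 5 n224336 = n211296 := d9_2 (iv5 F448536) D224336 (iv4 F463787) F463788 (iv4 F474176) F474175 (iv4 F406456) (iv5 F448530) (iv4 F459107) F459108 F425073 F403139 (iv4 F472322) F472323 (iv4 F406462)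
theorem F524395 : act 6 n224336 = n208586 := d10_2 F471859 D224336 (iv4 F471858)
theorem F524396 : act 7 n224336 = n222414 := d11_2 (iv7 F448535) D224336 (iv4 D222414)
theorem F524397 : act 0 n224336 = n221887 := d17_0 F511214 F426593 F414770 (iv4 D200048) (iv5 D112496) (iv0 F172676) (iv5 F215911) D208240 D224336
theorem F524398 : act 1 n224336 = n213545 := d18_6 F408262 (iv4 D191064) D191062 (iv4 F406462) (iv5 F448536) D224336 F470959 (iv0 F465757) F465756
def n224337 : Q := act 5 n208249
theorem D224337 : act 5 n208249 = n224337 := rfl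
theorem F524399 : act 2 n224337 = n210231 := d2_1 D224337 F456663 F448576
theorem F524400 : act 3 n224337 = n209237 := d6_1 D224337 F452829 (iv3 F448577)
theorem F524401 : act 6 n224337 = n215310 := d12_2 (iv6 F448575) D224337 F479328 F380425 F349218
theorem F524402 : act 7 n224337 = n210230 := d13_2 (iv7 F448578) D224337 F456657
theorem F524403 : act 0 n224337 = n210232 := d17_2 D208249 D224337 (iv5 F456668) (iv4 F510569) F510566 (iv0 F507033) F507030 F499341 F448572
theorem F524404 : act 1 n224337 = n210220 := d17_6 (iv1 F403761) F403878 F223683 D195290 (iv4 F448574) D224337 F456632 (iv0 D208720) (iv4 F403758)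
def n224338 : Q := act 1 n208259
theorem D224338 : act 1 n208259 = n224338 := rfl
theorem F524405 : act 1 n224338 = n218319 := d15_1 D224338 F493301 F473213
theorem F524406 : act 7 n224338 = n218376 := d15_2 (iv0 F448622) D224338 F493579
theorem F524407 : act 5 n224338 = n208712 := d18_9 (iv1 D208712) (iv4 F450524) F509080 F509076 (iv5 F499853) (iv4 F502639) (iv0 F502640) (iv4 F448621) D224338
theorem F524408 : act 2 n210359 = n224338 := d2_3 F524407 F513321 F513324
theorem F524409 : act 3 n209254 = n224338 := d6_3 F524407 (iv3 F489593) (iv5 F452914)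
theorem F524410 : act 6 n209252 = n224338 := d21_5 (iv5 F395935) (iv1 F423852) (iv5 D202391) D202392 F455707 F524407 (iv1 D208712) (iv5 F410385) F410386 F365268
def n224339 : Q := act 5 n208265
theorem D224339 : act 5 n208265 = n224339 := rfl
theorem F524411 : act 2 n224339 = n208268 := d2_1 D224339 (iv5 D208268) (iv2 F448646)
theorem F524412 : act 3 n224339 = n208368 := d6_1 D224339 (iv5 D208368) (iv3 F448647)
theorem F524413 : act 6 n224339 = n213571 := d12_2 D208265 D224339 F471090 (iv6 F415462) F360775
theorem F524414 : act 7 n224339 = n220944 := d13_2 F448648 D224339 (iv5 D220944)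
theorem F524415 : act 4 n224339 = n222570 := d16_2 (iv4 F499251) D224339 (iv5 F524117) F524116 (iv5 F493386) (iv4 F516631) F516632 F446960 (iv2 F499252)
theorem F524416 : act 1 n224339 = n221774 := d17_6 F516644 (iv5 D222896) F516622 F516619 (iv4 F499251) D224339 (iv5 F510769) F450328 F450325
theorem F524417 : act 0 n224339 = n208700 := d21_1 D224339 (iv5 D208700) (iv6 D134942) (iv1 D63420) D63423 D134951 F365268 (iv5 F395935) D220982 F506632
def n224340 : Q := act 5 n208267
theorem D224340 : act 5 n208267 = n224340 := rfl
theorem F524418 : act 2 n224340 = n223587 := d2_1 D224340 F520210 F506628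
theorem F524419 : act 3 n224340 = n208530 := d6_1 D224340 (iv5 D208530) F448651
theorem F524420 : act 6 n224340 = n219416 := d12_2 F448652 D224340 F498790 (iv6 F493603) F423548
theorem F524421 : act 7 n224340 = n223588 := d13_2 (iv7 F450782) D224340 (iv5 F520216)
theorem F524422 : act 0 n224340 = n223589 := d17_2 (iv1 F448650) D224340 F520221 F450325 (iv5 F486994) F486993 (iv5 F499255) (iv0 F506406) (iv4 D220943)
theorem F524423 : act 0 n220945 = n224340 := d21_10 (iv5 D224340) (iv1 D208267) D208268 (iv6 F519829) F519831 (iv6 F475968) (iv5 D214595) F301832 D204039 (iv6 F506414)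
def n224341 : Q := act 0 n208268
theorem D224341 : act 0 n208268 = n224341 := rfl
theorem F524424 : act 5 n224341 = n208583 := d17_3 (iv1 D208267) D208268 D224341 (iv4 F521883) (iv5 F521885) (iv0 F516850) F502457 (iv0 F523297) F523298
theorem F524425 : act 3 n224341 = n223614 := d20_5 (iv4 F473568) F473569 (iv4 D208271) (iv3 F448653) D224341 (iv4 D223614) (iv1 F516735) F516738 F449341 (iv1 F445290)
theorem F524426 : act 2 n208700 = n224341 := d15_3 (iv0 D224341) (iv0 F455984) F455983
theorem F524427 : act 7 n224341 = n221774 := d4_2 F455983 F524426 F510768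
theorem F524428 : act 4 n221775 = n224341 := d11_3 F524427 (iv4 D221774) D221775
theorem F524429 : act 1 n220944 = n224341 := d15_1 (iv0 F506410) F524427 F510768
theorem F524430 : act 6 n216214 = n224341 := d7_0 F524425 F520344 F501605
def n224342 : Q := act 4 n208268
theorem D224342 : act 4 n208268 = n224342 := rfl
theorem F524431 : act 2 n224342 = n222570 := d1_1 D224342 (iv4 F524415) F524411
theorem F524432 : act 6 n224342 = n221064 := d10_2 F519829 D224342 (iv4 F519832)
theorem F524433 : act 5 n224342 = n222107 := d16_1 D224342 F512400 (iv5 F516638) (iv4 D222895) (iv5 F506408) (iv4 D220943) D220944 (iv7 F524414) F524411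
theorem F524434 : act 3 n221816 = n224342 := d20_5 (iv4 F510958) (iv1 D221829) (iv4 D197379) (iv3 F404071) D221816 (iv4 D224342) D224341 (iv4 F524428) F510770 (iv1 F507111)
def n224343 : Q := act 7 n208268
theorem D224343 : act 7 n208268 = n224343 := rfl
theorem F524435 : act 2 n224343 = n220944 := d4_1 D224343 (iv7 F524414) F524411
theorem F524436 : act 3 n224343 = n208272 := d8_1 D224343 (iv7 D208272) (iv3 F448653)
theorem F524437 : act 5 n224343 = n208269 := d13_1 D224343 (iv7 D208269) D208268
theorem F524438 : act 1 n221774 = n224343 := d15_1 F524416 (iv7 D224343) (iv2 F524411)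
theorem F524439 : act 1 n224343 = n208700 := d15_1 F524438 (iv7 F455983) (iv2 F510768)
def n224344 : Q := act 3 n208271
theorem D224344 : act 3 n208271 = n224344 := rfl
theorem F524440 : act 4 n224344 = n221816 := d5_2 D208271 D224344 F524434 (iv4 D224342) F448653
theorem F524441 : act 6 n224344 = n223570 := d7_2 (iv6 F519784) D224344 F520152
theorem F524442 : act 0 n223557 = n224344 := d20_4 F431180 F368909 (iv4 F430807) D223557 (iv3 D224344) (iv4 D208271) F368876 (iv4 F449369) (iv3 F449371) (iv1 F431183)
def n224345 : Q := act 5 n208286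
theorem D224345 : act 5 n208286 = n224345 := rfl
theorem F524443 : act 2 n224345 = n208394 := d2_1 D224345 (iv5 D208394) F448748
theorem F524444 : act 3 n224345 = n208467 := d6_1 D224345 (iv5 D208467) (iv3 F448747)
theorem F524445 : act 4 n224345 = n219827 := d9_1 D224345 F500775 F386722 (iv5 F366297) (iv4 F268169) (iv5 F356283) (iv4 F445280) D224232 F523796 (iv5 D211680) F226493 D143903 (iv4 F454236) F454237 (iv4 F448746)
theorem F524446 : act 6 n224345 = n216251 := d12_2 F448751 D224345 F483491 (iv6 F356324) F356317
theorem F524447 : act 7 n224345 = n210254 := d13_2 (iv7 F448750) D224345 (iv5 D210254)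
theorem F524448 : act 0 n224345 = n219922 := d17_2 D208286 D224345 F501198 F450322 (iv5 F424558) F424560 F385170 (iv0 F403426) (iv4 F403428)
theorem F524449 : act 1 n224345 = n217303 := d17_6 D204152 F431217 F454240 F454237 (iv4 F448746) D224345 F488349 (iv0 F371445) (iv4 F328253)
def n224346 : Q := act 6 n208322
theorem D224346 : act 6 n208322 = n224346 := rfl
theorem F524450 : act 2 n224346 = n215262 := d3_1 D224346 F479100 F448912
theorem F524451 : act 4 n224346 = n215261 := d10_1 D224346 F479098 (iv4 F448911)
theorem F524452 : act 0 n224346 = n209615 := d21_4 (iv5 D221010) (iv1 F396480) (iv5 F448910) D224346 F454343 F441905 F424822 (iv5 F362477) D198020 (iv1 F506782)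
def n224347 : Q := act 5 n208331
theorem D224347 : act 5 n208331 = n224347 := rfl
theorem F524453 : act 3 n224347 = n210865 := d6_1 D224347 F459058 (iv3 F448945)
theorem F524454 : act 6 n224347 = n216613 := d12_2 F471373 D224347 (iv5 F485173) (iv6 F485418) F485416
theorem F524455 : act 7 n224347 = n210852 := d13_2 F448946 D224347 (iv5 D210852)
theorem F524456 : act 0 n224347 = n218382 := d21_1 D224347 (iv5 D218382) D218383 (iv1 F493616) (iv6 D199293) (iv5 F333939) F333935 F172434 D134166 D208331
theorem F524457 : act 0 n210600 = n224347 := d19_0 (iv5 D224347) (iv4 F517758) F517757 (iv1 F458995) (iv5 F512005) (iv4 F517555) F517554 F511996 (iv5 F472848) F472847 F364071 F432597 F432596 (iv4 F431189) F449146 (iv1 F478885) F478883 (iv4 D210601) D210600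
def n224348 : Q := act 5 n208332
theorem D224348 : act 5 n208332 = n224348 := rfl
theorem F524458 : act 2 n224348 = n210852 := d2_1 D224348 (iv5 D210852) (iv2 F448949)
theorem F524459 : act 3 n224348 = n216274 := d6_1 D224348 (iv5 F518418) F518416
theorem F524460 : act 6 n224348 = n222857 := d12_2 F448948 D224348 (iv5 D222857) F420870 F410377
theorem F524461 : act 0 n224348 = n210600 := d17_2 (iv1 F518298) D224348 F458171 (iv4 F517804) F517805 (iv0 F473020) F473019 D223126 (iv4 F518294)
theorem F524462 : act 1 n224348 = n218382 := d17_6 D223483 F519684 (iv1 D223069) (iv5 F423005) F448947 D224348 (iv5 D218382) (iv0 F403437) (iv4 F429083)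
def n224349 : Q := act 0 n208333
theorem D224349 : act 0 n208333 = n224349 := rfl
theorem F524463 : act 3 n224349 = n211301 := d20_5 D219810 F500724 (iv4 D208336) (iv3 F448950) D224349 F461031 F449364 (iv4 F463743) F463740 (iv1 F386350)
theorem F524464 : act 5 n224349 = n211299 := d21_2 D208333 D224349 (iv6 D211299) F422363 F422361 D202292 F423512 F410377 F448948 (iv1 D208332)
theorem F524465 : act 6 n224349 = n223587 := d21_5 (iv5 D204443) F357302 (iv5 F404085) (iv6 F448951) D224349 F520210 F506632 D224339 F524413 F471091
theorem F524466 : act 2 n219416 = n224349 := d15_3 (iv0 D224349) (iv0 F485194) (iv7 F498791)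
theorem F524467 : act 7 n224349 = n220198 := d4_2 (iv7 F498791) F524466 F502601
def n224350 : Q := act 3 n208335
theorem D224350 : act 3 n208335 = n224350 := rfl
theorem F524468 : act 2 n224350 = n220068 := d0_1 D224350 F501951 (iv2 F487925) F487926 F473703
theorem F524469 : act 5 n224350 = n211252 := d6_2 (iv5 F448959) D224350 F460816
theorem F524470 : act 6 n224350 = n217251 := d7_2 F448960 D224350 (iv3 D217251)
theorem F524471 : act 7 n224350 = n211251 := d8_2 (iv7 F448958) D224350 F460814
theorem F524472 : act 0 n224350 = n210585 := d19_4 (iv1 F478875) F478873 F473566 D224350 (iv5 D210585) D210584 F458134 (iv1 F462074) (iv5 D211548) (iv4 D142901) (iv3 D66967) (iv1 D31183) (iv5 F318408) D33306 F52538 D37416 D81799 D170647 (iv3 F449182)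
theorem F524473 : act 1 n224350 = n210587 := d15_1 (iv0 F524472) (iv7 F518861) F518857
def n224351 : Q := act 6 n208341
theorem D224351 : act 6 n208341 = n224351 := rfl
theorem F524474 : act 2 n224351 = n210057 := d3_1 D224351 (iv6 D210057) (iv2 F448987)
theorem F524475 : act 4 n224351 = n208342 := d10_1 D224351 (iv6 D208342) D208341
theorem F524476 : act 5 n224351 = n224152 := d12_1 D224351 (iv6 D224152) F460695 (iv6 D211226) (iv5 F448988)
theorem F524477 : act 7 n224351 = n223895 := d14_2 F450483 D224351 (iv6 D223895) F437273 D208695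
theorem F524478 : act 0 n224351 = n224086 := d21_4 (iv5 F418342) F411229 (iv5 F448988) D224351 (iv6 F522953) (iv5 D206876) F207614 D129457 (iv6 F346165) (iv1 F418341)
theorem F524479 : act 1 n224351 = n217630 := d15_1 (iv0 F524478) F489861 (iv2 F522954)
def n224352 : Q := act 5 n208352
theorem D224352 : act 5 n208352 = n224352 := rfl
theorem F524480 : act 2 n224352 = n211442 := d2_1 D224352 F461547 (iv2 F449044)
theorem F524481 : act 3 n224352 = n211457 := d6_1 D224352 F461625 (iv3 F449045)
theorem F524482 : act 4 n224352 = n214199 := d9_1 D224352 F473965 F247452 F312476 (iv4 F309895) D191347 D219386 F498619 F473938 (iv5 D214193) F247447 F311910 (iv4 F343994) D191348 (iv4 F449046)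
theorem F524483 : act 6 n224352 = n222178 := d12_2 D208352 D224352 (iv5 F512746) (iv6 D220178) F388631
theorem F524484 : act 7 n224352 = n211443 := d13_2 (iv7 F449047) D224352 (iv5 F461551)
theorem F524485 : act 0 n224352 = n211336 := d17_2 F497636 D224352 (iv5 D211336) (iv4 F438018) F438019 (iv0 F479373) F479370 (iv0 F498711) F498710
theorem F524486 : act 1 n224352 = n211441 := d17_6 (iv1 F442698) F442700 (iv1 F343991) D191348 (iv4 F449046) D224352 (iv5 D211441) F459180 F459178
def n224353 : Q := act 5 n208358
theorem D224353 : act 5 n208358 = n224353 := rfl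
theorem F524487 : act 3 n224353 = n210238 := d6_1 D224353 (iv5 D210238) (iv3 F449067)
theorem F524488 : act 4 n224353 = n219781 := d16_2 F522980 D224353 F500597 F462993 (iv5 F463066) (iv4 F522300) F522301 F452424 F522983
def n224354 : Q := act 5 n208359
theorem D224354 : act 5 n208359 = n224354 := rfl
theorem F524489 : act 4 n224354 = n223039 := d9_1 D224354 F517379 F462989 D211769 (iv4 F524274) F524275 F522980 D224353 F524488 F500597 F462993 (iv5 F463066) (iv4 F522300) F522301 F452425
theorem F524490 : act 6 n224354 = n223038 := d12_2 F522472 D224354 (iv5 F517376) F475879 D224002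
def n224355 : Q := act 4 n208360
theorem D224355 : act 4 n208360 = n224355 := rfl
theorem F524491 : act 2 n224355 = n214059 := d1_1 D224355 F473287 (iv2 F449069)
theorem F524492 : act 6 n224355 = n210756 := d10_2 (iv6 F449071) D224355 (iv4 F465809)
theorem F524493 : act 5 n224355 = n214056 := d16_1 D224355 F473280 D224198 F523587 (iv5 D224111) (iv4 F450602) (iv5 F498952) (iv7 D219454) (iv2 F449069)
theorem F524494 : act 3 n224355 = n222998 := d19_3 (iv1 D208359) D208360 D224355 F517181 F481782 F429055 F341178 F342561 F342559 (iv4 D150653) (iv3 F236811) (iv1 F312648) F312650 F191132 D106316 (iv1 F397516) (iv5 F466851) (iv4 F506679) (iv3 F506684)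
theorem F524495 : act 0 n224355 = n210743 := d20_1 D224355 (iv4 F458671) F287548 (iv1 F365549) (iv3 F450803) F450805 F424448 D216596 (iv3 F520917) F520918
def n224356 : Q := act 3 n208362
theorem D224356 : act 3 n208362 = n224356 := rfl
theorem F524496 : act 4 n224356 = n222998 := d5_2 D208362 D224356 (iv3 F524494) (iv4 D224355) F449070
theorem F524497 : act 6 n224356 = n213980 := d7_2 (iv6 F449074) D224356 F472964
theorem F524498 : act 7 n224356 = n213987 := d8_2 F450610 D224356 F472994
theorem F524499 : act 0 n223486 = n224356 := d21_4 F422852 (iv1 F400978) D221493 (iv6 F519701) F524497 F472965 (iv1 F245395) D209897 (iv6 F509294) (iv1 F509295)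
def n224357 : Q := act 3 n208371
theorem D224357 : act 3 n208371 = n224357 := rfl
theorem F524500 : act 2 n224357 = n211636 := d0_1 D224357 (iv3 F486761) F486760 F470970 F470972
theorem F524501 : act 4 n224357 = n212293 := d5_2 (iv4 F469263) D224357 F465180 F244469 (iv3 F469258)
theorem F524502 : act 6 n224357 = n212294 := d7_2 F449112 D224357 F465187
theorem F524503 : act 7 n224357 = n211618 := d8_2 (iv7 F449111) D224357 F462400
theorem F524504 : act 0 n224357 = n211605 := d19_4 F262848 D213157 (iv4 F469263) D224357 F519411 F519409 F487991 (iv1 F483538) F470247 (iv4 F481327) F481326 F442103 (iv5 D177400) F129668 F118437 F325075 (iv5 F324836) F120396 (iv3 F255136)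
theorem F524505 : act 0 n211637 = n224357 := d20_4 (iv4 D202929) (iv1 F183648) (iv4 F233271) (iv3 F462475) (iv3 D224357) F469263 F469261 F349796 (iv3 F470756) F470759
def n224358 : Q := act 6 n208384
theorem D224358 : act 6 n208384 = n224358 := rfl
theorem F524506 : act 2 n224358 = n217958 := d3_1 D224358 F491420 (iv2 F449153)
theorem F524507 : act 3 n224358 = n208386 := d7_1 D224358 (iv6 D208386) D208384
theorem F524508 : act 4 n224358 = n216004 := d10_1 D224358 F482496 F454302
theorem F524509 : act 5 n224358 = n208655 := d12_1 D224358 (iv6 D208655) (iv5 D134885) D134886 (iv5 F449154)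
theorem F524510 : act 7 n224358 = n216003 := d14_2 F488084 D224358 F482492 (iv7 F433100) F488086
def n224359 : Q := act 6 n208385
theorem D224359 : act 6 n208385 = n224359 := rfl
theorem F524511 : act 3 n224359 = n216036 := d7_1 D224359 F482619 (iv3 F478860)
theorem F524512 : act 4 n224359 = n208386 := d10_1 D224359 (iv6 D208386) D208385
theorem F524513 : act 7 n224359 = n216034 := d14_2 F449373 D224359 F482616 (iv7 F433132) F449378
theorem F524514 : act 1 n223555 = n224359 := d18_6 (iv1 F470445) F484749 (iv1 D216513) (iv4 F351134) (iv5 F430803) (iv4 F520087) F524512 F504172 F504170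
def n224360 : Q := act 6 n208389
theorem D224360 : act 6 n208389 = n224360 := rfl
theorem F524515 : act 2 n224360 = n224210 := d3_1 D224360 F523659 F449163
theorem F524516 : act 4 n224360 = n208440 := d10_1 D224360 (iv6 D208440) (iv4 F449162)
theorem F524517 : act 0 n224360 = n219443 := d21_4 (iv5 F460818) F473577 F473576 D224360 (iv6 D219443) D219442 (iv1 F520104) F520101 F432541 (iv1 F431038)
def n224361 : Q := act 6 n208392
theorem D224361 : act 6 n208392 = n224361 := rfl
theorem F524518 : act 2 n224361 = n223576 := d3_1 D224361 F520166 F473599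
theorem F524519 : act 4 n224361 = n210606 := d10_1 D224361 (iv6 D210606) (iv4 F449168)
theorem F524520 : act 5 n224361 = n217295 := d12_1 D224361 (iv6 D217295) F431177 (iv6 F431176) D208392
theorem F524521 : act 0 n224361 = n215200 := d21_4 F449167 (iv1 D208390) D208392 D224361 (iv6 F478851) (iv5 F432510) (iv1 F520405) F520403 F513784 (iv1 D222358)
theorem F524522 : act 7 n224361 = n223577 := d15_2 (iv0 F523804) (iv0 F524521) (iv2 F523799)
def n224362 : Q := act 5 n208437
theorem D224362 : act 5 n208437 = n224362 := rfl
theorem F524523 : act 2 n224362 = n223336 := d2_1 D224362 F518923 F449354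
theorem F524524 : act 3 n224362 = n208438 := d6_1 D224362 (iv5 D208438) D208437
theorem F524525 : act 6 n224362 = n216737 := d12_2 (iv6 F449350) D224362 (iv5 D216737) D216738 F485711
theorem F524526 : act 7 n224362 = n223332 := d13_2 (iv7 F449351) D224362 (iv5 D223332)
theorem F524527 : act 0 n224362 = n216742 := d17_2 (iv1 F449353) D224362 F485734 F429518 F229957 F318287 (iv5 F318292) F183886 D202964
theorem F524528 : act 1 n224362 = n223334 := d17_6 (iv1 F393550) (iv5 F393552) (iv1 F393564) D214033 F473201 D224362 F518914 (iv0 F464948) F464946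
def n224363 : Q := act 4 n208438
theorem D224363 : act 4 n208438 = n224363 := rfl
theorem F524529 : act 2 n224363 = n223627 := d1_1 D224363 (iv4 D223627) (iv2 F449355)
theorem F524530 : act 5 n224363 = n217253 := d9_2 D208438 D224363 (iv4 D217253) F368917 (iv4 F372663) F372664 F363027 D208436 (iv4 F449379) (iv5 F488123) (iv4 D217252) F368911 F352769 (iv5 F411522) F411523
theorem F524531 : act 6 n224363 = n223562 := d10_2 (iv6 F449356) D224363 (iv4 D223562)
theorem F524532 : act 7 n224363 = n223626 := d11_2 (iv7 F449357) D224363 (iv4 D223626)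
theorem F524533 : act 0 n224363 = n220638 := d17_0 (iv5 D220638) F392025 (iv5 F431187) F431186 F196564 (iv0 F340881) D156490 (iv0 F449358) D224363
theorem F524534 : act 1 n224363 = n223510 := d18_6 (iv1 F432525) F432523 (iv1 F411520) F411523 D208438 D224363 (iv4 D223510) (iv0 F449134) (iv5 D208378)
theorem F524535 : act 3 n224363 = n224361 := d19_3 (iv1 F363025) D208438 D224363 F524521 F478850 (iv4 F478901) (iv3 F478905) F433101 (iv5 F503351) F503348 F464168 (iv1 D212058) D212059 F464171 F381775 (iv1 D102245) (iv5 F137244) (iv4 F369025) (iv3 D187070)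
def n224364 : Q := act 6 n208441
theorem D224364 : act 6 n208441 = n224364 := rfl
theorem F524536 : act 2 n224364 = n224359 := d3_1 D224364 (iv6 D224359) F449370
theorem F524537 : act 3 n224364 = n216027 := d7_1 D224364 F482604 F449371
theorem F524538 : act 4 n224364 = n208750 := d10_1 D224364 F450707 (iv4 F449369)
theorem F524539 : act 0 n224364 = n216027 := d21_4 F482628 F460772 F458167 D224364 F482604 (iv5 F432511) (iv1 F520411) F520408 F458372 (iv1 F482631)
theorem F524540 : act 0 n216023 = n224364 := d21_4 F520056 (iv1 D216042) (iv5 F482468) F482587 (iv6 D224364) (iv5 F458167) (iv1 F500725) (iv5 F520118) F520119 (iv1 F520051)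
def n224365 : Q := act 6 n208444
theorem D224365 : act 6 n208444 = n224365 := rfl
theorem F524541 : act 3 n224365 = n214119 := d7_1 D224365 (iv6 F488121) F488120
theorem F524542 : act 4 n224365 = n210663 := d10_1 D224365 (iv6 D210663) (iv4 F449380)
theorem F524543 : act 5 n224365 = n217255 := d12_1 D224365 (iv6 D217255) (iv5 F431170) F431169 D208444
theorem F524544 : act 0 n224365 = n216222 := d21_4 F449376 (iv1 D208442) D208444 D224365 (iv6 F483405) (iv5 F473524) F478621 F478619 (iv6 F500722) F500724
def n224366 : Q := act 5 n208451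
theorem D224366 : act 5 n208451 = n224366 := rfl
theorem F524545 : act 2 n224366 = n224015 := d2_1 D224366 (iv5 D224015) (iv2 F449407)
theorem F524546 : act 3 n224366 = n217271 := d6_1 D224366 F488207 (iv3 F449408)
theorem F524547 : act 6 n224366 = n223780 := d12_2 D208451 D224366 F521231 F494427 (iv5 D208450)
theorem F524548 : act 7 n224366 = n217268 := d13_2 (iv7 F449410) D224366 (iv5 D217268)
theorem F524549 : act 4 n224366 = n215468 := d16_6 F469874 (iv5 F474386) F474385 F410566 (iv4 F449409) D224366 F480128 F459642 F458573
theorem F524550 : act 1 n224366 = n214808 := d17_6 F366470 D213758 F471960 F410566 (iv4 F449409) D224366 F476952 (iv0 F432341) F367887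
def n224367 : Q := act 5 n208452
theorem D224367 : act 5 n208452 = n224367 := rfl
theorem F524551 : act 3 n224367 = n208453 := d6_1 D224367 (iv5 D208453) D208452
theorem F524552 : act 6 n224367 = n209555 := d12_2 (iv6 F449412) D224367 (iv5 D209555) F386013 D137880
theorem F524553 : act 7 n224367 = n219660 := d13_2 F487110 D224367 F499902
theorem F524554 : act 4 n224367 = n217855 := d16_2 F522207 D224367 (iv5 F520848) F520847 F432839 (iv4 F437685) (iv5 F521982) (iv7 F521985) (iv2 F522201)
theorem F524555 : act 0 n224367 = n209586 := d17_2 F516029 D224367 F454241 F446606 (iv5 D207825) D207824 (iv5 F449258) (iv0 F516904) F516902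
theorem F524556 : act 1 n224367 = n218341 := d17_6 (iv1 F451514) (iv5 F522165) (iv1 F522170) D223955 F522207 D224367 F493407 F499120 F499118
def n224368 : Q := act 5 n208463
theorem D224368 : act 5 n208463 = n224368 := rfl
theorem F524557 : act 4 n224368 = n222865 := d9_1 D224368 (iv5 D222865) F420898 D201738 D222924 (iv5 F516801) F487207 (iv5 F486013) (iv4 F524050) (iv5 D224278) F453286 (iv5 F516070) F516069 (iv5 F521909) F521905
theorem F524558 : act 7 n224368 = n216275 := d13_2 (iv7 F449469) D224368 F483599
def n224369 : Q := act 0 n208464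
theorem D224369 : act 0 n208464 = n224369 := rfl
theorem F524559 : act 4 n224369 = n217217 := d18_1 D224369 (iv1 F487982) (iv4 F491430) (iv5 F506068) F506065 F487209 F487207 (iv0 F380824) D208464
theorem F524560 : act 3 n224369 = n216235 := d20_5 D209760 F454857 (iv4 F359637) (iv3 F449471) D224369 (iv4 D216235) D216232 (iv4 F487918) F487917 (iv1 F449764)
theorem F524561 : act 6 n217657 = n224369 := d7_0 F524560 F483437 D217657
theorem F524562 : act 0 n224369 = n209602 := d19_4 (iv1 F483434) (iv5 D216236) D216235 (iv3 F524560) F487218 F487215 F489805 (iv1 F489807) (iv5 D207661) F211793 F209538 (iv1 F326622) F142932 F142391 F136953 (iv1 F64445) (iv5 F62360) D88208 D185059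
def n224370 : Q := act 7 n208464
theorem D224370 : act 7 n208464 = n224370 := rfl
theorem F524563 : act 2 n224370 = n209602 := d4_1 D224370 (iv7 F522199) F522196
theorem F524564 : act 3 n224370 = n208469 := d8_1 D224370 (iv7 D208469) (iv3 F449471)
theorem F524565 : act 4 n224370 = n209191 := d11_1 D224370 F452649 F449473
theorem F524566 : act 5 n224370 = n208465 := d13_1 D224370 (iv7 D208465) D208464
theorem F524567 : act 6 n224370 = n209702 := d14_1 D224370 F483498 (iv6 D216252) (iv7 F368606) (iv6 F449472)
def n224371 : Q := act 3 n208472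
theorem D224371 : act 3 n208472 = n224371 := rfl
theorem F524568 : act 4 n224371 = n220668 := d5_2 D208472 D224371 F504890 (iv4 F394025) (iv3 F339698)
theorem F524569 : act 6 n224371 = n224128 := d7_2 (iv6 F449509) D224371 (iv3 D224128)
theorem F524570 : act 7 n224371 = n210298 := d8_2 (iv7 F449510) D224371 (iv3 D210298)
theorem F524571 : act 0 n220159 = n224371 := d21_4 F250888 F349165 D193027 D220159 F524569 F523182 (iv1 F446711) D217676 F490061 F388497
theorem F524572 : act 0 n224371 = n220188 := d21_4 (iv5 D207850) D207848 (iv5 F523182) (iv6 F524569) (iv6 D220188) F501627 F523529 F523526 F489535 F446714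
def n224372 : Q := act 6 n208482
theorem D224372 : act 6 n208482 = n224372 := rfl
theorem F524573 : act 2 n224372 = n210273 := d3_1 D224372 (iv6 D210273) (iv2 F449553)
theorem F524574 : act 4 n224372 = n213166 := d10_1 D224372 (iv6 D213166) (iv4 F449554)
theorem F524575 : act 5 n224372 = n210289 := d12_1 D224372 (iv6 D210289) F221327 (iv6 F347008) D208482
theorem F524576 : act 7 n224372 = n209848 := d14_2 (iv7 F449555) D224372 (iv6 D209848) (iv7 F396719) F396718
theorem F524577 : act 0 n224372 = n212730 := d21_4 (iv5 D134403) D134401 D208482 D224372 (iv6 D212730) F234496 (iv1 F456957) F456954 F449567 (iv1 D208484)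
theorem F524578 : act 0 n220426 = n224372 := d21_4 F519530 (iv1 F511204) (iv5 D220425) D220426 (iv6 D224372) (iv5 D208482) F347006 D138077 F428198 D223454
def n224373 : Q := act 1 n208496
theorem D224373 : act 1 n208496 = n224373 := rfl
theorem F524579 : act 1 n224373 = n208497 := d15_1 D224373 (iv7 F451137) F451136
theorem F524580 : act 7 n224373 = n220515 := d15_2 (iv0 F485330) D224373 F504137
theorem F524581 : act 4 n224373 = n208863 := d17_9 (iv1 F451153) (iv5 D135217) (iv1 F167785) D197628 D221908 F511339 (iv0 F449638) F449636 D224373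
theorem F524582 : act 6 n215818 = n224373 := d21_3 F519739 F519741 (iv5 F481878) (iv1 D224373) (iv6 F458019) F472807 (iv1 F472806) F406578 (iv6 F457983) F519740
def n224374 : Q := act 3 n208496
theorem D224374 : act 3 n208496 = n224374 := rfl
theorem F524583 : act 4 n224374 = n222031 := d5_2 D208496 D224374 F511989 F458957 F449623
theorem F524584 : act 5 n224374 = n213182 := d6_2 F449636 D224374 F469362
theorem F524585 : act 0 n220516 = n224374 := d20_4 (iv4 D185110) (iv1 F157186) D193833 D220516 (iv3 D224374) (iv4 D208496) (iv1 F383568) D219446 F498912 F383575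
def n224375 : Q := act 3 n208497
theorem D224375 : act 3 n208497 = n224375 := rfl
theorem F524586 : act 7 n224375 = n213939 := d8_2 F451137 D224375 F472815
theorem F524587 : act 0 n224375 = n216611 := d20_10 (iv4 D216611) (iv1 D185042) (iv4 F287433) (iv3 F364069) (iv1 F383576) (iv3 F498912) (iv4 D219446) F383569 D208497 D224375
theorem F524588 : act 0 n216609 = n224375 := d20_4 F481648 (iv1 F500472) F500471 F500473 (iv3 D224375) (iv4 D208497) (iv1 F447664) D224320 F524298 F485335
theorem F524589 : act 2 n223489 = n224375 := d15_3 (iv0 F524588) (iv0 F500601) (iv7 F519720)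
theorem F524590 : act 6 n224375 = n213198 := d3_2 D223489 F524589 (iv2 F469414)
def n224376 : Q := act 6 n208497
theorem D224376 : act 6 n208497 = n224376 := rfl
theorem F524591 : act 3 n224376 = n213198 := d7_1 D224376 (iv6 F524590) (iv3 D224375)
theorem F524592 : act 4 n224376 = n208498 := d10_1 D224376 (iv6 D208498) D208497
theorem F524593 : act 5 n224376 = n213804 := d12_1 D224376 (iv6 F517734) F517733 F485579 F449628
theorem F524594 : act 7 n224376 = n223015 := d14_2 F451137 D224376 F517261 (iv7 F472811) F472810
theorem F524595 : act 0 n223693 = n224376 := d21_4 F504078 F426968 (iv5 F432749) D223693 (iv6 D224376) (iv5 F449628) (iv1 F511341) F511339 F449074 (iv1 F504080)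
def n224377 : Q := act 3 n208499
theorem D224377 : act 3 n208499 = n224377 := rfl
theorem F524596 : act 2 n224377 = n222370 := d0_1 D224377 F513844 F519057 (iv3 F519054) F451139
theorem F524597 : act 4 n224377 = n222032 := d5_2 D208499 D224377 (iv3 F511991) F458965 (iv3 F421401)
theorem F524598 : act 5 n224377 = n224375 := d6_2 (iv5 F449628) D224377 (iv3 D224375)
theorem F524599 : act 6 n224377 = n223119 := d7_2 F485579 D224377 F517744
theorem F524600 : act 7 n224377 = n213960 := d8_2 (iv7 F449627) D224377 F472897
theorem F524601 : act 0 n213184 = n224377 := d20_4 F336770 (iv1 F336648) D192216 (iv3 F469363) (iv3 D224377) (iv4 D208499) (iv1 F216942) (iv4 F449648) F449646 F391245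
def n224378 : Q := act 3 n208503
theorem D224378 : act 3 n208503 = n224378 := rfl
theorem F524602 : act 5 n224378 = n213467 := d6_2 F449675 D224378 F470537
theorem F524603 : act 6 n224378 = n214024 := d7_2 (iv6 F449664) D224378 F485413
theorem F524604 : act 7 n224378 = n223185 := d8_2 F451144 D224378 F518070
theorem F524605 : act 4 n224378 = n222969 := d20_6 (iv4 D177889) (iv1 F289761) D193865 (iv3 F449646) (iv1 F449649) D224378 (iv1 F517177) F517173 (iv3 D216574) F367336
theorem F524606 : act 0 n223724 = n224378 := d20_4 F481630 (iv1 D204593) D204594 D223724 (iv3 D224378) (iv4 F449674) F449672 (iv4 F481714) (iv3 F486942) F486945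
theorem F524607 : act 2 n223184 = n224378 := d1_3 F524605 F517036 D223184
def n224379 : Q := act 6 n208505
theorem D224379 : act 6 n208505 = n224379 := rfl
theorem F524608 : act 2 n224379 = n208854 := d3_1 D224379 F451125 (iv2 F449645)
theorem F524609 : act 3 n224379 = n220536 := d7_1 D224379 (iv6 D220536) (iv3 F449646)
theorem F524610 : act 4 n224379 = n208625 := d10_1 D224379 F450221 (iv4 F449648)
theorem F524611 : act 5 n224379 = n223262 := d12_1 D224379 F520773 F520770 F449618 D208505
theorem F524612 : act 7 n224379 = n223440 := d14_2 (iv7 F449647) D224379 F519470 F433183 (iv6 F448795)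
theorem F524613 : act 0 n224379 = n220751 := d21_10 (iv5 D220751) D220749 (iv5 F520968) F520969 F513740 F470566 F449675 (iv1 D208503) D208505 D224379
theorem F524614 : act 0 n221529 = n224379 := d21_4 (iv5 D223080) (iv1 F422894) D203585 (iv6 F509447) (iv6 D224379) (iv5 D208505) D208502 (iv5 F449666) F455178 (iv1 F517544)
def n224380 : Q := act 4 n208506
theorem D224380 : act 4 n208506 = n224380 := rfl
theorem F524615 : act 2 n224380 = n224373 := d1_1 D224380 F524581 (iv2 F451152)
theorem F524616 : act 5 n224380 = n224373 := d9_2 (iv5 F449653) D224380 F524581 F451151 F413125 F211906 (iv4 F407192) F407193 (iv4 F504138) F504139 F485329 (iv5 F363287) F216181 F211168 (iv4 F217114)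
theorem F524617 : act 6 n224380 = n215873 := d10_2 F449654 D224380 (iv4 D215873)
theorem F524618 : act 7 n224380 = n216650 := d11_2 (iv7 F449652) D224380 F485329
theorem F524619 : act 0 n224380 = n208859 := d17_0 F451138 D215828 F481713 (iv4 D208731) (iv5 D134983) (iv0 F101901) D134454 D208506 D224380
theorem F524620 : act 1 n224380 = n208857 := d18_6 (iv1 F431896) F431892 F405098 (iv4 F217114) (iv5 F449653) D224380 (iv4 D208857) (iv0 F392010) F392009
def n224381 : Q := act 6 n208509
theorem D224381 : act 6 n208509 = n224381 := rfl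
theorem F524621 : act 2 n224381 = n209720 := d3_1 D224381 F471195 F471189
theorem F524622 : act 3 n224381 = n208511 := d7_1 D224381 (iv6 D208511) (iv3 F449665)
theorem F524623 : act 4 n224381 = n223071 := d10_1 D224381 F518034 (iv4 F518037)
theorem F524624 : act 5 n224381 = n209205 := d12_1 D224381 (iv6 D209205) (iv5 F409972) (iv6 F409975) D208509
theorem F524625 : act 7 n224381 = n209805 := d14_2 F451168 D224381 (iv6 F471339) F471343 F451169
theorem F524626 : act 0 n224381 = n209821 := d21_4 (iv5 D208754) F389776 D208509 D224381 (iv6 F455089) (iv5 F485164) (iv1 D216198) F283628 D185231 F455980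
theorem F524627 : act 0 n209226 = n224381 := d21_4 (iv5 F368198) F369513 D203004 (iv6 F452789) (iv6 D224381) (iv5 D208509) F448645 F485507 (iv6 F485508) F470523
def n224382 : Q := act 3 n208518
theorem D224382 : act 3 n208518 = n224382 := rfl
theorem F524628 : act 4 n224382 = n208520 := d5_2 D208518 D224382 (iv3 D208520) (iv4 D134481) (iv3 F216426)
theorem F524629 : act 5 n224382 = n223463 := d6_2 F463577 D224382 (iv3 F519581)
theorem F524630 : act 6 n224382 = n222518 := d7_2 (iv6 F449703) D224382 (iv3 D222518)
theorem F524631 : act 7 n224382 = n221862 := d8_2 (iv7 F449704) D224382 F511112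
theorem F524632 : act 0 n224382 = n221833 := d19_4 (iv1 F168153) D134478 D208518 D224382 F511085 F511082 (iv3 D214682) (iv1 F253692) (iv5 D79797) (iv4 D36349) F296702 (iv1 F60853) (iv5 F119771) (iv4 F297474) (iv3 F341766) (iv1 D128943) (iv5 D60639) (iv4 F48368) (iv3 F48593)
theorem F524633 : act 0 n223103 = n224382 := d20_4 (iv4 F397127) (iv1 F501085) (iv4 F510675) (iv3 F517661) (iv3 D224382) (iv4 D208518) F219890 (iv4 F438410) F507510 (iv1 D221161)
def n224383 : Q := act 0 n208523
theorem D224383 : act 0 n208523 = n224383 := rfl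
theorem F524634 : act 4 n224383 = n215461 := d18_3 F402120 (iv4 F449727) D224383 F480096 F461506 F498058 F498053 (iv0 F480024) (iv5 D215443)
theorem F524635 : act 3 n224383 = n223120 := d20_5 F220165 F100334 D134485 D208523 D224383 F517750 (iv1 F493601) (iv4 F517804) (iv3 D223131) (iv1 F423351)
theorem F524636 : act 6 n224383 = n221407 := d21_5 F409165 (iv1 F433521) F433518 (iv6 F449728) D224383 F508862 F438266 (iv5 F508797) F508798 F476810
theorem F524637 : act 2 n221560 = n224383 := d15_3 (iv0 D224383) (iv0 F519039) F519038
theorem F524638 : act 7 n224383 = n213969 := d4_2 F519038 F524637 (iv2 F519034)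
theorem F524639 : act 5 n213926 = n224383 := d21_2 D156088 D213926 F524636 (iv1 F508863) (iv6 D196654) D196653 F401361 (iv5 F182525) (iv6 F366111) (iv1 D156087)
def n224384 : Q := act 6 n208531
theorem D224384 : act 6 n208531 = n224384 := rfl
theorem F524640 : act 2 n224384 = n217988 := d3_1 D224384 (iv6 F491569) F456008
theorem F524641 : act 3 n224384 = n217900 := d7_1 D224384 (iv6 F516588) F516587
theorem F524642 : act 4 n224384 = n217945 := d10_1 D224384 F491371 F486948
theorem F524643 : act 5 n224384 = n217814 := d12_1 D224384 F490767 F373060 F330938 (iv5 F449752)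
theorem F524644 : act 7 n224384 = n209410 := d14_2 F449753 D224384 (iv6 D209410) F219538 (iv6 F220065)
theorem F524645 : act 0 n224384 = n217982 := d21_4 (iv5 D210060) (iv1 F220601) (iv5 F449752) D224384 F491547 (iv5 D188257) F372849 (iv5 F486263) (iv6 F506074) F506076
theorem F524646 : act 1 n224384 = n217990 := d15_1 (iv0 F524645) (iv7 D217990) (iv2 F491545)
def n224385 : Q := act 6 n208533
theorem D224385 : act 6 n208533 = n224385 := rfl
theorem F524647 : act 2 n224385 = n220887 := d3_1 D224385 (iv6 D220887) (iv2 F449761)
theorem F524648 : act 4 n224385 = n217319 := d10_1 D224385 (iv6 F488407) (iv4 F449762)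
theorem F524649 : act 0 n224385 = n209402 := d21_10 (iv5 D209402) (iv1 F388493) (iv5 F487504) (iv6 D217115) (iv1 F486261) (iv6 F506074) (iv5 D220886) (iv1 F394430) (iv5 F449763) D224385
theorem F524650 : act 0 n209403 = n224385 := d21_4 F476922 (iv1 F518420) F518418 F483597 (iv6 D224385) F449763 (iv1 F394437) F441294 F383468 D191438
def n224386 : Q := act 4 n208573
theorem D224386 : act 4 n208573 = n224386 := rfl
theorem F524651 : act 2 n224386 = n208574 := d1_1 D224386 (iv4 D208574) D208573
theorem F524652 : act 3 n224386 = n221464 := d5_1 D224386 (iv4 D221464) (iv3 F411999) F411997 (iv3 F449956)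
theorem F524653 : act 6 n224386 = n221465 := d10_2 (iv6 F500423) D224386 F509138
theorem F524654 : act 7 n224386 = n221420 := d11_2 (iv7 F449958) D224386 (iv4 D221420)
theorem F524655 : act 0 n224386 = n211046 := d17_0 (iv5 F459886) F445969 F441884 (iv4 D196309) (iv5 D106888) D106886 D196304 F449960 D224386
theorem F524656 : act 1 n224386 = n221422 := d18_6 (iv1 F424082) F424080 (iv1 F396588) (iv4 F396891) (iv5 F449957) D224386 F508943 F490757 F420016
def n224387 : Q := act 6 n208582
theorem D224387 : act 6 n208582 = n224387 := rfl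
theorem F524657 : act 2 n224387 = n209749 := d3_1 D224387 F454835 (iv2 F449996)
theorem F524658 : act 3 n224387 = n208583 := d7_1 D224387 (iv6 D208583) D208582
theorem F524659 : act 4 n224387 = n214501 := d10_1 D224387 (iv6 D214501) (iv4 F449997)
theorem F524660 : act 5 n224387 = n223614 := d12_1 D224387 F520344 F501600 F490403 F450726
theorem F524661 : act 7 n224387 = n209742 := d14_2 (iv7 F449998) D224387 (iv6 D209742) (iv7 F220607) F365152
theorem F524662 : act 0 n224387 = n209747 := d21_4 (iv5 F489670) (iv1 F489672) F450726 D224387 F468971 F466608 F457396 (iv5 D209794) F339483 (iv1 F450713)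
theorem F524663 : act 0 n209746 = n224387 := d21_4 (iv5 F388436) F459066 F459067 F454829 (iv6 D224387) (iv5 F450726) F506880 F506876 F471512 F471511
def n224388 : Q := act 1 n208587
theorem D224388 : act 1 n208587 = n224388 := rfl
theorem F524664 : act 1 n224388 = n208701 := d15_1 D224388 (iv7 F493092) F493090
theorem F524665 : act 7 n224388 = n208709 := d15_2 (iv0 F492538) D224388 (iv2 F492535)
theorem F524666 : act 5 n224388 = n224122 := d17_7 (iv1 F521853) (iv5 D223889) (iv1 F437446) D223920 F522022 F484674 D224388 F523152 (iv4 F516777)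
theorem F524667 : act 4 n224388 = n208790 := d17_9 F514195 (iv5 F514194) (iv1 F451500) (iv5 F493363) (iv4 F493367) (iv5 F516279) (iv0 F516282) F484674 D224388
theorem F524668 : act 3 n213014 = n224388 := d19_19 (iv1 D224388) (iv5 F484674) (iv4 F522022) F522021 (iv1 F446419) (iv5 D207781) (iv4 F214644) (iv3 D133468) (iv1 D62643) D62645 F322823 D83054 (iv1 F342686) (iv5 D173347) (iv4 F271797) (iv3 F367418) F367421 F317517 D213014
theorem F524669 : act 6 n222171 = n224388 := d21_3 (iv5 D219290) F408248 D222171 (iv1 D224388) F450019 (iv5 D199724) F412258 D222390 F513954 (iv1 F498145)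
theorem F524670 : act 2 n224388 = n208708 := d3_1 F524669 (iv6 F467054) (iv2 F512711)
def n224389 : Q := act 6 n208605
theorem D224389 : act 6 n208605 = n224389 := rfl
theorem F524671 : act 2 n224389 = n209083 := d3_1 D224389 (iv6 D209083) (iv2 F450114)
theorem F524672 : act 3 n224389 = n208606 := d7_1 D224389 (iv6 D208606) D208605
theorem F524673 : act 4 n224389 = n209082 := d10_1 D224389 (iv6 D209082) (iv4 F450115)
theorem F524674 : act 7 n224389 = n220983 := d14_2 (iv7 F450119) D224389 (iv6 F506637) F454969 F451596
theorem F524675 : act 0 n224389 = n220985 := d21_4 F352603 D202955 (iv5 F450116) D224389 F506645 F483708 (iv1 F385475) (iv5 F452253) (iv6 D209099) F359677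
theorem F524676 : act 0 n214506 = n224389 := d21_4 D159926 F350014 F350015 D214506 (iv6 D224389) F450116 F448973 (iv5 D208338) F366216 (iv1 F114805)
def n224390 : Q := act 5 n208606
theorem D224390 : act 5 n208606 = n224390 := rfl
theorem F524677 : act 6 n224390 = n223429 := d12_2 D208606 D224390 (iv5 F519411) F462348 F355353
theorem F524678 : act 7 n224390 = n213770 := d13_2 F456793 D224390 F472021
theorem F524679 : act 4 n224390 = n213771 := d16_2 (iv4 F450120) D224390 F472023 F244714 (iv5 F210129) F310234 D177717 (iv7 F363154) F411667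
theorem F524680 : act 0 n224390 = n217247 := d17_2 (iv1 F450122) D224390 F488100 (iv4 D204363) (iv5 D123668) (iv0 F332409) (iv5 F385395) F385397 D193360
theorem F524681 : act 1 n224390 = n211569 := d17_6 (iv1 D223539) (iv5 D203970) D203969 (iv5 F430640) (iv4 F450120) D224390 (iv5 D211569) D211568 F520000
def n224391 : Q := act 6 n208617
theorem D224391 : act 6 n208617 = n224391 := rfl
theorem F524682 : act 2 n224391 = n216908 := d3_1 D224391 F486499 (iv2 F450178)
theorem F524683 : act 3 n224391 = n208619 := d7_1 D224391 (iv6 D208619) D208617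
theorem F524684 : act 4 n224391 = n223699 := d10_1 D224391 (iv6 D223699) F450179
theorem F524685 : act 5 n224391 = n219735 := d12_1 D224391 F500335 (iv5 F386815) D211574 (iv5 F462200)
theorem F524686 : act 7 n224391 = n216907 := d14_2 F514196 D224391 (iv6 F513856) F513853 D222433
theorem F524687 : act 0 n224391 = n216900 := d21_4 (iv5 F441000) F462202 (iv5 F462200) D224391 (iv6 D216900) (iv5 D186287) F293935 D99008 D191849 F431518
theorem F524688 : act 1 n224391 = n216909 := d15_1 (iv0 F524687) (iv7 D216909) (iv2 F486470)
def n224392 : Q := act 4 n208620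
theorem D224392 : act 4 n208620 = n224392 := rfl
theorem F524689 : act 2 n224392 = n220322 := d1_1 D224392 F503188 F450191
theorem F524690 : act 3 n224392 = n223246 := d5_1 D224392 F518404 (iv3 F453729) (iv4 F513227) F513230
theorem F524691 : act 5 n224392 = n208671 := d9_2 F468289 D224392 F450402 (iv5 D201657) F179019 (iv5 F165961) D197054 (iv5 F421673) (iv4 F456604) (iv5 D210213) F221173 (iv5 F411685) (iv4 F421245) F421246 D212952
theorem F524692 : act 6 n224392 = n223245 := d10_2 F490636 D224392 F518398
theorem F524693 : act 7 n224392 = n218195 := d11_2 (iv7 F450193) D224392 F492644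
theorem F524694 : act 0 n224392 = n217111 := d17_0 F487482 F441285 (iv5 F373073) (iv4 F490397) F490396 F398892 D197035 F450192 D224392
theorem F524695 : act 1 n224392 = n208676 := d18_6 (iv1 F448242) (iv4 D151573) D151571 D212952 F468289 D224392 (iv4 F466591) (iv0 F466593) (iv5 F448240)
def n224393 : Q := act 1 n208629
theorem D224393 : act 1 n208629 = n224393 := rfl
theorem F524696 : act 1 n224393 = n217535 := d15_1 D224393 F489360 F450981
theorem F524697 : act 7 n224393 = n217729 := d15_2 (iv0 F450247) D224393 F490357
theorem F524698 : act 5 n224393 = n217764 := d17_7 F444691 (iv5 F468156) (iv1 F468160) F411627 (iv4 F413487) (iv5 F450245) D224393 (iv0 D217764) (iv4 F375386)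
theorem F524699 : act 4 n224393 = n213132 := d17_9 F475135 F475133 (iv1 F399068) (iv5 D188062) D188061 F376854 D188925 (iv5 F450245) D224393
theorem F524700 : act 3 n209480 = n224393 := d19_19 (iv1 D224393) F450245 F413487 (iv3 F416444) (iv1 D192796) F154813 (iv4 F289176) F367384 D200324 F415999 D207166 F443610 (iv1 F472342) F472344 (iv4 D209368) F343227 D187107 D217285 F488280
theorem F524701 : act 6 n221302 = n224393 := d21_3 F490882 (iv1 F401963) D221302 (iv1 D224393) (iv6 D208629) (iv5 D134820) D134817 (iv5 F406068) (iv6 F411072) (iv1 F490880)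
theorem F524702 : act 2 n224393 = n217728 := d3_1 F524701 F490351 (iv2 F508253)
def n224394 : Q := act 5 n208631
theorem D224394 : act 5 n208631 = n224394 := rfl
theorem F524703 : act 2 n224394 = n209976 := d2_1 D224394 (iv5 F455596) (iv2 F450251)
theorem F524704 : act 3 n224394 = n222493 := d6_1 D224394 F514521 F472559
theorem F524705 : act 4 n224394 = n209249 := d9_1 D224394 (iv5 F511955) F511954 F458716 (iv4 F510783) F510782 F500947 (iv5 F464403) F464401 F452718 F423855 (iv5 F423825) (iv4 F510773) F510775 (iv4 F450252)
theorem F524706 : act 6 n224394 = n209804 := d12_2 D208631 D224394 F490305 F490301 F405247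
theorem F524707 : act 7 n224394 = n209713 := d13_2 F460067 D224394 (iv5 F464405)
theorem F524708 : act 0 n224394 = n221670 := d17_2 (iv1 F460072) D224394 (iv5 F521764) F521763 (iv5 D223100) F423159 (iv5 F397219) F507246 F507244
theorem F524709 : act 1 n224394 = n221667 := d17_8 (iv1 F513606) F501217 (iv1 D219925) (iv5 F500417) (iv4 F502860) F502861 (iv0 F450253) D224394 (iv4 F513603)
def n224395 : Q := act 6 n208632
theorem D224395 : act 6 n208632 = n224395 := rfl
theorem F524710 : act 2 n224395 = n221842 := d3_1 D224395 (iv6 D221842) (iv2 F450254)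
theorem F524711 : act 3 n224395 = n208634 := d7_1 D224395 (iv6 D208634) D208632
theorem F524712 : act 4 n224395 = n210462 := d10_1 D224395 (iv6 D210462) (iv4 F450255)
theorem F524713 : act 5 n224395 = n208915 := d12_1 D224395 F451391 F339515 (iv6 F284631) (iv5 F450259)
theorem F524714 : act 0 n224395 = n223810 := d21_10 (iv5 D223810) (iv1 D205047) D205049 F463425 F473411 (iv6 D214083) (iv5 F389652) F389653 (iv5 F450259) D224395
theorem F524715 : act 0 n212853 = n224395 := d21_4 (iv5 F502852) (iv1 F502854) F464620 (iv6 F467792) (iv6 D224395) F450259 (iv1 F389651) (iv5 F403870) (iv6 F510210) F510212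
def n224396 : Q := act 6 n208635
theorem D224396 : act 6 n208635 = n224396 := rfl
theorem F524716 : act 2 n224396 = n216330 := d3_1 D224396 F483870 F467271
theorem F524717 : act 3 n224396 = n208637 := d7_1 D224396 (iv6 D208637) (iv3 F450271)
theorem F524718 : act 5 n224396 = n214278 := d12_1 D224396 (iv6 F481946) F481945 (iv6 D208636) D208635
theorem F524719 : act 0 n224396 = n215664 := d21_4 (iv5 D205001) F403095 D208635 D224396 (iv6 F511558) F511555 (iv1 F459478) (iv5 F511568) F521389 (iv1 D223807)
theorem F524720 : act 0 n211025 = n224396 := d21_4 (iv5 D211020) (iv1 D140542) D140545 D211025 (iv6 D224396) (iv5 D208635) F366592 D205008 (iv6 F490755) (iv1 F490756)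
def n224397 : Q := act 3 n208656
theorem D224397 : act 3 n208656 = n224397 := rfl
theorem F524721 : act 4 n224397 = n212580 := d5_2 F457509 D224397 F466526 (iv4 F237859) (iv3 F457510)
theorem F524722 : act 6 n224397 = n212692 := d7_2 (iv6 F450348) D224397 F467098
theorem F524723 : act 7 n224397 = n213705 := d8_2 F450699 D224397 F471713
theorem F524724 : act 0 n224397 = n219993 := d20_4 (iv4 F221906) D210434 F457509 D224397 (iv3 D219993) (iv4 D192598) (iv1 F154495) D100445 D192605 F387226
theorem F524725 : act 0 n208698 = n224397 := d20_4 F490448 (iv1 F439805) (iv4 F451334) F451333 (iv3 D224397) (iv4 F457509) (iv1 F457513) (iv4 F444192) (iv3 F454624) (iv1 F490447)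
def n224398 : Q := act 3 n208679
theorem D224398 : act 3 n208679 = n224398 := rfl
theorem F524726 : act 2 n224398 = n210470 := d0_1 D224398 (iv3 F520983) F520982 F501685 F492459
theorem F524727 : act 4 n224398 = n210468 := d5_2 F483649 D224398 F457668 F453495 (iv3 F483646)
theorem F524728 : act 5 n224398 = n218982 := d6_2 (iv5 F450428) D224398 (iv3 D218982)
theorem F524729 : act 6 n224398 = n209116 := d7_2 F492444 D224398 (iv3 F492442)
theorem F524730 : act 7 n224398 = n217533 := d8_2 (iv7 F450427) D224398 F489347
theorem F524731 : act 0 n224398 = n209527 := d19_4 D182392 D216287 F483649 D224398 F454037 (iv4 F447983) (iv3 D208124) (iv1 D133416) F97669 F329285 (iv3 F329011) D62016 (iv5 F99877) (iv4 F99879) (iv3 F211822) F442290 (iv5 D206815) (iv4 F363946) F283942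
theorem F524732 : act 0 n209525 = n224398 := d20_4 (iv4 F463402) F463403 F411067 F454030 (iv3 D224398) (iv4 F483649) F483651 (iv4 F450966) F439733 F376780
def n224399 : Q := act 2 n208681
theorem D224399 : act 2 n208681 = n224399 := rfl
theorem F524733 : act 3 n224399 = n224176 := d0_2 D208681 D224399 F523460 (iv3 D222080) (iv2 F407542)
theorem F524734 : act 4 n224399 = n209438 := d1_2 (iv4 F489734) D224399 (iv2 F489730)
theorem F524735 : act 5 n224399 = n209437 := d2_2 F491766 D224399 F491768
theorem F524736 : act 6 n224399 = n217584 := d3_2 F502499 D224399 (iv2 F502497)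
theorem F524737 : act 7 n224399 = n209436 := d4_2 (iv7 F450433) D224399 F453703
theorem F524738 : act 1 n224399 = n215601 := d15_0 (iv0 D215601) (iv7 F450433) D224399
theorem F524739 : act 1 n215602 = n224399 := d15_0 F524738 (iv7 F511333) F511329
def n224400 : Q := act 6 n208694
theorem D224400 : act 6 n208694 = n224400 := rfl
theorem F524740 : act 2 n224400 = n209202 := d3_1 D224400 F452700 F451319
theorem F524741 : act 3 n224400 = n208697 := d7_1 D224400 (iv6 D208697) (iv3 F450477)
theorem F524742 : act 4 n224400 = n210657 := d10_1 D224400 (iv6 F474840) F474842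
theorem F524743 : act 5 n224400 = n209200 := d12_1 D224400 (iv6 D209200) (iv5 F220606) F365152 D208694
theorem F524744 : act 7 n224400 = n219995 := d14_2 F450727 D224400 (iv6 D219995) (iv7 F490404) F490403
theorem F524745 : act 0 n210854 = n224400 := d21_4 F424462 (iv1 F458495) F458496 D210854 (iv6 D224400) (iv5 D208694) (iv1 F450337) (iv5 F453499) F453498 (iv1 F424464)
def n224401 : Q := act 0 n208697
theorem D224401 : act 0 n208697 = n224401 := rfl
theorem F524746 : act 5 n224401 = n218606 := d17_1 D224401 (iv1 F494720) F494704 F510170 (iv5 D221663) F464431 F471816 (iv0 F514079) (iv4 F514081)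
theorem F524747 : act 4 n224401 = n213797 := d20_2 (iv4 F514081) D224401 F472135 D220736 (iv3 F505234) F431478 (iv1 F197318) D123887 (iv3 F412783) F514080
theorem F524748 : act 6 n224401 = n213796 := d21_5 (iv5 D63422) D63419 D134938 D208697 D224401 F472131 F471854 (iv5 D213737) (iv6 F389037) (iv1 D134946)
theorem F524749 : act 2 n209729 = n224401 := d15_3 (iv0 D224401) (iv0 F521488) F521486
theorem F524750 : act 3 n224401 = n218017 := d0_2 (iv3 F457256) F524749 (iv2 F501865) F501866 (iv2 F450677)
theorem F524751 : act 7 n224401 = n209730 := d4_2 F521486 F524749 (iv2 F521483)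
theorem F524752 : act 1 n209732 = n224401 := d15_1 F521489 F524751 (iv2 F521483)
def n224402 : Q := act 7 n208697
theorem D224402 : act 7 n208697 = n224402 := rfl
theorem F524753 : act 2 n224402 = n209732 := d4_1 D224402 (iv7 D209732) (iv2 F450484)
theorem F524754 : act 3 n224402 = n219995 := d8_1 D224402 (iv7 F524744) F524741
theorem F524755 : act 4 n224402 = n222448 := d11_1 D224402 F514271 (iv4 F514081)
theorem F524756 : act 5 n224402 = n209722 := d13_1 D224402 (iv7 D209722) (iv5 F450485)
theorem F524757 : act 6 n224402 = n219993 := d14_1 D224402 F501559 (iv6 D208758) (iv7 F365165) D208697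
theorem F524758 : act 1 n209730 = n224402 := d15_1 D209730 (iv7 D224402) F450484
theorem F524759 : act 1 n224402 = n209729 := d15_1 F524758 (iv7 F521486) F521483
def n224403 : Q := act 5 n208698
theorem D224403 : act 5 n208698 = n224403 := rfl
theorem F524760 : act 2 n224403 = n216214 := d2_1 D224403 F483390 F450735
theorem F524761 : act 3 n224403 = n217988 := d6_1 D224403 (iv5 F491570) F451333
theorem F524762 : act 6 n224403 = n208700 := d12_2 D208698 D224403 (iv5 D208700) (iv6 D134942) D134941
theorem F524763 : act 0 n224403 = n216208 := d17_2 F516371 D224403 F483381 (iv4 D213682) (iv5 D154702) D154700 D213678 (iv0 F471594) (iv4 F516370)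
theorem F524764 : act 1 n224403 = n216215 := d17_6 (iv1 D192545) F367191 D192929 (iv5 F492956) (iv4 F492961) D224403 (iv5 F490259) (iv0 F490262) F387124
theorem F524765 : act 7 n216213 = n224403 := d14_0 F524762 (iv7 F455983) F455982 (iv7 F503757) (iv6 F503759)
def n224404 : Q := act 7 n208698
theorem D224404 : act 7 n208698 = n224404 := rfl
theorem F524766 : act 2 n224404 = n219993 := d4_1 D224404 F501559 F450735
theorem F524767 : act 3 n224404 = n209736 := d8_1 D224404 F454795 F451333
theorem F524768 : act 4 n224404 = n218300 := d11_1 D224404 F493190 (iv4 F492961)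
theorem F524769 : act 5 n224404 = n216213 := d13_1 D224404 F524765 (iv5 D224403)
theorem F524770 : act 6 n224404 = n209732 := d14_1 D224404 (iv7 D209732) (iv6 F361062) F365162 D208698
theorem F524771 : act 1 n213705 = n224404 := d15_1 (iv0 F471714) (iv7 D224404) (iv2 F450735)
def n224405 : Q := act 4 n208700
theorem D224405 : act 4 n208700 = n224405 := rfl
theorem F524772 : act 2 n224405 = n221775 := d1_1 D224405 F524428 (iv2 F524426)
theorem F524773 : act 7 n224405 = n221766 := d11_2 F455983 D224405 (iv4 F510745)
theorem F524774 : act 5 n224405 = n221767 := d16_7 (iv4 F218602) D209167 (iv4 F522958) (iv5 D224087) F441941 D208700 D224405 (iv7 D221767) F403969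
theorem F524775 : act 0 n224405 = n221773 := d18_2 F524417 D224405 F510767 F486904 (iv4 F489843) (iv0 F489845) (iv4 F450779) (iv0 F450781) D224339
theorem F524776 : act 0 n221087 = n224405 := d20_7 F449762 F431019 (iv4 F352111) (iv3 F454651) F454654 (iv3 F486902) (iv4 F507160) (iv4 D224405) (iv3 F456009) (iv1 F456011)
def n224406 : Q := act 5 n208715
theorem D224406 : act 5 n208715 = n224406 := rfl
theorem F524777 : act 2 n224406 = n209440 := d2_1 D224406 (iv5 F453715) (iv2 F450543)
theorem F524778 : act 3 n224406 = n210472 := d6_1 D224406 (iv5 F489715) (iv3 F457038)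
theorem F524779 : act 6 n224406 = n210351 := d12_2 D208715 D224406 (iv5 D210351) (iv6 D138336) (iv5 F343816)
theorem F524780 : act 7 n224406 = n220215 := d13_2 (iv7 F450544) D224406 F502695
theorem F524781 : act 0 n224406 = n220259 := d17_2 F450546 D224406 (iv5 F502907) (iv4 F450372) (iv5 F505353) F505356 F432950 F451089 F451086
theorem F524782 : act 1 n224406 = n215862 := d17_6 D210723 F458576 F504225 F504226 (iv4 F482528) D224406 F481843 (iv0 D208663) (iv4 F222776)
theorem F524783 : act 4 n224406 = n209895 := d19_2 F450546 D224406 (iv3 D209895) (iv1 D137069) (iv5 F220180) (iv4 F455236) (iv3 F472826) F472829 (iv5 F359541) F220165 (iv3 F179663) F179666 (iv5 D63554) (iv4 F327477) (iv3 F177127) F371509 D135826 (iv4 F448078) (iv3 F429685)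
def n224407 : Q := act 5 n208728
theorem D224407 : act 5 n208728 = n224407 := rfl
theorem F524784 : act 2 n224407 = n224354 := d2_1 D224407 (iv5 D224354) F452428
theorem F524785 : act 3 n224407 = n214580 := d6_1 D224407 F475894 F456699
theorem F524786 : act 6 n224407 = n214578 := d12_2 F454866 D224407 (iv5 D214578) (iv6 F366346) D209763
theorem F524787 : act 7 n224407 = n224353 := d13_2 (iv7 F452429) D224407 (iv5 D224353)
theorem F524788 : act 4 n224407 = n211762 := d16_2 F523277 D224407 (iv5 D211762) F226791 D144091 D211783 (iv5 F463063) (iv7 F452424) (iv2 F523276)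
theorem F524789 : act 0 n220512 = n224407 := d19_0 (iv5 D224407) (iv4 F523277) F523389 (iv1 D224164) D224165 F523395 (iv3 F501956) (iv1 F501961) (iv5 F503539) F503540 (iv3 F511966) (iv1 F511969) D222031 (iv4 F524583) (iv3 D224374) F485330 (iv5 F504139) F504138 (iv3 F504126)
theorem F524790 : act 1 n220393 = n224407 := d18_6 F517691 F509596 F512323 F512322 (iv5 F502659) F503563 F524788 (iv0 F517332) (iv5 F517690)
def n224408 : Q := act 5 n208729
theorem D224408 : act 5 n208729 = n224408 := rfl
theorem F524791 : act 2 n224408 = n224353 := d2_1 D224408 (iv5 D224353) (iv2 F452427)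
theorem F524792 : act 6 n224408 = n222031 := d12_2 F456667 D224408 (iv5 D222031) (iv6 F457166) F456668
theorem F524793 : act 7 n224408 = n224354 := d13_2 F452426 D224408 (iv5 D224354)
theorem F524794 : act 0 n224408 = n220512 := d17_2 (iv1 F450607) D224408 (iv5 F512167) F512166 D224102 F523037 F522578 F442324 (iv4 F449065)
theorem F524795 : act 0 n220393 = n224408 := d19_0 (iv5 D224408) (iv4 F452051) (iv3 D209055) (iv1 F218516) (iv5 F452439) F452438 F395258 F199387 (iv5 D102787) F74946 (iv3 F74943) F326125 F325327 (iv4 F263591) (iv3 F338074) (iv1 F384810) F384807 (iv4 F390245) D220393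
def n224409 : Q := act 4 n208730
theorem D224409 : act 4 n208730 = n224409 := rfl
theorem F524796 : act 3 n224409 = n209839 := d5_1 D224409 (iv4 F472995) F472994 (iv4 D208731) (iv3 F450608)
theorem F524797 : act 5 n224409 = n211779 := d9_2 D208730 D224409 (iv4 D211779) D211780 (iv4 F522194) (iv5 D223953) (iv4 F449065) F449066 (iv4 F473287) (iv5 D214059) F365084 D211778 F463058 (iv5 D206824) (iv4 F217208)
theorem F524798 : act 6 n224409 = n209836 := d10_2 F511447 D224409 F511449
theorem F524799 : act 7 n224409 = n224355 := d11_2 (iv7 F450609) D224409 (iv4 D224355)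
def n224410 : Q := act 6 n208742
theorem D224410 : act 6 n208742 = n224410 := rfl
theorem F524800 : act 3 n224410 = n217627 := d7_1 D224410 F489847 (iv3 F450667)
theorem F524801 : act 4 n224410 = n208743 := d10_1 D224410 (iv6 D208743) D208742
theorem F524802 : act 7 n224410 = n220169 := d14_2 (iv7 F450668) D224410 (iv6 D220169) (iv7 F475313) (iv6 F475315)
theorem F524803 : act 0 n224410 = n224152 := d21_4 F446947 D224258 F523941 D224410 (iv6 D224152) F460695 (iv1 F502289) (iv5 D220131) (iv6 F467647) F467649
theorem F524804 : act 5 n224410 = n217626 := d21_6 (iv5 D60984) D60981 (iv5 F211869) D206907 (iv1 F450669) D224410 F489844 F466912 (iv6 D207033) (iv1 D129834)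
theorem F524805 : act 0 n224087 = n224410 := d21_4 D207037 F443066 D223884 (iv6 F522957) (iv6 D224410) (iv5 F523941) (iv1 F523945) F522769 (iv6 F511212) (iv1 D207036)
def n224411 : Q := act 1 n208743
theorem D224411 : act 1 n208743 = n224411 := rfl
theorem F524806 : act 1 n224411 = n222880 := d15_1 D224411 (iv7 F516564) F454881
theorem F524807 : act 7 n224411 = n222881 := d15_2 (iv0 F450879) D224411 (iv2 D222881)
theorem F524808 : act 5 n224411 = n210469 := d17_7 (iv1 D197325) D197326 F507161 (iv5 D221087) (iv4 F454869) F454870 D224411 F503369 F503363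
theorem F524809 : act 4 n224411 = n222891 := d17_9 (iv1 F516617) (iv5 F506408) F506406 F499255 (iv4 F519076) F519077 (iv0 F500163) F454870 D224411
theorem F524810 : act 6 n211202 = n224411 := d21_3 F443059 D208204 F460589 (iv1 D224411) (iv6 D208743) F217226 D207671 F445941 D221885 F511208
theorem F524811 : act 2 n224411 = n210473 := d3_1 F524810 (iv6 F489711) F489709
theorem F524812 : act 3 n224411 = n211204 := d7_1 F524810 (iv6 D211204) D211202
def n224412 : Q := act 5 n208744
theorem D224412 : act 5 n208744 = n224412 := rfl
theorem F524813 : act 2 n224412 = n215862 := d2_1 D224412 F481843 (iv2 F450677)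
theorem F524814 : act 3 n224412 = n209454 := d6_1 D224412 F505365 F457256
theorem F524815 : act 4 n224412 = n215860 := d9_1 D224412 (iv5 D215860) (iv4 F467349) (iv5 F508988) (iv4 D221429) F400598 (iv4 F407461) (iv5 F472523) F472522 (iv5 F349758) (iv4 F467352) (iv5 F505270) F505269 (iv5 F457252) F457250
theorem F524816 : act 6 n224412 = n223471 := d12_2 F512241 D224412 F519625 (iv6 F511305) (iv5 F512240)
theorem F524817 : act 7 n224412 = n220259 := d13_2 (iv7 F450676) D224412 (iv5 F502907)
theorem F524818 : act 1 n224412 = n220215 := d17_6 F405154 (iv5 D196404) F393301 (iv5 F457252) F457250 D224412 F502695 (iv0 D203776) F366888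
theorem F524819 : act 0 n224412 = n209440 := d21_1 D224412 (iv5 F453715) (iv6 F429771) (iv1 F410403) (iv6 D134767) (iv5 D63331) (iv1 F96652) (iv5 F98773) D135005 D208744
def n224413 : Q := act 0 n208747
theorem D224413 : act 0 n208747 = n224413 := rfl
theorem F524820 : act 5 n224413 = n220324 := d17_3 (iv1 F488030) (iv5 F450690) D224413 (iv4 D220324) (iv5 D193394) (iv0 F293825) F293826 D187025 (iv4 F488029)
theorem F524821 : act 4 n224413 = n220661 := d18_1 D224413 (iv1 D220661) (iv4 F501567) F501568 F491630 F372940 (iv4 F487314) (iv0 F487315) (iv5 F450690)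
theorem F524822 : act 3 n224413 = n217759 := d20_5 F387224 F450697 F221646 (iv3 F450688) D224413 (iv4 D217759) (iv1 F407136) (iv4 F454625) F454624 (iv1 F444193)
theorem F524823 : act 6 n224413 = n212442 := d21_5 (iv5 F447444) (iv1 D208015) (iv5 F217230) D208747 D224413 (iv5 D212442) (iv1 D146932) D146934 (iv6 F405073) (iv1 F405075)
theorem F524824 : act 2 n218024 = n224413 := d3_3 F524823 F465810 D218024
theorem F524825 : act 0 n224413 = n220490 := d21_4 F429682 (iv1 F370344) D212442 (iv6 F524823) F504027 F454906 (iv1 F390125) F390123 (iv6 F458469) F458467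
def n224414 : Q := act 1 n208747
theorem D224414 : act 1 n208747 = n224414 := rfl
theorem F524826 : act 1 n224414 = n220490 := d15_1 D224414 (iv7 F504028) F491422
theorem F524827 : act 7 n224414 = n218024 := d15_2 (iv0 D224413) D224414 F524824
theorem F524828 : act 4 n224414 = n220660 := d17_9 F504847 (iv5 F489279) (iv1 F489281) (iv5 F484733) (iv4 F489616) F489617 (iv0 F487315) (iv5 F450690) D224414
theorem F524829 : act 3 n218025 = n224414 := d19_19 (iv1 D224414) F450690 F368878 F292678 (iv1 F482583) F482585 F444192 (iv3 D202612) (iv1 F373417) (iv5 F407644) (iv4 F429254) (iv3 D203654) (iv1 F422678) D223001 F517194 F492402 (iv1 F492386) F492388 (iv4 F491755)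
theorem F524830 : act 6 n218325 = n224414 := d21_3 F372727 (iv1 F390215) D218325 (iv1 D224414) (iv6 D208747) F217230 F442135 F442136 F491474 (iv1 D217968)
def n224415 : Q := act 7 n208747
theorem D224415 : act 7 n208747 = n224415 := rfl
theorem F524831 : act 2 n224415 = n220490 := d4_1 D224415 (iv7 F504028) F491422
theorem F524832 : act 3 n224415 = n208751 := d8_1 D224415 (iv7 D208751) (iv3 F450688)
theorem F524833 : act 4 n224415 = n217978 := d11_1 D224415 F491526 (iv4 F450689)
theorem F524834 : act 5 n224415 = n217227 := d13_1 D224415 (iv7 F488027) (iv5 F450690)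
theorem F524835 : act 6 n224415 = n209442 := d14_1 D224415 F453720 (iv6 D208662) (iv7 F217231) D208747
theorem F524836 : act 0 n218024 = n224415 := d21_4 F231944 D202912 F426171 D218024 F524835 F453721 (iv1 F390120) D209686 F454631 F426728
def n224416 : Q := act 7 n208750
theorem D224416 : act 7 n208750 = n224416 := rfl
theorem F524837 : act 2 n224416 = n220521 := d4_1 D224416 (iv7 F504164) (iv2 F450705)
theorem F524838 : act 3 n224416 = n217227 := d8_1 D224416 (iv7 F488027) (iv3 F450706)
theorem F524839 : act 5 n224416 = n208751 := d13_1 D224416 (iv7 D208751) D208750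
theorem F524840 : act 6 n224416 = n215214 := d14_1 D224416 F478906 (iv6 D208388) (iv7 F368874) (iv6 F450707)
theorem F524841 : act 1 n220522 = n224416 := d15_1 F504172 (iv7 D224416) F450705
theorem F524842 : act 1 n224416 = n219381 := d15_1 F524841 (iv7 F498590) (iv2 F504168)
def n224417 : Q := act 0 n208758
theorem D224417 : act 0 n208758 = n224417 := rfl
theorem F524843 : act 4 n224417 = n218232 := d18_3 (iv1 F492969) (iv4 F450736) D224417 F492861 F466522 (iv0 D197349) (iv4 F167892) D197658 (iv5 F492967)
theorem F524844 : act 3 n224417 = n218230 := d20_5 (iv4 D192567) (iv1 F371701) D217738 F490402 D224417 (iv4 D218230) (iv1 F374966) (iv4 F439773) F490411 (iv1 F490409)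
theorem F524845 : act 2 n224397 = n224417 := d15_3 (iv0 D224417) (iv0 F471714) (iv7 F524723)
theorem F524846 : act 1 n224404 = n224417 := d15_0 (iv0 D224417) (iv7 F501559) (iv2 F524766)
theorem F524847 : act 7 n224417 = n222840 := d15_2 F524771 F524846 F516369
def n224418 : Q := act 5 n208763
theorem D224418 : act 5 n208763 = n224418 := rfl
theorem F524848 : act 2 n224418 = n218347 := d2_1 D224418 (iv5 D218347) (iv2 F450747)
theorem F524849 : act 4 n224418 = n216926 := d9_1 D224418 (iv5 D216926) (iv4 D186378) (iv5 D88781) (iv4 F294390) D89202 D186825 D217132 F487581 (iv5 D216924) (iv4 D186369) (iv5 D88776) D88775 (iv5 F364231) (iv4 F450748)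
theorem F524850 : act 6 n224418 = n219240 := d12_2 D208763 D224418 F497894 F461306 (iv5 D208762)
theorem F524851 : act 7 n224418 = n219623 := d13_2 (iv7 F450749) D224418 F499729
theorem F524852 : act 0 n224418 = n216937 := d17_2 (iv1 F450751) D224418 F486610 (iv4 D191850) (iv5 D99010) (iv0 F293933) D186280 F367084 D186647
theorem F524853 : act 1 n224418 = n216905 := d17_6 F368126 (iv5 D186818) F295038 (iv5 F364231) (iv4 F450748) D224418 (iv5 D216905) (iv0 F377038) (iv4 D189581)
def n224419 : Q := act 5 n208772
theorem D224419 : act 5 n208772 = n224419 := rfl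
theorem F524854 : act 2 n224419 = n218146 := d2_1 D224419 (iv5 D218146) (iv2 F450797)
theorem F524855 : act 3 n224419 = n213579 := d6_1 D224419 F471129 (iv3 F450798)
theorem F524856 : act 6 n224419 = n208773 := d12_2 D208772 D224419 (iv5 D208773) (iv6 D135061) D135060
theorem F524857 : act 7 n224419 = n218147 := d13_2 (iv7 F450799) D224419 (iv5 D218147)
theorem F524858 : act 0 n224419 = n220470 := d17_2 F450800 D224419 (iv5 F503926) F460572 D211200 F485597 F485596 (iv0 F492339) F492337
theorem F524859 : act 4 n224419 = n211200 := d17_4 F481660 F387050 F450800 D224419 (iv5 D211200) D211199 (iv5 F485743) (iv0 D216744) (iv4 F481658)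
theorem F524860 : act 0 n220469 = n224419 := d19_0 (iv5 D224419) F502387 (iv3 F502388) F489346 (iv5 F481879) (iv4 F481881) F458727 F416568 (iv5 D137031) (iv4 D64413) (iv3 F102073) F84068 (iv5 F78194) (iv4 F165013) (iv3 F400968) F502612 (iv5 F502613) F502615 F503924
def n224420 : Q := act 7 n208778
theorem D224420 : act 7 n208778 = n224420 := rfl
theorem F524861 : act 2 n224420 = n219997 := d4_1 D224420 F516191 F516187
theorem F524862 : act 3 n224420 = n209505 := d8_1 D224420 (iv7 F484066) F484063
theorem F524863 : act 4 n224420 = n222769 := d11_1 D224420 F515986 (iv4 F459039)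
theorem F524864 : act 5 n224420 = n223372 := d13_1 D224420 F519116 F462394
theorem F524865 : act 6 n224420 = n217739 := d14_1 D224420 F490410 (iv6 F450084) (iv7 F450083) D208778
theorem F524866 : act 1 n210684 = n224420 := d15_1 (iv0 F516190) (iv7 D224420) (iv2 F516187)
theorem F524867 : act 1 n224420 = n224318 := d15_1 F524866 F524290 F460538
def n224421 : Q := act 5 n208794
theorem D224421 : act 5 n208794 = n224421 := rfl
theorem F524868 : act 2 n224421 = n216703 := d2_1 D224421 F485537 F467067
theorem F524869 : act 3 n224421 = n208795 := d6_1 D224421 (iv5 D208795) (iv3 F450908)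
theorem F524870 : act 6 n224421 = n218149 := d12_2 D208794 D224421 (iv5 D218149) F450907 (iv5 D208793)
theorem F524871 : act 7 n224421 = n216704 := d13_2 (iv7 F450909) D224421 F485541
theorem F524872 : act 0 n224421 = n216705 := d17_2 F450910 D224421 F485549 (iv4 F523419) F523420 (iv0 D224113) (iv5 D206824) D206823 (iv4 F449550)
theorem F524873 : act 0 n216702 = n224421 := d21_10 (iv5 D224421) F453036 (iv5 F485739) (iv6 F517387) (iv1 D223040) F433013 D216795 F485941 F483545 D216702
def n224422 : Q := act 4 n208795
theorem D224422 : act 4 n208795 = n224422 := rfl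
theorem F524874 : act 2 n224422 = n220397 := d1_1 D224422 F503583 F489301
theorem F524875 : act 6 n224422 = n218152 := d10_2 (iv6 F450911) D224422 (iv4 D218152)
theorem F524876 : act 7 n224422 = n216682 := d11_2 (iv7 F450912) D224422 (iv4 F485460)
theorem F524877 : act 5 n224422 = n219527 := d16_1 D224422 (iv4 D219527) (iv5 D191651) F377966 D131950 (iv4 F445244) D224231 F523789 F489301
theorem F524878 : act 0 n224422 = n215578 := d17_0 (iv5 F489901) F498862 F498860 F392032 F157910 D186719 (iv5 F449631) (iv0 F450913) D224422
theorem F524879 : act 1 n224422 = n215584 := d18_6 F483681 F483677 F441411 F441409 D208795 D224422 F480641 (iv0 F480613) F480609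
theorem F524880 : act 3 n224422 = n216453 := d19_3 F395965 D208795 D224422 (iv1 D216453) (iv5 F368927) (iv4 F488131) (iv3 D217254) (iv1 F386351) (iv5 F478619) F478618 (iv3 F432505) (iv1 F389699) (iv5 F396378) (iv4 D195230) (iv3 D105445) (iv1 D48757) (iv5 F76635) (iv4 F161522) (iv3 F395963)
def n224423 : Q := act 1 n208817
theorem D224423 : act 1 n208817 = n224423 := rfl
theorem F524881 : act 1 n224423 = n219582 := d15_1 D224423 (iv7 F501751) F501748
theorem F524882 : act 7 n224423 = n219581 := d15_2 (iv0 F454360) D224423 F499551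
theorem F524883 : act 5 n224423 = n209117 := d17_7 (iv1 D209001) (iv5 D135559) D135557 (iv5 F432784) (iv4 F454358) F454359 D224423 (iv0 F459896) F459894
theorem F524884 : act 4 n224423 = n222403 := d17_9 F523198 F523195 (iv1 D222732) D222733 F515805 (iv5 F426107) (iv0 F454362) F454359 D224423
theorem F524885 : act 3 n213094 = n224423 := d19_19 (iv1 D224423) (iv5 F454359) F454358 (iv3 F432785) (iv1 F398231) (iv5 D195798) F163315 (iv3 F203034) (iv1 F398164) F398162 (iv4 D125867) (iv3 F202362) D205370 F436110 (iv4 F361647) F361644 D213084 (iv5 F468932) (iv4 F468986)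
theorem F524886 : act 2 n224423 = n218395 := d0_1 F524885 F493670 F376115 (iv3 F491395) F491394
theorem F524887 : act 6 n224423 = n218392 := d7_2 (iv6 F491392) F524885 F493654
def n224424 : Q := act 6 n208829
theorem D224424 : act 6 n208829 = n224424 := rfl
theorem F524888 : act 2 n224424 = n222445 := d3_1 D224424 F514257 (iv2 F451031)
theorem F524889 : act 3 n224424 = n211540 := d7_1 D224424 F462038 F457492
theorem F524890 : act 4 n224424 = n208920 := d10_1 D224424 (iv6 D208920) (iv4 F451032)
theorem F524891 : act 5 n224424 = n211539 := d12_1 D224424 (iv6 D211539) F451037 (iv6 D208830) D208829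
theorem F524892 : act 7 n224424 = n222446 := d14_2 F468635 D224424 (iv6 F514263) (iv7 F459662) F468637
theorem F524893 : act 0 n224424 = n222447 := d21_4 (iv5 F450915) F450917 D208829 D224424 F514267 F492967 (iv1 D197658) (iv5 F387018) (iv6 F430784) F430786
theorem F524894 : act 0 n222444 = n224424 := d21_4 (iv5 D198781) (iv1 F406468) (iv5 F412938) D222444 (iv6 D224424) (iv5 D208829) (iv1 D135150) D135152 F356117 F409209
def n224425 : Q := act 0 n208837
theorem D224425 : act 0 n208837 = n224425 := rfl
theorem F524895 : act 6 n224425 = n209547 := d21_5 F221313 (iv1 F347014) D135161 (iv6 F451061) D224425 F454092 (iv1 F446925) (iv5 F485697) F485698 (iv1 F453039)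
theorem F524896 : act 2 n223454 = n224425 := d15_3 (iv0 D224425) (iv0 F455142) (iv7 F519532)
theorem F524897 : act 1 n223424 = n224425 := d15_0 (iv0 D224425) (iv7 F519006) (iv2 F519378)
theorem F524898 : act 7 n224425 = n209551 := d15_2 (iv0 F519383) F524897 (iv2 F455140)
def n224426 : Q := act 3 n208842
theorem D224426 : act 3 n208842 = n224426 := rfl
theorem F524899 : act 5 n224426 = n218358 := d6_2 F514466 D224426 F514468
theorem F524900 : act 6 n224426 = n220000 := d7_2 F451078 D224426 (iv3 D220000)
theorem F524901 : act 7 n224426 = n219562 := d8_2 (iv7 F451076) D224426 F499458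
theorem F524902 : act 0 n224426 = n223638 := d19_4 D115994 D202565 (iv4 F451077) D224426 F520471 F493410 F483239 (iv1 F459903) (iv5 D211049) (iv4 D140576) D140575 (iv1 F371911) F371910 F223696 D145345 F228391 F180717 (iv4 F180621) (iv3 D115996)
theorem F524903 : act 0 n220607 = n224426 := d20_4 F468193 (iv1 F466660) (iv4 F451741) (iv3 F504595) (iv3 D224426) F451077 F424534 F424484 D223245 F518401
def n224427 : Q := act 6 n208843
theorem D224427 : act 6 n208843 = n224427 := rfl
theorem F524904 : act 2 n224427 = n217799 := d3_1 D224427 (iv6 D217799) F451083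
theorem F524905 : act 3 n224427 = n208844 := d7_1 D224427 (iv6 D208844) D208843
theorem F524906 : act 4 n224427 = n209124 := d10_1 D224427 F452368 (iv4 F451082)
theorem F524907 : act 5 n224427 = n215421 := d12_1 D224427 (iv6 D215421) D215420 (iv6 F479910) (iv5 F451079)
theorem F524908 : act 7 n224427 = n216016 := d14_2 (iv7 F451080) D224427 (iv6 D216016) (iv7 F366886) F371903
theorem F524909 : act 0 n224427 = n223657 := d21_4 (iv5 D211030) (iv1 F401059) (iv5 F451079) D224427 F520576 F512250 (iv1 D218810) F378919 F401837 (iv1 F459803)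
theorem F524910 : act 0 n217819 = n224427 := d21_4 F511247 F495210 (iv5 D217818) D217819 (iv6 D224427) F451079 F401058 (iv5 F224937) D211361 F511250
def n224428 : Q := act 3 n208852
theorem D224428 : act 3 n208852 = n224428 := rfl
theorem F524911 : act 2 n224428 = n220470 := d0_1 D224428 (iv3 F503925) F492384 (iv3 F513038) F513037
theorem F524912 : act 5 n224428 = n210669 := d6_2 F513028 D224428 (iv3 F513026)
theorem F524913 : act 6 n224428 = n216716 := d7_2 F460716 D224428 F485601
theorem F524914 : act 7 n224428 = n220469 := d8_2 F481856 D224428 (iv3 F503924)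
theorem F524915 : act 0 n224428 = n218147 := d19_4 D196523 D221489 (iv4 F509267) D224428 (iv5 D218147) (iv4 F469112) F489979 (iv1 F489978) D217880 F491057 F459131 (iv1 F245436) (iv5 D156165) (iv4 D74288) F101985 (iv1 D30244) (iv5 F37825) (iv4 F78191) (iv3 F164998)
theorem F524916 : act 4 n223496 = n224428 := d19_2 D213125 (iv5 F519750) (iv3 D224428) (iv1 F451123) (iv5 D203366) F186824 (iv3 D75159) (iv1 F83364) F83363 (iv4 D52768) (iv3 F83358) (iv1 F163400) (iv5 F163401) F139435 (iv3 F139436) F108571 F178705 F178708 D152567
theorem F524917 : act 0 n218146 = n224428 := d20_4 (iv4 D209485) (iv1 F346671) D193546 (iv3 F492364) (iv3 D224428) F509267 F509265 F472912 F432581 F453895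
def n224429 : Q := act 0 n208854
theorem D224429 : act 0 n208854 = n224429 := rfl
theorem F524918 : act 5 n224429 = n213794 := d17_1 D224429 F472123 F485358 F485356 F457409 (iv0 F513030) F513028 (iv0 D208852) D208854
theorem F524919 : act 4 n224429 = n221901 := d18_1 D224429 (iv1 F511301) F432732 (iv5 D156148) (iv4 F201838) (iv0 F400236) (iv4 F423551) D223156 F517920
theorem F524920 : act 1 n223440 = n224429 := d15_0 (iv0 D224429) (iv7 F520709) F520706
theorem F524921 : act 3 n213795 = n224429 := d20_3 D213807 F472179 F472129 (iv1 F524920) F519468 F433187 D204663 D223752 F521069 (iv1 D213806)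
theorem F524922 : act 2 n224429 = n220751 := d0_1 F524921 F505315 F393258 (iv3 F469580) (iv2 F472124)
theorem F524923 : act 7 n224429 = n221529 := d8_2 (iv7 F472125) F524921 F509446
def n224430 : Q := act 1 n208854
theorem D224430 : act 1 n208854 = n224430 := rfl
theorem F524924 : act 1 n224430 = n223440 := d15_1 D224430 (iv7 F524612) F524608
theorem F524925 : act 7 n224430 = n220751 := d15_2 (iv0 D224429) D224430 (iv2 F524922)
theorem F524926 : act 5 n224430 = n220752 := d17_7 (iv1 D206343) (iv5 F430680) (iv1 F430683) (iv5 F440347) (iv4 F517917) F517920 D224430 (iv0 F505320) F468829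
theorem F524927 : act 4 n224430 = n221902 := d17_9 (iv1 D221902) (iv5 D197598) F370644 F370637 (iv4 F485361) F485362 D223156 F517920 D224430
theorem F524928 : act 3 n209856 = n224430 := d19_19 (iv1 D224430) (iv5 F517920) F517917 F440348 (iv1 F371670) (iv5 F400396) F400395 F250899 F162650 (iv5 F115175) (iv4 D76764) D76763 F115165 (iv5 F323310) F323309 D152341 F392446 D194242 (iv4 F455150)
theorem F524929 : act 6 n209855 = n224430 := d21_3 (iv5 D213063) (iv1 F366081) D209855 (iv1 D224430) F451125 (iv5 F448796) (iv1 F451143) (iv5 F451158) (iv6 F451164) F468831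
theorem F524930 : act 2 n224430 = n221529 := d3_1 F524929 F509447 (iv2 F455144)
def n224431 : Q := act 3 n208854
theorem D224431 : act 3 n208854 = n224431 := rfl
theorem F524931 : act 2 n224431 = n215809 := d0_1 D224431 F481654 (iv2 F504240) (iv3 F524609) F524608
theorem F524932 : act 5 n224431 = n215778 := d6_2 F517920 D224431 F517918
theorem F524933 : act 6 n224431 = n208862 := d7_2 (iv6 F451125) D224431 (iv3 D208862)
theorem F524934 : act 0 n219929 = n224431 := d17_2 (iv1 D219927) D219929 F524932 F481536 (iv5 F409306) (iv0 F457525) F457523 D221394 (iv4 F508791)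
def n224432 : Q := act 3 n208857
theorem D224432 : act 3 n208857 = n224432 := rfl
theorem F524935 : act 2 n224432 = n223036 := d0_1 D224432 (iv3 F519717) F524589 (iv3 D224375) (iv2 F451132)
theorem F524936 : act 5 n224432 = n223361 := d6_2 F451140 D224432 (iv3 F519054)
theorem F524937 : act 7 n224432 = n224374 := d8_2 (iv7 F451133) D224432 (iv3 D224374)
theorem F524938 : act 0 n216648 = n224432 := d20_4 (iv4 D193829) (iv1 F157180) D185123 D216648 (iv3 D224432) (iv4 D208857) D208856 (iv4 F485332) (iv3 D216651) (iv1 F391126)
theorem F524939 : act 6 n223027 = n224432 := d12_0 F524936 F519056 (iv5 F517716) F517717 (iv5 F517320)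
def n224433 : Q := act 6 n208857
theorem D224433 : act 6 n208857 = n224433 := rfl
theorem F524940 : act 2 n224433 = n224376 := d3_1 D224433 (iv6 D224376) (iv2 F451132)
theorem F524941 : act 3 n224433 = n223027 := d7_1 D224433 F524939 (iv3 D224432)
theorem F524942 : act 4 n224433 = n208858 := d10_1 D224433 (iv6 D208858) D208857
theorem F524943 : act 7 n224433 = n223037 := d14_2 (iv7 F451133) D224433 F517371 F511923 F458019
theorem F524944 : act 0 n223678 = n224433 := d21_4 (iv5 F481639) (iv1 F472758) (iv5 F432601) D223678 (iv6 D224433) (iv5 F451140) F451142 (iv5 F481713) F481715 (iv1 F481642)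
def n224434 : Q := act 3 n208863
theorem D224434 : act 3 n208863 = n224434 := rfl
theorem F524945 : act 2 n224434 = n220393 := d0_1 D224434 (iv3 D220393) F480565 F480567 F451152
theorem F524946 : act 5 n224434 = n222461 := d6_2 (iv5 F451151) D224434 F514335
theorem F524947 : act 6 n224434 = n217880 := d7_2 F451155 D224434 F491056
theorem F524948 : act 7 n224434 = n220512 := d8_2 (iv7 F451154) D224434 F504126
theorem F524949 : act 0 n224434 = n224353 := d20_4 D208497 (iv1 F524579) F524581 D224434 F524487 F456696 F383562 (iv4 F498437) F498443 F383569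
theorem F524950 : act 1 n224434 = n224354 := d15_1 (iv0 F524949) (iv7 F524793) F524791
def n224435 : Q := act 3 n208867
theorem D224435 : act 3 n208867 = n224435 := rfl
theorem F524951 : act 2 n224435 = n223054 := d0_1 D224435 (iv3 F517451) (iv2 F470536) F470537 (iv2 F451170)
theorem F524952 : act 4 n224435 = n222971 := d5_2 D208867 D224435 (iv3 F517046) F469500 F451167
theorem F524953 : act 5 n224435 = n215842 := d6_2 (iv5 F451171) D224435 F481756
theorem F524954 : act 7 n224435 = n209862 := d8_2 (iv7 F451172) D224435 F455182
theorem F524955 : act 0 n224435 = n223056 := d19_4 (iv1 F102150) D135217 D208867 D224435 F517460 (iv4 D220642) (iv3 F486820) (iv1 F486813) (iv5 F497380) F497379 F467454 (iv1 F362065) D191044 D219284 (iv3 F522214) (iv1 D223957) (iv5 D205794) (iv4 F216259) F216258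
theorem F524956 : act 0 n221497 = n224435 := d20_4 (iv4 D224334) F448331 D223515 F519846 (iv3 D224435) (iv4 D208867) (iv1 F363288) (iv4 F485329) (iv3 F500929) (iv1 F524384)
def n224436 : Q := act 0 n208868
theorem D224436 : act 0 n208868 = n224436 := rfl
theorem F524957 : act 5 n224436 = n213591 := d17_3 F485503 (iv5 F485502) D224436 F471197 F468806 F517208 F517207 F517223 F517220
theorem F524958 : act 3 n224436 = n221002 := d20_5 F341434 F169028 D135218 D208868 D224436 (iv4 D221002) (iv1 F396359) (iv4 F431879) F431878 F306407
theorem F524959 : act 6 n224436 = n222463 := d21_5 D224340 F524422 F520221 (iv6 F451174) D224436 F514346 F500560 F500557 F449237 (iv1 F448650)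
theorem F524960 : act 2 n218660 = n224436 := d15_3 (iv0 D224436) F483662 (iv7 F495020)
theorem F524961 : act 1 n213550 = n224436 := d15_0 (iv0 D224436) F451175 (iv2 F470986)
theorem F524962 : act 7 n224436 = n216168 := d15_2 (iv0 F483661) F524961 (iv2 F483658)
def n224437 : Q := act 5 n208890
theorem D224437 : act 5 n208890 = n224437 := rfl
theorem F524963 : act 3 n224437 = n208891 := d6_1 D224437 (iv5 D208891) D208890
theorem F524964 : act 6 n224437 = n209948 := d12_2 (iv6 F451277) D224437 (iv5 D209948) (iv6 D137145) D137144
theorem F524965 : act 7 n224437 = n222103 := d13_2 F492177 D224437 F512381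
theorem F524966 : act 4 n224437 = n219154 := d16_4 (iv4 F498399) F524224 F524220 D224437 F497461 F474502 F474499 F382736 (iv2 F382765)
theorem F524967 : act 0 n224437 = n223780 := d17_2 F492173 D224437 F521231 (iv4 D218550) (iv5 F413685) (iv0 D194203) (iv5 F392357) F494344 F494341
theorem F524968 : act 0 n223778 = n224437 := d19_0 (iv5 D224437) (iv4 F524220) (iv3 D224307) (iv1 F486196) (iv5 F498315) F498316 (iv3 D215110) (iv1 F288014) (iv5 F358842) (iv4 F268468) (iv3 F406781) (iv1 F406784) D198187 D222061 F512152 (iv1 D218589) D218590 F498269 (iv3 F521223)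
def n224438 : Q := act 5 n208896
theorem D224438 : act 5 n208896 = n224438 := rfl
theorem F524969 : act 2 n224438 = n219584 := d2_1 D224438 F499563 (iv2 F451300)
theorem F524970 : act 3 n224438 = n220674 := d6_1 D224438 F504927 F493209
theorem F524971 : act 4 n224438 = n208904 := d9_1 D224438 F451337 (iv4 F217630) (iv5 D132916) F207720 D135294 D208898 F451307 (iv4 D203704) (iv5 D120304) F87626 F315463 (iv4 F98954) D135292 D208896
theorem F524972 : act 6 n224438 = n212101 := d12_2 F471876 D224438 (iv5 F464333) (iv6 F521502) F521500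
theorem F524973 : act 7 n224438 = n219585 := d13_2 (iv7 F451301) D224438 F499569
theorem F524974 : act 0 n224438 = n213014 := d17_2 (iv1 F451303) D224438 F468595 F450958 F217339 F213167 (iv5 F98830) F217347 D208809
theorem F524975 : act 1 n224438 = n213012 := d17_6 (iv1 D135301) (iv5 D63608) D63605 D135292 D208896 D224438 F468590 (iv0 F451330) (iv4 D208902)
def n224439 : Q := act 7 n208897
theorem D224439 : act 7 n208897 = n224439 := rfl
theorem F524976 : act 2 n224439 = n213451 := d4_1 D224439 (iv7 F471848) F471849
theorem F524977 : act 3 n224439 = n211294 := d8_1 D224439 (iv7 F501593) F501591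
theorem F524978 : act 4 n224439 = n213450 := d11_1 D224439 (iv7 F471877) F471875
theorem F524979 : act 5 n224439 = n213754 := d13_1 D224439 F471935 F454980
theorem F524980 : act 6 n224439 = n211293 := d14_1 D224439 F461005 (iv6 F443217) F443218 D208897
theorem F524981 : act 1 n216571 = n224439 := d15_1 (iv0 F485001) (iv7 D224439) (iv2 F471849)
theorem F524982 : act 1 n224439 = n217578 := d15_1 F524981 (iv7 D217578) (iv2 F484997)
def n224440 : Q := act 4 n208914
theorem D224440 : act 4 n208914 = n224440 := rfl
theorem F524983 : act 2 n224440 = n223582 := d1_1 D224440 (iv4 D223582) (iv2 F451387)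
theorem F524984 : act 3 n224440 = n216987 := d5_1 D224440 (iv4 D216987) D216986 F486880 (iv3 F483143)
theorem F524985 : act 5 n224440 = n221845 := d9_2 D208914 D224440 F511020 (iv5 F521402) (iv4 D223809) F434747 F357866 D204191 D223635 F520456 (iv4 F524712) F524713 (iv4 D208915) (iv5 D135368) (iv4 F217608)
theorem F524986 : act 7 n224440 = n221844 := d11_2 (iv7 F451388) D224440 F511016
def n224441 : Q := act 0 n208920
theorem D224441 : act 0 n208920 = n224441 := rfl
theorem F524987 : act 4 n224441 = n213706 := d18_3 F524894 F524890 D224441 F471716 D221634 (iv0 F510012) F464471 (iv0 F509326) (iv5 F514254)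
theorem F524988 : act 5 n224441 = n222347 := d19_1 D224441 F513727 (iv3 D210117) (iv1 F220783) D137638 F346023 F106388 D84688 F277423 (iv4 F394019) F394018 (iv1 F377068) F283609 D193224 (iv3 F401629) (iv1 F401632) (iv5 F411258) (iv4 F411260) (iv3 F451410)
theorem F524989 : act 3 n224441 = n222348 := d20_5 F510436 (iv1 F509771) (iv4 F411260) (iv3 F451410) D224441 (iv4 F518530) (iv1 F518534) (iv4 D202658) (iv3 F424962) (iv1 F510434)
theorem F524990 : act 1 n223272 = n224441 := d15_0 (iv0 D224441) (iv7 F513312) (iv2 F518560)
theorem F524991 : act 2 n224037 = n224441 := d0_5 F524989 F513732 (iv3 F485037) F485036 D224037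
theorem F524992 : act 6 n213705 = n224441 := d7_0 F524989 F513733 (iv3 F471713)
theorem F524993 : act 7 n223270 = n224441 := d8_0 F524989 F513734 D223270
def n224442 : Q := act 1 n208920
theorem D224442 : act 1 n208920 = n224442 := rfl
theorem F524994 : act 1 n224442 = n223272 := d15_1 D224442 F518562 F468646
theorem F524995 : act 7 n224442 = n224037 := d15_2 (iv0 D224441) D224442 F524991
theorem F524996 : act 5 n224442 = n214037 := d17_7 F482127 F482126 F517839 (iv5 D223137) (iv4 F502568) F502569 D224442 (iv0 F473216) (iv4 F469278)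
theorem F524997 : act 4 n224442 = n221633 := d17_9 F510005 F499618 (iv1 F410764) (iv5 F450525) F450524 (iv5 F410385) (iv0 F502570) F502569 D224442
theorem F524998 : act 3 n216580 = n224442 := d19_19 (iv1 D224442) (iv5 F502569) F502568 (iv3 D202254) (iv1 F423397) (iv5 F481811) (iv4 D215856) D215855 (iv1 F481808) F458684 F245492 F167379 D108247 F315152 (iv4 D114791) D114790 F206229 (iv5 F440109) (iv4 F485043)
theorem F524999 : act 6 n212690 = n224442 := d21_3 F450514 F365403 D212690 (iv1 D224442) (iv6 D208920) (iv5 D135394) F319895 D120304 (iv6 F429464) F450515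
theorem F525000 : act 2 n224442 = n223270 := d3_1 F524999 F518550 F513846
def n224443 : Q := act 1 n208925
theorem D224443 : act 1 n208925 = n224443 := rfl
theorem F525001 : act 1 n224443 = n224034 := d15_1 D224443 F522648 F468638
theorem F525002 : act 7 n224443 = n213791 := d15_2 (iv0 F468997) D224443 F472103
theorem F525003 : act 5 n224443 = n223491 := d17_7 F472157 (iv5 F429100) (iv1 D152793) D152795 D213199 (iv5 F469417) D224443 F519727 (iv4 F472155)
theorem F525004 : act 4 n224443 = n212646 := d17_9 (iv1 F492939) F492941 (iv1 D189056) (iv5 F374333) F374332 F372954 (iv0 F469415) (iv5 F469417) D224443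
theorem F525005 : act 3 n222077 = n224443 := d19_19 (iv1 D224443) F469417 (iv4 D213199) F239994 D152797 F239996 F184281 (iv3 D71088) (iv1 D32919) (iv5 D15852) D15851 F25326 F22759 (iv5 F40551) (iv4 F83518) (iv3 F178594) F351181 (iv5 F407514) (iv4 F512239)
theorem F525006 : act 6 n209729 = n224443 := d21_3 (iv5 D209456) D209454 F505365 (iv1 D224443) (iv6 D208925) (iv5 D135404) (iv1 F217629) (iv5 F451337) (iv6 F494673) F494675
theorem F525007 : act 2 n224443 = n213796 := d3_1 F525006 (iv6 F524748) (iv2 F524749)
def n224444 : Q := act 7 n208925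
theorem D224444 : act 7 n208925 = n224444 := rfl
theorem F525008 : act 2 n224444 = n224034 := d4_1 D224444 F522648 F468638
theorem F525009 : act 3 n224444 = n223273 := d8_1 D224444 F518564 F501521
theorem F525010 : act 4 n224444 = n213725 := d11_1 D224444 (iv7 F514109) F514106
theorem F525011 : act 5 n224444 = n213630 := d13_1 D224444 F471368 (iv5 F469417)
theorem F525012 : act 6 n224444 = n223272 := d14_1 D224444 F518562 (iv6 D213025) F239248 D208925
theorem F525013 : act 1 n213796 = n224444 := d15_1 (iv0 F472133) (iv7 D224444) (iv2 F468638)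
theorem F525014 : act 1 n224444 = n213791 := d15_1 F525013 (iv7 F525002) F525007
def n224445 : Q := act 5 n208929
theorem D224445 : act 5 n208929 = n224445 := rfl
theorem F525015 : act 2 n224445 = n221862 := d2_1 D224445 F511114 (iv2 F451448)
theorem F525016 : act 3 n224445 = n221540 := d6_1 D224445 F509495 F508248
theorem F525017 : act 4 n224445 = n223111 := d9_1 D224445 F517702 (iv4 D213472) (iv5 F430751) F430749 (iv5 F438110) (iv4 F519576) (iv5 F524629) F524628 (iv5 F469420) F469419 (iv5 F366444) F217641 D135408 D208929
theorem F525018 : act 6 n224445 = n221109 := d12_2 (iv6 F451449) D224445 (iv5 D221109) F459928 (iv5 F438089)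
theorem F525019 : act 0 n224445 = n223103 := d17_2 (iv1 F456475) D224445 F517662 F510668 F428841 (iv0 F428489) F428549 F428547 (iv4 F456473)
theorem F525020 : act 1 n224445 = n221833 := d17_6 F403047 F403045 (iv1 D135407) D135408 D208929 D224445 F511085 F511080 (iv4 D206296)
def n224446 : Q := act 0 n208933
theorem D224446 : act 0 n208933 = n224446 := rfl
theorem F525021 : act 5 n224446 = n220448 := d17_1 D224446 F503832 F499860 (iv4 F509987) (iv5 D221630) D221629 F509981 (iv0 F510352) F510353
theorem F525022 : act 3 n224446 = n220449 := d20_5 (iv4 F365820) D207805 (iv4 F522945) F522946 D224446 (iv4 F518249) (iv1 F518252) F491196 (iv3 D212448) (iv1 D146946)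
theorem F525023 : act 4 n224446 = n222447 := d20_8 F412494 (iv1 D139477) (iv4 F172819) (iv3 F360130) (iv1 F403284) (iv3 F510349) F510353 D224446 F514266 (iv1 F412954)
theorem F525024 : act 2 n219597 = n224446 := d1_3 F525023 F514265 F499621
theorem F525025 : act 7 n219598 = n224446 := d11_0 F525023 (iv7 D222447) (iv4 F499625)
theorem F525026 : act 0 n224446 = n219599 := d20_4 (iv4 F491215) (iv1 F518253) F518249 (iv3 F525022) F499626 (iv4 F491317) (iv1 F491320) F384633 (iv3 F491816) F491819
def n224447 : Q := act 1 n208933
theorem D224447 : act 1 n208933 = n224447 := rfl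
theorem F525027 : act 1 n224447 = n219599 := d15_1 D224447 (iv7 D219599) (iv2 F451470)
theorem F525028 : act 7 n224447 = n219597 := d15_2 (iv0 D224446) D224447 F525024
theorem F525029 : act 5 n224447 = n219969 := d17_7 (iv1 D221737) (iv5 F461661) (iv1 F516988) (iv5 D222959) (iv4 F500804) F500802 D224447 (iv0 F501433) F510588
theorem F525030 : act 4 n222444 = n224447 := d20_0 (iv1 D224447) (iv4 F510353) F510349 F403283 (iv3 F424148) F424149 F431142 (iv4 F432681) D223690 F520750
theorem F525031 : act 3 n219970 = n224447 := d20_3 (iv4 F475829) (iv1 F490082) (iv4 F501435) (iv1 D224447) (iv3 F522946) F522945 (iv1 F446524) (iv4 F465512) (iv3 F501447) F501450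
theorem F525032 : act 6 n212339 = n224447 := d21_3 (iv5 D212683) (iv1 F233627) (iv5 F465389) (iv1 D224447) (iv6 D208933) (iv5 D135413) (iv1 F108165) D152044 (iv6 F412683) (iv1 F467047)
theorem F525033 : act 2 n224447 = n219598 := d3_1 F525032 (iv6 F499623) F465391
def n224448 : Q := act 7 n208933
theorem D224448 : act 7 n208933 = n224448 := rfl
theorem F525034 : act 2 n224448 = n219599 := d4_1 D224448 (iv7 D219599) (iv2 F451470)
theorem F525035 : act 3 n224448 = n209341 := d8_1 D224448 (iv7 F522950) F522946
theorem F525036 : act 4 n224448 = n221452 := d11_1 D224448 (iv7 F510351) F510353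
theorem F525037 : act 6 n224448 = n223445 := d14_1 D224448 (iv7 F519496) (iv6 D213008) F239052 D208933
theorem F525038 : act 1 n219598 = n224448 := d15_1 D219598 (iv7 D224448) F451470
theorem F525039 : act 1 n224448 = n219597 := d15_1 F525038 (iv7 F525028) F525033
def n224449 : Q := act 1 n208934
theorem D224449 : act 1 n208934 = n224449 := rfl
theorem F525040 : act 1 n224449 = n223445 := d15_1 D224449 (iv7 F519496) F468571
theorem F525041 : act 7 n224449 = n213726 := d15_2 (iv0 F465214) D224449 F471807
theorem F525042 : act 4 n224449 = n210440 := d17_9 F514111 F514107 F439988 F439987 D213733 (iv5 F500577) (iv0 F500578) F451472 D224449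
theorem F525043 : act 5 n224449 = n220467 := d18_9 F503918 F489293 (iv1 D213257) (iv4 F468780) (iv5 F472105) (iv4 D213791) D213790 F472102 D224449
theorem F525044 : act 3 n217903 = n224449 := d19_19 (iv1 D224449) (iv5 F451472) (iv4 F502645) F502644 F388837 (iv5 D192399) (iv4 D100149) F73858 (iv1 F64497) (iv5 D41837) F31444 (iv3 F31443) D41824 F71738 (iv4 D42568) D42567 D90871 D188132 D217903
theorem F525045 : act 2 n224449 = n213727 := d0_1 F525044 F471811 F397507 (iv3 F385146) (iv2 F491177)
def n224450 : Q := act 7 n208934
theorem D224450 : act 7 n208934 = n224450 := rfl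
theorem F525046 : act 2 n224450 = n223445 := d4_1 D224450 (iv7 F519496) F468571
theorem F525047 : act 3 n224450 = n217007 := d8_1 D224450 (iv7 D217007) (iv3 F451471)
theorem F525048 : act 4 n224450 = n218245 := d11_1 D224450 (iv7 F492938) F472102
theorem F525049 : act 5 n224450 = n217517 := d13_1 D224450 F489284 F451472
theorem F525050 : act 6 n224450 = n219599 := d14_1 D224450 (iv7 D219599) (iv6 D191828) F321746 D208934
theorem F525051 : act 1 n213727 = n224450 := d15_1 F471813 (iv7 D224450) (iv2 F468571)
theorem F525052 : act 1 n224450 = n213726 := d15_1 F525051 (iv7 F525041) F525045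
def n224451 : Q := act 0 n208938
theorem D224451 : act 0 n208938 = n224451 := rfl
def n224452 : Q := act 6 n208949
theorem D224452 : act 6 n208949 = n224452 := rfl
theorem F525053 : act 2 n224452 = n224284 := d3_1 D224452 (iv6 D224284) F451523
theorem F525054 : act 3 n224452 = n224058 := d7_1 D224452 F522781 F496924
theorem F525055 : act 4 n224452 = n217055 := d10_1 D224452 F487160 F451522
theorem F525056 : act 7 n224452 = n217052 := d14_2 (iv7 F451521) D224452 (iv6 D217052) F367770 D191586
theorem F525057 : act 0 n224452 = n224263 := d21_4 (iv5 F514789) (iv1 F514792) (iv5 F451524) D224452 (iv6 D224263) (iv5 F445905) (iv1 F211802) (iv5 F437383) D223913 F521983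
theorem F525058 : act 0 n218661 = n224452 := d21_4 (iv5 D224159) (iv1 F522486) (iv5 D224005) (iv6 F495023) (iv6 D224452) F451524 (iv1 F483758) (iv5 F443166) (iv6 F446959) (iv1 F523368)
def n224453 : Q := act 7 n208953
theorem D224453 : act 7 n208953 = n224453 := rfl
theorem F525059 : act 2 n224453 = n208957 := d4_1 D224453 (iv7 D208957) (iv2 F451538)
theorem F525060 : act 3 n224453 = n216307 := d8_1 D224453 F483755 (iv3 F451539)
theorem F525061 : act 4 n224453 = n216309 := d11_1 D224453 F483768 (iv4 F451540)
theorem F525062 : act 5 n224453 = n221380 := d13_1 D224453 F508721 (iv5 F507739)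
theorem F525063 : act 6 n224453 = n223921 := d14_1 D224453 (iv7 D223921) (iv6 D205683) (iv7 F217869) D208953
theorem F525064 : act 1 n208955 = n224453 := d15_1 D208955 (iv7 D224453) F451538
theorem F525065 : act 1 n224453 = n208954 := d15_1 F525064 (iv7 F451543) (iv2 F451546)
def n224454 : Q := act 3 n209006
theorem D224454 : act 3 n209006 = n224454 := rfl
theorem F525066 : act 2 n224454 = n220185 := d0_1 D224454 F502532 F491269 F444673 F451813
theorem F525067 : act 4 n224454 = n214519 := d5_2 (iv4 F451812) D224454 (iv3 F501794) F501795 (iv3 D209029)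
theorem F525068 : act 5 n224454 = n209417 := d6_2 F451814 D224454 (iv3 D209417)
theorem F525069 : act 6 n224454 = n219546 := d7_2 F499513 D224454 (iv3 F499511)
theorem F525070 : act 7 n224454 = n223668 := d8_2 (iv7 F451811) D224454 (iv3 F520630)
theorem F525071 : act 0 n224454 = n214537 := d19_4 (iv1 F214588) F218054 (iv4 F451812) D224454 F475682 (iv4 F475660) F475658 (iv1 F288518) F288516 F135745 F135744 (iv1 F63721) D41776 D89473 D187015 F448097 (iv5 F444197) (iv4 F448093) (iv3 D208145)
theorem F525072 : act 0 n214531 = n224454 := d20_4 (iv4 F436653) F499928 F499925 F475657 (iv3 D224454) F451812 (iv1 D135597) D135598 (iv3 F387448) F451815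
def n224455 : Q := act 5 n209007
theorem D224455 : act 5 n209007 = n224455 := rfl
theorem F525073 : act 2 n224455 = n223698 := d2_1 D224455 F520792 (iv2 F451817)
theorem F525074 : act 3 n224455 = n209008 := d6_1 D224455 (iv5 D209008) D209007
theorem F525075 : act 4 n224455 = n217262 := d9_1 D224455 (iv5 D217262) F369002 (iv5 F385926) (iv4 F500363) F500364 F432807 D204532 (iv4 F432813) (iv5 D204128) F356536 F137107 (iv4 F157700) D194030 (iv4 F451818)
theorem F525076 : act 7 n224455 = n209712 := d13_2 (iv7 F451819) D224455 F454714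
theorem F525077 : act 0 n224455 = n223697 := d17_2 (iv1 F451822) D224455 F520786 F491215 (iv5 D202665) (iv0 F424340) (iv5 F372456) (iv0 F372728) F432812
theorem F525078 : act 1 n224455 = n220447 := d17_6 (iv1 F504594) (iv5 D220606) (iv1 D194028) D194030 (iv4 F451818) D224455 F503828 F518252 F518249
def n224456 : Q := act 6 n209008
theorem D224456 : act 6 n209008 = n224456 := rfl
theorem F525079 : act 2 n224456 = n223322 := d3_1 D224456 F518850 (iv2 F451823)
theorem F525080 : act 4 n224456 = n209420 := d10_1 D224456 (iv6 D209420) (iv4 F451825)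
theorem F525081 : act 5 n224456 = n220007 := d12_1 D224456 (iv6 F523463) F523462 F448351 D209008
theorem F525082 : act 7 n224456 = n223323 := d14_2 (iv7 F451824) D224456 (iv6 F518853) (iv7 D207397) F352113
theorem F525083 : act 0 n224456 = n220016 := d21_4 F451814 (iv1 D209006) D209008 D224456 (iv6 F501667) (iv5 D210587) (iv1 D139417) D139418 F453609 (iv1 D209416)
theorem F525084 : act 0 n217989 = n224456 := d21_4 F432500 (iv1 F356482) (iv5 F372918) (iv6 F491572) (iv6 D224456) (iv5 D209008) F339351 D212636 F466812 (iv1 F432502)
def n224457 : Q := act 3 n209014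
theorem D224457 : act 3 n209014 = n224457 := rfl
theorem F525085 : act 2 n224457 = n217292 := d0_1 D224457 F488309 (iv2 F486847) (iv3 F521252) F521251
theorem F525086 : act 4 n224457 = n214104 := d5_2 (iv4 F517306) D224457 F473494 (iv4 F482099) F517305
theorem F525087 : act 5 n224457 = n219556 := d6_2 F520073 D224457 (iv3 F520071)
theorem F525088 : act 6 n224457 = n209366 := d7_2 (iv6 F451848) D224457 (iv3 D209366)
theorem F525089 : act 7 n224457 = n217287 := d8_2 F451849 D224457 F488290
theorem F525090 : act 0 n224457 = n217291 := d20_4 (iv4 F422782) D223024 (iv4 F517306) D224457 (iv3 F488308) F483574 (iv1 D193291) F156255 (iv3 F156253) D193283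
theorem F525091 : act 0 n217290 = n224457 := d20_4 F275953 (iv1 F354150) (iv4 F455438) (iv3 F488305) (iv3 D224457) F517306 (iv1 F517304) (iv4 D220283) (iv3 F389397) (iv1 F354161)
def n224458 : Q := act 5 n209022
theorem D224458 : act 5 n209022 = n224458 := rfl
theorem F525092 : act 2 n224458 = n222743 := d2_1 D224458 F515849 (iv2 F451888)
theorem F525093 : act 3 n224458 = n223779 := d6_1 D224458 F521227 F501718
theorem F525094 : act 6 n224458 = n221865 := d12_2 F509176 D224458 (iv5 D221865) (iv6 F411943) (iv5 F509172)
theorem F525095 : act 7 n224458 = n222744 := d13_2 (iv7 F451889) D224458 F515853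
theorem F525096 : act 4 n224458 = n224069 := d16_2 D209022 D224458 (iv5 D224069) F441426 F396543 (iv4 F362906) D195163 F396045 F365923
theorem F525097 : act 0 n224458 = n222746 := d17_2 F511746 D224458 F515858 F418445 F176816 F161466 D195119 (iv0 F420104) (iv4 F511744)
theorem F525098 : act 1 n224458 = n220976 := d17_6 (iv1 D195165) (iv5 D105343) F362884 D135591 D209022 D224458 (iv5 D220976) (iv0 F410876) F410875
def n224459 : Q := act 5 n209032
theorem D224459 : act 5 n209032 = n224459 := rfl
theorem F525099 : act 2 n224459 = n220993 := d2_1 D224459 (iv5 D220993) (iv2 F451925)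
theorem F525100 : act 3 n224459 = n216695 := d6_1 D224459 (iv5 F485507) (iv3 F451926)
theorem F525101 : act 4 n224459 = n223252 := d9_1 D224459 F518438 F424600 F332417 (iv4 F426261) F426260 F395927 D209794 F454979 (iv5 D139944) F101422 D65709 D139967 F334968 (iv4 F451927)
theorem F525102 : act 6 n224459 = n214585 := d12_2 D209032 D224459 (iv5 D214585) (iv6 F451924) (iv5 D209031)
theorem F525103 : act 7 n224459 = n220992 := d13_2 (iv7 F451928) D224459 (iv5 D220992)
theorem F525104 : act 0 n224459 = n210397 := d17_2 F454799 D224459 (iv5 F466608) (iv4 D212596) (iv5 D147959) (iv0 F339598) D203162 F465079 F465076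
theorem F525105 : act 1 n224459 = n216437 := d17_6 (iv1 F396360) (iv5 F396362) (iv1 F334967) F334968 (iv4 F451927) D224459 (iv5 F492743) F492745 (iv4 D195232)
def n224460 : Q := act 7 n209046
theorem D224460 : act 7 n209046 = n224460 := rfl
theorem F525106 : act 2 n224460 = n221680 := d4_1 D224460 F510264 F508300
theorem F525107 : act 3 n224460 = n209048 := d8_1 D224460 (iv7 D209048) (iv3 F452005)
theorem F525108 : act 4 n224460 = n214509 := d11_1 D224460 (iv7 F475535) (iv4 F452006)
theorem F525109 : act 5 n224460 = n209047 := d13_1 D224460 (iv7 D209047) D209046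
theorem F525110 : act 6 n224460 = n214508 := d14_1 D224460 F475526 F468292 (iv7 F468390) (iv6 F468392)
theorem F525111 : act 1 n212283 = n224460 := d15_1 (iv0 F508305) (iv7 D224460) (iv2 F508300)
theorem F525112 : act 1 n224460 = n212004 := d15_1 F525111 F463886 (iv2 F465131)
def n224461 : Q := act 6 n209056
theorem D224461 : act 6 n209056 = n224461 := rfl
theorem F525113 : act 5 n224461 = n218589 := d12_1 D224461 (iv6 F494639) (iv5 D200908) (iv6 F359194) D209056
theorem F525114 : act 0 n224461 = n218086 := d21_10 (iv5 D218086) (iv1 F491464) (iv5 F524140) (iv6 D224294) (iv1 F446831) (iv6 F218149) (iv5 D135654) D135652 D209056 D224461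
def n224462 : Q := act 5 n209057
theorem D224462 : act 5 n209057 = n224462 := rfl
theorem F525115 : act 2 n224462 = n224311 := d2_1 D224462 F524248 F523392
theorem F525116 : act 3 n224462 = n209058 := d6_1 D224462 (iv5 D209058) D209057
theorem F525117 : act 6 n224462 = n224296 := d12_2 F466908 D224462 (iv5 D224296) F475431 F475428
theorem F525118 : act 4 n224462 = n222580 := d16_2 F503607 D224462 (iv5 D222580) F415603 F469447 (iv4 F469446) (iv5 D210228) D210229 (iv2 F503606)
def n224463 : Q := act 6 n209061
theorem D224463 : act 6 n209061 = n224463 := rfl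
theorem F525119 : act 5 n224463 = n222062 := d12_1 D224463 F512157 (iv5 D217631) D217632 F489867
def n224464 : Q := act 0 n209091
theorem D224464 : act 0 n209091 = n224464 := rfl
theorem F525120 : act 5 n224464 = n216605 := d17_1 D224464 F504719 (iv5 F519633) F519634 F433539 F482508 F502988 F502985 (iv4 F452210)
theorem F525121 : act 4 n224464 = n223567 := d18_3 F448998 (iv4 F452210) D224464 (iv5 D223567) D223566 F520136 (iv4 F458188) (iv0 F458191) F449160
theorem F525122 : act 3 n224464 = n213944 := d20_5 (iv4 F406588) (iv1 D140418) D140419 (iv3 F452209) D224464 F472839 (iv1 F246204) D202481 (iv3 F472798) (iv1 F472800)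
theorem F525123 : act 6 n224464 = n215857 := d21_5 (iv5 F167239) D197422 F404202 D209091 D224464 (iv5 D215857) D215853 F481793 (iv6 D213871) F360780
theorem F525124 : act 2 n213847 = n224464 := d15_3 (iv0 D224464) (iv0 F452212) (iv7 F472376)
theorem F525125 : act 1 n213947 = n224464 := d15_0 (iv0 D224464) F452211 (iv2 F482118)
theorem F525126 : act 7 n224464 = n213948 := d15_2 D213947 F525125 (iv2 D213948)
def n224465 : Q := act 4 n209107
theorem D224465 : act 4 n209107 = n224465 := rfl
theorem F525127 : act 2 n224465 = n222737 := d1_1 D224465 F515823 F452287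
theorem F525128 : act 3 n224465 = n219532 := d5_1 D224465 F499302 (iv3 F439305) D207119 (iv3 F452286)
theorem F525129 : act 5 n224465 = n224265 := d9_2 F508602 D224465 F523978 (iv5 F496814) F496813 (iv5 F436884) F436883 (iv5 F437530) (iv4 F522105) F522106 F515866 (iv5 F495088) F495087 (iv5 F515605) F515604
theorem F525130 : act 6 n224465 = n212657 := d10_2 F452290 D224465 (iv4 F466914)
theorem F525131 : act 7 n224465 = n222755 := d11_2 (iv7 F452289) D224465 F515904
theorem F525132 : act 0 n224465 = n222268 := d17_0 F513263 F497135 (iv5 F475366) F475365 F251301 F164574 D196214 F452288 D224465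
theorem F525133 : act 1 n224465 = n222269 := d18_6 F475509 F475508 F515608 F515604 F508602 D224465 (iv4 D222269) (iv0 F418797) F418796
def n224466 : Q := act 2 n209119
theorem D224466 : act 2 n209119 = n224466 := rfl
theorem F525134 : act 3 n224466 = n219663 := d0_2 D209119 D224466 F499919 F387448 (iv2 F218381)
theorem F525135 : act 4 n224466 = n212025 := d1_2 (iv4 F452348) D224466 F464000
theorem F525136 : act 6 n224466 = n213039 := d3_2 (iv6 F452349) D224466 F468725
theorem F525137 : act 7 n224466 = n212024 := d4_2 F518809 D224466 (iv2 F518806)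
theorem F525138 : act 1 n224466 = n220040 := d15_0 (iv0 F518810) F518809 D224466
theorem F525139 : act 1 n222848 = n224466 := d15_0 F525138 (iv7 F501800) (iv2 F516405)
def n224467 : Q := act 6 n209120
theorem D224467 : act 6 n209120 = n224467 := rfl
theorem F525140 : act 2 n224467 = n218394 := d3_1 D224467 (iv6 F493669) (iv2 F452352)
theorem F525141 : act 4 n224467 = n220434 := d10_1 D224467 (iv6 D220434) (iv4 F452353)
theorem F525142 : act 5 n224467 = n218392 := d12_1 D224467 (iv6 F524887) F524883 F452339 D209120
def n224468 : Q := act 5 n209135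
theorem D224468 : act 5 n209135 = n224468 := rfl
theorem F525143 : act 3 n224468 = n209136 := d6_1 D224468 (iv5 D209136) D209135
theorem F525144 : act 4 n224468 = n221876 := d9_1 D224468 (iv5 D221876) (iv4 F472397) (iv5 F520500) F520499 F498444 F523390 (iv5 F524248) F524247 (iv5 D222600) (iv4 F472879) F472880 (iv4 F480679) F480680 F456643
theorem F525145 : act 6 n224468 = n209606 := d12_2 (iv6 F452419) D224468 (iv5 D209606) D209607 F454319
theorem F525146 : act 7 n224468 = n224462 := d13_2 (iv7 F452420) D224468 (iv5 D224462)
def n224469 : Q := act 6 n209136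
theorem D224469 : act 6 n209136 = n224469 := rfl
theorem F525147 : act 2 n224469 = n224461 := d3_1 D224469 (iv6 D224461) (iv2 F452422)
theorem F525148 : act 3 n224469 = n209606 := d7_1 D224469 (iv6 F525145) F525143
theorem F525149 : act 4 n224469 = n224322 := d10_1 D224469 F524312 F482006
theorem F525150 : act 5 n224469 = n209605 := d12_1 D224469 (iv6 F454314) (iv5 D146846) (iv6 F336466) D209136
theorem F525151 : act 0 n224469 = n219607 := d21_10 (iv5 D219607) (iv1 F485932) (iv5 F523384) (iv6 D224163) (iv1 D206956) (iv6 F218510) (iv5 D135851) D135849 D209136 D224469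
theorem F525152 : act 1 n224469 = n216793 := d15_1 (iv0 F525151) (iv7 F492098) (iv2 F499656)
def n224470 : Q := act 3 n209141
theorem D224470 : act 3 n209141 = n224470 := rfl
theorem F525153 : act 4 n224470 = n222607 := d5_2 F477805 D224470 (iv3 D222607) (iv4 F515096) F515097
theorem F525154 : act 7 n224470 = n224326 := d8_2 F468976 D224470 F524335
theorem F525155 : act 0 n224470 = n224093 := d19_4 F353519 D214997 F477805 D224470 (iv5 D224093) (iv4 F474827) F474826 F503610 F504751 (iv4 F504750) (iv3 D204237) (iv1 F198432) D204607 F432998 F406100 (iv1 F459684) F459681 (iv4 F408347) F408346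
theorem F525156 : act 6 n209612 = n224470 := d21_3 (iv5 D220166) (iv1 F502429) F502427 F525155 F522986 (iv5 D206960) D206959 D224166 (iv6 F524020) F524022
def n224471 : Q := act 6 n209141
theorem D224471 : act 6 n209141 = n224471 := rfl
theorem F525157 : act 2 n224471 = n224463 := d3_1 D224471 (iv6 D224463) (iv2 F468977)
theorem F525158 : act 3 n224471 = n209612 := d7_1 D224471 F525156 (iv3 D224470)
theorem F525159 : act 4 n224471 = n224332 := d10_1 D224471 F524372 F477805
def n224472 : Q := act 2 n209151
theorem D224472 : act 2 n209151 = n224472 := rfl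
theorem F525160 : act 3 n224472 = n209455 := d0_2 D209151 D224472 (iv2 D209455) (iv3 D136494) F218577
theorem F525161 : act 4 n224472 = n210400 := d1_2 (iv4 F452473) D224472 (iv2 D210400)
theorem F525162 : act 5 n224472 = n223256 := d2_2 F499400 D224472 F518464
theorem F525163 : act 6 n224472 = n209269 := d3_2 (iv6 F452474) D224472 (iv2 D209269)
theorem F525164 : act 7 n224472 = n209459 := d4_2 (iv7 F452475) D224472 (iv2 D209459)
theorem F525165 : act 1 n224472 = n209430 := d15_0 (iv0 F453672) (iv7 F452475) D224472
theorem F525166 : act 1 n209458 = n224472 := d15_0 F525165 F453671 (iv2 F493550)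
def n224473 : Q := act 2 n209153
theorem D224473 : act 2 n209153 = n224473 := rfl
theorem F525167 : act 3 n224473 = n209459 := d0_2 D209153 D224473 (iv2 D209459) (iv3 D136496) F218575
theorem F525168 : act 4 n224473 = n221699 := d1_2 (iv4 F452482) D224473 (iv2 D221699)
theorem F525169 : act 7 n224473 = n209455 := d4_2 (iv7 F452483) D224473 (iv2 D209455)
theorem F525170 : act 1 n224473 = n209454 := d15_0 (iv0 D209454) (iv7 F452483) D224473
theorem F525171 : act 1 n209429 = n224473 := d15_0 F525170 F494722 (iv2 F453667)
theorem F525172 : act 6 n220250 = n224473 := d14_5 F525169 F453774 (iv7 F362214) D193225 D220250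
def n224474 : Q := act 6 n209153
theorem D224474 : act 6 n209153 = n224474 := rfl
theorem F525173 : act 2 n224474 = n220250 := d3_1 D224474 F525172 (iv2 D224473)
theorem F525174 : act 3 n224474 = n209155 := d7_1 D224474 (iv6 D209155) D209153
theorem F525175 : act 4 n224474 = n221676 := d10_1 D224474 F510239 (iv4 F452482)
theorem F525176 : act 5 n224474 = n209252 := d12_1 D224474 F524410 F524407 F494705 (iv5 F494704)
theorem F525177 : act 7 n224474 = n209268 := d14_2 (iv7 F452483) D224474 (iv6 D209268) F218995 (iv6 F219607)
theorem F525178 : act 0 n224474 = n220249 := d21_10 F502856 F411809 (iv5 F452900) (iv6 F462405) (iv1 F462408) F453466 F389175 D218602 (iv5 F494704) D224474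
theorem F525179 : act 0 n210038 = n224474 := d21_4 F469714 (iv1 F388759) F351625 D210038 (iv6 D224474) F494704 (iv1 F494701) (iv5 D209727) F389168 (iv1 F469712)
def n224475 : Q := act 4 n209154
theorem D224475 : act 4 n209154 = n224475 := rfl
theorem F525180 : act 2 n224475 = n209462 := d1_1 D224475 (iv4 D209462) (iv2 F452484)
theorem F525181 : act 3 n224475 = n221665 := d5_1 D224475 (iv4 D221665) (iv3 F510166) (iv4 F510170) (iv3 F494703)
theorem F525182 : act 5 n224475 = n219254 := d9_2 D209154 D224475 F497957 F408861 (iv4 F434932) (iv5 D205087) (iv4 F218578) D209152 (iv4 F512274) (iv5 F512451) (iv4 D222120) F407982 F407762 F203111 (iv4 F218574)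
theorem F525183 : act 6 n224475 = n218362 := d10_2 (iv6 F452488) D224475 (iv4 D218362)
theorem F525184 : act 7 n224475 = n209457 := d11_2 (iv7 F452485) D224475 (iv4 D209457)
theorem F525185 : act 0 n224475 = n222182 := d17_0 (iv5 D222182) (iv1 F418454) (iv5 F453794) (iv4 D209465) F219613 F218703 D136818 (iv0 F452486) D224475
theorem F525186 : act 1 n224475 = n222180 := d18_6 (iv1 F218610) F218607 (iv1 F167121) (iv4 F218574) D209154 D224475 F512757 (iv0 F408416) (iv5 D136503)
def n224476 : Q := act 6 n209159
theorem D224476 : act 6 n209159 = n224476 := rfl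
theorem F525187 : act 2 n224476 = n209515 := d3_1 D224476 (iv6 D209515) (iv2 F452513)
theorem F525188 : act 5 n224476 = n209273 := d12_1 D224476 (iv6 D209273) (iv5 D136097) (iv6 F391939) D209159
theorem F525189 : act 7 n224476 = n209619 := d14_2 (iv7 F452514) D224476 (iv6 F454354) F387278 F362507
theorem F525190 : act 0 n224476 = n209192 := d21_4 (iv5 D136581) (iv1 F218597) D209159 D224476 F452651 (iv5 D199045) F410420 F410418 (iv6 F452531) (iv1 F452528)
theorem F525191 : act 0 n209620 = n224476 := d21_4 (iv5 F493672) (iv1 F501753) (iv5 D220032) (iv6 F454365) (iv6 D224476) (iv5 D209159) (iv1 D135894) D135896 D209165 (iv1 F452548)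
def n224477 : Q := act 5 n209161
theorem D224477 : act 5 n209161 = n224477 := rfl
theorem F525192 : act 2 n224477 = n209167 := d2_1 D224477 (iv5 D209167) (iv2 F452524)
theorem F525193 : act 3 n224477 = n209501 := d6_1 D224477 (iv5 D209501) (iv3 F452525)
theorem F525194 : act 6 n224477 = n212348 := d12_2 D209161 D224477 (iv5 F465421) F459895 (iv5 D209160)
theorem F525195 : act 4 n224477 = n222933 := d16_2 (iv4 F452526) D224477 F521885 F521883 (iv5 F524424) (iv4 F524428) F510771 (iv7 D197327) (iv2 F403969)
theorem F525196 : act 1 n224477 = n222893 := d17_8 D222891 F516614 (iv1 F451503) D224005 F522484 (iv5 D210195) (iv0 F452527) D224477 (iv4 D222893)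
theorem F525197 : act 0 n224477 = n222895 := d18_0 (iv4 D222895) (iv1 D201647) (iv4 F421137) (iv5 F457687) (iv4 F464134) (iv0 F464136) F456515 (iv0 F452527) D224477
def n224478 : Q := act 4 n209163
theorem D224478 : act 4 n209163 = n224478 := rfl
theorem F525198 : act 2 n224478 = n209525 := d1_1 D224478 (iv4 D209525) (iv2 F452539)
theorem F525199 : act 3 n224478 = n213763 := d5_1 D224478 F471976 (iv3 F466597) D223468 F519609
theorem F525200 : act 5 n224478 = n211469 := d9_2 (iv5 F452537) D224478 F461673 (iv5 F401179) (iv4 F416407) (iv5 F514708) F514707 (iv5 F452529) (iv4 F452530) F420507 (iv4 F505788) (iv5 D220833) (iv4 F404065) (iv5 F472612) F472614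
theorem F525201 : act 6 n224478 = n212634 := d10_2 F452538 D224478 F466800
theorem F525202 : act 7 n224478 = n209527 := d11_2 (iv7 F452536) D224478 (iv4 D209527)
theorem F525203 : act 0 n224478 = n210470 := d17_0 F457674 F496449 F496447 F467873 F444895 (iv0 D135893) D135896 D209163 D224478
theorem F525204 : act 1 n224478 = n217533 := d18_6 (iv1 F500180) F500177 F473305 F472614 (iv5 F452537) D224478 (iv4 F520702) F520699 F453694
def n224479 : Q := act 4 n209166
theorem D224479 : act 4 n209166 = n224479 := rfl
theorem F525205 : act 3 n224479 = n221809 := d5_1 D224479 F510902 (iv3 F509195) (iv4 F509193) F504369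
theorem F525206 : act 7 n224479 = n210194 := d11_2 (iv7 F452549) D224479 F456515
theorem F525207 : act 0 n224479 = n210461 := d20_1 D224479 F457641 F222287 D139107 (iv3 F363444) (iv4 F389254) D220252 F502865 (iv3 F500393) (iv1 F500395)
def n224480 : Q := act 5 n209166
theorem D224480 : act 5 n209166 = n224480 := rfl
theorem F525208 : act 2 n224480 = n217015 := d2_1 D224480 (iv5 F500398) F500396
theorem F525209 : act 3 n224480 = n212103 := d6_1 D224480 (iv5 F504370) F504369
theorem F525210 : act 6 n224480 = n219604 := d12_2 F504434 D224480 (iv5 F501288) F501289 (iv5 F504433)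
theorem F525211 : act 7 n224480 = n210195 := d13_2 (iv7 F452549) D224480 (iv5 D210195)
theorem F525212 : act 0 n224480 = n209676 := d17_2 (iv1 F500395) D224480 (iv5 D209676) (iv4 F415479) D222566 (iv0 F514957) (iv5 D221772) F510748 F510747
theorem F525213 : act 1 n224480 = n212428 := d17_8 (iv1 F523458) F523271 (iv1 D224086) D224087 F522958 (iv5 D209167) D209166 D224480 (iv4 F523455)
theorem F525214 : act 4 n224480 = n212109 := d19_2 (iv1 F500395) D224480 (iv3 D212109) D212108 F464352 (iv4 D200965) F366363 D200848 (iv5 F435631) (iv4 F440810) F440809 (iv1 F430504) F350090 F350091 (iv3 F405520) F411984 (iv5 F502864) F502865 (iv3 F500393)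
def n224481 : Q := act 1 n209167
theorem D224481 : act 1 n209167 = n224481 := rfl
theorem F525215 : act 7 n224481 = n222895 := d15_2 (iv0 F493387) D224481 F516636
theorem F525216 : act 5 n224481 = n222186 := d17_7 F507157 F510764 (iv1 D221773) (iv5 D197326) (iv4 F218602) D209167 D224481 (iv0 F512787) (iv4 F507154)
theorem F525217 : act 4 n224481 = n222892 := d17_9 F516623 F450459 F450461 (iv5 F486994) F486991 (iv5 F385897) (iv0 F390419) D209167 D224481
theorem F525218 : act 2 n222893 = n224481 := d1_3 F525217 (iv2 D222892) D222893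
def n224482 : Q := act 3 n209175
theorem D224482 : act 3 n209175 = n224482 := rfl
theorem F525219 : act 2 n224482 = n209564 := d0_1 D224482 F514495 F514497 F450210 F452588
theorem F525220 : act 4 n224482 = n209435 := d5_2 (iv4 F452586) D224482 (iv3 F453701) (iv4 F404913) (iv3 F405358)
theorem F525221 : act 5 n224482 = n215633 := d6_2 (iv5 F452587) D224482 F480866
theorem F525222 : act 6 n224482 = n222801 := d7_2 F518899 D224482 (iv3 F518897)
theorem F525223 : act 7 n224482 = n209502 := d8_2 (iv7 F452590) D224482 (iv3 D209502)
theorem F525224 : act 0 n224482 = n209552 := d19_4 (iv1 F388999) (iv5 F405359) (iv4 F452586) D224482 (iv5 D209552) (iv4 F316895) (iv3 D85676) F60464 (iv5 F87826) (iv4 D55538) (iv3 F87822) D120599 F307112 (iv4 F314454) (iv3 F111792) F312132 (iv5 F310575) D74376 (iv3 F217000)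
theorem F525225 : act 0 n209563 = n224482 := d20_4 (iv4 F420919) (iv1 D201550) (iv4 F420916) (iv3 F454149) (iv3 D224482) F452586 (iv1 F405362) (iv4 F491705) F491704 F453658
def n224483 : Q := act 1 n209178
theorem D224483 : act 1 n209178 = n224483 := rfl
theorem F525226 : act 1 n224483 = n209547 := d15_1 D224483 (iv7 D209547) (iv2 F452601)
theorem F525227 : act 7 n224483 = n209544 := d15_2 F460700 D224483 (iv2 F460696)
theorem F525228 : act 5 n224483 = n209598 := d17_7 (iv1 D115068) D115070 D201808 F421855 F396486 D209178 D224483 (iv0 F454286) (iv4 D201805)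
theorem F525229 : act 3 n223453 = n224483 := d19_19 (iv1 D224483) (iv5 D209178) (iv4 F396486) (iv3 F506786) F506790 (iv5 F490741) (iv4 F501490) (iv3 D219979) (iv1 F387111) (iv5 F387276) F490459 F490460 F483435 D218001 (iv4 F504854) F504853 F458203 (iv5 F475214) (iv4 F519528)
theorem F525230 : act 2 n224483 = n209545 := d0_1 F525229 (iv3 F460726) F460725 F475219 F519529
theorem F525231 : act 6 n216457 = n224483 := d3_0 F525230 (iv6 F467194) F484469
def n224484 : Q := act 4 n209178
theorem D224484 : act 4 n209178 = n224484 := rfl
theorem F525232 : act 2 n224484 = n209546 := d1_1 D224484 (iv4 D209546) (iv2 F452601)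
theorem F525233 : act 3 n224484 = n209180 := d5_1 D224484 (iv4 D209180) (iv3 F338919) F384919 (iv3 F452602)
theorem F525234 : act 6 n224484 = n209180 := d10_2 (iv6 F452603) D224484 (iv4 D209180)
theorem F525235 : act 1 n224484 = n222874 := d18_6 (iv1 F388537) (iv4 F421641) (iv1 F421644) F396486 D209178 D224484 (iv4 D222874) (iv0 F502409) (iv5 D220156)
def n224485 : Q := act 7 n209178
theorem D224485 : act 7 n209178 = n224485 := rfl
theorem F525236 : act 2 n224485 = n209547 := d4_1 D224485 (iv7 D209547) (iv2 F452601)
theorem F525237 : act 3 n224485 = n213597 := d8_1 D224485 (iv7 F471223) (iv3 F452602)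
theorem F525238 : act 5 n224485 = n209179 := d13_1 D224485 (iv7 D209179) D209178
theorem F525239 : act 6 n224485 = n223454 := d14_1 D224485 F519532 (iv6 D209853) F220146 (iv6 F452603)
theorem F525240 : act 1 n209545 = n224485 := d15_1 D209545 (iv7 D224485) F452601
theorem F525241 : act 1 n224485 = n209544 := d15_1 F525240 (iv7 F525227) F525230
def n224486 : Q := act 0 n209187
theorem D224486 : act 0 n209187 = n224486 := rfl
theorem F525242 : act 5 n224486 = n224433 := d17_3 F481865 (iv5 F452635) D224486 F524942 F451135 F427893 F198921 D177999 D215868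
theorem F525243 : act 3 n224486 = n209867 := d20_5 F423677 F373306 D194439 (iv3 F452633) D224486 F455199 (iv1 F438472) (iv4 F472475) (iv3 F505136) (iv1 F505138)
theorem F525244 : act 2 n213804 = n224486 := d15_3 (iv0 D224486) (iv0 F452636) (iv7 F472166)
theorem F525245 : act 1 n223014 = n224486 := d15_0 (iv0 D224486) (iv7 F505024) (iv2 F517257)
theorem F525246 : act 7 n224486 = n209870 := d15_2 D223014 F525245 F455208
theorem F525247 : act 6 n223787 = n224486 := d14_5 F525246 F455209 F422730 (iv6 F481733) (iv7 F521272)
def n224487 : Q := act 2 n209192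
theorem D224487 : act 2 n209192 = n224487 := rfl
theorem F525248 : act 3 n224487 = n209614 := d0_2 D209192 D224487 (iv2 D209614) (iv3 D136686) (iv2 F359152)
theorem F525249 : act 4 n224487 = n213122 := d1_2 F516322 D224487 (iv2 F516318)
theorem F525250 : act 5 n224487 = n217045 := d2_2 F484135 D224487 (iv2 F487121)
theorem F525251 : act 6 n224487 = n222281 := d3_2 (iv6 F452651) D224487 F513329
theorem F525252 : act 7 n224487 = n209620 := d4_2 (iv7 F452652) D224487 (iv2 D209620)
theorem F525253 : act 1 n224487 = n209515 := d15_0 F454353 (iv7 F452652) D224487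
theorem F525254 : act 1 n209619 = n224487 := d15_0 F525253 F453987 (iv2 F454355)
def n224488 : Q := act 5 n209208
theorem D224488 : act 5 n209208 = n224488 := rfl
theorem F525255 : act 2 n224488 = n209210 := d2_1 D224488 (iv5 D209210) (iv2 F452721)
theorem F525256 : act 3 n224488 = n209743 := d6_1 D224488 (iv5 D209743) (iv3 F452722)
theorem F525257 : act 4 n224488 = n221769 := d9_1 D224488 (iv5 D221769) (iv4 F415991) (iv5 F486612) (iv4 F510069) F510070 F402245 D220433 (iv4 F519270) (iv5 D223398) (iv4 F472050) (iv5 F497797) (iv4 F510047) (iv5 D221640) (iv4 F452723)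
theorem F525258 : act 6 n224488 = n221774 := d12_2 D209208 D224488 (iv5 F510769) (iv6 D208342) F330974
theorem F525259 : act 1 n224488 = n216047 := d17_6 (iv1 D222340) F463178 F510048 (iv5 D221640) (iv4 F452723) D224488 F482656 (iv0 F517587) F517584
def n224489 : Q := act 5 n209209
theorem D224489 : act 5 n209209 = n224489 := rfl
theorem F525260 : act 2 n224489 = n216191 := d2_1 D224489 (iv5 F502735) F502733
theorem F525261 : act 3 n224489 = n223704 := d6_1 D224489 F520818 F502993
theorem F525262 : act 6 n224489 = n223703 := d12_2 (iv6 F453438) D224489 F520814 F458147 (iv5 D209372)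
theorem F525263 : act 7 n224489 = n216179 := d13_2 F502553 D224489 (iv5 F502552)
theorem F525264 : act 0 n224489 = n216190 := d18_0 F507383 F510815 (iv4 F510808) F486876 F424529 F510056 F510053 F502728 D224489
theorem F525265 : act 0 n209412 = n224489 := d21_7 (iv5 F453730) (iv1 F453734) F412018 D205091 F452600 D223087 F517585 (iv5 D224489) F453438 (iv1 F389358)
def n224490 : Q := act 0 n209210
theorem D224490 : act 0 n209210 = n224490 := rfl
theorem F525266 : act 4 n224490 = n222574 := d18_3 F515255 F515254 D224490 (iv5 D222574) F440653 (iv0 D198647) (iv4 F396793) F463145 (iv5 F510820)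
theorem F525267 : act 6 n224490 = n223227 := d21_5 F483342 (iv1 D210058) D210059 F455982 D224490 F518312 (iv1 F493608) (iv5 F524464) F524465 F520212
theorem F525268 : act 3 n216048 = n224490 := d7_3 F525267 (iv3 D223227) (iv6 F482658)
theorem F525269 : act 7 n216047 = n224490 := d14_0 F525267 F518313 F458172 F429590 D216047
def n224491 : Q := act 3 n209211
theorem D224491 : act 3 n209211 = n224491 := rfl
theorem F525270 : act 2 n224491 = n217322 := d0_1 D224491 (iv3 D217322) (iv2 F387442) F387443 (iv2 F452725)
theorem F525271 : act 4 n224491 = n221878 := d5_2 D209211 D224491 (iv3 F515252) F515254 F452724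
theorem F525272 : act 5 n224491 = n223315 := d6_2 (iv5 F452726) D224491 F518807
theorem F525273 : act 6 n224491 = n223814 := d7_2 F456005 D224491 F521428
theorem F525274 : act 7 n224491 = n223403 := d8_2 (iv7 F452727) D224491 F519279
theorem F525275 : act 0 n224491 = n210811 := d19_4 F328965 D135956 D209211 D224491 F458871 F387587 (iv3 F374232) F440110 F440109 F206228 (iv3 F206162) (iv1 F206164) D149220 (iv4 F278193) F479566 (iv1 D215360) F303577 (iv4 F275953) F357916
theorem F525276 : act 0 n222863 = n224491 := d20_4 (iv4 F475660) (iv1 F485187) (iv4 F491345) (iv3 F516472) (iv3 D224491) (iv4 D209211) (iv1 F451841) (iv4 F451842) (iv3 D191735) D191733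
def n224492 : Q := act 5 n209212
theorem D224492 : act 5 n209212 = n224492 := rfl
theorem F525277 : act 2 n224492 = n209214 := d2_1 D224492 (iv5 D209214) (iv2 F452729)
theorem F525278 : act 3 n224492 = n223844 := d6_1 D224492 F521597 F490116
theorem F525279 : act 4 n224492 = n209918 := d9_1 D224492 (iv5 D209918) (iv4 D137086) (iv5 D64441) F48772 D30359 D64480 D137170 D209955 (iv5 F483123) F483121 (iv5 F331273) F218667 D135964 D209212
theorem F525280 : act 6 n224492 = n210100 := d12_2 F522794 D224492 (iv5 D210100) (iv6 F441120) (iv5 F522793)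
theorem F525281 : act 7 n224492 = n209949 := d13_2 (iv7 F452730) D224492 (iv5 D209949)
theorem F525282 : act 0 n224492 = n209954 := d17_2 (iv1 F452732) D224492 F455515 (iv4 D194068) (iv5 F361813) F454583 F454579 F418043 (iv4 F383838)
theorem F525283 : act 1 n224492 = n209953 := d17_6 F220918 (iv5 D64469) (iv1 F99443) D135964 D209212 D224492 F455511 F391962 (iv4 D136040)
def n224493 : Q := act 4 n209214
theorem D224493 : act 4 n209214 = n224493 := rfl
theorem F525284 : act 2 n224493 = n209918 := d1_1 D224493 (iv4 F525279) F525277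
theorem F525285 : act 3 n224493 = n222660 := d5_1 D224493 F515425 (iv3 F437158) (iv4 F521694) F521693
theorem F525286 : act 5 n224493 = n209910 := d9_2 D209214 D224493 (iv4 D209910) (iv5 D137082) F100361 D64476 D137152 D209949 (iv4 F522728) (iv5 D224048) (iv4 D206392) F206772 F99425 D63929 D135968
theorem F525287 : act 6 n224493 = n222659 := d10_2 F455486 D224493 F515421
theorem F525288 : act 7 n224493 = n209955 := d11_2 (iv7 F452738) D224493 (iv4 D209955)
theorem F525289 : act 0 n224493 = n223863 := d17_0 F521710 (iv1 D210083) D210084 (iv4 F521616) F521615 F452963 (iv5 F416983) (iv0 F452739) D224493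
def n224494 : Q := act 6 n209216
theorem D224494 : act 6 n209216 = n224494 := rfl
theorem F525290 : act 2 n224494 = n209795 := d3_1 D224494 (iv6 D209795) (iv2 F452746)
theorem F525291 : act 3 n224494 = n213737 := d7_1 D224494 F471851 (iv3 F452747)
theorem F525292 : act 4 n224494 = n223495 := d10_1 D224494 F519748 F469248
theorem F525293 : act 5 n224494 = n213736 := d12_1 D224494 F471847 F450516 (iv6 F347100) D209216
theorem F525294 : act 7 n224494 = n223467 := d14_2 (iv7 F452748) D224494 (iv6 D223467) F428911 (iv6 F391042)
theorem F525295 : act 0 n224494 = n218033 := d21_4 F220127 (iv1 F218747) D209216 D224494 F491794 F453902 (iv1 F388542) (iv5 F502412) F502413 (iv1 F452752)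
theorem F525296 : act 0 n209810 = n224494 := d21_4 F218767 (iv1 F179683) (iv5 F220131) D209810 (iv6 D224494) (iv5 D209216) (iv1 D135977) D135978 F218749 D135985
def n224495 : Q := act 4 n209221
theorem D224495 : act 4 n209221 = n224495 := rfl
theorem F525297 : act 2 n224495 = n223494 := d1_1 D224495 F519742 (iv2 F469565)
theorem F525298 : act 6 n224495 = n213469 := d10_2 (iv6 F452768) D224495 (iv4 D213469)
theorem F525299 : act 7 n224495 = n209808 := d11_2 (iv7 F452769) D224495 (iv4 D209808)
theorem F525300 : act 0 n224495 = n223490 := d18_2 F452770 D224495 F519723 (iv5 F522686) F522685 (iv0 D223828) F434991 (iv0 F452600) F434940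
theorem F525301 : act 1 n224495 = n221188 := d18_6 F359407 F186944 (iv1 F359408) (iv4 F218760) D209221 D224495 F507651 (iv0 F428190) F386212
def n224496 : Q := act 3 n209222
theorem D224496 : act 3 n209222 = n224496 := rfl
theorem F525302 : act 2 n224496 = n209811 := d0_1 D224496 (iv3 D209811) (iv2 F423445) F423446 (iv2 F452771)
theorem F525303 : act 5 n224496 = n223062 := d6_2 (iv5 F452772) D224496 (iv3 D223062)
theorem F525304 : act 7 n224496 = n209811 := d8_2 (iv7 F452773) D224496 (iv3 D209811)
def n224497 : Q := act 2 n209226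
theorem D224497 : act 2 n209226 = n224497 := rfl
theorem F525305 : act 3 n224497 = n209829 := d0_2 D209226 D224497 (iv2 D209829) (iv3 D136999) F218774
theorem F525306 : act 5 n224497 = n209492 := d2_2 (iv5 F452788) D224497 (iv2 D209492)
theorem F525307 : act 6 n224497 = n213466 := d3_2 (iv6 F452789) D224497 F470534
theorem F525308 : act 7 n224497 = n209821 := d4_2 (iv7 F452790) D224497 (iv2 D209821)
theorem F525309 : act 1 n224497 = n209805 := d15_0 (iv0 F455013) (iv7 F452790) D224497
theorem F525310 : act 1 n209720 = n224497 := d15_0 F525309 (iv7 F524625) F524621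
def n224498 : Q := act 4 n209226
theorem D224498 : act 4 n209226 = n224498 := rfl
theorem F525311 : act 6 n224498 = n220627 := d10_2 (iv6 F452789) D224498 F504697
theorem F525312 : act 7 n224498 = n209822 := d11_2 (iv7 F452790) D224498 (iv4 D209822)
theorem F525313 : act 0 n224498 = n215817 := d17_0 (iv5 F503704) (iv1 D220422) D220423 F503708 (iv5 D209806) (iv0 F452709) (iv5 F524624) (iv0 F524627) D224498
theorem F525314 : act 1 n224498 = n223450 := d18_6 F505225 F467858 (iv1 F435079) F227007 (iv5 F452788) D224498 (iv4 D223450) D223449 F519511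
def n224499 : Q := act 3 n209227
theorem D224499 : act 3 n209227 = n224499 := rfl
theorem F525315 : act 2 n224499 = n209825 := d0_1 D224499 (iv3 D209825) (iv2 F452779) F452780 (iv2 F452791)
theorem F525316 : act 6 n224499 = n219760 := d7_2 (iv6 F452792) D224499 F500476
theorem F525317 : act 7 n224499 = n209825 := d8_2 (iv7 F452793) D224499 (iv3 D209825)
def n224500 : Q := act 3 n209229
theorem D224500 : act 3 n209229 = n224500 := rfl
theorem F525318 : act 5 n224500 = n215872 := d6_2 F472998 D224500 F481869
theorem F525319 : act 7 n224500 = n209830 := d8_2 (iv7 F452800) D224500 (iv3 D209830)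
def n224501 : Q := act 3 n209234
theorem D224501 : act 3 n209234 = n224501 := rfl
theorem F525320 : act 4 n224501 = n215863 := d5_2 D209234 D224501 F481845 F277541 (iv3 F328990)
theorem F525321 : act 5 n224501 = n223083 := d6_2 (iv5 F452816) D224501 (iv3 D223083)
theorem F525322 : act 6 n224501 = n212751 := d7_2 (iv6 F452817) D224501 F467351
theorem F525323 : act 7 n224501 = n209854 := d8_2 (iv7 F452818) D224501 (iv3 D209854)
theorem F525324 : act 0 n224501 = n223061 := d19_4 (iv1 F180437) D135990 D209234 D224501 F517486 (iv4 D215822) (iv3 F454087) (iv1 F485690) F485692 (iv4 D201805) (iv3 F421603) (iv1 F421602) D217837 F490859 D218264 (iv1 F493030) F471786 (iv4 F424274) (iv3 D202499)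
def n224502 : Q := act 2 n209252
theorem D224502 : act 2 n209252 = n224502 := rfl
theorem F525325 : act 3 n224502 = n209979 := d0_2 D209252 D224502 (iv2 D209979) (iv3 D137221) (iv2 F219005)
theorem F525326 : act 4 n224502 = n223788 := d1_2 F518151 D224502 F521281
theorem F525327 : act 5 n224502 = n220250 := d2_2 F525176 D224502 (iv2 F525173)
theorem F525328 : act 6 n224502 = n210359 := d3_2 (iv6 F524410) D224502 F524408
theorem F525329 : act 7 n224502 = n209987 := d4_2 (iv7 F452907) D224502 (iv2 D209987)
theorem F525330 : act 1 n224502 = n209716 := d15_0 (iv0 F454733) (iv7 F452907) D224502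
theorem F525331 : act 1 n209977 = n224502 := d15_0 F525330 (iv7 F511956) F511952
def n224503 : Q := act 6 n209253
theorem D224503 : act 6 n209253 = n224503 := rfl
theorem F525332 : act 2 n224503 = n209983 := d3_1 D224503 (iv6 D209983) (iv2 F452908)
theorem F525333 : act 3 n224503 = n214617 := d7_1 D224503 (iv6 D214617) (iv3 F452912)
theorem F525334 : act 4 n224503 = n209254 := d10_1 D224503 (iv6 D209254) D209253
theorem F525335 : act 5 n224503 = n222042 := d12_1 D224503 (iv6 D222042) (iv5 D198092) F365847 (iv5 F452910)
theorem F525336 : act 7 n224503 = n219670 := d14_2 (iv7 F452909) D224503 (iv6 D219670) F455652 (iv6 D209989)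
theorem F525337 : act 0 n224503 = n224032 := d21_4 (iv5 D198139) F365846 (iv5 F452910) D224503 (iv6 F522640) F473499 (iv1 F469140) F430280 (iv6 F361561) F406969
theorem F525338 : act 0 n222048 = n224503 := d21_4 F480091 (iv1 F381838) D219255 (iv6 F512081) (iv6 D224503) F452910 (iv1 F408808) (iv5 F408809) F402013 (iv1 F480094)
def n224504 : Q := act 1 n209254
theorem D224504 : act 1 n209254 = n224504 := rfl
theorem F525339 : act 1 n224504 = n209986 := d15_1 D224504 (iv7 D209986) (iv2 F452913)
theorem F525340 : act 7 n224504 = n209984 := d15_2 F455641 D224504 (iv2 F455633)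
theorem F525341 : act 5 n224504 = n222335 := d17_7 F505904 (iv5 F473903) (iv1 F473906) F493503 (iv4 D218362) (iv5 F452914) D224504 F513654 (iv4 F505900)
theorem F525342 : act 4 n224504 = n212076 := d17_9 F464244 (iv5 F401661) F505905 F505901 (iv4 F401628) (iv5 D189152) D189149 (iv5 F452914) D224504
theorem F525343 : act 3 n210347 = n224504 := d19_19 (iv1 D224504) F452914 D218362 F493501 (iv1 F505533) (iv5 D220787) (iv4 D194533) (iv3 F366335) (iv1 D103167) (iv5 D47818) D47817 F312993 F242988 D146708 (iv4 F360232) (iv3 F380377) F439590 F439587 (iv4 F457134)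
theorem F525344 : act 6 n212074 = n224504 := d21_3 (iv5 D191441) D191438 F476922 (iv1 D224504) (iv6 D209254) (iv5 F452493) F452492 (iv5 F220762) D209975 F455593
theorem F525345 : act 2 n224504 = n209985 := d3_1 F525344 F518425 F518426
def n224505 : Q := act 0 n209260
theorem D224505 : act 0 n209260 = n224505 := rfl
theorem F525346 : act 5 n224505 = n216677 := d17_1 D224505 (iv1 F498514) F498511 F410743 D199121 (iv0 F509079) F509077 (iv0 F509974) (iv4 F509972)
theorem F525347 : act 2 n209998 = n224505 := d15_3 (iv0 D224505) (iv0 F452947) (iv7 F464472)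
theorem F525348 : act 1 n209974 = n224505 := d15_0 (iv0 D224505) (iv7 F510009) F510006
theorem F525349 : act 7 n224505 = n209999 := d15_2 (iv0 F455589) F525348 F455691
theorem F525350 : act 3 n210546 = n224505 := d19_19 (iv1 F525348) F501898 F501895 (iv3 D211466) (iv1 F357610) (iv5 F357607) (iv4 D115249) F161292 (iv1 F48546) (iv5 F48858) (iv4 F100586) (iv3 F220807) (iv1 F456284) (iv5 F456298) D223141 F517853 F485442 (iv5 F517770) F517769
def n224506 : Q := act 4 n209265
theorem D224506 : act 4 n209265 = n224506 := rfl
theorem F525351 : act 2 n224506 = n210084 := d1_1 D224506 (iv4 F521616) (iv2 F521618)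
theorem F525352 : act 5 n224506 = n210076 := d9_2 D209265 D224506 (iv4 D210076) (iv5 D137490) F100547 D64654 D137538 D210097 (iv4 F522707) (iv5 D224045) (iv4 D206382) (iv5 D128526) F94996 D63967 D136040
theorem F525353 : act 7 n224506 = n210103 := d11_2 (iv7 F452964) D224506 (iv4 D210103)
theorem F525354 : act 0 n224506 = n223867 := d17_0 F521733 F493975 D224048 F522728 (iv5 D209949) (iv0 F383810) D219474 F499063 D224506
theorem F525355 : act 1 n224506 = n223868 := d18_6 F380032 (iv4 D137146) F220919 D136040 D209265 D224506 F521738 (iv0 F496646) (iv5 D219006)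
def n224507 : Q := act 0 n209266
theorem D224507 : act 0 n209266 = n224507 := rfl
theorem F525356 : act 5 n224507 = n224490 := d17_3 F503777 F503775 D224507 F525266 (iv5 D222574) (iv0 D200204) (iv5 F415500) D222572 (iv4 F514975)
theorem F525357 : act 6 n224507 = n220249 := d21_5 F453464 (iv1 D202958) (iv5 F365529) D209266 D224507 F502856 F411809 (iv5 F452900) (iv6 F462405) (iv1 F462408)
theorem F525358 : act 2 n220233 = n224507 := d15_3 (iv0 D224507) (iv0 F452967) D220233
theorem F525359 : act 1 n220231 = n224507 := d15_0 (iv0 D224507) (iv7 F517586) F517582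
theorem F525360 : act 7 n224507 = n210036 := d15_2 D220231 F525359 F455862
theorem F525361 : act 3 n222355 = n224507 := d8_3 F525360 F455863 (iv7 F513773)
def n224508 : Q := act 1 n209268
theorem D224508 : act 1 n209268 = n224508 := rfl
theorem F525362 : act 1 n224508 = n220250 := d15_1 D224508 (iv7 D220250) (iv2 F452971)
theorem F525363 : act 7 n224508 = n210038 := d15_2 (iv0 F452974) D224508 F455869
theorem F525364 : act 5 n224508 = n218383 := d17_7 F433596 (iv5 F517298) F517297 (iv5 F455648) (iv4 D209988) (iv5 F452973) D224508 F493617 F423524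
theorem F525365 : act 4 n224508 = n220095 := d17_9 F502094 (iv5 F502041) (iv1 F502045) F464405 F454716 D209716 (iv0 F454733) (iv5 F452973) D224508
theorem F525366 : act 3 n218385 = n224508 := d19_19 (iv1 D224508) F452973 D209988 (iv3 F479024) F479027 F476808 (iv4 D204266) (iv3 F431752) F431755 (iv5 D157634) (iv4 F234295) (iv3 D149014) (iv1 D69885) D69886 D149019 (iv3 F393337) F479887 (iv5 F502025) F502026
theorem F525367 : act 2 n224508 = n220249 := d0_1 F525366 (iv3 F502857) F411714 (iv3 F389154) (iv2 F493624)
theorem F525368 : act 6 n224508 = n220233 := d7_2 (iv6 F493625) F525366 F502778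
def n224509 : Q := act 5 n209274
theorem D224509 : act 5 n209274 = n224509 := rfl
theorem F525369 : act 2 n224509 = n210191 := d2_1 D224509 (iv5 D210191) (iv2 F452999)
theorem F525370 : act 3 n224509 = n219524 := d6_1 D224509 (iv5 F500531) F500529
theorem F525371 : act 6 n224509 = n223383 := d12_2 D209274 D224509 F519182 (iv6 D205934) F386031
theorem F525372 : act 4 n224509 = n209405 := d16_2 F521902 D224509 F453596 (iv4 F502309) F521911 (iv4 D223900) D223901 F521914 (iv2 F521897)
theorem F525373 : act 0 n224509 = n223954 := d17_2 (iv1 F489878) D224509 (iv5 D223954) F437846 D205783 (iv0 F521976) F521974 F523201 F523199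
theorem F525374 : act 1 n224509 = n224370 := d17_6 (iv1 F441990) (iv5 D205632) D205630 D223898 F521902 D224509 F524566 (iv0 F449477) F442750
theorem F525375 : act 7 n224369 = n224509 := d11_0 F525372 F487989 (iv4 F524559)
def n224510 : Q := act 7 n209274
theorem D224510 : act 7 n209274 = n224510 := rfl
theorem F525376 : act 2 n224510 = n210192 := d4_1 D224510 (iv7 D210192) (iv2 F452999)
theorem F525377 : act 3 n224510 = n217926 := d8_1 D224510 (iv7 F500532) F500529
theorem F525378 : act 4 n224510 = n224251 := d11_1 D224510 F523903 F521902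
theorem F525379 : act 5 n224510 = n224369 := d13_1 D224510 F525375 (iv5 D224509)
theorem F525380 : act 6 n224510 = n210186 := d14_1 D224510 (iv7 D210186) (iv6 D137816) (iv7 F386025) D209274
theorem F525381 : act 1 n210190 = n224510 := d15_1 D210190 (iv7 D224510) F452999
theorem F525382 : act 1 n224510 = n210162 := d15_1 F525381 F456411 (iv2 F485543)
def n224511 : Q := act 4 n209283
theorem D224511 : act 4 n209283 = n224511 := rfl
theorem F525383 : act 3 n224511 = n222550 := d5_1 D224511 F517877 F517875 (iv4 D209285) (iv3 F453037)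
theorem F525384 : act 5 n224511 = n222547 := d16_3 (iv4 F437883) D209283 D224511 F514848 (iv5 F522586) F522585 F521499 F442440 (iv2 F442438)
theorem F525385 : act 0 n210764 = n224511 := d19_0 F525384 F514848 F462795 F379079 (iv5 F379070) (iv4 F476932) F476930 F303397 (iv5 F303414) (iv4 D162628) (iv3 F256856) F383288 (iv5 D191384) (iv4 F383278) (iv3 F468575) (iv1 F468578) D219642 F499815 F470560
def n224512 : Q := act 1 n209291
theorem D224512 : act 1 n209291 = n224512 := rfl
theorem F525386 : act 1 n224512 = n210304 := d15_1 D224512 (iv7 F484756) F484753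
theorem F525387 : act 7 n224512 = n210306 := d15_2 (iv0 F453066) D224512 F456935
theorem F525388 : act 5 n224512 = n216391 := d17_7 (iv1 F514792) (iv5 F451524) (iv1 D208949) (iv5 F437878) F437877 D209291 D224512 F487123 (iv4 F514790)
theorem F525389 : act 4 n224512 = n219877 := d17_9 F501000 (iv5 F444560) F516509 F516506 F477826 F387286 (iv0 F388691) D209291 D224512
theorem F525390 : act 3 n213043 = n224512 := d19_19 (iv1 D224512) (iv5 D209291) (iv4 F437877) F437876 (iv1 F443001) (iv5 D207020) (iv4 D129818) F171898 (iv1 F326759) F326761 (iv4 F171668) D198526 F479016 (iv5 F489468) F489466 (iv3 F451805) F451808 F421879 (iv4 F468746)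
theorem F525391 : act 6 n209530 = n224512 := d21_3 (iv5 F471402) F485875 F485874 (iv1 D224512) (iv6 F453067) (iv5 F454673) F454674 F454268 F474074 (iv1 D214224)
theorem F525392 : act 2 n224512 = n210305 := d3_1 F525391 F456931 (iv2 F454056)
def n224513 : Q := act 0 n209305
theorem D224513 : act 0 n209305 = n224513 := rfl
theorem F525393 : act 5 n224513 = n214821 := d17_1 D224513 (iv1 F476993) (iv5 D207153) (iv4 F403778) (iv5 F477124) (iv0 D214846) D214847 F477129 F463629
theorem F525394 : act 3 n224513 = n220819 := d20_5 D162762 (iv1 F387939) F387936 (iv3 F453126) D224513 F505700 (iv1 F460398) (iv4 F440320) F272491 F128172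
theorem F525395 : act 6 n224513 = n211490 := d21_5 F379439 F382049 F382047 D209305 D224513 F461791 (iv1 F406823) F407905 F407903 F379440
theorem F525396 : act 2 n221675 = n224513 := d15_3 (iv0 D224513) (iv0 F464627) (iv7 F510235)
theorem F525397 : act 1 n222579 = n224513 := d15_0 (iv0 D224513) (iv7 F474710) (iv2 F514997)
theorem F525398 : act 7 n224513 = n220928 := d15_2 (iv0 F515002) F525397 F506320
def n224514 : Q := act 0 n209335
theorem D224514 : act 0 n209335 = n224514 := rfl
theorem F525399 : act 5 n224514 = n222837 := d17_1 D224514 F516354 (iv5 F490047) (iv4 F523228) (iv5 D224135) (iv0 D206865) D206867 F522061 F522058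
theorem F525400 : act 4 n224514 = n223894 := d18_1 D224514 (iv1 D223894) (iv4 F446763) F446766 F445849 F420901 F420898 (iv0 F421856) D209335
theorem F525401 : act 3 n224514 = n221235 := d20_5 F475439 (iv1 F251349) D212660 (iv3 F466931) D224514 F507878 (iv1 F397906) F396105 (iv3 F453319) (iv1 F475442)
theorem F525402 : act 6 n224514 = n221234 := d21_5 (iv5 D132263) F172749 D136321 (iv6 F453291) D224514 F507873 (iv1 D205772) D205773 F437818 (iv1 F211909)
theorem F525403 : act 2 n223900 = n224514 := d15_3 (iv0 D224514) (iv0 F523535) F523534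
theorem F525404 : act 1 n222921 = n224514 := d15_0 (iv0 D224514) (iv7 F522046) F522042
theorem F525405 : act 7 n224514 = n223897 := d15_2 (iv0 F523536) F525404 (iv2 F523530)
def n224515 : Q := act 5 n209341
theorem D224515 : act 5 n209341 = n224515 := rfl
theorem F525406 : act 2 n224515 = n221757 := d2_1 D224515 F510694 F506792
theorem F525407 : act 4 n224515 = n210571 := d9_1 D224515 F458078 F222617 (iv5 F179222) (iv4 F212787) (iv5 F441866) (iv4 F486967) (iv5 F499801) F499800 (iv5 D195356) F162068 F78235 (iv4 F99705) D136325 D209341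
theorem F525408 : act 7 n224515 = n210570 := d13_2 F522950 D224515 (iv5 F522944)
theorem F525409 : act 0 n224515 = n222283 := d17_2 F501311 D224515 F513344 F499632 (iv5 D207865) (iv0 D132528) D132530 (iv0 F398421) (iv4 F501308)
def n224516 : Q := act 3 n209369
theorem D224516 : act 3 n209369 = n224516 := rfl
theorem F525410 : act 2 n224516 = n223805 := d0_1 D224516 F521371 (iv2 F468866) F468867 (iv2 F453424)
theorem F525411 : act 5 n224516 = n213513 := d6_2 F453423 D224516 F470781
theorem F525412 : act 6 n224516 = n211051 := d7_2 F453425 D224516 F459910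
theorem F525413 : act 7 n224516 = n213512 := d8_2 (iv7 F453421) D224516 F470776
theorem F525414 : act 0 n224516 = n223331 := d19_4 F502367 (iv5 F446496) (iv4 F453422) D224516 (iv5 D223331) F426490 F354960 (iv1 F352418) F352360 (iv4 F455443) F455442 F469766 F469764 F405231 (iv3 F429822) (iv1 F451216) (iv5 F475357) (iv4 F522890) F522889
theorem F525415 : act 4 n224516 = n211052 := d20_6 (iv4 F520488) (iv1 F520491) F491361 F475557 (iv1 F453420) D224516 (iv1 F502974) F502972 F432248 D214530
theorem F525416 : act 0 n216520 = n224516 := d20_4 F384406 F365646 (iv4 F424467) (iv3 F484788) (iv3 D224516) F453422 (iv1 D207680) (iv4 F219604) (iv3 F453743) (iv1 F453746)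
def n224517 : Q := act 6 n209379
theorem D224517 : act 6 n209379 = n224517 := rfl
theorem F525417 : act 2 n224517 = n220138 := d3_1 D224517 (iv6 F502314) F453751
theorem F525418 : act 3 n224517 = n223687 := d7_1 D224517 (iv6 D223687) F453479
theorem F525419 : act 4 n224517 = n223740 := d10_1 D224517 (iv6 F520995) F453478
theorem F525420 : act 5 n224517 = n223347 := d12_1 D224517 (iv6 D223347) (iv5 D203076) D203077 F453477
theorem F525421 : act 7 n224517 = n220137 := d14_2 (iv7 F453476) D224517 F502310 F388555 (iv6 F449777)
theorem F525422 : act 0 n224517 = n212825 := d21_4 (iv5 F486750) F486752 F453477 D224517 (iv6 D212825) (iv5 F357835) F357832 (iv5 F388439) (iv6 F394103) F394106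
theorem F525423 : act 0 n220139 = n224517 := d21_4 F407613 F458459 F458455 (iv6 F502319) (iv6 D224517) (iv5 F453477) (iv1 F487823) F487820 F491245 (iv1 D217916)
def n224518 : Q := act 5 n209400
theorem D224518 : act 5 n209400 = n224518 := rfl
theorem F525424 : act 2 n224518 = n211445 := d2_1 D224518 (iv5 F490614) F490611
theorem F525425 : act 3 n224518 = n219214 := d6_1 D224518 (iv5 F523953) F523950
theorem F525426 : act 4 n224518 = n218804 := d9_1 D224518 F495721 (iv4 F484896) (iv5 F486279) F486278 (iv5 F293924) (iv4 F371835) D217784 (iv4 F495699) F495700 F477025 (iv5 F488004) F488003 F368845 (iv4 F453587)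
theorem F525427 : act 7 n224518 = n218801 := d13_2 (iv7 F453588) D224518 F495719
theorem F525428 : act 0 n224518 = n220176 := d17_2 F490602 D224518 (iv5 D220176) F388621 F384958 F486325 F486323 (iv0 F457924) F490601
theorem F525429 : act 1 n224518 = n223779 := d17_6 F491782 F491779 (iv1 F486284) F368845 (iv4 F453587) D224518 F521227 (iv0 F501721) F482866
def n224519 : Q := act 4 n209401
theorem D224519 : act 4 n209401 = n224519 := rfl
theorem F525430 : act 2 n224519 = n222879 := d1_1 D224519 F516556 F459044
theorem F525431 : act 3 n224519 = n222881 := d5_1 D224519 F516565 (iv3 F421621) F421622 D209401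
theorem F525432 : act 6 n224519 = n223433 := d10_2 F458953 D224519 F519433
theorem F525433 : act 7 n224519 = n211204 := d11_2 (iv7 F453589) D224519 F460598
theorem F525434 : act 5 n224519 = n209458 := d16_1 D224519 (iv4 F493549) F493545 (iv4 F498460) (iv5 F520377) F520376 (iv5 D210857) D210858 F459044
theorem F525435 : act 1 n224519 = n224400 := d18_8 (iv1 F462432) (iv4 F511972) (iv1 F511974) (iv4 F485465) (iv5 F501572) F501570 F459040 D224519 F524743
theorem F525436 : act 0 n224519 = n209464 := d20_1 D224519 F458438 F458441 F457906 (iv3 F523645) (iv4 D224208) F443959 D209010 F459038 (iv1 F459047)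
def n224520 : Q := act 5 n209401
theorem D224520 : act 5 n209401 = n224520 := rfl
theorem F525437 : act 2 n224520 = n223619 := d2_1 D224520 F520370 F459044
theorem F525438 : act 3 n224520 = n209402 := d6_1 D224520 (iv5 D209402) D209401
theorem F525439 : act 4 n224520 = n223546 := d9_1 D224520 F520038 F484480 F484337 F482298 (iv5 F459034) F459033 D210857 (iv4 F520376) F520377 F498460 (iv5 F493545) F493549 (iv5 F525434) (iv4 D224519)
theorem F525440 : act 7 n224520 = n223250 := d13_2 (iv7 F453589) D224520 (iv5 D223250)
theorem F525441 : act 1 n224520 = n219577 := d17_6 (iv1 F518462) (iv5 F525162) (iv1 F525166) (iv5 F525434) (iv4 D224519) D224520 (iv5 D219577) D219576 F499524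
theorem F525442 : act 1 n211642 = n224520 := d15_0 F525441 F499529 F478216
theorem F525443 : act 6 n223545 = n224520 := d21_3 (iv5 F391076) D220502 (iv5 F520034) (iv1 F525442) (iv6 D211642) (iv5 D143493) (iv1 F226142) (iv5 F462360) F501993 (iv1 D220077)
def n224521 : Q := act 4 n209402
theorem D224521 : act 4 n209402 = n224521 := rfl
theorem F525444 : act 2 n224521 = n224368 := d1_1 D224521 F524557 F516477
theorem F525445 : act 3 n224521 = n217072 := d5_1 D224521 F487261 (iv3 F520037) (iv4 F525439) F525438
theorem F525446 : act 5 n224521 = n217065 := d9_2 D209402 D224521 F487222 (iv5 F445818) F445817 (iv5 F421483) (iv4 F421485) D209403 (iv4 F483598) F483599 F442750 D224095 F522997 (iv5 D222922) F421622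
theorem F525447 : act 6 n224521 = n219918 := d10_2 F488050 D224521 F503593
theorem F525448 : act 7 n224521 = n216810 := d11_2 F524049 D224521 (iv4 F524050)
theorem F525449 : act 0 n224521 = n216264 := d17_0 (iv5 F485545) (iv1 D210190) D210191 F487990 (iv5 F487985) (iv0 F525422) F525420 (iv0 F518986) D224521
theorem F525450 : act 1 n224521 = n219417 := d18_6 (iv1 F446162) (iv4 F396548) (iv1 F421624) F421622 D209402 D224521 F498794 (iv0 F524064) (iv5 D224280)
def n224522 : Q := act 3 n209405
theorem D224522 : act 3 n209405 = n224522 := rfl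
theorem F525451 : act 5 n224522 = n219563 := d6_2 (iv5 F453596) D224522 F499459
theorem F525452 : act 6 n224522 = n216139 := d7_2 (iv6 F469965) D224522 (iv3 F483147)
theorem F525453 : act 7 n224522 = n220018 := d8_2 (iv7 F487989) D224522 F501675
theorem F525454 : act 0 n224522 = n217033 := d19_4 (iv1 F489878) D224509 F525372 D224522 F487061 (iv4 F501570) (iv3 F516192) (iv1 F516195) F504403 F504398 (iv3 F482332) F482336 (iv5 F439676) F356063 (iv3 F447191) F447194 F427165 (iv4 F371528) D209698
def n224523 : Q := act 3 n209406
theorem D224523 : act 3 n209406 = n224523 := rfl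
theorem F525455 : act 5 n224523 = n222858 := d6_2 F453773 D224523 F516458
theorem F525456 : act 7 n224523 = n223634 := d8_2 F487987 D224523 F520448
theorem F525457 : act 4 n212051 = n224523 := d19_2 (iv1 F404125) D212051 (iv3 D224523) (iv1 D209406) (iv5 D136439) (iv4 F211746) (iv3 F445841) (iv1 F446906) F446908 F446586 F444255 (iv1 F214816) (iv5 F373934) (iv4 F468940) F468939 (iv1 F429196) F429193 D213814 F472202
theorem F525458 : act 1 n223703 = n224523 := d15_1 F520816 F525456 F520447
theorem F525459 : act 1 n224523 = n213420 := d15_1 F525458 (iv7 F516476) (iv2 F520813)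
def n224524 : Q := act 4 n209406
theorem D224524 : act 4 n209406 = n224524 := rfl
theorem F525460 : act 2 n224524 = n224369 := d1_1 D224524 F524559 (iv2 F487988)
theorem F525461 : act 5 n224524 = n210192 := d9_2 F453773 D224524 F521918 (iv5 D223901) D223900 (iv5 F521911) F502309 (iv5 F453596) (iv4 F525372) (iv5 D224509) (iv4 F521902) (iv5 D223898) D223897 (iv5 F521896) F516741
theorem F525462 : act 7 n224524 = n210191 := d11_2 F487987 D224524 F487990
theorem F525463 : act 0 n224524 = n224370 := d17_0 F524566 (iv1 F487225) (iv5 F525446) (iv4 D224521) (iv5 D209402) (iv0 D136437) D136439 D209406 D224524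
theorem F525464 : act 1 n224524 = n223954 := d18_6 D204636 D223741 F521000 F516741 F453773 D224524 F522200 (iv0 F454308) (iv5 D204638)
def n224525 : Q := act 3 n209407
theorem D224525 : act 3 n209407 = n224525 := rfl
theorem F525465 : act 4 n224525 = n212917 := d5_2 D209407 D224525 (iv3 F488002) F488003 F368844
theorem F525466 : act 5 n224525 = n215758 := d6_2 (iv5 F453598) D224525 F481440
theorem F525467 : act 6 n224525 = n209417 := d7_2 (iv6 F453597) D224525 (iv3 D209417)
theorem F525468 : act 0 n224525 = n211569 := d19_4 (iv1 D136438) D136439 D209407 D224525 (iv5 D211569) F352522 F156307 D101504 F156315 (iv4 F311780) F239898 F239904 F324083 F339226 (iv3 F339326) (iv1 F178608) D114788 D201529 F421486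
theorem F525469 : act 0 n217247 = n224525 := d20_4 D219527 (iv1 F500534) (iv4 D217248) D217247 (iv3 D224525) (iv4 D209407) D209405 (iv4 F525372) F525370 (iv1 F499273)
theorem F525470 : act 2 n213770 = n224525 := d15_3 (iv0 F525469) (iv0 F524680) F524678
def n224526 : Q := act 5 n209408
theorem D224526 : act 5 n209408 = n224526 := rfl
theorem F525471 : act 2 n224526 = n209409 := d2_1 D224526 (iv5 D209409) D209408
theorem F525472 : act 6 n224526 = n219994 := d12_2 (iv6 F462427) D224526 (iv5 D219994) D219995 F501566
theorem F525473 : act 7 n224526 = n209743 := d13_2 (iv7 F453599) D224526 (iv5 D209743)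
theorem F525474 : act 4 n224526 = n223232 := d16_2 F473533 D224526 (iv5 D223232) (iv4 F488291) F488292 F449435 (iv5 D202533) (iv7 F246030) D214111
theorem F525475 : act 0 n224526 = n209756 := d21_1 D224526 F462452 D211631 (iv1 F462450) (iv6 D202128) (iv5 F396574) D221030 F506881 F445870 (iv1 F453600)
theorem F525476 : act 0 n209755 = n224526 := d19_0 (iv5 D224526) (iv4 F473533) F473532 (iv1 F458321) D210654 F458350 F383437 F289851 (iv5 F335583) (iv4 F335591) F107133 (iv1 F126269) (iv5 F329681) F111908 F329851 (iv1 F321931) D211612 (iv4 F503823) (iv3 F503824)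
def n224527 : Q := act 0 n209409
theorem D224527 : act 0 n209409 = n224527 := rfl
theorem F525477 : act 3 n224527 = n220075 := d20_5 F451209 F451917 F451916 (iv3 F453602) D224527 F501982 F467507 (iv4 D209697) F220032 D136840
theorem F525478 : act 5 n224527 = n211602 := d21_2 D209409 D224527 (iv6 F462335) (iv1 F455723) F455721 (iv5 F506889) (iv1 F506893) F450825 D209382 (iv1 F453492)
theorem F525479 : act 6 n224527 = n216193 := d21_5 F467519 (iv1 F488404) (iv5 F501608) F501611 D224527 F483327 F468479 (iv5 F483141) (iv6 F483144) F467520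
theorem F525480 : act 1 n209743 = n224527 := d15_0 (iv0 D224527) F453603 (iv2 F454818)
theorem F525481 : act 2 n209756 = n224527 := d3_3 F525479 F483324 F469952
theorem F525482 : act 4 n216194 = n224527 := d10_3 F525479 (iv4 D216193) D216194
theorem F525483 : act 7 n209755 = n224527 := d14_0 F525479 F483326 (iv6 F472032) F472033 (iv6 F460918)
def n224528 : Q := act 1 n209409
theorem D224528 : act 1 n209409 = n224528 := rfl
theorem F525484 : act 1 n224528 = n209743 := d15_1 D224528 (iv7 F525473) F525471
theorem F525485 : act 7 n224528 = n209756 := d15_2 (iv0 D224527) D224528 F525481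
theorem F525486 : act 5 n224528 = n211601 := d17_7 (iv1 F500710) F500715 F500716 (iv5 D214112) F246028 D209409 D224528 (iv0 D211601) (iv4 F456744)
theorem F525487 : act 3 n213333 = n224528 := d19_19 (iv1 D224528) (iv5 D209409) (iv4 F246028) (iv3 D156492) (iv1 F111696) D139431 D210608 F458198 (iv1 F302126) (iv5 F195866) (iv4 D122427) D122426 F304685 (iv5 D72651) (iv4 F109132) F109131 D72596 D153541 D213333
theorem F525488 : act 6 n213772 = n224528 := d21_3 (iv5 D221706) F403435 D213772 (iv1 D224528) (iv6 F501611) F501608 F488403 (iv5 F501513) (iv6 F501514) (iv1 F510414)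
theorem F525489 : act 2 n224528 = n209755 := d3_1 F525488 F460918 (iv2 F472026)
def n224529 : Q := act 4 n209409
theorem D224529 : act 4 n209409 = n224529 := rfl
theorem F525490 : act 2 n224529 = n223232 := d1_1 D224529 (iv4 F525474) F525471
theorem F525491 : act 3 n224529 = n217321 := d5_1 D224529 (iv4 D217321) (iv3 F451914) F451916 (iv3 F453602)
theorem F525492 : act 6 n224529 = n217749 := d10_2 F501611 D224529 (iv4 F501609)
theorem F525493 : act 7 n224529 = n209757 := d11_2 (iv7 F453603) D224529 (iv4 D209757)
theorem F525494 : act 5 n224529 = n214110 := d16_1 D224529 F473526 (iv5 F486308) (iv4 F518326) (iv5 D223230) F424397 D209743 (iv7 F525473) F525471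
theorem F525495 : act 1 n224529 = n211625 := d18_8 F454642 (iv4 F504469) F504470 F484914 (iv5 F483331) F525482 (iv0 D224527) D224529 (iv5 D211625)
def n224530 : Q := act 2 n209412
theorem D224530 : act 2 n209412 = n224530 := rfl
theorem F525496 : act 3 n224530 = n223622 := d0_2 D209412 D224530 F520379 F462468 F390643
theorem F525497 : act 5 n224530 = n220231 := d2_2 F517585 D224530 (iv2 F517582)
theorem F525498 : act 6 n224530 = n216198 := d3_2 (iv6 F485380) D224530 (iv2 F485376)
theorem F525499 : act 7 n224530 = n216190 := d4_2 F503776 D224530 (iv2 F503774)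
theorem F525500 : act 1 n224530 = n216179 := d15_0 (iv0 F503778) F503776 D224530
theorem F525501 : act 1 n216191 = n224530 := d15_0 F525500 (iv7 F525263) F525260
def n224531 : Q := act 4 n209412
theorem D224531 : act 4 n209412 = n224531 := rfl
theorem F525502 : act 7 n224531 = n221074 := d11_2 F503776 D224531 F507096
theorem F525503 : act 5 n224531 = n211804 := d16_5 F509038 F513689 (iv4 F517584) F517585 D224531 F463138 (iv5 F512851) (iv7 D222197) F408699
theorem F525504 : act 1 n224531 = n221787 := d18_6 D220590 F504491 (iv1 F513685) (iv4 F517584) F517585 D224531 (iv4 F510808) (iv0 F504506) (iv5 D220592)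
def n224532 : Q := act 3 n209413
theorem D224532 : act 3 n209413 = n224532 := rfl
theorem F525505 : act 5 n224532 = n218308 := d6_2 (iv5 F454273) D224532 F493231
theorem F525506 : act 7 n224532 = n223460 := d8_2 F503781 D224532 F519559
def n224533 : Q := act 6 n209413
theorem D224533 : act 6 n209413 = n224533 := rfl
theorem F525507 : act 4 n224533 = n209414 := d10_1 D224533 (iv6 D209414) D209413
theorem F525508 : act 0 n224533 = n219420 := d21_4 (iv5 F387510) (iv1 F454271) (iv5 F454273) D224533 F498810 F427380 (iv1 F403325) (iv5 F454856) F454855 F387511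
theorem F525509 : act 0 n219913 = n224533 := d21_4 D213339 (iv1 F519196) (iv5 D223385) F501162 (iv6 D224533) F454273 (iv1 D209595) D209596 F454277 F427385
def n224534 : Q := act 0 n209439
theorem D224534 : act 0 n209439 = n224534 := rfl
theorem F525510 : act 5 n224534 = n222881 := d17_3 (iv1 F519079) (iv5 F453710) D224534 F516565 D222896 (iv0 F516644) (iv5 F486994) F486993 (iv4 F519076)
theorem F525511 : act 3 n224534 = n209458 := d20_5 F504398 F477844 F354521 D209439 D224534 (iv4 F493549) F493547 (iv4 F500352) F500351 (iv1 F504402)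
theorem F525512 : act 2 n210474 = n224534 := d15_3 (iv0 D224534) (iv0 F453712) D210474
theorem F525513 : act 1 n210472 = n224534 := d15_0 (iv0 D224534) (iv7 F503361) F503359
theorem F525514 : act 7 n224534 = n210469 := d15_2 D210472 F525513 F457672
theorem F525515 : act 6 n223340 = n224534 := d14_5 F525514 (iv6 D210469) (iv7 F453676) F453675 (iv7 F518949)
def n224535 : Q := act 4 n209440
theorem D224535 : act 4 n209440 = n224535 := rfl
theorem F525516 : act 2 n224535 = n209895 := d1_1 D224535 (iv4 F524783) F524777
theorem F525517 : act 3 n224535 = n214160 := d5_1 D224535 F473786 F428823 F354523 D209440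
theorem F525518 : act 6 n224535 = n220552 := d10_2 (iv6 F453713) D224535 F504322
theorem F525519 : act 7 n224535 = n219761 := d11_2 (iv7 F453714) D224535 F500482
theorem F525520 : act 0 n224535 = n220544 := d18_2 F524819 D224535 (iv4 D220544) F447576 F447573 F409088 (iv4 F450379) F450674 D224412
theorem F525521 : act 1 n224535 = n220543 := d18_6 F375644 (iv4 F451104) F511297 F511294 F453715 D224535 (iv4 D220543) (iv0 D193874) (iv5 F370513)
def n224536 : Q := act 5 n209459
theorem D224536 : act 5 n209459 = n224536 := rfl
theorem F525522 : act 2 n224536 = n209460 := d2_1 D224536 (iv5 D209460) D209459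
theorem F525523 : act 6 n224536 = n210360 := d12_2 (iv6 F510457) D224536 (iv5 D210360) (iv6 F455606) (iv5 F510454)
theorem F525524 : act 7 n224536 = n223256 := d13_2 F525164 D224536 (iv5 F525162)
theorem F525525 : act 0 n224536 = n223257 := d17_2 (iv1 F453780) D224536 F518470 (iv4 F511972) F511976 (iv0 F471325) (iv5 F499974) (iv0 F499977) (iv4 F428124)
theorem F525526 : act 1 n224536 = n223254 := d17_6 (iv1 F458211) (iv5 F484312) (iv1 F519520) F519521 F510461 D224536 F518452 F452704 F452702
theorem F525527 : act 4 n224536 = n222291 := d18_5 (iv1 F484889) (iv4 F457402) F510464 F510461 D224536 F513390 F493479 F427121 (iv5 F157699)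
def n224537 : Q := act 4 n209486
theorem D224537 : act 4 n209486 = n224537 := rfl
theorem F525528 : act 2 n224537 = n223152 := d1_1 D224537 F517896 F502411
theorem F525529 : act 3 n224537 = n213207 := d5_1 D224537 (iv4 D213207) F240034 (iv4 F239760) (iv3 F453897)
theorem F525530 : act 6 n224537 = n209797 := d10_2 F453899 D224537 (iv4 D209797)
theorem F525531 : act 7 n224537 = n213915 := d11_2 F498478 D224537 (iv4 F498476)
theorem F525532 : act 0 n224537 = n223151 := d18_2 F453898 D224537 F517892 (iv5 F516138) (iv4 D222798) (iv0 D201164) (iv4 F419035) F467412 (iv5 D212764)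
theorem F525533 : act 1 n224537 = n223150 := d18_6 (iv1 F446926) (iv4 F453313) (iv1 F453315) F421641 D209486 D224537 F517888 (iv0 F467193) F390535
def n224538 : Q := act 4 n209487
theorem D224538 : act 4 n209487 = n224538 := rfl
theorem F525534 : act 6 n224538 = n223153 := d10_2 F458933 D224538 F517901
theorem F525535 : act 1 n224538 = n224484 := d18_6 F454287 (iv4 D201803) (iv1 F419302) (iv4 F458925) (iv5 F458927) D224538 (iv4 D224484) D224483 F525228
theorem F525536 : act 3 n224538 = n223279 := d20_5 (iv4 D202501) (iv1 F218624) D209180 (iv3 F525233) (iv1 F525535) F518594 F503908 F503904 F469295 (iv1 F424295)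
def n224539 : Q := act 0 n209488
theorem D224539 : act 0 n209488 = n224539 := rfl
theorem F525537 : act 4 n224539 = n209544 := d18_3 F420950 D209488 D224539 F460689 (iv4 F523161) (iv0 F523166) (iv4 D222871) (iv0 D201564) D201567
def n224540 : Q := act 1 n209488
theorem D224540 : act 1 n209488 = n224540 := rfl
theorem F525538 : act 4 n224540 = n209545 := d17_9 (iv1 D209545) (iv5 D136593) D136591 F365612 F365378 (iv5 F363547) D216782 (iv5 F485907) D224540
theorem F525539 : act 6 n214049 = n224540 := d21_3 (iv5 D156258) D156256 D214049 (iv1 D224540) F453901 (iv5 F422888) (iv1 F473017) F473014 F473260 (iv1 D214053)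
def n224541 : Q := act 0 n209522
theorem D224541 : act 0 n209522 = n224541 := rfl
theorem F525540 : act 5 n224541 = n221055 := d17_3 (iv1 F391551) D209522 D224541 (iv4 F507018) D223408 F519310 F505134 F467574 F414225
theorem F525541 : act 4 n224541 = n209874 := d18_1 D224541 (iv1 F455227) D223032 F517351 F427873 D212048 (iv4 F464128) (iv0 D209521) D209522
theorem F525542 : act 3 n224541 = n213251 := d20_5 (iv4 F283660) (iv1 F471224) F471227 (iv3 F454019) D224541 (iv4 D213251) (iv1 F468850) F468847 (iv3 F455020) F310897
theorem F525543 : act 6 n224541 = n216385 := d21_5 F491121 (iv1 F387607) D192795 (iv6 F454020) D224541 F484124 (iv1 F348275) D207327 (iv6 F485870) (iv1 F491119)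
theorem F525544 : act 2 n209539 = n224541 := d15_3 (iv0 D224541) (iv0 F454021) F455120
theorem F525545 : act 1 n209542 = n224541 := d15_0 (iv0 D224541) (iv7 F471472) F471471
theorem F525546 : act 7 n224541 = n209540 := d15_2 F454085 F525545 F454080
def n224542 : Q := act 1 n209525
theorem D224542 : act 1 n209525 = n224542 := rfl
theorem F525547 : act 1 n224542 = n209527 := d15_1 D224542 (iv7 F525202) F525198
theorem F525548 : act 7 n224542 = n210470 := d15_2 (iv0 F524732) D224542 (iv2 F524726)
theorem F525549 : act 5 n224542 = n222526 := d17_7 D200022 (iv5 F415987) F505396 F505392 F425217 (iv5 F454029) D224542 (iv0 D222526) (iv4 D200024)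
theorem F525550 : act 4 n224542 = n210471 := d17_9 (iv1 F457678) (iv5 D209386) (iv1 F453486) F457665 F451835 F451833 (iv0 F420324) (iv5 F454029) D224542
theorem F525551 : act 3 n219774 = n224542 := d19_19 (iv1 D224542) F454029 (iv4 F425217) F425216 (iv1 F498370) (iv5 F503728) (iv4 F505574) F505573 (iv1 D196392) D196394 F400571 (iv3 F387304) (iv1 F387301) (iv5 D100494) (iv4 D46887) D46886 (iv1 F363115) D192233 D219774
theorem F525552 : act 6 n212061 = n224542 := d21_3 (iv5 F376456) (iv1 F475731) F475733 (iv1 D224542) (iv6 F468675) F468673 (iv1 F429169) F429167 F370617 (iv1 F376457)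
theorem F525553 : act 2 n224542 = n217533 := d3_1 F525552 (iv6 D217533) (iv2 F464181)
def n224543 : Q := act 7 n209531
theorem D224543 : act 7 n209531 = n224543 := rfl
theorem F525554 : act 2 n224543 = n216717 := d4_1 D224543 F485603 (iv2 F454057)
theorem F525555 : act 3 n224543 = n209547 := d8_1 D224543 (iv7 D209547) (iv3 F454058)
theorem F525556 : act 4 n224543 = n219651 := d11_1 D224543 F499854 (iv4 F454060)
theorem F525557 : act 5 n224543 = n209532 := d13_1 D224543 (iv7 D209532) D209531
theorem F525558 : act 1 n216701 = n224543 := d15_1 (iv0 F485532) (iv7 D224543) F454057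
theorem F525559 : act 1 n224543 = n213115 := d15_1 F525558 (iv7 F491097) F491095
def n224544 : Q := act 0 n209534
theorem D224544 : act 0 n209534 = n224544 := rfl
theorem F525560 : act 5 n224544 = n209845 := d17_1 D224544 (iv1 F507016) (iv5 F525540) F525541 F455226 F455202 (iv5 F517320) (iv0 D223027) F454071
theorem F525561 : act 3 n224544 = n213639 := d20_5 (iv4 F491497) (iv1 F491500) F433006 (iv3 F454070) D224544 F471407 F394237 (iv4 F470607) F470606 F390515
theorem F525562 : act 2 n209846 = n224544 := d15_3 (iv0 D224544) (iv0 F507025) F507024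
theorem F525563 : act 1 n209538 = n224544 := d15_0 (iv0 D224544) (iv7 F504520) F504518
theorem F525564 : act 7 n224544 = n223040 := d15_2 (iv0 F507026) F525563 F517386
theorem F525565 : act 6 n213638 = n224544 := d21_3 (iv5 F514161) F514163 F485116 (iv1 F525563) F504769 F504768 F426926 D203089 D223351 F519002
def n224545 : Q := act 4 n209539
theorem D224545 : act 4 n209539 = n224545 := rfl
theorem F525566 : act 2 n224545 = n209874 := d1_1 D224545 (iv4 F525541) (iv2 F525544)
theorem F525567 : act 3 n224545 = n221903 := d5_1 D224545 (iv4 D221903) F404968 (iv4 F480672) F480671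
theorem F525568 : act 7 n224545 = n209871 := d11_2 F455120 D224545 (iv4 F455215)
theorem F525569 : act 5 n224545 = n209866 := d16_7 (iv4 F167213) D197383 D221838 (iv5 F519161) F519162 (iv5 F455119) D224545 F455196 (iv2 D137040)
theorem F525570 : act 0 n224545 = n209873 := d17_0 (iv5 F455223) (iv1 F422800) (iv5 F422823) F454078 (iv5 D209538) F454023 F471474 F471475 D224545
theorem F525571 : act 1 n224545 = n209872 := d18_6 (iv1 D203393) (iv4 F427345) D223380 F519162 (iv5 F455119) D224545 F455220 F504112 F504110
def n224546 : Q := act 3 n209541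
theorem D224546 : act 3 n209541 = n224546 := rfl
theorem F525572 : act 2 n224546 = n219929 := d0_1 D224546 F501233 (iv2 F501201) F501202 F469481
theorem F525573 : act 4 n224546 = n209548 := d5_2 D209541 D224546 (iv3 D209548) (iv4 D136595) (iv3 F219668)
theorem F525574 : act 5 n224546 = n219928 := d6_2 F468807 D224546 F501227
theorem F525575 : act 6 n224546 = n219929 := d7_2 (iv6 F454082) D224546 F501233
theorem F525576 : act 0 n224546 = n215809 := d19_4 (iv1 D136588) D136589 D209541 D224546 F481656 F413421 F413417 F386856 (iv5 F492953) F492952 F490489 (iv1 F482911) F482913 (iv4 F449865) (iv3 F490299) (iv1 F490304) (iv5 F505779) F505778 (iv3 D209536)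
def n224547 : Q := act 6 n209542
theorem D224547 : act 6 n209542 = n224547 := rfl
theorem F525577 : act 3 n224547 = n209551 := d7_1 D224547 (iv6 D209551) (iv3 F454083)
theorem F525578 : act 5 n224547 = n219594 := d12_1 D224547 (iv6 F499611) F454607 F452553 (iv5 F454084)
theorem F525579 : act 0 n224547 = n218149 := d21_4 (iv5 F454012) (iv1 F454016) (iv5 F454084) D224547 (iv6 F524870) (iv5 D224421) F453036 (iv5 F485739) (iv6 F517387) (iv1 D223040)
theorem F525580 : act 0 n212431 = n224547 := d21_4 (iv5 D212434) (iv1 D146906) D146907 (iv6 F465778) (iv6 D224547) F454084 F391550 D220595 (iv6 F519097) F519100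
def n224548 : Q := act 0 n209546
theorem D224548 : act 0 n209546 = n224548 := rfl
theorem F525581 : act 4 n224548 = n222772 := d18_3 (iv1 D209545) D209546 D224548 (iv5 D222772) F419035 D201165 (iv4 F454387) F460707 F460705
theorem F525582 : act 2 n224538 = n224548 := d1_3 F525581 F515999 D224538
theorem F525583 : act 3 n223455 = n224548 := d5_5 F525581 F516000 F419040 (iv3 F428260) D223455
theorem F525584 : act 7 n222874 = n224548 := d11_0 F525581 F516002 D222874
def n224549 : Q := act 1 n209546
theorem D224549 : act 1 n209546 = n224549 := rfl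
theorem F525585 : act 7 n224549 = n224538 := d15_2 (iv0 D224548) D224549 F525582
theorem F525586 : act 4 n224549 = n222873 := d18_7 (iv1 F388542) F453311 (iv1 D209339) F219403 D136593 D209546 D224549 F516525 F453902
theorem F525587 : act 6 n213907 = n224549 := d21_3 (iv5 D156060) D156058 D213907 (iv1 D224549) F454091 D209549 F454094 F422875 D209826 F455079
theorem F525588 : act 2 n224549 = n222874 := d3_1 F525587 (iv6 F516528) F504329
theorem F525589 : act 5 n224549 = n223033 := d12_1 F525587 (iv6 D223033) (iv5 D202060) (iv6 F455214) D213907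
def n224550 : Q := act 3 n209546
theorem D224550 : act 3 n209546 = n224550 := rfl
theorem F525590 : act 2 n224550 = n209548 := d0_1 D224550 (iv3 D209548) (iv2 F452609) (iv3 F525233) F525232
theorem F525591 : act 4 n224550 = n219929 := d5_2 D209546 D224550 F501233 (iv4 F454060) F454058
theorem F525592 : act 5 n224550 = n215873 := d6_2 F485911 D224550 (iv3 F485910)
theorem F525593 : act 6 n224550 = n209548 := d7_2 (iv6 F454091) D224550 (iv3 D209548)
theorem F525594 : act 0 n223455 = n224550 := d19_0 F525592 (iv4 D215873) (iv3 F432719) (iv1 D193787) D193788 D220490 (iv3 F518819) (iv1 F518823) (iv5 F501665) F501664 F501634 (iv1 D217957) D217959 (iv4 F504031) F504030 (iv1 F467412) D222772 (iv4 F525581) (iv3 F525583)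
def n224551 : Q := act 7 n209546
theorem D224551 : act 7 n209546 = n224551 := rfl
theorem F525595 : act 4 n224551 = n209547 := d11_1 D224551 (iv7 D209547) D209546
theorem F525596 : act 5 n224551 = n220663 := d13_1 D224551 F504860 F485911
theorem F525597 : act 1 n222874 = n224551 := d15_1 F525235 (iv7 D224551) (iv2 F525232)
theorem F525598 : act 1 n224551 = n224538 := d15_1 F525597 (iv7 F525585) F525588
def n224552 : Q := act 7 n209548
theorem D224552 : act 7 n209548 = n224552 := rfl
theorem F525599 : act 3 n224552 = n209550 := d8_1 D224552 (iv7 D209550) D209548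
theorem F525600 : act 5 n224552 = n215875 := d13_1 D224552 F481885 F481878
theorem F525601 : act 1 n223455 = n224552 := d15_1 (iv0 F525594) (iv7 D224552) (iv2 F525590)
def n224553 : Q := act 6 n209549
theorem D224553 : act 6 n209549 = n224553 := rfl
theorem F525602 : act 3 n224553 = n224373 := d7_1 D224553 (iv6 F524582) (iv3 F481877)
theorem F525603 : act 4 n224553 = n210881 := d10_1 D224553 (iv6 D210881) (iv4 F454093)
theorem F525604 : act 0 n223064 = n224553 := d21_4 (iv5 D220694) F401173 (iv5 F422871) D223064 (iv6 D224553) (iv5 D209549) (iv1 F452774) F452772 (iv6 F517465) F517467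
def n224554 : Q := act 6 n209550
theorem D224554 : act 6 n209550 = n224554 := rfl
theorem F525605 : act 4 n224554 = n209551 := d10_1 D224554 (iv6 D209551) (iv4 F454096)
theorem F525606 : act 5 n224554 = n224498 := d12_1 D224554 F525311 F504699 (iv6 F515288) F515290
theorem F525607 : act 0 n224554 = n223495 := d21_4 (iv5 F472981) (iv1 F515292) F515290 D224554 F519748 F469247 (iv1 D152741) (iv5 F364903) (iv6 F438162) (iv1 F452782)
def n224555 : Q := act 0 n209558
theorem D224555 : act 0 n209558 = n224555 := rfl
theorem F525608 : act 5 n224555 = n222325 := d17_1 D224555 F513600 (iv5 F464303) D219626 (iv5 F504382) (iv0 D220565) (iv5 F464326) (iv0 F454781) F454127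
theorem F525609 : act 4 n224555 = n221449 := d18_1 D224555 F509063 (iv4 F524747) F524746 (iv4 F509199) F509203 F504362 F391386 D209558
theorem F525610 : act 3 n224555 = n222895 := d20_5 (iv4 F427217) F386988 F359429 (iv3 F454125) D224555 (iv4 D222895) (iv1 D201647) (iv4 F421137) (iv3 D201612) D201610
theorem F525611 : act 6 n224555 = n217929 := d21_5 F468600 F454122 (iv5 F454121) (iv6 F454126) D224555 F491308 F450454 (iv5 F499590) (iv6 F513863) F513865
theorem F525612 : act 2 n217930 = n224555 := d3_3 F525611 (iv2 D217929) D217930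
def n224556 : Q := act 1 n209558
theorem D224556 : act 1 n209558 = n224556 := rfl
theorem F525613 : act 7 n224556 = n217930 := d15_2 (iv0 D224555) D224556 F525612
theorem F525614 : act 3 n217932 = n224556 := d19_19 (iv1 D224556) (iv5 D209558) (iv4 F435019) F470395 (iv1 F470393) D213438 F470400 F393663 (iv1 F172238) F172240 F171942 (iv3 F111338) (iv1 F79267) (iv5 F84528) (iv4 F171794) (iv3 F410436) (iv1 F410440) F386527 (iv4 F491317)
def n224557 : Q := act 3 n209571
theorem D224557 : act 3 n209571 = n224557 := rfl
theorem F525615 : act 2 n224557 = n218341 := d0_1 D224557 (iv3 D218341) (iv2 F375694) F372637 (iv2 F454188)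
theorem F525616 : act 4 n224557 = n224216 := d5_2 F499376 D224557 F523694 F484021 (iv3 F499375)
theorem F525617 : act 5 n224557 = n219483 := d6_2 F454187 D224557 (iv3 F499113)
theorem F525618 : act 6 n224557 = n213089 := d7_2 (iv6 F460653) D224557 (iv3 F468957)
theorem F525619 : act 7 n224557 = n209586 := d8_2 (iv7 F454186) D224557 (iv3 D209586)
theorem F525620 : act 0 n219660 = n224557 := d20_4 F384171 (iv1 F474404) F474402 (iv3 F499901) (iv3 D224557) (iv4 F499376) F499379 F484966 F482832 F482830
def n224558 : Q := act 6 n209576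
theorem D224558 : act 6 n209576 = n224558 := rfl
theorem F525621 : act 2 n224558 = n209578 := d3_1 D224558 (iv6 D209578) D209576
theorem F525622 : act 3 n224558 = n213111 := d7_1 D224558 (iv6 F522810) F522805
theorem F525623 : act 4 n224558 = n220453 := d10_1 D224558 F503852 (iv4 F468206)
theorem F525624 : act 7 n224558 = n219991 := d14_2 F483931 D224558 (iv6 D219991) F387196 F483935
theorem F525625 : act 0 n210679 = n224558 := d21_4 F413507 F390839 D139498 D210679 (iv6 D224558) (iv5 F480743) F480745 (iv5 F453946) (iv6 F484770) (iv1 F484773)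
theorem F525626 : act 1 n216174 = n224558 := d15_1 (iv0 F484688) F525624 F501549
def n224559 : Q := act 0 n209578
theorem D224559 : act 0 n209578 = n224559 := rfl
theorem F525627 : act 5 n224559 = n216173 := d17_1 D224559 F500795 F500794 F493475 (iv5 F484908) F484910 D220449 (iv0 F504585) F504587
theorem F525628 : act 4 n224559 = n218325 := d18_3 (iv1 F504586) F504587 D224559 (iv5 D218325) D218324 F493325 (iv4 F467736) F467741 D219727
theorem F525629 : act 3 n224559 = n210688 := d20_5 F491218 (iv1 F432383) F387711 (iv3 F454212) D224559 F504414 F504411 F501570 F459042 (iv1 F491222)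
theorem F525630 : act 2 n216174 = n224559 := d15_3 (iv0 D224559) (iv0 F505863) F505862
theorem F525631 : act 1 n219991 = n224559 := d15_0 (iv0 D224559) (iv7 F484686) (iv2 F501549)
theorem F525632 : act 7 n224559 = n210679 := d15_2 (iv0 F505865) F525631 (iv2 F505859)
theorem F525633 : act 6 n220660 = n224559 := d14_5 F525632 (iv6 D210679) (iv7 F224224) D211195 F504846
def n224560 : Q := act 5 n209578
theorem D224560 : act 5 n209578 = n224560 := rfl
theorem F525634 : act 3 n224560 = n209581 := d6_1 D224560 (iv5 D209581) (iv3 F454212)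
theorem F525635 : act 4 n224560 = n217278 := d9_1 D224560 (iv5 D217278) (iv4 F465945) F465946 F391810 D220606 F504592 F501551 (iv4 F504517) (iv5 D220594) F391535 D199963 F414367 D220605 F504587
theorem F525636 : act 7 n224560 = n219553 := d13_2 F484686 D224560 F499418
theorem F525637 : act 0 n224560 = n217194 := d17_2 F505863 D224560 (iv5 F492652) (iv4 D218196) (iv5 F448507) F448510 (iv5 F487372) (iv0 F501975) (iv4 F505864)
theorem F525638 : act 1 n224560 = n217192 := d17_6 F421258 (iv5 D194030) D194027 D220605 F504587 D224560 (iv5 F493472) (iv0 F493474) F483960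
def n224561 : Q := act 0 n209586
theorem D224561 : act 0 n209586 = n224561 := rfl
theorem F525639 : act 5 n224561 = n210255 := d17_1 D224561 F516030 F516026 (iv4 F469092) (iv5 F467897) (iv0 F477827) (iv5 F516506) (iv0 F516509) F454243
theorem F525640 : act 4 n224561 = n223636 := d18_1 D224561 F520461 (iv4 F491852) F491853 (iv4 F451512) F451514 (iv4 F499118) F499121 (iv5 F454241)
theorem F525641 : act 3 n224561 = n209619 := d20_5 (iv4 F496903) F496904 (iv4 D209587) D209586 D224561 (iv4 F484014) F516435 F516431 F454246 F483075
theorem F525642 : act 6 n224561 = n219658 := d21_5 (iv5 F330532) F224188 (iv5 F444556) (iv6 F454242) D224561 (iv5 D219658) (iv1 F384929) D192650 F444549 (iv1 D207369)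
theorem F525643 : act 2 n219660 = n224561 := d15_3 (iv0 D224561) (iv0 F524555) F524553
theorem F525644 : act 1 n218341 = n224561 := d15_0 (iv0 D224561) (iv7 F525619) F525615
def n224562 : Q := act 6 n209597
theorem D224562 : act 6 n209597 = n224562 := rfl
theorem F525645 : act 2 n224562 = n216228 := d3_1 D224562 (iv6 F524054) F524052
theorem F525646 : act 3 n224562 = n217313 := d7_1 D224562 (iv6 D217313) F454282
theorem F525647 : act 4 n224562 = n217320 := d10_1 D224562 (iv6 D217320) (iv4 F454281)
theorem F525648 : act 5 n224562 = n216457 := d12_1 D224562 F525231 F525228 (iv6 D209598) D209597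
theorem F525649 : act 7 n224562 = n216229 := d14_2 F524063 D224562 (iv6 F498803) F498806 (iv6 F524062)
theorem F525650 : act 0 n224562 = n216145 := d21_4 (iv5 D136679) D136677 D209597 D224562 (iv6 F485814) F485813 F420110 (iv5 F482495) F482496 (iv1 D209601)
theorem F525651 : act 0 n216230 = n224562 := d21_4 (iv5 D185431) (iv1 F135277) D185341 (iv6 F483424) (iv6 D224562) (iv5 D209597) (iv1 F393980) F393977 (iv6 D186942) (iv1 F343876)
def n224563 : Q := act 0 n209606
theorem D224563 : act 0 n209606 = n224563 := rfl
theorem F525652 : act 5 n224563 = n220167 := d17_3 D136682 D209606 D224563 F502446 (iv5 D206810) (iv0 F407350) (iv5 D136688) (iv0 D64239) (iv4 F100039)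
theorem F525653 : act 4 n224563 = n218089 := d18_1 D224563 F492107 F478151 (iv5 D209625) (iv4 D136692) F218656 (iv4 F446124) F446127 D209606
theorem F525654 : act 2 n218093 = n224563 := d15_3 (iv0 D224563) (iv0 F484650) (iv7 F492124)
theorem F525655 : act 1 n209609 = n224563 := d15_0 (iv0 D224563) (iv7 F524021) F524018
theorem F525656 : act 7 n224563 = n220166 := d15_2 F478152 F525655 F502443
theorem F525657 : act 6 n216793 = n224563 := d21_3 F523384 (iv1 D216791) D216793 (iv1 F525655) (iv6 F454326) (iv5 D207131) (iv1 F365933) D207879 (iv6 F498774) F523385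
def n224564 : Q := act 7 n209635
theorem D224564 : act 7 n209635 = n224564 := rfl
theorem F525658 : act 2 n224564 = n222811 := d4_1 D224564 F516205 F455441
theorem F525659 : act 3 n224564 = n211617 := d8_1 D224564 F519114 F519109
theorem F525660 : act 4 n224564 = n209636 := d11_1 D224564 (iv7 D209636) (iv4 F454411)
theorem F525661 : act 5 n224564 = n222809 := d13_1 D224564 (iv7 D222809) F454412
theorem F525662 : act 6 n224564 = n215408 := d14_1 D224564 F479843 (iv6 D209937) F220270 D209635
theorem F525663 : act 1 n215610 = n224564 := d15_1 (iv0 F480759) (iv7 D224564) (iv2 F455441)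
theorem F525664 : act 1 n224564 = n215611 := d15_1 F525663 (iv7 F512797) F512799
def n224565 : Q := act 5 n209638
theorem D224565 : act 5 n209638 = n224565 := rfl
theorem F525665 : act 2 n224565 = n213357 := d2_1 D224565 (iv5 D213357) (iv2 F454425)
theorem F525666 : act 3 n224565 = n209639 := d6_1 D224565 (iv5 D209639) D209638
theorem F525667 : act 7 n224565 = n213356 := d13_2 (iv7 F454428) D224565 (iv5 D213356)
theorem F525668 : act 1 n224565 = n212807 := d17_6 (iv1 D220806) (iv5 F394214) F457522 F457228 (iv4 F454426) D224565 (iv5 D212807) D212805 F505631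
def n224566 : Q := act 6 n209639
theorem D224566 : act 6 n209639 = n224566 := rfl
theorem F525669 : act 2 n224566 = n213697 := d3_1 D224566 (iv6 F471684) F454486
theorem F525670 : act 4 n224566 = n211997 := d10_1 D224566 (iv6 D211997) (iv4 F454431)
theorem F525671 : act 5 n224566 = n213696 := d12_1 D224566 (iv6 F506952) F506949 F454391 D209639
theorem F525672 : act 0 n224566 = n223418 := d21_4 F505196 F438388 D209639 D224566 F519346 (iv5 D221805) (iv1 F488499) (iv5 F514644) F514642 F505197
theorem F525673 : act 0 n211986 = n224566 := d21_4 (iv5 D211993) D211990 (iv5 F510988) F510989 (iv6 D224566) (iv5 D209639) (iv1 F438382) (iv5 F507196) F507197 F507185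
theorem F525674 : act 7 n224566 = n221797 := d15_2 (iv0 F519347) (iv0 F525672) F510848
def n224567 : Q := act 6 n209642
theorem D224567 : act 6 n209642 = n224567 := rfl
theorem F525675 : act 2 n224567 = n220380 := d3_1 D224567 (iv6 F503498) (iv2 F454446)
theorem F525676 : act 3 n224567 = n209644 := d7_1 D224567 (iv6 D209644) D209642
theorem F525677 : act 4 n224567 = n222968 := d10_1 D224567 F517032 F509433
theorem F525678 : act 5 n224567 = n219319 := d12_1 D224567 (iv6 D219319) (iv5 D191152) D191153 (iv5 F454450)
theorem F525679 : act 7 n224567 = n220379 := d14_2 (iv7 F454447) D224567 (iv6 F503494) (iv7 F500302) F500299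
theorem F525680 : act 0 n224567 = n220377 := d21_4 (iv5 F496996) F496997 (iv5 F454450) D224567 (iv6 D220377) F423922 (iv1 D202417) D202419 (iv6 F423934) F401745
theorem F525681 : act 0 n220382 = n224567 := d21_4 (iv5 F393438) F393439 D199943 (iv6 F503508) (iv6 D224567) F454450 (iv1 F496573) F496571 (iv6 F416220) (iv1 F391498)
def n224568 : Q := act 5 n209654
theorem D224568 : act 5 n209654 = n224568 := rfl
theorem F525682 : act 2 n224568 = n209655 := d2_1 D224568 (iv5 D209655) D209654
theorem F525683 : act 3 n224568 = n209658 := d6_1 D224568 F454526 (iv3 F454513)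
theorem F525684 : act 6 n224568 = n209655 := d12_2 (iv6 F454515) D224568 (iv5 D209655) F219989 F220005
theorem F525685 : act 0 n224568 = n222113 := d17_2 F507447 D224568 (iv5 D222113) (iv4 F407866) F393812 D216513 (iv5 F505727) F505731 (iv4 F507446)
theorem F525686 : act 1 n224568 = n222112 := d17_6 (iv1 F326607) D72747 (iv1 F351138) (iv5 F400698) (iv4 F454514) D224568 (iv5 D222112) (iv0 D198393) F169284
def n224569 : Q := act 0 n209655
theorem D224569 : act 0 n209655 = n224569 := rfl
theorem F525687 : act 5 n224569 = n222109 := d17_3 F397181 D209655 D224569 F512409 (iv5 D216026) (iv0 F409113) (iv5 F505626) (iv0 D220805) (iv4 F397180)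
theorem F525688 : act 3 n224569 = n223408 := d20_5 (iv4 F425502) (iv1 F454524) (iv4 D209657) (iv3 F454516) D224569 F519308 (iv1 F517113) (iv4 F522407) F522406 (iv1 F438445)
theorem F525689 : act 2 n222113 = n224569 := d0_5 F525688 F519307 F510995 F505129 (iv3 F512422)
theorem F525690 : act 6 n213356 = n224569 := d7_0 F525688 (iv6 F519311) (iv3 F470081)
theorem F525691 : act 7 n222112 = n224569 := d15_2 (iv0 F525685) F525686 (iv2 F525689)
def n224570 : Q := act 1 n209655
theorem D224570 : act 1 n209655 = n224570 := rfl
theorem F525692 : act 7 n224570 = n222113 := d15_2 (iv0 D224569) D224570 F525689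
theorem F525693 : act 5 n224570 = n216524 := d17_7 F331117 D153774 F400705 (iv5 D196447) (iv4 F219988) D209655 D224570 (iv0 F484808) F407863
theorem F525694 : act 3 n216525 = n224570 := d19_19 (iv1 D224570) (iv5 D209655) F219988 F164909 (iv1 F165807) (iv5 F202863) (iv4 F374386) (iv3 F374390) (iv1 F370829) (iv5 D90747) (iv4 F139634) F139633 (iv1 F154114) (iv5 F382440) (iv4 F464111) F464112 (iv1 F386674) (iv5 F467587) (iv4 F484812)
theorem F525695 : act 6 n224570 = n223375 := d7_2 (iv6 F484811) F525694 F519134
theorem F525696 : act 2 n222112 = n224570 := d2_3 F525693 F484809 D222112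
def n224571 : Q := act 7 n209658
theorem D224571 : act 7 n209658 = n224571 := rfl
theorem F525697 : act 2 n224571 = n221839 := d4_1 D224571 (iv7 D221839) (iv2 F454525)
theorem F525698 : act 5 n224571 = n209667 := d13_1 D224571 (iv7 D209667) (iv5 F454526)
theorem F525699 : act 1 n221837 = n224571 := d15_1 D221837 (iv7 D224571) F454525
theorem F525700 : act 1 n224571 = n221836 := d15_1 F525699 (iv7 F517105) F517103
def n224572 : Q := act 6 n209660
theorem D224572 : act 6 n209660 = n224572 := rfl
theorem F525701 : act 2 n224572 = n210560 := d3_1 D224572 F458043 F454537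
theorem F525702 : act 3 n224572 = n223532 := d7_1 D224572 F519954 F454535
theorem F525703 : act 4 n224572 = n210650 := d10_1 D224572 F465842 F465839
theorem F525704 : act 5 n224572 = n221431 := d12_1 D224572 F509000 (iv5 F511088) F511089 (iv5 F454534)
theorem F525705 : act 7 n224572 = n210561 := d14_2 (iv7 F454533) D224572 (iv6 F458046) (iv7 F463573) (iv6 F463576)
theorem F525706 : act 0 n224572 = n210563 := d21_10 (iv5 F473157) (iv1 D195487) D195488 (iv6 F507362) F510716 (iv6 D221761) F403936 (iv1 F411764) (iv5 F454534) D224572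
theorem F525707 : act 0 n210557 = n224572 := d21_4 D208242 F448545 F446750 D210557 (iv6 D224572) F454534 (iv1 D199338) (iv5 D111205) (iv6 F98194) D133991
def n224573 : Q := act 6 n209665
theorem D224573 : act 6 n209665 = n224573 := rfl
theorem F525708 : act 2 n224573 = n221833 := d3_1 D224573 (iv6 D221833) (iv2 F472466)
theorem F525709 : act 3 n224573 = n219892 := d7_1 D224573 (iv6 D219892) F472462
theorem F525710 : act 5 n224573 = n223986 := d12_1 D224573 (iv6 D223986) (iv5 F507196) F507197 (iv5 F507186)
theorem F525711 : act 7 n224573 = n223103 := d14_2 (iv7 F472463) D224573 (iv6 D223103) F510987 (iv6 D221835)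
theorem F525712 : act 0 n224573 = n221862 := d21_4 D222981 F517102 (iv5 F507186) D224573 (iv6 D221862) F459925 F459924 (iv5 F507278) F507279 (iv1 F463839)
def n224574 : Q := act 5 n209666
theorem D224574 : act 5 n209666 = n224574 := rfl
theorem F525713 : act 2 n224574 = n221834 := d2_1 D224574 (iv5 D221834) F472465
theorem F525714 : act 6 n224574 = n219320 := d12_2 F463104 D224574 (iv5 D219320) F382443 (iv5 F423165)
theorem F525715 : act 7 n224574 = n221832 := d13_2 F472468 D224574 (iv5 D221832)
theorem F525716 : act 0 n224574 = n222981 := d17_2 (iv1 F454560) D224574 (iv5 D222981) F422560 D202049 D223028 (iv5 F517329) (iv0 F423247) (iv4 F404092)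
theorem F525717 : act 4 n224574 = n223381 := d17_4 F517112 F510999 (iv1 F454560) D224574 F519168 F507175 D221091 F522409 F522407
theorem F525718 : act 0 n211993 = n224574 := d19_0 (iv5 D224574) F472471 (iv3 F472472) F472529 (iv5 F481846) (iv4 F525320) (iv3 D224501) F452819 (iv5 D202104) (iv4 D115371) (iv3 F179633) D202067 F503967 F438460 F438459 F438375 (iv5 F463854) (iv4 D211994) (iv3 F463852)
def n224575 : Q := act 3 n209677
theorem D224575 : act 3 n209677 = n224575 := rfl
theorem F525719 : act 2 n224575 = n222738 := d0_1 D224575 (iv3 D222738) (iv2 F506580) (iv3 F512766) F512765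
theorem F525720 : act 4 n224575 = n221922 := d5_2 D209677 D224575 F511410 F454598 F454595
theorem F525721 : act 6 n224575 = n215998 := d7_2 (iv6 F454599) D224575 (iv3 D215998)
theorem F525722 : act 7 n224575 = n224155 := d8_2 F512756 D224575 F523342
theorem F525723 : act 0 n222898 = n224575 := d20_4 F511629 (iv1 D201669) D201670 D222898 (iv3 D224575) (iv4 D209677) (iv1 F246403) D214141 (iv3 F497800) F511633
def n224576 : Q := act 2 n209681
theorem D224576 : act 2 n209681 = n224576 := rfl
theorem F525724 : act 3 n224576 = n220861 := d0_2 D209681 D224576 F505944 F453952 F220020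
theorem F525725 : act 5 n224576 = n219745 := d2_2 (iv5 F454607) D224576 (iv2 F500392)
theorem F525726 : act 6 n224576 = n224151 := d3_2 (iv6 F499611) D224576 F523322
theorem F525727 : act 7 n224576 = n224477 := d4_2 (iv7 F454608) D224576 F525192
theorem F525728 : act 1 n224576 = n218337 := d15_0 (iv0 F493387) (iv7 F454608) D224576
theorem F525729 : act 4 n224576 = n224152 := d16_0 (iv5 F524476) F524475 F510769 (iv4 D221774) (iv5 D197326) (iv4 F218602) D209167 (iv7 F454608) D224576
theorem F525730 : act 1 n224481 = n224576 := d18_6 F489844 (iv4 F506630) F506632 F499251 (iv5 F516619) (iv4 F525217) F525729 (iv0 F524803) F524804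
def n224577 : Q := act 4 n209681
theorem D224577 : act 4 n209681 = n224577 := rfl
theorem F525731 : act 2 n224577 = n224152 := d1_1 D224577 (iv4 F525729) (iv2 D224576)
theorem F525732 : act 5 n224577 = n210057 := d9_2 (iv5 F454607) D224577 F455972 D210059 F510745 (iv5 D221766) (iv4 F452526) D224477 F525195 F521885 F521883 (iv5 F524424) (iv4 F524428) F510771 (iv4 F452552)
theorem F525733 : act 6 n224577 = n220171 := d10_2 (iv6 F499611) D224577 F502463
theorem F525734 : act 7 n224577 = n224087 := d11_2 (iv7 F454608) D224577 F522958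
theorem F525735 : act 0 n224577 = n220169 := d17_0 F502457 F523409 (iv5 F523456) F523455 (iv5 F512789) F512792 F516626 (iv0 F516628) D224577
theorem F525736 : act 3 n224577 = n220172 := d19_3 F454086 (iv5 F454607) D224577 F502469 (iv5 D207883) F212772 F96973 D129705 (iv5 F415473) (iv4 F449250) F449249 (iv1 F363291) (iv5 D123888) D123887 (iv3 F412783) F514080 F514077 F504362 F391354
def n224578 : Q := act 3 n209682
theorem D224578 : act 3 n209682 = n224578 := rfl
theorem F525737 : act 2 n224578 = n222741 := d0_1 D224578 (iv3 D222741) F418438 (iv3 F453977) (iv2 F454609)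
theorem F525738 : act 4 n224578 = n220172 := d5_2 D209682 D224578 (iv3 F525736) (iv4 D224577) (iv3 D209681)
theorem F525739 : act 5 n224578 = n222505 := d6_2 (iv5 F454610) D224578 (iv3 D222505)
theorem F525740 : act 6 n224578 = n218053 := d7_2 (iv6 F470412) D224578 F491920
theorem F525741 : act 7 n224578 = n224091 := d8_2 (iv7 F454611) D224578 F522975
theorem F525742 : act 0 n224578 = n218057 := d20_4 (iv4 D136815) D136814 D209682 D224578 (iv3 D218057) (iv4 F393081) (iv1 F393095) (iv4 F453808) (iv3 D209468) (iv1 F220023)
theorem F525743 : act 0 n222919 = n224578 := d20_4 (iv4 D188116) (iv1 F251149) D214459 (iv3 F516771) (iv3 D224578) (iv4 D209682) (iv1 F220022) (iv4 F453802) F453805 (iv1 F372350)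
def n224579 : Q := act 7 n209683
theorem D224579 : act 7 n209683 = n224579 := rfl
theorem F525744 : act 2 n224579 = n221884 := d4_1 D224579 F511205 (iv2 F454614)
theorem F525745 : act 3 n224579 = n224149 := d8_1 D224579 F523312 F499612
theorem F525746 : act 4 n224579 = n222332 := d11_1 D224579 F513638 F470410
theorem F525747 : act 5 n224579 = n224425 := d13_1 D224579 F524898 (iv5 F454615)
theorem F525748 : act 6 n224579 = n210997 := d14_1 D224579 F459688 F452560 (iv7 F220021) D209683
theorem F525749 : act 1 n214386 = n224579 := d15_1 F483881 (iv7 D224579) F454614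
theorem F525750 : act 1 n224579 = n216332 := d15_1 F525749 (iv7 F503711) F503709
def n224580 : Q := act 0 n209692
theorem D224580 : act 0 n209692 = n224580 := rfl
theorem F525751 : act 3 n224580 = n209703 := d20_5 F424258 F322673 (iv4 F366632) D209692 D224580 F462075 F462073 (iv4 F500135) F500134 F424259
theorem F525752 : act 2 n217293 = n224580 := d15_3 (iv0 D224580) (iv0 F503801) F503800
theorem F525753 : act 1 n215616 = n224580 := d15_0 (iv0 D224580) F454657 (iv2 F480775)
theorem F525754 : act 7 n224580 = n220529 := d15_2 (iv0 F503802) F525753 (iv2 F504210)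
def n224581 : Q := act 5 n209692
theorem D224581 : act 5 n209692 = n224581 := rfl
theorem F525755 : act 3 n224581 = n209693 := d6_1 D224581 (iv5 D209693) D209692
theorem F525756 : act 6 n224581 = n222863 := d12_2 (iv6 F454656) D224581 (iv5 D222863) F454173 F454170
theorem F525757 : act 7 n224581 = n216985 := d13_2 (iv7 F454657) D224581 F486876
theorem F525758 : act 1 n224581 = n217304 := d17_6 D215346 (iv5 F512847) F512848 F496213 F463463 D224581 (iv5 F504509) F504511 F479481
theorem F525759 : act 0 n224581 = n220135 := d21_1 D224581 (iv5 F504485) (iv6 D220588) (iv1 F391509) (iv6 D137883) D137882 F391963 (iv5 F410839) (iv6 F503799) F503801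
def n224582 : Q := act 3 n209696
theorem D224582 : act 3 n209696 = n224582 := rfl
theorem F525760 : act 4 n224582 = n211805 := d5_2 (iv4 F454663) D224582 F463141 (iv4 F462328) F462327
theorem F525761 : act 5 n224582 = n220590 := d6_2 (iv5 F456061) D224582 F504492
def n224583 : Q := act 5 n209698
theorem D224583 : act 5 n209698 = n224583 := rfl
theorem F525762 : act 2 n224583 = n216264 := d2_1 D224583 (iv5 F485545) F485543
theorem F525763 : act 3 n224583 = n209699 := d6_1 D224583 (iv5 D209699) D209698
theorem F525764 : act 6 n224583 = n216263 := d12_2 F469210 D224583 F483545 D216702 (iv5 F485536)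
theorem F525765 : act 7 n224583 = n219417 := d13_2 F456411 D224583 F498795
theorem F525766 : act 4 n224583 = n213410 := d16_2 F523199 D224583 F470273 D223743 F521012 (iv4 F489791) (iv5 F523206) F523205 (iv2 F523203)
theorem F525767 : act 0 n224583 = n216810 := d17_2 F489877 D224583 F486013 (iv4 F487207) F516801 F516800 F489923 (iv0 F521916) (iv4 F521918)
theorem F525768 : act 0 n224368 = n224583 := d21_1 D224368 (iv5 D224583) (iv6 F469210) F469212 (iv6 F487127) F487126 F484758 F484754 (iv6 F487212) (iv1 F487217)
def n224584 : Q := act 3 n209710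
theorem D224584 : act 3 n209710 = n224584 := rfl
theorem F525769 : act 2 n224584 = n217033 := d0_1 D224584 (iv3 D217033) F367622 D191735 F454707
theorem F525770 : act 4 n224584 = n220480 := d5_2 (iv4 F454705) D224584 (iv3 D220480) F454860 (iv3 D209761)
theorem F525771 : act 5 n224584 = n222769 := d6_2 (iv5 F454704) D224584 (iv3 D222769)
theorem F525772 : act 6 n224584 = n214541 := d7_2 F497856 D224584 (iv3 F497855)
theorem F525773 : act 0 n224584 = n220018 := d20_4 (iv4 D136892) D136890 (iv4 F454705) D224584 F501675 (iv4 F524559) F524562 (iv4 D209602) (iv3 F454275) F454279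
def n224585 : Q := act 4 n209720
theorem D224585 : act 4 n209720 = n224585 := rfl
theorem F525774 : act 2 n224585 = n223071 := d1_1 D224585 (iv4 F524623) F524621
theorem F525775 : act 3 n224585 = n223692 := d5_1 D224585 (iv4 D223692) F432713 (iv4 F471203) F471202
theorem F525776 : act 6 n224585 = n213229 := d10_2 (iv6 F471195) D224585 (iv4 F471191)
theorem F525777 : act 7 n224585 = n223072 := d11_2 F471378 D224585 F517513
theorem F525778 : act 5 n224585 = n220486 := d16_1 D224585 F504008 (iv5 F483879) (iv4 F490300) (iv5 F490305) (iv4 D209804) D209805 (iv7 F524625) F524621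
theorem F525779 : act 0 n224585 = n223073 := d18_2 (iv1 F525310) D224585 F519515 F519511 F505222 F490348 F490347 (iv0 F453910) (iv5 F525306)
theorem F525780 : act 1 n224585 = n223074 := d18_6 D203403 (iv4 F505681) (iv1 F505686) F454739 D209720 D224585 F517519 (iv0 F504777) (iv5 D203405)
def n224586 : Q := act 4 n209721
theorem D224586 : act 4 n209721 = n224586 := rfl
theorem F525781 : act 2 n224586 = n209728 := d1_1 D224586 (iv4 D209728) (iv2 F454748)
theorem F525782 : act 3 n224586 = n221397 := d5_1 D224586 F508808 (iv3 F504350) D222992 F517159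
theorem F525783 : act 6 n224586 = n221396 := d10_2 F454747 D224586 F508805
theorem F525784 : act 7 n224586 = n209726 := d11_2 (iv7 F454746) D224586 (iv4 D209726)
theorem F525785 : act 5 n224586 = n222431 := d16_7 F454127 (iv5 D209558) (iv4 F435019) F464310 (iv4 F494706) F494707 D224586 (iv7 D222431) (iv2 F413039)
theorem F525786 : act 0 n224586 = n221661 := d17_0 (iv5 F520735) (iv1 F520738) (iv5 F509200) F509199 (iv5 F524746) (iv0 D224401) F450485 D209721 D224586
theorem F525787 : act 1 n224586 = n221664 := d18_8 (iv1 D223689) (iv4 F499705) (iv1 F499708) (iv4 F464325) (iv5 D212093) F228354 D209721 D224586 F520744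
def n224587 : Q := act 0 n209726
theorem D224587 : act 0 n209726 = n224587 := rfl
theorem F525788 : act 5 n224587 = n223746 := d17_1 D224587 F521030 F499741 (iv4 F453668) F454776 F524758 F524756 F454752 D209726
theorem F525789 : act 3 n224587 = n222055 := d20_5 (iv4 F415064) D222552 F514874 F454771 D224587 (iv4 F512403) (iv1 F512405) F507422 F415070 (iv1 D200113)
theorem F525790 : act 2 n221664 = n224587 := d15_3 (iv0 D224587) (iv0 F456441) D221664
theorem F525791 : act 1 n209728 = n224587 := d15_0 (iv0 D224587) (iv7 F525784) F525781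
theorem F525792 : act 7 n224587 = n221661 := d15_2 F464431 F525791 F510159
theorem F525793 : act 4 n224587 = n224451 := d18_7 (iv1 F384604) F464315 (iv1 F464314) (iv4 F464330) (iv5 F389175) D209728 F525791 (iv0 D224451) (iv5 D208938)
theorem F525794 : act 3 n222186 = n224451 := d20_5 F460227 (iv1 F459702) (iv4 F469763) F469762 F512787 (iv4 F525793) (iv1 F525791) (iv4 D209728) (iv3 F389174) (iv1 F460231)
theorem F525795 : act 6 n224451 = n224580 := d7_2 F512786 F525794 F525751
theorem F525796 : act 7 n224451 = n222325 := d8_2 (iv7 F512784) F525794 F513598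
def n224588 : Q := act 4 n209727
theorem D224588 : act 4 n209727 = n224588 := rfl
theorem F525797 : act 2 n224588 = n212101 := d1_1 D224588 (iv4 F494676) F494671
theorem F525798 : act 3 n224588 = n212206 := d5_1 D224588 F464742 F432941 (iv4 F429513) (iv3 F454773)
theorem F525799 : act 5 n224588 = n220567 := d9_2 D209727 D224588 (iv4 D220567) D220568 F504394 (iv5 F471816) (iv4 D209728) F389175 F464330 (iv5 D205123) (iv4 F473670) D220570 F504406 F454772 (iv4 D209726)
theorem F525800 : act 6 n224588 = n219584 := d10_2 (iv6 F454774) D224588 F499564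
theorem F525801 : act 7 n224588 = n212102 := d11_2 F494708 D224588 (iv4 F494706)
theorem F525802 : act 0 n224588 = n212104 := d17_0 F464313 (iv1 F464291) F472136 (iv4 F524747) F524746 F494723 (iv5 F487566) (iv0 F487568) D224588
theorem F525803 : act 1 n224588 = n212093 := d18_8 F393588 F451480 D224451 (iv4 F525793) F525788 F521027 (iv0 F487568) D224588 (iv5 D212093)
def n224589 : Q := act 5 n209734
theorem D224589 : act 5 n209734 = n224589 := rfl
theorem F525804 : act 3 n224589 = n209735 := d6_1 D224589 (iv5 D209735) D209734
theorem F525805 : act 6 n224589 = n222479 := d12_2 (iv6 F454789) D224589 (iv5 D222479) (iv6 F430711) D204573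
theorem F525806 : act 4 n224589 = n217415 := d16_2 F505663 D224589 (iv5 D217415) (iv4 F476612) (iv5 F476615) (iv4 F393931) D220810 F505648 (iv2 F505658)
theorem F525807 : act 0 n224589 = n224033 := d17_2 (iv1 F498097) D224589 F522644 F505401 (iv5 D220765) (iv0 F505383) F505382 F471734 (iv4 F498095)
theorem F525808 : act 1 n224589 = n214630 := d17_6 (iv1 F505665) (iv5 F410673) F410675 D220812 F505663 D224589 F476125 F512224 F512220
def n224590 : Q := act 1 n209742
theorem D224590 : act 1 n209742 = n224590 := rfl
theorem F525809 : act 1 n224590 = n209749 := d15_1 D224590 (iv7 D209749) (iv2 F454816)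
theorem F525810 : act 7 n224590 = n209746 := d15_2 (iv0 F489906) D224590 F489904
theorem F525811 : act 4 n224590 = n217628 := d18_7 (iv1 F468059) F466666 F401695 D201630 D222888 (iv4 F516604) D224590 F490113 F490111
theorem F525812 : act 3 n223631 = n224590 := d20_3 (iv4 F328253) D204152 D223631 (iv1 D224590) F454817 (iv4 F524475) F524478 (iv4 F522951) F490160 (iv1 D208648)
theorem F525813 : act 6 n223370 = n224590 := d21_3 D220993 F506694 (iv5 F519104) (iv1 D224590) (iv6 D209742) (iv5 D136877) (iv1 F218690) D209199 F506683 (iv1 F506681)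
theorem F525814 : act 2 n224590 = n209747 := d3_1 F525813 F468971 (iv2 F519102)
theorem F525815 : act 5 n224590 = n212940 := d12_1 F525813 F504099 (iv5 D220505) (iv6 F485111) (iv5 F519104)
def n224591 : Q := act 5 n209742
theorem D224591 : act 5 n209742 = n224591 := rfl
theorem F525816 : act 2 n224591 = n209748 := d2_1 D224591 (iv5 D209748) (iv2 F454816)
theorem F525817 : act 3 n224591 = n221774 := d6_1 D224591 (iv5 F510769) (iv3 F454817)
theorem F525818 : act 4 n224591 = n212900 := d9_1 D224591 (iv5 D212900) F348665 D151523 (iv4 F452317) F452316 (iv4 F454834) (iv5 F516590) (iv4 D222886) (iv5 D201628) (iv4 D114900) D114901 D201630 D222888 (iv4 F516604)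
theorem F525819 : act 6 n224591 = n209743 := d12_2 D209742 D224591 (iv5 D209743) (iv6 D136878) D136877
theorem F525820 : act 7 n224591 = n223614 := d13_2 F524661 D224591 (iv5 F524660)
theorem F525821 : act 0 n224591 = n211645 := d17_2 (iv1 D224590) D224591 F462502 F452171 D209084 (iv0 F489689) (iv5 F490103) (iv0 F490106) (iv4 F525811)
def n224592 : Q := act 4 n209743
theorem D224592 : act 4 n209743 = n224592 := rfl
theorem F525822 : act 2 n224592 = n209757 := d1_1 D224592 (iv4 D209757) (iv2 F454818)
theorem F525823 : act 3 n224592 = n221784 := d5_1 D224592 (iv4 D221784) (iv3 F510752) (iv4 F525257) F525256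
theorem F525824 : act 5 n224592 = n214104 := d9_2 D209743 D224592 (iv4 F525086) F525087 F499426 (iv5 D214112) F246028 D209409 D224529 F525494 F473526 (iv5 F486308) (iv4 F518326) (iv5 D223230) F424397
theorem F525825 : act 6 n224592 = n212900 := d10_2 F525819 D224592 (iv4 F525818)
theorem F525826 : act 7 n224592 = n223232 := d11_2 F525473 D224592 (iv4 F525474)
theorem F525827 : act 0 n224592 = n211625 := d17_0 (iv5 D211625) F454642 (iv5 F518337) F518336 F462469 F462338 (iv5 F525486) F525484 D224592
def n224593 : Q := act 5 n209746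
theorem D224593 : act 5 n209746 = n224593 := rfl
theorem F525828 : act 3 n224593 = n216714 := d6_1 D224593 F485595 (iv3 F462178)
theorem F525829 : act 4 n224593 = n212941 := d9_1 D224593 F468231 F238389 (iv5 F238399) (iv4 F335936) D212307 F468970 (iv5 F519416) (iv4 D223430) (iv5 D203333) F186799 (iv5 F107621) (iv4 F237334) (iv5 F371166) (iv4 F454828)
theorem F525830 : act 6 n224593 = n216140 := d12_2 F454829 D224593 F483152 (iv6 F459065) F459067
theorem F525831 : act 7 n224593 = n212940 := d13_2 F525810 D224593 (iv5 F525815)
theorem F525832 : act 0 n224593 = n220984 := d17_2 D209746 D224593 (iv5 D220984) F395937 (iv5 F238408) (iv0 F427781) (iv5 F427782) (iv0 F454826) F454824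
theorem F525833 : act 1 n224593 = n223615 := d17_6 F451748 F465247 (iv1 F465245) (iv5 F371166) (iv4 F454828) D224593 F520346 (iv0 F452235) F452171
def n224594 : Q := act 0 n209748
theorem D224594 : act 0 n209748 = n224594 := rfl
theorem F525834 : act 5 n224594 = n224389 := d17_3 (iv1 D209747) D209748 D224594 F524673 (iv5 F466643) (iv0 F468063) F468062 (iv0 F465250) F468970
theorem F525835 : act 3 n224594 = n224390 := d20_5 (iv4 F383464) (iv1 F454858) (iv4 D209760) (iv3 F454830) D224594 F524679 (iv1 F472024) F458446 (iv3 F449488) (iv1 F449491)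
theorem F525836 : act 6 n224594 = n211606 := d21_5 (iv5 D209754) (iv1 D136884) D136885 (iv6 F454831) D224594 (iv5 D211606) (iv1 D143380) D143381 (iv6 F462340) F462341
theorem F525837 : act 1 n223614 = n224594 := d15_0 (iv0 D224594) (iv7 F516589) (iv2 F520343)
theorem F525838 : act 2 n211645 = n224594 := d3_3 F525836 F462351 D211645
def n224595 : Q := act 1 n209748
theorem D224595 : act 1 n209748 = n224595 := rfl
theorem F525839 : act 1 n224595 = n223614 := d15_1 D224595 (iv7 F525820) F525816
theorem F525840 : act 7 n224595 = n211645 := d15_2 (iv0 D224594) D224595 F525838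
theorem F525841 : act 5 n224595 = n219574 := d17_7 (iv1 F395946) (iv5 F452322) F493134 F493131 F454824 D209748 D224595 F506646 F506644
theorem F525842 : act 3 n217961 = n224595 := d20_3 F524559 (iv1 F487982) (iv4 F491430) (iv1 D224595) F454830 D209760 F454857 (iv4 F359637) (iv3 F449471) D224369
theorem F525843 : act 6 n224595 = n219577 := d7_2 F491434 F525842 F499528
def n224596 : Q := act 0 n209750
theorem D224596 : act 0 n209750 = n224596 := rfl
theorem F525844 : act 4 n224596 = n217291 := d20_2 D209750 D224596 (iv3 F488308) (iv1 D216270) F352695 F218030 (iv1 F216998) F100298 (iv3 F100295) D136883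
theorem F525845 : act 3 n224596 = n220495 := d20_5 (iv4 F182984) F350007 (iv4 F278933) (iv3 F454836) D224596 F504053 (iv1 F431994) (iv4 F457910) F457913 (iv1 D139503)
theorem F525846 : act 6 n224596 = n220493 := d21_5 (iv5 F422081) F468222 F468221 (iv6 F454837) D224596 (iv5 D220493) (iv1 F471459) (iv5 F471453) (iv6 D199370) (iv1 F411880)
theorem F525847 : act 2 n215411 = n224596 := d15_3 (iv0 D224596) (iv0 F513302) F513301
theorem F525848 : act 1 n209753 = n224596 := d15_0 (iv0 D224596) (iv7 F459053) F459050
def n224597 : Q := act 5 n209750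
theorem D224597 : act 5 n209750 = n224597 := rfl
theorem F525849 : act 3 n224597 = n215963 := d6_1 D224597 (iv5 D215963) (iv3 F454836)
theorem F525850 : act 6 n224597 = n212936 := d12_2 (iv6 F454837) D224597 (iv5 D212936) D212937 F468221
theorem F525851 : act 1 n224597 = n216194 := d17_6 (iv1 F462338) (iv5 F462469) (iv1 F462470) (iv5 D209751) D209750 D224597 F483331 D216555 F484925
def n224598 : Q := act 4 n209751
theorem D224598 : act 4 n209751 = n224598 := rfl
theorem F525852 : act 3 n224598 = n213395 := d5_1 D224598 F470211 (iv3 F467478) (iv4 F500191) F500190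
theorem F525853 : act 7 n224598 = n213394 := d11_2 (iv7 F462461) D224598 F470209
theorem F525854 : act 1 n224598 = n220074 := d18_6 D217290 (iv4 F513299) F513302 (iv4 D209750) D209751 D224598 (iv4 F520386) (iv0 F520389) F486308
theorem F525855 : act 5 n215411 = n224598 := d19_1 (iv1 F479858) (iv4 D224598) (iv3 F500190) (iv1 F500194) F390682 F335441 (iv3 F344486) D215723 F481243 F478674 (iv3 F474599) (iv1 F474603) F445001 (iv4 F522383) F522382 F472685 F458133 (iv4 D210584) D210583
theorem F525856 : act 6 n224598 = n216216 := d12_2 (iv6 F485464) F525855 F483393 (iv6 F364094) D216683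
def n224599 : Q := act 6 n209751
theorem D224599 : act 6 n209751 = n224599 := rfl
theorem F525857 : act 3 n224599 = n214526 := d7_1 D224599 (iv6 F500193) F500190
theorem F525858 : act 4 n224599 = n216216 := d10_1 D224599 (iv6 F525856) (iv4 D224598)
theorem F525859 : act 5 n224599 = n214525 := d12_1 D224599 F506887 F506881 F445870 D209751
theorem F525860 : act 7 n224599 = n217033 := d14_2 (iv7 F462461) D224599 F487062 (iv7 F470163) F470162
theorem F525861 : act 0 n220018 = n224599 := d21_4 (iv5 D219980) (iv1 F387111) (iv5 F387276) D220018 (iv6 D224599) (iv5 D209751) (iv1 F453600) D224526 F525472 F501561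
def n224600 : Q := act 5 n209753
theorem D224600 : act 5 n209753 = n224600 := rfl
theorem F525862 : act 0 n224600 = n216194 := d17_2 (iv1 F525848) D224600 F483331 (iv4 F484914) (iv5 F520387) (iv0 F520389) F486308 D217291 (iv4 F525844)
def n224601 : Q := act 4 n209754
theorem D224601 : act 4 n209754 = n224601 := rfl
theorem F525863 : act 2 n224601 = n213394 := d1_1 D224601 F470209 (iv2 F462459)
theorem F525864 : act 3 n224601 = n219392 := d5_1 D224601 (iv4 D219392) F383240 D213336 F469983
theorem F525865 : act 6 n224601 = n213415 := d10_2 (iv6 F454839) D224601 F470288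
theorem F525866 : act 0 n224601 = n220074 := d17_0 F501980 (iv1 D216555) (iv5 F483331) F525482 F525478 F462333 (iv5 F462469) F462471 D224601
def n224602 : Q := act 4 n209755
theorem D224602 : act 4 n209755 = n224602 := rfl
theorem F525867 : act 3 n224602 = n216195 := d5_1 D224602 (iv4 F483567) F483566 (iv4 F503823) (iv3 F503824)
theorem F525868 : act 6 n224602 = n220314 := d10_2 (iv6 F460918) D224602 F503151
theorem F525869 : act 7 n224602 = n216194 := d11_2 (iv7 F525483) D224602 F525482
theorem F525870 : act 5 n224602 = n216556 := d18_4 F500720 (iv4 D209757) D209755 D224602 (iv4 F500384) (iv0 F521262) F521259 (iv0 F460473) D219809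
def n224603 : Q := act 0 n209757
theorem D224603 : act 0 n209757 = n224603 := rfl
theorem F525871 : act 5 n224603 = n210251 := d17_1 D224603 (iv1 F500710) F500715 (iv4 F520380) F520381 F462346 (iv5 F460917) (iv0 D209755) D209757
theorem F525872 : act 3 n224603 = n216811 := d20_5 F388081 (iv1 F387446) (iv4 F488000) F487999 D224603 F486015 (iv1 F498845) (iv4 D219427) D219426 (iv1 F498840)
theorem F525873 : act 6 n224603 = n210254 := d21_5 (iv5 D122676) (iv1 F356466) D201707 (iv6 F454841) D224603 (iv5 D210254) F448727 (iv5 F448728) F456755 (iv1 D204103)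
theorem F525874 : act 2 n211625 = n224603 := d15_3 (iv0 D224603) (iv0 F500720) F500719
theorem F525875 : act 1 n223232 = n224603 := d15_0 (iv0 D224603) (iv7 F525493) F525490
def n224604 : Q := act 6 n209761
theorem D224604 : act 6 n209761 = n224604 := rfl
theorem F525876 : act 2 n224604 = n219958 := d3_1 D224604 F501371 F483829
theorem F525877 : act 3 n224604 = n209762 := d7_1 D224604 (iv6 D209762) D209761
theorem F525878 : act 4 n224604 = n220481 := d10_1 D224604 (iv6 D220481) F454860
theorem F525879 : act 5 n224604 = n210497 := d12_1 D224604 (iv6 D210497) F357630 D193435 (iv5 F454859)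
theorem F525880 : act 7 n224604 = n219393 := d14_2 F456991 D224604 (iv6 D219393) (iv7 F389851) (iv6 F456990)
theorem F525881 : act 0 n224604 = n223214 := d21_4 (iv5 D210053) F409612 (iv5 F454859) D224604 F518237 (iv5 F518233) F518232 (iv5 F520786) (iv6 F520789) (iv1 F487950)
theorem F525882 : act 1 n224604 = n214125 := d15_1 (iv0 F525881) F473598 (iv2 F518235)
def n224605 : Q := act 7 n209764
theorem D224605 : act 7 n209764 = n224605 := rfl
theorem F525883 : act 2 n224605 = n209770 := d4_1 D224605 (iv7 D209770) (iv2 F454867)
theorem F525884 : act 3 n224605 = n214610 := d8_1 D224605 (iv7 F478846) (iv3 F454868)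
theorem F525885 : act 4 n224605 = n221088 := d11_1 D224605 (iv7 D221088) (iv4 F454869)
theorem F525886 : act 5 n224605 = n223321 := d13_1 D224605 F518846 (iv5 F454870)
theorem F525887 : act 6 n224605 = n216008 := d14_1 D224605 (iv7 F503010) F503009 F452824 D209764
theorem F525888 : act 1 n209768 = n224605 := d15_1 D209768 (iv7 D224605) F454867
theorem F525889 : act 1 n224605 = n209767 := d15_1 F525888 (iv7 F454887) (iv2 F454888)
def n224606 : Q := act 4 n209767
theorem D224606 : act 4 n209767 = n224606 := rfl
theorem F525890 : act 3 n224606 = n222027 := d5_1 D224606 (iv4 D222027) D222026 F511972 F462429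
theorem F525891 : act 6 n224606 = n219458 := d10_2 F454886 D224606 F498970
theorem F525892 : act 7 n224606 = n221157 := d11_2 F454887 D224606 F507493
theorem F525893 : act 5 n224606 = n219522 := d16_1 D224606 (iv4 D219522) (iv5 D191638) (iv4 F383990) (iv5 F439266) F439265 F454884 (iv7 F500161) F500159
theorem F525894 : act 1 n224606 = n224290 := d18_6 (iv1 F486998) (iv4 F522515) (iv1 F522519) F442656 (iv5 F454885) D224606 F524116 (iv0 F456494) (iv5 F465375)
def n224607 : Q := act 4 n209769
theorem D224607 : act 4 n209769 = n224607 := rfl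
theorem F525895 : act 2 n224607 = n224410 := d1_1 D224607 F524801 (iv2 F454881)
theorem F525896 : act 3 n224607 = n220150 := d5_1 D224607 (iv4 D220150) (iv3 F432131) F432133 (iv3 F454882)
theorem F525897 : act 6 n224607 = n222944 := d10_2 (iv6 F454883) D224607 F516907
theorem F525898 : act 5 n224607 = n219519 := d16_5 (iv4 F486890) (iv5 F486892) F454879 D209769 D224607 (iv4 D219519) D219520 F499262 (iv2 D216995)
theorem F525899 : act 0 n224607 = n224577 := d17_0 F525732 F465695 (iv5 F519089) (iv4 D223367) F489715 F525513 F525510 F516567 D224607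
theorem F525900 : act 1 n224607 = n222933 := d18_6 (iv1 F512792) (iv4 F517282) F517284 F454879 D209769 D224607 (iv4 F525195) F525196 (iv5 F516626)
def n224608 : Q := act 0 n209774
theorem D224608 : act 0 n209774 = n224608 := rfl
theorem F525901 : act 5 n224608 = n215834 := d17_1 D224608 (iv1 D215834) D215835 F481734 F433682 F488151 F488149 (iv0 F448998) (iv4 F454910)
theorem F525902 : act 4 n224608 = n223784 := d18_3 F389391 (iv4 F454910) D224608 F521253 F488329 F519806 (iv4 F521313) F521316 F479190
theorem F525903 : act 3 n224608 = n211760 := d20_5 (iv4 F428589) F437999 (iv4 F517439) F517438 D224608 (iv4 F500311) (iv1 F500314) (iv4 F518027) F518026 F428592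
theorem F525904 : act 6 n224608 = n213899 := d21_5 (iv5 F330554) (iv1 F400311) F400309 D209774 D224608 F472638 (iv1 D156050) (iv5 F220230) (iv6 F336209) F180001
theorem F525905 : act 2 n223024 = n224608 := d15_3 (iv0 D224608) (iv0 F500693) (iv7 F517307)
theorem F525906 : act 1 n213929 = n224608 := d15_0 (iv0 D224608) (iv7 F503015) F503013
theorem F525907 : act 7 n224608 = n223025 := d15_2 F500695 F525906 F517312
def n224609 : Q := act 5 n209774
theorem D224609 : act 5 n209774 = n224609 := rfl
theorem F525908 : act 2 n224609 = n220631 := d2_1 D224609 F504713 (iv2 F454909)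
theorem F525909 : act 3 n224609 = n213761 := d6_1 D224609 (iv5 F517440) F517438
theorem F525910 : act 4 n224609 = n215795 := d9_1 D224609 (iv5 F482590) F482589 F482468 (iv4 F482505) F502988 (iv4 F502991) F472777 F392018 D194088 D220636 (iv5 F521045) F521044 F449160 (iv4 F454910)
theorem F525911 : act 6 n224609 = n223487 := d12_2 D209774 D224609 (iv5 D223487) F429090 F400309
theorem F525912 : act 7 n224609 = n215792 := d13_2 F503015 D224609 (iv5 F503016)
theorem F525913 : act 0 n224609 = n216639 := d17_2 F500693 D224609 (iv5 F517726) F517727 F457826 F519788 F519786 (iv0 F451852) (iv4 F500692)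
theorem F525914 : act 1 n224609 = n216636 := d17_6 (iv1 D223783) F433539 F449161 F449160 (iv4 F454910) D224609 F485287 D223787 F521273
def n224610 : Q := act 5 n209793
theorem D224610 : act 5 n209793 = n224610 := rfl
theorem F525915 : act 3 n224610 = n224408 := d6_1 D224610 (iv5 D224408) F454976
theorem F525916 : act 4 n224610 = n210554 := d9_1 D224610 (iv5 D210554) F222605 D139745 F319649 (iv5 F465077) F465076 (iv5 F519504) F519503 (iv5 D210673) F349411 D139958 F335038 (iv5 F397403) (iv4 F454975)
theorem F525917 : act 6 n224610 = n210837 := d12_2 F454977 D224610 (iv5 D210837) F457164 F457161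
theorem F525918 : act 0 n224610 = n209799 := d17_2 (iv1 F454974) D224610 F456179 F456177 (iv5 D195214) (iv0 D105425) (iv5 F161513) (iv0 F333242) (iv4 F451927)
def n224611 : Q := act 6 n209794
theorem D224611 : act 6 n209794 = n224611 := rfl
theorem F525919 : act 2 n224611 = n223492 := d3_1 D224611 F519735 F506685
theorem F525920 : act 3 n224611 = n209795 := d7_1 D224611 (iv6 D209795) (iv3 F454978)
theorem F525921 : act 4 n224611 = n210833 := d10_1 D224611 F458950 (iv4 F454979)
theorem F525922 : act 5 n224611 = n220001 := d12_1 D224611 F501592 (iv5 D208895) (iv6 F339483) D209794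
theorem F525923 : act 1 n214445 = n224611 := d17_6 (iv1 F502398) F519752 (iv1 D223497) F429107 (iv4 F460606) (iv5 F475209) F525922 F519452 F519448
def n224612 : Q := act 3 n209800
theorem D224612 : act 3 n209800 = n224612 := rfl
theorem F525924 : act 2 n224612 = n223137 := d0_1 D224612 F517836 (iv2 F517816) F517817 (iv2 F454994)
theorem F525925 : act 4 n224612 = n209842 := d5_2 D209800 D224612 (iv3 F504809) F504810 (iv3 D209799)
theorem F525926 : act 5 n224612 = n213152 := d6_2 (iv5 F454995) D224612 (iv3 D213152)
theorem F525927 : act 6 n224612 = n212755 := d7_2 (iv6 F454996) D224612 F467369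
theorem F525928 : act 7 n224612 = n223278 := d8_2 (iv7 F454997) D224612 F518589
theorem F525929 : act 0 n223645 = n224612 := d20_4 F503565 F404595 D204282 D223645 (iv3 D224612) (iv4 D209800) (iv1 D136974) D136975 (iv3 F390281) D220394
def n224613 : Q := act 4 n209805
theorem D224613 : act 4 n209805 = n224613 := rfl
theorem F525930 : act 2 n224613 = n223072 := d1_1 D224613 F517513 F471375
theorem F525931 : act 3 n224613 = n213992 := d5_1 D224613 (iv4 D213992) (iv3 F473009) (iv4 F511961) F511960
theorem F525932 : act 5 n224613 = n220485 := d9_2 D209805 D224613 F504000 F503686 (iv4 F489351) F489352 F454739 D209720 D224585 F525778 F504008 (iv5 F483879) (iv4 F490300) (iv5 F490305) (iv4 D209804)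
theorem F525933 : act 6 n224613 = n214000 := d10_2 F471339 D224613 F473049
theorem F525934 : act 7 n224613 = n223071 := d11_2 F524625 D224613 (iv4 F524623)
theorem F525935 : act 0 n224613 = n223074 := d17_0 F517520 F468802 F468801 (iv4 F351169) (iv5 F434940) (iv0 F453910) (iv5 F525306) F525309 D224613
theorem F525936 : act 1 n224613 = n223073 := d18_6 (iv1 D193859) (iv4 F380200) F455009 (iv4 D209804) D209805 D224613 F519515 F519510 (iv5 D220535)
def n224614 : Q := act 1 n209808
theorem D224614 : act 1 n209808 = n224614 := rfl
theorem F525937 : act 1 n224614 = n223494 := d15_1 D224614 (iv7 F519745) F503706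
theorem F525938 : act 7 n224614 = n221188 := d15_2 (iv0 F455023) D224614 F507650
theorem F525939 : act 4 n224614 = n223427 := d18_7 (iv1 F411251) F411249 F366147 F165066 D136980 D209808 D224614 (iv0 F519399) F498944
theorem F525940 : act 3 n223033 = n224614 := d19_19 (iv1 D224614) (iv5 F456309) F456308 F390533 (iv1 F485851) (iv5 F499616) F499615 F499236 (iv1 F502259) F502255 F407123 F169006 D109005 D198185 (iv4 F425020) F446931 F446930 D214390 (iv4 F517356)
theorem F525941 : act 6 n213805 = n224614 := d21_3 (iv5 D212838) F422818 (iv5 F472167) (iv1 D224614) F455022 F245267 (iv1 F111128) D115334 (iv6 F422742) (iv1 F467714)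
theorem F525942 : act 2 n224614 = n223490 := d3_1 F525941 (iv6 D223490) F472169
def n224615 : Q := act 3 n209808
theorem D224615 : act 3 n209808 = n224615 := rfl
theorem F525943 : act 4 n224615 = n209811 := d5_2 D209808 D224615 (iv3 D209811) (iv4 D136982) (iv3 F220128)
theorem F525944 : act 6 n224615 = n213928 := d7_2 (iv6 F455022) D224615 F472762
theorem F525945 : act 0 n224615 = n223062 := d20_4 F468847 (iv1 D209807) D209808 D224615 (iv3 D223062) (iv4 D202092) (iv1 F220183) (iv4 F452804) F472834 (iv1 F468850)
theorem F525946 : act 0 n223062 = n224615 := d20_4 (iv4 D156159) (iv1 F179642) D202092 D223062 (iv3 D224615) (iv4 D209808) F365539 F240072 (iv3 F325053) (iv1 F422901)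
def n224616 : Q := act 0 n209811
theorem D224616 : act 0 n209811 = n224616 := rfl
theorem F525947 : act 1 n209811 = n224616 := d15_0 (iv0 D224616) (iv7 F525304) F525302
def n224617 : Q := act 5 n209811
theorem D224617 : act 5 n209811 = n224617 := rfl
theorem F525948 : act 2 n224617 = n223062 := d2_1 D224617 (iv5 F525303) F525302
theorem F525949 : act 3 n224617 = n209812 := d6_1 D224617 (iv5 D209812) D209811
theorem F525950 : act 6 n224617 = n209876 := d12_2 (iv6 F456249) D224617 F455234 F400990 D210120
theorem F525951 : act 7 n224617 = n223062 := d13_2 F525304 D224617 (iv5 F525303)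
def n224618 : Q := act 6 n209817
theorem D224618 : act 6 n209817 = n224618 := rfl
theorem F525952 : act 2 n224618 = n223497 := d3_1 D224618 (iv6 F519753) F457726
theorem F525953 : act 4 n224618 = n220469 := d10_1 D224618 F503923 F481849
theorem F525954 : act 5 n224618 = n220152 := d12_1 D224618 (iv6 F502390) F450794 F386802 (iv5 F455054)
theorem F525955 : act 0 n224618 = n210833 := d21_4 F455091 F426770 (iv5 F455054) D224618 F458950 (iv5 D139944) D139942 D210836 (iv6 F498423) F498425
theorem F525956 : act 0 n222850 = n224618 := d21_4 (iv5 F520356) (iv1 F520359) (iv5 F485497) F516411 (iv6 D224618) F455054 F386793 (iv5 F452775) F452778 F484300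
theorem F525957 : act 7 n223496 = n224618 := d13_0 F525954 F502386 (iv5 F519750)
def n224619 : Q := act 4 n209821
theorem D224619 : act 4 n209821 = n224619 := rfl
theorem F525958 : act 2 n224619 = n209822 := d1_1 D224619 (iv4 D209822) D209821
theorem F525959 : act 6 n224619 = n216611 := d10_2 F455089 D224619 (iv4 D216611)
theorem F525960 : act 0 n224619 = n223450 := d18_2 F524626 D224619 (iv4 D223450) (iv5 D203405) F186944 D153742 (iv4 F385262) (iv0 F452709) (iv5 F524624)
theorem F525961 : act 1 n224619 = n215817 := d18_6 (iv1 F475174) F475172 F502300 (iv4 F517576) F517577 D224619 (iv4 F504239) (iv0 F504776) F504775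
def n224620 : Q := act 0 n209822
theorem D224620 : act 0 n209822 = n224620 := rfl
theorem F525962 : act 4 n224620 = n223448 := d18_3 F454744 D209822 D224620 (iv5 D223448) F428163 (iv0 F362004) F165066 (iv0 F409968) D209720
theorem F525963 : act 2 n223450 = n224620 := d1_3 F525962 F519506 D223450
theorem F525964 : act 3 n215821 = n224620 := d5_5 F525962 F519507 F503288 F480688 (iv4 F481696)
theorem F525965 : act 7 n215817 = n224620 := d11_0 F525962 F519508 F504239
def n224621 : Q := act 1 n209822
theorem D224621 : act 1 n209822 = n224621 := rfl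
theorem F525966 : act 7 n224621 = n223450 := d15_2 (iv0 D224620) D224621 F525963
theorem F525967 : act 5 n224621 = n223149 := d18_9 F517885 F456308 D220418 (iv4 F504000) (iv5 F525932) (iv4 D224613) (iv0 F455013) D209822 D224621
theorem F525968 : act 4 n222331 = n224621 := d20_6 (iv4 F452809) (iv1 F452811) F246605 (iv3 F366458) (iv1 F427887) (iv3 F513634) (iv1 D224621) (iv4 D209822) (iv3 D136996) (iv1 F218779)
theorem F525969 : act 3 n213957 = n224621 := d20_9 (iv4 D209822) F455013 D224613 F525931 F473016 F485906 (iv4 F519837) F519838 F484327 (iv1 D224621)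
theorem F525970 : act 6 n213210 = n224621 := d21_3 F429103 F416263 F469447 (iv1 D224621) (iv6 F485374) F504143 F524585 F524584 (iv6 F481495) F481497
theorem F525971 : act 2 n224621 = n215817 := d3_1 F525970 (iv6 D215817) F472396
def n224622 : Q := act 3 n209822
theorem D224622 : act 3 n209822 = n224622 := rfl
theorem F525972 : act 4 n224622 = n209825 := d5_2 D209822 D224622 (iv3 D209825) (iv4 D136997) D136996
theorem F525973 : act 6 n224622 = n220517 := d7_2 F485374 D224622 F504145
theorem F525974 : act 5 n224616 = n224622 := d21_8 (iv5 D215803) F367270 D216575 F485018 F469332 (iv6 F525950) (iv5 D224617) D224616 F525973 F504148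
def n224623 : Q := act 5 n209822
theorem D224623 : act 5 n209822 = n224623 := rfl
theorem F525975 : act 3 n224623 = n224616 := d6_1 D224623 F525974 (iv3 D224622)
theorem F525976 : act 6 n224623 = n224551 := d12_2 F485374 D224623 F525596 F504862 (iv5 F504143)
theorem F525977 : act 7 n224623 = n224554 := d13_2 F525312 D224623 F525606
theorem F525978 : act 4 n224623 = n224425 := d16_2 D209822 D224623 (iv5 F525747) F525746 (iv5 F513640) F453911 (iv5 F525306) F525308 (iv2 D209821)
theorem F525979 : act 0 n224623 = n223146 := d17_2 (iv1 D224621) D224623 (iv5 F519724) F519723 (iv5 F522686) (iv0 F522690) (iv5 F517389) (iv0 F517392) F525968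
theorem F525980 : act 1 n224623 = n223279 := d17_6 F455016 (iv5 F434940) F452600 F422942 D209822 D224623 F518595 (iv0 F507652) F503708
def n224624 : Q := act 3 n209824
theorem D224624 : act 3 n209824 = n224624 := rfl
theorem F525981 : act 5 n224624 = n222036 := d6_2 F517548 D224624 (iv3 F517547)
theorem F525982 : act 6 n224624 = n223147 := d7_2 F455075 D224624 F517875
theorem F525983 : act 0 n224624 = n213207 := d20_4 F452801 (iv1 F396721) (iv4 F455073) D224624 (iv3 F525529) (iv4 D224537) (iv1 F453900) (iv4 F455099) F455098 (iv1 F452799)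
theorem F525984 : act 0 n215820 = n224624 := d20_4 (iv4 F502235) (iv1 F502238) (iv4 F503702) (iv3 F503705) (iv3 D224624) F455073 F396720 (iv4 F452795) F504002 (iv1 F504004)
def n224625 : Q := act 0 n209825
theorem D224625 : act 0 n209825 = n224625 := rfl
theorem F525985 : act 6 n224625 = n223138 := d21_5 (iv5 D102454) D102451 D193883 F455289 D224625 F517841 (iv1 F456271) D210131 F456293 (iv1 D193891)
theorem F525986 : act 1 n209825 = n224625 := d15_0 (iv0 D224625) (iv7 F525317) F525315
def n224626 : Q := act 5 n209827
theorem D224626 : act 5 n209827 = n224626 := rfl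
theorem F525987 : act 2 n224626 = n217236 := d2_1 D224626 (iv5 F498484) F498481
theorem F525988 : act 3 n224626 = n217248 := d6_1 D224626 F499224 (iv3 F499223)
theorem F525989 : act 4 n224626 = n210587 := d9_1 D224626 (iv5 D210587) D210586 (iv5 F458140) F403628 D213887 F472576 F382913 (iv4 F458136) (iv5 D210585) D210584 (iv5 F458133) F403906 (iv5 F473274) F473273
theorem F525990 : act 6 n224626 = n220010 := d12_2 F502237 D224626 (iv5 D220010) F484723 (iv5 F502236)
theorem F525991 : act 7 n224626 = n217116 := d13_2 (iv7 F473270) D224626 F487509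
theorem F525992 : act 0 n224626 = n217235 := d17_2 (iv1 F455081) D224626 (iv5 F498494) (iv4 F485492) (iv5 D213909) F472366 F472364 F472703 (iv4 F472706)
theorem F525993 : act 1 n224626 = n217234 := d17_6 (iv1 F517992) F517994 (iv1 F472582) (iv5 F473274) F473273 D224626 F503592 (iv0 D220399) (iv4 F503588)
def n224627 : Q := act 4 n209830
theorem D224627 : act 4 n209830 = n224627 := rfl
theorem F525994 : act 3 n224627 = n223080 := d5_1 D224627 (iv4 F517564) F517563 F422933 D209830
theorem F525995 : act 5 n224627 = n219927 := d16_3 (iv4 F277618) (iv5 F455093) D224627 F508791 F508790 (iv4 F413255) D204499 F432715 F304594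
theorem F525996 : act 1 n219886 = n224627 := d17_6 (iv1 F388287) (iv5 F412534) F412536 F375355 (iv4 F386644) D219886 F525995 F501230 F469474
def n224628 : Q := act 5 n209835
theorem D224628 : act 5 n209835 = n224628 := rfl
theorem F525997 : act 2 n224628 = n209836 := d2_1 D224628 (iv5 D209836) D209835
theorem F525998 : act 3 n224628 = n213069 := d6_1 D224628 (iv5 F504014) F504012
theorem F525999 : act 7 n224628 = n213255 := d13_2 F503997 D224628 (iv5 F503996)
def n224629 : Q := act 0 n209836
theorem D224629 : act 0 n209836 = n224629 := rfl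
theorem F526000 : act 5 n224629 = n224539 := d17_3 F467234 D209836 D224629 F525537 F460689 (iv0 F460690) (iv5 F467192) (iv0 F467193) (iv4 F423475)
theorem F526001 : act 1 n213255 = n224629 := d15_0 (iv0 D224629) (iv7 F472992) F472988
theorem F526002 : act 6 n220204 = n224629 := d21_3 F458728 (iv1 F388827) D220204 (iv1 F526001) F469579 F458696 (iv1 F479420) (iv5 F501045) (iv6 D219887) F458729
def n224630 : Q := act 1 n209836
theorem D224630 : act 1 n209836 = n224630 := rfl
theorem F526003 : act 1 n224630 = n213255 := d15_1 D224630 (iv7 F525999) F525997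
theorem F526004 : act 4 n224630 = n224547 := d17_9 F525579 (iv5 D218149) (iv1 F465773) (iv5 F465776) (iv4 F485903) F485904 (iv0 D209833) D209836 D224630
theorem F526005 : act 5 n224540 = n224630 := d21_6 F503564 (iv1 F467340) (iv5 D212746) D212747 (iv1 F473249) F525539 (iv1 D224630) (iv5 D209836) F390284 D220394
theorem F526006 : act 6 n213221 = n224630 := d21_9 (iv5 D209836) D209833 (iv5 F485904) (iv6 D216780) F469496 (iv6 D213227) (iv5 D152842) D152839 D213221 (iv1 D224630)
def n224631 : Q := act 4 n209841
theorem D224631 : act 4 n209841 = n224631 := rfl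
theorem F526007 : act 2 n224631 = n223278 := d1_1 D224631 F518590 F504019
theorem F526008 : act 7 n224631 = n223137 := d11_2 F493297 D224631 F517837
theorem F526009 : act 5 n224631 = n220537 := d16_1 D224631 F504246 D222277 (iv4 F514264) F514261 F470370 F467152 (iv7 F504020) F504019
theorem F526010 : act 0 n224631 = n223645 := d17_0 F520512 F502628 (iv5 F517900) F517901 (iv5 D210826) (iv0 F455589) F501898 F501900 D224631
theorem F526011 : act 3 n224631 = n223134 := d19_3 (iv1 F493294) (iv5 F493296) D224631 F517824 (iv5 D210132) (iv4 F400592) (iv3 F459364) F459367 F331089 F169071 (iv3 F331077) D188422 D218058 F491943 (iv3 F478562) (iv1 F505814) F505811 F393921 (iv3 F411560)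
def n224632 : Q := act 6 n209846
theorem D224632 : act 6 n209846 = n224632 := rfl
theorem F526012 : act 2 n224632 = n213638 := d3_1 D224632 F525565 (iv2 F525562)
theorem F526013 : act 3 n224632 = n209848 := d7_1 D224632 (iv6 D209848) (iv3 F455123)
theorem F526014 : act 5 n224632 = n223238 := d12_1 D224632 F518365 (iv5 F499842) F408864 D209846
theorem F526015 : act 0 n224632 = n220664 := d21_10 F504867 (iv1 F500928) F386697 (iv6 F378219) F378222 F454079 (iv5 F473099) (iv1 D209844) D209846 D224632
def n224633 : Q := act 3 n209847
theorem D224633 : act 3 n209847 = n224633 := rfl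
theorem F526016 : act 7 n224633 = n224624 := d8_2 (iv7 F455125) D224633 (iv3 D224624)
theorem F526017 : act 6 n219802 = n224633 := d14_5 F526016 F525982 (iv7 F517876) F485487 (iv7 F500689)
def n224634 : Q := act 6 n209847
theorem D224634 : act 6 n209847 = n224634 := rfl
theorem F526018 : act 2 n224634 = n212735 := d3_1 D224634 (iv6 F467301) (iv2 F455124)
theorem F526019 : act 3 n224634 = n219802 := d7_1 D224634 F526017 (iv3 D224633)
theorem F526020 : act 4 n224634 = n209848 := d10_1 D224634 (iv6 D209848) D209847
theorem F526021 : act 7 n224634 = n213166 := d14_2 (iv7 F455125) D224634 (iv6 D213166) (iv7 F453043) F455075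
theorem F526022 : act 0 n224634 = n224631 := d21_10 F526009 (iv1 F504248) (iv5 F467324) F467325 (iv1 F388346) D202276 (iv5 F423449) (iv1 F459140) F459138 D224634
theorem F526023 : act 5 n219801 = n224634 := d21_2 F517900 F502630 (iv6 D224634) F455126 F452792 (iv5 D202262) F336265 D213153 (iv6 F485103) (iv1 F517899)
theorem F526024 : act 0 n224612 = n224634 := d21_4 (iv5 F440591) (iv1 F440593) (iv5 F467366) (iv6 F525927) (iv6 D224634) (iv5 F459138) F459139 (iv5 F452772) (iv6 F467320) (iv1 F467322)
def n224635 : Q := act 0 n209848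
theorem D224635 : act 0 n209848 = n224635 := rfl
theorem F526025 : act 5 n224635 = n222272 := d17_1 D224635 (iv1 F513284) (iv5 F471212) F471211 F467324 F504248 (iv5 F526009) (iv0 F526022) F526020
theorem F526026 : act 6 n224635 = n220418 := d21_5 (iv5 D64399) D64396 D137009 D209848 D224635 F503686 (iv1 F483881) (iv5 F455141) (iv6 D209853) (iv1 D137014)
theorem F526027 : act 2 n220426 = n224635 := d15_3 (iv0 D224635) (iv0 F457416) (iv7 F503718)
theorem F526028 : act 1 n210273 = n224635 := d15_0 (iv0 D224635) (iv7 F524576) F524573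
theorem F526029 : act 7 n224635 = n212730 := d15_2 (iv0 F457417) F526028 F467287
def n224636 : Q := act 5 n209849
theorem D224636 : act 5 n209849 = n224636 := rfl
theorem F526030 : act 3 n224636 = n223480 := d6_1 D224636 F519671 F489967
theorem F526031 : act 4 n224636 = n216641 := d9_1 D224636 (iv5 F485309) F475226 (iv5 F524593) F524592 F449626 (iv4 F454586) (iv5 F520682) F520681 (iv5 F476004) F476003 (iv5 F517369) (iv4 F517370) (iv5 D209850) D209849
theorem F526032 : act 6 n224636 = n216639 := d12_2 (iv6 F457821) D224636 (iv5 F517726) F517728 F457823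
theorem F526033 : act 7 n224636 = n223693 := d13_2 F501005 D224636 F520766
theorem F526034 : act 0 n224636 = n223015 := d17_2 F517318 D224636 (iv5 D223015) (iv4 F517251) F517252 (iv0 F511964) F511962 (iv0 F500540) (iv4 F517315)
theorem F526035 : act 1 n224636 = n224433 := d17_6 F422931 D223084 F517568 (iv5 D209850) D209849 D224636 (iv5 F525242) (iv0 D224486) F452634
def n224637 : Q := act 3 n209852
theorem D224637 : act 3 n209852 = n224637 := rfl
theorem F526036 : act 4 n224637 = n224485 := d5_2 D209852 D224637 F525237 F471220 (iv3 F452585)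
theorem F526037 : act 5 n224637 = n216784 := d6_2 (iv5 F455136) D224637 F485909
theorem F526038 : act 7 n224637 = n224484 := d8_2 (iv7 F455137) D224637 F525233
theorem F526039 : act 0 n224637 = n224549 := d19_4 (iv1 F218629) (iv5 F220147) D209852 D224637 F525589 F517356 F474929 D214391 F474931 (iv4 D159396) F114273 (iv1 F114976) (iv5 D76650) F55648 (iv3 F55594) (iv1 F55597) (iv5 F52148) D71250 (iv3 F319407)
theorem F526040 : act 1 n224637 = n224548 := d15_1 (iv0 F526039) (iv7 F525584) (iv2 F525588)
theorem F526041 : act 2 n224551 = n224637 := d15_3 F526040 (iv0 D224548) D224551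
def n224638 : Q := act 6 n209852
theorem D224638 : act 6 n209852 = n224638 := rfl
theorem F526042 : act 2 n224638 = n224554 := d3_1 D224638 (iv6 D224554) (iv2 F455135)
theorem F526043 : act 4 n224638 = n209853 := d10_1 D224638 (iv6 D209853) D209852
theorem F526044 : act 0 n224638 = n223279 := d21_4 (iv5 F422875) (iv1 F438144) (iv5 F455136) D224638 (iv6 D223279) F425325 F397529 (iv5 F453044) F455075 (iv1 D209824)
theorem F526045 : act 0 n223146 = n224638 := d21_4 F426874 (iv1 F428854) F428852 D223146 (iv6 D224638) F455136 F438143 F422872 F365480 D203070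
def n224639 : Q := act 0 n209854
theorem D224639 : act 0 n209854 = n224639 := rfl
theorem F526046 : act 4 n224639 = n209876 := d18_3 F525576 F481655 D224639 F455234 F400989 (iv0 F424062) (iv4 F468832) F501231 (iv5 F525574)
theorem F526047 : act 5 n224639 = n220518 := d19_1 D224639 F504151 F458510 F467193 F467192 F454387 (iv3 F419299) (iv1 F375113) D218263 F493023 (iv3 F492473) F471780 (iv5 D206272) F352724 F203889 F111425 D64399 D137015 D209854
theorem F526048 : act 7 n223061 = n224639 := d13_0 F526047 (iv7 F504154) (iv5 F517486)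
def n224640 : Q := act 1 n209854
theorem D224640 : act 1 n209854 = n224640 := rfl
theorem F526049 : act 5 n224640 = n223718 := d17_7 D204589 (iv5 F491053) F491051 (iv5 F413557) (iv4 F459153) F459154 D224640 (iv0 D223718) (iv4 D204590)
theorem F526050 : act 4 n224640 = n223059 := d17_9 F517479 (iv5 D213175) F350661 (iv5 F422873) D223066 F517499 F469544 F459154 D224640
theorem F526051 : act 6 n223061 = n224640 := d21_3 F455093 (iv1 F491071) (iv5 F517486) (iv1 D224640) F455143 (iv5 D193867) F352686 D193281 D220281 (iv1 F517487)
theorem F526052 : act 2 n223061 = n224640 := d1_3 F526050 F517475 D223061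
def n224641 : Q := act 2 n209854
theorem D224641 : act 2 n209854 = n224641 := rfl
theorem F526053 : act 3 n224641 = n213054 := d0_2 D209854 D224641 F468799 F424296 F424290
theorem F526054 : act 4 n224641 = n224431 := d1_2 F481655 D224641 F524931
theorem F526055 : act 5 n224641 = n213066 := d2_2 F459154 D224641 F468840
theorem F526056 : act 6 n224641 = n213053 := d3_2 (iv6 F455143) D224641 F468794
theorem F526057 : act 1 n224641 = n223061 := d15_0 (iv0 F525324) F525323 D224641
def n224642 : Q := act 1 n209857
theorem D224642 : act 1 n209857 = n224642 := rfl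
theorem F526058 : act 7 n224642 = n213168 := d15_2 (iv0 F455155) D224642 F469299
theorem F526059 : act 5 n224642 = n223073 := d17_7 F454744 (iv5 F422942) D223085 F517570 F469572 (iv5 F455153) D224642 (iv0 F525779) (iv4 D224585)
theorem F526060 : act 4 n224642 = n218033 := d17_9 (iv1 F491796) (iv5 F524979) (iv1 F524981) (iv5 F485002) (iv4 F502219) F502220 (iv0 F459141) (iv5 F455153) D224642
theorem F526061 : act 3 n223089 = n224642 := d20_3 F525586 F516524 (iv4 F517593) (iv1 D224642) (iv3 D209857) (iv4 D137025) (iv1 F220145) D209852 D224637 F526039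
theorem F526062 : act 2 n224642 = n213167 := d0_1 F526061 F469295 (iv2 F455024) F455025 (iv2 F517592)
theorem F526063 : act 6 n224642 = n223088 := d7_2 D223089 F526061 (iv3 D223088)
theorem F526064 : act 0 n213054 = n224642 := d20_4 F525591 F524934 (iv4 F526054) F526053 (iv3 F526061) F517593 (iv1 F516004) (iv4 F525581) (iv3 F525583) F525594
def n224643 : Q := act 2 n209857
theorem D224643 : act 2 n209857 = n224643 := rfl
theorem F526065 : act 4 n224643 = n223352 := d1_2 F519380 D224643 (iv2 F519378)
theorem F526066 : act 5 n224643 = n213070 := d2_2 (iv5 F455153) D224643 F468846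
theorem F526067 : act 6 n224643 = n222965 := d3_2 (iv6 F455163) D224643 (iv2 F517016)
theorem F526068 : act 7 n224643 = n213054 := d4_2 (iv7 F455154) D224643 F468799
theorem F526069 : act 1 n224643 = n213167 := d15_0 (iv0 D213167) (iv7 F455154) D224643
theorem F526070 : act 1 n213168 = n224643 := d15_0 F526069 (iv7 F469297) (iv2 F469299)
def n224644 : Q := act 1 n209861
theorem D224644 : act 1 n209861 = n224644 := rfl
theorem F526071 : act 1 n224644 = n215851 := d15_1 D224644 (iv7 F481786) (iv2 F455179)
theorem F526072 : act 7 n224644 = n223473 := d15_2 (iv0 F481735) D224644 (iv2 F519638)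
theorem F526073 : act 4 n224644 = n222355 := d17_9 F513774 D223794 F521317 F488149 (iv4 F452210) F481750 (iv0 F484432) F484430 D224644
theorem F526074 : act 5 n224644 = n216604 := d18_9 (iv1 D216604) F287432 D185072 D216636 F485287 F433599 D204793 (iv4 F455181) D224644
theorem F526075 : act 3 n222989 = n224644 := d19_19 (iv1 D224644) (iv5 F484430) F484429 (iv3 D183876) (iv1 F134712) (iv5 F283666) (iv4 D182225) (iv3 F283663) (iv1 F384279) F384281 D216750 F485770 F381836 (iv5 F369603) (iv4 F480111) (iv3 F480112) (iv1 F433510) (iv5 F476099) (iv4 F517144)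
theorem F526076 : act 6 n222354 = n224644 := d21_3 (iv5 F422301) (iv1 F460487) (iv5 F513767) (iv1 D224644) (iv6 D209861) D209860 (iv1 F517544) (iv5 D223080) (iv6 F460491) (iv1 D211181)
theorem F526077 : act 2 n224644 = n223474 := d3_1 F526076 (iv6 F519644) (iv2 F513766)
def n224645 : Q := act 0 n209863
theorem D224645 : act 0 n209863 = n224645 := rfl
theorem F526078 : act 5 n224645 = n222994 := d17_3 (iv1 D211308) (iv5 F455187) D224645 F517163 F484931 (iv0 F483277) (iv5 D210852) (iv0 F424372) (iv4 F461064)
theorem F526079 : act 4 n224645 = n223677 := d18_1 D224645 F520677 (iv4 F517509) F517510 F518289 (iv0 F518292) F461060 (iv0 D211307) (iv5 F455187)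
theorem F526080 : act 3 n224645 = n222995 := d20_5 (iv4 D213472) F366842 D178073 (iv3 F455185) D224645 F517169 (iv1 F432742) D223648 F520530 F498924
theorem F526081 : act 6 n224645 = n213212 := d21_5 F223386 (iv1 F111510) D137034 D209863 D224645 (iv5 D213212) (iv1 F393262) (iv5 F455151) (iv6 D209856) (iv1 F223384)
theorem F526082 : act 2 n213216 = n224645 := d15_3 (iv0 D224645) (iv0 F518141) F518139
def n224646 : Q := act 4 n209873
theorem D224646 : act 4 n209873 = n224646 := rfl
theorem F526083 : act 2 n224646 = n223032 := d1_1 D224646 (iv4 D223032) (iv2 F455224)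
theorem F526084 : act 3 n224646 = n223341 := d5_1 D224646 F518953 (iv3 F502106) D223753 F521075
theorem F526085 : act 5 n224646 = n223340 := d9_2 F455223 D224646 F518948 (iv5 F519330) (iv4 F522412) F522411 (iv4 F464098) (iv5 F455216) F455220 (iv5 D203384) (iv4 F236050) D212800 (iv4 F501144) F501145 F464093
theorem F526086 : act 7 n224646 = n223035 := d11_2 (iv7 F455222) D224646 (iv4 D223035)
theorem F526087 : act 0 n224646 = n220507 := d17_0 F504110 (iv1 D203393) D203394 (iv4 F503966) F503967 (iv0 D137038) D137041 D209873 D224646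
theorem F526088 : act 1 n224646 = n213238 := d18_6 (iv1 D152840) (iv4 F228067) D212041 F464093 F455223 D224646 (iv4 D213238) (iv0 F469526) (iv5 D213222)
def n224647 : Q := act 6 n209873
theorem D224647 : act 6 n209873 = n224647 := rfl
theorem F526089 : act 2 n224647 = n223033 := d3_1 D224647 (iv6 D223033) (iv2 F455224)
theorem F526090 : act 5 n224647 = n222874 := d12_1 D224647 (iv6 F516528) F504330 F472349 F455223
theorem F526091 : act 1 n214027 = n224647 := d17_6 (iv1 F525226) F525228 F454287 (iv5 F421841) (iv4 F467299) (iv5 F473170) F526090 F525597 F525595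
def n224648 : Q := act 6 n209874
theorem D224648 : act 6 n209874 = n224648 := rfl
theorem F526092 : act 3 n224648 = n209881 := d7_1 D224648 (iv6 D209881) (iv3 F455225)
theorem F526093 : act 4 n224648 = n216385 := d10_1 D224648 (iv6 F525543) F525541
theorem F526094 : act 7 n224648 = n213961 := d14_2 D209874 D224648 (iv6 D213961) (iv7 D156127) (iv6 F220171)
theorem F526095 : act 0 n224648 = n223721 := d21_4 F517320 (iv1 F455202) (iv5 F455226) D224648 (iv6 F520910) F519025 (iv1 F458773) F433014 (iv6 F433015) D223027
theorem F526096 : act 0 n215800 = n224648 := d18_2 F474081 (iv4 F481630) F526093 F484124 F448418 F448416 F276301 F315671 D214225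
def n224649 : Q := act 4 n209879
theorem D224649 : act 4 n209879 = n224649 := rfl
theorem F526097 : act 2 n224649 = n223045 := d1_1 D224649 F517411 F472958
theorem F526098 : act 6 n224649 = n221492 := d10_2 F504706 D224649 F509279
theorem F526099 : act 5 n224649 = n223120 := d16_1 D224649 F517750 (iv5 F498790) (iv4 F510802) F510796 F422764 D202038 (iv7 F472956) F472958
theorem F526100 : act 0 n224649 = n214025 := d17_0 F517754 (iv1 D223121) (iv5 F472987) F472986 (iv5 D209893) (iv0 D137068) (iv5 F220180) D209879 D224649
theorem F526101 : act 3 n213926 = n224649 := d20_5 (iv4 D183874) (iv1 F290194) F339550 (iv3 F245252) D213926 (iv4 D224649) (iv1 D209879) (iv4 F455236) (iv3 F472826) F472829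
def n224650 : Q := act 6 n209880
theorem D224650 : act 6 n209880 = n224650 := rfl
theorem F526102 : act 2 n224650 = n224356 := d3_1 D224650 F524497 F472963
theorem F526103 : act 3 n224650 = n213961 := d7_1 D224650 (iv6 D213961) (iv3 F455237)
theorem F526104 : act 4 n224650 = n215923 := d10_1 D224650 F482106 F473229
theorem F526105 : act 5 n224650 = n224648 := d12_1 D224650 (iv6 D224648) F455226 (iv6 F220237) (iv5 F455238)
theorem F526106 : act 7 n224650 = n209881 := d14_2 D209880 D224650 (iv6 D209881) (iv7 D137047) D137046
theorem F526107 : act 0 n223049 = n224650 := d21_4 (iv5 F432993) (iv1 F400985) D202078 D223049 (iv6 D224650) F455238 (iv1 F245390) D213975 (iv6 F472949) (iv1 F432995)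
def n224651 : Q := act 1 n209881
theorem D224651 : act 1 n209881 = n224651 := rfl
theorem F526108 : act 1 n224651 = n224356 := d15_1 D224651 F524498 F472993
theorem F526109 : act 7 n224651 = n223049 := d15_2 F519703 D224651 (iv2 F519699)
theorem F526110 : act 5 n224651 = n224334 := d17_7 F386558 (iv5 D154557) (iv1 F310394) D183393 (iv4 F472899) F472900 D224651 F524384 (iv4 D219861)
theorem F526111 : act 4 n224651 = n223112 := d18_7 (iv1 F469285) F469287 (iv1 F458991) F422674 D222999 F517187 D224651 F517708 (iv5 D215921)
def n224652 : Q := act 5 n209886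
theorem D224652 : act 5 n209886 = n224652 := rfl
theorem F526112 : act 2 n224652 = n221822 := d2_1 D224652 (iv5 D221822) F472454
theorem F526113 : act 3 n224652 = n219820 := d6_1 D224652 F500749 (iv3 F455255)
theorem F526114 : act 7 n224652 = n221824 := d13_2 F472456 D224652 (iv5 D221824)
def n224653 : Q := act 5 n209887
theorem D224653 : act 5 n209887 = n224653 := rfl
theorem F526115 : act 2 n224653 = n221824 := d2_1 D224653 (iv5 D221824) (iv2 F472457)
theorem F526116 : act 7 n224653 = n221822 := d13_2 (iv7 F472455) D224653 (iv5 D221822)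
def n224654 : Q := act 1 n209888
theorem D224654 : act 1 n209888 = n224654 := rfl
theorem F526117 : act 1 n224654 = n221827 := d15_1 D224654 (iv7 D221827) (iv2 F455258)
theorem F526118 : act 7 n224654 = n221825 := d15_2 F517084 D224654 (iv2 F517082)
theorem F526119 : act 5 n224654 = n221855 := d17_7 (iv1 F472782) F472780 (iv1 D209879) F220180 (iv4 F220235) D209888 D224654 F517080 F517074
theorem F526120 : act 2 n221826 = n224654 := d2_3 F526119 (iv2 F517086) F517087
def n224655 : Q := act 7 n209888
theorem D224655 : act 7 n209888 = n224655 := rfl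
theorem F526121 : act 2 n224655 = n221827 := d4_1 D224655 (iv7 D221827) (iv2 F455258)
theorem F526122 : act 3 n224655 = n213954 := d8_1 D224655 (iv7 D213954) (iv3 F455259)
theorem F526123 : act 5 n224655 = n209889 := d13_1 D224655 (iv7 D209889) D209888
theorem F526124 : act 1 n221826 = n224655 := d15_1 D221826 (iv7 D224655) F455258
theorem F526125 : act 1 n224655 = n221825 := d15_1 F526124 (iv7 F526118) (iv2 F526120)
def n224656 : Q := act 1 n209895
theorem D224656 : act 1 n209895 = n224656 := rfl
theorem F526126 : act 1 n224656 = n219761 := d15_1 D224656 (iv7 F525519) F525516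
theorem F526127 : act 7 n224656 = n220544 := d15_2 F500484 D224656 F504280
theorem F526128 : act 4 n224656 = n219747 := d18_7 (iv1 F434656) (iv4 F509879) F509881 (iv4 F482528) D224406 F524783 D224656 (iv0 F500407) F385973
theorem F526129 : act 3 n213955 = n224656 := d20_3 F473141 F393758 (iv4 F482157) (iv1 D224656) (iv3 D209895) (iv4 F472240) (iv1 D197331) F167169 (iv3 F245475) D214015
theorem F526130 : act 6 n220696 = n224656 := d21_3 (iv5 F521066) F521067 (iv5 F505027) (iv1 D224656) F462673 (iv5 F504323) (iv1 F504324) F457823 (iv6 F457821) F455129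
theorem F526131 : act 2 n224656 = n220543 := d3_1 F526130 (iv6 F517258) F517257
def n224657 : Q := act 5 n209895
theorem D224657 : act 5 n209895 = n224657 := rfl
theorem F526132 : act 3 n224657 = n209897 := d6_1 D224657 (iv5 D209897) D209895
theorem F526133 : act 7 n224657 = n220551 := d13_2 (iv7 F455290) D224657 (iv5 D220551)
theorem F526134 : act 0 n224657 = n223139 := d17_2 (iv1 D224656) D224657 F517847 F433635 F198919 D179771 (iv5 F391275) (iv0 F500406) (iv4 F526128)
theorem F526135 : act 1 n224657 = n213208 := d17_6 F503025 F476014 F450546 D224406 F524783 D224657 F469443 (iv0 F454593) (iv4 F503020)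
def n224658 : Q := act 1 n209903
theorem D224658 : act 1 n209903 = n224658 := rfl
theorem F526136 : act 1 n224658 = n209907 := d15_1 D224658 (iv7 F456084) F456083
theorem F526137 : act 7 n224658 = n219768 := d15_2 (iv0 F455311) D224658 F500525
theorem F526138 : act 4 n224658 = n210094 := d18_7 (iv1 F425780) (iv4 F452677) F452680 (iv4 D137075) D137076 D209903 D224658 F456130 F391898
theorem F526139 : act 3 n209914 = n224658 := d20_3 F483121 (iv1 F340527) D209914 (iv1 D224658) (iv3 F504954) F504955 (iv1 F392371) D194212 F455348 F483122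
theorem F526140 : act 6 n222206 = n224658 := d21_3 (iv5 F477772) F494245 (iv5 F512912) (iv1 D224658) (iv6 F494479) (iv5 D218560) (iv1 F376659) (iv5 F494071) F494072 F477759
theorem F526141 : act 2 n224658 = n220614 := d3_1 F526140 (iv6 F504636) (iv2 F512909)
theorem F526142 : act 5 n220622 = n224658 := d9_0 F526138 (iv5 D210094) (iv4 F333092) F333093 F245960 D196040 (iv4 F504631) (iv5 D220613) (iv4 D194057) (iv5 D102618) F74849 D47597 D102631 D194073 D220622
def n224659 : Q := act 5 n209903
theorem D224659 : act 5 n209903 = n224659 := rfl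
theorem F526143 : act 2 n224659 = n222663 := d2_1 D224659 F515439 F456083
theorem F526144 : act 3 n224659 = n222652 := d6_1 D224659 F515392 F504954
theorem F526145 : act 6 n224659 = n222644 := d12_2 F494479 D224659 F515351 (iv6 D218561) D218560
theorem F526146 : act 7 n224659 = n222662 := d13_2 F456078 D224659 F515433
theorem F526147 : act 4 n224659 = n209954 := d16_2 D209903 D224659 F455515 (iv4 D194068) (iv5 F361813) (iv4 D137079) D137080 F220896 (iv2 F220895)
theorem F526148 : act 0 n224659 = n222655 := d17_2 (iv1 D224658) D224659 (iv5 F515404) F504977 F392407 F396255 (iv5 F225389) (iv0 F456129) (iv4 F526138)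
theorem F526149 : act 1 n224659 = n222666 := d17_6 (iv1 D137085) (iv5 D64441) D64438 D137076 D209903 D224659 F515457 (iv0 F504974) (iv4 D209914)
def n224660 : Q := act 5 n209907
theorem D224660 : act 5 n209907 = n224660 := rfl
theorem F526150 : act 2 n224660 = n222662 := d2_1 D224660 F515433 F456076
theorem F526151 : act 3 n224660 = n222666 := d6_1 D224660 F515457 F504971
theorem F526152 : act 4 n224660 = n209953 := d9_1 D224660 F455511 (iv4 D194070) (iv5 F364746) (iv4 D137075) D137076 D209903 D224659 F526147 F455515 (iv4 D194068) (iv5 F361813) (iv4 D137079) D137080 D209907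
theorem F526153 : act 6 n224660 = n222666 := d12_2 F494390 D224660 F515457 (iv6 D220682) (iv5 F494384)
theorem F526154 : act 7 n224660 = n222663 := d13_2 F456084 D224660 F515439
theorem F526155 : act 0 n224660 = n222666 := d17_2 (iv1 F455331) D224660 F515457 F504972 F425784 F425780 (iv5 F391898) (iv0 D194056) D194057
theorem F526156 : act 1 n224660 = n222655 := d17_6 F340521 (iv5 F331273) (iv1 F218674) D137080 D209907 D224660 (iv5 F515404) F504980 (iv4 D209912)
def n224661 : Q := act 1 n209908
theorem D224661 : act 1 n209908 = n224661 := rfl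
theorem F526157 : act 1 n224661 = n218484 := d15_1 D224661 F494120 F456080
theorem F526158 : act 7 n224661 = n222611 := d15_2 (iv0 F474760) D224661 F515169
theorem F526159 : act 5 n224661 = n219165 := d17_7 (iv1 F477511) (iv5 D204072) (iv1 D122588) D122590 D204077 (iv5 F474759) D224661 F497524 (iv4 F477509)
theorem F526160 : act 3 n215655 = n224661 := d19_19 (iv1 D224661) F474759 (iv4 D204077) F196333 (iv1 F115559) F115561 (iv4 D55355) F42978 F43510 (iv5 D26962) F21413 F21412 (iv1 F17518) (iv5 F28577) D36417 D79949 D166575 (iv5 F476728) (iv4 F480981)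
theorem F526161 : act 6 n215654 = n224661 := d21_3 (iv5 F477505) (iv1 F477506) D215654 (iv1 D224661) (iv6 D209908) (iv5 D137080) (iv1 D64439) D64441 D137087 (iv1 F382761)
theorem F526162 : act 2 n224661 = n223300 := d3_1 F526161 F518708 (iv2 F494369)
theorem F526163 : act 4 n224661 = n218641 := d10_1 F526161 F494924 F494915
def n224662 : Q := act 3 n209910
theorem D224662 : act 3 n209910 = n224662 := rfl
theorem F526164 : act 5 n224662 = n222660 := d6_2 F525286 D224662 (iv3 F525285)
theorem F526165 : act 6 n224662 = n224308 := d7_2 F498400 D224662 F524227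
theorem F526166 : act 0 n224662 = n224247 := d20_4 (iv4 D220617) F391949 D209910 D224662 F523881 (iv4 D224044) F440515 D210080 (iv3 F515449) (iv1 F515454)
theorem F526167 : act 0 n224247 = n224662 := d20_4 (iv4 D210078) (iv1 F440516) D224044 (iv3 F523881) (iv3 D224662) (iv4 D209910) F391913 D220615 F504638 F500526
def n224663 : Q := act 5 n209914
theorem D224663 : act 5 n209914 = n224663 := rfl
theorem F526168 : act 3 n224663 = n220622 := d6_1 D224663 F526142 (iv3 F526139)
theorem F526169 : act 4 n224663 = n209952 := d9_1 D224663 (iv5 D209952) F383838 F383836 F333095 (iv5 F340520) D209912 (iv5 F521612) F521611 F435467 (iv4 F367711) F367709 F333104 (iv5 F221261) D209914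
theorem F526170 : act 6 n224663 = n223846 := d12_2 (iv6 F494248) D224663 F521608 (iv6 D218517) D218516
def n224664 : Q := act 6 n209918
theorem D224664 : act 6 n209918 = n224664 := rfl
theorem F526171 : act 2 n224664 = n222659 := d3_1 D224664 (iv6 F525287) F525284
theorem F526172 : act 3 n224664 = n222906 := d7_1 D224664 (iv6 F522726) F522725
theorem F526173 : act 4 n224664 = n210100 := d10_1 D224664 (iv6 F525280) F525279
theorem F526174 : act 5 n224664 = n210082 := d12_1 D224664 (iv6 F494167) F494166 (iv6 D209919) D209918
theorem F526175 : act 7 n224664 = n222667 := d14_2 F522727 D224664 F515460 (iv7 F516697) (iv6 F522726)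
theorem F526176 : act 0 n224664 = n224493 := d21_4 (iv5 F515373) (iv1 D209917) D209918 D224664 F525287 F515422 F455489 D224045 F522705 F515374
theorem F526177 : act 0 n224048 = n224664 := d21_4 (iv5 F516217) F516220 D222906 (iv6 F522726) (iv6 D224664) (iv5 D209918) D209916 (iv5 F515710) F515711 (iv1 F515361)
def n224665 : Q := act 3 n209955
theorem D224665 : act 3 n209955 = n224665 := rfl
theorem F526178 : act 2 n224665 = n222660 := d0_1 D224665 (iv3 F525285) F525284 (iv3 F522725) F522724
theorem F526179 : act 4 n224665 = n222651 := d5_2 D209955 D224665 F515390 (iv4 F438906) F438903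
theorem F526180 : act 6 n224665 = n222650 := d7_2 (iv6 F515420) D224665 F515419
theorem F526181 : act 7 n224665 = n222660 := d8_2 F525288 D224665 (iv3 F525285)
theorem F526182 : act 0 n224665 = n224665 := d20_4 F526147 (iv1 D209954) D209955 D224665 (iv3 D224665) (iv4 D209955) D209953 (iv4 F526152) F526151 (iv1 F526149)
def n224666 : Q := act 0 n209983
theorem D224666 : act 0 n209983 = n224666 := rfl
theorem F526183 : act 5 n224666 = n214269 := d17_1 D224666 F474328 (iv5 F509874) F509870 (iv5 F411234) D220320 (iv5 F503176) (iv0 D209984) (iv4 F455626)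
theorem F526184 : act 4 n224666 = n210332 := d18_1 D224666 F457065 (iv4 F473902) F473903 D222334 (iv0 F513653) (iv4 F461381) (iv0 F511645) F511643
theorem F526185 : act 3 n224666 = n214270 := d20_5 D153692 F306651 (iv4 F361906) (iv3 F455625) D224666 F474333 (iv1 D213346) F241381 (iv3 D72721) D72719
theorem F526186 : act 6 n224666 = n210331 := d21_5 F455732 (iv1 F455622) (iv5 D209982) D209983 D224666 F457060 F407749 (iv5 F457625) F457626 (iv1 F455734)
theorem F526187 : act 1 n219670 = n224666 := d15_0 (iv0 D224666) F455627 (iv2 F499962)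
theorem F526188 : act 2 n224032 = n224666 := d3_3 F526186 (iv2 F473497) F522640
theorem F526189 : act 7 n222048 = n224666 := d14_0 F526186 F457059 (iv6 F458337) (iv7 F497962) (iv6 F512081)
def n224667 : Q := act 1 n209983
theorem D224667 : act 1 n209983 = n224667 := rfl
theorem F526190 : act 1 n224667 = n219670 := d15_1 D224667 (iv7 F525336) F525332
theorem F526191 : act 7 n224667 = n224032 := d15_2 (iv0 D224666) D224667 F526188
theorem F526192 : act 5 n224667 = n222087 := d17_7 (iv1 F453790) F453787 D209984 F503176 (iv4 F511642) F511643 D224667 (iv0 D222087) F407615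
theorem F526193 : act 4 n224667 = n210341 := d18_7 F483862 (iv4 F449931) D221589 F509738 F453787 (iv4 F455626) D224667 F457108 (iv5 F483860)
theorem F526194 : act 3 n214179 = n224667 := d19_19 (iv1 D224667) (iv5 F511643) F511642 F503179 F501975 F487372 F424987 (iv3 F385932) (iv1 D136289) (iv5 F110939) F110938 F105207 D69001 (iv5 F310749) (iv4 F127500) F127499 D101467 F343422 (iv4 F473872)
theorem F526195 : act 6 n210653 = n224667 := d21_3 (iv5 F392154) (iv1 F381845) (iv5 F458341) (iv1 D224667) (iv6 D209983) D209982 F455624 (iv5 F455738) (iv6 F480085) (iv1 F480087)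
theorem F526196 : act 2 n224667 = n222048 := d3_1 F526195 F512081 F497960
def n224668 : Q := act 4 n210020
theorem D224668 : act 4 n210020 = n224668 := rfl
theorem F526197 : act 2 n224668 = n219239 := d1_1 D224668 (iv4 D219239) (iv2 F455780)
theorem F526198 : act 3 n224668 = n218058 := d5_1 D224668 F491943 (iv3 F478562) F478561 F471115
theorem F526199 : act 6 n224668 = n210023 := d10_2 (iv6 F455781) D224668 (iv4 D210023)
theorem F526200 : act 7 n224668 = n219240 := d11_2 (iv7 F455782) D224668 (iv4 D219240)
theorem F526201 : act 5 n224668 = n218057 := d16_1 D224668 (iv4 F516609) F516610 (iv4 F447123) (iv5 F477836) F477835 D215025 F477953 (iv2 F455780)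
theorem F526202 : act 0 n224668 = n214949 := d18_2 F524191 D224668 (iv4 F495603) F495600 (iv4 F510299) (iv0 F513159) F513157 F497067 D224302
def n224669 : Q := act 6 n210022
theorem D224669 : act 6 n210022 = n224669 := rfl
theorem F526203 : act 2 n224669 = n222224 := d3_1 D224669 F513011 F455796
theorem F526204 : act 3 n224669 = n217778 := d7_1 D224669 F490573 F463194
theorem F526205 : act 4 n224669 = n217378 := d10_1 D224669 (iv6 F488649) (iv4 F455795)
theorem F526206 : act 5 n224669 = n217475 := d12_1 D224669 (iv6 F489051) (iv5 D198701) (iv6 F408390) (iv5 F455794)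
theorem F526207 : act 7 n224669 = n220293 := d14_2 (iv7 F455793) D224669 F503065 (iv7 F476537) (iv6 F476540)
def n224670 : Q := act 3 n210023
theorem D224670 : act 3 n210023 = n224670 := rfl
theorem F526208 : act 4 n224670 = n215146 := d5_2 D210023 D224670 (iv3 D215146) (iv4 F463198) F455778
theorem F526209 : act 5 n224670 = n224040 := d6_2 (iv5 F455799) D224670 F522673
theorem F526210 : act 6 n224670 = n218058 := d7_2 F526199 D224670 (iv3 F526198)
theorem F526211 : act 7 n224670 = n224589 := d8_2 (iv7 F455798) D224670 F525804
theorem F526212 : act 0 n212845 = n224670 := d20_4 F433476 F224891 F343805 (iv3 F467753) (iv3 D224670) (iv4 D210023) D210021 (iv4 F455789) F455790 D204758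
def n224671 : Q := act 0 n210039
theorem D224671 : act 0 n210039 = n224671 := rfl
theorem F526213 : act 5 n224671 = n210572 := d17_1 D224671 (iv1 D210572) (iv5 F420731) F420730 (iv5 F428118) (iv0 F519423) F519421 (iv0 F460643) (iv4 F455877)
theorem F526214 : act 4 n224671 = n211354 := d18_1 D224671 F461252 (iv4 D211172) (iv5 D141163) F333125 D102603 D194037 (iv0 F391833) D210039
theorem F526215 : act 3 n224671 = n210912 := d20_5 D141200 (iv1 F372584) (iv4 F372565) (iv3 F455874) D224671 F459260 (iv1 F350420) (iv4 F387571) F387570 (iv1 F181208)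
theorem F526216 : act 6 n224671 = n217911 := d21_5 (iv5 D191684) F350429 (iv5 F454248) (iv6 F455875) D224671 (iv5 F491221) (iv1 F483529) (iv5 F525068) F525069 (iv1 D219546)
theorem F526217 : act 2 n211587 = n224671 := d15_3 (iv0 D224671) (iv0 F489566) F489565
theorem F526218 : act 1 n210040 = n224671 := d15_0 (iv0 D224671) F455876 (iv2 F455878)
theorem F526219 : act 7 n224671 = n211586 := d15_2 F489567 F526218 (iv2 F489561)
def n224672 : Q := act 1 n210057
theorem D224672 : act 1 n210057 = n224672 := rfl
theorem F526220 : act 1 n224672 = n223895 := d15_1 D224672 (iv7 F524477) F524474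
theorem F526221 : act 7 n224672 = n224086 := d15_2 (iv0 F465695) D224672 F522954
theorem F526222 : act 5 n224672 = n223368 := d17_7 (iv1 F483977) (iv5 D210195) F454086 (iv5 F454607) D224577 F525732 D224672 F519094 (iv4 F483973)
theorem F526223 : act 4 n224672 = n217635 := d17_9 (iv1 F490158) F486900 (iv1 D216994) (iv5 F374655) (iv4 F492722) (iv5 F502457) (iv0 F525735) F525732 D224672
theorem F526224 : act 3 n223632 = n224672 := d19_19 (iv1 D224672) (iv5 F525732) (iv4 D224577) (iv3 D209681) (iv1 F220022) F219658 F169564 F79927 (iv1 F38642) (iv5 F38681) (iv4 F322599) (iv3 F56119) D77538 D161504 F299041 D170664 (iv1 F358462) (iv5 F439914) D223632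
theorem F526225 : act 2 n224672 = n217630 := d0_1 F526224 (iv3 D217630) F371172 D212415 (iv2 F520436)
def n224673 : Q := act 6 n210061
theorem D224673 : act 6 n210061 = n224673 := rfl
theorem F526226 : act 2 n224673 = n223394 := d3_1 D224673 F519249 (iv2 F455993)
theorem F526227 : act 3 n224673 = n217639 := d7_1 D224673 (iv6 D217639) (iv3 F455994)
theorem F526228 : act 4 n224673 = n223613 := d10_1 D224673 (iv6 D223613) (iv4 F455995)
theorem F526229 : act 5 n224673 = n223171 := d12_1 D224673 F517999 F480601 (iv6 D210062) D210061
theorem F526230 : act 7 n224673 = n213334 := d14_2 (iv7 F455996) D224673 (iv6 D213334) F241337 D203217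
theorem F526231 : act 0 n224673 = n223393 := d21_4 F449752 (iv1 F220596) D210061 D224673 (iv6 F519243) F518881 (iv1 F426405) D203079 F426897 D208531
theorem F526232 : act 0 n220436 = n224673 := d21_4 (iv5 D209012) (iv1 F219632) (iv5 F390640) D220436 (iv6 D224673) (iv5 D210061) (iv1 D137394) D137395 F220598 (iv1 F451841)
def n224674 : Q := act 3 n210076
theorem D224674 : act 3 n210076 = n224674 := rfl
theorem F526233 : act 2 n224674 = n224247 := d0_1 D224674 F523881 F522697 F440517 (iv2 F456069)
theorem F526234 : act 4 n224674 = n219307 := d5_2 D210076 D224674 F498230 F440536 F440531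
theorem F526235 : act 7 n224674 = n224247 := d8_2 F522700 D224674 F523881
theorem F526236 : act 6 n219306 = n224674 := d14_5 F526235 (iv6 D224247) (iv7 F508688) F523755 F523752
def n224675 : Q := act 6 n210076
theorem D224675 : act 6 n210076 = n224675 := rfl
theorem F526237 : act 2 n224675 = n210085 := d3_1 D224675 (iv6 D210085) (iv2 F456069)
theorem F526238 : act 3 n224675 = n219306 := d7_1 D224675 F526236 (iv3 D224674)
theorem F526239 : act 4 n224675 = n210077 := d10_1 D224675 (iv6 D210077) D210076
theorem F526240 : act 0 n224675 = n221317 := d21_4 (iv5 F521739) (iv1 F525355) F525352 D224675 F508344 (iv5 F493726) (iv1 F493729) (iv5 F483101) F483099 F493970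
theorem F526241 : act 5 n224675 = n219306 := d21_6 F492234 F448308 (iv5 F494551) F494552 (iv1 F456071) D224675 (iv1 F508388) F508387 F489821 D218121
theorem F526242 : act 0 n218458 = n224675 := d21_4 (iv5 D217025) F367594 D189316 D218458 (iv6 D224675) (iv5 F525352) F525354 F521733 (iv6 D218453) (iv1 F487043)
def n224676 : Q := act 6 n210084
theorem D224676 : act 6 n210084 = n224676 := rfl
theorem F526243 : act 3 n224676 = n210103 := d7_1 D224676 (iv6 F522705) F522704
theorem F526244 : act 5 n224676 = n224247 := d12_1 D224676 (iv6 D224247) F456098 (iv6 D210085) D210084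
def n224677 : Q := act 7 n210085
theorem D224677 : act 7 n210085 = n224677 := rfl
theorem F526245 : act 3 n224677 = n222515 := d8_1 D224677 F514660 F512828
theorem F526246 : act 4 n224677 = n210087 := d11_1 D224677 (iv7 D210087) (iv4 F456097)
theorem F526247 : act 5 n224677 = n221375 := d13_1 D224677 F508688 F456098
theorem F526248 : act 6 n224677 = n222515 := d14_1 D224677 F514660 F512829 F440518 D210085
theorem F526249 : act 1 n218458 = n224677 := d15_1 (iv0 F526242) (iv7 D224677) (iv2 F526237)
theorem F526250 : act 1 n224677 = n221317 := d15_1 F526249 F508345 (iv2 F493993)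
def n224678 : Q := act 6 n210095
theorem D224678 : act 6 n210095 = n224678 := rfl
theorem F526251 : act 2 n224678 = n219459 := d3_1 D224678 (iv6 D219459) F456133
theorem F526252 : act 3 n224678 = n219720 := d7_1 D224678 (iv6 D219720) F456136
theorem F526253 : act 4 n224678 = n215596 := d10_1 D224678 (iv6 D215596) (iv4 F456132)
theorem F526254 : act 5 n224678 = n217079 := d12_1 D224678 F487303 (iv5 F500249) (iv6 D219719) (iv5 F456131)
theorem F526255 : act 7 n224678 = n220365 := d14_2 (iv7 F456135) D224678 F503422 F498989 (iv6 D219461)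
theorem F526256 : act 0 n224678 = n214870 := d21_4 D99736 (iv1 F385709) (iv5 F456131) D224678 F477215 (iv5 D163254) F325182 D109425 F349517 (iv1 D99734)
theorem F526257 : act 0 n219156 = n224678 := d21_4 (iv5 F378375) F387242 (iv5 F427587) (iv6 F497471) (iv6 D224678) F456131 F385671 F156827 D101886 (iv1 F368759)
def n224679 : Q := act 5 n210098
theorem D224679 : act 5 n210098 = n224679 := rfl
theorem F526258 : act 2 n224679 = n211569 := d2_1 D224679 (iv5 D211569) (iv2 F456145)
theorem F526259 : act 3 n224679 = n210101 := d6_1 D224679 (iv5 D210101) (iv3 F456146)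
theorem F526260 : act 6 n224679 = n211649 := d12_2 D210098 D224679 F462508 F385502 (iv5 F220893)
theorem F526261 : act 7 n224679 = n217247 := d13_2 (iv7 F456148) D224679 F488100
theorem F526262 : act 4 n224679 = n210859 := d16_2 (iv4 F456147) D224679 (iv5 D210859) F348290 F307714 (iv4 F304747) D186805 F368071 (iv2 F385391)
theorem F526263 : act 1 n224679 = n213770 := d17_6 (iv1 F368074) (iv5 D99595) D99593 D192061 (iv4 F456147) D224679 F472021 F456794 F380747
def n224680 : Q := act 5 n210119
theorem D224680 : act 5 n210119 = n224680 := rfl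
theorem F526264 : act 2 n224680 = n210120 := d2_1 D224680 (iv5 D210120) D210119
theorem F526265 : act 3 n224680 = n212742 := d6_1 D224680 F467318 (iv3 F456240)
theorem F526266 : act 6 n224680 = n224496 := d12_2 (iv6 F456241) D224680 F525303 F517488 F469340
theorem F526267 : act 7 n224680 = n220118 := d13_2 F472714 D224680 F502208
theorem F526268 : act 0 n224680 = n220124 := d17_2 (iv1 F456242) D224680 F502241 (iv4 F459165) (iv5 F461492) (iv0 F502176) (iv5 D220111) (iv0 F469674) F436685
theorem F526269 : act 1 n224680 = n213159 := d17_6 D141950 F381929 (iv1 F498057) F498054 (iv4 F456243) D224680 (iv5 D213159) (iv0 F366261) F179805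
def n224681 : Q := act 3 n210121
theorem D224681 : act 3 n210121 = n224681 := rfl
theorem F526270 : act 2 n224681 = n219801 := d0_1 D224681 (iv3 D219801) (iv2 F433562) F433563 F456253
theorem F526271 : act 4 n224681 = n220448 := d5_2 (iv4 F456252) D224681 (iv3 D220448) (iv4 D193700) (iv3 F337140)
theorem F526272 : act 5 n224681 = n212735 := d6_2 F456254 D224681 (iv3 D212735)
theorem F526273 : act 6 n224681 = n223121 := d7_2 F467431 D224681 (iv3 F517753)
theorem F526274 : act 7 n224681 = n215922 := d8_2 (iv7 F456251) D224681 F482103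
theorem F526275 : act 0 n224681 = n213161 := d20_4 (iv4 D149238) D149236 (iv4 F456252) D224681 (iv3 D213161) (iv4 F315876) (iv1 F457172) F457169 F467357 (iv1 F467356)
theorem F526276 : act 0 n210126 = n224681 := d20_4 F521306 (iv1 F513036) (iv4 D210127) D210126 (iv3 D224681) F456252 (iv1 F337142) F337146 (iv3 F433674) D223793
def n224682 : Q := act 5 n210126
theorem D224682 : act 5 n210126 = n224682 := rfl
theorem F526277 : act 2 n224682 = n223153 := d2_1 D224682 F517900 F502625
theorem F526278 : act 3 n224682 = n210128 := d6_1 D224682 (iv5 D210128) D210126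
theorem F526279 : act 4 n224682 = n219367 := d16_2 F493581 D224682 (iv5 F498507) (iv4 F464461) (iv5 F513393) F513392 F513324 F457196 (iv2 F493579)
theorem F526280 : act 0 n224682 = n212743 := d17_2 F501432 D224682 F467324 (iv4 F500837) (iv5 F514205) (iv0 F514208) (iv5 F499853) (iv0 F501431) F501428
theorem F526281 : act 1 n224682 = n220539 := d17_6 (iv1 F423616) (iv5 F450494) F487548 (iv5 F493582) F493581 D224682 (iv5 D220539) (iv0 F469231) F469228
theorem F526282 : act 6 n224548 = n224682 := d21_5 (iv5 F422872) (iv1 F454095) (iv5 D209549) (iv6 F454091) D224548 (iv5 D224682) F526276 F526272 (iv6 F467301) (iv1 F455070)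
theorem F526283 : act 7 n224682 = n223140 := d14_2 F525584 F526282 F517849 (iv7 F504331) F516528
def n224683 : Q := act 7 n210126
theorem D224683 : act 7 n210126 = n224683 := rfl
theorem F526284 : act 2 n224683 = n213161 := d4_1 D224683 F502629 F502625
theorem F526285 : act 3 n224683 = n210129 := d8_1 D224683 (iv7 D210129) D210126
theorem F526286 : act 4 n224683 = n224338 := d11_1 D224683 F524406 F493581
theorem F526287 : act 5 n224683 = n223140 := d13_1 D224683 (iv7 F526283) (iv5 D224682)
theorem F526288 : act 6 n224683 = n223200 := d14_1 D224683 F518149 F455646 (iv7 F493574) (iv6 F493578)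
theorem F526289 : act 1 n215922 = n224683 := d15_1 (iv0 F502628) (iv7 D224683) (iv2 F502625)
theorem F526290 : act 1 n224683 = n219801 := d15_1 F526289 F500687 F482124
def n224684 : Q := act 4 n210131
theorem D224684 : act 4 n210131 = n224684 := rfl
theorem F526291 : act 2 n224684 = n223141 := d1_1 D224684 (iv4 D223141) (iv2 F456297)
theorem F526292 : act 3 n224684 = n223007 := d5_1 D224684 F517220 F449223 (iv4 F431869) (iv3 F456292)
theorem F526293 : act 5 n224684 = n224656 := d9_2 D210131 D224684 F526128 F500403 (iv4 F458577) F458576 (iv4 D210127) D210128 (iv4 F519538) F519539 F452619 (iv5 F409143) F409142 D198769 F409156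
theorem F526294 : act 6 n224684 = n220509 := d10_2 (iv6 F456293) D224684 F504118
theorem F526295 : act 7 n224684 = n223142 := d11_2 (iv7 F456294) D224684 (iv4 D223142)
theorem F526296 : act 0 n224684 = n220630 := d18_2 F456295 D224684 F504710 F467346 F422477 F449042 (iv4 F423382) (iv0 D202245) D202247
def n224685 : Q := act 6 n210135
theorem D224685 : act 6 n210135 = n224685 := rfl
theorem F526297 : act 2 n224685 = n224625 := d3_1 D224685 F525985 (iv2 F517842)
theorem F526298 : act 3 n224685 = n210137 := d7_1 D224685 (iv6 D210137) (iv3 F456303)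
theorem F526299 : act 5 n224685 = n224615 := d12_1 D224685 F525944 F472764 F245254 (iv5 F456304)
theorem F526300 : act 7 n224685 = n224625 := d14_2 D210135 D224685 F525985 F517844 F456302
theorem F526301 : act 0 n224685 = n224499 := d21_4 (iv5 F456278) (iv1 F456280) (iv5 F456304) D224685 F525316 (iv5 D219760) (iv1 D192203) D192205 (iv6 F481810) (iv1 F481813)
theorem F526302 : act 0 n224499 = n224685 := d21_4 (iv5 D193869) (iv1 F385981) D219760 (iv6 F525316) (iv6 D224685) F456304 (iv1 F456284) (iv5 F456298) F500497 (iv1 F500493)
def n224686 : Q := act 6 n210136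
theorem D224686 : act 6 n210136 = n224686 := rfl
theorem F526303 : act 2 n224686 = n220420 := d3_1 D224686 (iv6 D220420) (iv2 F456305)
theorem F526304 : act 3 n224686 = n224625 := d7_1 D224686 F525985 (iv3 F517845)
theorem F526305 : act 4 n224686 = n220419 := d10_1 D224686 F503696 F484533
theorem F526306 : act 5 n224686 = n224495 := d12_1 D224686 F525298 (iv5 F470548) (iv6 F472365) F472364
theorem F526307 : act 7 n224686 = n210137 := d14_2 D210136 D224686 (iv6 D210137) (iv7 D137652) D137651
theorem F526308 : act 0 n224686 = n220422 := d21_4 (iv5 D213907) (iv1 F472367) F472364 D224686 (iv6 F503703) F467373 F440594 F440591 F338052 (iv1 F472689)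
theorem F526309 : act 0 n220421 = n224686 := d21_4 F504257 (iv1 F504256) D223278 (iv6 F518593) (iv6 D224686) (iv5 F472364) (iv1 F472366) D213909 (iv6 F517849) F517852
def n224687 : Q := act 0 n210137
theorem D224687 : act 0 n210137 = n224687 := rfl
theorem F526310 : act 5 n224687 = n224620 := d17_3 (iv1 D224614) (iv5 F456309) D224687 F525962 (iv5 D223448) F428165 (iv5 F500590) (iv0 F519398) (iv4 F525939)
theorem F526311 : act 4 n224687 = n220121 := d18_1 D224687 (iv1 F502232) (iv4 F504013) F504014 (iv4 F498943) (iv0 F516500) F516498 (iv0 F455023) (iv5 F456309)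
theorem F526312 : act 6 n224687 = n224631 := d21_5 F179809 (iv1 F111099) (iv5 F220808) D210137 D224687 F526009 (iv1 F504248) (iv5 F467324) F467325 (iv1 F388346)
theorem F526313 : act 2 n220421 = n224687 := d15_3 (iv0 D224687) (iv0 F517885) (iv7 F517887)
theorem F526314 : act 1 n220420 = n224687 := d15_0 (iv0 D224687) (iv7 F526307) F526303
theorem F526315 : act 7 n224687 = n220422 := d15_2 (iv0 F517886) F526314 (iv2 F517882)
def n224688 : Q := act 7 n210177
theorem D224688 : act 7 n210177 = n224688 := rfl
theorem F526316 : act 2 n224688 = n220335 := d4_1 D224688 (iv7 D220335) (iv2 F456471)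
theorem F526317 : act 3 n224688 = n213822 := d8_1 D224688 F472235 F460882
theorem F526318 : act 4 n224688 = n220348 := d11_1 D224688 F503320 (iv4 F456472)
theorem F526319 : act 5 n224688 = n213821 := d13_1 D224688 (iv7 F519351) F519350
theorem F526320 : act 6 n224688 = n221765 := d14_1 D224688 F510739 F503368 F394316 D210177
theorem F526321 : act 1 n220333 = n224688 := d15_1 D220333 (iv7 D224688) F456471
theorem F526322 : act 1 n224688 = n210312 := d15_1 F526321 F456964 (iv2 F503625)
def n224689 : Q := act 6 n210178
theorem D224689 : act 6 n210178 = n224689 := rfl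
theorem F526323 : act 2 n224689 = n221778 := d3_1 D224689 (iv6 F511076) F511070
theorem F526324 : act 3 n224689 = n210180 := d7_1 D224689 (iv6 D210180) D210178
theorem F526325 : act 4 n224689 = n215288 := d10_1 D224689 (iv6 D215288) (iv4 F456473)
theorem F526326 : act 5 n224689 = n216185 := d12_1 D224689 (iv6 F510950) (iv5 F517087) F517088 F472601
theorem F526327 : act 7 n224689 = n220336 := d14_2 (iv7 F456474) D224689 (iv6 D220336) (iv7 D193420) (iv6 F270080)
theorem F526328 : act 0 n224689 = n221693 := d21_4 (iv5 D213892) D213891 F472601 D224689 F510336 D221695 F510346 F507196 D223986 F522385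
theorem F526329 : act 0 n216620 = n224689 := d21_4 (iv5 D111205) D111202 (iv5 F411746) (iv6 F485203) (iv6 D224689) (iv5 F472601) (iv1 F472604) (iv5 F511088) F511089 (iv1 D199338)
def n224690 : Q := act 6 n210179
theorem D224690 : act 6 n210179 = n224690 := rfl
theorem F526330 : act 2 n224690 = n222438 := d3_1 D224690 F514216 F505961
theorem F526331 : act 3 n224690 = n222979 := d7_1 D224690 F517088 F472602
theorem F526332 : act 4 n224690 = n211002 := d10_1 D224690 (iv6 F459713) (iv4 F456476)
theorem F526333 : act 7 n224690 = n215882 := d14_2 F503620 D224690 F481914 (iv7 F422542) F503626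
theorem F526334 : act 0 n224690 = n223812 := d21_4 (iv5 D219797) F386241 D210179 D224690 F521417 (iv5 D210793) (iv1 F227191) (iv5 F396681) (iv6 F456481) (iv1 F500674)
theorem F526335 : act 5 n224690 = n219817 := d21_6 (iv5 D85969) D85966 D179906 D216051 F482673 D224690 F511017 (iv5 D221844) (iv6 D197392) F343127
theorem F526336 : act 0 n223813 = n224690 := d21_4 (iv5 F404337) (iv1 F457455) (iv5 F506931) (iv6 F521424) (iv6 D224690) (iv5 D210179) (iv1 D137809) D137810 (iv6 F396914) F404340
def n224691 : Q := act 5 n210180
theorem D224691 : act 5 n210180 = n224691 := rfl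
theorem F526337 : act 2 n224691 = n221771 := d2_1 D224691 (iv5 D221771) (iv2 F503367)
theorem F526338 : act 3 n224691 = n216185 := d6_1 D224691 (iv5 F526326) F526324
theorem F526339 : act 6 n224691 = n219817 := d12_2 D210180 D224691 (iv5 F526335) (iv6 D224690) (iv5 D210179)
theorem F526340 : act 7 n224691 = n221772 := d13_2 F503366 D224691 (iv5 D221772)
theorem F526341 : act 4 n224691 = n217300 := d16_2 (iv4 F456478) D224691 F488333 (iv4 F465693) (iv5 F519089) (iv4 D223367) F489715 (iv7 F510758) F510755
def n224692 : Q := act 6 n210196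
theorem D224692 : act 6 n210196 = n224692 := rfl
theorem F526342 : act 2 n224692 = n219445 := d3_1 D224692 (iv6 D219445) (iv2 F456521)
theorem F526343 : act 3 n224692 = n210198 := d7_1 D224692 F456531 (iv3 F456522)
theorem F526344 : act 4 n224692 = n210197 := d10_1 D224692 (iv6 D210197) D210196
theorem F526345 : act 7 n224692 = n210197 := d14_2 (iv7 F456523) D224692 (iv6 D210197) (iv7 F448885) (iv6 F450451)
theorem F526346 : act 0 n224692 = n216433 := d21_4 D138041 (iv1 F456769) F456770 D224692 F520001 F519998 F444461 F429794 F217242 F356302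
theorem F526347 : act 5 n224692 = n216732 := d21_6 F221082 (iv1 F221286) F221287 D143282 (iv1 F456525) D224692 F485677 F382865 F355796 (iv1 F221085)
theorem F526348 : act 0 n216428 = n224692 := d21_4 D224232 F523797 F488349 (iv6 F484330) (iv6 D224692) (iv5 F456770) (iv1 D210259) (iv5 D138036) D138037 F445284
def n224693 : Q := act 5 n210225
theorem D224693 : act 5 n210225 = n224693 := rfl
theorem F526349 : act 2 n224693 = n224468 := d2_1 D224693 (iv5 D224468) (iv2 F456646)
theorem F526350 : act 3 n224693 = n224316 := d6_1 D224693 F524275 F522981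
theorem F526351 : act 6 n224693 = n224272 := d12_2 D210225 D224693 (iv5 D224272) F446117 F411143
theorem F526352 : act 7 n224693 = n224311 := d13_2 F523388 D224693 F524248
def n224694 : Q := act 0 n210243
theorem D224694 : act 0 n210243 = n224694 := rfl
theorem F526353 : act 5 n224694 = n211213 := d17_1 D224694 (iv1 F462319) F462317 F460516 F416231 F219322 D199702 F413176 (iv4 F456717)
theorem F526354 : act 4 n224694 = n214823 := d18_1 D224694 (iv1 F503437) F503433 (iv5 F483670) F483669 F394412 (iv4 F456710) (iv0 D210242) D210243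
theorem F526355 : act 3 n224694 = n211214 := d20_5 F456583 (iv1 D143403) (iv4 F355787) (iv3 F456715) D224694 F460634 (iv1 F317211) D204978 F434417 (iv1 F456585)
theorem F526356 : act 6 n224694 = n212856 := d21_5 (iv5 D220338) (iv1 D193425) D193426 (iv6 F456716) D224694 F467808 (iv1 F318024) D204911 (iv6 F480715) (iv1 F503272)
theorem F526357 : act 2 n216544 = n224694 := d15_3 (iv0 D224694) (iv0 F524309) F524308
theorem F526358 : act 1 n223180 = n224694 := d15_0 (iv0 D224694) (iv7 F512701) (iv2 F518049)
theorem F526359 : act 7 n224694 = n214106 := d15_2 F524310 F526358 (iv2 F524304)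
def n224695 : Q := act 5 n210247
theorem D224695 : act 5 n210247 = n224695 := rfl
theorem F526360 : act 2 n224695 = n210249 := d2_1 D224695 (iv5 D210249) D210247
theorem F526361 : act 3 n224695 = n223180 := d6_1 D224695 F518050 F503613
theorem F526362 : act 4 n224695 = n223016 := d9_1 D224695 (iv5 D223016) F422747 F224815 (iv4 F438966) (iv5 F466899) F466900 (iv5 F501258) (iv4 F517245) (iv5 D223012) (iv4 F423875) (iv5 F438886) (iv4 F475429) F475428 (iv4 F466909)
theorem F526363 : act 7 n224695 = n223158 := d13_2 F487286 D224695 F517930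
theorem F526364 : act 0 n224695 = n222345 := d17_2 (iv1 F487271) D224695 F513716 (iv4 F462191) F450474 (iv0 F522315) F522312 F483701 (iv4 F487268)
theorem F526365 : act 1 n224695 = n222954 := d17_6 F446613 F446614 (iv1 F475426) F475428 (iv4 F466909) D224695 F516965 (iv0 D211571) (iv4 F418827)
def n224696 : Q := act 5 n210260
theorem D224696 : act 5 n210260 = n224696 := rfl
theorem F526366 : act 2 n224696 = n217312 := d2_1 D224696 (iv5 F520487) (iv2 F520492)
theorem F526367 : act 3 n224696 = n222862 := d6_1 D224696 (iv5 D222862) (iv3 F456772)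
theorem F526368 : act 6 n224696 = n210261 := d12_2 D210260 D224696 (iv5 D210261) (iv6 D138037) D138036
theorem F526369 : act 7 n224696 = n217311 := d13_2 F520494 D224696 (iv5 F520495)
theorem F526370 : act 4 n224696 = n220197 := d16_2 F502527 D224696 (iv5 D220197) F388816 (iv5 F371141) (iv4 F462483) (iv5 F520604) F520608 (iv2 F502525)
theorem F526371 : act 0 n224696 = n217029 := d17_2 F475604 D224696 F487045 F475565 F475561 (iv0 F448763) (iv5 F475594) (iv0 D214519) D214521
theorem F526372 : act 1 n224696 = n216867 := d17_6 F475648 (iv5 F475703) F475704 (iv5 F502528) F502527 D224696 F486305 F460647 (iv4 F475647)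
def n224697 : Q := act 6 n210262
theorem D224697 : act 6 n210262 = n224697 := rfl
theorem F526373 : act 2 n224697 = n217970 := d3_1 D224697 (iv6 D217970) (iv2 F456777)
theorem F526374 : act 3 n224697 = n210264 := d7_1 D224697 (iv6 D210264) (iv3 F456778)
theorem F526375 : act 4 n224697 = n215089 := d10_1 D224697 F478286 (iv4 F456779)
theorem F526376 : act 5 n224697 = n214475 := d12_1 D224697 (iv6 D214475) (iv5 F448731) F448732 D210262
theorem F526377 : act 0 n224697 = n210696 := d21_4 (iv5 F419124) (iv1 F419126) D210262 D224697 (iv6 D210696) F222694 D141183 D211185 F460512 (iv1 F375674)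
theorem F526378 : act 0 n222801 = n224697 := d21_4 F483930 (iv1 F480865) (iv5 F525221) F525222 (iv6 D224697) (iv5 D210262) F367980 (iv5 D186782) (iv6 F367946) (iv1 F483933)
theorem F526379 : act 7 n222804 = n224697 := d13_0 F526376 (iv7 F516547) F516542
def n224698 : Q := act 5 n210265
theorem D224698 : act 5 n210265 = n224698 := rfl
theorem F526380 : act 2 n224698 = n224390 := d2_1 D224698 (iv5 D224390) (iv2 F456789)
theorem F526381 : act 3 n224698 = n217216 := d6_1 D224698 F487979 (iv3 F456790)
theorem F526382 : act 4 n224698 = n211212 := d9_1 D224698 (iv5 D211212) F340830 (iv5 F340836) F331874 (iv5 F342385) D210266 (iv5 F472021) (iv4 D213770) (iv5 D155683) F110814 (iv5 F96076) (iv4 F307625) (iv5 F361492) D210265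
theorem F526383 : act 6 n224698 = n212939 := d12_2 (iv6 F456791) D224698 (iv5 F474796) (iv6 D214366) (iv5 F410152)
theorem F526384 : act 7 n224698 = n224525 := d13_2 F481442 D224698 F525466
theorem F526385 : act 1 n224698 = n224679 := d17_6 (iv1 F454649) F454646 (iv1 F307624) (iv5 F361492) D210265 D224698 (iv5 D224679) (iv0 F520434) (iv4 D223631)
def n224699 : Q := act 5 n210267
theorem D224699 : act 5 n210267 = n224699 := rfl
theorem F526386 : act 2 n224699 = n219821 := d2_1 D224699 (iv5 F504501) F504500
theorem F526387 : act 3 n224699 = n210268 := d6_1 D224699 (iv5 D210268) (iv3 F456795)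
theorem F526388 : act 6 n224699 = n219812 := d12_2 D210267 D224699 F500734 F427153 (iv5 F363871)
theorem F526389 : act 7 n224699 = n224582 := d13_2 (iv7 F504495) D224699 F525761
theorem F526390 : act 4 n224699 = n221790 := d16_2 F513661 D224699 F510820 F463143 (iv5 F463180) (iv4 F479501) (iv5 D215348) F411317 (iv2 F513659)
def n224700 : Q := act 0 n210275
theorem D224700 : act 0 n210275 = n224700 := rfl
theorem F526391 : act 5 n224700 = n224386 := d17_1 D224700 F524655 (iv5 F459886) (iv4 F460820) (iv5 F484832) (iv0 D216531) (iv5 F380809) (iv0 F380810) (iv4 F456830)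
theorem F526392 : act 4 n224700 = n224337 := d18_1 D224700 F524403 F456666 (iv5 F511620) (iv4 D221960) F406024 (iv4 F502357) (iv0 F516110) F516112
theorem F526393 : act 3 n224700 = n212353 := d20_5 F465356 F436343 (iv4 F516114) F516113 D224700 F465444 F418691 (iv4 F507699) (iv3 F507888) (iv1 F507892)
theorem F526394 : act 6 n224700 = n216286 := d21_5 F347254 D207920 F446992 D210275 D224700 F483639 (iv1 D205798) (iv5 F365383) (iv6 D137825) (iv1 F347252)
theorem F526395 : act 2 n210277 = n224700 := d15_3 (iv0 D224700) (iv0 F456831) F456838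
theorem F526396 : act 1 n210280 = n224700 := d15_0 (iv0 D224700) (iv7 F499317) F499316
theorem F526397 : act 7 n224700 = n210278 := d15_2 F456847 F526396 (iv2 F456840)
def n224701 : Q := act 6 n210285
theorem D224701 : act 6 n210285 = n224701 := rfl
theorem F526398 : act 3 n224701 = n210289 := d7_1 D224701 (iv6 D210289) (iv3 F456851)
theorem F526399 : act 4 n224701 = n221071 := d10_1 D224701 (iv6 F507087) (iv4 F456852)
theorem F526400 : act 7 n224701 = n223238 := d14_2 D210285 D224701 F518365 F499840 F438496
theorem F526401 : act 0 n224701 = n222427 := d21_4 (iv5 F380809) (iv1 F384075) (iv5 F456853) D224701 (iv6 D222427) F420476 (iv1 F513334) (iv5 D222281) (iv6 F484841) (iv1 D216532)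
def n224702 : Q := act 6 n210288
theorem D224702 : act 6 n210288 = n224702 := rfl
theorem F526402 : act 2 n224702 = n212141 := d3_1 D224702 (iv6 F508841) F508838
theorem F526403 : act 3 n224702 = n222305 := d7_1 D224702 (iv6 F513475) (iv3 F507435)
theorem F526404 : act 4 n224702 = n210289 := d10_1 D224702 (iv6 D210289) (iv4 F456862)
theorem F526405 : act 5 n224702 = n222447 := d12_1 D224702 F514267 F492967 (iv6 F506981) F506977
theorem F526406 : act 7 n224702 = n212140 := d14_2 D210288 D224702 F464462 F455612 F406986
theorem F526407 : act 0 n224702 = n212139 := d21_4 F440413 F506980 F506977 D224702 (iv6 D212139) (iv5 F402439) (iv1 F402440) F228390 D195920 F440414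
theorem F526408 : act 0 n212143 = n224702 := d21_4 D174586 D215463 (iv5 F510094) F510095 (iv6 D224702) (iv5 F506977) F506978 F455567 F455568 (iv1 D174584)
def n224703 : Q := act 3 n210294
theorem D224703 : act 3 n210294 = n224703 := rfl
theorem F526409 : act 2 n224703 = n217817 := d0_1 D224703 (iv3 D217817) (iv2 F489472) F489467 (iv2 F456892)
theorem F526410 : act 4 n224703 = n210298 := d5_2 D210294 D224703 (iv3 D210298) (iv4 D138167) (iv3 F221344)
theorem F526411 : act 5 n224703 = n214263 := d6_2 (iv5 F456894) D224703 (iv3 D214263)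
theorem F526412 : act 6 n224703 = n224063 := d7_2 (iv6 F459857) D224703 F522812
theorem F526413 : act 7 n224703 = n220668 := d8_2 (iv7 F456893) D224703 F504890
theorem F526414 : act 0 n224703 = n221530 := d19_4 F380786 D138156 D210294 D224703 F509452 (iv4 F481015) F455748 F455356 (iv5 D209920) (iv4 F455350) (iv3 F483098) F483102 F376200 (iv4 F376305) (iv3 F376304) F371736 D191713 (iv4 F448696) F448697
theorem F526415 : act 0 n217806 = n224703 := d20_4 (iv4 F333855) (iv1 F384562) D219605 (iv3 F499653) (iv3 D224703) (iv4 D210294) F380785 (iv4 F286573) (iv3 F474316) F474319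
def n224704 : Q := act 5 n210297
theorem D224704 : act 5 n210297 = n224704 := rfl
theorem F526416 : act 2 n224704 = n222222 := d2_1 D224704 F513001 F499665
theorem F526417 : act 3 n224704 = n222847 := d6_1 D224704 (iv5 D222847) F456907
theorem F526418 : act 4 n224704 = n222221 := d9_1 D224704 F512996 F449790 (iv5 F438640) F438639 (iv5 F388389) (iv4 F456900) (iv5 F512597) (iv4 D222148) (iv5 D198492) D198491 F444294 (iv4 F456199) F456200 (iv4 F456906)
theorem F526419 : act 6 n224704 = n219631 := d12_2 F456908 D224704 F499761 (iv6 F486984) F440492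
theorem F526420 : act 7 n224704 = n220160 := d13_2 (iv7 F456905) D224704 (iv5 D220160)
theorem F526421 : act 0 n224704 = n224014 := d17_2 (iv1 F456904) D224704 F522543 F442327 (iv5 F444152) (iv0 F444153) F442267 F221353 D138184
theorem F526422 : act 1 n224704 = n224114 := d17_6 D209398 F453570 (iv1 F456203) F456200 (iv4 F456906) D224704 (iv5 D224114) (iv0 D206825) (iv4 F219509)
def n224705 : Q := act 1 n210298
theorem D224705 : act 1 n210298 = n224705 := rfl
theorem F526423 : act 7 n224705 = n220159 := d15_2 (iv0 F490053) D224705 F502421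
theorem F526424 : act 4 n224705 = n220187 := d18_7 (iv1 F392192) F392191 (iv1 F258604) (iv4 F474295) (iv5 F526411) F526410 D224705 F502546 (iv5 D214287)
theorem F526425 : act 6 n217808 = n224705 := d21_3 D217838 (iv1 F492999) (iv5 F492997) (iv1 D224705) F490052 (iv5 D217674) (iv1 D187723) D187725 D217679 (iv1 F490080)
theorem F526426 : act 2 n224705 = n220188 := d3_1 F526425 (iv6 D220188) F490734
def n224706 : Q := act 2 n210298
theorem D224706 : act 2 n210298 = n224706 := rfl
theorem F526427 : act 3 n224706 = n222830 := d0_2 D210298 D224706 (iv2 F516708) F516709 F453069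
theorem F526428 : act 4 n224706 = n217817 := d1_2 F526410 D224706 (iv2 F526409)
theorem F526429 : act 6 n224706 = n212407 := d3_2 (iv6 F490052) D224706 (iv2 F490049)
theorem F526430 : act 1 n224706 = n220188 := d15_0 (iv0 F524572) F524570 D224706
theorem F526431 : act 1 n220159 = n224706 := d15_0 F526430 F502549 (iv2 F502421)
def n224707 : Q := act 5 n210298
theorem D224707 : act 5 n210298 = n224707 := rfl
theorem F526432 : act 3 n224707 = n210299 := d6_1 D224707 (iv5 D210299) D210298
theorem F526433 : act 6 n224707 = n217354 := d12_2 (iv6 F490052) D224707 (iv5 F490057) (iv6 D217675) D217674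
theorem F526434 : act 4 n224707 = n217357 := d16_4 (iv4 F474295) (iv5 F526411) F526410 D224707 F488568 F474770 F414784 F443833 (iv2 F443830)
def n224708 : Q := act 3 n210318
theorem D224708 : act 3 n210318 = n224708 := rfl
theorem F526435 : act 2 n224708 = n224599 := d0_1 D224708 F525857 F475624 F454712 (iv2 F456995)
theorem F526436 : act 4 n224708 = n217242 := d5_2 D210318 D224708 (iv3 D217242) (iv4 F456992) F456989
theorem F526437 : act 5 n224708 = n210855 := d6_2 (iv5 F456996) D224708 (iv3 F459038)
theorem F526438 : act 6 n224708 = n211633 := d7_2 (iv6 F456997) D224708 (iv3 F462463)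
theorem F526439 : act 7 n224708 = n224584 := d8_2 (iv7 F456998) D224708 (iv3 D224584)
theorem F526440 : act 0 n224708 = n224522 := d20_4 F451916 (iv1 F221439) D210318 D224708 (iv3 D224522) (iv4 F525372) F525373 F522200 F454305 F451917
def n224709 : Q := act 6 n210363
theorem D224709 : act 6 n210363 = n224709 := rfl
theorem F526441 : act 2 n224709 = n221961 := d3_1 D224709 F511624 F501882
theorem F526442 : act 3 n224709 = n210365 := d7_1 D224709 (iv6 D210365) D210363
theorem F526443 : act 5 n224709 = n210954 := d12_1 D224709 (iv6 D210954) (iv5 F450238) F450241 (iv5 F457205)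
theorem F526444 : act 7 n224709 = n210984 := d14_2 F458562 D224709 (iv6 F459639) F386783 (iv6 F458564)
theorem F526445 : act 0 n224709 = n215388 := d21_4 (iv5 F489447) (iv1 F489449) (iv5 F457205) D224709 F479726 (iv5 D178117) D178114 (iv5 F481900) F481903 F415661
theorem F526446 : act 0 n210520 = n224709 := d21_4 F440555 (iv1 F457895) (iv5 D210519) D210520 (iv6 D224709) F457205 (iv1 D187962) D187963 F400412 F440559
def n224710 : Q := act 2 n210384
theorem D224710 : act 2 n210384 = n224710 := rfl
theorem F526447 : act 3 n224710 = n210990 := d0_2 D210384 D224710 F459656 F389409 F363378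
theorem F526448 : act 4 n224710 = n219726 := d1_2 (iv4 F457317) D224710 F500282
theorem F526449 : act 5 n224710 = n221457 := d2_2 (iv5 F463495) D224710 (iv2 F509099)
theorem F526450 : act 6 n224710 = n221599 := d3_2 (iv6 F513533) D224710 (iv2 F513534)
theorem F526451 : act 7 n224710 = n211121 := d4_2 (iv7 F457318) D224710 F460190
theorem F526452 : act 1 n224710 = n210981 := d15_0 (iv0 F459618) (iv7 F457318) D224710
theorem F526453 : act 1 n211123 = n224710 := d15_0 F526452 F459616 (iv2 F460197)
def n224711 : Q := act 5 n210400
theorem D224711 : act 5 n210400 = n224711 := rfl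
theorem F526454 : act 2 n224711 = n210401 := d2_1 D224711 (iv5 D210401) D210400
theorem F526455 : act 3 n224711 = n224635 := d6_1 D224711 F526025 F513282
theorem F526456 : act 6 n224711 = n212866 := d12_2 (iv6 F457403) D224711 F467864 (iv6 F403478) F403477
theorem F526457 : act 7 n224711 = n223452 := d13_2 F510462 D224711 F519521
theorem F526458 : act 0 n224711 = n210627 := d17_2 (iv1 F473691) D224711 (iv5 D210627) F353583 (iv5 F451100) (iv0 F451102) (iv5 F385867) D219737 F500345
theorem F526459 : act 1 n224711 = n210624 := d17_6 D209201 (iv5 F493460) (iv1 F518462) (iv5 F525162) F525161 D224711 (iv5 D210624) (iv0 D139448) (iv4 F218696)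
theorem F526460 : act 4 n224711 = n212867 := d19_2 (iv1 F473691) D224711 F467867 (iv1 D185357) (iv5 F329856) D216231 F483425 D216811 F486014 (iv4 F509622) (iv3 F513673) F513676 (iv5 F495808) (iv4 F514563) F514561 (iv1 F515205) (iv5 D222617) F416255 (iv3 F473686)
def n224712 : Q := act 4 n210406
theorem D224712 : act 4 n210406 = n224712 := rfl
theorem F526461 : act 2 n224712 = n222959 := d1_1 D224712 F516987 F467287
theorem F526462 : act 6 n224712 = n220395 := d10_2 (iv6 F457415) D224712 F503574
theorem F526463 : act 7 n224712 = n222961 := d11_2 F503718 D224712 F516998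
theorem F526464 : act 5 n224712 = n219839 := d16_1 D224712 F500830 F386460 (iv4 F499617) F499618 (iv4 F513279) (iv5 F526025) F526029 F467287
theorem F526465 : act 0 n224712 = n220119 := d17_0 F502214 (iv1 F473220) (iv5 F517001) F517003 (iv5 F518360) F518363 (iv5 F455128) (iv0 F457416) D224712
theorem F526466 : act 1 n224712 = n214040 := d18_6 (iv1 F493286) F493283 F400665 F400664 D210406 D224712 (iv4 F473226) F504023 F504021
def n224713 : Q := act 3 n210407
theorem D224713 : act 3 n210407 = n224713 := rfl
theorem F526467 : act 5 n224713 = n222990 := d6_2 F511912 D224713 (iv3 F517146)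
theorem F526468 : act 6 n224713 = n222991 := d7_2 (iv6 F457419) D224713 F517150
theorem F526469 : act 0 n224713 = n221528 := d19_4 (iv1 F172387) D138637 D210407 D224713 (iv5 D221528) F401111 F362961 (iv1 F303393) D214800 F476915 (iv3 F476954) F476958 F369543 (iv4 F378278) (iv3 D189930) (iv1 F378279) (iv5 F386657) F386656 (iv3 F335716)
theorem F526470 : act 1 n224713 = n216690 := d15_1 (iv0 F526469) (iv7 F514871) F514864
def n224714 : Q := act 4 n210408
theorem D224714 : act 4 n210408 = n224714 := rfl
theorem F526471 : act 2 n224714 = n222962 := d1_1 D224714 F517003 (iv2 F485100)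
theorem F526472 : act 6 n224714 = n223169 := d10_2 (iv6 F484464) D224714 F517988
theorem F526473 : act 7 n224714 = n222963 := d11_2 (iv7 F457421) D224714 F517008
theorem F526474 : act 5 n224714 = n221737 := d16_1 D224714 (iv4 F510588) F499860 (iv4 F509987) (iv5 D221630) (iv4 F424412) D223236 F518356 (iv2 F485100)
theorem F526475 : act 0 n224714 = n222964 := d18_2 F471215 D224714 F517011 F498511 F410743 F410730 F400664 D210404 (iv5 F471212)
theorem F526476 : act 1 n224714 = n222957 := d18_6 F452947 F509972 F509974 (iv4 F424417) (iv5 F457420) D224714 F516981 (iv0 F498492) (iv5 D210826)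
def n224715 : Q := act 3 n210409
theorem D224715 : act 3 n210409 = n224715 := rfl
theorem F526477 : act 5 n224715 = n222548 := d6_2 F459242 D224715 (iv3 F514855)
theorem F526478 : act 7 n224715 = n223239 := d8_2 (iv7 F457424) D224715 (iv3 D223239)
theorem F526479 : act 0 n224715 = n215859 := d19_4 (iv1 F180543) (iv5 F221804) D210409 D224715 F481830 F422603 (iv3 D175024) (iv1 D83587) D83589 (iv4 F302208) (iv3 F476947) F476950 F369902 D194880 (iv3 F407276) (iv1 F479248) F479247 F423996 (iv3 D139388)
def n224716 : Q := act 6 n210411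
theorem D224716 : act 6 n210411 = n224716 := rfl
theorem F526480 : act 2 n224716 = n215834 := d3_1 D224716 F484456 F457433
theorem F526481 : act 4 n224716 = n216452 := d10_1 D224716 F484439 (iv4 F457432)
theorem F526482 : act 5 n224716 = n223024 := d12_1 D224716 F517303 F453415 (iv6 F405574) (iv5 F457431)
theorem F526483 : act 0 n224716 = n215771 := d21_4 (iv5 D202026) (iv1 F405575) (iv5 F457431) D224716 (iv6 D215771) F400921 (iv1 F481682) (iv5 D215814) D215815 (iv1 F481687)
theorem F526484 : act 0 n215836 = n224716 := d21_4 (iv5 F504139) F504140 (iv5 F451140) (iv6 F481739) (iv6 D224716) F457431 (iv1 F472805) (iv5 F472807) F458019 F485330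
theorem F526485 : act 7 n215833 = n224716 := d13_0 F526482 F517307 (iv5 F500694)
def n224717 : Q := act 0 n210412
theorem D224717 : act 0 n210412 = n224717 := rfl
theorem F526486 : act 5 n224717 = n211761 := d17_1 D224717 (iv1 D211761) D211762 (iv4 F524788) (iv5 D224407) (iv0 D208728) D208730 (iv0 F498949) F498947
theorem F526487 : act 4 n224717 = n216703 := d18_3 D219453 F498947 D224717 F485537 (iv4 F522990) (iv0 F522992) F452051 F450607 F449066
theorem F526488 : act 1 n213941 = n224717 := d17_8 F485538 F467317 (iv1 D191611) (iv5 F287750) (iv4 F485877) (iv5 F517672) (iv0 F517674) (iv5 F472821) F526487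
theorem F526489 : act 3 n224717 = n214025 := d20_3 (iv4 F458671) D216703 (iv4 F526487) F517302 F517300 D223486 F524499 F524496 (iv3 F524494) F524495
theorem F526490 : act 6 n214027 = n224717 := d7_0 F526489 F473168 D214027
def n224718 : Q := act 1 n210412
theorem D224718 : act 1 n210412 = n224718 := rfl
theorem F526491 : act 1 n224718 = n213941 := d15_1 D224718 (iv7 F500638) F500635
theorem F526492 : act 4 n216704 = n224718 := d20_0 (iv1 D224718) (iv4 F498947) F498946 F457396 F454978 (iv4 F425326) (iv1 D202734) (iv4 F360850) (iv3 F467316) (iv1 F485539)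
theorem F526493 : act 3 n215834 = n224718 := d20_3 (iv4 F484449) (iv1 F484453) F484455 (iv1 D224718) (iv3 D210412) (iv4 D138640) F101159 D139457 D210640 F481836
theorem F526494 : act 5 n211760 = n224718 := d21_0 (iv1 D224718) F457434 (iv6 D202720) (iv1 D116582) (iv6 F330556) F330553 D115465 F365076 D144073 D211760
theorem F526495 : act 6 n222018 = n224718 := d21_3 (iv5 D223984) (iv1 F438298) D222018 (iv1 D224718) (iv6 F517603) (iv5 D223093) F423015 D210783 (iv6 F517232) (iv1 F522375)
def n224719 : Q := act 7 n210412
theorem D224719 : act 7 n210412 = n224719 := rfl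
theorem F526496 : act 2 n224719 = n213941 := d4_1 D224719 (iv7 F500638) F500635
theorem F526497 : act 3 n224719 = n210413 := d8_1 D224719 (iv7 D210413) D210412
theorem F526498 : act 4 n224719 = n223723 := d11_1 D224719 F520920 F498947
theorem F526499 : act 5 n224719 = n222022 := d13_1 D224719 F511951 (iv5 F457434)
theorem F526500 : act 6 n215800 = n224719 := d21_5 (iv5 D156121) (iv1 F245072) (iv5 F384690) (iv6 F486943) F486945 F526499 F517692 F517690 (iv6 D210776) F245332
def n224720 : Q := act 1 n210417
theorem D224720 : act 1 n210417 = n224720 := rfl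
theorem F526501 : act 7 n224720 = n221760 := d15_2 F463691 D224720 F510708
theorem F526502 : act 3 n223701 = n224720 := d20_3 D221812 (iv1 F510918) D223701 (iv1 D224720) (iv3 D210417) (iv4 D138645) F169196 F80905 (iv3 F167204) D197368
theorem F526503 : act 4 n219617 = n224720 := d20_6 F101611 F166497 (iv4 F172374) D199280 (iv1 F513290) F513286 (iv1 D224720) F457446 (iv3 D138647) F101612
theorem F526504 : act 2 n224720 = n219898 := d1_1 F526503 F501095 (iv2 F499699)
theorem F526505 : act 6 n224720 = n219616 := d10_2 D219617 F526503 (iv4 D219616)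
theorem F526506 : act 0 n211947 = n224720 := d20_10 (iv4 F526503) F499701 (iv4 F500916) (iv3 F514221) (iv1 F514226) F457643 F416410 D200437 (iv4 F515245) F515246
def n224721 : Q := act 2 n210417
theorem D224721 : act 2 n210417 = n224721 := rfl
theorem F526507 : act 3 n224721 = n221768 := d0_2 D210417 D224721 (iv2 F510751) (iv3 D197336) (iv2 F221808)
theorem F526508 : act 4 n224721 = n210421 := d1_2 (iv4 F457446) D224721 (iv2 D210421)
theorem F526509 : act 6 n224721 = n211939 := d3_2 F520060 D224721 (iv2 F520057)
theorem F526510 : act 7 n224721 = n211947 := d4_2 (iv7 F457447) D224721 F463688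
theorem F526511 : act 1 n224721 = n219898 := d15_0 (iv0 F501097) (iv7 F457447) D224721
theorem F526512 : act 1 n221760 = n224721 := d15_0 F526511 F501096 (iv2 F510708)
def n224722 : Q := act 5 n210417
theorem D224722 : act 5 n210417 = n224722 := rfl
theorem F526513 : act 3 n224722 = n210418 := d6_1 D224722 (iv5 D210418) D210417
theorem F526514 : act 7 n224722 = n221786 := d13_2 (iv7 F457447) D224722 (iv5 D221786)
theorem F526515 : act 0 n224722 = n216187 := d17_2 (iv1 D224720) D224722 (iv5 F507084) F507085 F485116 (iv0 F500925) (iv5 D219859) (iv0 F499701) F526503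
def n224723 : Q := act 5 n210420
theorem D224723 : act 5 n210420 = n224723 := rfl
theorem F526516 : act 2 n224723 = n219357 := d2_1 D224723 F498447 F457460
theorem F526517 : act 3 n224723 = n212267 := d6_1 D224723 (iv5 D212267) F457457
theorem F526518 : act 6 n224723 = n213959 := d12_2 (iv6 F457458) D224723 F472894 (iv6 F465062) (iv5 D212269)
theorem F526519 : act 7 n224723 = n222032 := d13_2 (iv7 F457456) D224723 (iv5 F511992)
theorem F526520 : act 4 n224723 = n213960 := d16_2 F501108 D224723 F472898 (iv4 F500571) F500572 F513833 (iv5 D222367) D222368 F513834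
theorem F526521 : act 0 n224723 = n222034 := d21_1 D224723 F512002 F406638 (iv1 F458099) (iv6 F458102) (iv5 F465513) (iv1 F465514) (iv5 F425008) (iv6 F425012) F457459
theorem F526522 : act 0 n220492 = n224723 := d21_10 (iv5 D224723) (iv1 D210420) (iv5 F432990) (iv6 D204605) F432014 (iv6 F519680) F519677 F432773 D220053 (iv6 F504038)
def n224724 : Q := act 0 n210428
theorem D224724 : act 0 n210428 = n224724 := rfl
theorem F526523 : act 5 n224724 = n210797 := d17_3 F363423 D210428 D224724 F458835 (iv5 D201519) (iv0 F393272) F393269 (iv0 D139087) (iv4 F222271)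
theorem F526524 : act 4 n224724 = n222849 := d18_1 D224724 (iv1 F519550) (iv4 F511197) (iv5 D221881) (iv4 F404558) F334986 (iv4 F404127) (iv0 F404129) D210428
theorem F526525 : act 1 n222567 = n224724 := d15_0 (iv0 D224724) (iv7 F473677) (iv2 F514958)
theorem F526526 : act 2 n210809 = n224724 := d1_3 F526524 F516407 (iv4 F458867)
theorem F526527 : act 7 n210807 = n224724 := d15_2 (iv0 F511025) F511026 (iv2 F526526)
def n224725 : Q := act 1 n210428
theorem D224725 : act 1 n210428 = n224725 := rfl
theorem F526528 : act 1 n224725 = n222567 := d15_1 D224725 (iv7 F514961) F511023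
theorem F526529 : act 7 n224725 = n210809 := d15_2 (iv0 D224724) D224725 F526526
theorem F526530 : act 5 n224725 = n210796 := d17_7 D139818 (iv5 F333622) F333624 F319598 D138712 D210428 D224725 (iv0 D210796) F223011
theorem F526531 : act 2 n210807 = n224725 := d2_3 F526530 (iv2 F458829) D210807
theorem F526532 : act 4 n222857 = n224725 := d9_15 F526530 F458828 F408465 F178602 D114541 D201461 D222849 (iv4 F526524) F526523 F458835 (iv5 D201519) F178854 D114788 D201529 D222857
def n224726 : Q := act 4 n210428
theorem D224726 : act 4 n210428 = n224726 := rfl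
theorem F526533 : act 2 n224726 = n222862 := d1_1 D224726 F516470 F511023
theorem F526534 : act 3 n224726 = n216172 := d5_1 D224726 (iv4 F483281) (iv3 F486897) F486898 (iv3 F457481)
theorem F526535 : act 6 n224726 = n216996 := d10_2 F510766 D224726 (iv4 F510767)
theorem F526536 : act 7 n224726 = n222859 := d11_2 F473677 D224726 F516460
theorem F526537 : act 5 n224726 = n220040 := d16_1 D224726 F501799 (iv5 D201457) (iv4 F313876) (iv5 F317359) (iv4 F457647) (iv5 F514960) (iv7 F514961) F511023
theorem F526538 : act 1 n224726 = n224532 := d18_8 F493234 F469064 (iv1 D201460) D201461 D222849 (iv4 F526524) (iv0 D224724) D224726 F525505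
theorem F526539 : act 1 n213112 = n224726 := d15_0 F526538 F525506 F519558
def n224727 : Q := act 5 n210451
theorem D224727 : act 5 n210451 = n224727 := rfl
theorem F526540 : act 2 n224727 = n220721 := d2_1 D224727 (iv5 D220721) (iv2 F466465)
theorem F526541 : act 3 n224727 = n210452 := d6_1 D224727 (iv5 D210452) D210451
theorem F526542 : act 4 n224727 = n219208 := d9_1 D224727 F497734 (iv4 F460192) F463497 (iv4 F498739) (iv5 F494736) F494732 (iv5 F496127) (iv4 F503892) (iv5 D220463) (iv4 F457317) F463495 F463492 (iv5 F466460) F466459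
theorem F526543 : act 6 n224727 = n222223 := d12_2 F506203 D224727 (iv5 D222223) F409030 D220906
theorem F526544 : act 7 n224727 = n218893 := d13_2 F466466 D224727 F496074
theorem F526545 : act 0 n224727 = n211850 := d17_2 (iv1 F457593) D224727 F463257 (iv4 D211016) F441243 F441242 (iv5 F402153) D214134 (iv4 F473641)
theorem F526546 : act 1 n224727 = n222117 := d17_6 (iv1 D221599) F401715 F402051 (iv5 F466460) F466459 D224727 (iv5 D222117) D222116 (iv4 F512433)
def n224728 : Q := act 3 n210453
theorem D224728 : act 3 n210453 = n224728 := rfl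
theorem F526547 : act 4 n224728 = n217438 := d5_2 (iv4 F457603) D224728 F488875 F390740 (iv3 F379034)
theorem F526548 : act 5 n224728 = n220386 := d6_2 (iv5 F457602) D224728 F503526
theorem F526549 : act 6 n224728 = n217437 := d7_2 F512578 D224728 (iv3 F512575)
theorem F526550 : act 7 n224728 = n220722 := d8_2 (iv7 F457601) D224728 (iv3 F505164)
theorem F526551 : act 0 n224728 = n220723 := d19_4 (iv1 F149588) D190172 (iv4 F457603) D224728 F505167 F392894 (iv3 F450272) F466462 F466399 (iv4 D194888) (iv3 D104680) F340345 D48466 F76233 D95774 F369553 (iv5 D187222) D187221 F369547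
theorem F526552 : act 1 n224728 = n218911 := d15_1 (iv0 F526551) (iv7 F515266) F515262
theorem F526553 : act 2 n224728 = n219282 := d15_3 (iv0 F498106) D220722 (iv7 F526550)
def n224729 : Q := act 5 n210461
theorem D224729 : act 5 n210461 = n224729 := rfl
theorem F526554 : act 3 n224729 = n210464 := d6_1 D224729 (iv5 D210464) (iv3 F457640)
theorem F526555 : act 6 n224729 = n222630 := d12_2 D210461 D224729 (iv5 D222630) (iv6 D200432) (iv5 F222284)
theorem F526556 : act 4 n224729 = n216994 := d16_2 (iv4 F457641) D224729 (iv5 F486900) (iv4 F516643) (iv5 D222896) (iv4 F516565) (iv5 F525510) F525514 F457672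
theorem F526557 : act 0 n224729 = n222570 := d17_2 F525207 D224729 (iv5 F524117) F524116 (iv5 F493386) (iv0 F493387) (iv5 D209167) D209166 D224479
def n224730 : Q := act 7 n210462
theorem D224730 : act 7 n210462 = n224730 := rfl
theorem F526558 : act 2 n224730 = n221845 := d4_1 D224730 (iv7 D221845) (iv2 F457642)
theorem F526559 : act 3 n224730 = n222511 := d8_1 D224730 F514638 (iv3 F457643)
theorem F526560 : act 5 n224730 = n223582 := d13_1 D224730 (iv7 F520455) F520456
theorem F526561 : act 6 n224730 = n219903 := d14_1 D224730 (iv7 F501118) (iv6 D197398) (iv7 F222268) D210462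
theorem F526562 : act 1 n221823 = n224730 := d15_1 (iv0 F510945) (iv7 D224730) F457642
theorem F526563 : act 1 n224730 = n221843 := d15_1 F526562 (iv7 F514224) F514220
def n224731 : Q := act 1 n210464
theorem D224731 : act 1 n210464 = n224731 := rfl
theorem F526564 : act 1 n224731 = n210810 := d15_1 D224731 (iv7 F458869) (iv2 F457650)
theorem F526565 : act 7 n224731 = n210798 := d15_2 (iv0 F457651) D224731 F458838
theorem F526566 : act 5 n224731 = n210799 := d17_7 D201520 F420841 (iv1 F314674) (iv5 D139089) (iv4 F222271) D210464 D224731 F458843 F364628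
theorem F526567 : act 4 n224731 = n222863 := d17_9 F525276 F525272 F518810 (iv5 F526537) (iv4 D224726) (iv5 D210428) (iv0 F363423) D210464 D224731
theorem F526568 : act 3 n216617 = n224731 := d19_19 (iv1 D224731) (iv5 D210464) F222271 F101024 D65299 D139125 F332528 (iv3 F353433) (iv1 F432484) (iv5 F478787) F478785 F378121 F289879 (iv5 D82034) D82033 (iv3 F335666) (iv1 F283261) (iv5 F287442) D216617
theorem F526569 : act 2 n224731 = n210812 := d0_1 F526568 F458872 F472867 (iv3 F483290) (iv2 F485188)
def n224732 : Q := act 3 n210503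
theorem D224732 : act 3 n210503 = n224732 := rfl
theorem F526570 : act 5 n224732 = n219409 := d6_2 (iv5 F457823) D224732 F498757
theorem F526571 : act 7 n224732 = n223108 := d8_2 (iv7 F457824) D224732 F517683
def n224733 : Q := act 0 n210507
theorem D224733 : act 0 n210507 = n224733 := rfl
theorem F526572 : act 5 n224733 = n223451 := d17_1 D224733 F520980 F520978 (iv4 D213999) D214000 F473050 F469520 (iv0 F458630) F458626
theorem F526573 : act 4 n224733 = n223789 := d18_1 D224733 F521287 F517769 F466104 D216678 (iv0 F485444) (iv4 F463020) (iv0 F473073) F473072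
theorem F526574 : act 3 n224733 = n210611 := d20_5 F501903 F481899 F457856 (iv3 F457842) D224733 (iv4 F458207) (iv1 F519115) F519117 F504041 (iv1 F501907)
theorem F526575 : act 6 n224733 = n219925 := d21_5 (iv5 F444016) (iv1 F457840) (iv5 D210506) D210507 D224733 (iv5 F501217) (iv1 F513609) F513611 (iv6 D202287) (iv1 F423316)
theorem F526576 : act 2 n219935 = n224733 := d3_3 F526575 F501218 D219935
theorem F526577 : act 7 n210626 = n224733 := d14_0 F526575 F501215 D219934 (iv7 F501259) (iv6 F458254)
def n224734 : Q := act 1 n210507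
theorem D224734 : act 1 n210507 = n224734 := rfl
theorem F526578 : act 7 n224734 = n219935 := d15_2 (iv0 D224733) D224734 F526576
theorem F526579 : act 4 n224734 = n223006 := d17_9 F517218 F509602 F485444 (iv5 F485443) (iv4 F491026) F491027 (iv0 F473073) F473072 D224734
theorem F526580 : act 6 n224695 = n224734 := d21_3 (iv5 F487269) (iv1 F487271) D224695 (iv1 D224734) (iv6 D210507) D210506 F457839 F444556 D211174 F460461
theorem F526581 : act 2 n224734 = n210626 := d3_1 F526580 F458254 (iv2 F526360)
def n224735 : Q := act 7 n210507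
theorem D224735 : act 7 n210507 = n224735 := rfl
theorem F526582 : act 3 n224735 = n210514 := d8_1 D224735 (iv7 D210514) (iv3 F457842)
theorem F526583 : act 4 n224735 = n215841 := d11_1 D224735 F481753 F458626
theorem F526584 : act 5 n224735 = n219675 := d13_1 D224735 F499989 F473072
theorem F526585 : act 6 n224735 = n222357 := d14_1 D224735 F514159 (iv6 D222426) F412750 D210507
theorem F526586 : act 1 n210626 = n224735 := d15_1 (iv0 F517802) (iv7 D224735) (iv2 F517798)
theorem F526587 : act 1 n224735 = n219935 := d15_1 F526586 (iv7 F526578) F526581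
def n224736 : Q := act 6 n210515
theorem D224736 : act 6 n210515 = n224736 := rfl
theorem F526588 : act 2 n224736 = n210518 := d3_1 D224736 (iv6 D210518) D210515
theorem F526589 : act 3 n224736 = n211306 := d7_1 D224736 (iv6 D211306) (iv3 F457879)
theorem F526590 : act 4 n224736 = n222980 := d10_1 D224736 (iv6 D222980) (iv4 F457880)
theorem F526591 : act 5 n224736 = n224533 := d12_1 D224736 (iv6 D224533) F454273 (iv6 F454274) F457881
theorem F526592 : act 0 n224736 = n210650 := d21_4 D222281 F513333 F457881 D224736 F465842 (iv5 D212450) (iv1 F230353) D146976 F374453 F410459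
theorem F526593 : act 0 n219948 = n224736 := d21_4 F499801 (iv1 F501310) (iv5 D219947) D219948 (iv6 D224736) (iv5 F457881) F458327 F458323 D222283 F513346
def n224737 : Q := act 0 n210518
theorem D224737 : act 0 n210518 = n224737 := rfl
theorem F526594 : act 4 n224737 = n210560 := d18_3 D221754 F510681 D224737 (iv5 F458044) F404198 F472356 (iv4 F472357) (iv0 D197300) D197302
theorem F526595 : act 5 n224737 = n219916 := d19_1 D224737 F501173 F483422 F454270 F469386 (iv4 F469389) F469388 (iv1 F277513) D177978 F277529 (iv3 F345329) D211013 F459750 (iv4 F463500) F463499 F434788 (iv5 F457900) F457899 (iv3 F457892)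
theorem F526596 : act 3 n224737 = n213532 := d20_5 (iv4 F493334) (iv1 F493337) F457899 (iv3 F457892) D224737 (iv4 F471504) (iv1 D213661) (iv4 F466366) (iv3 F493342) (iv1 D218328)
theorem F526597 : act 6 n224737 = n213531 := d21_5 D199045 (iv1 F457891) (iv5 D210517) D210518 D224737 F470891 (iv1 F465518) D212367 F465523 (iv1 D199043)
theorem F526598 : act 2 n210650 = n224737 := d3_3 F526597 F470889 (iv6 F465842)
theorem F526599 : act 7 n219948 = n224737 := d14_0 F526597 F470892 F465727 F440142 D219948
def n224738 : Q := act 1 n210518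
theorem D224738 : act 1 n210518 = n224738 := rfl
theorem F526600 : act 7 n224738 = n210650 := d15_2 (iv0 D224737) D224738 F526598
theorem F526601 : act 5 n224738 = n219423 := d18_9 F498826 D219917 (iv1 F501178) (iv4 F518859) F518860 (iv4 F463633) F510684 F510681 D224738
theorem F526602 : act 4 n210561 = n224738 := d20_6 F482672 (iv1 F459788) F403901 D221749 F510657 F509554 (iv1 D224738) (iv4 F510681) F510682 F482674
theorem F526603 : act 3 n210644 = n224738 := d20_9 (iv4 F510681) (iv1 F510684) F463633 F457041 (iv1 F361517) D214128 (iv4 F510093) (iv1 F510096) F497961 (iv1 D224738)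
theorem F526604 : act 6 n211943 = n224738 := d21_3 (iv5 F522944) (iv1 F522949) (iv5 F463672) (iv1 D224738) (iv6 D210518) D210517 F512203 F512200 F507353 F463686
theorem F526605 : act 2 n224738 = n219948 := d3_1 F526604 (iv6 D219948) (iv2 F463671)
def n224739 : Q := act 5 n210518
theorem D224739 : act 5 n210518 = n224739 := rfl
theorem F526606 : act 2 n224739 = n224533 := d2_1 D224739 (iv5 F526591) F526588
theorem F526607 : act 3 n224739 = n210524 := d6_1 D224739 (iv5 D210524) (iv3 F457892)
theorem F526608 : act 6 n224739 = n220435 := d12_2 D210518 D224739 (iv5 F523646) F523647 (iv5 D210517)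
theorem F526609 : act 4 n224739 = n220436 := d16_2 F510681 D224739 F503772 F452786 (iv5 F455269) (iv4 F510791) F510792 F517096 F517091
theorem F526610 : act 0 n224739 = n213409 := d17_2 (iv1 D224738) D224739 (iv5 F479824) (iv4 F507516) F507517 (iv0 F463687) (iv5 D210562) D210561 F526602
theorem F526611 : act 1 n224739 = n216276 := d17_6 F517981 (iv5 D223167) F456470 (iv5 F510680) F510681 D224739 F501080 (iv0 D219893) (iv4 F501074)
def n224740 : Q := act 7 n210518
theorem D224740 : act 7 n210518 = n224740 := rfl
theorem F526612 : act 3 n224740 = n210525 := d8_1 D224740 (iv7 D210525) (iv3 F457892)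
theorem F526613 : act 6 n224740 = n220060 := d14_1 D224740 F514162 (iv6 D222427) F412757 D210518
theorem F526614 : act 1 n219948 = n224740 := d15_1 (iv0 F526593) (iv7 D224740) (iv2 F526588)
theorem F526615 : act 1 n224740 = n210650 := d15_1 F526614 (iv7 F526600) F526605
def n224741 : Q := act 5 n210522
theorem D224741 : act 5 n210522 = n224741 := rfl
theorem F526616 : act 2 n224741 = n217867 := d2_1 D224741 (iv5 D217867) (iv2 F457905)
theorem F526617 : act 3 n224741 = n220435 := d6_1 D224741 (iv5 F523646) F523645
theorem F526618 : act 6 n224741 = n210524 := d12_2 D210522 D224741 (iv5 D210524) (iv6 D139322) D139321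
theorem F526619 : act 7 n224741 = n217869 := d13_2 F457907 D224741 (iv5 D217869)
theorem F526620 : act 0 n224741 = n220027 := d17_2 F457906 D224741 (iv5 D220027) (iv4 F482823) (iv5 F521130) (iv0 F521132) (iv5 D211317) (iv0 F394087) F394086
theorem F526621 : act 1 n224741 = n219435 := d17_8 F518239 (iv5 F499877) F499880 (iv5 F487928) F487927 F486323 (iv0 F457924) D224741 (iv4 F518238)
def n224742 : Q := act 6 n210530
theorem D224742 : act 6 n210530 = n224742 := rfl
theorem F526622 : act 2 n224742 = n210537 := d3_1 D224742 (iv6 D210537) (iv2 F457941)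
theorem F526623 : act 3 n224742 = n217546 := d7_1 D224742 (iv6 F516594) F516593
theorem F526624 : act 4 n224742 = n210531 := d10_1 D224742 (iv6 D210531) D210530
theorem F526625 : act 5 n224742 = n217948 := d12_1 D224742 F491381 (iv5 D195675) F392171 (iv5 F457942)
theorem F526626 : act 7 n224742 = n217748 := d14_2 F483989 D224742 F490445 (iv7 F500288) (iv6 F500289)
theorem F526627 : act 0 n224742 = n219996 := d21_4 (iv5 D194139) D194137 (iv5 F457942) D224742 (iv6 F516194) (iv5 F525661) (iv1 F525663) F480758 F432677 (iv1 F396202)
theorem F526628 : act 0 n217231 = n224742 := d21_4 F431489 F374952 (iv5 F484052) (iv6 F488040) (iv6 D224742) F457942 (iv1 F392172) (iv5 F448516) (iv6 F450811) F450814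
def n224743 : Q := act 4 n210542
theorem D224743 : act 4 n210542 = n224743 := rfl
theorem F526629 : act 2 n224743 = n223083 := d1_1 D224743 F517558 F468774
theorem F526630 : act 3 n224743 = n213070 := d5_1 D224743 F468847 (iv3 F455020) (iv4 F469120) F469117
theorem F526631 : act 6 n224743 = n224429 := d10_2 F511300 D224743 F524919
theorem F526632 : act 7 n224743 = n213066 := d11_2 F469551 D224743 (iv4 F469549)
theorem F526633 : act 1 n224743 = n211232 := d18_6 F413532 F413414 (iv1 D199769) (iv4 F413409) (iv5 F457982) D224743 (iv4 D211232) D211231 (iv5 F460720)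
def n224744 : Q := act 1 n210543
theorem D224744 : act 1 n210543 = n224744 := rfl
theorem F526634 : act 4 n224744 = n210636 := d18_7 (iv1 F224276) (iv4 F412540) (iv1 D199529) F172879 D139377 D210543 D224744 F460729 F460727
theorem F526635 : act 6 n223753 = n224744 := d21_3 F520682 F517319 (iv5 F521071) (iv1 D224744) F457983 (iv5 F406578) (iv1 F406579) D202026 (iv6 F517261) F520683
theorem F526636 : act 3 n224744 = n224647 := d7_1 F526635 (iv6 D224647) (iv3 F521075)
theorem F526637 : act 5 n224744 = n213178 := d12_1 F526635 F469344 F488271 (iv6 F517316) (iv5 F521071)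
def n224745 : Q := act 3 n210543
theorem D224745 : act 3 n210543 = n224745 := rfl
theorem F526638 : act 4 n224745 = n217525 := d5_2 D210543 D224745 F489312 F457980 F457971
theorem F526639 : act 6 n224745 = n210550 := d7_2 (iv6 F457983) D224745 (iv3 D210550)
theorem F526640 : act 0 n224745 = n224647 := d19_4 F363014 D139377 D210543 D224745 F526090 (iv4 D222874) F420949 (iv1 F188646) (iv5 F188645) (iv4 D119610) (iv3 F178084) (iv1 F178087) (iv5 F83344) F67747 F82822 F95891 (iv5 F108445) (iv4 F178880) (iv3 F364654)
def n224746 : Q := act 5 n210543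
theorem D224746 : act 5 n210543 = n224746 := rfl
theorem F526641 : act 2 n224746 = n224624 := d2_1 D224746 F525981 F512007
theorem F526642 : act 4 n224746 = n219886 := d16_2 D210543 D224746 (iv5 D219886) F386644 (iv5 F375355) (iv4 F406687) (iv5 F469543) F469542 F406646
def n224747 : Q := act 3 n210547
theorem D224747 : act 3 n210547 = n224747 := rfl
theorem F526643 : act 2 n224747 = n223598 := d0_1 D224747 (iv3 D223598) F430912 D213475 F470570
theorem F526644 : act 4 n224747 = n223601 := d5_2 D210547 D224747 F520280 F433039 F349426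
theorem F526645 : act 5 n224747 = n223127 := d6_2 F459568 D224747 F517780
theorem F526646 : act 6 n224747 = n224435 := d7_2 (iv6 F457989) D224747 (iv3 D224435)
theorem F526647 : act 7 n224747 = n213993 := d8_2 F511919 D224747 (iv3 F511916)
theorem F526648 : act 0 n224747 = n223198 := d20_4 (iv4 D222352) F411474 D210547 D224747 F518138 F423911 (iv1 F386180) (iv4 F363752) (iv3 F422740) (iv1 F513757)
theorem F526649 : act 0 n224645 = n224747 := d20_4 (iv4 D213761) (iv1 F432600) (iv4 F517169) (iv3 F526080) (iv3 D224747) (iv4 D210547) (iv1 F411488) (iv4 F481685) (iv3 F517738) F517742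
def n224748 : Q := act 3 n210555
theorem D224748 : act 3 n210555 = n224748 := rfl
theorem F526650 : act 2 n224748 = n219781 := d0_1 D224748 (iv3 D219781) F386183 (iv3 F472809) F472808
theorem F526651 : act 4 n224748 = n224408 := d5_2 D210555 D224748 (iv3 F525915) F525916 F458016
theorem F526652 : act 6 n224748 = n224374 := d7_2 (iv6 F458019) D224748 (iv3 D224374)
theorem F526653 : act 7 n224748 = n223039 := d8_2 F511923 D224748 F517378
theorem F526654 : act 1 n210776 = n224748 := d15_1 (iv0 F517332) F526653 F517377
def n224749 : Q := act 7 n210557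
theorem D224749 : act 7 n210557 = n224749 := rfl
theorem F526655 : act 2 n224749 = n210563 := d4_1 D224749 (iv7 D210563) (iv2 F458027)
theorem F526656 : act 3 n224749 = n221756 := d8_1 D224749 F510689 F507113
theorem F526657 : act 4 n224749 = n210578 := d11_1 D224749 (iv7 D210578) (iv4 F458028)
theorem F526658 : act 5 n224749 = n221153 := d13_1 D224749 F507475 F473161
theorem F526659 : act 1 n210561 = n224749 := d15_1 D210561 (iv7 D224749) F458027
theorem F526660 : act 1 n224749 = n210560 := d15_1 F526659 (iv7 F458045) (iv2 F458047)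
def n224750 : Q := act 3 n210564
theorem D224750 : act 3 n210564 = n224750 := rfl
theorem F526661 : act 2 n224750 = n223997 := d0_1 D224750 F522437 F438739 F507141 F507143
theorem F526662 : act 4 n224750 = n219722 := d5_2 (iv4 F458054) D224750 (iv3 D219722) (iv4 D192138) (iv3 F385697)
theorem F526663 : act 5 n224750 = n221136 := d6_2 (iv5 F458055) D224750 F507390
theorem F526664 : act 6 n224750 = n213916 := d7_2 F510630 D224750 (iv3 F510627)
theorem F526665 : act 7 n224750 = n216538 := d8_2 F507145 D224750 F507148
theorem F526666 : act 0 n224750 = n222068 := d20_4 F227196 (iv1 F385698) (iv4 F458054) D224750 (iv3 D222068) F407304 (iv1 F405623) (iv4 F407004) F463562 (iv1 D211914)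
theorem F526667 : act 0 n220577 = n224750 := d20_4 F244884 (iv1 F351011) D205076 (iv3 F504440) (iv3 D224750) F458054 (iv1 F407927) F407924 (iv3 F463630) (iv1 F463632)
def n224751 : Q := act 6 n210572
theorem D224751 : act 6 n210572 = n224751 := rfl
theorem F526668 : act 2 n224751 = n222275 := d3_1 D224751 (iv6 D222275) (iv2 F458085)
theorem F526669 : act 3 n224751 = n210913 := d7_1 D224751 (iv6 D210913) F458084
theorem F526670 : act 4 n224751 = n223979 := d10_1 D224751 (iv6 D223979) (iv4 F458083)
theorem F526671 : act 5 n224751 = n224601 := d12_1 D224751 F525865 F491221 (iv6 F526216) F526213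
theorem F526672 : act 7 n224751 = n224596 := d14_2 (iv7 F458082) D224751 F525846 F504042 (iv6 D220116)
theorem F526673 : act 0 n224751 = n210583 := d21_4 D210039 D224671 F526213 D224751 F458128 F450578 (iv1 F449595) F422184 F411499 F391820
theorem F526674 : act 0 n210860 = n224751 := d21_4 F365560 D213003 F468546 (iv6 F459052) (iv6 D224751) (iv5 F526213) (iv1 F526218) (iv5 D210040) (iv6 F391784) (iv1 D194016)
def n224752 : Q := act 6 n210573
theorem D224752 : act 6 n210573 = n224752 := rfl
theorem F526675 : act 3 n224752 = n221958 := d7_1 D224752 (iv6 D221958) (iv3 F458088)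
theorem F526676 : act 4 n224752 = n222427 := d10_1 D224752 (iv6 D222427) (iv4 F458087)
theorem F526677 : act 0 n224752 = n210806 := d21_4 F424299 (iv1 F434699) (iv5 F458086) D224752 (iv6 F472233) (iv5 F526319) (iv1 F526321) (iv5 F507458) (iv6 D221149) (iv1 F424302)
def n224753 : Q := act 5 n210576
theorem D224753 : act 5 n210576 = n224753 := rfl
theorem F526678 : act 2 n224753 = n210587 := d2_1 D224753 (iv5 D210587) F458101
theorem F526679 : act 3 n224753 = n224600 := d6_1 D224753 (iv5 D224600) (iv3 F458103)
theorem F526680 : act 4 n224753 = n217236 := d9_1 D224753 (iv5 F498484) F498483 (iv5 F472580) (iv4 F510493) F510494 F463633 (iv5 F518860) F518859 F487509 (iv4 D214054) (iv5 D156258) (iv4 F167109) D197302 (iv4 F458104)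
theorem F526681 : act 7 n224753 = n210585 := d13_2 (iv7 F458100) D224753 (iv5 D210585)
theorem F526682 : act 0 n224753 = n220068 := d17_2 (iv1 F458099) D224753 (iv5 D220068) (iv4 F501948) (iv5 F501950) (iv0 D197418) D197420 F458053 F458052
theorem F526683 : act 1 n224753 = n211251 := d17_6 F510676 (iv5 D221752) (iv1 D197301) D197302 (iv4 F458104) D224753 (iv5 D211251) D211250 (iv4 F501148)
def n224754 : Q := act 7 n210577
theorem D224754 : act 7 n210577 = n224754 := rfl
theorem F526684 : act 2 n224754 = n210591 := d4_1 D224754 (iv7 D210591) (iv2 F458105)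
theorem F526685 : act 4 n224754 = n216277 := d11_1 D224754 (iv7 F485717) F485715
theorem F526686 : act 5 n224754 = n210578 := d13_1 D224754 (iv7 D210578) D210577
theorem F526687 : act 1 n210589 = n224754 := d15_1 D210589 (iv7 D224754) F458105
theorem F526688 : act 1 n224754 = n210588 := d15_1 F526687 (iv7 F519238) F519235
def n224755 : Q := act 5 n210583
theorem D224755 : act 5 n210583 = n224755 := rfl
theorem F526689 : act 2 n224755 = n224597 := d2_1 D224755 (iv5 D224597) (iv2 F458127)
theorem F526690 : act 3 n224755 = n210585 := d6_1 D224755 (iv5 D210585) D210583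
theorem F526691 : act 6 n224755 = n212905 := d12_2 (iv6 F458128) D224755 (iv5 D212905) (iv6 F449593) (iv5 F450578)
theorem F526692 : act 7 n224755 = n224600 := d13_2 (iv7 F458129) D224755 (iv5 D224600)
theorem F526693 : act 4 n224755 = n217239 := d16_2 (iv4 F458130) D224755 (iv5 F488306) (iv4 F513299) F513300 F470209 F462458 F385516 (iv2 F453487)
theorem F526694 : act 0 n224755 = n224602 := d17_2 F526673 D224755 F525870 (iv4 F500384) F500385 (iv0 F501970) F501967 (iv0 F522340) (iv4 F526670)
theorem F526695 : act 1 n224755 = n217210 := d17_6 (iv1 F462346) (iv5 F520381) (iv1 F520383) (iv5 F462464) (iv4 F458130) D224755 F487954 (iv0 F462445) (iv4 D211627)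
def n224756 : Q := act 0 n210584
theorem D224756 : act 0 n210584 = n224756 := rfl
theorem F526696 : act 5 n224756 = n220549 := d17_1 D224756 (iv1 F517969) F517966 F501148 F460813 F526687 F526686 F458108 D210584
theorem F526697 : act 4 n224756 = n224740 := d18_1 D224756 (iv1 F526614) F501314 (iv5 D197420) F167238 D156059 D213908 (iv0 F472693) F458133
theorem F526698 : act 3 n224756 = n220864 := d20_5 (iv4 F452828) (iv1 F519211) F519207 (iv3 F458134) D224756 F505962 (iv1 F459646) (iv4 F463698) F463697 F427475
theorem F526699 : act 2 n221755 = n224756 := d15_3 (iv0 D224756) (iv0 F517094) (iv7 F517096)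
theorem F526700 : act 1 n210586 = n224756 := d15_0 (iv0 D224756) F458132 (iv2 F458137)
theorem F526701 : act 7 n224756 = n221754 := d15_2 (iv0 F517095) F526700 (iv2 F517091)
def n224757 : Q := act 6 n210591
theorem D224757 : act 6 n210591 = n224757 := rfl
theorem F526702 : act 3 n224757 = n210606 := d7_1 D224757 (iv6 D210606) (iv3 F458143)
theorem F526703 : act 4 n224757 = n224362 := d10_1 D224757 F524525 F485704
theorem F526704 : act 0 n224757 = n223350 := d21_4 F518860 F457044 (iv5 F458144) D224757 F518994 F483136 F388065 D192867 (iv6 F501953) F518863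
theorem F526705 : act 0 n223349 = n224757 := d18_2 D203080 D223349 F526703 (iv5 D224362) (iv4 F473201) F473200 (iv4 F425987) (iv0 D117648) D117650
def n224758 : Q := act 3 n210593
theorem D224758 : act 3 n210593 = n224758 := rfl
theorem F526706 : act 2 n224758 = n220237 := d0_1 D224758 (iv3 D220237) F389132 (iv3 F432829) F458153
theorem F526707 : act 5 n224758 = n223459 := d6_2 (iv5 F458151) D224758 F519553
theorem F526708 : act 6 n224758 = n224343 := d7_2 (iv6 F458152) D224758 F524436
theorem F526709 : act 7 n224758 = n222866 := d8_2 F458154 D224758 F516485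
theorem F526710 : act 4 n224758 = n221880 := d20_6 F483496 D216253 F483500 (iv3 F453608) D210593 D224758 F511191 (iv4 F519560) F519559 F503783
theorem F526711 : act 0 n222857 = n224758 := d18_0 F526710 F511191 (iv4 F519560) (iv5 D223460) (iv4 D203432) F375410 (iv4 F458146) (iv0 F458149) D222857
theorem F526712 : act 1 n222849 = n224758 := d18_6 D210815 F458887 (iv1 F420840) (iv4 F458835) (iv5 F526523) F526524 F526710 F511192 (iv5 D210817)
def n224759 : Q := act 4 n210593
theorem D224759 : act 4 n210593 = n224759 := rfl
theorem F526713 : act 2 n224759 = n215211 := d1_1 D224759 F478892 F458153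
theorem F526714 : act 6 n224759 = n223229 := d10_2 (iv6 F458152) D224759 F518319
theorem F526715 : act 7 n224759 = n223569 := d11_2 F458154 D224759 F520147
theorem F526716 : act 0 n224759 = n223568 := d17_0 (iv5 F520154) (iv1 D223571) (iv5 F430863) F430862 (iv5 F364135) F424362 (iv5 F518284) F518287 D224759
theorem F526717 : act 1 n224759 = n211223 := d18_6 F410563 F366921 D216018 F482566 (iv5 F458151) D224759 (iv4 D211223) D211222 F460675
theorem F526718 : act 3 n223572 = n224759 := d20_5 (iv4 D123794) D123792 (iv4 F431184) D223629 (iv1 F520422) (iv4 D224759) (iv1 F518287) (iv4 F520664) (iv3 D223675) (iv1 D204438)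
def n224760 : Q := act 3 n210595
theorem D224760 : act 3 n210595 = n224760 := rfl
theorem F526719 : act 2 n224760 = n223580 := d0_1 D224760 F520183 (iv2 F432533) (iv3 F518280) F518279
theorem F526720 : act 4 n224760 = n217296 := d5_2 D210595 D224760 F488323 F483500 (iv3 F453608)
theorem F526721 : act 6 n224760 = n210605 := d7_2 (iv6 F458159) D224760 (iv3 D210605)
theorem F526722 : act 0 n224760 = n215205 := d20_4 (iv4 F469859) (iv1 D210594) D210595 D224760 F478865 F268125 D170660 D215209 F520145 (iv1 D223568)
theorem F526723 : act 5 n216040 = n224760 := d18_9 F526722 (iv4 F488148) (iv1 F488151) F427388 (iv5 F366895) (iv4 F430823) (iv0 F478631) F478629 (iv0 F519204)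
def n224761 : Q := act 5 n210595
theorem D224761 : act 5 n210595 = n224761 := rfl
theorem F526724 : act 3 n224761 = n216040 := d6_1 D224761 F526723 (iv3 D224760)
theorem F526725 : act 6 n224761 = n216039 := d12_2 (iv6 F458159) D224761 F482632 (iv6 F478895) F449172
theorem F526726 : act 1 n224761 = n223592 := d17_6 F364136 (iv5 F364135) (iv1 D139421) D139422 D210595 D224761 F520230 (iv0 F520080) (iv4 D204546)
def n224762 : Q := act 7 n210595
theorem D224762 : act 7 n210595 = n224762 := rfl
theorem F526727 : act 2 n224762 = n223675 := d4_1 D224762 F520665 F518279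
theorem F526728 : act 4 n224762 = n210596 := d11_1 D224762 (iv7 D210596) D210595
theorem F526729 : act 6 n224762 = n223577 := d14_1 D224762 (iv7 F524522) (iv6 D224361) F449169 (iv6 F458159)
theorem F526730 : act 1 n223674 = n224762 := d15_1 (iv0 F520663) (iv7 D224762) (iv2 F518279)
def n224763 : Q := act 6 n210598
theorem D224763 : act 6 n210598 = n224763 := rfl
theorem F526731 : act 2 n224763 = n216033 := d3_1 D224763 (iv6 F518309) F518304
theorem F526732 : act 3 n224763 = n216032 := d7_1 D224763 F482615 (iv3 F458166)
theorem F526733 : act 4 n224763 = n210599 := d10_1 D224763 (iv6 D210599) D210598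
theorem F526734 : act 7 n224763 = n216032 := d14_2 F510318 D224763 F482615 (iv7 F504745) (iv6 F510317)
theorem F526735 : act 0 n224763 = n215992 := d21_4 (iv5 D208444) D208441 (iv5 F458167) D224763 F482463 F279930 F304675 D170658 (iv6 F458174) F458175
theorem F526736 : act 1 n224763 = n216036 := d15_1 (iv0 F526735) (iv7 D216036) (iv2 F482462)
def n224764 : Q := act 4 n210600
theorem D224764 : act 4 n210600 = n224764 := rfl
theorem F526737 : act 6 n224764 = n219822 := d10_2 (iv6 F458172) D224764 F500752
theorem F526738 : act 5 n224764 = n222977 := d16_5 F485859 (iv5 F517805) F517804 (iv5 F458171) D224764 F517074 D223021 (iv7 F520676) F520674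
theorem F526739 : act 0 n221824 = n224764 := d17_2 (iv1 F455266) D221824 F526738 F517074 D223021 F517292 (iv5 D213975) F245390 (iv4 F455263)
theorem F526740 : act 1 n221822 = n224764 := d17_6 (iv1 F518019) (iv5 F520269) (iv1 F520270) (iv5 D214020) F472399 D221822 F526738 (iv0 D222977) (iv4 F481778)
def n224765 : Q := act 4 n210613
theorem D224765 : act 4 n210613 = n224765 := rfl
theorem F526741 : act 2 n224765 = n210630 := d1_1 D224765 (iv4 D210630) (iv2 F458216)
theorem F526742 : act 6 n224765 = n223453 := d10_2 F475213 D224765 F519528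
theorem F526743 : act 5 n224765 = n217313 := d16_1 D224765 F488389 (iv5 F458442) (iv4 F458438) F453791 F452702 (iv5 F458267) (iv7 D210631) (iv2 F458216)
theorem F526744 : act 0 n224765 = n219360 := d18_2 F458217 D224765 F498460 (iv5 F493545) F493549 F525166 F525161 F473691 F473687
theorem F526745 : act 1 n224765 = n216459 := d18_6 F518435 F518431 F452698 F452697 D210613 D224765 F484480 (iv0 F484339) D216683
theorem F526746 : act 3 n224765 = n216457 := d19_3 (iv1 D210612) D210613 D224765 (iv1 D216457) (iv5 F483190) (iv4 F498808) (iv3 D219420) D219419 F498801 (iv4 F464229) (iv3 F510052) (iv1 F510056) (iv5 F495832) (iv4 F514575) (iv3 F514576) (iv1 F478478) F476454 (iv4 F518383) (iv3 F518384)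
theorem F526747 : act 7 n216697 = n224765 := d8_0 F526746 F484468 D216697
def n224766 : Q := act 7 n210613
theorem D224766 : act 7 n210613 = n224766 := rfl
theorem F526748 : act 2 n224766 = n210631 := d4_1 D224766 (iv7 D210631) (iv2 F458216)
theorem F526749 : act 3 n224766 = n216591 := d8_1 D224766 (iv7 F518356) F518352
theorem F526750 : act 4 n224766 = n216697 := d11_1 D224766 F526747 (iv4 D224765)
theorem F526751 : act 5 n224766 = n210614 := d13_1 D224766 (iv7 D210614) D210613
theorem F526752 : act 6 n224766 = n216697 := d14_1 D224766 F526747 F526742 F519526 F475213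
theorem F526753 : act 1 n210629 = n224766 := d15_1 D210629 (iv7 D224766) F458216
theorem F526754 : act 1 n224766 = n210628 := d15_1 F526753 (iv7 F458260) (iv2 F458265)
def n224767 : Q := act 5 n210622
theorem D224767 : act 5 n210622 = n224767 := rfl
theorem F526755 : act 2 n224767 = n213613 := d2_1 D224767 (iv5 F503284) F503281
theorem F526756 : act 3 n224767 = n210624 := d6_1 D224767 (iv5 D210624) D210622
theorem F526757 : act 6 n224767 = n212833 := d12_2 (iv6 F480711) D224767 (iv5 D212833) F337657 D215598
theorem F526758 : act 7 n224767 = n213612 := d13_2 F518381 D224767 (iv5 F518382)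
theorem F526759 : act 4 n224767 = n215591 := d16_2 F500247 D224767 (iv5 F497380) F497379 (iv5 F476585) (iv4 F478467) (iv5 F503548) (iv7 D220390) (iv2 F500245)
theorem F526760 : act 0 n224767 = n213614 := d17_2 F518378 D224767 (iv5 F504068) F504069 (iv5 F478494) F478497 F474450 (iv0 F463755) (iv4 F518376)
theorem F526761 : act 1 n224767 = n213487 := d17_6 F474716 F474713 D215122 (iv5 F500249) F500247 D224767 (iv5 F479605) (iv0 F501034) F501031
def n224768 : Q := act 5 n210626
theorem D224768 : act 5 n210626 = n224768 := rfl
theorem F526762 : act 3 n224768 = n210627 := d6_1 D224768 (iv5 D210627) D210626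
theorem F526763 : act 6 n224768 = n219356 := d12_2 (iv6 F458254) D224768 F498444 F456656 D210249
theorem F526764 : act 7 n224768 = n223451 := d13_2 (iv7 F526577) D224768 (iv5 F526572)
theorem F526765 : act 1 n224768 = n220473 := d17_8 (iv1 F485889) F473038 (iv1 D213997) (iv5 F366410) (iv4 F469076) (iv5 F517800) (iv0 F517802) D224768 F503938
def n224769 : Q := act 5 n210630
theorem D224769 : act 5 n210630 = n224769 := rfl
theorem F526766 : act 2 n224769 = n217313 := d2_1 D224769 (iv5 F526743) F526741
theorem F526767 : act 3 n224769 = n219440 := d6_1 D224769 F498889 (iv3 F481511)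
theorem F526768 : act 6 n224769 = n217029 := d12_2 F475221 D224769 F487045 F460665 (iv5 F475218)
theorem F526769 : act 4 n224769 = n217030 := d16_2 D210630 D224769 F487050 (iv4 F501564) F501566 (iv4 F462426) (iv5 F526751) (iv7 D224766) F458216
theorem F526770 : act 1 n224769 = n219436 := d17_6 F526458 (iv5 D210627) (iv1 D139449) D139450 D210630 D224769 F498877 (iv0 F484308) (iv4 F526460)
theorem F526771 : act 0 n224769 = n216234 := d18_0 (iv4 F501676) F525861 F525858 F483393 (iv4 F391031) (iv0 F458962) (iv4 F484333) (iv0 F484334) D224769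
def n224770 : Q := act 3 n210636
theorem D224770 : act 3 n210636 = n224770 := rfl
theorem F526772 : act 2 n224770 = n216715 := d0_1 D224770 (iv3 F485598) (iv2 F499929) F499930 (iv2 F460722)
theorem F526773 : act 5 n224770 = n218143 := d6_2 F513404 D224770 (iv3 F513402)
theorem F526774 : act 6 n224770 = n220097 := d7_2 F458284 D224770 (iv3 F502106)
theorem F526775 : act 7 n224770 = n216716 := d8_2 (iv7 F460717) D224770 F485601
theorem F526776 : act 0 n224770 = n210671 := d19_4 F516527 (iv5 F526637) F526634 D224770 (iv5 D210671) (iv4 F458401) (iv3 F513026) F513030 (iv5 F457409) (iv4 F485356) (iv3 F485359) (iv1 F473011) (iv5 D213991) F245430 (iv3 D136540) F111276 D64211 D136595 D209548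
theorem F526777 : act 1 n224770 = n216706 := d15_1 (iv0 F526776) F485552 F460581
def n224771 : Q := act 3 n210637
theorem D224771 : act 3 n210637 = n224771 := rfl
theorem F526778 : act 4 n224771 = n210638 := d5_2 D210637 D224771 F475219 (iv4 F475220) F458237
theorem F526779 : act 6 n224771 = n210640 := d7_2 (iv6 F458285) D224771 (iv3 D210640)
theorem F526780 : act 0 n224771 = n210888 := d19_4 (iv1 D139453) D139454 D210637 D224771 F459154 (iv4 F481655) F481654 (iv1 F455134) (iv5 D152347) (iv4 F186772) (iv3 D118733) (iv1 F107523) D150577 D212834 (iv3 F501615) F504807 F504806 F501522 (iv3 D210634)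
theorem F526781 : act 0 n224743 = n224771 := d20_4 F519742 (iv1 F469569) (iv4 F468847) (iv3 F526630) (iv3 D224771) (iv4 D210637) D210635 (iv4 F519738) F519737 D223494
theorem F526782 : act 5 n224771 = n220281 := d17_1 F526781 (iv1 F517487) F455093 F277618 (iv5 F304631) F406689 (iv5 F469543) F469547 D224743
theorem F526783 : act 7 n224771 = n210637 := d16_8 (iv4 D211232) (iv5 D141236) (iv4 F173200) (iv5 F406602) (iv4 F428249) (iv5 F469439) (iv4 F503005) (iv5 F526782) (iv2 F460723)
def n224772 : Q := act 5 n210637
theorem D224772 : act 5 n210637 = n224772 := rfl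
theorem F526784 : act 2 n224772 = n223066 := d2_1 D224772 F517499 F460723
theorem F526785 : act 3 n224772 = n220281 := d6_1 D224772 (iv5 F526782) (iv3 D224771)
theorem F526786 : act 6 n224772 = n220280 := d12_2 (iv6 F458285) D224772 (iv5 D220280) F458300 (iv5 D210641)
theorem F526787 : act 7 n224772 = n220281 := d13_2 F526783 D224772 (iv5 F526782)
theorem F526788 : act 4 n224772 = n213173 := d16_2 D210637 D224772 (iv5 D213173) D213172 F469323 F413250 (iv5 F460727) (iv7 D211233) F224271
theorem F526789 : act 0 n224772 = n224500 := d17_2 (iv1 F469554) D224772 F525318 F481870 (iv5 F406681) (iv0 D198075) (iv5 F406647) F469553 F469549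
theorem F526790 : act 1 n224772 = n223719 := d17_6 F458513 (iv5 F343237) (iv1 D139453) D139454 D210637 D224772 (iv5 D223719) F504153 F504151
def n224773 : Q := act 3 n210639
theorem D224773 : act 3 n210639 = n224773 := rfl
theorem F526791 : act 2 n224773 = n215848 := d0_1 D224773 (iv3 F520937) F520936 F471208 F458288
theorem F526792 : act 4 n224773 = n214023 := d5_2 (iv4 F458287) D224773 F485411 F473066 (iv3 F406641)
theorem F526793 : act 5 n224773 = n217874 := d6_2 (iv5 F458289) D224773 F491035
theorem F526794 : act 7 n224773 = n222362 := d8_2 (iv7 F458290) D224773 (iv3 D222362)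
theorem F526795 : act 0 n224773 = n214041 := d20_4 (iv4 D198068) D198067 (iv4 F458287) D224773 F473227 (iv4 F287512) D192239 F386165 (iv3 F411465) F411467
theorem F526796 : act 0 n213979 = n224773 := d20_4 (iv4 F426822) (iv1 F386234) D212441 (iv3 F472961) (iv3 D224773) F458287 (iv1 F406644) (iv4 F406575) (iv3 F511926) F511929
def n224774 : Q := act 6 n210656
theorem D224774 : act 6 n210656 = n224774 := rfl
theorem F526797 : act 2 n224774 = n216229 := d3_1 D224774 (iv6 F498803) (iv2 F498804)
theorem F526798 : act 3 n224774 = n210663 := d7_1 D224774 (iv6 D210663) (iv3 F458356)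
theorem F526799 : act 4 n224774 = n224350 := d10_1 D224774 F524470 F488116
theorem F526800 : act 5 n224774 = n216456 := d12_1 D224774 (iv6 F484464) F457420 F424418 (iv5 F458357)
theorem F526801 : act 7 n224774 = n216228 := d14_2 D210656 D224774 (iv6 F524054) F524055 F454289
theorem F526802 : act 0 n224774 = n216230 := d21_4 F457074 F457423 (iv5 F458357) D224774 F483424 (iv5 D185341) (iv1 F135280) D185435 D216753 F485791
theorem F526803 : act 0 n216145 = n224774 := d21_4 (iv5 D215996) (iv1 F420111) (iv5 F485813) F485814 (iv6 D224774) F458357 (iv1 F458314) (iv5 F458317) D219424 F498830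
def n224775 : Q := act 5 n210657
theorem D224775 : act 5 n210657 = n224775 := rfl
theorem F526804 : act 2 n224775 = n217316 := d2_1 D224775 F488397 (iv2 F460548)
theorem F526805 : act 3 n224775 = n210658 := d6_1 D224775 (iv5 D210658) D210657
theorem F526806 : act 6 n224775 = n219556 := d12_2 F474840 D224775 (iv5 F525087) F525088 (iv5 F474839)
theorem F526807 : act 7 n224775 = n217030 := d13_2 (iv7 F458359) D224775 F487050
theorem F526808 : act 0 n224775 = n217315 := d17_2 (iv1 F460550) D224775 (iv5 F488392) F434317 (iv5 F433624) F519112 F519110 (iv0 F516190) F458437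
theorem F526809 : act 1 n224775 = n217314 := d17_6 F518454 F518452 F452698 (iv5 F524743) F524742 D224775 (iv5 F493485) (iv0 F499402) (iv4 F499399)
def n224776 : Q := act 5 n210659
theorem D224776 : act 5 n210659 = n224776 := rfl
theorem F526810 : act 2 n224776 = n223570 := d2_1 D224776 F520151 F460678
theorem F526811 : act 3 n224776 = n210661 := d6_1 D224776 (iv5 F458370) (iv3 F458364)
theorem F526812 : act 7 n224776 = n223571 := d13_2 F520143 D224776 F520154
theorem F526813 : act 0 n224776 = n215204 := d17_2 (iv1 F520150) D224776 (iv5 D215204) (iv4 F469635) F469636 (iv0 D202519) D202521 (iv0 F432529) (iv4 F520147)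
theorem F526814 : act 1 n224776 = n223572 := d17_6 F431570 F430797 (iv1 D139477) D139478 D210659 D224776 (iv5 F520178) F520181 F478856
def n224777 : Q := act 3 n210668
theorem D224777 : act 3 n210668 = n224777 := rfl
theorem F526815 : act 2 n224777 = n224701 := d0_1 D224777 F526398 F456865 (iv3 F424414) F458400
theorem F526816 : act 4 n224777 = n221102 := d5_2 F466107 D224777 (iv3 F507610) F507611 (iv3 F466106)
theorem F526817 : act 5 n224777 = n213609 := d6_2 (iv5 F458399) D224777 (iv3 D213609)
theorem F526818 : act 6 n224777 = n219537 := d7_2 F484239 D224777 F499322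
theorem F526819 : act 7 n224777 = n216597 := d8_2 (iv7 F458398) D224777 (iv3 D216597)
theorem F526820 : act 0 n220060 = n224777 := d20_4 (iv4 F481889) (iv1 F481930) F481928 (iv3 F501913) (iv3 D224777) (iv4 F466107) F466109 F352423 (iv3 F391035) F391037
def n224778 : Q := act 0 n210671
theorem D224778 : act 0 n210671 = n224778 := rfl
theorem F526821 : act 5 n224778 = n218144 := d17_1 D224778 (iv1 D218144) (iv5 F485956) (iv4 D216798) D216799 (iv0 F485963) (iv5 F524912) (iv0 F524917) F492367
theorem F526822 : act 3 n224778 = n214443 := d20_5 (iv4 F386091) (iv1 D154449) (iv4 F242500) (iv3 F458405) D224778 (iv4 D214443) (iv1 F471413) (iv4 F485447) F485446 F351166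
theorem F526823 : act 4 n224778 = n214445 := d20_8 F474940 F250995 (iv4 F428059) (iv3 F498517) (iv1 F498519) (iv3 F492364) F492367 D224778 (iv3 D214445) (iv1 F474937)
theorem F526824 : act 6 n224778 = n220470 := d21_5 (iv5 D210554) F349408 D139493 (iv6 F458406) D224778 (iv5 F503926) F499485 F499483 D220656 (iv1 F504827)
theorem F526825 : act 2 n216716 = n224778 := d15_3 (iv0 D224778) (iv0 F526776) F526775
theorem F526826 : act 1 n216706 = n224778 := d15_0 (iv0 D224778) (iv7 F458407) (iv2 F485551)
theorem F526827 : act 7 n224778 = n216715 := d15_2 F526777 F526826 (iv2 F526772)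
def n224779 : Q := act 3 n210680
theorem D224779 : act 3 n210680 = n224779 := rfl
theorem F526828 : act 2 n224779 = n214043 := d0_1 D224779 (iv3 F473494) F473493 (iv3 F503860) F503859
theorem F526829 : act 4 n224779 = n215928 := d5_2 (iv4 F473595) D224779 (iv3 F523591) F523592 (iv3 D211836)
theorem F526830 : act 6 n224779 = n214036 := d7_2 (iv6 F473596) D224779 (iv3 F473211)
theorem F526831 : act 0 n224779 = n222357 := d20_4 F180502 D144151 (iv4 F473595) D224779 (iv3 D222357) (iv4 F479728) F493336 F493334 (iv3 F473472) (iv1 D202517)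
theorem F526832 : act 0 n211306 = n224779 := d20_4 D210586 F517095 (iv4 F526590) F526589 (iv3 D224779) F473595 (iv1 F390727) (iv4 F473590) F473589 (iv1 F458107)
def n224780 : Q := act 0 n210681
theorem D224780 : act 0 n210681 = n224780 := rfl
theorem F526833 : act 5 n224780 = n216548 := d17_1 D224780 (iv1 D216548) (iv5 F483507) (iv4 F486286) F486287 F394071 (iv5 F469860) (iv0 F487904) F487902
theorem F526834 : act 4 n224780 = n217867 := d18_3 F503979 F487902 D224780 (iv5 D217867) D217866 (iv0 F491006) F387518 D194681 (iv5 F503977)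
theorem F526835 : act 6 n224780 = n213297 := d21_5 F499418 F484687 F487899 F487901 D224780 (iv5 F469789) F443312 (iv5 F470216) (iv6 F483608) F499419
theorem F526836 : act 0 n224780 = n216247 := d21_4 F501399 F481565 F469789 (iv6 F526835) (iv6 D216247) F283658 D183885 D216461 F484488 (iv1 F501401)
def n224781 : Q := act 1 n210681
theorem D224781 : act 1 n210681 = n224781 := rfl
theorem F526837 : act 1 n224781 = n216247 := d15_1 D224781 (iv7 F520597) F520594
theorem F526838 : act 5 n224781 = n216547 := d17_7 F393901 (iv5 F480232) F518784 (iv5 D223311) F425902 D210681 D224781 (iv0 D216547) (iv4 F393899)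
theorem F526839 : act 4 n224781 = n217869 := d17_9 (iv1 F518277) F518275 (iv1 F451816) F384958 D217323 F488425 (iv0 D210680) D210681 D224781
theorem F526840 : act 6 n211650 = n224781 := d21_9 (iv5 D210681) D210680 (iv5 F488425) F488423 (iv1 D217145) D217146 F487657 F482091 F478588 (iv1 D224781)
theorem F526841 : act 3 n224781 = n211634 := d7_1 F526840 F462466 D211650
def n224782 : Q := act 7 n210681
theorem D224782 : act 7 n210681 = n224782 := rfl
theorem F526842 : act 2 n224782 = n216247 := d4_1 D224782 (iv7 F520597) F520594
theorem F526843 : act 3 n224782 = n210692 := d8_1 D224782 (iv7 D210692) (iv3 F458431)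
theorem F526844 : act 5 n224782 = n210682 := d13_1 D224782 (iv7 D210682) D210681
theorem F526845 : act 6 n224782 = n216232 := d14_1 D224782 F483431 (iv6 F483284) (iv7 F487896) F487901
def n224783 : Q := act 4 n210687
theorem D224783 : act 4 n210687 = n224783 := rfl
theorem F526846 : act 6 n224783 = n210691 := d10_2 (iv6 F458443) D224783 (iv4 D210691)
theorem F526847 : act 5 n224783 = n216436 := d16_1 D224783 (iv4 F500631) (iv5 F513745) F513744 (iv5 F524288) F524287 (iv5 F483155) F483157 F460553
theorem F526848 : act 7 n220073 = n224783 := d13_0 F526847 F484360 (iv5 F501977)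
theorem F526849 : act 1 n216196 = n224783 := d17_6 F458963 (iv5 F386803) F499977 F499974 F471323 (iv5 F483337) F526847 F485455 F471436
def n224784 : Q := act 7 n210687
theorem D224784 : act 7 n210687 = n224784 := rfl
theorem F526850 : act 2 n224784 = n216141 := d4_1 D224784 F483157 F460553
theorem F526851 : act 3 n224784 = n216173 := d8_1 D224784 (iv7 F487896) F487900
theorem F526852 : act 4 n224784 = n220073 := d11_1 D224784 F526848 (iv4 D224783)
theorem F526853 : act 5 n224784 = n210688 := d13_1 D224784 (iv7 D210688) D210687
theorem F526854 : act 6 n224784 = n216148 := d14_1 D224784 F483187 F458452 (iv7 D210692) (iv6 F458443)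
def n224785 : Q := act 6 n210690
theorem D224785 : act 6 n210690 = n224785 := rfl
theorem F526855 : act 3 n224785 = n215307 := d7_1 D224785 (iv6 F491046) F491044
theorem F526856 : act 4 n224785 = n224603 := d10_1 D224785 F525873 F458449
theorem F526857 : act 5 n224785 = n220584 := d12_1 D224785 (iv6 D220584) F391476 F361961 (iv5 F458448)
theorem F526858 : act 7 n224785 = n213381 := d14_2 F500778 D224785 (iv6 D213381) (iv7 F386397) D219827
def n224786 : Q := act 1 n210691
theorem D224786 : act 1 n210691 = n224786 := rfl
theorem F526859 : act 1 n224786 = n216714 := d15_1 D224786 (iv7 F518371) F518369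
theorem F526860 : act 7 n224786 = n217651 := d15_2 (iv0 F485767) D224786 F489943
theorem F526861 : act 5 n224786 = n211563 := d17_7 (iv1 D138045) D138046 F444462 (iv5 F519998) (iv4 F520000) F485768 D224786 F462157 (iv4 D210266)
theorem F526862 : act 4 n224786 = n213772 := d17_9 F472029 (iv5 D202571) F330624 D215963 F482310 (iv5 D211569) D211568 F485768 D224786
theorem F526863 : act 3 n217652 = n224786 := d20_9 (iv4 D210691) F430836 (iv4 F449176) F449174 F365659 (iv3 F386392) (iv4 F499228) (iv1 F499230) F498651 (iv1 D224786)
theorem F526864 : act 2 n224786 = n220314 := d0_1 F526863 F503150 F449116 F395431 (iv2 F489947)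
def n224787 : Q := act 7 n210691
theorem D224787 : act 7 n210691 = n224787 := rfl
theorem F526865 : act 2 n224787 = n216714 := d4_1 D224787 (iv7 F518371) F518369
theorem F526866 : act 3 n224787 = n217319 := d8_1 D224787 (iv7 F489925) F489928
theorem F526867 : act 4 n224787 = n210692 := d11_1 D224787 (iv7 D210692) D210691
theorem F526868 : act 5 n224787 = n220313 := d13_1 D224787 F503147 F485768
theorem F526869 : act 6 n224787 = n212989 := d14_1 D224787 (iv7 F468483) D220073 F526848 F526846
theorem F526870 : act 1 n220314 = n224787 := d15_1 F518373 (iv7 D224787) (iv2 F518369)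
theorem F526871 : act 1 n224787 = n217651 := d15_1 F526870 (iv7 F526860) F526864
def n224788 : Q := act 0 n210696
theorem D224788 : act 0 n210696 = n224788 := rfl
theorem F526872 : act 4 n224788 = n218996 := d18_1 D224788 F510421 F510417 F453526 F347680 (iv0 D114112) (iv4 F177718) D201200 (iv5 F458473)
theorem F526873 : act 3 n224788 = n222860 := d20_5 F427204 (iv1 F424931) F424930 (iv3 F458471) D224788 F516462 (iv1 F452048) F452045 (iv3 F460933) (iv1 F460936)
theorem F526874 : act 6 n224788 = n218355 := d21_5 (iv5 D211171) F224160 (iv5 F222694) D210696 D224788 (iv5 F500794) (iv1 F500796) (iv5 F505860) F505861 (iv1 F460444)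
theorem F526875 : act 2 n222804 = n224788 := d15_3 (iv0 D224788) (iv0 F526377) (iv7 F526379)
theorem F526876 : act 1 n222801 = n224788 := d15_0 (iv0 D224788) (iv7 F458474) (iv2 F516154)
theorem F526877 : act 7 n224788 = n217970 := d15_2 (iv0 F526378) F526876 (iv2 F526373)
def n224789 : Q := act 5 n210704
theorem D224789 : act 5 n210704 = n224789 := rfl
theorem F526878 : act 2 n224789 = n220018 := d2_1 D224789 F501677 (iv2 F499521)
theorem F526879 : act 6 n224789 = n210705 := d12_2 D210704 D224789 (iv5 D210705) (iv6 D139521) D139520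
theorem F526880 : act 4 n224789 = n219968 := d16_2 F518451 D224789 (iv5 F519465) F519464 (iv5 F511976) F511972 (iv5 F518470) (iv7 D223257) (iv2 F518449)
theorem F526881 : act 0 n224789 = n224708 := d17_2 F491271 D224789 F526437 (iv4 F459039) (iv5 F462394) (iv0 D211616) (iv5 F451100) (iv0 F451102) (iv4 F491270)
theorem F526882 : act 1 n224789 = n217033 := d17_6 F525436 F453791 (iv1 F452704) (iv5 F518452) F518451 D224789 F487061 F459040 D224519
def n224790 : Q := act 0 n210733
theorem D224790 : act 0 n210733 = n224790 := rfl
theorem F526883 : act 5 n224790 = n223181 := d17_1 D224790 (iv1 D223181) (iv5 D202372) D202371 F423801 F414427 D214377 F474865 (iv4 F458634)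
theorem F526884 : act 4 n224790 = n220907 := d18_3 F474870 (iv4 F458634) D224790 (iv5 D220907) (iv4 F394824) (iv0 F364246) (iv4 F414275) (iv0 F414280) D214378
theorem F526885 : act 3 n224790 = n214776 := d20_5 D202177 (iv1 F458639) (iv4 D210734) (iv3 F458632) D224790 (iv4 D214776) F333718 D161925 (iv3 F422295) (iv1 F422298)
theorem F526886 : act 6 n224790 = n214016 := d21_5 F423765 F422523 F422522 (iv6 F458633) D224790 (iv5 F473147) (iv1 F518048) F518045 F423753 (iv1 F423764)
theorem F526887 : act 2 n223195 = n224790 := d15_3 (iv0 D224790) (iv0 F500827) F518126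
theorem F526888 : act 1 n220194 = n224790 := d15_0 (iv0 D224790) (iv7 F473243) (iv2 F502578)
theorem F526889 : act 7 n224790 = n223196 := d15_2 (iv0 F502582) F526888 F518132
def n224791 : Q := act 5 n210737
theorem D224791 : act 5 n210737 = n224791 := rfl
theorem F526890 : act 2 n224791 = n210743 := d2_1 D224791 (iv5 D210743) (iv2 F458652)
theorem F526891 : act 6 n224791 = n210740 := d12_2 D210737 D224791 (iv5 D210740) (iv6 D139638) D139637
theorem F526892 : act 4 n224791 = n216702 := d16_2 F505610 D224791 (iv5 F485536) F524087 (iv5 F524090) F488845 (iv5 F392837) (iv7 F458668) (iv2 F505608)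
theorem F526893 : act 1 n224791 = n214059 := d17_6 (iv1 F500308) (iv5 F488846) (iv1 F495996) (iv5 F505611) F505610 D224791 (iv5 D214059) D214058 (iv4 F500296)
theorem F526894 : act 0 n224791 = n224409 := d18_0 (iv4 D224409) F498473 F498469 F472821 (iv4 F509464) (iv0 F514672) (iv4 F518144) F518147 D224791
def n224792 : Q := act 3 n210738
theorem D224792 : act 3 n210738 = n224792 := rfl
theorem F526895 : act 2 n224792 = n223174 := d0_1 D224792 F518016 F458679 (iv3 D210745) F458656
theorem F526896 : act 4 n224792 = n210816 := d5_2 (iv4 F458653) D224792 (iv3 D210816) (iv4 D139843) D139842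
theorem F526897 : act 5 n224792 = n215870 := d6_2 F485898 D224792 (iv3 F505057)
theorem F526898 : act 6 n224792 = n213258 := d7_2 (iv6 F458654) D224792 (iv3 D213258)
theorem F526899 : act 7 n224792 = n210747 := d8_2 F458657 D224792 (iv3 D210747)
theorem F526900 : act 0 n224792 = n223173 := d20_4 F423012 F393581 (iv4 F458653) D224792 (iv3 F518013) (iv4 D215739) F276956 (iv4 F433018) F433017 F423013
theorem F526901 : act 1 n224792 = n223129 := d15_1 (iv0 F526900) F517796 (iv2 F518014)
def n224793 : Q := act 0 n210743
theorem D224793 : act 0 n210743 = n224793 := rfl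
theorem F526902 : act 5 n224793 = n214060 := d17_1 D224793 F514850 (iv5 F525384) (iv4 D224511) (iv5 D209283) D209282 (iv5 F485537) (iv0 D216703) F458671
theorem F526903 : act 4 n224793 = n219454 := d18_3 (iv1 D216704) F458671 D224793 F498952 F450602 F442311 (iv4 F499329) F499332 (iv5 F485541)
theorem F526904 : act 3 n224793 = n214063 := d20_5 F511927 F488246 (iv4 D210757) (iv3 F458669) D224793 F473298 F481458 F481456 (iv3 F500653) (iv1 F511930)
theorem F526905 : act 2 n224409 = n224793 := d15_3 (iv0 D224793) (iv0 F524495) (iv7 F524799)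
theorem F526906 : act 6 n224793 = n224628 := d3_2 (iv6 F524798) F526905 F525997
theorem F526907 : act 7 n224793 = n214059 := d4_2 (iv7 F524799) F526905 (iv2 F524491)
def n224794 : Q := act 7 n210743
theorem D224794 : act 7 n210743 = n224794 := rfl
theorem F526908 : act 3 n224794 = n210758 := d8_1 D224794 (iv7 D210758) (iv3 F458669)
theorem F526909 : act 4 n224794 = n216705 := d11_1 D224794 (iv7 D216705) F458671
theorem F526910 : act 5 n224794 = n210744 := d13_1 D224794 (iv7 D210744) D210743
theorem F526911 : act 1 n214059 = n224794 := d15_1 F526893 (iv7 D224794) (iv2 F526890)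
theorem F526912 : act 1 n224794 = n224409 := d15_1 F526911 F524799 F524491
def n224795 : Q := act 4 n210748
theorem D224795 : act 4 n210748 = n224795 := rfl
theorem F526913 : act 2 n224795 = n220474 := d1_1 D224795 F503941 F469492
theorem F526914 : act 6 n224795 = n223446 := d10_2 F469488 D224795 (iv4 F519500)
theorem F526915 : act 7 n224795 = n216635 := d11_2 F485897 D224795 F485899
theorem F526916 : act 5 n224795 = n223388 := d16_1 D224795 F519213 F427392 (iv4 F276450) (iv5 F424569) (iv4 F426967) D210746 F469495 F469492
theorem F526917 : act 0 n224795 = n219352 := d17_0 (iv5 F518995) F518996 F518921 (iv4 D214035) (iv5 D156225) (iv0 F423710) D212893 F467991 D224795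
theorem F526918 : act 3 n224795 = n216445 := d20_3 F469398 F469396 D224795 (iv1 F484406) (iv3 F364071) (iv4 F472847) (iv1 F485348) (iv4 F500603) F500606 (iv1 F484505)
def n224796 : Q := act 3 n210749
theorem D224796 : act 3 n210749 = n224796 := rfl
theorem F526919 : act 5 n224796 = n214031 := d6_2 (iv5 F458682) D224796 F473186
theorem F526920 : act 7 n224796 = n214030 := d8_2 F458683 D224796 F473183
theorem F526921 : act 1 n223175 = n224796 := d15_1 (iv0 F518023) F526920 F473182
theorem F526922 : act 1 n224796 = n216589 := d15_1 F526921 (iv7 F485469) (iv2 F518020)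
def n224797 : Q := act 4 n210749
theorem D224797 : act 4 n210749 = n224797 := rfl
theorem F526923 : act 7 n224797 = n214035 := d11_2 F458683 D224797 (iv4 D214035)
theorem F526924 : act 0 n224797 = n220504 := d17_0 F504091 F519215 (iv5 F526916) (iv4 D224795) (iv5 D210748) (iv0 F426965) F481805 F481807 D224797
def n224798 : Q := act 6 n210749
theorem D224798 : act 6 n210749 = n224798 := rfl
theorem F526925 : act 2 n224798 = n213242 := d3_1 D224798 (iv6 F519618) F519617
theorem F526926 : act 5 n224798 = n213068 := d12_1 D224798 (iv6 D213068) (iv5 F247907) (iv6 F366634) (iv5 F458682)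
theorem F526927 : act 0 n224798 = n216658 := d21_4 F363546 (iv1 F426976) (iv5 F458682) D224798 F485351 (iv5 D215440) (iv1 F350654) D210754 (iv6 F485900) (iv1 D216779)
theorem F526928 : act 0 n210770 = n224798 := d21_4 F359522 (iv1 F179578) (iv5 F222822) D210770 (iv6 D224798) F458682 (iv1 F426975) D223355 F519021 F472421
def n224799 : Q := act 1 n210753
theorem D224799 : act 1 n210753 = n224799 := rfl
theorem F526929 : act 1 n224799 = n223131 := d15_1 D224799 F517807 (iv2 F458692)
theorem F526930 : act 7 n224799 = n222956 := d15_2 (iv0 F482069) D224799 F516975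
theorem F526931 : act 4 n217871 = n224799 := d20_6 (iv4 F358748) (iv1 D174398) D174399 D215405 (iv1 F479828) (iv3 F491024) (iv1 D224799) F458693 (iv3 D189190) (iv1 F286299)
theorem F526932 : act 6 n213865 = n224799 := d21_3 (iv5 F458728) (iv1 F502648) F502650 (iv1 D224799) F458694 (iv5 F469587) F501251 (iv5 D219932) (iv6 D192450) D192447
theorem F526933 : act 2 n224799 = n217874 := d3_1 F526932 (iv6 D217874) F472482
theorem F526934 : act 5 n215848 = n224799 := d21_2 (iv5 F461063) F481773 (iv6 F526932) (iv1 F472484) (iv6 F473043) F473042 (iv1 F473067) D215841 (iv6 F517782) (iv1 F517783)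
def n224800 : Q := act 5 n210753
theorem D224800 : act 5 n210753 = n224800 := rfl
theorem F526935 : act 2 n224800 = n223198 := d2_1 D224800 (iv5 D223198) (iv2 F458692)
theorem F526936 : act 3 n224800 = n210754 := d6_1 D224800 (iv5 D210754) D210753
theorem F526937 : act 4 n224800 = n223021 := d9_1 D224800 (iv5 D223021) (iv4 F517074) (iv5 F526738) (iv4 D224764) F458171 (iv4 F517804) F517805 (iv4 F485859) F485860 F422644 D221861 (iv4 F511111) (iv5 D218382) (iv4 F458693)
theorem F526938 : act 6 n224800 = n215870 := d12_2 (iv6 F458694) D224800 (iv5 F526897) F526898 F469587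
theorem F526939 : act 7 n224800 = n224645 := d13_2 F517165 D224800 F526078
theorem F526940 : act 1 n224800 = n223598 := d17_6 D208331 D224347 F524456 (iv5 D218382) (iv4 F458693) D224800 F520264 (iv0 F463003) F245557
theorem F526941 : act 0 n224800 = n213993 := d21_1 D224800 F473019 (iv6 D202229) (iv1 F330595) (iv6 F386741) (iv5 F458728) (iv1 F502648) F502650 F526932 (iv1 D224799)
def n224801 : Q := act 3 n210756
theorem D224801 : act 3 n210756 = n224801 := rfl
theorem F526942 : act 2 n224801 = n214041 := d0_1 D224801 F473227 F287513 D192251 (iv2 F465808)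
theorem F526943 : act 4 n224801 = n213980 := d5_2 F465809 D224801 F472964 (iv4 D204454) (iv3 F386227)
theorem F526944 : act 5 n224801 = n211307 := d6_2 F510646 D224801 (iv3 F510642)
theorem F526945 : act 6 n224801 = n222998 := d7_2 F524492 D224801 (iv3 F524494)
theorem F526946 : act 7 n224801 = n213979 := d8_2 (iv7 F465807) D224801 F472961
theorem F526947 : act 0 n224801 = n222362 := d19_4 (iv1 F354939) (iv5 F386228) F465809 D224801 F513805 (iv4 F491041) F491040 (iv1 F372307) (iv5 F386405) F389897 (iv3 F431018) F444680 (iv5 D207396) (iv4 F439900) F439901 F234100 F318758 (iv4 F244527) F244526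
theorem F526948 : act 0 n215848 = n224801 := d20_4 (iv4 D213469) (iv1 F432980) D223727 F520937 (iv3 D224801) (iv4 F465809) (iv1 F484348) F484346 (iv3 F498927) F498930
def n224802 : Q := act 6 n210758
theorem D224802 : act 6 n210758 = n224802 := rfl
theorem F526949 : act 2 n224802 = n216658 := d3_1 D224802 F485351 F480003
theorem F526950 : act 4 n224802 = n213596 := d10_1 D224802 F518836 F518831
theorem F526951 : act 5 n224802 = n216657 := d12_1 D224802 F485345 (iv5 D213803) (iv6 F350657) (iv5 F458704)
theorem F526952 : act 7 n224802 = n210770 := d14_2 D210758 D224802 (iv6 D210770) (iv7 D139657) (iv6 F222817)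
theorem F526953 : act 0 n213242 = n224802 := d21_4 (iv5 D213194) F429037 D223470 F519618 (iv6 D224802) F458704 (iv1 F422611) (iv5 F485140) F485141 (iv1 F469397)
def n224803 : Q := act 4 n210759
theorem D224803 : act 4 n210759 = n224803 := rfl
theorem F526954 : act 2 n224803 = n224735 := d1_1 D224803 F526583 F481751
theorem F526955 : act 5 n224803 = n219791 := d9_2 (iv5 F469517) D224803 F500639 (iv5 F473042) F473041 (iv5 D185178) (iv4 F287515) (iv5 F458627) F458626 (iv5 F473072) (iv4 D214005) (iv5 D156174) (iv4 F172516) D199354 (iv4 F469518)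
theorem F526956 : act 7 n224803 = n223130 := d11_2 (iv7 F458707) D224803 F517799
theorem F526957 : act 0 n224803 = n224734 := d18_2 D210759 D224803 F526579 F517217 (iv4 D213629) F471344 (iv4 F473049) F473050 F469520
theorem F526958 : act 1 n224803 = n224733 := d18_6 F485444 (iv4 D216678) (iv1 F411821) (iv4 F469518) (iv5 F469517) D224803 F526573 (iv0 F521288) F509602
def n224804 : Q := act 6 n210763
theorem D224804 : act 6 n210763 = n224804 := rfl
theorem F526959 : act 2 n224804 = n220512 := d3_1 D224804 (iv6 D220512) (iv2 F458722)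
theorem F526960 : act 3 n224804 = n215570 := d7_1 D224804 (iv6 F480558) (iv3 F458726)
theorem F526961 : act 4 n224804 = n210764 := d10_1 D224804 (iv6 D210764) D210763
theorem F526962 : act 7 n224804 = n220393 := d14_2 (iv7 F458724) D224804 F503562 F502657 F489994
theorem F526963 : act 0 n224804 = n224354 := d21_4 F289351 F415888 (iv5 F458723) D224804 F524490 (iv5 F517376) (iv1 F475882) (iv5 F504110) (iv6 D220507) F391118
theorem F526964 : act 1 n224804 = n224353 := d15_1 (iv0 F526963) (iv7 F524787) F524784
def n224805 : Q := act 1 n210764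
theorem D224805 : act 1 n210764 = n224805 := rfl
theorem F526965 : act 5 n224805 = n223176 := d17_7 F443605 (iv5 F463066) F512547 (iv5 D222138) (iv4 F473341) F473342 D224805 (iv0 F518029) F473280
theorem F526966 : act 3 n223187 = n224805 := d19_19 (iv1 D224805) (iv5 F473342) F473341 (iv3 D198475) (iv1 D109347) D109348 D198481 F408130 (iv1 F497203) F497201 (iv4 F495480) (iv3 F495485) (iv1 F487785) (iv5 D190851) D190850 (iv3 F426159) (iv1 F426162) D212434 (iv4 F518078)
def n224806 : Q := act 5 n210771
theorem D224806 : act 5 n210771 = n224806 := rfl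
theorem F526967 : act 2 n224806 = n224764 := d2_1 D224806 F526738 (iv2 F517076)
theorem F526968 : act 3 n224806 = n210772 := d6_1 D224806 (iv5 D210772) D210771
theorem F526969 : act 6 n224806 = n216169 := d12_2 F463866 D224806 (iv5 F510510) (iv6 F510509) F507593
theorem F526970 : act 7 n224806 = n221861 := d13_2 (iv7 F458739) D224806 (iv5 D221861)
theorem F526971 : act 4 n224806 = n216170 := d16_2 (iv4 F458738) D224806 (iv5 F484931) (iv4 F517163) (iv5 F526078) F526079 F520675 F516941 (iv2 F422840)
theorem F526972 : act 0 n224806 = n224652 := d17_2 (iv1 F517079) D224806 (iv5 D224652) F455256 F433268 D215870 (iv5 F526897) F526901 F517794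
theorem F526973 : act 1 n224806 = n224653 := d17_6 (iv1 F245395) D209897 (iv1 F472938) (iv5 D210774) (iv4 F458738) D224806 (iv5 D224653) F455257 F404082
def n224807 : Q := act 6 n210774
theorem D224807 : act 6 n210774 = n224807 := rfl
theorem F526974 : act 2 n224807 = n223069 := d3_1 D224807 (iv6 F517506) F517289
theorem F526975 : act 3 n224807 = n210776 := d7_1 D224807 (iv6 D210776) (iv3 F458743)
theorem F526976 : act 4 n224807 = n223599 := d10_1 D224807 (iv6 F520271) F518140
theorem F526977 : act 7 n224807 = n223068 := d14_2 F485861 D224807 F517504 F505034 F485862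
theorem F526978 : act 0 n224807 = n213985 := d21_4 F472952 F472699 D210774 D224807 (iv6 D213985) (iv5 D156158) (iv1 D74283) D74284 (iv6 F245392) D213977
theorem F526979 : act 1 n224807 = n223070 := d15_1 (iv0 F526978) (iv7 D223070) (iv2 F472984)
def n224808 : Q := act 7 n210776
theorem D224808 : act 7 n210776 = n224808 := rfl
theorem F526980 : act 3 n224808 = n223068 := d8_1 D224808 (iv7 F526977) F526975
theorem F526981 : act 5 n224808 = n223274 := d13_1 D224808 F518568 F517690
theorem F526982 : act 6 n224808 = n219775 := d14_1 D224808 F500567 (iv6 D216770) F359520 D210776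
theorem F526983 : act 1 n219781 = n224808 := d15_1 F517381 (iv7 D224808) (iv2 F485876)
theorem F526984 : act 1 n224808 = n223039 := d15_1 F526983 (iv7 F526653) F526650
def n224809 : Q := act 3 n210782
theorem D224809 : act 3 n210782 = n224809 := rfl
theorem F526985 : act 2 n224809 = n223125 := d0_1 D224809 F517768 F472756 F423024 F458772
theorem F526986 : act 4 n224809 = n213631 := d5_2 (iv4 F458771) D224809 (iv3 F471372) F424600 (iv3 F424584)
theorem F526987 : act 5 n224809 = n223457 := d6_2 F519025 D224809 F519546
theorem F526988 : act 6 n224809 = n223122 := d7_2 F458994 D224809 F517757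
theorem F526989 : act 7 n224809 = n221562 := d8_2 (iv7 F458774) D224809 F509600
theorem F526990 : act 0 n224809 = n223124 := d20_4 F458653 (iv1 F424586) (iv4 F458771) D224809 (iv3 F521295) F521296 (iv1 F433643) (iv4 F422601) F422600 D210738
theorem F526991 : act 0 n223123 = n224809 := d20_4 (iv4 F525677) F525680 F503488 F517763 (iv3 D224809) F458771 (iv1 F505473) F505472 F458662 F517034
def n224810 : Q := act 5 n210790
theorem D224810 : act 5 n210790 = n224810 := rfl
theorem F526992 : act 2 n224810 = n212198 := d2_1 D224810 (iv5 D212198) (iv2 F458800)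
theorem F526993 : act 3 n224810 = n213418 := d6_1 D224810 F470299 (iv3 F458801)
theorem F526994 : act 6 n224810 = n216144 := d12_2 D210790 D224810 (iv5 F507614) (iv6 D221181) F397327
theorem F526995 : act 7 n224810 = n221882 := d13_2 F516438 D224810 (iv5 F516439)
theorem F526996 : act 4 n224810 = n213420 := d16_2 (iv4 F458802) D224810 F470303 (iv4 F375389) (iv5 F426002) F426003 F334974 (iv7 D145512) (iv2 F228553)
theorem F526997 : act 0 n224810 = n221883 := d17_2 F458803 D224810 F511200 F404561 F315159 F321608 (iv5 D65645) D65644 D139848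
theorem F526998 : act 1 n224810 = n221878 := d17_6 F360664 F334983 (iv1 F334976) (iv5 F334980) (iv4 F458802) D224810 (iv5 D221878) (iv0 F470071) (iv4 D213354)
def n224811 : Q := act 0 n210794
theorem D224811 : act 0 n210794 = n224811 := rfl
theorem F526999 : act 5 n224811 = n216984 := d17_1 D224811 F486874 F483299 F403990 (iv5 F466135) (iv0 D212504) D212505 F466147 (iv4 F458823)
theorem F527000 : act 4 n224811 = n213080 := d18_1 D224811 F468906 D218134 F492293 (iv4 F486870) F486873 D216987 F486884 F483255
theorem F527001 : act 3 n224811 = n221124 := d20_5 (iv4 D210801) (iv1 D139819) (iv4 F223011) (iv3 F458822) D224811 (iv4 F521392) F521395 F518180 (iv3 F516442) F516440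
theorem F527002 : act 6 n224811 = n214857 := d21_5 (iv5 F404175) (iv1 F458818) (iv5 D210793) D210794 D224811 (iv5 F510812) (iv1 F510814) (iv5 D221052) (iv6 D195320) F396672
theorem F527003 : act 2 n210805 = n224811 := d15_3 (iv0 D224811) (iv0 F458824) D210805
theorem F527004 : act 1 n210803 = n224811 := d15_0 (iv0 D224811) (iv7 F510638) F510634
theorem F527005 : act 7 n224811 = n210795 := d15_2 D210803 F527004 F458825
def n224812 : Q := act 5 n210795
theorem D224812 : act 5 n210795 = n224812 := rfl
theorem F527006 : act 2 n224812 = n210804 := d2_1 D224812 (iv5 D210804) (iv2 F458825)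
theorem F527007 : act 3 n224812 = n216559 := d6_1 D224812 (iv5 F521419) F521416
theorem F527008 : act 6 n224812 = n210798 := d12_2 D210795 D224812 (iv5 D210798) (iv6 D139815) D139814
theorem F527009 : act 7 n224812 = n216984 := d13_2 F527005 D224812 (iv5 F526999)
theorem F527010 : act 4 n224812 = n216981 := d16_2 (iv4 F458826) D224812 (iv5 D216981) (iv4 F367432) D189283 (iv4 F466222) F466224 F458855 F458852
theorem F527011 : act 1 n224812 = n220199 := d17_6 F479233 F479231 (iv1 F468913) F468910 (iv4 F458826) D224812 F502606 F475636 F475634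
def n224813 : Q := act 3 n210796
theorem D224813 : act 3 n210796 = n224813 := rfl
theorem F527012 : act 2 n224813 = n224606 := d0_1 D224813 F525890 F511977 (iv3 D210806) F458829
theorem F527013 : act 4 n224813 = n219705 := d5_2 (iv4 F458828) D224813 F500160 F385422 D198599
theorem F527014 : act 6 n224813 = n219704 := d7_2 F458830 D224813 F500154
theorem F527015 : act 7 n224813 = n210808 := d8_2 F458831 D224813 (iv3 D210808)
theorem F527016 : act 0 n224813 = n222575 := d20_4 F458802 F408469 (iv4 F458828) D224813 (iv3 D222575) (iv4 F455326) (iv1 D198648) (iv4 F396793) F396792 F458803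
theorem F527017 : act 0 n222107 = n224813 := d20_4 (iv4 F509571) F509868 F509865 (iv3 F512399) (iv3 D224813) F458828 F408468 (iv4 F458887) (iv3 F521744) (iv1 F521747)
def n224814 : Q := act 4 n210798
theorem D224814 : act 4 n210798 = n224814 := rfl
theorem F527018 : act 2 n224814 = n210811 := d1_1 D224814 (iv4 D210811) (iv2 F458838)
theorem F527019 : act 3 n224814 = n219433 := d5_1 D224814 F498870 F384210 D216164 F483256
theorem F527020 : act 6 n224814 = n216981 := d10_2 F527008 D224814 (iv4 F527010)
theorem F527021 : act 7 n224814 = n222863 := d11_2 F526565 D224814 (iv4 F526567)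
theorem F527022 : act 5 n224814 = n213110 := d16_1 D224814 F469058 F420586 (iv4 D144982) F317365 (iv4 F223036) (iv5 F458873) (iv7 D210812) (iv2 F458838)
theorem F527023 : act 0 n224814 = n223403 := d17_0 F519280 (iv1 F452351) D222859 F516460 (iv5 D214140) (iv0 F357855) D212051 F464140 D224814
theorem F527024 : act 1 n224814 = n217322 := d18_6 F516440 (iv4 D210801) (iv1 D139819) (iv4 F223011) D210798 D224814 (iv4 F488421) D221882 (iv5 F516439)
def n224815 : Q := act 5 n210800
theorem D224815 : act 5 n210800 = n224815 := rfl
theorem F527025 : act 2 n224815 = n210817 := d2_1 D224815 (iv5 D210817) (iv2 F458844)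
theorem F527026 : act 3 n224815 = n224531 := d6_1 D224815 F525503 F463137
theorem F527027 : act 6 n224815 = n224653 := d12_2 (iv6 F458845) D224815 (iv5 D224653) (iv6 F518110) F518109
theorem F527028 : act 7 n224815 = n210820 := d13_2 (iv7 F458846) D224815 (iv5 D210820)
theorem F527029 : act 4 n224815 = n224532 := d16_2 D210800 D224815 F525505 (iv4 D218308) F375401 F319324 (iv5 F318731) F333637 (iv2 F333632)
theorem F527030 : act 1 n224815 = n222569 := d17_6 F317366 F317359 F333620 F333622 D210800 D224815 F514966 F470072 F404561
def n224816 : Q := act 5 n210801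
theorem D224816 : act 5 n210801 = n224816 := rfl
theorem F527031 : act 2 n224816 = n210820 := d2_1 D224816 (iv5 D210820) (iv2 F458848)
theorem F527032 : act 4 n224816 = n213112 := d9_1 D224816 (iv5 D213112) F239721 (iv5 F177735) (iv4 F178797) F333622 D210800 D224815 F527029 F525505 (iv4 D218308) F375401 F319324 (iv5 F318731) D210801
theorem F527033 : act 7 n224816 = n210817 := d13_2 (iv7 F458850) D224816 (iv5 D210817)
theorem F527034 : act 0 n224816 = n222569 := d17_2 F516440 D224816 F514966 (iv4 D213354) F340737 D194540 F393649 F420843 D222855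
def n224817 : Q := act 7 n210804
theorem D224817 : act 7 n210804 = n224817 := rfl
theorem F527035 : act 2 n224817 = n216984 := d4_1 D224817 (iv7 F527009) F527006
theorem F527036 : act 3 n224817 = n222573 := d8_1 D224817 (iv7 D222573) (iv3 F458860)
theorem F527037 : act 4 n224817 = n216980 := d11_1 D224817 F486855 (iv4 F458862)
theorem F527038 : act 5 n224817 = n210805 := d13_1 D224817 (iv7 D210805) D210804
theorem F527039 : act 1 n220199 = n224817 := d15_1 F527011 (iv7 D224817) (iv2 F527006)
def n224818 : Q := act 0 n210806
theorem D224818 : act 0 n210806 = n224818 := rfl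
theorem F527040 : act 3 n224818 = n221855 := d20_5 F228557 (iv1 F334441) (iv4 F364628) D210806 D224818 F511077 F517081 (iv4 F515258) F515257 F458851
theorem F527041 : act 6 n224818 = n221755 := d21_5 F482686 (iv1 F526322) F526319 F472233 D224818 (iv5 F510792) (iv1 F510793) D223167 (iv6 F518221) F518219
def n224819 : Q := act 5 n210806
theorem D224819 : act 5 n210806 = n224819 := rfl
theorem F527042 : act 3 n224819 = n210807 := d6_1 D224819 (iv5 D210807) D210806
def n224820 : Q := act 4 n210807
theorem D224820 : act 4 n210807 = n224820 := rfl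
theorem F527043 : act 2 n224820 = n222857 := d1_1 D224820 F526532 (iv2 F526531)
theorem F527044 : act 5 n224820 = n210851 := d9_2 D210807 D224820 F459021 F420601 F393645 F393649 F364530 D210809 F458867 (iv5 D201543) (iv4 D114801) (iv5 D52972) (iv4 F83690) D114755 (iv4 F364628)
theorem F527045 : act 6 n224820 = n210852 := d10_2 F510794 D224820 (iv4 F510795)
theorem F527046 : act 7 n224820 = n222849 := d11_2 (iv7 F526527) D224820 (iv4 F526524)
theorem F527047 : act 1 n224820 = n222866 := d18_6 F458851 F228557 (iv1 F334441) (iv4 F364628) D210807 D224820 F516482 (iv0 F527034) (iv5 D224816)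
theorem F527048 : act 3 n224820 = n210857 := d19_3 D139829 D210807 D224820 F499530 (iv5 D219577) F384414 F152463 D183135 F426546 (iv4 F423991) (iv3 D202438) (iv1 D115736) F336723 F81186 F49287 F39684 D25268 D52057 (iv3 F101373)
theorem F527049 : act 1 n220237 = n224820 := d15_0 F527047 (iv7 F526709) F526706
def n224821 : Q := act 1 n210808
theorem D224821 : act 1 n210808 = n224821 := rfl
theorem F527050 : act 1 n224821 = n224606 := d15_1 D224821 F525892 F507492
theorem F527051 : act 7 n224821 = n222107 := d15_2 (iv0 F524119) D224821 (iv2 F524114)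
theorem F527052 : act 4 n224821 = n222186 := d18_7 (iv1 F483977) (iv4 F522484) F522485 F439265 F454884 F458866 D224821 (iv0 F512787) (iv5 F483974)
theorem F527053 : act 3 n222108 = n224821 := d20_3 F512118 D222055 (iv4 F512403) (iv1 D224821) (iv3 D210808) (iv4 F364530) (iv1 D145510) (iv4 F228557) (iv3 F436642) F512121
theorem F527054 : act 6 n211548 = n224821 := d21_3 F470049 (iv1 F356233) D211548 (iv1 D224821) F458865 F414628 (iv1 D144417) (iv5 F162237) D195508 (iv1 F470047)
theorem F527055 : act 2 n224821 = n222575 := d3_1 F527054 (iv6 F519258) F519252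
def n224822 : Q := act 5 n210808
theorem D224822 : act 5 n210808 = n224822 := rfl
theorem F527056 : act 3 n224822 = n210809 := d6_1 D224822 (iv5 D210809) D210808
theorem F527057 : act 6 n224822 = n221825 := d12_2 (iv6 F458865) D224822 F510947 (iv6 D211920) (iv5 F414628)
theorem F527058 : act 1 n224822 = n223586 := d17_6 F510760 F519071 (iv1 D223364) F454884 F458866 D224822 F520208 (iv0 F513824) F513823
def n224823 : Q := act 6 n210809
theorem D224823 : act 6 n210809 = n224823 := rfl
theorem F527059 : act 3 n224823 = n221825 := d7_1 D224823 (iv6 F527057) F527056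
theorem F527060 : act 4 n224823 = n216612 := d10_1 D224823 (iv6 F485168) (iv4 F458867)
theorem F527061 : act 0 n221841 = n224823 := d21_4 F483305 F510547 F510546 (iv6 F511003) (iv6 D224823) (iv5 D210809) (iv1 D139830) D139831 (iv6 F458861) F483306
def n224824 : Q := act 3 n210810
theorem D224824 : act 3 n210810 = n224824 := rfl
theorem F527062 : act 5 n224824 = n219901 := d6_2 (iv5 F458868) D224824 F501107
theorem F527063 : act 7 n224824 = n221841 := d8_2 F458869 D224824 F511002
def n224825 : Q := act 4 n210810
theorem D224825 : act 4 n210810 = n224825 := rfl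
theorem F527064 : act 2 n224825 = n224523 := d1_1 D224825 (iv4 F525457) F464137
theorem F527065 : act 5 n224825 = n213095 := d9_2 (iv5 F458868) D224825 F468988 F464038 (iv4 F314676) (iv5 D139089) (iv4 F222271) D210464 (iv4 F520450) (iv5 D223634) F431418 (iv5 D201386) F318223 D146315 (iv4 F404127)
theorem F527066 : act 7 n224825 = n221847 := d11_2 F458869 D224825 (iv4 D221847)
theorem F527067 : act 0 n224825 = n222864 := d17_0 (iv5 D222864) (iv1 D201541) D201543 (iv4 F458867) (iv5 D210809) F458842 (iv5 F526566) F526564 D224825
theorem F527068 : act 1 n224825 = n218307 := d18_6 D197494 F404554 (iv1 F363428) (iv4 F404127) (iv5 F458868) D224825 F493229 F464717 (iv5 D197496)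
theorem F527069 : act 3 n224825 = n224789 := d19_3 F404129 (iv5 F458868) D224825 F526881 F526437 (iv4 F459039) (iv3 F484063) F484067 F453953 (iv4 F405223) F405222 (iv1 F167880) D197557 F404811 F202666 F166518 (iv5 D107764) D107763 (iv3 F221862)
theorem F527070 : act 6 n222437 = n224825 := d7_0 F527069 F526879 (iv3 F514214)
def n224826 : Q := act 6 n210810
theorem D224826 : act 6 n210810 = n224826 := rfl
theorem F527071 : act 2 n224826 = n223416 := d3_1 D224826 F519341 F464137
theorem F527072 : act 4 n224826 = n222437 := d10_1 D224826 F527070 (iv4 D224825)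
theorem F527073 : act 5 n224826 = n212815 := d12_1 D224826 (iv6 D212815) F236067 (iv6 F404128) (iv5 F458868)
def n224827 : Q := act 0 n210811
theorem D224827 : act 0 n210811 = n224827 := rfl
theorem F527074 : act 5 n224827 = n224466 := d17_3 F428276 (iv5 F458871) D224827 F525135 F464002 F426006 F426002 (iv0 F375390) D203432
theorem F527075 : act 4 n224827 = n221883 := d18_3 F457651 D210811 D224827 F511200 F404561 F317367 D138712 (iv0 F363423) D210464
theorem F527076 : act 3 n224827 = n216871 := d20_5 (iv4 F432813) (iv1 F504516) F504517 F483815 D224827 (iv4 F488418) (iv1 F488006) (iv4 F486286) F520788 (iv1 D223697)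
theorem F527077 : act 6 n224827 = n217951 := d21_5 F486871 (iv1 F367440) D186610 (iv6 F458870) D224827 (iv5 D217951) F384594 (iv5 F486886) (iv6 D216988) (iv1 F486873)
theorem F527078 : act 2 n223403 = n224827 := d15_3 (iv0 D224827) (iv0 F525275) F525274
theorem F527079 : act 7 n224827 = n217322 := d4_2 F525274 F527078 (iv2 F525270)
theorem F527080 : act 1 n222863 = n224827 := d15_1 (iv0 F525276) F527079 (iv2 F525270)
def n224828 : Q := act 7 n210811
theorem D224828 : act 7 n210811 = n224828 := rfl
theorem F527081 : act 2 n224828 = n222863 := d4_1 D224828 (iv7 F527021) F527018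
theorem F527082 : act 4 n224828 = n210812 := d11_1 D224828 (iv7 D210812) D210811
theorem F527083 : act 5 n224828 = n213111 := d13_1 D224828 F469063 (iv5 F458871)
theorem F527084 : act 1 n217322 = n224828 := d15_1 F527024 (iv7 D224828) (iv2 F527018)
theorem F527085 : act 1 n224828 = n223403 := d15_1 F527084 (iv7 F525274) F525270
def n224829 : Q := act 6 n210812
theorem D224829 : act 6 n210812 = n224829 := rfl
theorem F527086 : act 3 n224829 = n221828 := d7_1 D224829 (iv6 D221828) (iv3 F458872)
theorem F527087 : act 5 n224829 = n222626 := d12_1 D224829 F515247 F453236 F227234 (iv5 F458873)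
theorem F527088 : act 0 n224829 = n221134 := d21_4 F526530 (iv1 F458832) (iv5 F458873) D224829 F507382 (iv5 D198388) F203881 D200195 D222567 (iv1 F526528)
theorem F527089 : act 1 n224829 = n224531 := d15_1 (iv0 F527088) F525502 (iv2 F507381)
def n224830 : Q := act 5 n210815
theorem D224830 : act 5 n210815 = n224830 := rfl
theorem F527090 : act 2 n224830 = n221882 := d2_1 D224830 (iv5 F516439) F516436
theorem F527091 : act 4 n224830 = n223703 := d9_1 D224830 F520814 F458146 F375409 (iv4 D147889) (iv5 F334980) (iv4 F458802) D224810 F526996 F470303 (iv4 F375389) (iv5 F426002) F426003 F334974 (iv4 F458887)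
theorem F527092 : act 7 n224830 = n212198 := d13_2 (iv7 F458889) D224830 (iv5 D212198)
theorem F527093 : act 0 n224830 = n221878 := d17_2 D210815 D224830 (iv5 D221878) F404533 (iv5 F317347) (iv0 F325095) (iv5 F333653) F223021 D139843
theorem F527094 : act 1 n224830 = n221883 := d17_6 F357843 F109141 D145889 F334974 (iv4 F458887) D224830 F511200 (iv0 F466456) (iv4 D212566)
def n224831 : Q := act 0 n210816
theorem D224831 : act 0 n210816 = n224831 := rfl
theorem F527095 : act 5 n224831 = n221783 := d17_1 D224831 (iv1 D221783) (iv5 D197332) F167169 D156208 D214024 (iv5 F518011) (iv0 F526900) F526896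
theorem F527096 : act 4 n224831 = n213932 := d20_2 F526896 D224831 (iv3 F517414) (iv1 F521299) F521295 F517767 F517802 F517799 (iv3 F517793) (iv1 F526901)
theorem F527097 : act 3 n224831 = n221088 := d20_5 F101374 D65643 D139843 D210816 D224831 (iv4 F525885) (iv1 F525888) F458866 (iv3 D210808) (iv1 D139830)
theorem F527098 : act 2 n221744 = n224831 := d15_3 (iv0 D224831) (iv0 F517279) (iv7 F510626)
theorem F527099 : act 1 n211803 = n224831 := d15_0 (iv0 D224831) (iv7 F515259) F515256
theorem F527100 : act 7 n224831 = n221085 := d15_2 (iv0 F463136) F527099 F507151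
theorem F527101 : act 6 n213930 = n224831 := d21_3 (iv5 D211263) D211262 (iv5 F472768) (iv1 F527099) (iv6 D211803) (iv5 D144120) D144118 F422702 (iv6 F509715) F509717
def n224832 : Q := act 2 n210816
theorem D224832 : act 2 n210816 = n224832 := rfl
theorem F527102 : act 3 n224832 = n221135 := d0_2 D210816 D224832 F507384 F463137 F458844
theorem F527103 : act 4 n224832 = n223174 := d1_2 F526896 D224832 (iv2 F526895)
theorem F527104 : act 6 n224832 = n223197 := d3_2 F472252 D224832 F518133
theorem F527105 : act 7 n224832 = n211803 := d4_2 F515259 D224832 (iv2 F515256)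
theorem F527106 : act 1 n224832 = n221085 := d15_0 (iv0 F515260) F515259 D224832
theorem F527107 : act 1 n221744 = n224832 := d15_0 F527106 (iv7 F527100) (iv2 F527098)
def n224833 : Q := act 5 n210816
theorem D224833 : act 5 n210816 = n224833 := rfl
theorem F527108 : act 3 n224833 = n210817 := d6_1 D224833 (iv5 D210817) D210816
def n224834 : Q := act 4 n210817
theorem D224834 : act 4 n210817 = n224834 := rfl
theorem F527109 : act 2 n224834 = n224532 := d1_1 D224834 (iv4 F527029) F527025
theorem F527110 : act 5 n224834 = n213113 := d9_2 D210817 D224834 F469067 (iv5 F419448) F419447 (iv5 D139849) D139848 D210820 (iv4 F519560) (iv5 D223460) (iv4 D203432) (iv5 D119048) (iv4 F187301) F333634 D139843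
theorem F527111 : act 7 n224834 = n213112 := d11_2 F527033 D224834 (iv4 F527032)
theorem F527112 : act 0 n224834 = n222862 := d17_0 (iv5 D222862) F452350 (iv5 F519280) (iv4 D223403) (iv5 D203237) F404556 D221880 F511192 D224834
theorem F527113 : act 1 n224834 = n222859 := d18_6 (iv1 D139830) F101374 D65643 D139843 D210817 D224834 F516460 F473679 (iv5 D210809)
theorem F527114 : act 3 n224834 = n217867 := d19_3 (iv1 F458804) D210817 D224834 F499280 (iv5 F499912) F499911 D222084 (iv1 F512758) (iv5 D222180) (iv4 D198567) D198566 F496049 F496048 (iv4 F506300) F506301 F477609 F424090 F424089 (iv3 F458801)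
def n224835 : Q := act 5 n210830
theorem D224835 : act 5 n210830 = n224835 := rfl
theorem F527115 : act 2 n224835 = n214445 := d2_1 D224835 F475209 F460604
theorem F527116 : act 6 n224835 = n223496 := d12_2 D210830 D224835 F519750 (iv6 F469113) F458491
theorem F527117 : act 4 n224835 = n216716 := d16_6 D220001 (iv5 F525922) F525921 (iv5 D210833) (iv4 F458944) D224835 (iv5 F485600) (iv7 F492355) (iv2 F492356)
theorem F527118 : act 1 n224835 = n223492 := d17_6 (iv1 F502385) (iv5 F525954) F525955 (iv5 D210833) (iv4 F458944) D224835 F519734 (iv0 D223435) (iv4 F468760)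
def n224836 : Q := act 0 n210833
theorem D224836 : act 0 n210833 = n224836 := rfl
theorem F527119 : act 5 n224836 = n220151 := d17_3 (iv1 D210832) D210833 D224836 F502380 F460970 D220470 (iv5 F503926) (iv0 F484682) F481580
theorem F527120 : act 4 n224836 = n220470 := d18_1 D224836 (iv1 D220470) F390908 (iv5 F458409) (iv4 F519881) (iv0 F519885) F499482 (iv0 D210831) D210833
theorem F527121 : act 3 n224836 = n214446 := d20_5 D224484 (iv1 F525535) (iv4 D224538) (iv3 F458949) D224836 F475210 D214447 (iv4 F519528) F525229 (iv1 D224483)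
theorem F527122 : act 2 n223496 = n224836 := d15_3 (iv0 D224836) (iv0 F525955) (iv7 F525957)
theorem F527123 : act 6 n224836 = n214445 := d3_2 F527116 F527122 (iv2 F527115)
theorem F527124 : act 7 n224836 = n223497 := d4_2 (iv7 F525957) F527122 (iv2 F525952)
theorem F527125 : act 1 n222850 = n224836 := d15_1 (iv0 F525956) F527124 (iv2 F525952)
def n224837 : Q := act 7 n210833
theorem D224837 : act 7 n210833 = n224837 := rfl
theorem F527126 : act 2 n224837 = n222850 := d4_1 D224837 F516410 (iv2 F458948)
theorem F527127 : act 3 n224837 = n222873 := d8_1 D224837 F516523 (iv3 F458949)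
theorem F527128 : act 5 n224837 = n210834 := d13_1 D224837 (iv7 D210834) D210833
theorem F527129 : act 6 n224837 = n220502 := d14_1 D224837 (iv7 F520365) F520364 (iv7 D210840) (iv6 F458950)
theorem F527130 : act 1 n223497 = n224837 := d15_1 D223497 (iv7 D224837) F458948
theorem F527131 : act 1 n224837 = n223496 := d15_1 F527130 F525957 F525952
def n224838 : Q := act 5 n210860
theorem D224838 : act 5 n210860 = n224838 := rfl
theorem F527132 : act 2 n224838 = n224600 := d2_1 D224838 (iv5 D224600) (iv2 F459050)
theorem F527133 : act 3 n224838 = n210861 := d6_1 D224838 (iv5 D210861) D210860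
theorem F527134 : act 6 n224838 = n217744 := d12_2 (iv6 F459052) D224838 (iv5 D217744) F468548 F468546
theorem F527135 : act 7 n224838 = n224597 := d13_2 (iv7 F459053) D224838 (iv5 D224597)
theorem F527136 : act 1 n224838 = n224602 := d17_6 (iv1 D143487) D143488 D211632 F462458 (iv4 F459051) D224838 F525870 F484929 (iv4 D211629)
theorem F527137 : act 0 n224838 = n217210 := d18_0 F487953 (iv1 D209756) D209757 (iv5 F454842) (iv4 F488310) (iv0 F522340) (iv4 F526670) (iv0 F526674) D224838
def n224839 : Q := act 4 n210861
theorem D224839 : act 4 n210861 = n224839 := rfl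
theorem F527138 : act 2 n224839 = n217247 := d1_1 D224839 (iv4 F501670) F501668
theorem F527139 : act 5 n224839 = n211570 := d9_2 D210861 D224839 F462184 (iv5 D186805) F304747 (iv5 F307714) (iv4 F348290) D210859 (iv4 F526262) (iv5 D224679) F456147 (iv5 D192061) F348285 (iv5 F361511) F361510
theorem F527140 : act 6 n224839 = n220525 := d10_2 (iv6 F501514) D224839 F504185
theorem F527141 : act 7 n224839 = n211569 := d11_2 F482309 D224839 (iv4 F482310)
theorem F527142 : act 0 n224839 = n213770 := d17_0 F472021 (iv1 F462157) (iv5 F526861) F526862 (iv5 D213772) (iv0 F403435) D221706 F510414 D224839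
theorem F527143 : act 1 n224839 = n224698 := d18_6 F363482 (iv4 F363480) F363472 F361510 D210861 D224839 F526382 F472019 F472014
theorem F527144 : act 3 n224839 = n220526 := d19_3 (iv1 F361509) D210861 D224839 (iv1 F504194) F449126 (iv4 F440804) F440803 (iv1 F206894) (iv5 F358213) F358212 (iv3 D83464) (iv1 F127839) (iv5 F271780) F271779 (iv3 F273439) D215463 (iv5 F510094) F510093 (iv3 D214128)
def n224840 : Q := act 3 n210863
theorem D224840 : act 3 n210863 = n224840 := rfl
theorem F527145 : act 4 n224840 = n216268 := d5_2 F503151 D224840 (iv3 D216268) (iv4 F459528) (iv3 F503150)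
theorem F527146 : act 5 n224840 = n216554 := d6_2 F460921 D224840 F484916
theorem F527147 : act 6 n224840 = n220446 := d7_2 F460918 D224840 (iv3 F503824)
theorem F527148 : act 0 n224840 = n224601 := d20_4 (iv4 F526867) (iv1 F526870) F503151 D224840 F525864 (iv4 D219392) (iv1 F389893) (iv4 F389897) (iv3 F500774) F500776
theorem F527149 : act 0 n224598 = n224840 := d20_4 (iv4 F469807) (iv1 F469809) (iv4 F470211) (iv3 F525852) (iv3 D224840) (iv4 F503151) (iv1 F518373) (iv4 D223240) F424432 (iv1 F358791)
def n224841 : Q := act 3 n210864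
theorem D224841 : act 3 n210864 = n224841 := rfl
theorem F527150 : act 2 n224841 = n217213 := d0_1 D224841 (iv3 D217213) (iv2 F369225) D217303 F488351
theorem F527151 : act 5 n224841 = n217635 := d6_2 (iv5 F459055) D224841 F489879
theorem F527152 : act 7 n224841 = n219521 := d8_2 F501200 D224841 (iv3 F501196)
theorem F527153 : act 0 n224841 = n219513 := d19_4 (iv1 D139986) D139987 D210864 D224841 (iv5 D219513) (iv4 F499232) (iv3 F523531) F523535 (iv5 D209335) F219390 (iv3 F219814) D209594 (iv5 F454268) (iv4 D209411) F365485 D211632 F462458 (iv4 F459051) (iv3 D210860)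
theorem F527154 : act 0 n219523 = n224841 := d20_4 (iv4 F487672) F498705 F498701 (iv3 F499268) (iv3 D224841) (iv4 D210864) D210862 (iv4 F489945) F489944 F371233
def n224842 : Q := act 5 n210876
theorem D224842 : act 5 n210876 = n224842 := rfl
theorem F527155 : act 3 n224842 = n213807 := d6_1 D224842 (iv5 F491652) (iv3 F491654)
theorem F527156 : act 4 n224842 = n222850 := d9_1 D224842 (iv5 D222850) (iv4 F428008) D223434 F519440 F485596 D220001 (iv5 F525922) F525921 (iv5 D210833) (iv4 F458944) D224835 F527117 (iv5 F485600) (iv4 F459110)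
theorem F527157 : act 6 n224842 = n216708 := d12_2 D210876 D224842 F485560 (iv6 D202682) (iv5 F223266)
theorem F527158 : act 7 n224842 = n223492 := d13_2 F519446 D224842 F519734
theorem F527159 : act 1 n224842 = n214445 := d17_6 (iv1 D211199) D211200 (iv1 F485599) (iv5 F485600) (iv4 F459110) D224842 F475209 (iv0 F503170) F503169
def n224843 : Q := act 6 n210880
theorem D224843 : act 6 n210880 = n224843 := rfl
theorem F527160 : act 2 n224843 = n220209 := d3_1 D224843 (iv6 D220209) (iv2 F459130)
theorem F527161 : act 3 n224843 = n210881 := d7_1 D224843 (iv6 D210881) (iv3 F459131)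
theorem F527162 : act 4 n224843 = n224434 := d10_1 D224843 F524947 F491057
theorem F527163 : act 5 n224843 = n223199 := d12_1 D224843 F518145 (iv5 D214046) F339886 D210880
theorem F527164 : act 7 n224843 = n216778 := d14_2 (iv7 F459132) D224843 (iv6 D216778) (iv7 F359524) D210765
theorem F527165 : act 1 n224805 = n224843 := d15_1 D224805 F527164 F485895
theorem F527166 : act 0 n224511 = n224843 := d17_0 F527163 (iv1 F518146) (iv5 F526910) F526909 F485549 F470789 (iv5 F485882) (iv0 F485883) D224511
def n224844 : Q := act 0 n210881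
theorem D224844 : act 0 n210881 = n224844 := rfl
theorem F527167 : act 5 n224844 = n213944 := d17_3 (iv1 F429051) (iv5 F459133) D224844 F472839 (iv5 F428403) (iv0 F428406) F239262 (iv0 F312468) (iv4 F423342)
theorem F527168 : act 3 n224844 = n216605 := d20_5 (iv4 F524489) (iv1 F524950) (iv4 F527162) F527161 D224844 F485149 F432597 (iv4 F520669) F520668 F517380
theorem F527169 : act 2 n213945 = n224844 := d15_3 (iv0 D224844) (iv0 F459134) (iv7 F472845)
theorem F527170 : act 1 n223000 = n224844 := d15_0 (iv0 D224844) (iv7 F518061) F518058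
theorem F527171 : act 7 n224844 = n222997 := d15_2 D223000 F527170 F517178
theorem F527172 : act 6 n220511 = n224844 := d14_5 F527171 (iv6 F517958) F517959 F485325 (iv7 F504125)
def n224845 : Q := act 3 n210883
theorem D224845 : act 3 n210883 = n224845 := rfl
theorem F527173 : act 4 n224845 = n213244 := d5_2 D210883 D224845 (iv3 F493198) F493200 (iv3 D210882)
theorem F527174 : act 5 n224845 = n224633 := d6_2 (iv5 F459138) D224845 (iv3 D224633)
theorem F527175 : act 7 n224845 = n222036 := d8_2 F517549 D224845 (iv3 F517547)
theorem F527176 : act 0 n224845 = n224744 := d19_4 F111427 (iv5 F223381) D210883 D224845 F526637 (iv4 D213178) F239987 (iv1 F188680) F188681 (iv4 F162621) F162618 (iv1 F109221) (iv5 F110878) F110877 (iv3 F97545) (iv1 D48883) F42604 D55041 (iv3 F320532)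
theorem F527177 : act 0 n223493 = n224845 := d20_4 (iv4 F500589) F516501 F516498 (iv3 F519737) (iv3 D224845) (iv4 D210883) (iv1 F223382) (iv4 F455106) (iv3 F455109) F459141
theorem F527178 : act 6 n224845 = n215833 := d21_5 F433025 F402306 (iv5 F429105) D223493 F527177 F500694 F500693 D224609 F525911 F519708
theorem F527179 : act 2 n223717 = n224845 := d15_3 (iv0 F527177) (iv0 F519740) (iv7 F520894)
def n224846 : Q := act 6 n210883
theorem D224846 : act 6 n210883 = n224846 := rfl
theorem F527180 : act 2 n224846 = n214025 := d3_1 D224846 F473168 (iv2 F459137)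
theorem F527181 : act 3 n224846 = n215833 := d7_1 D224846 (iv6 F527178) (iv3 D224845)
theorem F527182 : act 4 n224846 = n210884 := d10_1 D224846 (iv6 D210884) D210883
theorem F527183 : act 5 n224846 = n223090 := d12_1 D224846 F517596 F526023 (iv6 D224634) (iv5 F459138)
theorem F527184 : act 0 n223045 = n224846 := d21_4 (iv5 D115362) D115360 D202075 D223045 (iv6 D224846) F459138 F455126 (iv5 F472970) (iv6 F472971) (iv1 D202081)
def n224847 : Q := act 1 n210884
theorem D224847 : act 1 n210884 = n224847 := rfl
theorem F527185 : act 1 n224847 = n214026 := d15_1 D224847 (iv7 D214026) (iv2 F459143)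
theorem F527186 : act 7 n224847 = n214023 := d15_2 (iv0 F481779) D224847 F485410
theorem F527187 : act 4 n224847 = n222362 := d17_9 F513807 F461063 (iv1 D211308) (iv5 F455187) F455186 (iv5 F433268) (iv0 F433269) (iv5 F459145) D224847
theorem F527188 : act 5 n214061 = n224847 := d21_0 (iv1 D224847) F459145 (iv6 D156007) F111026 D135740 (iv5 F422379) F423078 D202411 (iv6 F518017) (iv1 F518018)
theorem F527189 : act 6 n223184 = n224847 := d21_3 D223055 (iv1 F517456) (iv5 F518069) (iv1 D224847) (iv6 D210884) F223381 (iv1 F111488) D137031 D209862 F455184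
theorem F527190 : act 2 n224847 = n214024 := d3_1 F527189 (iv6 F524603) (iv2 F524607)
theorem F527191 : act 3 n213234 = n224847 := d0_0 F527190 F485413 (iv2 F277237) D177983 F469521
def n224848 : Q := act 7 n210884
theorem D224848 : act 7 n210884 = n224848 := rfl
theorem F527192 : act 2 n224848 = n214026 := d4_1 D224848 (iv7 D214026) (iv2 F459143)
theorem F527193 : act 3 n224848 = n223470 := d8_1 D224848 F519619 (iv3 F459144)
theorem F527194 : act 5 n224848 = n213868 := d13_1 D224848 (iv7 D213868) (iv5 F459145)
theorem F527195 : act 1 n214024 = n224848 := d15_1 D214024 (iv7 D224848) F459143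
theorem F527196 : act 1 n224848 = n214023 := d15_1 F527195 (iv7 F527186) F527190
def n224849 : Q := act 4 n210885
theorem D224849 : act 4 n210885 = n224849 := rfl
theorem F527197 : act 2 n224849 = n218153 := d1_1 D224849 (iv4 F517194) F517192
theorem F527198 : act 5 n224849 = n212426 := d9_2 (iv5 F459146) D224849 (iv4 F472075) (iv5 D213784) (iv4 F328605) F359963 (iv4 F359960) (iv5 F469584) (iv4 F489293) (iv5 D217519) (iv4 F472085) (iv5 D213786) (iv4 F440467) F440463 F415363
theorem F527199 : act 7 n224849 = n214019 := d11_2 (iv7 F459147) D224849 (iv4 D214019)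
theorem F527200 : act 0 n224849 = n220467 := d17_0 (iv5 F525043) (iv1 D224449) (iv5 F451472) (iv4 F502645) (iv5 D220206) (iv0 F388835) D213795 F472127 D224849
theorem F527201 : act 1 n224849 = n222852 := d18_6 D119634 (iv4 F409543) (iv1 F415359) F415363 (iv5 F459146) D224849 F516420 (iv0 D203615) (iv5 D119637)
theorem F527202 : act 3 n224849 = n212431 := d19_3 (iv1 F359965) (iv5 F459146) D224849 F525580 F525578 (iv4 F502463) (iv3 D220171) (iv1 F502295) F502293 F388394 (iv3 F372430) (iv1 F372433) (iv5 F375723) (iv4 F378374) F378373 (iv1 F350173) (iv5 F158460) D194327 F392835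
theorem F527203 : act 6 n212427 = n224849 := d7_0 F527202 F465778 (iv3 F465763)
def n224850 : Q := act 6 n210885
theorem D224850 : act 6 n210885 = n224850 := rfl
theorem F527204 : act 2 n224850 = n220497 := d3_1 D224850 F517198 F517192
theorem F527205 : act 3 n224850 = n210887 := d7_1 D224850 (iv6 D210887) D210885
theorem F527206 : act 4 n224850 = n212427 := d10_1 D224850 F527203 (iv4 D224849)
theorem F527207 : act 0 n224850 = n215842 := d21_4 (iv5 D213803) (iv1 F359965) (iv5 F459146) D224850 (iv6 D215842) D215841 (iv1 F481755) (iv5 F485885) (iv6 F517923) (iv1 F517925)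
theorem F527208 : act 7 n220498 = n224850 := d11_0 F527206 F465764 D220498
def n224851 : Q := act 3 n210886
theorem D224851 : act 3 n210886 = n224851 := rfl
theorem F527209 : act 2 n224851 = n224745 := d0_1 D224851 (iv3 D224745) (iv2 F512007) (iv3 F517547) F517546
theorem F527210 : act 4 n224851 = n212431 := d5_2 D210886 D224851 (iv3 F527202) (iv4 D224849) (iv3 D210885)
theorem F527211 : act 5 n224851 = n223151 := d6_2 (iv5 F459149) D224851 (iv3 F517893)
theorem F527212 : act 6 n224851 = n212435 := d7_2 F469291 D224851 (iv3 F469290)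
theorem F527213 : act 7 n224851 = n214027 := d8_2 (iv7 F459150) D224851 (iv3 D214027)
theorem F527214 : act 0 n224851 = n223033 := d19_4 (iv1 F111511) (iv5 F223386) D210886 D224851 (iv5 F525589) F525586 (iv3 F527127) (iv1 F527130) (iv5 F519752) F457724 D218145 (iv1 F492363) (iv5 F485974) (iv4 F485971) (iv3 F449625) (iv1 F517567) (iv5 D223084) F422929 (iv3 D137030)
def n224852 : Q := act 1 n210887
theorem D224852 : act 1 n210887 = n224852 := rfl
theorem F527215 : act 7 n224852 = n215806 := d15_2 (iv0 F518076) D224852 (iv2 F518073)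
theorem F527216 : act 5 n224852 = n224212 := d17_7 F448332 (iv5 D208201) F348260 D181152 D216115 F483029 D224852 F523671 (iv4 D223649)
theorem F527217 : act 4 n224852 = n216672 := d18_7 F366110 F245273 (iv1 F316059) (iv4 F239943) D213164 (iv4 F469293) D224852 (iv0 F485415) (iv5 D215923)
theorem F527218 : act 3 n215766 = n224852 := d19_19 (iv1 D224852) (iv5 F483029) (iv4 D216115) F282163 D181153 F282165 (iv4 D177789) F299669 (iv1 D75360) F54728 D38847 D84231 (iv1 F326023) F365990 (iv4 F478979) F478978 (iv1 F368956) F368953 (iv4 F481483)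
theorem F527219 : act 6 n224773 = n224852 := d21_3 F526078 F517166 (iv5 F526793) (iv1 D224852) (iv6 D210887) F223386 (iv1 F111510) D137034 D209863 D224645
def n224853 : Q := act 7 n210892
theorem D224853 : act 7 n210892 = n224853 := rfl
theorem F527220 : act 2 n224853 = n211440 := d4_1 D224853 F461543 (iv2 F459173)
theorem F527221 : act 3 n224853 = n223135 := d8_1 D224853 F517828 F461490
theorem F527222 : act 4 n224853 = n211857 := d11_1 D224853 F463285 (iv4 F459175)
theorem F527223 : act 5 n224853 = n210893 := d13_1 D224853 (iv7 D210893) D210892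
theorem F527224 : act 1 n211981 = n224853 := d15_1 (iv0 F463822) (iv7 D224853) F459173
theorem F527225 : act 1 n224853 = n214095 := d15_1 F527224 (iv7 F508898) F508895
def n224854 : Q := act 6 n210901
theorem D224854 : act 6 n210901 = n224854 := rfl
theorem F527226 : act 2 n224854 = n222321 := d3_1 D224854 (iv6 F513579) F469733
theorem F527227 : act 3 n224854 = n210904 := d7_1 D224854 (iv6 D210904) (iv3 F459214)
theorem F527228 : act 4 n224854 = n221399 := d10_1 D224854 (iv6 F520525) F520524
theorem F527229 : act 5 n224854 = n222322 := d12_1 D224854 F513582 F459999 (iv6 D210902) D210901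
theorem F527230 : act 7 n224854 = n222320 := d14_2 F471566 D224854 F513573 F459816 F471569
theorem F527231 : act 0 n224854 = n221414 := d21_4 (iv5 F405133) (iv1 F405135) D210901 D224854 F508904 F459861 (iv1 F386498) (iv5 F480417) (iv6 F493118) F493116
theorem F527232 : act 0 n222323 = n224854 := d21_4 F387493 (iv1 F387336) F434267 (iv6 F513590) (iv6 D224854) (iv5 D210901) F400193 (iv5 F457489) (iv6 D210430) (iv1 F387491)
def n224855 : Q := act 6 n210910
theorem D224855 : act 6 n210910 = n224855 := rfl
theorem F527233 : act 2 n224855 = n211007 := d3_1 D224855 (iv6 D211007) (iv2 F459251)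
theorem F527234 : act 3 n224855 = n211029 := d7_1 D224855 (iv6 D211029) F459250
theorem F527235 : act 4 n224855 = n216576 := d10_1 D224855 F485023 (iv4 F459249)
theorem F527236 : act 5 n224855 = n212535 := d12_1 D224855 F466313 (iv5 F505549) (iv6 F505552) (iv5 F459248)
theorem F527237 : act 7 n224855 = n218285 := d14_2 (iv7 F459247) D224855 (iv6 D218285) (iv7 F471549) F471548
theorem F527238 : act 0 n224855 = n210925 := d21_4 D137658 D210142 (iv5 F459248) D224855 (iv6 F461950) (iv5 D211519) F350011 (iv5 F456323) (iv6 D210140) (iv1 D137656)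
theorem F527239 : act 0 n219873 = n224855 := d21_4 (iv5 F454260) (iv1 D209592) F405200 (iv6 F500981) (iv6 D224855) F459248 (iv1 F456333) (iv5 D137670) (iv6 F338934) (iv1 F453934)
def n224856 : Q := act 0 n210913
theorem D224856 : act 0 n210913 = n224856 := rfl
theorem F527240 : act 5 n224856 = n217195 := d17_1 D224856 F487883 F386949 (iv4 F386932) F386933 F431968 F431962 F366741 (iv4 F459266)
theorem F527241 : act 4 n224856 = n224709 := d18_1 D224856 F526445 F479728 (iv5 F498863) F498864 F480348 F469781 (iv0 F498656) F498654
theorem F527242 : act 3 n224856 = n212072 := d20_5 (iv4 F488291) F522341 (iv4 F526670) F526669 D224856 (iv4 D212072) (iv1 F464231) F464229 (iv3 F473532) (iv1 F473537)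
theorem F527243 : act 6 n224856 = n217196 := d21_5 D210494 (iv1 F459263) (iv5 D210912) D210913 D224856 (iv5 D217196) F487632 F487630 (iv6 F400200) (iv1 F400203)
theorem F527244 : act 2 n218329 = n224856 := d15_3 (iv0 D224856) (iv0 F459267) D218329
theorem F527245 : act 1 n218328 = n224856 := d15_0 (iv0 D224856) (iv7 F504055) F504052
theorem F527246 : act 7 n224856 = n218191 := d15_2 D218328 F527245 F492619
def n224857 : Q := act 0 n210917
theorem D224857 : act 0 n210917 = n224857 := rfl
theorem F527247 : act 5 n224857 = n213314 := d17_1 D224857 (iv1 F469868) (iv5 D198217) (iv4 F331083) (iv5 F391573) F391577 D217169 F487762 (iv4 F459277)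
theorem F527248 : act 4 n224857 = n217267 := d18_1 D224857 F488196 F471959 (iv5 D199182) (iv4 F224887) F400458 (iv4 F462068) (iv0 D211547) F459278
theorem F527249 : act 3 n224857 = n221589 := d20_5 D214175 F473860 F432421 (iv3 F459276) D224857 F509738 F453789 (iv4 F451035) F451034 F359209
theorem F527250 : act 6 n224857 = n220028 := d21_5 (iv5 F224839) (iv1 F164684) D140364 D210917 D224857 (iv5 F524348) F524351 (iv5 D211317) (iv6 D141824) D141821
theorem F527251 : act 2 n210921 = n224857 := d15_3 (iv0 D224857) (iv0 F474387) (iv7 F474389)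
theorem F527252 : act 1 n210924 = n224857 := d15_0 (iv0 D224857) (iv7 F503741) F503737
theorem F527253 : act 7 n224857 = n210922 := d15_2 F474388 F527252 (iv2 F474384)
def n224858 : Q := act 3 n210930
theorem D224858 : act 3 n210930 = n224858 := rfl
theorem F527254 : act 2 n224858 = n222343 := d0_1 D224858 F513702 F411345 (iv3 F390021) F459339
theorem F527255 : act 4 n224858 = n212159 := d5_2 F459341 D224858 (iv3 D212159) (iv4 D145398) (iv3 F228428)
theorem F527256 : act 5 n224858 = n219673 := d6_2 (iv5 F459337) D224858 (iv3 D219673)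
theorem F527257 : act 6 n224858 = n221563 := d7_2 F511279 D224858 (iv3 F511277)
theorem F527258 : act 7 n224858 = n219874 := d8_2 F459340 D224858 (iv3 D219874)
theorem F527259 : act 0 n212535 = n224858 := d20_4 (iv4 D173292) D173291 (iv4 F273904) (iv3 F466312) (iv3 D224858) (iv4 F459341) D212152 F464512 F479414 (iv1 D215326)
def n224859 : Q := act 6 n210931
theorem D224859 : act 6 n210931 = n224859 := rfl
theorem F527260 : act 2 n224859 = n219875 := d3_1 D224859 (iv6 D219875) F459344
theorem F527261 : act 3 n224859 = n219960 := d7_1 D224859 (iv6 F503428) F503425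
theorem F527262 : act 4 n224859 = n219961 := d10_1 D224859 F501386 F461521
theorem F527263 : act 7 n224859 = n222342 := d14_2 (iv7 F459343) D224859 (iv6 D222342) F411326 (iv6 F407274)
theorem F527264 : act 0 n215551 = n224859 := d21_4 F513519 F466114 (iv5 F411126) (iv6 F480459) (iv6 D224859) (iv5 F459345) F459219 (iv5 F459999) (iv6 F513582) F513583
def n224860 : Q := act 4 n210938
theorem D224860 : act 4 n210938 = n224860 := rfl
theorem F527265 : act 2 n224860 = n222513 := d1_1 D224860 F514647 F512034
theorem F527266 : act 3 n224860 = n222520 := d5_1 D224860 F514685 F461987 (iv4 D210939) D210938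
theorem F527267 : act 7 n224860 = n211079 := d11_2 (iv7 F459380) D224860 (iv4 D211079)
theorem F527268 : act 5 n224860 = n213902 := d16_7 F472651 F464760 (iv4 F514695) (iv5 F514697) F461442 (iv5 F459379) D224860 F472657 F472654
theorem F527269 : act 0 n224860 = n222522 := d17_0 (iv5 F514697) (iv1 D202162) (iv5 D115410) F84089 D112679 D200124 (iv5 F479902) (iv0 F479901) D224860
theorem F527270 : act 1 n224860 = n222521 := d18_8 (iv1 F517626) F517622 (iv1 F500864) (iv4 F518105) F518102 F517949 (iv0 F479901) D224860 F514689
def n224861 : Q := act 6 n210939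
theorem D224861 : act 6 n210939 = n224861 := rfl
theorem F527271 : act 2 n224861 = n211085 := d3_1 D224861 (iv6 D211085) (iv2 F459381)
theorem F527272 : act 4 n224861 = n210940 := d10_1 D224861 (iv6 D210940) D210939
theorem F527273 : act 5 n224861 = n211068 := d12_1 D224861 (iv6 F461986) (iv5 D211525) D211526 (iv5 F461979)
theorem F527274 : act 7 n224861 = n221540 := d14_2 (iv7 F459382) D224861 (iv6 F509497) F414533 F407012
theorem F527275 : act 0 n224861 = n221541 := d21_10 F509502 (iv1 F470037) (iv5 D211941) F227237 D196411 F460023 F460025 (iv1 F461981) (iv5 F461979) D224861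
theorem F527276 : act 0 n221538 = n224861 := d21_4 F401556 (iv1 F169276) D196596 D221538 (iv6 D224861) F461979 F461980 F406960 (iv6 D196710) D196707
def n224862 : Q := act 4 n211009
theorem D224862 : act 4 n211009 = n224862 := rfl
theorem F527277 : act 2 n224862 = n223162 := d1_1 D224862 F517949 (iv2 F479903)
theorem F527278 : act 3 n224862 = n219838 := d5_1 D224862 F500826 (iv3 F393613) (iv4 F505513) F505512
theorem F527279 : act 6 n224862 = n220586 := d10_2 (iv6 F459737) D224862 F504477
theorem F527280 : act 7 n224862 = n223695 := d11_2 F513712 D224862 F520777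
theorem F527281 : act 5 n224862 = n219837 := d16_5 (iv4 F521302) F521303 F459735 D211009 D224862 F500824 D219846 F500868 F481908
theorem F527282 : act 0 n224862 = n214609 := d17_0 F514924 F514922 F472564 (iv4 D200121) D200122 (iv0 F415113) F360028 (iv0 F459738) D224862
def n224863 : Q := act 4 n211012
theorem D224863 : act 4 n211012 = n224863 := rfl
theorem F527283 : act 2 n224863 = n220730 := d1_1 D224863 (iv4 D220730) (iv2 F459747)
theorem F527284 : act 5 n224863 = n214564 := d9_2 D211012 D224863 (iv4 D214564) (iv5 F251995) F292051 (iv5 F365264) D194251 D220700 F505043 F475094 F441474 (iv5 F251985) (iv4 F369974) F369975 (iv4 F367026)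
theorem F527285 : act 6 n224863 = n224112 := d10_2 (iv6 F459748) D224863 F523092
theorem F527286 : act 7 n224863 = n218644 := d11_2 F510385 D224863 (iv4 F510383)
theorem F527287 : act 0 n224863 = n213717 := d17_0 F471772 F375104 D217834 F490845 (iv5 D194344) D194343 (iv5 F499884) (iv0 F499887) D224863
theorem F527288 : act 1 n224863 = n218263 := d18_6 (iv1 F388299) F388297 F372074 (iv4 F367026) D211012 D224863 F493023 F492470 F374991
theorem F527289 : act 3 n224863 = n212401 := d19_3 (iv1 F424138) D211012 D224863 (iv1 D212401) D212402 (iv4 F501763) F501764 F439858 (iv5 F399633) (iv4 F432275) F432274 F247881 D201086 F419040 (iv3 F428260) (iv1 F517480) (iv5 D223059) (iv4 F462711) F462710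
def n224864 : Q := act 1 n211025
theorem D224864 : act 1 n211025 = n224864 := rfl
theorem F527290 : act 1 n224864 = n215664 := d15_1 D224864 (iv7 F506182) F506180
theorem F527291 : act 7 n224864 = n216330 := d15_2 (iv0 F524720) D224864 (iv2 F524716)
theorem F527292 : act 5 n224864 = n220667 := d17_7 (iv1 F258603) (iv5 F289213) (iv1 F382068) (iv5 D176827) D176826 (iv5 F459786) D224864 (iv0 D220667) (iv4 D194149)
theorem F527293 : act 3 n216331 = n224864 := d19_19 (iv1 D224864) F459786 (iv4 D176826) D176825 (iv1 F377871) (iv5 F444614) F444613 (iv3 F402741) (iv1 F468389) F468391 F437178 F364221 (iv1 F171509) (iv5 F326771) (iv4 F72620) (iv3 F72621) (iv1 F134135) (iv5 F284617) (iv4 F483872)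
theorem F527294 : act 4 n224123 = n224864 := d20_0 (iv1 D224864) (iv4 F523107) (iv3 D224115) (iv1 D206826) F404704 F384613 (iv1 F486704) F486710 (iv3 F511871) F523155
theorem F527295 : act 6 n224122 = n224864 := d21_3 F484671 (iv1 F524664) F524666 (iv1 D224864) (iv6 D211025) (iv5 D140545) (iv1 F340492) (iv5 F420016) D222823 F516281
def n224865 : Q := act 6 n211027
theorem D224865 : act 6 n211027 = n224865 := rfl
theorem F527296 : act 2 n224865 = n213683 := d3_1 D224865 F505420 F505414
theorem F527297 : act 3 n224865 = n216473 := d7_1 D224865 (iv6 F484548) F477580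
theorem F527298 : act 4 n224865 = n221743 := d10_1 D224865 F510620 (iv4 F459791)
theorem F527299 : act 7 n224865 = n213684 := d14_2 F495148 D224865 (iv6 F473396) F473391 (iv6 F495152)
theorem F527300 : act 0 n224865 = n213686 := d21_4 (iv5 D194830) (iv1 F380644) (iv5 F459790) D224865 F471627 F463605 D214851 (iv5 F518491) F518494 F505974
theorem F527301 : act 0 n213679 = n224865 := d21_4 (iv5 F471607) (iv1 F470476) F419935 D213679 (iv6 D224865) F459790 (iv1 F393404) F466530 (iv6 D212581) D212577
def n224866 : Q := act 1 n211031
theorem D224866 : act 1 n211031 = n224866 := rfl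
theorem F527302 : act 1 n224866 = n211034 := d15_1 D224866 (iv7 D211034) (iv2 F459804)
theorem F527303 : act 7 n224866 = n211032 := d15_2 (iv0 F459807) D224866 (iv2 F459812)
theorem F527304 : act 5 n224866 = n215081 := d17_7 F493273 (iv5 F421150) F421149 (iv5 D166468) D166467 (iv5 F459806) D224866 F478240 (iv4 F493270)
theorem F527305 : act 4 n224866 = n212126 := d17_9 (iv1 D212126) D212127 (iv1 F464442) (iv5 F481976) F481975 F277712 (iv0 F262023) (iv5 F459806) D224866
theorem F527306 : act 3 n218605 = n224866 := d19_19 (iv1 D224866) F459806 (iv4 D166467) (iv3 D79914) D79912 D166457 F363695 (iv3 F414368) (iv1 F496782) F496785 (iv4 F457011) F457010 (iv1 D188686) F142790 (iv4 F68574) (iv3 F295173) D94115 D189590 D218605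
theorem F527307 : act 2 n224866 = n211033 := d0_1 F527306 F459818 (iv2 F302543) (iv3 F433220) (iv2 F494714)
def n224867 : Q := act 2 n211050
theorem D224867 : act 2 n211050 = n224867 := rfl
theorem F527308 : act 3 n224867 = n215613 := d0_2 D211050 D224867 (iv2 F520573) F520574 (iv2 F459852)
theorem F527309 : act 4 n224867 = n217671 := d1_2 F465679 D224867 F490034
theorem F527310 : act 5 n224867 = n213423 := d2_2 (iv5 F459904) D224867 (iv2 D213423)
theorem F527311 : act 7 n224867 = n220530 := d4_2 F522813 D224867 (iv2 F522811)
theorem F527312 : act 1 n224867 = n221299 := d15_0 (iv0 F522815) F522813 D224867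
theorem F527313 : act 1 n221592 = n224867 := d15_0 F527312 F508241 (iv2 F509757)
theorem F527314 : act 6 n224867 = n222898 := d21_5 F224932 F424072 F424068 (iv6 F508240) (iv1 F527312) F516652 (iv1 F512723) (iv5 F522976) F522977 F461248
def n224868 : Q := act 6 n211050
theorem D224868 : act 6 n211050 = n224868 := rfl
theorem F527315 : act 2 n224868 = n222898 := d3_1 D224868 (iv6 F527314) (iv2 D224867)
theorem F527316 : act 3 n224868 = n211052 := d7_1 D224868 (iv6 D211052) D211050
theorem F527317 : act 4 n224868 = n222899 := d10_1 D224868 F516655 F465679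
theorem F527318 : act 0 n224868 = n222738 := d21_4 F501823 (iv1 D213422) (iv5 F459904) D224868 F515827 (iv5 F473375) F473377 (iv5 F511253) F511254 F504199
theorem F527319 : act 0 n224155 = n224868 := d21_4 (iv5 D222004) F406362 (iv5 F442633) D224155 (iv6 D224868) F459904 F361914 D214188 (iv6 F473911) (iv1 F511860)
def n224869 : Q := act 5 n211071
theorem D224869 : act 5 n211071 = n224869 := rfl
theorem F527320 : act 3 n224869 = n222557 := d6_1 D224869 F514903 F514894
theorem F527321 : act 4 n224869 = n219846 := d9_1 D224869 (iv5 D219846) (iv4 F500824) (iv5 F527281) (iv4 D224862) (iv5 D211009) (iv4 F459735) (iv5 F521303) F521302 F433749 (iv4 F520288) (iv5 F520696) F520695 (iv5 D211072) D211071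
theorem F527322 : act 7 n224869 = n214609 := d13_2 F514921 D224869 F514924
theorem F527323 : act 1 n224869 = n223695 := d17_6 F415099 F360028 F459992 (iv5 D211072) D211071 D224869 F520778 (iv0 F514902) (iv4 D222556)
theorem F527324 : act 0 n224869 = n223162 := d18_0 F517949 F479900 (iv4 F414499) (iv5 F472649) F472651 (iv0 F472561) F472560 (iv0 F472562) D224869
def n224870 : Q := act 3 n211080
theorem D224870 : act 3 n211080 = n224870 := rfl
theorem F527325 : act 4 n224870 = n222126 := d5_2 (iv4 F460030) D224870 (iv3 F512490) (iv4 F505654) F505653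
theorem F527326 : act 5 n224870 = n213828 := d6_2 (iv5 F460029) D224870 F472261
theorem F527327 : act 6 n224870 = n221814 := d7_2 (iv6 F460033) D224870 (iv3 D221814)
theorem F527328 : act 7 n224870 = n222005 := d8_2 F460032 D224870 (iv3 D222005)
theorem F527329 : act 0 n224870 = n221543 := d19_4 (iv1 F168849) (iv5 F406451) (iv4 F460030) D224870 F509514 F507533 F481409 F423605 D206032 F438924 F334258 (iv1 D147644) (iv5 F336537) (iv4 F351968) F188156 D119418 (iv5 F333407) (iv4 F223502) (iv3 D140384)
def n224871 : Q := act 3 n211086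
theorem D224871 : act 3 n211086 = n224871 := rfl
theorem F527330 : act 2 n224871 = n215551 := d0_1 D224871 (iv3 D215551) (iv2 F381877) (iv3 F498006) F498005
theorem F527331 : act 4 n224871 = n219088 := d5_2 F509682 D224871 F497122 (iv4 F464826) (iv3 F509683)
theorem F527332 : act 5 n224871 = n218926 := d6_2 F476817 D224871 F496220
theorem F527333 : act 6 n224871 = n221292 := d7_2 F460051 D224871 (iv3 D221292)
theorem F527334 : act 0 n224871 = n219875 := d19_4 F500667 (iv5 F509681) F509682 D224871 F500989 F495887 (iv3 F495872) F495874 D222224 F513010 (iv3 F433468) (iv1 F224886) (iv5 D141842) (iv4 D66501) (iv3 F163540) F163539 F163534 (iv4 F245171) (iv3 F472626)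
theorem F527335 : act 0 n222342 = n224871 := d20_4 (iv4 F427611) F455594 F455591 (iv3 F513698) (iv3 D224871) (iv4 F509682) (iv1 F509685) (iv4 F479433) F479432 F479436
def n224872 : Q := act 0 n211091
theorem D224872 : act 0 n211091 = n224872 := rfl
theorem F527336 : act 4 n224872 = n222530 := d18_3 F417435 (iv4 F460066) D224872 (iv5 D222530) (iv4 F431510) F431513 (iv4 F436651) F409323 (iv5 F417432)
theorem F527337 : act 3 n224872 = n215977 := d20_5 F228090 D153568 D213354 F470069 D224872 F482380 (iv1 F403215) D213814 F472202 (iv1 F404125)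
theorem F527338 : act 6 n224872 = n215976 := d21_5 (iv5 D198152) D198149 (iv5 F406991) D211091 D224872 (iv5 F510704) F510706 F404548 (iv6 F403868) (iv1 F407001)
theorem F527339 : act 1 n221586 = n224872 := d15_0 (iv0 D224872) (iv7 F511190) F511187
def n224873 : Q := act 5 n211091
theorem D224873 : act 5 n211091 = n224873 := rfl
theorem F527340 : act 3 n224873 = n222569 := d6_1 D224873 F514966 F470069
theorem F527341 : act 6 n224873 = n222568 := d12_2 D211091 D224873 (iv5 D222568) F415494 (iv5 F406991)
def n224874 : Q := act 5 n211093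
theorem D224874 : act 5 n211093 = n224874 := rfl
theorem F527342 : act 2 n224874 = n211094 := d2_1 D224874 (iv5 D211094) D211093
theorem F527343 : act 3 n224874 = n220840 := d6_1 D224874 F505828 (iv3 F460069)
theorem F527344 : act 4 n224874 = n219753 := d9_1 D224874 F500431 (iv4 F458417) (iv5 F507272) (iv4 D221111) (iv5 D195397) (iv4 F396897) (iv5 F502861) F502860 F500417 (iv4 F458720) F469485 (iv4 F517116) F517119 F507244
theorem F527345 : act 6 n224874 = n220566 := d12_2 (iv6 F460070) D224874 (iv5 F514176) (iv6 F514177) F493187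
theorem F527346 : act 7 n224874 = n219751 := d13_2 F502046 D224874 (iv5 F502041)
theorem F527347 : act 1 n224874 = n219864 := d17_6 D223314 F518799 F517120 F517119 F507244 D224874 (iv5 D219864) (iv0 F459199) F459198
def n224875 : Q := act 3 n211095
theorem D224875 : act 3 n211095 = n224875 := rfl
theorem F527348 : act 4 n224875 = n220575 := d5_2 D211095 D224875 F504432 (iv4 F503302) F460073
theorem F527349 : act 5 n224875 = n222068 := d6_2 (iv5 F460075) D224875 (iv3 D222068)
theorem F527350 : act 6 n224875 = n224479 := d7_2 (iv6 F510900) D224875 F525205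
theorem F527351 : act 7 n224875 = n220573 := d8_2 (iv7 F460076) D224875 F504423
theorem F527352 : act 0 n224875 = n220353 := d20_4 F406443 (iv1 F406444) D211095 D224875 F503343 (iv4 F478733) F478735 F434314 (iv3 D140658) D140656
theorem F527353 : act 0 n220350 = n224875 := d20_4 F463567 F432040 (iv4 F500906) (iv3 F503329) (iv3 D224875) (iv4 D211095) (iv1 F406446) F406447 D211089 (iv1 F463568)
theorem F527354 : act 2 n220578 = n224875 := d15_3 (iv0 F527353) (iv0 F503331) D220578
def n224876 : Q := act 5 n211103
theorem D224876 : act 5 n211103 = n224876 := rfl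
theorem F527355 : act 2 n224876 = n213356 := d2_1 D224876 (iv5 D213356) (iv2 F460106)
theorem F527356 : act 3 n224876 = n216528 := d6_1 D224876 (iv5 D216528) (iv3 F460107)
theorem F527357 : act 6 n224876 = n222113 := d12_2 D211103 D224876 (iv5 D222113) F407868 F407005
theorem F527358 : act 7 n224876 = n213357 := d13_2 (iv7 F460109) D224876 (iv5 D213357)
theorem F527359 : act 0 n224876 = n212807 := d17_2 (iv1 F460111) D224876 (iv5 D212807) (iv4 F237856) (iv5 F457511) (iv0 D210434) (iv5 F331814) F331120 (iv4 F241390)
def n224877 : Q := act 5 n211113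
theorem D224877 : act 5 n211113 = n224877 := rfl
theorem F527360 : act 2 n224877 = n222568 := d2_1 D224877 (iv5 D222568) (iv2 F460147)
theorem F527361 : act 3 n224877 = n224764 := d6_1 D224877 F526738 F517075
theorem F527362 : act 4 n224877 = n223571 := d16_2 (iv4 F460148) D224877 F520154 F520144 F458366 (iv4 F412378) F412379 F402199 F360132
def n224878 : Q := act 2 n211147
theorem D224878 : act 2 n211147 = n224878 := rfl
theorem F527363 : act 3 n224878 = n212818 := d0_2 D211147 D224878 F467607 F460092 F439999
theorem F527364 : act 4 n224878 = n222521 := d1_2 (iv4 F460322) D224878 (iv2 F514692)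
theorem F527365 : act 5 n224878 = n220089 := d2_2 (iv5 F460323) D224878 (iv2 F502054)
theorem F527366 : act 6 n224878 = n223686 := d3_2 F505487 D224878 (iv2 F520726)
theorem F527367 : act 7 n224878 = n221615 := d4_2 (iv7 F462024) D224878 F509883
theorem F527368 : act 1 n224878 = n215881 := d15_0 (iv0 F481911) (iv7 F462024) D224878
theorem F527369 : act 1 n223797 = n224878 := d15_0 F527368 (iv7 F500868) (iv2 F521331)
def n224879 : Q := act 1 n211164
theorem D224879 : act 1 n211164 = n224879 := rfl
theorem F527370 : act 1 n224879 = n213994 := d15_1 D224879 F473023 (iv2 F460407)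
theorem F527371 : act 7 n224879 = n220346 := d15_2 (iv0 F521270) D224879 (iv2 F521264)
theorem F527372 : act 5 n224879 = n215599 := d17_7 F502863 (iv5 D219864) D219862 (iv5 F500933) (iv4 F503273) F503274 D224879 (iv0 F500418) (iv4 F502860)
theorem F527373 : act 4 n224879 = n223106 := d17_9 F517678 F423309 D209885 F455254 F431074 D219933 F503276 F503274 D224879
theorem F527374 : act 3 n215600 = n224879 := d19_19 (iv1 D224879) (iv5 F503274) F503273 (iv3 D196972) (iv1 D107502) D107503 F360844 (iv3 D137177) (iv1 F346632) F157101 D192927 (iv3 F389197) (iv1 F389208) F389209 F389204 F156825 (iv1 F153532) D192130 (iv4 F480714)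
theorem F527375 : act 6 n215371 = n224879 := d21_3 F473239 F322815 D215371 (iv1 D224879) (iv6 D211164) (iv5 F444553) (iv1 F452202) F452204 F424391 (iv1 F473241)
theorem F527376 : act 2 n224879 = n211178 := d3_1 F527375 F460475 (iv2 F479627)
def n224880 : Q := act 0 n211192
theorem D224880 : act 0 n211192 = n224880 := rfl
theorem F527377 : act 5 n224880 = n217934 := d17_3 F387210 D211192 D224880 (iv4 F499399) F499400 (iv0 F513819) F513817 (iv0 F501565) F501564
theorem F527378 : act 4 n224880 = n223620 := d18_1 D224880 (iv1 D223620) (iv4 F520369) F520370 (iv4 F516556) (iv0 F516561) (iv4 F460547) (iv0 D211191) D211192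
theorem F527379 : act 6 n224880 = n217237 := d21_5 (iv5 D211957) (iv1 F363484) D202545 (iv6 F460555) D224880 (iv5 F488053) (iv1 F384047) (iv5 F368842) (iv6 F460630) (iv1 F463745)
theorem F527380 : act 1 n224784 = n224880 := d15_0 (iv0 D224880) (iv7 F483157) (iv2 F526850)
theorem F527381 : act 2 n223745 = n224880 := d3_3 F527379 F488054 (iv6 F521023)
theorem F527382 : act 3 n219526 = n224880 := d7_3 F527379 F488055 D219526
theorem F527383 : act 7 n211654 = n224880 := d14_0 F527379 F488052 (iv6 F462371) F462372 D211654
def n224881 : Q := act 1 n211192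
theorem D224881 : act 1 n211192 = n224881 := rfl
theorem F527384 : act 1 n224881 = n224784 := d15_1 D224881 (iv7 D224784) (iv2 F460553)
theorem F527385 : act 7 n224881 = n223745 := d15_2 (iv0 D224880) D224881 F527381
theorem F527386 : act 5 n224881 = n222291 := d17_7 (iv1 F482519) (iv5 F500353) (iv1 F500355) F460544 F460540 D211192 D224881 F513390 F493479
theorem F527387 : act 3 n211222 = n224881 := d20_3 (iv4 F526728) (iv1 F526730) F520661 (iv1 D224881) F460554 (iv4 D203736) (iv1 F306418) (iv4 F308321) (iv3 F432829) (iv1 F458162)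
theorem F527388 : act 6 n211609 = n224881 := d21_3 (iv5 D212785) (iv1 F346251) D211609 (iv1 D224881) F460555 (iv5 D202545) (iv1 F363483) (iv5 F472014) F472016 (iv1 F467500)
theorem F527389 : act 2 n224881 = n211654 := d3_1 F527388 (iv6 D211654) (iv2 F462363)
theorem F527390 : act 4 n224881 = n223560 := d10_1 F527388 F520106 F519478
def n224882 : Q := act 4 n211192
theorem D224882 : act 4 n211192 = n224882 := rfl
theorem F527391 : act 2 n224882 = n224783 := d1_1 D224882 (iv4 D224783) (iv2 F460553)
theorem F527392 : act 3 n224882 = n220505 := d5_1 D224882 F504095 F429597 D203736 (iv3 F460554)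
theorem F527393 : act 5 n224882 = n216728 := d9_2 D211192 D224882 F485654 (iv5 F458261) F457402 D220571 (iv4 F504414) (iv5 F526853) F526852 F501977 F471246 (iv5 F458264) (iv4 F460543) F460544 F460540
theorem F527394 : act 6 n224882 = n223240 := d10_2 (iv6 F460555) D224882 (iv4 D223240)
theorem F527395 : act 0 n224882 = n220479 := d18_2 (iv1 D224881) D224882 F503970 (iv5 D219577) F384414 (iv0 F338899) (iv4 F434317) (iv0 F513389) (iv5 F527386)
theorem F527396 : act 1 n224882 = n216259 := d18_6 (iv1 F459040) (iv4 F501570) F501571 F460540 D211192 D224882 F483530 F525442 (iv5 D224520)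
def n224883 : Q := act 4 n211202
theorem D224883 : act 4 n211202 = n224883 := rfl
theorem F527397 : act 2 n224883 = n222897 := d1_1 D224883 F516646 F489709
theorem F527398 : act 3 n224883 = n222324 := d5_1 D224883 (iv4 D222324) (iv3 F411135) (iv4 F224228) D211202
theorem F527399 : act 5 n224883 = n212389 := d9_2 F460589 D224883 F465629 F446944 F446943 (iv5 F452325) F452326 (iv5 F465814) F465816 F465633 F465631 (iv5 F446628) F446627 F452334 F452336
theorem F527400 : act 6 n224883 = n222891 := d10_2 (iv6 F524810) D224883 (iv4 F524809)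
theorem F527401 : act 7 n224883 = n222938 := d11_2 (iv7 F460587) D224883 F516876
theorem F527402 : act 0 n224883 = n212346 := d17_0 F465418 (iv1 F465364) (iv5 F465369) (iv4 F520780) F520779 (iv0 F465821) (iv5 D212444) (iv0 F460588) D224883
theorem F527403 : act 1 n224883 = n212335 := d18_6 (iv1 D224218) (iv4 F451908) (iv1 F452332) F452336 F460589 D224883 F465366 F465434 (iv5 F523708)
def n224884 : Q := act 4 n211221
theorem D224884 : act 4 n211221 = n224884 := rfl
theorem F527404 : act 2 n224884 = n223747 := d1_1 D224884 (iv4 D223747) F460670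
theorem F527405 : act 3 n224884 = n214126 := d5_1 D224884 (iv4 D214126) (iv3 F473597) (iv4 F501725) F501723
theorem F527406 : act 5 n224884 = n224344 := d9_2 (iv5 F460668) D224884 F524440 F510923 (iv4 F509865) F509866 F443983 (iv5 F460675) (iv4 F520661) F520662 F520160 F510926 (iv4 F513480) F513481 (iv4 F443976)
theorem F527407 : act 6 n224884 = n223235 := d10_2 (iv6 F460669) D224884 F518347
theorem F527408 : act 7 n224884 = n223228 := d11_2 F460671 D224884 F518315
theorem F527409 : act 0 n224884 = n224762 := d18_2 D211221 D224884 F526728 F458160 (iv4 F412496) F412953 (iv4 F412956) (iv0 D141227) D141229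
theorem F527410 : act 1 n224884 = n223221 := d18_6 (iv1 D123979) (iv4 F198392) D204538 (iv4 F443976) (iv5 F460668) D224884 (iv4 D223221) (iv0 F432529) F432528
def n224885 : Q := act 4 n211227
theorem D224885 : act 4 n211227 = n224885 := rfl
theorem F527411 : act 2 n224885 = n224539 := d1_1 D224885 F525537 (iv2 F460696)
theorem F527412 : act 6 n224885 = n222963 := d10_2 (iv6 F460698) D224885 F517008
theorem F527413 : act 7 n224885 = n224540 := d11_2 F460701 D224885 F525538
theorem F527414 : act 0 n224885 = n223088 := d18_2 (iv1 F460700) D224885 F517590 F453902 (iv4 F442589) (iv0 F442591) F441481 (iv0 F375556) D209178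
theorem F527415 : act 1 n224885 = n223089 := d18_6 (iv1 F467411) F467413 F460694 F460692 D211227 D224885 F517593 (iv0 F516524) (iv5 D222873)
def n224886 : Q := act 4 n211229
theorem D224886 : act 4 n211229 = n224886 := rfl
theorem F527416 : act 2 n224886 = n215821 := d1_1 D224886 F481696 (iv2 F460708)
theorem F527417 : act 5 n224886 = n213207 := d9_2 D211229 D224886 (iv4 D213207) (iv5 D152814) (iv4 F206035) F412934 (iv4 F412936) F305165 (iv4 F277508) D215820 (iv4 F517472) (iv5 D223058) (iv4 F422860) (iv5 F412929) F412925
theorem F527418 : act 6 n224886 = n215816 := d10_2 (iv6 F460709) D224886 F481689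
theorem F527419 : act 7 n224886 = n215767 := d11_2 (iv7 F460710) D224886 F481489
theorem F527420 : act 0 n224886 = n215819 := d18_2 (iv1 F460711) D224886 F481694 (iv5 F479171) F479170 (iv0 F469671) (iv4 F513403) (iv0 F513407) (iv5 F447659)
theorem F527421 : act 1 n224886 = n215818 := d18_6 (iv1 F364223) (iv4 F173049) D199634 F412925 D211229 D224886 F481876 (iv0 D204589) (iv5 D124024)
def n224887 : Q := act 4 n211230
theorem D224887 : act 4 n211230 = n224887 := rfl
theorem F527422 : act 2 n224887 = n223493 := d1_1 D224887 F519738 F460714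
theorem F527423 : act 6 n224887 = n221489 := d10_2 (iv6 F460716) D224887 (iv4 F509267)
theorem F527424 : act 7 n224887 = n224744 := d11_2 F460717 D224887 F526634
theorem F527425 : act 5 n224887 = n223455 := d16_1 D224887 (iv4 D223455) (iv5 D203427) F187147 D153178 (iv4 F413530) F460720 F460719 F460714
theorem F527426 : act 0 n224887 = n223717 := d18_2 D211230 D224887 (iv4 D223717) (iv5 D204588) (iv4 F412552) F412926 F412925 (iv0 D141234) D141236
theorem F527427 : act 1 n224887 = n222036 := d18_6 F457805 F386056 D218200 F492675 (iv5 F460713) D224887 F512008 F469553 F469550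
def n224888 : Q := act 4 n211231
theorem D224888 : act 4 n211231 = n224888 := rfl
theorem F527428 : act 2 n224888 = n224744 := d1_1 D224888 F526634 F460722
theorem F527429 : act 3 n224888 = n223490 := d5_1 D224888 F519723 (iv3 F500652) (iv4 F499931) F499930
theorem F527430 : act 6 n224888 = n215868 := d10_2 (iv6 F460721) D224888 (iv4 D215868)
theorem F527431 : act 7 n224888 = n223493 := d11_2 (iv7 F460719) D224888 F519738
theorem F527432 : act 0 n224888 = n222036 := d17_0 (iv5 F525981) F525983 (iv5 F527417) (iv4 D224886) (iv5 D211229) (iv0 D141234) D141236 D211231 D224888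
theorem F527433 : act 1 n224888 = n223717 := d18_6 F449317 (iv4 F469677) (iv1 D213277) (iv4 F413530) F460720 D224888 (iv4 D223717) (iv0 F468778) (iv5 D213049)
def n224889 : Q := act 3 n211232
theorem D224889 : act 3 n211232 = n224889 := rfl
theorem F527434 : act 6 n224889 = n223239 := d7_2 (iv6 F460724) D224889 (iv3 D223239)
def n224890 : Q := act 7 n211232
theorem D224890 : act 7 n211232 = n224890 := rfl
theorem F527435 : act 2 n224890 = n224771 := d4_1 D224890 F526783 (iv2 F460723)
theorem F527436 : act 4 n224890 = n211233 := d11_1 D224890 (iv7 D211233) D211232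
theorem F527437 : act 6 n224890 = n215837 := d14_1 D224890 (iv7 F485429) F485432 F457424 (iv6 F460724)
theorem F527438 : act 1 n213066 = n224890 := d15_1 F469554 (iv7 D224890) F460723
theorem F527439 : act 1 n224890 = n223083 := d15_1 F527438 F517560 (iv2 F468840)
def n224891 : Q := act 5 n211244
theorem D224891 : act 5 n211244 = n224891 := rfl
theorem F527440 : act 2 n224891 = n221037 := d2_1 D224891 (iv5 D221037) (iv2 F460783)
theorem F527441 : act 3 n224891 = n221105 := d6_1 D224891 (iv5 D221105) (iv3 F460784)
theorem F527442 : act 4 n224891 = n216536 := d9_1 D224891 (iv5 F504433) (iv4 F527348) F527349 F512182 (iv5 F499842) F408863 D212218 (iv4 F464796) F384831 (iv4 F391429) D220577 F504442 F499836 (iv4 F460785)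
theorem F527443 : act 6 n224891 = n211245 := d12_2 D211244 D224891 (iv5 D211245) (iv6 D141304) D141303
theorem F527444 : act 7 n224891 = n216534 := d13_2 F464793 D224891 (iv5 F484845)
theorem F527445 : act 1 n224891 = n223419 := d17_6 (iv1 D193933) (iv5 F384831) D219647 F499836 (iv4 F460785) D224891 F519350 (iv0 F462669) F436476
def n224892 : Q := act 3 n211253
theorem D224892 : act 3 n211253 = n224892 := rfl
theorem F527446 : act 4 n224892 = n215838 := d5_2 D211253 D224892 F483420 (iv4 F483421) F460814
theorem F527447 : act 5 n224892 = n215205 := d6_2 (iv5 F460818) D224892 F478865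
theorem F527448 : act 6 n224892 = n223568 := d7_2 F478881 D224892 (iv3 F520145)
theorem F527449 : act 7 n224892 = n224365 := d8_2 F473565 D224892 F524541
theorem F527450 : act 0 n224892 = n220519 := d19_4 F227001 D141316 D211253 D224892 (iv5 F520134) (iv4 D223566) D223565 F520131 F440452 (iv4 D206368) (iv3 D128487) (iv1 F110899) F110895 F305718 D83555 (iv1 F317290) (iv5 F354055) F358749 F358750
theorem F527451 : act 0 n223558 = n224892 := d21_4 F430839 F431150 F431149 D223558 F527448 (iv5 F520154) (iv1 D223571) (iv5 F430863) (iv6 F430865) F430841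
def n224893 : Q := act 7 n211263
theorem D224893 : act 7 n211263 = n224893 := rfl
theorem F527452 : act 2 n224893 = n221047 := d4_1 D224893 (iv7 F507283) F507282
theorem F527453 : act 3 n224893 = n211272 := d8_1 D224893 F460891 (iv3 F460858)
theorem F527454 : act 4 n224893 = n223194 := d11_1 D224893 (iv7 D223194) F460860
theorem F527455 : act 5 n224893 = n211264 := d13_1 D224893 (iv7 D211264) D211263
theorem F527456 : act 6 n224893 = n211271 := d14_1 D224893 (iv7 F510778) F510774 F404184 (iv6 F460859)
theorem F527457 : act 1 n223113 = n224893 := d15_1 (iv0 F517713) (iv7 D224893) (iv2 F507282)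
theorem F527458 : act 1 n224893 = n221167 := d15_1 F527457 (iv7 F509716) (iv2 F517709)
def n224894 : Q := act 5 n211294
theorem D224894 : act 5 n211294 = n224894 := rfl
theorem F527459 : act 2 n224894 = n224842 := d2_1 D224894 (iv5 D224842) (iv2 F461008)
theorem F527460 : act 3 n224894 = n213754 := d6_1 D224894 (iv5 F524979) F524977
theorem F527461 : act 6 n224894 = n211295 := d12_2 D211294 D224894 (iv5 D211295) (iv6 D141480) D141479
theorem F527462 : act 7 n224894 = n224611 := d13_2 F501593 D224894 F525922
theorem F527463 : act 4 n224894 = n224837 := d16_6 (iv4 F460606) (iv5 F475209) (iv4 F526823) F526821 F492353 D224894 F527128 (iv7 D210834) F363778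
theorem F527464 : act 0 n224894 = n223434 := d17_2 F501502 D224894 (iv5 D223434) F428008 D222850 F527125 F527119 (iv0 D220151) (iv4 F501501)
theorem F527465 : act 1 n224894 = n224835 := d17_6 F458281 D210671 D224778 F526821 F492353 D224894 (iv5 D224835) (iv0 F501523) F501522
def n224895 : Q := act 5 n211306
theorem D224895 : act 5 n211306 = n224895 := rfl
theorem F527466 : act 3 n224895 = n224533 := d6_1 D224895 (iv5 F526591) F526589
theorem F527467 : act 6 n224895 = n224532 := d12_2 D211306 D224895 F525505 F493232 (iv5 D211305)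
theorem F527468 : act 4 n224895 = n224653 := d16_2 (iv4 F461057) D224895 (iv5 D224653) F472494 (iv5 F520281) (iv4 F526644) F526645 (iv7 D223127) F423322
def n224896 : Q := act 7 n211306
theorem D224896 : act 7 n211306 = n224896 := rfl
theorem F527469 : act 2 n224896 = n222357 := d4_1 D224896 F514159 F514155
theorem F527470 : act 4 n224896 = n211309 := d11_1 D224896 (iv7 D211309) (iv4 F461057)
theorem F527471 : act 6 n224896 = n224803 := d14_1 D224896 F526956 (iv6 D223130) F423345 D211306
theorem F527472 : act 0 n214043 = n224896 := d21_4 F274448 F274455 (iv5 F332250) D214043 F527471 F526955 (iv1 F500643) (iv5 D215939) (iv6 D178811) (iv1 F274447)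
def n224897 : Q := act 5 n211312
theorem D224897 : act 5 n211312 = n224897 := rfl
theorem F527473 : act 2 n224897 = n211317 := d2_1 D224897 (iv5 D211317) (iv2 F461075)
theorem F527474 : act 3 n224897 = n211355 := d6_1 D224897 (iv5 D211355) (iv3 F461076)
theorem F527475 : act 6 n224897 = n211314 := d12_2 D211312 D224897 (iv5 D211314) (iv6 D141820) D141819
theorem F527476 : act 7 n224897 = n215549 := d13_2 F491892 D224897 (iv5 F491891)
theorem F527477 : act 0 n224897 = n211841 := d17_2 F461078 D224897 (iv5 F463244) (iv4 F499911) F499912 (iv0 F499280) (iv5 D217867) (iv0 D188078) (iv4 F372044)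
theorem F527478 : act 0 n222083 = n224897 := d19_0 (iv5 D224897) F461077 D217911 F491220 F475576 F384298 (iv3 F384287) (iv1 F384290) (iv5 F287658) (iv4 F387867) F387866 F178369 (iv5 F369884) (iv4 F488669) F488668 (iv1 F478550) (iv5 F478552) D218869 (iv3 F512270)
def n224898 : Q := act 6 n211320
theorem D224898 : act 6 n211320 = n224898 := rfl
theorem F527479 : act 2 n224898 = n219154 := d3_1 D224898 (iv6 D219154) (iv2 F461101)
theorem F527480 : act 3 n224898 = n223819 := d7_1 D224898 F521457 F495863
theorem F527481 : act 5 n224898 = n214309 := d12_1 D224898 F474505 (iv5 F461106) (iv6 D211321) D211320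
theorem F527482 : act 0 n224898 = n222456 := d21_10 F514313 F476106 (iv5 F513938) F513936 F476916 D215450 F480051 (iv1 F439965) D211320 D224898
theorem F527483 : act 7 n224898 = n222386 := d15_2 (iv0 F514315) (iv0 F527482) F513930
def n224899 : Q := act 4 n211327
theorem D224899 : act 4 n211327 = n224899 := rfl
theorem F527484 : act 3 n224899 = n222777 := d5_1 D224899 (iv4 D222777) F461145 (iv4 D211328) (iv3 F461134)
theorem F527485 : act 6 n224899 = n212120 := d10_2 (iv6 F461135) D224899 F464385
theorem F527486 : act 7 n224899 = n211414 := d11_2 (iv7 F461136) D224899 (iv4 D211414)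
theorem F527487 : act 5 n224899 = n217612 := d16_1 D224899 F489790 (iv5 F470849) F470844 F467382 (iv4 F440567) D211411 (iv7 F464272) F464269
theorem F527488 : act 0 n224899 = n221195 := d17_0 (iv5 D221195) (iv1 D195624) D195625 (iv4 F498064) (iv5 F498062) F390773 D193727 (iv0 F461137) D224899
theorem F527489 : act 1 n224899 = n221193 := d18_6 F461584 F440561 F392747 (iv4 F224861) D211327 D224899 F507677 F497706 F497703
def n224900 : Q := act 3 n211332
theorem D224900 : act 3 n211332 = n224900 := rfl
theorem F527490 : act 4 n224900 = n215497 := d5_2 (iv4 F461160) D224900 (iv3 F480228) F474037 F473447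
theorem F527491 : act 5 n224900 = n220024 := d6_2 (iv5 F461159) D224900 (iv3 F501714)
theorem F527492 : act 6 n224900 = n221515 := d7_2 F495840 D224900 F509394
theorem F527493 : act 7 n224900 = n211425 := d8_2 F461163 D224900 (iv3 D211425)
theorem F527494 : act 0 n215457 = n224900 := d20_4 F487351 (iv1 F487348) D217153 F487686 (iv3 D224900) F461160 (iv1 F365373) (iv4 F378945) (iv3 D190134) D190132
def n224901 : Q := act 1 n211334
theorem D224901 : act 1 n211334 = n224901 := rfl
theorem F527495 : act 1 n224901 = n220310 := d15_1 D224901 (iv7 F505217) F505215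
theorem F527496 : act 7 n224901 = n219146 := d15_2 (iv0 F495839) D224901 F497419
theorem F527497 : act 5 n224901 = n220850 := d17_7 F518901 (iv5 D212540) F426113 (iv5 D184085) (iv4 F286024) (iv5 F461170) D224901 (iv0 F511435) (iv4 F518898)
theorem F527498 : act 4 n224901 = n219263 := d17_9 (iv1 F498003) (iv5 F496197) F440314 (iv5 F392949) (iv4 F503044) F503043 (iv0 F432397) (iv5 F461170) D224901
theorem F527499 : act 6 n221976 = n224901 := d21_3 (iv5 D197909) D197908 D221976 (iv1 D224901) (iv6 F505748) (iv5 D220827) F491862 F491861 F488957 (iv1 F488659)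
theorem F527500 : act 2 n224901 = n220727 := d3_1 F527499 F505187 (iv2 F511718)
def n224902 : Q := act 5 n211353
theorem D224902 : act 5 n211353 = n224902 := rfl
theorem F527501 : act 3 n224902 = n218931 := d6_1 D224902 (iv5 F498629) (iv3 F498635)
theorem F527502 : act 6 n224902 = n222173 := d12_2 D211353 D224902 (iv5 F522976) F522977 (iv5 D211352)
theorem F527503 : act 4 n224902 = n222174 := d16_2 F506972 D224902 F512726 (iv4 D222136) (iv5 D198472) D198471 (iv5 F453227) (iv7 F507299) F507297
theorem F527504 : act 0 n224902 = n211384 := d17_2 F502879 D224902 (iv5 F471626) F471625 (iv5 D195511) D195510 F438762 D220865 (iv4 F505968)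
theorem F527505 : act 1 n224902 = n218933 := d17_6 F507321 F507319 (iv1 F445470) (iv5 F506973) F506972 D224902 F496256 (iv0 F471598) (iv4 F404166)
def n224903 : Q := act 7 n211353
theorem D224903 : act 7 n211353 = n224903 := rfl
theorem F527506 : act 2 n224903 = n211372 := d4_1 D224903 (iv7 F518483) F518480
theorem F527507 : act 3 n224903 = n220858 := d8_1 D224903 F505927 (iv3 F498635)
theorem F527508 : act 4 n224903 = n221114 := d11_1 D224903 F507288 F506972
theorem F527509 : act 6 n224903 = n221565 := d14_1 D224903 F509618 (iv6 F424721) F424719 D211353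
theorem F527510 : act 1 n211357 = n224903 := d15_1 F518485 (iv7 D224903) (iv2 F518480)
theorem F527511 : act 1 n224903 = n211374 := d15_1 F527510 (iv7 F502878) F502877
def n224904 : Q := act 5 n211357
theorem D224904 : act 5 n211357 = n224904 := rfl
theorem F527512 : act 2 n224904 = n223818 := d2_1 D224904 F521454 F502877
theorem F527513 : act 3 n224904 = n211358 := d6_1 D224904 (iv5 D211358) D211357
theorem F527514 : act 6 n224904 = n214255 := d12_2 F466458 D224904 (iv5 D214255) D214256 (iv5 F474260)
theorem F527515 : act 7 n224904 = n211376 := d13_2 (iv7 F461264) D224904 (iv5 D211376)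
theorem F527516 : act 0 n224904 = n220460 := d17_2 (iv1 F527510) D224904 (iv5 D220460) (iv4 F404166) (iv5 F463722) (iv0 F463723) (iv5 F505994) (iv0 F507289) (iv4 F527508)
def n224905 : Q := act 6 n211367
theorem D224905 : act 6 n211367 = n224905 := rfl
theorem F527517 : act 2 n224905 = n222480 := d3_1 D224905 F514441 F491946
theorem F527518 : act 3 n224905 = n224418 := d7_1 D224905 F524850 F497896
theorem F527519 : act 5 n224905 = n214131 := d12_1 D224905 (iv6 D214131) (iv5 F434121) F434119 D211367
theorem F527520 : act 7 n224905 = n222479 := d14_2 F491942 D224905 (iv6 F525805) (iv7 F526211) F526210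
theorem F527521 : act 0 n224905 = n219296 := d21_4 (iv5 D141902) D141900 D211367 D224905 F498175 F382284 (iv1 F425476) F425479 F461309 (iv1 D211370)
def n224906 : Q := act 6 n211368
theorem D224906 : act 6 n211368 = n224906 := rfl
theorem F527522 : act 2 n224906 = n224670 := d3_1 D224906 F526210 F491941
theorem F527523 : act 3 n224906 = n217816 := d7_1 D224906 F490773 (iv3 F461307)
theorem F527524 : act 4 n224906 = n217417 := d10_1 D224906 (iv6 F495851) F495849
theorem F527525 : act 5 n224906 = n217815 := d12_1 D224906 (iv6 D217815) F372043 (iv6 F387642) D211368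
theorem F527526 : act 0 n224906 = n214630 := d21_4 (iv5 D218050) (iv1 F373301) D211368 D224906 (iv6 D214630) (iv5 D160407) D160404 F429434 F461316 (iv1 F491900)
theorem F527527 : act 0 n224033 = n224906 := d21_4 F366252 (iv1 F242880) D206261 D224033 (iv6 D224906) (iv5 D211368) (iv1 D141901) D141902 F224951 D141914
def n224907 : Q := act 5 n211372
theorem D224907 : act 5 n211372 = n224907 := rfl
theorem F527528 : act 3 n224907 = n211410 := d6_1 D224907 (iv5 D211410) F461322
theorem F527529 : act 4 n224907 = n218789 := d9_1 D224907 (iv5 F497442) F497441 (iv5 D198477) D198476 (iv5 F506973) F506972 D224902 F527503 F512726 (iv4 D222136) (iv5 D198472) D198471 (iv5 F453227) (iv4 F461320)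
theorem F527530 : act 6 n224907 = n218788 := d12_2 F461323 D224907 F495661 (iv6 D196679) D196678
theorem F527531 : act 0 n224907 = n218933 := d17_2 D211372 D224907 F496256 F471597 (iv5 F438761) F401214 (iv5 F438769) (iv0 F461319) (iv4 D211375)
theorem F527532 : act 1 n224907 = n211384 := d17_6 F510622 (iv5 D221038) F410928 (iv5 F453227) (iv4 F461320) D224907 (iv5 F471626) (iv0 F527300) F527298
def n224908 : Q := act 5 n211374
theorem D224908 : act 5 n211374 = n224908 := rfl
theorem F527533 : act 2 n224908 = n211376 := d2_1 D224908 (iv5 D211376) D211374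
theorem F527534 : act 3 n224908 = n215349 := d6_1 D224908 (iv5 F502701) F502703
theorem F527535 : act 6 n224908 = n215348 := d12_2 F464617 D224908 (iv5 D215348) (iv6 F479492) F479491
theorem F527536 : act 7 n224908 = n223818 := d13_2 F502878 D224908 F521454
theorem F527537 : act 1 n224908 = n220460 := d17_6 F403634 D205997 (iv1 F507399) (iv5 D221138) F461325 D224908 (iv5 D220460) F471628 F471625
def n224909 : Q := act 5 n211375
theorem D224909 : act 5 n211375 = n224909 := rfl
theorem F527538 : act 2 n224909 = n221138 := d2_1 D224909 (iv5 D221138) (iv2 F461324)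
theorem F527539 : act 3 n224909 = n221184 := d6_1 D224909 (iv5 D221184) (iv3 F461317)
theorem F527540 : act 6 n224909 = n211796 := d12_2 F511118 D224909 F463098 (iv6 F507269) (iv5 F511117)
theorem F527541 : act 7 n224909 = n220443 := d13_2 (iv7 F461318) D224909 (iv5 F503809)
theorem F527542 : act 0 n224909 = n222525 := d17_2 F461321 D224909 F514715 F438756 (iv5 F461525) F461529 F433470 (iv0 D194743) (iv4 F394319)
theorem F527543 : act 4 n224909 = n219724 := d17_4 (iv1 F401213) F438762 F461321 D224909 (iv5 F512531) F512529 (iv5 D198477) F393849 (iv4 F401210)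
theorem F527544 : act 1 n224909 = n223998 := d17_8 (iv1 F473981) (iv5 F495640) (iv1 D218784) (iv5 F453188) F453184 (iv5 F438769) (iv0 F461319) D224909 F522446
def n224910 : Q := act 0 n211376
theorem D224910 : act 0 n211376 = n224910 := rfl
theorem F527545 : act 5 n224910 = n213683 := d17_3 F498634 D211376 D224910 F507314 F507312 (iv0 D221080) D221082 F507135 F506972
theorem F527546 : act 4 n224910 = n222184 := d18_1 D224910 (iv1 F512778) F433466 (iv5 F433264) (iv4 F521085) (iv0 F521089) (iv4 F461320) (iv0 D211372) D211376
theorem F527547 : act 3 n224910 = n211413 := d20_5 F436684 F378967 (iv4 F378966) (iv3 F461326) D224910 (iv4 F461464) D224254 F523917 F497702 F461591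
theorem F527548 : act 1 n223818 = n224910 := d15_0 (iv0 D224910) (iv7 F527515) F527512
theorem F527549 : act 7 n220460 = n224910 := d8_0 F527547 F461462 (iv3 F503881)
def n224911 : Q := act 1 n211376
theorem D224911 : act 1 n211376 = n224911 := rfl
theorem F527550 : act 1 n224911 = n223818 := d15_1 D224911 (iv7 F527536) F527533
theorem F527551 : act 5 n224911 = n213684 := d17_7 F438748 D223998 (iv1 F527544) (iv5 D224909) (iv4 D211375) D211376 D224911 (iv0 F509520) (iv4 D221544)
theorem F527552 : act 3 n219157 = n224911 := d20_3 D211444 (iv1 F463816) (iv4 F497474) (iv1 D224911) F461326 F378966 (iv1 F474017) F474013 (iv3 F461552) (iv1 D211443)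
theorem F527553 : act 6 n215504 = n224911 := d21_3 F512509 (iv1 F454601) (iv5 F480251) (iv1 D224911) (iv6 F495809) F495808 (iv1 F513685) (iv5 F513689) F509037 D222132
theorem F527554 : act 2 n224911 = n220460 := d3_1 F527553 F503882 (iv2 F480249)
theorem F527555 : act 4 n224911 = n215505 := d10_1 F527553 (iv6 D215505) D215504
def n224912 : Q := act 4 n211376
theorem D224912 : act 4 n211376 = n224912 := rfl
theorem F527556 : act 3 n224912 = n214753 := d5_1 D224912 (iv4 D214753) (iv3 F378969) (iv4 F378966) (iv3 F461326)
theorem F527557 : act 6 n224912 = n222499 := d10_2 F495809 D224912 F514563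
theorem F527558 : act 5 n224912 = n217363 := d16_5 (iv4 F527543) (iv5 D224909) (iv4 D211375) D211376 D224912 (iv4 F512522) F512524 (iv7 F510145) F510142
theorem F527559 : act 1 n224912 = n224669 := d18_6 (iv1 D194744) (iv4 F394319) F461321 (iv4 D211375) D211376 D224912 F526205 (iv0 F488650) (iv5 F433457)
def n224913 : Q := act 1 n211380
theorem D224913 : act 1 n211380 = n224913 := rfl
theorem F527560 : act 1 n224913 = n215349 := d15_1 D224913 (iv7 F502883) F502881
theorem F527561 : act 7 n224913 = n215554 := d15_2 (iv0 F461342) D224913 F480473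
theorem F527562 : act 5 n224913 = n220226 := d17_7 F394096 (iv5 F461514) (iv1 F503743) F503740 (iv4 D211379) D211380 D224913 F502748 F394095
theorem F527563 : act 4 n224913 = n219138 := d17_9 F497375 F480323 (iv1 F378760) D190118 (iv4 F379348) (iv5 F388928) (iv0 F388932) D211380 D224913
theorem F527564 : act 3 n211405 = n224913 := d19_19 (iv1 D224913) (iv5 D211380) D211379 F461336 (iv1 F348359) (iv5 F373403) F373402 (iv3 F387508) (iv1 F454271) (iv5 F454273) (iv4 D209413) D209412 F525265 (iv5 D224489) (iv4 F513492) F513495 F511796 F464454 (iv4 F461424)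
theorem F527565 : act 6 n222456 = n224913 := d21_3 F513941 F480976 (iv5 F514313) (iv1 D224913) F461340 F433356 (iv1 F253108) D214593 (iv6 F479262) (iv1 F513940)
theorem F527566 : act 2 n224913 = n215553 := d0_1 F527564 F480467 F369616 (iv3 F389404) (iv2 F461428)
def n224914 : Q := act 2 n211384
theorem D224914 : act 2 n211384 = n224914 := rfl
theorem F527567 : act 3 n224914 = n218936 := d0_2 D211384 D224914 F496270 (iv3 F389458) F379055
theorem F527568 : act 4 n224914 = n219130 := d1_2 (iv4 F497973) D224914 (iv2 F497976)
theorem F527569 : act 5 n224914 = n221544 := d2_2 F471626 D224914 F509515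
theorem F527570 : act 6 n224914 = n218932 := d3_2 (iv6 F461355) D224914 (iv2 D218932)
theorem F527571 : act 7 n224914 = n218933 := d4_2 (iv7 F471623) D224914 F496255
def n224915 : Q := act 1 n211387
theorem D224915 : act 1 n211387 = n224915 := rfl
theorem F527572 : act 1 n224915 = n215548 := d15_1 D224915 F480448 F480045
theorem F527573 : act 7 n224915 = n220791 := d15_2 F497954 D224915 F505554
theorem F527574 : act 5 n224915 = n212194 := d17_7 F402378 F393676 (iv1 F379082) (iv5 F393703) (iv4 F480040) (iv5 F480044) D224915 (iv0 D212194) (iv4 F402377)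
theorem F527575 : act 4 n224915 = n221659 := d17_9 F510151 F480226 F477022 (iv5 D190880) (iv4 F381424) F480446 F480438 (iv5 F480044) D224915
theorem F527576 : act 6 n222475 = n224915 := d21_3 (iv5 F511830) (iv1 F511834) (iv5 F514411) (iv1 D224915) (iv6 D211387) F224957 (iv1 F224924) D211358 F461266 F488632
theorem F527577 : act 2 n224915 = n222482 := d3_1 F527576 (iv6 D222482) (iv2 F514416)
theorem F527578 : act 3 n224915 = n218925 := d7_1 F527576 F496218 F514415
def n224916 : Q := act 3 n211389
theorem D224916 : act 3 n211389 = n224916 := rfl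
theorem F527579 : act 2 n224916 = n224864 := d0_1 D224916 (iv3 F527293) F483871 (iv3 F474360) F474359
theorem F527580 : act 5 n224916 = n216077 := d6_2 F461374 D224916 (iv3 D216077)
theorem F527581 : act 6 n224916 = n217846 := d7_2 (iv6 F467910) D224916 (iv3 F490898)
theorem F527582 : act 7 n224916 = n224396 := d8_2 (iv7 F461373) D224916 F524717
theorem F527583 : act 0 n224916 = n220903 := d19_4 (iv1 F483253) (iv5 F484031) F484030 D224916 (iv5 D220903) F394764 F160361 D104652 D194860 F394779 (iv3 F399380) F399383 (iv5 F478353) F478356 (iv3 F478951) F478955 (iv5 F498598) F498599 F493175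
theorem F527584 : act 4 n224916 = n224259 := d20_6 (iv4 F325748) F295293 (iv4 F351113) (iv3 F407184) (iv1 F461372) D224916 F523948 (iv4 D222061) F407143 (iv1 F343097)
theorem F527585 : act 0 n222070 = n224916 := d20_4 (iv4 F453940) F453943 (iv4 F407344) (iv3 F512193) (iv3 D224916) (iv4 F484030) (iv1 F484034) (iv4 F460195) F460194 F405214
def n224917 : Q := act 5 n211391
theorem D224917 : act 5 n211391 = n224917 := rfl
theorem F527586 : act 2 n224917 = n211537 := d2_1 D224917 (iv5 F510425) F510422
theorem F527587 : act 3 n224917 = n211392 := d6_1 D224917 (iv5 D211392) D211391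
theorem F527588 : act 4 n224917 = n221588 := d9_1 D224917 F509731 (iv4 F451028) (iv5 D199231) F410499 (iv5 F510443) F510442 (iv5 D221618) F401923 D199059 (iv4 F449931) (iv5 D196736) D196735 (iv5 F429802) (iv4 F461381)
theorem F527589 : act 6 n224917 = n221849 := d12_2 F461383 D224917 (iv5 D221849) (iv6 D197407) F389661
theorem F527590 : act 7 n224917 = n211533 := d13_2 (iv7 F461382) D224917 F462016
theorem F527591 : act 0 n224917 = n211538 := d17_2 F511645 D224917 F462034 (iv4 D189151) D189152 (iv0 F411235) (iv5 F411234) D220320 (iv4 F511642)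
theorem F527592 : act 1 n224917 = n211530 := d17_6 F483862 (iv5 D199059) F401638 (iv5 F429802) (iv4 F461381) D224917 F461995 (iv0 F491560) F491559
def n224918 : Q := act 4 n211394
theorem D224918 : act 4 n211394 = n224918 := rfl
theorem F527593 : act 2 n224918 = n222777 := d1_1 D224918 (iv4 D222777) (iv2 F461392)
theorem F527594 : act 3 n224918 = n212120 := d5_1 D224918 F464385 (iv3 F460053) (iv4 F460057) (iv3 F461393)
theorem F527595 : act 5 n224918 = n222679 := d9_2 D211394 D224918 F515521 F417381 F176519 (iv5 F177207) (iv4 F419103) (iv5 F461470) (iv4 F521787) (iv5 D223877) (iv4 D205561) (iv5 D126291) F93403 D105343 (iv4 F362690)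
theorem F527596 : act 6 n224918 = n222777 := d10_2 (iv6 F461394) D224918 (iv4 D222777)
theorem F527597 : act 7 n224918 = n222678 := d11_2 F512283 D224918 F515519
theorem F527598 : act 0 n224918 = n224069 := d18_2 F515832 D224918 (iv4 F525096) (iv5 D224458) (iv4 D209022) (iv0 F420544) (iv4 F482818) (iv0 F482821) D222739
def n224919 : Q := act 4 n211395
theorem D224919 : act 4 n211395 = n224919 := rfl
theorem F527599 : act 3 n224919 = n212081 := d5_1 D224919 (iv4 D212081) F461399 (iv4 D211396) D211395
theorem F527600 : act 6 n224919 = n212081 := d10_2 F461396 D224919 (iv4 D212081)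
theorem F527601 : act 7 n224919 = n221445 := d11_2 F521110 D224919 (iv4 F521108)
theorem F527602 : act 5 n224919 = n224059 := d16_1 D224919 F522785 F506718 (iv4 F501403) F501408 (iv4 F511231) F511232 (iv7 F510077) F510074
def n224920 : Q := act 1 n211398
theorem D224920 : act 1 n211398 = n224920 := rfl
theorem F527603 : act 7 n224920 = n221991 := d15_2 (iv0 F521184) D224920 (iv2 F521180)
theorem F527604 : act 4 n224920 = n220413 := d18_7 (iv1 F408698) F455326 (iv1 D200205) F175593 D199903 (iv4 F461406) D224920 F512508 F512507
theorem F527605 : act 5 n224920 = n220534 := d18_9 F513490 F513487 F510062 (iv4 D221642) D221643 (iv4 F514568) (iv0 D222500) (iv4 F461406) D224920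
theorem F527606 : act 3 n211424 = n224920 := d20_3 (iv4 F518579) F518581 F508892 (iv1 D224920) (iv3 D211398) (iv4 D141948) D141946 F362692 (iv3 F406296) F461174
theorem F527607 : act 6 n211423 = n224920 := d21_3 (iv5 F511459) F511461 F511403 (iv1 D224920) F461407 (iv5 F454618) (iv1 F454621) (iv5 F453806) (iv6 F495610) F495611
def n224921 : Q := act 5 n211398
theorem D224921 : act 5 n211398 = n224921 := rfl
theorem F527608 : act 2 n224921 = n220803 := d2_1 D224921 (iv5 F512440) F512438
theorem F527609 : act 3 n224921 = n211399 := d6_1 D224921 (iv5 D211399) D211398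
theorem F527610 : act 6 n224921 = n220802 := d12_2 (iv6 F461407) D224921 F505618 F490297 F454618
theorem F527611 : act 7 n224921 = n221603 := d16_8 F504489 D220592 F504505 F415500 F175593 D199903 (iv4 F461406) D224921 F509813
theorem F527612 : act 0 n224921 = n220230 := d17_2 (iv1 D224920) D224921 F502770 F505858 F505855 (iv0 D198647) D198649 (iv0 F503664) (iv4 F527604)
def n224922 : Q := act 7 n211398
theorem D224922 : act 7 n211398 = n224922 := rfl
theorem F527613 : act 3 n224922 = n211400 := d8_1 D224922 (iv7 D211400) D211398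
theorem F527614 : act 4 n224922 = n222502 := d11_1 D224922 (iv7 D222502) (iv4 F461406)
theorem F527615 : act 5 n224922 = n221603 := d13_1 D224922 (iv7 F527611) (iv5 D224921)
theorem F527616 : act 6 n224922 = n224853 := d14_1 D224922 (iv7 D224853) F459174 F408378 (iv6 F461407)
theorem F527617 : act 0 n221991 = n224922 := d21_4 F476254 (iv1 D197939) D197942 D221991 F527616 F527223 (iv1 F459180) D211441 F461545 (iv1 F476257)
def n224923 : Q := act 5 n211402
theorem D224923 : act 5 n211402 = n224923 := rfl
theorem F527618 : act 3 n224923 = n212748 := d6_1 D224923 F467346 (iv3 F461415)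
theorem F527619 : act 4 n224923 = n213926 := d9_1 D224923 F524639 F524634 F480096 F461506 F381931 (iv4 F389324) D220262 F502921 (iv5 F519037) F519036 (iv5 F477555) F477554 (iv5 F381929) D211402
theorem F527620 : act 6 n224923 = n212749 := d12_2 (iv6 F461416) D224923 F469347 (iv6 D201941) D201940
def n224924 : Q := act 4 n211411
theorem D224924 : act 4 n211411 = n224924 := rfl
theorem F527621 : act 2 n224924 = n211414 := d1_1 D224924 (iv4 D211414) (iv2 F461454)
theorem F527622 : act 3 n224924 = n212121 := d5_1 D224924 F464391 (iv3 F429452) F429453 (iv3 F461455)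
theorem F527623 : act 5 n224924 = n221276 := d9_2 D211411 D224924 (iv4 D221276) F398469 (iv4 F439034) (iv5 D206056) (iv4 F224861) D211327 D224899 F527487 F489790 (iv5 F470849) F470844 F467382 (iv4 F440567)
theorem F527624 : act 6 n224924 = n223498 := d10_2 (iv6 F461456) D224924 (iv4 D223498)
theorem F527625 : act 0 n224924 = n221193 := d17_0 (iv5 D221193) (iv1 F478022) F478020 (iv4 D211419) (iv5 F390771) (iv0 D193715) D193718 (iv0 F461457) D224924
theorem F527626 : act 1 n224924 = n221195 := d18_6 F410987 (iv4 F439025) (iv1 F440564) (iv4 F440567) D211411 D224924 F507684 (iv0 D218877) (iv5 F389266)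
def n224925 : Q := act 6 n211414
theorem D224925 : act 6 n211414 = n224925 := rfl
theorem F527627 : act 2 n224925 = n223498 := d3_1 D224925 (iv6 F527624) F527621
theorem F527628 : act 4 n224925 = n211415 := d10_1 D224925 (iv6 D211415) D211414
theorem F527629 : act 5 n224925 = n222846 := d12_1 D224925 (iv6 F516583) F516582 (iv6 F507764) F507766
theorem F527630 : act 7 n224925 = n222458 := d14_2 F527486 D224925 F514321 F464387 (iv6 F527485)
def n224926 : Q := act 6 n211418
theorem D224926 : act 6 n211418 = n224926 := rfl
theorem F527631 : act 2 n224926 = n211420 := d3_1 D224926 (iv6 D211420) D211418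
theorem F527632 : act 3 n224926 = n211422 := d7_1 D224926 (iv6 F498055) F498052
theorem F527633 : act 5 n224926 = n224319 := d12_1 D224926 F524293 (iv5 D219017) (iv6 F477993) (iv5 F477997)
theorem F527634 : act 7 n224926 = n211420 := d14_2 F498061 D224926 (iv6 D211420) (iv7 F461154) (iv6 F498060)
theorem F527635 : act 0 n224926 = n222400 := d21_4 F461459 (iv1 F477995) (iv5 F477997) D224926 F514008 (iv5 D199469) F412121 (iv5 F461468) (iv6 D211415) D211412
theorem F527636 : act 0 n222400 = n224926 := d21_4 F429448 (iv1 F349857) D199469 (iv6 F514008) (iv6 D224926) F477997 F477994 F461465 (iv6 F509023) F509024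
def n224927 : Q := act 3 n211419
theorem D224927 : act 3 n211419 = n224927 := rfl
theorem F527637 : act 2 n224927 = n221445 := d0_1 D224927 (iv3 D221445) (iv2 F464257) (iv3 F507694) F507693
theorem F527638 : act 4 n224927 = n211421 := d5_2 D211419 D224927 (iv3 D211421) (iv4 D141971) D141970
theorem F527639 : act 5 n224927 = n224012 := d6_2 F478020 D224927 F522528
theorem F527640 : act 6 n222000 = n224927 := d10_0 F527638 F461477 D222000
def n224928 : Q := act 6 n211419
theorem D224928 : act 6 n211419 = n224928 := rfl
theorem F527641 : act 3 n224928 = n222000 := d7_1 D224928 F527640 (iv3 D224927)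
theorem F527642 : act 4 n224928 = n211420 := d10_1 D224928 (iv6 D211420) D211419
def n224929 : Q := act 0 n211420
theorem D224929 : act 0 n211420 = n224929 := rfl
theorem F527643 : act 3 n224929 = n223821 := d20_5 F253431 F343777 (iv4 F362795) (iv3 F461476) D224929 F521465 (iv1 F486599) (iv4 F497609) (iv3 F497612) (iv1 F413060)
theorem F527644 : act 5 n224929 = n222396 := d21_2 F523663 D224929 (iv6 D222396) (iv1 F412373) F412371 (iv5 D196895) (iv1 F165713) (iv5 F228361) D212110 F523666
theorem F527645 : act 6 n224929 = n221437 := d21_5 (iv5 D193718) D193715 F390771 D211420 D224929 F509027 (iv1 F412300) D203679 (iv6 F461456) F461457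
theorem F527646 : act 1 n211420 = n224929 := d15_0 (iv0 D224929) (iv7 F527634) F527631
theorem F527647 : act 2 n222400 = n224929 := d3_3 F527645 (iv2 F509028) (iv6 F514008)
theorem F527648 : act 7 n222400 = n224929 := d14_0 F527645 (iv7 F521094) (iv6 F521097) F476349 (iv6 F514008)
def n224930 : Q := act 1 n211425
theorem D224930 : act 1 n211425 = n224930 := rfl
theorem F527649 : act 7 n224930 = n215457 := d15_2 (iv0 F521351) D224930 (iv2 F521347)
theorem F527650 : act 5 n224930 = n217866 := d17_7 D194680 (iv5 F469860) F487910 F487908 (iv4 F482866) F482867 D224930 (iv0 F491006) F387518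
theorem F527651 : act 4 n224930 = n211840 := d17_9 (iv1 D211840) (iv5 D144153) D144151 D211838 (iv4 F521226) F521227 (iv0 F501721) F482867 D224930
theorem F527652 : act 3 n217896 = n224930 := d19_19 (iv1 D224930) (iv5 F482867) F482866 (iv3 F487394) (iv1 F487398) (iv5 F520792) F520791 F504352 (iv1 F449359) (iv5 D208438) (iv4 F411523) (iv3 F427044) (iv1 F427046) (iv5 F356601) (iv4 D95754) D95753 (iv1 F364382) D215305 (iv4 F491141)
theorem F527653 : act 6 n219951 = n224930 := d21_3 F520320 (iv1 F505992) (iv5 F501326) (iv1 D224930) F461484 (iv5 D197937) D197935 D221985 F511766 F520322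
def n224931 : Q := act 2 n211425
theorem D224931 : act 2 n211425 = n224931 := rfl
theorem F527654 : act 3 n224931 = n219217 := d0_2 D211425 D224931 (iv2 F497907) (iv3 F497905) (iv2 F461168)
theorem F527655 : act 4 n224931 = n215498 := d1_2 F518782 D224931 (iv2 F518778)
theorem F527656 : act 5 n224931 = n214288 := d2_2 F482867 D224931 (iv2 F482864)
theorem F527657 : act 6 n224931 = n214290 := d3_2 (iv6 F461484) D224931 F474415
theorem F527658 : act 0 n224931 = n215457 := d21_4 F480311 F459452 D214290 (iv6 F527657) (iv6 D215457) (iv5 D174578) (iv1 F271730) F271728 D174710 D215521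
def n224932 : Q := act 4 n211432
theorem D224932 : act 4 n211432 = n224932 := rfl
theorem F527659 : act 3 n224932 = n218701 := d5_1 D224932 (iv4 F523505) F523504 F507685 (iv3 F497567)
theorem F527660 : act 5 n224932 = n217086 := d9_2 D211432 D224932 F487336 (iv5 D192723) (iv4 F400454) F400444 F400443 D196352 (iv4 F487636) (iv5 D217141) F368384 (iv5 F366787) (iv4 F372227) (iv5 F461510) (iv4 D211431)
theorem F527661 : act 7 n224932 = n217085 := d11_2 F503103 D224932 (iv4 F503104)
theorem F527662 : act 0 n224932 = n218889 := d17_0 F496057 (iv1 F472309) D224366 F524549 F480128 F473444 (iv5 F495628) F495630 D224932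
theorem F527663 : act 1 n224932 = n217165 := d18_6 D220217 F502702 (iv1 F461512) (iv4 D211431) D211432 D224932 (iv4 F496271) F496274 (iv5 F388928)
def n224933 : Q := act 4 n211436
theorem D224933 : act 4 n211436 = n224933 := rfl
theorem F527664 : act 2 n224933 = n220293 := d1_1 D224933 (iv4 D220293) (iv2 F461524)
theorem F527665 : act 3 n224933 = n217400 := d5_1 D224933 (iv4 F488740) F476124 (iv4 F343803) D211436
theorem F527666 : act 5 n224933 = n217399 := d9_2 (iv5 F461525) D224933 (iv4 F496073) (iv5 F496069) (iv4 F522446) (iv5 D223998) F438746 (iv5 F488646) (iv4 F526205) F526206 (iv4 D217475) F443534 (iv4 F514714) F514715 F438756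
theorem F527667 : act 6 n224933 = n214660 := d10_2 (iv6 F461526) D224933 (iv4 D214660)
theorem F527668 : act 7 n224933 = n222224 := d11_2 (iv7 F461527) D224933 F513010
theorem F527669 : act 1 n224933 = n224912 := d18_6 (iv1 D213684) (iv4 F469888) F469890 F438756 (iv5 F461525) D224933 (iv4 D224912) D224911 F527551
def n224934 : Q := act 3 n211437
theorem D224934 : act 3 n211437 = n224934 := rfl
theorem F527670 : act 2 n224934 = n214654 := d0_1 D224934 F496012 (iv2 F495905) F495900 F461532
theorem F527671 : act 4 n224934 = n211814 := d5_2 (iv4 F461530) D224934 (iv3 F488624) (iv4 F511580) F511579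
theorem F527672 : act 6 n224934 = n222725 := d7_2 F461533 D224934 (iv3 D222725)
theorem F527673 : act 7 n224934 = n214653 := d8_2 F480309 D224934 (iv3 F488606)
theorem F527674 : act 0 n224934 = n214646 := d19_4 F363336 D197820 (iv4 F461530) D224934 (iv5 F502770) F502769 F389086 D193190 F389125 (iv4 F483535) (iv3 F487991) (iv1 F487996) F468046 (iv4 F448192) F421347 (iv1 F418861) (iv5 F420542) (iv4 F482818) F482817
theorem F527675 : act 0 n214655 = n224934 := d20_4 F436682 (iv1 F431011) F431009 (iv3 F476234) (iv3 D224934) F461530 F405890 F409047 (iv3 F429383) F433757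
def n224935 : Q := act 5 n211437
theorem D224935 : act 5 n211437 = n224935 := rfl
theorem F527676 : act 2 n224935 = n221657 := d2_1 D224935 F510139 F461532
theorem F527677 : act 4 n224935 = n211940 := d9_1 D224935 F463661 F459989 F223730 (iv4 F169162) (iv5 F407589) (iv4 F461536) (iv5 F461537) (iv4 F407854) F459373 (iv4 D210936) (iv5 D140376) (iv4 F168618) D197820 (iv4 F461530)
theorem F527678 : act 6 n224935 = n222055 := d12_2 F461533 D224935 F512122 F514237 F514234
theorem F527679 : act 7 n224935 = n221535 := d13_2 F480309 D224935 F509477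
theorem F527680 : act 0 n224935 = n221656 := d17_2 D211437 D224935 F510132 F430290 (iv5 D197929) (iv0 D108780) D108782 D197932 F406233
theorem F527681 : act 1 n224935 = n214796 := d17_6 F433286 F433284 F363336 D197820 (iv4 F461530) D224935 (iv5 F476896) (iv0 F461120) (iv4 D211324)
def n224936 : Q := act 6 n211440
theorem D224936 : act 6 n211440 = n224936 := rfl
theorem F527682 : act 2 n224936 = n224922 := d3_1 D224936 F527616 F527220
theorem F527683 : act 3 n224936 = n222311 := d7_1 D224936 F513513 F470118
theorem F527684 : act 4 n224936 = n211812 := d10_1 D224936 F463170 F462642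
theorem F527685 : act 5 n224936 = n220589 := d12_1 D224936 (iv6 D220589) (iv5 F424827) F424828 D211440
theorem F527686 : act 7 n224936 = n222118 := d14_2 (iv7 F461543) D224936 F512439 (iv7 F453816) F453814
theorem F527687 : act 0 n224936 = n224920 := d21_4 F480116 (iv1 F459172) D211440 D224936 (iv6 F527607) (iv5 F511403) (iv1 D221920) D221921 F511405 (iv1 F480119)
theorem F527688 : act 0 n223771 = n224936 := d21_4 F253469 (iv1 F406249) (iv5 F433430) D223771 (iv6 D224936) (iv5 D211440) (iv1 D141993) D141995 F413071 F413070
def n224937 : Q := act 3 n211444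
theorem D224937 : act 3 n211444 = n224937 := rfl
theorem F527689 : act 2 n224937 = n218804 := d0_1 D224937 F495720 F378855 (iv3 F461911) F461910
theorem F527690 : act 4 n224937 = n211445 := d5_2 D211444 D224937 (iv3 D211445) (iv4 D141997) (iv3 F225020)
theorem F527691 : act 5 n224937 = n220371 := d6_2 (iv5 F461780) D224937 F503458
theorem F527692 : act 6 n224937 = n215518 := d7_2 F512469 D224937 (iv3 F512468)
theorem F527693 : act 7 n224937 = n218797 := d8_2 (iv7 F497794) D224937 (iv3 F497791)
theorem F527694 : act 0 n224937 = n218803 := d19_4 (iv1 D141993) D141995 D211444 D224937 (iv5 F518268) (iv4 D223219) F473472 F459267 (iv5 F498654) (iv4 D219392) F383240 (iv1 F388427) F388425 F155738 F109113 (iv1 F108900) D72637 D153610 (iv3 F366179)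
theorem F527695 : act 0 n218802 = n224937 := d20_4 (iv4 F379068) F495903 (iv4 D218849) (iv3 F495901) (iv3 D224937) (iv4 D211444) D211442 (iv4 F463284) F463283 (iv1 D190206)
def n224938 : Q := act 6 n211457
theorem D224938 : act 6 n211457 = n224938 := rfl
theorem F527696 : act 2 n224938 = n221983 := d3_1 D224938 F511758 F461626
theorem F527697 : act 3 n224938 = n222178 := d7_1 D224938 (iv6 F524483) F524481
theorem F527698 : act 5 n224938 = n220814 := d12_1 D224938 F505669 (iv5 D204939) (iv6 F241488) (iv5 F461625)
theorem F527699 : act 7 n224938 = n221975 := d14_2 (iv7 F461624) D224938 F511716 (iv7 F476215) F476214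
theorem F527700 : act 0 n224938 = n221982 := d21_4 F381478 F352707 (iv5 F461625) D224938 (iv6 F511753) (iv5 D218063) F425303 D223277 F518585 F425309
theorem F527701 : act 0 n221981 = n224938 := d17_0 F527698 F505671 (iv5 F497653) F497654 (iv5 F489023) F489025 (iv5 F488742) (iv0 F488939) (iv4 F511749)
def n224939 : Q := act 5 n211527
theorem D224939 : act 5 n211527 = n224939 := rfl
theorem F527702 : act 2 n224939 = n224382 := d2_1 D224939 F524629 (iv2 F519578)
theorem F527703 : act 3 n224939 = n224861 := d6_1 D224939 F527273 F461984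
theorem F527704 : act 4 n224939 = n223004 := d9_1 D224939 (iv5 F520246) (iv4 D223595) (iv5 F430909) F239223 (iv5 F359093) (iv4 F438100) (iv5 F511114) F511113 D223201 F518156 F430903 F388787 (iv5 F451453) (iv4 F461982)
theorem F527705 : act 6 n224939 = n211528 := d12_2 D211527 D224939 (iv5 D211528) (iv6 D142738) D142737
theorem F527706 : act 7 n224939 = n224445 := d13_2 (iv7 F461983) D224939 (iv5 D224445)
theorem F527707 : act 0 n224939 = n224573 := d17_2 F461985 D224939 F525710 F522383 (iv5 F445001) F474603 F474601 (iv0 D172028) D172030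
def n224940 : Q := act 6 n211538
theorem D224940 : act 6 n211538 = n224940 := rfl
theorem F527708 : act 2 n224940 = n211539 := d3_1 D224940 (iv6 D211539) D211538
theorem F527709 : act 3 n224940 = n222424 := d7_1 D224940 F514146 F509853
theorem F527710 : act 4 n224940 = n218318 := d10_1 D224940 (iv6 F513310) F513305
theorem F527711 : act 5 n224940 = n222445 := d12_1 D224940 F514257 (iv5 F434642) (iv6 F434646) (iv5 F462034)
theorem F527712 : act 0 n224940 = n224039 := d21_4 F512080 (iv1 D218363) (iv5 F462034) D224940 (iv6 D224039) (iv5 F502509) F502512 (iv5 F388721) (iv6 F439949) F512082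
theorem F527713 : act 0 n222271 = n224940 := d21_4 F404417 F389726 (iv5 F410258) D222271 (iv6 D224940) F462034 F491561 F522639 (iv6 F522640) F473501
def n224941 : Q := act 1 n211589
theorem D224941 : act 1 n211589 = n224941 := rfl
theorem F527714 : act 5 n224941 = n222485 := d17_7 F511334 F453706 F447186 (iv5 D188341) D188340 (iv5 F462280) D224941 (iv0 F514474) (iv4 F511331)
theorem F527715 : act 4 n224941 = n223691 := d17_9 F520756 F448501 F450898 (iv5 F491766) (iv4 F514198) F514199 F484706 (iv5 F462280) D224941
theorem F527716 : act 3 n222486 = n224941 := d19_19 (iv1 D224941) F462280 (iv4 D188340) (iv3 D91224) (iv1 F139112) (iv5 F370880) F370879 (iv3 F405703) F405706 (iv5 F203751) (iv4 F176727) (iv3 D113296) (iv1 F161111) (iv5 F203038) (iv4 F398145) (iv3 F456343) (iv1 F465300) (iv5 F489691) (iv4 F514476)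
theorem F527717 : act 6 n222807 = n224941 := d21_3 (iv5 F503392) F503394 (iv5 F516183) (iv1 D224941) F462281 F457961 (iv1 F448527) (iv5 D208238) (iv6 F432677) F500290
theorem F527718 : act 2 n224941 = n222428 := d3_1 F527717 F514165 (iv2 F516186)
theorem F527719 : act 0 n216160 = n224941 := d21_4 F367241 (iv1 D184071) (iv5 F283446) D216160 (iv6 F527717) F516183 (iv1 F454106) D215089 F478286 (iv1 F372517)
def n224942 : Q := act 2 n211589
theorem D224942 : act 2 n211589 = n224942 := rfl
theorem F527720 : act 3 n224942 = n216162 := d0_2 D211589 D224942 F483244 (iv3 F384442) F384441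
theorem F527721 : act 4 n224942 = n216503 := d1_2 (iv4 F501555) D224942 (iv2 F501557)
theorem F527722 : act 5 n224942 = n216504 := d2_2 (iv5 F462280) D224942 F484709
theorem F527723 : act 6 n224942 = n216358 := d3_2 (iv6 F462281) D224942 F483991
theorem F527724 : act 7 n224942 = n216160 := d4_2 F491276 D224942 (iv2 F491272)
theorem F527725 : act 1 n224942 = n222428 := d15_0 (iv0 F514167) F491276 D224942
def n224943 : Q := act 3 n211601
theorem D224943 : act 3 n211601 = n224943 := rfl
theorem F527726 : act 2 n224943 = n220354 := d0_1 D224943 F503347 F462440 (iv3 D211626) F462331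
theorem F527727 : act 4 n224943 = n213350 := d5_2 F484925 D224943 (iv3 F501153) (iv4 F501151) (iv3 F484924)
theorem F527728 : act 5 n224943 = n213333 := d6_2 F525486 D224943 F525487
theorem F527729 : act 6 n224943 = n220351 := d7_2 (iv6 F462330) D224943 F503333
theorem F527730 : act 7 n224943 = n211628 := d8_2 F462332 D224943 (iv3 D211628)
theorem F527731 : act 0 n224943 = n223378 := d19_4 F525866 F501980 F484925 D224943 F519151 F427390 F305044 D120381 F191764 F301709 F299008 (iv1 F299275) F299277 (iv4 F301608) (iv3 F355380) (iv1 F389858) F389855 D219392 (iv3 F525864)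
theorem F527732 : act 0 n223376 = n224943 := d20_4 (iv4 D214805) F383288 (iv4 F455904) (iv3 F519139) (iv3 D224943) (iv4 F484925) (iv1 D216555) (iv4 F484914) F484913 (iv1 F476938)
def n224944 : Q := act 6 n211617
theorem D224944 : act 6 n211617 = n224944 := rfl
theorem F527733 : act 2 n224944 = n217291 := d3_1 D224944 (iv6 F519119) (iv2 F519120)
theorem F527734 : act 3 n224944 = n215408 := d7_1 D224944 (iv6 F525662) F525659
theorem F527735 : act 4 n224944 = n215411 := d10_1 D224944 F485464 (iv4 F485465)
theorem F527736 : act 7 n224944 = n217290 := d14_2 (iv7 F519114) D224944 F488307 F455434 (iv6 F519111)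
theorem F527737 : act 0 n224944 = n217287 := d21_4 D220571 F504411 F501572 D224944 (iv6 D217287) (iv5 D187126) F157697 (iv5 F153686) D102596 (iv1 F484889)
theorem F527738 : act 0 n217292 = n224944 := d21_4 (iv5 D208783) D208781 (iv5 F457046) (iv6 F488311) (iv6 D224944) (iv5 F501572) F501571 (iv5 F460544) F460545 F450846
def n224945 : Q := act 5 n211618
theorem D224945 : act 5 n211618 = n224945 := rfl
theorem F527739 : act 2 n224945 = n212964 := d2_1 D224945 (iv5 D212964) (iv2 F462399)
theorem F527740 : act 3 n224945 = n214234 := d6_1 D224945 (iv5 D214234) (iv3 F462400)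
theorem F527741 : act 6 n224945 = n215069 := d12_2 D211618 D224945 (iv5 D215069) (iv6 F335439) (iv5 F335447)
theorem F527742 : act 4 n224945 = n224594 := d16_2 (iv4 F462401) D224945 F525834 F524673 (iv5 F466643) F466642 F420510 (iv7 D151654) (iv2 F335453)
theorem F527743 : act 0 n224945 = n211646 := d17_2 F474795 D224945 F462503 (iv4 D151340) D151341 F465242 (iv5 F468004) (iv0 F468007) (iv4 F474793)
theorem F527744 : act 1 n224945 = n212905 := d17_6 F343521 D115013 D201709 F421497 (iv4 F462401) D224945 (iv5 D212905) (iv0 F353310) F186799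
def n224946 : Q := act 4 n211625
theorem D224946 : act 4 n211625 = n224946 := rfl
theorem F527745 : act 2 n224946 = n224785 := d1_1 D224946 F526856 (iv2 F525874)
theorem F527746 : act 3 n224946 = n211686 := d5_1 D224946 (iv4 F520427) F520424 (iv4 D214115) (iv3 F462436)
theorem F527747 : act 6 n224946 = n211680 := d10_2 F523794 D224946 (iv4 F523796)
theorem F527748 : act 7 n224946 = n219985 := d11_2 F500719 D224946 F501519
theorem F527749 : act 5 n224946 = n211679 := d16_3 (iv4 F226213) D211625 D224946 F500712 F500715 (iv4 F520380) F520381 (iv7 D211604) F226134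
theorem F527750 : act 1 n224946 = n217239 := d18_6 F462446 (iv4 D211629) (iv1 D143487) (iv4 F226213) D211625 D224946 (iv4 F526693) F526695 F487954
def n224947 : Q := act 5 n211627
theorem D224947 : act 5 n211627 = n224947 := rfl
theorem F527751 : act 2 n224947 = n220074 := d2_1 D224947 F501980 F484923
theorem F527752 : act 3 n224947 = n213773 := d6_1 D224947 (iv5 D213773) (iv3 F462443)
theorem F527753 : act 6 n224947 = n213559 := d12_2 (iv6 F462444) D224947 (iv5 D213559) (iv6 D154262) D154261
theorem F527754 : act 7 n224947 = n224840 := d13_2 (iv7 F484919) D224947 F527146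
theorem F527755 : act 4 n224947 = n219554 := d16_2 D211627 D224947 (iv5 F499865) F499864 (iv5 F487954) F487953 F462452 F462332 (iv2 F462331)
theorem F527756 : act 1 n224947 = n213394 := d17_6 (iv1 D136884) D136885 D209755 F460917 D211627 D224947 (iv5 F513300) (iv0 F513303) (iv4 D209753)
def n224948 : Q := act 5 n211629
theorem D224948 : act 5 n211629 = n224948 := rfl
theorem F527757 : act 2 n224948 = n224840 := d2_1 D224948 F527146 F484920
theorem F527758 : act 3 n224948 = n223392 := d6_1 D224948 F519237 F518223
theorem F527759 : act 4 n224948 = n219555 := d9_1 D224948 (iv5 F500385) F500384 (iv5 F525870) (iv4 D224602) F460917 D211627 D224947 F527755 (iv5 F499865) F499864 (iv5 F487954) F487953 F462452 D211629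
theorem F527760 : act 6 n224948 = n223391 := d12_2 (iv6 F518213) D224948 F519230 F503340 (iv5 F518210)
theorem F527761 : act 7 n224948 = n220074 := d13_2 F484921 D224948 F501980
theorem F527762 : act 0 n224948 = n213394 := d17_2 F462446 D224948 (iv5 F513300) F513299 F488306 (iv0 F488063) (iv5 F521260) (iv0 F521263) F499864
def n224949 : Q := act 4 n211633
theorem D224949 : act 4 n211633 = n224949 := rfl
theorem F527763 : act 2 n224949 = n224598 := d1_1 D224949 (iv4 D224598) (iv2 F462465)
theorem F527764 : act 3 n224949 = n217152 := d5_1 D224949 F487683 F389848 (iv4 F427387) F462463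
theorem F527765 : act 6 n224949 = n217242 := d10_2 F526438 D224949 (iv4 F526436)
theorem F527766 : act 7 n224949 = n224601 := d11_2 (iv7 F462462) D224949 (iv4 D224601)
theorem F527767 : act 5 n224949 = n224596 := d16_7 F513299 F488306 (iv4 F526693) (iv5 D224755) F458130 F462464 D224949 (iv7 F526672) F526668
theorem F527768 : act 0 n224949 = n224948 := d17_0 (iv5 D224948) (iv1 F484929) (iv5 F525870) (iv4 D224602) F460917 (iv0 D143486) D143488 D211633 D224949
theorem F527769 : act 1 n224949 = n224947 := d18_6 F522341 (iv4 F526670) F526673 F458130 F462464 D224949 F527755 (iv0 D219554) (iv5 F488292)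
def n224950 : Q := act 5 n211636
theorem D224950 : act 5 n211636 = n224950 := rfl
theorem F527770 : act 3 n224950 = n217190 := d6_1 D224950 F487863 F486761
theorem F527771 : act 4 n224950 = n224595 := d9_1 D224950 F525841 F499516 D222734 F515811 F421497 (iv4 F462401) D224945 F527742 F525834 F524673 (iv5 F466643) F466642 F420510 (iv4 F462472)
theorem F527772 : act 6 n224950 = n220479 := d12_2 F462473 D224950 (iv5 D220479) (iv6 F470628) F470627
theorem F527773 : act 7 n224950 = n212964 := d13_2 F462474 D224950 (iv5 D212964)
theorem F527774 : act 0 n224950 = n212905 := d17_2 D211636 D224950 (iv5 D212905) (iv4 D151335) D151336 (iv0 F427791) D212598 F466620 F440084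
theorem F527775 : act 1 n224950 = n211646 := d17_6 (iv1 F343519) D201626 F421180 F420510 (iv4 F462472) D224950 F462503 (iv0 F348666) F238389
def n224951 : Q := act 5 n211642
theorem D224951 : act 5 n211642 = n224951 := rfl
theorem F527776 : act 2 n224951 = n212633 := d2_1 D224951 (iv5 F478218) F478216
theorem F527777 : act 4 n224951 = n216010 := d9_1 D224951 (iv5 F500353) F500352 F466415 (iv4 F390971) D220479 F503970 (iv5 D219577) F384414 (iv5 F157699) (iv4 F391802) F485282 (iv4 D216634) (iv5 F483531) F483530
theorem F527778 : act 6 n224951 = n211643 := d12_2 D211642 D224951 (iv5 D211643) (iv6 D143494) D143493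
theorem F527779 : act 7 n224951 = n217921 := d16_8 F384414 (iv5 F157699) (iv4 F391802) F485282 (iv4 D216634) (iv5 F483531) F483530 D224951 F491269
theorem F527780 : act 1 n224951 = n219575 := d17_8 F459035 (iv5 D209460) F453672 (iv5 F459034) F459033 D210857 (iv0 F462490) D224951 F499519
theorem F527781 : act 1 n219576 = n224951 := d15_0 F527780 (iv7 F499522) (iv2 F499527)
def n224952 : Q := act 7 n211642
theorem D224952 : act 7 n211642 = n224952 := rfl
theorem F527782 : act 2 n224952 = n219577 := d4_1 D224952 F499529 F478216
theorem F527783 : act 3 n224952 = n213413 := d8_1 D224952 (iv7 F483525) F483527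
theorem F527784 : act 4 n224952 = n216196 := d11_1 D224952 (iv7 F483533) F483530
theorem F527785 : act 5 n224952 = n217921 := d13_1 D224952 (iv7 F527779) (iv5 D224951)
theorem F527786 : act 1 n223619 = n224952 := d15_1 (iv0 F520372) (iv7 D224952) (iv2 F478216)
theorem F527787 : act 1 n224952 = n223250 := d15_1 F527786 (iv7 F525440) F525437
def n224953 : Q := act 6 n211653
theorem D224953 : act 6 n211653 = n224953 := rfl
theorem F527788 : act 2 n224953 = n223560 := d3_1 D224953 F520106 F519477
theorem F527789 : act 3 n224953 = n216739 := d7_1 D224953 F485716 (iv3 F462523)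
theorem F527790 : act 4 n224953 = n211654 := d10_1 D224953 (iv6 D211654) D211653
theorem F527791 : act 5 n224953 = n212867 := d12_1 D224953 (iv6 D212867) (iv5 D151181) D151182 (iv5 F462520)
theorem F527792 : act 7 n224953 = n223620 := d14_2 (iv7 F462519) D224953 (iv6 F520374) F516734 (iv6 F516731)
theorem F527793 : act 0 n224953 = n223621 := d21_4 D211651 (iv1 F462517) (iv5 F462520) D224953 F520378 F459055 (iv1 D210207) F411704 (iv6 F454635) (iv1 F456802)
theorem F527794 : act 0 n223546 = n224953 := d21_4 (iv5 D122346) D122344 D203985 D223546 (iv6 D224953) F462520 (iv1 F363873) D210268 F456797 F427160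
def n224954 : Q := act 6 n211683
theorem D224954 : act 6 n211683 = n224954 := rfl
theorem F527795 : act 2 n224954 = n223484 := d3_1 D224954 (iv6 F519693) F500820
theorem F527796 : act 3 n224954 = n211684 := d7_1 D224954 (iv6 D211684) D211683
theorem F527797 : act 7 n224954 = n223483 := d14_2 F500808 D224954 F519687 F482171 (iv6 F500807)
theorem F527798 : act 0 n224954 = n223479 := d21_4 (iv5 F422283) (iv1 F505301) (iv5 F505300) D224954 (iv6 D223479) D223478 F519665 (iv5 D219775) (iv6 F482137) (iv1 D215930)
theorem F527799 : act 0 n223017 = n224954 := d21_4 (iv5 D223016) (iv1 D202029) D202030 D223017 (iv6 D224954) F505300 F505299 (iv5 F423120) F423276 (iv1 F517268)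
def n224955 : Q := act 5 n211684
theorem D224955 : act 5 n211684 = n224955 := rfl
theorem F527800 : act 2 n224955 = n216639 := d2_1 D224955 (iv5 F517726) (iv2 F517729)
theorem F527801 : act 4 n224955 = n216445 := d9_1 D224955 (iv5 F484408) F431190 (iv5 F431191) F430845 (iv5 F255956) (iv4 F476806) (iv5 F520670) F520669 F432596 (iv4 F431189) D223630 F520427 (iv5 D211686) (iv4 F462678)
theorem F527802 : act 7 n224955 = n216636 := d13_2 (iv7 F462679) D224955 F485287
theorem F527803 : act 0 n224955 = n215792 := d17_2 F481737 D224955 (iv5 F503016) (iv4 D220283) F478908 F482659 (iv5 F513772) (iv0 F513775) (iv4 F481734)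
theorem F527804 : act 1 n224955 = n220631 := d17_6 F433570 (iv5 F430846) F462689 (iv5 D211686) (iv4 F462678) D224955 F504713 D223025 F517313
def n224956 : Q := act 6 n211698
theorem D224956 : act 6 n211698 = n224956 := rfl
theorem F527805 : act 2 n224956 = n220822 := d3_1 D224956 F505718 (iv2 F462750)
theorem F527806 : act 3 n224956 = n222127 := d7_1 D224956 (iv6 D222127) F462749
theorem F527807 : act 4 n224956 = n212179 := d10_1 D224956 (iv6 F464636) (iv4 F462748)
theorem F527808 : act 5 n224956 = n219117 := d12_1 D224956 (iv6 F523633) F523632 F478141 (iv5 F462747)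
theorem F527809 : act 7 n224956 = n218262 := d14_2 (iv7 F462746) D224956 (iv6 D218262) F375094 D194618
theorem F527810 : act 0 n224956 = n220821 := d21_4 (iv5 F417124) F417126 (iv5 F462747) D224956 (iv6 F505713) (iv5 F476984) (iv1 F476988) (iv5 D196629) (iv6 F165223) D196685
theorem F527811 : act 0 n211700 = n224956 := d21_4 F462759 F415568 F365015 D211700 (iv6 D224956) F462747 F413991 F413987 (iv6 F401487) (iv1 F462757)
def n224957 : Q := act 7 n211715
theorem D224957 : act 7 n211715 = n224957 := rfl
theorem F527812 : act 2 n224957 = n211874 := d4_1 D224957 (iv7 D211874) (iv2 F462813)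
theorem F527813 : act 3 n224957 = n214194 := d8_1 D224957 (iv7 F482963) F482967
theorem F527814 : act 4 n224957 = n224053 := d11_1 D224957 F522755 F498340
theorem F527815 : act 5 n224957 = n211846 := d13_1 D224957 (iv7 F488898) F488897
theorem F527816 : act 6 n224957 = n211871 := d14_1 D224957 (iv7 D211871) (iv6 D144230) (iv7 F350521) D211715
theorem F527817 : act 1 n211865 = n224957 := d15_1 (iv0 F463324) (iv7 D224957) F462813
theorem F527818 : act 1 n224957 = n211873 := d15_1 F527817 (iv7 F516365) F516362
def n224958 : Q := act 5 n211719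
theorem D224958 : act 5 n211719 = n224958 := rfl
theorem F527819 : act 2 n224958 = n211729 := d2_1 D224958 (iv5 D211729) (iv2 F462839)
theorem F527820 : act 3 n224958 = n214300 := d6_1 D224958 (iv5 F474458) (iv3 F462842)
theorem F527821 : act 4 n224958 = n211756 := d9_1 D224958 (iv5 F505147) F505146 (iv5 F508981) (iv4 F509118) (iv5 F513538) F513537 (iv5 F518677) F518676 F497779 F464629 F228458 (iv4 F227055) (iv5 F401715) (iv4 F462840)
theorem F527822 : act 6 n224958 = n211755 := d12_2 F462838 D224958 F462969 (iv6 F417125) F417124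
theorem F527823 : act 7 n224958 = n211727 := d13_2 (iv7 F462837) D224958 (iv5 D211727)
theorem F527824 : act 1 n224958 = n218759 := d17_6 F494735 F494736 (iv1 D211898) (iv5 F401715) (iv4 F462840) D224958 F495525 (iv0 F415646) F415644
def n224959 : Q := act 0 n211725
theorem D224959 : act 0 n211725 = n224959 := rfl
theorem F527825 : act 5 n224959 = n215148 := d17_1 D224959 (iv1 F505814) F505811 F393921 F352988 F391017 (iv5 F391024) (iv0 F457949) (iv4 F462870)
theorem F527826 : act 4 n224959 = n212544 := d18_1 D224959 (iv1 F518380) F518383 (iv5 F476454) F478484 F478480 F476587 (iv0 F474462) F462872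
theorem F527827 : act 3 n224959 = n211745 := d20_5 (iv4 F511681) F511679 (iv4 D211726) D211725 D224959 (iv4 F462922) (iv1 F466337) (iv4 F505205) (iv3 F509642) F509645
theorem F527828 : act 6 n224959 = n224038 := d21_5 F390133 F383640 D192100 (iv6 F462868) D224959 F522662 F503476 F480232 (iv6 D193516) D193514
theorem F527829 : act 2 n211964 = n224959 := d15_3 (iv0 D224959) (iv0 F462873) D211964
theorem F527830 : act 1 n211962 = n224959 := d15_0 (iv0 D224959) F462869 F463759
theorem F527831 : act 7 n224959 = n211961 := d15_2 D211962 F527830 F463753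
def n224960 : Q := act 4 n211731
theorem D224960 : act 4 n211731 = n224960 := rfl
theorem F527832 : act 2 n224960 = n217435 := d1_1 D224960 (iv4 F488865) (iv2 F462891)
theorem F527833 : act 3 n224960 = n217474 := d5_1 D224960 (iv4 F489048) (iv3 F477468) F477469 (iv3 F462892)
theorem F527834 : act 5 n224960 = n220445 := d9_2 F462890 D224960 F503816 F473387 (iv4 F495201) (iv5 F501354) F501353 (iv5 F462885) F462884 (iv5 F378408) (iv4 F390798) (iv5 F411368) (iv4 F473870) F473871 (iv4 F415644)
theorem F527835 : act 6 n224960 = n211819 := d10_2 F463068 D224960 (iv4 F506266)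
theorem F527836 : act 7 n224960 = n217481 := d11_2 (iv7 F462889) D224960 F489080
theorem F527837 : act 0 n224960 = n217480 := d17_0 (iv5 F489077) F453159 F440316 (iv4 F462878) (iv5 D211727) (iv0 D144051) D144053 D211731 D224960
theorem F527838 : act 1 n224960 = n217438 := d18_6 (iv1 F457593) (iv4 F466459) F466463 (iv4 F415644) F462890 D224960 (iv4 F526547) F526552 F496163
def n224961 : Q := act 6 n211736
theorem D224961 : act 6 n211736 = n224961 := rfl
theorem F527839 : act 2 n224961 = n220883 := d3_1 D224961 F506057 (iv2 F497275)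
theorem F527840 : act 3 n224961 = n214297 := d7_1 D224961 (iv6 F474444) (iv3 F462901)
theorem F527841 : act 4 n224961 = n220882 := d10_1 D224961 F518755 F518754
theorem F527842 : act 5 n224961 = n214871 := d12_1 D224961 F477218 F474721 F425641 D211736
theorem F527843 : act 0 n224961 = n215018 := d21_4 F518720 (iv1 F425651) D211736 D224961 (iv6 D215018) (iv5 D164413) (iv1 F259030) D215011 (iv6 F477880) (iv1 F518723)
theorem F527844 : act 0 n221877 = n224961 := d21_4 F226773 (iv1 F175780) D197486 D221877 (iv6 D224961) (iv5 D211736) (iv1 D144056) D144057 F226771 D144063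
def n224962 : Q := act 6 n211742
theorem D224962 : act 6 n211742 = n224962 := rfl
theorem F527845 : act 2 n224962 = n215499 := d3_1 D224962 F480233 (iv2 F462911)
theorem F527846 : act 3 n224962 = n211744 := d7_1 D224962 (iv6 D211744) (iv3 F462912)
theorem F527847 : act 4 n224962 = n224897 := d10_1 D224962 F527475 (iv4 F462914)
theorem F527848 : act 5 n224962 = n219715 := d12_1 D224962 (iv6 D219715) (iv5 D192118) F357416 D211742
theorem F527849 : act 7 n224962 = n215337 := d14_2 (iv7 F462913) D224962 (iv6 D215337) F271759 D174674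
theorem F527850 : act 0 n224962 = n215498 := d21_4 (iv5 D209909) F389959 D211742 D224962 F521155 F521152 F486039 F448265 D215523 (iv1 F480319)
theorem F527851 : act 1 n224962 = n215497 := d15_1 (iv0 F527850) (iv7 F518781) F518778
def n224963 : Q := act 6 n211743
theorem D224963 : act 6 n211743 = n224963 := rfl
theorem F527852 : act 2 n224963 = n222117 := d3_1 D224963 F512435 (iv2 F462916)
theorem F527853 : act 3 n224963 = n219262 := d7_1 D224963 F497996 (iv3 F462917)
theorem F527854 : act 4 n224963 = n211744 := d10_1 D224963 (iv6 D211744) D211743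
theorem F527855 : act 5 n224963 = n221570 := d12_1 D224963 (iv6 D221570) F401467 D198417 (iv5 F462918)
theorem F527856 : act 7 n224963 = n211850 := d14_2 F486506 D224963 (iv6 D211850) F425726 (iv6 F486505)
theorem F527857 : act 0 n224963 = n220721 := d21_10 (iv5 D220721) (iv1 F416406) D222629 F515265 (iv1 F518768) F518766 F425778 F407960 (iv5 F462918) D224963
theorem F527858 : act 0 n218893 = n224963 := d21_4 F496113 (iv1 F382232) (iv5 F492260) (iv6 F496075) (iv6 D224963) F462918 F407959 (iv5 F463202) (iv6 F463205) D218902
def n224964 : Q := act 1 n211753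
theorem D224964 : act 1 n211753 = n224964 := rfl
theorem F527859 : act 1 n224964 = n218754 := d15_1 D224964 (iv7 F497299) F497296
theorem F527860 : act 5 n224964 = n217390 := d17_7 F367232 (iv5 D104299) (iv1 F292373) D189835 (iv4 F381955) (iv5 F462962) D224964 F488694 (iv4 D190829)
theorem F527861 : act 4 n224964 = n214215 := d17_9 (iv1 F492259) (iv5 D218127) (iv1 F373901) (iv5 F379256) (iv4 F381964) (iv5 D191043) D191041 (iv5 F462962) D224964
theorem F527862 : act 6 n214214 = n224964 := d21_3 F381276 D206563 (iv5 F474026) (iv1 D224964) (iv6 D211753) F226775 (iv1 F182879) D202806 F425664 F381278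
theorem F527863 : act 2 n224964 = n215514 := d3_1 F527862 (iv6 D215514) (iv2 F474024)
def n224965 : Q := act 5 n211758
theorem D224965 : act 5 n211758 = n224965 := rfl
theorem F527864 : act 2 n224965 = n219834 := d2_1 D224965 F500809 (iv2 F462982)
theorem F527865 : act 3 n224965 = n223107 := d6_1 D224965 F517681 (iv3 F517639)
theorem F527866 : act 4 n224965 = n215371 := d9_1 D224965 (iv5 D215371) (iv4 D173962) (iv5 F319513) (iv4 F394597) F394598 (iv4 F505297) (iv5 F505300) (iv4 F474876) (iv5 D214379) (iv4 D159287) (iv5 D76204) (iv4 F113667) D158861 (iv4 F462983)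
theorem F527867 : act 6 n224965 = n223106 := d12_2 D211758 D224965 F517676 (iv6 F440612) F440609
theorem F527868 : act 7 n224965 = n219836 := d13_2 (iv7 F462984) D224965 F500821
theorem F527869 : act 1 n224965 = n220191 := d17_8 (iv1 F431210) (iv5 D204150) F351768 D123082 (iv4 F359946) (iv5 F422283) (iv0 F462985) D224965 (iv4 D220191)
theorem F527870 : act 0 n224965 = n220193 := d18_0 (iv4 D220193) (iv1 F431297) F431294 (iv5 D202372) D202371 (iv0 F423802) (iv4 F422282) (iv0 F462985) D224965
def n224966 : Q := act 7 n211759
theorem D224966 : act 7 n211759 = n224966 := rfl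
theorem F527871 : act 2 n224966 = n211763 := d4_1 D224966 (iv7 D211763) (iv2 F462987)
theorem F527872 : act 3 n224966 = n213937 := d8_1 D224966 F472804 (iv3 F462988)
theorem F527873 : act 4 n224966 = n211770 := d11_1 D224966 (iv7 D211770) (iv4 F462989)
theorem F527874 : act 5 n224966 = n224748 := d13_1 D224966 F526653 F517379
theorem F527875 : act 6 n224966 = n223003 := d14_1 D224966 (iv7 D223003) (iv6 D202008) (iv7 F226786) D211759
theorem F527876 : act 1 n211761 = n224966 := d15_1 D211761 (iv7 D224966) F462987
theorem F527877 : act 1 n224966 = n211760 := d15_1 F527876 (iv7 F500293) F500291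
def n224967 : Q := act 0 n211762
theorem D224967 : act 0 n211762 = n224967 := rfl
theorem F527878 : act 4 n224967 = n216775 := d20_2 F524788 D224967 F485881 (iv1 F392036) F392038 D208859 F504141 F504138 (iv3 F504126) F524789
theorem F527879 : act 3 n224967 = n216639 := d20_5 F287430 (iv1 F386159) F386158 (iv3 F462991) D224967 (iv4 D216639) (iv1 D185073) (iv4 F287432) (iv3 D185038) D185036
theorem F527880 : act 6 n224967 = n223480 := d21_5 F455226 F423247 F517329 F517331 D224967 F519671 F489970 D220201 F502618 (iv1 F455228)
theorem F527881 : act 2 n224808 = n224967 := d15_3 (iv0 D224967) (iv0 F517332) D224808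
theorem F527882 : act 1 n224748 = n224967 := d15_0 (iv0 D224967) (iv7 F500598) (iv2 F526650)
theorem F527883 : act 7 n224967 = n216773 := d15_2 F526654 F527882 F485876
def n224968 : Q := act 3 n211766
theorem D224968 : act 3 n211766 = n224968 := rfl
theorem F527884 : act 2 n224968 = n223091 := d0_1 D224968 F520249 F520243 F469418 F463015
theorem F527885 : act 4 n224968 = n213914 := d5_2 (iv4 F463014) D224968 (iv3 D213914) (iv4 F382904) (iv3 F382906)
theorem F527886 : act 5 n224968 = n222946 := d6_2 (iv5 F463013) D224968 (iv3 D222946)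
theorem F527887 : act 6 n224968 = n213055 := d7_2 (iv6 F463018) D224968 F468803
theorem F527888 : act 7 n224968 = n216600 := d8_2 (iv7 F463017) D224968 (iv3 D216600)
theorem F527889 : act 0 n224968 = n213923 := d19_4 D185174 F344330 (iv4 F463014) D224968 (iv5 D213923) D213922 (iv3 F506021) F506022 F458341 (iv4 D190952) (iv3 D97080) (iv1 D45379) (iv5 D21645) F16444 (iv3 F16439) (iv1 F63497) D41781 F64428 (iv3 F135172)
theorem F527890 : act 0 n213925 = n224968 := d21_4 (iv5 D152781) D152778 D213173 (iv6 F472761) F527887 (iv5 D213055) (iv1 F422865) D223059 F517477 F424166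
def n224969 : Q := act 5 n211767
theorem D224969 : act 5 n211767 = n224969 := rfl
theorem F527891 : act 2 n224969 = n211775 := d2_1 D224969 (iv5 D211775) (iv2 F463021)
theorem F527892 : act 3 n224969 = n222241 := d6_1 D224969 (iv5 D222241) (iv3 F463022)
theorem F527893 : act 6 n224969 = n211769 := d12_2 D211767 D224969 (iv5 D211769) (iv6 D144084) D144083
theorem F527894 : act 7 n224969 = n224191 := d13_2 F463024 D224969 F523555
theorem F527895 : act 4 n224969 = n224194 := d16_2 F474562 D224969 F524011 F524007 (iv5 D216112) (iv4 F414671) (iv5 F496532) F496533 (iv2 F474561)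
theorem F527896 : act 0 n224969 = n218638 := d17_2 F481168 D224969 (iv5 D218638) (iv4 D189726) F292432 D158878 (iv5 F362553) F289216 D215700
def n224970 : Q := act 0 n211769
theorem D224970 : act 0 n211769 = n224970 := rfl
theorem F527897 : act 5 n224970 = n222517 := d17_1 D224970 F514672 F509465 D224326 (iv5 F524338) (iv0 D219503) D219505 F524277 F524274
theorem F527898 : act 2 n211781 = n224970 := d15_3 (iv0 D224970) (iv0 F512546) F512545
theorem F527899 : act 1 n211784 = n224970 := d15_0 (iv0 D224970) (iv7 F524261) F524256
theorem F527900 : act 7 n224970 = n211782 := d15_2 (iv0 F512547) F527899 (iv2 F512543)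
theorem F527901 : act 3 n211979 = n224970 := d19_19 (iv1 F527899) F463066 (iv4 F462993) F462992 (iv1 F226801) (iv5 F245267) F359548 (iv3 F290198) F346062 F136231 F136230 F133544 F70443 (iv5 F75831) D104242 D194727 F461216 (iv5 F495921) F495920
theorem F527902 : act 6 n215500 = n224970 := d21_3 (iv5 D222494) (iv1 F413785) D215500 (iv1 F527899) (iv6 F497295) F522275 (iv1 F522274) F445809 (iv6 F512762) (iv1 F514531)
def n224971 : Q := act 5 n211774
theorem D224971 : act 5 n211774 = n224971 := rfl
theorem F527903 : act 2 n224971 = n216935 := d2_1 D224971 (iv5 D216935) F463046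
theorem F527904 : act 6 n224971 = n222599 := d12_2 (iv6 F463045) D224971 (iv5 D222599) (iv6 D200320) D200319
theorem F527905 : act 0 n224971 = n224332 := d17_2 D211774 D224971 F524371 F477803 (iv5 D199856) (iv0 F474548) (iv5 F496624) F496626 F463042
def n224972 : Q := act 4 n211775
theorem D224972 : act 4 n211775 = n224972 := rfl
theorem F527906 : act 2 n224972 = n224194 := d1_1 D224972 (iv4 F527895) F527891
theorem F527907 : act 5 n224972 = n222061 := d9_2 D211775 D224972 (iv4 D222061) (iv5 D198187) (iv4 F174602) (iv5 F413844) (iv4 F448279) (iv5 F523555) F523554 (iv5 F454324) F454322 F407113 (iv4 F281165) (iv5 F463043) F463042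
theorem F527908 : act 6 n224972 = n211783 := d10_2 (iv6 F463049) D224972 (iv4 D211783)
theorem F527909 : act 0 n224972 = n224193 := d18_2 F481036 D224972 F523561 F481129 (iv4 F482203) (iv0 F482205) F481138 (iv0 D215669) D215671
theorem F527910 : act 3 n224972 = n224461 := d19_3 F416422 D211775 D224972 F525114 (iv5 D218086) (iv4 D188473) F141533 (iv1 F295013) (iv5 D86942) F66308 F65916 (iv1 F64144) F64140 F291701 (iv3 F291700) (iv1 D44139) D44141 D94447 F291650
theorem F527911 : act 7 n224972 = n223937 := d15_2 D224193 (iv0 F527909) F522097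
theorem F527912 : act 0 n224192 = n224972 := d19_0 F527907 (iv4 D222061) F407143 (iv1 F343097) F343098 F81111 (iv3 F40171) (iv1 F76504) (iv5 F98280) F332786 (iv3 F176750) D200887 F474224 F413331 D204722 (iv1 F482889) (iv5 F509226) (iv4 F516312) F523559
def n224973 : Q := act 7 n211775
theorem D224973 : act 7 n211775 = n224973 := rfl
theorem F527913 : act 2 n224973 = n224191 := d4_1 D224973 (iv7 F527894) F527891
theorem F527914 : act 3 n224973 = n211791 := d8_1 D224973 (iv7 D211791) (iv3 F463048)
theorem F527915 : act 4 n224973 = n223937 := d11_1 D224973 (iv7 F527911) (iv4 D224972)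
theorem F527916 : act 5 n224973 = n211776 := d13_1 D224973 (iv7 D211776) D211775
theorem F527917 : act 6 n224973 = n219283 := d14_1 D224973 F498109 F497295 (iv7 D211784) (iv6 F463049)
theorem F527918 : act 0 n218638 = n224973 := d21_4 (iv5 D218100) (iv1 F408139) D222145 F512586 F527917 (iv5 F522091) (iv1 D223935) (iv5 F442340) F512357 (iv1 F512359)
def n224974 : Q := act 0 n211778
theorem D224974 : act 0 n211778 = n224974 := rfl
theorem F527919 : act 5 n224974 = n222127 := d17_3 D144089 D211778 D224974 F512493 (iv5 F457434) D224718 (iv5 F526494) (iv0 D211760) F226791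
theorem F527920 : act 3 n224974 = n219117 := d20_5 (iv4 F496065) F512371 F512369 (iv3 F463057) D224974 F497266 F462846 (iv4 F489080) (iv3 F496072) (iv1 D218892)
theorem F527921 : act 2 n222607 = n224974 := d15_3 (iv0 D224974) (iv0 F463059) (iv7 F515149)
theorem F527922 : act 1 n211780 = n224974 := d15_0 (iv0 D224974) (iv7 F522218) F522216
theorem F527923 : act 7 n224974 = n219112 := d15_2 (iv0 F477886) F527922 F497242
theorem F527924 : act 6 n215061 = n224974 := d21_3 (iv5 D198492) (iv1 F408146) D215061 (iv1 F527922) F463062 (iv5 D206194) F439635 (iv5 F495528) (iv6 F512594) (iv1 D222147)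
def n224975 : Q := act 4 n211782
theorem D224975 : act 4 n211782 = n224975 := rfl
theorem F527925 : act 2 n224975 = n224286 := d1_1 D224975 F524093 F512543
theorem F527926 : act 5 n224975 = n224283 := d16_7 (iv4 F512166) F512167 F504127 F485896 (iv4 F512539) F512541 D224975 F524078 F507778
theorem F527927 : act 0 n224975 = n224021 := d17_0 F522578 (iv1 D206823) D206824 (iv4 F463058) (iv5 D211778) (iv0 D144089) D144091 D211782 D224975
theorem F527928 : act 1 n224975 = n223931 := d18_8 (iv1 F442323) (iv4 F449065) (iv1 F450607) (iv4 F452051) F463063 (iv4 D211783) D211782 D224975 F522074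
def n224976 : Q := act 3 n211790
theorem D224976 : act 3 n211790 = n224976 := rfl
theorem F527929 : act 2 n224976 = n224322 := d0_1 D224976 F524311 F447814 (iv3 F497287) F497286
theorem F527930 : act 4 n224976 = n224461 := d5_2 D211790 D224976 (iv3 F527910) (iv4 D224972) F463048
theorem F527931 : act 5 n224976 = n218881 := d6_2 F498334 D224976 (iv3 F498332)
theorem F527932 : act 6 n224976 = n211794 := d7_2 (iv6 F463078) D224976 (iv3 D211794)
theorem F527933 : act 0 n224976 = n219314 := d19_4 (iv1 D144094) D144095 D211790 D224976 (iv5 D219314) (iv4 D191146) F357385 F306981 (iv5 D44799) (iv4 F68952) (iv3 D43857) F65958 D41568 D89021 D186667 D217026 F494149 F494147 (iv3 D211786)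
theorem F527934 : act 0 n219316 = n224976 := d20_4 F447528 (iv1 F408930) D198734 (iv3 F498264) (iv3 D224976) (iv4 D211790) D211788 (iv4 F506278) F506277 (iv1 F447532)
def n224977 : Q := act 5 n211799
theorem D224977 : act 5 n211799 = n224977 := rfl
theorem F527935 : act 2 n224977 = n211805 := d2_1 D224977 (iv5 D211805) (iv2 F463115)
theorem F527936 : act 1 n224977 = n222627 := d17_6 (iv1 F416386) D200438 F463126 (iv5 D211801) (iv4 F463116) D224977 (iv5 D222627) (iv0 F416352) (iv4 F415585)
def n224978 : Q := act 5 n211803
theorem D224978 : act 5 n211803 = n224978 := rfl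
theorem F527937 : act 3 n224978 = n221134 := d6_1 D224978 (iv5 D221134) (iv3 F463134)
theorem F527938 : act 6 n224978 = n211805 := d12_2 D211803 D224978 (iv5 D211805) (iv6 D144121) D144120
def n224979 : Q := act 5 n211811
theorem D224979 : act 5 n211811 = n224979 := rfl
theorem F527939 : act 2 n224979 = n222573 := d2_1 D224979 F514977 (iv2 F463165)
theorem F527940 : act 3 n224979 = n223501 := d6_1 D224979 (iv5 F521423) F521422
theorem F527941 : act 6 n224979 = n224722 := d12_2 (iv6 F463166) D224979 (iv5 D224722) (iv6 F520060) F520059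
theorem F527942 : act 7 n224979 = n221062 := d13_2 (iv7 F463167) D224979 (iv5 D221062)
theorem F527943 : act 0 n224979 = n222572 := d17_2 (iv1 F463169) D224979 F514974 F503658 D220413 F512508 F512507 F408703 (iv4 F440653)
theorem F527944 : act 1 n224979 = n222571 := d17_6 F415587 (iv5 F514566) F514572 (iv5 D211812) D211811 D224979 F514968 F510922 F501090
def n224980 : Q := act 6 n211816
theorem D224980 : act 6 n211816 = n224980 := rfl
theorem F527945 : act 2 n224980 = n224912 := d3_1 D224980 F527557 F514560
theorem F527946 : act 3 n224980 = n211824 := d7_1 D224980 (iv6 D211824) (iv3 F463179)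
theorem F527947 : act 4 n224980 = n224908 := d10_1 D224980 F527535 F479501
theorem F527948 : act 0 n224980 = n220293 := d21_4 F514582 (iv1 F414073) (iv5 F463180) D224980 F503065 F476427 (iv1 D166672) D166674 D215121 (iv1 F514585)
theorem F527949 : act 0 n222224 = n224980 := d21_4 F408861 (iv1 F408858) D198741 (iv6 F513011) (iv6 D224980) F463180 (iv1 F397195) D198422 F407977 (iv1 F408860)
def n224981 : Q := act 7 n211820
theorem D224981 : act 7 n211820 = n224981 := rfl
theorem F527950 : act 2 n224981 = n218904 := d4_1 D224981 F518770 F518764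
theorem F527951 : act 3 n224981 = n216913 := d8_1 D224981 (iv7 D216913) F463189
theorem F527952 : act 4 n224981 = n211821 := d11_1 D224981 (iv7 D211821) D211820
theorem F527953 : act 5 n224981 = n216917 := d13_1 D224981 (iv7 D216917) F463190
theorem F527954 : act 6 n224981 = n214534 := d14_1 D224981 F475666 F463205 (iv7 D211823) (iv6 F463188)
theorem F527955 : act 1 n211842 = n224981 := d15_1 F518768 (iv7 D224981) (iv2 F518764)
theorem F527956 : act 1 n224981 = n211843 := d15_1 F527955 (iv7 F518733) F518730
def n224982 : Q := act 3 n211844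
theorem D224982 : act 3 n211844 = n224982 := rfl
theorem F527957 : act 2 n224982 = n223772 := d0_1 D224982 F521185 F514458 (iv3 F518746) F518750
theorem F527958 : act 4 n224982 = n223769 := d5_2 F497281 D224982 F521169 (iv4 D219167) (iv3 F497285)
theorem F527959 : act 5 n224982 = n216921 := d6_2 (iv5 F486526) D224982 (iv3 F486546)
theorem F527960 : act 7 n224982 = n223773 := d8_2 F518752 D224982 F521192
theorem F527961 : act 0 n224982 = n218650 := d19_4 D202800 (iv5 F497282) F497281 D224982 (iv5 D218650) (iv4 D189762) (iv3 F145624) F142928 (iv5 D43858) (iv4 D20772) D20771 F66236 F30622 (iv4 F34009) (iv3 F71404) D96949 D190811 (iv4 F425620) F425619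
theorem F527962 : act 6 n214720 = n224982 := d21_3 F381809 (iv1 F254006) D214720 F527961 (iv6 F497327) (iv5 F512351) (iv1 F512353) (iv5 F527666) F527667 (iv1 F476263)
theorem F527963 : act 1 n224982 = n211855 := d15_1 (iv0 F527961) (iv7 F486587) (iv2 F494966)
def n224983 : Q := act 6 n211844
theorem D224983 : act 6 n211844 = n224983 := rfl
theorem F527964 : act 2 n224983 = n222702 := d3_1 D224983 (iv6 F518747) F518750
theorem F527965 : act 3 n224983 = n214720 := d7_1 D224983 F527962 (iv3 D224982)
theorem F527966 : act 4 n224983 = n222590 := d10_1 D224983 F515060 F497281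
theorem F527967 : act 5 n224983 = n214719 := d12_1 D224983 F496358 (iv5 D218952) F486524 (iv5 F486526)
theorem F527968 : act 7 n224983 = n222703 := d14_2 F518752 D224983 (iv6 F515656) (iv7 F506054) F518755
theorem F527969 : act 0 n224983 = n222223 := d21_4 (iv5 F463190) D216915 (iv5 F486526) D224983 (iv6 F526543) (iv5 D224727) F457592 (iv5 F505167) (iv6 F518732) F518735
theorem F527970 : act 0 n222700 = n224983 := d21_4 F463094 (iv1 F382254) (iv5 F492267) (iv6 F515643) (iv6 D224983) F486526 (iv1 F495316) (iv5 F496122) (iv6 D218904) F463096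
def n224984 : Q := act 7 n211872
theorem D224984 : act 7 n211872 = n224984 := rfl
theorem F527971 : act 2 n224984 = n215718 := d4_1 D224984 (iv7 D215718) (iv2 F463345)
theorem F527972 : act 3 n224984 = n211874 := d8_1 D224984 (iv7 D211874) (iv3 F463346)
theorem F527973 : act 4 n224984 = n218647 := d11_1 D224984 F494955 F486615
theorem F527974 : act 5 n224984 = n218114 := d13_1 D224984 F492201 (iv5 F492134)
theorem F527975 : act 6 n224984 = n215719 := d14_1 D224984 (iv7 D215719) (iv6 D176946) (iv7 F364454) D211872
theorem F527976 : act 1 n215716 = n224984 := d15_1 D215716 (iv7 D224984) F463345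
theorem F527977 : act 1 n224984 = n215712 := d15_1 F527976 (iv7 F515228) F515224
def n224985 : Q := act 4 n211909
theorem D224985 : act 4 n211909 = n224985 := rfl
theorem F527978 : act 2 n224985 = n223447 := d1_1 D224985 F519503 (iv2 F463532)
theorem F527979 : act 3 n224985 = n224354 := d5_1 D224985 F524489 F517378 F511922 (iv3 F463533)
theorem F527980 : act 6 n224985 = n219695 := d10_2 (iv6 F501341) D224985 (iv4 F501340)
theorem F527981 : act 7 n224985 = n224610 := d11_2 (iv7 F463534) D224985 F525916
theorem F527982 : act 5 n224985 = n220991 := d16_1 D224985 F506679 F466851 F397513 F393524 (iv4 F395974) D220989 F506671 (iv2 F463532)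
theorem F527983 : act 0 n224985 = n221007 := d17_0 (iv5 D221007) (iv1 F492745) F492743 F484363 F386216 F360546 D210394 (iv0 F463535) D224985
theorem F527984 : act 1 n224985 = n221006 := d18_6 (iv1 D202579) F180762 (iv1 F341082) D144394 D211909 D224985 F506766 (iv0 F506677) F506675
def n224986 : Q := act 4 n211918
theorem D224986 : act 4 n211918 = n224986 := rfl
theorem F527985 : act 2 n224986 = n211945 := d1_1 D224986 (iv4 D211945) F463579
theorem F527986 : act 3 n224986 = n212778 := d5_1 D224986 (iv4 D212778) (iv3 F438109) (iv4 F519576) (iv3 F519581)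
theorem F527987 : act 5 n224986 = n219603 := d9_2 (iv5 F463577) D224986 F499639 (iv5 D207866) (iv4 F212719) D136327 (iv4 F397210) (iv5 F448559) (iv4 F513343) F513344 F499632 (iv5 D207865) F212712 D134478 D208518
theorem F527988 : act 6 n224986 = n219539 := d10_2 (iv6 F463578) D224986 F499333
theorem F527989 : act 7 n224986 = n211946 := d11_2 (iv7 F463581) D224986 (iv4 D211946)
theorem F527990 : act 0 n224986 = n224515 := d17_0 (iv5 D224515) F453317 F446571 (iv4 F463574) (iv5 D211917) F227197 (iv5 F227242) F463580 D224986
theorem F527991 : act 1 n224986 = n219639 := d18_6 F396982 F396981 F217256 D208518 (iv5 F463577) D224986 F499800 (iv0 F447000) (iv5 D207921)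
def n224987 : Q := act 6 n211919
theorem D224987 : act 6 n211919 = n224987 := rfl
theorem F527992 : act 2 n224987 = n224752 := d3_1 D224987 (iv6 D224752) (iv2 F463582)
theorem F527993 : act 3 n224987 = n211920 := d7_1 D224987 (iv6 D211920) D211919
theorem F527994 : act 5 n224987 = n224823 := d12_1 D224987 (iv6 D224823) (iv5 D210809) (iv6 F446689) (iv5 F463583)
theorem F527995 : act 7 n224987 = n224818 := d14_2 (iv7 F463584) D224987 F527041 F517096 (iv6 D222980)
theorem F527996 : act 0 n222030 = n224987 := d21_4 (iv5 F507030) F507033 (iv5 F510566) (iv6 F511987) (iv6 D224987) F463583 (iv1 D207845) F353531 D208248 (iv1 F499341)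
theorem F527997 : act 1 n222027 = n224987 := d15_0 (iv0 F527996) F511988 (iv2 F511977)
def n224988 : Q := act 1 n211924
theorem D224988 : act 1 n211924 = n224988 := rfl
theorem F527998 : act 1 n224988 = n212221 := d15_1 D224988 F464810 (iv2 F463604)
theorem F527999 : act 7 n224988 = n221123 := d15_2 (iv0 F503524) D224988 F507336
theorem F528000 : act 5 n224988 = n222246 := d17_7 F350815 (iv5 D145703) F170768 F342299 D163176 (iv5 F463605) D224988 F513139 F434582
theorem F528001 : act 4 n224988 = n221040 := d17_9 (iv1 D221040) (iv5 D195297) D195296 (iv5 F505978) (iv4 F518492) F518491 (iv0 D214851) (iv5 F463605) D224988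
theorem F528002 : act 3 n214852 = n224988 := d19_19 (iv1 D224988) F463605 (iv4 D163176) D163175 F390086 F390085 (iv4 F277078) D215750 F512028 F512024 F478391 F281169 D180642 F362313 (iv4 F351044) (iv3 D125982) D125981 (iv5 F409560) (iv4 F477149)
theorem F528003 : act 6 n221571 = n224988 := d21_3 (iv5 D209972) D209970 (iv5 F509648) (iv1 D224988) (iv6 F471627) F471626 (iv1 F527532) (iv5 D224907) (iv6 F461323) (iv1 F455585)
theorem F528004 : act 2 n224988 = n221125 := d3_1 F528003 F507342 D221571
def n224989 : Q := act 7 n211930
theorem D224989 : act 7 n211930 = n224989 := rfl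
theorem F528005 : act 2 n224989 = n221788 := d4_1 D224989 F510811 F507410
theorem F528006 : act 3 n224989 = n211939 := d8_1 D224989 (iv7 D211939) (iv3 F463627)
theorem F528007 : act 4 n224989 = n214350 := d11_1 D224989 F474710 (iv4 F463629)
theorem F528008 : act 5 n224989 = n211931 := d13_1 D224989 (iv7 D211931) D211930
theorem F528009 : act 6 n224989 = n221768 := d14_1 D224989 (iv7 F515250) F515247 F453235 (iv6 F463628)
theorem F528010 : act 1 n221115 = n224989 := d15_1 (iv0 F507414) (iv7 D224989) (iv2 F507410)
theorem F528011 : act 1 n224989 = n221735 := d15_1 F528010 F510581 (iv2 F507292)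
def n224990 : Q := act 6 n211958
theorem D224990 : act 6 n211958 = n224990 := rfl
theorem F528012 : act 2 n224990 = n223930 := d3_1 D224990 F522071 F509404
theorem F528013 : act 4 n224990 = n211959 := d10_1 D224990 (iv6 D211959) D211958
theorem F528014 : act 5 n224990 = n223914 := d12_1 D224990 (iv6 F521989) F515749 F507866 (iv5 F463746)
def n224991 : Q := act 7 n211959
theorem D224991 : act 7 n211959 = n224991 := rfl
theorem F528015 : act 3 n224991 = n224901 := d8_1 D224991 F527496 F497420
theorem F528016 : act 5 n224991 = n222736 := d13_1 D224991 F515819 F473895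
theorem F528017 : act 6 n224991 = n221870 := d14_1 D224991 (iv7 D221870) F404432 (iv7 F227333) D211959
theorem F528018 : act 1 n221874 = n224991 := d15_1 (iv0 F511176) (iv7 D224991) (iv2 F509409)
def n224992 : Q := act 6 n211970
theorem D224992 : act 6 n211970 = n224992 := rfl
theorem F528019 : act 3 n224992 = n224971 := d7_1 D224992 F527904 F515112
theorem F528020 : act 4 n224992 = n218841 := d10_1 D224992 (iv6 D218841) (iv4 F463782)
theorem F528021 : act 5 n224992 = n215948 := d12_1 D224992 (iv6 D215948) F278745 D179092 (iv5 F463781)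
theorem F528022 : act 7 n224992 = n218841 := d14_2 F497445 D224992 (iv6 D218841) F381381 F497449
theorem F528023 : act 0 n224992 = n218716 := d21_4 (iv5 D210456) (iv1 F366529) (iv5 F463781) D224992 (iv6 F495294) F476649 (iv1 D199919) D199920 (iv6 F497159) F497162
theorem F528024 : act 0 n218720 = n224992 := d21_4 (iv5 D218827) (iv1 D190144) D190146 (iv6 F495311) (iv6 D224992) F463781 F363706 D210455 F457610 (iv1 F495822)
def n224993 : Q := act 5 n211985
theorem D224993 : act 5 n211985 = n224993 := rfl
theorem F528025 : act 2 n224993 = n211986 := d2_1 D224993 (iv5 D211986) D211985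
theorem F528026 : act 3 n224993 = n223381 := d6_1 D224993 F519168 F507171
theorem F528027 : act 6 n224993 = n222983 := d12_2 F507245 D224993 (iv5 D222983) D222984 F517119
theorem F528028 : act 7 n224993 = n223418 := d13_2 F469911 D224993 F519345
theorem F528029 : act 0 n224993 = n213697 := d17_2 (iv1 F469922) D224993 (iv5 D213697) F242902 D154731 D213704 (iv5 F471711) (iv0 F466477) (iv4 F469918)
theorem F528030 : act 1 n224993 = n221797 := d17_6 F364385 (iv5 F375338) D218300 F493187 (iv4 F463832) D224993 (iv5 D221797) (iv0 D197349) (iv4 F167892)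
def n224994 : Q := act 4 n211986
theorem D224994 : act 4 n211986 = n224994 := rfl
theorem F528031 : act 3 n224994 = n223402 := d5_1 D224994 (iv4 F519325) F519324 (iv4 D211987) (iv3 F463833)
theorem F528032 : act 7 n224994 = n223397 := d11_2 F506904 D224994 F519267
theorem F528033 : act 0 n224994 = n221808 := d18_2 F467582 D224994 (iv4 F522392) F522393 F499821 F405260 F405257 (iv0 F404017) D212802
def n224995 : Q := act 6 n211987
theorem D224995 : act 6 n211987 = n224995 := rfl
theorem F528034 : act 2 n224995 = n223414 := d3_1 D224995 F519337 F507199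
theorem F528035 : act 4 n224995 = n211988 := d10_1 D224995 (iv6 D211988) D211987
theorem F528036 : act 7 n224995 = n223415 := d14_2 F506908 D224995 (iv6 F519339) F467604 (iv6 F506907)
theorem F528037 : act 0 n212815 = n224995 := d21_4 F228109 (iv1 F206648) (iv5 F236067) D212815 (iv6 D224995) F463834 (iv1 F404055) (iv5 F404054) F351852 (iv1 F228111)
theorem F528038 : act 1 n223417 = n224995 := d18_6 (iv1 F501127) F501126 (iv1 F405261) F405257 (iv5 F510857) (iv4 F519343) F528035 (iv0 F467580) F467579
def n224996 : Q := act 2 n211996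
theorem D224996 : act 2 n211996 = n224996 := rfl
theorem F528039 : act 3 n224996 = n224571 := d0_2 D211996 D224996 F525697 F510998 F404095
theorem F528040 : act 5 n224996 = n216020 := d2_2 (iv5 F463857) D224996 F482573
theorem F528041 : act 7 n224996 = n224568 := d4_2 (iv7 F463858) D224996 F525682
theorem F528042 : act 1 n224996 = n224569 := d15_0 (iv0 D224569) (iv7 F463858) D224996
theorem F528043 : act 1 n224570 = n224996 := d15_0 F528042 (iv7 F525691) F525696
def n224997 : Q := act 4 n211996
theorem D224997 : act 4 n211996 = n224997 := rfl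
theorem F528044 : act 7 n224997 = n216035 := d11_2 (iv7 F463858) D224997 F482617
theorem F528045 : act 5 n224997 = n216036 := d16_1 D224997 F482618 F280034 (iv4 F343152) (iv5 F400698) (iv4 F454514) D224568 (iv7 F528041) (iv2 D224996)
theorem F528046 : act 0 n224997 = n213361 := d18_2 F512423 D224997 (iv4 D213361) (iv5 D153579) F109142 F326607 (iv4 F169284) D198394 D222113
def n224998 : Q := act 6 n211996
theorem D224998 : act 6 n211996 = n224998 := rfl
theorem F528047 : act 3 n224998 = n211997 := d7_1 D224998 (iv6 D211997) D211996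
def n224999 : Q := act 0 n211997
theorem D224999 : act 0 n211997 = n224999 := rfl
theorem F528048 : act 4 n224999 = n223987 := d18_3 F525673 F525670 D224999 (iv5 D223987) F438390 F466484 F466480 (iv0 D211984) D211986
theorem F528049 : act 6 n224999 = n222510 := d21_5 (iv5 D144754) (iv1 F219996) (iv5 F227560) D211997 D224999 (iv5 D222510) (iv1 D199936) D199937 F414232 (iv1 F227608)
theorem F528050 : act 7 n223413 = n224999 := d14_0 F528049 F514633 F501142 F467577 D223413
theorem F528051 : act 3 n224999 = n223417 := d8_1 F528050 (iv7 D223417) (iv3 F519333)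
def n225000 : Q := act 1 n211997
theorem D225000 : act 1 n211997 = n225000 := rfl
theorem F528052 : act 6 n223412 = n225000 := d21_3 F469931 (iv1 F464131) (iv5 F519330) (iv1 D225000) (iv6 D211997) F227560 (iv1 F219995) D197363 (iv6 F427531) F469932
theorem F528053 : act 2 n225000 = n223413 := d3_1 F528052 (iv6 D223413) D223412
def n225001 : Q := act 7 n211997
theorem D225001 : act 7 n211997 = n225001 := rfl
theorem F528054 : act 4 n225001 = n221797 := d11_1 D225001 (iv7 F525674) F525670
theorem F528055 : act 6 n225001 = n224571 := d14_1 D225001 (iv7 D224571) (iv6 D209658) F227561 D211997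
theorem F528056 : act 1 n223413 = n225001 := d15_1 (iv0 F519335) (iv7 D225001) (iv2 F511000)
def n225002 : Q := act 6 n211998
theorem D225002 : act 6 n211998 = n225002 := rfl
theorem F528057 : act 2 n225002 = n223988 := d3_1 D225002 (iv6 D223988) F463861
theorem F528058 : act 3 n225002 = n224574 := d7_1 D225002 F525714 F498275
theorem F528059 : act 4 n225002 = n223994 := d10_1 D225002 (iv6 D223994) (iv4 F463860)
theorem F528060 : act 5 n225002 = n221049 := d12_1 D225002 (iv6 D221049) F438372 (iv6 F427363) (iv5 F463859)
theorem F528061 : act 0 n225002 = n223987 := d21_4 (iv5 D211989) (iv1 F427358) (iv5 F463859) D225002 F522388 (iv5 D219645) F384824 (iv5 F427532) (iv6 F506907) F506910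
def n225003 : Q := act 3 n212009
theorem D225003 : act 3 n212009 = n225003 := rfl
theorem F528062 : act 2 n225003 = n218108 := d0_1 D225003 (iv3 F492178) F451284 (iv3 F448302) (iv2 F463910)
theorem F528063 : act 6 n225003 = n221652 := d7_2 (iv6 F463911) D225003 (iv3 D221652)
theorem F528064 : act 7 n225003 = n218107 := d8_2 (iv7 F463912) D225003 F492174
theorem F528065 : act 0 n225003 = n218106 := d20_4 F522749 (iv1 F463895) D212009 D225003 F492172 (iv4 F382741) (iv1 F382744) D218985 F496537 F522753
theorem F528066 : act 0 n218110 = n225003 := d20_4 F480949 (iv1 F373757) (iv4 F373795) (iv3 F492183) (iv3 D225003) (iv4 D212009) (iv1 F364719) D209123 F452364 D215648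
def n225004 : Q := act 0 n212031
theorem D225004 : act 0 n212031 = n225004 := rfl
theorem F528067 : act 5 n225004 = n220237 := d17_1 D225004 F502794 (iv5 D201543) (iv4 D114801) (iv5 D52972) D52971 D114797 (iv0 F349972) D212031
theorem F528068 : act 4 n225004 = n214184 := d18_1 D225004 (iv1 F473892) (iv4 F525135) (iv5 F527074) F527075 (iv0 F526997) F526996 (iv0 F511029) F511028
theorem F528069 : act 3 n225004 = n214175 := d20_5 F501538 F493462 (iv4 F499524) (iv3 F499525) D225004 (iv4 D214175) (iv1 F361915) (iv4 F434335) (iv3 F521017) (iv1 F521020)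
theorem F528070 : act 6 n225004 = n219773 := d21_5 F197308 (iv1 F197284) (iv5 F357859) (iv6 F464036) D225004 F500557 (iv1 F449238) D208418 F449269 (iv1 F304630)
theorem F528071 : act 2 n223459 = n225004 := d15_3 (iv0 D225004) (iv0 F475610) (iv7 F519555)
theorem F528072 : act 1 n222858 = n225004 := d15_0 (iv0 D225004) (iv7 F468989) (iv2 F516454)
theorem F528073 : act 7 n225004 = n223458 := d15_2 (iv0 F516457) F528072 F519547
def n225005 : Q := act 6 n212049
theorem D225005 : act 6 n212049 = n225005 := rfl
theorem F528074 : act 2 n225005 = n212050 := d3_1 D225005 (iv6 D212050) D212049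
theorem F528075 : act 3 n225005 = n222368 := d7_1 D225005 F513836 (iv3 F499820)
theorem F528076 : act 4 n225005 = n224534 := d10_1 D225005 (iv6 F525515) F518948
theorem F528077 : act 7 n225005 = n222365 := d14_2 F467573 D225005 (iv6 D222365) F411891 (iv6 F467572)
theorem F528078 : act 0 n225005 = n224479 := d21_4 F519161 (iv1 F519332) F519330 D225005 (iv6 F527350) F527349 F512184 (iv5 F460367) F460368 D223380
theorem F528079 : act 0 n219744 = n225005 := d18_2 F390419 (iv4 F500389) F528076 F525510 F516565 F516634 F516631 (iv0 F493387) (iv5 D209167)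
def n225006 : Q := act 0 n212050
theorem D225006 : act 0 n212050 = n225006 := rfl
theorem F528080 : act 4 n225006 = n219746 := d18_3 F510759 (iv4 F464134) D225006 F500398 (iv4 F522515) (iv0 D224010) F439265 D223364 (iv5 F519071)
theorem F528081 : act 2 n224479 = n225006 := d15_3 (iv0 D225006) (iv0 F464136) (iv7 F525206)
theorem F528082 : act 1 n222365 = n225006 := d15_0 (iv0 D225006) F464135 (iv2 F513821)
theorem F528083 : act 7 n225006 = n219744 := d15_2 (iv0 F513824) F528082 F500388
theorem F528084 : act 6 n220578 = n225006 := d14_5 F528083 (iv6 D219744) F385893 D193930 D220578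
def n225007 : Q := act 5 n212050
theorem D225007 : act 5 n212050 = n225007 := rfl
theorem F528085 : act 3 n225007 = n212051 := d6_1 D225007 (iv5 D212051) (iv3 F464133)
theorem F528086 : act 7 n225007 = n224729 := d13_2 (iv7 F464135) D225007 (iv5 D224729)
theorem F528087 : act 1 n225007 = n224342 := d17_6 F454871 F454870 F450879 (iv5 F457687) (iv4 F464134) D225007 F524433 (iv0 F512401) F507493
def n225008 : Q := act 7 n212053
theorem D225008 : act 7 n212053 = n225008 := rfl
theorem F528088 : act 2 n225008 = n212054 := d4_1 D225008 F464153 (iv2 F464147)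
theorem F528089 : act 3 n225008 = n212056 := d8_1 D225008 (iv7 D212056) (iv3 F464148)
theorem F528090 : act 4 n225008 = n213816 := d11_1 D225008 (iv7 F519288) F519289
theorem F528091 : act 5 n225008 = n219686 := d13_1 D225008 F500048 (iv5 F464149)
theorem F528092 : act 6 n225008 = n216537 := d14_1 D225008 F484849 (iv6 D212002) F366317 D212053
theorem F528093 : act 1 n213369 = n225008 := d15_1 F470107 (iv7 D225008) F464147
theorem F528094 : act 1 n225008 = n213324 := d15_1 F528093 (iv7 F514627) F514624
def n225009 : Q := act 6 n212055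
theorem D225009 : act 6 n212055 = n225009 := rfl
theorem F528095 : act 2 n225009 = n223987 := d3_1 D225009 F522388 F499826
theorem F528096 : act 3 n225009 = n221171 := d7_1 D225009 F510980 F510975
theorem F528097 : act 5 n225009 = n220100 := d12_1 D225009 (iv6 F502123) (iv5 F484830) (iv6 D216530) (iv5 F464155)
theorem F528098 : act 0 n223988 = n225009 := d21_4 (iv5 D155890) (iv1 F366121) D205914 D223988 (iv6 D225009) F464155 (iv1 F386706) D219902 F501112 F404053
def n225010 : Q := act 3 n212077
theorem D225010 : act 3 n212077 = n225010 := rfl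
theorem F528099 : act 2 n225010 = n218846 := d0_1 D225010 F495886 (iv2 F381423) (iv3 F381828) F464247
theorem F528100 : act 4 n225010 = n219281 := d5_2 (iv4 F464246) D225010 (iv3 D219281) (iv4 D191036) (iv3 F381750)
theorem F528101 : act 5 n225010 = n224859 := d6_2 F501382 D225010 F527261
theorem F528102 : act 6 n225010 = n218845 := d7_2 F497479 D225010 (iv3 F497477)
theorem F528103 : act 7 n225010 = n219247 := d8_2 F464248 D225010 (iv3 D219247)
theorem F528104 : act 0 n225010 = n221984 := d19_4 (iv1 F149813) D190968 (iv4 F464246) D225010 (iv5 F521752) F521751 F481960 (iv1 F459789) F459790 (iv4 D190697) (iv3 D96395) (iv1 D45009) (iv5 D21488) F16223 (iv3 F16202) D21464 F290864 F61800 (iv3 F71605)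
theorem F528105 : act 0 n212192 = n225010 := d20_4 (iv4 D190291) (iv1 F379291) F379295 (iv3 F464703) (iv3 D225010) F464246 (iv1 F394356) (iv4 F480108) (iv3 F495801) F495804
def n225011 : Q := act 3 n212083
theorem D225011 : act 3 n212083 = n225011 := rfl
theorem F528106 : act 2 n225011 = n224899 := d0_1 D225011 F527484 (iv2 F527593) F527594 (iv2 F464386)
theorem F528107 : act 4 n225011 = n212084 := d5_2 D212083 D225011 F464270 (iv4 F464263) (iv3 D212082)
theorem F528108 : act 5 n225011 = n217705 := d6_2 (iv5 F464267) D225011 F490219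
theorem F528109 : act 7 n225011 = n224924 := d8_2 F464390 D225011 F527622
theorem F528110 : act 0 n225011 = n220299 := d19_4 (iv1 F400066) F400065 D212083 D225011 F503089 F443027 (iv3 F418725) F371491 F371488 (iv4 F240921) F240920 D153388 D213299 (iv4 F470183) F470182 (iv1 F460762) (iv5 D211239) (iv4 F401464) F401463
theorem F528111 : act 6 n212083 = n225011 := d21_9 F503089 F443029 D215038 F478015 D221196 F509041 (iv5 F521845) F521846 (iv5 F464267) F528110
theorem F528112 : act 1 n225011 = n220296 := d15_1 (iv0 F528110) (iv7 F507683) F507682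
def n225012 : Q := act 6 n212087
theorem D225012 : act 6 n212087 = n225012 := rfl
theorem F528113 : act 2 n225012 = n222908 := d3_1 D225012 F516706 F509417
theorem F528114 : act 4 n225012 = n212119 := d10_1 D225012 (iv6 D212119) (iv4 F464281)
theorem F528115 : act 5 n225012 = n214458 := d12_1 D225012 (iv6 D214458) (iv5 F421634) (iv6 F445460) F464282
def n225013 : Q := act 6 n212090
theorem D225013 : act 6 n212090 = n225013 := rfl
theorem F528116 : act 2 n225013 = n224240 := d3_1 D225013 (iv6 D224240) (iv2 F464288)
theorem F528117 : act 4 n225013 = n212091 := d10_1 D225013 (iv6 D212091) (iv4 F464289)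
theorem F528118 : act 7 n225013 = n224240 := d14_2 D212090 D225013 (iv6 D224240) F445445 F402261
def n225014 : Q := act 4 n212092
theorem D225014 : act 4 n212092 = n225014 := rfl
theorem F528119 : act 2 n225014 = n212099 := d1_1 D225014 (iv4 D212099) F464293
theorem F528120 : act 3 n225014 = n215610 := d5_1 D225014 (iv4 D215610) F434078 (iv4 F476865) F476868
theorem F528121 : act 5 n225014 = n219619 := d9_2 (iv5 F472136) D225014 F499705 (iv5 F509187) F509186 D223824 F521487 (iv5 D220782) F451480 (iv5 D208938) (iv4 F451477) (iv5 F509200) F509199 (iv5 F524746) F524747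
theorem F528122 : act 6 n225014 = n212488 := d10_2 F472143 D225014 (iv4 F472144)
theorem F528123 : act 7 n225014 = n212096 := d11_2 (iv7 F464292) D225014 (iv4 D212096)
theorem F528124 : act 0 n225014 = n221662 := d17_0 F510164 F504396 (iv5 D220568) D220567 (iv5 F525799) F525803 (iv5 D212093) D212092 D225014
theorem F528125 : act 1 n225014 = n224451 := d18_6 F514080 (iv4 F514081) D224401 F524747 (iv5 F472136) D225014 (iv4 F525793) (iv0 D224587) (iv5 F454772)
def n225015 : Q := act 0 n212096
theorem D225015 : act 0 n212096 = n225015 := rfl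
theorem F528126 : act 5 n225015 = n224556 := d17_1 D225015 (iv1 D224556) (iv5 D209558) (iv4 F435019) F464310 F464329 F464327 F464299 D212096
theorem F528127 : act 4 n225015 = n221664 := d18_1 D225015 (iv1 F525787) (iv4 D224586) (iv5 F494707) F494706 F464329 F384599 D191860 F464303
theorem F528128 : act 3 n225015 = n217294 := d20_5 (iv4 F438254) F438257 D222876 F516536 D225015 F488313 (iv1 F462908) F390150 (iv3 F390122) (iv1 F390124)
theorem F528129 : act 2 n224451 = n225015 := d15_3 (iv0 D225015) (iv0 F513600) (iv7 F525796)
theorem F528130 : act 1 n212099 = n225015 := d15_0 (iv0 D225015) (iv7 F528123) F528119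
theorem F528131 : act 7 n225015 = n221662 := d15_2 F513601 F528130 (iv2 F513597)
theorem F528132 : act 6 n217293 = n225015 := d14_5 F528131 (iv6 D221662) (iv7 F410838) (iv6 F503799) F503800
def n225016 : Q := act 3 n212101
theorem D225016 : act 3 n212101 = n225016 := rfl
theorem F528133 : act 2 n225016 = n222466 := d0_1 D225016 F514357 F464744 (iv3 F525798) F525797
theorem F528134 : act 4 n225016 = n220675 := d5_2 F494676 D225016 F504931 F483970 D218596
theorem F528135 : act 5 n225016 = n223831 := d6_2 F464333 D225016 F521518
theorem F528136 : act 6 n225016 = n220674 := d7_2 F524972 D225016 (iv3 F524970)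
theorem F528137 : act 7 n225016 = n222382 := d8_2 (iv7 F464332) D225016 F513907
theorem F528138 : act 0 n225016 = n215436 := d19_4 F389172 (iv5 F494672) F494676 D225016 (iv5 D215436) F273405 (iv3 F273388) (iv1 F350640) D200156 (iv4 F486815) (iv3 D216974) (iv1 D186590) D186591 (iv4 F367350) (iv3 F391065) F458217 (iv5 D210613) (iv4 F452697) F452696
theorem F528139 : act 0 n222465 = n225016 := d20_4 (iv4 F410687) D221973 (iv4 F518631) F518630 (iv3 D225016) (iv4 F494676) F494675 (iv4 F520742) (iv3 F520743) (iv1 F510182)
def n225017 : Q := act 6 n212122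
theorem D225017 : act 6 n212122 = n225017 := rfl
theorem F528140 : act 2 n225017 = n224244 := d3_1 D225017 (iv6 D224244) (iv2 F464393)
theorem F528141 : act 3 n225017 = n224276 := d7_1 D225017 F524036 (iv3 F464394)
theorem F528142 : act 4 n225017 = n212123 := d10_1 D225017 (iv6 D212123) (iv4 F464395)
theorem F528143 : act 5 n225017 = n224269 := d12_1 D225017 (iv6 D224269) F446103 (iv6 F399288) (iv5 F464396)
theorem F528144 : act 7 n225017 = n224244 := d14_2 D212122 D225017 (iv6 D224244) F445532 F401085
def n225018 : Q := act 0 n212123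
theorem D225018 : act 0 n212123 = n225018 := rfl
theorem F528145 : act 6 n225018 = n222746 := d21_5 (iv5 D108200) (iv1 F164008) (iv5 F228386) D212123 D225018 F515858 (iv1 F418446) (iv5 F511174) (iv6 D221874) (iv1 D197463)
theorem F528146 : act 1 n212123 = n225018 := d15_0 (iv0 D225018) (iv7 F509060) F509057
def n225019 : Q := act 7 n212139
theorem D225019 : act 7 n212139 = n225019 := rfl
theorem F528147 : act 2 n225019 = n212143 := d4_1 D225019 (iv7 D212143) (iv2 F464460)
theorem F528148 : act 3 n225019 = n223685 := d8_1 D225019 F520721 F509238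
theorem F528149 : act 4 n225019 = n224505 := d11_1 D225019 F525349 (iv4 F464461)
theorem F528150 : act 5 n225019 = n223684 := d13_1 D225019 F520715 F513393
theorem F528151 : act 6 n225019 = n220876 := d14_1 D225019 F510089 (iv6 D221648) F402284 D212139
theorem F528152 : act 1 n212141 = n225019 := d15_1 D212141 (iv7 D225019) F464460
theorem F528153 : act 1 n225019 = n212140 := d15_1 F528152 (iv7 F526406) F526402
def n225020 : Q := act 0 n212175
theorem D225020 : act 0 n212175 = n225020 := rfl
theorem F528154 : act 5 n225020 = n222356 := d17_3 (iv1 F510595) (iv5 F464621) D225020 F513778 F473332 (iv0 D213995) (iv5 F423485) (iv0 F423892) (iv4 F510592)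
theorem F528155 : act 4 n225020 = n220869 := d18_1 D225020 F505986 F459198 F425969 F403749 D209093 (iv4 F460886) F460888 (iv5 F464621)
theorem F528156 : act 3 n225020 = n221160 := d20_5 (iv4 F514999) F515002 (iv4 F509512) F509511 D225020 F507504 (iv1 F423881) D202407 (iv3 F477128) F510813
theorem F528157 : act 6 n225020 = n220868 := d21_5 (iv5 D210176) F386242 D219797 F500671 D225020 (iv5 F507117) F507115 D221743 F510620 F470647
theorem F528158 : act 1 n220332 = n225020 := d15_0 (iv0 D225020) (iv7 F507335) F507332
def n225021 : Q := act 5 n212191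
theorem D225021 : act 5 n212191 = n225021 := rfl
theorem F528159 : act 2 n225021 = n218924 := d2_1 D225021 F496216 F464700
theorem F528160 : act 3 n225021 = n220791 := d6_1 D225021 (iv5 D220791) (iv3 F464699)
theorem F528161 : act 6 n225021 = n222083 := d12_2 F464698 D225021 (iv5 D222083) F469606 F461514
theorem F528162 : act 7 n225021 = n218925 := d13_2 (iv7 F464696) D225021 (iv5 F496217)
theorem F528163 : act 0 n225021 = n218927 := d17_2 (iv1 F521754) D225021 F496228 F467853 (iv5 F460157) F460159 (iv5 F509391) F509392 (iv4 F521751)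
theorem F528164 : act 1 n225021 = n218926 := d17_6 F479013 (iv5 D204297) D204295 (iv5 F459627) F464697 D225021 (iv5 F527332) (iv0 F527335) F513699
def n225022 : Q := act 1 n212192
theorem D225022 : act 1 n212192 = n225022 := rfl
theorem F528165 : act 1 n225022 = n221984 := d15_1 D225022 F511762 F476977
theorem F528166 : act 7 n225022 = n218846 := d15_2 (iv0 F528105) D225022 (iv2 F528099)
theorem F528167 : act 5 n225022 = n222066 := d18_9 F512179 F480457 D219086 F497111 (iv5 F509395) F509396 (iv0 D215515) F464705 D225022
theorem F528168 : act 3 n218847 = n225022 := d19_19 (iv1 D225022) (iv5 D212192) (iv4 F424108) F424107 F324146 D138480 F341738 (iv3 D169886) (iv1 F297618) D121709 (iv4 F412922) (iv3 F463493) (iv1 F509109) F509106 F471777 F497506 (iv1 F497505) F393858 (iv4 F495894)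
theorem F528169 : act 6 n222067 = n225022 := d21_9 (iv5 D212192) F464236 (iv5 F497939) F497940 F433350 D214594 F475964 F412237 D222067 (iv1 D225022)
theorem F528170 : act 2 n225022 = n219247 := d3_1 F528169 (iv6 F513932) F513930
def n225023 : Q := act 5 n212197
theorem D225023 : act 5 n212197 = n225023 := rfl
theorem F528171 : act 2 n225023 = n216144 := d2_1 D225023 (iv5 F507614) F507609
theorem F528172 : act 4 n225023 = n216142 := d9_1 D225023 (iv5 D216142) F283258 (iv5 F239332) F363649 D212505 (iv4 F483310) (iv5 D216188) (iv4 D182155) (iv5 D86978) (iv4 F65116) D90249 D187486 (iv5 F479991) (iv4 F479996)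
theorem F528173 : act 6 n225023 = n212198 := d12_2 D212197 D225023 (iv5 D212198) (iv6 D145506) D145505
theorem F528174 : act 7 n225023 = n216178 := d13_2 F522359 D225023 (iv5 F522357)
theorem F528175 : act 1 n225023 = n216185 := d17_6 F434530 (iv5 F466135) (iv1 F466139) (iv5 F479991) (iv4 F479996) D225023 (iv5 F526326) (iv0 F526329) F485205
theorem F528176 : act 0 n225023 = n216186 := d18_0 (iv4 F483594) (iv1 F486857) (iv4 F527037) F527038 F458864 F492299 (iv4 F517274) (iv0 F517277) D225023
def n225024 : Q := act 1 n212218
theorem D225024 : act 1 n212218 = n225024 := rfl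
theorem F528177 : act 1 n225024 = n224891 := d15_1 D225024 F527444 F484843
theorem F528178 : act 7 n225024 = n220334 := d15_2 (iv0 F519352) D225024 (iv2 F519348)
theorem F528179 : act 5 n225024 = n220335 := d17_7 (iv1 F504436) F504433 (iv1 F499839) (iv5 F499842) F408863 D212218 D225024 (iv0 F504448) (iv4 D220579)
theorem F528180 : act 4 n225024 = n220355 := d17_9 (iv1 D220355) (iv5 D193439) D193436 F430768 (iv4 F511058) F511059 (iv0 D212215) D212218 D225024
theorem F528181 : act 3 n219458 = n225024 := d19_19 (iv1 D225024) (iv5 D212218) (iv4 F408863) (iv3 D198685) (iv1 D109758) D109760 F338273 (iv3 F172293) D199236 F434852 F434850 F273651 F334675 F316544 (iv4 F213752) F213751 D133590 D208174 (iv4 F498970)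
theorem F528182 : act 2 n225024 = n213821 := d0_1 F528181 (iv3 D213821) F427546 (iv3 F500154) F500153
theorem F528183 : act 6 n225024 = n222027 := d7_2 F525891 F528181 (iv3 F525890)
def n225025 : Q := act 5 n212271
theorem D225025 : act 5 n212271 = n225025 := rfl
theorem F528184 : act 2 n225025 = n224610 := d2_1 D225025 (iv5 D224610) (iv2 F465069)
theorem F528185 : act 3 n225025 = n216621 := d6_1 D225025 F485208 (iv3 F465070)
theorem F528186 : act 4 n225025 = n220989 := d9_1 D225025 (iv5 D220989) F395974 (iv5 F393524) (iv4 F397513) (iv5 F466851) (iv4 F506679) (iv5 F527982) (iv4 D224985) (iv5 D211909) (iv4 D144394) D144395 F320865 (iv5 F229694) (iv4 F465071)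
theorem F528187 : act 6 n225025 = n220990 := d12_2 D212271 D225025 F506675 (iv6 F434419) F434418
theorem F528188 : act 7 n225025 = n223447 := d13_2 (iv7 F465072) D225025 F519504
theorem F528189 : act 0 n225025 = n221006 := d17_2 F465073 D225025 (iv5 D221006) (iv4 D195226) (iv5 D105442) (iv0 D48756) (iv5 F76635) D105335 D195155
theorem F528190 : act 1 n225025 = n221007 := d17_6 D212595 F466605 (iv1 D151386) (iv5 F229694) (iv4 F465071) D225025 (iv5 D221007) (iv0 F466609) (iv4 D212596)
def n225026 : Q := act 4 n212275
theorem D225026 : act 4 n212275 = n225026 := rfl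
theorem F528191 : act 2 n225026 = n221712 := d1_1 D225026 F510447 F465094
theorem F528192 : act 3 n225026 = n212339 := d5_1 D225026 F465390 F412937 F412464 (iv3 F465093)
theorem F528193 : act 5 n225026 = n212421 := d9_2 (iv5 F465092) D225026 (iv4 F475831) (iv5 F490430) (iv4 F490432) (iv5 D203334) F347732 D212038 (iv4 F516596) (iv5 D222887) F421186 (iv5 F420495) (iv4 F427935) (iv5 D203336) (iv4 F347725)
theorem F528194 : act 6 n225026 = n219970 := d10_2 F490081 D225026 F501435
theorem F528195 : act 7 n225026 = n217747 := d11_2 (iv7 F465095) D225026 F490441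
theorem F528196 : act 0 n225026 = n222816 := d17_0 (iv5 D222816) F419899 (iv5 F427947) F428428 F428429 F424853 (iv5 F491676) F491679 D225026
theorem F528197 : act 1 n225026 = n223337 := d18_6 (iv1 F186710) (iv4 F427808) (iv1 F427811) (iv4 F347725) (iv5 F465092) D225026 F518929 (iv0 D203342) (iv5 D118753)
def n225027 : Q := act 4 n212308
theorem D225027 : act 4 n212308 = n225027 := rfl
theorem F528198 : act 2 n225027 = n224367 := d1_1 D225027 F524554 F490941
theorem F528199 : act 5 n225027 = n224305 := d9_2 F489679 D225027 (iv4 D224305) (iv5 D207947) (iv4 F216313) (iv5 F358468) (iv4 F432837) D223708 F520841 F499902 F487109 (iv5 F449205) (iv4 F511842) F511843 (iv4 F489678)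
theorem F528200 : act 6 n225027 = n223832 := d10_2 (iv6 F490940) D225027 F521524
theorem F528201 : act 7 n225027 = n224561 := d11_2 F520460 D225027 F525640
theorem F528202 : act 0 n225027 = n216355 := d17_0 (iv5 F499106) F499110 F383903 F239740 (iv5 F187588) D203475 (iv5 F452195) (iv0 F486717) D225027
theorem F528203 : act 1 n225027 = n224557 := d18_6 F516435 F516431 (iv1 F444404) (iv4 F489678) F489679 D225027 F525616 F523698 (iv5 F484013)
theorem F528204 : act 3 n225027 = n224476 := d19_3 (iv1 F520837) F489679 D225027 F525190 (iv5 F484135) F484134 (iv3 F446224) F216291 (iv5 D129173) (iv4 D60726) D60725 F168457 (iv5 F98659) F98658 (iv3 F168595) D197784 F461282 (iv4 F493171) (iv3 F520833)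
def n225028 : Q := act 3 n212309
theorem D225028 : act 3 n212309 = n225028 := rfl
theorem F528205 : act 2 n225028 = n216364 := d0_1 D225028 (iv3 F508318) F508317 (iv3 F491737) F491736
theorem F528206 : act 4 n225028 = n224476 := d5_2 D212309 D225028 (iv3 F528204) (iv4 D225027) (iv3 D212308)
theorem F528207 : act 5 n225028 = n217591 := d6_2 (iv5 F465251) D225028 (iv3 D217591)
theorem F528208 : act 6 n225028 = n212870 := d7_2 F468246 D225028 (iv3 F468247)
theorem F528209 : act 7 n225028 = n216363 := d8_2 F491746 D225028 (iv3 F491743)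
theorem F528210 : act 0 n225028 = n216365 := d19_4 D187618 F371023 D212309 D225028 F484022 (iv4 F456765) F456763 (iv1 F449442) F449438 F217125 (iv3 D134153) (iv1 F325974) (iv5 D99853) F73671 F62381 F293484 (iv5 F66912) (iv4 F140237) F140236
theorem F528211 : act 0 n212873 = n225028 := d20_4 (iv4 D86946) D86944 D182036 (iv3 F467895) (iv3 D225028) (iv4 D212309) (iv1 F356768) F229868 (iv3 F356651) F295235
def n225029 : Q := act 5 n212327
theorem D225029 : act 5 n212327 = n225029 := rfl
theorem F528212 : act 2 n225029 = n216797 := d2_1 D225029 F485952 (iv2 F465332)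
theorem F528213 : act 3 n225029 = n217513 := d6_1 D225029 F489261 (iv3 F465333)
theorem F528214 : act 4 n225029 = n223009 := d9_1 D225029 (iv5 D223009) (iv4 F422710) (iv5 F350663) (iv4 F427083) (iv5 D203131) (iv4 F427075) D223369 F519099 (iv5 D215915) (iv4 D178481) (iv5 D84936) (iv4 F115116) (iv5 F310777) (iv4 F465334)
theorem F528215 : act 6 n225029 = n216465 := d12_2 D212327 D225029 (iv5 F485948) F485949 (iv5 D212326)
theorem F528216 : act 7 n225029 = n220643 := d13_2 (iv7 F465335) D225029 F504768
theorem F528217 : act 0 n225029 = n212433 := d17_2 F465336 D225029 (iv5 D212433) F230291 (iv5 F341979) F343385 D177028 (iv0 F344909) (iv4 F426918)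
theorem F528218 : act 1 n225029 = n212434 := d17_6 (iv1 F183476) (iv5 F215129) F310776 (iv5 F310777) (iv4 F465334) D225029 (iv5 D212434) F426162 F426160
def n225030 : Q := act 3 n212333
theorem D225030 : act 3 n212333 = n225030 := rfl
theorem F528219 : act 2 n225030 = n221238 := d0_1 D225030 F507894 (iv2 F523237) F523238 F465371
theorem F528220 : act 4 n225030 = n221231 := d5_2 F465372 D225030 (iv3 F515543) F515544 F475371
theorem F528221 : act 5 n225030 = n222787 := d6_2 F465369 D225030 F516078
theorem F528222 : act 6 n225030 = n216393 := d7_2 (iv6 F465370) D225030 (iv3 F484152)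
theorem F528223 : act 7 n225030 = n221239 := d8_2 F515798 D225030 F515799
theorem F528224 : act 0 n225030 = n222940 := d19_4 D132668 D207939 F465372 D225030 (iv5 D222940) F421868 (iv3 F444514) (iv1 F459614) F459610 F364113 F337562 (iv1 F342170) F342167 (iv4 F204413) D136063 (iv1 F218963) D143082 F347242 F212983
theorem F528225 : act 1 n225030 = n222941 := d15_1 (iv0 F528224) F516892 (iv2 F516884)
def n225031 : Q := act 5 n212371
theorem D225031 : act 5 n212371 = n225031 := rfl
theorem F528226 : act 2 n225031 = n222758 := d2_1 D225031 F515923 (iv2 F465544)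
theorem F528227 : act 3 n225031 = n212372 := d6_1 D225031 (iv5 D212372) D212371
theorem F528228 : act 4 n225031 = n220980 := d9_1 D225031 (iv5 D220980) (iv4 F417743) (iv5 F507896) F507897 F441337 (iv4 F507884) F507883 F442629 F421915 (iv4 F436295) F436296 F436060 (iv5 F484252) F484251
theorem F528229 : act 6 n225031 = n222901 := d12_2 F465547 D225031 F516664 (iv6 F475459) F475458
theorem F528230 : act 7 n225031 = n222788 := d13_2 (iv7 F465545) D225031 F516084
theorem F528231 : act 0 n225031 = n214397 := d17_2 F465546 D225031 F474970 (iv4 F515464) F515463 F507908 (iv5 F435872) (iv0 D195712) (iv4 F397919)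
theorem F528232 : act 1 n225031 = n220998 := d17_6 (iv1 F436358) (iv5 F506547) F506548 (iv5 F484252) F484251 D225031 F506724 (iv0 D206924) (iv4 F211325)
def n225032 : Q := act 6 n212415
theorem D225032 : act 6 n212415 = n225032 := rfl
theorem F528233 : act 2 n225032 = n219504 := d3_1 D225032 (iv6 F520441) F520436
theorem F528234 : act 3 n225032 = n212417 := d7_1 D225032 (iv6 D212417) D212415
theorem F528235 : act 5 n225032 = n224470 := d12_1 D225032 (iv6 F525156) (iv5 F502427) F502426 (iv5 F465706)
theorem F528236 : act 7 n225032 = n219503 := d14_2 F490005 D225032 (iv6 F523284) F523285 F490009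
theorem F528237 : act 0 n225032 = n219496 := d21_4 (iv5 D206889) D206887 (iv5 F465706) D225032 (iv6 D219496) F383955 (iv1 F446041) (iv5 F487196) (iv6 F500142) F500144
theorem F528238 : act 1 n225032 = n219506 := d15_1 (iv0 F528237) (iv7 D219506) (iv2 F499172)
def n225033 : Q := act 6 n212416
theorem D225033 : act 6 n212416 = n225033 := rfl
theorem F528239 : act 2 n225033 = n222062 := d3_1 D225033 F512157 F489863
theorem F528240 : act 3 n225033 = n220161 := d7_1 D225033 F502426 (iv3 F465707)
theorem F528241 : act 4 n225033 = n216087 := d10_1 D225033 F482871 (iv4 F465708)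
theorem F528242 : act 5 n225033 = n224471 := d12_1 D225033 (iv6 D224471) (iv5 F465711) (iv6 D212417) D212416
theorem F528243 : act 0 n225033 = n220165 := d21_4 (iv5 D206708) (iv1 F371175) D212416 D225033 (iv6 D220165) (iv5 D193036) (iv1 D101114) D101116 D193046 F441931
theorem F528244 : act 0 n219606 = n225033 := d21_4 (iv5 F446893) (iv1 F499664) (iv5 F499662) F499655 (iv6 D225033) (iv5 D212416) (iv1 F442777) F442774 F251155 D159491
def n225034 : Q := act 1 n212431
theorem D225034 : act 1 n212431 = n225034 := rfl
theorem F528245 : act 1 n225034 = n218149 := d15_1 D225034 F492380 F489311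
theorem F528246 : act 5 n225034 = n219593 := d17_7 (iv1 F421854) (iv5 D201807) (iv1 F419303) (iv5 F465654) F465653 D212431 D225034 (iv0 D219593) F446389
theorem F528247 : act 4 n225034 = n224629 := d17_9 (iv1 F526001) (iv5 F503996) F503998 (iv5 F472907) F472906 F465771 (iv0 D212429) D212431 D225034
theorem F528248 : act 3 n216718 = n225034 := d19_19 (iv1 D225034) (iv5 D212431) (iv4 F465653) (iv3 F490844) (iv1 F493005) (iv5 D218259) (iv4 D188867) F143244 (iv1 F370749) F370747 F145424 F366973 F367650 (iv5 F387193) (iv4 F492422) (iv3 D218157) (iv1 F490852) F490850 (iv4 F485604)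
theorem F528249 : act 6 n216717 = n225034 := d21_3 (iv5 D192726) D192725 (iv5 F485602) (iv1 D225034) F465778 (iv5 D146907) D146905 D212433 (iv6 F491066) F491069
def n225035 : Q := act 7 n212431
theorem D225035 : act 7 n212431 = n225035 := rfl
theorem F528250 : act 2 n225035 = n218149 := d4_1 D225035 F492380 F489311
theorem F528251 : act 3 n225035 = n214019 := d8_1 D225035 (iv7 F527199) F527202
theorem F528252 : act 4 n225035 = n214027 := d11_1 D225035 (iv7 F527213) F527210
theorem F528253 : act 5 n225035 = n212432 := d13_1 D225035 (iv7 D212432) D212431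
theorem F528254 : act 6 n216703 = n225035 := d12_0 F528253 (iv6 F467063) F467062 F467066 (iv5 F485537)
def n225036 : Q := act 6 n212436
theorem D225036 : act 6 n212436 = n225036 := rfl
theorem F528255 : act 2 n225036 = n216704 := d3_1 D225036 (iv6 F488244) (iv2 F488248)
theorem F528256 : act 3 n225036 = n220402 := d7_1 D225036 (iv6 F503605) (iv3 F465791)
theorem F528257 : act 5 n225036 = n214371 := d12_1 D225036 (iv6 D214371) F250302 (iv6 F230293) (iv5 F465792)
theorem F528258 : act 7 n225036 = n216703 := d14_2 D212436 D225036 F528254 (iv7 D225035) F465778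
theorem F528259 : act 0 n225036 = n216702 := d21_4 F491132 (iv1 F426156) (iv5 F465792) D225036 (iv6 D216702) (iv5 F483545) (iv1 F485944) (iv5 D216796) D216797 F491134
theorem F528260 : act 0 n216705 = n225036 := d21_4 (iv5 D192359) D192357 F467306 (iv6 F485550) (iv6 D225036) F465792 F357748 D203573 F428950 F386559
def n225037 : Q := act 6 n212437
theorem D225037 : act 6 n212437 = n225037 := rfl
theorem F528261 : act 2 n225037 = n213760 := d3_1 D225037 F471967 (iv2 F465793)
theorem F528262 : act 3 n225037 = n220046 := d7_1 D225037 F501832 F471155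
theorem F528263 : act 4 n225037 = n213201 := d10_1 D225037 (iv6 F522372) F522371
theorem F528264 : act 5 n225037 = n213755 := d12_1 D225037 (iv6 D213755) (iv5 D155454) (iv6 F230295) D212437
theorem F528265 : act 7 n225037 = n223481 := d14_2 (iv7 F465794) D225037 F519680 (iv7 D204317) (iv6 F432007)
theorem F528266 : act 0 n225037 = n217663 := d21_4 (iv5 D146929) (iv1 F338164) D212437 D225037 F489994 F390930 F392569 (iv5 F473103) (iv6 F473109) (iv1 F386234)
theorem F528267 : act 1 n225037 = n217880 := d15_1 (iv0 F528266) F491058 (iv2 F489992)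
def n225038 : Q := act 5 n212439
theorem D225038 : act 5 n212439 = n225038 := rfl
theorem F528268 : act 2 n225038 = n223437 := d2_1 D225038 (iv5 D223437) F466730
theorem F528269 : act 0 n225038 = n223513 := d17_2 (iv1 F466739) D225038 (iv5 D223513) (iv4 F442565) F442566 (iv0 F421643) (iv5 F502276) (iv0 D220129) (iv4 F466737)
def n225039 : Q := act 1 n212440
theorem D225039 : act 1 n212440 = n225039 := rfl
theorem F528270 : act 5 n225039 = n222937 := d17_7 D206911 (iv5 F445856) F453392 (iv5 F465627) F465626 D212440 D225039 F516872 F442582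
theorem F528271 : act 3 n224835 = n225039 := d20_3 F524859 (iv1 F485599) (iv4 F527117) (iv1 D225039) F465801 F432732 D213970 F502615 F503924 F524860
theorem F528272 : act 2 n225039 = n222939 := d0_1 F528271 F516880 F428013 D214445 (iv2 F527115)
def n225040 : Q := act 5 n212449
theorem D225040 : act 5 n212449 = n225040 := rfl
theorem F528273 : act 2 n225040 = n216662 := d2_1 D225040 F485364 (iv2 F465833)
theorem F528274 : act 6 n225040 = n222369 := d12_2 D212449 D225040 (iv5 D222369) F425012 F425008
theorem F528275 : act 7 n225040 = n224148 := d13_2 (iv7 F465835) D225040 (iv5 D224148)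
theorem F528276 : act 0 n225040 = n225038 := d17_2 F465836 D225040 (iv5 D225038) (iv4 F502402) F502403 (iv0 F396487) (iv5 F421855) (iv0 D201808) D201810
theorem F528277 : act 1 n225040 = n216427 := d17_6 (iv1 F485923) F485922 (iv1 D207864) (iv5 F442595) (iv4 F465834) D225040 F484328 (iv0 D212438) (iv4 F465626)
theorem F528278 : act 4 n225040 = n216781 := d18_5 D219593 (iv4 F523301) (iv1 F523305) (iv4 F465834) D225040 (iv0 D216781) F287752 D185489 (iv5 F384547)
def n225041 : Q := act 5 n212466
theorem D225041 : act 5 n212466 = n225041 := rfl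
theorem F528279 : act 2 n225041 = n222289 := d2_1 D225041 F513376 (iv2 F465928)
theorem F528280 : act 3 n225041 = n222171 := d6_1 D225041 (iv5 D222171) (iv3 F465929)
theorem F528281 : act 4 n225041 = n213015 := d9_1 D225041 F468600 (iv4 D152516) (iv5 F346145) (iv4 F425327) F425329 (iv4 F468927) (iv5 F468932) (iv4 F468986) (iv5 D213094) (iv4 D152521) F346140 F183788 D147161 D212466
theorem F528282 : act 6 n225041 = n213014 := d12_2 F476835 D225041 F468595 (iv6 F483874) F483873
theorem F528283 : act 7 n225041 = n222402 := d13_2 F466164 D225041 F514014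
theorem F528284 : act 0 n225041 = n222379 := d17_2 (iv1 F465931) D225041 (iv5 D222379) F412123 (iv5 F342074) (iv0 F468926) (iv5 D213083) F351729 D199575
theorem F528285 : act 1 n225041 = n222397 := d17_6 F339250 (iv5 F318594) F339247 D147161 D212466 D225041 (iv5 D222397) (iv0 D199464) F349854
def n225042 : Q := act 0 n212551
theorem D225042 : act 0 n212551 = n225042 := rfl
theorem F528286 : act 5 n225042 = n218611 := d17_1 D225042 (iv1 F494753) (iv5 F379206) (iv4 F381671) (iv5 F383026) (iv0 D191318) D191320 (iv0 F447797) (iv4 F466386)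
theorem F528287 : act 4 n225042 = n217470 := d18_1 D225042 F489028 (iv4 F494771) (iv5 D218614) (iv4 F415764) (iv0 D200269) (iv4 F395303) F395306 (iv5 F466387)
theorem F528288 : act 3 n225042 = n219615 := d20_5 F463765 F379138 (iv4 F408162) (iv3 F466385) D225042 (iv4 D219615) D219613 (iv4 F499684) (iv3 F512361) F512364
theorem F528289 : act 6 n225042 = n217469 := d21_5 (iv5 F318859) F162456 D147800 D212551 D225042 F489023 (iv1 F381939) F379322 F369843 (iv1 F149922)
theorem F528290 : act 2 n217479 = n225042 := d15_3 (iv0 D225042) (iv0 F488688) (iv7 F489071)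
theorem F528291 : act 1 n216823 = n225042 := d15_0 (iv0 D225042) F466388 (iv2 F486068)
theorem F528292 : act 7 n225042 = n217470 := d15_2 (iv0 F488689) F528291 F489026
def n225043 : Q := act 5 n212558
theorem D225043 : act 5 n212558 = n225043 := rfl
theorem F528293 : act 2 n225043 = n218996 := d2_1 D225043 (iv5 F503392) F503389
theorem F528294 : act 3 n225043 = n216010 := d6_1 D225043 (iv5 F500353) F500351
theorem F528295 : act 4 n225043 = n222804 := d9_1 D225043 (iv5 F516542) F516543 F475351 F275311 F366898 (iv4 F394271) F394272 (iv4 F491482) F491483 F470702 F419410 F231611 D147846 D212558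
theorem F528296 : act 6 n225043 = n219570 := d12_2 (iv6 F466412) D225043 F499500 (iv6 F498992) F498991
theorem F528297 : act 7 n225043 = n215089 := d13_2 (iv7 F466413) D225043 (iv5 D215089)
theorem F528298 : act 0 n225043 = n218995 := d17_2 (iv1 F466414) D225043 (iv5 F516537) (iv4 D222876) (iv5 F420983) F272177 D175685 (iv0 F354525) (iv4 F440490)
theorem F528299 : act 1 n225043 = n218994 := d17_6 F419531 (iv5 F332128) (iv1 D147844) D147846 D212558 D225043 (iv5 F512795) (iv0 F516206) (iv4 D222811)
def n225044 : Q := act 5 n212566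
theorem D225044 : act 5 n212566 = n225044 := rfl
theorem F528300 : act 2 n225044 = n221880 := d2_1 D225044 (iv5 D221880) (iv2 F466453)
theorem F528301 : act 3 n225044 = n219823 := d6_1 D225044 F507402 F507400
theorem F528302 : act 4 n225044 = n220237 := d9_1 D225044 (iv5 F528067) F528068 F473888 F393627 (iv5 F340737) D213354 (iv5 F514966) (iv4 F516482) F516481 (iv4 F516169) (iv5 D222803) F419439 (iv5 F357845) D212566
theorem F528303 : act 7 n225044 = n221881 := d13_2 (iv7 F466455) D225044 (iv5 D221881)
theorem F528304 : act 0 n225044 = n224816 := d17_2 (iv1 F466457) D225044 (iv5 D224816) (iv4 D210801) F318731 (iv0 F205368) F319598 (iv0 F317345) (iv4 F404533)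
theorem F528305 : act 1 n225044 = n224815 := d17_6 (iv1 F334441) (iv5 D114755) D114753 (iv5 F357845) D212566 D225044 (iv5 D224815) F458847 F228557
def n225045 : Q := act 0 n212567
theorem D225045 : act 0 n212567 = n225045 := rfl
theorem F528306 : act 5 n225045 = n215055 := d17_1 D225045 F478109 D215891 (iv4 F510662) (iv5 F510665) (iv0 F499580) F499579 (iv0 F507403) F507401
theorem F528307 : act 4 n225045 = n224730 := d18_1 D225045 (iv1 F526562) F510943 (iv5 F404853) F198628 D125274 D205041 (iv0 F474258) (iv5 F474260)
theorem F528308 : act 3 n225045 = n214134 := d20_5 F434230 (iv1 F200402) D147902 D212567 D225045 (iv4 F473641) (iv1 F457593) (iv4 F466459) (iv3 D212568) (iv1 F434234)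
theorem F528309 : act 2 n213701 = n225045 := d15_3 (iv0 D225045) (iv0 F511008) F511007
theorem F528310 : act 1 n215895 = n225045 := d15_0 (iv0 D225045) (iv7 F467793) (iv2 F481967)
theorem F528311 : act 7 n225045 = n224395 := d15_2 (iv0 F511009) F528310 F524710
theorem F528312 : act 6 n212577 = n225045 := d21_9 F498740 F498737 D223808 F521393 F507338 (iv6 D212572) (iv5 F241642) D213455 F471607 (iv1 F528310)
def n225046 : Q := act 6 n212580
theorem D225046 : act 6 n212580 = n225046 := rfl
theorem F528313 : act 2 n225046 = n219290 := d3_1 D225046 F498142 F492860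
theorem F528314 : act 3 n225046 = n212582 := d7_1 D225046 (iv6 D212582) (iv3 F466526)
theorem F528315 : act 4 n225046 = n212692 := d10_1 D225046 (iv6 F524722) F524721
theorem F528316 : act 5 n225046 = n219287 := d12_1 D225046 F498127 F466530 (iv6 D212581) D212580
theorem F528317 : act 0 n225046 = n222209 := d21_4 F470478 (iv1 D212578) D212580 D225046 (iv6 F512932) (iv5 F521466) (iv1 F521467) (iv5 D218597) F419937 (iv1 F470477)
theorem F528318 : act 0 n222208 = n225046 := d21_4 (iv5 D222397) (iv1 F465937) (iv5 F499769) (iv6 F512923) (iv6 D225046) (iv5 D212580) D212577 (iv5 F471607) (iv6 F471614) (iv1 F513996)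
theorem F528319 : act 7 n225046 = n222392 := d15_2 (iv0 F512931) (iv0 F528317) F513968
def n225047 : Q := act 3 n212596
theorem D225047 : act 3 n212596 = n225047 := rfl
theorem F528320 : act 2 n225047 = n217648 := d0_1 D225047 F489930 F484354 (iv3 F519103) F519102
theorem F528321 : act 4 n225047 = n219503 := d5_2 D212596 D225047 F508133 (iv4 D213092) (iv3 F366499)
theorem F528322 : act 5 n225047 = n219453 := d6_2 (iv5 F466608) D225047 F498946
theorem F528323 : act 6 n225047 = n217644 := d7_2 F468971 D225047 F489918
theorem F528324 : act 0 n225047 = n222461 := d19_4 F339598 D147959 D212596 D225047 (iv5 F524946) (iv4 F527162) F527161 D224844 F527167 F472839 F246200 (iv1 F221773) (iv5 F312358) (iv4 D79752) D79751 F190086 (iv5 F313312) D127323 F204552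
def n225048 : Q := act 5 n212619
theorem D225048 : act 5 n212619 = n225048 := rfl
theorem F528325 : act 2 n225048 = n216427 := d2_1 D225048 F484328 F466728
theorem F528326 : act 6 n225048 = n216426 := d12_2 F486048 D225048 (iv5 D216426) (iv6 F357384) D216818
theorem F528327 : act 7 n225048 = n225038 := d13_2 F466729 D225048 (iv5 D225038)
theorem F528328 : act 0 n225048 = n216662 := d17_2 D212619 D225048 F485364 (iv4 D207900) (iv5 D132555) D132554 D207898 (iv0 F466725) F466724
theorem F528329 : act 1 n225048 = n224148 := d17_6 D159364 D214417 (iv1 F475093) (iv5 F499676) F499674 D225048 (iv5 D224148) (iv0 F442583) F250834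
def n225049 : Q := act 0 n212620
theorem D225049 : act 0 n212620 = n225049 := rfl
theorem F528330 : act 5 n225049 = n214389 := d17_1 D225049 (iv1 F474928) D223513 F519837 (iv5 F485907) D224540 F526005 F526003 F469578
theorem F528331 : act 4 n225049 = n224647 := d18_1 D225049 (iv1 F526091) (iv4 F528252) F528253 F465780 (iv0 F499675) F499674 (iv0 D212619) D212620
theorem F528332 : act 6 n225049 = n224646 := d21_5 (iv5 D204313) (iv1 F354937) (iv5 F386233) (iv6 F466734) D225049 F526085 F518950 D223443 F519485 (iv1 F432742)
theorem F528333 : act 2 n214390 = n225049 := d15_3 (iv0 D225049) (iv0 F516883) F516881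
theorem F528334 : act 7 n225049 = n225039 := d4_2 F516881 F528333 F528272
theorem F528335 : act 1 n221929 = n225049 := d15_1 F516882 F528334 F528272
def n225050 : Q := act 7 n212620
theorem D225050 : act 7 n212620 = n225050 := rfl
theorem F528336 : act 2 n225050 = n221929 := d4_1 D225050 F511448 (iv2 F466732)
theorem F528337 : act 3 n225050 = n219455 := d8_1 D225050 F498957 (iv3 F466733)
theorem F528338 : act 4 n225050 = n224628 := d11_1 D225050 F525999 F469578
theorem F528339 : act 5 n225050 = n212621 := d13_1 D225050 (iv7 D212621) D212620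
theorem F528340 : act 6 n225050 = n219454 := d14_1 D225050 (iv7 D219454) F383592 D192260 (iv6 F466734)
theorem F528341 : act 1 n225039 = n225050 := d15_1 D225039 (iv7 D225050) F466732
theorem F528342 : act 1 n225050 = n214390 := d15_1 F528341 (iv7 F516881) (iv2 F528272)
def n225051 : Q := act 3 n212623
theorem D225051 : act 3 n212623 = n225051 := rfl
theorem F528343 : act 2 n225051 = n224426 := d0_1 D225051 (iv3 D224426) (iv2 F458911) (iv3 F467550) F467549
theorem F528344 : act 4 n225051 = n223803 := d5_2 D212623 D225051 (iv3 F521365) (iv4 F468981) (iv3 F366342)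
theorem F528345 : act 5 n225051 = n223804 := d6_2 (iv5 F466744) D225051 F521368
theorem F528346 : act 6 n225051 = n218087 := d7_2 (iv6 F466745) D225051 (iv3 D218087)
theorem F528347 : act 7 n225051 = n216341 := d8_2 (iv7 F466746) D225051 F483927
theorem F528348 : act 0 n225051 = n224306 := d19_4 (iv1 F105797) D148234 D212623 D225051 F524216 (iv4 F491274) F491273 F372583 D211189 F460535 (iv3 F450512) F494713 F494711 F470963 F425515 (iv1 F253896) (iv5 F359835) (iv4 D114469) F319271
theorem F528349 : act 0 n222434 = n225051 := d20_4 F451341 F411960 D199597 D222434 (iv3 D225051) (iv4 D212623) F232065 (iv4 F373218) (iv3 F412809) F451344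
def n225052 : Q := act 3 n212673
theorem D225052 : act 3 n212673 = n225052 := rfl
theorem F528350 : act 2 n225052 = n222464 := d0_1 D225052 F514349 (iv2 F436546) D206731 (iv2 F466992)
theorem F528351 : act 4 n225052 = n222463 := d5_2 D212673 D225052 F514345 F499503 (iv3 F430419)
theorem F528352 : act 7 n225052 = n222462 := d8_2 F475408 D225052 F514339
theorem F528353 : act 0 n225052 = n223892 := d19_4 F441742 F441741 D212673 D225052 F521868 F449303 F449305 F449785 F449781 F384421 (iv3 F379084) F383090 F383089 F373598 F373600 (iv1 D96295) D96297 (iv4 F365384) (iv3 F399573)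
theorem F528354 : act 0 n222766 = n225052 := d20_4 F383900 (iv1 F218300) (iv4 F437290) (iv3 F515965) (iv3 D225052) (iv4 D212673) (iv1 F251521) (iv4 F437716) F437715 F399492
def n225053 : Q := act 0 n212679
theorem D225053 : act 0 n212679 = n225053 := rfl
theorem F528355 : act 4 n225053 = n220143 := d18_3 (iv1 D214469) (iv4 F467024) D225053 F502340 (iv4 D217553) (iv0 F370792) (iv4 F420080) (iv0 F420082) (iv5 F475318)
theorem F528356 : act 6 n225053 = n224481 := d21_5 (iv5 D117245) (iv1 F106112) D148791 D212679 D225053 F525216 (iv1 D222186) (iv5 F465375) (iv6 D212336) F230138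
theorem F528357 : act 2 n221270 = n225053 := d15_3 (iv0 D225053) (iv0 F491292) (iv7 F508074)
theorem F528358 : act 1 n221271 = n225053 := d15_0 (iv0 D225053) (iv7 F467025) D221271
theorem F528359 : act 7 n225053 = n221269 := d15_2 F508083 F528358 (iv2 F508072)
theorem F528360 : act 5 n219425 = n225053 := d16_7 F491291 (iv5 F490729) (iv4 D217807) F371981 (iv4 F387265) D220011 F501641 F528359 (iv2 F508072)
def n225054 : Q := act 5 n212679
theorem D225054 : act 5 n212679 = n225054 := rfl
theorem F528361 : act 2 n225054 = n216755 := d2_1 D225054 F485800 (iv2 F467022)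
theorem F528362 : act 3 n225054 = n213389 := d6_1 D225054 F470192 (iv3 F467023)
theorem F528363 : act 6 n225054 = n212680 := d12_2 D212679 D225054 (iv5 D212680) (iv6 D148792) D148791
theorem F528364 : act 7 n225054 = n221272 := d13_2 F467025 D225054 (iv5 D221272)
theorem F528365 : act 4 n225054 = n216326 := d16_2 (iv4 F467024) D225054 F483852 (iv4 F482472) F387672 (iv4 F475300) F475295 (iv7 F475304) F475301
theorem F528366 : act 0 n225054 = n224467 := d17_2 F491292 D225054 F525142 (iv4 F493658) (iv5 D217838) F490080 F490078 (iv0 F475087) (iv4 F491291)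
theorem F528367 : act 1 n225054 = n217945 := d17_6 F499663 F446874 (iv1 D159492) D159494 (iv4 F467024) D225054 (iv5 D217945) (iv0 F384566) (iv4 F499660)
def n225055 : Q := act 7 n212690
theorem D225055 : act 7 n212690 = n225055 := rfl
theorem F528368 : act 2 n225055 = n212692 := d4_1 D225055 (iv7 F513848) F513846
theorem F528369 : act 3 n225055 = n213570 := d8_1 D225055 F471087 (iv3 F467089)
theorem F528370 : act 4 n225055 = n219290 := d11_1 D225055 F498143 (iv4 F467090)
theorem F528371 : act 5 n225055 = n212691 := d13_1 D225055 (iv7 D212691) D212690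
theorem F528372 : act 6 n225055 = n224417 := d14_1 D225055 F524847 (iv6 F522657) (iv7 F524995) (iv6 F524999)
theorem F528373 : act 1 n217130 = n225055 := d15_1 F513850 (iv7 D225055) (iv2 F513846)
theorem F528374 : act 1 n225055 = n222231 := d15_1 F528373 F513054 (iv2 F487574)
def n225056 : Q := act 3 n212707
theorem D225056 : act 3 n212707 = n225056 := rfl
theorem F528375 : act 2 n225056 = n221676 := d0_1 D225056 (iv3 D221676) F402626 D212182 (iv2 F467180)
theorem F528376 : act 4 n225056 = n220250 := d5_2 D212707 D225056 (iv3 F510452) F510453 F403491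
theorem F528377 : act 5 n225056 = n222328 := d6_2 F493307 D225056 F513616
theorem F528378 : act 6 n225056 = n221699 := d7_2 F509068 D225056 F510366
theorem F528379 : act 7 n225056 = n220248 := d8_2 F467622 D225056 F502850
theorem F528380 : act 0 n225056 = n222341 := d19_4 (iv1 F232806) D149022 D212707 D225056 F513694 (iv4 F511116) (iv3 D221863) (iv1 D197442) (iv5 D108157) F79005 F38174 (iv1 F22668) D28357 F314883 D72291 (iv1 F215871) F186066 (iv4 F307749) F232755
theorem F528381 : act 0 n222337 = n225056 := d20_4 F273893 (iv1 F271854) (iv4 F479494) (iv3 F513667) (iv3 D225056) (iv4 D212707) F340784 (iv4 F364902) (iv3 D174501) D174499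
def n225057 : Q := act 4 n212712
theorem D225057 : act 4 n212712 = n225057 := rfl
theorem F528382 : act 2 n225057 = n213650 := d1_1 D225057 (iv4 D213650) (iv2 F467202)
theorem F528383 : act 3 n225057 = n215808 := d5_1 D225057 (iv4 F481652) F467211 (iv4 D212713) D212712
theorem F528384 : act 6 n225057 = n215855 := d10_2 F484459 D225057 (iv4 F484458)
theorem F528385 : act 7 n225057 = n212739 := d11_2 (iv7 F467204) D225057 (iv4 D212739)
theorem F528386 : act 5 n225057 = n220511 := d16_1 D225057 F504124 (iv5 D213945) F245273 (iv5 F313918) (iv4 F386554) F467306 F467303 (iv2 F467202)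
theorem F528387 : act 0 n225057 = n216115 := d17_0 F483029 F518076 (iv5 F521355) (iv4 D223801) (iv5 D204907) (iv0 F348272) D186630 (iv0 F467205) D225057
theorem F528388 : act 1 n225057 = n213239 := d18_6 F444412 F429696 F424189 F424190 (iv5 F467203) D225057 F469537 F480538 F480534
def n225058 : Q := act 4 n212726
theorem D225058 : act 4 n212726 = n225058 := rfl
theorem F528389 : act 2 n225058 = n224648 := d1_1 D225058 F526093 F484122
theorem F528390 : act 3 n225058 = n221908 := d5_1 D225058 (iv4 D221908) F405094 F390292 (iv3 F467278)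
theorem F528391 : act 5 n225058 = n224356 := d9_2 D212726 D225058 F524496 (iv5 D222998) F422667 (iv5 F363475) F312607 D183393 (iv4 F472899) F472900 (iv4 F517187) (iv5 D222999) (iv4 F422674) (iv5 F403379) F403382
theorem F528392 : act 6 n225058 = n224545 := d10_2 (iv6 F467279) D225058 (iv4 D224545)
theorem F528393 : act 7 n225058 = n217003 := d11_2 (iv7 F467280) D225058 (iv4 D217003)
def n225059 : Q := act 1 n212728
theorem D225059 : act 1 n212728 = n225059 := rfl
theorem F528394 : act 1 n225059 = n213636 := d15_1 D225059 (iv7 F521354) F521352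
theorem F528395 : act 7 n225059 = n223649 := d15_2 (iv0 F467284) D225059 F520535
theorem F528396 : act 4 n225059 = n220391 := d17_9 F503555 (iv5 D204159) F315670 D124029 D204594 D223725 (iv0 F520928) (iv5 F481645) D225059
theorem F528397 : act 2 n223515 = n225059 := d1_3 F528396 F503552 D223515
theorem F528398 : act 3 n216655 = n225059 := d5_5 F528396 (iv3 D220391) (iv4 F390232) D219376 (iv4 F498558)
def n225060 : Q := act 4 n212738
theorem D225060 : act 4 n212738 = n225060 := rfl
theorem F528399 : act 2 n225060 = n212739 := d1_1 D225060 (iv4 D212739) D212738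
theorem F528400 : act 3 n225060 = n224802 := d5_1 D225060 F526950 (iv3 D213596) F242499 (iv3 F467302)
theorem F528401 : act 6 n225060 = n224794 := d10_2 F485550 D225060 F526909
theorem F528402 : act 7 n225060 = n213650 := d11_2 (iv7 F467303) D225060 (iv4 D213650)
theorem F528403 : act 0 n225060 = n213239 := d18_2 (iv1 F467304) D225060 F469537 (iv5 D204314) F348254 F209433 (iv4 F307980) (iv0 F348272) D186630
theorem F528404 : act 1 n225060 = n216115 := d18_6 (iv1 F431027) F429718 F360898 (iv4 F386554) F467306 D225060 (iv4 D216115) D216114 F483023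
def n225061 : Q := act 6 n212739
theorem D225061 : act 6 n212739 = n225061 := rfl
theorem F528405 : act 2 n225061 = n224794 := d3_1 D225061 (iv6 F528401) F528399
theorem F528406 : act 3 n225061 = n220555 := d7_1 D225061 (iv6 D220555) (iv3 F467307)
theorem F528407 : act 4 n225061 = n212741 := d10_1 D225061 (iv6 D212741) D212739
theorem F528408 : act 5 n225061 = n220797 := d12_1 D225061 (iv6 D220797) (iv5 F469458) F485325 F485324
theorem F528409 : act 7 n225061 = n224791 := d14_2 F528385 D225061 F526891 F481806 (iv6 F528384)
theorem F528410 : act 0 n224793 = n225061 := d21_4 F363547 (iv1 F455102) D224628 (iv6 F526906) (iv6 D225061) (iv5 F485324) F517524 (iv5 F519849) F519847 (iv1 D216782)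
theorem F528411 : act 1 n224355 = n225061 := d15_0 (iv0 F528410) F526907 (iv2 F524491)
theorem F528412 : act 0 n220555 = n224715 := d20_4 F526487 F485538 (iv4 F528407) F528406 (iv3 D224715) (iv4 D210409) (iv1 D138639) D138640 D210412 D224717
def n225062 : Q := act 0 n212743
theorem D225062 : act 0 n212743 = n225062 := rfl
theorem F528413 : act 5 n225062 = n213161 := d17_1 D225062 F482127 F482126 (iv4 F524574) F524575 F456868 (iv5 F457420) (iv0 F471215) F471211
theorem F528414 : act 4 n225062 = n219366 := d18_1 D225062 F498502 F423619 (iv5 D202317) (iv4 F423613) F423616 (iv4 F469228) (iv0 F469232) (iv5 F467324)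
theorem F528415 : act 3 n225062 = n213154 := d20_5 F455157 F363007 D149142 D212743 D225062 F469240 (iv1 F480604) F480600 (iv3 D212744) F455160
theorem F528416 : act 6 n225062 = n222953 := d21_5 (iv5 D115518) F179490 (iv5 F388343) (iv6 F467325) D225062 F516958 (iv1 D213844) F245043 (iv6 D137651) (iv1 F179806)
theorem F528417 : act 2 n223140 = n225062 := d15_3 (iv0 D225062) (iv0 F526280) F526283
theorem F528418 : act 1 n220539 = n225062 := d15_0 (iv0 D225062) (iv7 F485104) (iv2 F504258)
theorem F528419 : act 7 n225062 = n223153 := d15_2 F526281 F528418 (iv2 F526277)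
def n225063 : Q := act 0 n212748
theorem D225063 : act 0 n212748 = n225063 := rfl
theorem F528420 : act 5 n225063 = n223466 := d17_3 F504478 (iv5 F467346) D225063 F519594 F505345 F407466 (iv5 F424797) (iv0 F424802) (iv4 F504477)
theorem F528421 : act 4 n225063 = n215853 := d18_1 D225063 (iv1 F481795) F383971 (iv5 D115510) (iv4 F163680) D195911 D221298 (iv0 F508237) (iv5 F467346)
theorem F528422 : act 3 n225063 = n222965 := d20_5 F388349 D213926 (iv4 F527619) F527618 D225063 F517015 (iv1 D203092) (iv4 F423429) F502245 (iv1 D220124)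
theorem F528423 : act 2 n212751 = n225063 := d15_3 (iv0 D225063) (iv0 D212748) D212751
theorem F528424 : act 1 n212749 = n225063 := d15_0 (iv0 D225063) (iv7 F509861) F509860
theorem F528425 : act 7 n225063 = n212750 := d15_2 D212749 F528424 (iv2 D212750)
def n225064 : Q := act 4 n212749
theorem D225064 : act 4 n212749 = n225064 := rfl
theorem F528426 : act 3 n225064 = n221492 := d5_1 D225064 F509279 F504705 (iv4 F422480) F469346
theorem F528427 : act 5 n225064 = n221491 := d9_2 (iv5 F469347) D225064 F509274 (iv5 D208665) (iv4 F222776) (iv5 F401879) (iv4 F422477) (iv5 F467346) (iv4 F504710) F517419 F517415 F478845 F450672 F409153 (iv4 F422476)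
theorem F528428 : act 6 n225064 = n213926 := d10_2 F527620 D225064 (iv4 F527619)
theorem F528429 : act 7 n225064 = n223047 := d11_2 (iv7 F502926) D225064 F517423
theorem F528430 : act 0 n225064 = n224684 := d18_2 (iv1 F528424) D225064 (iv4 D224684) (iv5 D210131) (iv4 F409156) (iv0 F504224) F504222 (iv0 F519597) (iv5 F528420)
theorem F528431 : act 1 n225064 = n223456 := d18_6 (iv1 F423390) (iv4 F509850) (iv1 D221609) (iv4 F422476) (iv5 F469347) D225064 F519538 F456281 F423412
def n225065 : Q := act 3 n212756
theorem D225065 : act 3 n212756 = n225065 := rfl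
theorem F528432 : act 2 n225065 = n213914 := d0_1 D225065 (iv3 D213914) (iv2 F245216) (iv3 F423438) (iv2 F467372)
theorem F528433 : act 4 n225065 = n223091 := d5_2 D212756 D225065 F520249 (iv4 D223595) F430911
theorem F528434 : act 5 n225065 = n213158 := d6_2 (iv5 F467373) D225065 F469264
theorem F528435 : act 6 n225065 = n215820 := d7_2 (iv6 F503703) D225065 F503705
theorem F528436 : act 7 n225065 = n223136 := d8_2 (iv7 F467374) D225065 F517833
theorem F528437 : act 0 n225065 = n223148 := d19_4 (iv1 F467161) F427416 D212756 D225065 F517878 (iv4 F511892) F511891 (iv1 F511242) F511239 (iv4 D211981) F378781 F378780 F364595 (iv4 D128242) (iv3 F206370) F375909 D213783 (iv4 F479126) F479127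
theorem F528438 : act 0 n223147 = n225065 := d20_4 F469215 F396722 D209285 (iv3 F517875) (iv3 D225065) (iv4 D212756) (iv1 D149170) D149171 (iv3 F455000) (iv1 F469218)
def n225066 : Q := act 6 n212770
theorem D225066 : act 6 n212770 = n225066 := rfl
theorem F528439 : act 3 n225066 = n219103 := d7_1 D225066 (iv6 D219103) (iv3 F467442)
theorem F528440 : act 5 n225066 = n215670 := d12_1 D225066 (iv6 F481032) (iv5 F467414) (iv6 F467420) D212770
theorem F528441 : act 7 n225066 = n224332 := d14_2 F477939 D225066 F524372 (iv7 F514529) F514528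
theorem F528442 : act 0 n225066 = n216935 := d21_4 F512962 (iv1 F444800) D212770 D225066 F486601 (iv5 D200328) D200326 D222600 F515116 F512965
def n225067 : Q := act 3 n212773
theorem D225067 : act 3 n212773 = n225067 := rfl
theorem F528443 : act 4 n225067 = n222742 := d5_2 D212773 D225067 F515845 (iv4 D222175) F408337
theorem F528444 : act 5 n225067 = n222717 := d6_2 (iv5 F467449) D225067 F515728
theorem F528445 : act 6 n225067 = n223826 := d7_2 (iv6 F496097) D225067 (iv3 F521497)
theorem F528446 : act 0 n225067 = n224990 := d19_4 (iv1 D149265) D149266 D212773 D225067 F528014 F521988 F445550 (iv1 D207582) F347515 F97277 (iv3 F97273) D132928 (iv5 F375143) (iv4 F419704) (iv3 F419705) (iv1 D114228) F83309 (iv4 F149559) (iv3 F362068)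
theorem F528447 : act 0 n223961 = n225067 := d20_4 F495240 (iv1 F498101) (iv4 F498100) (iv3 F522237) (iv3 D225067) (iv4 D212773) D212771 (iv4 F467446) F447421 D208010
def n225068 : Q := act 3 n212777
theorem D225068 : act 3 n212777 = n225068 := rfl
theorem F528448 : act 6 n225068 = n219063 := d7_2 (iv6 F467457) D225068 (iv3 D219063)
theorem F528449 : act 0 n225068 = n224462 := d19_4 F362078 D149277 D212777 D225068 (iv5 D224462) (iv4 F503607) (iv3 D220403) (iv1 F390327) F357753 F274874 (iv3 F274747) (iv1 F310351) (iv5 F363405) F338076 F338077 (iv1 F205884) (iv5 F103948) F324997 D95813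
theorem F528450 : act 0 n224693 = n225068 := d20_4 F524093 F512546 (iv4 F524274) (iv3 F526350) (iv3 D225068) (iv4 D212777) F379180 D218895 (iv3 F522209) F524095
def n225069 : Q := act 1 n212800
theorem D225069 : act 1 n212800 = n225069 := rfl
theorem F528451 : act 1 n225069 = n223412 := d15_1 D225069 F519331 F505132
theorem F528452 : act 7 n225069 = n223408 := d15_2 F510997 D225069 F519307
theorem F528453 : act 5 n225069 = n222111 := d17_7 (iv1 F475882) (iv5 F504110) (iv1 F504112) (iv5 D203384) (iv4 F236050) D212800 D225069 (iv0 F512420) (iv4 F475878)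
theorem F528454 : act 4 n225069 = n224571 := d17_9 (iv1 F525699) F510991 (iv1 D211991) D211993 (iv4 F469930) F469931 (iv0 F454068) D212800 D225069
theorem F528455 : act 6 n221797 = n225069 := d21_3 (iv5 D197350) D197349 D221797 (iv1 D225069) (iv6 F501142) F501139 (iv1 F414237) (iv5 F505190) F505193 F469927
theorem F528456 : act 2 n225069 = n223407 := d3_1 F528455 F519302 (iv2 F510848)
theorem F528457 : act 3 n222112 = n225069 := d0_0 F528456 F519301 (iv2 F484810) F525694 (iv2 F525696)
def n225070 : Q := act 7 n212801
theorem D225070 : act 7 n212801 = n225070 := rfl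
theorem F528458 : act 2 n225070 = n223411 := d4_1 D225070 (iv7 D223411) (iv2 F467578)
theorem F528459 : act 3 n225070 = n222510 := d8_1 D225070 F514633 (iv3 F501143)
theorem F528460 : act 5 n225070 = n219903 := d13_1 D225070 (iv7 F501118) (iv5 F467579)
theorem F528461 : act 6 n225070 = n223417 := d14_1 D225070 (iv7 D223417) (iv6 D203253) (iv7 F236053) D212801
theorem F528462 : act 1 n223410 = n225070 := d15_1 D223410 (iv7 D225070) F467578
theorem F528463 : act 1 n225070 = n220102 := d15_1 F528462 F502133 (iv2 F519323)
def n225071 : Q := act 4 n212802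
theorem D225071 : act 4 n212802 = n225071 := rfl
theorem F528464 : act 2 n225071 = n225001 := d1_1 D225071 F528054 F510848
theorem F528465 : act 3 n225071 = n221840 := d5_1 D225071 F511001 F471682 F242906 (iv3 F467581)
theorem F528466 : act 6 n225071 = n221839 := d10_2 F519302 D225071 (iv4 F519304)
theorem F528467 : act 7 n225071 = n221840 := d11_2 F471683 D225071 F511001
theorem F528468 : act 1 n225071 = n224999 := d18_6 F506986 F501120 (iv1 D212578) (iv4 F236056) D212802 D225071 F528048 (iv0 F528061) F528060
theorem F528469 : act 1 n225000 = n225071 := d15_0 F528468 (iv7 F528050) (iv2 F528053)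
def n225072 : Q := act 5 n212806
theorem D225072 : act 5 n212806 = n225072 := rfl
theorem F528470 : act 2 n225072 = n212807 := d2_1 D225072 (iv5 D212807) D212806
theorem F528471 : act 3 n225072 = n224566 := d6_1 D225072 F525671 F471677
theorem F528472 : act 6 n225072 = n224565 := d12_2 (iv6 F509533) D225072 (iv5 D224565) F454427 D221546
theorem F528473 : act 0 n225072 = n213357 := d17_2 F510341 D225072 (iv5 D213357) (iv4 F460118) F460119 F458619 (iv5 F505633) F505723 (iv4 F510339)
theorem F528474 : act 1 n225072 = n213356 := d17_6 D72744 (iv5 F342484) F420459 F420456 (iv4 F467585) D225072 (iv5 D213356) (iv0 D153576) F109142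
def n225073 : Q := act 4 n212807
theorem D225073 : act 4 n212807 = n225073 := rfl
theorem F528475 : act 5 n225073 = n224763 := d16_3 F237856 D212807 D225073 F526733 F458168 F457521 (iv5 F457519) F440423 (iv2 F400712)
def n225074 : Q := act 7 n212813
theorem D225074 : act 7 n212813 = n225074 := rfl
theorem F528476 : act 2 n225074 = n223991 := d4_1 D225074 (iv7 D223991) (iv2 F467599)
theorem F528477 : act 3 n225074 = n212817 := d8_1 D225074 (iv7 D212817) (iv3 F467600)
theorem F528478 : act 4 n225074 = n221836 := d11_1 D225074 (iv7 F517105) F517106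
theorem F528479 : act 5 n225074 = n223989 := d13_1 D225074 F522400 (iv5 F467601)
theorem F528480 : act 6 n225074 = n224994 := d14_1 D225074 F528032 (iv6 D223397) F427497 D212813
theorem F528481 : act 1 n223990 = n225074 := d15_1 D223990 (iv7 D225074) F467599
theorem F528482 : act 1 n225074 = n221803 := d15_1 F528481 F510876 (iv2 F522405)
def n225075 : Q := act 1 n212815
theorem D225075 : act 1 n212815 = n225075 := rfl
theorem F528483 : act 1 n225075 = n223417 := d15_1 D225075 (iv7 D223417) (iv2 F467605)
theorem F528484 : act 7 n225075 = n223414 := d15_2 (iv0 F528037) D225075 (iv2 F528034)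
theorem F528485 : act 4 n225075 = n219943 := d18_7 F499825 F499821 F405243 F405241 F404011 (iv4 F467606) D225075 F519327 F519326
theorem F528486 : act 6 n219945 = n225075 := d21_3 (iv5 D219891) (iv1 F499816) (iv5 F501301) (iv1 D225075) (iv6 D212815) F236067 (iv1 D128494) D128495 D206369 (iv1 F501072)
theorem F528487 : act 2 n225075 = n223415 := d3_1 F528486 (iv6 F519339) F501302
theorem F528488 : act 3 n225075 = n225000 := d7_1 F528486 (iv6 F528052) F519329
def n225076 : Q := act 7 n212815
theorem D225076 : act 7 n212815 = n225076 := rfl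
theorem F528489 : act 2 n225076 = n223417 := d4_1 D225076 (iv7 D223417) (iv2 F467605)
theorem F528490 : act 3 n225076 = n224995 := d8_1 D225076 F528036 F519340
theorem F528491 : act 4 n225076 = n212817 := d11_1 D225076 (iv7 D212817) (iv4 F467606)
theorem F528492 : act 6 n225076 = n223411 := d14_1 D225076 (iv7 D223411) (iv6 D203251) (iv7 F236066) D212815
theorem F528493 : act 1 n223415 = n225076 := d15_1 D223415 (iv7 D225076) F467605
theorem F528494 : act 1 n225076 = n223414 := d15_1 F528493 (iv7 F528484) F528487
def n225077 : Q := act 6 n212818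
theorem D225077 : act 6 n212818 = n225077 := rfl
theorem F528495 : act 2 n225077 = n213432 := d3_1 D225077 F470371 (iv2 F467607)
theorem F528496 : act 3 n225077 = n223686 := d7_1 D225077 (iv6 F527366) F527363
theorem F528497 : act 4 n225077 = n212819 := d10_1 D225077 (iv6 D212819) D212818
theorem F528498 : act 5 n225077 = n223690 := d12_1 D225077 F520748 F471803 F459411 (iv5 F467608)
theorem F528499 : act 7 n225077 = n224940 := d14_2 (iv7 F467609) D225077 (iv6 D224940) (iv7 F509871) F509875
theorem F528500 : act 0 n225077 = n221285 := d21_4 (iv5 D210946) D210945 (iv5 F467608) D225077 (iv6 D221285) F412032 F412031 F407100 F362454 F459417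
theorem F528501 : act 0 n223700 = n225077 := d21_4 D219667 (iv1 F511882) (iv5 F519359) (iv6 F520800) (iv6 D225077) F467608 (iv1 F459409) F388409 F388407 (iv1 F385033)
def n225078 : Q := act 0 n212825
theorem D225078 : act 0 n212825 = n225078 := rfl
theorem F528502 : act 5 n225078 = n224385 := d17_1 D225078 F524649 (iv5 D209402) (iv4 F421622) D222922 (iv0 F516788) F490047 (iv0 F516354) F516352
theorem F528503 : act 4 n225078 = n223739 := d18_1 D225078 F523445 F523441 F520991 F491354 (iv0 F487981) F487978 D217218 (iv5 F487985)
theorem F528504 : act 3 n225078 = n219010 := d20_5 (iv4 D222848) F420573 (iv4 F431418) (iv3 F467642) D225078 F496663 (iv1 F502494) F502491 (iv3 F525134) (iv1 F525139)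
theorem F528505 : act 6 n225078 = n219009 := d21_5 (iv5 D149197) (iv1 F357833) F357835 D212825 D225078 F496658 (iv1 F409993) (iv5 F388448) (iv6 D192989) (iv1 F234566)
theorem F528506 : act 2 n220137 = n225078 := d15_3 (iv0 D225078) (iv0 F525422) F525421
theorem F528507 : act 1 n220139 = n225078 := d15_0 (iv0 D225078) F467643 (iv2 F502316)
theorem F528508 : act 7 n225078 = n220138 := d15_2 (iv0 F525423) F528507 (iv2 F525417)
def n225079 : Q := act 1 n212845
theorem D225079 : act 1 n212845 = n225079 := rfl
theorem F528509 : act 7 n225079 = n224906 := d15_2 (iv0 F526212) D225079 F527522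
theorem F528510 : act 5 n225079 = n224041 := d17_7 (iv1 D204494) (iv5 F393760) F393913 D194643 (iv4 F393925) (iv5 F467754) D225079 F522678 F490616
theorem F528511 : act 4 n225079 = n217343 := d17_9 F488539 F476976 D215138 F478547 D218866 (iv5 F496224) (iv0 D214087) (iv5 F467754) D225079
theorem F528512 : act 3 n222085 = n225079 := d19_19 (iv1 D225079) F467754 F393925 (iv3 F450523) F509080 F509077 (iv4 F424417) F424416 (iv1 F180542) D139393 D210555 D224748 (iv1 F526654) (iv5 F517690) F517689 F503490 F453178 (iv5 F503872) (iv4 F512278)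
theorem F528513 : act 2 n224589 = n225079 := d1_3 F528511 (iv2 F488797) (iv4 F525806)
def n225080 : Q := act 6 n212862
theorem D225080 : act 6 n212862 = n225080 := rfl
theorem F528514 : act 2 n225080 = n212863 := d3_1 D225080 (iv6 D212863) D212862
theorem F528515 : act 3 n225080 = n222056 := d7_1 D225080 (iv6 F512127) (iv3 F467846)
theorem F528516 : act 4 n225080 = n213691 := d10_1 D225080 (iv6 D213691) (iv4 F467847)
theorem F528517 : act 5 n225080 = n218821 := d12_1 D225080 (iv6 D218821) F378952 (iv6 F420390) (iv5 F467848)
theorem F528518 : act 7 n225080 = n224871 := d14_2 (iv7 F467849) D225080 F527333 F508202 F411120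
theorem F528519 : act 0 n225080 = n222066 := d21_4 (iv5 F464209) (iv1 F420393) (iv5 F467848) D225080 (iv6 D222066) (iv5 D198220) (iv1 F407237) (iv5 F455676) F455675 F464208
theorem F528520 : act 0 n224859 = n225080 := d21_4 (iv5 F498730) F498732 F459345 D224859 (iv6 D225080) F467848 F420392 F373213 F386617 (iv1 F459937)
def n225081 : Q := act 1 n212867
theorem D225081 : act 1 n212867 = n225081 := rfl
theorem F528521 : act 1 n225081 = n220657 := d15_1 D225081 F504831 F504720
theorem F528522 : act 7 n225081 = n219353 := d15_2 (iv0 F484308) D225081 F498428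
theorem F528523 : act 5 n225081 = n216234 := d17_7 F491341 (iv5 F521015) (iv1 F521020) F501541 (iv4 F527790) F527791 D225081 (iv0 F526771) F526769
theorem F528524 : act 4 n225081 = n213618 := d17_9 F485284 (iv5 F485282) F493548 F493545 (iv4 F498460) (iv5 F520377) (iv0 F527793) F527791 D225081
theorem F528525 : act 3 n216236 = n225081 := d20_3 F392032 D194094 F483682 (iv1 D225081) F467867 (iv4 F473263) (iv1 D214053) D214054 F473266 F392033
theorem F528526 : act 6 n214575 = n225081 := d21_3 F427911 (iv1 F252543) D214575 (iv1 D225081) (iv6 D212867) (iv5 D151181) D151179 (iv5 F427907) (iv6 F507646) F507648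
theorem F528527 : act 2 n225081 = n223439 := d3_1 F528526 (iv6 D223439) (iv2 F475866)
def n225082 : Q := act 7 n212885
theorem D225082 : act 7 n212885 = n225082 := rfl
theorem F528528 : act 2 n225082 = n223659 := d4_1 D225082 F520586 (iv2 F467955)
theorem F528529 : act 3 n225082 = n223669 := d8_1 D225082 F520635 (iv3 F467956)
theorem F528530 : act 4 n225082 = n221383 := d11_1 D225082 (iv7 F523862) F523860
theorem F528531 : act 5 n225082 = n212886 := d13_1 D225082 (iv7 D212886) D212885
theorem F528532 : act 1 n218166 = n225082 := d15_1 (iv0 F492481) (iv7 D225082) F467955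
theorem F528533 : act 1 n225082 = n221456 := d15_1 F528532 F509095 (iv2 F492476)
def n225083 : Q := act 6 n212889
theorem D225083 : act 6 n212889 = n225083 := rfl
theorem F528534 : act 2 n225083 = n222934 := d3_1 D225083 F516853 F516331
theorem F528535 : act 3 n225083 = n224351 := d7_1 D225083 (iv6 D224351) (iv3 F467970)
theorem F528536 : act 4 n225083 = n212890 := d10_1 D225083 (iv6 D212890) D212889
theorem F528537 : act 5 n225083 = n214412 := d12_1 D225083 (iv6 F475064) (iv5 F421793) F421795 (iv5 F467972)
theorem F528538 : act 7 n225083 = n214478 := d14_2 (iv7 F467971) D225083 (iv6 D214478) F251293 D212652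
theorem F528539 : act 0 n225083 = n217607 := d21_4 (iv5 F514390) (iv1 D222471) (iv5 F467972) D225083 (iv6 D217607) (iv5 F489764) F489762 (iv5 F446024) (iv6 F465012) F465013
theorem F528540 : act 0 n220951 = n225083 := d21_4 (iv5 F503089) F503090 (iv5 F507766) F507764 (iv6 D225083) F467972 D222470 F514382 (iv6 D221199) (iv1 F443030)
def n225084 : Q := act 4 n212898
theorem D225084 : act 4 n212898 = n225084 := rfl
theorem F528541 : act 2 n225084 = n223388 := d1_1 D225084 F519213 (iv2 F468020)
theorem F528542 : act 3 n225084 = n220475 := d5_1 D225084 F503944 (iv3 F487253) (iv4 D212903) (iv3 F468021)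
theorem F528543 : act 5 n225084 = n220474 := d9_2 D212898 D225084 F503941 F469494 (iv4 F505472) (iv5 D220776) (iv4 F426462) (iv5 F483480) (iv4 F518855) F518856 F485899 F485898 F458653 (iv5 F364631) F267780
theorem F528544 : act 6 n225084 = n223377 := d10_2 (iv6 F468022) D225084 F519146
theorem F528545 : act 0 n225084 = n223346 := d18_2 F468023 D225084 (iv4 D223346) (iv5 D203076) F425987 (iv0 D202875) (iv4 F184133) (iv0 F352600) D208466
theorem F528546 : act 1 n225084 = n223348 := d18_6 F393556 (iv4 D194520) F348684 F267780 D212898 D225084 (iv4 D223348) (iv0 F487513) F487512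
def n225085 : Q := act 4 n212902
theorem D225085 : act 4 n212902 = n225085 := rfl
theorem F528547 : act 2 n225085 = n223615 := d1_1 D225085 (iv4 D223615) F468041
theorem F528548 : act 3 n225085 = n216184 := d5_1 D225085 (iv4 F514955) F514953 (iv4 F514945) F514944
theorem F528549 : act 5 n225085 = n220985 := d9_2 F514942 D225085 F506644 F421209 (iv4 D201639) F189731 (iv4 F429295) F429296 (iv4 F498797) F498798 F475517 F251541 F360960 (iv5 F468143) (iv4 F514937)
theorem F528550 : act 6 n225085 = n216182 := d10_2 (iv6 F516729) D225085 (iv4 F488384)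
theorem F528551 : act 7 n225085 = n220984 := d11_2 (iv7 F468042) D225085 F506641
theorem F528552 : act 1 n225085 = n212940 := d18_6 F474795 F462401 D212924 (iv4 F514937) F514942 D225085 (iv4 D212940) D212939 (iv5 F474796)
def n225086 : Q := act 0 n212921
theorem D225086 : act 0 n212921 = n225086 := rfl
theorem F528553 : act 5 n225086 = n217775 := d17_1 D225086 (iv1 D217775) (iv5 F376928) F376927 D218428 F493839 (iv5 F468156) (iv0 D212926) (iv4 F468131)
theorem F528554 : act 4 n225086 = n216842 := d18_1 D225086 F486167 D218282 (iv5 F494789) F494788 F377210 D217853 (iv0 F505005) (iv5 F505004)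
theorem F528555 : act 3 n225086 = n217853 := d20_5 F399804 F214489 D151426 D212921 D225086 (iv4 D217853) (iv1 F377210) (iv4 F494788) (iv3 D218617) (iv1 F399802)
theorem F528556 : act 6 n216841 = n225086 := d21_5 (iv5 F505004) D225086 F528553 (iv6 F508596) F508598 F528553 (iv1 D217775) (iv5 F376928) (iv6 F490955) (iv1 F505006)
theorem F528557 : act 2 n218443 = n225086 := d15_3 (iv0 D225086) (iv0 F468133) (iv7 F493920)
theorem F528558 : act 1 n218444 = n225086 := d15_0 (iv0 D225086) F468132 D218444
theorem F528559 : act 7 n225086 = n218234 := d15_2 (iv0 F493928) F528558 F492871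
def n225087 : Q := act 2 n212921
theorem D225087 : act 2 n212921 = n225087 := rfl
theorem F528560 : act 3 n225087 = n218451 := d0_2 D212921 D225087 (iv2 D218451) (iv3 D189311) (iv2 F238155)
theorem F528561 : act 4 n225087 = n212927 := d1_2 (iv4 F468131) D225087 (iv2 D212927)
theorem F528562 : act 5 n225087 = n218446 := d2_2 (iv5 F505004) D225087 (iv2 F505000)
theorem F528563 : act 6 n225087 = n222648 := d3_2 F504992 D225087 F515375
theorem F528564 : act 7 n225087 = n218444 := d4_2 (iv7 F468132) D225087 (iv2 D218444)
theorem F528565 : act 1 n225087 = n218234 := d15_0 (iv0 F492875) (iv7 F468132) D225087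
theorem F528566 : act 1 n218443 = n225087 := d15_0 F528565 (iv7 F528559) (iv2 F528557)
def n225088 : Q := act 1 n212936
theorem D225088 : act 1 n212936 = n225088 := rfl
theorem F528567 : act 1 n225088 = n212938 := d15_1 D225088 F468226 (iv2 F468214)
theorem F528568 : act 7 n225088 = n224945 := d15_2 F468344 D225088 F527739
theorem F528569 : act 5 n225088 = n224357 := d17_7 F468068 (iv5 D212304) F427764 (iv5 D203301) (iv4 F357219) D212936 D225088 (iv0 F524505) (iv4 F468069)
theorem F528570 : act 3 n213565 = n225088 := d19_19 (iv1 D225088) (iv5 D212936) F357219 F348660 F206205 D195831 (iv4 F440145) (iv3 F441919) D224085 F522944 (iv4 D210570) (iv3 F458049) F463687 (iv5 F507517) F507516 (iv3 D215405) (iv1 F358773) (iv5 F287692) (iv4 F471071)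
theorem F528571 : act 6 n216196 = n225088 := d21_3 F483140 F478815 (iv5 F483337) (iv1 D225088) (iv6 F525850) (iv5 D224597) D224596 (iv5 F527767) F527765 F488074
theorem F528572 : act 2 n225088 = n224950 := d3_1 F528571 F527772 F503968
def n225089 : Q := act 6 n212990
theorem D225089 : act 6 n212990 = n225089 := rfl
theorem F528573 : act 2 n225089 = n220073 := d3_1 D225089 (iv6 D220073) (iv2 F468491)
theorem F528574 : act 3 n225089 = n216133 := d7_1 D225089 F483127 F468490
theorem F528575 : act 4 n225089 = n216141 := d10_1 D225089 F483156 (iv4 F468492)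
theorem F528576 : act 5 n225089 = n215569 := d12_1 D225089 (iv6 D215569) (iv5 F465189) (iv6 F465194) (iv5 F468489)
theorem F528577 : act 7 n225089 = n224882 := d14_2 (iv7 F468488) D225089 F527394 F518371 (iv6 D216714)
theorem F528578 : act 0 n216196 = n225089 := d21_4 F519400 F524505 (iv5 F528569) (iv6 F528571) (iv6 D225089) F468489 F340972 (iv5 F388113) (iv6 F427930) D223428
def n225090 : Q := act 7 n212991
theorem D225090 : act 7 n212991 = n225090 := rfl
theorem F528579 : act 2 n225090 = n223617 := d4_1 D225090 F520360 F501613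
theorem F528580 : act 4 n225090 = n212992 := d11_1 D225090 (iv7 D212992) D212991
theorem F528581 : act 5 n225090 = n214583 := d13_1 D225090 (iv7 F518965) F518966
theorem F528582 : act 6 n225090 = n214538 := d14_1 D225090 (iv7 F499397) F499394 (iv7 F501495) (iv6 F501498)
theorem F528583 : act 1 n223545 = n225090 := d15_1 (iv0 F520035) (iv7 D225090) (iv2 F501613)
theorem F528584 : act 1 n225090 = n223547 := d15_1 F528583 F520042 (iv2 F520031)
def n225091 : Q := act 5 n213013
theorem D225091 : act 5 n213013 = n225091 := rfl
theorem F528585 : act 2 n225091 = n218389 := d2_1 D225091 (iv5 D218389) (iv2 F468592)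
theorem F528586 : act 6 n225091 = n219583 := d12_2 D213013 D225091 (iv5 D219583) (iv6 D191807) (iv5 F354624)
def n225092 : Q := act 4 n213032
theorem D225092 : act 4 n213032 = n225092 := rfl
theorem F528587 : act 2 n225092 = n213089 := d1_1 D225092 (iv4 F516466) F516464
theorem F528588 : act 3 n225092 = n218342 := d5_1 D225092 F493410 F483239 (iv4 F425312) (iv3 F468687)
theorem F528589 : act 5 n225092 = n222374 := d9_2 D213032 D225092 (iv4 D222374) F411968 F323597 (iv5 F318594) (iv4 F214567) (iv5 F423367) (iv4 F517811) F517812 (iv4 D222372) F411962 F347816 F339254 F339236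
theorem F528590 : act 6 n225092 = n218341 := d10_2 F483242 D225092 F493406
theorem F528591 : act 7 n225092 = n213090 := d11_2 (iv7 F468688) D225092 F468959
theorem F528592 : act 0 n225092 = n213038 := d17_0 F468723 (iv1 F412773) (iv5 F420682) (iv4 D201486) (iv5 D114608) D114607 D201483 (iv0 F468689) D225092
theorem F528593 : act 1 n225092 = n213037 := d18_6 F346150 F183788 F182010 F339236 D213032 D225092 (iv4 D213037) (iv0 F448126) (iv5 D208150)
def n225093 : Q := act 4 n213055
theorem D225093 : act 4 n213055 = n225093 := rfl
theorem F528594 : act 2 n225093 = n215820 := d1_1 D225093 (iv4 F517472) F517469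
theorem F528595 : act 3 n225093 = n213915 := d5_1 D225093 (iv4 F498476) F498475 F468769 (iv3 F468803)
theorem F528596 : act 6 n225093 = n213914 := d10_2 F527887 D225093 (iv4 F527885)
theorem F528597 : act 7 n225093 = n213207 := d11_2 (iv7 F468804) D225093 (iv4 D213207)
theorem F528598 : act 5 n225093 = n215767 := d16_1 D225093 F481489 (iv5 F343237) (iv4 F412540) (iv5 F412541) F386748 D213205 (iv7 F517471) F517469
theorem F528599 : act 0 n225093 = n224746 := d17_0 (iv5 D224746) F519740 F519739 F517861 F517483 F428258 D213173 F469327 D225093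
theorem F528600 : act 1 n225093 = n224633 := d18_8 F527176 F526634 (iv1 D210636) D210637 D224772 F526788 F469327 D225093 (iv5 F527174)
def n225094 : Q := act 0 n213059
theorem D225094 : act 0 n213059 = n225094 := rfl
theorem F528601 : act 5 n225094 = n213863 := d17_1 D225094 (iv1 D213863) (iv5 F458736) (iv4 F504109) F504110 F475882 F517376 F517375 F503961
theorem F528602 : act 4 n225094 = n221056 := d18_1 D225094 F507025 (iv4 F454071) (iv5 D202049) (iv4 F422560) F463839 (iv4 F468808) (iv0 D213057) D213059
theorem F528603 : act 6 n225094 = n224511 := d21_5 (iv5 D139647) D139645 D210752 (iv6 F468818) D225094 F525384 F514849 (iv5 F524493) F524492 (iv1 D210756)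
theorem F528604 : act 1 n213224 = n225094 := d15_0 (iv0 D225094) F468819 (iv2 F469487)
theorem F528605 : act 2 n213226 = n225094 := d1_3 F528602 (iv2 F517386) F517383
theorem F528606 : act 7 n213225 = n225094 := d11_0 F528602 F507024 (iv4 F469489)
def n225095 : Q := act 1 n213059
theorem D225095 : act 1 n213059 = n225095 := rfl
theorem F528607 : act 1 n225095 = n213224 := d15_1 D225095 (iv7 F473328) F473326
theorem F528608 : act 7 n225095 = n213226 := d15_2 (iv0 D225094) D225095 F528605
theorem F528609 : act 5 n225095 = n213862 := d17_7 D205928 F519291 (iv1 D223405) (iv5 D203239) (iv4 F239524) D213059 D225095 (iv0 D213862) F245092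
theorem F528610 : act 4 n225095 = n224544 := d17_9 (iv1 F525563) (iv5 D209538) (iv1 D136588) D136589 D209541 (iv5 F468807) (iv0 D213057) D213059 D225095
theorem F528611 : act 3 n220207 = n225095 := d19_19 (iv1 D225095) (iv5 D213059) F239524 (iv3 D118259) (iv1 F109146) (iv5 F241400) (iv4 D153582) (iv3 F241391) D213359 (iv5 F470087) (iv4 F505627) F505628 F398618 (iv5 F402325) (iv4 F469028) (iv3 F474075) (iv1 D214224) (iv5 F471402) (iv4 F502651)
theorem F528612 : act 2 n213225 = n225095 := d1_3 F528610 (iv2 F525562) (iv4 F469489)
def n225096 : Q := act 5 n213064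
theorem D225096 : act 5 n213064 = n225096 := rfl
theorem F528613 : act 2 n225096 = n223733 := d2_1 D225096 F520964 F468835
theorem F528614 : act 3 n225096 = n213065 := d6_1 D225096 (iv5 D213065) D213064
theorem F528615 : act 6 n225096 = n222993 := d12_2 (iv6 F468833) D225096 (iv5 D222993) (iv6 F504349) F424058
theorem F528616 : act 7 n225096 = n224627 := d13_2 F501225 D225096 F525995
theorem F528617 : act 4 n225096 = n224500 := d16_2 (iv4 F468832) D225096 F525318 F481870 (iv5 F406681) (iv4 F413258) (iv5 F424130) (iv7 F424129) (iv2 F424059)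
def n225097 : Q := act 6 n213067
theorem D225097 : act 6 n213067 = n225097 := rfl
theorem F528618 : act 2 n225097 = n223724 := d3_1 D225097 F520922 F505326
theorem F528619 : act 3 n225097 = n213068 := d7_1 D225097 (iv6 D213068) D213067
theorem F528620 : act 4 n225097 = n214161 := d10_1 D225097 (iv6 F505013) F505015
theorem F528621 : act 0 n225097 = n223184 := d21_4 F469458 (iv1 F474092) F474088 D225097 F527189 (iv5 F527188) F517081 (iv5 F520275) (iv6 F520276) F505306
theorem F528622 : act 0 n223185 = n225097 := d21_4 F459133 (iv1 D203599) D203600 F518072 (iv6 D225097) (iv5 F474088) F474091 (iv5 F469453) (iv6 F469455) F459134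
def n225098 : Q := act 1 n213068
theorem D225098 : act 1 n213068 = n225098 := rfl
theorem F528623 : act 1 n225098 = n213243 := d15_1 D225098 (iv7 D213243) (iv2 F468845)
theorem F528624 : act 7 n225098 = n213240 := d15_2 (iv0 F518007) D225098 (iv2 F473087)
theorem F528625 : act 4 n225098 = n216448 := d17_9 (iv1 F484423) (iv5 F485124) (iv1 D216218) F283643 (iv4 F287494) D216658 (iv0 F526927) F526926 D225098
theorem F528626 : act 2 n213241 = n225098 := d1_3 F528625 (iv2 D216448) (iv4 F473085)
theorem F528627 : act 6 n223727 = n225098 := d10_0 F528625 F484420 D223727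
def n225099 : Q := act 7 n213068
theorem D225099 : act 7 n213068 = n225099 := rfl
theorem F528628 : act 2 n225099 = n213243 := d4_1 D225099 (iv7 D213243) (iv2 F468845)
theorem F528629 : act 4 n225099 = n216699 := d11_1 D225099 (iv7 F519566) F519565
theorem F528630 : act 6 n225099 = n213235 := d14_1 D225099 (iv7 D213235) (iv6 D152868) (iv7 F239546) D213068
theorem F528631 : act 1 n213241 = n225099 := d15_1 D213241 (iv7 D225099) F468845
theorem F528632 : act 1 n225099 = n213240 := d15_1 F528631 (iv7 F528624) (iv2 F528626)
def n225100 : Q := act 0 n213100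
theorem D225100 : act 0 n213100 = n225100 := rfl
theorem F528633 : act 5 n225100 = n216246 := d17_3 (iv1 D217515) F469009 D225100 F483469 (iv5 D188236) (iv0 D91107) D91109 D188240 (iv4 F489272)
theorem F528634 : act 3 n225100 = n216175 := d20_5 (iv4 D113892) D113890 (iv4 F239718) D213100 D225100 F483287 (iv1 F420170) (iv4 F432275) F432274 F247881
theorem F528635 : act 2 n220660 = n225100 := d15_3 (iv0 D225100) (iv0 F484681) F504846
theorem F528636 : act 1 n220662 = n225100 := d15_0 (iv0 D225100) F469008 (iv2 F504852)
theorem F528637 : act 7 n225100 = n220661 := d15_2 F504857 F528636 F504851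
theorem F528638 : act 6 n216174 = n225100 := d21_3 F483961 (iv1 D216172) D216174 (iv1 F528636) F504856 (iv5 D204626) F314445 (iv5 F387182) (iv6 F492650) F492653
def n225101 : Q := act 3 n213108
theorem D225101 : act 3 n213108 = n225101 := rfl
theorem F528639 : act 2 n225101 = n220468 := d0_1 D225101 F503919 (iv2 F516412) F516413 F469056
theorem F528640 : act 4 n225101 = n217521 := d5_2 (iv4 F469055) D225101 (iv3 F492396) (iv4 F509273) F509269
theorem F528641 : act 5 n225101 = n213118 := d6_2 (iv5 F469054) D225101 (iv3 D213118)
theorem F528642 : act 7 n225101 = n222868 := d8_2 (iv7 F469053) D225101 F516493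
theorem F528643 : act 0 n225101 = n216246 := d20_4 F419040 (iv1 F427010) (iv4 F469055) D225101 F483468 F283660 (iv1 F310898) F386091 F351164 (iv1 F419042)
theorem F528644 : act 0 n217977 = n225101 := d20_4 F525953 F524860 F524859 (iv3 F491522) (iv3 D225101) F469055 (iv1 D203110) (iv4 F420607) (iv3 F516409) F525956
theorem F528645 : act 6 n225101 = n219370 := d21_5 (iv5 F518382) (iv1 D223242) (iv5 F424451) (iv6 F491519) F528644 F498525 F492426 F492423 (iv6 D213615) D213612
def n225102 : Q := act 6 n213108
theorem D225102 : act 6 n213108 = n225102 := rfl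
theorem F528646 : act 2 n225102 = n222852 := d3_1 D225102 (iv6 D222852) F469056
theorem F528647 : act 3 n225102 = n219370 := d7_1 D225102 (iv6 F528645) (iv3 D225101)
theorem F528648 : act 4 n225102 = n213806 := d10_1 D225102 (iv6 F472175) (iv4 F469055)
theorem F528649 : act 5 n225102 = n213726 := d12_1 D225102 F471809 F468982 F468984 (iv5 F469054)
theorem F528650 : act 7 n225102 = n220467 := d14_2 (iv7 F469053) D225102 F503917 F516502 (iv6 D222869)
theorem F528651 : act 0 n225102 = n218153 := d21_4 (iv5 D152559) (iv1 F239735) (iv5 F469054) D225102 F492403 (iv5 F391049) D218137 F492308 F489266 F420944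
theorem F528652 : act 1 n225102 = n214019 := d15_1 (iv0 F528651) (iv7 F527199) F527197
def n225103 : Q := act 0 n213109
theorem D225103 : act 0 n213109 = n225103 := rfl
theorem F528653 : act 4 n225103 = n223360 := d20_2 (iv4 F469057) D225103 (iv3 F519049) F517241 F469363 (iv4 D192216) F336647 (iv4 F362118) (iv3 F473084) (iv1 D213241)
theorem F528654 : act 3 n225103 = n219360 := d20_5 (iv4 F387881) (iv1 F480579) (iv4 F481719) (iv3 F481721) D225103 F498460 (iv1 F484340) (iv4 F485452) F485451 (iv1 D193570)
theorem F528655 : act 2 n216462 = n225103 := d15_3 (iv0 D225103) (iv0 F498940) F498939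
theorem F528656 : act 6 n225103 = n219358 := d3_2 (iv6 F484491) F528655 F498450
theorem F528657 : act 0 n225103 = n216699 := d20_4 (iv4 F471457) (iv1 F484342) (iv4 F498460) (iv3 F528654) (iv3 D216699) (iv4 F458685) D223356 (iv4 F520913) F520912 F480533
def n225104 : Q := act 7 n213109
theorem D225104 : act 7 n213109 = n225104 := rfl
theorem F528658 : act 2 n225104 = n216699 := d4_1 D225104 (iv7 F519566) F519563
theorem F528659 : act 3 n225104 = n216707 := d8_1 D225104 F485555 (iv3 F481721)
theorem F528660 : act 4 n225104 = n213243 := d11_1 D225104 (iv7 D213243) (iv4 F469057)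
theorem F528661 : act 5 n225104 = n219434 := d13_1 D225104 (iv7 F504789) F504788
theorem F528662 : act 6 n225104 = n219675 := d14_1 D225104 F499989 F473071 F468739 D213109
theorem F528663 : act 0 n216462 = n225104 := d21_4 F500594 F489882 (iv5 F489883) (iv6 F484491) F528662 (iv5 F526584) (iv1 F526586) D224768 F526763 F500595
theorem F528664 : act 0 n219434 = n219784 := d21_7 F386178 F387034 F387033 D219778 (iv1 F500586) (iv6 F528662) F528661 (iv5 D219784) (iv6 D192244) D192242
def n225105 : Q := act 0 n213112
theorem D225105 : act 0 n213112 = n225105 := rfl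
theorem F528665 : act 5 n225105 = n222848 := d17_1 D225105 (iv1 F518811) (iv5 F525272) F525271 (iv5 D221878) (iv0 F470071) (iv5 F514966) (iv0 F527034) F527032
theorem F528666 : act 4 n225105 = n222567 := d18_1 D225105 (iv1 F526528) (iv4 F526532) (iv5 D222857) (iv4 D201529) (iv0 F420591) (iv4 F469058) (iv0 D213110) D213112
theorem F528667 : act 2 n222859 = n225105 := d15_3 (iv0 D225105) F526539 F526536
theorem F528668 : act 1 n224532 = n225105 := d15_0 (iv0 D225105) (iv7 F527111) F527109
theorem F528669 : act 7 n225105 = n222862 := d15_2 F526538 F528668 (iv2 F526533)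
theorem F528670 : act 3 n217311 = n225105 := d19_19 (iv1 F528668) F525505 (iv4 D218308) (iv3 F375405) (iv1 F427775) (iv5 F430444) (iv4 F474793) F474792 (iv1 F250275) (iv5 F426196) F426197 (iv3 F383528) F486882 F486878 F371010 F295166 (iv1 F372527) (iv5 F483302) (iv4 F488384)
theorem F528671 : act 6 n225105 = n222564 := d7_2 F516729 F528670 F514944
def n225106 : Q := act 6 n213115
theorem D225106 : act 6 n213115 = n225106 := rfl
theorem F528672 : act 2 n225106 = n216594 := d3_1 D225106 (iv6 F491112) F491108
theorem F528673 : act 3 n225106 = n213116 := d7_1 D225106 (iv6 D213116) (iv3 F469074)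
theorem F528674 : act 7 n225106 = n216593 := d14_2 F491097 D225106 F485105 (iv7 F473803) F491101
theorem F528675 : act 0 n225106 = n216527 := d21_4 F471402 (iv1 F406692) D213115 D225106 (iv6 D216527) (iv5 F340562) (iv1 F340560) (iv5 F157911) (iv6 F387605) F471403
theorem F528676 : act 0 n213596 = n225106 := d21_4 (iv5 D223369) F427077 (iv5 F518830) (iv6 F518836) (iv6 D225106) (iv5 D213115) F406691 D217882 F491066 (iv1 F519101)
def n225107 : Q := act 6 n213137
theorem D225107 : act 6 n213137 = n225107 := rfl
theorem F528677 : act 2 n225107 = n220336 := d3_1 D225107 (iv6 D220336) (iv2 F469155)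
theorem F528678 : act 3 n225107 = n213974 := d7_1 D225107 (iv6 F472943) (iv3 F469159)
theorem F528679 : act 4 n225107 = n213138 := d10_1 D225107 (iv6 D213138) D213137
theorem F528680 : act 7 n225107 = n221778 := d14_2 (iv7 F469156) D225107 (iv6 F511076) F511073 F428552
theorem F528681 : act 0 n225107 = n216620 := d21_4 (iv5 F498962) (iv1 F500158) F500155 D225107 F485203 F411746 (iv1 F403938) F403936 F478060 F478058
theorem F528682 : act 5 n225107 = n216186 := d21_6 F481429 (iv1 F401590) (iv5 F481356) F481357 (iv1 F469158) D225107 (iv1 D216186) D216188 (iv6 F483311) (iv1 F481431)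
theorem F528683 : act 0 n221693 = n225107 := d21_4 (iv5 F505196) (iv1 F510347) (iv5 D221695) (iv6 F510336) (iv6 D225107) (iv5 F500155) F500157 (iv5 F484823) F484824 (iv1 F438389)
def n225108 : Q := act 1 n213140
theorem D225108 : act 1 n213140 = n225108 := rfl
theorem F528684 : act 1 n225108 = n223654 := d15_1 D225108 F520558 F509510
theorem F528685 : act 7 n225108 = n220576 := d15_2 (iv0 F511866) D225108 (iv2 F511862)
theorem F528686 : act 5 n225108 = n214843 := d17_7 F515298 (iv5 D215744) F360141 D177632 (iv4 F456463) (iv5 F469167) D225108 (iv0 F507526) (iv4 F515294)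
theorem F528687 : act 4 n225108 = n220583 := d17_9 (iv1 F504466) F408607 (iv1 F408606) (iv5 D198611) F169682 D196717 (iv0 F456464) (iv5 F469167) D225108
theorem F528688 : act 3 n220578 = n225108 := d19_19 (iv1 D225108) F469167 F456463 F277092 (iv1 F345842) (iv5 D162803) D162802 F257079 F302530 F347427 F347428 (iv3 F462018) F462021 (iv5 F406981) (iv4 F406985) (iv3 F438495) (iv1 F499850) F499847 (iv4 F504444)
theorem F528689 : act 2 n225108 = n224870 := d0_1 F528688 (iv3 D224870) (iv2 F460074) D224875 (iv2 F527354)
def n225109 : Q := act 7 n213140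
theorem D225109 : act 7 n213140 = n225109 := rfl
theorem F528690 : act 2 n225109 = n223654 := d4_1 D225109 F520558 F509510
theorem F528691 : act 3 n225109 = n213141 := d8_1 D225109 (iv7 D213141) D213140
theorem F528692 : act 4 n225109 = n224513 := d11_1 D225109 F525398 F506323
theorem F528693 : act 5 n225109 = n221165 := d13_1 D225109 F507531 (iv5 F469167)
theorem F528694 : act 6 n225109 = n221173 := d14_1 D225109 F507570 F507394 (iv7 F438765) (iv6 F469168)
theorem F528695 : act 1 n224870 = n225109 := d15_1 (iv0 F527329) (iv7 D225109) (iv2 F509510)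
theorem F528696 : act 1 n225109 = n220576 := d15_1 F528695 (iv7 F528685) F528689
def n225110 : Q := act 1 n213142
theorem D225110 : act 1 n213142 = n225110 := rfl
theorem F528697 : act 1 n225110 = n215555 := d15_1 D225110 F480477 (iv2 F469173)
theorem F528698 : act 7 n225110 = n215752 := d15_2 (iv0 F469177) D225110 F481408
theorem F528699 : act 5 n225110 = n215378 := d17_7 F353983 (iv5 F351056) (iv1 F459473) F459474 (iv4 F276949) (iv5 F469175) D225110 (iv0 F479676) (iv4 F353986)
theorem F528700 : act 4 n225110 = n221583 := d17_9 (iv1 F509711) F477121 (iv1 F401574) D221582 F509703 F480772 (iv0 F474635) (iv5 F469175) D225110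
theorem F528701 : act 3 n214013 = n225110 := d19_19 (iv1 D225110) F469175 F276949 (iv3 F413932) F479719 F479716 (iv4 F417492) F417490 (iv1 F436594) F436591 (iv4 F493595) F493592 F409479 (iv5 F257407) (iv4 F469591) F469588 (iv1 F351522) D202718 (iv4 F473130)
theorem F528702 : act 6 n214011 = n225110 := d21_3 (iv5 D212369) F425395 (iv5 F473121) (iv1 D225110) (iv6 D213142) F239810 (iv1 F120196) D164523 D215047 F478066
theorem F528703 : act 2 n225110 = n215749 := d3_1 F528702 F481394 (iv2 F473116)
def n225111 : Q := act 4 n213159
theorem D225111 : act 4 n213159 = n225111 := rfl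
theorem F528704 : act 2 n225111 = n215859 := d1_1 D225111 F481829 (iv2 F469270)
theorem F528705 : act 3 n225111 = n224791 := d5_1 D225111 F526892 F485534 (iv4 F449561) (iv3 F469271)
theorem F528706 : act 5 n225111 = n222986 := d9_2 D213159 D225111 F517129 F424804 (iv4 F461491) F461492 F459165 (iv5 F502241) (iv4 F502242) F485354 F480000 D215443 (iv4 F503119) F503120 F461605
theorem F528707 : act 6 n225111 = n215858 := d10_2 (iv6 F469272) D225111 F481824
theorem F528708 : act 7 n225111 = n220555 := d11_2 (iv7 F469273) D225111 F504335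
theorem F528709 : act 1 n223239 = n225111 := d15_1 (iv0 F518368) F528708 F504334
def n225112 : Q := act 5 n213163
theorem D225112 : act 5 n213163 = n225112 := rfl
theorem F528710 : act 2 n225112 = n223076 := d2_1 D225112 F517525 F469288
theorem F528711 : act 7 n225112 = n223077 := d13_2 (iv7 F469286) D225112 F517527
theorem F528712 : act 0 n225112 = n213776 := d17_2 (iv1 F469285) D225112 (iv5 D213776) (iv4 D155719) D155720 (iv0 F244733) F313918 (iv0 F316060) (iv4 F278460)
theorem F528713 : act 1 n225112 = n221499 := d17_6 (iv1 F440346) (iv5 F459003) F459007 (iv5 F458989) (iv4 F469287) D225112 F509315 (iv0 F423142) F422765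
def n225113 : Q := act 6 n213167
theorem D225113 : act 6 n213167 = n225113 := rfl
theorem F528714 : act 2 n225113 = n223088 := d3_1 D225113 (iv6 F526063) F526062
theorem F528715 : act 3 n225113 = n213168 := d7_1 D225113 (iv6 F469298) (iv3 F469295)
theorem F528716 : act 4 n225113 = n220156 := d10_1 D225113 F503907 F503904
theorem F528717 : act 7 n225113 = n223089 := d14_2 F469297 D225113 (iv6 D223089) (iv7 F455027) (iv6 F455031)
theorem F528718 : act 0 n225113 = n224540 := d21_4 (iv5 F517511) F517512 F469296 D225113 (iv6 F525539) (iv5 D214049) (iv1 F472587) F472580 (iv6 F504015) (iv1 F504016)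
theorem F528719 : act 5 n216781 = n225113 := d21_2 (iv5 F363547) D216781 (iv6 D225113) (iv1 F526069) F526067 F517014 (iv1 D203553) (iv5 F426861) F455100 (iv1 F455101)
theorem F528720 : act 1 n225113 = n224539 := d17_6 (iv1 F516882) (iv5 D222939) F465836 D225040 F528278 F528719 (iv5 F526000) (iv0 D224629) F511449
def n225114 : Q := act 5 n213168
theorem D225114 : act 5 n213168 = n225114 := rfl
theorem F528721 : act 2 n225114 = n223074 := d2_1 D225114 F517520 (iv2 F469299)
theorem F528722 : act 3 n225114 = n216781 := d6_1 D225114 F528719 F528715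
theorem F528723 : act 6 n225114 = n223055 := d12_2 F469298 D225114 (iv5 D223055) F422851 D202104
theorem F528724 : act 7 n225114 = n223073 := d13_2 F526058 D225114 (iv5 F526059)
theorem F528725 : act 0 n225114 = n223071 := d17_2 (iv1 F526070) D225114 F517511 F455094 (iv5 F404589) (iv0 F454616) F454615 (iv0 F519007) (iv4 F526065)
theorem F528726 : act 1 n225114 = n223072 := d17_6 D220121 F513647 F513645 F454786 (iv4 F469300) D225114 F517514 F503715 F502219
def n225115 : Q := act 5 n213171
theorem D225115 : act 5 n213171 = n225115 := rfl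
theorem F528727 : act 2 n225115 = n213983 := d2_1 D225115 (iv5 D213983) (iv2 F469313)
theorem F528728 : act 3 n225115 = n213173 := d6_1 D225115 (iv5 D213173) D213171
theorem F528729 : act 4 n225115 = n223063 := d9_1 D225115 F517490 (iv4 F493011) F493012 F381265 (iv5 F401169) F401168 (iv5 F422871) (iv4 F472978) (iv5 D213983) (iv4 F393029) F393030 F382658 (iv5 F393841) (iv4 F469316)
theorem F528730 : act 6 n225115 = n223077 := d12_2 (iv6 F469314) D225115 F517527 (iv6 D210841) (iv5 F423286)
theorem F528731 : act 7 n225115 = n223063 := d13_2 (iv7 F469315) D225115 F517490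
theorem F528732 : act 0 n225115 = n213215 := d17_2 F469317 D225115 F469456 (iv4 D194447) (iv5 F158943) F343055 D184379 F363045 D194234
theorem F528733 : act 1 n225115 = n220746 := d17_6 (iv1 F428523) (iv5 F488859) F488860 (iv5 F393841) (iv4 F469316) D225115 (iv5 D220746) (iv0 F393244) (iv4 F226726)
def n225116 : Q := act 4 n213174
theorem D225116 : act 4 n213174 = n225116 := rfl
theorem F528734 : act 2 n225116 = n220281 := d1_1 D225116 F503005 (iv2 F469440)
theorem F528735 : act 5 n225116 = n224890 := d9_2 D213174 D225116 F527436 F460727 (iv4 F413250) (iv5 F469323) (iv4 D213172) D213173 (iv4 F526788) (iv5 D224772) (iv4 D210637) (iv5 D139454) (iv4 F172863) (iv5 F345428) (iv4 F366401)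
theorem F528736 : act 7 n225116 = n223066 := d11_2 (iv7 F469329) D225116 (iv4 D223066)
theorem F528737 : act 0 n225116 = n223719 := d17_0 (iv5 D223719) D223718 (iv5 F526049) F526050 (iv5 D223059) F422865 D213055 (iv0 F469330) D225116
theorem F528738 : act 1 n225116 = n224500 := d18_8 F504152 F504151 F458513 (iv4 F481489) (iv5 F528598) (iv4 D225093) (iv0 F469330) D225116 F525318
theorem F528739 : act 6 n220275 = n225116 := d21_9 (iv5 D223719) D223718 (iv5 F526049) (iv6 F526051) (iv1 F526057) F526056 (iv5 D213053) (iv1 F389389) D220275 F528737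
def n225117 : Q := act 6 n213174
theorem D225117 : act 6 n213174 = n225117 := rfl
theorem F528740 : act 2 n225117 = n215801 := d3_1 D225117 F481632 (iv2 F469440)
theorem F528741 : act 3 n225117 = n213982 := d7_1 D225117 (iv6 D213982) (iv3 F469328)
theorem F528742 : act 4 n225117 = n220275 := d10_1 D225117 F528739 (iv4 D225116)
theorem F528743 : act 5 n225117 = n215765 := d12_1 D225117 F481476 (iv5 F458001) F412437 D213174
theorem F528744 : act 7 n225117 = n215803 := d14_2 (iv7 F469329) D225117 F481640 F472755 F423009
theorem F528745 : act 0 n225117 = n216647 := d21_10 (iv5 D216647) F290093 D215791 (iv6 F517422) (iv1 F517859) (iv6 F517860) F517483 (iv1 F428259) D213174 D225117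
theorem F528746 : act 0 n216649 = n225117 := d21_4 (iv5 D194084) (iv1 F391132) D220514 F504136 (iv6 D225117) (iv5 D213174) (iv1 D152779) D152781 D213179 F469345
def n225118 : Q := act 4 n213175
theorem D225118 : act 4 n213175 = n225118 := rfl
theorem F528747 : act 2 n225118 = n213178 := d1_1 D225118 (iv4 D213178) (iv2 F469331)
theorem F528748 : act 3 n225118 = n223146 := d5_1 D225118 (iv4 F519600) F519599 (iv4 F472155) F472154
theorem F528749 : act 5 n225118 = n224888 := d9_2 D213175 D225118 (iv4 D224888) (iv5 F460720) F413530 (iv5 D153178) (iv4 F187147) D203427 D223455 (iv5 F527425) (iv4 D224887) F460713 (iv4 F492675) F492674 F465885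
theorem F528750 : act 6 n225118 = n219764 := d10_2 F485018 D225118 F500503
theorem F528751 : act 7 n225118 = n223143 := d11_2 F517482 D225118 F517861
theorem F528752 : act 0 n225118 = n224552 := d17_0 F525600 F481886 (iv5 F528598) (iv4 D225093) (iv5 D213055) (iv0 F400992) (iv5 F455234) (iv0 F469332) D225118
theorem F528753 : act 1 n225118 = n224550 := d18_6 F472528 (iv4 D213273) (iv1 F465888) F465885 D213175 D225118 F525591 F501234 F481846
def n225119 : Q := act 4 n213177
theorem D225119 : act 4 n213177 = n225119 := rfl
theorem F528754 : act 2 n225119 = n224639 := d1_1 D225119 F526046 F469339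
theorem F528755 : act 3 n225119 = n224640 := d5_1 D225119 F526050 F517476 (iv4 F517464) F517463
theorem F528756 : act 5 n225119 = n215824 := d9_2 (iv5 F469340) D225119 (iv4 D215824) (iv5 F457939) F457938 F457523 F400181 D202090 D223061 F517486 (iv4 D215822) F447659 (iv4 F513074) F513073 F424133
theorem F528757 : act 7 n225119 = n224640 := d11_2 F517478 D225119 F526050
theorem F528758 : act 0 n225119 = n224501 := d17_0 F525321 (iv1 F527439) (iv5 F528735) (iv4 D225116) (iv5 D213174) F428259 (iv5 F517483) F517481 D225119
theorem F528759 : act 1 n225119 = n224641 := d18_6 F459730 F459729 (iv1 F424134) F424133 (iv5 F469340) D225119 F526054 (iv0 F524934) (iv5 D219929)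
def n225120 : Q := act 0 n213178
theorem D225120 : act 0 n213178 = n225120 := rfl
theorem F528760 : act 5 n225120 = n215819 := d17_1 D225120 (iv1 D215819) D215820 (iv4 F517472) (iv5 D223058) (iv0 F422863) (iv5 F469340) (iv0 D213177) D213178
theorem F528761 : act 4 n225120 = n220109 := d18_3 F424166 D213178 D225120 (iv5 D220109) (iv4 D192940) (iv0 F365476) F206035 (iv0 F366268) D202090
theorem F528762 : act 2 n224552 = n225120 := d15_3 (iv0 D225120) (iv0 F516527) D224552
theorem F528763 : act 1 n223143 = n225120 := d15_0 (iv0 D225120) (iv7 F519534) F519533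
theorem F528764 : act 7 n225120 = n224550 := d15_2 (iv0 F519741) F528763 F525590
theorem F528765 : act 3 n224551 = n225120 := d19_19 (iv1 F528763) (iv5 F519739) F519738 (iv3 F458283) (iv1 F469039) (iv5 D213105) (iv4 F419787) (iv3 D201272) (iv1 F237966) (iv5 F401146) F401147 (iv3 F424128) F462714 F462712 (iv4 F413414) F365299 (iv1 F446926) (iv5 F454092) (iv4 F525595)
theorem F528766 : act 6 n225120 = n224616 := d7_2 F525976 F528765 (iv3 F525975)
def n225121 : Q := act 1 n213179
theorem D225121 : act 1 n213179 = n225121 := rfl
theorem F528767 : act 1 n225121 = n220509 := d15_1 D225121 F504119 F485017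
theorem F528768 : act 7 n225121 = n215791 := d15_2 (iv0 F469345) D225121 F481595
theorem F528769 : act 5 n225121 = n215763 := d17_7 (iv1 F157185) (iv5 D88228) F289619 D99867 D192216 (iv5 F469342) D225121 F481465 (iv4 D193831)
theorem F528770 : act 4 n225121 = n220216 := d17_9 F502699 (iv5 D213053) (iv1 F389389) D220275 (iv4 F528742) F528743 F481479 (iv5 F469342) D225121
theorem F528771 : act 3 n224651 = n225121 := d19_19 (iv1 D225121) F469342 (iv4 D192216) F153774 D100741 (iv5 F368446) F368445 D191256 (iv1 F382775) (iv5 F381219) (iv4 F412985) F412984 F223581 (iv5 F412554) (iv4 F514059) F514060 (iv1 F429062) D223112 (iv4 F526111)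
theorem F528772 : act 2 n215796 = n225121 := d1_3 F528770 F502697 F500701
def n225122 : Q := act 4 n213183
theorem D225122 : act 4 n213183 = n225122 := rfl
theorem F528773 : act 2 n225122 = n219451 := d1_1 D225122 F519055 (iv2 F519057)
theorem F528774 : act 3 n225122 = n215762 := d5_1 D225122 F481459 F471455 D222370 F513844
theorem F528775 : act 6 n225122 = n215761 := d10_2 F472795 D225122 F481456
theorem F528776 : act 7 n225122 = n225103 := d11_2 (iv7 F519050) D225122 F528653
theorem F528777 : act 1 n225122 = n225104 := d18_6 F520954 F520952 F511980 (iv4 F517365) F517366 D225122 F528660 (iv0 F481631) D216685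
theorem F528778 : act 5 n219816 = n225122 := d19_1 F518871 (iv4 D225122) (iv3 F513844) F513845 (iv5 F485314) F484418 D216692 F498498 (iv5 F427412) (iv4 F519236) (iv3 F527758) F527762 (iv5 F513300) F513299 F488305 F480781 (iv5 F504780) (iv4 D220647) (iv3 F504778)
theorem F528779 : act 1 n223461 = n225122 := d15_0 F528777 (iv7 D225104) (iv2 F519563)
def n225123 : Q := act 4 n213188
theorem D225123 : act 4 n213188 = n225123 := rfl
theorem F528780 : act 3 n225123 = n216632 := d5_1 D225123 F485270 (iv3 F519518) F519519 F482187
theorem F528781 : act 7 n225123 = n219352 := d11_2 (iv7 F517344) D225123 (iv4 F517340)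
theorem F528782 : act 0 n225123 = n220474 := d18_2 (iv1 F469375) D225123 F503941 F469494 (iv4 F505472) F505473 (iv4 F458771) (iv0 D210782) D210783
theorem F528783 : act 1 n225123 = n216635 := d18_6 F426974 F245492 D197490 (iv4 F404541) D213188 D225123 F485899 (iv0 F519023) (iv5 D223355)
theorem F528784 : act 6 n225123 = n223437 := d21_5 F485584 F466820 F466819 (iv6 F485285) (iv1 F528783) (iv5 D223437) F428046 D212620 F466734 F485587
def n225124 : Q := act 6 n213188
theorem D225124 : act 6 n213188 = n225124 := rfl
theorem F528785 : act 3 n225124 = n223450 := d7_1 D225124 (iv6 F519517) F482187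
theorem F528786 : act 4 n225124 = n223437 := d10_1 D225124 (iv6 F528784) (iv4 D225123)
theorem F528787 : act 5 n225124 = n223152 := d12_1 D225124 F517897 (iv5 D202732) F404542 D213188
theorem F528788 : act 7 n225124 = n213957 := d14_2 (iv7 F517344) D225124 (iv6 D213957) (iv7 F472402) (iv6 F517341)
theorem F528789 : act 0 n216784 = n225124 := d17_2 (iv1 F526040) F526037 F528787 F517896 F502412 F388542 (iv5 F453902) (iv0 F516003) (iv4 F525581)
theorem F528790 : act 1 n216786 = n225124 := d17_6 F454090 (iv5 D209543) (iv1 D136592) D136593 D209546 (iv5 F485911) F528787 (iv0 F517898) F467299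
def n225125 : Q := act 6 n213189
theorem D225125 : act 6 n213189 = n225125 := rfl
theorem F528791 : act 2 n225125 = n223721 := d3_1 D225125 (iv6 F520910) (iv2 F519026)
theorem F528792 : act 3 n225125 = n215281 := d7_1 D225125 (iv6 F504076) F504081
theorem F528793 : act 4 n225125 = n216114 := d10_1 D225125 (iv6 F504092) F504090
theorem F528794 : act 7 n225125 = n215800 := d14_2 F517604 D225125 F526500 (iv7 D224719) (iv6 F517603)
theorem F528795 : act 0 n225125 = n213961 := d21_4 (iv5 F481676) F458762 (iv5 F469376) D225125 (iv6 D213961) F245337 (iv1 F245063) D213853 (iv6 F517341) (iv1 F517342)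
theorem F528796 : act 0 n225058 = n225125 := d21_4 F503967 D209866 (iv5 F525569) (iv6 F528392) (iv6 D225125) F469376 (iv1 D202055) D202056 F422815 D202067
def n225126 : Q := act 4 n213190
theorem D225126 : act 4 n213190 = n225126 := rfl
theorem F528797 : act 3 n225126 = n216436 := d5_1 D225126 (iv4 F500631) F500630 F463020 F473074
theorem F528798 : act 6 n225126 = n216434 := d10_2 F500637 D225126 (iv4 F500636)
theorem F528799 : act 7 n225126 = n223722 := d11_2 F519028 D225126 F520913
theorem F528800 : act 0 n225126 = n224797 := d18_2 (iv1 F469378) D225126 (iv4 D224797) F458682 (iv4 F468731) (iv0 F468735) (iv4 F404541) F320445 D156963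
theorem F528801 : act 1 n225126 = n216681 := d18_6 F426965 (iv4 F424577) (iv1 D202575) (iv4 F422811) (iv5 F469379) D225126 F485457 F481808 (iv5 F481805)
def n225127 : Q := act 5 n213193
theorem D225127 : act 5 n213193 = n225127 := rfl
theorem F528802 : act 2 n225127 = n213963 := d2_1 D225127 (iv5 D213963) (iv2 F469391)
theorem F528803 : act 3 n225127 = n213194 := d6_1 D225127 (iv5 D213194) D213193
theorem F528804 : act 4 n225127 = n223138 := d9_1 D225127 F517841 (iv4 F459960) (iv5 D211062) F404739 (iv5 F391275) (iv4 F472412) (iv5 F472416) (iv4 D210134) (iv5 D137648) (iv4 F164832) D196404 (iv4 F400601) (iv5 F385973) (iv4 F469392)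
theorem F528805 : act 7 n225127 = n223731 := d13_2 F481840 D225127 F520955
theorem F528806 : act 0 n225127 = n222993 := d17_2 F469394 D225127 (iv5 D222993) D222992 F517157 (iv0 F511223) (iv5 F502695) (iv0 F502696) F472522
theorem F528807 : act 1 n225127 = n222991 := d17_6 (iv1 F365136) F198919 D179770 (iv5 F385973) (iv4 F469392) D225127 (iv5 D222991) (iv0 D201981) F179570
def n225128 : Q := act 6 n213194
theorem D225128 : act 6 n213194 = n225128 := rfl
theorem F528808 : act 2 n225128 = n216780 := d3_1 D225128 (iv6 D216780) (iv2 F469395)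
theorem F528809 : act 4 n225128 = n216767 := d10_1 D225128 F485853 F469398
theorem F528810 : act 5 n225128 = n223154 := d12_1 D225128 F517905 (iv5 D202348) (iv6 F348347) D213194
theorem F528811 : act 7 n225128 = n213964 := d14_2 F519022 D225128 (iv6 D213964) (iv7 F472420) (iv6 F519021)
theorem F528812 : act 0 n225128 = n216782 := d21_10 (iv5 F485907) D224539 (iv5 F526000) (iv6 F526002) F502635 F473205 (iv5 D156225) (iv1 F423709) D213194 D225128
theorem F528813 : act 0 n216781 = n225128 := d17_0 F528810 (iv1 F517906) (iv5 F472990) F472989 (iv5 D212440) D212439 D225038 (iv0 F528276) F528278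
def n225129 : Q := act 0 n213204
theorem D225129 : act 0 n213204 = n225129 := rfl
theorem F528814 : act 5 n225129 = n222973 := d17_3 (iv1 F517427) F517425 D225129 (iv4 D222973) (iv5 D201956) D201955 D222970 (iv0 F517176) F517173
theorem F528815 : act 4 n225129 = n213466 := d18_3 (iv1 D217513) (iv4 F469434) D225129 (iv5 F470533) F426599 D212491 (iv4 F466061) F415449 (iv5 F489261)
theorem F528816 : act 3 n225129 = n216611 := d20_5 (iv4 D191494) (iv1 F277446) D177882 (iv3 F469433) D225129 (iv4 D216611) (iv1 D185042) (iv4 F287433) (iv3 F364069) (iv1 F383576)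
theorem F528817 : act 1 n220628 = n225129 := d15_0 (iv0 D225129) (iv7 F469435) D220628
theorem F528818 : act 2 n220627 = n225129 := d0_5 F528816 (iv2 F485373) (iv3 F504145) F504144 F504698
theorem F528819 : act 7 n220626 = n225129 := d8_0 F528816 (iv7 F485384) (iv3 F504694)
def n225130 : Q := act 1 n213204
theorem D225130 : act 1 n213204 = n225130 := rfl
theorem F528820 : act 1 n225130 = n220628 := d15_1 D225130 F504704 (iv2 F469432)
theorem F528821 : act 7 n225130 = n220627 := d15_2 (iv0 D225129) D225130 F528818
theorem F528822 : act 5 n225130 = n220513 := d17_7 (iv1 F432995) (iv5 F432993) (iv1 F400985) D202078 D223048 F517425 D225130 (iv0 F517445) (iv4 D223052)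
theorem F528823 : act 4 n225130 = n213465 := d18_7 D153801 F355103 D213658 F471485 F374138 (iv4 F469434) D225130 (iv0 D213465) (iv5 D153803)
theorem F528824 : act 3 n220514 = n225130 := d19_19 (iv1 D225130) (iv5 F517425) (iv4 D223048) (iv3 F517421) (iv1 F517859) F517858 (iv4 D220544) F447578 (iv1 D102480) F74735 (iv4 F294987) (iv3 F289054) D216907 F486496 (iv4 F500435) (iv3 D219754) F385961 D193885 (iv4 F504133)
theorem F528825 : act 2 n225130 = n220626 := d0_1 F528824 F504694 F485383 (iv3 F500473) (iv2 F504131)
theorem F528826 : act 6 n225130 = n216609 := d7_2 (iv6 F504136) F528824 (iv3 F500473)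
def n225131 : Q := act 4 n213205
theorem D225131 : act 4 n213205 = n225131 := rfl
theorem F528827 : act 2 n225131 = n213207 := d1_1 D225131 (iv4 D213207) (iv2 F469436)
theorem F528828 : act 3 n225131 = n224687 := d5_1 D225131 F526311 (iv3 F502224) (iv4 F517721) (iv3 F517725)
theorem F528829 : act 5 n225131 = n215821 := d9_2 D213205 D225131 F481696 F343252 F412537 F412534 F241495 D213055 D225093 F528598 F481489 (iv5 F343237) (iv4 F412540) (iv5 F412541) F386748
theorem F528830 : act 7 n225131 = n215820 := d11_2 F517471 D225131 (iv4 F517472)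
theorem F528831 : act 0 n225131 = n224633 := d17_0 (iv5 F527174) F527176 F526637 (iv4 D213178) (iv5 D152781) D152779 D213174 (iv0 F469437) D225131
theorem F528832 : act 1 n225131 = n224746 := d18_6 (iv1 D219927) F386744 D192454 F386748 D213205 D225131 F526642 F525996 F525995
theorem F528833 : act 6 n223134 = n225131 := d21_3 F423412 (iv1 F423390) D223134 F528831 (iv6 F526017) (iv5 D219802) F386273 (iv5 F391305) (iv6 F456293) (iv1 F456296)
def n225132 : Q := act 6 n213205
theorem D225132 : act 6 n213205 = n225132 := rfl
theorem F528834 : act 2 n225132 = n213208 := d3_1 D225132 (iv6 D213208) (iv2 F469436)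
theorem F528835 : act 4 n225132 = n223134 := d10_1 D225132 F528833 (iv4 D225131)
theorem F528836 : act 5 n225132 = n223791 := d12_1 D225132 F521297 F462389 F400912 D213205
theorem F528837 : act 7 n223139 = n225132 := d13_0 F528836 (iv7 D223791) (iv5 F517847)
theorem F528838 : act 0 n220551 = n225132 := d17_2 F504283 D220551 F528836 F521296 F433641 (iv0 F375644) F370513 D193875 D220544
def n225133 : Q := act 0 n213207
theorem D225133 : act 0 n213207 = n225133 := rfl
theorem F528839 : act 5 n225133 = n223717 := d17_1 D225133 (iv1 F527433) (iv5 F528749) (iv4 D225118) (iv5 D213175) F428251 (iv5 F469439) (iv0 D213206) D213207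
theorem F528840 : act 3 n225133 = n223150 := d20_5 F455095 F453898 D224537 F525529 D225133 F517888 (iv1 F485700) F485696 F467217 (iv1 F455102)
theorem F528841 : act 6 n225133 = n220550 := d21_5 F481811 (iv1 F423396) D202257 (iv6 F469445) D225133 F504316 F433565 (iv5 F500491) (iv6 F500497) F481814
theorem F528842 : act 2 n224633 = n225133 := d15_3 (iv0 D225133) (iv0 F525983) (iv7 F526016)
theorem F528843 : act 1 n215820 = n225133 := d15_0 (iv0 D225133) (iv7 F528597) F528594
theorem F528844 : act 7 n225133 = n224746 := d15_2 (iv0 F525984) F528843 F526641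
def n225134 : Q := act 7 n213208
theorem D225134 : act 7 n213208 = n225134 := rfl
theorem F528845 : act 2 n225134 = n223139 := d4_1 D225134 F528837 F528834
theorem F528846 : act 3 n225134 = n213211 := d8_1 D225134 (iv7 D213211) (iv3 F469442)
theorem F528847 : act 4 n225134 = n223133 := d11_1 D225134 F517819 F469444
theorem F528848 : act 5 n225134 = n223005 := d13_1 D225134 F517214 (iv5 F469443)
theorem F528849 : act 6 n225134 = n216600 := d14_1 D225134 (iv7 F527888) F527887 F468804 D213208
theorem F528850 : act 1 n220551 = n225134 := d15_1 (iv0 F528838) (iv7 D225134) (iv2 F528834)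
def n225135 : Q := act 5 n213219
theorem D225135 : act 5 n213219 = n225135 := rfl
theorem F528851 : act 2 n225135 = n223185 := d2_1 D225135 F518071 (iv2 F469470)
theorem F528852 : act 4 n225135 = n222970 := d9_1 D225135 (iv5 D222970) (iv4 F422509) (iv5 F360260) F241656 D153803 D213467 (iv5 F524602) F524605 (iv5 D222969) (iv4 F422504) (iv5 F432323) F432322 (iv5 F432578) (iv4 F469471)
theorem F528853 : act 6 n225135 = n214226 := d12_2 D213219 D225135 (iv5 D214226) F247900 (iv5 F240055)
theorem F528854 : act 7 n225135 = n223184 := d13_2 (iv7 F469472) D225135 F518069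
theorem F528855 : act 0 n225135 = n223724 := d17_2 F504766 D225135 F520923 (iv4 D220498) (iv5 F411698) F492314 F492308 F489268 D220642
def n225136 : Q := act 5 n213220
theorem D225136 : act 5 n213220 = n225136 := rfl
theorem F528856 : act 2 n225136 = n220109 := d2_1 D225136 (iv5 D220109) (iv2 F469473)
theorem F528857 : act 3 n225136 = n213221 := d6_1 D225136 (iv5 D213221) D213220
theorem F528858 : act 4 n225136 = n224552 := d9_1 D225136 F525600 (iv4 D215875) (iv5 F386057) F386056 F374511 (iv4 F386744) D219929 (iv4 F525591) F525592 (iv4 D215873) (iv5 F449316) (iv4 F469677) F469676 (iv4 F469474)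
theorem F528859 : act 7 n225136 = n224546 := d13_2 F501229 D225136 F525574
theorem F528860 : act 0 n225136 = n215863 := d17_2 F469475 D225136 F481846 F472526 F449993 F513078 F513073 F424134 (iv4 F459729)
theorem F528861 : act 1 n225136 = n224431 := d17_6 (iv1 F465888) (iv5 F492674) (iv1 F492680) F469676 (iv4 F469474) D225136 F524932 (iv0 F481537) (iv4 D213273)
def n225137 : Q := act 3 n213225
theorem D225137 : act 3 n213225 = n225137 := rfl
theorem F528862 : act 4 n225137 = n224633 := d5_2 (iv4 F469489) D225137 (iv3 D224633) (iv4 D209847) (iv3 F455123)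
theorem F528863 : act 5 n225137 = n214006 := d6_2 F469490 D225137 (iv3 D214006)
theorem F528864 : act 0 n225137 = n224627 := d19_4 (iv1 D209844) D209846 (iv4 F469489) D225137 F525995 F508791 (iv3 F508792) (iv1 F492617) (iv5 D188952) F143287 (iv3 F342489) (iv1 F360007) F351117 (iv4 F459444) F459443 (iv1 F484745) (iv5 F496697) F496696 (iv3 F473102)
theorem F528865 : act 0 n223733 = n225137 := d20_4 (iv4 F481620) (iv1 F481623) (iv4 F433038) (iv3 F520963) (iv3 D225137) F469489 (iv1 F504521) (iv4 F517334) F519714 (iv1 D223488)
theorem F528866 : act 6 n225137 = n215805 := d21_5 F481799 (iv1 F517137) (iv5 F517143) D223733 F528865 (iv5 D215805) (iv1 F391246) F449643 F449641 F481802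
def n225138 : Q := act 6 n213225
theorem D225138 : act 6 n213225 = n225138 := rfl
theorem F528867 : act 3 n225138 = n215805 := d7_1 D225138 (iv6 F528866) (iv3 D225137)
theorem F528868 : act 4 n225138 = n224632 := d10_1 D225138 (iv6 D224632) (iv4 F469489)
theorem F528869 : act 5 n225138 = n213241 := d12_1 D225138 (iv6 F473083) (iv5 F473081) (iv6 D214007) F469490
theorem F528870 : act 7 n216685 = n225138 := d13_0 F528869 (iv7 F473086) D216685
def n225139 : Q := act 6 n213226
theorem D225139 : act 6 n213226 = n225139 := rfl
theorem F528871 : act 2 n225139 = n224511 := d3_1 D225139 (iv6 F528603) (iv2 F528605)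
theorem F528872 : act 3 n225139 = n223978 := d7_1 D225139 F522333 (iv3 F491129)
theorem F528873 : act 4 n225139 = n216743 := d10_1 D225139 (iv6 F517387) F517383
theorem F528874 : act 5 n225139 = n214058 := d12_1 D225139 (iv6 F473283) F438126 (iv6 F429075) F469491
theorem F528875 : act 0 n225139 = n220209 := d21_4 (iv5 F472476) (iv1 F472478) F469491 D225139 (iv6 D220209) (iv5 D193128) F155911 D192449 (iv6 F454082) (iv1 F469525)
theorem F528876 : act 0 n216778 = n225139 := d21_4 (iv5 D115307) D115305 (iv5 F359522) D216778 (iv6 D225139) (iv5 F469491) (iv1 D156179) D156180 F245447 (iv1 F179575)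
theorem F528877 : act 7 n224805 = n225139 := d13_0 F528874 (iv7 F518028) (iv5 F526965)
def n225140 : Q := act 6 n213232
theorem D225140 : act 6 n213232 = n225140 := rfl
theorem F528878 : act 2 n225140 = n220508 := d3_1 D225140 (iv6 F505032) F505028
theorem F528879 : act 4 n225140 = n213233 := d10_1 D225140 (iv6 D213233) D213232
theorem F528880 : act 0 n225140 = n223044 := d21_4 F517490 (iv1 F455190) (iv5 F469511) D225140 (iv6 F517409) (iv5 F472957) (iv1 F516940) (iv5 F520675) F520679 (iv1 F517491)
theorem F528881 : act 0 n223048 = n225140 := d21_4 F509315 F427009 D223359 F519042 (iv6 D225140) F469511 F393238 D213983 F472976 F509316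
def n225141 : Q := act 6 n213234
theorem D225141 : act 6 n213234 = n225141 := rfl
theorem F528882 : act 2 n225141 = n215842 := d3_1 D225141 (iv6 D215842) F469521
theorem F528883 : act 3 n225141 = n223184 := d7_1 D225141 F527189 (iv3 F527191)
theorem F528884 : act 4 n225141 = n222360 := d10_1 D225141 F513794 (iv4 F469518)
theorem F528885 : act 5 n225141 = n223054 := d12_1 D225141 (iv6 F520265) F520264 F461066 F469517
theorem F528886 : act 0 n225141 = n220498 := d21_10 (iv5 F520923) F524606 F524602 F470538 D213473 (iv6 F470559) F469520 D210759 F469517 D225141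
theorem F528887 : act 0 n220497 = n225141 := d21_4 (iv5 D203655) (iv1 F422678) D223001 (iv6 F517198) (iv6 D225141) (iv5 F469517) (iv1 F458706) (iv5 F457392) (iv6 F457389) F438141
def n225142 : Q := act 5 n213239
theorem D225142 : act 5 n213239 = n225142 := rfl
theorem F528888 : act 2 n225142 = n223725 := d2_1 D225142 (iv5 D223725) (iv2 F469535)
theorem F528889 : act 3 n225142 = n213242 := d6_1 D225142 (iv5 D213242) (iv3 F469536)
theorem F528890 : act 4 n225142 = n215921 := d9_1 D225142 (iv5 D215921) F278460 F307601 (iv4 F132706) D181152 D216115 F483029 F469293 (iv5 D213164) F239943 (iv5 F209428) (iv4 F348254) D204314 (iv4 F469537)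
theorem F528891 : act 6 n225142 = n224848 := d12_2 D213239 D225142 F527194 F472498 F366407
theorem F528892 : act 7 n225142 = n223082 := d13_2 (iv7 F469538) D225142 F517556
theorem F528893 : act 0 n225142 = n224852 := d17_2 F528403 D225142 F527216 (iv4 D224212) (iv5 D207327) F348275 (iv5 F484124) F484126 D225060
theorem F528894 : act 1 n225142 = n223186 := d17_6 F429714 (iv5 D123511) D123509 D204314 (iv4 F469537) D225142 (iv5 F521355) F521357 (iv4 D223515)
def n225143 : Q := act 5 n213240
theorem D225143 : act 5 n213240 = n225143 := rfl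
theorem F528895 : act 2 n225143 = n216685 := d2_1 D225143 (iv5 D216685) F473087
theorem F528896 : act 3 n225143 = n223801 := d6_1 D225143 F521355 F518074
theorem F528897 : act 6 n225143 = n224805 := d12_2 (iv6 F518024) D225143 F526965 (iv6 D223176) D223175
theorem F528898 : act 4 n225143 = n213609 := d17_4 F485157 (iv5 D213242) D213240 D225143 (iv5 F526817) (iv0 F526820) (iv5 D220060) (iv0 F485159) F485158
def n225144 : Q := act 5 n213273
theorem D225144 : act 5 n213273 = n225144 := rfl
theorem F528899 : act 2 n225144 = n225137 := d2_1 D225144 F528863 F473075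
theorem F528900 : act 3 n225144 = n217873 := d6_1 D225144 (iv5 D217873) (iv3 F469659)
theorem F528901 : act 7 n225144 = n219886 := d13_2 (iv7 F469661) D225144 (iv5 D219886)
theorem F528902 : act 4 n225144 = n225133 := d16_2 D213273 D225144 F528839 (iv4 D223717) (iv5 D204588) (iv4 F412552) F412553 F412549 F412542
theorem F528903 : act 1 n225144 = n225096 := d17_6 (iv1 F388283) F412934 (iv1 D199635) F370338 D213273 D225144 (iv5 D225096) F501231 F501228
def n225145 : Q := act 5 n213274
theorem D225145 : act 5 n213274 = n225145 := rfl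
theorem F528904 : act 2 n225145 = n219886 := d2_1 D225145 (iv5 D219886) (iv2 F469662)
theorem F528905 : act 3 n225145 = n225094 := d6_1 D225145 F528601 (iv3 F472472)
theorem F528906 : act 4 n225145 = n224624 := d9_1 D225145 F525981 F512008 F406647 (iv4 F173049) F370338 D213273 D225144 F528902 F528839 (iv4 D223717) (iv5 D204588) (iv4 F412552) F412553 D213274
theorem F528907 : act 6 n225145 = n222550 := d12_2 F469663 D225145 (iv5 D222550) (iv6 D200105) D200104
theorem F528908 : act 7 n225145 = n225137 := d13_2 F473076 D225145 F528863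
theorem F528909 : act 0 n225145 = n225096 := d17_2 (iv1 F481538) D225145 (iv5 D225096) F468832 F424061 F413253 (iv5 F469323) (iv0 F469324) (iv4 F481536)
def n225146 : Q := act 6 n213305
theorem D225146 : act 6 n213305 = n225146 := rfl
theorem F528910 : act 2 n225146 = n219417 := d3_1 D225146 (iv6 D219417) (iv2 F469822)
theorem F528911 : act 3 n225146 = n213308 := d7_1 D225146 (iv6 D213308) (iv3 F469823)
theorem F528912 : act 4 n225146 = n223742 := d10_1 D225146 F521005 (iv4 F469824)
theorem F528913 : act 5 n225146 = n218226 := d12_1 D225146 F492825 F434205 (iv6 F387290) D213305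
theorem F528914 : act 7 n225146 = n216264 := d14_2 (iv7 F469825) D225146 (iv6 D216264) F470257 (iv6 D213404)
theorem F528915 : act 0 n225146 = n224368 := d21_10 (iv5 D224368) (iv1 D208463) D208464 F449472 D217178 (iv6 F487808) F383470 (iv1 F306625) D213305 D225146
theorem F528916 : act 0 n216810 = n225146 := d21_4 F383435 (iv1 F285754) D185523 D216810 (iv6 D225146) (iv5 D213305) F306624 D184240 F286170 D191419
def n225147 : Q := act 4 n213323
theorem D225147 : act 4 n213323 = n225147 := rfl
theorem F528917 : act 2 n225147 = n223400 := d1_1 D225147 F519275 (iv2 F469924)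
theorem F528918 : act 3 n225147 = n223399 := d5_1 D225147 F519273 F464082 (iv4 F241314) (iv3 F469925)
theorem F528919 : act 6 n225147 = n219897 := d10_2 F505193 D225147 (iv4 F505191)
theorem F528920 : act 7 n225147 = n223399 := d11_2 (iv7 F469926) D225147 F519273
theorem F528921 : act 0 n225147 = n213366 := d18_2 (iv1 F469928) D225147 F470102 F467579 F404139 (iv0 D154728) (iv4 F242902) D213695 F471676
theorem F528922 : act 1 n225147 = n223402 := d18_6 F502112 F438390 (iv1 D154700) (iv4 F241311) D213323 D225147 (iv4 F519325) F519328 (iv5 F502110)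
def n225148 : Q := act 6 n213328
theorem D225148 : act 6 n213328 = n225148 := rfl
theorem F528923 : act 2 n225148 = n224593 := d3_1 D225148 F525830 F483149
theorem F528924 : act 3 n225148 = n217643 := d7_1 D225148 F489909 F478817
theorem F528925 : act 4 n225148 = n216857 := d10_1 D225148 (iv6 D216857) (iv4 F469945)
theorem F528926 : act 5 n225148 = n217641 := d12_1 D225148 F489903 (iv5 F471523) F444405 D213328
theorem F528927 : act 7 n225148 = n223430 := d14_2 (iv7 F469944) D225148 F519415 (iv7 D220079) F388111
theorem F528928 : act 0 n225148 = n219418 := d21_4 (iv5 D191728) F366855 D213328 D225148 F498799 F460960 (iv1 F460962) D213773 F472032 (iv1 F469947)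
theorem F528929 : act 0 n225085 = n225148 := d21_4 (iv5 D214532) (iv1 F372527) (iv5 F483302) (iv6 F528550) (iv6 D225148) (iv5 D213328) (iv1 D153534) D153535 (iv6 F469940) (iv1 F475659)
def n225149 : Q := act 3 n213351
theorem D225149 : act 3 n213351 = n225149 := rfl
theorem F528930 : act 2 n225149 = n220593 := d0_1 D225149 F504508 F498982 (iv3 F498980) (iv2 F470051)
theorem F528931 : act 4 n225149 = n224921 := d5_2 D213351 D225149 F527609 (iv4 F470039) F470038
theorem F528932 : act 6 n225149 = n214434 := d7_2 (iv6 F470052) D225149 F475165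
theorem F528933 : act 7 n225149 = n220588 := d8_2 (iv7 F470054) D225149 F504484
theorem F528934 : act 0 n225149 = n220591 := d20_4 F527727 (iv1 D213350) D213351 D225149 (iv3 F504497) (iv4 D214805) F383288 (iv4 F455904) (iv3 F519139) F527732
theorem F528935 : act 0 n220590 = n225149 := d20_4 (iv4 D166054) D166052 (iv4 F456058) (iv3 F504492) (iv3 D225149) (iv4 D213351) (iv1 F397353) (iv4 F462555) F462554 F342553
def n225150 : Q := act 4 n213356
theorem D225150 : act 4 n213356 = n225150 := rfl
theorem F528936 : act 3 n225150 = n216035 := d5_1 D225150 F482617 F454516 D209657 (iv3 F470081)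
theorem F528937 : act 5 n225150 = n216034 := d16_1 D225150 F504163 F504160 (iv4 F458616) (iv5 F460119) F460118 D213357 (iv7 F527358) F527355
def n225151 : Q := act 4 n213357
theorem D225151 : act 4 n213357 = n225151 := rfl
theorem F528938 : act 5 n225151 = n224364 := d9_2 D213357 D225151 F524538 (iv5 D208750) (iv4 F221646) (iv5 F407036) (iv4 F407039) D213356 D225150 F528937 F504163 F504160 (iv4 F458616) (iv5 F460119) F460118
theorem F528939 : act 6 n225151 = n225073 := d10_2 (iv6 F470083) D225151 (iv4 D225073)
def n225152 : Q := act 0 n213358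
theorem D225152 : act 0 n213358 = n225152 := rfl
theorem F528940 : act 5 n225152 = n219899 := d17_3 F454429 D213358 D225152 F505729 F505727 F484747 F460114 F460112 (iv4 F454426)
theorem F528941 : act 1 n213363 = n225152 := d15_0 (iv0 D225152) (iv7 F521759) F521756
theorem F528942 : act 3 n219900 = n225152 := d19_19 (iv1 F528941) F470091 F241393 F109227 (iv1 F109093) D153516 F241271 (iv3 F439994) (iv1 F457545) (iv5 D210440) (iv4 F392899) F392898 (iv1 D107695) D107696 D197133 F403193 F386693 D195506 (iv4 F501104)
theorem F528943 : act 6 n213359 = n225152 := d21_3 (iv5 D212807) D212804 F470087 (iv1 F528941) (iv6 F470438) (iv5 D213445) (iv1 F407865) D222113 (iv6 F527357) F527359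
theorem F528944 : act 2 n225152 = n213359 := d0_1 F528942 F470086 (iv2 F422565) (iv3 F514641) F514640
theorem F528945 : act 7 n213360 = n225152 := d15_2 (iv0 D213359) D213360 F528944
def n225153 : Q := act 1 n213358
theorem D225153 : act 1 n213358 = n225153 := rfl
theorem F528946 : act 1 n225153 = n213363 := d15_1 D225153 (iv7 D213363) (iv2 F470084)
theorem F528947 : act 7 n225153 = n213359 := d15_2 (iv0 D225152) D225153 (iv2 F528944)
theorem F528948 : act 5 n225153 = n221694 := d17_7 (iv1 F400711) (iv5 D179798) (iv1 F360789) (iv5 D153774) (iv4 F241390) D213358 D225153 (iv0 F510342) F427294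
theorem F528949 : act 3 n221695 = n225153 := d19_19 (iv1 D225153) (iv5 D213358) F241390 (iv3 F241277) (iv1 F373214) (iv5 F373213) F373212 (iv3 F177976) (iv1 F177974) (iv5 D54859) (iv4 F42494) (iv3 D26338) (iv1 D12562) D12563 D26343 (iv3 F320620) (iv1 F169289) (iv5 F407882) (iv4 F510344)
theorem F528950 : act 2 n213360 = n225153 := d2_3 F528948 F510338 F510847
def n225154 : Q := act 4 n213358
theorem D225154 : act 4 n213358 = n225154 := rfl
theorem F528951 : act 2 n225154 = n213361 := d1_1 D225154 (iv4 D213361) (iv2 F470084)
theorem F528952 : act 5 n225154 = n219443 := d16_1 D225154 F498897 F498588 F470450 F241634 (iv4 F241393) (iv5 F470091) (iv7 D213363) (iv2 F470084)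
theorem F528953 : act 0 n225154 = n216035 := d18_2 (iv1 D225153) D225154 F482617 (iv5 D209655) F219988 D196446 (iv4 F467585) (iv0 F510341) (iv5 F528948)
def n225155 : Q := act 6 n213358
theorem D225155 : act 6 n213358 = n225155 := rfl
theorem F528954 : act 2 n225155 = n213362 := d3_1 D225155 (iv6 D213362) (iv2 F470084)
theorem F528955 : act 3 n225155 = n220713 := d7_1 D225155 F505123 (iv3 F470085)
theorem F528956 : act 5 n225155 = n220712 := d12_1 D225155 (iv6 F509503) F509502 F470027 D213358
theorem F528957 : act 7 n225155 = n221170 := d14_2 F521759 D225155 F507554 D222115 (iv6 F521758)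
theorem F528958 : act 0 n225155 = n222115 := d21_4 (iv5 D224565) F454429 D213358 D225155 (iv6 F521758) (iv5 D223872) (iv1 F436708) D213357 F470083 (iv1 F525668)
theorem F528959 : act 1 n225155 = n222110 := d15_1 (iv0 F528958) F512414 (iv2 F512424)
def n225156 : Q := act 4 n213359
theorem D225156 : act 4 n213359 = n225156 := rfl
theorem F528960 : act 3 n225156 = n222114 := d5_1 D225156 (iv4 D222114) F407869 D198398 (iv3 F470086)
theorem F528961 : act 5 n225156 = n223518 := d16_1 D225156 (iv4 D223518) (iv5 D203770) (iv4 F429751) (iv5 F505630) (iv4 F505631) F510847 F528945 F528944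
def n225157 : Q := act 3 n213360
theorem D225157 : act 3 n213360 = n225157 := rfl
theorem F528962 : act 2 n225157 = n219897 := d0_1 D225157 F501091 (iv2 F510343) F528949 (iv2 F528950)
theorem F528963 : act 5 n225157 = n219616 := d6_2 F510847 D225157 F499698
theorem F528964 : act 7 n225157 = n219900 := d8_2 (iv7 F528945) D225157 F528942
theorem F528965 : act 4 n220713 = n225157 := d19_2 D194325 D220713 (iv3 D225157) (iv1 D213360) (iv5 D153579) F109142 (iv3 D33564) D33562 D72739 (iv4 F235496) (iv3 F459661) F459663 (iv5 D154764) D154763 (iv3 F396870) (iv1 F396873) (iv5 F354577) F328604 F365605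
theorem F528966 : act 6 n225157 = n223400 := d10_2 (iv6 F505123) F528965 F519275
theorem F528967 : act 0 n225157 = n216539 := d17_0 (iv5 D216539) (iv1 D184255) D184257 D216542 F484867 (iv0 F463651) (iv5 F501304) (iv0 F505125) F528965
theorem F528968 : act 1 n225157 = n216537 := d18_6 F360495 (iv4 F358507) F358504 (iv4 F392833) D220713 F528965 F484850 F427517 (iv5 D195369)
def n225158 : Q := act 4 n213360
theorem D225158 : act 4 n213360 = n225158 := rfl
def n225159 : Q := act 6 n213360
theorem D225159 : act 6 n213360 = n225159 := rfl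
theorem F528969 : act 3 n225159 = n223400 := d7_1 D225159 (iv6 F528966) (iv3 D225157)
def n225160 : Q := act 0 n213361
theorem D225160 : act 0 n213361 = n225160 := rfl
theorem F528970 : act 5 n225160 = n215992 := d17_3 F523661 (iv5 F504159) D225160 (iv4 D215992) (iv5 D179716) D179715 (iv5 F430803) (iv0 F444190) D224210
theorem F528971 : act 4 n225160 = n224568 := d18_3 (iv1 D213360) D213361 D225160 (iv5 D224568) F454514 F400714 F237856 D212805 F510847
theorem F528972 : act 2 n216035 = n225160 := d15_3 (iv0 D225160) (iv0 F528046) F528044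
theorem F528973 : act 6 n216035 = n225160 := d10_0 F528971 F525684 (iv4 F482617)
def n225161 : Q := act 3 n213361
theorem D225161 : act 3 n213361 = n225161 := rfl
theorem F528974 : act 4 n225161 = n213363 := d5_2 D213361 D225161 F470090 (iv4 D153582) (iv3 F241391)
theorem F528975 : act 7 n213361 = n225161 := d11_0 F528974 (iv7 D213363) D213361
theorem F528976 : act 0 n216035 = n225161 := d18_2 (iv1 D224570) (iv4 F482617) F528974 F470091 F241393 (iv0 F331119) (iv4 F407872) (iv0 F484807) (iv5 F525693)
def n225162 : Q := act 6 n213361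
theorem D225162 : act 6 n213361 = n225162 := rfl
theorem F528977 : act 4 n225162 = n213362 := d10_1 D225162 (iv6 D213362) D213361
theorem F528978 : act 5 n225162 = n216029 := d12_1 D225162 F482609 F431152 D220520 (iv5 F504159)
def n225163 : Q := act 7 n213362
theorem D225163 : act 7 n213362 = n225163 := rfl
theorem F528979 : act 2 n225163 = n221170 := d4_1 D225163 (iv7 F528957) F528954
theorem F528980 : act 3 n225163 = n213369 := d8_1 D225163 (iv7 D213369) (iv3 F470088)
theorem F528981 : act 5 n225163 = n221147 := d13_1 D225163 F507449 (iv5 F470089)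
theorem F528982 : act 6 n225163 = n222110 := d14_1 D225163 F512414 F470438 (iv7 D213363) D213362
theorem F528983 : act 1 n222110 = n225163 := d15_1 F528959 (iv7 D225163) (iv2 F528954)
theorem F528984 : act 1 n225163 = n222115 := d15_1 F528983 (iv7 D222115) (iv2 F512413)
theorem F528985 : act 0 n224998 = n224998 := d21_4 F528956 F505121 (iv5 F463857) D224998 (iv6 D224998) F463857 (iv1 F507448) (iv5 F528981) F528982 (iv1 F528959)
def n225164 : Q := act 6 n213365
theorem D225164 : act 6 n213365 = n225164 := rfl
theorem F528986 : act 3 n225164 = n213366 := d7_1 D225164 (iv6 D213366) D213365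
theorem F528987 : act 4 n225164 = n219906 := d10_1 D225164 (iv6 F507177) F507178
theorem F528988 : act 7 n225164 = n221808 := d14_2 (iv7 F470100) D225164 (iv6 D221808) (iv7 D197361) (iv6 F404019)
theorem F528989 : act 0 n223397 = n225164 := d21_4 (iv5 D220709) F392825 D203234 D223397 (iv6 D225164) F470099 (iv1 F438464) (iv5 F519281) (iv6 F519297) F519299
def n225165 : Q := act 0 n213366
theorem D225165 : act 0 n213366 = n225165 := rfl
theorem F528990 : act 4 n225165 = n221798 := d18_3 F501295 (iv4 F470102) D225165 F510850 (iv4 F466480) F466483 D213676 (iv0 F471593) D219943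
theorem F528991 : act 6 n225165 = n221695 := d21_5 (iv5 D150037) (iv1 F183335) (iv5 F241396) D213366 D225165 (iv5 D221695) (iv1 F454512) F454508 (iv6 D203243) (iv1 F236058)
theorem F528992 : act 2 n223399 = n225165 := d15_3 (iv0 D225165) (iv0 F528921) F528920
theorem F528993 : act 7 n225165 = n223400 := d4_2 F528920 F528992 (iv2 F528917)
theorem F528994 : act 1 n223402 = n225165 := d15_1 F528922 F528993 (iv2 F528917)
def n225166 : Q := act 5 n213366
theorem D225166 : act 5 n213366 = n225166 := rfl
theorem F528995 : act 2 n225166 = n223401 := d2_1 D225166 (iv5 D223401) (iv2 F470101)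
theorem F528996 : act 6 n225166 = n221883 := d12_2 D213366 D225166 F511200 F404562 (iv5 F241396)
theorem F528997 : act 4 n225166 = n217951 := d16_2 (iv4 F470102) D225166 (iv5 D217951) F471601 (iv5 F471604) D213700 (iv5 F519326) (iv7 D223411) (iv2 F467578)
def n225167 : Q := act 7 n213366
theorem D225167 : act 7 n213366 = n225167 := rfl
theorem F528998 : act 2 n225167 = n223402 := d4_1 D225167 (iv7 D223402) (iv2 F470101)
theorem F528999 : act 3 n225167 = n221808 := d8_1 D225167 (iv7 F528988) F528986
theorem F529000 : act 4 n225167 = n225070 := d11_1 D225167 (iv7 D225070) (iv4 F470102)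
theorem F529001 : act 6 n225167 = n221799 := d14_1 D225167 (iv7 D221799) F404015 (iv7 F241395) D213366
theorem F529002 : act 1 n223400 = n225167 := d15_1 D223400 (iv7 D225167) F470101
theorem F529003 : act 1 n225167 = n223399 := d15_1 F529002 (iv7 F528920) F528917
def n225168 : Q := act 5 n213376
theorem D225168 : act 5 n213376 = n225168 := rfl
theorem F529004 : act 2 n225168 = n216827 := d2_1 D225168 F486078 (iv2 F471633)
theorem F529005 : act 3 n225168 = n221934 := d6_1 D225168 F511477 F470139
theorem F529006 : act 4 n225168 = n216311 := d9_1 D225168 (iv5 D216311) (iv4 F399381) (iv5 F435527) F435531 (iv5 F505543) F505542 (iv5 F498177) (iv4 D219296) (iv5 D191112) (iv4 F382278) (iv5 F435518) (iv4 F435522) D222422 F514136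
theorem F529007 : act 6 n225168 = n217457 := d12_2 (iv6 F470140) D225168 F488961 F476926 F464735
theorem F529008 : act 7 n225168 = n216826 := d13_2 F471632 D225168 F486077
theorem F529009 : act 0 n225168 = n224905 := d17_2 D213376 D225168 F527519 F473624 (iv5 F412698) (iv0 F412701) (iv5 F407371) (iv0 F467830) F467828
def n225169 : Q := act 6 n213380
theorem D225169 : act 6 n213380 = n225169 := rfl
theorem F529010 : act 2 n225169 = n219809 := d3_1 D225169 F500718 (iv2 F470154)
theorem F529011 : act 3 n225169 = n216753 := d7_1 D225169 (iv6 D216753) (iv3 F470155)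
theorem F529012 : act 4 n225169 = n213381 := d10_1 D225169 (iv6 D213381) D213380
theorem F529013 : act 5 n225169 = n219807 := d12_1 D225169 (iv6 D219807) (iv5 D192287) (iv6 F289864) (iv5 F470156)
theorem F529014 : act 7 n225169 = n224603 := d14_2 F483492 D225169 F525873 (iv7 F524447) F524446
theorem F529015 : act 0 n225169 = n224592 := d21_4 (iv5 D219354) F382848 (iv5 F470156) D225169 F525825 (iv5 D212900) (iv1 F238053) (iv5 F431090) F431091 (iv1 F498435)
theorem F529016 : act 1 n225169 = n224529 := d15_1 (iv0 F529015) F525493 (iv2 F525822)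
def n225170 : Q := act 1 n213381
theorem D225170 : act 1 n213381 = n225170 := rfl
theorem F529017 : act 1 n225170 = n224946 := d15_1 D225170 F527748 F501517
theorem F529018 : act 5 n225170 = n217291 := d17_7 (iv1 F473531) D214112 F473540 (iv5 F462467) (iv4 F521259) F521260 D225170 (iv0 F525090) F525086
theorem F529019 : act 4 n225170 = n224838 := d17_9 F527137 F487954 F462446 D224948 F527759 (iv5 F500385) (iv0 F521262) F521260 D225170
theorem F529020 : act 3 n213408 = n225170 := d19_19 (iv1 D225170) (iv5 F521260) F521259 F484892 (iv1 F484898) F460628 F368843 (iv3 F368839) D217217 (iv5 F502318) (iv4 F519083) F519082 (iv1 F464358) (iv5 F522492) F522491 (iv3 F450487) F450036 (iv5 F504192) F504191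
theorem F529021 : act 6 n219557 = n225170 := d21_3 F482605 D217739 (iv5 F499428) (iv1 D225170) (iv6 D213381) (iv5 F433127) (iv1 F433131) D215786 (iv6 F491332) F491334
def n225171 : Q := act 6 n213403
theorem D225171 : act 6 n213403 = n225171 := rfl
theorem F529022 : act 2 n225171 = n217945 := d3_1 D225171 F491371 F486946
theorem F529023 : act 3 n225171 = n225091 := d7_1 D225171 F528586 F499560
theorem F529024 : act 4 n225171 = n217988 := d10_1 D225171 (iv6 F491569) (iv4 F470251)
theorem F529025 : act 5 n225171 = n217943 := d12_1 D225171 F491365 (iv5 D212721) D212722 (iv5 F470250)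
theorem F529026 : act 7 n225171 = n224467 := d14_2 (iv7 F470253) D225171 (iv6 D224467) (iv7 F452727) (iv6 F456005)
theorem F529027 : act 0 n225171 = n216755 := d21_4 F469845 F467265 (iv5 F470250) D225171 (iv6 D216755) (iv5 F365327) F387985 (iv5 F487804) (iv6 F487808) F469849
theorem F529028 : act 1 n225171 = n221272 := d15_1 (iv0 F529027) (iv7 F528364) F528361
def n225172 : Q := act 0 n213409
theorem D225172 : act 0 n213409 = n225172 := rfl
theorem F529029 : act 4 n225172 = n223393 := d18_1 D225172 (iv1 D223393) (iv4 F519236) F519237 F518224 (iv0 F517981) F501074 F479828 F479824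
theorem F529030 : act 6 n225172 = n216224 := d21_5 (iv5 D217004) F367511 F330118 D213409 D225172 (iv5 F484495) (iv1 F484461) (iv5 F519014) F519015 (iv1 F486951)
theorem F529031 : act 1 n216276 = n225172 := d15_0 (iv0 D225172) (iv7 F501160) F501158
theorem F529032 : act 7 n225172 = n224533 := d15_2 F526611 F529031 (iv2 F526606)
def n225173 : Q := act 0 n213413
theorem D225173 : act 0 n213413 = n225173 := rfl
theorem F529033 : act 5 n225173 = n214524 := d17_1 D225173 (iv1 F475617) (iv5 D191736) (iv4 D98860) (iv5 D46265) (iv0 F136449) D89611 (iv0 F287690) (iv4 F470283)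
theorem F529034 : act 4 n225173 = n214541 := d18_3 (iv1 F287689) (iv4 F470283) D225173 (iv5 D214541) (iv4 D159751) F114564 (iv4 F136685) F136688 D98858
theorem F529035 : act 3 n225173 = n220481 := d20_5 D224783 (iv1 F526849) (iv4 F527784) F527783 D225173 (iv4 F525878) F525881 F518238 F498875 F473513
theorem F529036 : act 6 n225173 = n220480 := d21_5 F485765 (iv1 F456794) (iv5 F472021) F472020 D225173 F503973 (iv1 F485455) (iv5 F526847) F526846 F485767
theorem F529037 : act 2 n213417 = n225173 := d15_3 (iv0 D225173) (iv0 D213413) D213417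
theorem F529038 : act 1 n213414 = n225173 := d15_0 (iv0 D225173) (iv7 F483525) F483523
theorem F529039 : act 7 n225173 = n213415 := d15_2 D213414 F529038 (iv2 D213415)
def n225174 : Q := act 6 n213418
theorem D225174 : act 6 n213418 = n225174 := rfl
theorem F529040 : act 3 n225174 = n216144 := d7_1 D225174 (iv6 F526994) F526993
theorem F529041 : act 4 n225174 = n213419 := d10_1 D225174 (iv6 D213419) D213418
theorem F529042 : act 5 n225174 = n221102 := d12_1 D225174 (iv6 D221102) (iv5 D195389) D195390 (iv5 F470299)
theorem F529043 : act 0 n221786 = n225174 := d21_4 (iv5 D200200) (iv1 F396759) (iv5 F472866) (iv6 F510806) (iv6 D225174) F470299 F507064 F507065 F500759 (iv1 F415497)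
theorem F529044 : act 7 n216187 = n225174 := d13_0 F529042 (iv7 F507616) F507084
def n225175 : Q := act 4 n213445
theorem D225175 : act 4 n213445 = n225175 := rfl
theorem F529045 : act 3 n225175 = n225162 := d5_1 D225175 F528977 F470088 (iv4 F470104) (iv3 F470437)
theorem F529046 : act 6 n225175 = n225161 := d10_2 (iv6 F470438) D225175 F528974
def n225176 : Q := act 5 n213447
theorem D225176 : act 5 n213447 = n225176 := rfl
theorem F529047 : act 2 n225176 = n216215 := d2_1 D225176 (iv5 F490259) F490257
theorem F529048 : act 3 n225176 = n213448 := d6_1 D225176 (iv5 D213448) D213447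
theorem F529049 : act 6 n225176 = n216219 := d12_2 (iv6 F471845) D225176 F483396 D216670 (iv5 F485396)
theorem F529050 : act 7 n225176 = n216208 := d13_2 F471618 D225176 F483381
theorem F529051 : act 0 n225176 = n216214 := d17_2 (iv1 F494685) D225176 F483390 F450736 (iv5 D197852) F388267 F388264 (iv0 F490763) (iv4 F494681)
theorem F529052 : act 1 n225176 = n216213 := d17_6 (iv1 F492863) (iv5 F471711) (iv1 D212570) (iv5 F241642) (iv4 F470446) D225176 (iv5 F524769) F524846 F524843
def n225177 : Q := act 4 n213448
theorem D225177 : act 4 n213448 = n225177 := rfl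
theorem F529053 : act 7 n225177 = n219443 := d11_2 (iv7 F498590) D225177 F498897
theorem F529054 : act 0 n225177 = n224210 := d18_2 F504165 D225177 (iv4 D224210) (iv5 D207293) (iv4 F221650) F436711 (iv4 F450700) F450698 (iv5 F504160)
def n225178 : Q := act 4 n213462
theorem D225178 : act 4 n213462 = n225178 := rfl
theorem F529055 : act 2 n225178 = n213808 := d1_1 D225178 F472183 (iv2 F470510)
theorem F529056 : act 3 n225178 = n216575 := d5_1 D225178 (iv4 F500503) (iv3 F500504) (iv4 F428912) (iv3 F470511)
theorem F529057 : act 6 n225178 = n213801 := d10_2 F470514 D225178 F472155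
theorem F529058 : act 7 n225178 = n220499 := d11_2 (iv7 F470512) D225178 F504067
theorem F529059 : act 5 n225178 = n216574 := d16_1 D225178 (iv4 F517173) F517174 F472443 F470520 (iv4 D213463) D213464 F470522 (iv2 F470510)
theorem F529060 : act 0 n225178 = n215802 := d17_0 (iv5 F518081) (iv1 F518086) F517496 F504693 F487612 F487608 D222360 F513797 D225178
theorem F529061 : act 1 n225178 = n213942 := d18_6 (iv1 F492320) (iv4 F420956) F420957 (iv4 F355103) D213462 D225178 F472823 F488257 (iv5 F492318)
def n225179 : Q := act 4 n213464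
theorem D225179 : act 4 n213464 = n225179 := rfl
theorem F529062 : act 2 n225179 = n220499 := d1_1 D225179 F504067 (iv2 F470521)
theorem F529063 : act 3 n225179 = n223362 := d5_1 D225179 F519059 F504089 F504088 F475912
theorem F529064 : act 5 n225179 = n225140 := d9_2 D213464 D225179 F528879 (iv5 F472426) F472425 (iv5 F403125) (iv4 F355103) D213462 D225178 F529059 (iv4 F517173) F517174 F472443 F470520 (iv4 D213463)
theorem F529065 : act 6 n225179 = n215831 := d10_2 (iv6 F485508) D225179 F485506
theorem F529066 : act 7 n225179 = n213808 := d11_2 (iv7 F470522) D225179 F472183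
theorem F529067 : act 0 n225179 = n213942 := d17_0 F472824 F504707 (iv5 F504699) F504697 (iv5 D203004) (iv0 F369513) F368198 (iv0 F470523) D225179
theorem F529068 : act 1 n225179 = n215802 := d18_6 F374139 (iv4 F471485) (iv1 F471488) (iv4 D213463) D213464 D225179 F481634 (iv0 F465790) (iv5 D212427)
def n225180 : Q := act 3 n213469
theorem D225180 : act 3 n213469 = n225180 := rfl
theorem F529069 : act 2 n225180 = n213928 := d0_1 D225180 F472762 (iv2 F463008) (iv3 F520237) F520236
theorem F529070 : act 4 n225180 = n224680 := d5_2 D213469 D225180 F526265 F467319 F388333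
theorem F529071 : act 5 n225180 = n213920 := d6_2 F470548 D225180 F472744
theorem F529072 : act 7 n225180 = n213919 := d8_2 (iv7 F470547) D225180 F472741
theorem F529073 : act 0 n225180 = n213927 := d19_4 D72759 D153808 D213469 D225180 (iv5 F519037) F519036 F440368 D206353 F440373 (iv4 D191009) F366293 (iv1 F363491) (iv5 D127629) (iv4 F105403) (iv3 D69105) (iv1 D32148) F24806 (iv4 F25769) (iv3 F52863)
theorem F529074 : act 0 n213926 = n225180 := d20_4 F526943 (iv1 F472966) D224649 (iv3 F526101) (iv3 D225180) (iv4 D213469) (iv1 F432980) D223727 F520937 F526948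
def n225181 : Q := act 3 n213472
theorem D225181 : act 3 n213472 = n225181 := rfl
theorem F529075 : act 2 n225181 = n216600 := d0_1 D225181 (iv3 D216600) (iv2 F423956) (iv3 F518154) F518153
theorem F529076 : act 4 n225181 = n223136 := d5_2 D213472 D225181 F517833 F467296 (iv3 F430752)
theorem F529077 : act 5 n225181 = n223790 := d6_2 F517702 D225181 F521290
theorem F529078 : act 6 n225181 = n223139 := d7_2 F471356 D225181 F517846
theorem F529079 : act 7 n225181 = n223091 := d8_2 F520245 D225181 F520249
theorem F529080 : act 0 n225181 = n213925 := d19_4 (iv1 F430754) F430751 D213472 D225181 (iv5 D213925) (iv4 F366109) F228404 D145362 F381355 F381353 (iv3 F366327) (iv1 D95771) (iv5 D44725) F312407 F52964 D33718 F52972 (iv4 F109211) (iv3 F241553)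
theorem F529081 : act 0 n213923 = n225181 := d20_4 F526079 F520677 (iv4 F517509) F517508 (iv3 D225181) (iv4 D213472) F366842 D178073 (iv3 F455185) D224645
def n225182 : Q := act 6 n213484
theorem D225182 : act 6 n213484 = n225182 := rfl
theorem F529082 : act 2 n225182 = n217977 := d3_1 D225182 F491519 (iv2 F470616)
theorem F529083 : act 3 n225182 = n213485 := d7_1 D225182 (iv6 D213485) D213484
theorem F529084 : act 4 n225182 = n217176 := d10_1 D225182 (iv6 D217176) (iv4 F470617)
theorem F529085 : act 5 n225182 = n220661 := d12_1 D225182 (iv6 F504850) F460562 D223241 F518379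
theorem F529086 : act 7 n225182 = n216246 := d14_2 (iv7 F470618) D225182 (iv6 D216246) (iv7 F283656) (iv6 F310367)
theorem F529087 : act 0 n222868 = n225182 := d21_4 (iv5 F440483) (iv1 F440486) (iv5 F471440) (iv6 F516494) (iv6 D225182) (iv5 F518379) F518378 D224767 F526757 F467686
theorem F529088 : act 1 n220468 = n225182 := d15_0 (iv0 F529087) (iv7 F528642) F528639
def n225183 : Q := act 0 n213488
theorem D225183 : act 0 n213488 = n225183 := rfl
theorem F529089 : act 5 n225183 = n223251 := d17_1 D225183 F518434 F502202 F471457 (iv5 F483206) (iv0 F483208) F483140 F485276 F485277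
theorem F529090 : act 4 n225183 = n219353 := d18_1 D225183 F519963 F519960 F519521 F510461 F453780 F428124 (iv0 F493589) F493586
theorem F529091 : act 3 n225183 = n220990 := d20_5 (iv4 F306620) (iv1 F338009) (iv4 F338008) D213488 D225183 (iv4 D220990) F471269 F471265 (iv3 D154499) D154497
theorem F529092 : act 6 n225183 = n216621 := d21_5 (iv5 D203354) (iv1 F428004) (iv5 F471289) F471290 D225183 F485208 (iv1 F484391) F484388 (iv6 F439944) F439946
theorem F529093 : act 2 n213619 = n225183 := d15_3 (iv0 D225183) (iv0 F471293) (iv7 F471319)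
theorem F529094 : act 1 n213620 = n225183 := d15_0 (iv0 D225183) F470635 D213620
theorem F529095 : act 7 n225183 = n213618 := d15_2 (iv0 F471325) F529094 (iv2 F471317)
def n225184 : Q := act 7 n213500
theorem D225184 : act 7 n213500 = n225184 := rfl
theorem F529096 : act 2 n225184 = n222877 := d4_1 D225184 F516547 F475347
theorem F529097 : act 3 n225184 = n223373 := d8_1 D225184 (iv7 F519126) (iv3 F470701)
theorem F529098 : act 4 n225184 = n215621 := d11_1 D225184 F480794 (iv4 F470702)
theorem F529099 : act 5 n225184 = n224788 := d13_1 D225184 F526877 F491483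
theorem F529100 : act 6 n225184 = n217337 := d14_1 D225184 F488508 (iv6 F419849) F419850 D213500
theorem F529101 : act 1 n222805 = n225184 := d15_1 (iv0 F516176) (iv7 D225184) (iv2 F475347)
theorem F529102 : act 1 n225184 = n220624 := d15_1 F529101 F504686 (iv2 F516171)
def n225185 : Q := act 3 n213522
theorem D225185 : act 3 n213522 = n225185 := rfl
theorem F529103 : act 2 n225185 = n222282 := d0_1 D225185 F513335 F410471 D211255 F470837
theorem F529104 : act 4 n225185 = n224080 := d5_2 F499383 D225185 (iv3 F522913) F516809 (iv3 F499382)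
theorem F529105 : act 5 n225185 = n216532 := d6_2 (iv5 F470834) D225185 (iv3 F484839)
theorem F529106 : act 6 n225185 = n217045 := d7_2 (iv6 F470835) D225185 F487120
theorem F529107 : act 7 n225185 = n224083 := d8_2 F484175 D225185 F522932
theorem F529108 : act 0 n225185 = n224088 := d19_4 (iv1 F483687) (iv5 F499384) F499383 D225185 F522962 F457025 F403707 D197245 (iv5 F463098) F463099 (iv3 D209196) (iv1 D135939) (iv5 F206772) D206392 F440570 D209916 (iv5 F515710) (iv4 D222713) F435971
theorem F529109 : act 0 n217040 = n225185 := d20_4 (iv4 F417284) F417285 F416666 (iv3 F487099) (iv3 D225185) (iv4 F499383) F499385 (iv4 F448640) F448639 (iv1 F417963)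
def n225186 : Q := act 6 n213567
theorem D225186 : act 6 n213567 = n225186 := rfl
theorem F529110 : act 3 n225186 = n213569 := d7_1 D225186 (iv6 D213569) (iv3 F471079)
theorem F529111 : act 5 n225186 = n224417 := d12_1 D225186 (iv6 F528372) F528371 F467095 D213567
theorem F529112 : act 0 n219983 = n225186 := d21_4 (iv5 D179881) (iv1 F357880) D208914 (iv6 F501510) (iv6 D225186) (iv5 D213567) F414870 D204443 F432562 F429458
def n225187 : Q := act 3 n213568
theorem D225187 : act 3 n213568 = n225187 := rfl
theorem F529113 : act 2 n225187 = n223225 := d0_1 D225187 F518299 F424373 (iv3 F376032) (iv2 F471081)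
theorem F529114 : act 4 n225187 = n224655 := d5_2 D213568 D225187 F526122 F472874 F471079
theorem F529115 : act 5 n225187 = n223224 := d6_2 (iv5 F471082) D225187 F518293
theorem F529116 : act 7 n225187 = n218386 := d8_2 (iv7 F471083) D225187 (iv3 D218386)
theorem F529117 : act 0 n225187 = n216181 := d19_4 F308371 D154323 D213568 D225187 (iv5 F493571) (iv4 F519669) F519668 F521293 (iv5 F529077) F529076 F517833 (iv1 F467297) F456254 F456252 F337140 (iv1 F368774) (iv5 D186988) F137118 (iv3 F136970)
theorem F529118 : act 0 n224349 = n225187 := d20_4 F472015 F454654 (iv4 F461031) (iv3 F524463) (iv3 D225187) (iv4 D213568) (iv1 F471068) F471071 (iv3 F365351) D213769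
def n225188 : Q := act 0 n213579
theorem D225188 : act 0 n213579 = n225188 := rfl
theorem F529119 : act 5 n225188 = n218156 := d17_1 D225188 (iv1 F492420) F374229 F242551 D154515 D213616 (iv5 F471306) (iv0 D213580) (iv4 F471128)
theorem F529120 : act 4 n225188 = n216729 := d18_1 D225188 (iv1 F492087) F492085 F470584 (iv4 F420114) (iv0 D201354) (iv4 F373590) F373594 (iv5 F471129)
theorem F529121 : act 6 n225188 = n213597 := d21_5 F471171 (iv1 F456813) F419230 D213579 D225188 F471219 (iv1 F394228) (iv5 F471184) (iv6 D213590) (iv1 F471168)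
theorem F529122 : act 2 n216718 = n225188 := d15_3 (iv0 D225188) (iv0 F471483) (iv7 F485606)
theorem F529123 : act 1 n216805 = n225188 := d15_0 (iv0 D225188) (iv7 F492091) F492088
theorem F529124 : act 7 n225188 = n216729 := d15_2 (iv0 F485993) F529123 F485660
theorem F529125 : act 3 n223454 = n225188 := d8_3 F529124 F485661 (iv7 F519532)
def n225189 : Q := act 3 n213588
theorem D225189 : act 3 n213588 = n225189 := rfl
theorem F529126 : act 2 n225189 = n216774 := d0_1 D225189 F485880 F449553 F365551 (iv2 F471173)
theorem F529127 : act 4 n225189 = n224805 := d5_2 (iv4 F471170) D225189 (iv3 F526966) F518078 F465785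
theorem F529128 : act 5 n225189 = n219538 := d6_2 (iv5 F471171) D225189 F499328
theorem F529129 : act 6 n225189 = n213609 := d7_2 F471172 D225189 (iv3 D213609)
theorem F529130 : act 7 n225189 = n216743 := d8_2 (iv7 F471169) D225189 (iv3 D216743)
theorem F529131 : act 0 n225189 = n216464 := d19_4 F370368 D204908 (iv4 F471170) D225189 F484501 (iv4 F499174) F499173 (iv1 F522102) F522099 (iv4 D219111) F381262 F367232 (iv5 D104299) F291491 F139579 (iv1 F290722) (iv5 F291047) (iv4 F138600) D187447
theorem F529132 : act 0 n216775 = n225189 := d20_4 (iv4 F390944) (iv1 F485299) (iv4 F485295) (iv3 F485881) (iv3 D225189) F471170 F434117 (iv4 D189786) (iv3 F147851) D190566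
def n225190 : Q := act 3 n213591
theorem D225190 : act 3 n213591 = n225190 := rfl
theorem F529133 : act 2 n225190 = n221007 := d0_1 D225190 F506767 (iv2 F452751) D209796 F471196
theorem F529134 : act 4 n225190 = n213628 := d5_2 (iv4 F471197) D225190 (iv3 D213628) D213629 (iv3 F471365)
theorem F529135 : act 5 n225190 = n221002 := d6_2 F524957 D225190 (iv3 F524958)
theorem F529136 : act 6 n225190 = n220654 := d7_2 (iv6 F471198) D225190 (iv3 F504816)
theorem F529137 : act 7 n225190 = n221006 := d8_2 F484398 D225190 F506764
theorem F529138 : act 0 n225190 = n224610 := d19_4 (iv1 F517208) (iv5 F468806) (iv4 F471197) D225190 (iv5 D224610) F454975 F397402 (iv1 F361695) F359188 (iv4 F468915) (iv3 F468919) (iv1 F277918) F130076 (iv4 F130010) F130009 (iv1 F129871) D177795 (iv4 F481499) (iv3 F517206)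
theorem F529139 : act 0 n223447 = n225190 := d20_4 F498437 F383561 (iv4 F428156) (iv3 F519502) (iv3 D225190) F471197 (iv1 F520502) F520499 (iv3 D219356) D219355
def n225191 : Q := act 0 n213609
theorem D225191 : act 0 n213609 = n225191 := rfl
theorem F529140 : act 5 n225191 = n219851 := d19_1 D225191 F513827 (iv3 F513828) (iv1 D209887) D209888 (iv4 F493630) (iv3 D218386) (iv1 F483336) F483333 (iv4 F358748) F440212 (iv1 D206317) (iv5 D128240) (iv4 F109299) (iv3 D72813) (iv1 F110511) D124672 F242547 D213609
theorem F529141 : act 6 n225191 = n219852 := d21_5 F485541 (iv1 F499332) (iv5 F529128) F529129 D225191 (iv5 D219852) (iv1 F467313) (iv5 D212740) D212741 (iv1 F485539)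
theorem F529142 : act 2 n219859 = n225191 := d15_3 (iv0 D225191) (iv0 F504869) F504866
theorem F529143 : act 1 n224632 = n225191 := d15_0 (iv0 D225191) (iv7 F471405) (iv2 F526012)
theorem F529144 : act 7 n225191 = n216785 := d15_2 (iv0 F526015) F529143 (iv2 F504863)
def n225192 : Q := act 2 n213609
theorem D225192 : act 2 n213609 = n225192 := rfl
theorem F529145 : act 3 n225192 = n224372 := d0_2 D213609 D225192 F524573 F456827 F242546
theorem F529146 : act 4 n225192 = n216685 := d1_2 F528898 D225192 (iv2 F528895)
theorem F529147 : act 5 n225192 = n224701 := d2_2 F526817 D225192 (iv2 F526815)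
theorem F529148 : act 6 n225192 = n216774 := d3_2 F529129 D225192 (iv2 F529126)
theorem F529149 : act 7 n225192 = n224632 := d4_2 F471405 D225192 F526012
theorem F529150 : act 1 n225192 = n216785 := d15_0 F504868 F471405 D225192
theorem F529151 : act 1 n219859 = n225192 := d15_0 F529150 (iv7 F529144) (iv2 F529142)
def n225193 : Q := act 3 n213613
theorem D225193 : act 3 n213613 = n225193 := rfl
theorem F529152 : act 2 n225193 = n223451 := d0_1 D225193 F519518 (iv2 F458247) (iv3 F526756) F526755
theorem F529153 : act 5 n225193 = n219935 := d6_2 F503284 D225193 (iv3 F503282)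
theorem F529154 : act 6 n225193 = n223448 := d7_2 F503289 D225193 F519507
theorem F529155 : act 0 n225193 = n220473 := d19_4 (iv1 F431114) (iv5 F488223) F488224 D225193 F503939 F482177 (iv3 F473031) F430954 (iv5 D177771) (iv4 D84644) (iv3 F129803) D177733 F403503 F403501 (iv3 F214300) (iv1 F237488) (iv5 D117248) (iv4 F183467) (iv3 F378955)
def n225194 : Q := act 0 n213615
theorem D225194 : act 0 n213615 = n225194 := rfl
theorem F529156 : act 5 n225194 = n214574 := d17_1 D225194 F475865 (iv5 D193756) (iv4 D102290) (iv5 D47469) D47468 D102286 F390880 (iv4 F471301)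
theorem F529157 : act 4 n225194 = n219734 := d18_1 D225194 F500332 (iv4 F433006) F433007 (iv4 D194678) (iv0 F335338) D191996 (iv0 F492425) F492423
theorem F529158 : act 3 n225194 = n214575 := d20_5 (iv4 F135170) (iv1 F337971) (iv4 F242551) (iv3 F471300) D225194 F475868 F427881 F362836 F242550 (iv1 F312616)
theorem F529159 : act 6 n225194 = n216236 := d21_5 (iv5 F416277) F466347 F466345 D213615 D225194 (iv5 D216236) D216232 F483430 (iv6 F471260) (iv1 F471263)
theorem F529160 : act 2 n216800 = n225194 := d15_3 (iv0 D225194) (iv0 F495173) (iv7 F495175)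
theorem F529161 : act 1 n216801 = n225194 := d15_0 (iv0 D225194) (iv7 F471302) D216801
theorem F529162 : act 7 n225194 = n216723 := d15_2 (iv0 F495174) F529161 (iv2 F495170)
def n225195 : Q := act 3 n213619
theorem D225195 : act 3 n213619 = n225195 := rfl
theorem F529163 : act 2 n225195 = n222031 := d0_1 D225195 F511989 (iv2 F506674) (iv3 F529091) (iv2 F529093)
theorem F529164 : act 5 n225195 = n222029 := d6_2 F471321 D225195 F511982
theorem F529165 : act 6 n225195 = n224353 := d7_2 F471320 D225195 F524487
theorem F529166 : act 7 n225195 = n222028 := d8_2 (iv7 F471319) D225195 F511978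
theorem F529167 : act 0 n225195 = n223650 := d20_4 F526460 F484308 F484307 D225195 F520538 F501942 (iv1 F486813) (iv4 F526759) F526756 (iv1 F526459)
theorem F529168 : act 0 n222351 = n225195 := d20_4 (iv4 F422741) (iv1 F513757) (iv4 D222352) (iv3 F513749) (iv3 D225195) (iv4 F484307) F504832 F504830 F481668 F343247
def n225196 : Q := act 4 n213624
theorem D225196 : act 4 n213624 = n225196 := rfl
theorem F529169 : act 2 n225196 = n213626 := d1_1 D225196 (iv4 D213626) D213624
theorem F529170 : act 3 n225196 = n223202 := d5_1 D225196 F518162 (iv3 F506764) F506766 F471350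
theorem F529171 : act 6 n225196 = n223201 := d10_2 (iv6 F471346) D225196 F518156
theorem F529172 : act 7 n225196 = n213629 := d11_2 F471347 D225196 (iv4 D213629)
theorem F529173 : act 5 n225196 = n223123 := d17_5 (iv1 D216674) (iv5 F411825) F457475 (iv5 F471345) D225196 (iv0 D223123) (iv5 F472817) (iv0 F472818) (iv4 F485427)
theorem F529174 : act 0 n225196 = n215940 := d17_0 (iv5 D215940) (iv1 F473823) F485443 (iv4 D216678) (iv5 F466104) F466103 F466099 F471349 D225196
theorem F529175 : act 1 n225196 = n215941 := d18_8 (iv1 D178813) (iv4 F278675) D215937 F482177 F473030 F432967 F471349 D225196 (iv5 D215941)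
def n225197 : Q := act 0 n213626
theorem D225197 : act 0 n213626 = n225197 := rfl
theorem F529176 : act 5 n225197 = n214166 := d17_1 D225197 (iv1 F473819) (iv5 F429109) (iv4 F485417) F485416 F471370 (iv5 F471342) (iv0 D213623) D213626
theorem F529177 : act 4 n225197 = n225193 := d18_1 D225197 F529155 F503938 F485885 F422628 D210546 (iv4 F517769) (iv0 F521287) F521285
theorem F529178 : act 3 n225197 = n223625 := d20_5 (iv4 D210134) (iv1 F500498) D223139 F517846 D225197 F520397 (iv1 F431129) (iv4 F432760) (iv3 F517161) F517162
theorem F529179 : act 6 n225197 = n224620 := d21_5 (iv5 F472794) F517703 F517702 (iv6 F471356) D225197 (iv5 F526310) (iv1 F526314) (iv5 F519743) (iv6 F520239) F520241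
theorem F529180 : act 2 n215940 = n225197 := d3_3 F529179 (iv2 F525963) (iv6 F519517)
theorem F529181 : act 7 n215941 = n225197 := d14_0 F529179 (iv7 F525965) (iv6 D215817) (iv7 F431613) F482189
theorem F529182 : act 0 n225197 = n213629 := d21_4 (iv5 F456309) D224687 F526310 (iv6 F529179) F471366 (iv5 D212838) F422818 (iv5 F472167) F525941 (iv1 D224614)
def n225198 : Q := act 1 n213626
theorem D225198 : act 1 n213626 = n225198 := rfl
theorem F529183 : act 1 n225198 = n213629 := d15_1 D225198 (iv7 F529172) F529169
theorem F529184 : act 7 n225198 = n215940 := d15_2 (iv0 D225197) D225198 F529180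
theorem F529185 : act 5 n225198 = n214167 := d17_7 F473055 (iv5 F520975) F520976 (iv5 F526572) F526573 F521285 D225198 F473810 (iv4 F386642)
theorem F529186 : act 4 n225198 = n224768 := d18_7 (iv1 F491030) F491026 (iv1 F473822) (iv4 F466348) (iv5 F450538) D213626 D225198 F526765 F503939
theorem F529187 : act 3 n223030 = n225198 := d19_19 (iv1 D225198) (iv5 F521285) (iv4 F526573) F526574 F458210 (iv5 F458267) F481746 (iv3 D215839) (iv1 D177981) (iv5 F263584) (iv4 F478625) F478624 F488319 (iv5 F524520) F524519 (iv3 F526702) F526704 F518995 (iv4 F517340)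
theorem F529188 : act 6 n223643 = n225198 := d21_3 F482165 (iv1 F482162) (iv5 F520500) (iv1 D225198) F471356 (iv5 F517702) (iv1 F517704) (iv5 F472790) F472793 D215831
theorem F529189 : act 2 n225198 = n215941 := d3_1 F529188 (iv6 F482189) D223643
def n225199 : Q := act 7 n213626
theorem D225199 : act 7 n213626 = n225199 := rfl
theorem F529190 : act 2 n225199 = n213629 := d4_1 D225199 (iv7 F529172) F529169
theorem F529191 : act 3 n225199 = n225132 := d8_1 D225199 (iv7 F528837) F517846
theorem F529192 : act 4 n225199 = n213627 := d11_1 D225199 (iv7 D213627) D213626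
theorem F529193 : act 5 n225199 = n223124 := d13_1 D225199 (iv7 F521286) F521285
theorem F529194 : act 6 n225199 = n223115 := d14_1 D225199 F517724 (iv6 F520244) F520245 (iv6 F471356)
theorem F529195 : act 1 n215941 = n225199 := d15_1 F529175 (iv7 D225199) (iv2 F529169)
theorem F529196 : act 1 n225199 = n215940 := d15_1 F529195 (iv7 F529184) F529189
def n225200 : Q := act 6 n213628
theorem D225200 : act 6 n213628 = n225200 := rfl
theorem F529197 : act 2 n225200 = n220488 := d3_1 D225200 F504025 F471362
theorem F529198 : act 3 n225200 = n213630 := d7_1 D225200 (iv6 D213630) D213628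
theorem F529199 : act 4 n225200 = n220654 := d10_1 D225200 (iv6 F529136) F529134
theorem F529200 : act 5 n225200 = n223273 := d12_1 D225200 (iv6 D223273) (iv5 D202687) D202688 (iv5 F471360)
theorem F529201 : act 7 n225200 = n220652 := d14_2 (iv7 F471361) D225200 (iv6 D220652) (iv7 F498544) F498540
theorem F529202 : act 0 n218215 = n225200 := d21_4 F481700 F374664 D188773 D218215 (iv6 D225200) F471360 (iv1 F425103) D212267 (iv6 F465050) D215825
def n225201 : Q := act 3 n213636
theorem D225201 : act 3 n213636 = n225201 := rfl
theorem F529203 : act 4 n225201 = n213638 := d5_2 D213636 D225201 (iv3 D213638) (iv4 D154558) (iv3 F242629)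
theorem F529204 : act 6 n225201 = n225095 := d7_2 (iv6 F502653) D225201 (iv3 F528611)
theorem F529205 : act 7 n225201 = n225143 := d8_2 F521354 D225201 F528896
theorem F529206 : act 2 n225138 = n225201 := d4_3 F529205 F528895 F528870
theorem F529207 : act 5 n225098 = n225201 := d13_3 F529205 (iv5 D225143) (iv7 F528624)
theorem F529208 : act 1 n225201 = n223730 := d17_6 D185041 (iv5 F483338) (iv1 F519816) F519814 (iv4 F528625) F529207 F520953 (iv0 D216606) F287433
def n225202 : Q := act 5 n213636
theorem D225202 : act 5 n213636 = n225202 := rfl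
theorem F529209 : act 2 n225202 = n224852 := d2_1 D225202 F527216 F523667
theorem F529210 : act 3 n225202 = n225098 := d6_1 D225202 F529207 (iv3 D225201)
theorem F529211 : act 4 n225202 = n215850 := d9_1 D225202 F481782 F429055 (iv5 F209458) F305579 D149115 D212728 F481645 F481644 (iv5 D214226) (iv4 D157412) (iv5 D74859) (iv4 F307078) D154557 D213636
theorem F529212 : act 6 n225202 = n215848 := d12_2 (iv6 F502653) D225202 F526934 (iv6 F526932) (iv5 F502650)
theorem F529213 : act 7 n225202 = n223186 := d13_2 F521354 D225202 (iv5 F521355)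
theorem F529214 : act 0 n225202 = n223082 := d17_2 (iv1 F471400) D225202 F517556 F474083 (iv5 D214225) (iv0 F348263) (iv5 F432013) (iv0 F432014) D204604
theorem F529215 : act 1 n225202 = n223725 := d17_6 F467282 (iv5 D212726) F312625 D154557 D213636 D225202 (iv5 D223725) (iv0 F467308) (iv4 D212739)
def n225203 : Q := act 5 n213650
theorem D225203 : act 5 n213650 = n225203 := rfl
theorem F529216 : act 2 n225203 = n220511 := d2_1 D225203 (iv5 F528386) F528382
theorem F529217 : act 3 n225203 = n213946 := d6_1 D225203 F472848 (iv3 F471449)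
theorem F529218 : act 4 n225203 = n224844 := d9_1 D225203 F527167 F472839 (iv5 F428403) (iv4 F467312) (iv5 D212740) D212739 (iv5 F485324) F485323 (iv5 D201999) F179608 D115809 F311564 (iv5 F242643) D213650
theorem F529219 : act 6 n225203 = n213945 := d12_2 (iv6 F471450) D225203 (iv5 D213945) F245274 (iv5 F458689)
theorem F529220 : act 1 n225203 = n223075 := d17_6 F485916 F485914 F386562 (iv5 F242643) D213650 D225203 (iv5 F519849) (iv0 F523670) (iv4 D224212)
def n225204 : Q := act 6 n213655
theorem D225204 : act 6 n213655 = n225204 := rfl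
theorem F529221 : act 2 n225204 = n224547 := d3_1 D225204 (iv6 D224547) (iv2 F471471)
theorem F529222 : act 3 n225204 = n213657 := d7_1 D225204 (iv6 D213657) D213655
theorem F529223 : act 5 n225204 = n224151 := d12_1 D225204 (iv6 F525726) F525725 F500391 F471474
theorem F529224 : act 7 n225204 = n225034 := d14_2 (iv7 F471472) D225204 (iv6 F528249) F485603 (iv6 F454020)
theorem F529225 : act 0 n225204 = n225035 := d21_4 (iv5 D209534) (iv1 F454024) F471474 D225204 (iv6 F528254) F485537 (iv1 D209282) D209283 (iv6 F507023) F507025
theorem F529226 : act 0 n217525 = n225204 := d21_4 (iv5 D203573) F357747 D202909 (iv6 F489313) (iv6 D225204) (iv5 F471474) (iv1 F454023) D209538 F504769 (iv1 F504771)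
def n225205 : Q := act 6 n213665
theorem D225205 : act 6 n213665 = n225205 := rfl
theorem F529227 : act 2 n225205 = n218215 := d3_1 D225205 (iv6 D218215) (iv2 F471526)
theorem F529228 : act 3 n225205 = n225048 := d7_1 D225205 F528326 F484321
theorem F529229 : act 4 n225205 = n213666 := d10_1 D225205 (iv6 D213666) D213665
theorem F529230 : act 5 n225205 = n223436 := d12_1 D225205 F519449 (iv5 D217755) F371730 (iv5 F471527)
theorem F529231 : act 0 n225205 = n220488 := d21_4 (iv5 D216418) F288072 (iv5 F471527) D225205 F504025 (iv5 D210423) (iv1 F426277) (iv5 F458958) (iv6 F458960) (iv1 F484291)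
theorem F529232 : act 0 n220652 = n225205 := d21_4 (iv5 F468536) F468537 (iv5 F392100) D220652 (iv6 D225205) F471527 (iv1 F290159) D191964 (iv6 F434170) F434173
def n225206 : Q := act 5 n213676
theorem D225206 : act 5 n213676 = n225206 := rfl
theorem F529233 : act 2 n225206 = n221807 := d2_1 D225206 F510896 F502129
theorem F529234 : act 3 n225206 = n219946 := d6_1 D225206 F501304 (iv3 F471592)
theorem F529235 : act 6 n225206 = n223992 := d12_2 F509691 D225206 F522411 (iv6 F517632) F517634
theorem F529236 : act 7 n225206 = n225009 := d13_2 (iv7 F502124) D225206 F528097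
theorem F529237 : act 0 n225206 = n225002 := d17_2 F471593 D225206 F528060 F506984 (iv5 F492967) F493189 F493187 (iv0 D192479) (iv4 F386770)
theorem F529238 : act 1 n225206 = n219906 := d17_6 (iv1 D212578) D212580 (iv1 F471708) (iv5 D213677) D213676 D225206 (iv5 D219906) D219904 F501120
theorem F529239 : act 4 n225206 = n225000 := d18_5 (iv1 D213321) F241311 D154699 D213676 D225206 F528469 (iv4 D225071) (iv0 F519347) F519345
def n225207 : Q := act 4 n213677
theorem D225207 : act 4 n213677 = n225207 := rfl
theorem F529240 : act 3 n225207 = n225053 := d5_1 D225207 F528355 F502344 (iv4 F510383) F510382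
theorem F529241 : act 1 n225207 = n217745 := d18_6 F365338 (iv4 F386770) F471593 (iv4 D213676) D213677 D225207 F490436 (iv0 F406028) (iv5 D197852)
def n225208 : Q := act 0 n213685
theorem D225208 : act 0 n213685 = n225208 := rfl
theorem F529242 : act 5 n225208 = n223259 := d17_3 (iv1 D213684) D213685 D225208 F518482 (iv5 D221116) F505109 F505107 (iv0 F501298) F482676
theorem F529243 : act 1 n224914 = n225208 := d15_0 (iv0 D225208) (iv7 F471623) D224914
theorem F529244 : act 2 n224902 = n225208 := d2_3 F529242 F518480 D224902
theorem F529245 : act 3 n223260 = n225208 := d6_3 F529242 F518481 D223260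
theorem F529246 : act 7 n224907 = n225208 := d13_0 F529242 F518483 D224907
def n225209 : Q := act 1 n213685
theorem D225209 : act 1 n213685 = n225209 := rfl
theorem F529247 : act 1 n225209 = n224914 := d15_1 D225209 F527571 F496255
theorem F529248 : act 7 n225209 = n224902 := d15_2 (iv0 D225208) D225209 F529244
theorem F529249 : act 5 n225209 = n224903 := d17_7 F497643 F497641 (iv1 F401212) (iv5 F469892) F469888 D213685 D225209 F527511 (iv4 F461325)
theorem F529250 : act 4 n225209 = n219221 := d17_9 F497789 (iv5 F512638) (iv1 F522291) F522287 (iv4 F527546) F527545 (iv0 D213683) D213685 D225209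
theorem F529251 : act 3 n218855 = n225209 := d19_19 (iv1 D225209) (iv5 D213685) (iv4 F469888) (iv3 D213318) (iv1 F241380) D203221 (iv4 F519207) F519206 (iv1 F453492) D209409 D224529 F525491 (iv1 F488416) F488004 (iv4 F477025) (iv3 F477028) F461684 (iv5 F463821) (iv4 F495924)
theorem F529252 : act 6 n219220 = n225209 := d21_3 (iv5 F463382) F509625 F509624 (iv1 D225209) (iv6 F499725) (iv5 D219622) (iv1 F486469) (iv5 F494984) F494985 (iv1 F464255)
theorem F529253 : act 2 n225209 = n224907 := d3_1 F529252 F527530 (iv2 F497782)
def n225210 : Q := act 4 n213703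
theorem D225210 : act 4 n213703 = n225210 := rfl
theorem F529254 : act 2 n225210 = n218335 := d1_1 D225210 F493376 F471704
theorem F529255 : act 3 n225210 = n221269 := d5_1 D225210 F508070 (iv3 F527289) (iv4 D224863) F471705
theorem F529256 : act 6 n225210 = n218333 := d10_2 (iv6 F490907) D225210 (iv4 F493367)
theorem F529257 : act 7 n225210 = n225207 := d11_2 F471706 D225210 (iv4 D225207)
theorem F529258 : act 0 n225210 = n222416 := d18_2 D213703 D225210 F514097 F412529 (iv4 F501126) F501127 F404139 (iv0 D154728) D154731
theorem F529259 : act 1 n225210 = n218252 := d18_6 (iv1 D192930) D192932 D220100 F502119 (iv5 F471703) D225210 (iv4 D218252) D218250 F492964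
def n225211 : Q := act 4 n213704
theorem D225211 : act 4 n213704 = n225211 := rfl
theorem F529260 : act 2 n225211 = n225207 := d1_1 D225211 (iv4 D225207) F471710
theorem F529261 : act 3 n225211 = n217656 := d5_1 D225211 F489963 (iv3 F525047) F525048 (iv3 F492937)
theorem F529262 : act 7 n225211 = n218335 := d11_2 (iv7 F471709) D225211 F493376
theorem F529263 : act 0 n225211 = n218252 := d18_2 (iv1 F492863) D225211 (iv4 D218252) (iv5 F384825) (iv4 F499821) (iv0 F499825) (iv4 D213700) F466525 (iv5 F492861)
theorem F529264 : act 1 n225211 = n222416 := d18_6 (iv1 F388253) (iv4 F501293) (iv1 F502125) F502127 F471711 D225211 F514097 F492957 F492956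
theorem F529265 : act 5 n217654 = n225211 := d17_7 F492965 F492964 (iv1 D192930) (iv5 F367191) (iv4 F387004) D219967 (iv0 F501423) F529264 F514097
theorem F529266 : act 6 n225211 = n224556 := d21_5 (iv5 D146900) D146897 (iv5 F412524) D222416 (iv1 F529264) (iv5 F528126) (iv1 F528130) (iv5 F464323) F465753 (iv1 D212424)
def n225212 : Q := act 6 n213704
theorem D225212 : act 6 n213704 = n225212 := rfl
theorem F529267 : act 2 n225212 = n221700 := d3_1 D225212 F510371 F471710
theorem F529268 : act 4 n225212 = n224556 := d10_1 D225212 (iv6 F529266) (iv4 D225211)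
theorem F529269 : act 5 n225212 = n221699 := d12_1 D225212 (iv6 F528378) F528377 F513617 F471711
theorem F529270 : act 7 n225212 = n223833 := d14_2 (iv7 F471709) D225212 F521533 (iv7 F493370) (iv6 F493374)
theorem F529271 : act 0 n225212 = n220782 := d21_4 F419935 F466477 F471711 D225212 F505504 F413340 D213084 (iv5 F468932) F471614 (iv1 F470476)
theorem F529272 : act 0 n213797 = n225212 := d21_4 (iv5 D213784) (iv1 F244833) D155856 D213797 (iv6 D225212) (iv5 F471711) (iv1 D212570) (iv5 F241642) (iv6 F374326) (iv1 F472074)
def n225213 : Q := act 5 n213705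
theorem D225213 : act 5 n213705 = n225213 := rfl
theorem F529273 : act 3 n225213 = n215198 := d6_1 D225213 F478844 (iv3 F471713)
theorem F529274 : act 6 n225213 = n223225 := d12_2 (iv6 F524992) D225213 (iv5 D223225) (iv6 F513728) (iv5 F524988)
theorem F529275 : act 0 n225213 = n219983 := d17_2 (iv1 F524771) D225213 (iv5 D219983) F387124 F387018 D197658 (iv5 F492967) F493189 (iv4 F524768)
def n225214 : Q := act 7 n213706
theorem D225214 : act 7 n213706 = n225214 := rfl
theorem F529276 : act 2 n225214 = n221633 := d4_1 D225214 F510003 F493041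
theorem F529277 : act 3 n225214 = n213710 := d8_1 D225214 (iv7 D213710) (iv3 F471715)
theorem F529278 : act 4 n225214 = n223270 := d11_1 D225214 F524993 F524987
theorem F529279 : act 5 n225214 = n221628 := d13_1 D225214 (iv7 F509973) (iv5 F471716)
theorem F529280 : act 6 n225214 = n222392 := d14_1 D225214 (iv7 F528319) (iv6 D225046) F466527 D213706
theorem F529281 : act 1 n221696 = n225214 := d15_1 (iv0 F510352) (iv7 D225214) (iv2 F493041)
def n225215 : Q := act 5 n213727
theorem D225215 : act 5 n213727 = n225215 := rfl
theorem F529282 : act 2 n225215 = n220467 := d2_1 D225215 (iv5 F525043) F525045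
theorem F529283 : act 3 n225215 = n221187 := d6_1 D225215 (iv5 D221187) (iv3 F471811)
theorem F529284 : act 4 n225215 = n213805 := d9_1 D225215 F472167 (iv4 F438315) F438314 (iv4 D154763) D154764 D213726 (iv5 F528649) F528648 F472174 F467707 F438334 (iv4 D154768) D154769 D213727
theorem F529285 : act 6 n225215 = n223427 := d12_2 F504395 D225215 F519396 F467859 D220568
theorem F529286 : act 7 n225215 = n222852 := d13_2 (iv7 F471812) D225215 F516421
theorem F529287 : act 0 n225215 = n214019 := d17_2 (iv1 F525051) D225215 (iv5 F489290) F489286 F386923 F386916 D212646 F492935 (iv4 F525048)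
theorem F529288 : act 1 n225215 = n218153 := d17_6 (iv1 F466560) (iv5 D212586) (iv1 F231737) D154769 D213727 D225215 (iv5 D218153) (iv0 F471832) (iv4 D213732)
def n225216 : Q := act 6 n213753
theorem D225216 : act 6 n213753 = n225216 := rfl
theorem F529289 : act 2 n225216 = n223146 := d3_1 D225216 (iv6 D223146) (iv2 F471931)
theorem F529290 : act 3 n225216 = n224549 := d7_1 D225216 (iv6 F525587) F472687
theorem F529291 : act 4 n225216 = n213754 := d10_1 D225216 (iv6 D213754) D213753
theorem F529292 : act 5 n225216 = n224614 := d12_1 D225216 (iv6 F525941) F472167 (iv6 F472675) (iv5 F472679)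
theorem F529293 : act 7 n225216 = n223279 := d14_2 (iv7 F471932) D225216 (iv6 D223279) F469244 (iv6 F469243)
theorem F529294 : act 0 n225216 = n224554 := d21_4 F517862 F472680 (iv5 F472679) D225216 (iv6 D224554) (iv5 F515290) F515291 F472970 F452792 D223144
def n225217 : Q := act 3 n213770
theorem D225217 : act 3 n213770 = n225217 := rfl
theorem F529295 : act 2 n225217 = n224595 := d0_1 D225217 (iv3 F525842) (iv2 F491431) D224525 (iv2 F525470)
theorem F529296 : act 4 n225217 = n225088 := d5_2 D213770 D225217 (iv3 F528570) F471071 (iv3 F365351)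
theorem F529297 : act 5 n225217 = n220983 := d6_2 (iv5 F472021) D225217 (iv3 F506636)
theorem F529298 : act 6 n225217 = n224952 := d7_2 (iv6 F472020) D225217 F527783
theorem F529299 : act 7 n225217 = n224594 := d8_2 F524678 D225217 F525835
theorem F529300 : act 0 n225217 = n224591 := d19_4 (iv1 D155682) D155683 D213770 D225217 (iv5 D224591) F516604 F516599 F467976 (iv5 D201795) D201794 (iv3 F441868) (iv1 F441870) (iv5 D195256) F161916 F83825 (iv1 F168256) D63560 D135242 F348153
theorem F529301 : act 0 n222886 = n225217 := d20_4 F443338 (iv1 F486951) F486948 (iv3 F516587) (iv3 D225217) (iv4 D213770) D213769 F472015 F454651 (iv1 F443339)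
def n225218 : Q := act 0 n213808
theorem D225218 : act 0 n213808 = n225218 := rfl
theorem F529302 : act 5 n225218 = n223052 := d17_1 D225218 F517445 (iv5 F528822) F528823 F470524 (iv0 F471056) (iv5 F471123) (iv0 F471126) (iv4 F472183)
theorem F529303 : act 4 n225218 = n215563 := d18_3 F484426 (iv4 F472183) D225218 (iv5 D215563) F274460 (iv0 F364023) (iv4 F426599) (iv0 F487599) F487597
theorem F529304 : act 3 n225218 = n223721 := d20_5 F528625 (iv1 F484423) (iv4 F481480) (iv3 F472182) D225218 (iv4 D223721) (iv1 F474082) (iv4 F474083) (iv3 F469540) (iv1 F528623)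
theorem F529305 : act 6 n225218 = n223457 := d21_5 F469413 (iv1 D155877) D155878 D213808 D225218 (iv5 F526987) F526990 (iv5 F529193) F529194 (iv1 F517723)
theorem F529306 : act 2 n215802 = n225218 := d15_3 (iv0 D225218) (iv0 F472184) (iv7 F481635)
theorem F529307 : act 1 n220499 = n225218 := d15_0 (iv0 D225218) (iv7 F529066) F529062
theorem F529308 : act 7 n225218 = n213942 := d15_2 D220499 F529307 F472822
def n225219 : Q := act 5 n213808
theorem D225219 : act 5 n213808 = n225219 := rfl
theorem F529309 : act 2 n225219 = n216574 := d2_1 D225219 (iv5 F529059) F529055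
theorem F529310 : act 3 n225219 = n223357 := d6_1 D225219 F519031 (iv3 F472182)
theorem F529311 : act 4 n225219 = n223183 := d9_1 D225219 F518064 F517201 F432574 (iv4 D204446) D204447 (iv4 F504067) F504115 F504113 F458732 F245090 D197122 F415424 D204445 (iv4 F472183)
theorem F529312 : act 6 n225219 = n213810 := d12_2 D213808 D225219 (iv5 D213810) (iv6 D155879) D155878
theorem F529313 : act 7 n225219 = n225140 := d13_2 F529066 D225219 (iv5 F529064)
theorem F529314 : act 0 n225219 = n223485 := d17_2 F472184 D225219 (iv5 D223485) (iv4 F489265) (iv5 F492308) (iv0 D218137) F391049 (iv0 D193804) D193807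
theorem F529315 : act 1 n225219 = n220629 := d17_6 F426601 (iv5 D123820) D123818 D204445 (iv4 F472183) D225219 (iv5 D220629) D220627 F504697
def n225220 : Q := act 4 n213810
theorem D225220 : act 4 n213810 = n225220 := rfl
theorem F529316 : act 3 n225220 = n225099 := d5_1 D225220 F528629 (iv3 D216699) (iv4 F458685) (iv3 F472189)
theorem F529317 : act 5 n225220 = n220497 := d9_2 D213810 D225220 (iv4 D220497) (iv5 F391049) (iv4 F467070) F467071 (iv4 F473779) (iv5 F473783) (iv4 F520921) F520923 (iv4 D220498) (iv5 F411698) F374129 F200970 (iv4 F244859)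
theorem F529318 : act 6 n225220 = n223183 := d10_2 F529312 D225220 (iv4 F529311)
theorem F529319 : act 7 n225220 = n225097 := d11_2 F473791 D225220 F528620
theorem F529320 : act 0 n225220 = n225135 := d17_0 (iv5 D225135) (iv1 F504773) (iv5 F509307) (iv4 D221497) (iv5 D196531) D196530 D221493 F509286 D225220
theorem F529321 : act 1 n225220 = n224378 := d18_6 F472427 F423622 (iv1 D155881) (iv4 F244859) D213810 D225220 F524605 F517038 (iv5 F472426)
def n225221 : Q := act 5 n213825
theorem D225221 : act 5 n213825 = n225221 := rfl
theorem F529322 : act 2 n225221 = n219855 := d2_1 D225221 (iv5 F518136) F518133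
theorem F529323 : act 3 n225221 = n213826 := d6_1 D225221 (iv5 D213826) D213825
theorem F529324 : act 7 n225221 = n225020 := d13_2 (iv7 F513779) D225221 F528154
theorem F529325 : act 4 n225221 = n219863 := d16_2 (iv4 F472251) D225221 (iv5 F521321) F521320 F433711 (iv4 F245585) D214071 F473338 (iv2 F469586)
theorem F529326 : act 0 n225221 = n215048 := d17_2 (iv1 F511056) D225221 (iv5 F507369) F507368 (iv5 F473797) (iv0 F473799) (iv5 F517298) (iv0 F517299) F513150
theorem F529327 : act 1 n225221 = n221122 := d17_6 (iv1 D207375) (iv5 F365197) D202288 (iv5 F469587) (iv4 F472251) D225221 F507334 D221777 F510783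
theorem F529328 : act 6 n225221 = n221823 := d21_3 F510678 (iv1 F511056) D225221 F510945 (iv6 D197392) (iv5 D108133) D108129 D197387 (iv6 F502050) F507524
def n225222 : Q := act 3 n213829
theorem D225222 : act 3 n213829 = n225222 := rfl
theorem F529329 : act 2 n225222 = n219911 := d0_1 D225222 F501153 (iv2 F470050) F464168 (iv2 F472267)
theorem F529330 : act 4 n225222 = n223652 := d5_2 (iv4 F472265) D225222 F520543 F461024 F466509
theorem F529331 : act 5 n225222 = n222105 := d6_2 (iv5 F472264) D225222 F512390
theorem F529332 : act 6 n225222 = n219853 := d7_2 F472266 D225222 (iv3 F500900)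
theorem F529333 : act 7 n225222 = n219910 := d8_2 (iv7 F472263) D225222 F501149
theorem F529334 : act 0 n225222 = n219892 := d19_4 F468631 F468629 (iv4 F472265) D225222 F501075 (iv4 D213906) D213905 (iv1 F472681) (iv5 F517871) F517872 (iv3 F465782) (iv1 F519101) (iv5 D223369) F427075 (iv3 F378281) F378285 F334467 (iv4 F323832) (iv3 F425461)
theorem F529335 : act 0 n219912 = n225222 := d20_4 (iv4 F464823) F501191 F501189 (iv3 F501155) (iv3 D225222) F472265 (iv1 D212576) (iv4 F236059) F464830 (iv1 D212226)
def n225223 : Q := act 5 n213834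
theorem D225223 : act 5 n213834 = n225223 := rfl
theorem F529336 : act 2 n225223 = n213836 := d2_1 D225223 (iv5 D213836) (iv2 F472300)
theorem F529337 : act 3 n225223 = n222700 := d6_1 D225223 (iv5 D222700) (iv3 F472301)
theorem F529338 : act 4 n225223 = n218935 := d9_1 D225223 F496265 F419940 F371574 (iv4 F489378) F489379 (iv4 F472313) (iv5 F493126) (iv4 D218289) (iv5 D188962) F143298 F68332 (iv4 F139625) D187997 (iv4 F472302)
theorem F529339 : act 6 n225223 = n218934 := d12_2 D213834 D225223 F496259 F487745 F379366
theorem F529340 : act 7 n225223 = n215225 := d13_2 F472305 D225223 (iv5 D215225)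
theorem F529341 : act 1 n225223 = n214275 := d17_6 F474300 F474301 (iv1 D187996) D187997 (iv4 F472302) D225223 (iv5 D214275) (iv0 F396728) (iv4 F410296)
def n225224 : Q := act 1 n213836
theorem D225224 : act 1 n213836 = n225224 := rfl
theorem F529342 : act 1 n225224 = n215225 := d15_1 D225224 (iv7 F529340) F529336
theorem F529343 : act 5 n225224 = n214274 := d17_7 F513296 F512706 (iv1 D217556) F370799 (iv4 F244991) D213836 D225224 F476385 (iv4 F513293)
theorem F529344 : act 3 n218089 = n225224 := d19_19 (iv1 D225224) (iv5 D213836) F244991 F168595 (iv1 F168560) (iv5 F360786) F360787 D189073 F375639 (iv5 D188688) (iv4 D92659) D92658 F294796 D186772 (iv4 F485929) (iv3 F485931) F502448 (iv5 F525652) F525653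
theorem F529345 : act 2 n225224 = n214275 := d0_1 F529344 F474352 F296212 (iv3 F373650) (iv2 F492105)
def n225225 : Q := act 6 n213851
theorem D225225 : act 6 n213851 = n225225 := rfl
theorem F529346 : act 2 n225225 = n213957 := d3_1 D225225 (iv6 D213957) (iv2 F472391)
theorem F529347 : act 3 n225225 = n215767 := d7_1 D225225 (iv6 D215767) (iv3 F472392)
theorem F529348 : act 4 n225225 = n225048 := d10_1 D225225 F528326 F484322
theorem F529349 : act 5 n225225 = n213915 := d12_1 D225225 (iv6 D213915) F245215 F245060 D213851
theorem F529350 : act 0 n225225 = n216784 := d21_10 (iv5 F526037) F526039 F525589 (iv6 D223033) F455213 F455211 (iv5 D155995) D155993 D213851 D225225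
theorem F529351 : act 1 n225225 = n216786 := d15_1 (iv0 F529350) (iv7 F504860) F504858
def n225226 : Q := act 6 n213852
theorem D225226 : act 6 n213852 = n225226 := rfl
theorem F529352 : act 2 n225226 = n223097 := d3_1 D225226 F517629 F482153
theorem F529353 : act 3 n225226 = n213854 := d7_1 D225226 (iv6 D213854) D213852
theorem F529354 : act 4 n225226 = n214377 := d10_1 D225226 F474866 (iv4 F472397)
theorem F529355 : act 5 n225226 = n220193 := d12_1 D225226 F502575 (iv5 F529185) (iv6 F529188) F520500
theorem F529356 : act 7 n225226 = n220553 := d14_2 (iv7 F472398) D225226 (iv6 D220553) F391300 (iv6 F245330)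
theorem F529357 : act 0 n225226 = n224732 := d21_10 F526570 F498760 F472730 (iv6 D202719) (iv1 F423778) F423779 (iv5 F468806) (iv1 F520502) F520500 D225226
theorem F529358 : act 0 n223107 = n225226 := d21_4 (iv5 D202094) (iv1 F245208) (iv5 F423194) D223107 (iv6 D225226) (iv5 F520500) (iv1 F520503) F469450 F422706 (iv1 F422870)
def n225227 : Q := act 6 n213862
theorem D225227 : act 6 n213862 = n225227 := rfl
theorem F529359 : act 2 n225227 = n214007 := d3_1 D225227 (iv6 D214007) F472467
theorem F529360 : act 3 n225227 = n224799 := d7_1 D225227 (iv6 F526932) F472481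
theorem F529361 : act 4 n225227 = n224573 := d10_1 D225227 (iv6 D224573) (iv4 F472460)
theorem F529362 : act 5 n225227 = n223727 := d12_1 D225227 F528627 F529207 F529204 F528609
theorem F529363 : act 7 n225227 = n223193 := d14_2 F472464 D225227 (iv6 F518116) F516971 (iv6 F429075)
theorem F529364 : act 0 n225227 = n223194 := d21_4 D213224 (iv1 F528607) F528609 D225227 F518120 F452220 F431075 D219932 F501249 (iv1 F468809)
theorem F529365 : act 0 n222976 = n225227 := d21_4 F111045 D115289 D201960 D222976 (iv6 D225227) (iv5 F528609) (iv1 D225095) (iv5 D213059) (iv6 F351787) (iv1 D156032)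
def n225228 : Q := act 1 n213879
theorem D225228 : act 1 n213879 = n225228 := rfl
theorem F529366 : act 1 n225228 = n220279 := d15_1 D225228 F511099 F511097
theorem F529367 : act 7 n225228 = n214047 := d15_2 (iv0 F502171) D225228 (iv2 F502168)
theorem F529368 : act 4 n225228 = n220290 := d18_7 (iv1 D124312) (iv4 F198792) D204764 F461435 F461434 (iv4 F472547) D225228 (iv0 F503056) F406581
theorem F529369 : act 3 n213886 = n225228 := d20_3 (iv4 F404198) (iv1 F507257) (iv4 F507259) (iv1 D225228) F472546 (iv4 D193150) (iv1 F386043) (iv4 F488266) (iv3 F488270) (iv1 F472356)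
theorem F529370 : act 6 n223281 = n225228 := d21_3 (iv5 D211693) D211691 (iv5 F518605) (iv1 D225228) (iv6 D213879) (iv5 F388953) (iv1 D178661) D178663 (iv6 F400543) (iv1 F462722)
theorem F529371 : act 2 n225228 = n220278 := d3_1 F529370 (iv6 F502999) (iv2 F518608)
def n225229 : Q := act 5 n213879
theorem D225229 : act 5 n213879 = n225229 := rfl
theorem F529372 : act 3 n225229 = n220218 := d6_1 D225229 (iv5 D220218) (iv3 F472546)
theorem F529373 : act 6 n225229 = n220218 := d12_2 D213879 D225229 (iv5 D220218) (iv6 F388952) F388953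
theorem F529374 : act 7 n225229 = n220280 := d13_2 (iv7 F472548) D225229 (iv5 D220280)
theorem F529375 : act 1 n225229 = n223756 := d17_6 (iv1 F360084) (iv5 F429392) (iv1 F461431) F461434 (iv4 F472547) D225229 (iv5 D223756) (iv0 F461417) (iv4 D211402)
def n225230 : Q := act 0 n213887
theorem D225230 : act 0 n213887 = n225230 := rfl
theorem F529376 : act 5 n225230 = n222958 := d17_1 D225230 F516984 F467345 (iv4 F502204) F502205 (iv0 F518977) (iv5 D223345) (iv0 F426884) (iv4 F472576)
theorem F529377 : act 4 n225230 = n216469 := d18_1 D225230 (iv1 D216469) (iv4 F390541) F390542 (iv4 F404198) F508996 F508991 (iv0 D213885) D213887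
theorem F529378 : act 3 n225230 = n222959 := d20_5 (iv4 F423440) (iv1 F390273) D212717 (iv3 F472574) D225230 F516987 F471275 F471270 (iv3 D212735) (iv1 F431846)
theorem F529379 : act 6 n225230 = n220483 := d21_5 (iv5 D137638) (iv1 F166058) (iv5 F382909) (iv6 F472575) D225230 F503989 (iv1 D201927) D201928 F422404 (iv1 F220794)
theorem F529380 : act 2 n214052 = n225230 := d15_3 (iv0 D225230) F473277 (iv7 F473264)
theorem F529381 : act 1 n214055 = n225230 := d15_0 (iv0 D225230) (iv7 F472577) (iv2 F473271)
theorem F529382 : act 7 n225230 = n214053 := d15_2 (iv0 F473276) F529381 F473262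
def n225231 : Q := act 5 n213895
theorem D225231 : act 5 n213895 = n225231 := rfl
theorem F529383 : act 2 n225231 = n221579 := d2_1 D225231 (iv5 F512093) F512090
theorem F529384 : act 3 n225231 = n220769 := d6_1 D225231 F505422 F500320
theorem F529385 : act 4 n225231 = n222056 := d9_1 D225231 F512126 (iv4 D221411) (iv5 D196328) F164769 D108947 D198132 D222049 F512086 (iv5 D219264) (iv4 F477513) F477514 F449890 (iv5 F504203) F504202
theorem F529386 : act 7 n225231 = n221578 := d13_2 F500665 D225231 F509681
theorem F529387 : act 0 n225231 = n221576 := d17_2 D213895 D225231 (iv5 D221576) F401553 (iv5 F331096) F331095 (iv5 D153700) (iv0 F360102) F360105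
theorem F529388 : act 1 n225231 = n215325 := d17_6 (iv1 F407587) (iv5 D198124) (iv1 F405611) (iv5 F504203) F504202 D225231 F479406 (iv0 F508969) (iv4 D221426)
theorem F529389 : act 6 n225231 = n221796 := d21_9 F510847 (iv1 D213360) (iv5 D153579) (iv6 F241382) D213345 (iv6 F472622) (iv5 D213896) D213895 D225231 F510845
def n225232 : Q := act 6 n213908
theorem D225232 : act 6 n213908 = n225232 := rfl
theorem F529390 : act 2 n225232 = n221753 := d3_1 D225232 (iv6 D221753) (iv2 F472690)
theorem F529391 : act 3 n225232 = n214605 := d7_1 D225232 (iv6 F500036) F500035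
theorem F529392 : act 4 n225232 = n213910 := d10_1 D225232 (iv6 D213910) D213908
theorem F529393 : act 5 n225232 = n220330 := d12_1 D225232 F503237 (iv5 F506988) F506989 F501157
theorem F529394 : act 7 n225232 = n223034 := d14_2 (iv7 F472691) D225232 (iv6 D223034) F464096 F472359
theorem F529395 : act 0 n225232 = n223197 := d21_10 F518136 F500910 F464621 (iv6 D202201) F179999 D202342 D223167 F517980 F501157 D225232
theorem F529396 : act 0 n222356 = n225232 := d21_4 (iv5 F422702) (iv1 F396802) (iv5 F411770) D222356 (iv6 D225232) (iv5 F501157) F529335 F529331 (iv6 D222105) F422703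
def n225233 : Q := act 5 n213912
theorem D225233 : act 5 n213912 = n225233 := rfl
theorem F529397 : act 2 n225233 = n223147 := d2_1 D225233 F517874 F472712
theorem F529398 : act 3 n225233 = n223145 := d6_1 D225233 F517871 F472708
theorem F529399 : act 4 n225233 = n221528 := d9_1 D225233 (iv5 D221528) F401111 D196573 F436682 D204770 F436685 D213165 (iv4 F485488) F514870 F514867 (iv5 F436690) (iv4 D204771) (iv5 F406581) F472709
theorem F529400 : act 6 n225233 = n224746 := d12_2 F472710 D225233 (iv5 D224746) F457983 (iv5 F406578)
theorem F529401 : act 7 n225233 = n223148 := d13_2 (iv7 F472707) D225233 F517878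
theorem F529402 : act 0 n225233 = n213914 := d17_2 F472711 D225233 F472717 F422331 (iv5 F360037) (iv0 F406288) (iv5 D193289) D193287 (iv4 F456243)
theorem F529403 : act 1 n225233 = n223136 := d17_6 F500875 F500873 (iv1 F431010) (iv5 F406581) F472709 D225233 (iv5 D223136) F423406 (iv4 F425299)
def n225234 : Q := act 1 n213915
theorem D225234 : act 1 n213915 = n225234 := rfl
theorem F529404 : act 1 n225234 = n223152 := d15_1 D225234 (iv7 D223152) (iv2 F472720)
theorem F529405 : act 7 n225234 = n223150 := d15_2 (iv0 F472721) D225234 (iv2 F517890)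
theorem F529406 : act 4 n225234 = n216735 := d17_9 (iv1 D216735) (iv5 F365612) (iv1 F452608) (iv5 F525238) (iv4 F526036) F526037 (iv0 F529350) F529349 D225234
theorem F529407 : act 5 n225234 = n224745 := d18_9 F526640 (iv4 F528331) (iv1 F528335) (iv4 F511449) (iv5 D209836) (iv4 F390287) (iv0 F498479) F498476 D225234
theorem F529408 : act 3 n224746 = n225234 := d19_19 (iv1 D225234) (iv5 F529349) F529348 (iv3 F529228) F529231 (iv5 F519426) (iv4 F519427) (iv3 F458404) (iv1 F469030) (iv5 F469032) (iv4 D209786) (iv3 F430915) (iv1 F469562) D216720 F485614 F455165 (iv1 F413422) D219886 (iv4 F526642)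
theorem F529409 : act 6 n223145 = n225234 := d21_3 F472679 (iv1 F472681) (iv5 F517871) (iv1 D225234) (iv6 D213915) F245215 (iv1 D115246) D115247 (iv6 F422328) (iv1 F471934)
theorem F529410 : act 2 n225234 = n223151 := d3_1 F529409 (iv6 F517894) F517873
def n225235 : Q := act 5 n213918
theorem D225235 : act 5 n213918 = n225235 := rfl
theorem F529411 : act 2 n225235 = n213923 := d2_1 D225235 (iv5 D213923) F472736
theorem F529412 : act 3 n225235 = n225112 := d6_1 D225235 (iv5 D225112) (iv3 F472733)
theorem F529413 : act 4 n225235 = n225229 := d9_1 D225235 (iv5 D225229) F472547 (iv5 F461434) (iv4 F461435) F433505 F423007 D202134 D223092 F517600 F503001 (iv5 F461425) F461424 (iv5 F464454) (iv4 F472732)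
theorem F529414 : act 7 n225235 = n213925 := d13_2 (iv7 F472735) D225235 (iv5 D213925)
theorem F529415 : act 0 n225235 = n216600 := d17_2 D213918 D225235 F485131 F449727 (iv5 F429454) (iv0 F479977) (iv5 D215434) F415035 F415032
theorem F529416 : act 1 n225235 = n223091 := d17_8 F528437 F517878 F428966 D210120 (iv4 F472763) F472764 F472739 D225235 (iv4 F528433)
def n225236 : Q := act 0 n213919
theorem D225236 : act 0 n213919 = n225236 := rfl
theorem F529417 : act 5 n225236 = n221560 := d17_1 D225236 F516921 (iv5 F527886) F527885 F472717 (iv0 F422334) D202253 (iv0 F502210) F502207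
theorem F529418 : act 3 n225236 = n223112 := d20_5 (iv4 D213594) F388323 (iv4 F388326) (iv3 F472741) D225236 (iv4 F526111) (iv1 D224651) (iv4 F517187) F517184 (iv1 F472599)
theorem F529419 : act 1 n213928 = n225236 := d15_0 (iv0 D225236) (iv7 F529072) F529069
theorem F529420 : act 2 n213926 = n225236 := d0_5 F529418 F517705 (iv3 F517410) (iv2 F526097) (iv3 F526101)
theorem F529421 : act 7 n213927 = n225236 := d8_0 F529418 (iv7 F519043) F519041
def n225237 : Q := act 1 n213919
theorem D225237 : act 1 n213919 = n225237 := rfl
theorem F529422 : act 1 n225237 = n213928 := d15_1 D225237 (iv7 D213928) (iv2 F472740)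
theorem F529423 : act 7 n225237 = n213926 := d15_2 (iv0 D225236) D225237 F529420
theorem F529424 : act 5 n225237 = n213969 := d17_7 (iv1 F480455) (iv5 F480017) F461414 F415036 F415032 D213919 D225237 F516922 F516918
theorem F529425 : act 6 n225121 = n225237 := d21_3 (iv5 D220514) (iv1 F481465) (iv5 F528769) (iv1 D225237) F472742 (iv5 D156088) D156086 D213923 (iv6 F481640) (iv1 F504135)
theorem F529426 : act 2 n225237 = n213927 := d3_1 F529425 F502922 F528772
def n225238 : Q := act 4 n213923
theorem D225238 : act 4 n213923 = n225238 := rfl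
theorem F529427 : act 2 n225238 = n225229 := d1_1 D225238 (iv4 F529413) F529411
theorem F529428 : act 5 n225238 = n221859 := d9_2 D213923 D225238 F511098 (iv5 F476267) (iv4 D214661) F401351 F366109 D213925 (iv4 F503004) (iv5 D220280) F389392 D193289 F461429 (iv5 F472752) (iv4 D213922)
theorem F529429 : act 6 n225238 = n219805 := d10_2 F481640 D225238 F500697
theorem F529430 : act 7 n225238 = n223092 := d11_2 (iv7 F472755) D225238 (iv4 D223092)
def n225239 : Q := act 6 n213941
theorem D225239 : act 6 n213941 = n225239 := rfl
theorem F529431 : act 2 n225239 = n215800 := d3_1 D225239 F526500 F526496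
theorem F529432 : act 3 n225239 = n213942 := d7_1 D225239 (iv6 D213942) D213941
theorem F529433 : act 4 n225239 = n215566 := d10_1 D225239 (iv6 F498470) F498469
theorem F529434 : act 5 n225239 = n223064 := d12_1 D225239 (iv6 D223064) F422871 D209865 (iv5 F472821)
theorem F529435 : act 7 n225239 = n223721 := d14_2 F500638 D225239 (iv6 F520910) F519028 (iv6 F500637)
theorem F529436 : act 0 n225239 = n225058 := d21_4 F526981 (iv1 F518567) (iv5 F472821) D225239 F528392 F525569 (iv1 F455195) F423234 D223039 (iv1 F526984)
theorem F529437 : act 0 n213961 = n225239 := d21_4 (iv5 D213851) (iv1 F245062) (iv5 F245337) D213961 (iv6 D225239) F472821 F517674 F517672 (iv6 D216773) (iv1 F472395)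
def n225240 : Q := act 5 n213948
theorem D225240 : act 5 n213948 = n225240 := rfl
theorem F529438 : act 2 n225240 = n213949 := d2_1 D225240 (iv5 D213949) D213948
theorem F529439 : act 3 n225240 = n222997 := d6_1 D225240 (iv5 D222997) (iv3 F472849)
theorem F529440 : act 6 n225240 = n223263 := d12_2 (iv6 F472851) D225240 (iv5 D223263) F424755 (iv5 F400898)
theorem F529441 : act 7 n225240 = n216605 := d13_2 F525126 D225240 (iv5 F525120)
theorem F529442 : act 0 n225240 = n216604 := d17_2 (iv1 F472852) D225240 (iv5 F526074) F526073 F513772 F482660 F478903 (iv0 D193283) (iv4 F389393)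
theorem F529443 : act 4 n225240 = n216446 := d17_4 F458292 F458302 (iv1 F472852) D225240 (iv5 F504179) F504182 F483407 (iv0 D185183) (iv4 F287514)
theorem F529444 : act 1 n225240 = n216603 := d17_6 (iv1 D204793) (iv5 F429545) D223504 F519786 (iv4 F472850) D225240 F485144 (iv0 F481735) F455181
def n225241 : Q := act 5 n213950
theorem D225241 : act 5 n213950 = n225241 := rfl
theorem F529445 : act 2 n225241 = n216183 := d2_1 D225241 F483305 (iv2 F472856)
theorem F529446 : act 3 n225241 = n213951 := d6_1 D225241 (iv5 D213951) D213950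
theorem F529447 : act 4 n225241 = n216143 := d9_1 D225241 F483164 (iv4 F475638) F475637 (iv4 F429192) F429193 D213814 (iv5 F502606) (iv4 D220199) (iv5 D193122) (iv4 F370621) (iv5 F466753) F466752 (iv5 F453626) (iv4 F472857)
theorem F529448 : act 7 n225241 = n216180 := d13_2 (iv7 F472859) D225241 F483299
theorem F529449 : act 0 n225241 = n224817 := d17_2 (iv1 F472860) D225241 F527038 F458864 (iv5 F466224) (iv0 F466225) (iv5 F469162) (iv0 F492290) F492287
theorem F529450 : act 1 n225241 = n224812 := d17_6 F468862 F438191 (iv1 F373998) (iv5 F453626) (iv4 F472857) D225241 (iv5 D224812) (iv0 F510639) F510636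
def n225242 : Q := act 6 n213951
theorem D225242 : act 6 n213951 = n225242 := rfl
theorem F529451 : act 2 n225242 = n219824 := d3_1 D225242 F500759 (iv2 F472861)
theorem F529452 : act 4 n225242 = n219814 := d10_1 D225242 (iv6 F518867) F518866
theorem F529453 : act 5 n225242 = n221545 := d12_1 D225242 (iv6 D221545) (iv5 F409593) F409591 D213951
theorem F529454 : act 7 n225242 = n219813 := d14_2 (iv7 F472862) D225242 F500738 (iv7 F485198) F485200
theorem F529455 : act 0 n225242 = n219823 := d21_4 F404087 (iv1 F245280) D213951 D225242 (iv6 F514982) (iv5 D222576) (iv1 D200205) (iv5 F415500) (iv6 D200203) F404088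
theorem F529456 : act 0 n219822 = n225242 := d21_4 (iv5 D222978) D222977 (iv5 F526738) F526737 (iv6 D225242) (iv5 D213951) (iv1 D156106) D156107 (iv6 F455260) (iv1 F517084)
def n225243 : Q := act 6 n213954
theorem D225243 : act 6 n213954 = n225243 := rfl
theorem F529457 : act 2 n225243 = n221831 := d3_1 D225243 (iv6 D221831) (iv2 F472873)
theorem F529458 : act 4 n225243 = n225186 := d10_1 D225243 (iv6 D225186) (iv4 F472874)
theorem F529459 : act 5 n225243 = n221840 := d12_1 D225243 (iv6 D221840) F404096 (iv6 F245288) (iv5 F472875)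
theorem F529460 : act 0 n225243 = n225166 := d21_4 (iv5 D197343) (iv1 F245290) (iv5 F472875) D225243 F528996 F511200 (iv1 F470072) (iv5 F514966) (iv6 D222569) F415496
def n225244 : Q := act 1 n213957
theorem D225244 : act 1 n213957 = n225244 := rfl
theorem F529461 : act 7 n225244 = n216784 := d15_2 (iv0 F504861) D225244 (iv2 F504858)
theorem F529462 : act 5 n225244 = n224484 := d17_7 F420950 (iv5 D136530) (iv1 F344181) D193023 (iv4 F423441) (iv5 F472884) D225244 F525235 (iv4 D222874)
theorem F529463 : act 4 n225244 = n216766 := d18_7 (iv1 D212430) (iv4 F465653) F465656 F465799 (iv5 F484328) F484327 D225244 F485847 F465776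
theorem F529464 : act 3 n223078 = n225244 := d19_19 (iv1 D225244) F472884 F423441 (iv3 F502392) F502394 (iv5 F469312) F469311 (iv3 F499470) F499473 (iv5 F498525) F498524 F492395 (iv1 F433192) (iv5 D137013) (iv4 F179650) (iv3 D115374) D115373 D202107 D223078
theorem F529465 : act 2 n225244 = n216786 := d0_1 F529464 F485910 F481875 (iv3 F481877) (iv2 F517530)
theorem F529466 : act 6 n223651 = n225244 := d10_0 F529463 (iv6 F485848) (iv4 F520541)
def n225245 : Q := act 6 n213963
theorem D225245 : act 6 n213963 = n225245 := rfl
theorem F529467 : act 3 n225245 = n213964 := d7_1 D225245 (iv6 D213964) (iv3 F472901)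
theorem F529468 : act 4 n225245 = n224685 := d10_1 D225245 (iv6 D224685) (iv4 F472903)
theorem F529469 : act 5 n225245 = n220542 := d12_1 D225245 (iv6 D220542) (iv5 D193873) F329303 D213963
def n225246 : Q := act 0 n213964
theorem D225246 : act 0 n213964 = n225246 := rfl
theorem F529470 : act 5 n225246 = n223088 := d17_3 F503998 (iv5 F472907) D225246 F517590 F453902 (iv0 F388377) (iv5 F498477) (iv0 F498480) (iv4 F503995)
theorem F529471 : act 4 n225246 = n216662 := d18_1 D225246 (iv1 F519455) (iv4 F528786) F528787 F517896 F502415 F390287 (iv0 F467234) (iv5 F472907)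
theorem F529472 : act 1 n216780 = n225246 := d15_0 (iv0 D225246) (iv7 F528811) F528808
theorem F529473 : act 3 n221498 = n225246 := d20_3 (iv4 D202096) (iv1 F400999) (iv4 F509310) (iv1 F529472) F485902 F287752 D185488 D216784 F485909 F438143
theorem F529474 : act 2 n225246 = n216781 := d0_1 F529473 (iv3 F528722) F528721 F517518 (iv2 F509309)
theorem F529475 : act 7 n225246 = n216782 := d8_2 D221498 F529473 (iv3 F485906)
def n225247 : Q := act 1 n213964
theorem D225247 : act 1 n213964 = n225247 := rfl
theorem F529476 : act 1 n225247 = n216780 := d15_1 D225247 F485905 (iv2 F472905)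
theorem F529477 : act 7 n225247 = n216781 := d15_2 (iv0 D225246) D225247 (iv2 F529474)
theorem F529478 : act 4 n225247 = n224148 := d17_9 (iv1 F528329) (iv5 D225048) (iv1 F466731) D221929 (iv4 F511449) (iv5 D209836) (iv0 F467234) (iv5 F472907) D225247
theorem F529479 : act 5 n225247 = n223089 := d18_9 (iv1 F527415) (iv4 D224885) F460699 (iv4 F525595) F525596 (iv4 D220663) F485851 (iv4 F472906) D225247
theorem F529480 : act 3 n223073 = n225247 := d19_19 (iv1 D225247) F472907 F423475 (iv3 F458510) F458513 (iv5 F343237) (iv4 F412540) D222418 F514110 F412775 (iv4 F231732) (iv3 D128501) (iv1 F205393) F205391 (iv4 F251057) (iv3 F475171) F505226 (iv5 F519511) (iv4 F519515)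
theorem F529481 : act 2 n225247 = n216782 := d0_1 F529480 (iv3 F485906) F400995 D202103 D223073
theorem F529482 : act 6 n225247 = n225059 := d7_2 (iv6 F517517) F529480 (iv3 F528398)
def n225248 : Q := act 5 n213972
theorem D225248 : act 5 n213972 = n225248 := rfl
theorem F529483 : act 2 n225248 = n221779 := d2_1 D225248 (iv5 D221779) (iv2 F472931)
theorem F529484 : act 3 n225248 = n221771 := d6_1 D225248 (iv5 D221771) F472934
theorem F529485 : act 7 n225248 = n221781 := d13_2 (iv7 F472932) D225248 (iv5 D221781)
theorem F529486 : act 4 n225248 = n224347 := d16_6 (iv4 F448947) F423005 F472939 (iv5 D213973) D213972 D225248 (iv5 D224347) (iv7 F448946) (iv2 F448949)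
theorem F529487 : act 0 n225248 = n224978 := d17_2 F472933 D225248 (iv5 D224978) F463135 (iv5 F481866) (iv0 D215869) (iv5 F433268) (iv0 F433269) (iv4 F403653)
theorem F529488 : act 1 n225248 = n224833 := d17_6 D202036 D223021 F517291 (iv5 D213973) D213972 D225248 (iv5 D224833) (iv0 F517279) F422764
def n225249 : Q := act 5 n213974
theorem D225249 : act 5 n213974 = n225249 := rfl
theorem F529489 : act 2 n225249 = n221781 := d2_1 D225249 (iv5 D221781) (iv2 F472940)
theorem F529490 : act 3 n225249 = n216186 := d6_1 D225249 (iv5 F528682) F528678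
theorem F529491 : act 6 n225249 = n224725 := d12_2 F472943 D225249 F526530 (iv6 F458830) (iv5 F460885)
theorem F529492 : act 7 n225249 = n221779 := d13_2 (iv7 F472941) D225249 (iv5 D221779)
theorem F529493 : act 4 n225249 = n224348 := d16_2 D213974 D225249 (iv5 D224348) (iv4 F448947) F423005 F472939 (iv5 D213973) F455285 F455286
theorem F529494 : act 0 n225249 = n224833 := d17_2 (iv1 F472944) D225249 (iv5 D224833) (iv4 F526896) F526897 F520285 F520281 F472491 (iv4 F403981)
theorem F529495 : act 1 n225249 = n224978 := d17_6 (iv1 F472781) (iv5 F485860) (iv1 F485864) (iv5 D213975) D213974 D225249 (iv5 D224978) F527099 F527096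
def n225250 : Q := act 4 n213975
theorem D225250 : act 4 n213975 = n225250 := rfl
theorem F529496 : act 2 n225250 = n223070 := d1_1 D225250 F517509 (iv2 F472946)
theorem F529497 : act 5 n225250 = n223122 := d9_2 D213975 D225250 F517758 D224347 (iv4 F529486) (iv5 D225248) (iv4 D213972) D213973 (iv4 F472939) (iv5 F423005) F448947 D224348 (iv4 F529493) (iv5 D225249) (iv4 D213974)
theorem F529498 : act 6 n225250 = n223052 := d10_2 F472949 D225250 (iv4 D223052)
theorem F529499 : act 7 n225250 = n213985 := d11_2 (iv7 F472948) D225250 F472986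
theorem F529500 : act 0 n225250 = n223069 := d17_0 (iv5 F519684) (iv1 F519688) (iv5 F526099) (iv4 D224649) (iv5 F472780) F472782 D223021 F517292 D225250
theorem F529501 : act 1 n225250 = n223068 := d18_6 (iv1 F472495) (iv4 F403981) (iv1 F472944) (iv4 D213974) D213975 D225250 F517503 (iv0 D215869) (iv5 F433268)
theorem F529502 : act 3 n225250 = n223076 := d19_3 (iv1 F245390) D213975 D225250 (iv1 F519655) (iv5 D223476) (iv4 D203602) (iv3 F212309) F310607 (iv5 D37199) F29064 (iv3 F28846) F324097 (iv5 D25104) F19665 (iv3 F19643) D25097 F81358 (iv4 F111151) (iv3 F220236)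
def n225251 : Q := act 3 n213977
theorem D225251 : act 3 n213977 = n225251 := rfl
theorem F529503 : act 2 n225251 = n225064 := d0_1 D225251 F528426 F509277 F422841 F472953
theorem F529504 : act 5 n225251 = n222949 := d6_2 (iv5 F472952) D225251 F516936
theorem F529505 : act 6 n225251 = n225236 := d7_2 F517706 D225251 F529418
theorem F529506 : act 7 n225251 = n220630 := d8_2 F472954 D225251 F504709
theorem F529507 : act 4 n225251 = n221611 := d20_6 F287537 (iv1 F362807) D204501 (iv3 F432729) D213977 D225251 F509862 F467349 F449621 F449620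
theorem F529508 : act 0 n223142 = n225251 := d18_0 F529507 F509862 F467349 D215860 (iv4 F524815) F524818 F502694 (iv0 F504283) (iv5 F517858)
theorem F529509 : act 0 n225251 = n223141 := d20_1 (iv4 F529507) (iv4 D223141) D223140 F517852 F485102 (iv4 D212711) (iv1 F234391) (iv4 F234525) (iv3 F467351) (iv1 F509863)
def n225252 : Q := act 4 n213977
theorem D225252 : act 4 n213977 = n225252 := rfl
theorem F529510 : act 2 n225252 = n223023 := d1_1 D225252 (iv4 D223023) F472953
theorem F529511 : act 6 n225252 = n224651 := d10_2 F517706 D225252 F526111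
theorem F529512 : act 7 n225252 = n224649 := d11_2 F472954 D225252 (iv4 D224649)
theorem F529513 : act 1 n225252 = n224846 := d18_6 F517081 (iv4 F515258) F515260 F507153 (iv5 F472952) D225252 F527182 D224847 (iv5 F527188)
theorem F529514 : act 3 n225252 = n225237 := d19_3 (iv1 D222950) (iv5 F472952) D225252 (iv1 D225237) (iv5 D213919) (iv4 F415032) F415031 (iv1 F436696) F436693 (iv4 D197933) (iv3 F406194) D221981 F511748 F432392 (iv3 D123892) D123890 (iv5 F415067) (iv4 F424773) (iv3 F516944)
theorem F529515 : act 5 n223479 = n225252 := d19_1 F527798 (iv4 D225252) D225251 F529509 F517855 (iv4 D220543) F500340 F500342 F391804 (iv4 F466796) F466795 F428384 (iv5 F451866) (iv4 D209018) F430848 F462689 (iv5 D211686) (iv4 F462678) (iv3 F527796)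
def n225253 : Q := act 1 n213979
theorem D225253 : act 1 n213979 = n225253 := rfl
theorem F529516 : act 1 n225253 = n214041 := d15_1 D225253 F473228 (iv2 F472960)
theorem F529517 : act 7 n225253 = n215848 := d15_2 (iv0 F526796) D225253 (iv2 F526791)
theorem F529518 : act 5 n225253 = n222956 := d17_7 (iv1 F493608) (iv5 F524464) F529118 F529115 F518294 (iv5 F517777) D225253 (iv0 F516976) (iv4 F493605)
theorem F529519 : act 4 n225253 = n214024 := d17_9 (iv1 D214024) (iv5 D156208) D156206 D214020 (iv4 F473153) F473019 D223126 (iv5 F517777) D225253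
theorem F529520 : act 3 n214062 = n225253 := d19_19 (iv1 D225253) F517777 (iv4 F518294) F518293 F458165 F410315 (iv4 D153650) (iv3 F241519) (iv1 F356514) (iv5 D143513) (iv4 D67216) D67215 D143504 F346238 (iv4 F236185) (iv3 F430748) (iv1 F451433) (iv5 F451438) (iv4 F473294)
theorem F529521 : act 6 n222969 = n225253 := d21_3 (iv5 D201956) D201954 D222969 (iv1 D225253) F472962 F245413 (iv1 F452799) (iv5 F472998) F517053 (iv1 D222972)
theorem F529522 : act 2 n225253 = n222362 := d3_1 F529521 F513806 (iv2 F517036)
def n225254 : Q := act 3 n213981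
theorem D225254 : act 3 n213981 = n225254 := rfl
theorem F529523 : act 2 n225254 = n223067 := d0_1 D225254 (iv3 D223067) (iv2 F472979) F472980 (iv2 F472968)
theorem F529524 : act 5 n225254 = n224499 := d6_2 (iv5 F472970) D225254 (iv3 D224499)
theorem F529525 : act 6 n225254 = n223053 := d7_2 F472971 D225254 (iv3 D223053)
theorem F529526 : act 7 n225254 = n223067 := d8_2 (iv7 F472969) D225254 (iv3 D223067)
theorem F529527 : act 0 n225254 = n224622 := d20_4 (iv4 D196534) (iv1 F245402) D213981 D225254 (iv3 D224622) (iv4 D209822) F455013 D224613 F525931 F473016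
theorem F529528 : act 0 n224622 = n225254 := d20_4 (iv4 D224585) F454744 D209822 D224622 (iv3 D225254) (iv4 D213981) F245401 (iv4 F422887) (iv3 F517518) (iv1 F525780)
def n225255 : Q := act 0 n213985
theorem D225255 : act 0 n213985 = n225255 := rfl
theorem F529529 : act 5 n225255 = n224954 := d17_1 D225255 F527798 F529515 (iv4 D225252) F472952 D222950 (iv5 F520675) (iv0 F520678) (iv4 F472986)
theorem F529530 : act 4 n225255 = n223600 := d18_1 D225255 (iv1 D223600) (iv4 F520263) F520264 (iv4 F527470) (iv0 F527472) (iv4 F482099) (iv0 F482100) (iv5 F472987)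
theorem F529531 : act 6 n225255 = n220746 := d21_5 F220181 (iv1 F111479) D156158 D213985 D225255 (iv5 D220746) (iv1 F463359) F463356 (iv6 D202093) (iv1 F220183)
theorem F529532 : act 2 n223068 = n225255 := d15_3 (iv0 D225255) (iv0 F526978) F526977
theorem F529533 : act 1 n223070 = n225255 := d15_0 (iv0 D225255) (iv7 F529499) F529496
theorem F529534 : act 7 n225255 = n223069 := d15_2 F526979 F529533 (iv2 F526974)
theorem F529535 : act 3 n224955 = n225255 := d20_9 F517509 (iv1 F472938) (iv4 F518140) F518138 F423912 (iv3 F472853) (iv4 F472855) D216445 (iv4 F527801) (iv1 F529533)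
def n225256 : Q := act 0 n213986
theorem D225256 : act 0 n213986 = n225256 := rfl
theorem F529536 : act 4 n225256 = n225204 := d18_1 D225256 F529225 F528252 F473170 F467299 (iv0 F346052) F365378 F455101 (iv5 F472990)
theorem F529537 : act 3 n225256 = n224629 := d20_5 (iv4 D202086) F179641 D156159 D213986 D225256 (iv4 F528247) (iv1 D225034) (iv4 F527210) (iv3 D224851) F459151
theorem F529538 : act 6 n225256 = n214008 := d21_5 (iv5 D215431) F428861 (iv5 F465804) (iv6 F472991) D225256 (iv5 F473092) (iv1 D213058) D213059 F468818 (iv1 F479960)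
theorem F529539 : act 1 n224628 = n225256 := d15_0 (iv0 D225256) F472992 (iv2 F525997)
theorem F529540 : act 2 n224630 = n225256 := d3_3 F529538 F473098 F526006
theorem F529541 : act 7 n224629 = n225256 := d14_0 F529538 F473090 (iv6 F501203) (iv7 F502634) F526002
def n225257 : Q := act 1 n213986
theorem D225257 : act 1 n213986 = n225257 := rfl
theorem F529542 : act 1 n225257 = n224628 := d15_1 D225257 F525999 (iv2 F472988)
theorem F529543 : act 7 n225257 = n224630 := d15_2 (iv0 D225256) D225257 F529540
theorem F529544 : act 5 n225257 = n224885 := d17_7 (iv1 F516004) (iv5 D222772) F501857 F501855 (iv4 F455099) (iv5 F472990) D225257 F527415 F517593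
theorem F529545 : act 6 n219651 = n225257 := d21_3 F485893 F384846 D219651 (iv1 D225257) F472991 F465804 F438132 D223978 F522333 F491127
theorem F529546 : act 2 n225257 = n224629 := d3_1 F529545 (iv6 F526002) F502631
def n225258 : Q := act 1 n213987
theorem D225258 : act 1 n213987 = n225258 := rfl
theorem F529547 : act 1 n225258 = n224650 := d15_1 D225258 F526106 (iv2 F472993)
theorem F529548 : act 7 n225258 = n223486 := d15_2 (iv0 F517429) D225258 F519699
theorem F529549 : act 4 n225258 = n223020 := d18_7 (iv1 F458996) F458993 (iv1 F458973) (iv4 F458976) (iv5 F455110) (iv4 F472995) D225258 (iv0 F518194) (iv5 D223207)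
theorem F529550 : act 3 n223485 = n225258 := d19_19 (iv1 D225258) (iv5 F486944) (iv4 D217003) F367499 F338082 F338075 (iv4 F308609) F263627 F303227 F116431 (iv4 F316435) (iv3 F320611) F345703 F321134 D139693 (iv3 F349401) (iv1 F400978) D221493 (iv4 F519695)
theorem F529551 : act 6 n223023 = n225258 := d21_3 (iv5 F519690) (iv1 D223484) F517301 (iv1 D225258) (iv6 D213987) F245418 (iv1 F111484) (iv5 F179643) D202100 D223068
theorem F529552 : act 5 n223482 = n225258 := d21_6 F245336 (iv1 F245261) F359521 D216770 F485868 D223482 (iv1 D225258) (iv5 F486944) F486943 F384692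
theorem F529553 : act 2 n225258 = n224651 := d2_1 F529552 F526110 F524379
def n225259 : Q := act 5 n213989
theorem D225259 : act 5 n213989 = n225259 := rfl
theorem F529554 : act 2 n225259 = n216451 := d2_1 D225259 F484437 (iv2 F473001)
theorem F529555 : act 3 n225259 = n225135 := d6_1 D225259 (iv5 D225135) (iv3 F473002)
theorem F529556 : act 4 n225259 = n216449 := d9_1 D225259 (iv5 F487597) F487596 (iv5 D215984) (iv4 F472440) (iv5 F517044) (iv4 F524952) F524953 F481757 F471123 F471054 F347856 (iv4 F472435) (iv5 F517051) F517055
theorem F529557 : act 6 n225259 = n213990 := d12_2 D213989 D225259 (iv5 D213990) (iv6 D156163) D156162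
theorem F529558 : act 7 n225259 = n225141 := d13_2 (iv7 F517452) D225259 F528885
theorem F529559 : act 0 n225259 = n224850 := d18_0 F527206 F465790 (iv4 F481634) (iv5 F518081) F518082 (iv0 D221495) D221497 (iv0 F509308) D225259
def n225260 : Q := act 3 n213999
theorem D225260 : act 3 n213999 = n225260 := rfl
theorem F529560 : act 2 n225260 = n219860 := d0_1 D225260 F500927 F386592 (iv3 F482176) (iv2 F482178)
theorem F529561 : act 4 n225260 = n221821 := d5_2 D213999 D225260 (iv3 D221821) (iv4 F472399) (iv3 F472400)
theorem F529562 : act 5 n225260 = n216785 := d6_2 F520978 D225260 F520981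
theorem F529563 : act 7 n225260 = n219851 := d8_2 F482180 D225260 F500891
theorem F529564 : act 0 n225260 = n219617 := d19_4 (iv1 F473050) (iv5 D214000) D213999 D225260 F499700 F485158 F485155 (iv1 F449644) (iv5 F449643) (iv4 D193865) (iv3 F391239) (iv1 F484371) F484369 F289354 (iv3 F289350) F415888 (iv5 F458723) (iv4 D210763) (iv3 F469519)
theorem F529565 : act 0 n219858 = n225260 := d20_4 (iv4 D147848) (iv1 F231579) (iv4 F393135) (iv3 F500918) (iv3 D225260) (iv4 D213999) (iv1 F473045) F473041 F287516 (iv1 F353726)
theorem F529566 : act 6 n225260 = n224515 := d21_5 F411772 F369174 F411751 (iv6 F500920) F529565 (iv5 D224515) F453317 F446571 F457058 (iv1 F457056)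
def n225261 : Q := act 6 n213999
theorem D225261 : act 6 n213999 = n225261 := rfl
theorem F529567 : act 2 n225261 = n219841 := d3_1 D225261 F500841 (iv2 F482178)
theorem F529568 : act 3 n225261 = n224515 := d7_1 D225261 (iv6 F529566) (iv3 D225260)
theorem F529569 : act 4 n225261 = n214001 := d10_1 D225261 (iv6 D214001) D213999
theorem F529570 : act 5 n225261 = n224448 := d12_1 D225261 F525037 F519493 (iv6 F520979) F520978
theorem F529571 : act 7 n225261 = n219833 := d14_2 F482180 D225261 (iv6 D219833) (iv7 F499806) F499809
theorem F529572 : act 0 n225261 = n219840 := d21_4 F526572 F520980 F520978 D225261 (iv6 F500835) (iv5 F444016) (iv1 F457840) (iv5 D210506) D210507 D224733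
theorem F529573 : act 1 n225261 = n219735 := d15_1 (iv0 F529572) F500336 (iv2 F500836)
def n225262 : Q := act 5 n214001
theorem D225262 : act 5 n214001 = n225262 := rfl
theorem F529574 : act 2 n225262 = n222961 := d2_1 D225262 (iv5 D222961) (iv2 F485890)
theorem F529575 : act 3 n225262 = n214053 := d6_1 D225262 (iv5 F473261) F473162
theorem F529576 : act 4 n225262 = n224635 := d9_1 D225262 F526025 F513279 (iv5 F499618) F499617 (iv5 F386460) (iv4 F500830) (iv5 F526464) (iv4 D224712) (iv5 D210406) (iv4 F400664) D221452 (iv4 F525036) (iv5 F529570) F529569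
theorem F529577 : act 6 n225262 = n220485 := d12_2 D214001 D225262 (iv5 F525932) F525933 (iv5 D214000)
theorem F529578 : act 7 n225262 = n222959 := d13_2 F485891 D225262 (iv5 D222959)
theorem F529579 : act 0 n225262 = n214040 := d17_2 F473052 D225262 (iv5 D214040) (iv4 F473215) (iv5 F524996) F524994 (iv5 D223272) (iv0 F425096) (iv4 F422391)
theorem F529580 : act 1 n225262 = n220119 := d17_6 D219652 (iv5 F499858) (iv1 F525039) (iv5 F529570) F529569 D225262 F502214 F473218 F473217
def n225263 : Q := act 4 n214017
theorem D225263 : act 4 n214017 = n225263 := rfl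
theorem F529581 : act 2 n225263 = n220401 := d1_1 D225263 F503600 F473182
theorem F529582 : act 3 n225263 = n216703 := d5_1 D225263 (iv4 F526487) F526489 (iv4 D214025) (iv3 F473145)
theorem F529583 : act 6 n225263 = n214019 := d10_2 (iv6 F473146) D225263 (iv4 D214019)
theorem F529584 : act 5 n225263 = n223907 := d16_7 F523783 F515121 (iv4 D222602) (iv5 D200328) (iv4 F245476) D214017 D225263 F521949 (iv2 F523781)
theorem F529585 : act 0 n225263 = n215586 := d17_0 F487156 (iv1 D217054) (iv5 F392027) (iv4 F469503) F469504 (iv0 F458678) (iv5 F485093) (iv0 F485094) D225263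
theorem F529586 : act 1 n225263 = n219358 := d18_6 (iv1 F482162) F472397 F439047 (iv4 F245476) D214017 D225263 (iv4 F517227) F517230 F482165
theorem F529587 : act 7 n220402 = n225263 := d13_0 F529584 F521949 F503604
def n225264 : Q := act 7 n214017
theorem D225264 : act 7 n214017 = n225264 := rfl
theorem F529588 : act 2 n225264 = n224796 := d4_1 D225264 F526920 F473182
theorem F529589 : act 3 n225264 = n214026 := d8_1 D225264 (iv7 D214026) (iv3 F473145)
theorem F529590 : act 4 n225264 = n220402 := d11_1 D225264 F529587 (iv4 D225263)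
theorem F529591 : act 5 n225264 = n214018 := d13_1 D225264 (iv7 D214018) D214017
theorem F529592 : act 6 n225264 = n220498 := d14_1 D225264 F527208 (iv6 D224850) F459147 (iv6 F473146)
theorem F529593 : act 1 n216686 = n225264 := d15_1 (iv0 F485470) (iv7 D225264) (iv2 F473182)
def n225265 : Q := act 7 n214025
theorem D225265 : act 7 n214025 = n225265 := rfl
theorem F529594 : act 4 n225265 = n214026 := d11_1 D225265 (iv7 D214026) D214025
theorem F529595 : act 5 n225265 = n215928 := d13_1 D225265 (iv7 F517752) (iv5 F517754)
theorem F529596 : act 6 n225265 = n223207 := d14_1 D225265 F518193 F469291 F459150 (iv6 F473168)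
theorem F529597 : act 1 n223045 = n225265 := d15_1 (iv0 F527184) (iv7 D225265) (iv2 F527180)
theorem F529598 : act 1 n225265 = n225252 := d15_1 F529597 F529512 F526097
def n225266 : Q := act 0 n214027
theorem D225266 : act 0 n214027 = n225266 := rfl
theorem F529599 : act 5 n225266 = n224538 := d17_3 F472721 (iv5 F473170) D225266 (iv4 D224538) F458927 (iv0 F458928) F422883 (iv0 F498479) F498476
theorem F529600 : act 4 n225266 = n222939 := d18_1 D225266 F516883 (iv4 F469578) (iv5 F503996) F503995 F502414 (iv4 F517896) (iv0 F517898) (iv5 F473170)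
theorem F529601 : act 3 n225266 = n221188 := d20_5 F362131 F179652 D156210 D214027 D225266 F507651 F469576 (iv4 D213251) (iv3 F472834) F452806
theorem F529602 : act 6 n225266 = n220202 := d21_5 (iv5 F527874) (iv1 F527876) (iv5 F526486) (iv6 F526490) D225266 (iv5 D220202) (iv1 F489969) (iv5 F519671) (iv6 F527880) (iv1 F527882)
theorem F529603 : act 1 n224745 = n225266 := d15_0 (iv0 D225266) (iv7 F527213) F527209
theorem F529604 : act 7 n225266 = n223033 := d15_2 (iv0 F526640) F529603 (iv2 F526089)
def n225267 : Q := act 2 n214027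
theorem D225267 : act 2 n214027 = n225267 := rfl
theorem F529605 : act 3 n225267 = n223717 := d0_2 D214027 D225267 F527179 (iv3 D224845) F459137
theorem F529606 : act 4 n225267 = n218149 := d1_2 F528252 D225267 (iv2 F528250)
theorem F529607 : act 5 n225267 = n223150 := d2_2 (iv5 F473170) D225267 (iv2 F517890)
theorem F529608 : act 7 n225267 = n224745 := d4_2 F527213 D225267 (iv2 F527209)
theorem F529609 : act 1 n225267 = n223033 := d15_0 (iv0 F527214) F527213 D225267
def n225268 : Q := act 0 n214030
theorem D225268 : act 0 n214030 = n225268 := rfl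
theorem F529610 : act 4 n225268 = n216587 := d18_1 D225268 (iv1 F485504) (iv4 F485506) F482165 F482160 (iv0 F393241) (iv4 F473172) (iv0 D214028) D214030
theorem F529611 : act 5 n225268 = n222968 := d19_1 D225268 (iv4 F525677) F525676 (iv1 F454463) F496197 F496201 F491896 (iv1 F524352) F524348 (iv4 D220028) (iv3 F501540) (iv1 D219989) D219990 F501546 (iv3 F518993) F518996 F518921 (iv4 D214035) (iv3 F473183)
theorem F529612 : act 3 n225268 = n222969 := d20_5 (iv4 F520913) (iv1 F520915) (iv4 D214035) (iv3 F473183) D225268 (iv4 F524605) (iv1 F529321) (iv4 D225220) F472189 D223356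
theorem F529613 : act 6 n225268 = n214062 := d21_5 (iv5 D202302) F359959 (iv5 F469584) (iv6 F473184) D225268 (iv5 F518114) (iv1 D223193) (iv5 F470563) (iv6 F470564) F423884
theorem F529614 : act 2 n216589 = n225268 := d15_3 (iv0 D225268) (iv0 F485470) F485469
theorem F529615 : act 1 n225264 = n225268 := d15_0 (iv0 D225268) (iv7 F526920) (iv2 F529588)
theorem F529616 : act 7 n225268 = n223175 := d15_2 F529593 F529615 F518020
def n225269 : Q := act 0 n214035
theorem D225269 : act 0 n214035 = n225269 := rfl
theorem F529617 : act 5 n225269 = n223346 := d17_1 D225269 F518980 F518856 F485899 F485898 (iv0 D210738) D210740 F458664 D214035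
theorem F529618 : act 4 n225269 = n223093 := d18_1 D225269 F517605 F458685 F484495 (iv4 F518880) F518883 D223349 F518992 F518921
theorem F529619 : act 3 n225269 = n220471 := d20_5 F483465 (iv1 F489304) (iv4 F503583) (iv3 F503584) D225269 (iv4 D220471) (iv1 F390912) F157159 (iv3 F285712) (iv1 F483463)
theorem F529620 : act 6 n225269 = n219453 := d21_5 F528264 (iv1 F471942) D217885 (iv6 F491086) D225269 (iv5 F528322) F528324 (iv5 F524946) F524947 (iv1 F528267)
theorem F529621 : act 2 n225126 = n225269 := d15_3 (iv0 D225269) F520915 (iv7 F528799)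
theorem F529622 : act 7 n225269 = n220504 := d4_2 (iv7 F528799) F529621 (iv2 F520911)
def n225270 : Q := act 4 n214039
theorem D225270 : act 4 n214039 = n225270 := rfl
theorem F529623 : act 2 n225270 = n219653 := d1_1 D225270 F510588 (iv2 F510591)
theorem F529624 : act 3 n225270 = n219941 := d5_1 D225270 F501287 F472585 (iv4 F472584) (iv3 F473221)
theorem F529625 : act 5 n225270 = n221637 := d9_2 F517001 D225270 (iv4 D221637) (iv5 D196892) (iv4 F180536) D202540 (iv4 F517008) F517007 F473217 F384848 (iv4 F486494) (iv5 F509991) (iv4 F518359) F518360 (iv4 F517003)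
theorem F529626 : act 6 n225270 = n219926 := d10_2 F518091 D225270 (iv4 F518089)
theorem F529627 : act 7 n225270 = n219650 := d11_2 (iv7 F502642) D225270 (iv4 F502639)
theorem F529628 : act 0 n225270 = n214042 := d17_0 F499624 (iv1 D219598) (iv5 F386460) (iv4 F500830) (iv5 F526464) F526466 (iv5 D214040) D214039 D225270
theorem F529629 : act 1 n225270 = n219652 := d18_6 (iv1 D223153) (iv4 F467275) (iv1 F485099) (iv4 F517003) F517001 D225270 (iv4 F500686) (iv0 F502630) (iv5 F517900)
def n225271 : Q := act 5 n214047
theorem D225271 : act 5 n214047 = n225271 := rfl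
theorem F529630 : act 3 n225271 = n214049 := d6_1 D225271 (iv5 D214049) D214047
theorem F529631 : act 0 n225271 = n220262 := d17_2 F511101 D225271 (iv5 D220262) F389324 (iv5 F381931) F498058 F498054 F457234 (iv4 F511098)
theorem F529632 : act 1 n225271 = n224923 := d17_6 (iv1 F500874) D223135 F517831 (iv5 F502158) F502157 D225271 (iv5 D224923) F502912 F502910
def n225272 : Q := act 3 n214052
theorem D225272 : act 3 n214052 = n225272 := rfl
theorem F529633 : act 5 n225272 = n223168 := d6_2 (iv5 F473255) D225272 (iv3 D223168)
theorem F529634 : act 6 n225272 = n223161 := d7_2 (iv6 F473254) D225272 F517947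
theorem F529635 : act 7 n225272 = n223756 := d8_2 (iv7 F473264) D225272 F521090
theorem F529636 : act 0 n225272 = n220280 := d19_4 (iv1 F485706) (iv5 D216737) (iv4 F473257) D225272 (iv5 D220280) F389392 (iv3 D101434) (iv1 F134710) (iv5 F291432) F147510 D97009 F149620 (iv5 D45368) (iv4 F61715) F61714 (iv1 F63562) D86913 D181973 D216149
theorem F529637 : act 1 n225272 = n225238 := d15_1 (iv0 F529636) F529430 F517598
def n225273 : Q := act 5 n214057
theorem D225273 : act 5 n214057 = n225273 := rfl
theorem F529638 : act 2 n225273 = n224805 := d2_1 D225273 F526965 F518025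
theorem F529639 : act 3 n225273 = n216690 := d6_1 D225273 F514870 F514866
theorem F529640 : act 6 n225273 = n216685 := d12_2 F518009 D225273 (iv5 D216685) D216686 (iv5 F518005)
theorem F529641 : act 7 n225273 = n224511 := d13_2 (iv7 F514851) D225273 F525384
theorem F529642 : act 4 n225273 = n216774 := d16_2 F500307 D225273 (iv5 F485879) F449550 (iv5 F522578) F522577 F500301 F500302 (iv2 F500306)
theorem F529643 : act 0 n225273 = n216778 := d17_2 D214057 D225273 F485896 (iv4 F512539) F512541 (iv0 F524259) F524258 F463033 (iv4 F365084)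
theorem F529644 : act 1 n225273 = n220209 := d17_8 F524795 (iv5 D224408) (iv1 D208729) D208730 D224409 F524797 F473292 D225273 F503563
def n225274 : Q := act 3 n214109
theorem D225274 : act 3 n214109 = n225274 := rfl
theorem F529645 : act 2 n225274 = n223564 := d0_1 D225274 F520122 F478822 F432833 (iv2 F473521)
theorem F529646 : act 4 n225274 = n223504 := d5_2 D214109 D225274 (iv3 F519789) (iv4 F473509) F473506
theorem F529647 : act 5 n225274 = n216222 := d6_2 (iv5 F473524) D225274 (iv3 D216222)
theorem F529648 : act 6 n225274 = n214120 := d7_2 (iv6 F473522) D225274 (iv3 D214120)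
theorem F529649 : act 7 n225274 = n223566 := d8_2 (iv7 F473523) D225274 F520133
theorem F529650 : act 0 n215212 = n225274 := d20_4 F449369 (iv1 F368877) (iv4 F449171) (iv3 F478897) (iv3 D225274) (iv4 D214109) (iv1 F449346) (iv4 F449379) (iv3 D208443) D208441
theorem F529651 : act 1 n223575 = n225274 := d15_0 (iv0 F529650) F478899 (iv2 F520162)
def n225275 : Q := act 5 n214111
theorem D225275 : act 5 n214111 = n225275 := rfl
theorem F529652 : act 2 n225275 = n214112 := d2_1 D225275 (iv5 D214112) D214111
theorem F529653 : act 3 n225275 = n219419 := d6_1 D225275 F498801 (iv3 F473532)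
theorem F529654 : act 4 n225275 = n220071 := d9_1 D225275 F501967 F488310 F454842 (iv4 D209757) (iv5 D136885) (iv4 F180519) D202533 (iv4 F449435) (iv5 F488292) F488291 D223232 (iv4 F525474) (iv5 D224526) (iv4 F473533)
theorem F529655 : act 7 n225275 = n223230 := d13_2 (iv7 F473535) D225275 (iv5 D223230)
theorem F529656 : act 1 n225275 = n223233 := d17_6 D143486 (iv5 F460917) F525476 (iv5 D224526) (iv4 F473533) D225275 F518337 (iv0 F454642) F226213
theorem F529657 : act 0 n225275 = n223234 := d18_0 F518343 F462341 D224601 (iv5 F526671) F526670 (iv0 F522341) F488291 F473537 D225275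
def n225276 : Q := act 6 n214112
theorem D225276 : act 6 n214112 = n225276 := rfl
theorem F529658 : act 3 n225276 = n214114 := d7_1 D225276 (iv6 D214114) (iv3 F473538)
theorem F529659 : act 4 n225276 = n224775 := d10_1 D225276 F526806 F499426
theorem F529660 : act 5 n225276 = n215839 := d12_1 D225276 F481744 F458267 (iv6 F246029) D214112
theorem F529661 : act 7 n225276 = n224769 := d14_2 (iv7 F473539) D225276 F526768 F487046 (iv6 F449434)
theorem F529662 : act 0 n219968 = n225276 := d21_4 (iv5 D217550) F370755 D192539 D219968 (iv6 D225276) (iv5 D214112) D214110 (iv5 F525494) F525492 F490446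
def n225277 : Q := act 6 n214113
theorem D225277 : act 6 n214113 = n225277 := rfl
theorem F529663 : act 2 n225277 = n224365 := d3_1 D225277 (iv6 D224365) (iv2 F473541)
theorem F529664 : act 3 n225277 = n223705 := d7_1 D225277 (iv6 F520825) F519798
theorem F529665 : act 4 n225277 = n214114 := d10_1 D225277 (iv6 D214114) D214113
theorem F529666 : act 0 n225277 = n223558 := d21_4 F510319 F449158 (iv5 F473542) D225277 (iv6 D223558) (iv5 F431149) F449137 (iv5 F483367) (iv6 F483370) (iv1 F510321)
theorem F529667 : act 1 n225277 = n220519 := d15_1 (iv0 F529666) F504156 (iv2 F520096)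
def n225278 : Q := act 6 n214121
theorem D225278 : act 6 n214121 = n225278 := rfl
theorem F529668 : act 2 n225278 = n216031 := d3_1 D225278 F482613 (iv2 F473573)
theorem F529669 : act 3 n225278 = n224360 := d7_1 D225278 (iv6 D224360) (iv3 F473574)
theorem F529670 : act 4 n225278 = n214122 := d10_1 D225278 (iv6 D214122) (iv4 F473575)
theorem F529671 : act 7 n225278 = n216029 := d14_2 D214121 D225278 F482609 (iv7 F473523) F473522
theorem F529672 : act 0 n225278 = n215197 := d21_4 (iv5 D208392) D208389 (iv5 F473576) D225278 (iv6 D215197) (iv5 F430858) F430860 (iv5 F383245) (iv6 F429593) F449170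
def n225279 : Q := act 5 n214124
theorem D225279 : act 5 n214124 = n225279 := rfl
theorem F529673 : act 2 n225279 = n214125 := d2_1 D225279 (iv5 D214125) D214124
theorem F529674 : act 3 n225279 = n224754 := d6_1 D225279 F526686 (iv3 F473589)
theorem F529675 : act 4 n225279 = n219526 := d9_1 D225279 (iv5 F499912) F499911 F463244 (iv4 D211841) (iv5 D144153) (iv4 F180502) D202518 D223220 F518275 (iv4 F436653) D222083 F512271 (iv5 D220456) (iv4 F473590)
theorem F529676 : act 7 n225279 = n223214 := d13_2 (iv7 F473592) D225279 (iv5 D223214)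
theorem F529677 : act 0 n225279 = n219958 := d17_2 (iv1 F473593) D225279 (iv5 D219958) (iv4 F500222) (iv5 F527848) F527851 F480227 (iv0 F518265) (iv4 D223218)
theorem F529678 : act 1 n225279 = n219393 := d17_6 F507599 F501963 F503869 (iv5 D220456) (iv4 F473590) D225279 F498662 F460438 (iv4 F507597)
theorem F529679 : act 6 n225279 = n219525 := d21_3 (iv5 F488015) (iv1 F473593) D225279 F499276 F390941 (iv5 D102306) (iv1 F357141) (iv5 F368794) D217205 F488016
def n225280 : Q := act 6 n214125
theorem D225280 : act 6 n214125 = n225280 := rfl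
theorem F529680 : act 2 n225280 = n219525 := d3_1 D225280 (iv6 F529679) F529673
theorem F529681 : act 3 n225280 = n214127 := d7_1 D225280 (iv6 D214127) (iv3 F473597)
theorem F529682 : act 4 n225280 = n217068 := d10_1 D225280 (iv6 F501724) F501725
theorem F529683 : act 5 n225280 = n216682 := d12_1 D225280 F485459 (iv5 F391024) (iv6 F246045) D214125
theorem F529684 : act 7 n225280 = n219527 := d14_2 (iv7 F473598) D225280 F499281 (iv7 F506088) (iv6 F506091)
theorem F529685 : act 0 n225280 = n220059 := d21_4 F501391 F473468 D214125 D225280 F501910 (iv5 D192819) F363041 D100870 (iv6 F388079) (iv1 F501395)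
theorem F529686 : act 1 n225280 = n220476 := d15_1 (iv0 F529685) (iv7 D220476) (iv2 F501908)
def n225281 : Q := act 2 n214128
theorem D225281 : act 2 n214128 = n225281 := rfl
theorem F529687 : act 3 n225281 = n223223 := d0_2 D214128 D225281 F518290 F448945 F361514
theorem F529688 : act 4 n225281 = n220876 := d1_2 F510093 D225281 (iv2 F510091)
theorem F529689 : act 5 n225281 = n216807 := d2_2 (iv5 F473616) D225281 F485999
theorem F529690 : act 6 n225281 = n224505 := d3_2 (iv6 F473607) D225281 (iv2 F525347)
theorem F529691 : act 7 n225281 = n223248 := d4_2 (iv7 F473608) D225281 F518415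
theorem F529692 : act 1 n225281 = n223217 := d15_0 (iv0 F518259) (iv7 F473608) D225281
theorem F529693 : act 1 n223249 = n225281 := d15_0 F529692 F518256 (iv2 F518426)
def n225282 : Q := act 1 n214163
theorem D225282 : act 1 n214163 = n225282 := rfl
theorem F529694 : act 1 n225282 = n223477 := d15_1 D225282 F519660 F501025
theorem F529695 : act 7 n225282 = n220201 := d15_2 (iv0 F473801) D225282 F502616
theorem F529696 : act 5 n225282 = n218375 := d17_7 (iv1 F384842) F384840 F367128 (iv5 F372278) F372284 D214163 D225282 F493576 (iv4 D192391)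
theorem F529697 : act 3 n221489 = n225282 := d19_19 (iv1 D225282) (iv5 D214163) (iv4 F372284) (iv3 F372286) (iv1 D184320) (iv5 D87913) F63055 (iv3 D23226) (iv1 F62740) D44921 D96211 D190581 F455009 F490305 F490300 F483878 F513031 F513028 F509267
theorem F529698 : act 2 n225282 = n220202 := d0_1 F529697 F502621 F397531 D203620 (iv2 F509263)
def n225283 : Q := act 5 n214173
theorem D225283 : act 5 n214173 = n225283 := rfl
theorem F529699 : act 2 n225283 = n221512 := d2_1 D225283 (iv5 D221512) (iv2 F473845)
theorem F529700 : act 3 n225283 = n221933 := d6_1 D225283 F511471 (iv3 F473846)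
theorem F529701 : act 6 n225283 = n221477 := d12_2 D214173 D225283 (iv5 D221477) (iv6 D196485) F342035
theorem F529702 : act 7 n225283 = n221515 := d13_2 F473850 D225283 (iv5 D221515)
theorem F529703 : act 4 n225283 = n215143 := d16_2 (iv4 F473847) D225283 (iv5 D215143) D215142 F478558 D215486 (iv5 F502752) F502751 F501742
theorem F529704 : act 0 n225283 = n221573 := d17_2 F473849 D225283 (iv5 D221573) F431928 (iv5 D204297) D204296 (iv5 F457213) (iv0 F457214) (iv4 F401063)
theorem F529705 : act 1 n225283 = n215456 := d17_6 (iv1 F497112) F471659 F393427 D210908 (iv4 F473847) D225283 (iv5 D215456) D215453 (iv4 F497111)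
def n225284 : Q := act 0 n214174
theorem D225284 : act 0 n214174 = n225284 := rfl
theorem F529706 : act 5 n225284 = n221900 := d17_1 D225284 F511296 F509851 F509850 D223134 F517825 F456304 F456280 (iv4 F473851)
theorem F529707 : act 3 n225284 = n214181 := d20_5 F205962 F205283 (iv4 F361911) D214174 D225284 (iv4 F502746) (iv1 F502749) (iv4 F469601) (iv3 D213261) F240092
theorem F529708 : act 6 n225284 = n221513 := d21_5 F519355 (iv1 F459446) (iv5 F402307) (iv6 F473853) D225284 (iv5 F509384) (iv1 F495842) F476098 (iv6 F476094) (iv1 F519353)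
theorem F529709 : act 2 n220532 = n225284 := d15_3 (iv0 D225284) (iv0 F502929) (iv7 F504223)
theorem F529710 : act 1 n214617 = n225284 := d15_0 (iv0 D225284) F473854 (iv2 F476071)
theorem F529711 : act 7 n225284 = n222228 := d15_2 F502932 F529710 (iv2 F513035)
def n225285 : Q := act 5 n214190
theorem D225285 : act 5 n214190 = n225285 := rfl
theorem F529712 : act 2 n225285 = n222320 := d2_1 D225285 F513572 F509003
theorem F529713 : act 3 n225285 = n214191 := d6_1 D225285 (iv5 D214191) (iv3 F473919)
theorem F529714 : act 4 n225285 = n221416 := d9_1 D225285 (iv5 D221416) F400403 F400373 F400371 D199197 D222322 (iv5 F527229) F527228 (iv5 D221399) F400273 (iv5 F400405) (iv4 F508909) F508910 (iv4 F473920)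
theorem F529715 : act 6 n225285 = n224866 := d12_2 D214190 D225285 F527304 F478237 F441582
theorem F529716 : act 7 n225285 = n222321 := d13_2 (iv7 F473921) D225285 F513576
theorem F529717 : act 0 n225285 = n222323 := d17_2 F513521 D225285 F513589 (iv4 F501359) F501360 F401514 (iv5 F401853) F410994 D222312
theorem F529718 : act 1 n225285 = n221414 := d17_6 (iv1 F502894) F411122 (iv1 F508913) F508910 (iv4 F473920) D225285 (iv5 D221414) F508204 F508203
def n225286 : Q := act 3 n214201
theorem D225286 : act 3 n214201 = n225286 := rfl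
theorem F529719 : act 2 n225286 = n222103 := d0_1 D225286 (iv3 D222103) F407820 D198506 (iv2 F473973)
theorem F529720 : act 4 n225286 = n222386 := d5_2 F476562 D225286 F513931 F497928 (iv3 F476561)
theorem F529721 : act 5 n225286 = n225003 := d6_2 F473972 D225286 (iv3 D225003)
theorem F529722 : act 6 n225286 = n215475 := d7_2 F488879 D225286 (iv3 F488881)
theorem F529723 : act 0 n225286 = n223778 := d19_4 (iv1 F257537) D214727 F476562 D225286 F521222 (iv4 D218551) (iv3 F381537) (iv1 F494627) F494625 F376886 (iv3 F365736) (iv1 F345014) (iv5 F327027) F179249 F83842 (iv1 F48337) (iv5 F79778) D109264 F365835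
theorem F529724 : act 1 n225286 = n223780 := d15_1 (iv0 F529723) F521232 (iv2 F521220)
def n225287 : Q := act 5 n214205
theorem D225287 : act 5 n214205 = n225287 := rfl
theorem F529725 : act 2 n225287 = n214206 := d2_1 D225287 (iv5 D214206) D214205
theorem F529726 : act 3 n225287 = n220456 := d6_1 D225287 (iv5 D220456) (iv3 F473984)
theorem F529727 : act 6 n225287 = n217363 := d12_2 (iv6 F473985) D225287 (iv5 F527558) F527557 (iv5 D222499)
theorem F529728 : act 7 n225287 = n218784 := d13_2 (iv7 F473986) D225287 F495640
theorem F529729 : act 0 n225287 = n218786 := d17_2 (iv1 F473987) D225287 F495652 F440305 (iv5 D195442) D195441 F503809 F503808 F503059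
theorem F529730 : act 1 n225287 = n218785 := d17_6 F410928 (iv5 F453227) F521089 F521086 F510687 D225287 F495645 (iv0 D209301) (iv4 F396612)
theorem F529731 : act 4 n225287 = n218868 := d18_5 F500276 (iv4 F507120) (iv1 F510690) F510687 D225287 F512537 (iv4 D222136) D222135 F512531
def n225288 : Q := act 4 n214206
theorem D225288 : act 4 n214206 = n225288 := rfl
theorem F529732 : act 2 n225288 = n218868 := d1_1 D225288 (iv4 F529731) F529725
theorem F529733 : act 3 n225288 = n219212 := d5_1 D225288 F497748 F480165 (iv4 D214207) (iv3 F473989)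
theorem F529734 : act 5 n225288 = n222183 := d9_2 D214206 D225288 F512771 F433470 D220868 (iv5 F507117) F507114 (iv5 F495640) (iv4 F497672) F497670 F481157 (iv5 F433457) D220871 F505994 F403907
theorem F529735 : act 7 n225288 = n223303 := d11_2 (iv7 F473990) D225288 (iv4 D223303)
theorem F529736 : act 0 n225288 = n218840 := d17_0 (iv5 F497788) F497789 (iv5 F512638) F512639 (iv5 D209316) D209315 (iv5 F488583) (iv0 F488584) D225288
theorem F529737 : act 0 n222216 = n225288 := d20_10 (iv4 D225288) F488584 F488582 F369598 D187240 D217367 F495747 (iv1 F442064) D224105 F523053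
theorem F529738 : act 6 n225288 = n219211 := d21_5 (iv5 D190844) D190842 (iv5 F408992) D222216 F529737 F497746 F463812 (iv5 F463813) F497364 (iv1 D219136)
def n225289 : Q := act 6 n214206
theorem D225289 : act 6 n214206 = n225289 := rfl
theorem F529739 : act 2 n225289 = n217363 := d3_1 D225289 (iv6 F529727) F529725
theorem F529740 : act 3 n225289 = n214208 := d7_1 D225289 (iv6 D214208) (iv3 F473989)
theorem F529741 : act 4 n225289 = n219211 := d10_1 D225289 (iv6 F529738) (iv4 D225288)
theorem F529742 : act 5 n225289 = n224980 := d12_1 D225289 (iv6 D224980) F463180 (iv6 F247455) D214206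
theorem F529743 : act 7 n225289 = n217362 := d14_2 (iv7 F473990) D225289 F495331 (iv7 F497060) F497056
theorem F529744 : act 0 n225289 = n217360 := d21_4 F443534 F443535 D214206 D225289 (iv6 D217360) (iv5 D187233) (iv1 F137897) D95755 D190234 F453199
theorem F529745 : act 0 n217364 = n225289 := d21_4 (iv5 D218883) (iv1 F379100) (iv5 F379132) (iv6 F488587) (iv6 D225289) (iv5 D214206) D214204 F496069 (iv6 F496070) (iv1 F496029)
def n225290 : Q := act 6 n214218
theorem D225290 : act 6 n214218 = n225290 := rfl
theorem F529746 : act 2 n225290 = n217416 := d3_1 D225290 F488800 (iv2 F474035)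
theorem F529747 : act 4 n225290 = n219185 := d10_1 D225290 (iv6 F497620) (iv4 F474037)
theorem F529748 : act 5 n225290 = n222158 := d12_1 D225290 (iv6 F512646) F463785 F341157 D214218
theorem F529749 : act 7 n225290 = n219182 := d14_2 (iv7 F474036) D225290 (iv6 F497602) (iv7 F494970) F494969
theorem F529750 : act 0 n225290 = n219221 := d21_4 (iv5 D211976) (iv1 F341158) D214218 D225290 (iv6 D219221) (iv5 D190940) (iv1 D97072) D97074 D190945 (iv1 F463808)
def n225291 : Q := act 5 n214244
theorem D225291 : act 5 n214244 = n225291 := rfl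
theorem F529751 : act 2 n225291 = n220305 := d2_1 D225291 F503113 (iv2 F474181)
theorem F529752 : act 6 n225291 = n219173 := d12_2 D214244 D225291 F497559 (iv6 D211448) (iv5 F331516)
theorem F529753 : act 7 n225291 = n221651 := d13_2 (iv7 F474183) D225291 (iv5 D221651)
theorem F529754 : act 0 n225291 = n224991 := d17_2 F474184 D225291 F528016 (iv4 D222736) F439367 F439365 F398476 (iv0 F205535) D195124
theorem F529755 : act 1 n225291 = n221519 := d17_6 D201097 F419079 (iv1 F418310) F396419 (iv4 F474182) D225291 (iv5 F513425) (iv0 F513428) (iv4 D201099)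
def n225292 : Q := act 4 n214246
theorem D225292 : act 4 n214246 = n225292 := rfl
theorem F529756 : act 2 n225292 = n222844 := d1_1 D225292 (iv4 D222844) (iv2 F474193)
theorem F529757 : act 5 n225292 = n222000 := d9_2 D214246 D225292 (iv4 D222000) (iv5 D197960) (iv4 F172915) (iv5 F407388) F407391 (iv5 F419290) (iv4 F516099) F516100 (iv4 D221438) (iv5 D196421) F337392 D157902 (iv4 F376985)
theorem F529758 : act 6 n225292 = n222819 := d10_2 F492947 D225292 F516252
theorem F529759 : act 7 n225292 = n222845 := d11_2 (iv7 F474195) D225292 (iv4 D222845)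
theorem F529760 : act 0 n225292 = n216154 := d18_2 (iv1 F475041) D225292 F483209 (iv5 F284758) (iv4 F474362) (iv0 F474365) (iv4 F420238) D222835 (iv5 F516341)
def n225293 : Q := act 5 n214258
theorem D225293 : act 5 n214258 = n225293 := rfl
theorem F529761 : act 2 n225293 = n214736 := d2_1 D225293 (iv5 D214736) (iv2 F474267)
theorem F529762 : act 3 n225293 = n222210 := d6_1 D225293 (iv5 D222210) (iv3 F474270)
theorem F529763 : act 4 n225293 = n222454 := d9_1 D225293 F514304 F492888 F419837 (iv4 F469079) F469081 (iv4 F262393) D215133 (iv4 F493167) (iv5 D218296) F375309 F143364 (iv4 F372139) F372140 D214258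
theorem F529764 : act 6 n225293 = n218691 := d12_2 (iv6 F474268) D225293 (iv5 D218691) (iv6 D189920) D189919
theorem F529765 : act 7 n225293 = n215253 := d13_2 (iv7 F474269) D225293 (iv5 D215253)
def n225294 : Q := act 4 n214287
theorem D225294 : act 4 n214287 = n225294 := rfl
theorem F529766 : act 6 n225294 = n224090 := d10_2 F511398 D225294 F522972
theorem F529767 : act 7 n225294 = n225033 := d11_2 F482872 D225294 F528241
theorem F529768 : act 0 n225294 = n222827 := d17_0 (iv5 F523558) F527912 F527907 (iv4 D222061) (iv5 D198187) F406784 (iv5 F502543) F502546 D225294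
def n225295 : Q := act 0 n214293
theorem D225295 : act 0 n214293 = n225295 := rfl
theorem F529769 : act 5 n225295 = n218493 := d17_3 F479270 F477763 D225295 (iv4 D218493) (iv5 F376794) F494509 F494507 F494236 F494231
theorem F529770 : act 4 n225295 = n214865 := d18_1 D225295 (iv1 F477196) (iv4 F477284) (iv5 F515165) F515164 (iv0 D218121) (iv4 F486554) (iv0 F486558) F477763
theorem F529771 : act 3 n225295 = n218650 := d20_5 D224972 F527909 F523561 F478153 D225295 (iv4 F499724) F499727 (iv4 F434899) (iv3 F481035) F481036
theorem F529772 : act 2 n214888 = n225295 := d15_3 (iv0 D225295) (iv0 F497741) (iv7 F497742)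
theorem F529773 : act 7 n225295 = n214889 := d4_2 (iv7 F497742) F529772 (iv2 F497737)
def n225296 : Q := act 7 n214293
theorem D225296 : act 7 n214293 = n225296 := rfl
theorem F529774 : act 4 n225296 = n218098 := d11_1 D225296 (iv7 D218098) (iv4 F474429)
theorem F529775 : act 5 n225296 = n218539 := d13_1 D225296 F494365 F477763
theorem F529776 : act 6 n225296 = n218098 := d14_1 D225296 (iv7 D218098) F373658 F296207 D214293
theorem F529777 : act 1 n214889 = n225296 := d15_1 (iv0 F477294) (iv7 D225296) (iv2 F476407)
theorem F529778 : act 1 n225296 = n214888 := d15_1 F529777 F497742 F497737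
def n225297 : Q := act 0 n214294
theorem D225297 : act 0 n214294 = n225297 := rfl
theorem F529779 : act 4 n225297 = n214711 := d18_1 D225297 (iv1 F476489) (iv4 F476644) (iv5 F480295) (iv4 F498178) (iv0 F498182) F495887 (iv0 D215474) (iv5 F474432)
theorem F529780 : act 6 n225297 = n218112 := d21_5 (iv5 D79999) (iv1 F112864) D158020 D214294 D225297 (iv5 D218112) (iv1 D188515) D188516 F373793 F248800
theorem F529781 : act 1 n215231 = n225297 := d15_0 (iv0 D225297) (iv7 F524197) F524193
theorem F529782 : act 2 n214751 = n225297 := d3_3 F529780 F492190 (iv6 F492126)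
theorem F529783 : act 7 n214753 = n225297 := d14_0 F529780 F492191 F497388 F497385 F495799
def n225298 : Q := act 1 n214294
theorem D225298 : act 1 n214294 = n225298 := rfl
theorem F529784 : act 1 n225298 = n215231 := d15_1 D225298 (iv7 D215231) (iv2 F474430)
theorem F529785 : act 7 n225298 = n214751 := d15_2 (iv0 D225297) D225298 F529782
theorem F529786 : act 4 n225298 = n214712 := d17_9 (iv1 D214712) F348747 F380564 (iv5 F381456) (iv4 F497553) F497554 (iv0 D215474) (iv5 F474432) D225298
theorem F529787 : act 3 n219128 = n225298 := d19_19 (iv1 D225298) F474432 F401069 F401067 D196558 F401076 (iv4 D129794) F95499 F49825 F49823 D60746 D129220 F358022 (iv5 F324315) (iv4 F149812) F149811 D188547 D218127 (iv4 F497322)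
theorem F529788 : act 6 n219207 = n225298 := d21_3 (iv5 F500249) F500250 (iv5 F497729) (iv1 D225298) (iv6 D214294) (iv5 D158020) F112863 D79996 D166676 D215122
theorem F529789 : act 5 n219127 = n225298 := d21_6 (iv5 D162636) F299329 D83462 D174665 (iv1 F496973) (iv6 F497319) (iv1 D225298) F474432 (iv6 D174620) (iv1 F302206)
theorem F529790 : act 2 n225298 = n214753 := d3_1 F529788 (iv6 F495799) (iv2 F497727)
def n225299 : Q := act 5 n214303
theorem D225299 : act 5 n214303 = n225299 := rfl
theorem F529791 : act 2 n225299 = n222456 := d2_1 D225299 F514313 (iv2 F474471)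
theorem F529792 : act 3 n225299 = n217375 := d6_1 D225299 (iv5 F511830) F511828
theorem F529793 : act 6 n225299 = n215553 := d12_2 F480193 D225299 (iv5 F480468) D220227 F502752
theorem F529794 : act 0 n225299 = n222386 := d17_2 F474472 D225299 (iv5 D222386) (iv4 F474484) F474481 F382769 (iv5 F474541) (iv0 F480973) (iv4 F480972)
theorem F529795 : act 4 n225299 = n223611 := d17_4 F495796 F495795 F474472 D225299 F520331 F493699 F382751 D218818 (iv4 F495791)
theorem F529796 : act 1 n225299 = n219154 := d17_6 (iv1 D82421) D82423 D172106 F413687 D214303 D225299 F497461 (iv0 D199445) F365620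
def n225300 : Q := act 6 n214325
theorem D225300 : act 6 n214325 = n225300 := rfl
theorem F529797 : act 2 n225300 = n223767 := d3_1 D225300 (iv6 D223767) (iv2 F474582)
theorem F529798 : act 4 n225300 = n223764 := d10_1 D225300 (iv6 D223764) (iv4 F474583)
theorem F529799 : act 5 n225300 = n215399 := d12_1 D225300 (iv6 D215399) (iv5 F474586) (iv6 D214326) D214325
theorem F529800 : act 0 n225300 = n215133 := d21_4 F128579 D158125 D214325 D225300 (iv6 F480214) F480213 (iv1 F391383) (iv5 F480317) (iv6 D215523) (iv1 D174712)
theorem F529801 : act 0 n225293 = n225300 := d21_4 (iv5 F487758) F487756 D218691 (iv6 F529764) (iv6 D225300) (iv5 D214325) (iv1 F276117) (iv5 F479474) F479475 (iv1 F480328)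
def n225301 : Q := act 0 n214352
theorem D225301 : act 0 n214352 = n225301 := rfl
theorem F529802 : act 5 n225301 = n215350 := d17_1 D225301 (iv1 F479508) (iv5 D202370) F180032 (iv5 F111526) D156248 D214046 F518125 F518123
theorem F529803 : act 4 n225301 = n224732 := d18_3 D223195 F518123 D225301 F526570 (iv4 D219409) (iv0 F383669) (iv4 F423559) (iv0 F423561) D202406
theorem F529804 : act 2 n220587 = n225301 := d15_3 (iv0 D225301) (iv0 F479579) (iv7 F504480)
theorem F529805 : act 1 n214353 = n225301 := d15_0 (iv0 D225301) F474717 (iv2 F474718)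
theorem F529806 : act 7 n225301 = n220410 := d15_2 F479580 F529805 F503646
theorem F529807 : act 3 n219723 = n225301 := d19_19 (iv1 F529805) (iv5 D214353) (iv4 F359281) F353246 F336546 D160959 F334246 F344079 (iv1 F156535) (iv5 F156541) (iv4 F389787) (iv3 F503253) (iv1 F503255) D223866 F521726 F513325 F410422 F385917 (iv4 F500272)
theorem F529808 : act 6 n220718 = n225301 := d21_3 (iv5 F522586) F522588 F506374 (iv1 F529805) F474720 F385992 F346267 F346268 D212767 F496999
def n225302 : Q := act 2 n214355
theorem D225302 : act 2 n214355 = n225302 := rfl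
theorem F529809 : act 3 n225302 = n214991 := d0_2 D214355 D225302 (iv2 F477779) (iv3 D176724) (iv2 F348776)
theorem F529810 : act 4 n225302 = n214626 := d1_2 F508768 D225302 (iv2 F508771)
theorem F529811 : act 5 n225302 = n222612 := d2_2 (iv5 F474726) D225302 F515174
theorem F529812 : act 6 n225302 = n215323 := d3_2 (iv6 F474727) D225302 (iv2 F479397)
theorem F529813 : act 7 n225302 = n215652 := d4_2 (iv7 F474728) D225302 (iv2 D215652)
theorem F529814 : act 1 n225302 = n214931 := d15_0 (iv0 F477501) (iv7 F474728) D225302
theorem F529815 : act 1 n214932 = n225302 := d15_0 F529814 (iv7 F495191) F495188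
def n225303 : Q := act 1 n214362
theorem D225303 : act 1 n214362 = n225303 := rfl
theorem F529816 : act 1 n225303 = n215667 := d15_1 D225303 F481024 (iv2 F474769)
theorem F529817 : act 7 n225303 = n215687 := d15_2 (iv0 F482235) D225303 (iv2 F482230)
theorem F529818 : act 4 n225303 = n218541 := d17_9 F494375 (iv5 D199856) D199853 (iv5 F495451) F495454 (iv5 F488828) (iv0 F488829) F488568 D225303
theorem F529819 : act 3 n218539 = n225303 := d19_19 (iv1 D225303) (iv5 F488568) (iv4 F526434) F526432 (iv1 F512657) F512655 F442335 F388447 (iv1 D191782) D191784 (iv4 F490479) F490478 F444027 D207274 (iv4 F494483) (iv3 D218562) (iv1 D189481) (iv5 F430972) D218539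
theorem F529820 : act 6 n222239 = n225303 := d21_3 F378389 F477683 (iv5 F513097) (iv1 D225303) (iv6 D214362) (iv5 F254079) (iv1 D78833) D78835 D164097 F378390
theorem F529821 : act 2 n225303 = n215688 := d3_1 F529820 (iv6 F481131) (iv2 F513095)
def n225304 : Q := act 4 n214378
theorem D225304 : act 4 n214378 = n225304 := rfl
theorem F529822 : act 2 n225304 = n220553 := d1_1 D225304 F504327 (iv2 F474867)
theorem F529823 : act 3 n225304 = n223095 := d5_1 D225304 F517617 F461422 (iv4 F464547) (iv3 F474868)
theorem F529824 : act 5 n225304 = n220191 := d9_2 D214378 D225304 (iv4 D220191) (iv5 D193109) F316141 (iv5 F330171) D159276 D214377 (iv4 F529354) F529355 (iv4 D220193) (iv5 D193111) F351955 F330174 D159281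
theorem F529825 : act 6 n225304 = n219762 := d10_2 (iv6 F474869) D225304 F500486
theorem F529826 : act 7 n225304 = n223097 := d11_2 F514665 D225304 F517627
theorem F529827 : act 0 n225304 = n223107 := d17_0 F517681 (iv1 D223099) (iv5 D202174) (iv4 F182967) (iv5 F414173) (iv0 D199924) D199926 (iv0 F474870) D225304
theorem F529828 : act 1 n225304 = n224732 := d18_6 F394601 F394597 (iv1 F250703) D159281 D214378 D225304 (iv4 F529803) (iv0 D225301) (iv5 D214352)
def n225305 : Q := act 6 n214379
theorem D225305 : act 6 n214379 = n225305 := rfl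
theorem F529829 : act 2 n225305 = n217876 := d3_1 D225305 (iv6 F491039) (iv2 F474871)
theorem F529830 : act 3 n225305 = n219808 := d7_1 D225305 (iv6 F500713) (iv3 F474872)
theorem F529831 : act 4 n225305 = n224954 := d10_1 D225305 (iv6 D224954) (iv4 F474876)
theorem F529832 : act 5 n225305 = n219819 := d12_1 D225305 (iv6 D219819) F386370 (iv6 F250766) D214379
theorem F529833 : act 7 n225305 = n217875 := d14_2 (iv7 F474873) D225305 (iv6 F521267) F521268 F460475
theorem F529834 : act 0 n225305 = n217871 := d21_4 F342230 (iv1 F342351) D214379 D225305 (iv6 D217871) (iv5 D188082) F157760 D99919 (iv6 F386145) F386146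
theorem F529835 : act 0 n217877 = n225305 := d21_4 (iv5 D224695) (iv1 F466910) F418031 (iv6 F491042) (iv6 D225305) (iv5 D214379) F342341 (iv5 F473239) (iv6 F516966) (iv1 F526365)
def n225306 : Q := act 6 n214394
theorem D225306 : act 6 n214394 = n225306 := rfl
theorem F529836 : act 2 n225306 = n220164 := d3_1 D225306 (iv6 D220164) (iv2 F474954)
theorem F529837 : act 3 n225306 = n220167 := d7_1 D225306 F502447 F474953
theorem F529838 : act 4 n225306 = n224319 := d10_1 D225306 F524293 F496701
theorem F529839 : act 7 n225306 = n220164 := d14_2 (iv7 F474951) D225306 (iv6 D220164) F474949 F474946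
theorem F529840 : act 0 n225306 = n222681 := d21_4 F475007 (iv1 F421654) (iv5 F474952) D225306 (iv6 D222681) (iv5 D200668) D200665 (iv5 F464341) F464342 (iv1 F475010)
theorem F529841 : act 0 n222681 = n225306 := d21_4 F464337 (iv1 D200666) D200668 D222681 (iv6 D225306) F474952 (iv1 D201746) (iv5 F179168) D201785 (iv1 F464339)
def n225307 : Q := act 7 n214401
theorem D225307 : act 7 n214401 = n225307 := rfl
theorem F529842 : act 2 n225307 = n217764 := d4_1 D225307 (iv7 F490512) (iv2 F474994)
theorem F529843 : act 3 n225307 = n221456 := d8_1 D225307 F509095 (iv3 F474995)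
theorem F529844 : act 4 n225307 = n214402 := d11_1 D225307 (iv7 D214402) (iv4 F474996)
theorem F529845 : act 5 n225307 = n217728 := d13_1 D225307 (iv7 F490353) (iv5 F474997)
theorem F529846 : act 6 n225307 = n218236 := d14_1 D225307 (iv7 D218236) (iv6 D188820) (iv7 F250862) D214401
theorem F529847 : act 1 n217765 = n225307 := d15_1 F490515 (iv7 D225307) F474994
theorem F529848 : act 1 n225307 = n217539 := d15_1 F529847 (iv7 F514301) F514297
def n225308 : Q := act 6 n214406
theorem D225308 : act 6 n214406 = n225308 := rfl
theorem F529849 : act 2 n225308 = n216371 := d3_1 D225308 F484048 F475029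
theorem F529850 : act 3 n225308 = n224259 := d7_1 D225308 (iv6 D224259) F475030
theorem F529851 : act 4 n225308 = n214461 := d10_1 D225308 (iv6 D214461) (iv4 F475027)
theorem F529852 : act 0 n225308 = n225292 := d21_4 D222931 F516842 (iv5 F475028) D225308 F529758 F516251 (iv1 F507871) F507867 F516835 (iv1 D222930)
theorem F529853 : act 0 n222791 = n225308 := d21_4 (iv5 D225031) F515630 F515631 D222791 (iv6 D225308) F475028 F441357 D209345 (iv6 F506722) (iv1 F528232)
def n225309 : Q := act 5 n214435
theorem D225309 : act 5 n214435 = n225309 := rfl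
theorem F529854 : act 2 n225309 = n220645 := d2_1 D225309 F504775 F475170
theorem F529855 : act 3 n225309 = n217276 := d6_1 D225309 F488233 F475167
theorem F529856 : act 4 n225309 = n225114 := d9_1 D225309 (iv5 D225114) F469300 (iv5 F454786) F490295 (iv5 F505618) F505617 (iv5 F517389) F517388 F469296 (iv4 F503904) F503905 F484695 (iv5 F393860) F475168
theorem F529857 : act 6 n225309 = n217273 := d12_2 (iv6 F475169) D225309 (iv5 D217273) (iv6 F408966) F408965
theorem F529858 : act 7 n225309 = n223449 := d13_2 F505224 D225309 F519511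
theorem F529859 : act 0 n225309 = n222331 := d17_2 F522689 D225309 (iv5 D222331) F411249 D199230 D222332 (iv5 F513640) F521504 (iv4 F522685)
theorem F529860 : act 1 n225309 = n223448 := d17_6 F496699 (iv5 D217720) F373398 (iv5 F393860) F475168 D225309 (iv5 D223448) F428165 (iv4 F496696)
def n225310 : Q := act 5 n214441
theorem D225310 : act 5 n214441 = n225310 := rfl
theorem F529861 : act 2 n225310 = n216266 := d2_1 D225310 (iv5 F483554) (iv2 F475194)
theorem F529862 : act 3 n225310 = n223623 := d6_1 D225310 F520387 F484913
theorem F529863 : act 4 n225310 = n220081 := d9_1 D225310 F502009 F480633 F480629 (iv4 F479564) F479565 D215918 (iv5 F487657) F487656 F368400 F368370 (iv5 F388030) (iv4 F479556) F479555 (iv4 F475195)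
theorem F529864 : act 6 n225310 = n219529 := d12_2 D214441 D225310 F499291 F496692 (iv5 D214440)
theorem F529865 : act 7 n225310 = n220080 := d13_2 F479479 D225310 F502006
theorem F529866 : act 0 n225310 = n220647 := d17_2 F478589 D225310 F504780 F480779 F353795 F447413 F447408 (iv0 F346539) D215152
theorem F529867 : act 1 n225310 = n216316 := d17_6 (iv1 D176592) (iv5 F303577) D215359 F479555 (iv4 F475195) D225310 F483807 (iv0 F480853) (iv4 D215631)
def n225311 : Q := act 2 n214450
theorem D225311 : act 2 n214450 = n225311 := rfl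
theorem F529868 : act 3 n225311 = n223426 := d0_2 D214450 D225311 F519394 F428110 (iv2 F422952)
theorem F529869 : act 4 n225311 = n224486 := d1_2 (iv4 F475226) D225311 (iv2 F525244)
theorem F529870 : act 5 n225311 = n223679 := d2_2 (iv5 F485309) D225311 F520684
theorem F529871 : act 6 n225311 = n223783 := d3_2 (iv6 F475227) D225311 F521250
theorem F529872 : act 7 n225311 = n214602 := d4_2 F517253 D225311 (iv2 F517249)
theorem F529873 : act 1 n225311 = n223472 := d15_0 F519632 F517253 D225311
theorem F529874 : act 1 n223471 = n225311 := d15_0 F529873 F519631 (iv2 F519622)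
def n225312 : Q := act 4 n214452
theorem D225312 : act 4 n214452 = n225312 := rfl
theorem F529875 : act 2 n225312 = n218287 := d1_1 D225312 F493120 (iv2 F482055)
theorem F529876 : act 3 n225312 = n220781 := d5_1 D225312 F505497 F393678 F350561 (iv3 F475237)
theorem F529877 : act 5 n225312 = n220780 := d9_2 D214452 D225312 F505491 F459822 F272933 (iv5 F301482) F301481 D215603 (iv4 F509564) (iv5 D221552) (iv4 F459805) F459806 (iv4 D166467) D166468 (iv4 F358938)
theorem F529878 : act 6 n225312 = n218180 := d10_2 (iv6 F475238) D225312 F492556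
theorem F529879 : act 7 n225312 = n223283 := d11_2 F480813 D225312 F518618
theorem F529880 : act 0 n225312 = n222303 := d17_0 (iv5 D222303) (iv1 F493248) F493245 F375417 (iv5 F375466) F375469 (iv5 F482063) F482066 D225312
theorem F529881 : act 1 n225312 = n218278 := d18_6 D114886 D201614 F421149 (iv4 F358938) D214452 D225312 F493079 F420367 (iv5 D114890)
def n225313 : Q := act 3 n214456
theorem D225313 : act 3 n214456 = n225313 := rfl
theorem F529882 : act 4 n225313 = n214457 := d5_2 D214456 D225313 (iv3 D214457) (iv4 D159474) (iv3 F251124)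
theorem F529883 : act 7 n225313 = n222898 := d8_2 (iv7 F475256) D225313 (iv3 D222898)
theorem F529884 : act 0 n225313 = n224155 := d19_4 F356463 D159472 D214456 D225313 F523344 F482989 (iv3 F427675) F408987 (iv5 D190146) F347831 F130724 D85559 (iv5 F313790) F313789 F318500 (iv1 F223020) D139849 (iv4 F419447) F419446
theorem F529885 : act 0 n222738 = n225313 := d20_4 F513424 (iv1 F418410) D200932 D222738 (iv3 D225313) (iv4 D214456) (iv1 F465237) (iv4 F516006) (iv3 D222773) F513428
def n225314 : Q := act 6 n214457
theorem D225314 : act 6 n214457 = n225314 := rfl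
theorem F529886 : act 2 n225314 = n224371 := d3_1 D225314 F524569 F523181
theorem F529887 : act 3 n225314 = n214458 := d7_1 D225314 (iv6 D214458) D214457
theorem F529888 : act 7 n225314 = n224706 := d14_2 (iv7 F475259) D225314 F526429 (iv7 F490036) (iv6 F490037)
theorem F529889 : act 0 n225314 = n224705 := d21_4 (iv5 D206786) D206784 (iv5 F475258) D225314 (iv6 F526425) F492997 F492996 (iv5 F516129) (iv6 F516611) F516612
theorem F529890 : act 0 n215244 = n225314 := d21_4 F448918 (iv1 F388386) (iv5 F475145) F479022 (iv6 D225314) F475258 (iv1 F446720) (iv5 F516758) (iv6 F516763) (iv1 F448920)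
def n225315 : Q := act 6 n214468
theorem D225315 : act 6 n214468 = n225315 := rfl
theorem F529891 : act 2 n225315 = n220169 := d3_1 D225315 (iv6 D220169) F475310
theorem F529892 : act 3 n225315 = n224154 := d7_1 D225315 F523338 F516520
theorem F529893 : act 4 n225315 = n222880 := d10_1 D225315 (iv6 F518820) F518818
theorem F529894 : act 5 n225315 = n221925 := d12_1 D225315 (iv6 D221925) (iv5 D197680) (iv6 F388576) (iv5 F475308)
theorem F529895 : act 7 n225315 = n224607 := d14_2 F475311 D225315 F525897 F516909 (iv6 F453390)
theorem F529896 : act 0 n225315 = n224087 := d21_4 F421646 (iv1 F420084) (iv5 F475308) D225315 F522957 (iv5 D223884) F442354 D206842 (iv6 F516825) (iv1 D222928)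
theorem F529897 : act 0 n224152 = n225315 := d21_4 F465627 F460694 (iv5 F460695) D224152 (iv6 D225315) F475308 (iv1 F501819) F501817 (iv6 F502275) (iv1 F502278)
def n225316 : Q := act 1 n214512
theorem D225316 : act 1 n214512 = n225316 := rfl
theorem F529898 : act 1 n225316 = n214513 := d15_1 D225316 F475559 (iv2 F475550)
theorem F529899 : act 7 n225316 = n214519 := d15_2 (iv0 F475554) D225316 (iv2 F475597)
theorem F529900 : act 5 n225316 = n216282 := d17_7 (iv1 F374087) F374089 (iv1 D188188) (iv5 F355733) (iv4 F251581) D214512 D225316 F483618 F475612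
theorem F529901 : act 4 n225316 = n223668 := d17_9 (iv1 D223668) (iv5 F483373) (iv1 F483377) (iv5 F387698) (iv4 F387699) F251638 (iv0 F251583) D214512 D225316
theorem F529902 : act 3 n224207 = n225316 := d19_19 (iv1 D225316) (iv5 D214512) F251581 (iv3 D90140) (iv1 F67890) F67886 F32471 (iv3 F32430) (iv1 F61666) (iv5 F291140) F72353 (iv3 F144606) (iv1 F371388) (iv5 D187745) D187744 F443945 (iv1 D207245) D207246 D224207
theorem F529903 : act 6 n223642 = n225316 := d21_3 F454283 D217311 (iv5 F520495) (iv1 D225316) F475552 (iv5 D178614) F131491 (iv5 F316158) D136651 D209580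
theorem F529904 : act 2 n225316 = n214520 := d0_1 F529902 F516548 F526875 F526873 (iv2 F523638)
def n225317 : Q := act 4 n214520
theorem D225317 : act 4 n214520 = n225317 := rfl
theorem F529905 : act 2 n225317 = n223668 := d1_1 D225317 (iv4 F529901) F529904
theorem F529906 : act 3 n225317 = n224951 := d5_1 D225317 F527777 (iv3 F528294) F528295 (iv3 F516548)
theorem F529907 : act 5 n225317 = n216258 := d9_2 F489235 D225317 (iv4 D216258) F283689 (iv4 F135491) (iv5 F251566) (iv4 F448762) (iv5 F475594) (iv4 F525067) F525068 (iv4 F485782) (iv5 D216751) F287675 (iv5 F376319) (iv4 F489236)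
theorem F529908 : act 7 n225317 = n220185 := d11_2 (iv7 F475599) D225317 F502533
theorem F529909 : act 0 n225317 = n214531 := d17_0 F475656 (iv1 D191734) D191736 (iv4 F475582) F475583 F251593 D159709 D214520 D225317
theorem F529910 : act 1 n225317 = n214537 := d18_6 F475523 F368491 D189282 (iv4 F489236) F489235 D225317 (iv4 D214537) F475652 F475650
theorem F529911 : act 6 n225317 = n223663 := d21_5 (iv5 F492632) F492633 F468522 (iv6 F475680) (iv1 F529910) F520604 (iv1 F475705) F475703 (iv6 F489572) (iv1 F489573)
def n225318 : Q := act 6 n214520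
theorem D225318 : act 6 n214520 = n225318 := rfl
theorem F529912 : act 2 n225318 = n223642 := d3_1 D225318 F529903 F529904
theorem F529913 : act 4 n225318 = n223663 := d10_1 D225318 (iv6 F529911) (iv4 D225317)
theorem F529914 : act 5 n225318 = n223616 := d12_1 D225318 (iv6 D223616) (iv5 F468319) (iv6 F489237) F489235
theorem F529915 : act 7 n225318 = n223641 := d14_2 (iv7 F475599) D225318 F520490 F456640 D210264
theorem F529916 : act 0 n225318 = n214521 := d21_4 F475561 D217509 F489235 D225318 F475602 (iv5 D204225) F316731 D123221 (iv6 F251589) D214514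
theorem F529917 : act 0 n214522 = n225318 := d21_4 (iv5 F468616) F490633 F490630 (iv6 F475607) (iv6 D225318) (iv5 F489235) (iv1 F489239) F475570 (iv6 F475573) F460642
def n225319 : Q := act 5 n214533
theorem D225319 : act 5 n214533 = n225319 := rfl
theorem F529918 : act 2 n225319 = n218886 := d2_1 D225319 (iv5 D218886) (iv2 F475661)
theorem F529919 : act 3 n225319 = n214534 := d6_1 D225319 (iv5 D214534) D214533
theorem F529920 : act 4 n225319 = n220255 := d9_1 D225319 (iv5 D220255) F401621 (iv5 F459309) F459308 (iv5 D204387) D204386 (iv5 F476952) F476951 (iv5 F459287) (iv4 F389280) F459278 F459277 F388748 (iv4 F475662)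
theorem F529921 : act 6 n225319 = n216913 := d12_2 F481208 D225319 F486516 F289100 (iv5 F481207)
theorem F529922 : act 7 n225319 = n216914 := d13_2 (iv7 F475663) D225319 F486522
theorem F529923 : act 1 n225319 = n224366 := d17_6 (iv1 F391576) D217171 F487775 F388748 (iv4 F475662) D225319 (iv5 D224366) F472309 F472307
def n225320 : Q := act 4 n214549
theorem D225320 : act 4 n214549 = n225320 := rfl
theorem F529924 : act 2 n225320 = n224293 := d1_1 D225320 F524132 F492240
theorem F529925 : act 3 n225320 = n224297 := d5_1 D225320 F524154 F467442 F381249 (iv3 F475742)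
theorem F529926 : act 5 n225320 = n224282 := d9_2 D214549 D225320 (iv4 F524201) F524200 (iv4 D218765) (iv5 D190041) (iv4 F149573) D190827 D219111 (iv5 F522099) (iv4 F522305) (iv5 F524133) F524132 (iv5 D218124) F373850
theorem F529927 : act 6 n225320 = n224274 := d10_2 (iv6 F475746) D225320 F524024
theorem F529928 : act 7 n225320 = n218765 := d11_2 (iv7 F475743) D225320 (iv4 D218765)
theorem F529929 : act 0 n225320 = n217424 := d17_0 (iv5 F488832) F474830 (iv5 F496976) F496977 F495213 (iv0 F394335) (iv5 F497234) F497232 D225320
theorem F529930 : act 1 n225320 = n217422 := d18_6 F289535 (iv4 F147122) F373853 F373850 D214549 D225320 (iv4 D217422) (iv0 D187305) (iv5 D89889)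
def n225321 : Q := act 1 n214594
theorem D225321 : act 1 n214594 = n225321 := rfl
theorem F529931 : act 1 n225321 = n222384 := d15_1 D225321 F513921 F479261
theorem F529932 : act 7 n225321 = n222388 := d15_2 (iv0 F495796) D225321 F513944
theorem F529933 : act 5 n225321 = n221390 := d17_7 (iv1 F258572) (iv5 F367159) (iv1 F373778) F390834 (iv4 F412234) (iv5 F475964) D225321 F508766 (iv4 D214303)
theorem F529934 : act 4 n225321 = n215483 := d17_9 (iv1 F520294) F520293 F494416 (iv5 F512381) F512380 (iv5 D222067) (iv0 F412237) (iv5 F475964) D225321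
theorem F529935 : act 3 n223820 = n225321 := d19_19 (iv1 D225321) F475964 F412234 F365627 (iv1 F219335) D199982 (iv4 F448251) (iv3 D208177) (iv1 D133645) D133646 F333567 (iv3 F358107) (iv1 D97481) F358097 (iv4 F358096) F358095 (iv1 F262312) D215119 (iv4 F521461)
theorem F529936 : act 6 n215433 = n225321 := d21_3 (iv5 D174548) (iv1 F273401) D215433 (iv1 D225321) (iv6 D214594) (iv5 D160266) D160263 (iv5 F429438) (iv6 F429440) (iv1 F273948)
theorem F529937 : act 2 n225321 = n222387 := d3_1 F529936 F513936 (iv2 F479968)
def n225322 : Q := act 4 n214598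
theorem D225322 : act 4 n214598 = n225322 := rfl
theorem F529938 : act 2 n225322 = n218109 := d1_1 D225322 F492181 (iv2 F475984)
theorem F529939 : act 7 n225322 = n223603 := d11_2 (iv7 F475985) D225322 (iv4 D223603)
theorem F529940 : act 5 n225322 = n218106 := d16_1 D225322 (iv4 F494341) F494343 D218536 F494350 (iv4 D214599) D214600 F475994 (iv2 F475984)
theorem F529941 : act 0 n225322 = n214810 := d17_0 (iv5 F477734) F477736 D222623 F515233 F431002 F430252 (iv5 F477543) F477546 D225322
theorem F529942 : act 1 n225322 = n218914 := d18_6 (iv1 F412230) (iv4 F474484) F475982 (iv4 D214597) D214598 D225322 F513942 F513940 (iv5 D215294)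
theorem F529943 : act 3 n225322 = n218899 := d19_3 D160293 D214598 D225322 (iv1 F496100) (iv5 D216821) (iv4 D185638) F135419 (iv1 F292278) (iv5 D21525) F16279 F6750 (iv1 F292872) (iv5 D8930) (iv4 F13903) (iv3 F13905) (iv1 F12742) D17050 D35115 D76827
theorem F529944 : act 6 n225224 = n225322 := d7_0 F529943 F496099 F529344
def n225323 : Q := act 6 n214598
theorem D225323 : act 6 n214598 = n225323 := rfl
theorem F529945 : act 2 n225323 = n223606 := d3_1 D225323 (iv6 D223606) (iv2 F475984)
theorem F529946 : act 4 n225323 = n225224 := d10_1 D225323 F529944 (iv4 D225322)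
theorem F529947 : act 5 n225323 = n223711 := d12_1 D225323 F520860 F514274 F430999 D214598
theorem F529948 : act 0 n225323 = n222817 := d21_4 F198789 D160293 D214598 D225323 F516243 F495628 (iv1 F473444) (iv5 F480128) F480129 (iv1 D204761)
theorem F529949 : act 0 n218269 = n225323 := d21_4 (iv5 D218331) F375631 D192942 (iv6 F493046) (iv6 D225323) (iv5 D214598) (iv1 F253198) D204074 D223608 F520321
def n225324 : Q := act 4 n214600
theorem D225324 : act 4 n214600 = n225324 := rfl
theorem F529950 : act 2 n225324 = n223603 := d1_1 D225324 (iv4 D223603) (iv2 F475993)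
theorem F529951 : act 5 n225324 = n218110 := d9_2 D214600 D225324 (iv4 F494053) (iv5 F494055) (iv4 F494380) F494381 (iv4 D214597) D214598 D225322 F529940 (iv4 F494341) F494343 D218536 F494350 (iv4 D214599)
theorem F529952 : act 6 n225324 = n216920 := d10_2 (iv6 F511776) D225324 (iv4 F511774)
theorem F529953 : act 7 n225324 = n218109 := d11_2 (iv7 F475994) D225324 F492181
theorem F529954 : act 0 n225324 = n218914 := d17_0 F496177 F494188 (iv5 F520323) (iv4 D223609) F433491 (iv0 D163938) D163941 (iv0 F475995) D225324
theorem F529955 : act 1 n225324 = n214810 := d18_6 D199445 F474502 (iv1 F475991) (iv4 D214599) D214600 D225324 (iv4 F513934) (iv0 D222387) (iv5 D199447)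
theorem F529956 : act 3 n225324 = n218115 := d19_3 (iv1 F253203) D214600 D225324 (iv1 F492205) (iv5 F492134) (iv4 F486615) F486614 (iv1 F379835) (iv5 D190466) (iv4 F150122) (iv3 F367037) (iv1 F262196) (iv5 D166600) (iv4 F122740) (iv3 D39926) (iv1 F55015) F55013 (iv4 F91664) (iv3 F196331)
def n225325 : Q := act 7 n214620
theorem D225325 : act 7 n214620 = n225325 := rfl
theorem F529957 : act 3 n225325 = n214624 := d8_1 D225325 (iv7 D214624) (iv3 F476086)
theorem F529958 : act 4 n225325 = n224507 := d11_1 D225325 F525360 (iv4 F476087)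
theorem F529959 : act 5 n225325 = n214655 := d13_1 D225325 (iv7 D214655) (iv5 F476088)
theorem F529960 : act 1 n224921 = n225325 := d15_1 (iv0 F527612) (iv7 D225325) (iv2 F502767)
theorem F529961 : act 1 n225325 = n220589 := d15_1 F529960 (iv7 F505621) (iv2 F527608)
def n225326 : Q := act 5 n214621
theorem D225326 : act 5 n214621 = n225326 := rfl
theorem F529962 : act 2 n225326 = n224713 := d2_1 D225326 F526467 F517149
theorem F529963 : act 3 n225326 = n220632 := d6_1 D225326 (iv5 F519633) F519635
theorem F529964 : act 6 n225326 = n223680 := d12_2 D214621 D225326 F520691 F517133 F433528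
theorem F529965 : act 4 n225326 = n225272 := d16_2 (iv4 F476089) D225326 F529633 F517983 F433272 (iv4 F433512) (iv5 F521242) (iv7 D223782) F433503
theorem F529966 : act 0 n225326 = n222550 := d17_2 (iv1 F480013) D225326 (iv5 D222550) F415028 D200107 (iv0 F429455) F429454 (iv0 F402120) (iv4 F480000)
def n225327 : Q := act 6 n214627
theorem D225327 : act 6 n214627 = n225327 := rfl
theorem F529967 : act 2 n225327 = n214630 := d3_1 D225327 (iv6 D214630) (iv2 F476107)
theorem F529968 : act 3 n225327 = n217155 := d7_1 D225327 F487694 (iv3 F476108)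
theorem F529969 : act 4 n225327 = n217382 := d10_1 D225327 (iv6 D217382) (iv4 F476109)
theorem F529970 : act 5 n225327 = n222472 := d12_1 D225327 (iv6 D222472) (iv5 F476116) (iv6 D214628) D214627
theorem F529971 : act 7 n225327 = n224033 := d14_2 (iv7 F476110) D225327 (iv6 D224033) (iv7 F461334) F461331
theorem F529972 : act 0 n225327 = n225079 := d21_10 F528510 (iv1 D224041) (iv5 F498014) (iv6 D219265) (iv1 F381887) (iv6 F433296) (iv5 D204701) (iv1 F253363) D214627 D225327
theorem F529973 : act 0 n224670 = n225327 := d21_4 (iv5 D188424) D188422 D218058 (iv6 F526210) (iv6 D225327) (iv5 D214627) (iv1 F253365) D204705 F491960 (iv1 D218061)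
def n225328 : Q := act 7 n214646
theorem D225328 : act 7 n214646 = n225328 := rfl
theorem F529974 : act 2 n225328 = n214655 := d4_1 D225328 (iv7 D214655) (iv2 F476203)
theorem F529975 : act 3 n225328 = n221516 := d8_1 D225328 (iv7 F509916) F509914
theorem F529976 : act 4 n225328 = n220922 := d11_1 D225328 F506284 (iv4 F505858)
theorem F529977 : act 6 n225328 = n220292 := d14_1 D225328 F503061 (iv6 D204742) (iv7 F253457) D214646
theorem F529978 : act 1 n214654 = n225328 := d15_1 D214654 (iv7 D225328) F476203
theorem F529979 : act 1 n225328 = n214653 := d15_1 F529978 (iv7 F527673) F527670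
def n225329 : Q := act 6 n214654
theorem D225329 : act 6 n214654 = n225329 := rfl
theorem F529980 : act 2 n225329 = n222725 := d3_1 D225329 (iv6 F527672) F527670
theorem F529981 : act 3 n225329 = n224035 := d7_1 D225329 F522650 (iv3 F496012)
theorem F529982 : act 4 n225329 = n222631 := d10_1 D225329 F515271 F476233
theorem F529983 : act 5 n225329 = n217984 := d12_1 D225329 (iv6 F520745) (iv5 F520744) (iv6 F513507) F513506
theorem F529984 : act 0 n225329 = n215511 := d21_4 F521183 (iv1 F513509) F513506 D225329 (iv6 D215511) F365448 D209684 F454618 (iv6 F461407) F521184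
def n225330 : Q := act 5 n214670
theorem D225330 : act 5 n214670 = n225330 := rfl
theorem F529985 : act 2 n225330 = n214671 := d2_1 D225330 (iv5 D214671) D214670
theorem F529986 : act 3 n225330 = n221437 := d6_1 D225330 F509027 (iv3 F476319)
theorem F529987 : act 4 n225330 = n222218 := d9_1 D225330 F512976 F496893 (iv5 F433430) (iv4 F476606) (iv5 D214739) F254097 D205069 F434875 (iv5 D198485) (iv4 F405490) F433427 (iv4 F512936) (iv5 D222210) (iv4 F476320)
theorem F529988 : act 6 n225330 = n223821 := d12_2 (iv6 F476321) D225330 F521466 F512932 (iv5 D222209)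
theorem F529989 : act 7 n225330 = n214678 := d13_2 (iv7 F476322) D225330 (iv5 F476358)
theorem F529990 : act 0 n225330 = n223820 := d17_2 (iv1 F476323) D225330 F521460 (iv4 D214691) F433432 (iv0 F433433) (iv5 D160867) D160865 (iv4 F429393)
theorem F529991 : act 1 n225330 = n214731 := d17_6 (iv1 F408137) D222144 F512938 (iv5 D222210) (iv4 F476320) D225330 F476579 (iv0 F476104) F281182
def n225331 : Q := act 1 n214671
theorem D225331 : act 1 n214671 = n225331 := rfl
theorem F529992 : act 1 n225331 = n214678 := d15_1 D225331 (iv7 F529989) F529985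
theorem F529993 : act 7 n225331 = n223820 := d15_2 F478462 D225331 F521463
theorem F529994 : act 5 n225331 = n214718 := d17_7 F474550 D198485 F478539 (iv5 D215135) F262404 D214671 D225331 F482981 F482977
theorem F529995 : act 4 n225331 = n214730 := d17_9 F476577 (iv5 D214720) (iv1 D160843) D160845 D214723 F476545 (iv0 F476130) D214671 D225331
theorem F529996 : act 3 n222388 = n225331 := d19_19 (iv1 D225331) (iv5 D214671) (iv4 F262404) (iv3 D166707) (iv1 D80011) D80013 D166711 (iv3 F402355) D221655 F510125 F496489 F492211 (iv1 F379714) (iv5 F488481) (iv4 F515226) F515225 F494187 (iv5 F496177) F513942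
theorem F529997 : act 2 n225331 = n214731 := d0_1 F529996 F476578 (iv2 F433322) (iv3 F495794) (iv2 F513944)
def n225332 : Q := act 3 n214677
theorem D225332 : act 3 n214677 = n225332 := rfl
theorem F529998 : act 2 n225332 = n219316 := d0_1 D225332 F498264 F409016 F434874 (iv2 F476352)
theorem F529999 : act 4 n225332 = n219631 := d5_2 D214677 D225332 (iv3 F522692) F522695 F476348
theorem F530000 : act 5 n225332 = n215690 := d6_2 (iv5 F476353) D225332 (iv3 D215690)
theorem F530001 : act 6 n225332 = n222221 := d7_2 F512583 D225332 F512995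
theorem F530002 : act 7 n225332 = n219314 := d8_2 (iv7 F476354) D225332 F498259
theorem F530003 : act 0 n225332 = n224322 := d19_4 (iv1 F253656) D160584 D214677 D225332 (iv5 D224322) F447810 (iv3 F381229) (iv1 D183237) (iv5 D87468) F61810 F30889 D19229 D40762 F294460 D169936 F417713 (iv5 F417712) (iv4 F364838) (iv3 F364839)
def n225333 : Q := act 5 n214686
theorem D225333 : act 5 n214686 = n225333 := rfl
theorem F530004 : act 2 n225333 = n214687 := d2_1 D225333 (iv5 D214687) D214686
theorem F530005 : act 3 n225333 = n215062 := d6_1 D225333 (iv5 D215062) (iv3 F476395)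
theorem F530006 : act 6 n225333 = n216918 := d12_2 (iv6 F481052) D225333 (iv5 D216918) (iv6 F480748) F481051
theorem F530007 : act 7 n225333 = n225224 := d13_2 (iv7 F476397) D225333 F529343
theorem F530008 : act 0 n225333 = n218289 := d17_2 (iv1 F476398) D225333 F493126 F472313 (iv5 F489379) F489382 D217818 (iv0 F495210) F495208
theorem F530009 : act 1 n225333 = n225223 := d17_6 D157854 (iv5 F372140) (iv1 F376982) (iv5 F376981) (iv4 F476396) D225333 (iv5 D225223) (iv0 F472303) F248763
def n225334 : Q := act 4 n214687
theorem D225334 : act 4 n214687 = n225334 := rfl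
theorem F530010 : act 3 n225334 = n223606 := d5_1 D225334 F520309 F474352 (iv4 F253705) (iv3 F476400)
theorem F530011 : act 5 n225334 = n222412 := d9_2 D214687 D225334 F514072 (iv5 F487590) (iv4 F474357) (iv5 D214276) (iv4 F474350) (iv5 F529343) (iv4 F529946) F529947 F520859 F487584 F370800 (iv5 D180385) (iv4 F253701)
theorem F530012 : act 6 n225334 = n223605 := d10_2 F481184 D225334 F520305
theorem F530013 : act 7 n225334 = n223606 := d11_2 (iv7 F476401) D225334 F520309
theorem F530014 : act 0 n225334 = n218269 := d17_0 (iv5 D218269) (iv1 F492566) (iv5 F521344) F521343 F434046 F433804 D215225 (iv0 F479255) D225334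
theorem F530015 : act 1 n225334 = n222817 := d18_8 (iv1 F492579) (iv4 D218184) (iv1 D188664) (iv4 F374343) D218181 F492562 (iv0 F479255) D225334 (iv5 D222817)
def n225335 : Q := act 7 n214689
theorem D225335 : act 7 n214689 = n225335 := rfl
theorem F530016 : act 2 n225335 = n225296 := d4_1 D225335 (iv7 D225296) (iv2 F476407)
theorem F530017 : act 3 n225335 = n216920 := d8_1 D225335 F486542 F481183
theorem F530018 : act 4 n225335 = n218115 := d11_1 D225335 (iv7 D218115) (iv4 F476408)
theorem F530019 : act 5 n225335 = n216919 := d13_1 D225335 F486538 (iv5 F481182)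
theorem F530020 : act 6 n225335 = n218115 := d14_1 D225335 (iv7 D218115) F373793 (iv7 F253704) D214689
theorem F530021 : act 1 n219209 = n225335 := d15_1 (iv0 F497741) (iv7 D225335) F476407
theorem F530022 : act 1 n225335 = n225295 := d15_1 F530021 F529773 (iv2 F497737)
def n225336 : Q := act 0 n214696
theorem D225336 : act 0 n214696 = n225336 := rfl
theorem F530023 : act 5 n225336 = n216105 := d17_1 D225336 (iv1 F482981) (iv5 F529994) F529995 (iv5 D214730) F262308 F433473 (iv0 F433474) D214696
theorem F530024 : act 4 n225336 = n215508 := d18_1 D225336 F512473 F512471 (iv5 D199671) F173121 (iv0 F409000) (iv4 F476320) F476323 (iv5 F476432)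
theorem F530025 : act 6 n225336 = n215507 := d21_5 (iv5 F502305) (iv1 F509627) F509629 (iv6 F476431) D225336 F480259 F454605 (iv5 F512509) (iv6 F512512) F497877
theorem F530026 : act 2 n216106 = n225336 := d15_3 (iv0 D225336) (iv0 F477577) (iv7 F482983)
theorem F530027 : act 1 n223819 = n225336 := d15_0 (iv0 D225336) (iv7 F476544) (iv2 F521455)
theorem F530028 : act 3 n225336 = n222457 := d0_2 (iv3 F482982) F530026 (iv2 F514318) F477590 (iv2 F281184)
def n225337 : Q := act 6 n214697
theorem D225337 : act 6 n214697 = n225337 := rfl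
theorem F530029 : act 3 n225337 = n217351 := d7_1 D225337 (iv6 D217351) F476435
theorem F530030 : act 5 n225337 = n218712 := d12_1 D225337 (iv6 D218712) F378379 (iv6 F388075) (iv5 F476434)
theorem F530031 : act 7 n225337 = n222619 := d14_2 (iv7 F476433) D225337 F515209 (iv7 F501958) F501957
def n225338 : Q := act 3 n214702
theorem D225338 : act 3 n214702 = n225338 := rfl
theorem F530032 : act 2 n225338 = n220381 := d0_1 D225338 F503501 (iv2 F500257) F500258 (iv2 F478469)
theorem F530033 : act 4 n225338 = n225068 := d5_2 (iv4 F476452) D225338 (iv3 D225068) (iv4 D212777) (iv3 F467451)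
theorem F530034 : act 5 n225338 = n220377 := d6_2 (iv5 F476453) D225338 F503487
theorem F530035 : act 6 n225338 = n224022 := d7_2 (iv6 F495919) D225338 (iv3 F522582)
theorem F530036 : act 7 n225338 = n220914 := d8_2 (iv7 F478468) D225338 F506243
theorem F530037 : act 0 n225338 = n218896 := d19_4 F419591 D212775 (iv4 F476452) D225338 F496085 (iv4 F473141) F473142 (iv1 F481534) (iv5 D215777) F391061 F391060 (iv1 F382943) (iv5 F468315) F468316 F335473 F177479 F83720 (iv4 F177921) D201238
def n225339 : Q := act 0 n214723
theorem D225339 : act 0 n214723 = n225339 := rfl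
theorem F530038 : act 5 n225339 = n214943 := d17_1 D225339 (iv1 F477574) (iv5 F521460) F521461 (iv5 D215119) F262312 F476261 (iv0 F476262) D214723
theorem F530039 : act 4 n225339 = n222153 := d18_1 D225339 (iv1 F512619) F495672 F406263 (iv4 F408772) F476604 F476601 F476131 (iv5 F476545)
theorem F530040 : act 3 n225339 = n221436 := d20_5 F379025 (iv1 D190169) (iv4 F379021) (iv3 F476542) D225339 (iv4 F523914) F523915 F516707 F509423 (iv1 D197924)
theorem F530041 : act 6 n225339 = n224910 := d21_5 (iv5 F505928) (iv1 D220858) F394274 (iv6 F476543) D225339 F527545 (iv1 F509519) (iv5 F527569) F527570 (iv1 F496254)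
theorem F530042 : act 2 n214944 = n225339 := d15_3 (iv0 D225339) (iv0 F482985) F482983
theorem F530043 : act 1 n219248 = n225339 := d15_0 (iv0 D225339) F476544 (iv2 F497927)
theorem F530044 : act 7 n225339 = n225336 := d15_2 F497930 F530043 (iv2 F530026)
def n225340 : Q := act 6 n214725
theorem D225340 : act 6 n214725 = n225340 := rfl
theorem F530045 : act 2 n225340 = n220459 := d3_1 D225340 (iv6 D220459) F476555
theorem F530046 : act 3 n225340 = n219100 := d7_1 D225340 F497179 F495984
theorem F530047 : act 4 n225340 = n225337 := d10_1 D225340 (iv6 D225337) F476554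
theorem F530048 : act 5 n225340 = n215716 := d12_1 D225340 (iv6 F481220) F390721 (iv6 F385817) (iv5 F476553)
theorem F530049 : act 0 n225340 = n218094 := d21_4 F381560 (iv1 F385819) (iv5 F476553) D225340 F497388 F497386 F500251 F500249 (iv6 F487303) F487304
theorem F530050 : act 1 n225340 = n218095 := d15_1 (iv0 F530049) (iv7 F492189) F492186
def n225341 : Q := act 6 n214728
theorem D225341 : act 6 n214728 = n225341 := rfl
theorem F530051 : act 2 n225341 = n225337 := d3_1 D225341 (iv6 D225337) F476567
theorem F530052 : act 3 n225341 = n215708 := d7_1 D225341 (iv6 F491442) F491441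
theorem F530053 : act 4 n225341 = n220459 := d10_1 D225341 (iv6 D220459) F476568
theorem F530054 : act 5 n225341 = n224333 := d12_1 D225341 (iv6 F524377) (iv5 D217962) (iv6 F489644) F489643
theorem F530055 : act 0 n220693 = n225341 := d21_4 (iv5 D215487) F414082 D222503 F514588 (iv6 D225341) (iv5 F489643) F489646 (iv5 F488883) F488884 F480200
def n225342 : Q := act 6 n214733
theorem D225342 : act 6 n214733 = n225342 := rfl
theorem F530056 : act 3 n225342 = n224018 := d7_1 D225342 (iv6 D224018) F476586
theorem F530057 : act 4 n225342 = n220912 := d10_1 D225342 (iv6 F506234) F478467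
theorem F530058 : act 0 n225342 = n219171 := d21_4 (iv5 D215023) (iv1 F467456) (iv5 F476585) D225342 (iv6 D219171) F381454 F385781 D102251 (iv6 F369052) (iv1 F477943)
theorem F530059 : act 0 n219286 = n225342 := d18_0 F530057 (iv1 F506235) (iv4 F488788) (iv5 F488789) (iv4 F509396) (iv0 D221516) (iv4 F401069) D215475 F498124
def n225343 : Q := act 1 n214736
theorem D225343 : act 1 n214736 = n225343 := rfl
theorem F530060 : act 1 n225343 = n215253 := d15_1 D225343 (iv7 F529765) F529761
theorem F530061 : act 7 n225343 = n225300 := d15_2 (iv0 F521161) D225343 F529797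
theorem F530062 : act 5 n225343 = n214875 := d17_7 (iv1 F280706) D214276 (iv1 F474358) (iv5 D170870) (iv4 F254054) D214736 D225343 (iv0 F482794) (iv4 D216073)
theorem F530063 : act 4 n225343 = n218288 := d17_9 (iv1 F496268) F496265 (iv1 F419942) F449324 (iv4 F480302) F480303 (iv0 F394774) D214736 D225343
theorem F530064 : act 3 n220883 = n225343 := d19_19 (iv1 D225343) (iv5 D214736) F254054 D170869 (iv1 F268479) D180526 (iv4 F380036) (iv3 F380038) F431522 F431521 F406306 (iv3 F374716) (iv1 D115179) D115180 F357485 (iv3 F461827) (iv1 F506064) (iv5 D220884) D220883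
theorem F530065 : act 6 n218817 = n225343 := d21_3 (iv5 F481110) F518711 F518707 (iv1 D225343) F476595 (iv5 F380532) (iv1 F488188) (iv5 F497373) F521209 (iv1 D223776)
def n225344 : Q := act 4 n214743
theorem D225344 : act 4 n214743 = n225344 := rfl
theorem F530066 : act 2 n225344 = n222455 := d1_1 D225344 F514307 (iv2 F480299)
theorem F530067 : act 5 n225344 = n218255 := d9_2 (iv5 F476620) D225344 F492983 F489683 (iv4 F465254) F406487 (iv4 F394988) F394989 (iv4 F495786) (iv5 F495787) (iv4 F490964) (iv5 D217859) F431916 (iv5 F431914) (iv4 F430168)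
theorem F530068 : act 6 n225344 = n224518 := d10_2 F495722 D225344 F525426
theorem F530069 : act 7 n225344 = n217159 := d11_2 (iv7 F476621) D225344 F487708
theorem F530070 : act 0 n225344 = n215229 := d17_0 (iv5 F492577) F492578 D218269 F493047 (iv5 D215253) F394775 (iv5 F480303) F480306 D225344
theorem F530071 : act 1 n225344 = n223799 := d18_6 (iv1 F476398) F476396 (iv1 F280713) (iv4 F430168) (iv5 F476620) D225344 F521343 F478961 F478960
def n225345 : Q := act 5 n214748
theorem D225345 : act 5 n214748 = n225345 := rfl
theorem F530072 : act 2 n225345 = n215147 := d2_1 D225345 (iv5 D215147) (iv2 F492222)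
theorem F530073 : act 3 n225345 = n225290 := d6_1 D225345 F529748 F512648
theorem F530074 : act 4 n225345 = n221515 := d9_1 D225345 (iv5 D221515) D221514 F509391 (iv4 F414075) D222503 F514590 F492220 (iv4 F509381) (iv5 D221512) (iv4 F501744) F501745 F459234 (iv5 F524341) F524340
theorem F530075 : act 6 n225345 = n215497 := d12_2 F505803 D225345 F480227 F474033 (iv5 F505798)
theorem F530076 : act 7 n225345 = n215143 := d13_2 (iv7 F492223) D225345 (iv5 D215143)
theorem F530077 : act 0 n225345 = n218796 := d17_2 (iv1 F476641) D225345 F495696 F381959 (iv5 F160330) D194832 F394650 F476494 F476492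
theorem F530078 : act 1 n225345 = n218815 := d17_6 F480168 (iv5 D215334) F455765 (iv5 F524341) F524340 D225345 F495781 (iv0 F495968) (iv4 F495965)
def n225346 : Q := act 5 n214751
theorem D225346 : act 5 n214751 = n225346 := rfl
theorem F530079 : act 3 n225346 = n217441 := d6_1 D225346 (iv5 F496119) F496118
theorem F530080 : act 6 n225346 = n223763 := d12_2 (iv6 F492126) D225346 F521136 F463240 D218095
theorem F530081 : act 7 n225346 = n219127 := d13_2 F529785 D225346 F529789
theorem F530082 : act 4 n225346 = n219251 := d16_2 D214751 D225346 F497939 F464234 F457213 (iv4 F431926) F394650 F476483 (iv2 F476482)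
theorem F530083 : act 1 n225346 = n217154 := d17_6 F381457 (iv5 F160330) D194831 F459628 D214751 D225346 F487692 (iv0 F497555) F497553
def n225347 : Q := act 5 n214753
theorem D225347 : act 5 n214753 = n225347 := rfl
theorem F530084 : act 2 n225347 = n219127 := d2_1 D225347 F529789 F529790
theorem F530085 : act 3 n225347 = n217363 := d6_1 D225347 (iv5 F527558) F527556
theorem F530086 : act 4 n225347 = n225021 := d9_1 D225347 (iv5 D225021) (iv4 F464697) F459627 F431923 F459628 D214751 D225346 F530082 F497939 F464234 F457213 (iv4 F431926) F394650 D214753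
theorem F530087 : act 6 n225347 = n220456 := d12_2 F495799 D225347 (iv5 D220456) (iv6 F503543) F503539
theorem F530088 : act 0 n225347 = n217154 := d17_2 F524198 D225347 F487692 (iv4 D215490) (iv5 D174663) (iv0 F365989) D210019 (iv0 F506364) (iv4 F524194)
def n225348 : Q := act 6 n214760
theorem D225348 : act 6 n214760 = n225348 := rfl
theorem F530089 : act 3 n225348 = n214762 := d7_1 D225348 (iv6 D214762) (iv3 F476689)
theorem F530090 : act 4 n225348 = n223928 := d10_1 D225348 F522067 (iv4 F476691)
theorem F530091 : act 5 n225348 = n220744 := d12_1 D225348 F505281 (iv5 D214352) (iv6 F364271) D214760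
theorem F530092 : act 7 n225348 = n218896 := d14_2 (iv7 F476690) D225348 (iv6 D218896) F379179 (iv6 F439513)
theorem F530093 : act 0 n220914 = n225348 := d21_4 F488561 (iv1 F373616) F394851 D220914 (iv6 D225348) (iv5 D214760) (iv1 F366247) D210292 F456885 (iv1 F488563)
theorem F530094 : act 1 n220381 = n225348 := d15_0 (iv0 F530093) (iv7 F530036) F530032
def n225349 : Q := act 3 n214761
theorem D225349 : act 3 n214761 = n225349 := rfl
theorem F530095 : act 4 n225349 = n223929 := d5_2 D214761 D225349 F522068 (iv4 F476691) F476689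
theorem F530096 : act 5 n225349 = n216822 := d6_2 (iv5 F476694) D225349 (iv3 D216822)
theorem F530097 : act 6 n225349 = n217367 := d7_2 F476697 D225349 (iv3 D217367)
theorem F530098 : act 7 n225349 = n219328 := d8_2 (iv7 F476695) D225349 F498311
theorem F530099 : act 0 n215065 = n225349 := d20_4 (iv4 F492137) (iv1 D218097) (iv4 F474429) (iv3 F478153) (iv3 D225349) (iv4 D214761) (iv1 F476664) (iv4 F497821) F497820 (iv1 F477277)
def n225350 : Q := act 4 n214763
theorem D225350 : act 4 n214763 = n225350 := rfl
theorem F530100 : act 2 n225350 = n215422 := d1_1 D225350 F479915 (iv2 F476704)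
theorem F530101 : act 3 n225350 = n222344 := d5_1 D225350 (iv4 F520777) F520776 F518123 (iv3 F476705)
theorem F530102 : act 5 n225350 = n222558 := d9_2 D214763 D225350 F514909 (iv5 D212538) (iv4 D147721) (iv5 D69219) (iv4 F105504) D147707 D212535 (iv5 F527236) F527235 (iv5 D216576) F388856 (iv5 D160993) (iv4 F254495)
theorem F530103 : act 6 n225350 = n220761 := d10_2 (iv6 F476706) D225350 (iv4 D220761)
theorem F530104 : act 7 n225350 = n220784 := d11_2 (iv7 F476707) D225350 F505513
theorem F530105 : act 0 n225350 = n214826 := d17_0 F477018 F502683 F502682 (iv4 D194589) F392988 D214832 (iv5 F477050) F476709 D225350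
theorem F530106 : act 1 n225350 = n224858 := d18_6 (iv1 F336333) (iv4 D147711) F334032 (iv4 F254495) D214763 D225350 F527255 (iv0 F464553) F390472
def n225351 : Q := act 5 n214798
theorem D225351 : act 5 n214798 = n225351 := rfl
theorem F530107 : act 2 n225351 = n218830 := d2_1 D225351 F495832 (iv2 F476905)
theorem F530108 : act 3 n225351 = n214799 := d6_1 D225351 (iv5 D214799) D214798
theorem F530109 : act 6 n225351 = n218820 := d12_2 (iv6 F476906) D225351 (iv5 F516652) (iv6 F527314) F527310
theorem F530110 : act 7 n225351 = n221643 := d13_2 (iv7 F476907) D225351 (iv5 D221643)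
theorem F530111 : act 0 n225351 = n222196 := d17_2 F476909 D225351 F512847 F502772 (iv5 F525497) F525500 (iv5 F502552) F502555 (iv4 F402245)
theorem F530112 : act 4 n225351 = n219241 := d17_4 (iv1 F510073) F510070 F476909 D225351 F497898 (iv0 F416387) F463175 (iv0 F514564) F514563
theorem F530113 : act 1 n225351 = n224001 := d17_8 (iv1 F512508) (iv5 D220413) F472051 (iv5 F497797) (iv4 F510047) (iv5 D221640) (iv0 F476908) D225351 F522464
def n225352 : Q := act 1 n214808
theorem D225352 : act 1 n214808 = n225352 := rfl
theorem F530114 : act 1 n225352 = n225319 := d15_1 D225352 F529922 F486519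
theorem F530115 : act 7 n225352 = n224015 := d15_2 F524550 D225352 (iv2 F524545)
theorem F530116 : act 5 n225352 = n217164 := d17_7 D186914 D217169 F487763 (iv5 D204387) D204386 (iv5 F476952) D225352 (iv0 D217164) F368493
theorem F530117 : act 4 n225352 = n215469 := d18_7 (iv1 F400408) (iv4 F461954) F461956 F389280 F459287 (iv4 F476951) D225352 F480133 (iv5 D211338)
theorem F530118 : act 3 n219258 = n225352 := d19_19 (iv1 D225352) F476952 (iv4 D204386) (iv3 D123716) (iv1 F198124) (iv5 F359719) D188426 (iv3 F391166) D200938 (iv5 F503113) F503112 (iv3 D218704) D218702 (iv5 F521854) (iv4 F522151) (iv3 F522152) (iv1 F446852) D207938 F497981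
theorem F530119 : act 6 n220451 = n225352 := d21_3 (iv5 D208101) (iv1 F390736) D220451 (iv1 D225352) (iv6 D214808) (iv5 D162636) F299329 D83462 D174665 (iv1 F496973)
theorem F530120 : act 2 n225352 = n217268 := d3_1 F530119 F488200 (iv2 F503841)
def n225353 : Q := act 6 n214813
theorem D225353 : act 6 n214813 = n225353 := rfl
theorem F530121 : act 2 n225353 = n214814 := d3_1 D225353 (iv6 D214814) (iv2 F476970)
theorem F530122 : act 3 n225353 = n224964 := d7_1 D225353 (iv6 F527862) (iv3 F476971)
theorem F530123 : act 4 n225353 = n224938 := d10_1 D225353 (iv6 D224938) (iv4 F476972)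
theorem F530124 : act 5 n225353 = n215137 := d12_1 D225353 (iv6 D215137) (iv5 D166710) (iv6 F256905) D214813
theorem F530125 : act 7 n225353 = n217384 := d14_2 (iv7 F476973) D225353 F488670 F381403 (iv6 F474014)
theorem F530126 : act 0 n225353 = n217417 := d21_4 F149622 F358723 D214813 D225353 (iv6 F495851) F495848 (iv1 F462932) (iv5 F497401) F497403 (iv1 D190890)
theorem F530127 : act 1 n225353 = n217415 := d15_1 (iv0 F530126) F488799 (iv2 F488803)
def n225354 : Q := act 3 n214843
theorem D225354 : act 3 n214843 = n225354 := rfl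
theorem F530128 : act 2 n225354 = n222068 := d0_1 D225354 (iv3 D222068) (iv2 F407305) (iv3 F472261) (iv2 F477112)
theorem F530129 : act 4 n225354 = n216535 := d5_2 D214843 D225354 (iv3 F484846) (iv4 F465942) F465938
theorem F530130 : act 5 n225354 = n220578 := d6_2 F528686 D225354 F528688
theorem F530131 : act 6 n225354 = n221070 := d7_2 (iv6 F483311) D225354 F507086
theorem F530132 : act 7 n225354 = n220577 := d8_2 (iv7 F477113) D225354 F504440
theorem F530133 : act 0 n225354 = n216538 := d19_4 D78406 D163062 D214843 D225354 (iv5 F507494) F507495 (iv3 D219688) F385235 F361542 F102248 (iv3 F102244) (iv1 F322807) (iv5 D80466) (iv4 F297843) F43232 F30018 (iv5 D18550) (iv4 F43479) D35734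
theorem F530134 : act 0 n223997 = n225354 := d20_4 (iv4 D202420) F221538 (iv4 F438740) (iv3 F522437) (iv3 D225354) (iv4 D214843) (iv1 F339265) (iv4 F463622) (iv3 F463624) (iv1 F423940)
def n225355 : Q := act 6 n214868
theorem D225355 : act 6 n214868 = n225355 := rfl
theorem F530135 : act 2 n225355 = n217403 := d3_1 D225355 (iv6 D217403) F477209
theorem F530136 : act 3 n225355 = n217475 := d7_1 D225355 (iv6 F489051) F477212
theorem F530137 : act 4 n225355 = n217477 := d10_1 D225355 (iv6 F489062) (iv4 F477208)
theorem F530138 : act 5 n225355 = n217778 := d12_1 D225355 F490573 F463192 F435761 (iv5 F477207)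
theorem F530139 : act 7 n225355 = n220873 := d14_2 (iv7 F477211) D225355 F506007 (iv7 D208100) (iv6 F409041)
theorem F530140 : act 0 n225355 = n219125 := d21_4 (iv5 D166681) D166678 (iv5 F477207) D225355 (iv6 F497311) F463191 (iv1 F425762) (iv5 F496109) F496110 F476559
theorem F530141 : act 0 n219128 = n225355 := d21_4 (iv5 D144067) (iv1 F182931) (iv5 F404495) (iv6 F497323) (iv6 D225355) F477207 (iv1 F262323) D214699 F476442 F415590
def n225356 : Q := act 0 n214870
theorem D225356 : act 0 n214870 = n225356 := rfl
theorem F530142 : act 5 n225356 = n219170 := d17_1 D225356 (iv1 D219170) F381454 (iv4 D102228) D102229 F368861 (iv5 F368854) (iv0 F385551) (iv4 F477217)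
theorem F530143 : act 4 n225356 = n217084 := d18_1 D225356 F487331 F391542 F389986 (iv4 F381812) (iv0 F388070) F388069 F385815 D214870
theorem F530144 : act 6 n225356 = n219723 := d21_5 (iv5 D109445) (iv1 F325183) D163254 (iv6 F477215) D225356 F500271 (iv1 F479573) (iv5 F425807) (iv6 F425810) (iv1 F408209)
theorem F530145 : act 2 n220365 = n225356 := d15_3 (iv0 D225356) (iv0 F526256) F526255
theorem F530146 : act 1 n219156 = n225356 := d15_0 (iv0 D225356) F477216 (iv2 F497468)
theorem F530147 : act 7 n225356 = n219459 := d15_2 (iv0 F526257) F530146 (iv2 F526251)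
theorem F530148 : act 3 n220718 = n225356 := d8_3 F530147 (iv3 F505598) (iv7 F505602)
def n225357 : Q := act 6 n214880
theorem D225357 : act 6 n214880 = n225357 := rfl
theorem F530149 : act 2 n225357 = n222582 := d3_1 D225357 F515014 F477258
theorem F530150 : act 4 n225357 = n223286 := d10_1 D225357 F518638 F513107
theorem F530151 : act 5 n225357 = n222581 := d12_1 D225357 F515009 (iv5 F478441) (iv6 D215116) (iv5 F477256)
theorem F530152 : act 7 n225357 = n222587 := d14_2 F477259 D225357 F515043 (iv7 F475768) (iv6 F476462)
theorem F530153 : act 0 n225357 = n223293 := d21_4 F254107 D166668 (iv5 F477256) D225357 (iv6 D223293) F425581 (iv1 F415738) F410946 D208095 (iv1 F447851)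
theorem F530154 : act 0 n224958 = n225357 := d21_4 F395145 (iv1 F395143) (iv5 F462969) (iv6 F527822) (iv6 D225357) F477256 (iv1 F262301) D214709 F476474 (iv1 F404496)
def n225358 : Q := act 0 n214886
theorem D225358 : act 0 n214886 = n225358 := rfl
theorem F530155 : act 5 n225358 = n219141 := d17_1 D225358 F497393 F488751 (iv4 F494144) F494142 F492226 (iv5 F492239) F494221 (iv4 F494223)
theorem F530156 : act 4 n225358 = n218475 := d18_1 D225358 (iv1 D218475) F486540 (iv5 F530019) F530018 F492206 F492129 (iv0 D214884) D214886
theorem F530157 : act 3 n225358 = n219002 := d20_5 (iv4 F447804) (iv1 F515194) (iv4 F522736) F522735 D225358 F496620 F494005 (iv4 F496309) (iv3 F496314) (iv1 D216916)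
theorem F530158 : act 6 n225358 = n217183 := d21_5 (iv5 D214349) (iv1 F296608) D203864 (iv6 F477279) D225358 (iv5 D217183) (iv1 F408301) (iv5 F484112) F484113 (iv1 F474708)
theorem F530159 : act 2 n219074 = n225358 := d15_3 (iv0 D225358) (iv0 F495288) (iv7 F497043)
theorem F530160 : act 1 n223529 = n225358 := d15_0 (iv0 D225358) (iv7 F515166) (iv2 F519933)
theorem F530161 : act 7 n225358 = n219000 := d15_2 F519938 F530160 F496609
def n225359 : Q := act 6 n214896
theorem D225359 : act 6 n214896 = n225359 := rfl
theorem F530162 : act 2 n225359 = n214898 := d3_1 D225359 (iv6 D214898) (iv2 F477323)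
theorem F530163 : act 3 n225359 = n214901 := d7_1 D225359 F477347 (iv3 F477324)
theorem F530164 : act 4 n225359 = n224662 := d10_1 D225359 F526165 F524228
theorem F530165 : act 5 n225359 = n222651 := d12_1 D225359 (iv6 D222651) F416946 (iv6 F414894) D214896
theorem F530166 : act 7 n225359 = n214898 := d14_2 (iv7 F477325) D225359 (iv6 D214898) (iv7 F294072) F382787
theorem F530167 : act 0 n225359 = n221324 := d21_4 (iv5 F376617) (iv1 F287811) D214896 D225359 (iv6 D221324) (iv5 D196035) (iv1 F163841) D131836 F352533 F376867
theorem F530168 : act 0 n221324 = n225359 := d21_4 (iv5 D131831) (iv1 F163839) D196035 D221324 (iv6 D225359) (iv5 D214896) (iv1 F334375) (iv5 F382598) F382600 (iv1 F362892)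
def n225360 : Q := act 1 n214897
theorem D225360 : act 1 n214897 = n225360 := rfl
theorem F530169 : act 1 n225360 = n218495 := d15_1 D225360 (iv7 F524229) F524226
theorem F530170 : act 7 n225360 = n219346 := d15_2 (iv0 F494002) D225360 (iv2 F498396)
theorem F530171 : act 5 n225360 = n218640 := d17_7 (iv1 F447495) F399585 (iv1 F176887) (iv5 F376801) (iv4 F494539) F494540 D225360 F494923 F493997
theorem F530172 : act 4 n225360 = n215754 := d17_9 (iv1 F523818) F523820 (iv1 D215151) (iv5 F445629) (iv4 F515692) F515691 F494542 F494540 D225360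
theorem F530173 : act 3 n218641 = n225360 := d19_19 (iv1 D225360) (iv5 F494540) F494539 (iv3 F466695) F466698 (iv5 D208975) F364326 (iv3 D144782) (iv1 F175397) (iv5 F175841) (iv4 F214432) F377135 (iv1 D189618) D189619 F377140 (iv3 F381660) (iv1 F497524) (iv5 F526159) F526163
theorem F530174 : act 6 n222712 = n225360 := d21_9 (iv5 F494540) (iv1 F494542) (iv5 F515691) F515694 F445626 (iv6 F494000) (iv5 D218460) D218459 (iv5 F515706) (iv1 D225360)
theorem F530175 : act 2 n225360 = n219345 := d3_1 F530174 (iv6 F498392) (iv2 F515703)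
def n225361 : Q := act 6 n214897
theorem D225361 : act 6 n214897 = n225361 := rfl
theorem F530176 : act 2 n225361 = n224662 := d3_1 D225361 F526165 F524226
theorem F530177 : act 3 n225361 = n216132 := d7_1 D225361 (iv6 D216132) (iv3 F477328)
theorem F530178 : act 4 n225361 = n214898 := d10_1 D225361 (iv6 D214898) D214897
theorem F530179 : act 5 n225361 = n224665 := d12_1 D225361 F526180 F515387 (iv6 F494541) F494540
theorem F530180 : act 7 n225361 = n224662 := d14_2 (iv7 F477329) D225361 F526165 F524229 F494160
theorem F530181 : act 0 n225361 = n224674 := d21_4 F515683 (iv1 F494543) F494540 D225361 (iv6 F526236) (iv5 F526241) F526240 F508343 F445332 D222709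
theorem F530182 : act 0 n224674 = n225361 := d21_10 F530179 F526182 (iv5 F530179) (iv6 D225361) F494002 F494000 F493996 F526242 F526241 F526236
def n225362 : Q := act 6 n214944
theorem D225362 : act 6 n214944 = n225362 := rfl
theorem F530183 : act 2 n225362 = n224910 := d3_1 D225362 (iv6 F530041) (iv2 F530042)
theorem F530184 : act 3 n225362 = n214945 := d7_1 D225362 (iv6 D214945) (iv3 F477575)
theorem F530185 : act 4 n225362 = n222154 := d10_1 D225362 (iv6 D222154) (iv4 F477576)
theorem F530186 : act 5 n225362 = n224865 := d12_1 D225362 (iv6 D224865) F459790 (iv6 F380645) D214944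
theorem F530187 : act 7 n225362 = n224911 := d14_2 F482983 D225362 (iv6 F527553) F480250 F482986
theorem F530188 : act 0 n225362 = n224904 := d21_4 F529994 F476524 D214944 D225362 F527514 (iv5 D214255) (iv1 F253656) D160584 D214678 (iv1 F529992)
theorem F530189 : act 0 n224908 = n225362 := d21_4 (iv5 D224001) F438951 D215348 (iv6 F527535) (iv6 D225362) (iv5 D214944) F433290 (iv5 F478461) (iv6 F496214) (iv1 F522465)
def n225363 : Q := act 4 n214948
theorem D225363 : act 4 n214948 = n225363 := rfl
theorem F530190 : act 3 n225363 = n219614 := d5_1 D225363 (iv4 F499687) F498234 (iv4 F434847) (iv3 F477590)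
theorem F530191 : act 5 n225363 = n219629 := d9_2 D214948 D225363 F499752 F516341 F516339 F479076 (iv4 F410629) D221436 (iv4 F523914) (iv5 D224253) (iv4 F508561) F508562 (iv4 F513418) (iv5 D222296) F410620
theorem F530192 : act 6 n225363 = n224070 := d10_2 F516021 D225363 F522852
theorem F530193 : act 1 n225363 = n222908 := d18_6 (iv1 D197459) (iv4 F171941) D199092 F410620 D214948 D225363 F516707 (iv0 F511135) (iv5 D221866)
def n225364 : Q := act 0 n214949
theorem D225364 : act 0 n214949 = n225364 := rfl
theorem F530194 : act 5 n225364 = n222919 := d17_1 D225364 F525743 F525739 F514600 (iv5 D216381) (iv0 F361182) (iv5 F408344) F495599 F495603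
theorem F530195 : act 4 n225364 = n215025 := d18_3 D218774 F495603 D225364 (iv5 D215025) (iv4 F477835) (iv0 F477840) F471117 (iv0 D190061) D190062
theorem F530196 : act 3 n225364 = n218910 := d20_5 F522247 (iv1 F522855) F522852 F516020 D225364 (iv4 D218910) F488548 (iv4 F495714) (iv3 F503081) F506597
theorem F530197 : act 6 n225364 = n218347 := d21_5 F476328 (iv1 F258466) D164011 D214949 D225364 (iv5 D218347) F375770 D191873 F384631 D214672
theorem F530198 : act 2 n219240 = n225364 := d15_3 (iv0 D225364) (iv0 F526202) F526200
theorem F530199 : act 7 n225364 = n219239 := d4_2 F526200 F530198 (iv2 F526197)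
def n225365 : Q := act 5 n214949
theorem D225365 : act 5 n214949 = n225365 := rfl
theorem F530200 : act 2 n225365 = n224155 := d2_1 D225365 F523344 F482987
theorem F530201 : act 3 n225365 = n220970 := d6_1 D225365 (iv5 F516019) F516020
theorem F530202 : act 6 n225365 = n214950 := d12_2 D214949 D225365 (iv5 D214950) (iv6 D164012) D164011
theorem F530203 : act 7 n225365 = n222738 := d13_2 F512733 D225365 (iv5 F515828)
theorem F530204 : act 4 n225365 = n224100 := d16_2 F495603 D225365 (iv5 D224100) F442025 D207967 (iv4 F447189) (iv5 F495606) F495605 F495601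
theorem F530205 : act 0 n225365 = n222898 := d17_2 F526202 D225365 F516652 F495797 (iv5 F421044) (iv0 F421046) (iv5 F496184) F496188 D224668
def n225366 : Q := act 5 n214954
theorem D225366 : act 5 n214954 = n225366 := rfl
theorem F530206 : act 2 n225366 = n221391 := d2_1 D225366 (iv5 D221391) (iv2 F477612)
theorem F530207 : act 3 n225366 = n222724 := d6_1 D225366 (iv5 D222724) (iv3 F477613)
theorem F530208 : act 4 n225366 = n223775 := d9_1 D225366 F521201 (iv4 F494450) F494207 (iv4 D194221) F380920 (iv4 F413933) (iv5 F514313) (iv4 F521208) F521207 F494443 F494206 (iv4 D194216) (iv5 F413684) D214954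
theorem F530209 : act 6 n225366 = n222082 := d12_2 (iv6 F477614) D225366 (iv5 D222082) (iv6 D198312) (iv5 F400142)
theorem F530210 : act 7 n225366 = n225299 := d13_2 (iv7 F477615) D225366 (iv5 D225299)
theorem F530211 : act 0 n225366 = n224898 := d17_2 F477616 D225366 F527481 (iv4 D214309) (iv5 F358420) D191254 (iv5 F477505) F529815 F529810
theorem F530212 : act 1 n225366 = n222067 := d17_6 (iv1 D158004) F112838 D102999 (iv5 F413684) D214954 D225366 (iv5 D222067) (iv0 F412237) F412234
def n225367 : Q := act 5 n214961
theorem D225367 : act 5 n214961 = n225367 := rfl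
theorem F530213 : act 2 n225367 = n220668 := d2_1 D225367 (iv5 D220668) (iv2 F477646)
theorem F530214 : act 3 n225367 = n217556 := d6_1 D225367 (iv5 F512706) (iv3 F512708)
theorem F530215 : act 7 n225367 = n217817 := d13_2 (iv7 F477648) D225367 F490776
theorem F530216 : act 0 n225367 = n217806 := d17_2 F482815 D225367 F490725 F481010 F408587 (iv0 F474549) (iv5 D199856) (iv0 F474548) (iv4 F482814)
theorem F530217 : act 1 n225367 = n221530 := d17_6 (iv1 D84300) D84302 D176831 F414784 D214961 D225367 F509452 F481014 (iv4 D176826)
theorem F530218 : act 4 n225367 = n225314 := d18_5 F365859 F256258 D164083 D214961 D225367 (iv0 F529890) (iv4 D215244) (iv0 F407176) F407175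
theorem F530219 : act 6 n225367 = n225313 := d21_3 F527580 F482815 D225367 F529884 (iv6 D224155) F442633 (iv1 F406364) (iv5 F407341) D222070 F527585
def n225368 : Q := act 6 n214978
theorem D225368 : act 6 n214978 = n225368 := rfl
theorem F530220 : act 2 n225368 = n218508 := d3_1 D225368 (iv6 F519944) F519943
theorem F530221 : act 3 n225368 = n218459 := d7_1 D225368 F493998 (iv3 F477730)
theorem F530222 : act 4 n225368 = n214979 := d10_1 D225368 (iv6 D214979) D214978
theorem F530223 : act 5 n225368 = n218639 := d12_1 D225368 (iv6 F494924) (iv5 D218641) (iv6 F477725) (iv5 F477731)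
theorem F530224 : act 7 n225368 = n218504 := d14_2 F480888 D225368 (iv6 D218504) (iv7 F483113) F483115
theorem F530225 : act 0 n225368 = n218506 := d21_4 F514702 F512830 (iv5 F477731) D225368 (iv6 F494209) F487038 (iv1 F494025) (iv5 D218465) D218466 (iv1 F514704)
theorem F530226 : act 0 n218505 = n225368 := d17_0 F530223 (iv1 F494917) D218642 F494927 (iv5 F497807) F497805 (iv5 F493696) F494445 F494443
def n225369 : Q := act 0 n215018
theorem D225369 : act 0 n215018 = n225369 := rfl
theorem F530227 : act 5 n225369 = n219034 := d17_1 D225369 F496805 (iv5 F523632) (iv4 D224206) (iv5 F462825) (iv0 F462826) (iv5 F477190) (iv0 F477192) (iv4 F477918)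
theorem F530228 : act 4 n225369 = n219270 := d18_1 D225369 (iv1 F498038) (iv4 F476441) (iv5 D214699) (iv4 F267335) F377830 D218668 F495064 F478444
theorem F530229 : act 6 n225369 = n224331 := d21_5 (iv5 D215008) (iv1 F259029) D164413 D215018 D225369 F524369 F474580 (iv5 F497195) (iv6 D219103) (iv1 F477865)
theorem F530230 : act 1 n221877 = n225369 := d15_0 (iv0 D225369) (iv7 F515023) F515019
theorem F530231 : act 7 n225369 = n220883 := d15_2 (iv0 F527844) F530230 (iv2 F527839)
theorem F530232 : act 3 n225300 = n225369 := d20_3 (iv4 F492911) F521144 (iv4 F529798) (iv1 F530230) (iv3 F512589) (iv4 F512591) D224563 F525653 F529344 (iv1 D225224)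
def n225370 : Q := act 4 n215028
theorem D225370 : act 4 n215028 = n225370 := rfl
theorem F530233 : act 2 n225370 = n219242 := d1_1 D225370 (iv4 D219242) (iv2 F477963)
theorem F530234 : act 3 n225370 = n218809 := d5_1 D225370 F495744 (iv3 D190279) (iv4 F259094) D215028
theorem F530235 : act 6 n225370 = n225331 := d10_2 F477968 D225370 F529995
theorem F530236 : act 7 n225370 = n218820 := d11_2 (iv7 F477965) D225370 F495797
theorem F530237 : act 5 n225370 = n225313 := d16_1 D225370 F529882 F475258 F446329 (iv5 F523427) F523426 (iv5 F497837) F497839 (iv2 F477963)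
theorem F530238 : act 0 n225370 = n222505 := d17_0 (iv5 F525739) F525742 (iv5 F526201) (iv4 D224668) (iv5 D210020) (iv0 F361971) D190964 (iv0 F477966) D225370
def n225371 : Q := act 0 n215035
theorem D225371 : act 0 n215035 = n225371 := rfl
theorem F530239 : act 5 n225371 = n219198 := d17_1 D225371 F497686 (iv5 D205688) (iv4 F332604) (iv5 F390803) (iv0 F390804) (iv5 F398469) (iv0 F398472) D215035
theorem F530240 : act 4 n225371 = n222936 := d18_3 (iv1 F398473) D215035 D225371 F516864 F422140 (iv0 F390443) D193720 (iv0 F470847) F470849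
theorem F530241 : act 6 n225371 = n222935 := d21_5 (iv5 F437442) D218670 (iv5 F514773) F514774 D225371 (iv5 F523174) (iv1 F523177) (iv5 D207913) (iv6 F437702) F437704
theorem F530242 : act 2 n221213 = n225371 := d15_3 (iv0 D225371) F489801 (iv7 F507771)
theorem F530243 : act 1 n215036 = n225371 := d15_0 (iv0 D225371) F478006 (iv2 F478007)
theorem F530244 : act 7 n225371 = n221214 := d15_2 (iv0 F489800) F530243 F507777
theorem F530245 : act 3 n219199 = n225371 := d20_3 (iv4 F514779) F514781 (iv4 F497689) (iv1 F530243) F478008 F409755 F203463 D205707 D223938 F522101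
def n225372 : Q := act 5 n215035
theorem D225372 : act 5 n215035 = n225372 := rfl
theorem F530246 : act 2 n225372 = n220306 := d2_1 D225372 F503115 (iv2 F478005)
theorem F530247 : act 3 n225372 = n224975 := d6_1 D225372 F527926 F524077
theorem F530248 : act 6 n225372 = n223825 := d12_2 F514774 D225372 (iv5 F522780) F522781 (iv5 F514773)
theorem F530249 : act 7 n225372 = n220307 := d13_2 (iv7 F478006) D225372 (iv5 F503118)
theorem F530250 : act 4 n225372 = n220706 := d16_2 D215035 D225372 (iv5 D220706) (iv4 D194301) (iv5 D103179) (iv4 F190344) D164472 F362427 (iv2 F366118)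
theorem F530251 : act 0 n225372 = n219176 := d17_2 (iv1 F489801) D225372 F497577 (iv4 F445796) F362726 F235295 D203922 (iv0 F430415) (iv4 F489799)
theorem F530252 : act 1 n225372 = n220301 := d17_6 F332611 (iv5 D78989) D78987 D164469 D215035 D225372 F503098 F430435 (iv4 F216447)
def n225373 : Q := act 5 n215036
theorem D225373 : act 5 n215036 = n225373 := rfl
theorem F530253 : act 2 n225373 = n220307 := d2_1 D225373 (iv5 F503118) (iv2 F478007)
theorem F530254 : act 3 n225373 = n222249 := d6_1 D225373 (iv5 D222249) (iv3 F478008)
theorem F530255 : act 4 n225373 = n223260 := d9_1 D225373 (iv5 D223260) (iv4 F453163) F453164 (iv4 D164468) D164469 D215035 D225372 F530250 (iv5 D220706) (iv4 D194301) (iv5 D103179) (iv4 F190344) D164472 D215036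
theorem F530256 : act 7 n225373 = n220306 := d13_2 (iv7 F478010) D225373 F503115
theorem F530257 : act 0 n225373 = n220301 := d17_2 (iv1 F530243) D225373 F503098 (iv4 D203926) (iv5 D121352) D121351 D203923 (iv0 F516866) (iv4 F530240)
theorem F530258 : act 1 n225373 = n219176 := d17_6 (iv1 F259204) F163131 (iv1 F120162) D164472 D215036 D225373 F497577 F445794 F437428
def n225374 : Q := act 5 n215037
theorem D225374 : act 5 n215037 = n225374 := rfl
theorem F530259 : act 2 n225374 = n224919 := d2_1 D225374 F527602 F522784
theorem F530260 : act 3 n225374 = n215038 := d6_1 D225374 (iv5 D215038) D215037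
theorem F530261 : act 4 n225374 = n221645 := d9_1 D225374 F510076 F473430 F451883 (iv4 F470820) F470821 (iv4 F515637) (iv5 F515640) (iv4 F521108) F521109 F482818 F420542 (iv4 F470829) F470830 (iv4 F478011)
theorem F530262 : act 6 n225374 = n221192 := d12_2 (iv6 F478012) D225374 (iv5 D221192) (iv6 D195622) (iv5 F397648)
theorem F530263 : act 7 n225374 = n224927 := d13_2 F522530 D225374 F527639
theorem F530264 : act 0 n225374 = n218704 := d17_2 F478013 D225374 (iv5 F515516) F515514 (iv5 F418110) F441179 (iv5 F441433) (iv0 D206584) (iv4 F441426)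
def n225375 : Q := act 0 n215048
theorem D225375 : act 0 n215048 = n225375 := rfl
theorem F530265 : act 5 n225375 = n221079 := d17_1 D225375 F510679 (iv5 F510678) F507522 (iv5 F464655) F513696 F513694 (iv0 F473657) (iv4 F478068)
theorem F530266 : act 4 n225375 = n219640 := d18_1 D225375 (iv1 F500937) (iv4 F507348) F507349 F404079 D207375 (iv4 F510783) F510780 F507369
theorem F530267 : act 3 n225375 = n219638 := d20_5 F389787 F339374 D164527 D215048 D225375 (iv4 D219638) F384740 D213533 (iv3 F476766) F476768
theorem F530268 : act 6 n225375 = n221082 := d21_5 (iv5 D220405) F390344 (iv5 F456490) (iv6 F478069) D225375 (iv5 D221082) D221080 (iv5 F507312) (iv6 F507315) (iv1 F503623)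
theorem F530269 : act 2 n225020 = n225375 := d15_3 (iv0 D225375) (iv0 F529326) F529324
theorem F530270 : act 1 n221122 = n225375 := d15_0 (iv0 D225375) (iv7 F503248) (iv2 F507332)
theorem F530271 : act 7 n225375 = n219855 := d15_2 F529327 F530270 (iv2 F529322)
def n225376 : Q := act 6 n215062
theorem D225376 : act 6 n215062 = n225376 := rfl
theorem F530272 : act 2 n225376 = n215065 := d3_1 D225376 (iv6 D215065) (iv2 F478145)
theorem F530273 : act 3 n225376 = n216918 := d7_1 D225376 (iv6 F530006) F530005
theorem F530274 : act 5 n225376 = n215950 := d12_1 D225376 (iv6 D215950) (iv5 F434436) F434437 D215062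
theorem F530275 : act 0 n219328 = n225376 := d21_4 (iv5 F488851) D219729 (iv5 F500301) F498312 (iv6 D225376) (iv5 D215062) (iv1 F373646) D218091 (iv6 F495994) (iv1 F495995)
def n225377 : Q := act 7 n215065
theorem D225377 : act 7 n215065 = n225377 := rfl
theorem F530276 : act 3 n225377 = n225296 := d8_1 D225377 (iv7 D225296) (iv3 F478153)
theorem F530277 : act 5 n225377 = n225303 := d13_1 D225377 F529817 (iv5 F481129)
theorem F530278 : act 6 n225377 = n218900 := d14_1 D225377 F496104 F492110 F373651 D215065
theorem F530279 : act 1 n219328 = n225377 := d15_1 (iv0 F530275) (iv7 D225377) (iv2 F530272)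
def n225378 : Q := act 6 n215076
theorem D225378 : act 6 n215076 = n225378 := rfl
theorem F530280 : act 2 n225378 = n216259 := d3_1 D225378 F483532 (iv2 F478210)
theorem F530281 : act 3 n225378 = n217147 := d7_1 D225378 F487662 (iv3 F478211)
theorem F530282 : act 4 n225378 = n215077 := d10_1 D225378 (iv6 D215077) D215076
theorem F530283 : act 5 n225378 = n216633 := d12_1 D225378 F485273 F428145 (iv6 F448412) (iv5 F478212)
theorem F530284 : act 7 n225378 = n220479 := d14_2 (iv7 F478213) D225378 (iv6 F527772) F527773 F468341
theorem F530285 : act 0 n225378 = n224783 := d21_4 F503822 (iv1 F462442) (iv5 F478212) D225378 F526846 (iv5 F485768) (iv1 D211568) D211569 (iv6 F518198) F518200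
theorem F530286 : act 0 n225089 = n225378 := d21_4 (iv5 D181939) (iv1 F340973) (iv5 F468489) D225089 (iv6 D225378) F478212 F448414 D211661 F462556 F385415
def n225379 : Q := act 6 n215095
theorem D225379 : act 6 n215095 = n225379 := rfl
theorem F530287 : act 3 n225379 = n220302 := d7_1 D225379 (iv6 F511156) F511155
theorem F530288 : act 4 n225379 = n215096 := d10_1 D225379 (iv6 D215096) D215095
theorem F530289 : act 0 n225379 = n224693 := d21_4 (iv5 F465711) (iv1 F468665) (iv5 F478315) D225379 F526351 (iv5 D224272) F446118 D209604 F454310 (iv1 F452436)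
theorem F530290 : act 0 n224462 = n225379 := d21_4 (iv5 D207879) D207878 D224296 (iv6 F525117) (iv6 D225379) F478315 (iv1 F507790) F507787 (iv6 F523572) F523575
def n225380 : Q := act 0 n215096
theorem D225380 : act 0 n215096 = n225380 := rfl
theorem F530291 : act 5 n225380 = n220585 := d17_1 D225380 (iv1 F504474) D222618 (iv4 F524144) (iv5 D224295) (iv0 F456648) D224693 (iv0 F530289) F530288
theorem F530292 : act 3 n225380 = n219263 := d20_5 (iv4 F502187) (iv1 F502189) F480082 (iv3 F478318) D225380 (iv4 F527498) (iv1 D224901) (iv4 F495835) (iv3 F495834) F390462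
theorem F530293 : act 6 n225380 = n218092 := d21_5 F369559 F340634 D166413 D215096 D225380 F492121 (iv1 D203817) D203818 F429959 F394847
theorem F530294 : act 2 n225348 = n225380 := d15_3 (iv0 D225380) (iv0 F496086) (iv7 F530092)
theorem F530295 : act 1 n225338 = n225380 := d15_0 (iv0 D225380) F503503 (iv2 F530032)
theorem F530296 : act 7 n225380 = n219261 := d15_2 (iv0 F530037) F530295 F497992
def n225381 : Q := act 5 n215103
theorem D225381 : act 5 n215103 = n225381 := rfl
theorem F530297 : act 2 n225381 = n222223 := d2_1 D225381 (iv5 D222223) (iv2 F478359)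
theorem F530298 : act 3 n225381 = n215225 := d6_1 D225381 (iv5 D215225) (iv3 F478363)
theorem F530299 : act 4 n225381 = n221654 := d9_1 D225381 (iv5 D221654) F402351 (iv5 F171481) (iv4 F358220) (iv5 D113463) (iv4 F176642) D200780 (iv4 F510116) (iv5 D221653) F402347 (iv5 F402839) F402838 (iv5 F373515) D215103
theorem F530300 : act 6 n225381 = n220721 := d12_2 (iv6 F478360) D225381 (iv5 D220721) F464527 F464524
theorem F530301 : act 7 n225381 = n222700 := d13_2 (iv7 F478361) D225381 (iv5 D222700)
theorem F530302 : act 0 n225381 = n222703 := d17_2 (iv1 F478362) D225381 F515654 (iv4 F511605) F511606 (iv0 D218974) (iv5 F478433) F478434 F445396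
theorem F530303 : act 1 n225381 = n222702 := d17_6 (iv1 F373469) (iv5 F367036) (iv1 F373520) (iv5 F373515) D215103 D225381 F515651 (iv0 F480965) F392616
def n225382 : Q := act 3 n215125
theorem D225382 : act 3 n215125 = n225382 := rfl
theorem F530304 : act 2 n225382 = n224932 := d0_1 D225382 F527659 F495224 F476586 F478483
theorem F530305 : act 4 n225382 = n221417 := d5_2 F478484 D225382 F508919 F493510 F479453
theorem F530306 : act 5 n225382 = n217142 := d6_2 (iv5 F478482) D225382 F487638
theorem F530307 : act 7 n225382 = n217141 := d8_2 (iv7 F478481) D225382 F487634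
theorem F530308 : act 0 n225382 = n218934 := d20_4 (iv4 F478475) (iv1 F478478) F478484 D225382 F496261 (iv4 F497334) (iv1 F497336) F475763 (iv3 F381539) (iv1 F381552)
theorem F530309 : act 0 n218937 = n225382 := d20_4 (iv4 F414158) F414159 (iv4 F495946) (iv3 F496276) (iv3 D225382) (iv4 F478484) (iv1 D214703) (iv4 F254050) (iv3 F365914) D198722
def n225383 : Q := act 6 n215125
theorem D225383 : act 6 n215125 = n225383 := rfl
theorem F530310 : act 2 n225383 = n225342 := d3_1 D225383 (iv6 D225342) F478483
theorem F530311 : act 4 n225383 = n215334 := d10_1 D225383 F479450 F478484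
theorem F530312 : act 7 n225383 = n215490 := d14_2 (iv7 F478481) D225383 F487312 (iv7 D217080) (iv6 F476582)
def n225384 : Q := act 3 n215129
theorem D225384 : act 3 n215129 = n225384 := rfl
theorem F530313 : act 2 n225384 = n225369 := d0_1 D225384 (iv3 F530232) F529797 F521157 F478506
theorem F530314 : act 4 n225384 = n218915 := d5_2 (iv4 F478504) D225384 (iv3 F496181) (iv4 D214645) (iv3 F476195)
theorem F530315 : act 5 n225384 = n215645 := d6_2 (iv5 F478503) D225384 (iv3 D215645)
theorem F530316 : act 7 n225384 = n224961 := d8_2 F478507 D225384 F527840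
theorem F530317 : act 0 n225384 = n222583 := d20_10 F515021 (iv1 F523619) F523622 F476668 (iv1 D214756) (iv3 F381874) (iv4 F441642) (iv1 F476198) (iv4 F478504) D225384
theorem F530318 : act 0 n218916 = n225384 := d20_4 D218093 (iv1 F524023) F524019 F512940 (iv3 D225384) F478504 (iv1 F511723) F511720 F496208 (iv1 D218092)
def n225385 : Q := act 3 n215130
theorem D225385 : act 3 n215130 = n225385 := rfl
theorem F530319 : act 2 n225385 = n225343 := d0_1 D225385 (iv3 F530064) (iv2 F527839) F527840 F478512
theorem F530320 : act 4 n225385 = n222378 := d5_2 (iv4 F478511) D225385 (iv3 D222378) (iv4 D199421) (iv3 F412094)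
theorem F530321 : act 5 n225385 = n215646 := d6_2 (iv5 F478510) D225385 (iv3 D215646)
theorem F530322 : act 6 n225385 = n219165 := d7_2 F478513 D225385 (iv3 D219165)
theorem F530323 : act 7 n225385 = n223767 := d8_2 (iv7 F478509) D225385 F521157
theorem F530324 : act 0 n225385 = n225293 := d19_4 (iv1 D199415) D199416 (iv4 F478511) D225385 (iv5 D225293) (iv4 D214258) (iv3 F439847) F520008 (iv5 F522602) F522601 (iv3 F490835) F490838 F489683 (iv4 F465254) D215257 (iv1 F484041) F484040 F479036 (iv3 F412076)
theorem F530325 : act 0 n215133 = n225385 := d20_4 (iv4 F519928) F519931 (iv4 D215134) (iv3 F478529) (iv3 D225385) F478511 (iv1 F441643) F441642 F381874 D214755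
def n225386 : Q := act 3 n215139
theorem D225386 : act 3 n215139 = n225386 := rfl
theorem F530326 : act 2 n225386 = n222183 := d0_1 D225386 F512774 (iv2 F495892) F488998 (iv2 F488991)
theorem F530327 : act 5 n225386 = n218868 := d6_2 F478552 D225386 (iv3 D218868)
theorem F530328 : act 6 n225386 = n220922 := d7_2 (iv6 F478553) D225386 (iv3 D220922)
theorem F530329 : act 7 n225386 = n215696 := d8_2 F489000 D225386 (iv3 F489003)
theorem F530330 : act 0 n225386 = n222184 := d20_4 F369909 D194650 (iv4 F478551) D225386 F512776 (iv4 D207641) (iv1 F437943) D223968 F522266 F489024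
theorem F530331 : act 4 n225386 = n220292 := d20_6 (iv4 D191035) (iv1 F369886) (iv4 F488669) F488668 (iv1 F478550) D225386 (iv1 D220292) D220293 F503064 F394341
theorem F530332 : act 0 n215505 = n225386 := d20_4 (iv4 D198481) D198479 D222141 (iv3 F512566) (iv3 D225386) F478551 (iv1 F394972) (iv4 F477469) F477468 F451276
def n225387 : Q := act 6 n215142
theorem D225387 : act 6 n215142 = n225387 := rfl
theorem F530333 : act 2 n225387 = n220693 := d3_1 D225387 (iv6 F514588) F514586
theorem F530334 : act 3 n225387 = n221655 := d7_1 D225387 F510127 F478556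
theorem F530335 : act 4 n225387 = n215144 := d10_1 D225387 (iv6 D215144) D215142
theorem F530336 : act 5 n225387 = n215297 := d12_1 D225387 (iv6 D215297) F413687 (iv6 F414081) (iv5 F478558)
theorem F530337 : act 0 n225387 = n225337 := d21_4 (iv5 D174663) D174660 (iv5 F478558) D225387 (iv6 D225337) F476434 (iv1 F485774) (iv5 F485775) (iv6 F480209) (iv1 D215489)
def n225388 : Q := act 4 n215147
theorem D225388 : act 4 n215147 = n225388 := rfl
theorem F530338 : act 2 n225388 = n221515 := d1_1 D225388 (iv4 F530074) F530072
theorem F530339 : act 5 n225388 = n221446 := d9_2 D215147 D225388 F509046 F502752 (iv4 D215486) (iv5 F478558) (iv4 D215142) D215143 (iv4 F529703) (iv5 D225283) F473847 (iv5 D210908) F223460 D210019 F463198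
theorem F530340 : act 7 n225388 = n221512 := d11_2 F488794 D225388 F509381
theorem F530341 : act 0 n225388 = n215456 := d17_0 (iv5 D215456) D215452 F480062 F480292 (iv5 F488786) (iv0 D217411) (iv5 F378954) (iv0 F478560) D225388
theorem F530342 : act 1 n225388 = n221573 := d18_8 F480068 (iv4 F497111) (iv1 F497112) (iv4 F528516) F528517 F495798 (iv0 F478560) D225388 (iv5 D221573)
def n225389 : Q := act 3 n215156
theorem D225389 : act 3 n215156 = n225389 := rfl
theorem F530343 : act 4 n225389 = n218660 := d5_2 (iv4 F478608) D225389 F495017 F454992 F469203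
theorem F530344 : act 5 n225389 = n225068 := d6_2 (iv5 F478609) D225389 (iv3 D225068)
theorem F530345 : act 6 n225389 = n222464 := d7_2 (iv6 F478611) D225389 F514349
theorem F530346 : act 7 n225389 = n224099 := d8_2 (iv7 F478612) D225389 F523018
theorem F530347 : act 0 n225389 = n224107 := d19_4 (iv1 F444773) (iv5 F469202) (iv4 F478608) D225389 (iv5 F523580) F523579 (iv3 D222598) (iv1 D200315) (iv5 D112978) F82436 (iv3 F79310) F165261 F363265 (iv4 F363262) (iv3 D163672) (iv1 D78635) D78636 (iv4 F346989) F346988
def n225390 : Q := act 6 n215157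
theorem D225390 : act 6 n215157 = n225390 := rfl
theorem F530348 : act 3 n225390 = n224163 := d7_1 D225390 (iv6 D224163) (iv3 F478614)
theorem F530349 : act 7 n225390 = n224463 := d14_2 F523573 D225390 (iv6 D224463) (iv7 F468979) (iv6 F523572)
def n225391 : Q := act 3 n215161
theorem D225391 : act 3 n215161 = n225391 := rfl
theorem F530350 : act 2 n225391 = n223620 := d0_1 D225391 F520375 (iv2 F485701) F485702 (iv2 F478634)
theorem F530351 : act 5 n225391 = n220657 := d6_2 F481599 D225391 F504829
theorem F530352 : act 6 n225391 = n222913 := d7_2 F478633 D225391 F516740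
theorem F530353 : act 7 n225391 = n223560 := d8_2 F478637 D225391 (iv3 D223560)
theorem F530354 : act 4 n225391 = n223745 := d20_6 (iv4 D204115) (iv1 D122689) D122690 (iv3 F430822) (iv1 F478632) D225391 F521024 (iv4 F528575) F528574 F483128
theorem F530355 : act 1 n223546 = n225391 := d17_8 F521024 F483155 (iv1 F460559) F458442 (iv4 F488389) (iv5 F526743) F526745 (iv5 F520038) F530354
theorem F530356 : act 0 n223621 = n225391 := d18_0 F530354 F521024 (iv4 F528575) F528576 F480552 F458268 F481746 (iv0 F498462) (iv5 F520377)
def n225392 : Q := act 4 n215161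
theorem D225392 : act 4 n215161 = n225392 := rfl
theorem F530357 : act 2 n225392 = n223562 := d1_1 D225392 (iv4 D223562) (iv2 F478634)
theorem F530358 : act 3 n225392 = n223747 := d5_1 D225392 (iv4 D223747) (iv3 F521022) (iv4 F530354) (iv3 D225391)
theorem F530359 : act 5 n225392 = n223575 := d9_2 F481599 D225392 F520163 (iv5 F513772) (iv4 F526073) F526074 (iv4 F485148) F481605 F478629 F478900 F478898 (iv5 F366924) (iv4 F433679) (iv5 F485144) F485147
theorem F530360 : act 6 n225392 = n223627 := d10_2 F478633 D225392 (iv4 D223627)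
theorem F530361 : act 7 n225392 = n223561 := d11_2 F478637 D225392 (iv4 D223561)
theorem F530362 : act 0 n225392 = n216040 := d17_0 F526723 F526722 (iv5 F527447) F527446 (iv5 D215838) (iv0 D177980) (iv5 F263584) D215161 D225392
theorem F530363 : act 1 n225392 = n217254 := d18_6 (iv1 D185073) (iv4 F287432) D216603 F485147 F481599 D225392 F488131 (iv0 F485304) (iv5 D216640)
def n225393 : Q := act 5 n215192
theorem D225393 : act 5 n215192 = n225393 := rfl
theorem F530364 : act 2 n225393 = n223557 := d2_1 D225393 F520094 (iv2 F478822)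
theorem F530365 : act 3 n225393 = n223558 := d6_1 D225393 (iv5 F520124) F520122
theorem F530366 : act 6 n225393 = n223557 := d12_2 D215192 D225393 F520094 F432834 (iv5 F268105)
def n225394 : Q := act 7 n215192
theorem D225394 : act 7 n215192 = n225394 := rfl
theorem F530367 : act 2 n225394 = n223706 := d4_1 D225394 (iv7 D223706) (iv2 F478822)
theorem F530368 : act 4 n225394 = n215194 := d11_1 D225394 (iv7 D215194) (iv4 F478823)
theorem F530369 : act 1 n223705 = n225394 := d15_1 D223705 (iv7 D225394) F478822
theorem F530370 : act 1 n225394 = n223553 := d15_1 F530369 (iv7 F520175) F520824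
def n225395 : Q := act 6 n215195
theorem D225395 : act 6 n215195 = n225395 := rfl
theorem F530371 : act 2 n225395 = n215196 := d3_1 D225395 (iv6 D215196) D215195
theorem F530372 : act 3 n225395 = n223323 := d7_1 D225395 (iv6 F518853) (iv3 F478834)
theorem F530373 : act 4 n225395 = n217947 := d10_1 D225395 F491379 (iv4 F478835)
theorem F530374 : act 5 n225395 = n217092 := d12_1 D225395 (iv6 D217092) (iv5 D186763) D186764 (iv5 F478836)
theorem F530375 : act 0 n225395 = n217994 := d21_4 (iv5 D193444) F367929 (iv5 F478836) D225395 F491592 F487488 F369000 F368413 F368415 (iv1 F389850)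
theorem F530376 : act 0 n217997 = n225395 := d21_4 (iv5 D214125) D214123 (iv5 F498835) (iv6 F498838) (iv6 D225395) F478836 (iv1 F367930) (iv5 F368401) D217151 F487682
def n225396 : Q := act 1 n215196
theorem D225396 : act 1 n215196 = n225396 := rfl
theorem F530377 : act 7 n225396 = n217994 := d15_2 F503201 D225396 (iv2 F503198)
theorem F530378 : act 5 n225396 = n224414 := d17_7 (iv1 F491082) (iv5 F491083) (iv1 F503902) F503899 F500020 F478922 D225396 F524826 (iv4 D220490)
theorem F530379 : act 4 n225396 = n217224 := d17_9 (iv1 F503193) F503195 (iv1 F491757) F375738 (iv4 F491415) (iv5 F491418) (iv0 F484727) F478922 D225396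
theorem F530380 : act 6 n217223 = n225396 := d21_3 (iv5 D225279) (iv1 F473594) F488009 (iv1 D225396) (iv6 D215196) (iv5 F355382) (iv1 F389858) F389855 D219393 (iv1 F529678)
theorem F530381 : act 2 n225396 = n217997 := d3_1 F530380 F498838 F498834
theorem F530382 : act 3 n225396 = n220323 := d7_1 F530380 (iv6 F503196) (iv3 F488008)
def n225397 : Q := act 7 n215196
theorem D225397 : act 7 n215196 = n225397 := rfl
theorem F530383 : act 3 n225397 = n215199 := d8_1 D225397 (iv7 D215199) (iv3 F478840)
theorem F530384 : act 4 n225397 = n217946 := d11_1 D225397 F491375 (iv4 F482611)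
theorem F530385 : act 5 n225397 = n220179 := d13_1 D225397 F502500 F478922
theorem F530386 : act 6 n225397 = n223698 := d14_1 D225397 (iv7 D223698) F432809 (iv7 F268111) D215196
theorem F530387 : act 1 n217997 = n225397 := d15_1 (iv0 F530376) (iv7 D225397) (iv2 F530371)
theorem F530388 : act 1 n225397 = n217994 := d15_1 F530387 (iv7 F530377) F530381
def n225398 : Q := act 0 n215197
theorem D225398 : act 0 n215197 = n225398 := rfl
theorem F530389 : act 4 n225398 = n215991 := d18_3 (iv1 D215198) (iv4 F478841) D225398 F482457 (iv4 F457225) (iv0 D210367) F221646 D208749 (iv5 F478844)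
theorem F530390 : act 6 n225398 = n219442 := d21_5 F383252 (iv1 F430861) F430858 D215197 D225398 (iv5 D219442) (iv1 F430817) F430815 F198266 (iv1 F383250)
theorem F530391 : act 2 n216029 = n225398 := d15_3 (iv0 D225398) (iv0 F529672) F529671
theorem F530392 : act 7 n225398 = n216031 := d4_2 F529671 F530391 (iv2 F529668)
def n225399 : Q := act 5 n215197
theorem D225399 : act 5 n215197 = n225399 := rfl
theorem F530393 : act 2 n225399 = n225156 := d2_1 D225399 F528961 F519863
theorem F530394 : act 6 n225399 = n225156 := d12_2 D215197 D225399 F528961 F519864 F430858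
theorem F530395 : act 4 n225399 = n225152 := d16_2 (iv4 F478841) D225399 F528940 F505729 F505727 (iv4 F484749) (iv5 F519869) (iv7 D223519) F429755
theorem F530396 : act 7 n225158 = n225399 := d11_0 F530395 (iv7 F528945) D225158
def n225400 : Q := act 7 n215197
theorem D225400 : act 7 n215197 = n225400 := rfl
theorem F530397 : act 3 n225400 = n225398 := d8_1 D225400 F530392 F482612
theorem F530398 : act 4 n225400 = n215199 := d11_1 D225400 (iv7 D215199) (iv4 F478841)
theorem F530399 : act 5 n225400 = n225158 := d13_1 D225400 F530396 (iv5 D225399)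
theorem F530400 : act 6 n225400 = n223706 := d14_1 D225400 (iv7 D223706) F432834 (iv7 F268112) D215197
theorem F530401 : act 1 n216031 = n225400 := d15_1 F519866 (iv7 D225400) (iv2 F519863)
theorem F530402 : act 1 n225400 = n216029 := d15_1 F530401 (iv7 F529671) F529668
def n225401 : Q := act 5 n215203
theorem D225401 : act 5 n215203 = n225401 := rfl
theorem F530403 : act 2 n225401 = n215204 := d2_1 D225401 (iv5 D215204) D215203
theorem F530404 : act 3 n225401 = n223569 := d6_1 D225401 (iv5 F520227) F520226
theorem F530405 : act 4 n225401 = n224873 := d9_1 D225401 (iv5 D224873) F460066 F342482 (iv4 F364134) F364135 (iv4 F430862) F430863 D223573 F520157 F509724 (iv5 F401622) (iv4 F424368) F432832 (iv4 F478861)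
theorem F530406 : act 7 n225401 = n223572 := d13_2 F520180 D225401 (iv5 F520178)
theorem F530407 : act 0 n225401 = n223571 := d17_2 F520084 D225401 F520154 F520144 F458366 F224258 (iv5 F433119) F498886 (iv4 F520082)
theorem F530408 : act 1 n225401 = n223570 := d17_6 (iv1 D210594) (iv5 D139422) D139420 F432832 (iv4 F478861) D225401 F520151 (iv0 F460681) (iv4 F469859)
theorem F530409 : act 6 n223629 = n225401 := d21_3 F482632 F498880 (iv5 F520419) F530407 F520155 (iv5 D215204) F478857 (iv5 F510928) (iv6 F521038) F521041
def n225402 : Q := act 6 n215203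
theorem D225402 : act 6 n215203 = n225402 := rfl
theorem F530410 : act 2 n225402 = n215205 := d3_1 D225402 (iv6 D215205) D215203
theorem F530411 : act 4 n225402 = n223704 := d10_1 D225402 (iv6 D223704) (iv4 F478861)
theorem F530412 : act 0 n223580 = n225402 := d21_4 (iv5 F520134) F520135 (iv5 F520109) (iv6 F520184) (iv6 D225402) D225401 F530407 F520154 (iv6 F527448) F527450
def n225403 : Q := act 4 n215204
theorem D225403 : act 4 n215204 = n225403 := rfl
theorem F530413 : act 2 n225403 = n224873 := d1_1 D225403 (iv4 F530405) F530403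
theorem F530414 : act 3 n225403 = n219822 := d5_1 D225403 F500752 (iv3 D203733) (iv4 F268122) (iv3 F478863)
theorem F530415 : act 6 n225403 = n224877 := d10_2 F520155 D225403 F527362
theorem F530416 : act 7 n225403 = n223573 := d11_2 (iv7 F478864) D225403 (iv4 D223573)
theorem F530417 : act 5 n225403 = n223829 := d16_1 D225403 (iv4 D223829) F435002 (iv4 F424355) (iv5 F478824) (iv4 F520177) F520178 (iv7 F530406) F530403
def n225404 : Q := act 1 n215212
theorem D225404 : act 1 n215212 = n225404 := rfl
theorem F530418 : act 1 n225404 = n223575 := d15_1 D225404 (iv7 D223575) (iv2 F478896)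
theorem F530419 : act 7 n225404 = n223564 := d15_2 (iv0 F529650) D225404 (iv2 F529645)
theorem F530420 : act 4 n225404 = n223505 := d17_9 (iv1 D223505) F429545 D204792 F488326 (iv4 F520412) F520413 (iv0 F488133) F478900 D225404
theorem F530421 : act 3 n225394 = n225404 := d19_19 (iv1 D225404) (iv5 F478900) (iv4 F478629) (iv3 F478630) (iv1 F519203) F519200 F484472 F469276 F456295 (iv5 D210131) (iv4 F409156) F409154 (iv1 F240174) D153689 (iv4 F394059) F394058 (iv1 F431513) (iv5 F478831) (iv4 F530368)
theorem F530422 : act 2 n225404 = n223566 := d0_1 F530421 F520133 (iv2 F498893) (iv3 F520826) (iv2 F530367)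
def n225405 : Q := act 1 n215223
theorem D225405 : act 1 n215223 = n225405 := rfl
theorem F530423 : act 1 n225405 = n215476 := d15_1 D225405 (iv7 D215476) (iv2 F478948)
theorem F530424 : act 7 n225405 = n215474 := d15_2 F509921 D225405 (iv2 F498104)
theorem F530425 : act 4 n225405 = n225022 := d17_9 (iv1 D225022) (iv5 D212192) F464236 (iv5 F497939) (iv4 F530082) (iv5 D225346) F476650 (iv5 F478949) D225405
theorem F530426 : act 3 n222098 = n225405 := d19_19 (iv1 D225405) F478949 (iv4 F353319) F273500 (iv1 F136142) (iv5 D88752) (iv4 D41438) (iv3 F60915) F118848 D79862 (iv4 F312838) (iv3 F444863) F444867 (iv5 F472268) F472271 F461682 (iv1 D198373) D198374 D222098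
theorem F530427 : act 6 n222103 = n225405 := d21_3 F520293 F494416 (iv5 F512381) (iv1 D225405) (iv6 D215223) (iv5 D170744) (iv1 F298306) (iv5 F273509) D215483 (iv1 F520294)
theorem F530428 : act 2 n225405 = n215475 := d3_1 F530427 (iv6 F529722) F529719
def n225406 : Q := act 4 n215227
theorem D225406 : act 4 n215227 = n225406 := rfl
theorem F530429 : act 2 n225406 = n221995 := d1_1 D225406 F511809 (iv2 F480176)
theorem F530430 : act 3 n225406 = n218347 := d5_1 D225406 F493436 F489325 F477954 (iv3 F478959)
theorem F530431 : act 6 n225406 = n218910 := d10_2 F478962 D225406 (iv4 D218910)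
theorem F530432 : act 7 n225406 = n221996 := d11_2 (iv7 F480172) D225406 F511812
theorem F530433 : act 5 n225406 = n218346 := d16_1 D225406 F493432 F375771 (iv4 F383098) (iv5 F410297) F410296 (iv5 F478964) (iv7 F480174) (iv2 F480176)
theorem F530434 : act 0 n225406 = n215435 := d17_0 (iv5 F479983) F449320 D218241 F492911 (iv5 D213836) (iv0 F433803) (iv5 F434046) F478961 D225406
theorem F530435 : act 1 n225406 = n221997 := d18_6 F482794 (iv4 F477231) F495209 F495208 (iv5 F478960) D225406 F511817 F487710 (iv5 F482792)
def n225407 : Q := act 4 n215228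
theorem D225407 : act 4 n215228 = n225407 := rfl
theorem F530436 : act 2 n225407 = n221996 := d1_1 D225407 F511812 (iv2 F480171)
theorem F530437 : act 5 n225407 = n218257 := d9_2 (iv5 F478964) D225407 F492993 (iv5 F479091) (iv4 F511246) F511247 F495208 (iv5 F478960) D225406 F530433 F493432 F375771 (iv4 F383098) (iv5 F410297) F410296
theorem F530438 : act 6 n225407 = n222085 := d10_2 (iv6 F503874) D225407 F512278
theorem F530439 : act 7 n225407 = n221995 := d11_2 F480174 D225407 F511809
theorem F530440 : act 0 n225407 = n221997 := d17_0 F511818 (iv1 D218180) D218181 F492562 (iv5 D215225) (iv0 D170745) D170748 D215228 D225407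
theorem F530441 : act 1 n225407 = n215435 := d18_6 F477225 (iv4 F490780) F490779 F410296 (iv5 F478964) D225407 F479982 (iv0 F368453) F368452
def n225408 : Q := act 5 n215244
theorem D225408 : act 5 n215244 = n225408 := rfl
theorem F530442 : act 6 n225408 = n222148 := d12_2 F479022 D225408 F512597 (iv6 F456903) (iv5 F475145)
theorem F530443 : act 4 n225408 = n222149 := d16_2 D215244 D225408 F512601 (iv4 D218636) F377546 (iv4 F406782) (iv5 F502543) F502544 F479017
theorem F530444 : act 0 n225408 = n223962 := d17_2 F490053 D225408 F522240 F512143 (iv5 D215664) D215663 (iv5 F509452) (iv0 F526414) F526410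
def n225409 : Q := act 5 n215262
theorem D225409 : act 5 n215262 = n225409 := rfl
theorem F530445 : act 4 n225409 = n224971 := d16_2 D215262 D225409 (iv5 D224971) F463044 F289213 (iv4 F476812) (iv5 F512136) F512140 (iv2 D215261)
def n225410 : Q := act 5 n215265
theorem D225410 : act 5 n215265 = n225410 := rfl
theorem F530446 : act 3 n225410 = n223667 := d6_1 D225410 F520628 (iv3 F479110)
theorem F530447 : act 6 n225410 = n221981 := d12_2 F479112 D225410 F511748 F432393 D204414
theorem F530448 : act 7 n225410 = n223667 := d13_2 (iv7 F479111) D225410 F520628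
theorem F530449 : act 4 n225410 = n219294 := d16_2 D215265 D225410 F498162 F476723 (iv5 D214765) (iv4 F476711) F476712 (iv7 F479106) (iv2 D215264)
theorem F530450 : act 0 n225410 = n224035 := d17_2 F506033 D225410 (iv5 D224035) F470491 F470488 (iv0 D205193) D205194 (iv0 F435364) (iv4 F506030)
theorem F530451 : act 1 n225410 = n224036 := d17_6 F505545 F505543 F410619 (iv5 F268484) D215265 D225410 (iv5 D224036) (iv0 F497586) F497582
def n225411 : Q := act 0 n215270
theorem D225411 : act 0 n215270 = n225411 := rfl
theorem F530452 : act 5 n225411 = n221823 := d17_1 D225411 F510945 D221844 F511016 F430875 F389093 (iv5 F429589) (iv0 F429591) D215270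
theorem F530453 : act 4 n225411 = n219811 := d18_1 D225411 F500731 (iv4 F500758) (iv5 F507065) F507061 (iv0 F433140) D215882 (iv0 F507038) F507037
theorem F530454 : act 6 n225411 = n224833 := d21_5 (iv5 D224812) F458827 (iv5 F485182) F485180 D225411 (iv5 D224833) D224831 F527095 (iv6 F510797) (iv1 F527011)
theorem F530455 : act 1 n221789 = n225411 := d15_0 (iv0 D225411) (iv7 F519770) F519768
theorem F530456 : act 3 n221824 = n225411 := d7_3 F530454 F527108 (iv6 F510946)
theorem F530457 : act 7 n225411 = n219820 := d8_2 F526114 F530456 (iv3 F526113)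
theorem F530458 : act 2 n225411 = n219818 := d15_3 F500747 (iv0 F500750) (iv7 F530457)
def n225412 : Q := act 1 n215270
theorem D225412 : act 1 n215270 = n225412 := rfl
theorem F530459 : act 1 n225412 = n221789 := d15_1 D225412 F510819 F484942
theorem F530460 : act 7 n225412 = n219818 := d15_2 (iv0 D225411) D225412 (iv2 F530458)
theorem F530461 : act 5 n225412 = n221843 := d17_7 F511008 F474260 F474258 (iv5 F459769) (iv4 F507036) F507037 D225412 (iv0 D221843) (iv4 F511005)
theorem F530462 : act 4 n225412 = n219812 := d18_7 (iv1 F386352) (iv4 F386354) (iv1 F353881) F236443 D171090 D215270 D225412 F500732 F386375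
theorem F530463 : act 3 n221792 = n225412 := d19_19 (iv1 D225412) (iv5 F507037) F507036 (iv3 D211018) (iv1 D140531) (iv5 F336692) F173024 (iv3 D108890) F81267 D65908 D140419 (iv3 F452209) D224464 F525120 F485149 (iv3 F364071) (iv1 F364076) D216669 (iv4 F510827)
theorem F530464 : act 6 n225412 = n221790 := d7_2 D221792 F530463 (iv3 D221790)
theorem F530465 : act 2 n219820 = n225412 := d1_3 F530462 (iv2 F500735) D219820
def n225413 : Q := act 3 n215279
theorem D225413 : act 3 n215279 = n225413 := rfl
theorem F530466 : act 5 n225413 = n223675 := d6_2 (iv5 F479187) D225413 (iv3 D223675)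
theorem F530467 : act 0 n225413 = n223592 := d19_4 F335654 D171173 D215279 D225413 F520230 F520079 F430796 D216871 (iv5 F499920) (iv4 F502491) (iv3 F511628) F511631 (iv5 F495730) (iv4 D218806) (iv3 F381674) (iv1 F381678) (iv5 D183221) (iv4 F151220) F151219
def n225414 : Q := act 6 n215279
theorem D225414 : act 6 n215279 = n225414 := rfl
theorem F530468 : act 2 n225414 = n217255 := d3_1 D225414 (iv6 D217255) (iv2 F479186)
theorem F530469 : act 4 n225414 = n215280 := d10_1 D225414 (iv6 D215280) D215279
theorem F530470 : act 5 n225414 = n225277 := d12_1 D225414 (iv6 D225277) F473542 F445296 (iv5 F479187)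
theorem F530471 : act 7 n225414 = n225402 := d14_2 F483359 D225414 (iv6 D225402) (iv7 F520180) F520179
theorem F530472 : act 0 n225414 = n224760 := d21_4 D191483 (iv1 F432535) (iv5 F479187) D225414 F526721 F478900 F529650 F529647 (iv6 F483405) F290096
theorem F530473 : act 0 n223628 = n225414 := d21_4 (iv5 F431177) (iv1 F488125) F488123 (iv6 F520414) (iv6 D225414) F479187 (iv1 D204438) (iv5 F430815) (iv6 F498676) F498678
def n225415 : Q := act 5 n215281
theorem D225415 : act 5 n215281 = n225415 := rfl
theorem F530474 : act 2 n225415 = n215803 := d2_1 D225415 (iv5 D215803) (iv2 F479192)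
theorem F530475 : act 4 n225415 = n220218 := d9_1 D225415 (iv5 D220218) (iv4 D193150) F343854 F343856 F335649 D215765 (iv5 F528743) F528742 (iv5 D220275) (iv4 D193278) F356436 F268920 D171183 D215281
theorem F530476 : act 6 n225415 = n225235 := d12_2 F504076 D225415 (iv5 D225235) (iv6 F472738) (iv5 F504078)
theorem F530477 : act 7 n225415 = n215801 := d13_2 (iv7 F479193) D225415 (iv5 D215801)
theorem F530478 : act 0 n225415 = n216649 := d17_2 (iv1 F479195) D225415 (iv5 D216649) (iv4 D185123) (iv5 F295453) F356401 (iv5 D185215) (iv0 F336766) D193827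
theorem F530479 : act 1 n225415 = n216647 := d17_6 (iv1 F277443) (iv5 F277451) (iv1 D171182) D171183 D215281 D225415 (iv5 D216647) F290125 (iv4 D177882)
def n225416 : Q := act 5 n215296
theorem D225416 : act 5 n215296 = n225416 := rfl
theorem F530480 : act 2 n225416 = n218506 := d2_1 D225416 F494207 (iv2 F479267)
theorem F530481 : act 3 n225416 = n222709 := d6_1 D225416 F515683 F494135
theorem F530482 : act 6 n225416 = n218449 := d12_2 F494233 D225416 (iv5 F515153) F515151 (iv5 F494232)
theorem F530483 : act 7 n225416 = n218505 := d13_2 (iv7 F479268) D225416 F494206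
theorem F530484 : act 4 n225416 = n218399 := d16_2 D215296 D225416 (iv5 F520334) F520335 (iv5 D221391) F400147 (iv5 F365634) F413679 (iv2 F413686)
theorem F530485 : act 0 n225416 = n218504 := d17_2 (iv1 F494201) D225416 (iv5 F515698) F515697 (iv5 F474726) (iv0 F474729) F474541 (iv0 F382737) (iv4 F494198)
theorem F530486 : act 1 n225416 = n218508 := d17_6 (iv1 D188511) F142018 D158031 (iv5 F413687) D215296 D225416 (iv5 F494272) F494275 (iv4 D218105)
def n225417 : Q := act 7 n215297
theorem D225417 : act 7 n215297 = n225417 := rfl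
theorem F530487 : act 2 n225417 = n216925 := d4_1 D225417 F486556 (iv2 F479269)
theorem F530488 : act 3 n225417 = n218722 := d8_1 D225417 (iv7 F496488) F496491
theorem F530489 : act 4 n225417 = n218123 := d11_1 D225417 (iv7 F494234) F494231
theorem F530490 : act 6 n225417 = n217185 := d14_1 D225417 F487839 (iv6 D194218) (iv7 F413688) D215297
theorem F530491 : act 1 n218539 = n225417 := d15_1 (iv0 F494366) (iv7 D225417) F479269
theorem F530492 : act 1 n225417 = n215704 := d15_1 F530491 (iv7 F486538) (iv2 F494363)
def n225418 : Q := act 5 n215298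
theorem D225418 : act 5 n215298 = n225418 := rfl
theorem F530493 : act 2 n225418 = n218505 := d2_1 D225418 F494206 (iv2 F479271)
theorem F530494 : act 3 n225418 = n218510 := d6_1 D225418 F494220 F493983
theorem F530495 : act 4 n225418 = n218400 := d9_1 D225418 (iv5 F520331) (iv4 F529795) (iv5 D225299) (iv4 D214303) (iv5 F413687) D215296 D225416 F530484 (iv5 F520334) F520335 (iv5 D221391) F400147 (iv5 F365634) D215298
theorem F530496 : act 7 n225418 = n218506 := d13_2 (iv7 F479272) D225418 F494207
theorem F530497 : act 0 n225418 = n218508 := d17_2 (iv1 F498401) D225418 (iv5 F494272) (iv4 F494368) F494367 (iv0 F495192) (iv5 F498385) F498382 (iv4 F498399)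
theorem F530498 : act 1 n225418 = n218504 := d17_6 (iv1 F373773) F367159 (iv1 F258574) (iv5 F365634) D215298 D225418 (iv5 F515698) (iv0 F515701) (iv4 D218104)
def n225419 : Q := act 3 n215300
theorem D225419 : act 3 n215300 = n225419 := rfl
theorem F530499 : act 4 n225419 = n218712 := d5_2 (iv4 F479278) D225419 F495274 (iv4 F495297) F495296
theorem F530500 : act 5 n225419 = n218421 := d6_2 (iv5 F479277) D225419 (iv3 D218421)
theorem F530501 : act 6 n225419 = n218587 := d7_2 F494067 D225419 F494623
theorem F530502 : act 7 n225419 = n220680 := d8_2 F479282 D225419 (iv3 D220680)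
theorem F530503 : act 0 n225419 = n218560 := d19_4 F477501 F477500 (iv4 F479278) D225419 (iv5 D218560) (iv4 F486418) F486420 (iv1 D195946) F163715 (iv4 F165811) F361219 (iv1 F367192) D191202 F382561 (iv3 F478567) F478571 F394376 (iv4 D176730) D176729
theorem F530504 : act 0 n218563 = n225419 := d20_4 (iv4 F477749) F477751 (iv4 F494459) (iv3 F494488) (iv3 D225419) F479278 (iv1 F382768) (iv4 F455350) (iv3 F483098) F483102
def n225420 : Q := act 3 n215301
theorem D225420 : act 3 n215301 = n225420 := rfl
theorem F530505 : act 4 n225420 = n215311 := d5_2 (iv4 F479288) D225420 F479333 (iv4 F379678) F382762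
theorem F530506 : act 5 n225420 = n216127 := d6_2 F479289 D225420 F483095
theorem F530507 : act 6 n225420 = n217772 := d7_2 F523764 D225420 (iv3 F523762)
theorem F530508 : act 7 n225420 = n218534 := d8_2 (iv7 F479287) D225420 F494336
theorem F530509 : act 0 n225420 = n218562 := d19_4 (iv1 F529815) F477505 (iv4 F479288) D225420 F494486 F494459 F380916 F343049 (iv5 D87292) F61663 (iv3 D40538) (iv1 F31177) (iv5 F291223) D45476 D97383 F348787 (iv5 F282818) (iv4 F477778) (iv3 F529809)
theorem F530510 : act 2 n218523 = n225420 := d4_3 F530508 (iv2 F495468) F495470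
def n225421 : Q := act 6 n215308
theorem D225421 : act 6 n215308 = n225421 := rfl
theorem F530511 : act 2 n225421 = n222064 := d3_1 D225421 (iv6 D222064) (iv2 F479317)
theorem F530512 : act 3 n225421 = n215309 := d7_1 D225421 (iv6 D215309) (iv3 F479318)
theorem F530513 : act 4 n225421 = n221215 := d10_1 D225421 F507779 (iv4 F479322)
theorem F530514 : act 5 n225421 = n224804 := d12_1 D225421 (iv6 D224804) F458723 F414243 D215308
theorem F530515 : act 0 n225421 = n225047 := d21_4 (iv5 D191677) F270438 D215308 D225421 F528323 F489919 (iv1 F488405) (iv5 D208381) (iv6 F217280) F384109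
theorem F530516 : act 0 n223633 = n225421 := d21_4 F430625 (iv1 F358462) (iv5 F439914) D223633 (iv6 D225421) (iv5 D215308) F270439 D190956 (iv6 F444416) (iv1 F444418)
def n225422 : Q := act 4 n215313
theorem D225422 : act 4 n215313 = n225422 := rfl
theorem F530517 : act 2 n225422 = n219815 := d1_1 D225422 (iv4 D219815) (iv2 F479341)
theorem F530518 : act 7 n225422 = n219817 := d11_2 (iv7 F479343) D225422 (iv4 D219817)
theorem F530519 : act 5 n225422 = n215882 := d16_1 D225422 (iv4 D215882) (iv5 D178098) (iv4 F302659) (iv5 F280552) F386354 (iv5 F499574) F499578 (iv2 F479341)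
theorem F530520 : act 0 n225422 = n224440 := d17_0 F524985 F514225 F514222 (iv4 D219818) F386370 (iv0 F351633) D191810 (iv0 F479344) D225422
theorem F530521 : act 1 n225422 = n223635 := d18_6 F286389 (iv4 F236443) F353877 D172368 D215313 D225422 (iv4 D223635) (iv0 F431423) (iv5 D204039)
theorem F530522 : act 3 n225422 = n222978 := d19_3 F312610 D215313 D225422 F517083 F510951 F404082 (iv3 F472919) (iv1 F472923) (iv5 F469369) F277495 (iv3 F366936) D214582 F475904 F457365 (iv3 F466777) (iv1 F466783) F439647 F286166 (iv3 F153972)
def n225423 : Q := act 6 n215313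
theorem D225423 : act 6 n215313 = n225423 := rfl
theorem F530523 : act 2 n225423 = n219816 := d3_1 D225423 (iv6 D219816) (iv2 F479341)
theorem F530524 : act 3 n225423 = n219400 := d7_1 D225423 (iv6 D219400) (iv3 F479342)
theorem F530525 : act 5 n225423 = n219451 := d12_1 D225423 (iv6 D219451) (iv5 F468572) F468576 D215313
theorem F530526 : act 7 n225423 = n219530 := d14_2 (iv7 F479343) D225423 F499296 (iv7 F488335) F488334
theorem F530527 : act 0 n222565 = n225423 := d21_4 (iv5 D222564) (iv1 D200191) D200192 D222565 (iv6 D225423) (iv5 D215313) (iv1 F310670) (iv5 F386375) D219825 (iv1 F514948)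
def n225424 : Q := act 5 n215328
theorem D225424 : act 5 n215328 = n225424 := rfl
theorem F530528 : act 2 n225424 = n221573 := d2_1 D225424 (iv5 D221573) (iv2 F479421)
theorem F530529 : act 3 n225424 = n215329 := d6_1 D225424 (iv5 D215329) D215328
theorem F530530 : act 6 n225424 = n221417 := d12_2 (iv6 F479422) D225424 F508920 (iv6 F501361) F501360
theorem F530531 : act 7 n225424 = n215456 := d13_2 (iv7 F479423) D225424 (iv5 D215456)
theorem F530532 : act 0 n225424 = n221515 := d17_2 (iv1 F482031) D225424 (iv5 D221515) D221514 F509391 (iv0 F406583) (iv5 F497123) F497125 (iv4 F471662)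
theorem F530533 : act 1 n225424 = n221512 := d17_6 D140442 D210983 (iv1 F459625) D222010 F511889 D225424 (iv5 D221512) (iv0 D196553) F165054
def n225425 : Q := act 5 n215342
theorem D225425 : act 5 n215342 = n225425 := rfl
theorem F530534 : act 2 n225425 = n224582 := d2_1 D225425 F525761 (iv2 F504493)
theorem F530535 : act 3 n225425 = n215343 := d6_1 D225425 (iv5 D215343) D215342
theorem F530536 : act 4 n225425 = n224977 := d9_1 D225425 (iv5 D224977) F463116 D211801 (iv4 F497396) (iv5 F513662) F513661 D224699 F526390 F510820 F463143 (iv5 F463180) (iv4 F479501) (iv5 D215348) (iv4 F479481)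
theorem F530537 : act 7 n225425 = n219821 := d13_2 F504496 D225425 (iv5 F504501)
def n225426 : Q := act 6 n215343
theorem D225426 : act 6 n215343 = n225426 := rfl
theorem F530538 : act 2 n225426 = n224781 := d3_1 D225426 (iv6 F526840) (iv2 F479483)
theorem F530539 : act 4 n225426 = n220650 := d10_1 D225426 (iv6 D220650) (iv4 F479485)
theorem F530540 : act 5 n225426 = n220347 := d12_1 D225426 (iv6 D220347) (iv5 D193434) F366841 D215343
theorem F530541 : act 7 n225426 = n224780 := d14_2 F492835 D225426 F526835 (iv7 F480346) (iv6 F492839)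
theorem F530542 : act 0 n225426 = n223661 := d21_10 F520595 (iv1 F503865) F503862 (iv6 F487998) (iv1 F398451) D220080 F502006 (iv1 D215341) D215343 D225426
theorem F530543 : act 0 n224782 = n225426 := d21_4 F487257 F480647 (iv5 F483430) (iv6 F526845) (iv6 D225426) (iv5 D215343) F472065 F483554 F483553 (iv1 F487258)
def n225427 : Q := act 6 n215352
theorem D225427 : act 6 n215352 = n225427 := rfl
theorem F530544 : act 2 n225427 = n217054 := d3_1 D225427 F487157 F479517
theorem F530545 : act 3 n225427 = n216433 := d7_1 D225427 F520001 (iv3 F519999)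
theorem F530546 : act 4 n225427 = n224264 := d10_1 D225427 (iv6 D224264) (iv4 F479516)
theorem F530547 : act 5 n225427 = n216432 := d12_1 D225427 F484352 (iv5 F444454) (iv6 F499044) F499041
theorem F530548 : act 7 n225427 = n217053 := d14_2 (iv7 F479519) D225427 F489885 (iv7 F490162) F490161
theorem F530549 : act 0 n225427 = n217049 := d21_4 D191557 D219471 F499041 D225427 (iv6 D217049) (iv5 D186708) F157610 D98294 (iv6 F345001) F344992
theorem F530550 : act 0 n217055 = n225427 := d21_4 F516026 (iv1 D213120) (iv5 F383903) (iv6 F487160) (iv6 D225427) (iv5 F499041) F499900 F499899 (iv6 F456923) F516030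
def n225428 : Q := act 7 n215423
theorem D225428 : act 7 n215423 = n225428 := rfl
theorem F530551 : act 2 n225428 = n222491 := d4_1 D225428 F514509 F480414
theorem F530552 : act 3 n225428 = n220762 := d8_1 D225428 F505381 (iv3 F479918)
theorem F530553 : act 4 n225428 = n215424 := d11_1 D225428 (iv7 D215424) (iv4 F479919)
theorem F530554 : act 5 n225428 = n220737 := d13_1 D225428 F505238 F490331
theorem F530555 : act 6 n225428 = n220311 := d14_1 D225428 (iv7 D220311) F389517 F273905 D215423
theorem F530556 : act 1 n223831 = n225428 := d15_1 F521521 (iv7 D225428) (iv2 F480414)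
theorem F530557 : act 1 n225428 = n215971 := d15_1 F530556 F482348 (iv2 F521517)
def n225429 : Q := act 5 n215430
theorem D225429 : act 5 n215430 = n225429 := rfl
theorem F530558 : act 2 n225429 = n216690 := d2_1 D225429 F514870 F514865
theorem F530559 : act 3 n225429 = n215431 := d6_1 D225429 (iv5 D215431) D215430
theorem F530560 : act 4 n225429 = n223148 := d9_1 D225429 F517878 (iv4 F511892) F511893 F436683 (iv5 D200107) (iv4 F415028) D222550 F517877 F517874 (iv4 F470123) F470124 (iv4 F479978) (iv5 D215434) (iv4 F479956)
theorem F530561 : act 6 n225429 = n215807 := d12_2 F514890 D225429 (iv5 D215807) F481524 (iv5 F514889)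
theorem F530562 : act 7 n225429 = n221528 := d13_2 (iv7 F479957) D225429 (iv5 D221528)
theorem F530563 : act 0 n225429 = n225326 := d17_2 F514857 D225429 (iv5 D225326) F476089 F253346 D160467 (iv5 F472752) (iv0 F472753) (iv4 F514852)
def n225430 : Q := act 1 n215439
theorem D225430 : act 1 n215439 = n225430 := rfl
theorem F530564 : act 7 n225430 = n222990 := d15_2 F480013 D225430 F517149
theorem F530565 : act 4 n225430 = n223782 := d18_7 D218834 (iv4 F495843) (iv1 F503122) F503119 (iv5 D215443) (iv4 F480000) D225430 F521245 F476091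
theorem F530566 : act 3 n222020 = n225430 := d19_19 (iv1 D225430) (iv5 F485354) F502242 (iv3 F502245) (iv1 F504063) F504059 F423103 F240161 F301009 (iv5 D76999) F55928 (iv3 F42976) F296252 D35400 F341358 (iv3 F341356) (iv1 F223583) (iv5 F406592) D222020
theorem F530567 : act 6 n224869 = n225430 := d21_3 F512307 F502068 D224869 (iv1 D225430) F480001 (iv5 F429256) D216660 (iv5 F485358) F468830 F512310
theorem F530568 : act 0 n222986 = n225430 := d21_4 F400891 (iv1 F400888) D201978 D222986 (iv6 F530567) (iv5 D224869) F472562 F245126 (iv6 D115283) D115280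
theorem F530569 : act 2 n222989 = n225430 := d15_3 (iv0 F530568) (iv0 F517130) F517145
def n225431 : Q := act 2 n215439
theorem D225431 : act 2 n215439 = n225431 := rfl
theorem F530570 : act 3 n225431 = n220797 := d0_2 D215439 D225431 F505593 F458672 F350652
theorem F530571 : act 4 n225431 = n215442 := d1_2 (iv4 F480000) D225431 (iv2 D215442)
theorem F530572 : act 5 n225431 = n220555 := d2_2 F485354 D225431 F504334
theorem F530573 : act 6 n225431 = n218055 := d3_2 (iv6 F480001) D225431 F491928
theorem F530574 : act 7 n225431 = n222986 := d4_2 (iv7 F480002) D225431 F517127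
theorem F530575 : act 1 n225431 = n222989 := d15_0 (iv0 D222989) (iv7 F480002) D225431
theorem F530576 : act 1 n222990 = n225431 := d15_0 F530575 (iv7 F517145) (iv2 F517149)
def n225432 : Q := act 4 n215441
theorem D225432 : act 4 n215441 = n225432 := rfl
theorem F530577 : act 2 n225432 = n222946 := d1_1 D225432 F516918 (iv2 F480454)
theorem F530578 : act 3 n225432 = n223004 := d5_1 D225432 (iv4 F527704) F527703 F527272 (iv3 F480010)
theorem F530579 : act 5 n225432 = n223091 := d9_2 (iv5 F480011) D225432 (iv4 F528433) F528434 F469265 (iv5 F429392) (iv4 F429453) F429454 (iv4 F449727) (iv5 F485131) F485130 (iv5 D202270) F179805 D141953 D211407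
theorem F530580 : act 6 n225432 = n224860 := d10_2 F480009 D225432 (iv4 D224860)
theorem F530581 : act 7 n225432 = n223790 := d11_2 (iv7 F480008) D225432 F521291
theorem F530582 : act 0 n225432 = n223358 := d17_0 F519037 (iv1 D213927) (iv5 D156088) (iv4 F228332) F461493 (iv0 F480024) (iv5 D215443) D215441 D225432
theorem F530583 : act 1 n225432 = n224383 := d18_6 D204764 F461435 (iv1 D211406) D211407 (iv5 F480011) D225432 F524634 (iv0 F480100) (iv5 D204766)
def n225433 : Q := act 3 n215453
theorem D225433 : act 3 n215453 = n225433 := rfl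
theorem F530584 : act 2 n225433 = n225325 := d0_1 D225433 F529957 (iv2 F521240) F521241 F500876
theorem F530585 : act 4 n225433 = n220233 := d5_2 F497111 D225433 F502778 (iv4 F502783) F502782
theorem F530586 : act 5 n225433 = n225328 := d6_2 F509395 D225433 F529975
theorem F530587 : act 6 n225433 = n220095 := d7_2 F480067 D225433 (iv3 D220095)
theorem F530588 : act 7 n225433 = n220230 := d8_2 (iv7 F480066) D225433 F502768
theorem F530589 : act 0 n225433 = n220803 := d19_4 (iv1 F506355) (iv5 F506359) F497111 D225433 (iv5 F512440) (iv4 D222118) (iv3 F512434) (iv1 F526546) (iv5 D224727) (iv4 F466459) (iv3 D212568) (iv1 F434234) F434231 F282170 (iv3 D86542) D86540 D181222 (iv4 F424111) (iv3 F506161)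
theorem F530590 : act 0 n221603 = n225433 := d20_4 (iv4 F507583) F509487 (iv4 F512098) F512099 (iv3 D225433) (iv4 F497111) (iv1 F497112) (iv4 F528516) F528515 (iv1 D222056)
def n225434 : Q := act 6 n215463
theorem D225434 : act 6 n215463 = n225434 := rfl
theorem F530591 : act 2 n225434 = n218963 := d3_1 D225434 F496413 F480109
theorem F530592 : act 4 n225434 = n218962 := d10_1 D225434 F496409 (iv4 F480108)
theorem F530593 : act 5 n225434 = n217123 := d12_1 D225434 (iv6 F514213) F514210 (iv6 F510095) F510094
theorem F530594 : act 7 n225434 = n225329 := d14_2 F495688 D225434 (iv6 D225329) F513502 F513499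
theorem F530595 : act 0 n225434 = n219618 := d21_4 F464374 (iv1 F510097) F510094 D225434 (iv6 F512751) (iv5 F524168) (iv1 F524170) (iv5 D219244) F381798 F378859
theorem F530596 : act 0 n219408 = n225434 := d21_4 (iv5 F452498) F452499 (iv5 F480238) (iv6 F498754) (iv6 D225434) (iv5 F510094) (iv1 F510096) (iv5 D219255) (iv6 F477539) (iv1 F477540)
def n225435 : Q := act 4 n215487
theorem D225435 : act 4 n215487 = n225435 := rfl
theorem F530597 : act 2 n225435 = n215490 := d1_1 D225435 (iv4 D215490) (iv2 F480197)
theorem F530598 : act 3 n225435 = n217421 := d5_1 D225435 F495237 (iv3 F506371) (iv4 D220936) (iv3 F480198)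
theorem F530599 : act 6 n225435 = n217418 := d10_2 F497552 D225435 (iv4 F497550)
theorem F530600 : act 7 n225435 = n225342 := d11_2 F506233 D225435 F530057
def n225436 : Q := act 3 n215504
theorem D225436 : act 3 n215504 = n225436 := rfl
theorem F530601 : act 2 n225436 = n222176 := d0_1 D225436 (iv3 F515830) F515829 F503884 (iv2 F480249)
theorem F530602 : act 4 n225436 = n218775 := d5_2 D215504 D225436 (iv3 F497363) F497361 (iv3 D215503)
theorem F530603 : act 5 n225436 = n224575 := d6_2 (iv5 F480251) D225436 (iv3 D224575)
theorem F530604 : act 6 n225436 = n219157 := d7_2 (iv6 F527553) D225436 F527552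
theorem F530605 : act 7 n225436 = n216107 := d8_2 (iv7 F480250) D225436 F482988
theorem F530606 : act 0 n225436 = n224668 := d19_4 F246408 (iv5 F365860) D215504 D225436 F526201 (iv4 F516609) F516608 F502363 (iv5 D207800) (iv4 F329058) F197245 D123074 (iv5 F304270) (iv4 D120643) F301459 (iv1 F117781) F117783 D83440 (iv3 F326026)
theorem F530607 : act 0 n225364 = n225436 := d20_4 F495707 F491444 D218910 (iv3 F530196) (iv3 D225436) (iv4 D215504) (iv1 F365861) D198532 F408247 D218799
def n225437 : Q := act 0 n215578
theorem D225437 : act 0 n215578 = n225437 := rfl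
theorem F530608 : act 5 n225437 = n219525 := d17_1 D225437 F499276 (iv5 D193765) (iv4 F390246) (iv5 F483678) (iv0 F483681) (iv5 F480609) (iv0 D215579) (iv4 F480607)
theorem F530609 : act 4 n225437 = n224231 := d18_1 D225437 F523790 (iv4 D216460) D216461 (iv4 F487261) F487265 (iv4 F498859) (iv0 F498862) F489901
theorem F530610 : act 3 n225437 = n224797 := d20_5 (iv4 F517995) (iv1 D223170) D223171 F517998 D225437 (iv4 D224797) (iv1 F481807) (iv4 F484458) F484457 (iv1 F484470)
theorem F530611 : act 6 n225437 = n217177 := d21_5 (iv5 F448880) F448881 (iv5 F371190) D215578 D225437 (iv5 F487802) (iv1 F457958) F457952 (iv6 D193555) (iv1 F386597)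
theorem F530612 : act 2 n216682 = n225437 := d15_3 (iv0 D225437) (iv0 F524878) F524876
theorem F530613 : act 7 n225437 = n220397 := d4_2 F524876 F530612 (iv2 F524874)
theorem F530614 : act 1 n215584 = n225437 := d15_1 F524879 F530613 (iv2 F524874)
def n225438 : Q := act 7 n215578
theorem D225438 : act 7 n215578 = n225438 := rfl
theorem F530615 : act 2 n225438 = n215584 := d4_1 D225438 F480642 (iv2 F480606)
theorem F530616 : act 3 n225438 = n220117 := d8_1 D225438 (iv7 F518000) F517998
theorem F530617 : act 4 n225438 = n215581 := d11_1 D225438 (iv7 D215581) (iv4 F480607)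
theorem F530618 : act 5 n225438 = n219391 := d13_1 D225438 F498652 F489901
theorem F530619 : act 6 n225438 = n215582 := d14_1 D225438 F480630 F387882 F338128 D215578
theorem F530620 : act 1 n220397 = n225438 := d15_1 D220397 (iv7 D225438) F480606
theorem F530621 : act 1 n225438 = n216682 := d15_1 F530620 (iv7 F524876) F524874
def n225439 : Q := act 0 n215586
theorem D225439 : act 0 n215586 = n225439 := rfl
theorem F530622 : act 5 n225439 = n224230 := d17_1 D225439 F523785 (iv5 F498444) (iv4 F520499) F520500 F482162 (iv5 F482165) (iv0 D215831) (iv4 F480648)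
theorem F530623 : act 4 n225439 = n224796 := d18_1 D225439 (iv1 F526921) F518022 (iv5 F485502) (iv4 F522897) (iv0 F522899) F487154 D217054 (iv5 F487156)
theorem F530624 : act 3 n225439 = n224231 := d20_5 F390292 F312935 (iv4 F312936) D215586 D225439 (iv4 F530609) (iv1 F530614) F480641 F380147 D193563
theorem F530625 : act 6 n225439 = n217281 := d21_5 F498918 (iv1 F468585) F471426 (iv6 F480649) D225439 (iv5 F492318) (iv1 F492320) (iv5 F392051) (iv6 F392052) D219447
theorem F530626 : act 2 n220402 = n225439 := d15_3 (iv0 D225439) (iv0 F529585) (iv7 F529587)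
theorem F530627 : act 1 n219358 = n225439 := d15_0 (iv0 D225439) F480650 (iv2 F498450)
theorem F530628 : act 7 n225439 = n220401 := d15_2 F529586 F530627 (iv2 F529581)
def n225440 : Q := act 5 n215614
theorem D225440 : act 5 n215614 = n225440 := rfl
theorem F530629 : act 2 n225440 = n223103 := d2_1 D225440 F517662 F510667
theorem F530630 : act 3 n225440 = n220062 := d6_1 D225440 (iv5 D220062) (iv3 F480769)
theorem F530631 : act 4 n225440 = n216588 := d9_1 D225440 (iv5 D216588) (iv4 D184952) D184953 (iv4 F444998) F445001 (iv4 F522383) (iv5 F525710) (iv4 F529361) F529362 (iv4 D223727) F432977 (iv4 F302492) (iv5 F275367) D215614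
theorem F530632 : act 6 n225440 = n223101 := d12_2 (iv6 F509707) D225440 F517650 F425689 D221582
theorem F530633 : act 7 n225440 = n221833 := d13_2 F511081 D225440 F511085
theorem F530634 : act 0 n225440 = n224939 := d17_2 (iv1 F480770) D225440 (iv5 D224939) F461982 F451453 F239228 (iv5 F453406) (iv0 F453409) (iv4 F472610)
theorem F530635 : act 1 n225440 = n221862 := d17_6 (iv1 F428557) (iv5 F366650) F384812 (iv5 F275367) D215614 D225440 F511114 (iv0 F511075) F511072
def n225441 : Q := act 5 n215616
theorem D225441 : act 5 n215616 = n225441 := rfl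
theorem F530636 : act 2 n225441 = n216985 := d2_1 D225441 F486876 (iv2 F480775)
theorem F530637 : act 3 n225441 = n215617 := d6_1 D225441 (iv5 D215617) (iv3 F480776)
theorem F530638 : act 6 n225441 = n216980 := d12_2 D215616 D225441 (iv5 D216980) F367424 F365762
theorem F530639 : act 1 n225441 = n220135 := d17_6 F513663 D224001 (iv1 F530113) (iv5 D225351) (iv4 F480777) D225441 (iv5 F504485) (iv0 F504486) (iv4 F513661)
theorem F530640 : act 0 n225441 = n217304 := d21_7 (iv5 F519396) F519398 F500590 (iv6 D193853) F368974 D215616 D225441 (iv5 F504509) (iv6 F505223) F505225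
def n225442 : Q := act 5 n215665
theorem D225442 : act 5 n215665 = n225442 := rfl
theorem F530641 : act 2 n225442 = n225349 := d2_1 D225442 F530096 F486063
theorem F530642 : act 3 n225442 = n218734 := d6_1 D225442 (iv5 D218734) (iv3 F481019)
theorem F530643 : act 6 n225442 = n219280 := d12_2 F489171 D225442 (iv5 F522267) F522268 F499690
theorem F530644 : act 7 n225442 = n218966 := d13_2 (iv7 F481018) D225442 (iv5 D218966)
theorem F530645 : act 4 n225442 = n223962 := d16_2 D215665 D225442 F522240 F512143 (iv5 D215664) (iv4 D176821) D176822 F362548 F362556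
theorem F530646 : act 0 n225442 = n225377 := d17_2 F496634 D225442 F530277 F529818 F494373 (iv0 F455751) (iv5 F496532) (iv0 F496534) D219004
theorem F530647 : act 1 n225442 = n225376 := d17_6 (iv1 F377549) F377546 (iv1 F250159) D176827 D215665 D225442 F530274 (iv0 F482235) F474770
def n225443 : Q := act 5 n215666
theorem D225443 : act 5 n215666 = n225443 := rfl
theorem F530648 : act 2 n225443 = n215671 := d2_1 D225443 (iv5 D215671) (iv2 F481020)
theorem F530649 : act 3 n225443 = n222151 := d6_1 D225443 F512609 (iv3 F495286)
theorem F530650 : act 6 n225443 = n222150 := d12_2 (iv6 F481021) D225443 F512605 (iv6 F512318) F512317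
theorem F530651 : act 7 n225443 = n222149 := d13_2 F494906 D225443 F512601
theorem F530652 : act 0 n225443 = n224969 := d17_2 (iv1 F494911) D225443 (iv5 D224969) (iv4 F474562) F474563 (iv0 F455750) (iv5 F494373) (iv0 F494376) (iv4 F494909)
theorem F530653 : act 1 n225443 = n224973 := d17_6 D186421 (iv5 F341814) F361132 D176829 D215666 D225443 F527916 (iv0 F463052) F289174
def n225444 : Q := act 5 n215669
theorem D225444 : act 5 n215669 = n225444 := rfl
theorem F530654 : act 2 n225444 = n224332 := d2_1 D225444 F524371 F481033
theorem F530655 : act 3 n225444 = n220920 := d6_1 D225444 F506273 F498339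
theorem F530656 : act 6 n225444 = n218099 := d12_2 (iv6 F481034) D225444 (iv5 D218099) (iv6 D188492) D188491
theorem F530657 : act 4 n225444 = n224463 := d16_2 F481138 D225444 F525119 (iv4 D222062) F407175 F365858 (iv5 F414675) F414676 (iv2 F481136)
theorem F530658 : act 1 n225444 = n216935 := d17_6 F474566 F408250 (iv1 F413833) F481139 F481138 D225444 (iv5 D216935) (iv0 F463023) (iv4 F474562)
def n225445 : Q := act 4 n215671
theorem D225445 : act 4 n215671 = n225445 := rfl
theorem F530659 : act 5 n225445 = n224705 := d9_2 D215671 D225445 F526424 F502543 F406782 (iv5 F377546) D218636 (iv5 F512601) (iv4 F530443) (iv5 D225408) (iv4 D215244) (iv5 D170852) F126254 D84302 D176833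
theorem F530660 : act 6 n225445 = n219612 := d10_2 (iv6 F498260) D225445 F499678
theorem F530661 : act 1 n225445 = n223962 := d18_6 F482234 (iv4 D215667) (iv1 D176832) D176833 D215671 D225445 (iv4 F530645) F530647 F530274
def n225446 : Q := act 5 n215688
theorem D225446 : act 5 n215688 = n225446 := rfl
theorem F530662 : act 2 n225446 = n225377 := d2_1 D225446 F530277 F529821
theorem F530663 : act 3 n225446 = n215707 := d6_1 D225446 (iv5 D215707) F481130
theorem F530664 : act 6 n225446 = n219269 := d12_2 F481131 D225446 F498032 (iv6 F489179) F416144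
theorem F530665 : act 7 n225446 = n225376 := d13_2 F482233 D225446 F530274
theorem F530666 : act 4 n225446 = n224192 := d16_2 F482241 D225446 F523558 F516304 (iv5 F482893) F482892 (iv5 F482204) (iv7 F494377) F494372
theorem F530667 : act 0 n225446 = n218966 := d17_2 F494900 D225446 (iv5 D218966) F399904 F362553 F250158 D176829 F377544 D218635
theorem F530668 : act 1 n225446 = n225349 := d17_6 (iv1 F496627) F413844 D200026 (iv5 F482242) F482241 D225446 F530096 F495302 F496628
def n225447 : Q := act 1 n215689
theorem D225447 : act 1 n215689 = n225447 := rfl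
theorem F530669 : act 1 n225447 = n217462 := d15_1 D225447 F488982 F488566
theorem F530670 : act 7 n225447 = n217423 := d15_2 (iv0 F488552) D225447 F488826
theorem F530671 : act 5 n225447 = n219004 := d17_7 F382065 F289213 (iv1 F258605) (iv5 F443835) (iv4 F463124) D215689 D225447 (iv0 F496635) (iv4 F382555)
theorem F530672 : act 3 n215709 = n225447 := d19_19 (iv1 D225447) (iv5 D215689) F463124 (iv3 F443761) F443760 (iv5 F362513) F202256 F93117 D58899 (iv5 F332769) F95158 (iv3 F95131) (iv1 F168451) F168452 F168448 D108785 D197935 D221985 F511765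
def n225448 : Q := act 4 n215689
theorem D225448 : act 4 n215689 = n225448 := rfl
theorem F530673 : act 2 n225448 = n224707 := d1_1 D225448 F526434 F488566
theorem F530674 : act 6 n225448 = n223927 := d10_2 F488565 D225448 F522064
theorem F530675 : act 5 n225448 = n224706 := d16_1 D225448 F526428 F490776 (iv4 D194149) (iv5 F443829) D218635 (iv5 F494901) F488982 F488566
theorem F530676 : act 0 n225409 = n225448 := d20_7 (iv4 F488630) F488631 (iv4 F413357) (iv3 F495309) F528024 F528019 (iv4 F530445) (iv4 D225448) (iv3 F488638) (iv1 D217376)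
def n225449 : Q := act 5 n215698
theorem D225449 : act 5 n215698 = n225449 := rfl
theorem F530677 : act 2 n225449 = n224992 := d2_1 D225449 F528021 F482219
theorem F530678 : act 3 n225449 = n216927 := d6_1 D225449 (iv5 D216927) F481163
theorem F530679 : act 4 n225449 = n219153 := d9_1 D225449 F497457 F494961 (iv5 F393035) F393034 (iv5 F382644) (iv4 F481159) (iv5 F495867) (iv4 F528020) F528021 (iv4 F489146) F489147 F370171 D216882 F486370
theorem F530680 : act 6 n225449 = n219152 := d12_2 F481164 D225449 F497451 (iv6 D204994) (iv5 F434487)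
theorem F530681 : act 7 n225449 = n219153 := d13_2 F494963 D225449 F497457
theorem F530682 : act 0 n225449 = n219073 := d17_2 (iv1 F481162) D225449 (iv5 D219073) (iv4 D190758) (iv5 F343077) (iv0 D89993) D89996 F291967 D189962
theorem F530683 : act 1 n225449 = n219075 := d17_6 F483085 F416021 (iv1 F370097) D216882 F486370 D225449 (iv5 D219075) F497031 F497027
def n225450 : Q := act 5 n215700
theorem D225450 : act 5 n215700 = n225450 := rfl
theorem F530684 : act 2 n225450 = n215701 := d2_1 D225450 (iv5 D215701) (iv2 F481165)
theorem F530685 : act 3 n225450 = n218841 := d6_1 D225450 F495867 (iv3 F481166)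
theorem F530686 : act 6 n225450 = n218763 := d12_2 (iv6 F489118) D225450 F495544 F394604 D217487
theorem F530687 : act 7 n225450 = n224971 := d13_2 (iv7 F481167) D225450 (iv5 D224971)
theorem F530688 : act 0 n225450 = n225066 := d17_2 F481169 D225450 F528440 (iv4 F481029) F414675 D214318 (iv5 F495298) F496535 F496531
theorem F530689 : act 1 n225450 = n225444 := d17_6 D176831 F414784 (iv1 F258600) (iv5 F276269) D215700 D225450 (iv5 D225444) (iv0 D215669) (iv4 D176833)
def n225451 : Q := act 0 n215701
theorem D225451 : act 0 n215701 = n225451 := rfl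
theorem F530690 : act 5 n225451 = n218637 := d17_3 F448280 D215701 D225451 F494909 F482238 F474554 (iv5 F495451) (iv0 F495455) (iv4 F448279)
theorem F530691 : act 3 n225451 = n218755 := d20_5 (iv4 F499730) (iv1 F499732) (iv4 D218654) (iv3 F481170) D225451 (iv4 F518719) (iv1 F518722) (iv4 F498337) (iv3 F515270) F515273
theorem F530692 : act 6 n225451 = n218753 := d21_5 F495213 F394334 (iv5 F497225) (iv6 F497230) D225451 (iv5 D218753) F378621 D207417 F444795 D218698
theorem F530693 : act 2 n225066 = n225451 := d15_3 (iv0 D225451) (iv0 F524373) (iv7 F528441)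
theorem F530694 : act 1 n224971 = n225451 := d15_0 (iv0 D225451) (iv7 F486602) (iv2 F527903)
theorem F530695 : act 7 n225451 = n225444 := d15_2 (iv0 F527905) F530694 F530654
theorem F530696 : act 4 n225390 = n225451 := d11_3 F530695 F530657 (iv7 F530349)
def n225452 : Q := act 4 n215701
theorem D225452 : act 4 n215701 = n225452 := rfl
theorem F530697 : act 3 n225452 = n225013 := d5_1 D225452 F528117 F494988 (iv4 D218654) (iv3 F481170)
theorem F530698 : act 6 n225452 = n217353 := d10_2 (iv6 F497230) D225452 (iv4 F497226)
theorem F530699 : act 1 n225452 = n225448 := d18_6 F496634 (iv4 D215665) F382067 D176914 D215701 D225452 (iv4 D225448) D225447 F530671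
def n225453 : Q := act 5 n215712
theorem D225453 : act 5 n215712 = n225453 := rfl
theorem F530700 : act 3 n225453 = n223780 := d6_1 D225453 F521231 F494426
theorem F530701 : act 6 n225453 = n217271 := d12_2 D215712 D225453 F488207 (iv6 F411435) F411434
theorem F530702 : act 7 n225453 = n220459 := d13_2 F515228 D225453 (iv5 F515227)
theorem F530703 : act 0 n225453 = n218095 := d17_2 F481204 D225453 (iv5 D218095) (iv4 F373652) (iv5 F379820) F494600 F494598 (iv0 F481217) F481216
theorem F530704 : act 1 n225453 = n218094 := d17_6 D188504 D218102 F493951 F493948 (iv4 F481203) D225453 (iv5 D218094) (iv0 D188485) (iv4 F141961)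
def n225454 : Q := act 5 n215766
theorem D225454 : act 5 n215766 = n225454 := rfl
theorem F530705 : act 2 n225454 = n215805 := d2_1 D225454 (iv5 D215805) F481484
theorem F530706 : act 3 n225454 = n224212 := d6_1 D225454 (iv5 F527216) (iv3 F527218)
theorem F530707 : act 4 n225454 = n220550 := d9_1 D225454 F504316 (iv4 D204782) (iv5 F335699) F136376 (iv5 D88263) D88262 D185220 D216689 F485483 (iv4 D204780) F357225 (iv4 F368952) F368953 (iv4 F481483)
theorem F530708 : act 6 n225454 = n225144 := d12_2 (iv6 F481487) D225454 (iv5 D225144) F469660 (iv5 F458289)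
theorem F530709 : act 7 n225454 = n215807 := d13_2 (iv7 F481486) D225454 (iv5 D215807)
theorem F530710 : act 0 n225454 = n216688 := d17_2 D215766 D225454 F485478 F391142 (iv5 F277451) (iv0 F335646) F335649 (iv0 D177747) D177748
theorem F530711 : act 1 n225454 = n216687 := d17_6 D102377 F290112 (iv1 F368956) F368953 (iv4 F481483) D225454 F485471 F383576 (iv4 D102379)
def n225455 : Q := act 0 n215771
theorem D225455 : act 0 n215771 = n225455 := rfl
theorem F530712 : act 5 n225455 = n223025 := d17_1 D225455 (iv1 D223025) (iv5 F504713) F504712 (iv5 F504740) F504743 F498889 (iv0 D215772) (iv4 F481505)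
theorem F530713 : act 4 n225455 = n216453 := d18_1 D225455 (iv1 D216453) (iv4 F484429) F484430 F455181 F457829 (iv4 F517727) (iv0 D223116) (iv5 F481506)
theorem F530714 : act 6 n225455 = n223717 := d21_5 F400961 F400960 (iv5 F400921) D215771 D225455 (iv5 F528839) (iv1 F528843) (iv5 D215820) (iv6 D177952) (iv1 F277492)
theorem F530715 : act 2 n215833 = n225455 := d15_3 (iv0 D225455) (iv0 F526483) (iv7 F526485)
theorem F530716 : act 1 n215836 = n225455 := d15_0 (iv0 D225455) (iv7 F485580) F485578
theorem F530717 : act 7 n225455 = n215834 := d15_2 (iv0 F526484) F530716 (iv2 F526480)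
def n225456 : Q := act 0 n215790
theorem D225456 : act 0 n215790 = n225456 := rfl
theorem F530718 : act 4 n225456 = n219852 := d18_1 D225456 F500896 D224212 (iv5 F527216) F527217 (iv0 F485415) (iv4 F526104) (iv0 F526107) F517430
theorem F530719 : act 1 n223482 = n225456 := d15_0 (iv0 D225456) (iv7 F524382) F524379
theorem F530720 : act 2 n219861 = n225456 := d1_3 F530718 F500893 D219861
theorem F530721 : act 7 n223651 = n225456 := d11_0 F530718 F500895 (iv4 F520541)
def n225457 : Q := act 1 n215790
theorem D225457 : act 1 n215790 = n225457 := rfl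
theorem F530722 : act 1 n225457 = n223482 := d15_1 D225457 (iv7 F519683) F481594
theorem F530723 : act 7 n225457 = n219861 := d15_2 (iv0 D225456) D225457 F530720
theorem F530724 : act 5 n225457 = n224553 := d17_7 F509316 F509315 F427009 D223359 F519044 F517430 D225457 (iv0 F525604) F517494
theorem F530725 : act 4 n225457 = n216787 := d17_9 (iv1 F485917) (iv5 D204907) (iv1 F348276) (iv5 F484124) (iv4 F526093) (iv5 F526105) (iv0 F526107) F517430 D225457
theorem F530726 : act 3 n224380 = n225457 := d19_19 (iv1 D225457) (iv5 F517430) (iv4 F519044) F519041 (iv1 D213927) (iv5 D156088) (iv4 F228332) (iv3 D145302) (iv1 F165764) (iv5 F402263) (iv4 F445444) (iv3 F515120) (iv1 F522264) (iv5 F522898) F522897 (iv3 D208868) F363081 (iv5 F449653) D224380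
theorem F530727 : act 6 n216786 = n225457 := d21_3 (iv5 F525589) (iv1 D224549) (iv5 F485911) (iv1 D225457) (iv6 F517432) (iv5 D223050) F428909 (iv5 F465788) (iv6 F527212) F527214
theorem F530728 : act 2 n225457 = n223651 := d3_1 F530727 F529466 F529465
def n225458 : Q := act 5 n215800
theorem D225458 : act 5 n215800 = n225458 := rfl
theorem F530729 : act 2 n225458 = n223064 := d2_1 D225458 (iv5 F529434) F529431
theorem F530730 : act 3 n225458 = n215801 := d6_1 D225458 (iv5 D215801) D215800
theorem F530731 : act 6 n225458 = n223063 := d12_2 (iv6 F526500) D225458 F517490 (iv6 F511950) (iv5 F526499)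
theorem F530732 : act 4 n225458 = n223077 := d16_2 (iv4 F481630) D225458 F517527 F458970 D210843 F458984 (iv5 F432970) (iv7 F480535) F480536
def n225459 : Q := act 3 n215822
theorem D225459 : act 3 n215822 = n225459 := rfl
theorem F530733 : act 6 n225459 = n216652 := d7_2 F524300 D225459 (iv3 F524298)
theorem F530734 : act 0 n225459 = n225245 := d20_4 F277508 D177953 D215822 D225459 F529467 F472906 (iv1 F485851) D220663 F504859 (iv1 D215819)
theorem F530735 : act 0 n225245 = n225459 := d21_4 F481793 F481815 D213963 D225245 F530733 (iv5 D216652) (iv1 F391126) (iv5 F481651) (iv6 F481801) D215853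
def n225460 : Q := act 4 n215827
theorem D225460 : act 4 n215827 = n225460 := rfl
theorem F530736 : act 2 n225460 = n225220 := d1_1 D225460 (iv4 D225220) (iv2 F481708)
theorem F530737 : act 3 n225460 = n216115 := d5_1 D225460 (iv4 D216115) F282163 (iv4 F277516) D215827
theorem F530738 : act 6 n225460 = n222996 := d10_2 F485016 D225460 F517173
theorem F530739 : act 7 n225460 = n223724 := d11_2 (iv7 F481710) D225460 F520921
theorem F530740 : act 5 n225460 = n224850 := d16_1 D225460 F527206 (iv5 D212427) (iv4 F233683) F233684 (iv4 F320440) D214161 F473791 (iv2 F481708)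
theorem F530741 : act 0 n225460 = n223185 := d17_0 F518071 F517455 (iv5 D223055) (iv4 D202082) (iv5 D115362) D115361 D202078 (iv0 F481711) D225460
theorem F530742 : act 1 n225460 = n223184 := d18_6 D213859 F472435 (iv1 F279204) (iv4 F472161) (iv5 F481709) D225460 (iv4 D223184) (iv0 F458734) F458732
def n225461 : Q := act 3 n215837
theorem D225461 : act 3 n215837 = n225461 := rfl
theorem F530743 : act 2 n225461 = n223239 := d0_1 D225461 (iv3 D223239) F424419 D210640 (iv2 F481740)
theorem F530744 : act 4 n225461 = n225271 := d5_2 D215837 D225461 F529630 F473247 (iv3 F467195)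
theorem F530745 : act 5 n225461 = n222549 := d6_2 (iv5 F482120) D225461 (iv3 F514861)
theorem F530746 : act 0 n225461 = n220555 := d19_4 F481743 (iv5 D215838) D215837 D225461 (iv5 F530572) F530571 F480014 (iv1 F480043) (iv5 F497486) F497485 F381431 (iv1 F390666) (iv5 D192149) F153640 (iv3 F153637) F357913 D136918 F363625 (iv3 F392020)
theorem F530747 : act 0 n215859 = n225461 := d20_4 (iv4 F517235) (iv1 F499215) F499212 (iv3 F481828) (iv3 D225461) (iv4 D215837) (iv1 F421406) D216711 (iv3 F517744) (iv1 F517747)
def n225462 : Q := act 0 n215842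
theorem D225462 : act 0 n215842 = n225462 := rfl
theorem F530748 : act 5 n225462 = n225097 := d17_1 D225462 F528621 F518069 (iv4 D204449) (iv5 D123820) D123819 D204447 F471127 (iv4 F481757)
theorem F530749 : act 4 n225462 = n217281 := d18_1 D225462 (iv1 F488257) (iv4 F472823) F472824 (iv4 F509301) F509298 (iv4 F517459) (iv0 F524955) F524953
theorem F530750 : act 6 n225462 = n224796 := d21_5 (iv5 F520906) (iv1 F481754) (iv5 D215841) D215842 D225462 F526919 (iv1 F473187) (iv5 F473147) F469501 (iv1 F520903)
theorem F530751 : act 2 n220498 = n225462 := d15_3 (iv0 D225462) (iv0 F527207) (iv7 F527208)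
theorem F530752 : act 1 n225259 = n225462 := d15_0 (iv0 D225462) (iv7 F484438) (iv2 F529554)
theorem F530753 : act 7 n225462 = n220497 := d15_2 (iv0 F529559) F530752 (iv2 F527204)
theorem F530754 : act 3 n225462 = n224798 := d0_2 F520924 F530751 F526925 (iv3 F528889) F528888
def n225463 : Q := act 6 n215853
theorem D225463 : act 6 n215853 = n225463 := rfl
theorem F530755 : act 2 n225463 = n215863 := d3_1 D225463 (iv6 D215863) F481791
theorem F530756 : act 3 n225463 = n223683 := d7_1 D225463 (iv6 D223683) (iv3 F481792)
theorem F530757 : act 5 n225463 = n219885 := d12_1 D225463 F501039 (iv5 D213870) D213871 (iv5 F481793)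
theorem F530758 : act 7 n225463 = n224431 := d14_2 (iv7 F481794) D225463 F524933 F451149 F449641
theorem F530759 : act 0 n225463 = n224546 := d21_4 F520955 (iv1 F481839) (iv5 F481793) D225463 F525575 (iv5 D219929) F459730 (iv5 F520964) (iv6 D223733) D223731
theorem F530760 : act 1 n225463 = n220109 := d15_1 (iv0 F530759) F502166 (iv2 F525572)
def n225464 : Q := act 5 n215920
theorem D225464 : act 5 n215920 = n225464 := rfl
theorem F530761 : act 2 n225464 = n225265 := d2_1 D225464 F529595 F482128
theorem F530762 : act 3 n225464 = n224716 := d6_1 D225464 F526482 (iv3 F517305)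
theorem F530763 : act 6 n225464 = n215921 := d12_2 D215920 D225464 (iv5 D215921) (iv6 D178651) D178650
theorem F530764 : act 7 n225464 = n224846 := d13_2 F517594 D225464 F527183
theorem F530765 : act 4 n225464 = n224848 := d16_6 (iv4 F167169) D197332 D221784 (iv5 F510800) (iv4 F482099) D225464 F527194 (iv7 D213868) F245104
theorem F530766 : act 0 n225464 = n224649 := d17_2 F482100 D225464 F526099 F517750 (iv5 F498790) (iv0 F498792) F493631 (iv0 F448944) (iv4 F423305)
theorem F530767 : act 1 n225464 = n223023 := d17_6 (iv1 D217876) (iv5 F488332) F510801 (iv5 F510800) (iv4 F482099) D225464 (iv5 F517301) D223484 (iv4 F519692)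
def n225465 : Q := act 5 n215930
theorem D225465 : act 5 n215930 = n225465 := rfl
theorem F530768 : act 2 n225465 = n224732 := d2_1 D225465 F526570 F498756
theorem F530769 : act 3 n225465 = n219836 := d6_1 D225465 F500821 F482136
theorem F530770 : act 4 n225465 = n220587 := d9_1 D225465 F504481 F430556 (iv5 F345835) (iv4 F351958) D192327 (iv4 F482130) (iv5 F517685) F517684 (iv5 F503648) F466750 F357448 F357446 D192235 (iv4 F482135)
theorem F530771 : act 6 n225465 = n223274 := d12_2 (iv6 F482137) D225465 (iv5 F526981) F526982 (iv5 D219775)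
theorem F530772 : act 7 n225465 = n223107 := d13_2 F517637 D225465 F517681
theorem F530773 : act 0 n225465 = n220553 := d17_2 (iv1 F482134) D225465 F504328 (iv4 F430739) (iv5 D203992) (iv0 D122374) D122376 D203995 (iv4 F430758)
theorem F530774 : act 1 n225465 = n223097 := d17_6 (iv1 F499808) (iv5 D219641) (iv1 F384783) D192235 (iv4 F482135) D225465 F517628 (iv0 F500810) (iv4 D219834)
def n225466 : Q := act 6 n215936
theorem D225466 : act 6 n215936 = n225466 := rfl
theorem F530775 : act 2 n225466 = n223483 := d3_1 D225466 F519687 (iv2 F482175)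
theorem F530776 : act 3 n225466 = n223109 := d7_1 D225466 (iv6 D223109) F482173
theorem F530777 : act 5 n225466 = n224807 := d12_1 D225466 (iv6 D224807) (iv5 D210774) D210775 F482174
theorem F530778 : act 7 n225466 = n223484 := d14_2 F517677 D225466 (iv6 F519693) (iv7 F527868) F527867
theorem F530779 : act 0 n225466 = n223017 := d21_4 F518150 (iv1 F472697) F482174 D225466 (iv6 D223017) (iv5 D202030) (iv1 F422751) D223012 (iv6 F517248) (iv1 F518148)
theorem F530780 : act 0 n223479 = n225466 := d21_4 (iv5 F458748) (iv1 F519666) (iv5 D223478) D223479 (iv6 D225466) (iv5 F482174) F458746 (iv5 F469403) (iv6 D213195) (iv1 F386627)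
def n225467 : Q := act 5 n215938
theorem D225467 : act 5 n215938 = n225467 := rfl
theorem F530781 : act 2 n225467 = n223735 := d2_1 D225467 F520975 F482182
theorem F530782 : act 3 n225467 = n225191 := d6_1 D225467 F529140 F500891
theorem F530783 : act 4 n225467 = n223720 := d9_1 D225467 (iv5 F520906) (iv4 F466098) F466099 (iv4 F432967) (iv5 F473030) (iv4 F482177) (iv5 F503939) F503938 F485885 F422628 F349427 (iv4 F433039) F473038 (iv4 F482181)
theorem F530784 : act 6 n225467 = n219447 := d12_2 F499809 D225467 F498918 F468584 D219641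
theorem F530785 : act 7 n225467 = n223736 := d13_2 (iv7 F482180) D225467 F520978
theorem F530786 : act 0 n225467 = n225193 := d17_2 (iv1 F491029) D225467 F529153 (iv4 F517761) (iv5 F529173) F529175 (iv5 D215941) F473822 (iv4 F491026)
theorem F530787 : act 1 n225467 = n224768 := d17_6 (iv1 F481755) (iv5 F485885) (iv1 F485889) F473038 (iv4 F482181) D225467 (iv5 D224768) F526586 F526583
def n225468 : Q := act 4 n215941
theorem D225468 : act 4 n215941 = n225468 := rfl
theorem F530788 : act 2 n225468 = n224768 := d1_1 D225468 (iv4 F529186) F529189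
theorem F530789 : act 3 n225468 = n223624 := d5_1 D225468 (iv4 D223624) F431109 D204123 (iv3 F482188)
theorem F530790 : act 5 n225468 = n224734 := d9_2 D215941 D225468 F526579 F517217 (iv4 D213629) (iv5 F448941) (iv4 F457384) D215940 (iv4 F519519) (iv5 F526572) F526573 F521285 (iv4 D213626) F450538 F466348
theorem F530791 : act 6 n225468 = n220639 := d10_2 F482189 D225468 (iv4 F504750)
theorem F530792 : act 7 n225468 = n225193 := d11_2 (iv7 F529181) D225468 (iv4 F529177)
theorem F530793 : act 0 n225468 = n223735 := d17_0 F520975 F473809 (iv5 F500647) F519544 (iv5 F526987) (iv0 F526991) (iv5 F529173) F529175 D225468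
theorem F530794 : act 1 n225468 = n223736 := d18_6 (iv1 F473045) F473041 (iv1 F411816) F466348 D215941 D225468 (iv4 D223736) (iv0 F473048) (iv5 D214000)
def n225469 : Q := act 5 n215986
theorem D225469 : act 5 n215986 = n225469 := rfl
theorem F530795 : act 2 n225469 = n220647 := d2_1 D225469 F504780 (iv2 F482429)
theorem F530796 : act 3 n225469 = n215987 := d6_1 D225469 (iv5 D215987) (iv3 F482430)
theorem F530797 : act 4 n225469 = n219375 := d9_1 D225469 (iv5 D219375) F390236 F390220 F353801 F303621 (iv4 F275380) D215617 (iv4 F488353) F488354 F390232 (iv5 F390231) (iv4 F447416) F447417 (iv4 F482431)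
theorem F530798 : act 6 n225469 = n224560 := d12_2 D215986 D225469 (iv5 D224560) (iv6 D209578) (iv5 F366635)
theorem F530799 : act 7 n225469 = n216316 := d13_2 (iv7 F482432) D225469 F483807
theorem F530800 : act 0 n225469 = n220080 := d17_2 F482433 D225469 F502006 F479480 (iv5 F470111) (iv0 F479553) F479551 F357882 (iv4 F418858)
theorem F530801 : act 1 n225469 = n216266 := d17_6 D173363 (iv5 F383290) (iv1 F447420) F447417 (iv4 F482431) D225469 (iv5 F483554) (iv0 F472065) (iv4 D173365)
def n225470 : Q := act 4 n215990
theorem D225470 : act 4 n215990 = n225470 := rfl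
theorem F530802 : act 2 n225470 = n216023 := d1_1 D225470 (iv4 D216023) (iv2 F482453)
theorem F530803 : act 7 n225470 = n216027 := d11_2 (iv7 F482455) D225470 (iv4 D216027)
theorem F530804 : act 0 n225470 = n224359 := d18_2 (iv1 F520091) D225470 F524512 F449156 (iv4 F222794) D210729 F458611 F444185 (iv5 F520089)
def n225471 : Q := act 0 n215992
theorem D225471 : act 0 n215992 = n225471 := rfl
theorem F530805 : act 4 n225471 = n223511 := d18_3 F473582 D215992 D225471 F519823 (iv4 F457509) (iv0 D210434) F221906 (iv0 F387226) (iv5 F473580)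
theorem F530806 : act 6 n225471 = n223510 := d21_5 F366876 (iv1 D179825) (iv5 F279930) (iv6 F482463) D225471 F519819 (iv1 F483356) F483352 F429538 (iv1 F268155)
theorem F530807 : act 2 n216032 = n225471 := d15_3 (iv0 D225471) (iv0 F526735) F526734
theorem F530808 : act 7 n225471 = n216033 := d4_2 F526734 F530807 (iv2 F526731)
theorem F530809 : act 1 n216036 = n225471 := d15_1 F526736 F530808 (iv2 F526731)
def n225472 : Q := act 7 n215992
theorem D225472 : act 7 n215992 = n225472 := rfl
theorem F530810 : act 2 n225472 = n216036 := d4_1 D225472 (iv7 D216036) (iv2 F482462)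
theorem F530811 : act 3 n225472 = n223555 := d8_1 D225472 F520088 F482586
theorem F530812 : act 4 n225472 = n215993 := d11_1 D225472 (iv7 D215993) D215992
theorem F530813 : act 6 n225472 = n223554 := d14_1 D225472 F520083 (iv6 D215201) (iv7 F366874) (iv6 F482463)
theorem F530814 : act 1 n216033 = n225472 := d15_1 D216033 (iv7 D225472) F482462
theorem F530815 : act 1 n225472 = n216032 := d15_1 F530814 (iv7 F526734) F526731
def n225473 : Q := act 2 n215994
theorem D225473 : act 2 n215994 = n225473 := rfl
theorem F530816 : act 3 n225473 = n216043 := d0_2 D215994 D225473 (iv2 D216043) (iv3 D179826) (iv2 F279929)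
theorem F530817 : act 4 n225473 = n220637 := d1_2 F482589 D225473 F504738
theorem F530818 : act 5 n225473 = n216043 := d2_2 (iv5 F482468) D225473 (iv2 D216043)
theorem F530819 : act 6 n225473 = n225470 := d3_2 (iv6 F482587) D225473 F530802
theorem F530820 : act 7 n225473 = n220636 := d4_2 (iv7 F482469) D225473 F504736
theorem F530821 : act 1 n225473 = n224233 := d15_0 (iv0 F523804) (iv7 F482469) D225473
theorem F530822 : act 1 n224361 = n225473 := d15_0 F530821 F523803 (iv2 F524518)
def n225474 : Q := act 4 n215996
theorem D225474 : act 4 n215996 = n225474 := rfl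
theorem F530823 : act 2 n225474 = n216003 := d1_1 D225474 (iv4 D216003) (iv2 F482476)
theorem F530824 : act 3 n225474 = n217960 := d5_1 D225474 F491426 (iv3 F387251) (iv4 F489443) F489440
theorem F530825 : act 5 n225474 = n223317 := d9_2 D215996 D225474 F518818 F475308 F388575 F364313 F343151 (iv5 F482495) (iv4 F524508) F524509 (iv4 F475317) F475318 F388579 (iv5 F370765) F370764
theorem F530826 : act 6 n225474 = n215997 := d10_2 (iv6 F482477) D225474 (iv4 D215997)
theorem F530827 : act 7 n225474 = n217958 := d11_2 F490657 D225474 F491419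
def n225475 : Q := act 5 n215999
theorem D225475 : act 5 n215999 = n225475 := rfl
theorem F530828 : act 2 n225475 = n216227 := d2_1 D225475 F483417 (iv2 F482485)
theorem F530829 : act 3 n225475 = n216000 := d6_1 D225475 (iv5 D216000) D215999
theorem F530830 : act 4 n225475 = n222825 := d9_1 D225475 (iv5 D222825) F420054 (iv5 F178319) (iv4 F420080) (iv5 F421646) F421645 (iv5 F383485) (iv4 F498828) F498831 F490448 F439796 D220043 F501817 F482488
theorem F530831 : act 6 n225475 = n216225 := d12_2 F489308 D225475 F483410 (iv6 F485853) (iv5 F489310)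
theorem F530832 : act 7 n225475 = n219413 := d13_2 (iv7 F482486) D225475 F498778
theorem F530833 : act 0 n225475 = n217657 := d17_2 (iv1 F491367) D225475 (iv5 F491293) F491291 (iv5 F490729) F490730 F490186 (iv0 F523528) F523525
theorem F530834 : act 1 n225475 = n219425 := d17_6 D214468 F475308 (iv1 F501819) F501817 F482488 D225475 F528360 (iv0 D225053) F467024
def n225476 : Q := act 6 n216000
theorem D225476 : act 6 n216000 = n225476 := rfl
theorem F530835 : act 2 n225476 = n216145 := d3_1 D225476 (iv6 F485814) F485811
theorem F530836 : act 3 n225476 = n216225 := d7_1 D225476 (iv6 F530831) F530829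
theorem F530837 : act 5 n225476 = n216470 := d12_1 D225476 (iv6 F503696) F503695 F471881 D216000
theorem F530838 : act 7 n225476 = n216230 := d14_2 (iv7 F483854) D225476 F483424 (iv7 F289854) D216326
theorem F530839 : act 0 n225476 = n216229 := d21_4 (iv5 D179750) D179748 D216000 D225476 (iv6 F498803) F498801 (iv1 F458321) D210654 (iv6 F482491) (iv1 D216002)
theorem F530840 : act 0 n216228 = n225476 := d21_4 (iv5 D209191) F446141 D224279 F524054 (iv6 D225476) (iv5 D216000) (iv1 F371867) D217793 (iv6 F491355) F491357
def n225477 : Q := act 0 n216003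
theorem D225477 : act 0 n216003 = n225477 := rfl
theorem F530841 : act 5 n225477 = n218213 := d17_1 D225477 (iv1 F501618) (iv5 F525081) F525080 (iv5 F453967) F516288 (iv5 F516289) (iv0 D216001) D216003
theorem F530842 : act 3 n225477 = n218214 := d20_5 D216027 F504166 F504163 F504161 D225477 (iv4 F501574) (iv1 F501576) (iv4 F490384) F490383 F449367
theorem F530843 : act 1 n217958 = n225477 := d15_0 (iv0 D225477) (iv7 F524510) F524506
def n225478 : Q := act 6 n216014
theorem D225478 : act 6 n216014 = n225478 := rfl
theorem F530844 : act 2 n225478 = n216016 := d3_1 D225478 (iv6 D216016) D216014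
theorem F530845 : act 3 n225478 = n220787 := d7_1 D225478 F505530 (iv3 F482537)
theorem F530846 : act 4 n225478 = n217731 := d10_1 D225478 (iv6 D217731) (iv4 F482541)
theorem F530847 : act 5 n225478 = n220311 := d12_1 D225478 (iv6 F530555) F530554 (iv6 F505240) (iv5 F482538)
theorem F530848 : act 7 n225478 = n217799 := d14_2 (iv7 F482539) D225478 (iv6 D217799) (iv7 F489429) F489428
theorem F530849 : act 0 n225478 = n217819 := d21_4 D217562 F489511 (iv5 F482538) D225478 (iv6 D217819) D217818 F490779 F410297 F383099 F377005
theorem F530850 : act 0 n223657 = n225478 := d21_4 (iv5 F378952) (iv1 F495751) (iv5 F512250) (iv6 F520576) (iv6 D225478) F482538 (iv1 F490924) F490922 (iv6 F475264) F475266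
def n225479 : Q := act 4 n216022
theorem D225479 : act 4 n216022 = n225479 := rfl
theorem F530851 : act 6 n225479 = n225404 := d10_2 (iv6 F519795) D225479 F530420
theorem F530852 : act 7 n225479 = n224210 := d11_2 (iv7 F482584) D225479 (iv4 D224210)
theorem F530853 : act 1 n225479 = n219443 := d18_6 D208656 (iv4 F457509) (iv1 F457513) (iv4 F444192) (iv5 F482585) D225479 F498897 (iv0 F498589) F449156
def n225480 : Q := act 5 n216023
theorem D225480 : act 5 n216023 = n225480 := rfl
theorem F530854 : act 3 n225480 = n225160 := d6_1 D225480 F528970 (iv3 F482586)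
theorem F530855 : act 6 n225480 = n225150 := d12_2 F482587 D225480 F528937 F482616 (iv5 F482468)
theorem F530856 : act 4 n225480 = n224569 := d16_2 D216023 D225480 F525687 F512409 (iv5 D216026) (iv4 D179807) D179808 (iv7 F482455) F482453
theorem F530857 : act 0 n225480 = n225158 := d17_2 (iv1 F504167) D225480 (iv5 F530399) F530398 F478847 (iv0 F450438) D213448 (iv0 F504165) (iv4 F504163)
theorem F530858 : act 1 n225480 = n225156 := d17_6 (iv1 D179811) (iv5 D85877) D85875 D179803 D216023 D225480 F528961 F519866 (iv4 D216031)
def n225481 : Q := act 5 n216027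
theorem D225481 : act 5 n216027 = n225481 := rfl
theorem F530859 : act 3 n225481 = n225151 := d6_1 D225481 F528938 F524537
theorem F530860 : act 4 n225481 = n224570 := d9_1 D225481 F525693 F484805 F362246 (iv4 D179802) D179803 D216023 D225480 F530856 F525687 F512409 (iv5 D216026) (iv4 D179807) D179808 D216027
theorem F530861 : act 0 n225481 = n225156 := d17_2 F524539 D225481 F528961 (iv4 D223518) (iv5 D203770) (iv0 F372971) (iv5 F391189) (iv0 F450708) (iv4 F524538)
theorem F530862 : act 1 n225481 = n225158 := d17_6 (iv1 F482467) F482465 (iv1 F279927) D179808 D216027 D225481 (iv5 F530399) F530402 (iv4 D216029)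
def n225482 : Q := act 4 n216028
theorem D225482 : act 4 n216028 = n225482 := rfl
theorem F530863 : act 2 n225482 = n217547 := d1_1 D225482 F489423 F482608
theorem F530864 : act 5 n225482 = n217542 := d9_2 (iv5 F482605) D225482 (iv4 D217542) (iv5 D187531) F138917 D100397 D192567 (iv5 F490465) (iv4 D217753) (iv5 D187865) (iv4 D90622) (iv5 D42425) D42424 D90618 D187856
theorem F530865 : act 6 n225482 = n223565 := d10_2 (iv6 F482606) D225482 (iv4 F520129)
theorem F530866 : act 7 n225482 = n217735 := d11_2 (iv7 F482607) D225482 F490384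
theorem F530867 : act 0 n225482 = n217752 := d17_0 F490457 (iv1 D187929) D187931 (iv4 F372645) (iv5 D188194) D188193 D217937 F491339 D225482
theorem F530868 : act 1 n225482 = n217751 := d18_6 F490406 (iv4 D217738) (iv1 D187855) D187856 (iv5 F482605) D225482 (iv4 F490454) D219984 F501513
theorem F530869 : act 3 n225482 = n223556 := d19_3 F450831 (iv5 F482605) D225482 (iv1 F520091) (iv5 D215990) (iv4 F404974) (iv3 F484742) (iv1 F484746) D217727 F490347 (iv3 F434941) F358624 (iv5 F358622) F287455 (iv3 F484508) F484512 (iv5 F504855) F504854 F491624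
def n225483 : Q := act 3 n216029
theorem D225483 : act 3 n216029 = n225483 := rfl
theorem F530870 : act 4 n225483 = n223556 := d5_2 D216029 D225483 (iv3 F530869) (iv4 D225482) (iv3 D216028)
theorem F530871 : act 5 n225483 = n225175 := d6_2 F528978 D225483 F529045
theorem F530872 : act 6 n225483 = n223566 := d7_2 (iv6 F482609) D225483 F520133
theorem F530873 : act 7 n225483 = n224360 := d8_2 F529671 D225483 (iv3 F529669)
theorem F530874 : act 0 n225483 = n225177 := d20_10 (iv4 D225177) F470448 (iv4 F524538) F524537 F504166 (iv3 D216034) (iv4 D179812) D179810 D216029 D225483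
theorem F530875 : act 2 n225479 = n225483 := d4_3 F530873 F524515 (iv7 F530852)
theorem F530876 : act 1 n225483 = n220520 := d15_0 (iv0 F523661) (iv7 F530852) F530875
def n225484 : Q := act 5 n216031
theorem D225484 : act 5 n216031 = n225484 := rfl
theorem F530877 : act 3 n225484 = n225399 := d6_1 D225484 (iv5 D225399) (iv3 F482612)
theorem F530878 : act 4 n225484 = n221170 := d9_1 D225484 (iv5 D221170) F397180 (iv5 F394214) (iv4 F444178) (iv5 F444181) D216029 (iv5 F528978) F528977 F470089 (iv4 F505733) F505734 F458611 F444188 D216031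
theorem F530879 : act 6 n225484 = n222114 := d12_2 (iv6 F482613) D225484 (iv5 F523660) F523659 (iv5 F458200)
def n225485 : Q := act 5 n216032
theorem D225485 : act 5 n216032 = n225485 := rfl
theorem F530880 : act 3 n225485 = n225073 := d6_1 D225485 F528475 F526732
theorem F530881 : act 6 n225485 = n225481 := d12_2 (iv6 F482615) D225485 (iv5 D225481) F482604 (iv5 F432511)
theorem F530882 : act 7 n225485 = n225073 := d13_2 F526734 D225485 F528475
theorem F530883 : act 4 n225485 = n223375 := d16_2 (iv4 F482614) D225485 (iv5 D223375) F427294 (iv5 F436710) (iv4 F450700) (iv5 F478844) (iv7 F519824) F519822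
theorem F530884 : act 0 n225485 = n225175 := d17_2 D216032 D225485 (iv5 F530871) F530870 F520089 (iv0 F444183) (iv5 F444181) (iv0 D179810) D179812
theorem F530885 : act 1 n225485 = n222114 := d17_6 F470448 (iv5 D208750) D208748 (iv5 F450695) (iv4 F482614) D225485 (iv5 F523660) (iv0 F529054) (iv4 D225177)
def n225486 : Q := act 3 n216033
theorem D225486 : act 3 n216033 = n225486 := rfl
theorem F530886 : act 6 n225486 = n223590 := d7_2 F518309 D225486 (iv3 F520225)
def n225487 : Q := act 5 n216033
theorem D225487 : act 5 n216033 = n225487 := rfl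
theorem F530887 : act 2 n225487 = n225073 := d2_1 D225487 F528475 F526731
theorem F530888 : act 4 n225487 = n225072 := d9_1 D225487 (iv5 D225072) F467585 (iv5 F420456) F450694 (iv5 F450695) (iv4 F482614) D225485 F530883 (iv5 D223375) F427294 (iv5 F436710) (iv4 F450700) (iv5 F478844) (iv4 F518310)
theorem F530889 : act 0 n225487 = n222114 := d17_2 (iv1 F530814) D225487 (iv5 F523660) (iv4 D224210) (iv5 D207293) D207292 F444188 F482466 (iv4 F530812)
theorem F530890 : act 1 n225487 = n225175 := d17_6 D220521 F504160 (iv1 F450698) (iv5 F478844) (iv4 F518310) D225487 (iv5 F530871) F530876 F504158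
def n225488 : Q := act 2 n216034
theorem D225488 : act 2 n216034 = n225488 := rfl
theorem F530891 : act 3 n225488 = n225470 := d0_2 D216034 D225488 F530802 F482586 F482462
theorem F530892 : act 4 n225488 = n224416 := d1_2 (iv4 F504163) D225488 F524837
theorem F530893 : act 6 n225488 = n216043 := d3_2 (iv6 F482616) D225488 (iv2 D216043)
theorem F530894 : act 7 n225488 = n224364 := d4_2 F524513 D225488 F524536
theorem F530895 : act 1 n225488 = n223555 := d15_0 F524514 F524513 D225488
theorem F530896 : act 1 n225470 = n225488 := d15_0 F530895 F520088 (iv2 F530802)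
def n225489 : Q := act 0 n216039
theorem D225489 : act 0 n216039 = n225489 := rfl
theorem F530897 : act 5 n225489 = n223554 := d17_3 F478894 (iv5 F482632) D225489 F520082 F498883 F409322 D204643 (iv0 F433109) D210659
theorem F530898 : act 3 n225489 = n223510 := d20_5 (iv4 D170650) (iv1 F191779) F299270 D216039 D225489 (iv4 D223510) (iv1 F449144) F449142 (iv3 D204015) F302125
theorem F530899 : act 4 n225489 = n221819 := d20_8 (iv4 F472868) (iv1 F510540) (iv4 D221728) (iv3 F510511) (iv1 F519811) F519808 F509575 D225489 F510930 (iv1 F472864)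
theorem F530900 : act 2 n223590 = n225489 := d15_3 (iv0 D225489) (iv0 F521041) F521039
theorem F530901 : act 1 n223591 = n225489 := d15_0 (iv0 D225489) F482633 D223591
theorem F530902 : act 7 n225489 = n221818 := d15_2 F521042 F530901 (iv2 F521036)
def n225490 : Q := act 2 n216039
theorem D225490 : act 2 n216039 = n225490 := rfl
theorem F530903 : act 3 n225490 = n223579 := d0_2 D216039 D225490 (iv2 D223579) (iv3 D204035) F280048
theorem F530904 : act 4 n225490 = n223869 := d1_2 F509575 D225490 F521741
theorem F530905 : act 5 n225490 = n224759 := d2_2 (iv5 F482632) D225490 F526713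
theorem F530906 : act 7 n225490 = n223591 := d4_2 (iv7 F482633) D225490 (iv2 D223591)
theorem F530907 : act 1 n225490 = n221818 := d15_0 (iv0 F510929) (iv7 F482633) D225490
theorem F530908 : act 1 n223590 = n225490 := d15_0 F530907 (iv7 F530902) (iv2 F530900)
def n225491 : Q := act 7 n216040
theorem D225491 : act 7 n216040 = n225491 := rfl
theorem F530909 : act 2 n225491 = n217254 := d4_1 D225491 F488132 (iv2 F482634)
theorem F530910 : act 4 n225491 = n217259 := d11_1 D225491 F488155 (iv4 F482635)
theorem F530911 : act 6 n225491 = n223593 := d14_1 D225491 (iv7 D223593) (iv6 D204047) (iv7 F280046) D216040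
theorem F530912 : act 1 n223562 = n225491 := d15_1 (iv0 F520114) (iv7 D225491) F482634
theorem F530913 : act 1 n225491 = n223561 := d15_1 F530912 (iv7 F530361) F530357
def n225492 : Q := act 6 n216046
theorem D225492 : act 6 n216046 = n225492 := rfl
theorem F530914 : act 2 n225492 = n222576 := d3_1 D225492 F514982 (iv2 F500757)
theorem F530915 : act 3 n225492 = n221817 := d7_1 D225492 F520158 F520156
theorem F530916 : act 4 n225492 = n216047 := d10_1 D225492 (iv6 D216047) D216046
theorem F530917 : act 5 n225492 = n221061 := d21_6 F472875 (iv1 F245289) D197344 (iv6 F500759) (iv1 F500760) D225492 (iv1 D221061) D221062 F507050 (iv1 F472877)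
theorem F530918 : act 0 n225492 = n222630 := d21_10 (iv5 D222630) F503660 (iv5 F514974) (iv6 F516443) (iv1 D221882) (iv6 F510512) (iv5 D221723) D221721 F510502 D225492
theorem F530919 : act 7 n222574 = n225492 := d13_0 F530917 F507045 D222574
def n225493 : Q := act 4 n216110
theorem D225493 : act 4 n216110 = n225493 := rfl
theorem F530920 : act 2 n225493 = n224253 := d1_1 D225493 F523914 F509022
theorem F530921 : act 6 n225493 = n220462 := d10_2 (iv6 F483000) D225493 (iv4 D220462)
theorem F530922 : act 7 n225493 = n225363 := d11_2 (iv7 F483001) D225493 (iv4 D225363)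
theorem F530923 : act 5 n225493 = n224252 := d16_1 D225493 F523908 (iv5 F491734) (iv4 F473863) (iv5 D214176) (iv4 F433275) (iv5 F514316) F514320 F509022
theorem F530924 : act 0 n225493 = n225012 := d18_2 F483003 D225493 F528114 F464384 (iv4 F509937) (iv0 F509941) F476344 (iv0 F253665) D203679
def n225494 : Q := act 7 n216137
theorem D225494 : act 7 n216137 = n225494 := rfl
theorem F530925 : act 4 n225494 = n217314 := d11_1 D225494 (iv7 F501545) F501546
theorem F530926 : act 5 n225494 = n216632 := d13_1 D225494 F485267 (iv5 F483140)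
theorem F530927 : act 6 n225494 = n218214 := d14_1 D225494 F492757 (iv6 D216855) F288504 D216137
theorem F530928 : act 1 n216216 = n225494 := d15_1 (iv0 F484343) (iv7 D225494) (iv2 F484315)
theorem F530929 : act 1 n225494 = n220480 := d15_1 F530928 F503974 F488072
def n225495 : Q := act 1 n216144
theorem D225495 : act 1 n216144 = n225495 := rfl
theorem F530930 : act 1 n225495 = n216178 := d15_1 D225495 (iv7 F528174) F528171
theorem F530931 : act 7 n225495 = n216186 := d15_2 F489955 D225495 (iv2 F489952)
theorem F530932 : act 5 n225495 = n221778 := d17_7 (iv1 F403215) (iv5 F429193) (iv1 F429195) (iv5 F438191) (iv4 F507611) F507614 D225495 F510789 F482380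
theorem F530933 : act 4 n225495 = n216806 := d17_9 F485997 (iv5 D186610) (iv1 D88915) D88916 D186614 D216991 (iv0 F507613) F507614 D225495
theorem F530934 : act 6 n224654 = n225495 := d21_3 F526738 (iv1 F517080) (iv5 F526119) (iv1 D225495) (iv6 F526994) (iv5 D224810) (iv1 F458804) D210817 (iv6 F510946) F526739
theorem F530935 : act 2 n225495 = n216185 := d3_1 F530934 (iv6 F510950) F526120
theorem F530936 : act 3 n221779 = n225495 := d0_0 F530935 (iv3 F526338) F526337 (iv3 F529484) F529483
def n225496 : Q := act 0 n216152
theorem D225496 : act 0 n216152 = n225496 := rfl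
theorem F530937 : act 5 n225496 = n216425 := d17_1 D225496 (iv1 F485275) (iv5 F530283) F530282 F478218 (iv0 F466798) D224789 F526882 F487060
theorem F530938 : act 4 n225496 = n216278 := d18_3 F525454 F487060 D225496 (iv5 F521015) F521016 (iv0 F451102) (iv4 F491270) (iv0 F499460) (iv5 F525451)
theorem F530939 : act 3 n225496 = n220005 := d20_5 (iv4 F133513) (iv1 F133369) D181977 D216152 D225496 F501614 F468176 (iv4 D185284) F135188 (iv1 F133512)
theorem F530940 : act 6 n225496 = n217681 := d21_5 (iv5 F475576) F475578 (iv5 F470297) (iv6 F483207) D225496 (iv5 D217681) (iv1 F374793) D217995 F491597 (iv1 F487057)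
theorem F530941 : act 2 n225494 = n225496 := d15_3 (iv0 D225496) (iv0 F483208) D225494
theorem F530942 : act 1 n217242 = n225496 := d15_0 (iv0 D225496) (iv7 F483394) (iv2 F488072)
theorem F530943 : act 7 n225496 = n216424 := d15_2 (iv0 F488074) F530942 F484315
def n225497 : Q := act 5 n216153
theorem D225497 : act 5 n216153 = n225497 := rfl
theorem F530944 : act 3 n225497 = n223937 := d6_1 D225497 F522098 F511871
theorem F530945 : act 6 n225497 = n219062 := d12_2 (iv6 F511869) D225497 F496976 D223936 F522095
theorem F530946 : act 7 n225497 = n224461 := d13_2 F494636 D225497 F525113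
theorem F530947 : act 0 n225497 = n216793 := d17_2 F486976 D225497 (iv5 D216793) (iv4 D185495) (iv5 D88362) F293668 (iv5 F294040) (iv0 F367522) D217010
theorem F530948 : act 1 n225497 = n219607 := d17_6 D217098 F487400 (iv1 F370978) (iv5 F486706) F486710 D225497 (iv5 D219607) F485930 F485929
def n225498 : Q := act 2 n216154
theorem D225498 : act 2 n216154 = n225498 := rfl
theorem F530949 : act 4 n225498 = n216163 := d1_2 (iv4 F483209) D225498 (iv2 D216163)
theorem F530950 : act 6 n225498 = n221321 := d3_2 (iv6 F483210) D225498 F508365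
theorem F530951 : act 7 n225498 = n225308 := d4_2 F484049 D225498 F529849
theorem F530952 : act 1 n225498 = n222844 := d15_0 F516396 F484049 D225498
theorem F530953 : act 1 n222845 = n225498 := d15_0 F530952 F516395 (iv2 F516397)
def n225499 : Q := act 5 n216154
theorem D225499 : act 5 n216154 = n225499 := rfl
theorem F530954 : act 3 n225499 = n216155 := d6_1 D225499 (iv5 D216155) D216154
theorem F530955 : act 6 n225499 = n220299 := d12_2 (iv6 F483210) D225499 F503089 (iv6 D207027) (iv5 F442572)
theorem F530956 : act 4 n225499 = n220300 := d16_2 (iv4 F483209) D225499 F503093 (iv4 F400823) (iv5 F450275) F450274 (iv5 F475273) (iv7 F483252) (iv2 D216163)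
theorem F530957 : act 0 n225499 = n222889 := d17_2 F529760 D225499 (iv5 D222889) F421198 (iv5 F420497) (iv0 F508320) (iv5 F508562) (iv0 F508565) D225292
theorem F530958 : act 1 n225499 = n224925 := d17_6 (iv1 F421471) (iv5 F439820) F439822 F284758 (iv4 F483209) D225499 F527629 F516403 F490840
def n225500 : Q := act 1 n216155
theorem D225500 : act 1 n216155 = n225500 := rfl
theorem F530959 : act 7 n225500 = n224163 := d15_2 (iv0 F524141) D225500 (iv2 F524138)
theorem F530960 : act 5 n225500 = n218085 := d17_7 (iv1 F287769) (iv5 D88971) F66332 D86937 D182025 D216155 D225500 F492094 (iv4 D216768)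
theorem F530961 : act 4 n225500 = n223296 := d17_9 F518694 (iv5 D219309) (iv1 F447813) D224322 (iv4 F525149) F525150 (iv0 F454315) D216155 D225500
theorem F530962 : act 3 n224463 = n225500 := d19_19 (iv1 D225500) (iv5 D216155) (iv4 D182025) F133427 D86944 F133447 (iv4 F72229) F72226 F74809 (iv5 D47568) (iv4 F68119) F291556 (iv1 D47703) D47705 D102866 (iv3 F276208) D215669 D225444 F530657
theorem F530963 : act 6 n225500 = n223299 := d7_2 D224463 F530962 F518706
def n225501 : Q := act 6 n216167
theorem D225501 : act 6 n216167 = n225501 := rfl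
theorem F530964 : act 2 n225501 = n224099 := d3_1 D225501 (iv6 D224099) (iv2 F483268)
theorem F530965 : act 3 n225501 = n221005 := d7_1 D225501 (iv6 F523493) F523490
theorem F530966 : act 4 n225501 = n216168 := d10_1 D225501 (iv6 D216168) D216167
theorem F530967 : act 5 n225501 = n225379 := d12_1 D225501 (iv6 D225379) F478315 F468664 (iv5 F483269)
theorem F530968 : act 0 n224107 = n225501 := d21_4 (iv5 D129457) F207437 D206768 D224107 (iv6 D225501) F483269 (iv1 D205634) D205635 F437286 (iv1 F207625)
def n225502 : Q := act 0 n216170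
theorem D225502 : act 0 n216170 = n225502 := rfl
theorem F530969 : act 5 n225502 = n223223 := d17_1 D225502 (iv1 D223223) D223225 F518301 F510951 F455265 D224652 (iv0 F526972) F526971
theorem F530970 : act 4 n225502 = n221779 := d18_3 (iv1 F526973) F526971 D225502 (iv5 D221779) F472459 (iv0 D137068) (iv4 F220235) D209887 D224653
theorem F530971 : act 3 n225502 = n216807 := d20_5 (iv4 D204380) D204378 (iv4 F432301) (iv3 F483276) D225502 (iv4 D216807) F287794 D191431 F438516 (iv1 F432311)
theorem F530972 : act 6 n225502 = n216217 := d21_5 (iv5 D208914) (iv1 F389108) F389105 D216170 D225502 F484402 (iv1 F484422) (iv5 F519814) (iv6 D223509) (iv1 F451390)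
theorem F530973 : act 2 n224347 = n225502 := d15_3 (iv0 D225502) (iv0 F483277) (iv7 F524455)
theorem F530974 : act 1 n223227 = n225502 := d15_0 (iv0 D225502) (iv7 F493611) (iv2 F518311)
theorem F530975 : act 7 n225502 = n224348 := d15_2 (iv0 F518314) F530974 F524458
def n225503 : Q := act 5 n216171
theorem D225503 : act 5 n216171 = n225503 := rfl
theorem F530976 : act 2 n225503 = n218355 := d2_1 D225503 (iv5 F500794) F500791
theorem F530977 : act 3 n225503 = n225318 := d6_1 D225503 F529914 F520351
theorem F530978 : act 4 n225503 = n219570 := d9_1 D225503 F499500 (iv4 F488170) (iv5 D217261) F368997 (iv5 F367455) F483281 (iv5 F483961) F483960 (iv5 F286280) (iv4 F361894) (iv5 D100795) (iv4 F154890) (iv5 F383513) (iv4 F483278)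
theorem F530979 : act 6 n225503 = n222804 := d12_2 F483279 D225503 (iv5 F516542) F516545 F489243
theorem F530980 : act 7 n225503 = n217971 := d13_2 F483280 D225503 F491488
theorem F530981 : act 0 n225503 = n218196 := d17_2 D216171 D225503 F492652 (iv4 D217194) (iv5 D186994) F289456 (iv5 F388137) (iv0 F388140) F368418
theorem F530982 : act 1 n225503 = n218354 := d17_6 F504515 (iv5 D217262) F369003 (iv5 F383513) (iv4 F483278) D225503 F493472 F498699 (iv4 F504517)
def n225504 : Q := act 3 n216178
theorem D225504 : act 3 n216178 = n225504 := rfl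
theorem F530983 : act 4 n225504 = n225413 := d5_2 D216178 D225504 (iv3 D225413) (iv4 D215279) F356427
theorem F530984 : act 5 n225504 = n222054 := d6_2 F522357 D225504 (iv3 F522356)
theorem F530985 : act 6 n225504 = n221815 := d7_2 F514972 D225504 F514969
theorem F530986 : act 0 n225504 = n223573 := d19_4 F337273 D182151 D216178 D225504 F520157 F509724 (iv3 F493243) (iv1 F493247) (iv5 F493080) F493079 F376568 F421110 (iv5 D201604) (iv4 F363409) F156936 F329752 F310780 F127381 (iv3 F136854)
theorem F530987 : act 0 n224873 = n225504 := d20_4 F458867 D222866 F516482 (iv3 F527340) (iv3 D225504) (iv4 D216178) F388822 D220199 (iv3 F511024) F511025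
def n225505 : Q := act 6 n216180
theorem D225505 : act 6 n216180 = n225505 := rfl
theorem F530988 : act 2 n225505 = n221783 := d3_1 D225505 (iv6 F510797) F502604
theorem F530989 : act 3 n225505 = n216619 := d7_1 D225505 F485200 (iv3 F483301)
theorem F530990 : act 4 n225505 = n216181 := d10_1 D225505 (iv6 D216181) D216180
theorem F530991 : act 5 n225505 = n221744 := d12_1 D225505 (iv6 D221744) F429270 (iv6 F403991) (iv5 F483299)
theorem F530992 : act 0 n225505 = n221724 := d21_4 (iv5 F510546) F510545 (iv5 F483299) D225505 F510517 (iv5 D197231) D197230 D221727 (iv6 F510534) (iv1 F500617)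
theorem F530993 : act 1 n225505 = n221785 := d15_1 (iv0 F530992) (iv7 D221785) (iv2 F510515)
theorem F530994 : act 7 n221782 = n225505 := d13_0 F530991 F510626 (iv5 F510796)
def n225506 : Q := act 6 n216186
theorem D225506 : act 6 n216186 = n225506 := rfl
theorem F530995 : act 2 n225506 = n219522 := d3_1 D225506 F499267 F489952
theorem F530996 : act 3 n225506 = n224725 := d7_1 D225506 (iv6 F529491) F529490
theorem F530997 : act 4 n225506 = n219513 := d10_1 D225506 F499240 F483594
theorem F530998 : act 5 n225506 = n224813 := d12_1 D225506 F527014 F500155 D225107 F528682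
theorem F530999 : act 7 n225506 = n224822 := d14_2 F530931 D225506 F527057 (iv7 F526118) F530934
def n225507 : Q := act 2 n216187
theorem D225507 : act 2 n216187 = n225507 := rfl
theorem F531000 : act 4 n225507 = n216199 := d1_2 (iv4 F483309) D225507 (iv2 D216199)
theorem F531001 : act 1 n221786 = n225507 := d17_8 F485390 (iv5 D216669) (iv1 D185148) (iv5 F283643) (iv4 F483388) (iv5 F501098) (iv0 F501097) D221786 F531000
def n225508 : Q := act 6 n216187
theorem D225508 : act 6 n216187 = n225508 := rfl
theorem F531002 : act 3 n225508 = n216189 := d7_1 D225508 (iv6 D216189) D216187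
theorem F531003 : act 4 n225508 = n216200 := d10_1 D225508 (iv6 D216200) (iv4 F483309)
theorem F531004 : act 5 n225508 = n225006 := d12_1 D225508 (iv6 F528084) (iv5 F530130) F530131 F507084
theorem F531005 : act 0 n224822 = n225508 := d17_2 (iv1 D224821) D224822 F531004 F528080 F500398 F486998 F465375 D222186 (iv4 F527052)
theorem F531006 : act 1 n219522 = n225508 := d17_6 F503362 (iv5 F519063) F519067 (iv5 F454885) D224606 F525893 F531004 (iv0 D225006) F464134
def n225509 : Q := act 5 n216189
theorem D225509 : act 5 n216189 = n225509 := rfl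
theorem F531007 : act 2 n225509 = n221814 := d2_1 D225509 (iv5 F514968) F514971
theorem F531008 : act 3 n225509 = n225006 := d6_1 D225509 (iv5 F531004) F531002
theorem F531009 : act 6 n225509 = n225108 := d12_2 D216189 D225509 F528686 F483311 (iv5 D216188)
theorem F531010 : act 7 n225509 = n220412 := d13_2 F514973 D225509 (iv5 F514974)
theorem F531011 : act 4 n225509 = n220414 := d16_2 (iv4 F483313) D225509 (iv5 F512504) F512502 (iv5 F513491) F513492 D224489 F525263 F483297
theorem F531012 : act 1 n225509 = n222511 := d17_8 (iv1 F514994) F514992 (iv1 F514585) F514582 (iv4 F415503) (iv5 F514977) (iv0 F514978) D225509 F514637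
theorem F531013 : act 1 n221730 = n225509 := d15_0 F531012 F514638 (iv2 F510548)
def n225510 : Q := act 4 n216197
theorem D225510 : act 4 n216197 = n225510 := rfl
theorem F531014 : act 2 n225510 = n221792 := d1_1 D225510 F510827 F485387
theorem F531015 : act 6 n225510 = n221077 := d10_2 (iv6 F510959) D225510 (iv4 F510958)
theorem F531016 : act 5 n225510 = n221821 := d16_5 (iv4 F500926) (iv5 F500474) (iv4 D216609) (iv5 F483338) D225510 (iv4 F529561) F529562 (iv7 F529144) (iv2 F529142)
theorem F531017 : act 3 n225510 = n221822 := d19_3 D185041 (iv5 F483338) D225510 (iv1 F511109) (iv5 D221861) (iv4 F422644) (iv3 D201992) F179589 D115326 F369580 (iv3 D183778) (iv1 D87683) (iv5 D40847) F30911 F30910 F17307 D22822 F337961 (iv3 F135140)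
theorem F531018 : act 0 n224819 = n225510 := d17_2 F526677 D224819 F531016 (iv4 F529561) F529562 F504868 (iv5 F485116) (iv0 F514163) (iv4 F526676)
def n225511 : Q := act 4 n216198
theorem D225511 : act 4 n216198 = n225511 := rfl
theorem F531019 : act 3 n225511 = n219818 := d5_1 D225511 (iv4 D219818) (iv3 F386371) D204115 F483339
theorem F531020 : act 7 n225511 = n221792 := d11_2 F485388 D225511 F510827
theorem F531021 : act 5 n225511 = n219857 := d16_1 D225511 F500916 D219859 (iv4 F500926) (iv5 F500474) (iv4 D216609) (iv5 F483338) (iv7 F485378) F485376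
theorem F531022 : act 0 n225511 = n224819 := d21_1 (iv5 F531021) (iv5 D224819) (iv6 F472233) F501213 (iv6 D216534) D216533 (iv1 F501299) F501301 (iv6 F513836) (iv1 F513837)
def n225512 : Q := act 3 n216203
theorem D225512 : act 3 n216203 = n225512 := rfl
theorem F531023 : act 2 n225512 = n224761 := d0_1 D225512 F526724 F482634 F430866 (iv2 F483357)
theorem F531024 : act 5 n225512 = n223221 := d6_2 (iv5 F483358) D225512 F518280
theorem F531025 : act 6 n225512 = n225490 := d7_2 F520179 D225512 F530903
theorem F531026 : act 7 n225512 = n225413 := d8_2 (iv7 F483359) D225512 (iv3 D225413)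
def n225513 : Q := act 3 n216207
theorem D225513 : act 3 n216207 = n225513 := rfl
theorem F531027 : act 4 n225513 = n219441 := d5_2 D216207 D225513 (iv3 D219441) F383543 (iv3 F383070)
theorem F531028 : act 0 n225513 = n223585 := d19_4 (iv1 F287419) F287416 D216207 D225513 F520203 F509576 (iv3 F481959) (iv1 F518609) F518612 (iv4 D214472) F251198 F178533 (iv5 F368424) (iv4 D186891) (iv3 F289463) (iv1 F289465) (iv5 F344225) (iv4 F344228) F339711
theorem F531029 : act 0 n223869 = n225513 := d20_4 (iv4 F520450) F520451 F493229 (iv3 F521742) (iv3 D225513) (iv4 D216207) (iv1 F287441) D216617 F526568 (iv1 D224731)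
def n225514 : Q := act 6 n216207
theorem D225514 : act 6 n216207 = n225514 := rfl
theorem F531030 : act 2 n225514 = n216212 := d3_1 D225514 (iv6 D216212) (iv2 F483378)
theorem F531031 : act 4 n225514 = n216208 := d10_1 D225514 (iv6 D216208) D216207
theorem F531032 : act 5 n225514 = n225165 := d12_1 D225514 F528991 (iv5 D221695) (iv6 F510336) F510335
def n225515 : Q := act 0 n216208
theorem D225515 : act 0 n216208 = n225515 := rfl
theorem F531033 : act 5 n225515 = n219993 := d17_3 F491566 (iv5 F483381) D225515 F501558 F492964 F388261 (iv5 F493160) F493163 (iv4 F491564)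
theorem F531034 : act 3 n225515 = n219994 := d20_5 (iv4 F524516) F524517 F498897 F498587 D225515 F501560 (iv1 F490661) (iv4 F482580) F482579 (iv1 F449368)
theorem F531035 : act 2 n216213 = n225515 := d15_3 (iv0 D225515) (iv0 F524763) (iv7 F524765)
theorem F531036 : act 1 n216215 = n225515 := d15_0 (iv0 D225515) (iv7 F529050) F529047
theorem F531037 : act 7 n225515 = n216214 := d15_2 F524764 F531036 (iv2 F524760)
def n225516 : Q := act 0 n216211
theorem D225516 : act 0 n216211 = n225516 := rfl
theorem F531038 : act 4 n225516 = n219434 := d18_1 D225516 F528664 F511004 (iv5 D221841) (iv4 F411870) F457466 (iv4 F526508) F526511 F501098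
def n225517 : Q := act 2 n216211
theorem D225517 : act 2 n216211 = n225517 := rfl
theorem F531039 : act 4 n225517 = n216219 := d1_2 (iv4 F483388) D225517 (iv2 D216219)
theorem F531040 : act 5 n225517 = n224720 := d2_2 F501098 D225517 F526504
def n225518 : Q := act 6 n216211
theorem D225518 : act 6 n216211 = n225518 := rfl
theorem F531041 : act 3 n225518 = n216212 := d7_1 D225518 (iv6 D216212) D216211
theorem F531042 : act 4 n225518 = n216215 := d10_1 D225518 F483392 (iv4 F483388)
theorem F531043 : act 5 n225518 = n225147 := d12_1 D225518 F528919 (iv5 D219897) D219898 F501098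
theorem F531044 : act 7 n225518 = n216212 := d14_2 F485176 D225518 (iv6 D216212) (iv7 F287443) (iv6 F485175)
def n225519 : Q := act 0 n216212
theorem D225519 : act 0 n216212 = n225519 := rfl
theorem F531045 : act 4 n225519 = n217654 := d18_3 (iv1 D216214) (iv4 F483389) D225519 F529265 (iv4 D225211) F492863 (iv4 F524843) (iv0 D224417) (iv5 F483390)
def n225520 : Q := act 1 n216212
theorem D225520 : act 1 n216212 = n225520 := rfl
theorem F531046 : act 5 n225520 = n223413 := d17_7 (iv1 F528030) (iv5 D224993) F464084 F464081 (iv4 F519273) F519272 D225520 F528056 F528054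
theorem F531047 : act 6 n225007 = n225520 := d21_3 F520208 F464136 D225007 (iv1 D225520) (iv6 D216212) F472060 (iv1 F503259) (iv5 F503258) (iv6 F499267) F520209
theorem F531048 : act 3 n225520 = n223416 := d7_1 F531047 F519341 (iv3 F528085)
def n225521 : Q := act 4 n216213
theorem D225521 : act 4 n216213 = n225521 := rfl
theorem F531049 : act 6 n225521 = n223398 := d10_2 (iv6 F503759) D225521 F519270
theorem F531050 : act 5 n225521 = n223397 := d16_1 D225521 F519267 (iv5 D221034) F396599 D197852 (iv4 F450736) (iv5 F483390) (iv7 F531037) (iv2 F531035)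
theorem F531051 : act 3 n223401 = n225521 := d6_3 F531050 F519266 D223401
def n225522 : Q := act 4 n216214
theorem D225522 : act 4 n216214 = n225522 := rfl
theorem F531052 : act 6 n225522 = n221775 := d10_2 (iv6 F524430) D225522 F524428
theorem F531053 : act 3 n225522 = n221795 := d19_3 F471714 (iv5 F483390) D225522 F519342 (iv5 D223416) F427537 F404014 (iv1 F396841) (iv5 D195371) (iv4 F162081) (iv3 F111281) F78221 F48674 (iv4 F78160) (iv3 F164909) F366454 (iv5 F436710) (iv4 F450700) (iv3 F471713)
def n225523 : Q := act 4 n216217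
theorem D225523 : act 4 n216217 = n225523 := rfl
theorem F531054 : act 6 n225523 = n221779 := d10_2 F530972 D225523 (iv4 F530970)
theorem F531055 : act 7 n225523 = n224823 := d11_2 (iv7 F485169) D225523 F527060
theorem F531056 : act 5 n225523 = n224818 := d16_7 F526676 F514161 (iv4 F485311) (iv5 F485314) F484418 (iv5 F484402) D225523 (iv7 F527995) F527992
theorem F531057 : act 0 n225523 = n222367 := d17_0 (iv5 D222367) F510701 (iv5 F510828) F510827 (iv5 D216669) F364076 D216598 (iv0 F485122) D225523
theorem F531058 : act 3 n225523 = n224654 := d19_3 D185228 (iv5 F484402) D225523 (iv1 D224654) (iv5 D209888) F220235 F100355 D74262 D156121 (iv4 F359517) F285548 (iv1 F160578) (iv5 F283700) F283699 (iv3 D182257) F133556 (iv5 D41192) D41191 D88265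
theorem F531059 : act 1 n225523 = n224824 := d15_1 (iv0 F531057) F527063 (iv2 F513831)
def n225524 : Q := act 4 n216218
theorem D225524 : act 4 n216218 = n225524 := rfl
theorem F531060 : act 2 n225524 = n224823 := d1_1 D225524 F527060 (iv2 F485167)
theorem F531061 : act 3 n225524 = n219815 := d5_1 D225524 (iv4 D219815) F386366 D204110 F483395
theorem F531062 : act 6 n225524 = n224724 := d10_2 F516408 D225524 F526524
theorem F531063 : act 5 n225524 = n224752 := d16_1 D225524 F526676 F514161 (iv4 F485311) (iv5 F485314) F484418 (iv5 F484402) F485169 (iv2 F485167)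
theorem F531064 : act 1 n225524 = n222367 := d18_8 F510701 F510698 (iv1 F500928) (iv4 F501095) F501098 F483388 D216218 D225524 (iv5 D222367)
theorem F531065 : act 0 n225524 = n224824 := d21_7 (iv5 F464155) (iv1 D212055) (iv5 F386768) (iv6 F386767) D210573 D224752 (iv5 F531063) F527062 (iv6 D219901) (iv1 F386703)
def n225525 : Q := act 0 n216222
theorem D225525 : act 0 n216222 = n225525 := rfl
theorem F531066 : act 5 n225525 = n225402 := d17_3 F529650 F529647 D225525 F530411 F520818 F502997 (iv5 F478903) (iv0 D215213) (iv4 F478898)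
theorem F531067 : act 4 n225525 = n219440 := d18_1 D225525 (iv1 F504743) (iv4 F530817) F530818 F482643 F482659 (iv4 F520163) F529651 F529647
theorem F531068 : act 3 n225525 = n219438 := d20_5 (iv4 D216202) F335674 D182204 D216222 D225525 F498881 D219439 (iv4 F520082) (iv3 D223554) (iv1 F483356)
theorem F531069 : act 6 n225525 = n219437 := d21_5 (iv5 F520101) (iv1 F520103) F473524 F483405 D225525 (iv5 F520419) (iv1 F520422) (iv5 F520178) F520179 F483360
theorem F531070 : act 2 n224892 = n225525 := d15_3 (iv0 D225525) (iv0 F524544) (iv7 F527449)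
theorem F531071 : act 7 n225525 = n225277 := d4_2 (iv7 F527449) F531070 F529663
def n225526 : Q := act 3 n216223
theorem D225526 : act 3 n216223 = n225526 := rfl
theorem F531072 : act 4 n225526 = n223332 := d5_2 F520170 D225526 F518903 D223626 F520406
theorem F531073 : act 5 n225526 = n216681 := d6_2 (iv5 F483407) D225526 (iv3 D216681)
theorem F531074 : act 6 n225526 = n220440 := d7_2 (iv6 F483406) D225526 (iv3 F503797)
theorem F531075 : act 7 n225526 = n224757 := d8_2 F483408 D225526 F526702
theorem F531076 : act 2 n225526 = n223335 := d15_3 (iv0 F518996) (iv0 F526704) (iv7 F531075)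
def n225527 : Q := act 3 n216224
theorem D225527 : act 3 n216224 = n225527 := rfl
theorem F531077 : act 2 n225527 = n219434 := d0_1 D225527 (iv3 D219434) (iv2 F479488) (iv3 F485762) F485761
theorem F531078 : act 5 n225527 = n216699 := d6_2 F484495 D225527 (iv3 D216699)
theorem F531079 : act 0 n225527 = n216239 := d19_4 (iv1 F426406) (iv5 F518881) F518880 D225527 (iv5 F500572) F500571 F472815 F504141 F504139 F485329 (iv3 F386598) F386596 F354883 (iv4 F177018) (iv3 F371486) F371490 F370420 (iv4 F426887) (iv3 D203075)
def n225528 : Q := act 0 n216227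
theorem D225528 : act 0 n216227 = n225528 := rfl
theorem F531080 : act 5 n225528 = n221269 := d17_1 D225528 (iv1 F508071) (iv5 F485800) F485799 (iv5 F290038) (iv0 F371866) D217793 (iv0 F490659) (iv4 F483416)
theorem F531081 : act 4 n225528 = n217987 := d18_3 D216001 (iv4 F483416) D225528 (iv5 D217987) (iv4 F387656) (iv0 D192750) F371868 (iv0 D179748) D179750
theorem F531082 : act 6 n225528 = n224524 := d21_5 (iv5 D216796) (iv1 D185498) (iv5 F283651) D216227 D225528 F525461 F489877 D224583 F525764 (iv1 F485944)
theorem F531083 : act 2 n217657 = n225528 := d15_3 (iv0 D225528) (iv0 F491403) F491402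
theorem F531084 : act 1 n219413 = n225528 := d15_0 (iv0 D225528) F483418 (iv2 F498775)
theorem F531085 : act 7 n225528 = n219425 := d15_2 F498779 F531084 (iv2 F498833)
def n225529 : Q := act 3 n216229
theorem D225529 : act 3 n216229 = n225529 := rfl
theorem F531086 : act 2 n225529 = n225276 := d0_1 D225529 F529658 F473546 (iv3 F526798) F526797
theorem F531087 : act 4 n225529 = n217316 := d5_2 F501952 D225529 F488396 (iv4 F388081) (iv3 F501951)
theorem F531088 : act 5 n225529 = n216697 := d6_2 (iv5 F484477) D225529 (iv3 D216697)
theorem F531089 : act 6 n225529 = n225275 := d7_2 F498803 D225529 F529653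
theorem F531090 : act 7 n225529 = n217313 := d8_2 F525649 D225529 (iv3 F525646)
theorem F531091 : act 0 n225529 = n219436 := d19_4 F432093 D220068 F501952 D225529 F498877 F484307 D225195 F529167 F520539 (iv4 F526508) F526507 (iv1 D221768) D221769 (iv4 F525257) F525256 (iv1 F525484) F525486 (iv4 F484925) F484924
theorem F531092 : act 0 n216234 = n225529 := d21_4 (iv5 D213018) (iv1 F371859) (iv5 F490457) (iv6 F490461) F531089 (iv5 D225275) (iv1 F473537) D223232 F518334 (iv1 F490661)
def n225530 : Q := act 3 n216233
theorem D225530 : act 3 n216233 = n225530 := rfl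
theorem F531093 : act 7 n225530 = n216239 := d8_2 F483433 D225530 (iv3 D216239)
theorem F531094 : act 0 n225530 = n219434 := d19_4 F441004 (iv5 F491407) F491406 D225530 (iv5 F528661) F528660 F469540 (iv1 F469539) (iv5 F485324) F485323 F422677 (iv1 F361010) (iv5 F423349) (iv4 F437166) F437163 F410150 F226998 (iv4 F328737) (iv3 F431898)
def n225531 : Q := act 7 n216234
theorem D225531 : act 7 n216234 = n225531 := rfl
theorem F531095 : act 2 n225531 = n219436 := d4_1 D225531 (iv7 F501425) F501424
theorem F531096 : act 3 n225531 = n216238 := d8_1 D225531 (iv7 D216238) D216234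
theorem F531097 : act 4 n225531 = n224522 := d11_1 D225531 F525453 F501676
theorem F531098 : act 5 n225531 = n219353 := d13_1 D225531 (iv7 F528522) F528523
theorem F531099 : act 6 n225531 = n219354 := d14_1 D225531 F498433 (iv6 F427405) (iv7 F490456) (iv6 F490461)
theorem F531100 : act 1 n217313 = n225531 := d15_1 (iv0 F501426) (iv7 D225531) (iv2 F501424)
theorem F531101 : act 1 n225531 = n225276 := d15_1 F531100 F529661 F526766
def n225532 : Q := act 3 n216240
theorem D225532 : act 3 n216240 = n225532 := rfl
theorem F531102 : act 2 n225532 = n216994 := d0_1 D225532 F486901 (iv2 F525369) F525370 (iv2 F499272)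
theorem F531103 : act 5 n225532 = n217633 := d6_2 (iv5 F483828) D225532 (iv3 F489870)
theorem F531104 : act 7 n225532 = n216993 := d8_2 F491408 D225532 F491409
theorem F531105 : act 0 n225532 = n216995 := d19_4 (iv1 F496693) (iv5 D216241) D216240 D225532 (iv5 F492731) (iv4 F511428) F511427 (iv1 D219477) F410532 F410530 F171811 D110910 D199078 F410558 F356846 F427113 (iv5 F501347) F501346 (iv3 F496690)
theorem F531106 : act 0 n216996 = n225532 := d20_4 F292675 F291673 (iv4 F367450) (iv3 F486903) (iv3 D225532) (iv4 D216240) (iv1 D182216) (iv4 F137146) (iv3 D89483) D89481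
def n225533 : Q := act 6 n216244
theorem D225533 : act 6 n216244 = n225533 := rfl
theorem F531107 : act 2 n225533 = n216246 := d3_1 D225533 (iv6 D216246) (iv2 F483448)
theorem F531108 : act 3 n225533 = n216706 := d7_1 D225533 (iv6 D216706) (iv3 F483449)
theorem F531109 : act 4 n225533 = n217579 := d10_1 D225533 F489604 (iv4 F483450)
theorem F531110 : act 5 n225533 = n220660 := d12_1 D225533 F525633 F525627 F483284 D216244
theorem F531111 : act 7 n225533 = n217977 := d14_2 (iv7 F483451) D225533 F491519 (iv7 F471261) F471260
theorem F531112 : act 0 n225533 = n222868 := d21_4 F495166 F483454 D216244 D225533 F516494 F471440 F251058 D213781 (iv6 F472063) F495168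
theorem F531113 : act 0 n220468 = n225533 := d21_4 F483938 (iv1 F491187) F491184 D220468 (iv6 D225533) (iv5 D216244) (iv1 F483459) (iv5 F496683) F496685 (iv1 D216800)
def n225534 : Q := act 1 n216280
theorem D225534 : act 1 n216280 = n225534 := rfl
theorem F531114 : act 1 n225534 = n218357 := d15_1 D225534 F493482 F487880
theorem F531115 : act 7 n225534 = n216318 := d15_2 (iv0 F499419) D225534 (iv2 F499415)
theorem F531116 : act 5 n225534 = n224558 := d17_7 F491819 (iv5 D202665) D202663 (iv5 F491472) F491476 F484659 D225534 (iv0 F525625) (iv4 F491817)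
theorem F531117 : act 4 n225534 = n220648 := d17_9 F504786 (iv5 D220596) (iv1 D193974) F157447 (iv4 F383520) (iv5 F491488) (iv0 F491489) F484659 D225534
theorem F531118 : act 3 n224828 = n225534 := d19_19 (iv1 D225534) (iv5 F484659) (iv4 F491476) (iv3 F491473) F489592 F489589 (iv4 F499964) F499963 F504225 F504226 (iv4 F482528) F457038 (iv1 F519080) F519077 (iv4 F527013) (iv3 D224813) (iv1 F458832) (iv5 F458873) (iv4 F527082)
theorem F531119 : act 6 n220647 = n225534 := d21_3 (iv5 F455439) F480781 (iv5 F504780) (iv1 D225534) F483608 F470216 F443304 (iv5 F443305) F488068 (iv1 D217240)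
theorem F531120 : act 2 n225534 = n224560 := d3_1 F531119 (iv6 F530798) F530795
def n225535 : Q := act 6 n216314
theorem D225535 : act 6 n216314 = n225535 := rfl
theorem F531121 : act 2 n225535 = n224780 := d3_1 D225535 F526835 F483794
theorem F531122 : act 3 n225535 = n223233 := d7_1 D225535 F518338 F483797
theorem F531123 : act 4 n225535 = n224741 := d10_1 D225535 F526618 (iv4 F483793)
theorem F531124 : act 5 n225535 = n223644 := d12_1 D225535 (iv6 D223644) (iv5 D204252) D204253 (iv5 F483792)
theorem F531125 : act 7 n225535 = n224781 := d14_2 (iv7 F483796) D225535 (iv6 F526840) (iv7 F488064) (iv6 F488068)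
theorem F531126 : act 0 n225535 = n224782 := d21_4 F498687 F478912 (iv5 F483792) D225535 F526845 F483430 (iv1 F483463) (iv5 F498702) (iv6 D219400) D219398
theorem F531127 : act 0 n223661 = n225535 := d21_4 (iv5 F501551) F505865 F505860 (iv6 F520596) (iv6 D225535) F483792 F451370 (iv5 F498693) (iv6 F498697) F498698
def n225536 : Q := act 3 n216321
theorem D225536 : act 3 n216321 = n225536 := rfl
theorem F531128 : act 5 n225536 = n220441 := d6_2 (iv5 F483825) D225536 (iv3 D220441)
theorem F531129 : act 6 n225536 = n225532 := d7_2 (iv6 F483824) D225536 (iv3 D225532)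
theorem F531130 : act 0 n225536 = n224582 := d19_4 (iv1 F287657) F287658 D216321 D225536 F525761 F504491 F479498 (iv1 F381883) (iv5 F379318) F379317 (iv3 F379255) (iv1 F492265) F492267 (iv4 D189292) (iv3 F251697) (iv1 F283738) (iv5 F288144) (iv4 F290945) F290944
theorem F531131 : act 0 n219821 = n225536 := d20_4 F454911 (iv1 F392075) (iv4 F492837) (iv3 F500751) (iv3 D225536) (iv4 D216321) (iv1 D182931) D182932 D216322 F483833
def n225537 : Q := act 0 n216323
theorem D225537 : act 0 n216323 = n225537 := rfl
theorem F531132 : act 5 n225537 = n219683 := d17_1 D225537 (iv1 D219683) F385196 D217225 (iv5 F488015) (iv0 D202516) D202518 (iv0 F501374) F501373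
theorem F531133 : act 4 n225537 = n223661 := d18_1 D225537 F531127 F531123 (iv5 D224741) F490601 (iv0 D217782) F371835 D188145 (iv5 F483835)
theorem F531134 : act 3 n225537 = n217143 := d20_5 (iv4 D153670) F308337 D182945 D216323 D225537 (iv4 D217143) (iv1 F486298) F486301 (iv3 D214233) F351881
theorem F531135 : act 6 n225537 = n216866 := d21_5 F388119 F387883 F287519 (iv6 F483836) D225537 (iv5 F504533) F504532 (iv5 F487863) (iv6 F487865) F390973
theorem F531136 : act 1 n217912 = n225537 := d15_0 (iv0 D225537) F483837 (iv2 F491223)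
theorem F531137 : act 2 n217199 = n225537 := d3_3 F531135 (iv2 F486302) D217199
theorem F531138 : act 7 n217202 = n225537 := d14_0 F531135 F486299 F368419 (iv7 F368793) (iv6 F487909)
def n225538 : Q := act 1 n216323
theorem D225538 : act 1 n216323 = n225538 := rfl
theorem F531139 : act 1 n225538 = n217912 := d15_1 D225538 (iv7 F503978) F503976
theorem F531140 : act 7 n225538 = n217199 := d15_2 (iv0 D225537) D225538 F531137
theorem F531141 : act 5 n225538 = n219010 := d17_7 F499927 F463244 F480028 (iv5 F480029) F461097 (iv5 F483835) D225538 (iv0 F496666) (iv4 F499925)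
theorem F531142 : act 4 n225538 = n224782 := d17_9 F530543 F530540 F503315 (iv5 F486279) F486278 (iv5 F293924) D188145 (iv5 F483835) D225538
theorem F531143 : act 3 n224385 = n225538 := d19_19 (iv1 D225538) F483835 (iv4 F461097) F461096 (iv1 F224859) D141944 F460057 F460053 (iv1 F402259) F228343 F104285 F101616 (iv1 F166278) (iv5 F206954) (iv4 F217091) (iv3 F371191) F489915 F489913 (iv4 F524648)
theorem F531144 : act 6 n217204 = n225538 := d21_3 F371232 D191701 (iv5 F487919) (iv1 D225538) F483836 (iv5 F287519) (iv1 F480638) (iv5 F487667) F487668 F394479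
theorem F531145 : act 2 n225538 = n217202 := d3_1 F531144 F487909 D217204
def n225539 : Q := act 6 n216340
theorem D225539 : act 6 n216340 = n225539 := rfl
theorem F531146 : act 2 n225539 = n222485 := d3_1 D225539 F514472 (iv2 F483921)
theorem F531147 : act 3 n225539 = n222429 := d7_1 D225539 F514170 (iv3 F483922)
theorem F531148 : act 4 n225539 = n216341 := d10_1 D225539 (iv6 D216341) D216340
theorem F531149 : act 5 n225539 = n222428 := d12_1 D225539 F514165 F504403 F504399 (iv5 F483923)
theorem F531150 : act 7 n225539 = n223803 := d14_2 (iv7 F483924) D225539 F521366 F469084 F454150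
theorem F531151 : act 0 n225539 = n223804 := d21_4 F367947 F435043 (iv5 F483923) D225539 F521370 F493472 (iv1 F525638) (iv5 D224560) (iv6 D209578) F367948
theorem F531152 : act 0 n223802 = n225539 := d21_4 (iv5 D153944) (iv1 F354628) D204935 D223802 (iv6 D225539) F483923 F435042 D209497 F453925 F394193
def n225540 : Q := act 5 n216371
theorem D225540 : act 5 n216371 = n225540 := rfl
theorem F531153 : act 3 n225540 = n218590 := d6_1 D225540 (iv5 D218590) (iv3 F484047)
theorem F531154 : act 6 n225540 = n224069 := d12_2 (iv6 F484048) D225540 (iv5 D224069) (iv6 D206582) F421756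
theorem F531155 : act 7 n225540 = n225499 := d13_2 (iv7 F484049) D225540 (iv5 D225499)
theorem F531156 : act 4 n225540 = n221865 := d16_2 D216371 D225540 (iv5 D221865) F404423 F461374 (iv4 F484030) F484031 F483252 F475272
theorem F531157 : act 0 n225540 = n223498 := d17_2 F516399 D225540 F519755 F516309 F421200 D212891 (iv5 F467980) (iv0 F467981) D222845
theorem F531158 : act 1 n225540 = n222458 := d17_6 F179073 (iv5 F365001) (iv1 D183159) D183161 D216371 D225540 F514322 (iv0 F421570) F420086
def n225541 : Q := act 4 n216383
theorem D225541 : act 4 n216383 = n225541 := rfl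
theorem F531159 : act 2 n225541 = n224677 := d1_1 D225541 F526246 (iv2 F484111)
theorem F531160 : act 3 n225541 = n224225 := d5_1 D225541 F523753 (iv3 D214911) F332552 D216383
theorem F531161 : act 5 n225541 = n224225 := d9_2 (iv5 F484112) D225541 F523753 F477395 (iv4 D186976) (iv5 D89431) (iv4 F137102) (iv5 F365325) (iv4 F456097) (iv5 F456098) (iv4 D207605) (iv5 F445060) F445059 (iv5 F367298) (iv4 F408298)
theorem F531162 : act 6 n225541 = n222213 := d10_2 (iv6 F484113) D225541 (iv4 D222213)
theorem F531163 : act 7 n225541 = n224675 := d11_2 (iv7 F484114) D225541 F526239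
theorem F531164 : act 0 n225541 = n218440 := d18_2 F484116 D225541 F493906 F477857 F449401 F352571 F355350 (iv0 F366649) D189845
theorem F531165 : act 1 n225541 = n218409 := d18_6 (iv1 F368720) (iv4 D186973) (iv1 F367307) (iv4 F408298) (iv5 F484112) D225541 F493744 F478026 (iv5 D186982)
def n225542 : Q := act 7 n216420
theorem D225542 : act 7 n216420 = n225542 := rfl
theorem F531166 : act 2 n225542 = n223343 := d4_1 D225542 F518965 (iv2 F484297)
theorem F531167 : act 3 n225542 = n216425 := d8_1 D225542 (iv7 D216425) (iv3 F484298)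
theorem F531168 : act 4 n225542 = n220477 := d11_1 D225542 F503955 (iv4 F484299)
theorem F531169 : act 5 n225542 = n220005 := d13_1 D225542 (iv7 F520360) F520356
theorem F531170 : act 6 n225542 = n220006 := d14_1 D225542 F501616 (iv6 D218215) F374836 D216420
theorem F531171 : act 1 n216610 = n225542 := d15_1 (iv0 F485163) (iv7 D225542) F484297
theorem F531172 : act 1 n225542 = n223344 := d15_1 F531171 (iv7 D223344) (iv2 F485160)
def n225543 : Q := act 5 n216429
theorem D225543 : act 5 n216429 = n225543 := rfl
theorem F531173 : act 2 n225543 = n223621 := d2_1 D225543 F520377 F498459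
theorem F531174 : act 3 n225543 = n217071 := d6_1 D225543 F487257 (iv3 F484332)
theorem F531175 : act 4 n225543 = n223250 := d9_1 D225543 (iv5 D223250) (iv4 F460598) (iv5 F513817) F513816 F471453 (iv4 F481459) F481460 (iv4 F520369) F520370 (iv4 F516556) F516557 F428124 F386803 (iv4 F484333)
theorem F531176 : act 6 n225543 = n217303 := d12_2 D216429 D225543 F488349 (iv6 F484330) (iv5 D216428)
theorem F531177 : act 7 n225543 = n223546 := d13_2 F484479 D225543 F520038
theorem F531178 : act 0 n225543 = n223620 := d17_2 F484334 D225543 (iv5 F520373) F519960 F519521 (iv0 F510464) F458261 (iv0 D210628) D210630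
theorem F531179 : act 1 n225543 = n223560 := d17_6 F471293 (iv5 F493586) F493589 F386803 (iv4 F484333) D225543 F520105 (iv0 F519467) F519464
def n225544 : Q := act 3 n216452
theorem D225544 : act 3 n216452 = n225544 := rfl
theorem F531180 : act 2 n225544 = n224797 := d0_1 D225544 (iv3 F530610) (iv2 F530612) (iv3 D216682) F484442
theorem F531181 : act 4 n225544 = n223470 := d5_2 F526481 D225544 (iv3 F527193) (iv4 F530765) F530762
theorem F531182 : act 5 n225544 = n224757 := d6_2 (iv5 F484440) D225544 F526702
theorem F531183 : act 6 n225544 = n222034 := d7_2 (iv6 F484439) D225544 F512000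
theorem F531184 : act 7 n225544 = n216681 := d8_2 F484443 D225544 (iv3 D216681)
theorem F531185 : act 0 n225544 = n223722 := d19_4 D223024 (iv5 F526482) F526481 D225544 F520914 (iv4 D223348) F486295 (iv1 F486293) (iv5 D186872) (iv4 F368387) F368386 F335522 D103157 D194291 (iv3 F460862) (iv1 F476764) F476762 F422786 (iv3 F422781)
theorem F531186 : act 0 n225269 = n225544 := d20_4 (iv4 F157104) D193757 D220471 (iv3 F529619) (iv3 D225544) (iv4 F526481) F526483 F481505 (iv3 F421399) F426816
def n225545 : Q := act 7 n216464
theorem D225545 : act 7 n216464 = n225545 := rfl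
theorem F531187 : act 2 n225545 = n216775 := d4_1 D225545 (iv7 D216775) (iv2 F484499)
theorem F531188 : act 3 n225545 = n223178 := d8_1 D225545 F518042 F500593
theorem F531189 : act 4 n225545 = n224808 := d11_1 D225545 (iv7 D224808) (iv4 F484500)
theorem F531190 : act 5 n225545 = n219497 := d13_1 D225545 (iv7 D219497) (iv5 F484501)
theorem F531191 : act 6 n225545 = n216772 := d14_1 D225545 (iv7 D216772) (iv6 D185480) (iv7 F285727) D216464
theorem F531192 : act 1 n216774 = n225545 := d15_1 D216774 (iv7 D225545) F484499
theorem F531193 : act 1 n225545 = n216743 := d15_1 F531192 (iv7 F529130) F529126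
def n225546 : Q := act 5 n216486
theorem D225546 : act 5 n216486 = n225546 := rfl
theorem F531194 : act 2 n225546 = n219699 := d2_1 D225546 (iv5 D219699) (iv2 F484626)
theorem F531195 : act 3 n225546 = n216736 := d6_1 D225546 F485697 (iv3 F484627)
theorem F531196 : act 4 n225546 = n216734 := d9_1 D225546 (iv5 F485689) (iv4 F484575) (iv5 F493289) F493288 F458515 (iv4 F498414) F498417 (iv4 F500125) (iv5 D219699) F385336 (iv5 F372251) (iv4 F393964) F393965 D216486
theorem F531197 : act 6 n225546 = n216732 := d12_2 F484631 D225546 (iv5 F526347) (iv6 D224692) (iv5 F456770)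
theorem F531198 : act 7 n225546 = n216734 := d13_2 (iv7 F484628) D225546 (iv5 F485689)
theorem F531199 : act 0 n225546 = n220658 := d17_2 (iv1 F484630) D225546 F504836 F420940 F370848 (iv0 D98650) (iv5 F74353) (iv0 F157667) (iv4 F385338)
theorem F531200 : act 1 n225546 = n220659 := d17_6 F454166 F454165 F393968 F393965 D216486 D225546 F504842 F458242 F458241
def n225547 : Q := act 6 n216488
theorem D225547 : act 6 n216488 = n225547 := rfl
theorem F531201 : act 2 n225547 = n220165 := d3_1 D225547 (iv6 D220165) (iv2 F484639)
theorem F531202 : act 3 n225547 = n216768 := d7_1 D225547 F485857 (iv3 F484640)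
theorem F531203 : act 4 n225547 = n216516 := d10_1 D225547 (iv6 D216516) (iv4 F484641)
theorem F531204 : act 5 n225547 = n224193 := d12_1 D225547 (iv6 F523562) F484649 (iv6 D216489) D216488
theorem F531205 : act 7 n225547 = n219606 := d14_2 (iv7 F484642) D225547 (iv6 F499655) (iv7 F501816) F501815
theorem F531206 : act 0 n225547 = n225294 := d21_4 F388583 (iv1 F285883) D216488 D225547 F529766 (iv5 D224090) (iv1 F446589) (iv5 F446908) (iv6 F446910) F442605
theorem F531207 : act 0 n222062 = n225547 := d21_4 (iv5 D206967) F371174 D217631 (iv6 F512157) (iv6 D225547) (iv5 D216488) F285882 D192972 (iv6 F490000) F490002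
def n225548 : Q := act 1 n216489
theorem D225548 : act 1 n216489 = n225548 := rfl
theorem F531208 : act 1 n225548 = n220167 := d15_1 D225548 (iv7 D220167) (iv2 F484645)
theorem F531209 : act 7 n225548 = n220161 := d15_2 F484651 D225548 F502425
theorem F531210 : act 5 n225548 = n224274 := d17_7 (iv1 D219201) F381504 (iv1 D165880) D165881 D215064 F484649 D225548 (iv0 D224274) F497701
theorem F531211 : act 4 n225548 = n219009 := d17_9 F496660 F388389 (iv1 F442265) (iv5 F453570) F453571 D209606 (iv0 F484650) F484649 D225548
theorem F531212 : act 3 n225294 = n225548 := d19_19 (iv1 D225548) (iv5 F484649) (iv4 D215064) F261252 F248944 (iv5 D79996) (iv4 D36437) (iv3 F55793) F55795 (iv5 D27020) (iv4 F42961) F42960 (iv1 F28627) (iv5 F56219) D77908 D162162 F256260 D214287 D225294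
theorem F531213 : act 6 n223739 = n225548 := d21_3 F445843 D223883 F522134 (iv1 D225548) (iv6 D216489) D216488 F484643 F442621 (iv6 F211890) (iv1 F445842)
theorem F531214 : act 2 n225548 = n220162 := d3_1 F531213 (iv6 F522906) F522900
def n225549 : Q := act 5 n216499
theorem D225549 : act 5 n216499 = n225549 := rfl
theorem F531215 : act 2 n225549 = n217907 := d2_1 D225549 (iv5 D217907) F484690
theorem F531216 : act 3 n225549 = n225040 := d6_1 D225549 (iv5 D225040) F484692
theorem F531217 : act 4 n225549 = n217276 := d9_1 D225549 F488233 F385957 F295210 (iv4 F294973) (iv5 F159454) D194678 (iv5 F433007) F433006 (iv5 F433008) F391553 (iv5 D184401) D184400 (iv5 F372468) (iv4 F484689)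
theorem F531218 : act 6 n225549 = n217275 := d12_2 (iv6 F484693) D225549 F488229 (iv6 F415577) (iv5 F465832)
theorem F531219 : act 7 n225549 = n217972 := d13_2 (iv7 F484691) D225549 F491492
theorem F531220 : act 0 n225549 = n217973 := d17_2 D216499 D225549 F491498 F372753 D192610 (iv0 F387241) (iv5 F381818) (iv0 D184066) D184068
theorem F531221 : act 1 n225549 = n217965 := d17_6 D188136 F372436 (iv1 F363551) (iv5 F372468) (iv4 F484689) D225549 (iv5 D217965) (iv0 F372703) (iv4 D188138)
def n225550 : Q := act 6 n216509
theorem D225550 : act 6 n216509 = n225550 := rfl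
theorem F531222 : act 2 n225550 = n223803 := d3_1 D225550 F521366 F484729
theorem F531223 : act 3 n225550 = n219700 := d7_1 D225550 (iv6 D219700) (iv3 F484728)
theorem F531224 : act 4 n225550 = n224426 := d10_1 D225550 F524900 F501587
theorem F531225 : act 7 n225550 = n222485 := d14_2 (iv7 F484730) D225550 F514472 F454101 (iv6 F385337)
theorem F531226 : act 0 n225550 = n223802 := d21_4 (iv5 F529085) (iv1 F529088) F503922 D225550 (iv6 D223802) (iv5 D204935) F357808 D207096 (iv6 F443299) (iv1 F504848)
theorem F531227 : act 0 n223804 = n225550 := d21_4 F501551 (iv1 F498699) (iv5 F493472) (iv6 F521370) (iv6 D225550) (iv5 F503922) F531113 F531110 F525633 (iv1 F525631)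
def n225551 : Q := act 6 n216543
theorem D225551 : act 6 n216543 = n225551 := rfl
theorem F531228 : act 2 n225551 = n222427 := d3_1 D225551 (iv6 D222427) F484873
theorem F531229 : act 3 n225551 = n223130 := d7_1 D225551 (iv6 D223130) (iv3 F484872)
theorem F531230 : act 4 n225551 = n224987 := d10_1 D225551 (iv6 D224987) (iv4 F484871)
theorem F531231 : act 5 n225551 = n225106 := d12_1 D225551 (iv6 D225106) (iv5 D213115) (iv6 F465089) (iv5 F484870)
theorem F531232 : act 0 n225551 = n223238 := d21_4 (iv5 F512200) F512202 (iv5 F484870) D225551 F518365 (iv5 F499842) D222203 (iv5 F513326) (iv6 D222280) (iv1 F507356)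
theorem F531233 : act 0 n224777 = n225551 := d21_4 (iv5 D191661) D191660 D219537 (iv6 F526818) (iv6 D225551) F484870 F465091 (iv5 D199045) D199046 F452875
def n225552 : Q := act 5 n216593
theorem D225552 : act 5 n216593 = n225552 := rfl
theorem F531234 : act 2 n225552 = n220060 := d2_1 D225552 (iv5 D220060) F485106
theorem F531235 : act 3 n225552 = n224803 := d6_1 D225552 F526955 F500641
theorem F531236 : act 4 n225552 = n224818 := d9_1 D225552 (iv5 F531056) (iv4 D225523) F484402 (iv4 F484418) F485314 F485311 (iv5 F514161) (iv4 F526676) (iv5 F531063) (iv4 D225524) F485124 (iv4 F481480) (iv5 F519031) F519030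
theorem F531237 : act 7 n225552 = n225551 := d13_2 F528674 D225552 F531231
theorem F531238 : act 0 n225552 = n224701 := d17_2 D216593 D225552 (iv5 F529147) F529146 (iv5 D216685) (iv0 F518007) (iv5 F526926) (iv0 F526928) F458737
theorem F531239 : act 1 n225552 = n216597 := d17_6 F524938 F524936 (iv1 D223361) (iv5 F519031) F519030 D225552 F485116 (iv0 F500925) (iv4 F500926)
def n225553 : Q := act 4 n216598
theorem D225553 : act 4 n216598 = n225553 := rfl
theorem F531240 : act 2 n225553 = n216614 := d1_1 D225553 (iv4 D216614) (iv2 F485118)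
theorem F531241 : act 5 n225553 = n221760 := d9_2 D216598 D225553 (iv4 F513271) (iv5 F519000) F518999 (iv5 D216658) F287494 (iv5 F283643) (iv4 F483388) (iv5 F501098) F501095 F386697 (iv4 F458737) (iv5 F472848) F472847
theorem F531242 : act 6 n225553 = n216599 := d10_2 (iv6 F485120) D225553 (iv4 D216599)
theorem F531243 : act 7 n225553 = n225517 := d11_2 (iv7 F485121) D225553 F531039
theorem F531244 : act 0 n225553 = n221072 := d17_0 (iv5 D221072) D221070 F507084 F483309 F283628 D185229 (iv5 F485124) F485123 D225553
theorem F531245 : act 0 n225516 = n225553 := d20_1 (iv4 F531038) (iv4 D225553) F485119 F504177 (iv3 F504175) (iv4 D219527) F491410 F491406 D225530 F531094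
theorem F531246 : act 6 n224652 = n225516 := d21_3 (iv5 D209888) D209886 D224652 F531245 F531242 F485126 (iv1 F510789) (iv5 F530932) (iv6 F530934) (iv1 D224654)
def n225554 : Q := act 3 n216599
theorem D225554 : act 3 n216599 = n225554 := rfl
theorem F531247 : act 4 n225554 = n223557 := d5_2 D216599 D225554 (iv3 D223557) F430807 (iv3 F287405)
theorem F531248 : act 5 n225554 = n224872 := d6_2 (iv5 F485126) D225554 F527337
theorem F531249 : act 7 n225554 = n225513 := d8_2 (iv7 F485127) D225554 (iv3 D225513)
theorem F531250 : act 0 n225554 = n221556 := d19_4 F344322 D185020 D216599 D225554 (iv5 D221556) F401228 (iv3 F401227) (iv1 F493038) (iv5 D218266) (iv4 D188887) (iv3 F368681) (iv1 F370729) (iv5 F486774) (iv4 D216966) F289503 (iv1 F289472) F346006 (iv4 F372846) F372845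
def n225555 : Q := act 3 n216604
theorem D225555 : act 3 n216604 = n225555 := rfl
theorem F531251 : act 4 n225555 = n223756 := d5_2 F485148 D225555 F521090 (iv4 F484521) F484526
theorem F531252 : act 5 n225555 = n222989 := d6_2 F526074 D225555 F526075
theorem F531253 : act 6 n225555 = n224627 := d7_2 F517545 D225555 F525994
theorem F531254 : act 7 n225555 = n225326 := d8_2 F504717 D225555 F529963
theorem F531255 : act 0 n225555 = n216690 := d19_4 D215160 (iv5 F481605) F485148 D225555 F514870 F514867 (iv3 F476924) (iv1 F476929) (iv5 F497952) F497951 F497682 (iv1 F488776) F381543 F156643 (iv3 F156622) (iv1 F409613) D210053 (iv4 F455954) F383495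
theorem F531256 : act 0 n221528 = n225555 := d20_4 (iv4 F528214) F528217 (iv4 F501044) (iv3 F509444) (iv3 D225555) (iv4 F485148) (iv1 D215794) (iv4 F481598) (iv3 F517431) F517434
def n225556 : Q := act 5 n216607
theorem D225556 : act 5 n216607 = n225556 := rfl
theorem F531257 : act 3 n225556 = n223055 := d6_1 D225556 (iv5 D223055) (iv3 F485153)
theorem F531258 : act 6 n225556 = n216781 := d12_2 F485152 D225556 F528719 (iv6 D225113) (iv5 F469296)
theorem F531259 : act 4 n225556 = n222369 := d16_2 F485939 D225556 (iv5 D222369) (iv4 F463689) (iv5 F510954) F510953 (iv5 D220646) (iv7 F498556) F498555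
theorem F531260 : act 0 n225556 = n216685 := d17_2 (iv1 F485349) D225556 (iv5 D216685) F287536 (iv5 F283628) D216198 F485164 F364075 (iv4 F485344)
theorem F531261 : act 1 n225556 = n225201 := d17_8 (iv1 F504868) (iv5 F529562) F529564 F499700 F485158 (iv5 D216608) D216607 D225556 F529203
def n225557 : Q := act 1 n216608
theorem D225557 : act 1 n216608 = n225557 := rfl
theorem F531262 : act 1 n225557 = n224802 := d15_1 D225557 F526952 (iv2 F485154)
theorem F531263 : act 7 n225557 = n224798 := d15_2 (iv0 F485157) D225557 F526925
theorem F531264 : act 5 n225557 = n225099 := d17_7 (iv1 F484417) F485173 (iv1 D216613) (iv5 D185043) (iv4 F287433) D216608 D225557 F528632 F473088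
theorem F531265 : act 4 n225557 = n220492 := d17_9 F526522 (iv5 D224723) (iv1 D210420) (iv5 F432990) (iv4 F520952) F520953 (iv0 D216606) D216608 D225557
theorem F531266 : act 3 n220497 = n225557 := d19_19 (iv1 D225557) (iv5 D216608) F287433 F135140 D88216 F337966 F283623 (iv3 F287687) F287690 (iv5 D89611) (iv4 F67874) (iv3 D43280) (iv1 D20430) D20431 D43285 D92514 D188592 F391049 D220497
theorem F531267 : act 6 n218379 = n225557 := d21_3 F502650 (iv1 F472484) D218379 (iv1 D225557) F485156 F422638 (iv1 F179579) D139653 D210765 (iv1 F502648)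
theorem F531268 : act 2 n225557 = n222033 := d3_1 F531267 F511995 (iv2 F501244)
def n225558 : Q := act 5 n216611
theorem D225558 : act 5 n216611 = n225558 := rfl
theorem F531269 : act 2 n225558 = n220516 := d2_1 D225558 (iv5 F504143) F485373
theorem F531270 : act 3 n225558 = n222973 := d6_1 D225558 (iv5 F528814) F528816
theorem F531271 : act 4 n225558 = n216785 := d9_1 D225558 (iv5 F529562) F529561 (iv5 F531016) (iv4 D225510) F483338 D216609 F500474 F500926 (iv5 D219859) (iv4 F500916) (iv5 F531021) (iv4 D225511) F485164 D216611
theorem F531272 : act 1 n225558 = n224432 := d17_6 (iv1 F484422) (iv5 F519814) F519815 F485164 D216611 D225558 F524936 F519052 F484418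
theorem F531273 : act 6 n225558 = n216784 := d21_3 F524598 F524587 D225558 F528789 (iv6 D225124) (iv5 D213188) (iv1 D152785) D152786 (iv6 F469364) F524601
def n225559 : Q := act 3 n216612
theorem D225559 : act 3 n216612 = n225559 := rfl
theorem F531274 : act 2 n225559 = n217234 := d0_1 D225559 (iv3 F520032) F520031 F483395 F485167
theorem F531275 : act 5 n225559 = n222875 := d6_2 (iv5 F485165) D225559 F516530
theorem F531276 : act 6 n225559 = n222865 := d7_2 F485168 D225559 F516478
theorem F531277 : act 7 n225559 = n217235 := d8_2 F485169 D225559 F498495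
theorem F531278 : act 0 n225559 = n217236 := d19_4 F527996 F527994 F527060 D225559 (iv5 F498484) F498483 (iv3 D212763) (iv1 F467290) (iv5 F500513) (iv4 D219766) F393278 (iv1 D194454) (iv5 D103602) D103601 D194453 F393272 D201519 (iv4 F458835) (iv3 F511986)
theorem F531279 : act 1 n225559 = n217116 := d15_1 (iv0 F531278) (iv7 F525991) F525987
def n225560 : Q := act 4 n216613
theorem D225560 : act 4 n216613 = n225560 := rfl
theorem F531280 : act 2 n225560 = n225523 := d1_1 D225560 (iv4 D225523) F485172
theorem F531281 : act 6 n225560 = n225248 := d10_2 F524454 D225560 F529486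
theorem F531282 : act 7 n225560 = n225524 := d11_2 (iv7 F485171) D225560 (iv4 D225524)
theorem F531283 : act 0 n225560 = n221841 := d17_0 (iv5 D221841) F510941 (iv5 F531016) (iv4 D225510) F483338 (iv0 D185041) D185043 D216613 D225560
def n225561 : Q := act 0 n216614
theorem D225561 : act 0 n216614 = n225561 := rfl
theorem F531284 : act 5 n225561 = n221069 := d17_3 (iv1 F463691) F485177 D225561 F507083 (iv5 F504037) (iv0 F504039) (iv5 D199378) (iv0 F425015) (iv4 F457446)
theorem F531285 : act 4 n225561 = n220649 := d18_3 (iv1 D216613) D216614 D225561 F504788 F469057 D213241 F473085 D216447 F485173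
theorem F531286 : act 6 n225561 = n224816 := d21_5 (iv5 F528682) F528681 (iv5 D216620) (iv6 F485175) D225561 (iv5 D224816) F458851 D212198 (iv6 F528173) F528176
theorem F531287 : act 1 n225517 = n225561 := d15_0 (iv0 D225561) F485176 D225517
theorem F531288 : act 3 n224977 = n225561 := d19_19 (iv1 F531287) F531040 (iv4 F526503) (iv3 F513286) (iv1 F513289) (iv5 F467288) (iv4 F516987) (iv3 F529378) (iv1 F529381) F473274 (iv4 F403906) F403905 (iv1 F241385) (iv5 F470057) F470056 (iv3 F504484) F504487 D225425 F530536
theorem F531289 : act 2 n225561 = n221072 := d0_1 F531288 F507088 (iv2 F407843) (iv3 F463141) (iv2 F527935)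
theorem F531290 : act 7 n225516 = n225561 := d15_2 (iv0 F531244) (iv0 F531245) F531289
def n225562 : Q := act 1 n216614
theorem D225562 : act 1 n216614 = n225562 := rfl
theorem F531291 : act 1 n225562 = n225517 := d15_1 D225562 (iv7 F531243) F531240
theorem F531292 : act 7 n225562 = n221072 := d15_2 (iv0 D225561) D225562 (iv2 F531289)
theorem F531293 : act 4 n225562 = n225527 := d17_9 F531079 (iv5 F500572) F500573 D220646 (iv4 F510953) F510954 (iv0 F463690) F485177 D225562
theorem F531294 : act 5 n225562 = n221073 := d18_9 (iv1 F507231) (iv4 F526816) F531233 F531230 F527994 F527060 (iv0 D216612) D216614 D225562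
theorem F531295 : act 3 n221077 = n225562 := d19_19 (iv1 D225562) (iv5 F485177) (iv4 F500919) F500918 (iv1 F457376) (iv5 F457375) (iv4 D153861) (iv3 F308376) (iv1 D101909) (iv5 D47348) D47347 (iv3 F314173) (iv1 F319574) D191531 (iv4 F470975) F470974 (iv1 F511854) F511850 F510958
theorem F531296 : act 6 n221822 = n225562 := d21_3 (iv5 D197376) D197374 D221822 (iv1 D225562) F485175 D216620 F526329 F526326 (iv6 F510950) (iv1 D221826)
theorem F531297 : act 2 n225562 = n225516 := d3_1 F531296 (iv6 F531246) F526112
def n225563 : Q := act 0 n216615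
theorem D225563 : act 0 n216615 = n225563 := rfl
theorem F531298 : act 5 n225563 = n221692 := d17_1 D225563 F510333 (iv5 F483305) (iv4 D216183) (iv5 F287427) F287418 F287416 F287439 D216615
theorem F531299 : act 4 n225563 = n216982 := d18_1 D225563 (iv1 F486867) (iv4 F483382) F483383 (iv4 D201186) D201185 (iv4 F458864) (iv0 F463146) (iv5 F485182)
theorem F531300 : act 2 n216987 = n225563 := d15_3 (iv0 D225563) (iv0 F500616) F500615
theorem F531301 : act 1 n216617 = n225563 := d15_0 (iv0 D225563) F485181 (iv2 F485188)
theorem F531302 : act 7 n225563 = n216989 := d15_2 F500617 F531301 (iv2 F500614)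
def n225564 : Q := act 2 n216642
theorem D225564 : act 2 n216642 = n225564 := rfl
theorem F531303 : act 3 n225564 = n225140 := d0_2 D216642 D225564 F528878 (iv3 D220508) F391119
theorem F531304 : act 4 n225564 = n225106 := d1_2 (iv4 F485311) D225564 F528672
theorem F531305 : act 5 n225564 = n223362 := d2_2 F485314 D225564 F519058
theorem F531306 : act 6 n225564 = n219884 := d3_2 F519659 D225564 (iv2 F519656)
theorem F531307 : act 7 n225564 = n223357 := d4_2 (iv7 F485312) D225564 F519029
theorem F531308 : act 1 n225564 = n224377 := d15_0 (iv0 F524601) (iv7 F485312) D225564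
theorem F531309 : act 1 n223011 = n225564 := d15_0 F531308 F524600 (iv2 F517237)
def n225565 : Q := act 1 n216645
theorem D225565 : act 1 n216645 = n225565 := rfl
theorem F531310 : act 5 n225565 = n223649 := d17_7 (iv1 F500897) (iv5 D219852) (iv1 F467313) (iv5 D212740) D212739 (iv5 F485324) D225565 (iv0 F521356) (iv4 D223801)
theorem F531311 : act 4 n225565 = n223476 := d17_9 F519654 F517527 F458971 D223207 (iv4 F520925) (iv5 D223725) (iv0 F467308) (iv5 F485324) D225565
theorem F531312 : act 3 n223730 = n225565 := d19_19 (iv1 D225565) F485324 (iv4 D212739) (iv3 D149136) (iv1 F363008) F363010 F106340 (iv3 F85714) (iv1 F85718) (iv5 F311060) (iv4 F166584) D54310 (iv1 F326376) D68626 D146358 F457457 (iv1 D210420) (iv5 F432990) (iv4 F520952)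
theorem F531313 : act 6 n223728 = n225565 := d21_3 F518069 (iv1 F519645) (iv5 F520946) (iv1 D225565) (iv6 F485325) F469458 (iv1 F474092) F474088 D225097 F528621
theorem F531314 : act 2 n225565 = n223729 := d3_1 F531313 F520950 (iv2 F520941)
theorem F531315 : act 0 n225203 = n225565 := d21_4 (iv5 D215923) F366110 D213945 (iv6 F529219) (iv6 F531313) F520946 (iv1 D223475) (iv5 F518071) (iv6 F518072) (iv1 F482107)
def n225566 : Q := act 2 n216645
theorem D225566 : act 2 n216645 = n225566 := rfl
theorem F531316 : act 3 n225566 = n216657 := d0_2 D216645 D225566 (iv2 D216657) (iv3 D185128) (iv2 F287479)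
theorem F531317 : act 4 n225566 = n222997 := d1_2 (iv4 F485323) D225566 F517178
theorem F531318 : act 5 n225566 = n225060 := d2_2 (iv5 F485324) D225566 F528399
theorem F531319 : act 6 n225566 = n220717 := d3_2 F485325 D225566 F505141
theorem F531320 : act 7 n225566 = n225203 := d4_2 F504125 D225566 F529216
theorem F531321 : act 1 n225566 = n223729 := d15_0 (iv0 F520951) F504125 D225566
def n225567 : Q := act 6 n216647
theorem D225567 : act 6 n216647 = n225567 := rfl
theorem F531322 : act 2 n225567 = n224622 := d3_1 D225567 F525973 F504144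
theorem F531323 : act 3 n225567 = n224498 := d7_1 D225567 F525311 (iv3 F504698)
theorem F531324 : act 4 n225567 = n224499 := d10_1 D225567 F525316 F500477
theorem F531325 : act 7 n225567 = n224622 := d14_2 F504132 D225567 F525973 F504147 (iv6 F504136)
theorem F531326 : act 0 n225567 = n223067 := d21_4 (iv5 D215796) (iv1 F290125) D216647 D225567 F517502 (iv5 D220551) (iv1 F504278) (iv5 F517855) F517854 F485317
theorem F531327 : act 0 n223067 = n225567 := d21_4 F517858 F504283 D220551 (iv6 F517502) (iv6 D225567) (iv5 D216647) F290093 D215791 (iv6 F517422) (iv1 F517859)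
def n225568 : Q := act 1 n216648
theorem D225568 : act 1 n216648 = n225568 := rfl
theorem F531328 : act 7 n225568 = n223036 := d15_2 (iv0 F524938) D225568 (iv2 F524935)
theorem F531329 : act 5 n225568 = n223360 := d17_7 (iv1 D185229) (iv5 F283628) D216197 F483338 D216609 F500474 D225568 (iv0 D223360) F481480
theorem F531330 : act 4 n225568 = n225195 := d17_9 F529167 F520539 (iv1 F457466) F511992 (iv4 F524597) F524598 (iv0 F524588) F500474 D225568
theorem F531331 : act 3 n219782 = n225568 := d19_19 (iv1 D225568) (iv5 F500474) (iv4 D216609) F455085 (iv1 F498487) F498484 (iv4 F526680) F526679 F525862 F483331 (iv4 F484914) F484913 (iv1 F476938) (iv5 F492836) F492837 D219434 F528664 (iv5 D219784) (iv4 F500600)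
theorem F531332 : act 2 n225568 = n224374 := d0_1 F531331 (iv3 D224374) (iv2 F451136) (iv3 F472815) (iv2 F500599)
theorem F531333 : act 6 n225568 = n219781 := d7_2 D219782 F531331 (iv3 D219781)
theorem F531334 : act 0 n225558 = n225568 := d20_4 (iv4 F517055) (iv1 D222972) D222973 (iv3 F531270) (iv3 F531331) F500600 D219783 F500603 (iv3 F517458) (iv1 F517461)
def n225569 : Q := act 2 n216648
theorem D225569 : act 2 n216648 = n225569 := rfl
theorem F531335 : act 3 n225569 = n223065 := d0_2 D216648 D225569 (iv2 F517498) (iv3 D220513) F391130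
theorem F531336 : act 4 n225569 = n225191 := d1_2 (iv4 F500926) D225569 (iv2 F529142)
theorem F531337 : act 5 n225569 = n216668 := d2_2 F500474 D225569 F485383
theorem F531338 : act 6 n225569 = n225456 := d3_2 F500930 D225569 (iv2 F530720)
theorem F531339 : act 7 n225569 = n225558 := d4_2 F504142 D225569 F531269
theorem F531340 : act 1 n225569 = n224374 := d15_0 (iv0 F524585) F504142 D225569
theorem F531341 : act 1 n223036 = n225569 := d15_0 F531340 (iv7 F524937) F524935
def n225570 : Q := act 5 n216655
theorem D225570 : act 5 n216655 = n225570 := rfl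
theorem F531342 : act 2 n225570 = n225556 := d2_1 D225570 (iv5 D225556) F498559
theorem F531343 : act 6 n225570 = n225246 := d12_2 F517517 D225570 F529470 (iv6 F526063) F526059
theorem F531344 : act 7 n225570 = n223730 := d13_2 F498560 D225570 F520953
theorem F531345 : act 4 n225570 = n222351 := d16_2 (iv4 F498558) D225570 (iv5 D222351) F411469 D221786 (iv4 F514951) F514952 F500607 (iv2 F498555)
theorem F531346 : act 0 n225570 = n225143 := d17_2 D216655 D225570 (iv5 D225143) F473088 (iv5 F483340) F485381 (iv5 D216666) (iv0 D185147) (iv4 F287494)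
theorem F531347 : act 1 n225570 = n225138 := d17_8 F526015 F504867 (iv1 F500928) F386697 (iv4 F458737) (iv5 F472848) F485343 D225570 F528868
def n225571 : Q := act 5 n216656
theorem D225571 : act 5 n216656 = n225571 := rfl
theorem F531348 : act 2 n225571 = n223730 := d2_1 D225571 F520953 F498561
theorem F531349 : act 3 n225571 = n220642 := d6_1 D225571 (iv5 F517460) F517458
theorem F531350 : act 6 n225571 = n223649 := d12_2 (iv6 F519649) D225571 (iv5 F531310) (iv6 F531313) F520946
theorem F531351 : act 7 n225571 = n225556 := d13_2 (iv7 F498562) D225571 (iv5 D225556)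
theorem F531352 : act 4 n225571 = n223650 := d16_6 F411469 D221786 (iv4 F514951) F514952 F500603 D225571 F520539 F457464 (iv2 F425013)
theorem F531353 : act 0 n225571 = n225138 := d17_2 (iv1 F485348) D225571 F528869 F473085 (iv5 F470301) (iv0 F485389) (iv5 D216669) F364076 (iv4 F472847)
theorem F531354 : act 1 n225571 = n225143 := d17_8 D225191 F529140 F513274 (iv5 F519000) F518999 (iv5 D216658) D216656 D225571 F528898
def n225572 : Q := act 0 n216659
theorem D225572 : act 0 n216659 = n225572 := rfl
theorem F531355 : act 5 n225572 = n221526 := d17_1 D225572 (iv1 F514872) (iv5 F514870) F485488 (iv5 D213165) (iv0 F366406) (iv5 F388350) D220124 (iv4 F502242)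
theorem F531356 : act 3 n225572 = n216675 := d20_5 (iv4 D212435) (iv1 F426921) (iv4 F480004) (iv3 F485353) D225572 (iv4 F485430) F457427 (iv4 F481505) F481504 (iv1 F465789)
theorem F531357 : act 6 n225572 = n224715 := d21_5 (iv5 F485338) (iv1 D185127) D185129 D216659 D225572 F526477 F514857 D225429 F530561 (iv1 F485339)
theorem F531358 : act 2 n224715 = n225572 := d15_3 (iv0 D225572) (iv0 F518368) (iv7 F526478)
theorem F531359 : act 1 n225111 = n225572 := d15_0 (iv0 D225572) F485355 (iv2 F528704)
theorem F531360 : act 7 n225572 = n225461 := d15_2 F528709 F531359 F530743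
def n225573 : Q := act 4 n216666
theorem D225573 : act 4 n216666 = n225573 := rfl
theorem F531361 : act 2 n225573 = n225511 := d1_1 D225573 (iv4 D225511) (iv2 F485376)
theorem F531362 : act 3 n225573 = n224653 := d5_1 D225573 (iv4 F527468) F527466 F525507 (iv3 F485377)
theorem F531363 : act 5 n225573 = n222366 := d9_2 D216666 D225573 (iv4 F513827) (iv5 F529140) (iv4 F531336) F531337 (iv4 D216668) D216669 (iv4 F510827) F510828 F510698 (iv5 F504867) F504865 (iv5 F504143) (iv4 D216665)
theorem F531364 : act 6 n225573 = n224531 := d10_2 F485380 D225573 (iv4 D224531)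
theorem F531365 : act 7 n225573 = n225510 := d11_2 (iv7 F485378) D225573 (iv4 D225510)
def n225574 : Q := act 6 n216688
theorem D225574 : act 6 n216688 = n225574 := rfl
theorem F531366 : act 2 n225574 = n225459 := d3_1 D225574 F530733 F485481
theorem F531367 : act 3 n225574 = n220518 := d7_1 D225574 (iv6 D220518) F485479
theorem F531368 : act 4 n225574 = n220542 := d10_1 D225574 (iv6 D220542) (iv4 F485480)
theorem F531369 : act 7 n225574 = n225459 := d14_2 (iv7 F485477) D225574 F530733 F485473 F485475
def n225575 : Q := act 2 n216692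
theorem D225575 : act 2 n216692 = n225575 := rfl
theorem F531370 : act 3 n225575 = n223618 := d0_2 D216692 D225575 F520362 (iv3 F504089) F484415
theorem F531371 : act 4 n225575 = n222953 := d1_2 F485492 D225575 (iv2 F516960)
theorem F531372 : act 5 n225575 = n219917 := d2_2 (iv5 F498494) D225575 F501174
theorem F531373 : act 6 n225575 = n219366 := d3_2 (iv6 F485491) D225575 F498503
theorem F531374 : act 7 n225575 = n220399 := d4_2 F516532 D225575 (iv2 F516529)
theorem F531375 : act 1 n225575 = n220400 := d15_0 (iv0 F516533) F516532 D225575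
theorem F531376 : act 1 n220117 = n225575 := d15_0 F531375 (iv7 D220400) (iv2 F502203)
def n225576 : Q := act 6 n216740
theorem D225576 : act 6 n216740 = n225576 := rfl
theorem F531377 : act 2 n225576 = n223324 := d3_1 D225576 (iv6 D223324) (iv2 F485720)
theorem F531378 : act 3 n225576 = n219431 := d7_1 D225576 (iv6 D219431) (iv3 F485721)
theorem F531379 : act 4 n225576 = n216741 := d10_1 D225576 (iv6 D216741) D216740
theorem F531380 : act 5 n225576 = n220640 := d12_1 D225576 (iv6 D220640) F392028 F462499 (iv5 F485722)
theorem F531381 : act 7 n225576 = n225084 := d14_2 (iv7 F485723) D225576 F528544 (iv7 D223377) F427318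
theorem F531382 : act 0 n225576 = n220078 := d21_4 F432485 (iv1 F462496) (iv5 F485722) D225576 F501999 (iv5 D204084) (iv1 D122621) D122622 (iv6 F198261) D204425
def n225577 : Q := act 4 n216745
theorem D225577 : act 4 n216745 = n225577 := rfl
theorem F531383 : act 2 n225577 = n220006 := d1_1 D225577 F501617 F501599
theorem F531384 : act 6 n225577 = n223343 := d10_2 F485747 D225577 F518967
theorem F531385 : act 7 n225577 = n225205 := d11_2 (iv7 F485745) D225577 F529229
theorem F531386 : act 5 n225577 = n219981 := d16_7 (iv4 F468760) (iv5 F504815) (iv4 F529199) F529200 F518563 F485746 D225577 (iv7 F519450) (iv2 D223436)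
theorem F531387 : act 1 n225577 = n225200 := d18_6 (iv1 D213170) (iv4 F460606) F518565 F518563 F485746 D225577 F529199 (iv0 D220654) (iv5 F469312)
theorem F531388 : act 3 n225577 = n225038 := d19_3 D211198 F485746 D225577 F528269 (iv5 D223513) (iv4 F442565) F442564 D214466 F475295 (iv4 F508080) F508079 (iv1 D217750) F485809 (iv4 F518852) (iv3 F530372) F530375 (iv5 F491752) F491751 F460566
def n225578 : Q := act 3 n216747
theorem D225578 : act 3 n216747 = n225578 := rfl
theorem F531389 : act 2 n225578 = n220649 := d0_1 D225578 (iv3 D220649) F479486 (iv3 F462511) F485754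
theorem F531390 : act 4 n225578 = n221072 := d5_2 F485756 D225578 F507088 D221076 F507107
theorem F531391 : act 5 n225578 = n223461 := d6_2 (iv5 F485752) D225578 F519564
theorem F531392 : act 6 n225578 = n223460 := d7_2 F503780 D225578 F519559
theorem F531393 : act 7 n225578 = n225527 := d8_2 F485755 D225578 (iv3 D225527)
theorem F531394 : act 1 n225530 = n225578 := d15_1 (iv0 F531094) F531393 F531077
theorem F531395 : act 0 n219784 = n225578 := d21_4 (iv5 D187702) F367246 D192245 (iv6 F500611) F531392 (iv5 D223460) F428276 (iv5 F458871) F458870 (iv1 F371245)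
def n225579 : Q := act 6 n216748
theorem D225579 : act 6 n216748 = n225579 := rfl
theorem F531396 : act 2 n225579 = n225172 := d3_1 D225579 F529030 (iv2 F485761)
theorem F531397 : act 3 n225579 = n219395 := d7_1 D225579 (iv6 F498673) (iv3 F485762)
theorem F531398 : act 4 n225579 = n223345 := d10_1 D225579 F518975 F485759
theorem F531399 : act 5 n225579 = n224740 := d12_1 D225579 F526613 (iv5 D220060) (iv6 F469382) F485760
theorem F531400 : act 7 n225579 = n224739 := d14_2 (iv7 F485758) D225579 F526608 F503767 F453604
theorem F531401 : act 0 n225579 = n219913 := d21_4 F483545 (iv1 F469384) F485760 D225579 (iv6 F501162) D223385 F519195 (iv5 F498812) F498814 F485941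
theorem F531402 : act 0 n219420 = n225579 := d21_4 F470250 F467264 (iv5 F427380) (iv6 F498810) (iv6 D225579) (iv5 F485760) F469383 (iv5 F470256) (iv6 D213404) D213403
def n225580 : Q := act 3 n216752
theorem D225580 : act 3 n216752 = n225580 := rfl
theorem F531403 : act 2 n225580 = n219423 := d0_1 D225580 (iv3 D219423) (iv2 F458349) (iv3 F470185) (iv2 F485788)
theorem F531404 : act 4 n225580 = n225476 := d5_2 (iv4 F485786) D225580 F530836 (iv4 F518915) F518918
theorem F531405 : act 5 n225580 = n219948 := d6_2 (iv5 F485785) D225580 F501313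
theorem F531406 : act 6 n225580 = n221272 := d7_2 F485787 D225580 F508084
theorem F531407 : act 7 n225580 = n219916 := d8_2 (iv7 F485784) D225580 F501170
theorem F531408 : act 0 n225580 = n216808 := d19_4 (iv1 F240949) D213301 (iv4 F485786) D225580 F486003 (iv4 F501074) (iv3 F525709) F525712 F511114 F438100 F359092 (iv1 F261705) (iv5 D128121) (iv4 D60211) (iv3 F188434) (iv1 F57046) D70111 D149320 (iv3 F234745)
theorem F531409 : act 0 n219918 = n225580 := d20_4 F470224 (iv1 F483785) F483784 (iv3 F501179) (iv3 D225580) F485786 (iv1 F469805) (iv4 D189197) (iv3 F154252) D192524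
def n225581 : Q := act 7 n216755
theorem D225581 : act 7 n216755 = n225581 := rfl
theorem F531410 : act 2 n225581 = n221272 := d4_1 D225581 (iv7 F528364) F528361
theorem F531411 : act 3 n225581 = n219424 := d8_1 D225581 F498829 (iv3 F485798)
theorem F531412 : act 4 n225581 = n216758 := d11_1 D225581 (iv7 D216758) (iv4 F485799)
theorem F531413 : act 5 n225581 = n221271 := d13_1 D225581 F508082 (iv5 F485800)
theorem F531414 : act 6 n225581 = n219423 := d14_1 D225581 F498825 F483426 (iv7 F287708) D216755
theorem F531415 : act 1 n217945 = n225581 := d15_1 F528367 (iv7 D225581) (iv2 F528361)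
theorem F531416 : act 1 n225581 = n224467 := d15_1 F531415 (iv7 F529026) F529022
def n225582 : Q := act 5 n216768
theorem D225582 : act 5 n216768 = n225582 := rfl
theorem F531417 : act 2 n225582 = n216793 := d2_1 D225582 (iv5 D216793) (iv2 F485856)
theorem F531418 : act 3 n225582 = n224193 := d6_1 D225582 (iv5 F531204) F531202
theorem F531419 : act 4 n225582 = n218090 := d9_1 D225582 (iv5 D218090) F373637 (iv5 D188471) F141527 D92040 D188473 D218086 F498034 F498032 F489177 F379917 F287716 D185476 D216768
theorem F531420 : act 6 n225582 = n218093 := d12_2 (iv6 F485857) D225582 F492125 (iv6 D207899) D207898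
theorem F531421 : act 7 n225582 = n219607 := d13_2 (iv7 F485858) D225582 (iv5 D219607)
theorem F531422 : act 0 n225582 = n224461 := d17_2 F491463 D225582 F525113 F494637 F383089 F370206 D216818 F486046 D217966
def n225583 : Q := act 5 n216790
theorem D225583 : act 5 n216790 = n225583 := rfl
theorem F531423 : act 2 n225583 = n225500 := d2_1 D225583 F530960 (iv2 F492097)
theorem F531424 : act 3 n225583 = n224275 := d6_1 D225583 F524030 F485931
theorem F531425 : act 7 n225583 = n224294 := d13_2 F491462 D225583 F524140
theorem F531426 : act 4 n225583 = n224205 := d16_2 (iv4 F485929) D225583 F523627 (iv4 D218985) (iv5 D190483) (iv4 F151226) D191330 (iv7 F485371) F485369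
theorem F531427 : act 0 n225583 = n219412 := d17_2 D216790 D225583 (iv5 D219412) (iv4 D191417) (iv5 D98334) F136556 (iv5 F287767) (iv0 D185494) D185495
theorem F531428 : act 1 n225583 = n218590 := d17_6 (iv1 F383091) F373068 F294796 D186772 (iv4 F485929) D225583 (iv5 D218590) D218589 F494637
def n225584 : Q := act 3 n216791
theorem D225584 : act 3 n216791 = n225584 := rfl
theorem F531429 : act 2 n225584 = n225294 := d0_1 D225584 F531212 F531214 F502430 F491461
theorem F531430 : act 4 n225584 = n218388 := d5_2 F485933 D225584 (iv3 D218388) F376095 (iv3 F383073)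
theorem F531431 : act 5 n225584 = n225390 := d6_2 F523384 D225584 F530348
theorem F531432 : act 6 n225584 = n224157 := d7_2 F485934 D225584 (iv3 F523354)
theorem F531433 : act 7 n225584 = n222062 := d8_2 F492095 D225584 F512156
theorem F531434 : act 0 n225584 = n219606 := d20_4 (iv4 F487401) (iv1 F487404) F485933 D225584 (iv3 D219606) (iv4 D191835) (iv1 D98990) D98991 (iv3 F367524) D217011
theorem F531435 : act 0 n220165 = n225584 := d20_4 F475261 F372172 (iv4 F490840) (iv3 F502442) (iv3 D225584) (iv4 F485933) F383074 (iv4 F486981) (iv3 F486983) F475262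
def n225585 : Q := act 5 n216792
theorem D225585 : act 5 n216792 = n225585 := rfl
theorem F531436 : act 3 n225585 = n216793 := d6_1 D225585 (iv5 D216793) D216792
theorem F531437 : act 4 n225585 = n221481 := d9_1 D225585 F509227 F475975 (iv5 F363330) F178320 (iv5 F178318) (iv4 F420086) D222829 F516312 F509226 (iv4 D216090) (iv5 F402344) F402343 F356718 (iv4 F485935)
theorem F531438 : act 7 n225585 = n222929 := d13_2 (iv7 F485937) D225585 (iv5 D222929)
theorem F531439 : act 0 n225585 = n221438 := d17_2 F485938 D225585 (iv5 F516100) F516099 F419290 F248612 (iv5 F420554) (iv0 F420556) (iv4 F421569)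
theorem F531440 : act 1 n225585 = n222000 := d17_6 F475274 (iv5 D201348) (iv1 F205635) F356718 (iv4 F485935) D225585 (iv5 F529757) (iv0 F529852) F529851
def n225586 : Q := act 5 n216794
theorem D225586 : act 5 n216794 = n225586 := rfl
theorem F531441 : act 3 n225586 = n216795 := d6_1 D225586 (iv5 D216795) D216794
theorem F531442 : act 4 n225586 = n224722 := d9_1 D225586 (iv5 D224722) F457446 (iv5 F432990) (iv4 F520952) F520953 F485151 D220646 (iv4 F510953) F510954 F463689 D222369 (iv4 F531259) (iv5 D225556) (iv4 F485939)
theorem F531443 : act 7 n225586 = n222565 := d13_2 F500607 D225586 F514952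
theorem F531444 : act 0 n225586 = n219530 := d17_2 (iv1 F500612) D225586 F499295 F484490 (iv5 F524584) (iv0 F524585) (iv5 F504143) F519721 F519718
theorem F531445 : act 1 n225586 = n219816 := d17_6 (iv1 F528623) F529207 (iv1 F531261) (iv5 D225556) (iv4 F485939) D225586 F528778 F528777 F528660
def n225587 : Q := act 6 n216806
theorem D225587 : act 6 n216806 = n225587 := rfl
theorem F531446 : act 2 n225587 = n217299 := d3_1 D225587 (iv6 D217299) (iv2 F485994)
theorem F531447 : act 3 n225587 = n216808 := d7_1 D225587 (iv6 D216808) (iv3 F485995)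
theorem F531448 : act 4 n225587 = n224654 := d10_1 D225587 F530934 F530933
theorem F531449 : act 5 n225587 = n217871 := d12_1 D225587 (iv6 D217871) (iv5 D188082) (iv6 F287788) D216806
def n225588 : Q := act 7 n216808
theorem D225588 : act 7 n216808 = n225588 := rfl
theorem F531450 : act 2 n225588 = n219918 := d4_1 D225588 (iv7 D219918) (iv2 F486002)
theorem F531451 : act 4 n225588 = n225559 := d11_1 D225588 F531277 F498496
theorem F531452 : act 5 n225588 = n219894 := d13_1 D225588 (iv7 D219894) (iv5 F486003)
theorem F531453 : act 6 n225588 = n224368 := d14_1 D225588 F524558 (iv6 D216275) F287802 D216808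
theorem F531454 : act 1 n219423 = n225588 := d15_1 (iv0 F498826) (iv7 D225588) F486002
theorem F531455 : act 1 n225588 = n219916 := d15_1 F531454 (iv7 F531407) F531403
def n225589 : Q := act 5 n216817
theorem D225589 : act 5 n216817 = n225589 := rfl
theorem F531456 : act 3 n225589 = n221057 := d6_1 D225589 F507027 F494978
theorem F531457 : act 6 n225589 = n217343 := d12_2 D216817 D225589 (iv5 D217343) (iv6 F478532) F478534
theorem F531458 : act 7 n225589 = n220735 := d13_2 (iv7 F486042) D225589 F505227
theorem F531459 : act 0 n225589 = n218851 := d17_2 (iv1 F497543) D225589 F495912 (iv4 F382696) (iv5 F382700) (iv0 D161007) D161010 D214767 (iv4 F497541)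
theorem F531460 : act 1 n225589 = n218824 := d17_6 F382689 (iv5 F435518) F435524 (iv5 F435580) (iv4 F486041) D225589 F495806 (iv0 D191236) (iv4 F382687)
def n225590 : Q := act 4 n216824
theorem D225590 : act 4 n216824 = n225590 := rfl
theorem F531461 : act 2 n225590 = n225410 := d1_1 D225590 F530449 F498167
theorem F531462 : act 5 n225590 = n222376 := d9_2 (iv5 F486072) D225590 F513874 F479105 F474322 (iv5 F382451) (iv4 F492057) (iv5 F492059) (iv4 F520627) F520628 F432458 F430684 F254510 D161010 D214768
def n225591 : Q := act 6 n216854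
theorem D225591 : act 6 n216854 = n225591 := rfl
theorem F531463 : act 2 n225591 = n220009 := d3_1 D225591 F501629 F498841
theorem F531464 : act 3 n225591 = n216855 := d7_1 D225591 (iv6 D216855) D216854
theorem F531465 : act 4 n225591 = n220013 := d10_1 D225591 F501648 F498780
theorem F531466 : act 5 n225591 = n217734 := d12_1 D225591 F490380 F375815 (iv6 F394350) (iv5 F486237)
theorem F531467 : act 0 n225591 = n225474 := d21_4 F488114 F394352 (iv5 F486237) D225591 F530826 F482479 F469986 F469984 (iv6 F469985) F488118
theorem F531468 : act 0 n224358 = n225591 := d21_4 (iv5 D217643) (iv1 F371196) (iv5 F449154) D224358 (iv6 D225591) F486237 (iv1 F394353) (iv5 F487931) F487932 F489911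
theorem F531469 : act 7 n225477 = n225591 := d13_0 F531466 (iv7 F492754) (iv5 F530841)
def n225592 : Q := act 6 n216856
theorem D225592 : act 6 n216856 = n225592 := rfl
theorem F531470 : act 2 n225592 = n224522 := d3_1 D225592 F525452 F486247
theorem F531471 : act 3 n225592 = n221847 := d7_1 D225592 F511027 F486248
theorem F531472 : act 4 n225592 = n219436 := d10_1 D225592 (iv6 D219436) (iv4 F486246)
theorem F531473 : act 5 n225592 = n219576 := d12_1 D225592 (iv6 F499526) F479145 D215785 (iv5 F486245)
theorem F531474 : act 7 n225592 = n224789 := d14_2 (iv7 F486244) D225592 F526879 F458501 F483144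
theorem F531475 : act 0 n225592 = n224584 := d21_4 (iv5 F471031) F481572 (iv5 F486245) D225592 F525772 (iv5 D214541) F355770 D213326 F469940 D213329
theorem F531476 : act 0 n224599 = n225592 := d21_4 (iv5 D136885) D136883 D209751 D224599 (iv6 D225592) F486245 F481571 (iv5 F469951) F469952 (iv1 D209756)
def n225593 : Q := act 5 n216897
theorem D225593 : act 5 n216897 = n225593 := rfl
theorem F531477 : act 2 n225593 = n219618 := d2_1 D225593 (iv5 D219618) (iv2 F486456)
theorem F531478 : act 3 n225593 = n225344 := d6_1 D225593 F530067 F492982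
theorem F531479 : act 4 n225593 = n216936 := d9_1 D225593 F486605 (iv4 F392234) F186438 F294789 D186285 D216898 F486463 F480279 F273550 (iv4 F468383) F468384 (iv4 D186279) D186280 D216897
theorem F531480 : act 6 n225593 = n219214 := d12_2 (iv6 F492980) D225593 (iv5 F523953) (iv6 D224260) (iv5 F492976)
theorem F531481 : act 7 n225593 = n219408 := d13_2 (iv7 F486457) D225593 (iv5 D219408)
theorem F531482 : act 0 n225593 = n225329 := d17_2 (iv1 F486459) D225593 F529983 (iv4 D217984) F372886 F295435 D93258 D189104 (iv4 F413048)
theorem F531483 : act 1 n225593 = n218963 := d17_6 (iv1 D186289) (iv5 D88738) D88735 D186280 D216897 D225593 F496414 F491645 (iv4 D216902)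
def n225594 : Q := act 5 n216903
theorem D225594 : act 5 n216903 = n225594 := rfl
theorem F531484 : act 2 n225594 = n216988 := d2_1 D225594 F486886 (iv2 F486482)
theorem F531485 : act 3 n225594 = n217655 := d6_1 D225594 (iv5 F489960) (iv3 F486483)
theorem F531486 : act 6 n225594 = n216982 := d12_2 D216903 D225594 F486863 (iv6 F371235) (iv5 F367139)
theorem F531487 : act 0 n225594 = n217654 := d17_2 (iv1 F491391) D225594 F529265 (iv4 D225211) (iv5 F471711) (iv0 F466477) (iv5 F419935) F470476 (iv4 F491388)
def n225595 : Q := act 5 n216908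
theorem D225595 : act 5 n216908 = n225595 := rfl
theorem F531488 : act 2 n225595 = n219735 := d2_1 D225595 (iv5 F524685) F524682
theorem F531489 : act 3 n225595 = n219740 := d6_1 D225595 F500364 F486497
theorem F531490 : act 4 n225595 = n220538 := d9_1 D225595 (iv5 F504257) (iv4 D216592) (iv5 F473694) (iv4 F508160) (iv5 F513860) F513859 F486496 (iv4 F500435) (iv5 F500440) (iv4 F467275) (iv5 F513287) (iv4 F520802) (iv5 D223700) (iv4 F486498)
theorem F531491 : act 6 n225595 = n219879 := d12_2 (iv6 F486499) D225595 F501008 (iv6 F462194) F437639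
theorem F531492 : act 7 n225595 = n219840 := d13_2 F514206 D225595 (iv5 F514205)
theorem F531493 : act 1 n225595 = n219833 := d17_6 F524894 F524891 F520803 (iv5 D223700) (iv4 F486498) D225595 F500802 D224447 (iv4 F525030)
theorem F531494 : act 0 n225595 = n219841 := d18_0 F500839 (iv1 D201923) F179523 D199029 F510024 F510019 F486494 D216908 D225595
def n225596 : Q := act 3 n216912
theorem D225596 : act 3 n216912 = n225596 := rfl
theorem F531495 : act 4 n225596 = n225453 := d5_2 F486513 D225596 F530700 (iv4 D223780) F480313
theorem F531496 : act 5 n225596 = n222616 := d6_2 F494886 D225596 F515198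
theorem F531497 : act 7 n225596 = n225341 := d8_2 (iv7 F491447) D225596 F530052
theorem F531498 : act 0 n225596 = n225387 := d19_4 D214289 (iv5 F480312) F486513 D225596 F530336 (iv4 F494231) F494230 (iv1 F492226) (iv5 F494142) F494144 F486034 (iv1 F370195) (iv5 F476608) (iv4 D214740) (iv3 F476605) (iv1 F512584) (iv5 D222144) F408136 F364308
theorem F531499 : act 6 n222617 = n225596 := d21_3 (iv5 F474713) F474715 D222617 F531498 (iv6 D225387) F478558 (iv1 F455772) (iv5 F506232) (iv6 F506234) (iv1 D215123)
theorem F531500 : act 2 n225596 = n222619 := d3_1 F531499 F515209 (iv2 F515201)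
def n225597 : Q := act 6 n216912
theorem D225597 : act 6 n216912 = n225597 := rfl
theorem F531501 : act 2 n225597 = n220409 := d3_1 D225597 F503644 (iv2 F491449)
theorem F531502 : act 3 n225597 = n222617 := d7_1 D225597 F531499 (iv3 D225596)
theorem F531503 : act 4 n225597 = n219949 := d10_1 D225597 F501317 F486513
theorem F531504 : act 5 n225597 = n218367 := d12_1 D225597 (iv6 F493530) (iv5 F416241) D218633 F494886
theorem F531505 : act 7 n225597 = n220407 := d14_2 (iv7 F491447) D225597 (iv6 D220407) (iv7 F491443) F491442
theorem F531506 : act 0 n225597 = n220376 := d21_10 (iv5 D220376) F390164 D193534 (iv6 F503510) F503512 F521126 F521123 F494887 F494886 D225597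
theorem F531507 : act 1 n225597 = n218842 := d15_1 (iv0 F531506) F495870 (iv2 F503484)
def n225598 : Q := act 5 n216925
theorem D225598 : act 5 n216925 = n225598 := rfl
theorem F531508 : act 3 n225598 = n216926 := d6_1 D225598 (iv5 D216926) D216925
theorem F531509 : act 4 n225598 = n224201 := d9_1 D225598 F523603 F480949 D218102 (iv4 F492157) (iv5 F494232) F494231 (iv5 F530336) F530335 F480958 F480956 (iv5 F486192) F486189 F376719 (iv4 F486554)
theorem F531510 : act 6 n225598 = n217269 := d12_2 (iv6 F486555) D225598 (iv5 F488204) (iv6 F449587) F449586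
theorem F531511 : act 7 n225598 = n220693 := d13_2 (iv7 F486556) D225598 (iv5 D220693)
theorem F531512 : act 1 n225598 = n225337 := d17_6 (iv1 F494469) (iv5 F494502) (iv1 D218565) F376719 (iv4 F486554) D225598 F530030 (iv0 F510110) F510108
theorem F531513 : act 0 n225598 = n225596 := d18_0 F531495 F530703 F492127 F495290 F495287 (iv0 D218474) F486540 (iv0 F486557) D225598
def n225599 : Q := act 6 n216927
theorem D225599 : act 6 n216927 = n225599 := rfl
theorem F531514 : act 2 n225599 = n216938 := d3_1 D225599 (iv6 D216938) (iv2 F486560)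
theorem F531515 : act 3 n225599 = n219152 := d7_1 D225599 (iv6 F530680) F530678
theorem F531516 : act 4 n225599 = n219624 := d10_1 D225599 (iv6 D219624) (iv4 F486562)
theorem F531517 : act 5 n225599 = n220841 := d12_1 D225599 (iv6 F505834) F415987 F414661 D216927
theorem F531518 : act 7 n225599 = n219223 := d14_2 (iv7 F486561) D225599 (iv6 D219223) F381644 (iv6 F480281)
theorem F531519 : act 0 n225599 = n220846 := d21_4 (iv5 D218651) (iv1 F377664) D216927 D225599 F505856 (iv5 D214365) D214363 F474772 F434900 (iv1 F494971)
theorem F531520 : act 1 n225599 = n222194 := d15_1 (iv0 F531519) F512834 (iv2 F505854)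
def n225600 : Q := act 4 n216935
theorem D225600 : act 4 n216935 = n225600 := rfl
theorem F531521 : act 2 n225600 = n225409 := d1_1 D225600 F530445 F527903
theorem F531522 : act 3 n225600 = n224240 := d5_1 D225600 F523845 F510082 (iv4 D216937) (iv3 F486600)
theorem F531523 : act 6 n225600 = n222602 := d10_2 (iv6 F486601) D225600 (iv4 D222602)
theorem F531524 : act 7 n225600 = n225452 := d11_2 (iv7 F486602) D225600 (iv4 D225452)
theorem F531525 : act 5 n225600 = n224346 := d16_1 D225600 F524451 F479097 F392191 (iv5 F276269) D215700 D225450 F530687 F527903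
theorem F531526 : act 0 n225600 = n224707 := d17_0 (iv5 D224707) F490053 D225408 F530443 F512601 F494908 D225444 F530658 D225600
def n225601 : Q := act 4 n216943
theorem D225601 : act 4 n216943 = n225601 := rfl
theorem F531527 : act 2 n225601 = n218468 := d1_1 D225601 F494042 (iv2 F486639)
theorem F531528 : act 3 n225601 = n217861 := d5_1 D225601 F490975 F376999 F369403 D216943
theorem F531529 : act 5 n225601 = n217860 := d9_2 (iv5 F486640) D225601 F490968 (iv5 D196065) F164176 D134339 (iv4 F383865) D219065 F496989 (iv5 D207538) (iv4 D131946) (iv5 D61910) (iv4 F96498) D131922 D207519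
theorem F531530 : act 6 n225601 = n221000 := d10_2 (iv6 F486641) D225601 (iv4 D221000)
theorem F531531 : act 7 n225601 = n218499 := d11_2 (iv7 F486642) D225601 F494176
theorem F531532 : act 0 n225601 = n218531 := d17_0 (iv5 D218531) F493760 D207491 (iv4 F495254) F495255 (iv0 F414512) D217185 F487840 D225601
theorem F531533 : act 1 n225601 = n224227 := d18_6 (iv1 D189844) (iv4 F377953) (iv1 F377963) D207519 (iv5 F486640) D225601 F523763 (iv0 F498407) (iv5 D218675)
def n225602 : Q := act 5 n216944
theorem D225602 : act 5 n216944 = n225602 := rfl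
theorem F531534 : act 2 n225602 = n225453 := d2_1 D225602 (iv5 D225453) (iv2 F486644)
theorem F531535 : act 3 n225602 = n218987 := d6_1 D225602 (iv5 D218987) (iv3 F486645)
theorem F531536 : act 6 n225602 = n222620 := d12_2 D216944 D225602 F515212 F486804 F369170
theorem F531537 : act 7 n225602 = n225340 := d13_2 (iv7 F486647) D225602 F530048
theorem F531538 : act 4 n225602 = n222619 := d16_2 (iv4 F486646) D225602 (iv5 D222619) (iv4 F504959) F504960 F494180 (iv5 F488481) F488478 (iv2 F379884)
theorem F531539 : act 0 n225602 = n218112 := d17_2 F486648 D225602 (iv5 D218112) (iv4 F373791) D216891 (iv0 F486697) (iv5 D216954) F486618 F486615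
theorem F531540 : act 1 n225602 = n218111 := d17_6 D92347 D188521 F379788 (iv5 F379885) (iv4 F486646) D225602 (iv5 D218111) (iv0 D188514) F142021
def n225603 : Q := act 6 n216965
theorem D225603 : act 6 n216965 = n225603 := rfl
theorem F531541 : act 2 n225603 = n217154 := d3_1 D225603 (iv6 D217154) (iv2 F486765)
theorem F531542 : act 3 n225603 = n217346 := d7_1 D225603 (iv6 D217346) (iv3 F486766)
theorem F531543 : act 4 n225603 = n221872 := d10_1 D225603 (iv6 F511164) F491145
theorem F531544 : act 5 n225603 = n225435 := d12_1 D225603 F530599 (iv5 D217418) F369758 D216965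
theorem F531545 : act 0 n219127 = n225603 := d21_4 F503877 F390734 D208101 (iv6 F497319) (iv6 D225603) (iv5 D216965) (iv1 F289501) D190231 D218890 F503878
def n225604 : Q := act 0 n216985
theorem D225604 : act 0 n216985 = n225604 := rfl
theorem F531546 : act 5 n225604 = n225149 := d17_3 F488312 (iv5 F486876) D225604 F528931 (iv5 D224921) D224920 F527605 F513508 F513505
theorem F531547 : act 4 n225604 = n224979 := d18_1 D225604 F527943 (iv4 F514975) (iv5 F502735) (iv4 F509378) (iv0 F513489) F513487 (iv0 D220529) (iv5 F486876)
theorem F531548 : act 3 n225604 = n219421 := d20_5 F478177 F462353 (iv4 F519473) F519472 D225604 F498813 (iv1 F388426) D213338 F469990 (iv1 F478179)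
theorem F531549 : act 6 n225604 = n225586 := d21_5 (iv5 D88916) D88914 D186608 D216985 D225604 (iv5 D225586) (iv1 F500608) F500572 (iv6 F483443) (iv1 D186613)
theorem F531550 : act 2 n217304 = n225604 := d15_3 (iv0 D225604) (iv0 F504506) (iv7 F504507)
theorem F531551 : act 7 n225604 = n220135 := d4_2 (iv7 F504507) F531550 (iv2 F504502)
def n225605 : Q := act 6 n216987
theorem D225605 : act 6 n216987 = n225605 := rfl
theorem F531552 : act 4 n225605 = n216988 := d10_1 D225605 (iv6 D216988) D216987
theorem F531553 : act 5 n225605 = n224995 := d12_1 D225605 (iv6 D224995) F463834 D213780 F486885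
theorem F531554 : act 1 n225521 = n225605 := d17_6 F463856 (iv5 F464081) F464079 D221034 (iv4 F519267) (iv5 F531050) F531553 (iv0 F528037) F467606
theorem F531555 : act 0 n225522 = n225605 := d18_2 F529051 D225522 F531552 F486886 F384593 (iv0 F375307) (iv4 F412813) (iv0 F470447) D225176
def n225606 : Q := act 0 n216988
theorem D225606 : act 0 n216988 = n225606 := rfl
theorem F531556 : act 5 n225606 = n225207 := d17_3 F384594 (iv5 F486886) D225606 (iv4 D225207) (iv5 D213677) (iv0 D154699) D154702 D213681 (iv4 F471601)
theorem F531557 : act 2 n217654 = n225606 := d15_3 (iv0 D225606) (iv0 F491634) F491404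
theorem F531558 : act 3 n225606 = n219425 := d0_2 D217654 F531557 (iv2 F498833) (iv3 D217954) (iv2 F375652)
def n225607 : Q := act 3 n216989
theorem D225607 : act 3 n216989 = n225607 := rfl
theorem F531559 : act 2 n225607 = n222630 := d0_1 D225607 F520457 F520453 F511014 F500614
theorem F531560 : act 4 n225607 = n225536 := d5_2 D216989 D225607 (iv3 D225536) (iv4 D216321) (iv3 F372296)
theorem F531561 : act 5 n225607 = n221730 := d6_2 (iv5 F486887) D225607 F510549
theorem F531562 : act 0 n225607 = n222574 := d19_4 (iv1 F372290) F372295 D216989 D225607 (iv5 D222574) F440653 (iv3 F440652) F503419 F503417 F488932 (iv3 F475762) (iv1 F497339) F497341 (iv4 D191036) (iv3 F381750) (iv1 F394356) (iv5 D194753) (iv4 F366986) (iv3 F371238)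
theorem F531563 : act 0 n222576 = n225607 := d17_2 F463168 D222576 F531561 F510550 F463175 (iv0 F514564) (iv5 D222499) (iv0 F414065) D211811
def n225608 : Q := act 2 n216993
theorem D225608 : act 2 n216993 = n225608 := rfl
theorem F531564 : act 3 n225608 = n224524 := d0_2 (iv3 F491409) D225608 F525460 F524560 (iv2 F491405)
theorem F531565 : act 5 n225608 = n217634 := d2_2 (iv5 F490159) D225608 F490154
theorem F531566 : act 7 n225608 = n216994 := d4_2 F531104 D225608 (iv2 F531102)
theorem F531567 : act 1 n225608 = n216995 := d15_0 (iv0 F531105) F531104 D225608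
theorem F531568 : act 4 n225608 = n225007 := d16_0 (iv5 D225007) F464134 F457687 F421137 D201649 (iv4 F489869) (iv5 F531103) F531104 D225608
theorem F531569 : act 1 n216996 = n225608 := d18_6 F527017 F527013 F500162 (iv4 F461652) F510764 F510767 F531568 F528087 F524433
def n225609 : Q := act 4 n216993
theorem D225609 : act 4 n216993 = n225609 := rfl
theorem F531570 : act 2 n225609 = n225007 := d1_1 D225609 (iv4 F531568) (iv2 D225608)
theorem F531571 : act 5 n225609 = n225005 := d9_2 (iv5 F490159) D225609 F528076 F525510 F516565 D222896 F516643 F486900 (iv4 F526556) (iv5 D224729) F457641 D210473 (iv4 F457684) F450459 (iv4 F490152)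
theorem F531572 : act 1 n225609 = n222570 := d18_6 (iv1 F450486) (iv4 F522491) (iv1 F522493) (iv4 F490152) (iv5 F490159) D225609 (iv4 F524415) F524416 (iv5 F510769)
def n225610 : Q := act 6 n216994
theorem D225610 : act 6 n216994 = n225610 := rfl
theorem F531573 : act 2 n225610 = n225536 := d3_1 D225610 F531129 F531102
theorem F531574 : act 3 n225610 = n223390 := d7_1 D225610 F519224 (iv3 F486901)
theorem F531575 : act 4 n225610 = n222630 := d10_1 D225610 (iv6 F526555) F526556
theorem F531576 : act 5 n225610 = n220529 := d12_1 D225610 F504209 (iv5 D210187) D210188 F486900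
theorem F531577 : act 0 n224699 = n225610 := d21_4 (iv5 D215354) F427156 (iv5 F500734) (iv6 F526388) (iv6 D225610) (iv5 F486900) F470719 (iv5 F488333) F488334 (iv1 F479529)
theorem F531578 : act 1 n225425 = n225610 := d15_0 (iv0 F531577) F526389 (iv2 F530534)
def n225611 : Q := act 5 n217010
theorem D225611 : act 5 n217010 = n225611 := rfl
theorem F531579 : act 2 n225611 = n218590 := d2_1 D225611 (iv5 D218590) (iv2 F486974)
theorem F531580 : act 4 n225611 = n219100 := d9_1 D225611 (iv5 D219100) (iv4 D190817) (iv5 D96951) F71405 D86937 D182025 D216155 (iv4 F522552) F522553 F486056 (iv5 D190484) F147666 D186639 D217010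
theorem F531581 : act 7 n225611 = n219412 := d13_2 (iv7 F486975) D225611 (iv5 D219412)
theorem F531582 : act 0 n225611 = n225500 := d17_2 (iv1 F486977) D225611 F530960 F492096 F485370 F289236 D191140 F382390 (iv4 F454313)
theorem F531583 : act 1 n225611 = n224294 := d17_6 F294097 (iv5 D98988) (iv1 F136552) D186639 D217010 D225611 F524140 F491464 (iv4 D188473)
def n225612 : Q := act 1 n217013
theorem D225612 : act 1 n217013 = n225612 := rfl
theorem F531584 : act 1 n225612 = n219601 := d15_1 D225612 F499631 F498270
theorem F531585 : act 7 n225612 = n219614 := d15_2 F524185 D225612 (iv2 F524179)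
theorem F531586 : act 5 n225612 = n217020 := d17_7 F367523 (iv5 D186639) (iv1 D88969) D88971 D186640 D217013 D225612 F487013 (iv4 D191864)
theorem F531587 : act 4 n225612 = n218882 := d17_9 (iv1 F523630) F523627 F496538 (iv5 F512605) F512604 F499755 (iv0 D217011) D217013 D225612
theorem F531588 : act 3 n225493 = n225612 := d19_19 (iv1 D225612) (iv5 D217013) (iv4 D186640) F136558 F293450 (iv5 D20753) (iv4 D9847) (iv3 F15457) F31629 (iv5 D19832) (iv4 F30741) F30740 D26745 D55345 (iv4 F91643) D124230 F281219 D216110 D225493
theorem F531589 : act 2 n225612 = n219613 := d0_1 F531588 (iv3 F499682) (iv2 F445800) (iv3 F523912) (iv2 F530920)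
theorem F531590 : act 6 n225612 = n224111 := d7_2 (iv6 F530921) F531588 F523087
def n225613 : Q := act 1 n217044
theorem D225613 : act 1 n217044 = n225613 := rfl
theorem F531591 : act 1 n225613 = n224179 := d15_1 D225613 F523481 (iv2 F487118)
theorem F531592 : act 7 n225613 = n219485 := d15_2 (iv0 F515903) D225613 (iv2 F515899)
theorem F531593 : act 5 n225613 = n224011 := d17_7 F409985 (iv5 F449288) (iv1 F449289) (iv5 F449272) D222462 F514341 D225613 (iv0 F522526) F443074
theorem F531594 : act 4 n225613 = n219545 := d17_9 F499367 F450442 F427210 F427209 F410162 D207825 (iv0 F514342) F514341 D225613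
theorem F531595 : act 3 n217050 = n225613 := d19_19 (iv1 D225613) (iv5 F514341) (iv4 D222462) (iv3 F499536) (iv1 F499533) (iv5 D191789) (iv4 D98921) F139514 (iv1 D40631) (iv5 D19185) F14074 (iv3 F14001) D19154 F294488 F293535 (iv3 F151999) (iv1 F380797) F380803 D217050
theorem F531596 : act 6 n224258 = n225613 := d21_3 F446595 (iv1 F450669) (iv5 F523941) (iv1 D225613) (iv6 D217044) (iv5 F442783) (iv1 F442785) D212384 F465614 F446596
theorem F531597 : act 2 n225613 = n224266 := d3_1 F531596 (iv6 D224266) F523944
def n225614 : Q := act 7 n217044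
theorem D225614 : act 7 n217044 = n225614 := rfl
theorem F531598 : act 2 n225614 = n224179 := d4_1 D225614 F523481 (iv2 F487118)
theorem F531599 : act 3 n225614 = n224073 := d8_1 D225614 F522872 F497149
theorem F531600 : act 4 n225614 = n217046 := d11_1 D225614 (iv7 D217046) (iv4 F487119)
theorem F531601 : act 5 n225614 = n225052 := d13_1 D225614 F528352 F514341
theorem F531602 : act 6 n225614 = n219506 := d14_1 D225614 (iv7 D219506) (iv6 D191609) (iv7 F367725) D217044
theorem F531603 : act 1 n224266 = n225614 := d15_1 (iv0 F523985) (iv7 D225614) F487118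
theorem F531604 : act 1 n225614 = n219485 := d15_1 F531603 (iv7 F531592) F531597
def n225615 : Q := act 6 n217048
theorem D225615 : act 6 n217048 = n225615 := rfl
theorem F531605 : act 2 n225615 = n217052 := d3_1 D225615 (iv6 D217052) (iv2 F487137)
theorem F531606 : act 3 n225615 = n224281 := d7_1 D225615 (iv6 D224281) (iv3 F487138)
theorem F531607 : act 4 n225615 = n217049 := d10_1 D225615 (iv6 D217049) D217048
theorem F531608 : act 7 n225615 = n224284 := d14_2 (iv7 F487140) D225615 (iv6 D224284) F451520 F451517
theorem F531609 : act 0 n225615 = n218661 := d21_4 (iv5 F437402) (iv1 F437730) (iv5 F487139) D225615 F495023 D224005 F522485 F439266 (iv6 D191635) (iv1 F344981)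
theorem F531610 : act 0 n224263 = n225615 := d21_4 (iv5 D132203) D132201 F445905 D224263 (iv6 D225615) F487139 (iv1 D205758) F344978 F344983 (iv1 F211798)
def n225616 : Q := act 7 n217049
theorem D225616 : act 7 n217049 = n225616 := rfl
theorem F531611 : act 2 n225616 = n217055 := d4_1 D225616 (iv7 D217055) (iv2 F487143)
theorem F531612 : act 3 n225616 = n219497 := d8_1 D225616 (iv7 D219497) (iv3 F487144)
theorem F531613 : act 4 n225616 = n224284 := d11_1 D225616 (iv7 F531608) F531607
theorem F531614 : act 5 n225616 = n223178 := d13_1 D225616 F518042 F500594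
theorem F531615 : act 6 n225616 = n219484 := d14_1 D225616 (iv7 D219484) (iv6 D191579) (iv7 F367756) D217049
theorem F531616 : act 1 n217054 = n225616 := d15_1 D217054 (iv7 D225616) F487143
theorem F531617 : act 1 n225616 = n217053 := d15_1 F531616 (iv7 F530548) F530544
def n225617 : Q := act 5 n217052
theorem D225617 : act 5 n217052 = n225617 := rfl
theorem F531618 : act 3 n225617 = n221441 := d6_1 D225617 (iv5 F523840) F523839
theorem F531619 : act 6 n225617 = n220916 := d12_2 D217052 D225617 F506249 F437392 (iv5 F437391)
theorem F531620 : act 4 n225617 = n222129 := d16_2 (iv4 F487154) D225617 (iv5 D222129) F408079 D202359 D223178 (iv5 F531614) (iv7 D225616) F487143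
theorem F531621 : act 0 n225617 = n223928 := d17_2 F523248 D225617 (iv5 D223928) F437487 D208509 F471193 (iv5 F483660) (iv0 F483661) (iv4 F523245)
def n225618 : Q := act 4 n217053
theorem D225618 : act 4 n217053 = n225618 := rfl
theorem F531622 : act 3 n225618 = n219504 := d5_1 D225618 (iv4 F520443) F520442 (iv4 F498456) F498454
theorem F531623 : act 6 n225618 = n224672 := d10_2 (iv6 F489885) D225618 F526223
theorem F531624 : act 7 n225618 = n224264 := d11_2 F530548 D225618 (iv4 F530546)
theorem F531625 : act 0 n225618 = n225389 := d17_0 F530344 F528449 (iv5 D224462) (iv4 F503607) F504751 (iv0 F518040) (iv5 F531614) F531617 D225618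
theorem F531626 : act 1 n225618 = n225501 := d18_6 (iv1 F485504) (iv4 F485506) (iv1 F517230) F517227 (iv5 F498452) D225618 F530966 (iv0 F483274) (iv5 F485086)
def n225619 : Q := act 4 n217069
theorem D225619 : act 4 n217069 = n225619 := rfl
theorem F531627 : act 2 n225619 = n219527 := d1_1 D225619 (iv4 D219527) (iv2 F487245)
theorem F531628 : act 3 n225619 = n223335 := d5_1 D225619 (iv4 D223335) (iv3 F516733) F516728 (iv3 F487246)
theorem F531629 : act 5 n225619 = n220397 := d9_2 D217069 D225619 F503583 F489302 (iv4 F445365) F445366 F367795 D217068 (iv4 F529682) F529683 (iv4 F485460) (iv5 D208448) F445330 (iv5 D207532) (iv4 F367808)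
theorem F531630 : act 6 n225619 = n220888 := d10_2 (iv6 F487247) D225619 F506082
theorem F531631 : act 7 n225619 = n219525 := d11_2 (iv7 F487248) D225619 (iv4 D219525)
theorem F531632 : act 0 n225619 = n220476 := d17_0 F503952 (iv1 F485299) (iv5 F499283) (iv4 D219528) (iv5 F384060) (iv0 F491297) F491296 (iv0 F487923) D225619
theorem F531633 : act 1 n225619 = n220059 := d18_6 (iv1 F384209) F384206 F352572 (iv4 F367808) D217069 D225619 F501912 (iv0 F456163) (iv5 F384006)
def n225620 : Q := act 3 n217082
theorem D225620 : act 3 n217082 = n225620 := rfl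
theorem F531634 : act 5 n225620 = n217293 := d6_2 (iv5 F487316) D225620 (iv3 D217293)
theorem F531635 : act 6 n225620 = n217654 := d7_2 (iv6 F487321) D225620 (iv3 D217654)
theorem F531636 : act 7 n225620 = n225536 := d8_2 F487320 D225620 (iv3 D225536)
theorem F531637 : act 0 n225620 = n224699 := d19_4 (iv1 F287656) (iv5 F384275) (iv4 F487317) D225620 (iv5 D224699) (iv4 F513661) F513660 F440388 F366096 (iv4 D95819) (iv3 F147490) D190270 F382243 F382239 F251967 D189282 F376319 (iv4 F287675) F287674
theorem F531638 : act 0 n225425 = n225620 := d20_4 F363625 D194108 (iv4 F479485) (iv3 F530535) (iv3 D225620) F487317 (iv1 F384278) (iv4 F368851) (iv3 F389882) F389884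
def n225621 : Q := act 5 n217104
theorem D225621 : act 5 n217104 = n225621 := rfl
theorem F531639 : act 2 n225621 = n225497 := d2_1 D225621 (iv5 D225497) (iv2 F487438)
theorem F531640 : act 3 n225621 = n224273 := d6_1 D225621 (iv5 D224273) (iv3 F487439)
theorem F531641 : act 4 n225621 = n224203 := d9_1 D225621 (iv5 D224203) F443901 F379879 (iv4 F373598) (iv5 F383089) (iv4 F494637) (iv5 F525113) (iv4 F527930) F527931 F496021 F379872 (iv4 D188211) (iv5 F367975) D217104
theorem F531642 : act 7 n225621 = n224469 := d13_2 (iv7 F487440) D225621 F525150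
theorem F531643 : act 0 n225621 = n225582 := d17_2 (iv1 F487442) D225621 (iv5 D225582) (iv4 D216768) (iv5 D185476) (iv0 F293670) (iv5 F367559) F367561 D189571
theorem F531644 : act 1 n225621 = n218086 := d17_6 F485372 F375815 (iv1 F370943) (iv5 F367975) D217104 D225621 (iv5 D218086) D218085 F492096
theorem F531645 : act 6 n225621 = n218702 := d21_3 (iv5 D218590) (iv1 F487442) D225621 (iv1 F495229) (iv6 F495235) F443467 F407072 (iv5 F442737) D224163 (iv1 F523386)
def n225622 : Q := act 6 n217104
theorem D225622 : act 6 n217104 = n225622 := rfl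
theorem F531646 : act 2 n225622 = n222006 := d3_1 D225622 (iv6 F511869) (iv2 F487438)
theorem F531647 : act 3 n225622 = n220145 := d7_1 D225622 F502353 (iv3 F487439)
theorem F531648 : act 4 n225622 = n217105 := d10_1 D225622 (iv6 D217105) D217104
theorem F531649 : act 7 n225622 = n222729 := d14_2 (iv7 F487440) D225622 (iv6 D222729) F418345 F454314
theorem F531650 : act 0 n225622 = n223884 := d21_4 D218086 (iv1 F531644) (iv5 D225621) D225622 (iv6 F522957) (iv5 D224087) F489862 F523292 F523290 (iv1 D218085)
theorem F531651 : act 0 n224124 = n225622 := d21_4 (iv5 F516517) F516519 (iv5 F523300) F523303 (iv6 D225622) D225621 F531643 (iv5 D225582) F485857 (iv1 F502284)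
def n225623 : Q := act 4 n217107
theorem D225623 : act 4 n217107 = n225623 := rfl
theorem F531652 : act 2 n225623 = n219634 := d1_1 D225623 F499772 (iv2 F487454)
theorem F531653 : act 3 n225623 = n223425 := d5_1 D225623 F519385 F427870 (iv4 F428442) (iv3 F487455)
theorem F531654 : act 5 n225623 = n225550 := d9_2 D217107 D225623 F531224 F524899 F493486 (iv5 F448501) F448500 F432700 (iv4 F514164) (iv5 F531149) F531148 F483928 (iv4 F511331) F511332 F487451
theorem F531655 : act 6 n225623 = n217904 := d10_2 (iv6 F487456) D225623 (iv4 D217904)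
theorem F531656 : act 7 n225623 = n224941 := d11_2 F520755 D225623 F527715
theorem F531657 : act 0 n225623 = n217922 := d17_0 F491275 F493412 (iv5 F520471) F520470 F431491 D215602 (iv5 F480725) (iv0 F487457) D225623
theorem F531658 : act 1 n225623 = n224942 := d18_6 F499775 F499772 F487453 F487451 D217107 D225623 F527721 F484706 (iv5 F462280)
def n225624 : Q := act 7 n217128
theorem D225624 : act 7 n217128 = n225624 := rfl
theorem F531659 : act 2 n225624 = n218602 := d4_1 D225624 F494702 (iv2 F487565)
theorem F531660 : act 3 n225624 = n224536 := d8_1 D225624 F525524 F518465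
theorem F531661 : act 4 n225624 = n223688 := d11_1 D225624 (iv7 F521029) F521027
theorem F531662 : act 5 n225624 = n224473 := d13_1 D225624 F525169 (iv5 F487566)
theorem F531663 : act 6 n225624 = n222279 := d14_1 D225624 F513323 F450526 (iv7 F372950) D217128
theorem F531664 : act 1 n218596 = n225624 := d15_1 (iv0 F494675) (iv7 D225624) F487565
theorem F531665 : act 1 n225624 = n218603 := d15_1 F531664 F494708 (iv2 F494671)
def n225625 : Q := act 1 n217131
theorem D225625 : act 1 n217131 = n225625 := rfl
theorem F531666 : act 1 n225625 = n222385 := d15_1 D225625 F513929 F492992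
theorem F531667 : act 7 n225625 = n222383 := d15_2 (iv0 F487580) D225625 F513912
theorem F531668 : act 5 n225625 = n223764 := d17_7 (iv1 F476402) (iv5 D214687) D214684 (iv5 F480169) (iv4 F511812) F511813 D225625 (iv0 F521144) F492911
theorem F531669 : act 4 n225625 = n217832 := d17_9 F490838 F489683 F490879 F490877 F471643 F449324 D221996 F511813 D225625
theorem F531670 : act 3 n222474 = n225625 := d19_19 (iv1 D225625) (iv5 F511813) F511812 (iv3 F496171) F506014 F506011 F478449 (iv3 D205529) F358048 D214923 F477454 F463157 (iv1 F377549) F377546 (iv4 F406782) F406781 F430662 (iv5 F508873) (iv4 F514406)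
theorem F531671 : act 6 n220741 = n225625 := d21_3 (iv5 D199728) (iv1 F409277) (iv5 F505263) (iv1 D225625) F487579 F485050 (iv1 D216083) (iv5 F412343) F412344 F413275
theorem F531672 : act 2 n225625 = n222234 := d3_1 F531671 (iv6 D222234) F505265
def n225626 : Q := act 7 n217154
theorem D225626 : act 7 n217154 = n225626 := rfl
theorem F531673 : act 3 n225626 = n225383 := d8_1 D225626 F530312 (iv3 F487690)
theorem F531674 : act 4 n225626 = n225424 := d11_1 D225626 F530531 (iv4 F487691)
theorem F531675 : act 5 n225626 = n225383 := d13_1 D225626 F530312 (iv5 F487692)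
theorem F531676 : act 6 n225626 = n225382 := d14_1 D225626 F530307 F487635 F479308 D217154
theorem F531677 : act 1 n219127 = n225626 := d15_1 (iv0 F531545) (iv7 D225626) (iv2 F531541)
def n225627 : Q := act 3 n217160
theorem D225627 : act 3 n217160 = n225627 := rfl
theorem F531678 : act 2 n225627 = n219107 := d0_1 D225627 (iv3 F497218) (iv2 F381405) (iv3 F480301) (iv2 F487714)
theorem F531679 : act 4 n225627 = n219293 := d5_2 F511817 D225627 F498157 D219296 (iv3 F511816)
theorem F531680 : act 5 n225627 = n218668 := d6_2 (iv5 F487712) D225627 F495060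
theorem F531681 : act 6 n225627 = n217463 := d7_2 F487713 D225627 F488984
theorem F531682 : act 7 n225627 = n219106 := d8_2 (iv7 F487711) D225627 (iv3 F497215)
theorem F531683 : act 0 n225627 = n218125 := d19_4 (iv1 F492554) (iv5 F511818) F511817 D225627 F492247 (iv4 F478133) (iv3 D215059) (iv1 D165784) (iv5 F248694) (iv4 F338361) F338360 (iv1 F363997) D207974 F447220 (iv3 D198255) (iv1 F407340) F467831 F467828 (iv3 F375035)
theorem F531684 : act 0 n219108 = n225627 := d20_4 F496164 D222242 F513110 (iv3 F497220) (iv3 D225627) (iv4 F511817) (iv1 F530435) (iv4 D225406) F478959 D218912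
def n225628 : Q := act 3 n217177
theorem D225628 : act 3 n217177 = n225628 := rfl
theorem F531685 : act 2 n225628 = n222034 := d0_1 D225628 F512000 F406648 F391023 (iv2 F487803)
theorem F531686 : act 4 n225628 = n224798 := d5_2 (iv4 F487801) D225628 (iv3 F530754) F530749 F488255
theorem F531687 : act 5 n225628 = n222025 := d6_2 F487802 D225628 F511966
theorem F531688 : act 6 n225628 = n224797 := d7_2 F530611 D225628 (iv3 F530610)
theorem F531689 : act 7 n225628 = n220492 := d8_2 (iv7 F487800) D225628 (iv3 D220492)
theorem F531690 : act 0 n225628 = n222032 := d19_4 (iv1 F431113) (iv5 F486831) (iv4 F487801) D225628 (iv5 F511992) F411870 F404118 D197393 D221846 (iv4 F516470) (iv3 F526367) F526371 F487045 F475565 (iv3 F475564) (iv1 F458279) F458276 F255576 (iv3 F431112)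
theorem F531691 : act 0 n219357 = n225628 := d20_4 D224765 F526744 F498460 (iv3 F498446) (iv3 D225628) F487801 (iv1 D216976) (iv4 F367350) (iv3 F391065) F458217
def n225629 : Q := act 6 n217192
theorem D225629 : act 6 n217192 = n225629 := rfl
theorem F531692 : act 3 n225629 = n218088 := d7_1 D225629 F492102 (iv3 F487875)
theorem F531693 : act 4 n225629 = n217193 := d10_1 D225629 (iv6 D217193) D217192
theorem F531694 : act 5 n225629 = n218087 := d12_1 D225629 (iv6 F528346) F528345 F521370 F493472
theorem F531695 : act 0 n225629 = n218396 := d21_4 (iv5 F483961) F493474 F493472 D225629 F493676 F488414 F457316 D210681 (iv6 F487901) F487897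
theorem F531696 : act 0 n218391 = n225629 := d21_4 (iv5 F398443) (iv1 F398446) F397809 (iv6 F493651) (iv6 D225629) (iv5 F493472) (iv1 F530982) (iv5 D225503) (iv6 F483279) (iv1 F383511)
def n225630 : Q := act 4 n217197
theorem D225630 : act 4 n217197 = n225630 := rfl
theorem F531697 : act 2 n225630 = n223346 := d1_1 D225630 (iv4 D223346) (iv2 F487892)
theorem F531698 : act 3 n225630 = n224783 := d5_1 D225630 (iv4 D224783) (iv3 F487900) (iv4 D217198) D217197
theorem F531699 : act 5 n225630 = n225126 := d9_2 (iv5 F487893) D225630 (iv4 D225126) F469379 F422811 D202576 (iv4 F426395) F426399 (iv4 F501998) (iv5 F504091) F504090 F469376 (iv4 F422813) (iv5 F341009) (iv4 F426389)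
theorem F531700 : act 7 n225630 = n223348 := d11_2 (iv7 F487894) D225630 (iv4 D223348)
theorem F531701 : act 0 n225630 = n225576 := d18_2 (iv1 F502017) D225630 F531379 F485728 F464946 F393546 D177140 (iv0 F432560) (iv5 F502013)
theorem F531702 : act 1 n225630 = n223388 := d18_6 F426538 F426537 F418894 (iv4 F426389) (iv5 F487893) D225630 F519213 (iv0 F427393) (iv5 D203101)
theorem F531703 : act 6 n225630 = n217647 := d21_5 (iv5 F527728) F527731 F519151 D223388 (iv1 F531702) (iv5 D217647) (iv1 D187690) (iv5 F368879) D217245 (iv1 F488093)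
def n225631 : Q := act 6 n217197
theorem D225631 : act 6 n217197 = n225631 := rfl
theorem F531704 : act 2 n225631 = n223347 := d3_1 D225631 (iv6 D223347) (iv2 F487892)
theorem F531705 : act 3 n225631 = n217199 := d7_1 D225631 (iv6 D217199) D217197
theorem F531706 : act 4 n225631 = n217647 := d10_1 D225631 (iv6 F531703) (iv4 D225630)
theorem F531707 : act 5 n225631 = n220138 := d12_1 D225631 (iv6 F502314) F487752 (iv6 F487751) (iv5 F487893)
theorem F531708 : act 7 n225631 = n224385 := d14_2 (iv7 F487894) D225631 (iv6 D224385) (iv7 D208533) (iv6 F426897)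
theorem F531709 : act 0 n225631 = n224278 := d21_4 (iv5 D202962) D202960 (iv5 F487893) D225631 F524048 (iv5 F486009) F518259 F518254 F518876 (iv1 D223327)
theorem F531710 : act 0 n222865 = n225631 := d21_4 (iv5 F502205) F516534 (iv5 F531275) F531276 (iv6 D225631) F487893 F426392 D203074 (iv6 F518975) F518977
def n225632 : Q := act 7 n217210
theorem D225632 : act 7 n217210 = n225632 := rfl
theorem F531711 : act 2 n225632 = n224602 := d4_1 D225632 F525869 (iv2 F487951)
theorem F531712 : act 3 n225632 = n217212 := d8_1 D225632 (iv7 D217212) (iv3 F487952)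
theorem F531713 : act 4 n225632 = n224528 := d11_1 D225632 F525485 (iv4 F487953)
theorem F531714 : act 5 n225632 = n219655 := d13_1 D225632 (iv7 D219655) (iv5 F487954)
theorem F531715 : act 6 n225632 = n224786 := d14_1 D225632 F526860 (iv6 D217651) F371228 D217210
theorem F531716 : act 1 n224600 = n225632 := d15_1 (iv0 F525862) (iv7 D225632) F487951
theorem F531717 : act 1 n225632 = n224597 := d15_1 F531716 (iv7 F527135) F527132
def n225633 : Q := act 1 n217213
theorem D225633 : act 1 n217213 = n225633 := rfl
theorem F531718 : act 1 n225633 = n219521 := d15_1 D225633 (iv7 F527152) F527150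
theorem F531719 : act 7 n225633 = n219513 := d15_2 (iv0 F487965) D225633 F499238
theorem F531720 : act 5 n225633 = n218208 := d17_7 F523299 (iv5 D224146) D224145 (iv5 F523292) F489860 (iv5 F487964) D225633 F492729 D219519
theorem F531721 : act 4 n225633 = n224822 := d18_7 F464136 F464134 F503362 F503363 D221772 (iv4 F510762) D225633 F527058 F520208
theorem F531722 : act 3 n224368 = n225633 := d19_19 (iv1 D225633) F487964 (iv4 F489860) (iv3 D217630) (iv1 F418915) (iv5 F446950) (iv4 F501822) F501821 (iv1 D199233) (iv5 D111090) (iv4 F172286) (iv3 F222479) (iv1 F424990) (iv5 F487372) F487371 F446128 F420900 D222865 (iv4 F524557)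
theorem F531723 : act 2 n225633 = n219523 := d0_1 F531722 F499268 (iv2 F487260) (iv3 F525445) F525444
def n225634 : Q := act 3 n217220
theorem D225634 : act 3 n217220 = n225634 := rfl
theorem F531724 : act 0 n225634 = n217299 := d19_4 (iv1 F499923) F499920 (iv4 F488418) D225634 F488332 (iv4 F491036) F491035 (iv1 F511911) F511912 (iv4 D210407) (iv3 F457414) F457416 F455128 F464464 (iv3 F464463) (iv1 F513484) F513481 (iv4 F443976) (iv3 F431567)
def n225635 : Q := act 3 n217230
theorem D225635 : act 3 n217230 = n225635 := rfl
theorem F531725 : act 2 n225635 = n219967 := d0_1 D225635 F501421 F490458 F490460 F488037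
theorem F531726 : act 5 n225635 = n217949 := d6_2 F500010 D225635 (iv3 F500008)
theorem F531727 : act 6 n225635 = n225530 := d7_2 (iv6 F488038) D225635 (iv3 D225530)
theorem F531728 : act 7 n225635 = n225594 := d8_2 F489958 D225635 F531485
theorem F531729 : act 0 n225635 = n217955 := d19_4 (iv1 F491802) F375648 (iv4 F488036) D225635 (iv5 F493377) F493376 F472100 (iv1 D213790) (iv5 D155836) (iv4 D74126) D74125 (iv1 F365599) F347872 (iv4 F398616) (iv3 F505628) (iv1 F505736) F505734 F458611 (iv3 F491798)
theorem F531730 : act 0 n225606 = n225635 := d20_4 (iv4 F501632) F501642 F501641 (iv3 F531558) (iv3 D225635) F488036 (iv1 D188202) D188203 D217958 F501631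
def n225636 : Q := act 6 n217238
theorem D225636 : act 6 n217238 = n225636 := rfl
theorem F531731 : act 2 n225636 = n217239 := d3_1 D225636 (iv6 D217239) D217238
theorem F531732 : act 3 n225636 = n223980 := d7_1 D225636 F522344 F492830
theorem F531733 : act 4 n225636 = n224597 := d10_1 D225636 F525850 (iv4 F488057)
theorem F531734 : act 5 n225636 = n223979 := d12_1 D225636 (iv6 D223979) F438149 F391846 (iv5 F488058)
theorem F531735 : act 7 n225636 = n225170 := d14_2 (iv7 F488059) D225636 (iv6 F529021) F499432 F485833
theorem F531736 : act 0 n225636 = n224785 := d21_4 (iv5 F444197) F444195 (iv5 F488058) D225636 (iv6 D224785) F458448 (iv1 F348148) D211212 F460630 F448097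
theorem F531737 : act 0 n219985 = n225636 := d21_4 F431628 F431627 F387144 D219985 (iv6 D225636) F488058 (iv1 F490176) F490173 (iv6 D213379) (iv1 F430818)
def n225637 : Q := act 7 n217239
theorem D225637 : act 7 n217239 = n225637 := rfl
theorem F531738 : act 2 n225637 = n225170 := d4_1 D225637 (iv7 F531735) F531731
theorem F531739 : act 3 n225637 = n217241 := d8_1 D225637 (iv7 D217241) (iv3 F488062)
theorem F531740 : act 4 n225637 = n224600 := d11_1 D225637 (iv7 F526692) F526693
theorem F531741 : act 5 n225637 = n224944 := d13_1 D225637 F527736 F488306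
theorem F531742 : act 6 n225637 = n217938 := d14_1 D225637 F491622 F491618 F372942 D217239
theorem F531743 : act 1 n219985 = n225637 := d15_1 (iv0 F531737) (iv7 D225637) (iv2 F531731)
theorem F531744 : act 1 n225637 = n224785 := d15_1 F531743 F526858 (iv2 F501517)
def n225638 : Q := act 1 n217255
theorem D225638 : act 1 n217255 = n225638 := rfl
theorem F531745 : act 1 n225638 = n225402 := d15_1 D225638 (iv7 F530471) F530468
theorem F531746 : act 7 n225638 = n224760 := d15_2 (iv0 F520186) D225638 F526719
theorem F531747 : act 5 n225638 = n225491 := d17_7 (iv1 F478643) F478640 F457428 (iv5 F458375) (iv4 F524542) F524543 D225638 F530913 (iv4 D223561)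
theorem F531748 : act 4 n225638 = n220556 := d17_9 F504340 F430792 F451852 (iv5 F519786) (iv4 F529646) F529647 (iv0 F524544) F524543 D225638
theorem F531749 : act 3 n224762 = n225638 := d19_19 (iv1 D225638) (iv5 F524543) F524542 (iv3 F526798) F526802 F483423 (iv4 F365328) (iv3 F456301) (iv1 F517821) (iv5 D223133) F423382 (iv3 D142809) (iv1 F322351) D153687 (iv4 F373388) F424364 (iv1 F424361) (iv5 F458160) (iv4 F526728)
theorem F531750 : act 6 n223626 = n225638 := d21_3 F519782 (iv1 F483363) (iv5 F520403) (iv1 D225638) (iv6 D217255) (iv5 F431170) F431171 F429579 (iv6 F431188) (iv1 F519780)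
theorem F531751 : act 2 n225638 = n223628 := d3_1 F531750 F520414 (iv2 F520402)
def n225639 : Q := act 7 n217299
theorem D225639 : act 7 n217299 = n225639 := rfl
theorem F531752 : act 3 n225639 = n217302 := d8_1 D225639 (iv7 D217302) (iv3 F488331)
theorem F531753 : act 4 n225639 = n222978 := d11_1 D225639 (iv7 F517085) (iv4 F510949)
theorem F531754 : act 5 n225639 = n217877 := d13_1 D225639 (iv7 D217877) (iv5 F488332)
theorem F531755 : act 6 n225639 = n219523 := d14_1 D225639 (iv7 D219523) F383992 F371244 D217299
def n225640 : Q := act 6 n217304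
theorem D225640 : act 6 n217304 = n225640 := rfl
theorem F531756 : act 2 n225640 = n225586 := d3_1 D225640 (iv6 F531549) (iv2 F531550)
theorem F531757 : act 3 n225640 = n217305 := d7_1 D225640 (iv6 D217305) D217304
theorem F531758 : act 5 n225640 = n219376 := d12_1 D225640 (iv6 F519514) F519511 F505223 F504509
theorem F531759 : act 7 n225640 = n220646 := d14_2 (iv7 F504507) D225640 F510833 F510830 (iv6 F504504)
theorem F531760 : act 0 n225423 = n225640 := d21_4 (iv5 D192299) F312610 D215313 D225423 (iv6 D225640) (iv5 F504509) (iv1 F504510) D224699 F526388 (iv1 D219812)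
def n225641 : Q := act 3 n217323
theorem D225641 : act 3 n217323 = n225641 := rfl
theorem F531761 : act 2 n225641 = n221784 := d0_1 D225641 (iv3 F525823) F525822 (iv3 F487999) (iv2 F488422)
theorem F531762 : act 4 n225641 = n221724 := d5_2 D217323 D225641 F510516 F488421 (iv3 D217322)
theorem F531763 : act 5 n225641 = n224779 := d6_2 (iv5 F488425) D225641 (iv3 D224779)
theorem F531764 : act 6 n225641 = n221728 := d7_2 (iv6 F488423) D225641 F510536
theorem F531765 : act 7 n225641 = n225634 := d8_2 (iv7 F488424) D225641 (iv3 D225634)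
theorem F531766 : act 0 n225641 = n225639 := d19_4 (iv1 F451816) F384958 D217323 D225641 F531754 F491041 (iv3 F459594) (iv1 F511941) (iv5 F513738) (iv4 D222349) (iv3 F503716) F524578 F524575 (iv4 F526404) F526403 (iv1 D222305) (iv5 F433115) (iv4 D204646) D204645
theorem F531767 : act 0 n225587 = n225641 := d20_4 (iv4 F525989) F525992 F498496 (iv3 F531447) (iv3 D225641) (iv4 D217323) (iv1 D187157) (iv4 F369256) (iv3 F488409) F488411
def n225642 : Q := act 0 n217342
theorem D225642 : act 0 n217342 = n225642 := rfl
theorem F531768 : act 5 n225642 = n222216 := d17_1 D225642 F529737 F529734 F512771 F433470 (iv0 D194743) (iv5 F381488) (iv0 F497598) F497594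
theorem F531769 : act 4 n225642 = n225208 := d18_1 D225642 (iv1 F529243) F527568 (iv5 F512577) F512576 F512339 (iv4 F522286) F522291 F512638
theorem F531770 : act 3 n225642 = n224189 := d20_5 (iv4 F369840) F393935 F393933 D217342 D225642 F523544 F513153 F495745 (iv3 D217451) (iv1 D187326)
theorem F531771 : act 6 n225642 = n218773 := d21_5 (iv5 D216927) (iv1 F377668) D218652 (iv6 F494976) D225642 (iv5 D218773) (iv1 F378742) (iv5 F408344) (iv6 F480285) (iv1 F486563)
theorem F531772 : act 2 n222174 = n225642 := d15_3 (iv0 D225642) (iv0 F497789) (iv7 F512727)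
theorem F531773 : act 1 n225290 = n225642 := d15_0 (iv0 D225642) (iv7 F488801) (iv2 F529746)
theorem F531774 : act 7 n225642 = n218789 := d15_2 (iv0 F529750) F531773 (iv2 F497786)
def n225643 : Q := act 3 n217345
theorem D225643 : act 3 n217345 = n225643 := rfl
theorem F531775 : act 4 n225643 = n221874 := d5_2 D217345 D225643 F511173 F491145 F486766
theorem F531776 : act 5 n225643 = n223875 := d6_2 F495239 D225643 F521779
theorem F531777 : act 6 n225643 = n221873 := d7_2 (iv6 F495236) D225643 F511171
theorem F531778 : act 7 n225643 = n218704 := d8_2 (iv7 F488544) D225643 (iv3 D218704)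
theorem F531779 : act 0 n225643 = n224919 := d19_4 D89822 D187222 D217345 D225643 F527602 F522785 (iv3 F507938) F507942 (iv5 D207588) F354358 F135450 (iv1 F63678) F63679 (iv4 F62871) (iv3 F63286) (iv1 F31580) (iv5 D19769) D19768 D41960
theorem F531780 : act 0 n224927 = n225643 := d20_4 F503116 F461453 D211419 D224927 (iv3 D225643) (iv4 D217345) F369552 D190301 (iv3 F389451) D220306
def n225644 : Q := act 6 n217347
theorem D225644 : act 6 n217347 = n225644 := rfl
theorem F531781 : act 2 n225644 = n220407 := d3_1 D225644 (iv6 D220407) (iv2 F488545)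
theorem F531782 : act 3 n225644 = n217349 := d7_1 D225644 (iv6 D217349) D217347
theorem F531783 : act 4 n225644 = n219950 := d10_1 D225644 F501322 F495714
theorem F531784 : act 5 n225644 = n218366 := d12_1 D225644 F493521 (iv5 D191994) D191995 (iv5 F488546)
theorem F531785 : act 7 n225644 = n220409 := d14_2 (iv7 F488547) D225644 F503644 F491448 F486510
theorem F531786 : act 0 n225644 = n218842 := d21_4 (iv5 D214543) F385145 (iv5 F488546) D225644 (iv6 F495871) (iv5 F497554) F497555 (iv5 F487692) (iv6 D217154) (iv1 F475712)
theorem F531787 : act 0 n220376 = n225644 := d17_0 F531784 (iv1 F493522) F480188 F480185 F379333 (iv0 F374447) D197538 (iv0 F461102) (iv4 F503485)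
def n225645 : Q := act 3 n217348
theorem D225645 : act 3 n217348 = n225645 := rfl
theorem F531788 : act 2 n225645 = n224242 := d0_1 D225645 (iv3 F524104) F524103 F522985 F488830
theorem F531789 : act 4 n225645 = n220297 := d5_2 D217348 D225645 F503081 F495714 (iv3 D217347)
theorem F531790 : act 5 n225645 = n221334 := d6_2 (iv5 F488823) D225645 (iv3 F508438)
theorem F531791 : act 0 n225645 = n224918 := d19_4 (iv1 F343081) (iv5 F369554) D217348 D225645 F527595 F515521 F495016 (iv1 D218659) (iv5 F377717) (iv4 D188781) (iv3 D92792) (iv1 F68257) (iv5 D41326) (iv4 F34857) F34856 (iv1 F7485) F17898 (iv4 F36630) (iv3 F76041)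
theorem F531792 : act 0 n223877 = n225645 := d20_4 F461464 (iv1 D211413) D211414 (iv3 F521786) (iv3 D225645) (iv4 D217348) (iv1 F369555) D190201 D218871 F495977
theorem F531793 : act 6 n220296 = n225645 := d21_3 (iv5 D215038) F475486 (iv5 F503079) F531791 F527596 (iv5 F521792) (iv1 F521794) F515516 F503110 F503109
def n225646 : Q := act 6 n217348
theorem D225646 : act 6 n217348 = n225646 := rfl
theorem F531794 : act 2 n225646 = n224165 := d3_1 D225646 F523394 F488830
theorem F531795 : act 3 n225646 = n220296 := d7_1 D225646 F531793 (iv3 D225645)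
theorem F531796 : act 4 n225646 = n217349 := d10_1 D225646 (iv6 D217349) D217348
theorem F531797 : act 5 n225646 = n223886 := d12_1 D225646 (iv6 D223886) F437218 D205622 (iv5 F488823)
theorem F531798 : act 0 n225646 = n224162 := d21_4 (iv5 F495234) F488824 (iv5 F488823) D225646 (iv6 D224162) F442734 F437504 (iv5 F443467) F495235 (iv1 F495230)
theorem F531799 : act 0 n223299 = n225646 := d21_4 (iv5 D225582) (iv1 F492094) (iv5 F530960) F530963 (iv6 D225646) F488823 D223890 F521854 (iv6 F531645) F531643
def n225647 : Q := act 0 n217349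
theorem D225647 : act 0 n217349 = n225647 := rfl
theorem F531800 : act 5 n225647 = n220379 := d17_3 F393758 (iv5 F488550) D225647 F503492 D223175 F526921 F526919 F473188 F473141
theorem F531801 : act 4 n225647 = n223966 := d18_1 D225647 F523052 (iv4 D222602) (iv5 D200328) (iv4 F245476) D214016 (iv4 F504473) F504475 (iv5 F488550)
theorem F531802 : act 3 n225647 = n217372 := d20_5 F474762 (iv1 F501324) (iv4 F531783) F531782 D225647 (iv4 F491966) F491967 F476249 (iv3 F480315) (iv1 F480319)
theorem F531803 : act 6 n225647 = n223965 := d21_5 F149926 (iv1 F343081) (iv5 F369554) D217349 D225647 F522254 (iv1 F498102) (iv5 F488818) (iv6 D217421) F369770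
theorem F531804 : act 2 n217385 = n225647 := d15_3 (iv0 D225647) (iv0 F498247) F489020
theorem F531805 : act 7 n225647 = n219319 := d4_2 F489020 F531804 F498272
theorem F531806 : act 1 n222618 = n225647 := d15_1 (iv0 F515208) F531805 F498272
def n225648 : Q := act 7 n217349
theorem D225648 : act 7 n217349 = n225648 := rfl
theorem F531807 : act 2 n225648 = n222618 := d4_1 D225648 F515207 F488833
theorem F531808 : act 3 n225648 = n220409 := d8_1 D225648 (iv7 F531785) F531782
theorem F531809 : act 5 n225648 = n220408 := d13_1 D225648 F503640 (iv5 F488550)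
theorem F531810 : act 6 n225648 = n225447 := d14_1 D225648 F530670 (iv6 D217423) (iv7 F369775) D217349
theorem F531811 : act 1 n219319 = n225648 := d15_1 (iv0 F498274) (iv7 D225648) (iv2 F488833)
theorem F531812 : act 1 n225648 = n217385 := d15_1 F531811 (iv7 F489020) (iv2 F498272)
def n225649 : Q := act 3 n217350
theorem D225649 : act 3 n217350 = n225649 := rfl
theorem F531813 : act 4 n225649 = n218874 := d5_2 D217350 D225649 F495984 (iv4 F476554) (iv3 F476435)
theorem F531814 : act 5 n225649 = n224094 := d6_2 (iv5 F488822) D225649 F522989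
theorem F531815 : act 7 n225649 = n224093 := d8_2 F488831 D225649 F522985
theorem F531816 : act 0 n224326 = n225649 := d20_4 (iv4 F512760) (iv1 F514531) F514527 (iv3 F524335) (iv3 D225649) (iv4 D217350) (iv1 D187224) D187225 D217354 F488556
theorem F531817 : act 6 n225649 = n225611 := d21_5 (iv5 F495239) D224304 F524200 (iv6 F524336) F531816 (iv5 D225611) F486976 D225497 F530945 (iv1 F496979)
def n225650 : Q := act 6 n217350
theorem D225650 : act 6 n217350 = n225650 := rfl
theorem F531818 : act 3 n225650 = n225611 := d7_1 D225650 (iv6 F531817) (iv3 D225649)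
theorem F531819 : act 4 n225650 = n217351 := d10_1 D225650 (iv6 D217351) D217350
theorem F531820 : act 5 n225650 = n224123 := d12_1 D225650 (iv6 D224123) F442358 D207013 (iv5 F488822)
theorem F531821 : act 0 n224463 = n225650 := d21_4 F506223 F499200 F489867 D224463 (iv6 D225650) F488822 (iv1 F488825) F495234 (iv6 F495232) (iv1 F506225)
def n225651 : Q := act 7 n217351
theorem D225651 : act 7 n217351 = n225651 := rfl
theorem F531822 : act 2 n225651 = n225447 := d4_1 D225651 F530670 F488826
theorem F531823 : act 3 n225651 = n222619 := d8_1 D225651 (iv7 F530031) F530029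
theorem F531824 : act 5 n225651 = n218718 := d13_1 D225651 (iv7 D218718) (iv5 F488551)
theorem F531825 : act 6 n225651 = n222618 := d14_1 D225651 F515207 (iv6 D217425) F369777 D217351
theorem F531826 : act 1 n217357 = n225651 := d15_1 (iv0 F488829) (iv7 D225651) (iv2 F488826)
theorem F531827 : act 1 n225651 = n218919 := d15_1 F531826 F496195 (iv2 F488566)
def n225652 : Q := act 0 n217360
theorem D225652 : act 0 n217360 = n225652 := rfl
theorem F531828 : act 6 n225652 = n219078 := d21_5 (iv5 D95751) (iv1 F137896) D187233 D217360 D225652 F497064 (iv1 D191195) (iv5 F369868) (iv6 D187335) F349343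
theorem F531829 : act 2 n217362 = n225652 := d15_3 (iv0 D225652) (iv0 F529744) F529743
theorem F531830 : act 1 n217364 = n225652 := d15_0 (iv0 D225652) (iv7 F495541) F495538
theorem F531831 : act 7 n225652 = n217363 := d15_2 (iv0 F529745) F531830 (iv2 F529739)
def n225653 : Q := act 5 n217362
theorem D225653 : act 5 n217362 = n225653 := rfl
theorem F531832 : act 3 n225653 = n219125 := d6_1 D225653 (iv5 D219125) (iv3 F488585)
theorem F531833 : act 6 n225653 = n223817 := d12_2 (iv6 F495331) D225653 F521448 F489129 (iv5 F495329)
theorem F531834 : act 7 n225653 = n224980 := d13_2 F529743 D225653 (iv5 F529742)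
theorem F531835 : act 4 n225653 = n223818 := d16_6 D211375 D224909 F527543 (iv5 F512531) F512532 D225653 F521454 F502878 (iv2 D211374)
theorem F531836 : act 0 n225653 = n224669 := d17_2 D217362 D225653 F526206 (iv4 D217475) F443534 (iv0 F443533) (iv5 F495640) (iv0 F495641) F488582
theorem F531837 : act 1 n225653 = n224933 := d17_6 D222096 F512337 F500685 (iv5 F512531) F512532 D225653 F527666 F512353 (iv4 D222098)
def n225654 : Q := act 4 n217368
theorem D225654 : act 4 n217368 = n225654 := rfl
theorem F531838 : act 2 n225654 = n221981 := d1_1 D225654 F511749 F488936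
theorem F531839 : act 6 n225654 = n225590 := d10_2 (iv6 F488599) D225654 (iv4 D225590)
theorem F531840 : act 7 n225654 = n221982 := d11_2 F488944 D225654 F511752
theorem F531841 : act 5 n225654 = n223665 := d16_1 D225654 F520616 (iv5 F505382) (iv4 D220762) (iv5 F393315) F381970 D217369 (iv7 F488938) F488936
theorem F531842 : act 0 n225654 = n221983 := d17_0 F511757 (iv1 F511708) F511711 F495960 (iv5 F488684) F488686 D217405 F488757 D225654
theorem F531843 : act 1 n225654 = n221975 := d18_6 (iv1 D187219) (iv4 F369545) F476702 F476699 D217368 D225654 F511717 F488672 F478564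
def n225655 : Q := act 4 n217369
theorem D225655 : act 4 n217369 = n225655 := rfl
theorem F531844 : act 2 n225655 = n221982 := d1_1 D225655 F511752 F488942
theorem F531845 : act 3 n225655 = n220288 := d5_1 D225655 F503044 (iv3 F440193) D217467 F489017
theorem F531846 : act 5 n225655 = n223666 := d9_2 D217369 D225655 F520623 (iv5 F505376) (iv4 D220761) F476703 F476699 D217368 D225654 F531841 F520616 (iv5 F505382) (iv4 D220762) (iv5 F393315) F381970
theorem F531847 : act 6 n225655 = n220288 := d10_2 (iv6 F488600) D225655 F503044
theorem F531848 : act 7 n225655 = n221981 := d11_2 F488938 D225655 F511749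
theorem F531849 : act 0 n225655 = n221975 := d17_0 (iv5 D221975) D221973 F511703 F495962 (iv5 F488680) (iv0 F488681) D217400 (iv0 F488739) D225655
theorem F531850 : act 1 n225655 = n221983 := d18_6 (iv1 F369756) F462967 F462966 F381970 D217369 D225655 F511756 (iv0 F488539) (iv5 D217343)
def n225656 : Q := act 5 n217383
theorem D225656 : act 5 n217383 = n225656 := rfl
theorem F531851 : act 2 n225656 = n217463 := d2_1 D225656 (iv5 D217463) (iv2 F488667)
theorem F531852 : act 3 n225656 = n217384 := d6_1 D225656 (iv5 D217384) (iv3 F488668)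
theorem F531853 : act 4 n225656 = n218902 := d9_1 D225656 F496113 F382230 (iv5 D185824) F135487 (iv5 F137911) D187263 (iv5 F480289) F480288 F463094 F382253 F373857 F288211 (iv5 F369884) (iv4 F488669)
theorem F531854 : act 6 n225656 = n219107 := d12_2 D217383 D225656 F497217 (iv6 D194973) (iv5 F369648)
theorem F531855 : act 7 n225656 = n224964 := d13_2 F488692 D225656 F527860
theorem F531856 : act 0 n225656 = n219105 := d17_2 (iv1 F488702) D225656 F497206 (iv4 D190831) F370169 (iv0 F370168) D187910 (iv0 F373856) (iv4 F488701)
theorem F531857 : act 1 n225656 = n219123 := d17_6 D187319 F369827 F178369 (iv5 F369884) (iv4 F488669) D225656 (iv5 D219123) F381275 (iv4 D187321)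
def n225657 : Q := act 5 n217385
theorem D225657 : act 5 n217385 = n225657 := rfl
theorem F531858 : act 2 n225657 = n220379 := d2_1 D225657 (iv5 F531800) (iv2 F531804)
theorem F531859 : act 3 n225657 = n217387 := d6_1 D225657 (iv5 D217387) D217385
theorem F531860 : act 7 n225657 = n220380 := d13_2 F489020 D225657 F503500
theorem F531861 : act 4 n225657 = n223172 := d16_4 (iv4 F523971) F523972 F522081 D225657 F518005 F485468 (iv5 F377731) (iv7 F470989) F470986
theorem F531862 : act 0 n225657 = n220382 := d17_2 F516214 D225657 F503507 (iv4 F530288) (iv5 F530967) (iv0 F530968) (iv5 F523580) (iv0 F523581) F523395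
theorem F531863 : act 1 n225657 = n220377 := d17_8 (iv1 F458758) (iv5 F517228) (iv1 F517229) (iv5 F481729) (iv4 F503642) (iv5 F531809) F531812 D225657 F503488
theorem F531864 : act 6 n225657 = n219730 := d21_3 (iv5 F488834) F516214 D225657 (iv1 D219730) (iv6 D192161) F353149 F261597 (iv5 F353168) D193949 F393241
def n225658 : Q := act 3 n217394
theorem D225658 : act 3 n217394 = n225658 := rfl
theorem F531865 : act 2 n225658 = n225598 := d0_1 D225658 F531508 (iv2 F489324) F489325 F488715
theorem F531866 : act 4 n225658 = n218116 := d5_2 (iv4 F488712) D225658 F492207 F463765 (iv3 F475727)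
theorem F531867 : act 5 n225658 = n225417 := d6_2 F495321 D225658 F530488
theorem F531868 : act 6 n225658 = n222812 := d7_2 (iv6 F488713) D225658 F516209
theorem F531869 : act 7 n225658 = n225387 := d8_2 F510130 D225658 F530334
theorem F531870 : act 0 n225658 = n222619 := d19_4 F476422 (iv5 F475728) (iv4 F488712) D225658 (iv5 D222619) (iv4 F504959) (iv3 D220680) (iv1 F479266) (iv5 F494129) F494128 (iv3 D215683) (iv1 F474777) F474782 (iv4 D205073) (iv3 F434860) (iv1 F476580) F476579 F476103 D214693
theorem F531871 : act 0 n225341 = n225658 := d20_4 (iv4 F479470) F511640 F511638 (iv3 F530052) (iv3 D225658) F488712 F475730 (iv4 D208189) (iv3 F448273) F448277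
def n225659 : Q := act 2 n217404
theorem D225659 : act 2 n217404 = n225659 := rfl
theorem F531872 : act 3 n225659 = n222586 := d0_2 D217404 D225659 F515037 F463067 F394936
theorem F531873 : act 4 n225659 = n224024 := d1_2 F523610 D225659 (iv2 F523608)
theorem F531874 : act 5 n225659 = n222584 := d2_2 (iv5 F488751) D225659 F515025
theorem F531875 : act 6 n225659 = n222585 := d3_2 F505812 D225659 F515031
theorem F531876 : act 7 n225659 = n218835 := d4_2 (iv7 F488752) D225659 F495844
theorem F531877 : act 1 n225659 = n220924 := d15_0 (iv0 D220924) (iv7 F488752) D225659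
theorem F531878 : act 1 n220875 = n225659 := d15_0 F531877 F506299 (iv2 F506015)
def n225660 : Q := act 6 n217407
theorem D225660 : act 6 n217407 = n225660 := rfl
theorem F531879 : act 2 n225660 = n219171 := d3_1 D225660 (iv6 D219171) (iv2 F488765)
theorem F531880 : act 3 n225660 = n219133 := d7_1 D225660 F497776 F497774
theorem F531881 : act 4 n225660 = n217408 := d10_1 D225660 (iv6 D217408) D217407
theorem F531882 : act 7 n225660 = n219286 := d14_2 (iv7 F488767) D225660 F498122 F497742 (iv6 D219209)
theorem F531883 : act 0 n225660 = n225435 := d21_4 F390746 (iv1 F385791) (iv5 F488766) D225660 F530599 (iv5 D217418) F369762 D190989 (iv6 F381813) (iv1 F390748)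
theorem F531884 : act 5 n225660 = n219281 := d21_6 (iv5 D210019) F365989 D174663 D215491 F488768 D225660 F509920 (iv5 F524195) F524196 F506364
theorem F531885 : act 0 n225383 = n225660 := d21_4 (iv5 D213576) D213575 (iv5 F478482) D225383 (iv6 D225660) F488766 F385790 D192162 (iv6 F486799) F486800
def n225661 : Q := act 6 n217415
theorem D225661 : act 6 n217415 = n225661 := rfl
theorem F531886 : act 2 n225661 = n225589 := d3_1 D225661 F531457 (iv2 F488797)
theorem F531887 : act 3 n225661 = n218118 := d7_1 D225661 F492217 F492219
theorem F531888 : act 4 n225661 = n222479 := d10_1 D225661 (iv6 F525805) F525806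
theorem F531889 : act 5 n225661 = n217495 := d12_1 D225661 (iv6 D217495) (iv5 F476608) (iv6 F476610) D217415
theorem F531890 : act 0 n225661 = n219033 := d21_4 F147384 D187299 D217415 D225661 F496800 D219160 (iv1 F510158) F510155 (iv6 D218870) (iv1 D190200)
theorem F531891 : act 0 n219032 = n225661 := d21_4 (iv5 F148057) F380338 (iv5 F381303) (iv6 F496795) (iv6 D225661) (iv5 D217415) (iv1 F369754) (iv5 F381364) (iv6 D190862) (iv1 F149586)
def n225662 : Q := act 3 n217422
theorem D225662 : act 3 n217422 = n225662 := rfl
theorem F531892 : act 4 n225662 = n222743 := d5_2 D217422 D225662 F515850 F487699 F390385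
theorem F531893 : act 5 n225662 = n222716 := d6_2 F488821 D225662 (iv3 F515726)
theorem F531894 : act 7 n225662 = n225645 := d8_2 (iv7 F488820) D225662 (iv3 D225645)
theorem F531895 : act 0 n225662 = n222678 := d19_4 D104615 (iv5 F369772) D217422 D225662 (iv5 D222678) (iv4 D200658) (iv3 F417345) (iv1 F490244) (iv5 D217709) (iv4 D187792) (iv3 D90573) (iv1 D42398) (iv5 D20019) (iv4 F15491) F15490 (iv1 F63142) D11030 D23520 D48380
theorem F531896 : act 0 n222777 = n225662 := d20_4 F437464 F461138 D224899 F527484 (iv3 D225662) (iv4 D217422) (iv1 F369773) D190904 D219198 F497686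
theorem F531897 : act 2 n224069 = n225662 := d15_3 (iv0 F531896) (iv0 F523856) F523854
def n225663 : Q := act 6 n217422
theorem D225663 : act 6 n217422 = n225663 := rfl
theorem F531898 : act 2 n225663 = n225650 := d3_1 D225663 (iv6 D225650) (iv2 F488819)
theorem F531899 : act 4 n225663 = n217423 := d10_1 D225663 (iv6 D217423) D217422
theorem F531900 : act 5 n225663 = n224259 := d12_1 D225663 (iv6 D224259) F445827 D207858 F488821
theorem F531901 : act 0 n225663 = n225390 := d21_4 F496976 (iv1 F474831) F488821 D225663 (iv6 D225390) (iv5 D215157) D215156 F478609 F467457 D219062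
theorem F531902 : act 0 n224471 = n225663 := d21_4 F506367 F465712 F465711 D224471 (iv6 D225663) (iv5 F488821) (iv1 F522148) F522150 F495561 (iv1 F506370)
def n225664 : Q := act 3 n217426
theorem D225664 : act 3 n217426 = n225664 := rfl
theorem F531903 : act 2 n225664 = n222602 := d0_1 D225664 F515120 (iv2 F464288) F488557 F488842
theorem F531904 : act 4 n225664 = n222599 := d5_2 F495545 D225664 F515112 F463782 (iv3 F495546)
theorem F531905 : act 5 n225664 = n221009 := d6_2 F522146 D225664 (iv3 F522142)
theorem F531906 : act 7 n225664 = n223909 := d8_2 (iv7 F488841) D225664 F521958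
theorem F531907 : act 0 n223932 = n225664 := d20_4 D207936 (iv1 F522078) (iv4 D223933) D223932 (iv3 D225664) (iv4 F495545) (iv1 F495547) (iv4 F524132) (iv3 D224293) (iv1 F446831)
theorem F531908 : act 6 n225664 = n225409 := d21_5 (iv5 D222249) F445914 F445913 F522083 F531907 (iv5 D225409) F512144 (iv5 F522240) (iv6 D223962) (iv1 F513154)
def n225665 : Q := act 6 n217426
theorem D225665 : act 6 n217426 = n225665 := rfl
theorem F531909 : act 2 n225665 = n225452 := d3_1 D225665 F530698 F488842
theorem F531910 : act 3 n225665 = n225409 := d7_1 D225665 (iv6 F531908) (iv3 D225664)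
theorem F531911 : act 4 n225665 = n225450 := d10_1 D225665 F530686 F495545
theorem F531912 : act 5 n225665 = n223541 := d12_1 D225665 F520012 F511369 D223945 F522146
theorem F531913 : act 7 n225665 = n225409 := d14_2 (iv7 F488841) D225665 (iv6 F531908) F531906 F521959
theorem F531914 : act 0 n224707 = n225665 := d21_4 F506383 F490058 F490057 (iv6 F526433) (iv6 D225665) (iv5 F522146) F522145 (iv5 D218929) F452062 (iv1 F506380)
def n225666 : Q := act 6 n217429
theorem D225666 : act 6 n217429 = n225666 := rfl
theorem F531915 : act 2 n225666 = n224135 := d3_1 D225666 F523226 F495979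
theorem F531916 : act 3 n225666 = n224160 := d7_1 D225666 F523373 F507794
theorem F531917 : act 4 n225666 = n222923 := d10_1 D225666 F516796 F497689
theorem F531918 : act 5 n225666 = n224131 := d12_1 D225666 (iv6 F524089) (iv5 F524090) (iv6 D217430) D217429
theorem F531919 : act 7 n225666 = n224136 := d14_2 (iv7 F488844) D225666 F523234 (iv7 F490045) (iv6 F490048)
theorem F531920 : act 0 n225666 = n223904 := d21_4 F522181 F488839 D217429 D225666 F521931 (iv5 F515794) F515795 (iv5 F452066) (iv6 F496239) F522184
theorem F531921 : act 0 n223882 = n225666 := d21_4 D221021 (iv1 F521813) (iv5 D223881) D223882 (iv6 D225666) (iv5 D217429) D217426 (iv5 F522146) (iv6 D223945) F437628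
def n225667 : Q := act 4 n217431
theorem D225667 : act 4 n217431 = n225667 := rfl
theorem F531922 : act 2 n225667 = n225649 := d1_1 D225667 F531813 F495987
theorem F531923 : act 3 n225667 = n224069 := d5_1 D225667 (iv4 F525096) F525093 F521226 F488847
theorem F531924 : act 6 n225667 = n218590 := d10_2 (iv6 F498268) D225667 F498269
theorem F531925 : act 7 n225667 = n224288 := d11_2 F495989 D225667 F524106
theorem F531926 : act 5 n225667 = n224068 := d17_5 (iv1 D224022) F500301 (iv1 F500308) (iv5 F488846) D225667 (iv0 F522984) (iv5 F524275) F524278 (iv4 F522581)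
theorem F531927 : act 0 n225667 = n224470 := d17_0 (iv5 F528235) F528237 F524270 F524267 F506374 F505613 F505611 F495996 D225667
def n225668 : Q := act 4 n217446
theorem D225668 : act 4 n217446 = n225668 := rfl
theorem F531928 : act 2 n225668 = n219286 := d1_1 D225668 (iv4 D219286) (iv2 F488915)
theorem F531929 : act 3 n225668 = n219129 := d5_1 D225668 F497326 F471622 (iv4 F381468) F488913
theorem F531930 : act 5 n225668 = n225405 := d9_2 F488914 D225668 F530425 F528167 F512177 F508931 (iv4 F431903) (iv5 F488770) (iv4 F531881) F531884 (iv4 F528100) F528101 F527262 F501385 (iv4 F431907)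
theorem F531931 : act 6 n225668 = n225295 := d10_2 (iv6 F488917) D225668 F529770
theorem F531932 : act 7 n225668 = n219171 := d11_2 (iv7 F488912) D225668 F497553
theorem F531933 : act 0 n225668 = n225383 := d17_0 (iv5 F531675) (iv1 F531677) F529789 F529786 (iv5 F476487) (iv0 D194495) (iv5 F369837) D217446 D225668
theorem F531934 : act 1 n225668 = n225435 := d18_6 (iv1 F395266) (iv4 F395264) F431908 (iv4 F431907) F488914 D225668 (iv4 D225435) (iv0 F480200) (iv5 D215478)
def n225669 : Q := act 4 n217462
theorem D225669 : act 4 n217462 = n225669 := rfl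
theorem F531935 : act 3 n225669 = n224116 := d5_1 D225669 F523113 F477305 (iv4 F369872) D217462
theorem F531936 : act 5 n225669 = n224371 := d9_2 (iv5 F494901) D225669 F524568 (iv5 D220668) (iv4 D194154) (iv5 F443835) (iv4 F463124) D215689 D225448 F530675 F526428 F490776 (iv4 D194149) (iv5 F443829) D218635
theorem F531937 : act 6 n225669 = n219284 := d10_2 (iv6 F488981) D225669 (iv4 D219284)
theorem F531938 : act 7 n225669 = n224707 := d11_2 (iv7 F488982) D225669 F526434
theorem F531939 : act 0 n225669 = n225409 := d17_0 (iv5 D225409) F512144 (iv5 F522240) (iv4 F530645) (iv5 D225442) (iv0 F496634) (iv5 F530671) F530669 D225669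
theorem F531940 : act 1 n225669 = n225452 := d18_6 F477804 (iv4 D189726) D189723 D218635 (iv5 F494901) D225669 (iv4 D225452) (iv0 F524373) F524371
def n225670 : Q := act 4 n217480
theorem D225670 : act 4 n217480 = n225670 := rfl
theorem F531941 : act 2 n225670 = n220722 := d1_1 D225670 F505163 F489079
theorem F531942 : act 3 n225670 = n220376 := d5_1 D225670 F503485 (iv3 F495863) F495864 (iv3 F489078)
theorem F531943 : act 5 n225670 = n220375 := d9_2 F489077 D225670 (iv4 F511681) (iv5 D221969) (iv4 F509958) F509959 (iv4 F490815) F490816 (iv4 F526547) F526548 F513532 F513530 F509234 (iv5 F402109) (iv4 F453157)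
theorem F531944 : act 6 n225670 = n222594 := d10_2 F489076 D225670 F515085
theorem F531945 : act 7 n225670 = n219282 := d11_2 (iv7 F489075) D225670 F498105
theorem F531946 : act 0 n225670 = n218911 := d17_0 F496163 (iv1 F457593) D224727 F526542 F497734 F443604 F378408 D217480 D225670
theorem F531947 : act 1 n225670 = n220723 := d18_6 F462754 (iv4 F464561) (iv1 F464564) (iv4 F453157) F489077 D225670 (iv4 F518653) F518656 F492252
def n225671 : Q := act 5 n217482
theorem D225671 : act 5 n217482 = n225671 := rfl
theorem F531948 : act 2 n225671 = n222703 := d2_1 D225671 F515654 (iv2 F489085)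
theorem F531949 : act 3 n225671 = n217483 := d6_1 D225671 (iv5 D217483) D217482
theorem F531950 : act 4 n225671 = n224331 := d9_1 D225671 F524369 F474578 (iv5 F444114) (iv4 F508296) (iv5 F521115) F521114 (iv5 F527967) F527966 (iv5 D222590) (iv4 F447980) F447981 (iv4 F494860) F494861 (iv4 F489086)
theorem F531951 : act 6 n225671 = n219270 := d12_2 (iv6 F489087) D225671 (iv5 F516722) (iv6 F516725) (iv5 F455812)
theorem F531952 : act 7 n225671 = n222702 := d13_2 (iv7 F489088) D225671 F515651
theorem F531953 : act 0 n225671 = n222700 := d17_2 F489090 D225671 (iv5 D222700) F417871 F373522 F373529 F373525 F373488 (iv4 F414022)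
theorem F531954 : act 1 n225671 = n222223 := d17_6 F436856 F435885 F494865 F494861 (iv4 F489086) D225671 (iv5 D222223) (iv0 F478452) F478449
def n225672 : Q := act 1 n217525
theorem D225672 : act 1 n217525 = n225672 := rfl
theorem F531955 : act 1 n225672 = n225035 := d15_1 D225672 (iv7 D225035) (iv2 F489311)
theorem F531956 : act 7 n225672 = n224547 := d15_2 (iv0 F529226) D225672 (iv2 F529221)
theorem F531957 : act 5 n225672 = n224149 := d17_7 (iv1 D201809) (iv5 D115070) D115067 D201804 (iv4 F421844) D217525 D225672 F523314 F499604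
theorem F531958 : act 4 n225672 = n225257 := d17_9 (iv1 D225257) F472990 (iv1 F455101) (iv5 F363547) F287752 D185490 (iv0 F370531) D217525 D225672
theorem F531959 : act 3 n224425 = n225672 := d19_19 (iv1 D225672) (iv5 D217525) F421844 (iv3 F493660) (iv1 F501626) (iv5 F501627) (iv4 D193092) (iv3 F360791) (iv1 F216789) F216785 (iv4 F405404) F405403 D212438 (iv5 F484328) F484327 F525969 (iv1 D224621) D224623 F525978
theorem F531960 : act 6 n224543 = n225672 := d21_3 (iv5 F361006) (iv1 F454065) (iv5 F525557) (iv1 D225672) F489313 (iv5 D202909) D202908 (iv5 F491132) (iv6 D217894) F372345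
theorem F531961 : act 2 n225672 = n225034 := d3_1 F531960 (iv6 F528249) (iv2 F525554)
def n225673 : Q := act 5 n217532
theorem D225673 : act 5 n217532 = n225673 := rfl
theorem F531962 : act 2 n225673 = n223444 := d2_1 D225673 F519490 (iv2 F489986)
theorem F531963 : act 3 n225673 = n224618 := d6_1 D225673 F525954 (iv3 F502388)
theorem F531964 : act 6 n225673 = n223035 := d12_2 F520705 D225673 F517362 (iv6 F453675) (iv5 F520701)
theorem F531965 : act 4 n225673 = n220201 := d16_2 D217532 D225673 (iv5 D220201) (iv4 D193123) (iv5 F375539) D218315 F493278 (iv7 F464179) F464181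
theorem F531966 : act 0 n225673 = n217887 := d17_2 F489499 D225673 (iv5 D217887) (iv4 D188102) F143227 F295158 D100702 (iv0 F370811) D217560
theorem F531967 : act 1 n225673 = n217885 := d17_6 F467537 F387028 F387026 (iv5 F376138) D217532 D225673 (iv5 D217885) F471942 F471939
def n225674 : Q := act 5 n217543
theorem D225674 : act 5 n217543 = n225674 := rfl
theorem F531968 : act 2 n225674 = n217744 := d2_1 D225674 (iv5 D217744) (iv2 F489406)
theorem F531969 : act 4 n225674 = n217938 := d9_1 D225674 F491342 (iv4 F387693) F387692 F376331 (iv5 F370706) D217544 (iv5 F501659) F501658 F485825 F388481 F487522 F487520 F371871 D217543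
theorem F531970 : act 6 n225674 = n224600 := d12_2 F501452 D225674 (iv5 D224600) F454838 D219972
theorem F531971 : act 7 n225674 = n217742 := d13_2 (iv7 F489407) D225674 (iv5 D217742)
theorem F531972 : act 0 n225674 = n219966 := d17_2 F493143 D225674 (iv5 D219966) (iv4 D192536) (iv5 F374097) F374096 (iv5 F372324) (iv0 F375276) D218292
theorem F531973 : act 1 n225674 = n217995 := d17_6 F283726 D90682 D187933 F371871 D217543 D225674 (iv5 D217995) F374793 (iv4 D187736)
def n225675 : Q := act 5 n217584
theorem D225675 : act 5 n217584 = n225675 := rfl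
theorem F531974 : act 2 n225675 = n225397 := d2_1 D225675 F530385 F502497
theorem F531975 : act 3 n225675 = n224456 := d6_1 D225675 F525081 (iv3 F501620)
theorem F531976 : act 4 n225675 = n218390 := d9_1 D225675 F493644 F384622 D217602 (iv4 F503898) F503899 F500020 F478922 F482611 (iv5 F491800) F491799 (iv5 F390906) (iv4 F503911) F503912 F500014
theorem F531977 : act 6 n225675 = n224455 := d12_2 F524736 D225675 (iv5 D224455) (iv6 F489739) (iv5 F524735)
theorem F531978 : act 7 n225675 = n225395 := d13_2 (iv7 F489634) D225675 F530374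
theorem F531979 : act 0 n225675 = n225396 := d17_2 (iv1 F489633) D225675 F530378 F524828 (iv5 F531110) (iv0 F531113) F503922 (iv0 D216509) (iv4 F484726)
theorem F531980 : act 1 n225675 = n220324 := d17_6 F432802 D210539 (iv1 F503915) F503912 F500014 D225675 (iv5 F524820) (iv0 D224413) F450689
def n225676 : Q := act 0 n217621
theorem D225676 : act 0 n217621 = n225676 := rfl
theorem F531981 : act 5 n225676 = n224222 := d17_1 D225676 (iv1 F523736) (iv5 F493745) F493744 (iv5 D215040) (iv0 F361766) D208450 (iv0 F449405) (iv4 F489820)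
theorem F531982 : act 4 n225676 = n218675 := d18_1 D225676 F498407 (iv4 F523763) (iv5 D224227) F445123 F399832 D221375 F508690 F508387
theorem F531983 : act 3 n225676 = n223527 := d20_5 F164427 F163765 D187653 D217621 D225676 (iv4 D223527) F430166 D215636 F480882 (iv1 F376188)
theorem F531984 : act 1 n220692 = n225676 := d15_0 (iv0 D225676) (iv7 F493981) (iv2 F505007)
theorem F531985 : act 7 n225676 = n224246 := d15_2 (iv0 F515237) F531984 F523875
theorem F531986 : act 6 n225418 = n225676 := d21_3 (iv5 F524224) (iv1 F498401) D225418 (iv1 F531984) (iv6 D220692) (iv5 F494206) F530226 F530223 (iv6 F494924) (iv1 F524225)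
def n225677 : Q := act 6 n217630
theorem D225677 : act 6 n217630 = n225677 := rfl
theorem F531987 : act 2 n225677 = n225618 := d3_1 D225677 F531623 F526225
theorem F531988 : act 3 n225677 = n217632 := d7_1 D225677 (iv6 D217632) D217630
theorem F531989 : act 4 n225677 = n217636 := d10_1 D225677 (iv6 D217636) (iv4 F489860)
theorem F531990 : act 5 n225677 = n223299 := d12_1 D225677 (iv6 F530963) F530960 (iv6 F523290) (iv5 F523292)
theorem F531991 : act 7 n225677 = n224107 := d14_2 (iv7 F489861) D225677 (iv6 D224107) (iv7 F445938) (iv6 F465694)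
theorem F531992 : act 0 n224099 = n225677 := d21_4 (iv5 F437291) (iv1 F437292) D206739 D224099 (iv6 D225677) F523292 (iv1 F523459) F523456 (iv6 D224168) (iv1 F442787)
def n225678 : Q := act 3 n217637
theorem D225678 : act 3 n217637 = n225678 := rfl
theorem F531993 : act 2 n225678 = n222461 := d0_1 D225678 F514335 F413124 (iv3 F450444) (iv2 F489887)
theorem F531994 : act 4 n225678 = n224283 := d5_2 D217637 D225678 F524077 (iv4 D215035) (iv3 F374760)
theorem F531995 : act 5 n225678 = n220393 := d6_2 (iv5 F489888) D225678 (iv3 D220393)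
theorem F531996 : act 6 n225678 = n222460 := d7_2 (iv6 F489889) D225678 F514329
theorem F531997 : act 7 n225678 = n225421 := d8_2 (iv7 F489890) D225678 F530512
theorem F531998 : act 0 n217648 = n225678 := d20_4 (iv4 F526344) F526346 (iv4 F484356) (iv3 F489930) (iv3 D225678) (iv4 D217637) (iv1 F374763) (iv4 F390320) (iv3 F498464) F498468
def n225679 : Q := act 6 n217646
theorem D225679 : act 6 n217646 = n225679 := rfl
theorem F531999 : act 2 n225679 = n219503 := d3_1 D225679 (iv6 F523284) F523282
theorem F532000 : act 3 n225679 = n224264 := d7_1 D225679 (iv6 D224264) (iv3 F489922)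
theorem F532001 : act 4 n225679 = n217648 := d10_1 D225679 (iv6 D217648) D217646
theorem F532002 : act 7 n225679 = n219504 := d14_2 F523252 D225679 (iv6 F520441) F520438 (iv6 F523251)
theorem F532003 : act 0 n225679 = n219506 := d21_4 F521909 F516073 F489923 D225679 (iv6 F531602) F531601 F528353 F521868 F446608 F521908
theorem F532004 : act 0 n219496 = n225679 := d21_4 (iv5 D212384) F379625 (iv5 F383955) D219496 (iv6 D225679) (iv5 F489923) (iv1 F516800) (iv5 F516801) (iv6 D217063) (iv1 F465618)
def n225680 : Q := act 5 n217660
theorem D225680 : act 5 n217660 = n225680 := rfl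
theorem F532005 : act 3 n225680 = n223496 := d6_1 D225680 F519750 F489979
theorem F532006 : act 4 n225680 = n225282 := d9_1 D225680 F529696 (iv4 D218375) F375950 (iv4 F475732) F475733 (iv4 F489983) (iv5 F519490) F519489 F429104 (iv4 F339914) (iv5 F387797) F387798 F386906 (iv4 F489977)
theorem F532007 : act 6 n225680 = n225039 := d12_2 (iv6 F489980) D225680 F528270 F516873 F458942
theorem F532008 : act 7 n225680 = n225673 := d13_2 F489981 D225680 (iv5 D225673)
theorem F532009 : act 0 n225680 = n218302 := d17_2 D217660 D225680 (iv5 D218302) (iv4 D188992) F294201 F154804 (iv5 F371300) (iv0 D187716) D187717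
theorem F532010 : act 1 n225680 = n220053 := d17_6 F420483 F420480 F386911 F386906 (iv4 F489977) D225680 (iv5 D220053) (iv0 F432773) F432772
def n225681 : Q := act 5 n217745
theorem D225681 : act 5 n217745 = n225681 := rfl
theorem F532011 : act 3 n225681 = n217746 := d6_1 D225681 (iv5 D217746) D217745
theorem F532012 : act 6 n225681 = n221794 := d12_2 F490437 D225681 F510839 F414873 D212682
theorem F532013 : act 4 n225681 = n221795 := d16_2 (iv4 F490436) D225681 (iv5 F522424) (iv4 F528059) F528060 F506984 (iv5 F492967) F492968 F412527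
theorem F532014 : act 1 n225681 = n218389 := d17_6 (iv1 F493164) F387018 F364385 (iv5 F375338) (iv4 F490436) D225681 (iv5 D218389) (iv0 F486484) (iv4 F493159)
def n225682 : Q := act 5 n217782
theorem D225682 : act 5 n217782 = n225682 := rfl
theorem F532015 : act 2 n225682 = n224930 := d2_1 D225682 F527650 F491001
theorem F532016 : act 3 n225682 = n225291 := d6_1 D225682 (iv5 D225291) F490600
theorem F532017 : act 4 n225682 = n220383 := d9_1 D225682 (iv5 D220383) (iv4 F503313) (iv5 F530540) F530539 F504794 (iv4 F490604) F490607 F480080 (iv5 F479574) (iv4 F520506) (iv5 F531124) F531123 (iv5 D224741) F490601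
theorem F532018 : act 6 n225682 = n218361 := d12_2 (iv6 F490599) D225682 (iv5 D218361) F400419 (iv5 F457903)
theorem F532019 : act 7 n225682 = n223800 := d13_2 F491010 D225682 F521350
theorem F532020 : act 0 n225682 = n224931 := d17_2 D217782 D225682 F527656 (iv4 F496663) (iv5 F531141) F531139 (iv5 D217912) (iv0 D188144) (iv4 F371835)
theorem F532021 : act 1 n225682 = n224900 := d17_6 (iv1 F499922) (iv5 F498876) (iv1 F526621) (iv5 D224741) F490601 D225682 F527491 F502493 F502491
def n225683 : Q := act 3 n217794
theorem D225683 : act 3 n217794 = n225683 := rfl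
theorem F532022 : act 5 n225683 = n218252 := d6_2 (iv5 F490660) D225683 F492970
theorem F532023 : act 7 n225683 = n225681 := d8_2 F490663 D225683 F532011
theorem F532024 : act 0 n225683 = n225091 := d19_4 (iv1 F491152) D219994 F501560 D225683 (iv5 D225091) (iv4 F471612) (iv3 F471610) F450294 F413505 (iv4 F331287) F331286 (iv1 F111361) (iv5 F331261) (iv4 F371926) F371925 F369307 (iv5 F370706) D217544 (iv3 F491151)
theorem F532025 : act 1 n225683 = n217951 := d15_1 (iv0 F532024) (iv7 F493643) (iv2 F528585)
def n225684 : Q := act 5 n217827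
theorem D225684 : act 5 n217827 = n225684 := rfl
theorem F532026 : act 2 n225684 = n225334 := d2_1 D225684 F530011 F514070
theorem F532027 : act 4 n225684 = n225333 := d9_1 D225684 (iv5 D225333) F476396 F376981 (iv4 D188000) D188001 D217825 (iv5 F520310) F520309 (iv5 D214275) F248799 D157891 F376971 D188006 D217827
theorem F532028 : act 6 n225684 = n221986 := d12_2 (iv6 F490812) D225684 F511770 (iv6 D199611) D199610
theorem F532029 : act 7 n225684 = n225323 := d13_2 F520863 D225684 F529947
theorem F532030 : act 0 n225684 = n218296 := d17_2 F490965 D225684 (iv5 D218296) F375309 F143364 D188022 D217832 (iv0 F490963) F490964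
theorem F532031 : act 1 n225684 = n222454 := d17_6 (iv1 F371579) F371574 (iv1 F370675) D188006 D217827 D225684 F514304 (iv0 F492891) (iv4 D188965)
def n225685 : Q := act 5 n217833
theorem D225685 : act 5 n217833 = n225685 := rfl
theorem F532032 : act 2 n225685 = n225585 := d2_1 D225685 (iv5 D225585) (iv2 F490839)
theorem F532033 : act 4 n225685 = n221868 := d9_1 D225685 F511144 F405840 F356730 F178588 D127816 (iv4 F421652) D222929 F516829 F511136 F430959 (iv5 F401127) F401125 (iv5 F372170) (iv4 F490840)
theorem F532034 : act 7 n225685 = n222829 := d13_2 (iv7 F490841) D225685 (iv5 D222829)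
theorem F532035 : act 0 n225685 = n223834 := d17_2 F490842 D225685 F521535 (iv4 D222845) (iv5 D201448) F248619 (iv5 F375078) (iv0 F375080) (iv4 F421198)
theorem F532036 : act 1 n225685 = n223758 := d17_6 F439826 (iv5 D206230) (iv1 F205633) (iv5 F372170) (iv4 F490840) D225685 F521103 F516396 (iv4 D216371)
def n225686 : Q := act 6 n217840
theorem D225686 : act 6 n217840 = n225686 := rfl
theorem F532037 : act 3 n225686 = n220159 := d7_1 D225686 (iv6 D220159) F490869
theorem F532038 : act 4 n225686 = n224031 := d10_1 D225686 (iv6 D224031) (iv4 F490867)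
theorem F532039 : act 0 n225686 = n224007 := d21_4 F527284 F475816 (iv5 F490866) D225686 (iv6 D224007) (iv5 D206092) F383701 D212399 (iv6 F493024) (iv1 F527288)
theorem F532040 : act 0 n224007 = n225686 := d21_4 F509349 F417398 D206092 D224007 (iv6 D225686) F490866 (iv1 F441476) (iv5 F475094) F475095 (iv1 F509352)
def n225687 : Q := act 0 n217871
theorem D225687 : act 0 n217871 = n225687 := rfl
theorem F532041 : act 4 n225687 = n225466 := d18_3 (iv1 F526929) (iv4 F526931) D225687 F530777 F526976 (iv0 D223599) (iv4 F520263) (iv0 F520267) (iv5 F517805)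
theorem F532042 : act 3 n225687 = n220347 := d20_5 (iv4 F529330) F529334 F501074 (iv3 F491024) D225687 F503313 F453178 F453176 (iv3 F460807) F520547
theorem F532043 : act 6 n225687 = n220346 := d21_5 (iv5 D100140) (iv1 F139730) D188082 D217871 D225687 (iv5 D220346) F389818 F385914 (iv6 D100192) (iv1 F369034)
theorem F532044 : act 2 n217875 = n225687 := d15_3 (iv0 D225687) (iv0 F529834) F529833
theorem F532045 : act 7 n225687 = n217876 := d4_2 F529833 F532044 (iv2 F529829)
theorem F532046 : act 1 n217877 = n225687 := d15_1 (iv0 F529835) F532045 (iv2 F529829)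
def n225688 : Q := act 7 n217871
theorem D225688 : act 7 n217871 = n225688 := rfl
theorem F532047 : act 2 n225688 = n217877 := d4_1 D225688 (iv7 D217877) (iv2 F491023)
theorem F532048 : act 3 n225688 = n219894 := d8_1 D225688 (iv7 D219894) (iv3 F491024)
theorem F532049 : act 4 n225688 = n222956 := d11_1 D225688 (iv7 F526930) (iv4 F526931)
theorem F532050 : act 6 n225688 = n219880 := d14_1 D225688 (iv7 D219880) (iv6 D192393) (iv7 F372273) D217871
theorem F532051 : act 1 n217876 = n225688 := d15_1 D217876 (iv7 D225688) F491023
theorem F532052 : act 1 n225688 = n217875 := d15_1 F532051 (iv7 F529833) F529829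
def n225689 : Q := act 5 n217875
theorem D225689 : act 5 n217875 = n225689 := rfl
theorem F532053 : act 3 n225689 = n223234 := d6_1 D225689 F518342 (iv3 F499874)
theorem F532054 : act 6 n225689 = n224582 := d12_2 F521267 D225689 F525761 (iv6 F504494) (iv5 F521266)
theorem F532055 : act 7 n225689 = n219819 := d13_2 F529833 D225689 (iv5 F529832)
theorem F532056 : act 4 n225689 = n224978 := d16_2 F519685 D225689 (iv5 D224978) F463135 (iv5 F481866) (iv4 F517503) (iv5 F519690) (iv7 F530778) F530775
theorem F532057 : act 0 n225689 = n224895 := d17_2 D217875 D225689 (iv5 D224895) F461057 (iv5 F455187) (iv0 F518141) (iv5 D223198) (iv0 F491038) F491036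
def n225690 : Q := act 5 n217876
theorem D225690 : act 5 n217876 = n225690 := rfl
theorem F532058 : act 2 n225690 = n219819 := d2_1 D225690 (iv5 F529832) F529829
theorem F532059 : act 3 n225690 = n224780 := d6_1 D225690 F526833 F500819
theorem F532060 : act 4 n225690 = n224833 := d9_1 D225690 (iv5 D224833) (iv4 F526896) F526897 (iv4 F517507) (iv5 F519684) F519685 D225689 F532056 (iv5 D224978) F463135 (iv5 F481866) (iv4 F517503) (iv5 F519690) (iv4 F519692)
theorem F532061 : act 6 n225690 = n219811 := d12_2 F491039 D225690 F500727 F434792 (iv5 F386458)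
theorem F532062 : act 1 n225690 = n224895 := d17_6 (iv1 D223090) F423005 D223068 (iv5 F519690) (iv4 F519692) D225690 (iv5 D224895) (iv0 F518332) F518329
def n225691 : Q := act 1 n217885
theorem D225691 : act 1 n217885 = n225691 := rfl
theorem F532063 : act 1 n225691 = n217887 := d15_1 D225691 (iv7 F493199) F493197
theorem F532064 : act 7 n225691 = n223444 := d15_2 F531967 D225691 (iv2 F531962)
theorem F532065 : act 5 n225691 = n218198 := d17_7 F367250 F154815 (iv1 F362398) (iv5 F362399) D188100 D217885 D225691 (iv0 D218198) (iv4 D188707)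
theorem F532066 : act 4 n225691 = n220202 := d17_9 F502623 (iv5 D219882) (iv1 F429079) D223478 (iv4 F523676) (iv5 D224213) F444381 D217885 D225691
theorem F532067 : act 3 n220047 = n225691 := d19_19 (iv1 D225691) (iv5 D217885) (iv4 D188100) D188099 (iv1 F375282) (iv5 D188971) (iv4 F143350) (iv3 D47089) (iv1 F74328) (iv5 F155706) (iv4 F388394) (iv3 F466723) F466725 (iv5 D207898) D207897 (iv3 F484627) F484629 (iv5 F428192) (iv4 F501839)
theorem F532068 : act 6 n222939 = n225691 := d21_9 (iv5 D217885) (iv1 F444381) D224213 F523674 F448331 (iv6 F519835) (iv5 D223513) F442568 D222939 (iv1 D225691)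
theorem F532069 : act 2 n225691 = n225680 := d3_1 F532068 F532007 F528272
def n225692 : Q := act 5 n217935
theorem D225692 : act 5 n217935 = n225692 := rfl
theorem F532070 : act 3 n225692 = n217936 := d6_1 D225692 (iv5 D217936) D217935
theorem F532071 : act 4 n225692 = n217993 := d9_1 D225692 (iv5 F491723) F491720 F489299 (iv4 F528640) F528641 (iv4 F492099) (iv5 F531694) F531693 F487877 F486961 (iv5 F489294) (iv4 F489296) F475208 (iv4 F491330)
theorem F532072 : act 6 n225692 = n219963 := d12_2 (iv6 F491331) D225692 F501399 (iv6 D215784) (iv5 F454156)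
theorem F532073 : act 0 n225692 = n218391 := d17_2 F496579 D225692 F493653 F457970 D210539 (iv0 F503901) F503899 (iv0 F504875) F504872
theorem F532074 : act 1 n225692 = n218396 := d17_6 D225100 F528633 F483470 F475208 (iv4 F491330) D225692 F493675 (iv0 F508063) F508060
def n225693 : Q := act 0 n217948
theorem D225693 : act 0 n217948 = n225693 := rfl
theorem F532075 : act 5 n225693 = n220000 := d17_1 D225693 F501589 F489960 (iv4 D217655) D217656 F489964 (iv5 F491372) (iv0 D217946) D217948
theorem F532076 : act 4 n225693 = n218040 := d18_1 D225693 F491836 (iv4 F530379) F530378 F524828 (iv0 D220660) (iv4 F501567) (iv0 F526627) F526625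
theorem F532077 : act 3 n225693 = n219998 := d20_5 (iv4 F501496) F501497 F491163 (iv3 F491382) D225693 F501574 (iv1 F504189) F504185 (iv3 F501516) F490435
theorem F532078 : act 6 n225693 = n218357 := d21_5 D193481 F389999 D195675 (iv6 F491381) D225693 (iv5 D218357) D218355 (iv5 F500794) (iv6 D219831) (iv1 F386423)
theorem F532079 : act 1 n217953 = n225693 := d15_0 (iv0 D225693) (iv7 F493677) F493674
theorem F532080 : act 2 n225629 = n225693 := d3_3 F532078 F493481 D225629
theorem F532081 : act 7 n225692 = n225693 := d14_0 F532078 F493482 F498697 (iv7 F501398) (iv6 F532072)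
def n225694 : Q := act 1 n217948
theorem D225694 : act 1 n217948 = n225694 := rfl
theorem F532082 : act 1 n225694 = n217953 := d15_1 D225694 (iv7 F493652) F493650
theorem F532083 : act 7 n225694 = n225629 := d15_2 (iv0 D225693) D225694 F532080
theorem F532084 : act 5 n225694 = n222867 := d17_7 (iv1 F500028) F491815 (iv1 F492408) (iv5 F492409) (iv4 F526624) F526625 D225694 (iv0 F516491) (iv4 F500025)
theorem F532085 : act 4 n225694 = n220323 := d17_9 (iv1 D220323) (iv5 D193394) F370914 (iv5 F372937) (iv4 F491630) (iv5 F501568) (iv0 F526627) F526625 D225694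
theorem F532086 : act 3 n221265 = n225694 := d19_19 (iv1 D225694) (iv5 F526625) F526624 F457945 F387813 D213760 (iv4 F502586) (iv3 F519705) F519708 F433025 F400940 (iv3 F202859) F331117 D153774 D213446 F470441 F370590 D195815 D221265
theorem F532087 : act 6 n219398 = n225694 := d21_3 (iv5 D215529) F478913 (iv5 F498687) (iv1 D225694) F491381 (iv5 D195675) F191341 (iv5 F383504) (iv6 F469779) (iv1 F480348)
theorem F532088 : act 2 n225694 = n225692 := d3_1 F532087 F532072 F501396
def n225695 : Q := act 5 n217950
theorem D225695 : act 5 n217950 = n225695 := rfl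
theorem F532089 : act 2 n225695 = n217951 := d2_1 D225695 (iv5 D217951) D217950
theorem F532090 : act 3 n225695 = n224467 := d6_1 D225695 F525142 F493654
theorem F532091 : act 6 n225695 = n223403 := d12_2 F491392 D225695 F519280 F452349 D213094
theorem F532092 : act 7 n225695 = n225091 := d13_2 (iv7 F491389) D225695 (iv5 D225091)
theorem F532093 : act 4 n225695 = n223401 := d16_2 (iv4 F491388) D225695 (iv5 D223401) (iv4 F427535) F501124 F501120 (iv5 F470478) (iv7 F471603) F471606
theorem F532094 : act 1 n225695 = n225681 := d17_6 (iv1 F471712) (iv5 D212580) D212577 (iv5 F471607) (iv4 F491388) D225695 (iv5 D225681) (iv0 F493378) F493376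
def n225696 : Q := act 1 n217951
theorem D225696 : act 1 n217951 = n225696 := rfl
theorem F532095 : act 1 n225696 = n225091 := d15_1 D225696 (iv7 F532092) F532089
theorem F532096 : act 5 n225696 = n222416 := d17_7 (iv1 F492864) F492861 (iv1 F466525) F471604 (iv4 F471601) D217951 D225696 (iv0 F529258) (iv4 D225210)
theorem F532097 : act 3 n218391 = n225696 := d19_19 (iv1 D225696) (iv5 D217951) F471601 F471602 D218175 F492525 F375616 (iv3 F347864) F273428 (iv5 F365294) (iv4 F401895) (iv3 F407035) (iv1 F482602) (iv5 D216026) (iv4 D179807) F294627 D93770 D189211 D218391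
theorem F532098 : act 6 n219591 = n225696 := d21_3 F500780 F478223 (iv5 F499600) (iv1 D225696) (iv6 F527077) F527074 (iv1 F525139) (iv5 F528665) F528671 F514947
theorem F532099 : act 2 n225696 = n225681 := d3_1 F532098 F532012 F510836
def n225697 : Q := act 3 n217953
theorem D225697 : act 3 n217953 = n225697 := rfl
theorem F532100 : act 2 n225697 = n225683 := d0_1 D225697 (iv3 D225683) (iv2 F490662) (iv3 F493678) F493674
theorem F532101 : act 6 n225697 = n225634 := d7_2 (iv6 F491400) D225697 (iv3 D225634)
theorem F532102 : act 7 n225697 = n225696 := d8_2 F493652 D225697 (iv3 F532097)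
theorem F532103 : act 0 n225697 = n218389 := d19_4 (iv1 F144539) D188199 D217953 D225697 (iv5 D218389) F470479 (iv3 F472081) F472083 F467698 (iv4 D212835) F362970 (iv1 D136716) (iv5 F365292) F365291 (iv3 F401870) (iv1 F460112) (iv5 F460114) F404974 (iv3 F351143)
theorem F532104 : act 0 n225695 = n225697 := d20_4 (iv4 F491548) F503765 (iv4 F525141) (iv3 F532090) (iv3 D225697) (iv4 D217953) (iv1 F491376) (iv4 F530373) F530372 (iv1 D223323)
def n225698 : Q := act 2 n217955
theorem D225698 : act 2 n217955 = n225698 := rfl
theorem F532105 : act 3 n225698 = n225528 := d0_2 D217955 D225698 (iv2 F531083) (iv3 D217657) (iv2 F375649)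
theorem F532106 : act 5 n225698 = n225210 := d2_2 F493377 D225698 F529254
theorem F532107 : act 6 n225698 = n225608 := d3_2 (iv6 F491412) D225698 (iv2 D225608)
theorem F532108 : act 7 n225698 = n225606 := d4_2 (iv7 F491404) D225698 (iv2 F531557)
theorem F532109 : act 1 n225698 = n219967 := d15_0 (iv0 F501423) (iv7 F491404) D225698
theorem F532110 : act 4 n225698 = n225520 := d16_0 F531046 F519334 F510896 F502127 F471711 D225211 (iv5 F529265) (iv7 F491404) D225698
theorem F532111 : act 1 n225594 = n225698 := d15_0 F532109 F501422 (iv2 F531484)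
def n225699 : Q := act 4 n217955
theorem D225699 : act 4 n217955 = n225699 := rfl
theorem F532112 : act 2 n225699 = n225520 := d1_1 D225699 (iv4 F532110) (iv2 D225698)
theorem F532113 : act 6 n225699 = n225609 := d10_2 (iv6 F491412) D225699 (iv4 D225609)
theorem F532114 : act 7 n225699 = n225519 := d11_2 (iv7 F491404) D225699 F531045
theorem F532115 : act 5 n225699 = n225000 := d16_1 D225699 (iv4 F529239) (iv5 D225206) (iv4 D213676) D213677 D225207 (iv5 F531556) (iv7 F532108) (iv2 D225698)
theorem F532116 : act 0 n225699 = n225514 := d18_2 F531729 D225699 F531031 F483381 (iv4 D213682) D213681 (iv4 F471601) D217949 (iv5 F531726)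
theorem F532117 : act 1 n225699 = n225518 := d18_6 F516372 F516370 F471594 (iv4 F493376) F493377 D225699 F531042 F531036 F531033
def n225700 : Q := act 1 n217959
theorem D225700 : act 1 n217959 = n225700 := rfl
theorem F532118 : act 1 n225700 = n224415 := d15_1 D225700 (iv7 D224415) (iv2 F491422)
theorem F532119 : act 7 n225700 = n224413 := d15_2 (iv0 F491753) D225700 (iv2 F524824)
theorem F532120 : act 5 n225700 = n217997 := d17_7 (iv1 F491373) (iv5 D188199) (iv1 D91069) D91070 D188203 D217959 D225700 F530387 F530384
theorem F532121 : act 4 n225700 = n225100 := d17_9 (iv1 F528636) F504855 (iv1 F489270) (iv5 F489632) F489628 F370960 (iv0 F372653) D217959 D225700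
theorem F532122 : act 3 n220186 = n225700 := d19_19 (iv1 D225700) (iv5 D217959) (iv4 D188203) (iv3 F372643) D217938 F491342 (iv4 F387693) (iv3 D192763) (iv1 D100640) (iv5 D46940) F62235 (iv3 D22569) (iv1 F62714) D10733 D22671 D47121 D101172 D193089 D220186
theorem F532123 : act 6 n223269 = n225700 := d21_3 F367958 D210347 (iv5 F518543) (iv1 D225700) F491424 F450684 (iv1 F371202) (iv5 F405084) F405088 F380067
theorem F532124 : act 2 n225700 = n224414 := d3_1 F532123 (iv6 F524830) F518546
def n225701 : Q := act 5 n217986
theorem D225701 : act 5 n217986 = n225701 := rfl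
theorem F532125 : act 2 n225701 = n222437 := d2_1 D225701 (iv5 D222437) (iv2 F491563)
theorem F532126 : act 3 n225701 = n217987 := d6_1 D225701 (iv5 D217987) D217986
theorem F532127 : act 6 n225701 = n224523 := d12_2 (iv6 F491565) D225701 F525455 F516455 (iv5 F453761)
theorem F532128 : act 7 n225701 = n223583 := d13_2 F494686 D225701 F520196
theorem F532129 : act 4 n225701 = n223416 := d16_2 (iv4 F491564) D225701 (iv5 D223416) F427537 (iv5 D197350) (iv4 F167892) (iv5 F387018) F387019 F387020
theorem F532130 : act 0 n225701 = n225213 := d17_2 F491567 D225701 (iv5 D225213) (iv4 D213705) (iv5 D154731) D154729 F471604 F471600 (iv4 F490258)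
theorem F532131 : act 1 n225701 = n225186 := d17_6 F406028 F375338 D192434 (iv5 F405262) (iv4 F491564) D225701 F529111 (iv0 D224417) F450736
def n225702 : Q := act 7 n217989
theorem D225702 : act 7 n217989 = n225702 := rfl
theorem F532132 : act 2 n225702 = n220016 := d4_1 D225702 F501666 (iv2 F491571)
theorem F532133 : act 3 n225702 = n225674 := d8_1 D225702 F531971 F491574
theorem F532134 : act 4 n225702 = n217990 := d11_1 D225702 (iv7 D217990) D217989
theorem F532135 : act 5 n225702 = n223318 := d13_1 D225702 (iv7 D223318) (iv5 F491573)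
theorem F532136 : act 6 n225702 = n224753 := d14_1 D225702 F526681 F458135 (iv7 F372917) (iv6 F491572)
theorem F532137 : act 1 n223323 = n225702 := d15_1 D223323 (iv7 D225702) F491571
theorem F532138 : act 1 n225702 = n223322 := d15_1 F532137 F519855 F519850
def n225703 : Q := act 5 n218039
theorem D225703 : act 5 n218039 = n225703 := rfl
theorem F532139 : act 2 n225703 = n220012 := d2_1 D225703 F501643 (iv2 F491827)
theorem F532140 : act 3 n225703 = n218040 := d6_1 D225703 (iv5 D218040) (iv3 F491828)
theorem F532141 : act 4 n225703 = n225477 := d9_1 D225703 F530841 F492752 (iv5 F490186) (iv4 D193088) D193089 D220186 F502538 F501632 (iv5 D220009) D220008 (iv5 F501627) (iv4 D193092) D193093 (iv4 F491829)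
theorem F532142 : act 6 n225703 = n220778 := d12_2 D218039 D225703 (iv5 D220778) (iv6 F393568) F393570
theorem F532143 : act 7 n225703 = n220013 := d13_2 F491832 D225703 F501646
theorem F532144 : act 0 n225703 = n220014 := d17_2 F491831 D225703 F501654 F387273 (iv5 F370790) (iv0 F370792) F178319 D201337 (iv4 F451334)
theorem F532145 : act 1 n225703 = n220011 := d17_6 (iv1 F371880) (iv5 F388715) (iv1 F388717) D193093 (iv4 F491829) D225703 (iv5 D220011) (iv0 F387268) F372862
def n225704 : Q := act 3 n218060
theorem D225704 : act 3 n218060 = n225704 := rfl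
theorem F532146 : act 2 n225704 = n218820 := d0_1 D225704 (iv3 D218820) F495756 (iv3 F495754) F491955
theorem F532147 : act 4 n225704 = n219230 := d5_2 (iv4 F491954) D225704 F497836 F476587 F474459
theorem F532148 : act 5 n225704 = n224868 := d6_2 (iv5 F491951) D225704 F527316
theorem F532149 : act 6 n225704 = n218830 := d7_2 (iv6 F491952) D225704 (iv3 D218830)
theorem F532150 : act 7 n225704 = n219242 := d8_2 F491956 D225704 F497900
theorem F532151 : act 0 n222505 = n225704 := d20_4 (iv4 F409385) F409386 D199921 D222505 (iv3 D225704) F491954 F462936 (iv4 F503129) F503128 F453817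
def n225705 : Q := act 5 n218104
theorem D225705 : act 5 n218104 = n225705 := rfl
theorem F532152 : act 2 n225705 = n218642 := d2_1 D225705 (iv5 D218642) (iv2 F492164)
theorem F532153 : act 3 n225705 = n219346 := d6_1 D225705 F498394 (iv3 F492165)
theorem F532154 : act 6 n225705 = n218441 := d12_2 (iv6 F492166) D225705 (iv5 D218441) (iv6 F419865) (iv5 F443521)
theorem F532155 : act 7 n225705 = n218641 := d13_2 (iv7 F492167) D225705 (iv5 D218641)
theorem F532156 : act 4 n225705 = n222611 := d16_2 D218104 D225705 F515171 (iv4 F495791) F475964 F412234 (iv5 F390834) F390835 (iv2 F390828)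
theorem F532157 : act 0 n225705 = n218494 := d17_2 F494274 D225705 F494157 F382760 F358420 (iv0 F436502) F430977 (iv0 F494371) F494368
theorem F532158 : act 1 n225705 = n218497 := d17_6 (iv1 D103000) (iv5 F112838) D158003 (iv5 F390830) D218104 D225705 F494166 (iv0 F455351) (iv4 D194221)
def n225706 : Q := act 5 n218105
theorem D225706 : act 5 n218105 = n225706 := rfl
theorem F532159 : act 2 n225706 = n218641 := d2_1 D225706 (iv5 D218641) (iv2 F492168)
theorem F532160 : act 3 n225706 = n218490 := d6_1 D225706 (iv5 F494149) F492170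
theorem F532161 : act 4 n225706 = n223300 := d9_1 D225706 F518707 (iv4 F513923) (iv5 D222384) F412209 (iv5 F390830) D218104 D225705 F532156 F515171 (iv4 F495791) F475964 F412234 (iv5 F390834) D218105
theorem F532162 : act 6 n225706 = n218521 := d12_2 F519948 D225706 F494272 (iv6 F519944) (iv5 F519947)
theorem F532163 : act 7 n225706 = n218642 := d13_2 (iv7 F492169) D225706 (iv5 D218642)
theorem F532164 : act 0 n225706 = n218497 := d17_2 F515700 D225706 F494166 F455350 D209920 (iv0 F455356) F430960 (iv0 F474510) (iv4 F515697)
theorem F532165 : act 1 n225706 = n218494 := d17_6 (iv1 F270254) (iv5 D172105) (iv1 F248920) (iv5 F390834) D218105 D225706 F494157 (iv0 F392394) (iv4 D194216)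
def n225707 : Q := act 5 n218107
theorem D225707 : act 5 n218107 = n225707 := rfl
theorem F532166 : act 2 n225707 = n224437 := d2_1 D225707 (iv5 D224437) F492176
theorem F532167 : act 3 n225707 = n222594 := d6_1 D225707 F515084 (iv3 F492174)
theorem F532168 : act 4 n225707 = n224898 := d9_1 D225707 F527481 (iv4 D214309) (iv5 F358420) (iv4 F382760) (iv5 F494157) F494156 (iv5 F512381) F512380 (iv5 D222067) (iv4 F455354) (iv5 D209920) (iv4 F455350) (iv5 F494166) F494165
theorem F532169 : act 6 n225707 = n220376 := d12_2 (iv6 F492175) D225707 (iv5 D220376) F390163 (iv5 F391898)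
theorem F532170 : act 7 n225707 = n225286 := d13_2 F528064 D225707 F529721
theorem F532171 : act 0 n225707 = n223609 := d17_2 D218107 D225707 F520323 (iv4 D218422) F479289 F479286 (iv5 F494384) (iv0 D218543) F430969
theorem F532172 : act 1 n225707 = n222623 := d17_6 F530225 F494207 F455351 (iv5 F494166) F494165 D225707 (iv5 D222623) (iv0 F477736) (iv4 F530222)
def n225708 : Q := act 4 n218140
theorem D225708 : act 4 n218140 = n225708 := rfl
theorem F532173 : act 2 n225708 = n222809 := d1_1 D225708 F516193 (iv2 F492329)
theorem F532174 : act 3 n225708 = n221268 := d5_1 D225708 F508066 F490253 (iv4 F469018) (iv3 F492330)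
theorem F532175 : act 5 n225708 = n222811 := d9_2 D218140 D225708 (iv4 D222811) (iv5 D201227) (iv4 D114144) (iv5 D52687) (iv4 F83259) D114130 D201213 F454412 F454411 F352359 (iv4 F319017) (iv5 F142462) (iv4 F374141)
theorem F532176 : act 6 n225708 = n221267 := d10_2 (iv6 F492331) D225708 F508060
theorem F532177 : act 7 n225708 = n222802 := d11_2 (iv7 F492332) D225708 (iv4 D222802)
theorem F532178 : act 0 n225708 = n222807 := d17_0 F516183 (iv1 F454106) D215089 (iv4 F526375) F526376 (iv0 F516176) (iv5 D222805) (iv0 F492334) D225708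
theorem F532179 : act 1 n225708 = n222806 := d18_6 (iv1 F353816) (iv4 D114134) (iv1 F142465) (iv4 F374141) D218140 D225708 F516178 (iv0 F431465) F387719
def n225709 : Q := act 1 n218146
theorem D225709 : act 1 n218146 = n225709 := rfl
theorem F532180 : act 1 n225709 = n218147 := d15_1 D225709 (iv7 F524857) F524854
theorem F532181 : act 7 n225709 = n220470 := d15_2 (iv0 F524917) D225709 (iv2 F524911)
theorem F532182 : act 5 n225709 = n219566 := d17_7 (iv1 F469303) (iv5 F527128) (iv1 F527130) (iv5 F519752) F457724 D218146 D225709 F499476 (iv4 F485962)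
theorem F532183 : act 4 n225709 = n223497 := d17_9 (iv1 D223497) F429107 D213169 (iv5 F518960) F518959 F501459 F451121 D218146 D225709
theorem F532184 : act 3 n218151 = n225709 := d19_19 (iv1 D225709) (iv5 D218146) (iv4 F457724) F457723 F382807 D216570 F484995 (iv3 F391173) (iv1 F391176) (iv5 F432402) F432401 (iv3 F506610) (iv1 F506615) (iv5 D206237) F358490 (iv3 F286046) D216509 (iv5 F503922) F503920
theorem F532185 : act 6 n220096 = n225709 := d21_3 F485245 (iv1 F493558) (iv5 F502096) (iv1 D225709) F492365 (iv5 F396004) (iv1 F395988) D208855 (iv6 F500091) F500088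
theorem F532186 : act 2 n225709 = n220469 := d3_1 F532185 F503923 (iv2 F502100)
def n225710 : Q := act 1 n218215
theorem D225710 : act 1 n218215 = n225710 := rfl
theorem F532187 : act 1 n225710 = n225577 := d15_1 D225710 F531385 F529227
theorem F532188 : act 7 n225710 = n220488 := d15_2 (iv0 F529202) D225710 (iv2 F529197)
theorem F532189 : act 5 n225710 = n220318 := d17_7 (iv1 F469306) F469312 D220654 F504815 F468760 (iv5 F492761) D225710 F519436 F519433
theorem F532190 : act 4 n225710 = n220153 := d17_9 F502394 (iv5 F469312) (iv1 D213170) (iv5 F429107) (iv4 F519733) F519734 (iv0 D223435) (iv5 F492761) D225710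
theorem F532191 : act 3 n220122 = n225710 := d20_3 (iv4 F503700) F517886 F517884 (iv1 D225710) F492759 (iv4 F382858) (iv1 F237884) D212866 F503687 (iv1 F503691)
theorem F532192 : act 6 n219374 = n225710 := d21_3 (iv5 F519841) F519844 F501474 (iv1 D225710) (iv6 D218215) (iv5 D188773) F290217 D184447 (iv6 F470551) (iv1 F481628)
theorem F532193 : act 2 n225710 = n220652 := d3_1 F532192 (iv6 D220652) (iv2 F498549)
def n225711 : Q := act 6 n218217
theorem D225711 : act 6 n218217 = n225711 := rfl
theorem F532194 : act 2 n225711 = n223633 := d3_1 D225711 (iv6 D223633) (iv2 F492769)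
theorem F532195 : act 3 n225711 = n218219 := d7_1 D225711 (iv6 D218219) D218217
theorem F532196 : act 4 n225711 = n225032 := d10_1 D225711 (iv6 D225032) (iv4 F492770)
theorem F532197 : act 5 n225711 = n223723 := d12_1 D225711 (iv6 D223723) F432971 F431278 (iv5 F492774)
theorem F532198 : act 7 n225711 = n225047 := d14_2 (iv7 F492771) D225711 F528323 (iv7 D217644) (iv6 F431279)
theorem F532199 : act 0 n225711 = n222064 := d21_4 F444427 (iv1 F428393) (iv5 F492774) D225711 (iv6 D222064) F407189 F268361 D190212 (iv6 F385383) (iv1 F444429)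
theorem F532200 : act 0 n225678 = n225711 := d21_4 (iv5 F502520) F502522 (iv5 F514331) (iv6 F531996) (iv6 D225711) F492774 (iv1 D203456) (iv5 F358458) F217234 F449062
def n225712 : Q := act 6 n218245
theorem D225712 : act 6 n218245 = n225712 := rfl
theorem F532201 : act 2 n225712 = n221452 := d3_1 D225712 F509073 F492936
theorem F532202 : act 3 n225712 = n225212 := d7_1 D225712 (iv6 D225212) F492937
theorem F532203 : act 4 n225712 = n219599 := d10_1 D225712 (iv6 F525050) F525048
theorem F532204 : act 5 n225712 = n221451 := d12_1 D225712 F509068 (iv5 F493307) (iv6 D218320) (iv5 F492934)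
theorem F532205 : act 7 n225712 = n219596 := d14_2 F492938 D225712 (iv6 D219596) (iv7 F451001) F472101
theorem F532206 : act 0 n225712 = n225214 := d21_4 F374333 D189055 (iv5 F492934) D225712 F529280 F513965 F417105 (iv5 F465756) F472076 F472073
theorem F532207 : act 0 n218267 = n225712 := d21_4 F471607 (iv1 F466513) (iv5 F420377) (iv6 F493042) (iv6 D225712) F492934 (iv1 F467697) (iv5 F467698) F374326 D213455
def n225713 : Q := act 4 n218251
theorem D225713 : act 4 n218251 = n225713 := rfl
theorem F532208 : act 2 n225713 = n218252 := d1_1 D225713 (iv4 D218252) D218251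
theorem F532209 : act 3 n225713 = n223716 := d5_1 D225713 (iv4 D223716) (iv3 D204587) (iv4 F412552) (iv3 F492966)
theorem F532210 : act 6 n225713 = n224446 := d10_2 F514267 D225713 F525023
theorem F532211 : act 7 n225713 = n222416 := d11_2 (iv7 F492968) D225713 F514097
theorem F532212 : act 5 n225713 = n225697 := d16_7 F532013 (iv5 F522424) (iv4 F528059) F528060 F506984 (iv5 F492967) D225713 F532102 F532099
theorem F532213 : act 0 n225713 = n218335 := d17_0 F493377 F491634 F486886 F384593 F375305 (iv0 F365338) D197852 F492969 D225713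
theorem F532214 : act 1 n225713 = n225207 := d18_6 D212577 (iv4 F501114) (iv1 F506987) F506984 (iv5 F492967) D225713 (iv4 D225207) F471708 (iv5 D212580)
def n225714 : Q := act 6 n218259
theorem D225714 : act 6 n218259 = n225714 := rfl
theorem F532215 : act 2 n225714 = n225686 := d3_1 D225714 (iv6 D225686) (iv2 F493000)
theorem F532216 : act 3 n225714 = n224705 := d7_1 D225714 (iv6 F526425) (iv3 F493001)
theorem F532217 : act 4 n225714 = n218276 := d10_1 D225714 (iv6 D218276) (iv4 F493002)
theorem F532218 : act 7 n225714 = n225686 := d14_2 (iv7 F493003) D225714 (iv6 D225686) (iv7 F490868) (iv6 F490189)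
theorem F532219 : act 0 n225714 = n219600 := d21_4 F505200 (iv1 F475783) D218259 D225714 F499627 (iv5 D200961) D200959 (iv5 F464364) (iv6 F490854) (iv1 F505202)
theorem F532220 : act 0 n219600 = n225714 := d21_4 F463542 (iv1 D200960) D200961 (iv6 F499627) (iv6 D225714) (iv5 D218259) F377598 D218644 (iv6 F510380) F510378
def n225715 : Q := act 6 n218261
theorem D225715 : act 6 n218261 = n225715 := rfl
theorem F532221 : act 2 n225715 = n221533 := d3_1 D225715 (iv6 D221533) (iv2 F493010)
theorem F532222 : act 3 n225715 = n218262 := d7_1 D225715 (iv6 D218262) D218261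
theorem F532223 : act 4 n225715 = n222022 := d10_1 D225715 F511950 (iv4 F493011)
theorem F532224 : act 5 n225715 = n219112 := d12_1 D225715 (iv6 D219112) (iv5 D190827) D190828 (iv5 F493012)
theorem F532225 : act 7 n225715 = n222127 := d14_2 (iv7 F493013) D225715 (iv6 D222127) (iv7 F414164) F414167
theorem F532226 : act 0 n225715 = n222137 := d21_4 (iv5 F380906) F381266 (iv5 F493012) D225715 F512540 (iv5 F423906) (iv1 F463366) F463364 (iv6 D144291) (iv1 F380208)
theorem F532227 : act 0 n222093 = n225715 := d21_4 (iv5 F414173) (iv1 F414177) D215532 (iv6 F512320) (iv6 D225715) F493012 F428529 (iv5 D203489) (iv6 F414441) F414439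
def n225716 : Q := act 5 n218359
theorem D225716 : act 5 n218359 = n225716 := rfl
theorem F532228 : act 2 n225716 = n219849 := d2_1 D225716 (iv5 D219849) F493490
theorem F532229 : act 3 n225716 = n220292 := d6_1 D225716 (iv5 F503062) F493491
theorem F532230 : act 4 n225716 = n220844 := d9_1 D225716 F505846 (iv4 F488313) (iv5 F491318) F491317 (iv5 F386527) (iv4 F493494) (iv5 F493496) (iv4 F474762) (iv5 D209909) (iv4 F455327) F455328 F375657 (iv5 F384771) (iv4 F493487)
theorem F532231 : act 6 n225716 = n221516 := d12_2 (iv6 F493488) D225716 F509395 (iv6 F480067) F388206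
theorem F532232 : act 7 n225716 = n223608 := d13_2 F505990 D225716 F520320
theorem F532233 : act 0 n225716 = n219949 := d17_2 D218359 D225716 (iv5 D219949) F386782 (iv5 F389706) (iv0 D193398) F156492 (iv0 F366980) D189143
theorem F532234 : act 1 n225716 = n219950 := d17_6 (iv1 F384853) (iv5 F373134) F384772 (iv5 F384771) (iv4 F493487) D225716 (iv5 D219950) F388295 F388293
def n225717 : Q := act 6 n218382
theorem D225717 : act 6 n218382 = n225717 := rfl
theorem F532235 : act 2 n225717 = n224490 := d3_1 D225717 F525267 F518311
theorem F532236 : act 3 n225717 = n218384 := d7_1 D225717 (iv6 D218384) (iv3 F493610)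
theorem F532237 : act 5 n225717 = n220233 := d12_1 D225717 (iv6 F525368) F525364 (iv6 D218383) D218382
theorem F532238 : act 7 n225717 = n220232 := d14_2 (iv7 F493611) D225717 F502776 (iv7 F389101) D216170
theorem F532239 : act 0 n225717 = n220433 := d21_4 (iv5 D220198) F403437 D218382 D225717 (iv6 F503759) (iv5 F524769) (iv1 F524771) D225213 F529274 F518302
theorem F532240 : act 0 n224488 = n225717 := d21_4 F520221 (iv1 F450328) F510769 (iv6 F525258) (iv6 D225717) (iv5 D218382) D218380 (iv5 F498790) (iv6 F524420) F524422
def n225718 : Q := act 4 n218389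
theorem D225718 : act 4 n218389 = n225718 := rfl
theorem F532241 : act 5 n225718 = n225167 := d9_2 D218389 D225718 F529000 F528460 F501114 (iv5 F471607) (iv4 F491388) D225695 F532093 (iv5 D223401) (iv4 F427535) F501124 F501120 (iv5 F470478) (iv4 F470479)
theorem F532242 : act 6 n225718 = n219587 := d10_2 (iv6 F493642) D225718 (iv4 D219587)
theorem F532243 : act 7 n225718 = n225166 := d11_2 (iv7 F493643) D225718 F528997
theorem F532244 : act 1 n221831 = n225718 := d15_1 (iv0 F519277) F532243 F528995
def n225719 : Q := act 3 n218405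
theorem D225719 : act 3 n218405 = n225719 := rfl
theorem F532245 : act 2 n225719 = n218494 := d0_1 D225719 F494155 (iv2 F376797) (iv3 F376806) F493722
theorem F532246 : act 4 n225719 = n225003 := d5_2 (iv4 F493720) D225719 (iv3 D225003) (iv4 D212009) F376674
theorem F532247 : act 5 n225719 = n218503 := d6_2 (iv5 F493719) D225719 (iv3 D218503)
theorem F532248 : act 6 n225719 = n218492 := d7_2 F493721 D225719 F494150
theorem F532249 : act 7 n225719 = n218497 := d8_2 (iv7 F493718) D225719 (iv3 D218497)
theorem F532250 : act 0 n225719 = n218641 := d19_4 F380122 (iv5 F376673) (iv4 F493720) D225719 (iv5 D218641) (iv4 D189731) D189730 (iv1 F443766) (iv5 F443837) (iv4 F417178) (iv3 D200607) (iv1 F417142) (iv5 F515487) F515486 (iv3 F445168) (iv1 F445173) (iv5 F380124) (iv4 F443993) F443992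
theorem F532251 : act 1 n225719 = n218642 := d15_1 (iv0 F532250) (iv7 F532163) F532159
def n225720 : Q := act 3 n218430
theorem D225720 : act 3 n218430 = n225720 := rfl
theorem F532252 : act 2 n225720 = n218557 := d0_1 D225720 (iv3 D218557) (iv2 F486424) F486419 F493849
theorem F532253 : act 4 n225720 = n218480 := d5_2 F523821 D225720 (iv3 F507781) F507782 F523822
theorem F532254 : act 5 n225720 = n218555 := d6_2 (iv5 F493847) D225720 (iv3 F494456)
theorem F532255 : act 7 n225720 = n218559 := d8_2 F493850 D225720 F494471
theorem F532256 : act 0 n225720 = n225420 := d19_4 (iv1 F478579) (iv5 F523820) F523821 D225720 F530506 (iv4 D216127) (iv3 F379871) (iv1 F381225) F381227 (iv4 F370983) (iv3 F370980) F294418 (iv5 F336759) (iv4 D109099) (iv3 F169083) D198259 (iv5 F474377) F474376 (iv3 F441137)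
theorem F532257 : act 6 n222654 = n225720 := d21_3 D194209 (iv1 F465964) D222654 F532256 F530507 (iv5 F490544) F494066 F494062 F428293 (iv1 D194208)
theorem F532258 : act 1 n225720 = n218748 := d15_1 (iv0 F532256) F495470 F530510
def n225721 : Q := act 6 n218430
theorem D225721 : act 6 n218430 = n225721 := rfl
theorem F532259 : act 2 n225721 = n218579 := d3_1 D225721 (iv6 D218579) F493849
theorem F532260 : act 3 n225721 = n222654 := d7_1 D225721 F532257 (iv3 D225720)
theorem F532261 : act 4 n225721 = n223853 := d10_1 D225721 F523823 F523821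
theorem F532262 : act 5 n225721 = n222653 := d12_1 D225721 (iv6 F515406) F494466 F392381 (iv5 F493847)
theorem F532263 : act 7 n225721 = n218579 := d14_2 F493850 D225721 (iv6 D218579) (iv7 F493851) (iv6 F493854)
def n225722 : Q := act 1 n218455
theorem D225722 : act 1 n218455 = n225722 := rfl
theorem F532264 : act 1 n225722 = n224226 := d15_1 D225722 F523760 F505007
theorem F532265 : act 7 n225722 = n222624 := d15_2 F523880 D225722 (iv2 F523875)
theorem F532266 : act 5 n225722 = n224234 := d17_7 (iv1 D131945) (iv5 D61910) D61907 (iv5 F367308) D207484 (iv5 F493980) D225722 F523805 (iv4 D207534)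
theorem F532267 : act 4 n225722 = n219029 := d17_9 F496779 (iv5 D217184) (iv1 D186970) (iv5 F365325) (iv4 F456097) (iv5 F456098) F445653 (iv5 F493980) D225722
theorem F532268 : act 3 n224223 = n225722 := d19_19 (iv1 D225722) F493980 (iv4 D207484) D207483 (iv1 F445111) (iv5 F445089) (iv4 F456381) (iv3 F456382) F453011 (iv5 F493381) F493380 D221028 (iv1 F523830) (iv5 D224237) (iv4 D207550) (iv3 F445241) F445240 D207596 (iv4 F523741)
theorem F532269 : act 6 n218505 = n225722 := d21_3 F494166 F455389 (iv5 F494206) (iv1 D225722) (iv6 F493982) D225418 F530497 (iv5 F494272) (iv6 F532162) F532164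
theorem F532270 : act 2 n225722 = n225676 := d3_1 F532269 (iv6 F531986) F530493
def n225723 : Q := act 0 n218487
theorem D225723 : act 0 n218487 = n225723 := rfl
theorem F532271 : act 5 n225723 = n218585 := d17_1 D225723 (iv1 D218585) F494361 (iv4 F497042) (iv5 F506295) (iv0 D220924) F394974 D216814 (iv4 F494132)
theorem F532272 : act 4 n225723 = n224333 := d18_1 D225723 (iv1 D224333) (iv4 F494550) F494551 (iv4 D208195) F376677 (iv4 F144788) D189478 (iv5 F494133)
theorem F532273 : act 3 n225723 = n218748 := d20_5 (iv4 D218489) (iv1 D189362) (iv4 F376469) (iv3 F494131) D225723 F495471 (iv1 F515983) F515979 (iv3 F494538) (iv1 F494542)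
theorem F532274 : act 6 n225723 = n218747 := d21_5 F479289 (iv1 D215301) (iv5 F376467) D218487 D225723 F495462 (iv1 F493874) (iv5 F382747) (iv6 F382748) (iv1 F376642)
theorem F532275 : act 2 n225419 = n225723 := d15_3 (iv0 D225723) (iv0 F504961) (iv7 F530502)
theorem F532276 : act 1 n218558 = n225723 := d15_0 (iv0 D225723) (iv7 F494477) F494475
def n225724 : Q := act 6 n218522
theorem D225724 : act 6 n218522 = n225724 := rfl
theorem F532277 : act 2 n225724 = n220680 := d3_1 D225724 (iv6 F504963) F494280
theorem F532278 : act 3 n225724 = n218523 := d7_1 D225724 (iv6 D218523) D218522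
theorem F532279 : act 4 n225724 = n222616 := d10_1 D225724 (iv6 D222616) (iv4 F494276)
theorem F532280 : act 5 n225724 = n218965 := d12_1 D225724 F496423 F493099 (iv6 F493804) (iv5 F494277)
theorem F532281 : act 7 n225724 = n225723 := d14_2 (iv7 F494278) D225724 F532274 F495467 F493866
theorem F532282 : act 0 n225724 = n218563 := d21_4 (iv5 F494242) (iv1 F493806) (iv5 F494277) D225724 F494489 F494129 F479265 (iv5 F474468) D218552 F494441
theorem F532283 : act 0 n218560 = n225724 := d21_4 (iv5 F515457) (iv1 F526149) (iv5 D224659) (iv6 F494479) (iv6 D225724) F494277 (iv1 F493805) D218516 (iv6 F494248) F504974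
def n225725 : Q := act 6 n218530
theorem D225725 : act 6 n218530 = n225725 := rfl
theorem F532284 : act 2 n225725 = n220685 := d3_1 D225725 F504982 F494319
theorem F532285 : act 3 n225725 = n220678 := d7_1 D225725 (iv6 F508356) F508353
theorem F532286 : act 4 n225725 = n221324 := d10_1 D225725 (iv6 D221324) (iv4 F494318)
theorem F532287 : act 7 n225725 = n220685 := d14_2 (iv7 F494317) D225725 F504982 F399151 (iv6 F445108)
theorem F532288 : act 0 n225725 = n225721 := d21_4 (iv5 F494048) (iv1 F494049) F494320 D225725 (iv6 D225721) F493847 (iv1 F493823) F493821 F490992 F376850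
theorem F532289 : act 0 n225721 = n225725 := d21_4 (iv5 F144894) D189557 (iv5 F493847) D225721 (iv6 D225725) (iv5 F494320) (iv1 F496848) F496844 (iv6 F494037) (iv1 D189445)
def n225726 : Q := act 4 n218638
theorem D225726 : act 4 n218638 = n225726 := rfl
theorem F532290 : act 2 n225726 = n225408 := d1_1 D225726 F530443 F512599
theorem F532291 : act 6 n225726 = n220160 := d10_2 F512586 D225726 (iv4 F512587)
theorem F532292 : act 7 n225726 = n225445 := d11_2 (iv7 F494914) D225726 (iv4 D225445)
theorem F532293 : act 5 n225726 = n220159 := d16_1 D225726 F502422 (iv5 D215243) F268458 D176829 D215666 D225443 F530651 F512599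
theorem F532294 : act 0 n225726 = n223929 := d17_0 F522069 (iv1 F520011) (iv5 F531912) F531911 (iv5 D225450) (iv0 F481169) (iv5 F527916) (iv0 F527918) D225726
def n225727 : Q := act 5 n218661
theorem D225727 : act 5 n218661 = n225727 := rfl
theorem F532295 : act 2 n225727 = n223967 := d2_1 D225727 (iv5 F522898) F522895
theorem F532296 : act 3 n225727 = n224003 := d6_1 D225727 (iv5 D224003) (iv3 F495022)
theorem F532297 : act 4 n225727 = n219319 := d9_1 D225727 (iv5 F525678) F525677 (iv5 F529611) F529610 F485086 (iv4 F523971) F523972 F522081 D225657 F531861 F518005 F485468 (iv5 F377731) D218661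
theorem F532298 : act 6 n225727 = n219318 := d12_2 (iv6 F495023) D225727 F498271 (iv6 F522487) (iv5 D224005)
theorem F532299 : act 7 n225727 = n223966 := d13_2 F523247 D225727 (iv5 F523246)
theorem F532300 : act 0 n225727 = n221646 := d17_2 F531609 D225727 F510079 (iv4 F456651) (iv5 F503598) (iv0 D220401) F489883 (iv0 F489882) (iv4 F531607)
theorem F532301 : act 1 n225727 = n225664 := d17_6 F448645 F485507 (iv1 D216695) (iv5 F377731) D218661 D225727 F531905 (iv0 F506777) F437487
def n225728 : Q := act 6 n218698
theorem D225728 : act 6 n218698 = n225728 := rfl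
theorem F532302 : act 2 n225728 = n224203 := d3_1 D225728 F523616 F495215
theorem F532303 : act 3 n225728 = n219101 := d7_1 D225728 (iv6 D219101) (iv3 F495214)
theorem F532304 : act 4 n225728 = n225497 := d10_1 D225728 F530945 F496977
theorem F532305 : act 5 n225728 = n219099 := d12_1 D225728 F497173 F382644 (iv6 F394333) (iv5 F495213)
theorem F532306 : act 7 n225728 = n224976 := d14_2 (iv7 F495217) D225728 F527932 (iv7 F482010) (iv6 F482012)
theorem F532307 : act 0 n225728 = n225332 := d21_4 F497234 F394335 (iv5 F495213) D225728 F530001 F512996 (iv1 D208540) D208541 (iv6 F475746) (iv1 F497232)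
theorem F532308 : act 0 n222150 = n225728 := d21_4 F530690 (iv1 F494911) D225443 F530650 (iv6 D225728) F495213 F394334 (iv5 F497225) (iv6 F497230) D225451
def n225729 : Q := act 3 n218699
theorem D225729 : act 3 n218699 = n225729 := rfl
theorem F532309 : act 2 n225729 = n225617 := d0_1 D225729 F531618 F521498 (iv3 F521497) (iv2 F496096)
theorem F532310 : act 4 n225729 = n223298 := d5_2 D218699 D225729 F518702 F463773 (iv3 F378317)
theorem F532311 : act 5 n225729 = n225615 := d6_2 F524068 D225729 F531606
theorem F532312 : act 6 n225729 = n220938 := d7_2 (iv6 F522570) D225729 F522568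
theorem F532313 : act 0 n223963 = n225729 := d20_4 (iv4 F522561) F522563 (iv4 F495745) (iv3 F522241) (iv3 D225729) (iv4 D218699) D218698 (iv4 F496977) (iv3 F496981) (iv1 F442018)
def n225730 : Q := act 2 n218704
theorem D225730 : act 2 n218704 = n225730 := rfl
theorem F532314 : act 3 n225730 = n224314 := d0_2 D218704 D225730 F524264 (iv3 D219063) F380880
theorem F532315 : act 4 n225730 = n225291 := d1_2 F503112 D225730 F529751
theorem F532316 : act 5 n225730 = n223876 := d2_2 F515516 D225730 (iv2 F521783)
theorem F532317 : act 6 n225730 = n221197 := d3_2 (iv6 F503110) D225730 (iv2 F507692)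
theorem F532318 : act 1 n225730 = n224919 := d15_0 (iv0 F531779) F531778 D225730
theorem F532319 : act 1 n224927 = n225730 := d15_0 F532318 F527601 (iv2 F527637)
def n225731 : Q := act 4 n218773
theorem D225731 : act 4 n218773 = n225731 := rfl
theorem F532320 : act 2 n225731 = n222173 := d1_1 D225731 (iv4 D222173) (iv2 F495594)
theorem F532321 : act 5 n225731 = n222774 := d9_2 D218773 D225731 F516012 (iv5 D207818) F212460 F366571 (iv4 F284870) D216381 (iv4 F514600) (iv5 F525739) F525738 F502468 F441956 (iv5 F471119) F471117
theorem F532322 : act 6 n225731 = n225208 := d10_2 F531771 D225731 (iv4 F531769)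
theorem F532323 : act 7 n225731 = n222175 := d11_2 (iv7 F495596) D225731 (iv4 D222175)
theorem F532324 : act 0 n225731 = n225370 := d17_0 F530237 F529884 F523344 F482989 F427674 (iv0 F495107) (iv5 F497767) F497769 D225731
theorem F532325 : act 1 n225731 = n225704 := d18_6 F361971 F361969 D213577 F471117 D218773 D225731 F532147 (iv0 D219230) (iv5 D190964)
theorem F532326 : act 3 n225731 = n222775 := d19_3 D190061 D218773 D225731 F521112 F521109 F482818 (iv3 F489479) F489482 (iv5 F396031) F396030 F389501 (iv1 F346160) (iv5 F346157) F236257 (iv3 F240748) (iv1 F240752) (iv5 F334072) (iv4 D95599) D95598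
def n225732 : Q := act 3 n218778
theorem D225732 : act 3 n218778 = n225732 := rfl
theorem F532327 : act 2 n225732 = n224900 := d0_1 D225732 (iv3 D224900) (iv2 F461162) D211423 (iv2 F495617)
theorem F532328 : act 4 n225732 = n218780 := d5_2 D218778 D225732 (iv3 D218780) (iv4 D190073) D190072
theorem F532329 : act 5 n225732 = n220175 := d6_2 F511463 D225732 (iv3 F511464)
theorem F532330 : act 7 n225732 = n224931 := d8_2 F497772 D225732 F527654
theorem F532331 : act 0 n225732 = n224930 := d19_4 (iv1 F495119) F495116 D218778 D225732 F527650 (iv4 D217866) (iv3 F469066) (iv1 F469069) D222863 (iv4 F526567) (iv3 F526568) (iv1 F500617) (iv5 F510546) F510543 (iv3 F419360) (iv1 F505174) F505175 (iv4 D198719) D198718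
theorem F532332 : act 6 n225388 = n225732 := d21_3 (iv5 D221447) D221446 (iv5 F530339) F532331 (iv6 F527653) F501326 (iv1 F400433) D219849 (iv6 F521237) (iv1 F521238)
theorem F532333 : act 1 n225732 = n223800 := d15_1 (iv0 F532331) (iv7 F532019) F532015
def n225733 : Q := act 6 n218778
theorem D225733 : act 6 n218778 = n225733 := rfl
theorem F532334 : act 2 n225733 = n224920 := d3_1 D225733 (iv6 F527607) (iv2 F495617)
theorem F532335 : act 3 n225733 = n225388 := d7_1 D225733 F532332 (iv3 D225732)
theorem F532336 : act 4 n225733 = n218779 := d10_1 D225733 (iv6 D218779) D218778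
theorem F532337 : act 5 n225733 = n220222 := d12_1 D225733 (iv6 D220222) D220221 (iv6 F511465) F511463
theorem F532338 : act 7 n225733 = n223771 := d14_2 F497772 D225733 (iv6 D223771) (iv7 F476187) (iv6 F497771)
theorem F532339 : act 0 n225733 = n222118 := d21_4 F476210 D221932 F511463 D225733 F512439 (iv5 F453820) (iv1 F453822) (iv5 D198576) (iv6 F408342) F477534
theorem F532340 : act 0 n224922 = n225733 := d21_4 (iv5 D211336) (iv1 F459181) (iv5 F527223) (iv6 F527616) (iv6 D225733) (iv5 F511463) (iv1 F511467) F512746 (iv6 F524483) F524485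
def n225734 : Q := act 0 n218782
theorem D225734 : act 0 n218782 = n225734 := rfl
theorem F532341 : act 5 n225734 = n220378 := d17_1 D225734 (iv1 F505614) F505611 (iv4 F523097) (iv5 F523420) (iv0 F523424) D224286 (iv0 F524095) F522211
theorem F532342 : act 4 n225734 = n224314 := d18_1 D225734 (iv1 F524272) (iv4 D211783) (iv5 D144091) (iv4 F226791) D211761 (iv4 F467430) (iv0 F467432) (iv5 F495631)
theorem F532343 : act 3 n225734 = n220383 := d20_5 (iv4 D95772) D95770 (iv4 F378783) D218782 D225734 (iv4 F532017) F532020 F527655 F480230 (iv1 D190249)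
theorem F532344 : act 6 n225734 = n220381 := d21_5 F443016 (iv1 F522256) F522254 (iv6 F495632) D225734 (iv5 D220381) D220379 (iv5 F531800) F531803 F522255
theorem F532345 : act 2 n224022 = n225734 := d15_3 (iv0 D225734) (iv0 F506375) (iv7 F522580)
theorem F532346 : act 1 n224023 = n225734 := d15_0 (iv0 D225734) F495633 D224023
theorem F532347 : act 7 n225734 = n220911 := d15_2 (iv0 F522588) F532346 (iv2 F506372)
def n225735 : Q := act 2 n218782
theorem D225735 : act 2 n218782 = n225735 := rfl
theorem F532348 : act 3 n225735 = n218941 := d0_2 D218782 D225735 F496291 F440251 F378784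
theorem F532349 : act 4 n225735 = n223931 := d1_2 F522211 D225735 (iv2 F522208)
theorem F532350 : act 5 n225735 = n219730 := d2_2 (iv5 F495631) D225735 F500306
theorem F532351 : act 6 n225735 = n218940 := d3_2 (iv6 F495632) D225735 F496288
theorem F532352 : act 7 n225735 = n224023 := d4_2 (iv7 F495633) D225735 (iv2 D224023)
theorem F532353 : act 1 n225735 = n220911 := d15_0 (iv0 F506230) (iv7 F495633) D225735
theorem F532354 : act 1 n224022 = n225735 := d15_0 F532353 (iv7 F532347) (iv2 F532345)
def n225736 : Q := act 0 n218797
theorem D225736 : act 0 n218797 = n225736 := rfl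
theorem F532355 : act 5 n225736 = n223287 := d17_1 D225736 F522665 F522662 (iv4 F532328) F532329 (iv0 F502484) (iv5 F521227) (iv0 F521229) (iv4 F495699)
theorem F532356 : act 4 n225736 = n222082 := d18_3 F502489 (iv4 F495699) D225736 (iv5 D222082) (iv4 F491778) (iv0 F491782) (iv4 F482866) (iv0 F482868) D220176
theorem F532357 : act 3 n225736 = n223289 := d20_5 (iv4 F524482) F524485 (iv4 F497792) F497791 D225736 F518653 (iv1 F531947) (iv4 D225670) F489078 (iv1 F473967)
theorem F532358 : act 6 n225736 = n223775 := d21_5 F147354 (iv1 F147292) D190094 D218797 D225736 F521201 (iv1 D218554) (iv5 F381661) (iv6 D190948) F149761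
theorem F532359 : act 2 n218802 = n225736 := d15_3 (iv0 D225736) F497500 F497498
theorem F532360 : act 1 n218804 = n225736 := d15_0 (iv0 D225736) (iv7 F527693) F527689
theorem F532361 : act 7 n225736 = n218803 := d15_2 (iv0 F497499) F532360 (iv2 F497496)
def n225737 : Q := act 6 n218823
theorem D225737 : act 6 n218823 = n225737 := rfl
theorem F532362 : act 2 n225737 = n224036 := d3_1 D225737 F522654 (iv2 F495800)
theorem F532363 : act 3 n225737 = n225434 := d7_1 D225737 (iv6 D225434) (iv3 F495801)
theorem F532364 : act 4 n225737 = n218824 := d10_1 D225737 (iv6 D218824) D218823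
theorem F532365 : act 5 n225737 = n220879 := d12_1 D225737 (iv6 F506037) F464482 (iv6 F402301) (iv5 F495802)
theorem F532366 : act 7 n225737 = n224035 := d14_2 (iv7 F495803) D225737 F522650 F495908 F410849
theorem F532367 : act 0 n225737 = n225590 := d21_4 (iv5 F381355) (iv1 F402303) (iv5 F495802) D225737 (iv6 F531839) F531841 (iv1 F520619) (iv5 F477548) (iv6 F477551) (iv1 F381351)
theorem F532368 : act 0 n223667 = n225737 := d21_4 (iv5 D223277) F425304 D204399 D223667 (iv6 D225737) F495802 (iv1 F402302) (iv5 F381345) D219146 (iv1 F518588)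
def n225738 : Q := act 1 n218824
theorem D225738 : act 1 n218824 = n225738 := rfl
theorem F532369 : act 1 n225738 = n218851 := d15_1 D225738 (iv7 F496796) F496794
theorem F532370 : act 7 n225738 = n225661 := d15_2 F531460 D225738 F531886
theorem F532371 : act 5 n225738 = n223850 := d17_7 (iv1 F476730) F382451 (iv1 F282841) F382705 (iv4 F382704) (iv5 F495806) D225738 F521630 F480981
theorem F532372 : act 4 n225738 = n224905 := d17_9 F527521 F498177 (iv1 D213377) (iv5 F461362) F461361 F381448 F382699 (iv5 F495806) D225738
theorem F532373 : act 3 n224201 = n225738 := d19_19 (iv1 D225738) F495806 F382704 (iv3 F445608) F445611 (iv5 D166634) (iv4 D79976) D79975 F257952 F248720 (iv4 F132250) D180629 F414583 (iv5 F482204) F482203 (iv3 F481128) F486558 D225598 F531509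
theorem F532374 : act 6 n218837 = n225738 := d21_3 F497401 (iv1 F462933) (iv5 F495857) (iv1 D225738) (iv6 D218824) F378958 (iv1 F380369) F380366 D190856 D219143
theorem F532375 : act 2 n225738 = n220735 := d3_1 F532374 (iv6 D220735) F495858
def n225739 : Q := act 1 n218830
theorem D225739 : act 1 n218830 = n225739 := rfl
theorem F532376 : act 1 n225739 = n221643 := d15_1 D225739 (iv7 F530110) F530107
theorem F532377 : act 7 n225739 = n222196 := d15_2 (iv0 F509034) D225739 F512844
theorem F532378 : act 5 n225739 = n222338 := d17_7 (iv1 D220591) D220592 F504506 F486876 F424529 (iv5 F495832) D225739 (iv0 F513677) F504498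
theorem F532379 : act 4 n225739 = n222197 := d17_9 (iv1 F512853) F495620 F473725 (iv5 F495675) F495674 (iv5 D196907) D196906 (iv5 F495832) D225739
theorem F532380 : act 3 n219220 = n225739 := d19_19 (iv1 D225739) F495832 (iv4 F424529) (iv3 F428077) F428080 D209688 (iv4 F473509) F473506 (iv1 F449346) (iv5 D208436) (iv4 F363027) F362412 (iv1 F289509) (iv5 D89361) (iv4 F70253) (iv3 F147280) (iv1 F149745) D190940 D219220
theorem F532381 : act 6 n218855 = n225739 := d21_3 (iv5 F498611) (iv1 F505926) F505928 (iv1 D225739) (iv6 F532149) F532148 F527318 (iv5 F515828) (iv6 F512736) (iv1 F497481)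
theorem F532382 : act 2 n225739 = n224001 := d3_1 F532381 F522462 (iv2 F496248)
def n225740 : Q := act 2 n218842
theorem D225740 : act 2 n218842 = n225740 := rfl
theorem F532383 : act 3 n225740 = n219282 := d0_2 D218842 D225740 (iv2 F526553) (iv3 D224728) (iv2 F457604)
theorem F532384 : act 4 n225740 = n218845 := d1_2 (iv4 F495868) D225740 (iv2 D218845)
theorem F532385 : act 5 n225740 = n219716 := d2_2 (iv5 F495869) D225740 F500226
theorem F532386 : act 6 n225740 = n219281 := d3_2 F495871 D225740 F498104
theorem F532387 : act 7 n225740 = n220376 := d4_2 (iv7 F495870) D225740 F503484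
theorem F532388 : act 1 n225740 = n220407 := d15_0 (iv0 F503637) (iv7 F495870) D225740
theorem F532389 : act 1 n220409 = n225740 := d15_0 F532388 (iv7 F531505) F531501
def n225741 : Q := act 6 n218849
theorem D225741 : act 6 n218849 = n225741 := rfl
theorem F532390 : act 2 n225741 = n224035 := d3_1 D225741 F522650 (iv2 F495905)
theorem F532391 : act 3 n225741 = n221392 := d7_1 D225741 F508777 (iv3 F495900)
theorem F532392 : act 4 n225741 = n218851 := d10_1 D225741 (iv6 D218851) D218849
theorem F532393 : act 5 n225741 = n220880 := d12_1 D225741 (iv6 F506044) F505664 F410823 (iv5 F495904)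
theorem F532394 : act 7 n225741 = n224036 := d14_2 (iv7 F495898) D225741 F522654 (iv7 D212138) (iv6 F402433)
theorem F532395 : act 0 n225741 = n223667 := d21_4 (iv5 D205102) (iv1 F402437) (iv5 F495904) D225741 (iv6 D223667) (iv5 D204399) (iv1 F425305) D220733 (iv6 F505623) F505624
theorem F532396 : act 0 n225590 = n225741 := d21_4 D219194 F520620 (iv5 F531841) F531839 (iv6 D225741) F495904 (iv1 F402436) (iv5 F495837) F497662 (iv1 D219193)
def n225742 : Q := act 1 n218882
theorem D225742 : act 1 n218882 = n225742 := rfl
theorem F532397 : act 1 n225742 = n222162 := d15_1 D225742 F512666 F497834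
theorem F532398 : act 7 n225742 = n223296 := d15_2 F523630 D225742 (iv2 F523626)
theorem F532399 : act 5 n225742 = n218983 := d17_7 F370231 F138378 (iv1 F294106) D95728 D190210 D218882 D225742 F496527 (iv4 D217496)
theorem F532400 : act 4 n225742 = n224163 := d17_9 (iv1 F523386) (iv5 D218590) (iv1 F487442) D225621 F531641 (iv5 D224203) (iv0 F443903) D218882 D225742
theorem F532401 : act 3 n223302 = n225742 := d19_19 (iv1 D225742) (iv5 D218882) (iv4 D190210) (iv3 F149896) F178373 F294017 (iv4 F293507) (iv3 D43950) D43949 (iv5 F144626) (iv4 F144747) D189366 (iv1 F493987) (iv5 F494220) (iv4 F494223) (iv3 F522735) (iv1 F522754) F522756 (iv4 F518719)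
theorem F532402 : act 6 n223935 = n225742 := d21_3 (iv5 F524249) (iv1 F524252) (iv5 F522091) (iv1 D225742) (iv6 F523585) (iv5 D224198) F443605 (iv5 F463066) (iv6 F497295) (iv1 F523548)
theorem F532403 : act 2 n225742 = n224323 := d3_1 F532402 F524317 F522284
def n225743 : Q := act 3 n218897
theorem D225743 : act 3 n218897 = n225743 := rfl
theorem F532404 : act 5 n225743 = n224284 := d6_2 (iv5 F496088) D225743 F524081
theorem F532405 : act 6 n225743 = n224286 := d7_2 (iv6 F496092) D225743 F524091
theorem F532406 : act 7 n225743 = n225729 := d8_2 F496093 D225743 (iv3 D225729)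
theorem F532407 : act 0 n223928 = n225743 := d20_4 (iv4 F495237) F495748 F495747 (iv3 F522066) (iv3 D225743) F496087 F488543 (iv4 F495231) F495233 (iv1 F443465)
def n225744 : Q := act 6 n218918
theorem D225744 : act 6 n218918 = n225744 := rfl
theorem F532408 : act 2 n225744 = n225669 := d3_1 D225744 F531937 F498110
theorem F532409 : act 3 n225744 = n225012 := d7_1 D225744 (iv6 D225012) (iv3 F496189)
theorem F532410 : act 4 n225744 = n218919 := d10_1 D225744 (iv6 D218919) D218918
theorem F532411 : act 5 n225744 = n225314 := d12_1 D225744 (iv6 D225314) F475258 (iv6 F523040) F523038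
theorem F532412 : act 7 n225744 = n225448 := d14_2 F497984 D225744 F530674 (iv7 F522235) F522236
theorem F532413 : act 0 n225744 = n225600 := d21_4 (iv5 D224104) D224103 F523038 D225744 F531523 (iv5 F515121) F445441 D223963 F522242 (iv1 F523051)
theorem F532414 : act 0 n225665 = n225744 := d21_4 (iv5 F452058) F522147 F522146 D225665 (iv6 D225744) (iv5 F523038) (iv1 F523042) (iv5 F467449) F496097 (iv1 D218898)
def n225745 : Q := act 4 n218925
theorem D225745 : act 4 n218925 = n225745 := rfl
theorem F532415 : act 2 n225745 = n225346 := d1_1 D225745 F530082 F497944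
theorem F532416 : act 5 n225745 = n225297 := d9_2 F496217 D225745 F529779 F476481 F459634 (iv5 D210986) D210985 (iv5 F496216) (iv4 F497320) F529789 F529786 (iv5 F476487) (iv4 F459624) (iv5 D210983) D210982
theorem F532417 : act 6 n225745 = n223500 := d10_2 (iv6 F496218) D225745 (iv4 D223500)
theorem F532418 : act 7 n225745 = n225347 := d11_2 F528162 D225745 F530086
theorem F532419 : act 0 n225745 = n225626 := d17_0 F531675 F531885 F531884 (iv4 F528100) F528101 (iv0 F527264) F480458 D218925 D225745
theorem F532420 : act 1 n225745 = n225603 := d18_6 (iv1 D196554) F165054 D140442 D210982 F496217 D225745 F531543 (iv0 F511166) (iv5 D221515)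
theorem F532421 : act 3 n225745 = n225652 := d19_3 F459620 F496217 D225745 (iv1 F531830) (iv5 F497914) F497913 F449880 (iv1 F245683) (iv5 D156341) (iv4 D74363) (iv3 F111315) (iv1 D61241) F46619 (iv4 F78309) (iv3 F165283) D196711 F436671 F436670 (iv3 F436661)
def n225746 : Q := act 4 n218966
theorem D225746 : act 4 n218966 = n225746 := rfl
theorem F532422 : act 3 n225746 = n221482 := d5_1 D225746 (iv4 D221482) (iv3 F434982) F434983 (iv3 F496427)
theorem F532423 : act 6 n225746 = n223827 := d10_2 F522587 D225746 (iv4 F522585)
theorem F532424 : act 7 n225746 = n223962 := d11_2 F530644 D225746 (iv4 F530645)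
theorem F532425 : act 0 n225746 = n225726 := d17_0 F532293 F524571 (iv5 F531936) (iv4 D225669) F494901 F494899 (iv5 F481129) (iv0 F496428) D225746
def n225747 : Q := act 4 n219006
theorem D225747 : act 4 n219006 = n225747 := rfl
theorem F532426 : act 2 n225747 = n220622 := d1_1 D225747 (iv4 D220622) (iv2 F496642)
theorem F532427 : act 3 n225747 = n223846 := d5_1 D225747 F521609 (iv3 D205304) (iv4 F399171) (iv3 F496643)
theorem F532428 : act 6 n225747 = n220622 := d10_2 (iv6 F496644) D225747 (iv4 D220622)
theorem F532429 : act 7 n225747 = n220613 := d11_2 (iv7 F496645) D225747 F504631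
theorem F532430 : act 5 n225747 = n220614 := d16_1 D225747 F504633 F391903 F157826 (iv5 F157832) (iv4 F391973) (iv5 F504679) (iv7 D220623) (iv2 F496642)
theorem F532431 : act 0 n225747 = n224663 := d17_0 (iv5 D224663) F504974 (iv5 F515457) F515456 F416970 F418017 (iv5 F436609) (iv0 F496646) D225747
theorem F532432 : act 1 n225747 = n223847 := d18_6 F452962 F386022 (iv1 D192212) (iv4 F380030) D219006 D225747 F521611 D223848 F521615
def n225748 : Q := act 3 n219014
theorem D225748 : act 3 n219014 = n225748 := rfl
theorem F532433 : act 2 n225748 = n219785 := d0_1 D225748 (iv3 F519463) (iv2 F528527) (iv3 F528525) F496686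
theorem F532434 : act 4 n225748 = n224375 := d5_2 (iv4 F496684) D225748 (iv3 D224375) (iv4 D208497) F383981
theorem F532435 : act 5 n225748 = n225530 := d6_2 (iv5 F496683) D225748 (iv3 D225530)
theorem F532436 : act 6 n225748 = n219788 := d7_2 (iv6 F496685) D225748 F500624
theorem F532437 : act 7 n225748 = n219776 := d8_2 (iv7 F496687) D225748 F500570
theorem F532438 : act 0 n225748 = n219376 := d20_4 (iv4 D191630) D191628 (iv4 F496684) D225748 (iv3 D219376) F390232 (iv1 D193549) F314162 (iv3 F157119) F383983
theorem F532439 : act 0 n219783 = n225748 := d20_4 F505054 F469372 (iv4 F484503) (iv3 F500606) (iv3 D225748) F496684 (iv1 F392049) F392046 D220474 F505056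
def n225749 : Q := act 5 n219063
theorem D225749 : act 5 n219063 = n225749 := rfl
theorem F532440 : act 2 n225749 = n219506 := d2_1 D225749 (iv5 F524262) F524264
theorem F532441 : act 3 n225749 = n219064 := d6_1 D225749 (iv5 D219064) D219063
theorem F532442 : act 4 n225749 = n219497 := d9_1 D225749 (iv5 F531190) F531189 F526981 F518566 (iv5 F506229) F506228 (iv5 D219505) F383962 (iv5 F287750) (iv4 F485877) (iv5 F517672) F517671 F522583 F522581
theorem F532443 : act 6 n225749 = n224179 := d12_2 F528448 D225749 F523480 (iv6 F530345) F530344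
theorem F532444 : act 7 n225749 = n219496 := d13_2 F524266 D225749 F524270
theorem F532445 : act 1 n225749 = n219503 := d17_6 (iv1 D218875) (iv5 F393697) D220798 F522583 F522581 D225749 F524338 F524337 F524106
theorem F532446 : act 1 n219504 = n225749 := d15_0 F532445 (iv7 F528236) F528233
def n225750 : Q := act 6 n219067
theorem D225750 : act 6 n219067 = n225750 := rfl
theorem F532447 : act 2 n225750 = n222135 := d3_1 D225750 (iv6 F512534) (iv2 F497000)
theorem F532448 : act 3 n225750 = n221659 := d7_1 D225750 F510149 (iv3 F497001)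
theorem F532449 : act 4 n225750 = n225652 := d10_1 D225750 F531828 F497065
theorem F532450 : act 5 n225750 = n221658 := d12_1 D225750 (iv6 D221658) (iv5 F497007) (iv6 D219068) D219067
theorem F532451 : act 7 n225750 = n222134 := d14_2 (iv7 F497002) D225750 (iv6 F512527) (iv7 F497671) (iv6 F497673)
theorem F532452 : act 0 n225750 = n222094 := d21_4 F497457 F494964 D219067 D225750 F512328 F495951 (iv1 F414152) (iv5 F476649) F495294 F497459
theorem F532453 : act 0 n222095 = n225750 := d21_4 (iv5 D144510) D144508 D211967 (iv6 F512333) (iv6 D225750) (iv5 D219067) (iv1 F482223) (iv5 F528021) (iv6 D224992) (iv1 D211970)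
def n225751 : Q := act 6 n219110
theorem D225751 : act 6 n219110 = n225751 := rfl
theorem F532454 : act 2 n225751 = n222603 := d3_1 D225751 F515126 F497235
theorem F532455 : act 3 n225751 = n219151 := d7_1 D225751 (iv6 F497449) F497236
theorem F532456 : act 4 n225751 = n223909 := d10_1 D225751 F521959 F497237
theorem F532457 : act 5 n225751 = n220695 := d12_1 D225751 (iv6 D220695) (iv5 D194232) D194233 (iv5 F497234)
theorem F532458 : act 7 n225751 = n222599 := d14_2 (iv7 F497233) D225751 (iv6 F527904) (iv7 F530687) F530686
theorem F532459 : act 0 n225751 = n222598 := d21_4 F394503 F394504 (iv5 F497234) D225751 (iv6 F522273) (iv5 F522275) (iv1 F523548) (iv5 F524249) (iv6 F524254) F488813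
theorem F532460 : act 0 n222601 = n225751 := d21_4 F530000 (iv1 F496539) (iv5 F523627) F523628 (iv6 D225751) F497234 F394335 (iv5 F495213) D225728 F532307
def n225752 : Q := act 6 n219111
theorem D225752 : act 6 n219111 = n225752 := rfl
theorem F532461 : act 2 n225752 = n224326 := d3_1 D225752 F524336 (iv2 F497238)
theorem F532462 : act 3 n225752 = n224162 := d7_1 D225752 (iv6 D224162) (iv3 F497241)
theorem F532463 : act 4 n225752 = n219112 := d10_1 D225752 (iv6 D219112) D219111
theorem F532464 : act 5 n225752 = n225679 := d12_1 D225752 (iv6 D225679) (iv5 F489923) (iv6 F522100) F522099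
theorem F532465 : act 0 n225752 = n225667 := d21_4 F495238 (iv1 F522102) F522099 D225752 F531924 (iv5 D218590) (iv1 F487442) D225621 F531645 (iv1 F495229)
theorem F532466 : act 0 n224093 = n225752 := d21_4 (iv5 D208009) (iv1 F366306) D206960 (iv6 F522986) (iv6 D225752) (iv5 F522099) F522101 (iv5 D218705) (iv6 F495221) F495223
def n225753 : Q := act 6 n219113
theorem D225753 : act 6 n219113 = n225753 := rfl
theorem F532467 : act 2 n225753 = n222598 := d3_1 D225753 (iv6 F522273) F522276
theorem F532468 : act 3 n225753 = n219114 := d7_1 D225753 (iv6 D219114) D219113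
theorem F532469 : act 4 n225753 = n224162 := d10_1 D225753 (iv6 D224162) (iv4 F497244)
theorem F532470 : act 5 n225753 = n223295 := d12_1 D225753 F518689 (iv5 F524258) (iv6 D224313) (iv5 F497245)
theorem F532471 : act 7 n225753 = n222601 := d14_2 F522280 D225753 (iv6 F523628) (iv7 F524318) F524317
theorem F532472 : act 0 n225753 = n222599 := d21_4 F523543 F523055 (iv5 F497245) D225753 (iv6 F527904) (iv5 D224971) (iv1 F463047) (iv5 F523555) (iv6 D224191) D224189
theorem F532473 : act 0 n222603 = n225753 := d21_4 (iv5 F482760) (iv1 F482764) F495550 (iv6 F515126) (iv6 D225753) F497245 D224312 F524249 F523552 F488543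
def n225754 : Q := act 6 n219144
theorem D225754 : act 6 n219144 = n225754 := rfl
theorem F532474 : act 2 n225754 = n220829 := d3_1 D225754 F505759 (iv2 F497411)
theorem F532475 : act 3 n225754 = n223291 := d7_1 D225754 (iv6 F518665) F497410
theorem F532476 : act 4 n225754 = n220804 := d10_1 D225754 F505623 F505218
theorem F532477 : act 5 n225754 = n219162 := d12_1 D225754 F497502 F462772 (iv6 F425655) (iv5 F497409)
theorem F532478 : act 7 n225754 = n219172 := d14_2 (iv7 F497408) D225754 (iv6 D219172) (iv7 F381461) (iv6 F462935)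
theorem F532479 : act 0 n225754 = n221659 := d21_4 F495857 (iv1 F462927) (iv5 F497409) D225754 F510149 (iv5 D218992) (iv1 F486222) F486219 F476247 (iv1 F495855)
theorem F532480 : act 0 n219197 = n225754 := d21_4 (iv5 D217466) D217464 F488988 D219197 (iv6 D225754) F497409 F447801 (iv5 F495848) F495851 (iv1 F489012)
def n225755 : Q := act 3 n219149
theorem D225755 : act 3 n219149 = n225755 := rfl
theorem F532481 : act 2 n225755 = n223297 := d0_1 D225755 F518696 (iv2 F512849) F512850 (iv2 F497434)
theorem F532482 : act 4 n225755 = n225743 := d5_2 D219149 D225755 (iv3 D225743) F496087 F488540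
theorem F532483 : act 5 n225755 = n223294 := d6_2 (iv5 F497435) D225755 F518681
theorem F532484 : act 6 n225755 = n222138 := d7_2 (iv6 F497439) D225755 F512544
theorem F532485 : act 7 n225755 = n223298 := d8_2 (iv7 F497436) D225755 F518702
theorem F532486 : act 0 n225755 = n222580 := d19_4 D96995 D190863 D219149 D225755 (iv5 D222580) F415603 (iv3 D156120) (iv1 F245072) (iv5 F384690) (iv4 D191891) F152852 (iv1 F137260) F137258 F64465 (iv3 F64451) (iv1 F69726) (iv5 F290862) (iv4 F63428) D45342
def n225756 : Q := act 6 n219175
theorem D225756 : act 6 n219175 = n225756 := rfl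
theorem F532487 : act 2 n225756 = n219177 := d3_1 D225756 (iv6 D219177) D219175
theorem F532488 : act 3 n225756 = n219179 := d7_1 D225756 F497590 (iv3 F497570)
theorem F532489 : act 5 n225756 = n224031 := d12_1 D225756 (iv6 D224031) (iv5 D206251) (iv6 F389434) (iv5 F497571)
theorem F532490 : act 7 n225756 = n219177 := d14_2 (iv7 F497572) D225756 (iv6 D219177) F381474 (iv6 F389450)
def n225757 : Q := act 6 n219176
theorem D225757 : act 6 n219176 = n225757 := rfl
theorem F532491 : act 3 n225757 = n219268 := d7_1 D225757 (iv6 D219268) (iv3 F497575)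
theorem F532492 : act 4 n225757 = n219177 := d10_1 D225757 (iv6 D219177) D219176
theorem F532493 : act 5 n225757 = n222399 := d12_1 D225757 (iv6 D222399) (iv5 F465003) F465004 (iv5 F497577)
def n225758 : Q := act 0 n219177
theorem D225758 : act 0 n219177 = n225758 := rfl
theorem F532494 : act 3 n225758 = n225323 := d20_5 F413086 (iv1 D191021) (iv4 F381476) (iv3 F497578) D225758 F529946 (iv1 D225224) (iv4 F492911) F492910 F461364
theorem F532495 : act 6 n225758 = n221481 := d21_5 F496002 (iv1 F389444) (iv5 F381473) D219177 D225758 F509227 F475983 D223768 F521164 (iv1 F497706)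
theorem F532496 : act 1 n219177 = n225758 := d15_0 (iv0 D225758) (iv7 F532490) F532487
def n225759 : Q := act 3 n219192
theorem D225759 : act 3 n219192 = n225759 := rfl
theorem F532497 : act 2 n225759 = n224991 := d0_1 D225759 F528015 F527500 F505186 F497657
theorem F532498 : act 4 n225759 = n223961 := d5_2 (iv4 F497654) D225759 F522237 F498100 (iv3 D219280)
theorem F532499 : act 5 n225759 = n221980 := d6_2 (iv5 F497653) D225759 (iv3 D221980)
theorem F532500 : act 6 n225759 = n221483 := d7_2 (iv6 F497655) D225759 F509230
theorem F532501 : act 7 n225759 = n221519 := d8_2 F497658 D225759 F509410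
theorem F532502 : act 0 n225759 = n221651 := d19_4 (iv1 F489025) F489023 (iv4 F497654) D225759 (iv5 D221651) F402327 F418957 (iv1 D201064) (iv5 D113841) F327477 D63552 F168149 F48369 (iv4 F85041) (iv3 F182908) D202814 (iv5 F489045) (iv4 F489048) (iv3 F477468)
theorem F532503 : act 0 n220305 = n225759 := d20_4 F475713 F475711 D217089 (iv3 F503111) (iv3 D225759) F497654 (iv1 F381939) (iv4 F496232) F496231 F495692
def n225760 : Q := act 6 n219198
theorem D225760 : act 6 n219198 = n225760 := rfl
theorem F532504 : act 3 n225760 = n219200 := d7_1 D225760 (iv6 D219200) D219198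
theorem F532505 : act 4 n225760 = n219203 := d10_1 D225760 (iv6 D219203) (iv4 F497684)
theorem F532506 : act 5 n225760 = n222909 := d12_1 D225760 (iv6 F523180) F523174 (iv6 F530241) F530239
theorem F532507 : act 7 n225760 = n222908 := d14_2 (iv7 F497685) D225760 F516706 F509419 F495978
theorem F532508 : act 0 n225760 = n225493 := d21_4 (iv5 D225372) D225371 F530239 D225760 F530921 F503887 F418722 (iv5 F418721) (iv6 F503099) (iv1 F530252)
def n225761 : Q := act 5 n219242
theorem D225761 : act 5 n219242 = n225761 := rfl
theorem F532509 : act 2 n225761 = n225313 := d2_1 D225761 (iv5 F530237) F530233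
theorem F532510 : act 3 n225761 = n220848 := d6_1 D225761 F505867 (iv3 F497900)
theorem F532511 : act 4 n225761 = n224128 := d9_1 D225761 F523182 (iv4 F474662) (iv5 F515276) F515275 F421044 (iv4 F495797) (iv5 F516652) F516651 (iv5 F446706) F446704 (iv5 F513158) F513157 F497069 D219242
theorem F532512 : act 6 n225761 = n220668 := d12_2 (iv6 F497901) D225761 (iv5 D220668) (iv6 F476101) (iv5 F476579)
theorem F532513 : act 7 n225761 = n224868 := d13_2 F532150 D225761 (iv5 F532148)
theorem F532514 : act 0 n225761 = n225365 := d17_2 F512724 D225761 (iv5 D225365) (iv4 F495603) F495600 (iv0 D218678) (iv5 F381608) (iv0 F408331) D222173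
theorem F532515 : act 1 n225761 = n224575 := d17_6 (iv1 F524192) (iv5 D224302) (iv1 F497067) F497069 D219242 D225761 (iv5 F530603) (iv0 F530607) F530195
def n225762 : Q := act 6 n219260
theorem D225762 : act 6 n219260 = n225762 := rfl
theorem F532516 : act 2 n225762 = n223963 := d3_1 D225762 F522242 (iv2 F497988)
theorem F532517 : act 3 n225762 = n224990 := d7_1 D225762 (iv6 D224990) (iv3 F497989)
theorem F532518 : act 4 n225762 = n219261 := d10_1 D225762 (iv6 D219261) D219260
theorem F532519 : act 5 n225762 = n223952 := d12_1 D225762 F522190 (iv5 F522312) F522313 (iv5 F497990)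
theorem F532520 : act 0 n225762 = n225617 := d21_4 (iv5 D207925) (iv1 F443424) (iv5 F497990) D225762 F531619 F506249 D221218 F507791 (iv6 F496077) F496079
theorem F532521 : act 0 n225743 = n225762 := d21_4 F524090 (iv1 D224285) D224286 (iv6 F532405) (iv6 D225762) F497990 F443423 D207949 (iv6 F522193) F522195
def n225763 : Q := act 5 n219277
theorem D225763 : act 5 n219277 = n225763 := rfl
theorem F532522 : act 2 n225763 = n224923 := d2_1 D225763 (iv5 D224923) (iv2 F498080)
theorem F532523 : act 3 n225763 = n220216 := d6_1 D225763 (iv5 D220216) (iv3 F498081)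
theorem F532524 : act 6 n225763 = n221611 := d12_2 F498083 D225763 (iv5 D221611) (iv6 D196809) D196808
theorem F532525 : act 7 n225763 = n220262 := d13_2 (iv7 F498082) D225763 (iv5 D220262)
theorem F532526 : act 4 n225763 = n225236 := d16_2 D219277 D225763 F529417 F509593 F476091 (iv4 F495774) F495775 F389329 (iv2 F381928)
def n225764 : Q := act 4 n219295
theorem D225764 : act 4 n219295 = n225764 := rfl
theorem F532527 : act 2 n225764 = n223667 := d1_1 D225764 F520627 (iv2 F498172)
theorem F532528 : act 5 n225764 = n223660 := d9_2 F498170 D225764 F520590 (iv5 F476712) F476711 D214765 (iv4 F476723) (iv5 F498162) (iv4 F530449) (iv5 D225410) (iv4 D215265) F268484 F248790 (iv5 F294051) (iv4 F382413)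
theorem F532529 : act 6 n225764 = n220289 := d10_2 F498171 D225764 F503049
theorem F532530 : act 7 n225764 = n225590 := d11_2 (iv7 F498169) D225764 (iv4 D225590)
theorem F532531 : act 0 n225764 = n224036 := d17_0 (iv5 D224036) (iv1 D206275) (iv5 F394361) F394360 F159971 (iv0 F361259) D191112 D219295 D225764
theorem F532532 : act 1 n225764 = n224035 := d18_6 F489166 F462897 (iv1 D191162) (iv4 F382413) F498170 D225764 F522651 (iv0 F531890) F531889
theorem F532533 : act 3 n225018 = n225764 := d20_5 (iv4 D225406) (iv1 F478961) (iv4 F521343) F521342 D225018 (iv4 D225764) (iv1 D219295) D219296 (iv3 F511816) (iv1 F530435)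
def n225765 : Q := act 0 n219296
theorem D225765 : act 0 n219296 = n225765 := rfl
theorem F532534 : act 5 n225765 = n222473 := d17_1 D225765 (iv1 F514404) F413347 (iv4 D194761) D194762 (iv0 F430181) (iv5 F498162) (iv0 D219294) D219296
theorem F532535 : act 4 n225765 = n225589 := d18_1 D225765 F531459 (iv4 F532392) F532393 F506042 (iv0 F467830) F467828 D213377 (iv5 F498177)
theorem F532536 : act 3 n225765 = n225407 := d20_5 F514307 (iv1 F487710) (iv4 F511817) F511816 D225765 (iv4 D225407) (iv1 D215228) D215229 (iv3 F480124) (iv1 F514312)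
theorem F532537 : act 6 n225765 = n225079 := d21_5 (iv5 F425470) (iv1 F425475) (iv5 F382284) (iv6 F498175) D225765 F528510 (iv1 D224041) (iv5 F498014) (iv6 D219265) (iv1 F381887)
theorem F532538 : act 2 n222479 = n225765 := d15_3 (iv0 D225765) (iv0 F527521) F527520
theorem F532539 : act 1 n225168 = n225765 := d15_0 (iv0 D225765) F498176 (iv2 F529004)
theorem F532540 : act 7 n225765 = n222480 := d15_2 (iv0 F529009) F532539 (iv2 F527517)
def n225766 : Q := act 5 n219307
theorem D225766 : act 5 n219307 = n225766 := rfl
theorem F532541 : act 2 n225766 = n224249 := d2_1 D225766 (iv5 D224249) (iv2 F498229)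
theorem F532542 : act 3 n225766 = n219308 := d6_1 D225766 (iv5 D219308) (iv3 F498230)
theorem F532543 : act 6 n225766 = n223848 := d12_2 D219307 D225766 F521615 (iv6 F487845) F487844
theorem F532544 : act 7 n225766 = n224249 := d13_2 (iv7 F498231) D225766 (iv5 D224249)
theorem F532545 : act 4 n225766 = n224676 := d17_4 F435968 D223853 (iv1 F521647) D225766 F526244 (iv0 F526166) F526164 (iv0 F515426) F515425
def n225767 : Q := act 3 n219318
theorem D225767 : act 3 n219318 = n225767 := rfl
theorem F532546 : act 4 n225767 = n225018 := d5_2 D219318 D225767 F532533 (iv4 D225764) F498173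
theorem F532547 : act 5 n225767 = n224007 := d6_2 (iv5 F498271) D225767 F522497
theorem F532548 : act 6 n225767 = n224003 := d7_2 F532298 D225767 (iv3 F532296)
theorem F532549 : act 0 n225767 = n225013 := d20_4 F498269 (iv1 D219317) D219318 D225767 (iv3 F530697) (iv4 D225452) D225451 (iv4 F530696) F530348 (iv1 F523386)
theorem F532550 : act 1 n225767 = n225013 := d15_1 (iv0 F532549) F528118 (iv2 F528116)
def n225768 : Q := act 1 n219322
theorem D225768 : act 1 n219322 = n225768 := rfl
theorem F532551 : act 1 n225768 = n219324 := d15_1 D225768 (iv7 F498381) F498377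
theorem F532552 : act 7 n225768 = n222266 := d15_2 (iv0 F498288) D225768 F513248
theorem F532553 : act 5 n225768 = n222267 := d17_7 (iv1 F438797) (iv5 D206004) (iv1 F206737) (iv5 F339724) (iv4 F382454) D219322 D225768 F513259 F435557
theorem F532554 : act 4 n225768 = n222721 := d17_9 F515746 F436092 F439128 (iv5 F511600) F511599 (iv5 F477319) F477322 D219322 D225768
theorem F532555 : act 3 n222720 = n225768 := d19_19 (iv1 D225768) (iv5 D219322) F382454 (iv3 F355616) (iv1 F356091) F357468 (iv4 D139357) D139356 (iv1 F424544) (iv5 F453593) (iv4 F513348) (iv3 F513351) (iv1 F421871) D222941 F516891 F436279 F417798 D200842 D222720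
theorem F532556 : act 6 n222167 = n225768 := d21_3 F506425 F445204 (iv5 F512692) (iv1 D225768) F498286 (iv5 F436908) (iv1 D205540) F360447 D205387 F506427
theorem F532557 : act 2 n225768 = n224250 := d3_1 F532556 F523897 F515743
def n225769 : Q := act 4 n219328
theorem D225769 : act 4 n219328 = n225769 := rfl
theorem F532558 : act 2 n225769 = n225746 := d1_1 D225769 (iv4 D225746) (iv2 F498310)
theorem F532559 : act 3 n225769 = n224014 := d5_1 D225769 (iv4 D224014) F439512 (iv4 F382556) (iv3 F498311)
theorem F532560 : act 5 n225769 = n224115 := d9_2 D219328 D225769 F523107 F459786 (iv4 D176826) D176827 D215665 D225442 F530645 F522240 F512143 (iv5 D215664) (iv4 D176821) D176822 F382555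
theorem F532561 : act 6 n225769 = n224021 := d10_2 F498312 D225769 F522577
theorem F532562 : act 7 n225769 = n223929 := d11_2 F530098 D225769 (iv4 F530095)
theorem F532563 : act 0 n225769 = n225408 := d17_0 (iv5 D225408) F529890 (iv5 F532411) F532410 F496194 (iv0 F482234) (iv5 F530274) (iv0 F530275) D225769
theorem F532564 : act 1 n225769 = n225445 := d18_6 F448280 (iv4 D176914) (iv1 F382066) F382555 D219328 D225769 (iv4 D225445) F523557 F523555
def n225770 : Q := act 6 n219380
theorem D225770 : act 6 n219380 = n225770 := rfl
theorem F532565 : act 2 n225770 = n223350 := d3_1 D225770 F518994 (iv2 F498585)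
theorem F532566 : act 3 n225770 = n225090 := d7_1 D225770 F528582 F498584
theorem F532567 : act 4 n225770 = n223327 := d10_1 D225770 (iv6 F518876) F498787
theorem F532568 : act 5 n225770 = n220702 := d12_1 D225770 (iv6 D220702) (iv5 D194264) D194265 (iv5 F498583)
theorem F532569 : act 0 n225770 = n225526 := d21_4 F487931 (iv1 F392575) (iv5 F498583) D225770 F531074 F503794 (iv1 F458125) F451846 F384296 F487936
theorem F532570 : act 7 n223349 = n225770 := d11_0 F532567 F518873 D223349
def n225771 : Q := act 3 n219394
theorem D225771 : act 3 n219394 = n225771 := rfl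
theorem F532571 : act 2 n225771 = n224895 := d0_1 D225771 F527466 (iv2 F526606) F526607 F498668
theorem F532572 : act 4 n225771 = n221824 := d5_2 (iv4 F498665) D225771 F530456 F530453 F500728
theorem F532573 : act 5 n225771 = n222426 := d6_2 (iv5 F498664) D225771 F514156
theorem F532574 : act 6 n225771 = n224834 := d7_2 (iv6 F498666) D225771 F527114
theorem F532575 : act 0 n225771 = n219819 := d19_4 F481565 F469789 (iv4 F498665) D225771 (iv5 F529832) F529831 F527796 (iv1 F517736) F517733 (iv4 D216711) (iv3 D185275) (iv1 D88278) D88280 D185284 (iv3 F483150) (iv1 F486243) F486245 F481569 (iv3 F481562)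
def n225772 : Q := act 2 n219411
theorem D225772 : act 2 n219411 = n225772 := rfl
theorem F532576 : act 3 n225772 = n225498 := d0_2 D219411 D225772 (iv2 D225498) (iv3 D216154) (iv2 F383428)
theorem F532577 : act 4 n225772 = n224396 := d1_2 (iv4 F498769) D225772 F524716
theorem F532578 : act 6 n225772 = n224268 := d3_2 (iv6 F498770) D225772 (iv2 D224268)
theorem F532579 : act 7 n225772 = n224259 := d4_2 F523154 D225772 F523947
theorem F532580 : act 1 n225772 = n224271 := d15_0 (iv0 F524010) F523154 D225772
theorem F532581 : act 1 n222007 = n225772 := d15_0 F532580 F524009 (iv2 F511870)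
def n225773 : Q := act 5 n219411
theorem D225773 : act 5 n219411 = n225773 := rfl
theorem F532582 : act 3 n225773 = n219412 := d6_1 D225773 (iv5 D219412) D219411
theorem F532583 : act 4 n225773 = n225651 := d9_1 D225773 F531824 F496628 F496624 (iv4 F482814) (iv5 F527580) F527584 (iv5 F531900) F531899 F488828 (iv4 F495454) F495451 (iv4 F477605) (iv5 F483869) (iv4 F498769)
theorem F532584 : act 6 n225773 = n224295 := d12_2 (iv6 F498770) D225773 (iv5 D224295) (iv6 D207876) (iv5 F446088)
theorem F532585 : act 7 n225773 = n225650 := d13_2 F523154 D225773 F531820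
theorem F532586 : act 0 n225773 = n224471 := d17_2 F512155 D225773 (iv5 F528242) F528241 (iv5 D216087) (iv0 F280853) (iv5 F268483) (iv0 F407145) D222061
theorem F532587 : act 1 n225773 = n225390 := d17_6 (iv1 F530217) (iv5 D225367) F477649 (iv5 F483869) (iv4 F498769) D225773 (iv5 F531431) (iv0 F531435) (iv4 F509451)
def n225774 : Q := act 3 n219432
theorem D225774 : act 3 n219432 = n225774 := rfl
theorem F532588 : act 4 n225774 = n224652 := d5_2 (iv4 F498864) D225774 F526113 (iv4 D219820) (iv3 F480345)
theorem F532589 : act 5 n225774 = n222357 := d6_2 (iv5 F498863) D225774 (iv3 D222357)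
theorem F532590 : act 6 n225774 = n219434 := d7_2 (iv6 F498865) D225774 (iv3 D219434)
theorem F532591 : act 7 n225774 = n225771 := d8_2 (iv7 F498868) D225774 (iv3 D225771)
theorem F532592 : act 0 n225774 = n225689 := d19_4 F451369 D215529 (iv4 F498864) D225774 (iv5 D225689) (iv4 F519685) F519686 F455944 (iv5 F481506) F481505 (iv3 F421399) F426816 (iv5 F283278) (iv4 F468492) (iv3 F468490) D216138 F483141 F451386 (iv3 F451367)
theorem F532593 : act 0 n225690 = n225774 := d20_4 D223220 F518276 (iv4 F526834) (iv3 F532059) (iv3 D225774) F498864 F480347 F386939 (iv3 F501370) F501374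
def n225775 : Q := act 5 n219438
theorem D225775 : act 5 n219438 = n225775 := rfl
theorem F532594 : act 2 n225775 = n223592 := d2_1 D225775 F520230 F520077
theorem F532595 : act 3 n225775 = n225402 := d6_1 D225775 (iv5 F531066) F531068
theorem F532596 : act 6 n225775 = n223591 := d12_2 D219438 D225775 F520227 F520148 F431185
theorem F532597 : act 0 n225775 = n225512 := d17_2 F498882 D225775 F531024 (iv4 D223221) (iv5 D202521) D202520 (iv5 F478824) (iv0 D215193) (iv4 F478823)
def n225776 : Q := act 0 n219441
theorem D225776 : act 0 n219441 = n225776 := rfl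
theorem F532598 : act 5 n225776 = n223228 := d17_3 (iv1 F520830) F520828 D225776 F518315 F431167 F409321 (iv5 F498883) (iv0 D219439) (iv4 F498881)
theorem F532599 : act 3 n225776 = n223229 := d20_5 (iv4 D191329) D191328 (iv4 F383543) D219441 D225776 F518319 (iv1 F448668) D208387 F449157 F392025
theorem F532600 : act 1 n225393 = n225776 := d15_0 (iv0 D225776) (iv7 F520095) (iv2 F530364)
theorem F532601 : act 6 n223572 = n225776 := d21_3 F510928 (iv1 F520181) F520178 (iv1 F532600) F530366 F520094 F520080 (iv5 F520230) (iv6 D223592) F510929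
theorem F532602 : act 2 n225776 = n223574 := d3_1 F532601 (iv6 D223574) D223572
theorem F532603 : act 7 n225776 = n224344 := d14_2 F530406 F532601 F524441 (iv7 F520420) F530409
def n225777 : Q := act 1 n219441
theorem D225777 : act 1 n219441 = n225777 := rfl
theorem F532604 : act 7 n225777 = n223574 := d15_2 (iv0 D225776) D225777 (iv2 F532602)
theorem F532605 : act 5 n225777 = n223747 := d17_7 D210593 F458151 F431503 (iv5 F432835) (iv4 F520827) F520828 D225777 F521035 (iv4 D210595)
theorem F532606 : act 3 n223575 = n225777 := d19_19 (iv1 D225777) (iv5 F520828) F520827 (iv3 F520790) (iv1 F524045) (iv5 D224277) (iv4 F487371) F487370 (iv1 F446101) (iv5 F457139) F457140 (iv3 F404358) (iv1 F427344) (iv5 F519157) F519156 F433681 F513775 F513772 (iv4 F520163)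
theorem F532607 : act 4 n221536 = n225777 := d20_0 (iv1 D225777) (iv4 F531027) (iv3 D225513) (iv1 F485197) (iv3 F530989) F530990 F485194 (iv4 F448952) (iv3 F510904) F510906
theorem F532608 : act 2 n225777 = n224344 := d1_1 F532607 F524440 (iv2 F510924)
theorem F532609 : act 1 n225777 = n225393 := d18_8 F498882 F498881 D219439 (iv4 F520082) (iv5 F530897) F530899 (iv0 F510932) F532607 (iv5 D225393)
theorem F532610 : act 6 n224776 = n225777 := d3_0 F532608 F524441 (iv2 F526810)
def n225778 : Q := act 2 n219441
theorem D225778 : act 2 n219441 = n225778 := rfl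
theorem F532611 : act 5 n225778 = n225394 := d2_2 F520828 D225778 F530367
theorem F532612 : act 7 n225778 = n225393 := d4_2 F520095 D225778 F530364
theorem F532613 : act 1 n225778 = n224344 := d15_0 (iv0 F524442) F520095 D225778
theorem F532614 : act 1 n223574 = n225778 := d15_0 F532613 (iv7 F532603) F532602
def n225779 : Q := act 6 n219441
theorem D225779 : act 6 n219441 = n225779 := rfl
theorem F532615 : act 3 n225779 = n219443 := d7_1 D225779 (iv6 D219443) D219441
theorem F532616 : act 0 n225779 = n225779 := d20_4 F524512 F498589 (iv4 F498897) (iv3 F532615) F532615 F498897 (iv1 F524842) (iv4 F530892) F530891 F530804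
def n225780 : Q := act 4 n219474
theorem D225780 : act 4 n219474 = n225780 := rfl
theorem F532617 : act 2 n225780 = n223847 := d1_1 D225780 F521611 (iv2 F499059)
theorem F532618 : act 6 n225780 = n220686 := d10_2 (iv6 F499060) D225780 F504985
theorem F532619 : act 7 n225780 = n224663 := d11_2 (iv7 F499061) D225780 F526169
theorem F532620 : act 5 n225780 = n220615 := d16_1 D225780 (iv4 D220615) (iv5 D194060) (iv4 D102622) D102623 D194061 D220616 F504644 (iv2 F499059)
theorem F532621 : act 0 n225780 = n220622 := d17_0 F526142 (iv1 D224658) D224659 F526147 F455515 F391953 D210097 (iv0 F499062) D225780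
theorem F532622 : act 1 n225780 = n220613 := d18_6 (iv1 F418023) F418020 (iv1 D191562) (iv4 F383807) D219474 D225780 F504631 (iv0 F416945) F416943
def n225781 : Q := act 5 n219501
theorem D225781 : act 5 n219501 = n225781 := rfl
theorem F532623 : act 2 n225781 = n225643 := d2_1 D225781 F531776 (iv2 F521775)
theorem F532624 : act 3 n225781 = n219505 := d6_1 D225781 (iv5 D219505) (iv3 F499194)
theorem F532625 : act 4 n225781 = n221651 := d9_1 D225781 (iv5 D221651) F402327 (iv5 F177205) (iv4 F417844) F418110 (iv4 F515514) F515516 (iv4 F503112) F503113 (iv4 F418443) (iv5 F179041) (iv4 F421351) F421352 (iv4 F499195)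
theorem F532626 : act 6 n225781 = n221444 := d12_2 D219501 D225781 (iv5 F522773) F522774 (iv5 D219500)
theorem F532627 : act 7 n225781 = n225730 := d13_2 F521781 D225781 F532316
theorem F532628 : act 0 n225781 = n225374 := d17_2 F499196 D225781 (iv5 D225374) F478011 (iv5 F470830) F470833 F419194 F419198 D200658
theorem F532629 : act 1 n225781 = n221445 := d17_6 (iv1 F418108) (iv5 F440689) F440688 F421352 (iv4 F499195) D225781 F515640 (iv0 F515638) (iv4 D221334)
def n225782 : Q := act 5 n219504
theorem D225782 : act 5 n219504 = n225782 := rfl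
theorem F532630 : act 2 n225782 = n224470 := d2_1 D225782 (iv5 F528235) F528233
theorem F532631 : act 4 n225782 = n224974 := d9_1 D225782 F527919 F512493 (iv5 F457434) (iv4 F498947) (iv5 F528322) F528321 F524338 (iv4 D224326) (iv5 F509465) F509464 (iv5 F472821) (iv4 F498469) (iv5 F520444) F520443
theorem F532632 : act 6 n225782 = n224275 := d12_2 F520441 D225782 F524030 F449787 (iv5 F520437)
theorem F532633 : act 7 n225782 = n225752 := d13_2 F532002 D225782 F532464
theorem F532634 : act 0 n225782 = n224288 := d17_2 (iv1 F532446) D225782 (iv5 D224288) (iv4 F449388) (iv5 F485541) F485539 F467317 F499177 (iv4 F532442)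
theorem F532635 : act 1 n225782 = n225649 := d17_6 (iv1 D208729) D208730 F498473 (iv5 F520444) F520443 D225782 F531814 (iv0 F522992) F452051
def n225783 : Q := act 4 n219520
theorem D225783 : act 4 n219520 = n225783 := rfl
theorem F532636 : act 2 n225783 = n221773 := d1_1 D225783 F510767 (iv2 F499260)
theorem F532637 : act 3 n225783 = n221783 := d5_1 D225783 F510798 (iv3 F510409) F510410 (iv3 F499261)
theorem F532638 : act 5 n225783 = n221088 := d9_2 D219520 D225783 (iv4 F525885) F525886 F518845 F502457 F492722 F374655 (iv4 F486890) (iv5 F486892) F454879 D209769 D224607 F525898 (iv4 D219519)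
theorem F532639 : act 6 n225783 = n221846 := d10_2 F516471 D225783 (iv4 F516470)
theorem F532640 : act 7 n225783 = n221087 := d11_2 (iv7 F499262) D225783 F507160
theorem F532641 : act 0 n225783 = n221766 := d17_0 (iv5 D221766) F456479 D224691 F526341 F488333 (iv0 F470719) F486900 (iv0 F499263) D225783
theorem F532642 : act 1 n225783 = n221775 := d18_6 D208266 (iv4 F523407) (iv1 F523410) (iv4 D219519) D219520 D225783 F524428 (iv0 D224341) (iv5 D208268)
def n225784 : Q := act 3 n219522
theorem D225784 : act 3 n219522 = n225784 := rfl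
theorem F532643 : act 2 n225784 = n224819 := d0_1 D225784 F527042 F526531 (iv3 F530996) F530995
theorem F532644 : act 4 n225784 = n219530 := d5_2 D219522 D225784 (iv3 D219530) (iv4 D191653) (iv3 F383991)
theorem F532645 : act 5 n225784 = n222027 := d6_2 F525893 D225784 (iv3 F525890)
theorem F532646 : act 6 n225784 = n221772 := d7_2 (iv6 F499267) D225784 F510761
theorem F532647 : act 0 n225784 = n221792 := d19_4 F383999 D191638 D219522 D225784 F510828 F510698 F500927 (iv1 F386593) (iv5 F369081) F369080 F372390 (iv1 D99935) (iv5 D46674) F34935 F32583 D20502 D43383 D92738 D188740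
theorem F532648 : act 0 n225573 = n225784 := d20_4 (iv4 F532056) F532057 F527468 (iv3 F531362) (iv3 D225784) (iv4 D219522) D219521 F523275 (iv3 F529484) F529487
def n225785 : Q := act 7 n219522
theorem D225785 : act 7 n219522 = n225785 := rfl
theorem F532649 : act 2 n225785 = n224822 := d4_1 D225785 (iv7 F530999) F530995
theorem F532650 : act 4 n225785 = n219523 := d11_1 D225785 (iv7 D219523) D219522
theorem F532651 : act 5 n225785 = n221157 := d13_1 D225785 (iv7 F525892) F525893
theorem F532652 : act 6 n225785 = n222978 := d14_1 D225785 (iv7 F517085) F510950 (iv7 F489953) (iv6 F499267)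
def n225786 : Q := act 3 n219525
theorem D225786 : act 3 n219525 = n225786 := rfl
theorem F532653 : act 2 n225786 = n224757 := d0_1 D225786 F526702 (iv2 F473604) (iv3 F529681) F529680
theorem F532654 : act 4 n225786 = n223336 := d5_2 D219525 D225786 F518922 F516585 F488055
theorem F532655 : act 5 n225786 = n224797 := d6_2 F530608 D225786 (iv3 F530610)
theorem F532656 : act 6 n225786 = n224754 := d7_2 F529679 D225786 (iv3 F529674)
theorem F532657 : act 7 n225786 = n223335 := d8_2 F531631 D225786 (iv3 F531628)
theorem F532658 : act 0 n225786 = n225770 := d19_4 D98611 D191650 D219525 D225786 F532568 F505054 F469370 (iv1 F432593) F432592 F422641 (iv3 D196894) (iv1 F165713) (iv5 F228361) (iv4 F439216) (iv3 F522483) F522485 F439266 F383990 F152002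
def n225787 : Q := act 2 n219530
theorem D225787 : act 2 n219530 = n225787 := rfl
theorem F532659 : act 3 n225787 = n223621 := d0_2 D219530 D225787 (iv2 F531173) F531174 F487255
theorem F532660 : act 4 n225787 = n224819 := d1_2 F532644 D225787 (iv2 F532643)
theorem F532661 : act 5 n225787 = n225103 := d2_2 (iv5 F499295) D225787 (iv2 F528655)
theorem F532662 : act 6 n225787 = n224841 := d3_2 (iv6 F499296) D225787 F527150
theorem F532663 : act 7 n225787 = n219816 := d4_2 F530526 D225787 (iv2 F530523)
theorem F532664 : act 1 n225787 = n225640 := d15_0 (iv0 F531760) F530526 D225787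
theorem F532665 : act 1 n222565 = n225787 := d15_0 F532664 F531759 (iv2 F514949)
def n225788 : Q := act 4 n219583
theorem D225788 : act 4 n219583 = n225788 := rfl
theorem F532666 : act 2 n225788 = n219587 := d1_1 D225788 (iv4 D219587) (iv2 F499559)
theorem F532667 : act 3 n225788 = n224405 := d5_1 D225788 (iv4 D224405) (iv3 F456009) (iv4 F470251) (iv3 F499560)
theorem F532668 : act 5 n225788 = n222432 := d9_2 D219583 D225788 (iv4 D222432) (iv5 D199593) (iv4 F361594) (iv5 D173520) (iv4 F271968) D215354 (iv4 F510514) (iv5 D221723) F403650 F343147 (iv4 F409617) F409622 (iv4 F384505)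
theorem F532669 : act 7 n225788 = n223584 := d11_2 F521430 D225788 (iv4 F521429)
theorem F532670 : act 0 n225788 = n223581 := d17_0 F520189 (iv1 F507236) F415492 (iv4 D192307) (iv5 D100044) D100043 D192303 (iv0 F499561) D225788
theorem F532671 : act 1 n225788 = n223508 := d18_6 F357864 F304301 D172574 (iv4 F384505) D219583 D225788 (iv4 D223508) (iv0 F431422) (iv5 D204191)
def n225789 : Q := act 4 n219586
theorem D225789 : act 4 n219586 = n225789 := rfl
theorem F532672 : act 2 n225789 = n219817 := d1_1 D225789 (iv4 D219817) F499575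
theorem F532673 : act 3 n225789 = n225560 := d5_1 D225789 (iv4 D225560) (iv3 F520044) (iv4 D223547) (iv3 F499576)
theorem F532674 : act 5 n225789 = n222438 := d9_2 (iv5 F499574) D225789 (iv4 D222438) (iv5 D199604) F361604 F322455 D172368 D215313 D225422 F530519 (iv4 D215882) (iv5 D178098) (iv4 F302659) (iv5 F280552) F386354
theorem F532675 : act 6 n225789 = n221771 := d10_2 (iv6 F499577) D225789 (iv4 F523275)
theorem F532676 : act 7 n225789 = n219815 := d11_2 (iv7 F499578) D225789 (iv4 D219815)
theorem F532677 : act 0 n225789 = n223635 := d17_0 F520456 F457644 (iv5 F500749) (iv4 D219820) (iv5 F386372) F434799 D223814 F521432 D225789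
theorem F532678 : act 1 n225789 = n224440 := d18_6 F299267 (iv4 F306770) (iv1 F353888) F386354 (iv5 F499574) D225789 (iv4 D224440) F451390 (iv5 D203723)
def n225790 : Q := act 5 n219600
theorem D225790 : act 5 n219600 = n225790 := rfl
theorem F532679 : act 2 n225790 = n225767 := d2_1 D225790 F532547 F522496
theorem F532680 : act 3 n225790 = n219601 := d6_1 D225790 (iv5 D219601) D219600
theorem F532681 : act 6 n225790 = n222718 := d12_2 (iv6 F499627) D225790 (iv5 D222718) F418111 D200961
theorem F532682 : act 7 n225790 = n225767 := d13_2 F522499 D225790 F532547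
theorem F532683 : act 0 n224240 = n225790 := d19_0 (iv5 D225790) (iv4 F509084) F509083 F486468 D218005 F491647 (iv3 F510120) F510123 (iv5 F489232) F489231 F379832 (iv1 F379814) F376745 F409411 (iv3 F463022) F463023 D216935 D225600 F531522
theorem F532684 : act 1 n224240 = n225790 := d15_1 (iv0 F532683) F532682 (iv2 F532679)
def n225791 : Q := act 5 n219606
theorem D225791 : act 5 n219606 = n225791 := rfl
theorem F532685 : act 2 n225791 = n224192 := d2_1 D225791 F523558 F516302
theorem F532686 : act 3 n225791 = n219607 := d6_1 D225791 (iv5 D219607) D219606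
theorem F532687 : act 6 n225791 = n219607 := d12_2 F499655 D225791 (iv5 D219607) D219608 (iv5 F499662)
theorem F532688 : act 7 n225791 = n224193 := d13_2 F531205 D225791 (iv5 F531204)
theorem F532689 : act 4 n225791 = n225377 := d16_2 (iv4 F499654) D225791 F530277 F529818 F494373 F481015 (iv5 F509452) F509453 (iv2 F490723)
theorem F532690 : act 0 n225791 = n224194 := d17_2 F531434 D225791 F524011 F524007 (iv5 D216112) (iv0 F327003) (iv5 F388726) (iv0 F493639) (iv4 F531430)
theorem F532691 : act 1 n225791 = n223937 := d17_6 F524719 (iv5 D215664) D215662 (iv5 F490725) (iv4 F499654) D225791 F522098 F532581 F532577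
def n225792 : Q := act 0 n219627
theorem D225792 : act 0 n219627 = n225792 := rfl
theorem F532692 : act 5 n225792 = n224240 := d17_1 D225792 F532683 (iv5 D225790) (iv4 F509084) F509085 (iv0 F514327) F514324 (iv0 F513990) F513988
theorem F532693 : act 3 n225792 = n224346 := d20_5 (iv4 D182025) (iv1 F152555) D191864 D219627 D225792 F524451 F479099 (iv4 F511872) F511871 (iv1 D216153)
theorem F532694 : act 6 n225792 = n224237 := d21_5 F513447 (iv1 F443180) (iv5 F513983) (iv6 F513985) D225792 (iv5 D224237) F445414 D207986 (iv6 F513384) (iv1 F513449)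
theorem F532695 : act 1 n219627 = n225792 := d15_0 (iv0 D225792) (iv7 F514006) F514003
def n225793 : Q := act 5 n219627
theorem D225793 : act 5 n219627 = n225793 := rfl
theorem F532696 : act 2 n225793 = n225757 := d2_1 D225793 F532493 F514003
theorem F532697 : act 3 n225793 = n219628 := d6_1 D225793 (iv5 D219628) D219627
theorem F532698 : act 6 n225793 = n223922 := d12_2 (iv6 F513985) D225793 (iv5 D223922) (iv6 F437462) (iv5 F513983)
theorem F532699 : act 7 n225793 = n225757 := d13_2 F514006 D225793 F532493
theorem F532700 : act 4 n225793 = n225756 := d19_2 (iv1 F532695) D225793 F532488 (iv1 F497591) D220878 F506030 F407368 (iv1 F280781) (iv5 D180407) F132128 (iv3 F92766) (iv1 F92771) (iv5 F256340) D75244 D157974 (iv1 F392192) (iv5 F479097) (iv4 F524451) (iv3 F532693)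
def n225794 : Q := act 6 n219630
theorem D225794 : act 6 n219630 = n225794 := rfl
theorem F532701 : act 2 n225794 = n225445 := d3_1 D225794 F530660 F499757
theorem F532702 : act 3 n225794 = n225408 := d7_1 D225794 F530442 F512598
theorem F532703 : act 4 n225794 = n225443 := d10_1 D225794 F530650 F512604
theorem F532704 : act 5 n225794 = n220188 := d12_1 D225794 (iv6 D220188) F501627 F501624 (iv5 F499755)
theorem F532705 : act 7 n225794 = n225408 := d14_2 F499758 D225794 F530442 (iv7 F513003) F513002
theorem F532706 : act 0 n225794 = n225746 := d21_4 (iv5 D217013) D217011 (iv5 F499755) D225794 F532423 F521499 (iv1 F442311) D224111 (iv6 F531590) (iv1 D225612)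
theorem F532707 : act 0 n223929 = n225794 := d21_4 (iv5 D126538) D126536 D205698 D223929 (iv6 D225794) F499755 (iv1 F486979) D219601 F499630 (iv1 D205702)
def n225795 : Q := act 6 n219691
theorem D225795 : act 6 n219691 = n225795 := rfl
theorem F532708 : act 2 n225795 = n222028 := d3_1 D225795 F511979 (iv2 F500076)
theorem F532709 : act 3 n225795 = n219694 := d7_1 D225795 (iv6 D219694) (iv3 F500077)
theorem F532710 : act 4 n225795 = n224432 := d10_1 D225795 (iv6 F524939) F517321
theorem F532711 : act 5 n225795 = n221004 := d12_1 D225795 F506756 (iv5 F500058) F500059 D219691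
theorem F532712 : act 7 n225795 = n222031 := d14_2 F517374 D225795 (iv6 F524792) F524793 F524490
theorem F532713 : act 0 n225795 = n222351 := d21_4 (iv5 D209781) (iv1 F385265) D219691 D225795 F513750 F485364 F446930 D214390 F517355 F517352
theorem F532714 : act 0 n223650 = n225795 := d21_4 F432970 (iv1 F429721) (iv5 F432009) D223650 (iv6 D225795) (iv5 D219691) (iv1 F475876) F475875 (iv6 D204595) D204592
def n225796 : Q := act 5 n219728
theorem D225796 : act 5 n219728 = n225796 := rfl
theorem F532715 : act 2 n225796 = n224717 := d2_1 D225796 F526486 (iv2 F500291)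
theorem F532716 : act 3 n225796 = n225455 := d6_1 D225796 F530712 (iv3 F517310)
theorem F532717 : act 6 n225796 = n225267 := d12_2 D219728 D225796 F529607 F517889 F467189
theorem F532718 : act 7 n225796 = n224718 := d13_2 (iv7 F500293) D225796 (iv5 F526494)
theorem F532719 : act 4 n225796 = n224421 := d16_2 (iv4 F500292) D225796 (iv5 D224421) (iv4 F522846) (iv5 F531926) (iv4 D225667) F488846 (iv7 F467429) F467427
theorem F532720 : act 0 n225796 = n224719 := d17_2 (iv1 F500295) D225796 F526499 (iv4 F532223) F532224 F522222 F522219 F463025 (iv4 F462993)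
theorem F532721 : act 1 n225796 = n219790 := d17_6 (iv1 F505614) F505611 (iv1 F495995) (iv5 F488851) (iv4 F500292) D225796 (iv5 F509597) (iv0 F517691) F517689
def n225797 : Q := act 5 n219744
theorem D225797 : act 5 n219744 = n225797 := rfl
theorem F532722 : act 2 n225797 = n223586 := d2_1 D225797 F520208 (iv2 F500388)
theorem F532723 : act 3 n225797 = n222572 := d6_1 D225797 F514974 F503657
theorem F532724 : act 6 n225797 = n223581 := d12_2 D219744 D225797 F520189 F507235 F463695
theorem F532725 : act 7 n225797 = n225508 := d13_2 F528083 D225797 F531004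
theorem F532726 : act 4 n225797 = n220945 := d16_2 (iv4 F500389) D225797 F506413 (iv4 F522491) F522492 (iv4 F525214) (iv5 D224480) F452549 (iv2 F385895)
theorem F532727 : act 0 n225797 = n225785 := d17_2 F500390 D225797 F532651 F507493 (iv5 D203125) D203124 (iv5 F453710) (iv0 F453712) (iv4 F457641)
theorem F532728 : act 1 n225797 = n225506 := d17_6 F438490 D209676 F454597 (iv5 F385897) (iv4 F500389) D225797 F530998 (iv0 F527017) F512400
def n225798 : Q := act 6 n219756
theorem D225798 : act 6 n219756 = n225798 := rfl
theorem F532729 : act 2 n225798 = n220542 := d3_1 D225798 (iv6 D220542) (iv2 F500448)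
theorem F532730 : act 3 n225798 = n223154 := d7_1 D225798 F517905 (iv3 F500449)
theorem F532731 : act 4 n225798 = n225459 := d10_1 D225798 F530733 (iv4 F500450)
theorem F532732 : act 7 n225798 = n220542 := d14_2 (iv7 F500451) D225798 (iv6 D220542) (iv7 F485672) F485671
def n225799 : Q := act 5 n219768
theorem D225799 : act 5 n219768 = n225799 := rfl
theorem F532733 : act 2 n225799 = n220613 := d2_1 D225799 (iv5 D220613) (iv2 F500525)
theorem F532734 : act 3 n225799 = n225780 := d6_1 D225799 F532620 F504638
theorem F532735 : act 4 n225799 = n220623 := d9_1 D225799 F504679 F391973 F157832 (iv4 F157826) (iv5 F391903) (iv4 F504633) (iv5 F532430) (iv4 D225747) (iv5 D219006) F380030 (iv5 D99858) (iv4 F153748) D192209 D219768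
theorem F532736 : act 7 n225799 = n220622 := d13_2 F526137 D225799 F526142
theorem F532737 : act 0 n225799 = n223847 := d17_2 (iv1 F500527) D225799 F521612 (iv4 D209912) F340520 (iv0 D64625) D64628 D137493 D210080
theorem F532738 : act 1 n225799 = n224663 := d17_6 F396252 F396253 (iv1 F333111) D192209 D219768 D225799 (iv5 D224663) F504979 F504977
def n225800 : Q := act 7 n219784
theorem D225800 : act 7 n219784 = n225800 := rfl
theorem F532739 : act 2 n225800 = n225530 := d4_1 D225800 F531093 (iv2 F500609)
theorem F532740 : act 3 n225800 = n219968 := d8_1 D225800 F501425 (iv3 F500610)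
theorem F532741 : act 4 n225800 = n224824 := d11_1 D225800 F527063 (iv4 F511004)
theorem F532742 : act 5 n225800 = n219785 := d13_1 D225800 (iv7 D219785) D219784
theorem F532743 : act 6 n225800 = n219967 := d14_1 D225800 F501422 (iv6 D216988) (iv7 F386193) (iv6 F500611)
theorem F532744 : act 1 n225527 = n225800 := d15_1 (iv0 F531079) (iv7 D225800) F500609
theorem F532745 : act 1 n225800 = n220649 := d15_1 F532744 F504789 (iv2 F531077)
def n225801 : Q := act 1 n219790
theorem D225801 : act 1 n219790 = n225801 := rfl
theorem F532746 : act 1 n225801 = n224719 := d15_1 D225801 (iv7 D224719) (iv2 F500635)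
theorem F532747 : act 7 n225801 = n224717 := d15_2 F532721 D225801 (iv2 F532715)
theorem F532748 : act 5 n225801 = n224199 := d17_7 F443601 D224198 F523588 F515147 (iv4 F509596) F509597 D225801 (iv0 F523595) F462989
theorem F532749 : act 4 n225801 = n225036 := d18_7 F470788 (iv4 F499174) F532004 F532001 (iv5 F489931) (iv4 F500636) D225801 (iv0 F528260) F485549
theorem F532750 : act 3 n225265 = n225801 := d19_19 (iv1 D225801) (iv5 F509597) F509596 F507608 (iv1 F452088) F452086 (iv4 F462977) F462976 (iv1 F379128) (iv5 F394625) F394624 (iv3 D124219) (iv1 D57917) D57919 D124227 D204690 (iv1 F472495) (iv5 F473169) (iv4 F529594)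
theorem F532751 : act 6 n223010 = n225801 := d21_3 (iv5 F517440) (iv1 F517442) (iv5 F517234) (iv1 D225801) F500637 F469379 F458763 F481676 (iv6 F517740) F517742
theorem F532752 : act 2 n225801 = n224718 := d3_1 F532751 (iv6 F526495) (iv2 F517236)
def n225802 : Q := act 5 n219804
theorem D225802 : act 5 n219804 = n225802 := rfl
theorem F532753 : act 3 n225802 = n219805 := d6_1 D225802 (iv5 D219805) D219804
def n225803 : Q := act 3 n219813
theorem D225803 : act 3 n219813 = n225803 := rfl
theorem F532754 : act 4 n225803 = n224340 := d5_2 D219813 D225803 F524419 F449749 (iv3 F386358)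
theorem F532755 : act 5 n225803 = n223019 := d6_2 F507232 D225803 F517281
theorem F532756 : act 6 n225803 = n221782 := d7_2 (iv6 F500738) D225803 (iv3 F510803)
theorem F532757 : act 0 n225803 = n221772 := d19_4 (iv1 D192298) D192299 D219813 D225803 (iv5 D221772) (iv4 F503363) F503360 F389844 (iv5 F373112) (iv4 F491761) F491760 F459096 F387230 F196559 F114931 F317624 (iv5 F317628) (iv4 F302001) F386355
theorem F532758 : act 0 n221771 = n225803 := d20_4 (iv4 D224764) F524457 (iv4 F529486) F529484 (iv3 D225803) (iv4 D219813) D219811 (iv4 F530453) (iv3 F530456) F526739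
def n225804 : Q := act 6 n219815
theorem D225804 : act 6 n219815 = n225804 := rfl
theorem F532759 : act 3 n225804 = n224724 := d7_1 D225804 (iv6 F531062) F531061
theorem F532760 : act 4 n225804 = n219816 := d10_1 D225804 (iv6 D219816) D219815
theorem F532761 : act 5 n225804 = n222030 := d12_1 D225804 F511987 F510566 D221958 (iv5 F511611)
theorem F532762 : act 0 n225804 = n225573 := d21_10 F531363 (iv1 D222366) D222367 F513832 F486888 (iv6 F484943) (iv5 F521419) F521420 (iv5 F511611) D225804
theorem F532763 : act 0 n221792 = n225804 := d21_4 (iv5 D221066) (iv1 F403914) (iv5 F403988) D221792 (iv6 D225804) F511611 (iv1 F521426) F521423 F519769 (iv1 F507071)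
theorem F532764 : act 7 n225804 = n224819 := d15_2 (iv0 F532648) (iv0 F532762) (iv2 F532643)
def n225805 : Q := act 6 n219818
theorem D225805 : act 6 n219818 = n225805 := rfl
theorem F532765 : act 2 n225805 = n224833 := d3_1 D225805 (iv6 F530454) F530458
theorem F532766 : act 4 n225805 = n219819 := d10_1 D225805 (iv6 D219819) D219818
theorem F532767 : act 5 n225805 = n224832 := d12_1 D225805 F527104 F518136 (iv6 F514223) F514222
theorem F532768 : act 7 n225805 = n224978 := d14_2 F530460 D225805 F527938 (iv7 F510821) (iv6 F530464)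
theorem F532769 : act 0 n221781 = n225805 := d21_4 (iv5 D139831) D139829 D210807 (iv6 F510794) (iv6 D225805) (iv5 F514222) (iv1 F514226) (iv5 F520456) F520454 F457651
theorem F532770 : act 1 n221779 = n225805 := d15_0 (iv0 F532769) (iv7 F529485) F529483
def n225806 : Q := act 0 n219819
theorem D225806 : act 0 n219819 = n225806 := rfl
theorem F532771 : act 5 n225806 = n224896 := d17_3 F529835 F529832 D225806 F527470 (iv5 F520264) (iv0 F520267) (iv5 F517805) (iv0 F517808) (iv4 F491041)
theorem F532772 : act 4 n225806 = n221822 := d18_1 D225806 (iv1 F511109) (iv4 F511111) (iv5 D218382) (iv4 F458693) D224799 (iv4 F526931) (iv0 F529834) F529832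
theorem F532773 : act 3 n225806 = n225172 := d20_5 F470209 (iv1 F520384) F520380 (iv3 F500748) D225806 F529029 (iv1 D223393) (iv4 F519236) (iv3 F527758) F527762
theorem F532774 : act 6 n225806 = n225527 := d21_5 (iv5 D191810) F351633 (iv5 F386370) D219819 D225806 F531078 (iv1 F519568) (iv5 F530525) (iv6 D225423) F479344
theorem F532775 : act 2 n225774 = n225806 := d15_3 (iv0 D225806) (iv0 F532575) (iv7 F532591)
theorem F532776 : act 7 n225806 = n224895 := d4_2 (iv7 F532591) F532775 (iv2 F532571)
def n225807 : Q := act 6 n219820
theorem D225807 : act 6 n219820 = n225807 := rfl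
theorem F532777 : act 2 n225807 = n221790 := d3_1 D225807 (iv6 F530464) (iv2 F530465)
theorem F532778 : act 3 n225807 = n225516 := d7_1 D225807 (iv6 F531246) F526113
theorem F532779 : act 4 n225807 = n219821 := d10_1 D225807 (iv6 D219821) D219820
theorem F532780 : act 5 n225807 = n221133 := d12_1 D225807 (iv6 F510688) (iv5 F521086) (iv6 D223755) (iv5 F500749)
theorem F532781 : act 0 n225807 = n221769 := d21_4 F520456 F457644 (iv5 F500749) D225807 F510753 (iv5 D197326) D197324 D221771 (iv6 F532675) F532677
theorem F532782 : act 1 n225807 = n223398 := d15_1 (iv0 F532781) F519269 F515251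
theorem F532783 : act 7 n225807 = n224977 := d15_2 (iv0 F510754) (iv0 F532781) F527935
def n225808 : Q := act 1 n219821
theorem D225808 : act 1 n219821 = n225808 := rfl
theorem F532784 : act 1 n225808 = n224582 := d15_1 D225808 (iv7 F526389) F526386
theorem F532785 : act 7 n225808 = n225610 := d15_2 (iv0 F531131) D225808 F531573
theorem F532786 : act 5 n225808 = n224580 := d17_7 F463466 (iv5 F510070) (iv1 F510072) (iv5 F463178) F504498 F504501 D225808 (iv0 D224580) (iv4 F463463)
theorem F532787 : act 3 n220317 = n225808 := d19_19 (iv1 D225808) (iv5 F504501) (iv4 F504498) F411316 F303411 D175025 F273932 (iv3 F381465) (iv1 D190890) F149622 F358725 (iv3 F241417) (iv1 F358720) F355392 (iv4 F324281) F324280 F279496 D193379 D220317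
theorem F532788 : act 6 n225606 = n225808 := d21_3 (iv5 D225681) (iv1 F529241) (iv5 F531556) (iv1 D225808) (iv6 D219821) (iv5 F386372) (iv1 D191809) D191810 (iv6 F493642) (iv1 F532014)
theorem F532789 : act 2 n225808 = n225620 := d3_1 F532788 F531635 F531557
def n225809 : Q := act 5 n219861
theorem D225809 : act 5 n219861 = n225809 := rfl
theorem F532790 : act 3 n225809 = n220515 := d6_1 D225809 F504139 (iv3 F500929)
theorem F532791 : act 6 n225809 = n220513 := d12_2 (iv6 F500930) D225809 (iv5 F528822) F528826 F500474
theorem F532792 : act 7 n225809 = n224553 := d13_2 F530723 D225809 (iv5 F530724)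
theorem F532793 : act 4 n225809 = n223182 := d16_2 D219861 D225809 (iv5 D223182) (iv4 F481261) F481257 F474101 F468563 (iv7 F500895) F500893
theorem F532794 : act 0 n225809 = n225458 := d17_2 (iv1 F500931) D225809 (iv5 D225458) F481630 F432971 F429712 (iv5 F432009) (iv0 D204315) D204316
def n225810 : Q := act 6 n219895
theorem D225810 : act 6 n219895 = n225810 := rfl
theorem F532795 : act 2 n225810 = n224999 := d3_1 D225810 F528049 F514631
theorem F532796 : act 3 n225810 = n223414 := d7_1 D225810 F519337 F507200
theorem F532797 : act 4 n225810 = n225009 := d10_1 D225810 (iv6 D225009) (iv4 F501087)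
theorem F532798 : act 7 n225810 = n225000 := d14_2 (iv7 F501086) D225810 (iv6 F528052) F519331 (iv6 D220715)
theorem F532799 : act 0 n225810 = n225001 := d21_4 F505190 (iv1 F414236) D219895 D225810 F528055 F525698 (iv1 F454564) D221834 (iv6 F510980) (iv1 F507560)
theorem F532800 : act 5 n225519 = n225810 := d21_2 F519272 D225519 (iv6 D225810) F501088 F484811 (iv5 D203172) (iv1 F185678) D118253 D203236 D223399
theorem F532801 : act 0 n221840 = n225810 := d21_4 F407875 F203983 (iv5 F404096) D221840 (iv6 D225810) (iv5 D219895) F386693 D195506 F397182 D198397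
def n225811 : Q := act 5 n219896
theorem D225811 : act 5 n219896 = n225811 := rfl
theorem F532802 : act 3 n225811 = n225563 := d6_1 D225811 F531298 F510329
theorem F532803 : act 4 n225811 = n225620 := d9_1 D225811 F531634 (iv4 F513505) F513506 (iv4 F476233) (iv5 D200438) (iv4 F416410) D222630 (iv4 F531575) F531576 (iv4 F513487) F513488 F488605 F488603 (iv4 F501090)
theorem F532804 : act 6 n225811 = n225519 := d12_2 D219896 D225811 F532800 (iv6 D225810) (iv5 D219895)
theorem F532805 : act 7 n225811 = n225607 := d13_2 F510551 D225811 F531561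
theorem F532806 : act 0 n225811 = n225492 := d17_2 F503659 D225811 F530917 (iv4 F507046) (iv5 F506286) (iv0 F506285) F497797 (iv0 F472051) (iv4 F503658)
def n225812 : Q := act 5 n219905
theorem D225812 : act 5 n219905 = n225812 := rfl
theorem F532807 : act 2 n225812 = n219906 := d2_1 D225812 (iv5 D219906) D219905
theorem F532808 : act 3 n225812 = n221832 := d6_1 D225812 (iv5 D221832) (iv3 F501125)
theorem F532809 : act 6 n225812 = n223990 := d12_2 (iv6 F501129) D225812 F522403 (iv6 F500165) F500167
theorem F532810 : act 7 n225812 = n225002 := d13_2 F506985 D225812 F528060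
theorem F532811 : act 0 n225812 = n221807 := d17_2 (iv1 F501127) D225812 F510896 F502127 F471711 F492863 F492861 F466524 (iv4 F404139)
theorem F532812 : act 1 n225812 = n225009 := d17_6 D192929 (iv5 F492956) (iv1 F492957) F412529 (iv4 F501126) D225812 F528097 (iv0 D220100) (iv4 D192932)
def n225813 : Q := act 4 n219967
theorem D225813 : act 4 n219967 = n225813 := rfl
theorem F532813 : act 3 n225813 = n224826 := d5_1 D225813 F527072 F514214 F458502 (iv3 F501421)
theorem F532814 : act 6 n225813 = n224824 := d10_2 F532743 D225813 (iv4 F532741)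
theorem F532815 : act 7 n225813 = n225605 := d11_2 (iv7 F501422) D225813 F531552
theorem F532816 : act 5 n225813 = n223415 := d16_1 D225813 (iv4 F519338) F519320 F501293 (iv5 F493160) F493159 D225594 (iv7 F531728) F531725
def n225814 : Q := act 0 n219973
theorem D225814 : act 0 n219973 = n225814 := rfl
theorem F532817 : act 5 n225814 = n220154 := d17_1 D225814 (iv1 F502398) F519752 (iv4 F532183) F532182 F499476 (iv5 D216799) (iv0 F457381) (iv4 F501454)
theorem F532818 : act 4 n225814 = n220488 := d18_1 D225814 F504018 F501617 F501597 F519427 (iv0 F519430) F458944 D210832 (iv5 F501455)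
theorem F532819 : act 3 n225814 = n220157 := d20_5 (iv4 F458747) (iv1 F519666) (iv4 F523676) F523673 D225814 (iv4 F517896) (iv1 F529404) F529406 (iv3 F491065) F491069
theorem F532820 : act 6 n225814 = n221007 := d21_5 (iv5 D217034) (iv1 F434162) (iv5 F434168) D219973 D225814 (iv5 D221007) (iv1 F492745) F492743 F484362 (iv1 F487068)
theorem F532821 : act 2 n220654 = n225814 := d15_3 (iv0 D225814) (iv0 F501456) F504817
theorem F532822 : act 1 n220655 = n225814 := d15_0 (iv0 D225814) (iv7 F518961) F518957
theorem F532823 : act 7 n225814 = n220153 := d15_2 F504821 F532822 F502391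
def n225815 : Q := act 5 n219979
theorem D225815 : act 5 n219979 = n225815 := rfl
theorem F532824 : act 2 n225815 = n225477 := d2_1 D225815 F530841 (iv2 F501489)
theorem F532825 : act 3 n225815 = n219980 := d6_1 D225815 (iv5 D219980) D219979
theorem F532826 : act 4 n225815 = n220012 := d9_1 D225815 F501643 (iv4 D217759) F420157 (iv4 F490733) F492997 F492994 (iv5 F531466) F531465 F501646 (iv4 D217760) (iv5 F420148) (iv4 F490737) (iv5 F490741) (iv4 F501490)
theorem F532827 : act 7 n225815 = n220009 := d13_2 (iv7 F501491) D225815 (iv5 D220009)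
theorem F532828 : act 0 n225815 = n224358 := d17_2 F501493 D225815 F524509 (iv4 F475317) F475318 (iv0 F501818) F501817 (iv0 D207886) (iv4 F446884)
theorem F532829 : act 1 n225815 = n225474 := d17_6 D212400 (iv5 F506788) F506790 (iv5 F490741) (iv4 F501490) D225815 F530825 (iv0 D223317) F426139
theorem F532830 : act 6 n225815 = n223349 := d21_3 F518851 F501493 D225815 F526705 (iv6 D224757) F458144 (iv1 F458099) D224753 (iv6 F532136) (iv1 F532137)
def n225816 : Q := act 4 n219983
theorem D225816 : act 4 n219983 = n225816 := rfl
theorem F532831 : act 3 n225816 = n225605 := d5_1 D225816 F531552 F490453 (iv4 F490454) (iv3 F501509)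
theorem F532832 : act 5 n225816 = n225076 := d9_2 D219983 D225816 F528491 (iv5 F471676) (iv4 F471673) (iv5 F405262) (iv4 F491564) D225701 F532129 (iv5 D223416) F427537 (iv5 D197350) (iv4 F167892) (iv5 F387018) (iv4 F387124)
theorem F532833 : act 6 n225816 = n224440 := d10_2 (iv6 F501510) D225816 (iv4 D224440)
theorem F532834 : act 7 n225816 = n224826 := d11_2 F514215 D225816 F527072
theorem F532835 : act 0 n225816 = n221795 := d17_0 (iv5 F522424) F522425 (iv5 F531050) (iv4 D225521) (iv5 F524769) F524846 (iv5 F529111) (iv0 F529112) D225816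
def n225817 : Q := act 1 n220030
theorem D225817 : act 1 n220030 = n225817 := rfl
theorem F532836 : act 1 n225817 = n222082 := d15_1 D225817 F512268 F502965
theorem F532837 : act 7 n225817 = n220852 := d15_2 (iv0 F501740) D225817 F505887
theorem F532838 : act 5 n225817 = n220853 := d17_7 (iv1 F372476) (iv5 F368845) F388611 (iv5 D193057) (iv4 F387457) D220030 D225817 F505898 F461077
theorem F532839 : act 4 n225817 = n222595 := d17_9 F515093 (iv5 D220451) (iv1 F390737) D211827 (iv4 F521129) F521130 F482826 D220030 D225817
theorem F532840 : act 3 n222119 = n225817 := d19_19 (iv1 D225817) (iv5 D220030) F387457 (iv3 F386064) (iv1 F473861) F473859 (iv4 D193194) (iv3 F389099) F389100 (iv5 D171090) (iv4 F236443) F236442 F190178 D167760 F344634 (iv3 D109579) (iv1 F169320) D198424 D222119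
theorem F532841 : act 6 n221996 = n225817 := d21_3 (iv5 F531668) (iv1 D225625) (iv5 F511813) (iv1 D225817) F501738 (iv5 F480472) F419976 (iv5 F461356) (iv6 F492912) F521144
theorem F532842 : act 2 n225817 = n222085 := d3_1 F532841 (iv6 F530438) F530436
def n225818 : Q := act 4 n220060
theorem D225818 : act 4 n220060 = n225818 := rfl
theorem F532843 : act 2 n225818 = n224818 := d1_1 D225818 (iv4 F531236) F531234
theorem F532844 : act 3 n225818 = n222438 := d5_1 D225818 (iv4 D222438) (iv3 F481927) F481928 (iv3 F501913)
theorem F532845 : act 5 n225818 = n225560 := d9_2 D220060 D225818 (iv4 D225560) (iv5 F485173) (iv4 F519059) (iv5 F531305) F531304 (iv5 F531231) F531230 F527994 F527060 F485165 F420951 D213184 (iv4 F469365)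
theorem F532846 : act 6 n225818 = n224756 := d10_2 F526613 D225818 F526697
theorem F532847 : act 7 n225818 = n224752 := d11_2 (iv7 F514162) D225818 F526676
theorem F532848 : act 0 n225818 = n222030 := d17_0 (iv5 F532761) F532762 F531363 (iv4 F513827) (iv5 F529140) (iv0 D225191) (iv5 F526817) (iv0 F526820) D225818
theorem F532849 : act 1 n225818 = n222027 := d18_6 F498449 (iv4 F517238) F517241 (iv4 F469365) D220060 D225818 (iv4 D222027) (iv0 D198062) D198065
def n225819 : Q := act 1 n220088
theorem D225819 : act 1 n220088 = n225819 := rfl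
theorem F532850 : act 1 n225819 = n221851 := d15_1 D225819 F511053 (iv2 F502048)
theorem F532851 : act 7 n225819 = n220330 := d15_2 (iv0 F507524) D225819 (iv2 F507521)
theorem F532852 : act 5 n225819 = n223034 := d17_7 F501251 (iv5 D219932) (iv1 F431076) (iv5 F423891) (iv4 F510592) F510593 D225819 F517359 F472251
theorem F532853 : act 4 n225819 = n222328 := d17_9 (iv1 F513619) F434346 (iv1 D145431) D145433 D212175 F464621 F510595 F510593 D225819
theorem F532854 : act 3 n220328 = n225819 := d19_19 (iv1 D225819) (iv5 F510593) F510592 F423890 (iv1 F245155) (iv5 D156034) F111047 F53418 (iv1 F48470) D30514 D64951 (iv3 F326321) (iv1 F73574) F35300 (iv4 F35296) (iv3 F74516) (iv1 F156532) D193406 D220328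
theorem F532855 : act 6 n220101 = n225819 := d21_3 D225812 F532811 F510896 (iv1 D225819) F502050 (iv5 D197387) (iv1 F167220) D108137 D197398 (iv1 F501127)
theorem F532856 : act 2 n225819 = n221580 := d3_1 F532855 F509691 (iv2 F502129)
def n225820 : Q := act 2 n220095
theorem D225820 : act 2 n220095 = n225820 := rfl
theorem F532857 : act 3 n225820 = n223797 := d0_2 D220095 D225820 F521331 F500867 F388207
theorem F532858 : act 4 n225820 = n220249 := d1_2 F525365 D225820 (iv2 F525367)
theorem F532859 : act 5 n225820 = n220869 := d2_2 (iv5 F502092) D225820 F505983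
theorem F532860 : act 6 n225820 = n225325 := d3_2 F530587 D225820 (iv2 F530584)
theorem F532861 : act 7 n225820 = n223795 := d4_2 (iv7 F502093) D225820 F521318
theorem F532862 : act 1 n225820 = n224874 := d15_0 F527347 (iv7 F502093) D225820
theorem F532863 : act 1 n220251 = n225820 := d15_0 F532862 F527346 (iv2 F502858)
def n225821 : Q := act 5 n220108
theorem D225821 : act 5 n220108 = n225821 := rfl
theorem F532864 : act 2 n225821 = n224627 := d2_1 D225821 F525995 F502161
theorem F532865 : act 3 n225821 = n223734 := d6_1 D225821 F520968 F505308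
theorem F532866 : act 4 n225821 = n223719 := d9_1 D225821 (iv5 D223719) (iv4 D204590) (iv5 D124024) (iv4 F198412) (iv5 F424061) (iv4 F468832) D225096 F528617 F525318 F481870 (iv5 F406681) (iv4 F413258) (iv5 F424130) (iv4 F502160)
theorem F532867 : act 7 n225821 = n223733 := d13_2 (iv7 F502163) D225821 F520964
theorem F532868 : act 0 n225821 = n225145 := d17_2 D220108 D225821 (iv5 D225145) (iv4 D213274) (iv5 F412553) F412926 F412929 (iv0 D192938) D192940
theorem F532869 : act 1 n225821 = n225144 := d17_6 F449995 F345428 D199501 (iv5 F424130) (iv4 F502160) D225821 (iv5 D225144) (iv0 F472528) F472526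
def n225822 : Q := act 6 n220109
theorem D225822 : act 6 n220109 = n225822 := rfl
theorem F532870 : act 3 n225822 = n225257 := d7_1 D225822 (iv6 F529545) (iv3 F502165)
theorem F532871 : act 4 n225822 = n224616 := d10_1 D225822 (iv6 F528766) F528761
def n225823 : Q := act 5 n220110
theorem D225823 : act 5 n220110 = n225823 := rfl
theorem F532872 : act 2 n225823 = n225271 := d2_1 D225823 (iv5 D225271) (iv2 F502168)
theorem F532873 : act 3 n225823 = n222963 := d6_1 D225823 F517007 (iv3 F502169)
theorem F532874 : act 4 n225823 = n223239 := d16_2 (iv4 F502170) D225823 F518367 F509443 (iv5 F509384) (iv4 F495843) (iv5 F503052) F503054 F502155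
theorem F532875 : act 1 n225823 = n225763 := d17_6 (iv1 F461609) (iv5 F503120) F503121 (iv5 D220111) (iv4 F502170) D225823 (iv5 D225763) (iv0 F517985) F517983
def n225824 : Q := act 5 n220158
theorem D225824 : act 5 n220158 = n225824 := rfl
theorem F532876 : act 2 n225824 = n222401 := d2_1 D225824 F514010 (iv2 F502416)
theorem F532877 : act 3 n225824 = n220160 := d6_1 D225824 (iv5 D220160) (iv3 F502417)
theorem F532878 : act 4 n225824 = n221437 := d9_1 D225824 F509027 (iv4 F439850) (iv5 D206235) F205642 D157740 (iv4 F440495) D224043 F522695 (iv5 D214676) (iv4 F476344) F476345 F410870 (iv5 F420554) (iv4 F502418)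
theorem F532879 : act 7 n225824 = n222847 := d13_2 (iv7 F502419) D225824 (iv5 D222847)
theorem F532880 : act 0 n225824 = n221869 := d17_2 F502420 D225824 F511149 F454366 (iv5 D206233) F205628 (iv5 F372170) (iv0 F372172) (iv4 F475261)
def n225825 : Q := act 0 n220164
theorem D225825 : act 0 n220164 = n225825 := rfl
theorem F532881 : act 4 n225825 = n221509 := d20_2 F523662 D225825 F509368 F492565 (iv3 F471839) F471840 (iv1 F367125) D191850 (iv3 F464359) F523666
theorem F532882 : act 3 n225825 = n222846 := d20_5 (iv4 D138167) D138165 (iv4 F388570) (iv3 F502441) D225825 (iv4 D222846) (iv1 D201450) D201451 F456907 (iv1 D210297)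
theorem F532883 : act 6 n225825 = n220952 := d21_5 F250866 (iv1 F372166) (iv5 F388567) D220164 D225825 (iv5 D220952) (iv1 F439200) F446138 F475014 (iv1 D214403)
theorem F532884 : act 1 n220164 = n225825 := d15_0 (iv0 D225825) (iv7 F529839) F529836
theorem F532885 : act 2 n222681 = n225825 := d3_3 F532883 F506451 D222681
theorem F532886 : act 7 n222681 = n225825 := d14_0 F532883 F506453 F401035 (iv7 F417409) D222681
def n225826 : Q := act 5 n220164
theorem D225826 : act 5 n220164 = n225826 := rfl
theorem F532887 : act 3 n225826 = n220166 := d6_1 D225826 (iv5 D220166) (iv3 F502441)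
theorem F532888 : act 6 n225826 = n225685 := d12_2 D220164 D225826 (iv5 D225685) (iv6 D217833) (iv5 F388567)
def n225827 : Q := act 5 n220165
theorem D225827 : act 5 n220165 = n225827 := rfl
theorem F532889 : act 2 n225827 = n224193 := d2_1 D225827 (iv5 F531204) F531201
theorem F532890 : act 3 n225827 = n225685 := d6_1 D225827 (iv5 D225685) (iv3 F502442)
theorem F532891 : act 4 n225827 = n225376 := d9_1 D225827 F530274 F482232 (iv5 F408587) (iv4 F481010) (iv5 F490725) (iv4 F499654) D225791 F532689 F530277 F529818 F494373 F481015 (iv5 F509452) F509451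
theorem F532892 : act 6 n225827 = n220166 := d12_2 D220165 D225827 (iv5 D220166) (iv6 D193037) D193036
theorem F532893 : act 7 n225827 = n224192 := d13_2 F516305 D225827 F523558
theorem F532894 : act 0 n225827 = n223937 := d17_2 F528243 D225827 F522098 F511872 (iv5 F406501) F405677 D215243 (iv0 F482873) (iv4 F528241)
theorem F532895 : act 1 n225827 = n224194 := d17_6 (iv1 D224864) F459786 (iv1 F481014) (iv5 F509452) F509451 D225827 F524011 (iv0 F524010) F527294
def n225828 : Q := act 5 n220205
theorem D225828 : act 5 n220205 = n225828 := rfl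
theorem F532896 : act 2 n225828 = n222963 := d2_1 D225828 F517007 (iv2 F502637)
theorem F532897 : act 3 n225828 = n223170 := d6_1 D225828 F517994 (iv3 F502638)
theorem F532898 : act 4 n225828 = n223236 := d9_1 D225828 (iv5 D223236) F424412 D221630 F509987 (iv5 F499860) F510588 (iv5 F526474) (iv4 D224714) F457420 F424417 (iv5 F509077) F509076 (iv5 F499853) (iv4 F502639)
theorem F532899 : act 6 n225828 = n224539 := d12_2 D220205 D225828 (iv5 F526000) (iv6 F526002) (iv5 D220204)
theorem F532900 : act 7 n225828 = n222962 := d13_2 F502642 D225828 F517001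
theorem F532901 : act 0 n225828 = n222957 := d17_2 F502640 D225828 (iv5 D222957) F422383 (iv5 F410375) F450528 F450527 (iv0 F448622) F448621
theorem F532902 : act 1 n225828 = n222964 := d17_6 F500337 (iv5 F524685) F524687 (iv5 F499853) (iv4 F502639) D225828 F517012 F500833 F500830
def n225829 : Q := act 6 n220216
theorem D225829 : act 6 n220216 = n225829 := rfl
theorem F532903 : act 2 n225829 = n220262 := d3_1 D225829 F502920 (iv2 F502697)
theorem F532904 : act 3 n225829 = n221611 := d7_1 D225829 (iv6 F532524) F532523
theorem F532905 : act 4 n225829 = n225237 := d10_1 D225829 (iv6 F529425) F528770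
theorem F532906 : act 5 n225829 = n220261 := d12_1 D225829 F502916 (iv5 F422467) F422468 D220216
theorem F532907 : act 7 n225829 = n224923 := d14_2 (iv7 F502698) D225829 F527620 F502926 (iv6 D220263)
theorem F532908 : act 0 n225823 = n225829 := d17_0 F532906 F517986 (iv5 F529633) (iv4 F529965) (iv5 D225326) F480013 (iv5 F485354) (iv0 F518368) (iv4 F532874)
def n225830 : Q := act 1 n220222
theorem D225830 : act 1 n220222 = n225830 := rfl
theorem F532909 : act 1 n225830 = n222308 := d15_1 D225830 F513496 F504234
theorem F532910 : act 7 n225830 = n222307 := d15_2 (iv0 F502727) D225830 F513485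
theorem F532911 : act 5 n225830 = n224934 := d17_7 (iv1 F531520) F531517 (iv1 D220841) (iv5 F495620) (iv4 F532336) F532337 D225830 (iv0 F527675) (iv4 F512837)
theorem F532912 : act 4 n225830 = n224580 := d17_9 (iv1 F525753) D225441 F530640 (iv5 F504509) (iv4 F505620) (iv5 F512440) (iv0 F532339) F532337 D225830
theorem F532913 : act 3 n224935 = n225830 := d19_19 (iv1 D225830) (iv5 F532337) F532336 F495619 F378777 D217448 F488928 F471728 (iv1 D196891) D196892 D221637 F510026 (iv1 F499645) (iv5 F463683) (iv4 D211945) D211944 F463681 (iv5 F463661) (iv4 F527677)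
theorem F532914 : act 6 n224587 = n225830 := d21_3 F504382 F521031 (iv5 F525788) (iv1 D225830) (iv6 D220222) D220221 F502724 (iv5 D193906) D193907 D220565
theorem F532915 : act 2 n225830 = n222310 := d3_1 F532914 F513507 F525790
def n225831 : Q := act 5 n220223
theorem D225831 : act 5 n220223 = n225831 := rfl
theorem F532916 : act 2 n225831 = n220433 := d2_1 D225831 (iv5 D220433) F502730
theorem F532917 : act 3 n225831 = n224526 := d6_1 D225831 (iv5 D224526) F502731
theorem F532918 : act 6 n225831 = n225515 := d12_2 F502732 D225831 F531033 (iv6 F524757) F524756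
theorem F532919 : act 7 n225831 = n224488 := d13_2 (iv7 F502729) D225831 (iv5 D224488)
theorem F532920 : act 0 n225831 = n220232 := d17_2 (iv1 F502728) D225831 (iv5 D220232) (iv4 F502769) F502770 (iv0 F527674) (iv5 F532911) F532909 F513492
theorem F532921 : act 1 n225831 = n224490 := d17_6 F438951 D215348 (iv1 F499736) (iv5 F510054) F510053 D225831 (iv5 F525356) (iv0 D224507) F452966
def n225832 : Q := act 5 n220260
theorem D225832 : act 5 n220260 = n225832 := rfl
theorem F532922 : act 2 n225832 = n225272 := d2_1 D225832 F529633 F517982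
theorem F532923 : act 3 n225832 = n224712 := d6_1 D225832 F526464 (iv3 F502911)
theorem F532924 : act 4 n225832 = n224713 := d9_1 D225832 F526467 (iv4 F517147) (iv5 D204766) F198792 (iv5 F198710) (iv4 F433270) D223756 (iv4 F531251) F531252 F517144 F476099 (iv4 F431009) (iv5 F500873) (iv4 F502910)
theorem F532925 : act 0 n225832 = n223092 := d17_2 D220260 D225832 F517600 F503001 (iv5 F461425) (iv0 D211405) (iv5 D141953) (iv0 F360794) (iv4 F389324)
theorem F532926 : act 1 n225832 = n225229 := d17_6 F503055 (iv5 D204770) (iv1 F431011) (iv5 F500873) (iv4 F502910) D225832 (iv5 D225229) D225228 F529368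
def n225833 : Q := act 0 n220262
theorem D225833 : act 0 n220262 = n225833 := rfl
theorem F532927 : act 5 n225833 = n220278 := d17_1 D225833 F511100 (iv5 F529428) (iv4 D225238) (iv5 D213923) (iv0 D156086) D156088 D213927 (iv4 F502921)
theorem F532928 : act 4 n225833 = n224715 := d18_1 D225833 F526479 F481829 (iv5 D202253) (iv4 F423405) F500874 (iv4 F502910) (iv0 D220260) D220262
theorem F532929 : act 3 n225833 = n224714 := d20_5 F500503 F485019 F481596 (iv3 F502919) D225833 (iv4 D224714) F457422 F504262 F504259 (iv1 F500500)
theorem F532930 : act 1 n224923 = n225833 := d15_0 (iv0 D225833) (iv7 F532525) F532522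
theorem F532931 : act 7 n225833 = n225823 := d15_2 F529632 F532930 F532872
def n225834 : Q := act 2 n220274
theorem D225834 : act 2 n220274 = n225834 := rfl
theorem F532932 : act 3 n225834 = n220279 := d0_2 D220274 D225834 (iv2 D220279) (iv3 D193280) (iv2 F389386)
theorem F532933 : act 4 n225834 = n225284 := d1_2 F504222 D225834 (iv2 F529709)
theorem F532934 : act 6 n225834 = n221527 := d3_2 F514863 D225834 (iv2 F514862)
theorem F532935 : act 7 n225834 = n223793 := d4_2 (iv7 F502979) D225834 (iv2 F521309)
theorem F532936 : act 1 n225834 = n220742 := d15_0 (iv0 F505273) (iv7 F502979) D225834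
theorem F532937 : act 1 n221429 = n225834 := d15_0 F532936 F505272 (iv2 F508985)
def n225835 : Q := act 5 n220274
theorem D225835 : act 5 n220274 = n225835 := rfl
theorem F532938 : act 3 n225835 = n220275 := d6_1 D225835 (iv5 D220275) D220274
theorem F532939 : act 7 n225835 = n225802 := d13_2 (iv7 F502979) D225835 (iv5 D225802)
theorem F532940 : act 4 n225835 = n223053 := d16_2 F504222 D225835 F517448 F500482 F389323 (iv4 F482523) (iv5 F513032) (iv7 F529711) (iv2 F529709)
theorem F532941 : act 0 n225835 = n223732 := d17_2 F519597 D225835 F520962 F509856 F432708 D204585 (iv5 F432950) (iv0 F505349) (iv4 F519594)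
theorem F532942 : act 1 n225835 = n223161 := d17_6 D196812 D221614 F509881 (iv5 F504226) F504222 D225835 (iv5 D223161) (iv0 F502918) F401865
def n225836 : Q := act 0 n220280
theorem D225836 : act 0 n220280 = n225836 := rfl
theorem F532943 : act 5 n225836 = n222960 := d17_1 D225836 (iv1 F516995) (iv5 F532906) F532905 F529424 F516922 (iv5 F527886) (iv0 F527890) (iv4 F503004)
theorem F532944 : act 3 n225836 = n222961 := d20_5 (iv4 F504133) F504134 F481633 (iv3 F503003) D225836 F516998 F524578 F524574 F485486 F485484
theorem F532945 : act 6 n225836 = n223719 := d21_5 F526055 (iv1 F469554) D224772 F526786 D225836 (iv5 D223719) D223718 (iv5 F526049) (iv6 F526051) (iv1 F526057)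
theorem F532946 : act 2 n223756 = n225836 := d15_3 (iv0 D225836) (iv0 F529636) F529635
theorem F532947 : act 1 n225238 = n225836 := d15_0 (iv0 D225836) (iv7 F529374) (iv2 F529427)
theorem F532948 : act 7 n225836 = n225832 := d15_2 F529637 F532947 F532922
def n225837 : Q := act 1 n220281
theorem D225837 : act 1 n220281 = n225837 := rfl
theorem F532949 : act 1 n225837 = n223066 := d15_1 D225837 (iv7 F528736) F528734
theorem F532950 : act 7 n225837 = n223719 := d15_2 F517487 D225837 F520901
theorem F532951 : act 5 n225837 = n223692 := d17_7 (iv1 F460711) (iv5 D211229) (iv1 F224275) (iv5 F458286) (iv4 F526778) F526782 D225837 F520762 (iv4 D215822)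
theorem F532952 : act 4 n225837 = n223733 := d17_9 F528865 F528863 F473078 (iv5 F481656) F481655 (iv5 F459154) (iv0 F526780) F526782 D225837
theorem F532953 : act 3 n220486 = n225837 := d19_19 (iv1 D225837) (iv5 F526782) F526778 F475219 (iv1 D214448) (iv5 F359929) (iv4 D99567) (iv3 F153296) D192035 (iv5 F492305) (iv4 D218136) (iv3 F489334) F489332 F376783 (iv4 F483947) (iv3 F483948) F483880 F483879 (iv4 F504008)
theorem F532954 : act 6 n223732 = n225837 := d21_3 (iv5 F504272) (iv1 F509854) (iv5 F520962) (iv1 D225837) (iv6 D220281) (iv5 D193281) F356386 D192280 (iv6 F467350) F502925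
theorem F532955 : act 2 n225837 = n224500 := d0_1 F532953 (iv3 D224500) (iv2 F452802) D209832 (iv2 F504010)
def n225838 : Q := act 0 n220293
theorem D225838 : act 0 n220293 = n225838 := rfl
theorem F532956 : act 5 n225838 = n225652 := d17_1 D225838 (iv1 F531830) (iv5 F497914) F497913 (iv5 D208557) (iv0 F433265) F433264 (iv0 F433266) D220293
theorem F532957 : act 4 n225838 = n224904 := d18_1 D225838 F527516 (iv4 F503883) (iv5 F512370) F512369 F408129 (iv4 F495873) F512573 F512567
theorem F532958 : act 3 n225838 = n225297 := d20_5 (iv4 D190829) F367232 D194748 (iv3 F503064) D225838 F529779 (iv1 F476489) (iv4 F476644) F476643 (iv1 F381269)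
theorem F532959 : act 6 n225838 = n223774 := d21_5 (iv5 D214730) (iv1 F262313) (iv5 F476427) (iv6 F503065) D225838 F521198 F482949 (iv5 F463155) (iv6 F476190) (iv1 F476576)
theorem F532960 : act 2 n225653 = n225838 := d15_3 (iv0 D225838) (iv0 F527948) (iv7 F531834)
theorem F532961 : act 1 n222224 = n225838 := d15_0 (iv0 D225838) (iv7 F526207) F526203
theorem F532962 : act 7 n225838 = n224912 := d15_2 (iv0 F527949) F532961 (iv2 F527945)
def n225839 : Q := act 3 n220307
theorem D225839 : act 3 n220307 = n225839 := rfl
theorem F532963 : act 2 n225839 = n224102 := d0_1 D225839 F523033 (iv2 F513152) (iv3 F530254) F530253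
theorem F532964 : act 4 n225839 = n224970 := d5_2 (iv4 F503117) D225839 (iv3 F527901) (iv4 F495920) (iv3 F495922)
theorem F532965 : act 5 n225839 = n221215 := d6_2 F503118 D225839 (iv3 D221215)
theorem F532966 : act 7 n225839 = n224975 := d8_2 F530249 D225839 (iv3 F530247)
theorem F532967 : act 0 n225839 = n223956 := d19_4 (iv1 F390437) D211345 (iv4 F503117) D225839 (iv5 D223956) (iv4 F437883) F219241 F347016 D208461 F449460 F366269 (iv1 F422411) F422409 F179527 F171722 (iv1 F93969) F166140 (iv4 D66548) D66547
theorem F532968 : act 0 n223827 = n225839 := d20_4 F509043 (iv1 D205103) D205104 D223827 (iv3 D225839) F503117 (iv1 F498065) F498064 (iv3 F507671) (iv1 F509042)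
theorem F532969 : act 6 n220939 = n225839 := d21_3 F522230 (iv1 D221279) (iv5 F506383) F532967 F522210 (iv5 D205808) (iv1 D126617) D126618 (iv6 F437932) D223960
def n225840 : Q := act 6 n220307
theorem D225840 : act 6 n220307 = n225840 := rfl
theorem F532970 : act 3 n225840 = n220939 := d7_1 D225840 F532969 (iv3 D225839)
theorem F532971 : act 4 n225840 = n222740 := d10_1 D225840 F515835 (iv4 F503117)
theorem F532972 : act 5 n225840 = n221280 := d12_1 D225840 (iv6 F508134) (iv5 F466985) (iv6 F466991) F503118
theorem F532973 : act 0 n224990 = n225840 := d21_4 (iv5 D207559) (iv1 F441041) (iv5 F463746) D224990 (iv6 D225840) (iv5 F503118) (iv1 F507772) F507774 (iv6 F495978) (iv1 F464279)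
theorem F532974 : act 1 n223961 = n225840 := d17_6 (iv1 F439182) (iv5 F418110) F440690 F440689 (iv4 F437933) D223961 F532972 F522480 F522478
def n225841 : Q := act 7 n220341
theorem D225841 : act 7 n220341 = n225841 := rfl
theorem F532975 : act 2 n225841 = n223242 := d4_1 D225841 F518381 (iv2 F503281)
theorem F532976 : act 3 n225841 = n224734 := d8_1 D225841 F526578 (iv3 F503282)
theorem F532977 : act 4 n225841 = n220390 := d11_1 D225841 (iv7 D220390) (iv4 F503283)
theorem F532978 : act 5 n225841 = n223624 := d13_1 D225841 F520393 (iv5 F503284)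
theorem F532979 : act 6 n225841 = n223180 := d14_1 D225841 F518051 F514379 F480703 D220341
theorem F532980 : act 1 n223241 = n225841 := d15_1 (iv0 F518378) (iv7 D225841) F503281
theorem F532981 : act 1 n225841 = n223243 := d15_1 F532980 (iv7 D223243) (iv2 F518374)
def n225842 : Q := act 4 n220381
theorem D225842 : act 4 n220381 = n225842 := rfl
theorem F532982 : act 2 n225842 = n225068 := d1_1 D225842 (iv4 F530033) F530032
theorem F532983 : act 3 n225842 = n221197 := d5_1 D225842 F507691 F497560 F493499 (iv3 F503501)
theorem F532984 : act 6 n225842 = n224314 := d10_2 F532344 D225842 (iv4 F532342)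
theorem F532985 : act 7 n225842 = n225379 := d11_2 F503503 D225842 F530288
theorem F532986 : act 0 n225842 = n224311 := d17_0 F524248 (iv1 D224164) D224165 F523395 F488834 (iv0 F393241) (iv5 F497994) (iv0 F503502) D225842
theorem F532987 : act 1 n225842 = n224468 := d18_6 (iv1 D202797) F182873 D202011 F422705 D220381 D225842 F525144 (iv0 F518705) (iv5 D223298)
def n225843 : Q := act 3 n220395
theorem D225843 : act 3 n220395 = n225843 := rfl
theorem F532988 : act 2 n225843 = n223161 := d0_1 D225843 F517947 F503992 (iv3 F503991) F503575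
theorem F532989 : act 4 n225843 = n222991 := d5_2 (iv4 F503574) D225843 F517150 F430918 D204236
theorem F532990 : act 5 n225843 = n220586 := d6_2 (iv5 F503573) D225843 (iv3 D220586)
theorem F532991 : act 6 n225843 = n225832 := d7_2 F526462 D225843 F532923
theorem F532992 : act 7 n225843 = n223732 := d8_2 (iv7 F503572) D225843 F520961
theorem F532993 : act 0 n225802 = n225843 := d20_4 (iv4 F504146) F504148 (iv4 F500697) (iv3 F532753) (iv3 D225843) F503574 (iv1 F431612) D212709 F504317 (iv1 D220550)
def n225844 : Q := act 4 n220442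
theorem D225844 : act 4 n220442 = n225844 := rfl
theorem F532994 : act 2 n225844 = n220443 := d1_1 D225844 (iv4 D220443) D220442
theorem F532995 : act 3 n225844 = n221585 := d5_1 D225844 (iv4 F510138) F510137 (iv4 F510154) F510153
theorem F532996 : act 5 n225844 = n220865 := d9_2 F512524 D225844 (iv4 F505968) (iv5 F521454) (iv4 F531835) (iv5 D225653) (iv4 F512532) F512531 (iv4 F527543) (iv5 D224909) (iv4 D211375) D211376 D224912 F527558 (iv4 F512522)
theorem F532997 : act 6 n225844 = n221061 := d10_2 (iv6 F503803) D225844 (iv4 F507046)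
theorem F532998 : act 7 n225844 = n221138 := d11_2 F510145 D225844 (iv4 F510144)
theorem F532999 : act 0 n225844 = n223998 := d17_0 (iv5 D223998) F469891 F469892 F397189 (iv5 F408133) F512339 F512337 F503805 D225844
theorem F533000 : act 1 n225844 = n222525 := d18_6 (iv1 D218784) (iv4 F495539) (iv1 F495543) (iv4 F512522) F512524 D225844 F514714 (iv0 F443533) (iv5 F495640)
def n225845 : Q := act 6 n220448
theorem D225845 : act 6 n220448 = n225845 := rfl
theorem F533001 : act 2 n225845 = n223231 := d3_1 D225845 F518330 (iv2 F503830)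
theorem F533002 : act 3 n225845 = n220450 := d7_1 D225845 (iv6 D220450) D220448
theorem F533003 : act 4 n225845 = n223121 := d10_1 D225845 (iv6 F526273) F526271
theorem F533004 : act 5 n225845 = n225634 := d12_1 D225845 (iv6 F532101) (iv5 F532212) F532210 F525021
theorem F533005 : act 7 n225845 = n224779 := d14_2 (iv7 F503831) D225845 F526830 F473208 D214042
theorem F533006 : act 0 n225845 = n222426 := d21_4 F500802 D224446 F525021 D225845 (iv6 D222426) (iv5 F460417) F460419 F423363 F410200 F500803
theorem F533007 : act 0 n224896 = n225845 := d21_4 F491027 D219791 (iv5 F526955) (iv6 F527471) (iv6 D225845) (iv5 F525021) F525026 (iv5 F500840) F500841 (iv1 F491030)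
def n225846 : Q := act 3 n220482
theorem D225846 : act 3 n220482 = n225846 := rfl
theorem F533008 : act 2 n225846 = n223732 := d0_1 D225846 F520961 F503569 (iv3 F503567) (iv2 F503985)
theorem F533009 : act 4 n225846 = n222993 := d5_2 (iv4 F503982) D225846 F517161 F432760 (iv3 F426642)
theorem F533010 : act 5 n225846 = n221298 := d6_2 (iv5 F503981) D225846 F508233
theorem F533011 : act 6 n225846 = n224500 := d7_2 F503984 D225846 (iv3 D224500)
theorem F533012 : act 7 n225846 = n223161 := d8_2 (iv7 F503986) D225846 F517947
theorem F533013 : act 0 n225846 = n225802 := d19_4 (iv1 F204824) D203015 (iv4 F503982) D225846 (iv5 D225802) (iv4 F502928) (iv3 D220264) (iv1 F391213) (iv5 F490070) (iv4 D217678) (iv3 F490060) F490063 F443199 F443197 F213502 F336585 D129798 F346000 F345998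
def n225847 : Q := act 1 n220511
theorem D225847 : act 1 n220511 = n225847 := rfl
theorem F533014 : act 1 n225847 = n225566 := d15_1 D225847 F531320 F529216
theorem F533015 : act 7 n225847 = n225565 := d15_2 (iv0 F520951) D225847 F531314
theorem F533016 : act 5 n225847 = n225059 := d17_7 (iv1 F467283) (iv5 F468563) F468564 (iv5 F467203) D225057 F528386 D225847 F528394 (iv4 D213636)
theorem F533017 : act 4 n225847 = n221499 := d17_9 (iv1 F528713) (iv5 D225112) (iv1 D213163) D213164 (iv4 F469293) (iv5 F483029) (iv0 F528387) F528386 D225847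
theorem F533018 : act 3 n225570 = n225847 := d19_19 (iv1 D225847) (iv5 F528386) (iv4 D225057) (iv3 D212712) (iv1 D149052) (iv5 D69909) F51544 (iv3 F41695) D54318 (iv5 F310196) (iv4 D32328) D32327 (iv1 F247752) (iv5 F232267) (iv4 F434397) F434396 F411871 D222351 (iv4 F531345)
theorem F533019 : act 6 n221498 = n225847 := d21_3 (iv5 F424293) F424294 (iv5 F509311) (iv1 D225847) F527172 F527167 (iv1 F472843) D222999 F517185 F452806
theorem F533020 : act 2 n225847 = n223075 := d3_1 F533019 (iv6 D223075) (iv2 F509309)
def n225848 : Q := act 2 n220519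
theorem D225848 : act 2 n220519 = n225848 := rfl
theorem F533021 : act 3 n225848 = n225778 := d0_2 D220519 D225848 (iv2 D225778) (iv3 D219441) (iv2 F391184)
theorem F533022 : act 4 n225848 = n220524 := d1_2 (iv4 F504155) D225848 (iv2 D220524)
theorem F533023 : act 5 n225848 = n225404 := d2_2 F520134 D225848 F530422
theorem F533024 : act 7 n225848 = n223558 := d4_2 (iv7 F504156) D225848 F520096
theorem F533025 : act 1 n225848 = n225525 := d15_0 (iv0 D225525) (iv7 F504156) D225848
theorem F533026 : act 1 n224365 = n225848 := d15_0 F533025 F531071 F529663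
theorem F533027 : act 6 n225177 = n225848 := d14_5 F533024 (iv6 D223558) F430806 D219443 (iv7 F529053)
def n225849 : Q := act 6 n220519
theorem D225849 : act 6 n220519 = n225849 := rfl
theorem F533028 : act 2 n225849 = n225177 := d3_1 D225849 F533027 (iv2 D225848)
theorem F533029 : act 3 n225849 = n220520 := d7_1 D225849 (iv6 D220520) D220519
theorem F533030 : act 4 n225849 = n220522 := d10_1 D225849 F504171 (iv4 F504155)
theorem F533031 : act 5 n225849 = n225161 := d12_1 D225849 (iv6 F529046) (iv5 F530871) F530872 F520134
theorem F533032 : act 7 n225849 = n220520 := d14_2 (iv7 F504156) D225849 (iv6 D220520) F391185 F483405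
theorem F533033 : act 0 n225849 = n224360 := d21_4 F520112 (iv1 F520136) F520134 D225849 (iv6 D224360) (iv5 F473576) (iv1 F513780) (iv5 F520233) (iv6 F530911) (iv1 F530912)
theorem F533034 : act 0 n225479 = n225849 := d21_4 (iv5 F531066) (iv1 F533025) F533023 (iv6 F530851) (iv6 D225849) (iv5 F520134) F520135 (iv5 F520109) (iv6 F520184) F530412
def n225850 : Q := act 0 n220542
theorem D225850 : act 0 n220542 = n225850 := rfl
theorem F533035 : act 3 n225850 = n223066 := d20_5 F517892 F428978 (iv4 F423475) (iv3 F504276) D225850 (iv4 D223066) F422874 D213207 (iv3 F525529) F525532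
theorem F533036 : act 4 n225850 = n223067 := d20_8 (iv4 D205851) (iv1 F245426) D213988 (iv3 F481869) F504152 (iv3 F531367) F531368 D225850 (iv3 D223067) (iv1 F438144)
theorem F533037 : act 5 n225850 = n224889 := d21_2 F529469 D225850 F527434 F518368 (iv6 D216659) (iv5 D185129) D185126 D216652 (iv6 F530733) F530734
theorem F533038 : act 1 n220542 = n225850 := d15_0 (iv0 D225850) (iv7 F532732) F532729
def n225851 : Q := act 4 n220551
theorem D225851 : act 4 n220551 = n225851 := rfl
theorem F533039 : act 2 n225851 = n225835 := d1_1 D225851 F532940 F517447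
theorem F533040 : act 3 n225851 = n223092 := d5_1 D225851 (iv4 D223092) F423008 F472939 (iv3 F504319)
theorem F533041 : act 6 n225851 = n225850 := d10_2 F517502 D225851 F533036
theorem F533042 : act 5 n225851 = n225834 := d16_3 F502694 D220551 D225851 F532933 F529706 F511294 F453715 F453714 (iv2 F502693)
theorem F533043 : act 0 n225851 = n225846 := d17_0 F533010 F508236 (iv5 F469347) D225064 F528427 F521298 (iv5 F528836) (iv0 F528838) D225851
theorem F533044 : act 1 n225851 = n225843 := d18_6 F472415 (iv4 F472522) F502696 F502694 D220551 D225851 F532989 F517152 F472416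
def n225852 : Q := act 5 n220561
theorem D225852 : act 5 n220561 = n225852 := rfl
theorem F533045 : act 2 n225852 = n220568 := d2_1 D225852 (iv5 D220568) F504363
theorem F533046 : act 3 n225852 = n222806 := d6_1 D225852 F516177 (iv3 F504364)
theorem F533047 : act 4 n225852 = n222431 := d9_1 D225852 (iv5 F525785) (iv4 D224586) (iv5 F494707) F494706 (iv5 F464310) F435019 D209558 (iv4 F454127) (iv5 F464429) F464428 (iv5 F494672) F494676 (iv5 F464333) (iv4 F504366)
theorem F533048 : act 6 n225852 = n224449 := d12_2 F522687 D225852 F525043 F503917 (iv5 F522686)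
theorem F533049 : act 7 n225852 = n220570 := d13_2 (iv7 F504365) D225852 (iv5 D220570)
theorem F533050 : act 0 n225852 = n224556 := d17_2 D220561 D225852 (iv5 F528126) F528127 F520744 F520740 (iv5 F509200) F509203 F504362
theorem F533051 : act 1 n225852 = n224555 := d17_6 (iv1 D145315) D145316 D212101 (iv5 F464333) (iv4 F504366) D225852 F525608 F513601 (iv4 D212099)
def n225853 : Q := act 0 n220568
theorem D225853 : act 0 n220568 = n225853 := rfl
theorem F533052 : act 5 n225853 = n224451 := d17_1 D225853 (iv1 F528125) F528121 F499705 (iv5 F509187) F509190 (iv5 F514176) F514174 (iv4 F504394)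
theorem F533053 : act 4 n225853 = n221700 := d18_1 D225853 F510373 F478206 (iv5 F454776) F453668 D221473 (iv4 F509193) F504373 D220568
theorem F533054 : act 3 n225853 = n224481 := d20_5 (iv4 F493264) (iv1 D218313) (iv4 F454143) (iv3 F504392) D225853 F525217 F516623 F457684 F457682 D210480
theorem F533055 : act 6 n225853 = n225207 := d21_5 D218153 (iv1 F529288) (iv5 D225215) (iv6 F504395) D225853 (iv5 F531556) F531730 F531726 (iv6 F491385) F471832
theorem F533056 : act 2 n224556 = n225853 := d15_3 (iv0 D225853) (iv0 F504396) (iv7 F525613)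
theorem F533057 : act 1 n220570 = n225853 := d15_0 (iv0 D225853) F504393 (iv2 F504404)
theorem F533058 : act 7 n225853 = n224555 := d15_2 (iv0 F504408) F533057 (iv2 F525612)
def n225854 : Q := act 1 n220592
theorem D225854 : act 1 n220592 = n225854 := rfl
theorem F533059 : act 1 n225854 = n225604 := d15_1 D225854 F531551 (iv2 F504502)
theorem F533060 : act 7 n225854 = n225441 := d15_2 (iv0 F504506) D225854 F530636
theorem F533061 : act 5 n225854 = n221642 := d17_7 F513489 (iv5 F521183) F527688 F527685 F504489 D220592 D225854 (iv0 F510062) (iv4 F513487)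
theorem F533062 : act 4 n225854 = n224829 := d17_9 F527088 (iv5 D221134) F396962 D211805 (iv4 F525760) F525761 (iv0 D220590) D220592 D225854
theorem F533063 : act 3 n220647 = n225854 := d19_19 (iv1 D225854) (iv5 D220592) (iv4 F504489) F504488 F445465 F445462 F379068 (iv3 F379066) D218874 (iv5 F500312) F500311 (iv3 F525903) (iv1 F525906) F472777 F392018 F157901 D102674 D194103 D220647
theorem F533064 : act 6 n224828 = n225854 := d21_3 F525505 F493234 (iv5 F527083) (iv1 D225854) F504504 (iv5 F430579) F430580 D222564 (iv6 F528671) (iv1 F528668)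
theorem F533065 : act 2 n225854 = n224581 := d3_1 F533064 F525756 (iv2 F527081)
def n225855 : Q := act 1 n220613
theorem D225855 : act 1 n220613 = n225855 := rfl
theorem F533066 : act 1 n225855 = n220622 := d15_1 D225855 (iv7 F532736) F532733
theorem F533067 : act 7 n225855 = n223847 := d15_2 F532622 D225855 (iv2 F532617)
theorem F533068 : act 5 n225855 = n220617 := d17_7 F455471 (iv5 D137530) F333130 D102618 D194057 D220613 D225855 F515454 F515450
theorem F533069 : act 4 n225855 = n220616 := d17_9 F504645 (iv5 D209265) (iv1 F391962) (iv5 F455511) (iv4 F526152) (iv5 D224660) F455331 D220613 D225855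
theorem F533070 : act 3 n223857 = n225855 := d19_19 (iv1 D225855) (iv5 D220613) (iv4 D194057) (iv3 F391895) (iv1 F393168) (iv5 D117000) F85043 (iv3 D30672) (iv1 F45749) D59491 F93906 D111352 (iv1 F412140) (iv5 D199426) D199425 (iv3 F434837) F434840 D222633 (iv4 F521670)
theorem F533071 : act 6 n223857 = n225855 := d21_9 (iv5 D220613) (iv1 F455331) D224660 F526153 (iv1 F526149) F526145 F515351 (iv1 F515442) (iv5 F521669) (iv1 D225855)
theorem F533072 : act 2 n225855 = n224663 := d3_1 F533071 F526170 F521671
def n225856 : Q := act 6 n220613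
theorem D225856 : act 6 n220613 = n225856 := rfl
theorem F533073 : act 3 n225856 = n223855 := d7_1 D225856 (iv6 F521663) F521662
theorem F533074 : act 4 n225856 = n221330 := d10_1 D225856 F508417 (iv4 F504631)
theorem F533075 : act 5 n225856 = n225725 := d12_1 D225856 (iv6 D225725) (iv5 F494320) F487855 D220613
theorem F533076 : act 0 n225856 = n225856 := d21_4 (iv5 D224659) F455311 D220613 D225856 (iv6 D225856) (iv5 D220613) (iv1 F455331) D224660 F526153 (iv1 F526149)
def n225857 : Q := act 6 n220623
theorem D225857 : act 6 n220623 = n225857 := rfl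
theorem F533077 : act 2 n225857 = n221330 := d3_1 D225857 F508417 (iv2 F504677)
theorem F533078 : act 3 n225857 = n221332 := d7_1 D225857 F508427 (iv3 F504678)
theorem F533079 : act 5 n225857 = n221324 := d12_1 D225857 (iv6 D221324) (iv5 D196035) (iv6 F391974) (iv5 F504679)
theorem F533080 : act 7 n225857 = n221330 := d14_2 D220623 D225857 F508417 (iv7 F496645) F496644
theorem F533081 : act 0 n225857 = n225766 := d21_4 (iv5 F416968) (iv1 F391976) (iv5 F504679) D225857 F532543 F521615 F452962 D210102 (iv6 F515412) (iv1 F515413)
theorem F533082 : act 0 n225766 = n225857 := d21_4 F416983 (iv1 F452963) (iv5 F521615) (iv6 F532543) (iv6 D225857) F504679 (iv1 F391975) (iv5 F416967) F455486 F452739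
def n225858 : Q := act 0 n220640
theorem D225858 : act 0 n220640 = n225858 := rfl
theorem F533083 : act 5 n225858 = n223349 := d17_1 D225858 F526705 (iv5 F531182) F531181 (iv5 D223470) (iv0 F429037) D213194 F469397 (iv4 F504755)
theorem F533084 : act 4 n225858 = n223031 := d18_1 D225858 (iv1 D223031) (iv4 F433012) D216795 (iv4 F502014) (iv0 D220082) (iv4 F501998) (iv0 F531382) F531380
theorem F533085 : act 3 n225858 = n223343 := d20_5 F483439 (iv1 D194095) (iv4 F392032) (iv3 F504754) D225858 F518967 F501350 F501346 (iv3 F496690) (iv1 F496693)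
theorem F533086 : act 6 n225858 = n225038 := d21_5 (iv5 F411907) F411908 (iv5 F392028) D220640 D225858 (iv5 D225038) (iv1 D212439) D212440 F465802 (iv1 F386230)
theorem F533087 : act 2 n225123 = n225858 := d15_3 (iv0 D225858) (iv0 F504757) (iv7 F528781)
theorem F533088 : act 1 n224795 = n225858 := d15_0 (iv0 D225858) F504756 (iv2 F526913)
theorem F533089 : act 7 n225858 = n220702 := d15_2 (iv0 F526917) F533088 F505052
def n225859 : Q := act 0 n220663
theorem D225859 : act 0 n220663 = n225859 := rfl
theorem F533090 : act 5 n225859 = n224537 := d17_1 D225859 F525532 (iv5 F527211) F527210 (iv5 D212431) D212430 (iv5 F465776) (iv0 F392128) D220663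
theorem F533091 : act 4 n225859 = n225038 := d18_1 D225859 F528269 F519837 (iv5 F485907) (iv4 D209488) (iv0 F420950) D222874 F525597 F525596
theorem F533092 : act 3 n225859 = n224886 := d20_5 F481870 F391139 (iv4 F481694) (iv3 F504859) D225859 (iv4 D224886) F460712 D215824 (iv3 F520900) (iv1 F520897)
theorem F533093 : act 6 n225859 = n223031 := d21_5 (iv5 F519719) (iv1 F519721) F504143 (iv6 F504862) D225859 F517347 (iv1 D203104) D203105 D223357 F519032
theorem F533094 : act 2 n225124 = n225859 := d15_3 (iv0 D225859) (iv0 F504861) (iv7 F528788)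
theorem F533095 : act 1 n225244 = n225859 := d15_0 (iv0 D225859) F504860 (iv2 F529465)
theorem F533096 : act 7 n225859 = n225225 := d15_2 D225244 F533095 F529346
def n225860 : Q := act 5 n220685
theorem D225860 : act 5 n220685 = n225860 := rfl
theorem F533097 : act 2 n225860 = n225856 := d2_1 D225860 F533075 F532284
theorem F533098 : act 3 n225860 = n220686 := d6_1 D225860 (iv5 D220686) D220685
theorem F533099 : act 6 n225860 = n225799 := d12_2 (iv6 F504982) D225860 (iv5 D225799) (iv6 F508414) (iv5 D221329)
theorem F533100 : act 7 n225860 = n225856 := d13_2 F532287 D225860 F533075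
theorem F533101 : act 4 n225860 = n225857 := d16_2 (iv4 F504981) D225860 F533079 (iv4 F532286) (iv5 F533075) F533074 (iv5 D221330) (iv7 F508383) F508381
theorem F533102 : act 0 n225860 = n225860 := d17_2 F508415 D225860 (iv5 D225860) F504981 D221330 (iv0 F523892) (iv5 D224249) F523887 F523885
def n225861 : Q := act 4 n220718
theorem D225861 : act 4 n220718 = n225861 := rfl
theorem F533103 : act 2 n225861 = n223274 := d1_1 D225861 F518566 (iv2 F505607)
theorem F533104 : act 3 n225861 = n223116 := d5_1 D225861 F517727 (iv3 F487328) (iv4 F530143) (iv3 F530148)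
theorem F533105 : act 5 n225861 = n224967 := d9_2 F506374 D225861 F527878 F485882 (iv4 F499202) (iv5 F524262) (iv4 F532342) F532341 (iv4 F517689) F517690 (iv4 F484500) F484501 (iv4 F499174) F524270 F524267
theorem F533106 : act 6 n225861 = n224732 := d10_2 (iv6 F529808) D225861 (iv4 F529803)
theorem F533107 : act 7 n225861 = n223105 := d11_2 (iv7 F505602) D225861 F517671
theorem F533108 : act 0 n225861 = n222022 := d17_0 (iv5 F526499) (iv1 F532746) F532748 F523592 (iv5 F488846) (iv0 D217431) (iv5 F392837) D220718 D225861
theorem F533109 : act 1 n225861 = n221561 := d18_6 (iv1 D211782) D211783 (iv1 F524265) F524267 F506374 D225861 F509596 (iv0 F512542) F512541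
def n225862 : Q := act 5 n220745
theorem D225862 : act 5 n220745 = n225862 := rfl
theorem F533110 : act 2 n225862 = n224636 := d2_1 D225862 (iv5 D224636) (iv2 F505286)
theorem F533111 : act 3 n225862 = n220746 := d6_1 D225862 (iv5 D220746) D220745
theorem F533112 : act 4 n225862 = n223679 := d9_1 D225862 (iv5 F529870) F529869 F525242 F524942 F451135 (iv4 F501003) (iv5 F520766) F520765 (iv5 F517252) F517251 D223015 F517262 F458009 (iv4 F505287)
theorem F533113 : act 6 n225862 = n224955 := d12_2 (iv6 F505291) D225862 (iv5 D224955) (iv6 D211684) (iv5 F455744)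
theorem F533114 : act 7 n225862 = n223678 := d13_2 (iv7 F505288) D225862 F520682
theorem F533115 : act 0 n225862 = n223037 := d17_2 F505290 D225862 F517369 (iv4 F476003) F476004 (iv0 F457987) (iv5 F502761) (iv0 F502766) (iv4 F469406)
theorem F533116 : act 1 n225862 = n224376 := d17_6 (iv1 F452628) (iv5 F504734) F504733 F458009 (iv4 F505287) D225862 F524593 (iv0 F501022) F501020
def n225863 : Q := act 4 n220778
theorem D225863 : act 4 n220778 = n225863 := rfl
theorem F533117 : act 2 n225863 = n223349 := d1_1 D225863 (iv4 D223349) (iv2 F505481)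
theorem F533118 : act 3 n225863 = n225494 := d5_1 D225863 F530925 F493484 F493483 (iv3 F505482)
theorem F533119 : act 5 n225863 = n225123 := d9_2 D220778 D225863 (iv4 D225123) (iv5 D213188) F404541 F404537 (iv4 F465303) (iv5 F518874) (iv4 F532567) F532568 F505054 (iv5 D213187) (iv4 F393560) (iv5 D194521) D194520
theorem F533120 : act 6 n225863 = n225477 := d10_2 F532142 D225863 (iv4 F532141)
theorem F533121 : act 7 n225863 = n223350 := d11_2 (iv7 F505483) D225863 (iv4 D223350)
theorem F533122 : act 0 n225863 = n225786 := d17_0 F532655 F526924 F504091 F501998 (iv5 F426399) F426393 D203074 (iv0 F505484) D225863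
theorem F533123 : act 1 n225863 = n225526 := d18_6 F426464 F426462 (iv1 D194518) D194520 D220778 D225863 F531072 F518906 (iv5 D213383)
def n225864 : Q := act 5 n220842
theorem D225864 : act 5 n220842 = n225864 := rfl
theorem F533124 : act 2 n225864 = n222572 := d2_1 D225864 F514974 (iv2 F505837)
theorem F533125 : act 4 n225864 = n224489 := d9_1 D225864 (iv5 D224489) (iv4 F513492) F513491 (iv4 F512502) F512504 (iv4 F531011) (iv5 D225509) F483313 (iv5 F388975) (iv4 F502726) (iv5 F532337) F532336 F495620 D220842
theorem F533126 : act 6 n225864 = n224830 := d12_2 (iv6 F505838) D225864 (iv5 D224830) (iv6 F463721) F463720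
theorem F533127 : act 7 n225864 = n222571 := d13_2 F510920 D225864 F514968
theorem F533128 : act 0 n225864 = n221062 := d17_2 F510552 D225864 (iv5 D221062) F396747 D198422 (iv0 F497899) F497898 (iv0 F416387) (iv4 F510550)
theorem F533129 : act 1 n225864 = n222573 := d17_6 (iv1 F408705) (iv5 F512851) (iv1 F512853) F495620 D220842 D225864 F514977 F507041 F507039
def n225865 : Q := act 4 n220903
theorem D225865 : act 4 n220903 = n225865 := rfl
theorem F533130 : act 2 n225865 = n224115 := d1_1 D225865 F523107 (iv2 F506180)
theorem F533131 : act 3 n225865 = n222833 := d5_1 D225865 (iv4 D222833) (iv3 F490960) (iv4 F509825) F509824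
theorem F533132 : act 5 n225865 = n225746 := d9_2 D220903 D225865 (iv4 D225746) (iv5 D218966) F399904 F362553 D214356 (iv5 F512196) F512194 (iv5 F522069) (iv4 F530095) F530096 F486064 (iv5 F341814) (iv4 F394764)
theorem F533133 : act 6 n225865 = n221403 := d10_2 (iv6 F506181) D225865 F508835
theorem F533134 : act 7 n225865 = n222059 := d11_2 (iv7 F506182) D225865 F512143
theorem F533135 : act 0 n225865 = n224346 := d17_0 (iv5 F531525) F531526 (iv5 D224707) (iv4 F526410) F526411 (iv0 F477606) (iv5 F483869) (iv0 F506183) D225865
theorem F533136 : act 1 n225865 = n223541 := d18_6 F405676 F327004 (iv1 F361133) (iv4 F394764) D220903 D225865 (iv4 D223541) (iv0 F430692) (iv5 F406501)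
def n225866 : Q := act 6 n220913
theorem D225866 : act 6 n220913 = n225866 := rfl
theorem F533137 : act 2 n225866 = n225379 := d3_1 D225866 (iv6 D225379) (iv2 F506237)
theorem F533138 : act 3 n225866 = n224017 := d7_1 D225866 (iv6 F522560) (iv3 F506241)
theorem F533139 : act 4 n225866 = n220914 := d10_1 D225866 (iv6 D220914) D220913
theorem F533140 : act 5 n225866 = n224099 := d12_1 D225866 (iv6 D224099) (iv5 D206739) D206740 (iv5 F506238)
theorem F533141 : act 7 n225866 = n225068 := d14_2 F506368 D225866 F528448 (iv7 F524266) (iv6 F524269)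
theorem F533142 : act 0 n225866 = n224468 := d21_4 (iv5 F489867) (iv1 F489868) (iv5 F506238) D225866 F525145 (iv5 D209606) (iv1 F446127) (iv5 F524035) F524036 (iv1 F452441)
theorem F533143 : act 0 n224311 = n225866 := d21_4 (iv5 D207028) F366305 D208009 D224311 (iv6 D225866) F506238 (iv1 F468975) F468974 (iv6 F523402) (iv1 F523403)
def n225867 : Q := act 3 n220916
theorem D225867 : act 3 n220916 = n225867 := rfl
theorem F533144 : act 2 n225867 = n225067 := d0_1 D225867 (iv3 D225067) F522569 (iv3 F522568) (iv2 F506378)
theorem F533145 : act 4 n225867 = n221442 := d5_2 (iv4 F506250) D225867 (iv3 F509036) (iv4 D198461) (iv3 F408080)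
theorem F533146 : act 5 n225867 = n221219 := d6_2 (iv5 F506249) D225867 (iv3 D221219)
theorem F533147 : act 6 n225867 = n221441 := d7_2 F531619 D225867 (iv3 F531618)
theorem F533148 : act 7 n225867 = n225840 := d8_2 F506381 D225867 F532970
theorem F533149 : act 0 n225867 = n223930 := d19_4 F352214 D198455 (iv4 F506250) D225867 (iv5 D223930) F437488 (iv3 D129083) (iv1 F95276) D106654 D196106 (iv3 F486095) (iv1 F486161) F486158 F446033 F441201 (iv1 F211205) D207463 (iv4 F477799) F477798
def n225868 : Q := act 4 n220944
theorem D225868 : act 4 n220944 = n225868 := rfl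
theorem F533150 : act 3 n225868 = n222576 := d5_1 D225868 F514983 F502775 (iv4 F395421) (iv3 F506409)
theorem F533151 : act 5 n225868 = n222575 := d9_2 D220944 D225868 F514980 F516626 (iv4 D222893) F455985 F396484 D208268 D224342 F524433 F512400 (iv5 F516638) (iv4 D222895) (iv5 F506408) (iv4 D220943)
theorem F533152 : act 6 n225868 = n225044 := d10_2 (iv6 F506411) D225868 F528302
theorem F533153 : act 7 n225868 = n222570 := d11_2 F524414 D225868 (iv4 F524415)
theorem F533154 : act 1 n225868 = n225007 := d18_6 (iv1 F492735) (iv4 F499232) F506407 (iv4 D220943) D220944 D225868 (iv4 F531568) F531567 (iv5 F492731)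
def n225869 : Q := act 7 n220976
theorem D225869 : act 7 n220976 = n225869 := rfl
theorem F533155 : act 2 n225869 = n222746 := d4_1 D225869 (iv7 D222746) (iv2 F506595)
theorem F533156 : act 3 n225869 = n225654 := d8_1 D225869 F531840 F511754
theorem F533157 : act 4 n225869 = n222718 := d11_1 D225869 (iv7 F522246) (iv4 F522247)
theorem F533158 : act 5 n225869 = n220977 := d13_1 D225869 (iv7 D220977) D220976
theorem F533159 : act 1 n222744 = n225869 := d15_1 D222744 (iv7 D225869) F506595
theorem F533160 : act 1 n225869 = n222743 := d15_1 F533159 (iv7 F515852) (iv2 F515855)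
def n225870 : Q := act 5 n221060
theorem D225870 : act 5 n221060 = n225870 := rfl
theorem F533161 : act 2 n225870 = n222574 := d2_1 D225870 (iv5 D222574) F507042
theorem F533162 : act 3 n225870 = n222570 := d6_1 D225870 (iv5 F524117) F524115
theorem F533163 : act 4 n225870 = n225717 := d9_1 D225870 F532237 (iv4 F530585) F530586 F529976 F506286 F507046 (iv5 F530917) F530916 F482656 (iv4 F476087) F476088 (iv4 F476231) F476232 (iv4 F507039)
theorem F533164 : act 6 n225870 = n221861 := d12_2 (iv6 F507040) D225870 (iv5 D221861) (iv6 D197433) D197432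
theorem F533165 : act 7 n225870 = n222576 := d13_2 F507043 D225870 (iv5 D222576)
theorem F533166 : act 0 n225870 = n225811 := d17_2 D221060 D225870 (iv5 D225811) F501090 (iv5 F488603) (iv0 F488609) (iv5 D211801) (iv0 F397194) (iv4 F396747)
theorem F533167 : act 1 n225870 = n222630 := d17_6 F505412 (iv5 F486612) F495437 F476232 (iv4 F507039) D225870 (iv5 D222630) F510921 F510919
def n225871 : Q := act 5 n221063
theorem D225871 : act 5 n221063 = n225871 := rfl
theorem F533168 : act 3 n225871 = n221064 := d6_1 D225871 (iv5 D221064) D221063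
theorem F533169 : act 4 n225871 = n223570 := d9_1 D225871 F520151 (iv4 D211223) (iv5 D141229) F101834 (iv5 F223788) (iv4 F460148) D224877 F527362 F520154 F520144 F458366 (iv4 F412378) F412379 (iv4 F507053)
theorem F533170 : act 6 n225871 = n221816 := d12_2 (iv6 F507054) D225871 F510923 (iv6 D198390) (iv5 F401556)
theorem F533171 : act 7 n225871 = n222568 := d13_2 (iv7 F507055) D225871 (iv5 D222568)
def n225872 : Q := act 5 n221067
theorem D225872 : act 5 n221067 = n225872 := rfl
theorem F533172 : act 2 n225872 = n225803 := d2_1 D225872 F532755 F517280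
theorem F533173 : act 3 n225872 = n221068 := d6_1 D225872 (iv5 D221068) D221067
theorem F533174 : act 7 n225872 = n222566 := d13_2 (iv7 F507074) D225872 (iv5 D222566)
theorem F533175 : act 4 n225872 = n223587 := d16_2 (iv4 F507072) D225872 F520210 F506630 F466912 (iv4 F483973) F483974 (iv7 F512791) (iv2 D222187)
theorem F533176 : act 1 n225872 = n224691 := d17_6 F452527 D210195 F465377 F465375 (iv4 F507072) D225872 (iv5 D224691) (iv0 F456479) (iv4 F452526)
def n225873 : Q := act 0 n221069
theorem D225873 : act 0 n221069 = n225873 := rfl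
theorem F533177 : act 5 n225873 = n225507 := d17_1 D225873 (iv1 F531001) (iv5 D221786) (iv4 F411469) D222351 (iv0 F532713) F532711 (iv0 F506760) (iv4 F507083)
theorem F533178 : act 4 n225873 = n223238 := d18_1 D225873 F518366 D225818 F532845 (iv4 D225560) F485170 (iv4 F531039) F531287 F531284
theorem F533179 : act 3 n225873 = n221554 := d20_5 F396747 F397194 (iv4 F463116) (iv3 F507082) D225873 F509568 (iv1 F513484) F513480 F509480 (iv1 D221061)
theorem F533180 : act 6 n225873 = n222068 := d21_5 (iv5 F458030) (iv1 F458031) F396783 D221069 D225873 (iv5 F527349) F527352 (iv5 F503345) (iv6 D195414) D195411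
theorem F533181 : act 2 n221070 = n225873 := d15_3 (iv0 D225873) (iv0 F507230) (iv7 F507616)
theorem F533182 : act 7 n225873 = n221071 := d4_2 (iv7 F507616) F533181 (iv2 F507229)
theorem F533183 : act 1 n221073 = n225873 := d15_1 F507231 F533182 (iv2 F507229)
def n225874 : Q := act 7 n221069
theorem D225874 : act 7 n221069 = n225874 := rfl
theorem F533184 : act 2 n225874 = n221073 := d4_1 D225874 (iv7 D221073) (iv2 F507081)
theorem F533185 : act 3 n225874 = n221133 := d8_1 D225874 F507378 (iv3 F507082)
theorem F533186 : act 4 n225874 = n222025 := d11_1 D225874 F511968 (iv4 F507083)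
theorem F533187 : act 5 n225874 = n225516 := d13_1 D225874 F531290 F531284
theorem F533188 : act 6 n225874 = n224749 := d14_1 D225874 (iv7 D224749) (iv6 D210557) (iv7 F396780) D221069
theorem F533189 : act 1 n221071 = n225874 := d15_1 D221071 (iv7 D225874) F507081
theorem F533190 : act 1 n225874 = n221070 := d15_1 F533189 F507616 F507229
def n225875 : Q := act 5 n221071
theorem D225875 : act 5 n221071 = n225875 := rfl
theorem F533191 : act 2 n225875 = n225174 := d2_1 D225875 F529042 F507229
theorem F533192 : act 4 n225875 = n223509 := d9_1 D225875 F519814 (iv4 F528625) F529207 F529203 (iv5 F485116) (iv4 F507085) F507084 F483309 F283628 (iv4 F287536) D216685 (iv4 F529146) F529147 F526399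
theorem F533193 : act 6 n225875 = n223508 := d12_2 F507087 D225875 F519810 (iv6 D221033) (iv5 F403886)
theorem F533194 : act 7 n225875 = n225507 := d13_2 F533182 D225875 (iv5 F533177)
theorem F533195 : act 0 n225875 = n224722 := d17_2 (iv1 F533189) D225875 (iv5 D224722) F457446 (iv5 F432990) (iv0 F511990) (iv5 D222031) F511969 (iv4 F533186)
theorem F533196 : act 1 n225875 = n221828 := d17_6 F529565 F529562 (iv1 F529150) F529147 F526399 D225875 F510954 (iv0 F463690) (iv4 F500919)
def n225876 : Q := act 0 n221074
theorem D225876 : act 0 n221074 = n225876 := rfl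
theorem F533197 : act 5 n225876 = n221768 := d17_1 D225876 (iv1 D221768) D221769 (iv4 F525257) (iv5 D224488) (iv0 F502554) F502552 (iv0 F503778) (iv4 F507096)
theorem F533198 : act 4 n225876 = n225441 := d18_1 D225876 F530640 (iv4 F514976) F514977 F415503 F414074 (iv4 F463116) (iv0 F463117) D221074
theorem F533199 : act 6 n225876 = n224817 := d21_5 (iv5 D221068) F396767 D195349 (iv6 F507095) D225876 F527038 (iv1 F510640) F510637 F510534 F510532
theorem F533200 : act 2 n221787 = n225876 := d3_3 F533199 F527035 (iv6 F510809)
theorem F533201 : act 7 n224829 = n225876 := d14_0 F533199 (iv7 D224817) F458861 D210812 D224829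
def n225877 : Q := act 1 n221074
theorem D225877 : act 1 n221074 = n225877 := rfl
theorem F533202 : act 7 n225877 = n221787 := d15_2 (iv0 D225876) D225877 F533200
theorem F533203 : act 5 n225877 = n221726 := d17_7 (iv1 F472052) D220413 F503664 (iv5 D198649) (iv4 F396793) D221074 D225877 (iv0 F510528) (iv4 F415991)
theorem F533204 : act 4 n225877 = n224581 := d17_9 F525759 (iv5 F504485) F504487 D225425 F530536 (iv5 D224977) (iv0 F463117) D221074 D225877
theorem F533205 : act 3 n221727 = n225877 := d19_19 (iv1 D225877) (iv5 D221074) F396793 (iv3 F408694) F408696 D202865 F425926 (iv3 F487341) F487344 (iv5 D193591) (iv4 D101996) (iv3 F356411) F356416 F356456 (iv4 F356455) D123783 (iv1 F431356) (iv5 F485192) (iv4 F510530)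
theorem F533206 : act 6 n224731 = n225877 := d21_3 (iv5 D210807) (iv1 F458843) (iv5 F526566) (iv1 D225877) F507095 (iv5 D195349) F396763 D221066 F507068 F473678
theorem F533207 : act 2 n225877 = n224829 := d3_1 F533206 (iv6 D224829) (iv2 F526569)
def n225878 : Q := act 6 n221075
theorem D225878 : act 6 n221075 = n225878 := rfl
theorem F533208 : act 2 n225878 = n221795 := d3_1 D225878 (iv6 D221795) F507098
theorem F533209 : act 3 n225878 = n225718 := d7_1 D225878 F532242 F507101
theorem F533210 : act 4 n225878 = n225696 := d10_1 D225878 (iv6 F532098) (iv4 F507100)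
theorem F533211 : act 5 n225878 = n221808 := d12_1 D225878 (iv6 D221808) F404046 (iv6 F403662) (iv5 F507097)
theorem F533212 : act 0 n225878 = n224826 := d21_4 (iv5 D197335) (iv1 F403664) (iv5 F507097) D225878 (iv6 D224826) F458868 (iv1 F457645) (iv5 F514960) (iv6 D222567) F415480
def n225879 : Q := act 5 n221085
theorem D225879 : act 5 n221085 = n225879 := rfl
theorem F533213 : act 2 n225879 = n221782 := d2_1 D225879 F510796 (iv2 F507151)
theorem F533214 : act 3 n225879 = n221087 := d6_1 D225879 (iv5 D221087) (iv3 F507152)
theorem F533215 : act 4 n225879 = n224349 := d9_1 D225879 F524464 (iv4 F517270) (iv5 F517412) F517411 (iv5 F472957) (iv4 F510625) (iv5 F530991) F530990 (iv5 F493571) (iv4 F519669) F529515 (iv4 D225252) F472952 (iv4 F507153)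
theorem F533216 : act 6 n225879 = n225872 := d12_2 D221085 D225879 (iv5 D225872) F507073 F426660
theorem F533217 : act 7 n225879 = n221783 := d13_2 F527100 D225879 (iv5 F527095)
theorem F533218 : act 0 n225879 = n221785 := d17_2 F515260 D225879 F510804 F403981 (iv5 F473169) F481777 D215849 (iv0 F481776) (iv4 F515258)
theorem F533219 : act 1 n225879 = n221724 := d17_6 (iv1 D156151) D156152 D213977 F472952 (iv4 F507153) D225879 (iv5 D221724) (iv0 F472942) (iv4 D213974)
def n225880 : Q := act 5 n221086
theorem D225880 : act 5 n221086 = n225880 := rfl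
theorem F533220 : act 2 n225880 = n222566 := d2_1 D225880 (iv5 D222566) F507156
theorem F533221 : act 3 n225880 = n225242 := d6_1 D225880 F529453 F509522
theorem F533222 : act 4 n225880 = n223588 := d9_1 D225880 (iv5 F520216) F450779 (iv5 F515991) F515990 F465375 (iv4 F507072) D225872 F533175 F520210 F506630 F466912 (iv4 F483973) F483974 (iv4 F507154)
theorem F533223 : act 6 n225880 = n225241 := d12_2 (iv6 F507155) D225880 (iv5 D225241) F472858 (iv5 F498965)
theorem F533224 : act 7 n225880 = n225803 := d13_2 F517283 D225880 F532755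
theorem F533225 : act 0 n225880 = n224691 := d17_2 D221086 D225880 (iv5 D224691) F456478 F453710 F519079 F519077 (iv0 F500163) F454869
def n225881 : Q := act 6 n221094
theorem D225881 : act 6 n221094 = n225881 := rfl
theorem F533226 : act 2 n225881 = n223397 := d3_1 D225881 (iv6 D223397) (iv2 F507187)
theorem F533227 : act 4 n225881 = n223418 := d10_1 D225881 F519346 F510887
theorem F533228 : act 0 n221808 = n225881 := d21_4 F396848 (iv1 F203992) (iv5 F404046) D221808 (iv6 D225881) (iv5 D221094) (iv1 D195368) D195369 F396837 D195373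
def n225882 : Q := act 5 n221095
theorem D225882 : act 5 n221095 = n225882 := rfl
theorem F533229 : act 2 n225882 = n223398 := d2_1 D225882 (iv5 D223398) (iv2 F507191)
theorem F533230 : act 3 n225882 = n221785 := d6_1 D225882 F510804 (iv3 F507192)
theorem F533231 : act 4 n225882 = n225831 := d9_1 D225882 (iv5 D225831) (iv4 F510053) F510054 (iv4 F531516) F531517 F505836 D222627 F515254 (iv5 D209210) F218712 D196907 (iv4 F495674) F495675 (iv4 F507193)
theorem F533232 : act 7 n225882 = n221769 := d13_2 (iv7 F507194) D225882 (iv5 D221769)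
theorem F533233 : act 0 n225882 = n221790 := d17_2 (iv1 F515249) D225882 F510820 F463143 (iv5 F463180) (iv0 F488604) F488603 (iv0 F416432) (iv4 F515245)
theorem F533234 : act 1 n225882 = n224977 := d17_6 D198647 (iv5 F505855) F505857 F495675 (iv4 F507193) D225882 (iv5 D224977) (iv0 F463117) F396793
def n225883 : Q := act 7 n221134
theorem D225883 : act 7 n221134 = n225883 := rfl
theorem F533235 : act 2 n225883 = n224531 := d4_1 D225883 F525502 (iv2 F507381)
theorem F533236 : act 3 n225883 = n225805 := d8_1 D225883 F532768 F527937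
theorem F533237 : act 4 n225883 = n224530 := d11_1 D225883 F525499 F507383
theorem F533238 : act 5 n225883 = n221135 := d13_1 D225883 (iv7 D221135) D221134
theorem F533239 : act 6 n225883 = n225511 := d14_1 D225883 F531020 (iv6 D221792) (iv7 F407844) (iv6 F507382)
theorem F533240 : act 1 n225877 = n225883 := d15_1 D225877 (iv7 D225883) F507381
theorem F533241 : act 1 n225883 = n225876 := d15_1 F533240 (iv7 F533201) (iv2 F533207)
def n225884 : Q := act 5 n221143
theorem D225884 : act 5 n221143 = n225884 := rfl
theorem F533242 : act 2 n225884 = n225871 := d2_1 D225884 (iv5 D225871) (iv2 F507421)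
theorem F533243 : act 4 n225884 = n224776 := d9_1 D225884 (iv5 D224776) (iv4 D210659) (iv5 D139478) (iv4 F172819) F360131 (iv4 F415493) D222568 (iv4 F520418) F520419 F498878 F460683 F224256 F401230 (iv4 F507422)
theorem F533244 : act 6 n225884 = n221536 := d12_2 D221143 D225884 (iv5 D221536) (iv6 D196595) (iv5 F397072)
theorem F533245 : act 7 n225884 = n224877 := d13_2 (iv7 F507423) D225884 (iv5 D224877)
theorem F533246 : act 0 n225884 = n221815 := d17_2 (iv1 F512405) D225884 (iv5 D221815) (iv4 F505641) F505644 F412954 (iv5 F513474) F513472 (iv4 F512403)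
theorem F533247 : act 1 n225884 = n221813 := d17_6 D205106 F434996 (iv1 F407639) F401230 (iv4 F507422) D225884 (iv5 D221813) (iv0 D197368) (iv4 F201823)
def n225885 : Q := act 6 n221156
theorem D225885 : act 6 n221156 = n225885 := rfl
theorem F533248 : act 2 n225885 = n222030 := d3_1 D225885 F511987 F510568
theorem F533249 : act 3 n225885 = n221157 := d7_1 D225885 (iv6 D221157) D221156
theorem F533250 : act 4 n225885 = n222029 := d10_1 D225885 F511983 (iv4 F507490)
theorem F533251 : act 7 n225885 = n222027 := d14_2 F510564 D225885 (iv6 F528183) F528178 (iv6 F510561)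
theorem F533252 : act 0 n225885 = n224752 := d21_4 F484830 F459741 (iv5 F507491) D225885 (iv6 D224752) F458086 (iv1 D205031) (iv5 F353530) D195497 F484829
theorem F533253 : act 0 n224818 = n225885 := d21_4 F529331 F512391 F510792 (iv6 F527041) (iv6 D225885) F507491 F459773 (iv5 F506988) F506989 F529335
def n225886 : Q := act 5 n221194
theorem D225886 : act 5 n221194 = n225886 := rfl
theorem F533254 : act 2 n225886 = n224295 := d2_1 D225886 (iv5 D224295) (iv2 F507678)
theorem F533255 : act 3 n225886 = n221195 := d6_1 D225886 (iv5 D221195) D221194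
theorem F533256 : act 4 n225886 = n225648 := d9_1 D225886 F531809 F503642 F481729 (iv4 F481727) (iv5 D208754) (iv4 F442741) D224165 F523395 F488834 (iv4 F482160) (iv5 F482165) F485506 (iv5 F485507) (iv4 F507679)
theorem F533257 : act 7 n225886 = n225646 := d13_2 F521833 D225886 F531797
theorem F533258 : act 1 n225886 = n224197 := d17_6 (iv1 F495019) (iv5 F485086) (iv1 F485504) (iv5 F485507) (iv4 F507679) D225886 F523580 (iv0 F530347) F530343
def n225887 : Q := act 6 n221195
theorem D225887 : act 6 n221195 = n225887 := rfl
theorem F533259 : act 2 n225887 = n225499 := d3_1 D225887 F530955 (iv2 F507682)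
theorem F533260 : act 4 n225887 = n221866 := d10_1 D225887 F511133 (iv4 F507684)
theorem F533261 : act 5 n225887 = n225498 := d12_1 D225887 F530950 F508366 (iv6 F443024) D221195
theorem F533262 : act 0 n225887 = n222458 := d21_4 (iv5 F478020) (iv1 F478021) D221195 D225887 F514321 F464275 F521847 F521845 (iv6 F509041) (iv1 F507688)
theorem F533263 : act 0 n223498 = n225887 := d21_4 (iv5 F506761) (iv1 F508110) (iv5 F527623) F527624 (iv6 D225887) (iv5 D221195) (iv1 D195624) D195625 (iv6 F478015) F503100
def n225888 : Q := act 6 n221198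
theorem D225888 : act 6 n221198 = n225888 := rfl
theorem F533264 : act 2 n225888 = n224928 := d3_1 D225888 (iv6 D224928) (iv2 F507693)
theorem F533265 : act 3 n225888 = n223834 := d7_1 D225888 F521536 (iv3 F507694)
theorem F533266 : act 4 n225888 = n224926 := d10_1 D225888 (iv6 D224926) (iv4 F507695)
theorem F533267 : act 5 n225888 = n224270 := d12_1 D225888 F524004 F514382 (iv6 D221199) (iv5 F507696)
theorem F533268 : act 7 n225888 = n224928 := d14_2 D221198 D225888 (iv6 D224928) F478017 F478015
theorem F533269 : act 0 n225888 = n225826 := d21_4 F503079 (iv1 F475487) (iv5 F507696) D225888 F532888 (iv5 D225685) (iv1 F516403) (iv5 F527629) (iv6 D224925) (iv1 F503080)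
theorem F533270 : act 0 n225826 = n225888 := d21_4 (iv5 D222889) F490842 D225685 (iv6 F532888) (iv6 D225888) F507696 (iv1 F443030) (iv5 F503089) (iv6 F530955) F530957
def n225889 : Q := act 3 n221263
theorem D225889 : act 3 n221263 = n225889 := rfl
theorem F533271 : act 2 n225889 = n225213 := d0_1 D225889 F529273 F478843 (iv3 F493633) F508037
theorem F533272 : act 5 n225889 = n222840 := d6_2 (iv5 F508033) D225889 (iv3 D222840)
theorem F533273 : act 6 n225889 = n225187 := d7_2 (iv6 F508035) D225889 (iv3 D225187)
theorem F533274 : act 7 n225889 = n225186 := d8_2 F508038 D225889 F529110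
theorem F533275 : act 0 n225889 = n223583 := d19_4 (iv1 F492851) F492849 (iv4 F508034) D225889 F520196 F494681 (iv3 D217813) F389229 (iv5 F389227) F389226 F156128 (iv1 F153653) D192165 (iv4 F491497) F491496 (iv1 F372801) (iv5 F368021) (iv4 F373065) (iv3 F398384)
theorem F533276 : act 0 n222437 = n225889 := d20_4 (iv4 F489423) F489424 (iv4 F458502) (iv3 F514214) (iv3 D225889) F508034 F491662 F491661 (iv3 F499463) F499467
def n225890 : Q := act 5 n221366
theorem D225890 : act 5 n221366 = n225890 := rfl
theorem F533277 : act 2 n225890 = n224331 := d2_1 D225890 F524369 (iv2 F508634)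
theorem F533278 : act 3 n225890 = n221367 := d6_1 D225890 (iv5 D221367) (iv3 F508635)
theorem F533279 : act 4 n225890 = n222703 := d9_1 D225890 F515654 (iv4 F511605) F511606 F496470 (iv5 F420343) F420342 D222606 (iv4 F515652) F515651 F480963 (iv5 F445129) F445128 D221356 (iv4 F508636)
theorem F533280 : act 6 n225890 = n225384 := d12_2 D221366 D225890 F530315 (iv6 F508633) (iv5 D221365)
theorem F533281 : act 7 n225890 = n222590 := d13_2 (iv7 F508637) D225890 (iv5 D222590)
theorem F533282 : act 0 n225890 = n222240 := d17_2 F508639 D225890 (iv5 D222240) F409403 F376735 (iv0 D96041) D96044 D190468 D218976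
theorem F533283 : act 1 n225890 = n222241 := d17_6 (iv1 F170573) (iv5 F171481) F399571 D221356 (iv4 F508636) D225890 (iv5 D222241) F409409 F215067
def n225891 : Q := act 6 n221383
theorem D225891 : act 6 n221383 = n225891 := rfl
theorem F533284 : act 2 n225891 = n225792 := d3_1 D225891 F532694 F523825
theorem F533285 : act 5 n225891 = n225013 := d12_1 D225891 (iv6 D225013) F464290 F400076 D221383
theorem F533286 : act 7 n225891 = n225792 := d14_2 F523862 D225891 F532694 F523827 (iv6 F523861)
theorem F533287 : act 0 n225891 = n222399 := d21_4 (iv5 D196256) D196254 D221383 D225891 (iv6 D222399) (iv5 F465003) (iv1 F465447) (iv5 F511873) F511874 (iv1 D221386)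
theorem F533288 : act 0 n222399 = n225891 := d21_4 F509135 (iv1 F465443) F465003 D222399 (iv6 D225891) (iv5 D221383) (iv1 F400075) D196259 F433090 (iv1 F509137)
def n225892 : Q := act 0 n221448
theorem D225892 : act 0 n221448 = n225892 := rfl
theorem F533289 : act 4 n225892 = n225790 := d18_1 D225892 (iv1 F532684) F523845 F510083 (iv4 F522498) (iv0 F532039) F532038 (iv0 F522636) (iv5 F509059)
theorem F533290 : act 3 n225892 = n225590 := d20_5 F511812 (iv1 F480170) (iv4 F493136) (iv3 F509058) D225892 (iv4 D225590) (iv1 F486073) D216827 (iv3 F486080) F511815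
theorem F533291 : act 6 n225892 = n225869 := d21_5 (iv5 D125479) (iv1 F164876) D196426 D221448 D225892 F533158 (iv1 F506601) D221651 F510105 (iv1 D205103)
theorem F533292 : act 1 n221448 = n225892 := d15_0 (iv0 D225892) F509060 (iv2 F509057)
theorem F533293 : act 2 n225018 = n225892 := d3_3 F533291 F533155 (iv6 F528145)
theorem F533294 : act 7 n225018 = n225892 := d14_0 F533291 (iv7 D225869) F506596 D222746 (iv6 F528145)
def n225893 : Q := act 6 n221461
theorem D225893 : act 6 n221461 = n225893 := rfl
theorem F533295 : act 2 n225893 = n221949 := d3_1 D225893 (iv6 D221949) (iv2 F509122)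
theorem F533296 : act 3 n225893 = n223711 := d7_1 D225893 F520860 (iv3 F514279)
theorem F533297 : act 4 n225893 = n224270 := d10_1 D225893 F524004 F514383
theorem F533298 : act 5 n225893 = n225758 := d12_1 D225893 F532495 F509227 F475973 D221461
theorem F533299 : act 7 n225893 = n221949 := d14_2 (iv7 F509123) D225893 (iv6 D221949) (iv7 F509129) F509128
def n225894 : Q := act 4 n221479
theorem D225894 : act 4 n221479 = n225894 := rfl
theorem F533300 : act 2 n225894 = n225540 := d1_1 D225894 F531156 F511128
theorem F533301 : act 3 n225894 = n225663 := d5_1 D225894 F531899 F488827 F486509 (iv3 F509223)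
theorem F533302 : act 5 n225894 = n225308 := d9_2 D221479 D225894 F529851 F475273 (iv4 F450274) F450275 F400823 (iv5 F503093) (iv4 F530956) (iv5 D225499) F483209 (iv5 F284758) (iv4 F474362) (iv5 D214277) (iv4 F400822)
theorem F533303 : act 6 n225894 = n225662 := d10_2 (iv6 F515851) D225894 F531892
theorem F533304 : act 7 n225894 = n225887 := d11_2 F511134 D225894 F533260
theorem F533305 : act 0 n225894 = n224925 := d17_0 F527629 F516402 D222929 F516829 F511136 F509933 F509931 (iv0 F509225) D225894
theorem F533306 : act 1 n225894 = n222889 := d18_6 (iv1 D196420) F337392 D157899 (iv4 F400822) D221479 D225894 F516607 (iv0 F509024) (iv5 D221436)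
def n225895 : Q := act 7 n221482
theorem D225895 : act 7 n221482 = n225895 := rfl
theorem F533307 : act 3 n225895 = n223962 := d8_1 D225895 (iv7 F532424) F532422
theorem F533308 : act 4 n225895 = n221483 := d11_1 D225895 (iv7 D221483) D221482
theorem F533309 : act 5 n225895 = n224030 := d13_1 D225895 F522629 F516330
theorem F533310 : act 6 n225895 = n223961 := d14_1 D225895 F522238 F522071 F509406 (iv6 F509229)
theorem F533311 : act 1 n225824 = n225895 := d15_1 (iv0 F532880) (iv7 D225895) (iv2 F511146)
theorem F533312 : act 1 n225895 = n224043 := d15_1 F533311 F522694 (iv2 F532876)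
def n225896 : Q := act 3 n221495
theorem D225896 : act 3 n221495 = n225896 := rfl
theorem F533313 : act 2 n225896 = n224657 := d0_1 D225896 F526132 (iv2 F472946) F472947 F509296
theorem F533314 : act 4 n225896 = n225802 := d5_2 F518082 D225896 F532753 F500697 (iv3 F518083)
theorem F533315 : act 5 n225896 = n224535 := d6_2 (iv5 F509293) D225896 F525517
theorem F533316 : act 6 n225896 = n224657 := d7_2 (iv6 F509294) D225896 F526132
theorem F533317 : act 7 n225896 = n223053 := d8_2 F509297 D225896 (iv3 D223053)
theorem F533318 : act 0 n225896 = n225134 := d19_4 F529060 (iv5 F518081) F518082 D225896 F528848 F517212 F433523 F488315 (iv5 F491318) F491317 (iv3 F499626) (iv1 F525027) F525029 F501428 F482125 F433550 (iv5 F500502) F500503 (iv3 F529056)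
theorem F533319 : act 0 n225132 = n225896 := d20_4 F432967 (iv1 F471359) (iv4 F529192) F529191 (iv3 D225896) (iv4 F518082) (iv1 F518086) F517497 F520905 (iv1 D223720)
def n225897 : Q := act 5 n221553
theorem D225897 : act 5 n221553 = n225897 := rfl
theorem F533320 : act 3 n225897 = n225875 := d6_1 D225897 (iv5 D225875) (iv3 F509566)
theorem F533321 : act 4 n225897 = n224761 := d9_1 D225897 (iv5 D224761) (iv4 D210595) (iv5 D139422) (iv4 F172868) (iv5 F406980) (iv4 F512118) (iv5 F530984) F530983 F530466 F520664 F518284 F424359 (iv5 F513474) F513477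
theorem F533322 : act 6 n225897 = n221556 := d12_2 D221553 D225897 (iv5 D221556) (iv6 D196618) D196617
theorem F533323 : act 0 n225897 = n224873 := d17_2 (iv1 F509577) D225897 (iv5 D224873) F460066 F342482 F412380 F412379 F402201 (iv4 F509576)
theorem F533324 : act 1 n225897 = n223573 := d17_6 F514745 F510917 (iv1 F412960) (iv5 F513474) F513477 D225897 F520157 F527339 F527336
def n225898 : Q := act 5 n221554
theorem D225898 : act 5 n221554 = n225898 := rfl
theorem F533325 : act 2 n225898 = n225504 := d2_1 D225898 F530984 F512117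
theorem F533326 : act 3 n225898 = n225507 := d6_1 D225898 (iv5 F533177) F533179
theorem F533327 : act 7 n225898 = n225897 := d13_2 F509570 D225898 (iv5 D225897)
theorem F533328 : act 0 n225403 = n225898 := d19_0 (iv5 D225898) F509568 F464463 (iv1 F528153) F528150 F520713 (iv3 F450529) (iv1 F462258) (iv5 D211584) F226059 (iv3 F322289) D153550 F241347 F200479 (iv3 F389088) F389091 (iv5 F429589) (iv4 F500752) (iv3 F530414)
def n225899 : Q := act 5 n221555
theorem D225899 : act 5 n221555 = n225899 := rfl
theorem F533329 : act 2 n225899 = n225897 := d2_1 D225899 (iv5 D225897) (iv2 F509574)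
theorem F533330 : act 3 n225899 = n225023 := d6_1 D225899 (iv5 D225023) F509572
theorem F533331 : act 6 n225899 = n223869 := d12_2 F509573 D225899 (iv5 D223869) (iv6 D205485) D205484
theorem F533332 : act 7 n225899 = n225504 := d13_2 F512119 D225899 F530984
theorem F533333 : act 4 n225899 = n225512 := d16_2 F509571 D225899 F531024 (iv4 D223221) (iv5 D202521) F180504 D199641 (iv7 F513473) F513476
theorem F533334 : act 0 n225899 = n225403 := d17_2 (iv1 F521747) D225899 F530417 (iv4 D223829) F435002 F375415 F401230 F436658 (iv4 F521745)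
def n225900 : Q := act 0 n221556
theorem D225900 : act 0 n221556 = n225900 := rfl
theorem F533335 : act 5 n225900 = n223701 := d17_1 D225900 F520805 D224873 (iv4 F530405) (iv5 D225401) (iv0 F520084) (iv5 F530897) (iv0 D225489) (iv4 F509575)
theorem F533336 : act 4 n225900 = n225778 := d18_1 D225900 (iv1 F532614) F520160 F510926 (iv4 F513480) F513484 (iv4 F509568) (iv0 D221554) D221556
theorem F533337 : act 3 n225900 = n225517 := d20_5 (iv4 D223635) F431422 D223508 F519808 D225900 F531039 (iv1 F485170) D225560 (iv3 F532673) F532677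
theorem F533338 : act 2 n225513 = n225900 := d15_3 (iv0 D225900) (iv0 F531250) F531249
def n225901 : Q := act 4 n221573
theorem D225901 : act 4 n221573 = n225901 := rfl
theorem F533339 : act 2 n225901 = n225626 := d1_1 D225901 F531674 F530528
theorem F533340 : act 3 n225901 = n224188 := d5_1 D225901 (iv4 D224188) F511160 F509039 (iv3 F509656)
theorem F533341 : act 5 n225901 = n225342 := d9_2 D221573 D225901 F530057 F506232 (iv4 F455775) F480077 (iv4 D215455) D215456 (iv4 F487691) F487692 (iv4 D215490) (iv5 D174663) (iv4 F197896) D204297 (iv4 F431928)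
theorem F533342 : act 6 n225901 = n224932 := d10_2 (iv6 F509657) D225901 (iv4 D224932)
theorem F533343 : act 7 n225901 = n225603 := d11_2 F511163 D225901 F531543
theorem F533344 : act 0 n225901 = n225347 := d17_0 (iv5 D225347) F476651 (iv5 F478949) (iv4 F509377) (iv5 D221510) F509049 (iv5 F530339) F530342 D225901
theorem F533345 : act 1 n225901 = n225346 := d18_6 F513701 F513699 F479013 (iv4 F431928) D221573 D225901 F530082 (iv0 F497943) F496228
def n225902 : Q := act 5 n221577
theorem D225902 : act 5 n221577 = n225902 := rfl
theorem F533346 : act 2 n225902 = n221813 := d2_1 D225902 (iv5 D221813) (iv2 F509675)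
theorem F533347 : act 3 n225902 = n225864 := d6_1 D225902 (iv5 D225864) (iv3 F509676)
theorem F533348 : act 7 n225902 = n221815 := d13_2 (iv7 F509678) D225902 (iv5 D221815)
theorem F533349 : act 4 n225902 = n225775 := d16_2 (iv4 F509677) D225902 (iv5 D225775) F498881 F383539 (iv4 F412948) (iv5 F460079) (iv7 F510916) F510913
theorem F533350 : act 0 n225902 = n225871 := d17_2 F509679 D225902 (iv5 D225871) F507053 (iv5 F412379) F412381 F401622 (iv0 F409329) (iv4 F409328)
theorem F533351 : act 1 n225902 = n224877 := d17_6 F509867 (iv5 D199641) D199639 (iv5 F505839) (iv4 F509677) D225902 (iv5 D224877) (iv0 F460149) (iv4 F509865)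
def n225903 : Q := act 3 n221693
theorem D225903 : act 3 n221693 = n225903 := rfl
theorem F533352 : act 2 n225903 = n223701 := d0_1 D225903 F526502 F526504 F501094 (iv2 F510334)
theorem F533353 : act 4 n225903 = n223640 := d5_2 D221693 D225903 F520482 (iv4 D214788) (iv3 F403212)
theorem F533354 : act 5 n225903 = n225513 := d6_2 (iv5 F510335) D225903 (iv3 D225513)
theorem F533355 : act 6 n225903 = n221694 := d7_2 (iv6 F510336) D225903 (iv3 D221694)
theorem F533356 : act 7 n225903 = n224872 := d8_2 (iv7 F510337) D225903 F527337
theorem F533357 : act 0 n225903 = n223829 := d19_4 (iv1 D197136) D197137 D221693 D225903 (iv5 F530417) (iv4 D225403) F478863 F268123 F304604 (iv4 D122350) (iv3 F195651) D203988 F430717 F361502 F235421 (iv1 F317235) (iv5 F319525) (iv4 F337678) F403209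
theorem F533358 : act 0 n221879 = n225903 := d20_4 F222271 D139087 (iv4 F404554) D221879 (iv3 D225903) (iv4 D221693) F403216 D212644 F466857 (iv1 D210463)
def n225904 : Q := act 7 n221724
theorem D225904 : act 7 n221724 = n225904 := rfl
theorem F533359 : act 2 n225904 = n221785 := d4_1 D225904 (iv7 D221785) (iv2 F510515)
theorem F533360 : act 3 n225904 = n221883 := d8_1 D225904 (iv7 D221883) (iv3 F510516)
theorem F533361 : act 4 n225904 = n225634 := d11_1 D225904 (iv7 F531765) F531762
theorem F533362 : act 5 n225904 = n221725 := d13_1 D225904 (iv7 D221725) D221724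
theorem F533363 : act 1 n221783 = n225904 := d15_1 D221783 (iv7 D225904) F510515
theorem F533364 : act 1 n225904 = n221782 := d15_1 F533363 F530994 F530988
def n225905 : Q := act 5 n221736
theorem D225905 : act 5 n221736 = n225905 := rfl
theorem F533365 : act 2 n225905 = n221861 := d2_1 D225905 (iv5 D221861) (iv2 F510583)
theorem F533366 : act 3 n225905 = n225884 := d6_1 D225905 (iv5 D225884) (iv3 F510584)
theorem F533367 : act 4 n225905 = n223227 := d9_1 D225905 F518312 F493605 D223198 F518140 (iv5 D210774) (iv4 F458738) D224806 F526971 (iv5 F484931) (iv4 F517163) (iv5 F526078) F526079 F520675 F516945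
theorem F533368 : act 6 n225905 = n222574 := d12_2 D221736 D225905 (iv5 D222574) F415501 F404249
theorem F533369 : act 7 n225905 = n224764 := d13_2 F517078 D225905 F526738
theorem F533370 : act 0 n225905 = n224653 := d17_2 (iv1 F517089) D225905 (iv5 D224653) F472494 (iv5 F520281) F520284 F481866 D223173 (iv4 F518012)
theorem F533371 : act 1 n225905 = n224652 := d17_6 D137068 D209893 F520678 F520675 F516945 D225905 (iv5 D224652) (iv0 D209886) F220235
def n225906 : Q := act 4 n221755
theorem D225906 : act 4 n221755 = n225906 := rfl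
theorem F533372 : act 2 n225906 = n224740 := d1_1 D225906 (iv4 F526697) (iv2 F526699)
theorem F533373 : act 3 n225906 = n224896 := d5_1 D225906 F527470 (iv3 F463001) F462999 F510686
theorem F533374 : act 5 n225906 = n225172 := d9_2 F510792 D225906 F529029 F519242 F455083 F500465 F500461 (iv5 F510680) F510681 D224739 F526609 F503772 F452786 (iv5 F455269) (iv4 F510791)
theorem F533375 : act 6 n225906 = n225552 := d10_2 F527041 D225906 F531236

end Cfsg.Agent.Helper17.ONTC
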