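import Cfsg.Agent.Helper17.ONTC.Facts61

set_option autoImplicit false
set_option linter.all false

noncomputable section

namespace Cfsg.Agent.Helper17.ONTC

theorem F533376 : act 7 n225906 = n224736 := d11_2 (iv7 F517096) D225906 F526590
theorem F533377 : act 0 n225906 = n224738 := d17_0 F526601 F498826 (iv5 D192431) (iv4 F386710) (iv5 F403903) (iv0 D197300) D197302 D221755 D225906
theorem F533378 : act 1 n225906 = n224737 := d18_6 F463687 (iv4 F422319) F455271 (iv4 F510791) F510792 D225906 F526594 (iv0 D210560) D210562
def n225907 : Q := act 6 n221759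
theorem D225907 : act 6 n221759 = n225907 := rfl
theorem F533379 : act 2 n225907 = n224872 := d3_1 D225907 F527338 (iv2 F510702)
theorem F533380 : act 3 n225907 = n221760 := d7_1 D225907 (iv6 D221760) D221759
theorem F533381 : act 4 n225907 = n223702 := d10_1 D225907 F520810 (iv4 F510703)
theorem F533382 : act 7 n225907 = n223701 := d14_2 (iv7 F510705) D225907 F520804 (iv7 F501101) F501100
theorem F533383 : act 0 n225907 = n221879 := d21_4 (iv5 F400683) F482379 (iv5 F510704) D225907 F511189 (iv5 F463661) (iv1 F511069) (iv5 F512075) F512076 F482810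
theorem F533384 : act 0 n223829 = n225907 := d21_4 (iv5 F405629) F405630 (iv5 F459404) (iv6 F521508) (iv6 D225907) F510704 F482378 F400690 (iv6 F460016) F460018
def n225908 : Q := act 5 n221765
theorem D225908 : act 5 n221765 = n225908 := rfl
theorem F533385 : act 2 n225908 = n221772 := d2_1 D225908 (iv5 D221772) F510742
theorem F533386 : act 3 n225908 = n221781 := d6_1 D225908 (iv5 D221781) F510740
theorem F533387 : act 4 n225908 = n224841 := d9_1 D225908 F527151 (iv4 F526223) F526222 (iv4 D223368) (iv5 F453710) (iv4 F456478) D224691 F526341 F488333 (iv4 F465693) (iv5 F519089) (iv4 D223367) F489715 (iv4 F510741)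
theorem F533388 : act 6 n225908 = n224819 := d12_2 F526320 D225908 (iv5 D224819) (iv6 F472233) (iv5 F526319)
theorem F533389 : act 7 n225908 = n221771 := d13_2 (iv7 F510739) D225908 (iv5 D221771)
theorem F533390 : act 0 n225908 = n225880 := d17_2 (iv1 F510738) D225908 (iv5 D225880) F507154 (iv5 F483974) F486997 (iv5 F500398) F500401 F452552
theorem F533391 : act 1 n225908 = n225872 := d17_6 (iv1 F454891) (iv5 D203125) D203123 F489715 (iv4 F510741) D225908 (iv5 D225872) (iv0 F507075) F461652
def n225909 : Q := act 0 n221779
theorem D225909 : act 0 n221779 = n225909 := rfl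
theorem F533392 : act 5 n225909 = n222628 := d17_1 D225909 F515260 D225879 F533215 F524464 F493608 (iv5 F518312) F530974 F530970
theorem F533393 : act 3 n225909 = n224816 := d20_5 (iv4 D216984) (iv1 F485998) (iv4 F530933) (iv3 F530936) D225909 F527032 D225105 F528666 F514959 (iv1 F486875)
theorem F533394 : act 6 n225909 = n224977 := d21_5 (iv5 D224819) D224818 (iv5 F531056) F531054 D225909 (iv5 D224977) (iv1 F507388) (iv5 F533238) F533239 F531022
theorem F533395 : act 2 n224978 = n225909 := d15_3 (iv0 D225909) F532770 F532768
theorem F533396 : act 1 n221781 = n225909 := d15_0 (iv0 D225909) (iv7 F529492) F529489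
theorem F533397 : act 7 n225909 = n224833 := d15_2 (iv0 F532769) F533396 (iv2 F532765)
def n225910 : Q := act 0 n221784
theorem D225910 : act 0 n221784 = n225910 := rfl
theorem F533398 : act 5 n225910 = n225688 := d17_1 D225910 (iv1 F532051) D225690 F532060 (iv5 D224833) (iv0 F517279) (iv5 F510796) (iv0 D221782) D221784
theorem F533399 : act 4 n225910 = n221825 := d18_1 D225910 (iv1 F526125) (iv4 F529114) F529115 F518294 F517773 (iv4 F527470) (iv0 F527472) F510800
theorem F533400 : act 3 n225910 = n225588 := d20_5 F525482 (iv1 F525480) D224592 F525823 D225910 F531451 F531278 (iv4 F526680) F526679 F525862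
theorem F533401 : act 6 n225910 = n225633 := d21_5 F500764 F474596 (iv5 F468028) (iv6 F510799) D225910 F531720 (iv1 D218208) F374655 (iv6 F386417) F500766
theorem F533402 : act 2 n225639 = n225910 := d15_3 (iv0 D225910) (iv0 F510801) D225639
theorem F533403 : act 7 n225910 = n225587 := d4_2 D225639 F533402 F531446
theorem F533404 : act 1 n225634 = n225910 := d15_1 (iv0 F531724) F533403 F531446
def n225911 : Q := act 7 n221784
theorem D225911 : act 7 n221784 = n225911 := rfl
theorem F533405 : act 2 n225911 = n225634 := d4_1 D225911 (iv7 F531765) F531761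
theorem F533406 : act 3 n225911 = n223232 := d8_1 D225911 (iv7 F525826) F525823
theorem F533407 : act 4 n225911 = n221785 := d11_1 D225911 (iv7 D221785) D221784
theorem F533408 : act 5 n225911 = n223231 := d13_1 D225911 F518331 F510800
theorem F533409 : act 6 n225911 = n225683 := d14_1 D225911 F532023 F532012 (iv7 D221794) (iv6 F510799)
theorem F533410 : act 1 n225587 = n225911 := d15_1 (iv0 F531767) (iv7 D225911) (iv2 F531761)
theorem F533411 : act 1 n225911 = n225639 := d15_1 F533410 (iv7 D225639) (iv2 F531446)
def n225912 : Q := act 6 n221785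
theorem D225912 : act 6 n221785 = n225912 := rfl
theorem F533412 : act 4 n225912 = n225683 := d10_1 D225912 (iv6 F533409) F533407
theorem F533413 : act 7 n225912 = n221795 := d14_2 D221785 D225912 (iv6 D221795) (iv7 D197341) (iv6 F403980)
theorem F533414 : act 0 n224826 = n225912 := d21_4 (iv5 D210428) F404129 (iv5 F458868) D224826 (iv6 D225912) F510804 (iv1 F472944) D225249 F529491 (iv1 D224725)
def n225913 : Q := act 5 n221796
theorem D225913 : act 5 n221796 = n225913 := rfl
theorem F533415 : act 2 n225913 = n223375 := d2_1 D225913 (iv5 D223375) (iv2 F510842)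
theorem F533416 : act 3 n225913 = n221797 := d6_1 D225913 (iv5 D221797) D221796
theorem F533417 : act 6 n225913 = n222112 := d12_2 F529389 D225913 (iv5 D222112) F504208 D225231
theorem F533418 : act 7 n225913 = n225072 := d13_2 (iv7 F510844) D225913 (iv5 D225072)
theorem F533419 : act 0 n225913 = n224876 := d17_2 F510846 D225913 (iv5 D224876) F460108 F223768 D210729 (iv5 F505734) F505736 F505627
theorem F533420 : act 1 n225913 = n224565 := d17_6 (iv1 F331118) (iv5 F424743) (iv1 F457516) (iv5 F457519) (iv4 F510843) D225913 (iv5 D224565) (iv0 F454430) F241393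
def n225914 : Q := act 5 n221809
theorem D225914 : act 5 n221809 = n225914 := rfl
theorem F533421 : act 2 n225914 = n221815 := d2_1 D225914 (iv5 D221815) (iv2 F510901)
theorem F533422 : act 6 n225914 = n225898 := d12_2 F510900 D225914 (iv5 D225898) F509569 (iv5 F460075)
theorem F533423 : act 7 n225914 = n221813 := d13_2 (iv7 F510899) D225914 (iv5 D221813)
theorem F533424 : act 0 n225914 = n224877 := d17_2 (iv1 F510898) D225914 (iv5 D224877) F460148 F223788 D140711 (iv5 F342482) (iv0 F417435) F417431
theorem F533425 : act 1 n225914 = n225871 := d17_6 (iv1 F513483) F509334 (iv1 F412945) (iv5 F460079) (iv4 F510902) D225914 (iv5 D225871) F509481 (iv4 F513480)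
def n225915 : Q := act 1 n221810
theorem D225915 : act 1 n221810 = n225915 := rfl
theorem F533426 : act 1 n225915 = n221819 := d15_1 D225915 (iv7 D221819) (iv2 F510903)
theorem F533427 : act 7 n225915 = n221816 := d15_2 (iv0 F510906) D225915 (iv2 F510924)
theorem F533428 : act 5 n225915 = n222108 := d17_7 (iv1 F436659) F436656 (iv1 D198804) D198805 (iv4 F409328) D221810 D225915 F512406 F415493
theorem F533429 : act 4 n225915 = n225776 := d17_9 (iv1 F532600) (iv5 D225393) F498882 D225775 (iv4 F533349) (iv5 D225902) (iv0 F509679) D221810 D225915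
theorem F533430 : act 2 n221817 = n225915 := d1_3 F533429 F532602 F520160
def n225916 : Q := act 7 n221810
theorem D225916 : act 7 n221810 = n225916 := rfl
theorem F533431 : act 2 n225916 = n221819 := d4_1 D225916 (iv7 D221819) (iv2 F510903)
theorem F533432 : act 3 n225916 = n221827 := d8_1 D225916 (iv7 D221827) (iv3 F510904)
theorem F533433 : act 4 n225916 = n223590 := d11_1 D225916 (iv7 F521039) F521040
theorem F533434 : act 5 n225916 = n221811 := d13_1 D225916 (iv7 D221811) D221810
theorem F533435 : act 1 n221817 = n225916 := d15_1 D221817 (iv7 D225916) F510903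
theorem F533436 : act 1 n225916 = n221816 := d15_1 F533435 (iv7 F533427) (iv2 F533430)
def n225917 : Q := act 4 n221815
theorem D225917 : act 4 n221815 = n225917 := rfl
theorem F533437 : act 3 n225917 = n225414 := d5_1 D225917 F530469 (iv3 F483298) F514970 (iv3 F514969)
theorem F533438 : act 5 n225917 = n223705 := d9_2 D221815 D225917 F520823 (iv5 D210658) (iv4 F412958) (iv5 F510917) (iv4 D221812) D221813 (iv4 F520229) F520230 F520079 F430797 (iv4 F412494) (iv5 F505644) F505641
theorem F533439 : act 6 n225917 = n225413 := d10_2 F530985 D225917 (iv4 F530983)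
theorem F533440 : act 7 n225917 = n225775 := d11_2 F533348 D225917 (iv4 F533349)
theorem F533441 : act 0 n225917 = n225413 := d17_0 F530466 F520666 (iv5 F532598) (iv4 F533429) F533428 F512406 D222568 F514964 D225917
theorem F533442 : act 1 n225917 = n224761 := d18_6 (iv1 F520806) (iv4 D223701) F505643 F505641 D221815 D225917 (iv4 F533321) F533324 F520157
def n225918 : Q := act 6 n221819
theorem D225918 : act 6 n221819 = n225918 := rfl
theorem F533443 : act 3 n225918 = n221831 := d7_1 D225918 (iv6 D221831) (iv3 F510930)
theorem F533444 : act 5 n225918 = n224998 := d12_1 D225918 (iv6 D224998) F463857 F454519 (iv5 F510931)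
def n225919 : Q := act 6 n221827
theorem D225919 : act 6 n221827 = n225919 := rfl
theorem F533445 : act 4 n225919 = n225213 := d10_1 D225919 F529274 F518301
theorem F533446 : act 5 n225919 = n225001 := d12_1 D225919 F528055 F525698 F454562 (iv5 F510951)
theorem F533447 : act 7 n225919 = n221831 := d14_2 D221827 D225919 (iv6 D221831) (iv7 D197380) (iv6 F404081)
theorem F533448 : act 0 n225166 = n225919 := d21_4 (iv5 D225044) F466456 (iv5 F511200) (iv6 F528996) (iv6 D225919) F510951 (iv1 F455257) D224653 (iv6 F527027) (iv1 F528305)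
def n225920 : Q := act 7 n221828
theorem D225920 : act 7 n221828 = n225920 := rfl
theorem F533449 : act 2 n225920 = n224722 := d4_1 D225920 F526514 (iv2 F510952)
theorem F533450 : act 3 n225920 = n225876 := d8_1 D225920 (iv7 F533201) F527086
theorem F533451 : act 4 n225920 = n225640 := d11_1 D225920 F531759 (iv4 F510953)
theorem F533452 : act 5 n225920 = n224721 := d13_1 D225920 F526510 (iv5 F510954)
theorem F533453 : act 6 n225920 = n222573 := d14_1 D225920 (iv7 D222573) (iv6 D200203) (iv7 F404083) D221828
theorem F533454 : act 1 n225507 = n225920 := d15_1 F531001 (iv7 D225920) F510952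
theorem F533455 : act 1 n225920 = n225174 := d15_1 F533454 (iv7 F529044) D225507
def n225921 : Q := act 6 n221830
theorem D225921 : act 6 n221830 = n225921 := rfl
theorem F533456 : act 2 n225921 = n225186 := d3_1 D225921 (iv6 D225186) (iv2 F510961)
theorem F533457 : act 3 n225921 = n223511 := d7_1 D225921 (iv6 D223511) (iv3 F510962)
theorem F533458 : act 4 n225921 = n221831 := d10_1 D225921 (iv6 D221831) (iv4 F510963)
theorem F533459 : act 5 n225921 = n224397 := d12_1 D225921 F524722 (iv5 D212692) (iv6 F414910) (iv5 F510964)
theorem F533460 : act 7 n225921 = n225213 := d14_2 D221830 D225921 F529274 F518300 F448951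
theorem F533461 : act 0 n225921 = n222437 := d21_4 F483294 (iv1 F432568) (iv5 F510964) D225921 F527070 F527065 (iv1 F519552) F519549 F519995 F519993
theorem F533462 : act 0 n223583 = n225921 := d21_4 (iv5 D193184) D193182 (iv5 F430878) D223583 (iv6 D225921) F510964 F414912 D204176 (iv6 F475968) F475970
def n225922 : Q := act 6 n221868
theorem D225922 : act 6 n221868 = n225922 := rfl
theorem F533463 : act 2 n225922 = n225758 := d3_1 D225922 F532495 F511145
theorem F533464 : act 3 n225922 = n225684 := d7_1 D225922 F532028 (iv3 F511771)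
theorem F533465 : act 4 n225922 = n225826 := d10_1 D225922 F532888 F532033
theorem F533466 : act 5 n225922 = n221949 := d12_1 D225922 (iv6 D221949) (iv5 D197802) D197803 (iv5 F511144)
theorem F533467 : act 7 n225922 = n225758 := d14_2 (iv7 F511143) D225922 F532495 F511140 F511137
theorem F533468 : act 0 n225922 = n225756 := d21_4 F464384 F412895 (iv5 F511144) D225922 (iv6 D225756) F497571 (iv1 F389436) D193315 D220300 F503094
theorem F533469 : act 0 n225756 = n225922 := d21_4 (iv5 D193310) D193307 (iv5 F497571) D225756 (iv6 D225922) F511144 (iv1 F509934) F509931 (iv6 D219203) F401526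
def n225923 : Q := act 7 n221869
theorem D225923 : act 7 n221869 = n225923 := rfl
theorem F533470 : act 2 n225923 = n225895 := d4_1 D225923 (iv7 D225895) (iv2 F511146)
theorem F533471 : act 3 n225923 = n224114 := d8_1 D225923 F523105 (iv3 F511147)
theorem F533472 : act 4 n225923 = n221870 := d11_1 D225923 (iv7 D221870) D221869
theorem F533473 : act 5 n225923 = n222832 := d13_1 D225923 F516327 (iv5 F511149)
theorem F533474 : act 1 n222401 = n225923 := d15_1 (iv0 F514011) (iv7 D225923) F511146
theorem F533475 : act 1 n225923 = n222847 := d15_1 F533474 (iv7 F532879) F532876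
def n225924 : Q := act 5 n221875
theorem D225924 : act 5 n221875 = n225924 := rfl
theorem F533476 : act 2 n225924 = n221876 := d2_1 D225924 (iv5 D221876) D221875
theorem F533477 : act 3 n225924 = n225357 := d6_1 D225924 F530151 F515007
theorem F533478 : act 4 n225924 = n224693 := d9_1 D225924 (iv5 D224693) F456647 D210228 F469446 (iv5 F469447) (iv4 F415603) D222580 (iv4 F525118) (iv5 D224462) (iv4 F503607) F504751 (iv4 F504750) F482152 (iv4 F511177)
theorem F533479 : act 6 n225924 = n222217 := d12_2 F514668 D225924 (iv5 D222217) F414423 D222516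
theorem F533480 : act 7 n225924 = n222600 := d13_2 (iv7 F511178) D225924 (iv5 D222600)
theorem F533481 : act 0 n225924 = n225755 := d17_2 (iv1 F511179) D225924 F532483 F518680 (iv5 F469504) (iv0 F469506) (iv5 F473178) F473176 F473149
theorem F533482 : act 1 n225924 = n222129 := d17_6 (iv1 F458757) F458754 (iv1 F482151) F482152 (iv4 F511177) D225924 (iv5 D222129) F425635 F425633
def n225925 : Q := act 5 n221879
theorem D225925 : act 5 n221879 = n225925 := rfl
theorem F533483 : act 2 n225925 = n223573 := d2_1 D225925 F520157 (iv2 F511187)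
theorem F533484 : act 3 n225925 = n221880 := d6_1 D225925 (iv5 D221880) D221879
theorem F533485 : act 4 n225925 = n223572 := d9_1 D225925 (iv5 F520178) F520177 F478824 F424355 (iv5 F435002) D223829 (iv5 F530417) (iv4 D225403) (iv5 D215204) (iv4 F469635) F469636 (iv4 F424365) (iv5 F434996) (iv4 F511188)
theorem F533486 : act 6 n225925 = n225915 := d12_2 (iv6 F511189) D225925 F533428 F512404 F463661
theorem F533487 : act 7 n225925 = n224873 := d13_2 (iv7 F511190) D225925 (iv5 D224873)
theorem F533488 : act 0 n225925 = n225899 := d17_2 F533383 D225925 (iv5 D225899) (iv4 F509571) F509334 F412953 (iv5 F505839) F520811 (iv4 F533381)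
theorem F533489 : act 1 n225925 = n225898 := d17_6 F360135 (iv5 F360131) F407638 (iv5 F434996) (iv4 F511188) D225925 (iv5 D225898) (iv0 D221554) F401228
def n225926 : Q := act 6 n221880
theorem D225926 : act 6 n221880 = n225926 := rfl
theorem F533490 : act 2 n225926 = n225868 := d3_1 D225926 F533152 F528300
theorem F533491 : act 3 n225926 = n225915 := d7_1 D225926 (iv6 F533486) F533484
theorem F533492 : act 4 n225926 = n224343 := d10_1 D225926 (iv6 F526708) F526710
theorem F533493 : act 5 n225926 = n224821 := d12_1 D225926 (iv6 F527054) (iv5 D211548) F404555 D221880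
theorem F533494 : act 7 n225926 = n224342 := d14_2 (iv7 F514967) D225926 F524432 F507058 D222569
theorem F533495 : act 0 n225926 = n224729 := d21_4 (iv5 D197496) D197494 D221880 D225926 F526555 (iv5 D222630) F503660 (iv5 F514974) (iv6 F516443) (iv1 D221882)
theorem F533496 : act 0 n225609 = n225926 := d17_0 F533493 (iv1 D224821) D224822 (iv4 F531721) F531720 F492729 D219520 F499264 D225609
def n225927 : Q := act 6 n221948
theorem D225927 : act 6 n221948 = n225927 := rfl
theorem F533497 : act 2 n225927 = n224270 := d3_1 D225927 F524004 F514387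
theorem F533498 : act 3 n225927 = n225292 := d7_1 D225927 F529758 (iv3 F516254)
theorem F533499 : act 4 n225927 = n221949 := d10_1 D225927 (iv6 D221949) D221948
theorem F533500 : act 5 n225927 = n224928 := d12_1 D225927 (iv6 D224928) (iv5 F478020) F514045 F514041
theorem F533501 : act 7 n225927 = n224270 := d14_2 F514389 D225927 F524004 (iv7 F514386) F514392
theorem F533502 : act 0 n225927 = n224269 := d21_4 (iv5 F507704) (iv1 F514039) F514041 D225927 (iv6 D224269) F446103 (iv1 F212748) D136337 (iv6 F446020) (iv1 F443127)
theorem F533503 : act 0 n224269 = n225927 := d21_4 (iv5 D136332) (iv1 F212747) (iv5 F446103) D224269 (iv6 D225927) (iv5 F514041) (iv1 D222407) (iv5 D199479) F364005 F377476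
def n225928 : Q := act 0 n221949
theorem D225928 : act 0 n221949 = n225928 := rfl
theorem F533504 : act 5 n225928 = n225018 := d19_1 D225928 (iv4 F532546) (iv3 D225767) (iv1 F499685) F499686 (iv4 F384614) F289241 F295169 F294990 F134204 (iv3 D87437) (iv1 F293960) D42687 D91168 (iv3 F370673) (iv1 F370675) D188006 D217827 (iv3 F511562)
theorem F533505 : act 4 n225928 = n225792 := d20_2 F533499 D225928 F532693 F524452 (iv3 D209615) (iv4 D136687) (iv1 F218657) (iv4 F446124) (iv3 F524000) F533503
theorem F533506 : act 3 n225928 = n223660 := d20_5 F493432 F376969 D217827 (iv3 F511562) D225928 F520590 F434389 (iv4 F413302) (iv3 F513913) F513915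
theorem F533507 : act 6 n225928 = n223659 := d21_5 (iv5 D199105) F361202 D197802 D221949 D225928 (iv5 D223659) (iv1 F467929) F467927 (iv6 F513442) (iv1 D222299)
theorem F533508 : act 1 n221949 = n225928 := d15_0 (iv0 D225928) (iv7 F533299) F533295
def n225929 : Q := act 4 n221994
theorem D225929 : act 4 n221994 = n225929 := rfl
theorem F533509 : act 3 n225929 = n224925 := d5_1 D225929 F527628 F461467 (iv4 F406268) D221994
theorem F533510 : act 6 n225929 = n223877 := d10_2 (iv6 F511806) D225929 F521787
theorem F533511 : act 5 n225929 = n225825 := d16_1 D225929 F532881 F509369 (iv4 F528142) F528143 F524001 F513946 (iv7 F514326) F514323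
theorem F533512 : act 0 n225929 = n225017 := d17_0 F528143 F533503 F533500 F527642 (iv5 F523663) (iv0 F523666) (iv5 F510083) (iv0 F511807) D225929
theorem F533513 : act 1 n225929 = n225017 := d18_6 (iv1 F533508) (iv4 F533499) F533502 F524001 F513946 D225929 F528142 F528146 (iv5 F533504)
def n225930 : Q := act 4 n222058
theorem D225930 : act 4 n222058 = n225930 := rfl
theorem F533514 : act 2 n225930 = n223541 := d1_1 D225930 (iv4 D223541) F512138
theorem F533515 : act 5 n225930 = n225452 := d9_2 (iv5 F512136) D225930 (iv4 D225452) (iv5 D215701) (iv4 D176914) F129391 (iv4 F158030) (iv5 F268483) D215262 D225409 F530445 (iv5 D224971) F463044 F289213 (iv4 F476812)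
theorem F533516 : act 6 n225930 = n223889 := d10_2 (iv6 F512137) D225930 F521851
theorem F533517 : act 7 n225930 = n224346 := d11_2 (iv7 F512140) D225930 F524451
theorem F533518 : act 0 n225930 = n224115 := d17_0 (iv5 F532560) F532563 (iv5 D225408) (iv4 D215244) (iv5 D170852) (iv0 F327461) D198187 F512139 D225930
theorem F533519 : act 1 n225930 = n222059 := d18_6 (iv1 F474367) (iv4 D194149) (iv1 F258603) (iv4 F476812) (iv5 F512136) D225930 F512143 (iv0 F524719) F524718
theorem F533520 : act 3 n225930 = n225891 := d19_3 (iv1 F476815) (iv5 F512136) D225930 F533287 (iv5 F532493) F532492 F497578 (iv1 F497532) F497530 (iv4 F473637) F473636 (iv1 F280785) (iv5 D157926) F112777 (iv3 F60671) (iv1 F92770) F201640 D86181 D180448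
def n225931 : Q := act 4 n222110
theorem D225931 : act 4 n222110 = n225931 := rfl
theorem F533521 : act 2 n225931 = n222114 := d1_1 D225931 (iv4 D222114) (iv2 F512413)
theorem F533522 : act 7 n225931 = n225175 := d11_2 (iv7 F512414) D225931 (iv4 D225175)
theorem F533523 : act 5 n225931 = n224360 := d16_1 D225931 F524516 F449366 (iv4 F221906) (iv5 F331814) (iv4 F407872) (iv5 F512426) (iv7 D222115) (iv2 F512413)
theorem F533524 : act 1 n225931 = n225073 := d18_6 (iv1 F460110) F241393 (iv1 F331118) (iv4 F407863) D222110 D225931 (iv4 D225073) (iv0 F527359) (iv5 D224876)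
def n225932 : Q := act 4 n222112
theorem D225932 : act 4 n222112 = n225932 := rfl
theorem F533525 : act 2 n225932 = n225481 := d1_1 D225932 F530860 (iv2 F525696)
theorem F533526 : act 7 n225932 = n225480 := d11_2 (iv7 F525691) D225932 F530856
theorem F533527 : act 5 n225932 = n223555 := d16_1 D225932 F520087 F430803 F351134 (iv5 F393812) F407866 D222113 (iv7 F525692) (iv2 F525696)
theorem F533528 : act 0 n225932 = n225399 := d18_2 (iv1 F512421) D225932 F530395 F528940 F505729 F505731 (iv4 F507446) F507448 (iv5 F463857)
def n225933 : Q := act 4 n222113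
theorem D225933 : act 4 n222113 = n225933 := rfl
theorem F533529 : act 2 n225933 = n225480 := d1_1 D225933 F530856 (iv2 F525689)
theorem F533530 : act 5 n225933 = n225470 := d9_2 D222113 D225933 (iv4 D225470) (iv5 D215990) (iv4 F404974) F460114 (iv4 F460113) D222112 D225932 F533527 F520087 F430803 F351134 (iv5 F393812) F407866
theorem F533531 : act 7 n225933 = n225481 := d11_2 F525692 D225933 F530860
theorem F533532 : act 1 n225933 = n225399 := d18_6 (iv1 F460111) F460108 F393814 F407866 D222113 D225933 F530395 (iv0 D225152) (iv5 D213358)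
def n225934 : Q := act 7 n222114
theorem D225934 : act 7 n222114 = n225934 := rfl
theorem F533533 : act 2 n225934 = n225175 := d4_1 D225934 (iv7 F533522) F533521
theorem F533534 : act 4 n225934 = n222115 := d11_1 D225934 (iv7 D222115) D222114
theorem F533535 : act 5 n225934 = n225479 := d13_1 D225934 F530852 F523660
theorem F533536 : act 1 n225073 = n225934 := d15_1 F533524 (iv7 D225934) (iv2 F533521)
def n225935 : Q := act 3 n222349
theorem D225935 : act 3 n222349 = n225935 := rfl
theorem F533537 : act 2 n225935 = n225555 := d0_1 D225935 (iv3 D225555) (iv2 F504724) F504725 (iv2 F513737)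
theorem F533538 : act 4 n225935 = n225836 := d5_2 D222349 D225935 F532944 F516998 F503716
theorem F533539 : act 5 n225935 = n225430 := d6_2 (iv5 F513738) D225935 (iv3 F530566)
theorem F533540 : act 6 n225935 = n225821 := d7_2 F520969 D225935 F532865
theorem F533541 : act 7 n225935 = n224713 := d8_2 (iv7 F513739) D225935 (iv3 D224713)
theorem F533542 : act 0 n225935 = n225429 := d19_4 D111144 D199281 D222349 D225935 (iv5 D225429) F479956 (iv3 D174522) D174520 D215432 F479965 (iv3 F387934) (iv1 D190110) (iv5 F160480) (iv4 F395006) (iv3 D194919) D194917 F394993 (iv4 F172371) F172370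
theorem F533543 : act 0 n222550 = n225935 := d20_4 (iv4 F484500) F484502 D224511 F525383 (iv3 D225935) (iv4 D222349) F411459 D210555 D224748 (iv1 F526654)
def n225936 : Q := act 3 n222354
theorem D225936 : act 3 n222354 = n225936 := rfl
theorem F533544 : act 2 n225936 = n224869 := d0_1 D225936 F527320 (iv2 F517019) F517020 (iv2 F513766)
theorem F533545 : act 4 n225936 = n223797 := d5_2 D222354 D225936 (iv3 F532857) F532858 (iv3 F502857)
theorem F533546 : act 5 n225936 = n222559 := d6_2 (iv5 F513767) D225936 F514913
theorem F533547 : act 6 n225936 = n222989 := d7_2 (iv6 F526076) D225936 F526075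
theorem F533548 : act 7 n225936 = n223792 := d8_2 (iv7 F513768) D225936 F521301
theorem F533549 : act 0 n225936 = n224862 := d19_4 (iv1 F172446) D199326 D222354 D225936 F527281 F500824 (iv3 D192344) (iv1 F385630) (iv5 F385632) F165127 (iv3 D65998) D65997 D140663 D211095 D224875 F527352 (iv5 F503345) F396938 F180487
theorem F533550 : act 0 n223681 = n225936 := d20_4 F422278 F472200 (iv4 F473315) (iv3 F520694) (iv3 D225936) (iv4 D222354) F411716 (iv4 F391296) F391295 (iv1 F422279)
def n225937 : Q := act 5 n222365
theorem D225937 : act 5 n222365 = n225937 := rfl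
theorem F533551 : act 2 n225937 = n224729 := d2_1 D225937 (iv5 D224729) (iv2 F513821)
theorem F533552 : act 3 n225937 = n222367 := d6_1 D225937 (iv5 D222367) (iv3 F513822)
theorem F533553 : act 4 n225937 = n225532 := d9_1 D225937 F531103 F489869 (iv5 D201649) (iv4 F421137) (iv5 F457687) (iv4 F464134) D225007 (iv4 F531568) F531565 (iv4 F489874) (iv5 F516614) (iv4 F524809) F524808 (iv4 F513823)
theorem F533554 : act 6 n225937 = n225607 := d12_2 D222365 D225937 F531561 (iv6 D221730) (iv5 F411889)
theorem F533555 : act 7 n225937 = n225609 := d13_2 F528077 D225937 F531571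
theorem F533556 : act 0 n225937 = n224342 := d17_2 (iv1 F528082) D225937 F524433 F512400 (iv5 F516638) (iv0 F525197) (iv5 D224477) F500400 (iv4 F528080)
theorem F533557 : act 1 n225937 = n225868 := d17_6 F500162 (iv5 F516562) (iv1 F524806) F524808 (iv4 F513823) D225937 F533151 (iv0 F527016) F527013
def n225938 : Q := act 7 n222367
theorem D225938 : act 7 n222367 = n225938 := rfl
theorem F533558 : act 2 n225938 = n224824 := d4_1 D225938 F527063 (iv2 F513831)
theorem F533559 : act 3 n225938 = n225609 := d8_1 D225938 (iv7 F533555) F533552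
theorem F533560 : act 4 n225938 = n225530 := d11_1 D225938 F531093 F513833
theorem F533561 : act 5 n225938 = n222368 := d13_1 D225938 (iv7 D222368) D222367
theorem F533562 : act 1 n225560 = n225938 := d15_1 (iv0 F531283) (iv7 D225938) F513831
theorem F533563 : act 1 n225938 = n224823 := d15_1 F533562 (iv7 F531055) (iv2 F531280)
def n225939 : Q := act 3 n222376
theorem D225939 : act 3 n222376 = n225939 := rfl
theorem F533564 : act 2 n225939 = n225928 := d0_1 D225939 F533506 F520589 (iv3 F479110) F513875
theorem F533565 : act 4 n225939 = n225891 := d5_2 (iv4 F513874) D225939 (iv3 F533520) (iv4 D225930) (iv3 F512141)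
theorem F533566 : act 5 n225939 = n225892 := d6_2 F531462 D225939 F533290
theorem F533567 : act 6 n225939 = n225082 := d7_2 F520634 D225939 F528529
theorem F533568 : act 7 n225939 = n225928 := d8_2 F520593 D225939 F533506
theorem F533569 : act 0 n225939 = n225893 := d20_4 (iv4 F406123) (iv1 F479107) (iv4 F513874) D225939 F533296 F520859 F490532 (iv4 F513925) F513926 (iv1 D199746)
theorem F533570 : act 0 n225893 = n225939 := d20_4 F487578 D217133 (iv4 F520859) (iv3 F533296) (iv3 D225939) F513874 F508876 (iv4 F514406) F531670 (iv1 D225625)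
def n225940 : Q := act 4 n222400
theorem D225940 : act 4 n222400 = n225940 := rfl
theorem F533571 : act 3 n225940 = n225445 := d5_1 D225940 (iv4 D225445) F481035 F434899 (iv3 F514007)
theorem F533572 : act 6 n225940 = n222401 := d10_2 (iv6 F514008) D225940 (iv4 D222401)
theorem F533573 : act 5 n225940 = n225714 := d16_1 D225940 F532217 (iv5 F497579) (iv4 F532492) F532493 F514005 D222400 F527648 (iv2 F527647)
theorem F533574 : act 0 n225940 = n225757 := d17_0 F532493 F533288 F533285 F528117 (iv5 F509085) (iv0 F524295) (iv5 F527633) (iv0 F527636) D225940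
theorem F533575 : act 1 n225940 = n225757 := d18_6 F533570 F533565 F533287 F514005 D222400 D225940 F532492 F532496 (iv5 F533298)
def n225941 : Q := act 4 n222457
theorem D225941 : act 4 n222457 = n225941 := rfl
theorem F533576 : act 2 n225941 = n225363 := d1_1 D225941 (iv4 D225363) F514318
theorem F533577 : act 3 n225941 = n224256 := d5_1 D225941 F523930 F512649 (iv4 F530024) F530028
theorem F533578 : act 5 n225941 = n222932 := d9_2 (iv5 F514316) D225941 F516846 F467980 (iv4 F473866) (iv5 D214177) F380718 D216110 D225493 F530923 F523908 (iv5 F491734) (iv4 F473863) (iv5 D214176) (iv4 F433275)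
theorem F533579 : act 6 n225941 = n222781 := d10_2 (iv6 F514317) D225941 F516045
theorem F533580 : act 7 n225941 = n224253 := d11_2 (iv7 F514320) D225941 F523914
theorem F533581 : act 0 n225941 = n225760 := d17_0 F532506 (iv1 F516711) D224043 F522695 (iv5 D214676) (iv0 F253665) D203679 F514319 D225941
theorem F533582 : act 1 n225941 = n225012 := d18_6 (iv1 D196491) F164973 D157164 (iv4 F433275) (iv5 F514316) D225941 F528114 (iv0 F503094) F503093
def n225942 : Q := act 3 n222458
theorem D225942 : act 3 n222458 = n225942 := rfl
theorem F533583 : act 2 n225942 = n225929 := d0_1 D225942 F533509 F527627 F519754 F516605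
theorem F533584 : act 4 n225942 = n222459 := d5_2 D222458 D225942 (iv3 D222459) (iv4 D199681) (iv3 F413103)
theorem F533585 : act 5 n225942 = n222681 := d6_2 (iv5 F514322) D225942 F515527
theorem F533586 : act 6 n225942 = n222678 := d7_2 (iv6 F514321) D225942 F515518
theorem F533587 : act 7 n225942 = n225929 := d8_2 F527630 D225942 F533509
theorem F533588 : act 0 n225942 = n224244 := d19_4 (iv1 F360129) D199680 D222458 D225942 F523867 F446115 (iv3 D199756) (iv1 D111667) (iv5 F362792) (iv4 D111590) (iv3 F173113) D199665 F413050 F193377 F88539 (iv1 F67488) (iv5 F250815) D76987 D160583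
theorem F533589 : act 0 n224244 = n225942 := d20_4 F523113 (iv1 F497695) (iv4 F497701) (iv3 F523865) (iv3 D225942) (iv4 D222458) D222457 D225941 F533577 (iv1 F523933)
def n225943 : Q := act 5 n222511
theorem D225943 : act 5 n222511 = n225943 := rfl
theorem F533590 : act 2 n225943 = n225811 := d2_1 D225943 (iv5 D225811) (iv2 F514636)
theorem F533591 : act 3 n225943 = n223582 := d6_1 D225943 (iv5 F526560) F526559
theorem F533592 : act 4 n225943 = n225808 := d9_1 D225943 F532786 (iv4 F532912) F532911 F527671 (iv5 F463175) (iv4 F510550) (iv5 F531561) F531560 F531128 F503798 D222309 F513501 F463172 (iv4 F514637)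
theorem F533593 : act 7 n225943 = n222630 := d13_2 (iv7 F514638) D225943 (iv5 D222630)
theorem F533594 : act 0 n225943 = n222576 := d17_2 F514639 D225943 (iv5 D222576) (iv4 F455326) D222194 (iv0 F512835) F495675 (iv0 F473725) D220842
theorem F533595 : act 1 n225943 = n222574 := d17_6 F365095 D144128 D211813 F463172 (iv4 F514637) D225943 (iv5 D222574) (iv0 D200204) F175593
def n225944 : Q := act 4 n222601
theorem D225944 : act 4 n222601 = n225944 := rfl
theorem F533596 : act 2 n225944 = n223299 := d1_1 D225944 (iv4 D223299) F515119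
theorem F533597 : act 3 n225944 = n225782 := d5_1 D225944 F532631 F527920 F497266 (iv3 F515118)
theorem F533598 : act 5 n225944 = n225618 := d9_2 (iv5 F515117) D225944 (iv4 D225618) F498452 (iv4 F517227) F517228 (iv4 F425633) (iv5 F515108) (iv4 F523579) F523580 F523065 (iv5 F487156) F480648 F422699 (iv4 F425613)
theorem F533599 : act 6 n225944 = n225583 := d10_2 F523628 D225944 F531426
theorem F533600 : act 7 n225944 = n224162 := d11_2 F532471 D225944 (iv4 F532469)
theorem F533601 : act 0 n225944 = n224165 := d17_0 (iv5 D224165) F452421 D224468 F525144 (iv5 D221876) (iv0 F505021) (iv5 F532457) (iv0 F532460) D225944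
theorem F533602 : act 1 n225944 = n225886 := d18_6 F531862 F503506 F458756 (iv4 F425613) (iv5 F515117) D225944 F533256 F531812 D225657
def n225945 : Q := act 5 n222676
theorem D225945 : act 5 n222676 = n225945 := rfl
theorem F533603 : act 2 n225945 = n225840 := d2_1 D225945 F532972 (iv2 F515510)
theorem F533604 : act 3 n225945 = n224020 := d6_1 D225945 F522573 (iv3 F515511)
theorem F533605 : act 4 n225945 = n222775 := d9_1 D225945 (iv5 D222775) F419099 (iv5 F398476) F419197 F419194 (iv4 F507795) (iv5 F533146) F533145 F509035 F401134 F375317 (iv4 F417549) F417550 D222676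
theorem F533606 : act 6 n225945 = n225373 := d12_2 (iv6 F515512) D225945 (iv5 D225373) F478009 (iv5 F446461)
theorem F533607 : act 7 n225945 = n225067 := d13_2 F515731 D225945 F528444
theorem F533608 : act 1 n225945 = n223930 := d17_6 D201122 (iv5 F470830) (iv1 F470832) F417550 D222676 D225945 (iv5 D223930) (iv0 F437489) (iv4 D201123)
def n225946 : Q := act 5 n222715
theorem D225946 : act 5 n222715 = n225946 := rfl
theorem F533609 : act 2 n225946 = n223961 := d2_1 D225946 (iv5 D223961) (iv2 F515719)
theorem F533610 : act 4 n225946 = n224991 := d9_1 D225946 F528016 (iv4 D222736) F439367 (iv4 F441781) (iv5 D206660) (iv4 F437488) D223930 F522072 (iv5 F513425) F513424 F418409 F418321 D206519 (iv4 F515720)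
theorem F533611 : act 6 n225946 = n225923 := d12_2 D222715 D225946 F533473 F516326 F513355
theorem F533612 : act 7 n225946 = n224990 := d13_2 F521987 D225946 F528014
theorem F533613 : act 0 n225946 = n225867 := d17_2 F515722 D225946 F533146 F507795 (iv5 F419194) (iv0 F470824) F470821 F418408 (iv4 F437713)
theorem F533614 : act 1 n225946 = n225945 := d17_6 (iv1 F439170) (iv5 F439345) F439344 D206519 (iv4 F515720) D225946 (iv5 D225945) F515736 F515734
def n225947 : Q := act 4 n222726
theorem D225947 : act 4 n222726 = n225947 := rfl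
theorem F533615 : act 2 n225947 = n224265 := d1_1 D225947 F523978 (iv2 F515768)
theorem F533616 : act 3 n225947 = n222760 := d5_1 D225947 F515932 (iv3 F507931) F507932 D222726
theorem F533617 : act 5 n225947 = n222737 := d9_2 (iv5 F515769) D225947 F515823 (iv5 F508337) F508336 F441737 F441554 F441505 (iv4 F515664) (iv5 F515905) F515904 F418659 (iv4 F417768) (iv5 F436825) (iv4 F514432)
theorem F533618 : act 6 n225947 = n222759 := d10_2 (iv6 F515770) D225947 F515927
theorem F533619 : act 7 n225947 = n222748 := d11_2 (iv7 F515771) D225947 F515866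
theorem F533620 : act 0 n225947 = n224072 := d17_0 F522867 F466997 (iv5 F451567) F451566 (iv5 D206655) F207314 D206643 (iv0 F515772) D225947
theorem F533621 : act 1 n225947 = n224073 := d18_6 (iv1 F281471) (iv4 F281466) F436827 (iv4 F514432) (iv5 F515769) D225947 (iv4 D224073) F441751 (iv5 D190792)
def n225948 : Q := act 5 n222830
theorem D225948 : act 5 n222830 = n225948 := rfl
theorem F533622 : act 2 n225948 = n225760 := d2_1 D225948 F532506 F516708
theorem F533623 : act 3 n225948 = n225448 := d6_1 D225948 F530675 F526427
theorem F533624 : act 4 n225948 = n223768 := d9_1 D225948 (iv5 D223768) F479050 (iv5 F479052) F460195 F365001 (iv4 F421467) D222908 F516707 F509424 (iv4 F479036) (iv5 F484040) (iv4 D216369) (iv5 F420089) D222830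
theorem F533625 : act 6 n225948 = n224254 := d12_2 F516661 D225948 F523916 (iv6 F507770) (iv5 F516660)
theorem F533626 : act 7 n225948 = n225012 := d13_2 (iv7 F516315) D225948 F528115
theorem F533627 : act 0 n225948 = n224253 := d17_2 (iv1 F516317) D225948 (iv5 D224253) (iv4 F508561) F508562 (iv0 F508321) F420550 F420548 (iv4 F493007)
theorem F533628 : act 1 n225948 = n225363 := d17_6 F439840 (iv5 D183161) D183158 (iv5 F420089) D222830 D225948 F530191 (iv0 F499754) F454366
def n225949 : Q := act 4 n223000
theorem D225949 : act 4 n223000 = n225949 := rfl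
theorem F533629 : act 2 n225949 = n225809 := d1_1 D225949 F532793 F518058
theorem F533630 : act 3 n225949 = n225456 := d5_1 D225949 F530718 F500894 (iv4 F520251) F520255
theorem F533631 : act 5 n225949 = n225456 := d9_2 (iv5 F517190) D225949 F530718 (iv5 D219852) F459006 F459003 F448421 (iv5 F459133) (iv4 F525603) (iv5 F530724) F530725 F485914 (iv4 F459010) F459011 F440342
theorem F533632 : act 6 n225949 = n223065 := d10_2 F517191 D225949 F517497
theorem F533633 : act 0 n225949 = n223064 := d17_0 (iv5 F529434) F529436 F528391 F524496 (iv5 D222998) (iv0 D201997) D201999 D223000 D225949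
def n225950 : Q := act 3 n223052
theorem D225950 : act 3 n223052 = n225950 := rfl
theorem F533634 : act 4 n225950 = n223076 := d5_2 D223052 D225950 (iv3 F529502) (iv4 D225250) F472947
theorem F533635 : act 5 n225950 = n223721 := d6_2 F529302 D225950 (iv3 F529304)
theorem F533636 : act 6 n225950 = n223076 := d7_2 F529498 D225950 (iv3 F529502)
theorem F533637 : act 7 n225950 = n223064 := d8_2 (iv7 F517444) D225950 F517493
theorem F533638 : act 0 n225950 = n225809 := d19_4 D213809 F472185 D223052 D225950 (iv5 D225809) (iv4 D219861) F386557 (iv1 F274583) (iv5 D83849) (iv4 D38620) (iv3 F311744) (iv1 D38384) D38385 (iv4 F324810) (iv3 F317762) (iv1 D54206) D54207 D117680 (iv3 F244858)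
def n225951 : Q := act 3 n223061
theorem D225951 : act 3 n223061 = n225951 := rfl
theorem F533639 : act 4 n225951 = n223062 := d5_2 D223061 D225951 (iv3 D223062) (iv4 D202092) (iv3 F422867)
theorem F533640 : act 5 n225951 = n225459 := d6_2 (iv5 F517486) D225951 (iv3 D225459)
theorem F533641 : act 6 n225951 = n225119 := d7_2 (iv6 F526051) D225951 F528755
def n225952 : Q := act 6 n223078
theorem D225952 : act 6 n223078 = n225952 := rfl
theorem F533642 : act 2 n225952 = n224553 := d3_1 D225952 (iv6 D224553) (iv2 F517530)
theorem F533643 : act 3 n225952 = n223651 := d7_1 D225952 F529466 (iv3 F529464)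
theorem F533644 : act 4 n225952 = n223079 := d10_1 D225952 (iv6 D223079) D223078
theorem F533645 : act 5 n225952 = n223651 := d12_1 D225952 F529466 F529462 F525234 (iv5 F517531)
theorem F533646 : act 7 n225952 = n225949 := d14_2 (iv7 F517532) D225952 F533632 F517495 F517057
theorem F533647 : act 0 n225952 = n225950 := d21_4 (iv5 D209812) (iv1 F452611) (iv5 F517531) D225952 F533636 F517525 (iv1 F458995) (iv5 F512005) F517552 F517550
theorem F533648 : act 0 n225458 = n225952 := d21_4 (iv5 D220743) (iv1 F455189) (iv5 F517490) (iv6 F530731) (iv6 D225952) F517531 F452610 D209820 F455065 (iv1 F505279)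
def n225953 : Q := act 0 n223088
theorem D225953 : act 0 n223088 = n225953 := rfl
theorem F533649 : act 5 n225953 = n225256 := d17_1 D225953 (iv1 F529539) (iv5 D224628) F455095 D212764 F467411 D222873 F516525 (iv4 F517590)
theorem F533650 : act 4 n225953 = n224483 := d18_1 D225953 (iv1 D224483) D224484 (iv5 F529462) F529463 F485847 (iv4 F485903) F529472 F529470
theorem F533651 : act 3 n225953 = n224539 := d20_5 F423447 F218759 D202125 D223088 D225953 F525537 (iv1 F525241) (iv4 F526036) (iv3 D224637) F455138
theorem F533652 : act 6 n225953 = n223170 := d21_5 (iv5 F525778) F525779 (iv5 F526059) F526063 D225953 F517994 (iv1 F472582) (iv5 F473274) (iv6 F473275) (iv1 F504006)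
theorem F533653 : act 2 n224540 = n225953 := d15_3 (iv0 D225953) (iv0 F527414) F527413
theorem F533654 : act 1 n223089 = n225953 := d15_0 (iv0 D225953) F517591 (iv2 F517592)
theorem F533655 : act 7 n225953 = n224539 := d15_2 F527415 F533654 (iv2 F527411)
def n225954 : Q := act 1 n223161
theorem D225954 : act 1 n223161 = n225954 := rfl
theorem F533656 : act 1 n225954 = n223732 := d15_1 D225954 (iv7 F532992) F532988
theorem F533657 : act 7 n225954 = n225851 := d15_2 F532942 D225954 F533039
theorem F533658 : act 5 n225954 = n223793 := d17_7 (iv1 F505355) (iv5 F407383) F451088 (iv5 F508226) F508227 D223161 D225954 (iv0 D223793) (iv4 F505352)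
theorem F533659 : act 4 n225954 = n224657 := d17_9 F526134 F517847 F503024 D223047 F517423 (iv5 F504272) (iv0 F504275) D223161 D225954
theorem F533660 : act 3 n225238 = n225954 := d19_19 (iv1 D225954) (iv5 D223161) (iv4 F508227) F508228 F479913 (iv5 F470327) F470326 F374723 (iv1 F372328) F372326 (iv4 D133450) F102030 (iv1 D61421) F46719 (iv4 F53461) (iv3 F111125) D156086 D213923 D225238
theorem F533661 : act 6 n225802 = n225954 := d21_3 (iv5 F508988) F508989 D225802 (iv1 D225954) (iv6 F529634) F529633 F517985 D225763 F532524 F509862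
theorem F533662 : act 2 n225954 = n225802 := d0_1 F533660 F532753 (iv2 F502708) (iv3 F529372) (iv2 F529427)
def n225955 : Q := act 3 n223169
theorem D225955 : act 3 n223169 = n225955 := rfl
theorem F533663 : act 2 n225955 = n225833 := d0_1 D225955 F532929 F526471 F517002 F517990
theorem F533664 : act 4 n225955 = n225572 := d5_2 (iv4 F517988) D225955 F531356 (iv4 F485430) (iv3 F484465)
theorem F533665 : act 5 n225955 = n225228 := d6_2 (iv5 F517987) D225955 (iv3 F529369)
theorem F533666 : act 6 n225955 = n225833 := d7_2 F526472 D225955 F532929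
theorem F533667 : act 7 n225955 = n225271 := d8_2 F517991 D225955 F529630
theorem F533668 : act 0 n225955 = n225763 := d19_4 F526803 F526800 (iv4 F517988) D225955 (iv5 D225763) (iv4 D219277) F381922 F292267 (iv5 F360813) (iv4 D95676) (iv3 F147360) F159343 (iv5 D103908) (iv4 F134911) F134910 F63247 (iv5 F134099) (iv4 F283271) D216145
theorem F533669 : act 0 n225829 = n225955 := d20_4 D223142 F529508 F529507 (iv3 F532904) (iv3 D225955) F517988 (iv1 F484463) D216698 F485520 (iv1 F481813)
def n225956 : Q := act 4 n223297
theorem D225956 : act 4 n223297 = n225956 := rfl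
theorem F533670 : act 2 n225956 = n225743 := d1_1 D225956 (iv4 F532482) F532481
theorem F533671 : act 3 n225956 = n223825 := d5_1 D225956 F521490 (iv3 F522461) F522464 (iv3 F518696)
theorem F533672 : act 5 n225956 = n224452 := d9_2 D223297 D225956 F525055 F487159 F469086 (iv5 F423717) (iv4 F425630) D223298 (iv4 F532310) F532311 F531607 (iv5 F500594) (iv4 F518044) F518045 F425625
theorem F533673 : act 6 n225956 = n224975 := d10_2 (iv6 F518697) D225956 (iv4 D224975)
theorem F533674 : act 7 n225956 = n225617 := d11_2 (iv7 F518698) D225956 F531620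
theorem F533675 : act 0 n225956 = n223963 := d17_0 (iv5 D223963) (iv1 F445443) D223909 (iv4 F532456) F532457 (iv0 F505022) D222600 (iv0 F518699) D225956
def n225957 : Q := act 6 n223341
theorem D225957 : act 6 n223341 = n225957 := rfl
theorem F533676 : act 2 n225957 = n223434 := d3_1 D225957 F519438 (iv2 F518952)
theorem F533677 : act 3 n225957 = n225049 := d7_1 D225957 F528332 F526084
theorem F533678 : act 4 n225957 = n224770 := d10_1 D225957 F526774 (iv4 F518953)
theorem F533679 : act 5 n225957 = n223433 := d12_1 D225957 (iv6 F525432) F525434 F493551 D223341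
theorem F533680 : act 7 n225957 = n224835 := d14_2 (iv7 F518954) D225957 F527116 F525957 (iv6 D224618)
theorem F533681 : act 0 n225957 = n224611 := d21_4 F500081 (iv1 F453906) D223341 D225957 (iv6 D224611) (iv5 D209794) F454800 (iv5 F519504) (iv6 D223447) (iv1 F500079)
theorem F533682 : act 0 n224842 = n225957 := d21_4 F426827 F425080 (iv5 F485560) (iv6 F527157) (iv6 D225957) (iv5 D223341) (iv1 D203054) F365481 F365479 D203059
def n225958 : Q := act 5 n223400
theorem D225958 : act 5 n223400 = n225958 := rfl
theorem F533683 : act 2 n225958 = n225518 := d2_1 D225958 F531043 F528917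
theorem F533684 : act 4 n225958 = n225176 := d9_1 D225958 (iv5 D225176) F470446 F241642 (iv4 F464077) F464081 (iv4 F519273) F519272 F483389 (iv5 F377040) (iv4 F419934) F419935 (iv4 F469918) F469923 (iv4 F519275)
theorem F533685 : act 6 n225958 = n225517 := d12_2 F528966 D225958 F531040 F526505 (iv5 F528963)
theorem F533686 : act 7 n225958 = n225514 := d13_2 F528993 D225958 F531032
theorem F533687 : act 0 n225958 = n225520 := d17_2 (iv1 F529002) D225958 F531046 F519334 F510896 F502125 (iv5 F519320) F528462 (iv4 F529000)
theorem F533688 : act 1 n225958 = n225519 := d17_6 (iv1 F506905) (iv5 D221034) (iv1 F469921) F469923 (iv4 F519275) D225958 F532800 (iv0 F532801) F511001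
def n225959 : Q := act 0 n223401
theorem D225959 : act 0 n223401 = n225959 := rfl
theorem F533689 : act 5 n225959 = n225071 := d17_1 D225959 (iv1 F528469) (iv5 F532115) (iv4 D225699) (iv5 F493377) (iv0 F532213) F532212 (iv0 F532104) F532093
theorem F533690 : act 4 n225959 = n225889 := d18_3 (iv1 F532094) F532093 D225959 F533272 F516370 F471707 D225207 F529241 D225681
theorem F533691 : act 3 n225959 = n225243 := d20_5 F483389 D216213 D225521 (iv3 F531051) D225959 F529458 (iv1 F532131) F532129 (iv3 F531048) (iv1 D225520)
theorem F533692 : act 6 n225959 = n224655 := d21_5 (iv5 D221880) (iv1 F404556) D203237 (iv6 F519276) D225959 F526123 (iv1 F455266) D221824 F510946 (iv1 F511192)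
theorem F533693 : act 2 n225919 = n225959 := d15_3 (iv0 D225959) (iv0 F519277) (iv7 F533447)
theorem F533694 : act 7 n225959 = n225243 := d4_2 (iv7 F533447) F533693 F529457
theorem F533695 : act 1 n225718 = n225959 := d15_1 F532244 F533694 F529457
def n225960 : Q := act 7 n223401
theorem D225960 : act 7 n223401 = n225960 := rfl
theorem F533696 : act 2 n225960 = n225718 := d4_1 D225960 F532243 F528995
theorem F533697 : act 4 n225960 = n225091 := d11_1 D225960 (iv7 F532092) F532093
theorem F533698 : act 5 n225960 = n223402 := d13_1 D225960 (iv7 D223402) D223401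
theorem F533699 : act 6 n225960 = n225788 := d14_1 D225960 F532669 (iv6 F520201) F511186 (iv6 F519276)
theorem F533700 : act 1 n225243 = n225960 := d15_1 (iv0 F529460) (iv7 D225960) (iv2 F528995)
theorem F533701 : act 1 n225960 = n225919 := d15_1 F533700 F533447 (iv2 F529457)
def n225961 : Q := act 5 n223414
theorem D225961 : act 5 n223414 = n225961 := rfl
theorem F533702 : act 2 n225961 = n225605 := d2_1 D225961 F531553 F528034
theorem F533703 : act 3 n225961 = n225519 := d6_1 D225961 F532800 F532796
theorem F533704 : act 4 n225961 = n225594 := d9_1 D225961 (iv5 D225594) (iv4 F493159) F493160 (iv4 F501293) (iv5 F519320) F519338 (iv5 F532816) (iv4 D225813) (iv5 D219967) F387004 F367191 D192932 D220102 (iv4 F519336)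
theorem F533705 : act 6 n225961 = n225563 := d12_2 (iv6 F519337) D225961 F531298 F510330 (iv5 F507202)
def n225962 : Q := act 0 n223416
theorem D225962 : act 0 n223416 = n225962 := rfl
theorem F533706 : act 5 n225962 = n225164 := d17_3 (iv1 D223415) D223416 D225962 F528987 (iv5 D219906) D219904 (iv5 F501124) D223410 F519338
theorem F533707 : act 4 n225962 = n225697 := d18_1 D225962 F532103 D225718 F532241 F529000 F528463 (iv4 F519336) (iv0 D223414) D223416
theorem F533708 : act 6 n225962 = n225904 := d21_5 (iv5 D221846) (iv1 F404125) D212051 (iv6 F519341) D225962 F533362 (iv1 F510522) D221781 F510794 (iv1 F511026)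
theorem F533709 : act 2 n225912 = n225962 := d15_3 (iv0 D225962) (iv0 F519342) (iv7 F533413)
theorem F533710 : act 7 n225962 = n225878 := d4_2 (iv7 F533413) F533709 F533208
theorem F533711 : act 3 n225166 = n225962 := d8_3 F533710 F533209 F532243
theorem F533712 : act 1 n225816 = n225962 := d15_1 (iv0 F532835) F533710 F533208
def n225963 : Q := act 7 n223416
theorem D225963 : act 7 n223416 = n225963 := rfl
theorem F533713 : act 2 n225963 = n225816 := d4_1 D225963 F532834 F527071
theorem F533714 : act 4 n225963 = n223583 := d11_1 D225963 (iv7 F532128) F532129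
theorem F533715 : act 5 n225963 = n223417 := d13_1 D225963 (iv7 D223417) D223416
theorem F533716 : act 6 n225963 = n223582 := d14_1 D225963 (iv7 F520455) F520454 (iv7 F464138) (iv6 F519341)
theorem F533717 : act 1 n225878 = n225963 := d15_1 (iv0 F533212) (iv7 D225963) (iv2 F527071)
theorem F533718 : act 1 n225963 = n225912 := d15_1 F533717 F533413 (iv2 F533208)
def n225964 : Q := act 4 n223454
theorem D225964 : act 4 n223454 = n225964 := rfl
theorem F533719 : act 2 n225964 = n224623 := d1_1 D225964 F525978 (iv2 F524896)
theorem F533720 : act 3 n225964 = n224638 := d5_1 D225964 F526043 (iv3 F485661) (iv4 F529120) (iv3 F529125)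
theorem F533721 : act 5 n225964 = n224619 := d9_2 (iv5 F519530) D225964 (iv4 D224619) (iv5 F517577) F517576 F502297 F470410 F454615 (iv4 F525605) F525606 (iv4 D224498) F452788 (iv4 F227007) (iv5 F436717) (iv4 F511201)
theorem F533722 : act 6 n225964 = n224637 := d10_2 F525239 D225964 F526036
theorem F533723 : act 7 n225964 = n224638 := d11_2 (iv7 F519532) D225964 F526043
theorem F533724 : act 0 n225964 = n225216 := d17_0 F529292 (iv1 D224614) (iv5 F456309) F456308 (iv5 F483890) (iv0 F483893) (iv5 F519005) F519531 D225964
theorem F533725 : act 1 n225964 = n223495 := d18_6 F470417 (iv4 D213441) F436719 (iv4 F511201) (iv5 F519530) D225964 (iv4 F525292) (iv0 F525296) F455035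
def n225965 : Q := act 7 n223518
theorem D225965 : act 7 n223518 = n225965 := rfl
theorem F533726 : act 2 n225965 = n225400 := d4_1 D225965 (iv7 D225400) (iv2 F519863)
theorem F533727 : act 3 n225965 = n225479 := d8_1 D225965 F530852 F523658
theorem F533728 : act 4 n225965 = n223519 := d11_1 D225965 (iv7 D223519) D223518
theorem F533729 : act 6 n225965 = n225394 := d14_1 D225965 (iv7 D225394) (iv6 D215192) (iv7 F430859) (iv6 F519864)
theorem F533730 : act 1 n225278 = n225965 := d15_1 (iv0 F529672) (iv7 D225965) F519863
theorem F533731 : act 1 n225965 = n225398 := d15_1 F533730 F530392 (iv2 F529668)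
def n225966 : Q := act 3 n223535
theorem D225966 : act 3 n223535 = n225966 := rfl
theorem F533732 : act 2 n225966 = n225389 := d0_1 D225966 (iv3 D225389) (iv2 F478610) (iv3 F523000) F522999
theorem F533733 : act 4 n225966 = n224436 := d5_2 D223535 D225966 F524958 (iv4 D221002) (iv3 F430416)
theorem F533734 : act 5 n225966 = n225842 := d6_2 (iv5 F519970) D225966 F532983
theorem F533735 : act 6 n225966 = n225052 := d7_2 (iv6 F519971) D225966 (iv3 D225052)
theorem F533736 : act 7 n225966 = n225501 := d8_2 (iv7 F519972) D225966 F530965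
theorem F533737 : act 0 n225966 = n224264 := d19_4 (iv1 F235294) D203923 D223535 D225966 F523975 (iv4 F532469) F532468 F497252 (iv5 F462890) F415644 F404877 D197575 (iv5 F478233) (iv4 D215080) F403038 (iv1 F394746) F352041 F239275 (iv3 F235291)
theorem F533738 : act 0 n225677 = n225966 := d20_4 (iv4 D195862) (iv1 F371180) (iv4 F489866) (iv3 F531988) (iv3 D225966) (iv4 D223535) (iv1 F430420) (iv4 F489799) F508127 (iv1 D221279)
def n225967 : Q := act 5 n223578
theorem D225967 : act 5 n223578 = n225967 := rfl
theorem F533739 : act 2 n225967 = n225917 := d2_1 D225967 F533438 (iv2 F520824)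
theorem F533740 : act 3 n225967 = n223593 := d6_1 D225967 F520233 (iv3 F520173)
theorem F533741 : act 4 n225967 = n225914 := d9_1 D225967 (iv5 D225914) F510902 F460079 F412948 (iv5 F383539) (iv4 F498881) D225775 (iv4 F533349) (iv5 D225902) F509677 F505839 (iv4 F412956) (iv5 F433119) (iv4 F520174)
theorem F533742 : act 7 n225967 = n223592 := d13_2 (iv7 F520175) D225967 F520230
theorem F533743 : act 1 n225967 = n225512 := d17_6 (iv1 D211222) (iv5 D141229) D141227 (iv5 F433119) (iv4 F520174) D225967 F531024 (iv0 F520663) F520661
def n225968 : Q := act 0 n223585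
theorem D225968 : act 0 n223585 = n225968 := rfl
theorem F533744 : act 5 n225968 = n225907 := d17_1 D225968 F533383 D225925 F533485 (iv5 F520178) F520181 (iv5 F510928) (iv0 F510929) (iv4 F520202)
theorem F533745 : act 4 n225968 = n225393 := d18_1 D225968 (iv1 F532609) (iv4 F532607) (iv5 D221536) (iv4 F410789) D222305 F513477 F509577 (iv5 F520203)
theorem F533746 : act 3 n225968 = n225553 := d20_5 (iv4 D223582) (iv1 D204042) D204043 D223585 D225968 (iv4 D225553) (iv1 F485123) D225524 F531061 (iv1 F520193)
theorem F533747 : act 6 n225968 = n225554 := d21_5 (iv5 D197370) D197368 D221813 F520205 D225968 F531248 (iv1 F527339) (iv5 F520157) (iv6 F520158) (iv1 D221817)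
theorem F533748 : act 2 n225554 = n225968 := d15_3 (iv0 D225968) (iv0 F531028) (iv7 F531249)
theorem F533749 : act 1 n223869 = n225968 := d15_0 (iv0 D225968) F520204 (iv2 F521741)
theorem F533750 : act 7 n225968 = n225900 := d15_2 (iv0 F531029) F533749 (iv2 F533338)
def n225969 : Q := act 2 n223585
theorem D225969 : act 2 n223585 = n225969 := rfl
theorem F533751 : act 3 n225969 = n224830 := d0_2 D223585 D225969 F527090 (iv3 F520188) F520187
theorem F533752 : act 4 n225969 = n223591 := d1_2 (iv4 F520202) D225969 (iv2 D223591)
theorem F533753 : act 5 n225969 = n223870 := d2_2 (iv5 F520203) D225969 F521743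
theorem F533754 : act 6 n225969 = n225902 := d3_2 F520205 D225969 F533346
theorem F533755 : act 7 n225969 = n223869 := d4_2 (iv7 F520204) D225969 F521741
theorem F533756 : act 1 n225969 = n225900 := d15_0 (iv0 D225900) (iv7 F520204) D225969
theorem F533757 : act 1 n225554 = n225969 := d15_0 F533756 (iv7 F533750) (iv2 F533748)
def n225970 : Q := act 7 n223586
theorem D225970 : act 7 n223586 = n225970 := rfl
theorem F533758 : act 2 n225970 = n225508 := d4_1 D225970 (iv7 F532725) F532722
theorem F533759 : act 3 n225970 = n225914 := d8_1 D225970 F533423 (iv3 F520206)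
theorem F533760 : act 4 n225970 = n223589 := d11_1 D225970 (iv7 D223589) (iv4 F520207)
theorem F533761 : act 5 n225970 = n224479 := d13_1 D225970 F525206 (iv5 F520208)
theorem F533762 : act 6 n225970 = n225507 := d14_1 D225970 (iv7 F533194) F533193 F519809 D223586
theorem F533763 : act 1 n225506 = n225970 := d15_1 F532728 (iv7 D225970) (iv2 F532722)
theorem F533764 : act 1 n225970 = n225785 := d15_1 F533763 (iv7 D225785) (iv2 F530995)
def n225971 : Q := act 4 n223872
theorem D225971 : act 4 n223872 = n225971 := rfl
theorem F533765 : act 2 n225971 = n225161 := d1_1 D225971 F528974 (iv2 F521756)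
theorem F533766 : act 5 n225971 = n225177 := d9_2 D223872 D225971 (iv4 D225177) (iv5 D213448) (iv4 D153777) (iv5 D72747) (iv4 F109142) D153579 D213361 F504159 F504158 F391189 (iv4 F407568) F407570 D205495
theorem F533767 : act 6 n225971 = n225934 := d10_2 (iv6 F521758) D225971 F533534
theorem F533768 : act 7 n225971 = n225154 := d11_2 (iv7 F521759) D225971 (iv4 D225154)
theorem F533769 : act 0 n225971 = n224997 := d17_0 F528045 (iv1 F526736) (iv5 F528475) (iv4 D225073) (iv5 D212807) D212805 F510847 (iv0 F521760) D225971
theorem F533770 : act 1 n225971 = n225160 := d18_6 (iv1 F407874) (iv4 D153764) (iv1 F326608) D205495 D223872 D225971 F528971 F525686 (iv5 D222112)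
def n225972 : Q := act 6 n223890
theorem D225972 : act 6 n223890 = n225972 := rfl
theorem F533771 : act 2 n225972 = n223936 := d3_1 D225972 (iv6 D223936) F521855
theorem F533772 : act 3 n225972 = n223985 := d7_1 D225972 F522380 F521857
theorem F533773 : act 4 n225972 = n224267 := d10_1 D225972 (iv6 F523991) F522151
theorem F533774 : act 5 n225972 = n225622 := d12_1 D225972 (iv6 D225622) D225621 F531645 (iv5 F521854)
theorem F533775 : act 7 n225972 = n223996 := d14_2 F522149 D225972 F522435 (iv7 F523988) (iv6 F523991)
theorem F533776 : act 0 n225972 = n223902 := d21_4 (iv5 D218705) D218702 (iv5 F521854) D225972 (iv6 D223902) D223901 F521916 (iv5 F489923) (iv6 F522100) F522101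
theorem F533777 : act 0 n223948 = n225972 := d21_4 F345890 (iv1 F203561) D205747 D223948 (iv6 D225972) F521854 (iv1 F495229) F495238 (iv6 D207734) (iv1 F345889)
def n225973 : Q := act 5 n223908
theorem D225973 : act 5 n223908 = n225973 := rfl
theorem F533778 : act 2 n225973 = n223928 := d2_1 D225973 (iv5 D223928) F521954
theorem F533779 : act 3 n225973 = n225946 := d6_1 D225973 (iv5 D225946) (iv3 F521956)
theorem F533780 : act 4 n225973 = n225380 := d9_1 D225973 F530291 F504473 (iv5 F473147) F469500 (iv5 D208866) (iv4 F437938) D223963 F522244 F496085 (iv4 F473141) F473143 (iv4 F471191) F471192 (iv4 F521952)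
theorem F533781 : act 6 n225973 = n224114 := d12_2 (iv6 F521953) D225973 (iv5 D224114) (iv6 F442333) (iv5 F454742)
theorem F533782 : act 7 n225973 = n225762 := d13_2 F522186 D225973 F532519
theorem F533783 : act 0 n225973 = n225956 := d17_2 D223908 D225973 F533672 F525055 F487159 (iv0 F480681) F480680 (iv0 F521950) F521948
theorem F533784 : act 1 n225973 = n225729 := d17_6 F483274 (iv5 F484397) F484399 F471192 (iv4 F521952) D225973 F532311 (iv0 F531610) F523971
def n225974 : Q := act 6 n223991
theorem D225974 : act 6 n223991 = n225974 := rfl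
theorem F533785 : act 2 n225974 = n224994 := d3_1 D225974 (iv6 F528480) F528476
theorem F533786 : act 3 n225974 = n223994 := d7_1 D225974 (iv6 D223994) (iv3 F522406)
theorem F533787 : act 4 n225974 = n224993 := d10_1 D225974 F528027 (iv4 F522407)
theorem F533788 : act 5 n225974 = n225522 := d12_1 D225974 F531052 F510771 (iv6 F438434) (iv5 F522408)
theorem F533789 : act 7 n225974 = n225881 := d14_2 D223991 D225974 (iv6 D225881) F507188 F467591
theorem F533790 : act 0 n225974 = n223994 := d21_4 (iv5 F427480) F438435 (iv5 F522408) D225974 (iv6 D223994) F438444 (iv1 F204003) D197359 F438447 (iv1 D203255)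
theorem F533791 : act 0 n225164 = n225974 := d21_4 (iv5 F519291) F438461 (iv5 F470099) D225164 (iv6 D225974) F522408 (iv1 F507375) (iv5 F519175) F519176 (iv1 F519287)
def n225975 : Q := act 6 n223993
theorem D225975 : act 6 n223993 = n225975 := rfl
theorem F533792 : act 2 n225975 = n225164 := d3_1 D225975 (iv6 D225164) (iv2 F522417)
theorem F533793 : act 3 n225975 = n225881 := d7_1 D225975 (iv6 D225881) (iv3 F522418)
theorem F533794 : act 4 n225975 = n225812 := d10_1 D225975 F532809 (iv4 F522419)
theorem F533795 : act 5 n225975 = n225912 := d12_1 D225975 (iv6 D225912) F510804 (iv6 F438470) (iv5 F522420)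
theorem F533796 : act 7 n225975 = n223994 := d14_2 D223993 D225975 (iv6 D223994) (iv7 D205925) D205924
theorem F533797 : act 0 n225975 = n224994 := d21_4 (iv5 F472217) (iv1 F438472) (iv5 F522420) D225975 (iv6 F528480) F528479 (iv1 F522399) (iv5 F438423) (iv6 F464109) (iv1 F472214)
theorem F533798 : act 0 n225881 = n225975 := d21_4 (iv5 D212809) (iv1 F396833) D221094 D225881 (iv6 D225975) F522420 (iv1 F438471) (iv5 F472211) F472210 (iv1 F467588)
def n225976 : Q := act 4 n224249
theorem D225976 : act 4 n224249 = n225976 := rfl
theorem F533799 : act 2 n225976 = n224676 := d1_1 D225976 (iv4 F532545) F532541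
theorem F533800 : act 3 n225976 = n224506 := d5_1 D225976 (iv4 D224506) (iv3 F521685) F521680 (iv3 F523890)
theorem F533801 : act 6 n225976 = n224506 := d10_2 (iv6 F523891) D225976 (iv4 D224506)
theorem F533802 : act 7 n225976 = n224676 := d11_2 F532544 D225976 (iv4 F532545)
theorem F533803 : act 5 n225976 = n224674 := d16_1 D225976 F526234 D225766 F532545 F526244 F523882 D224249 (iv7 F532544) F532541
theorem F533804 : act 0 n225976 = n224676 := d17_0 F526244 F526167 F526164 F515425 (iv5 F477331) (iv0 F477333) D221330 (iv0 F523892) D225976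
theorem F533805 : act 1 n225976 = n224676 := d18_6 F530168 F530164 F526166 F523882 D224249 D225976 (iv4 F532545) (iv0 F533081) F533079
def n225977 : Q := act 3 n224274
theorem D225977 : act 3 n224274 = n225977 := rfl
theorem F533806 : act 2 n225977 = n225390 := d0_1 D225977 F530348 (iv2 F524138) F524139 F524025
theorem F533807 : act 4 n225977 = n225066 := d5_2 (iv4 F524024) D225977 F528439 F497194 F475749
theorem F533808 : act 5 n225977 = n225294 := d6_2 F531210 D225977 F531212
theorem F533809 : act 6 n225977 = n224297 := d7_2 F529927 D225977 (iv3 F529925)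
theorem F533810 : act 7 n225977 = n224471 := d8_2 F524026 D225977 F525158
theorem F533811 : act 0 n225650 = n225977 := d20_4 F499629 (iv1 F497178) (iv4 F531580) (iv3 F531818) (iv3 D225977) F524024 F449794 D222160 (iv3 F524180) F524184
def n225978 : Q := act 5 n224359
theorem D225978 : act 5 n224359 = n225978 := rfl
theorem F533812 : act 2 n225978 = n225151 := d2_1 D225978 F528938 F524536
theorem F533813 : act 3 n225978 = n224997 := d6_1 D225978 F528045 (iv3 F524511)
theorem F533814 : act 6 n225978 = n225487 := d12_2 D224359 D225978 (iv5 D225487) (iv6 F518309) F518305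
theorem F533815 : act 7 n225978 = n225150 := d13_2 (iv7 F524513) D225978 F528937
theorem F533816 : act 4 n225978 = n224565 := d16_2 (iv4 F524512) D225978 (iv5 D224565) F454426 (iv5 F457228) F457227 (iv5 F524839) (iv7 D224416) F450705
theorem F533817 : act 0 n225978 = n225162 := d17_2 F530804 D225978 F528978 (iv4 D216029) F444181 (iv0 D207291) D207293 (iv0 F482456) D225470
theorem F533818 : act 1 n225978 = n225484 := d17_6 (iv1 F478849) F458168 (iv1 D208657) (iv5 F449156) (iv4 F524512) D225978 (iv5 D225484) F530401 F530398
def n225979 : Q := act 4 n224403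
theorem D225979 : act 4 n224403 = n225979 := rfl
theorem F533819 : act 2 n225979 = n225522 := d1_1 D225979 (iv4 D225522) (iv2 F524760)
theorem F533820 : act 3 n225979 = n225960 := d5_1 D225979 F533697 (iv3 F529023) F529024 (iv3 F524761)
theorem F533821 : act 6 n225979 = n224405 := d10_2 (iv6 F524762) D225979 (iv4 D224405)
theorem F533822 : act 7 n225979 = n225521 := d11_2 F524765 D225979 (iv4 D225521)
theorem F533823 : act 5 n225979 = n224994 := d16_1 D225979 (iv4 D224994) (iv5 D211986) (iv4 F388255) (iv5 F492964) (iv4 F501558) (iv5 F531033) F531037 (iv2 F524760)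
theorem F533824 : act 0 n225979 = n225961 := d17_0 (iv5 D225961) (iv1 F528494) (iv5 F532832) (iv4 D225816) (iv5 D219983) (iv0 F471619) (iv5 F483381) (iv0 F524763) D225979
theorem F533825 : act 1 n225979 = n225813 := d18_6 F529263 (iv4 D218252) D218249 (iv4 F492961) D224403 D225979 (iv4 D225813) (iv0 F501423) F529265
def n225980 : Q := act 1 n224463
theorem D225980 : act 1 n224463 = n225980 := rfl
theorem F533826 : act 1 n225980 = n225977 := d15_1 D225980 F533810 F525157
theorem F533827 : act 7 n225980 = n225663 := d15_2 (iv0 F531821) D225980 F531898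
theorem F533828 : act 5 n225980 = n225772 := d17_7 F483012 F479097 (iv1 F392193) (iv5 F407175) D222062 (iv5 F525119) D225980 F532580 F524007
theorem F533829 : act 4 n225980 = n225447 := d17_9 (iv1 D225447) (iv5 D215689) D215687 (iv5 F481129) (iv4 F523561) (iv5 F531204) (iv0 F531207) (iv5 F525119) D225980
theorem F533830 : act 3 n225887 = n225980 := d19_19 (iv1 D225980) F525119 (iv4 D222062) (iv3 D198192) (iv1 F376093) F376089 F168549 (iv3 F161083) (iv1 F168186) F168187 (iv4 F165593) D131997 F399975 (iv5 F399974) F365833 (iv3 F400826) (iv1 F404426) D221866 (iv4 F533260)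
theorem F533831 : act 6 n225886 = n225980 := d21_3 (iv5 D224468) F507681 D225886 (iv1 D225980) (iv6 D224463) (iv5 F489867) (iv1 F489868) (iv5 F506238) D225866 F533142
theorem F533832 : act 2 n225980 = n225773 := d3_1 F533831 F532584 (iv2 F533254)
def n225981 : Q := act 3 n224495
theorem D225981 : act 3 n224495 = n225981 := rfl
theorem F533833 : act 2 n225981 = n224615 := d0_1 D225981 (iv3 D224615) (iv2 F503706) (iv3 F519744) (iv2 F525297)
theorem F533834 : act 4 n225981 = n224496 := d5_2 D224495 D225981 (iv3 D224496) (iv4 D209222) (iv3 F452767)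
theorem F533835 : act 5 n225981 = n224625 := d6_2 F526306 D225981 (iv3 F526304)
theorem F533836 : act 6 n225981 = n225180 := d7_2 (iv6 F525298) D225981 (iv3 D225180)
theorem F533837 : act 7 n225981 = n224615 := d8_2 (iv7 F525299) D225981 (iv3 D224615)
theorem F533838 : act 0 n225981 = n224617 := d19_4 F394265 D209221 D224495 D225981 (iv5 D224617) (iv4 F525943) (iv3 D224615) F455023 D223495 (iv4 F525292) F525291 (iv1 F471855) (iv5 F472105) (iv4 D213791) (iv3 F472088) F490327 F490324 F375248 D193328
theorem F533839 : act 0 n224617 = n225981 := d20_4 (iv4 F245417) (iv1 F245419) (iv4 F455039) (iv3 F525949) (iv3 D225981) (iv4 D224495) (iv1 F469574) F469572 F455109 (iv1 D209838)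
def n225982 : Q := act 0 n224496
theorem D225982 : act 0 n224496 = n225982 := rfl
theorem F533840 : act 5 n225982 = n225567 := d17_1 D225982 F531326 F517501 (iv4 F525972) (iv5 F525974) (iv0 D224616) D224617 (iv0 F533838) F533834
theorem F533841 : act 3 n225982 = n224554 := d20_5 (iv4 D202125) (iv1 F218764) D209222 D224496 D225982 F525605 F454099 F428197 F424296 F424294
theorem F533842 : act 6 n225982 = n224552 := d21_5 (iv5 D213165) (iv1 F456242) D224680 F526266 D225982 F525600 F481886 (iv5 F528598) F528596 F472719
theorem F533843 : act 1 n224496 = n225982 := d15_0 (iv0 D225982) F525304 (iv2 F525302)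
theorem F533844 : act 2 n224616 = n225982 := d3_3 F533842 F528762 F528766
theorem F533845 : act 7 n224616 = n225982 := d14_0 F533842 (iv7 D224552) (iv6 F525593) (iv7 F528764) F528766
def n225983 : Q := act 4 n224497
theorem D225983 : act 4 n224497 = n225983 := rfl
theorem F533846 : act 2 n225983 = n224498 := d1_1 D225983 (iv4 D224498) D224497
theorem F533847 : act 3 n225983 = n224619 := d5_1 D225983 (iv4 D224619) F500085 (iv4 F500083) (iv3 F525305)
theorem F533848 : act 5 n225983 = n224638 := d9_2 (iv5 F525306) D225983 F526043 F455141 F453983 (iv5 F434992) F434991 F422942 D209822 D224623 F525978 (iv5 F525747) F525746 (iv5 F513640) F453911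
theorem F533849 : act 6 n225983 = n225129 := d10_2 (iv6 F525307) D225983 F528815
theorem F533850 : act 7 n225983 = n224619 := d11_2 (iv7 F525308) D225983 (iv4 D224619)
theorem F533851 : act 0 n225983 = n224621 := d17_0 F525967 F517885 F456309 (iv4 D209808) (iv5 D136980) (iv0 F409968) D209720 F525310 D225983
theorem F533852 : act 1 n225983 = n224620 := d18_6 F522690 F522685 (iv1 F521504) F453911 (iv5 F525306) D225983 F525962 F519509 F517389
def n225984 : Q := act 2 n224501
theorem D225984 : act 2 n224501 = n225984 := rfl
theorem F533853 : act 3 n225984 = n224643 := d0_2 D224501 D225984 (iv2 D224643) (iv3 D209857) (iv2 F452815)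
theorem F533854 : act 4 n225984 = n225463 := d1_2 (iv4 F525320) D225984 F530755
theorem F533855 : act 5 n225984 = n224743 := d2_2 (iv5 F525321) D225984 F526629
theorem F533856 : act 6 n225984 = n225063 := d3_2 (iv6 F525322) D225984 (iv2 F528423)
theorem F533857 : act 7 n225984 = n224641 := d4_2 (iv7 F525323) D225984 (iv2 D224641)
theorem F533858 : act 1 n225984 = n224639 := d15_0 (iv0 D224639) (iv7 F525323) D225984
theorem F533859 : act 1 n224640 = n225984 := d15_0 F533858 (iv7 F526048) F526052
def n225985 : Q := act 3 n224540
theorem D225985 : act 3 n224540 = n225985 := rfl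
theorem F533860 : act 6 n225985 = n225271 := d7_2 F525539 D225985 F529630
def n225986 : Q := act 5 n224548
theorem D225986 : act 5 n224548 = n225986 := rfl
theorem F533861 : act 2 n225986 = n225266 := d2_1 D225986 F529599 F525582
theorem F533862 : act 3 n225986 = n224887 := d6_1 D225986 F527425 F525583
theorem F533863 : act 4 n225986 = n225039 := d9_1 D225986 F528270 (iv4 D222937) (iv5 D201807) (iv4 F420948) D222873 (iv4 F525586) F525589 F517356 (iv5 D214390) F250834 (iv5 F177500) (iv4 F419035) D222772 (iv4 F525581)
theorem F533864 : act 6 n225986 = n225282 := d12_2 (iv6 F526282) D225986 F529696 (iv6 F493578) D224682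
theorem F533865 : act 7 n225986 = n224647 := d13_2 F525584 D225986 F526090
theorem F533866 : act 0 n225986 = n224851 := d17_2 D224548 D225986 F527211 F517892 (iv5 F516138) (iv0 F516140) (iv5 F460689) (iv0 D209544) D209546
theorem F533867 : act 1 n225986 = n225267 := d17_6 F388539 D212764 (iv1 F467412) D222772 (iv4 F525581) D225986 F529607 (iv0 D223150) F423441
def n225987 : Q := act 0 n224553
theorem D225987 : act 0 n224553 = n225987 := rfl
theorem F533868 : act 5 n225987 = n225125 := d17_1 D225987 F528795 F472900 (iv4 F517187) (iv5 D222999) F472843 (iv5 F527167) (iv0 D224844) (iv4 F525603)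
theorem F533869 : act 4 n225987 = n225112 := d18_1 D225987 F528712 (iv4 F520949) (iv5 D223729) (iv4 D204604) (iv0 F431256) (iv4 F481593) D225457 F530724
theorem F533870 : act 3 n225987 = n225415 := d20_5 (iv4 D208864) D208863 (iv4 F524581) (iv3 F525602) D225987 F530475 F502710 F485474 (iv3 F485476) F485341
theorem F533871 : act 6 n225987 = n225112 := d21_5 F423449 (iv1 F423452) D209549 D224553 D225987 (iv5 D225112) (iv1 D213163) D213164 F469291 F459151
theorem F533872 : act 2 n225950 = n225987 := d15_3 (iv0 D225987) (iv0 F525604) (iv7 F533637)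
theorem F533873 : act 1 n225949 = n225987 := d15_0 (iv0 D225987) (iv7 F532792) (iv2 F533629)
theorem F533874 : act 7 n225987 = n225458 := d15_2 (iv0 F533633) F533873 F530729
def n225988 : Q := act 3 n224563
theorem D225988 : act 3 n224563 = n225988 := rfl
theorem F533875 : act 2 n225988 = n225826 := d0_1 D225988 F532887 F502443 (iv3 F492123) F525654
theorem F533876 : act 4 n225988 = n225758 := d5_2 (iv4 F525653) D225988 F532494 F529946 (iv3 F529344)
theorem F533877 : act 5 n225988 = n225306 := d6_2 (iv5 F525652) D225988 F529837
theorem F533878 : act 6 n225988 = n225585 := d7_2 F525657 D225988 F531436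
theorem F533879 : act 7 n225988 = n225826 := d8_2 (iv7 F525656) D225988 F532887
theorem F533880 : act 0 n225988 = n224928 := d19_4 F373632 D218089 (iv4 F525653) D225988 (iv5 F533500) F533499 F511562 F492984 (iv5 F530067) (iv4 D225344) (iv3 D214743) (iv1 F262415) (iv5 D166710) F122824 F57240 (iv1 F57199) F254093 D78498 D163338
theorem F533881 : act 0 n224928 = n225988 := d20_4 F522695 F476350 D222000 (iv3 F527641) (iv3 D225988) F525653 F492107 F478151 (iv3 F511147) (iv1 F522696)
def n225989 : Q := act 4 n224617
theorem D225989 : act 4 n224617 = n225989 := rfl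
theorem F533882 : act 2 n225989 = n225951 := d1_1 D225989 F533639 (iv2 F525948)
theorem F533883 : act 3 n225989 = n224639 := d5_1 D225989 F526046 (iv3 D209876) (iv4 F455039) (iv3 F525949)
theorem F533884 : act 6 n225989 = n224639 := d10_2 (iv6 F525950) D225989 F526046
theorem F533885 : act 7 n225989 = n225951 := d11_2 (iv7 F525951) D225989 F533639
theorem F533886 : act 5 n225989 = n225574 := d16_1 D225989 F531368 (iv5 F529469) F529468 F526299 F525943 D224617 F525951 (iv2 F525948)
theorem F533887 : act 0 n225985 = n225989 := d20_10 (iv4 D225989) F533839 F533834 (iv3 D224496) (iv1 F455139) D224637 F526036 (iv1 F525240) (iv4 F525538) D225985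
theorem F533888 : act 1 n225985 = n225989 := d15_1 (iv0 F533887) F533885 (iv2 F533882)
def n225990 : Q := act 4 n224625
theorem D225990 : act 4 n224625 = n225990 := rfl
theorem F533889 : act 2 n225990 = n225245 := d1_1 D225990 F529468 F526297
theorem F533890 : act 3 n225990 = n225128 := d5_1 D225990 F528809 (iv3 F503694) (iv4 F526305) F526304
theorem F533891 : act 6 n225990 = n225127 := d10_2 (iv6 F525985) D225990 F528804
theorem F533892 : act 7 n225990 = n225245 := d11_2 F526300 D225990 F529468
theorem F533893 : act 5 n225990 = n225798 := d16_1 D225990 F532731 (iv5 F533640) F533639 (iv5 F525303) (iv4 F533834) F533835 (iv7 F526300) F526297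
theorem F533894 : act 0 n225990 = n225574 := d18_2 D224625 D225990 F531368 (iv5 F529469) F529468 (iv0 F526302) (iv4 F531324) (iv0 F531327) F517501
theorem F533895 : act 0 n225574 = n225990 := d20_10 (iv4 D225990) (iv1 F525986) (iv4 F525972) (iv3 D224622) D224620 (iv3 F525964) F481696 F458514 (iv4 F504151) (iv3 F531367)
def n225991 : Q := act 3 n224630
theorem D225991 : act 3 n224630 = n225991 := rfl
theorem F533896 : act 2 n225991 = n225822 := d0_1 D225991 F532870 F529546 (iv3 F529537) (iv2 F529540)
theorem F533897 : act 4 n225991 = n225982 := d5_2 (iv4 F526004) D225991 F533841 F525605 (iv3 F525577)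
theorem F533898 : act 5 n225991 = n225985 := d6_2 F526005 D225991 (iv3 D225985)
theorem F533899 : act 6 n225991 = n225136 := d7_2 F526006 D225991 F528857
theorem F533900 : act 7 n225991 = n225822 := d8_2 F529543 D225991 F532870
theorem F533901 : act 0 n225991 = n224889 := d19_4 (iv1 F499610) (iv5 F525578) (iv4 F526004) D225991 (iv5 F533037) F533036 (iv3 D223067) (iv1 F438144) (iv5 F455136) (iv4 D209852) F452585 (iv1 D185317) (iv5 F159825) (iv4 F394261) F394260 (iv1 F492540) F492543 (iv4 F519494) F519495
theorem F533902 : act 0 n224889 = n225991 := d20_4 (iv4 D224888) (iv1 D211231) D211232 D224889 (iv3 D225991) F526004 F525579 (iv4 F529606) F529605 (iv1 F527433)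
def n225992 : Q := act 7 n224761
theorem D225992 : act 7 n224761 = n225992 := rfl
theorem F533903 : act 2 n225992 = n225413 := d4_1 D225992 (iv7 F531026) F531023
theorem F533904 : act 3 n225992 = n225491 := d8_1 D225992 (iv7 D225491) (iv3 F526724)
theorem F533905 : act 4 n225992 = n225898 := d11_1 D225992 F533327 F533321
theorem F533906 : act 5 n225992 = n224762 := d13_1 D225992 (iv7 D224762) D224761
theorem F533907 : act 6 n225992 = n225967 := d14_1 D225992 F533742 (iv6 D223592) (iv7 F482633) (iv6 F526725)
theorem F533908 : act 1 n225775 = n225992 := d15_1 (iv0 F532597) (iv7 D225992) (iv2 F531023)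
theorem F533909 : act 1 n225992 = n225967 := d15_1 F533908 F533742 (iv2 F532594)
def n225993 : Q := act 4 n224876
theorem D225993 : act 4 n224876 = n225993 := rfl
theorem F533910 : act 2 n225993 = n225150 := d1_1 D225993 (iv4 D225150) (iv2 F527355)
theorem F533911 : act 3 n225993 = n225933 := d5_1 D225993 (iv4 D225933) F512422 F505128 (iv3 F527356)
theorem F533912 : act 5 n225993 = n225488 := d9_2 D224876 D225993 F530892 F524839 (iv4 F457227) F457228 (iv4 F454426) D224565 (iv4 F533816) (iv5 D225978) F524512 F449156 (iv4 F222794) (iv5 F223768) (iv4 F460108)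
theorem F533913 : act 6 n225993 = n225933 := d10_2 (iv6 F527357) D225993 (iv4 D225933)
theorem F533914 : act 7 n225993 = n225151 := d11_2 (iv7 F527358) D225993 (iv4 D225151)
theorem F533915 : act 0 n225993 = n225484 := d17_0 (iv5 D225484) (iv1 F519866) (iv5 F528961) (iv4 D225156) (iv5 F470087) (iv0 D212804) D212807 (iv0 F527359) D225993
theorem F533916 : act 1 n225993 = n225162 := d18_6 D198393 F460113 (iv1 D211104) (iv4 F460108) D224876 D225993 F528977 (iv0 F505739) (iv5 D198395)
def n225994 : Q := act 3 n224885
theorem D225994 : act 3 n224885 = n225994 := rfl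
theorem F533917 : act 2 n225994 = n225985 := d0_1 D225994 (iv3 D225985) F533653 F533651 (iv2 F527411)
theorem F533918 : act 4 n225994 = n224889 := d5_2 D224885 D225994 (iv3 D224889) (iv4 D211232) (iv3 F460697)
theorem F533919 : act 5 n225994 = n225822 := d6_2 F529544 D225994 F532870
theorem F533920 : act 6 n225994 = n225823 := d7_2 (iv6 F527412) D225994 F532873
theorem F533921 : act 7 n225994 = n225985 := d8_2 (iv7 F527413) D225994 (iv3 D225985)
theorem F533922 : act 0 n225994 = n225951 := d19_4 F421842 D211227 D224885 D225994 F533640 (iv4 F532731) F532730 (iv1 F517906) (iv5 F472990) F472989 F465801 (iv1 F511303) (iv5 F512240) F512239 (iv3 F490489) (iv1 F501801) F501803 (iv4 F485608) F485611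
theorem F533923 : act 0 n225951 = n225994 := d20_4 F517861 (iv1 D223060) D223061 D225951 (iv3 D225994) (iv4 D224885) F460699 (iv4 F525595) F528765 (iv1 F528763)
def n225995 : Q := act 2 n224889
theorem D225995 : act 2 n224889 = n225995 := rfl
theorem F533924 : act 3 n225995 = n224890 := d0_2 D224889 D225995 F527435 (iv3 D224771) (iv2 F460723)
theorem F533925 : act 4 n225995 = n225985 := d1_2 F533918 D225995 (iv2 F533917)
theorem F533926 : act 6 n225995 = n225461 := d3_2 (iv6 F527434) D225995 F530743
theorem F533927 : act 7 n224889 = n225995 := d15_2 (iv0 F533901) (iv0 F533902) (iv2 D225995)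
theorem F533928 : act 0 n225822 = n225995 := d21_4 (iv5 D225096) F468834 D220109 D225822 F533926 F530745 (iv1 D222549) D222550 (iv6 F528907) F528909
theorem F533929 : act 0 n225995 = n225822 := d21_4 (iv5 D225429) (iv1 F514858) (iv5 F530745) (iv6 F533926) (iv6 D225822) (iv5 D220109) D220108 D225821 (iv6 F533540) F533542
def n225996 : Q := act 4 n224929
theorem D225996 : act 4 n224929 = n225996 := rfl
theorem F533930 : act 2 n225996 = n225940 := d1_1 D225996 (iv4 D225940) F527647
theorem F533931 : act 3 n225996 = n225726 := d5_1 D225996 (iv4 D225726) F494913 (iv4 F521465) (iv3 F527643)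
theorem F533932 : act 6 n225996 = n225824 := d10_2 (iv6 F527645) D225996 F532878
theorem F533933 : act 7 n225996 = n225940 := d11_2 F527648 D225996 (iv4 D225940)
theorem F533934 : act 5 n225996 = n225686 := d16_1 D225996 F532038 (iv5 F532489) (iv4 F532700) (iv5 D225793) (iv4 F513988) (iv5 F527644) (iv7 F527648) F527647
theorem F533935 : act 0 n225996 = n225793 := d17_0 (iv5 D225793) D225792 F532692 F523845 F510083 (iv0 F523665) F523663 F527646 D225996
theorem F533936 : act 1 n225996 = n225793 := d18_6 D225928 F533505 (iv1 F532695) (iv4 F513988) (iv5 F527644) D225996 F532700 (iv0 F533468) F533466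
def n225997 : Q := act 4 n224996
theorem D225997 : act 4 n224996 = n225997 := rfl
theorem F533937 : act 2 n225997 = n224997 := d1_1 D225997 (iv4 D224997) D224996
theorem F533938 : act 3 n225997 = n225932 := d5_1 D225997 (iv4 D225932) F528457 F528454 (iv3 F528039)
theorem F533939 : act 5 n225997 = n225472 := d9_2 (iv5 F528040) D225997 F530812 F482465 F400707 (iv5 D196447) (iv4 F219988) D209655 (iv4 F482617) (iv5 D216035) (iv4 D179812) (iv5 D85877) (iv4 F131728) D179798 D216020
theorem F533940 : act 7 n225997 = n225160 := d11_2 (iv7 F528041) D225997 F528971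
theorem F533941 : act 0 n225997 = n225154 := d17_0 F528952 (iv1 F530853) (iv5 F533535) F533534 F512426 (iv0 F484807) (iv5 F525693) F528043 D225997
theorem F533942 : act 1 n225997 = n225161 := d18_6 F501102 F427294 (iv1 F400711) D216020 (iv5 F528040) D225997 F528974 F528941 F528940
def n225998 : Q := act 6 n224996
theorem D225998 : act 6 n224996 = n225998 := rfl
theorem F533943 : act 2 n225998 = n224998 := d3_1 D225998 (iv6 D224998) D224996
theorem F533944 : act 3 n225998 = n225001 := d7_1 D225998 F528055 (iv3 F528039)
theorem F533945 : act 7 n225998 = n224998 := d14_2 (iv7 F528041) D225998 (iv6 D224998) F463858 (iv6 F525684)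
theorem F533946 : act 0 n225998 = n225998 := d21_4 F470089 F482577 (iv5 F528040) D225998 (iv6 D225998) F528040 F482576 D221170 F507554 F505739
def n225999 : Q := act 6 n224997
theorem D225999 : act 6 n224997 = n225999 := rfl
theorem F533947 : act 3 n225999 = n225487 := d7_1 D225999 (iv6 F533814) F533813
theorem F533948 : act 4 n225999 = n224998 := d10_1 D225999 (iv6 D224998) D224997
theorem F533949 : act 5 n225999 = n225486 := d12_1 D225999 F530886 F520224 (iv6 F482619) (iv5 F528045)
def n226000 : Q := act 5 n224999
theorem D226000 : act 5 n224999 = n226000 := rfl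
theorem F533950 : act 2 n226000 = n225519 := d2_1 D226000 F532800 F532795
theorem F533951 : act 3 n226000 = n225963 := d6_1 D226000 F533715 (iv3 F528051)
theorem F533952 : act 4 n226000 = n225606 := d9_1 D226000 F531556 (iv4 D225207) (iv5 D213677) D213676 D225206 F529239 (iv5 F532115) (iv4 D225699) (iv5 F493377) F493376 (iv5 D213678) (iv4 F438390) D223987 (iv4 F528048)
theorem F533953 : act 6 n226000 = n225943 := d12_2 (iv6 F528049) D226000 (iv5 D225943) (iv6 D222511) D222510
theorem F533954 : act 7 n226000 = n225520 := d13_2 F528050 D226000 F531046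
theorem F533955 : act 0 n226000 = n225518 := d17_2 D224999 D226000 F531043 (iv4 D225147) (iv5 D213323) D213321 (iv5 F519345) (iv0 F525672) F525670
theorem F533956 : act 1 n226000 = n225514 := d17_6 F467580 (iv5 F502110) F502112 D223987 (iv4 F528048) D226000 F531032 (iv0 D225165) F470102
def n226001 : Q := act 5 n225075
theorem D226001 : act 5 n225075 = n226001 := rfl
theorem F533957 : act 2 n226001 = n225813 := d2_1 D226001 F532816 (iv2 F528487)
theorem F533958 : act 3 n226001 = n225699 := d6_1 D226001 F532115 (iv3 F528488)
theorem F533959 : act 4 n226001 = n225635 := d9_1 D226001 F531726 F491386 (iv5 F388264) D220098 F502110 (iv4 F528035) (iv5 F531553) F531552 F486886 F384593 F375305 (iv4 F386770) D219943 (iv4 F528485)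
theorem F533960 : act 6 n226001 = n225938 := d12_2 F528486 D226001 F533561 F513836 (iv5 F501301)
theorem F533961 : act 7 n226001 = n225961 := d13_2 (iv7 F528484) D226001 (iv5 D225961)
theorem F533962 : act 0 n226001 = n225522 := d17_2 (iv1 F528483) D226001 (iv5 F533788) F533787 (iv5 D224993) F469922 F469923 F510858 (iv4 F519343)
theorem F533963 : act 1 n226001 = n225521 := d17_6 F528061 (iv5 D223987) F438391 D219943 (iv4 F528485) D226001 F531050 (iv0 F522425) (iv4 F528059)
def n226002 : Q := act 3 n225116
theorem D226002 : act 3 n225116 = n226002 := rfl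
theorem F533964 : act 2 n226002 = n225850 := d0_1 D226002 F533035 (iv2 F526784) F526785 (iv2 F528734)
theorem F533965 : act 4 n226002 = n225254 := d5_2 D225116 D226002 (iv3 D225254) (iv4 D213981) (iv3 F469328)
theorem F533966 : act 5 n226002 = n225995 := d6_2 (iv5 F528735) D226002 F533924
theorem F533967 : act 6 n226002 = n225835 := d7_2 F528739 D226002 F532938
theorem F533968 : act 7 n226002 = n225850 := d8_2 (iv7 F528736) D226002 F533035
theorem F533969 : act 0 n226002 = n225798 := d19_4 (iv1 F428259) D213174 D225116 D226002 (iv5 F533893) (iv4 D225990) (iv3 F526304) F526308 F503704 (iv4 F504239) F504237 (iv1 F480686) (iv5 D213781) (iv4 D155829) (iv3 D74125) (iv1 F106022) F106020 (iv4 F188675) (iv3 F428254)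
theorem F533970 : act 0 n225798 = n226002 := d20_4 F467299 F454090 (iv4 F517904) (iv3 F532730) (iv3 D226002) (iv4 D225116) F469330 D225093 F528595 F472721
def n226003 : Q := act 0 n225150
theorem D226003 : act 0 n225150 = n226003 := rfl
theorem F533971 : act 5 n226003 = n225278 := d17_1 D226003 F529672 D225399 F530395 F528940 (iv0 F501116) D225072 F528474 D225150
theorem F533972 : act 4 n226003 = n225163 := d18_1 D226003 (iv1 F528983) D225931 F533523 F524516 F449368 D216023 F504167 (iv5 F528937)
theorem F533973 : act 1 n225151 = n226003 := d15_0 (iv0 D226003) (iv7 F533815) F533812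
theorem F533974 : act 3 n225931 = n226003 := d19_19 (iv1 F533973) F528938 F524538 F450706 F487315 (iv5 F489617) F489616 F484732 (iv1 F372012) (iv5 F471226) F471227 (iv3 F454019) D224541 F525540 (iv4 F507018) F512410 (iv1 D222109) D222110 D225931
theorem F533975 : act 6 n225931 = n226003 := d21_3 (iv5 F533031) F533033 (iv5 F533523) (iv1 F533973) F528939 F528475 F526735 (iv5 F528970) (iv6 F528973) F528976
theorem F533976 : act 2 n226003 = n225484 := d3_1 F533975 F530879 (iv2 F533521)
theorem F533977 : act 7 n226003 = n225162 := d14_2 (iv7 F533522) F533975 (iv6 D225162) F528975 (iv6 F529046)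
def n226004 : Q := act 1 n225150
theorem D226004 : act 1 n225150 = n226004 := rfl
theorem F533978 : act 1 n226004 = n225151 := d15_1 D226004 (iv7 F533914) F533910
theorem F533979 : act 7 n226004 = n225484 := d15_2 (iv0 D226003) D226004 (iv2 F533976)
theorem F533980 : act 5 n226004 = n225398 := d17_7 F432512 F450695 (iv1 F450702) (iv5 F504160) (iv4 F504163) (iv5 F528937) D226004 (iv0 D225398) F478841
theorem F533981 : act 4 n226004 = n225155 := d17_9 F528958 F512426 (iv1 F512407) (iv5 F525687) (iv4 F530856) (iv5 D225480) F504167 (iv5 F528937) D226004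
theorem F533982 : act 3 n225158 = n226004 := d19_19 (iv1 D226004) F528937 F504163 F504161 D225477 F530841 F492752 (iv3 D217698) (iv1 F475817) (iv5 F527284) (iv4 D224863) F471705 (iv1 F492864) F492861 F466522 D221796 F510845 F510847 D225158
theorem F533983 : act 6 n225154 = n226004 := d21_3 F533523 F524517 (iv5 F528952) (iv1 D226004) (iv6 F530855) (iv5 D225480) F524540 (iv5 F528938) F528939 (iv1 F533524)
theorem F533984 : act 2 n226004 = n225162 := d3_1 F533983 (iv6 D225162) (iv2 F528951)
def n226005 : Q := act 4 n225153
theorem D226005 : act 4 n225153 = n226005 := rfl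
theorem F533985 : act 2 n226005 = n225158 := d1_1 D226005 (iv4 D225158) F528950
theorem F533986 : act 3 n226005 = n225934 := d5_1 D226005 F533534 F512425 (iv4 F510344) F528949
theorem F533987 : act 5 n226005 = n225965 := d9_2 (iv5 F528948) D226005 F533728 F519869 F484749 (iv5 F505727) (iv4 F505729) (iv5 F528940) (iv4 F530395) (iv5 D225399) F478841 (iv5 F366927) (iv4 F478926) (iv5 F505721) (iv4 F510339)
theorem F533988 : act 7 n226005 = n225156 := d11_2 (iv7 F528947) D226005 (iv4 D225156)
theorem F533989 : act 0 n226005 = n225932 := d17_0 F533527 (iv1 F530895) (iv5 F533912) (iv4 D225993) (iv5 D224876) F460111 D213358 D225153 D226005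
theorem F533990 : act 1 n226005 = n225933 := d18_6 F505122 F505119 D220823 (iv4 F510339) (iv5 F528948) D226005 (iv4 D225933) (iv0 F525685) (iv5 D224568)
def n226006 : Q := act 6 n225153
theorem D226006 : act 6 n225153 = n226006 := rfl
theorem F533991 : act 2 n226006 = n225159 := d3_1 D226006 (iv6 D225159) F528950
theorem F533992 : act 3 n226006 = n225165 := d7_1 D226006 F528991 F528949
theorem F533993 : act 7 n226006 = n225159 := d14_2 (iv7 F528947) D226006 (iv6 D225159) F528945 (iv6 F528943)
theorem F533994 : act 0 n226006 = n225159 := d21_4 (iv5 D223375) F510342 (iv5 F528948) D226006 (iv6 D225159) (iv5 F510847) (iv1 D212805) D212807 (iv6 F470083) (iv1 F519137)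
theorem F533995 : act 0 n225159 = n226006 := d21_4 (iv5 D225913) F510845 F510847 D225159 (iv6 D226006) F528948 F510341 D225072 F528472 (iv1 F533420)
def n226007 : Q := act 3 n225154
theorem D226007 : act 3 n225154 = n226007 := rfl
theorem F533996 : act 4 n226007 = n225159 := d5_2 D225154 D226007 F528969 F519275 (iv3 F470085)
theorem F533997 : act 5 n226007 = n225779 := d6_2 (iv5 F528952) D226007 F532615
theorem F533998 : act 6 n226007 = n225158 := d7_2 (iv6 F533983) D226007 F533982
def n226008 : Q := act 5 n225159
theorem D226008 : act 5 n225159 = n226008 := rfl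
theorem F533999 : act 3 n226008 = n225958 := d6_1 D226008 (iv5 D225958) (iv3 F528969)
theorem F534000 : act 6 n226008 = n225900 := d12_2 D225159 D226008 F533335 F520804 F510847
def n226009 : Q := act 3 n225177
theorem D226009 : act 3 n225177 = n226009 := rfl
theorem F534001 : act 2 n226009 = n225779 := d0_1 D226009 F532615 (iv2 F504157) (iv3 F533029) F533028
theorem F534002 : act 4 n226009 = n226008 := d5_2 D225177 D226009 F533999 F533684 F529048
theorem F534003 : act 6 n226009 = n225778 := d7_2 (iv6 F533027) D226009 (iv3 F533021)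
theorem F534004 : act 7 n226009 = n225779 := d8_2 (iv7 F529053) D226009 F532615
theorem F534005 : act 0 n226009 = n226009 := d20_4 F504163 F504165 D225177 D226009 (iv3 D226009) (iv4 D225177) F470448 (iv4 F524538) F524537 F504166
def n226010 : Q := act 6 n225422
theorem D226010 : act 6 n225422 = n226010 := rfl
theorem F534006 : act 2 n226010 = n225804 := d3_1 D226010 (iv6 D225804) (iv2 F530517)
theorem F534007 : act 3 n226010 = n225785 := d7_1 D226010 F532652 (iv3 F530522)
theorem F534008 : act 4 n226010 = n225423 := d10_1 D226010 (iv6 D225423) D225422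
theorem F534009 : act 5 n226010 = n225885 := d12_1 D226010 (iv6 D225885) F507491 (iv6 F481914) (iv5 F530519)
theorem F534010 : act 7 n226010 = n225784 := d14_2 (iv7 F530518) D226010 F532646 (iv7 F526340) F526339
theorem F534011 : act 0 n226010 = n225511 := d21_4 (iv5 F507037) F507038 (iv5 F530519) D226010 (iv6 F533239) F533238 (iv1 F507387) (iv5 F510820) (iv6 F530464) (iv1 D225412)
theorem F534012 : act 0 n225510 = n226010 := d21_4 (iv5 D200195) (iv1 F396798) (iv5 F507109) (iv6 F531015) (iv6 D226010) F530519 F510576 (iv5 F510818) (iv6 D221789) (iv1 F415481)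
def n226011 : Q := act 6 n225425
theorem D226011 : act 6 n225425 = n226011 := rfl
theorem F534013 : act 2 n226011 = n225689 := d3_1 D226011 F532054 (iv2 F530534)
theorem F534014 : act 3 n226011 = n225426 := d7_1 D226011 (iv6 D225426) (iv3 F530535)
theorem F534015 : act 4 n226011 = n225909 := d10_1 D226011 F533394 (iv4 F530536)
theorem F534016 : act 5 n226011 = n225687 := d12_1 D226011 F532043 (iv5 D220346) (iv6 F479482) D225425
theorem F534017 : act 7 n226011 = n225690 := d14_2 (iv7 F530537) D226011 F532061 (iv7 F500730) D219821
theorem F534018 : act 0 n226011 = n225771 := d21_4 (iv5 F504485) F504487 D225425 D226011 F532574 F527110 (iv1 F469069) D222863 (iv6 F525756) F525759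
theorem F534019 : act 0 n225806 = n226011 := d21_4 F532661 F528657 (iv5 F531078) (iv6 F532774) (iv6 D226011) (iv5 D225425) (iv1 F504511) F504509 D225640 (iv1 F532664)
def n226012 : Q := act 3 n225471
theorem D226012 : act 3 n225471 = n226012 := rfl
theorem F534020 : act 2 n226012 = n225486 := d0_1 D226012 (iv3 D225486) (iv2 F526731) F526732 F530807
theorem F534021 : act 4 n226012 = n225918 := d5_2 (iv4 F530805) D226012 F533443 (iv4 F533458) F533457
theorem F534022 : act 6 n226012 = n225489 := d7_2 (iv6 F530806) D226012 F530898
theorem F534023 : act 7 n226012 = n225486 := d8_2 (iv7 F530808) D226012 (iv3 D225486)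
theorem F534024 : act 0 n226012 = n225486 := d19_4 D208656 (iv5 F519823) (iv4 F530805) D226012 (iv5 F533949) F533948 F528047 D224999 D226000 F533952 F531558 (iv1 F530834) (iv5 D225475) (iv4 F482488) (iv3 F501814) F501818 (iv5 F475318) F475317 F450345
theorem F534025 : act 0 n225486 = n226012 := d20_4 F533728 (iv1 F519871) (iv4 F518310) D225486 (iv3 D226012) F530805 F519825 (iv4 F530398) F530397 (iv1 F533731)
def n226013 : Q := act 5 n225471
theorem D226013 : act 5 n225471 = n226013 := rfl
theorem F534026 : act 2 n226013 = n225485 := d2_1 D226013 (iv5 D225485) F530807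
theorem F534027 : act 4 n226013 = n225913 := d9_1 D226013 (iv5 D225913) F510843 F457519 (iv4 F457521) (iv5 F458168) (iv4 F526733) (iv5 F528475) (iv4 D225073) (iv5 D212807) (iv4 F237856) (iv5 F457511) F457509 (iv5 F519823) (iv4 F530805)
theorem F534028 : act 6 n226013 = n225932 := d12_2 (iv6 F530806) D226013 F533527 (iv6 D223555) (iv5 F519819)
theorem F534029 : act 7 n226013 = n225487 := d13_2 (iv7 F530808) D226013 (iv5 D225487)
theorem F534030 : act 0 n226013 = n225934 := d17_2 D225471 D226013 F533535 (iv4 D225479) F482585 (iv0 F449615) (iv5 F482457) (iv0 D215991) D215992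
theorem F534031 : act 1 n226013 = n225931 := d17_6 (iv1 F504172) F449156 D208656 (iv5 F519823) (iv4 F530805) D226013 F533523 (iv0 F533033) F533030
def n226014 : Q := act 4 n225486
theorem D226014 : act 4 n225486 = n226014 := rfl
theorem F534032 : act 2 n226014 = n225918 := d1_1 D226014 (iv4 F534021) F534020
theorem F534033 : act 3 n226014 = n225919 := d5_1 D226014 F533445 F529273 (iv4 F518310) D225486
theorem F534034 : act 6 n226014 = n225916 := d10_2 (iv6 F530886) D226014 F533433
theorem F534035 : act 7 n226014 = n225918 := d11_2 F534023 D226014 (iv4 F534021)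
theorem F534036 : act 0 n226014 = n226008 := d20_1 D226014 (iv4 F534002) (iv3 D226009) F529054 F523658 (iv4 D223518) F519826 (iv4 F530805) D226012 F534024
theorem F534037 : act 5 n225998 = n226014 := d19_1 F533946 (iv4 D226014) (iv3 D225486) (iv1 D216033) D216035 F482617 F454516 (iv1 F227544) (iv5 D144711) (iv4 D67815) (iv3 F84914) (iv1 F111385) F45647 (iv4 F78978) (iv3 F167194) D197349 D221797 (iv4 F528054) (iv3 F533944)
theorem F534038 : act 0 n226008 = n226014 := d20_10 (iv4 D226014) F534025 F534021 F533443 F519277 F531051 (iv4 D225521) (iv1 F529052) (iv4 F533684) (iv3 F533999)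
def n226015 : Q := act 6 n225513
theorem D226015 : act 6 n225513 = n226015 := rfl
theorem F534039 : act 2 n226015 = n226008 := d3_1 D226015 F534000 (iv2 F533338)
theorem F534040 : act 3 n226015 = n225514 := d7_1 D226015 (iv6 D225514) D225513
theorem F534041 : act 4 n226015 = n225779 := d10_1 D226015 (iv6 D225779) (iv4 F531027)
theorem F534042 : act 5 n226015 = n226006 := d12_1 D226015 (iv6 D226006) F528948 (iv6 F533355) F533354
theorem F534043 : act 7 n226015 = n226008 := d14_2 F531249 D226015 F534000 (iv7 F533750) F533747
theorem F534044 : act 0 n226015 = n225918 := d21_4 (iv5 D225925) F533358 F533354 D226015 (iv6 D225918) F510931 (iv1 F510898) D225914 F533422 (iv1 F533489)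
theorem F534045 : act 0 n225918 = n226015 := d21_4 (iv5 D225902) F509680 (iv5 F510931) D225918 (iv6 D226015) (iv5 F533354) F533357 (iv5 F530417) F530415 (iv1 F533351)
def n226016 : Q := act 4 n225515
theorem D226016 : act 4 n225515 = n226016 := rfl
theorem F534046 : act 2 n226016 = n225521 := d1_1 D226016 (iv4 D225521) F531035
theorem F534047 : act 3 n226016 = n225912 := d5_1 D226016 F533412 (iv3 D225683) (iv4 F501560) (iv3 F531034)
theorem F534048 : act 5 n226016 = n225881 := d9_2 (iv5 F531033) D226016 F533227 F519345 (iv4 F469912) (iv5 F492956) (iv4 F492961) D224403 D225979 F533823 (iv4 D224994) (iv5 D211986) (iv4 F388255) (iv5 F492964) (iv4 F501558)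
theorem F534049 : act 6 n226016 = n225882 := d10_2 F532918 D226016 F533231
theorem F534050 : act 7 n226016 = n225522 := d11_2 (iv7 F531037) D226016 (iv4 D225522)
theorem F534051 : act 0 n226016 = n225813 := d17_0 F532816 (iv1 D223415) D223416 (iv4 F532129) (iv5 D225701) (iv0 F491567) F490259 F531036 D226016
theorem F534052 : act 1 n226016 = n225961 := d18_6 F529258 F514097 F492965 (iv4 F501558) (iv5 F531033) D226016 F533704 F532111 F532106
def n226017 : Q := act 3 n225971
theorem D226017 : act 3 n225971 = n226017 := rfl
theorem F534053 : act 2 n226017 = n226007 := d0_1 D226017 (iv3 D226007) F528951 D225161 (iv2 F533765)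
theorem F534054 : act 4 n226017 = n226006 := d5_2 D225971 D226017 F533992 F528990 (iv3 F521757)
theorem F534055 : act 5 n226017 = n226009 := d6_2 (iv5 F533766) D226017 (iv3 D226009)
theorem F534056 : act 6 n226017 = n226005 := d7_2 (iv6 F533767) D226017 F533986
theorem F534057 : act 7 n226017 = n226007 := d8_2 (iv7 F533768) D226017 (iv3 D226007)
theorem F534058 : act 0 n226017 = n225999 := d19_4 F436707 D223872 D225971 D226017 F533949 D226014 F534033 (iv1 F533701) F533698 (iv4 F519325) F519324 (iv1 F464146) F464143 F396859 F324657 F111273 F324694 D155913 (iv3 F244901)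
theorem F534059 : act 0 n225999 = n226017 := d20_4 (iv4 D225150) (iv1 F528474) (iv4 F530888) (iv3 F533947) (iv3 D226017) (iv4 D225971) F521760 D225158 F533982 (iv1 D226004)
def n226018 : Q := act 6 n225997
theorem D226018 : act 6 n225997 = n226018 := rfl
theorem F534060 : act 2 n226018 = n225999 := d3_1 D226018 (iv6 D225999) (iv2 F533937)
theorem F534061 : act 3 n226018 = n226013 := d7_1 D226018 F534028 (iv3 F533938)
theorem F534062 : act 4 n226018 = n225998 := d10_1 D226018 (iv6 D225998) D225997
theorem F534063 : act 5 n226018 = n226012 := d12_1 D226018 F534022 F530897 (iv6 F530813) (iv5 F533939)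
theorem F534064 : act 7 n226018 = n225999 := d14_2 (iv7 F533940) D226018 (iv6 D225999) F528044 F528973
theorem F534065 : act 0 n226018 = n226007 := d21_4 (iv5 D225485) (iv1 F530815) (iv5 F533939) D226018 F533998 (iv5 F530399) (iv1 F530401) D225484 F530879 (iv1 F530885)
theorem F534066 : act 0 n226007 = n226018 := d21_4 F528978 (iv1 F530402) F530399 (iv6 F533998) (iv6 D226018) F533939 (iv1 F530814) D225487 (iv6 F533814) F533817

end Cfsg.Agent.Helper17.ONTC
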