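import Cfsg.Agent.Helper17.ONTC.Facts6

set_option autoImplicit false
set_option linter.all false

noncomputable section

namespace Cfsg.Agent.Helper17.ONTC

theorem F44975 : act 5 n27852 = n17832 := d17_3 F30436 D13285 D27852 F28996 F28941 (iv0 F28942) (iv5 D8908) (iv0 D3970) (iv4 F5923)
theorem F44976 : act 1 n13293 = n27852 := d15_0 (iv0 D27852) F22083 (iv2 F22095)
theorem F44977 : act 2 n18755 = n27852 := d2_3 F44975 (iv2 F30532) (iv5 F30060)
theorem F44978 : act 7 n18756 = n27852 := d15_2 (iv0 D18755) D18756 (iv2 F44977)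
def n27853 : Q := act 1 n13285
theorem D27853 : act 1 n13285 = n27853 := rfl
theorem F44979 : act 1 n27853 = n13293 := d15_1 D27853 F22096 (iv2 F22082)
theorem F44980 : act 7 n27853 = n18755 := d15_2 (iv0 D27852) D27853 F44977
theorem F44981 : act 2 n18756 = n27853 := d4_3 F44980 F44977 (iv7 F44978)
def n27854 : Q := act 4 n13285
theorem D27854 : act 4 n13285 = n27854 := rfl
theorem F44982 : act 2 n27854 = n18757 := d1_1 D27854 (iv4 D18757) (iv2 F22082)
theorem F44983 : act 7 n27854 = n18803 := d11_2 (iv7 F22083) D27854 (iv4 D18803)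
def n27855 : Q := act 6 n13285
theorem D27855 : act 6 n13285 = n27855 := rfl
theorem F44984 : act 2 n27855 = n18758 := d3_1 D27855 (iv6 D18758) (iv2 F22082)
def n27856 : Q := act 3 n13286
theorem D27856 : act 3 n13286 = n27856 := rfl
theorem F44985 : act 7 n27856 = n18809 := d8_2 (iv7 F22085) D27856 (iv3 D18809)
def n27857 : Q := act 5 n13286
theorem D27857 : act 5 n13286 = n27857 := rfl
theorem F44986 : act 2 n27857 = n18771 := d2_1 D27857 (iv5 D18771) (iv2 F22084)
theorem F44987 : act 7 n27857 = n18810 := d13_2 (iv7 F22085) D27857 (iv5 D18810)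
theorem F44988 : act 1 n27857 = n15708 := d17_6 (iv1 D6066) F4075 D2641 D6303 D13286 D27857 (iv5 D15708) (iv0 F30439) (iv4 D12833)
def n27858 : Q := act 2 n13287
theorem D27858 : act 2 n13287 = n27858 := rfl
theorem F44989 : act 7 n13288 = n27858 := d15_2 (iv0 D13287) D13288 (iv2 D27858)
def n27859 : Q := act 3 n13287
theorem D27859 : act 3 n13287 = n27859 := rfl
def n27860 : Q := act 4 n13287
theorem D27860 : act 4 n13287 = n27860 := rfl
def n27861 : Q := act 5 n13287
theorem D27861 : act 5 n13287 = n27861 := rfl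
def n27863 : Q := act 7 n13287
theorem D27863 : act 7 n13287 = n27863 := rfl
theorem F44990 : act 2 n27863 = n13288 := d4_1 D27863 F44989 (iv2 D27858)
def n27864 : Q := act 3 n13288
theorem D27864 : act 3 n13288 = n27864 := rfl
def n27865 : Q := act 4 n13288
theorem D27865 : act 4 n13288 = n27865 := rfl
def n27866 : Q := act 5 n13288
theorem D27866 : act 5 n13288 = n27866 := rfl
def n27867 : Q := act 6 n13288
theorem D27867 : act 6 n13288 = n27867 := rfl
def n27868 : Q := act 4 n13289
theorem D27868 : act 4 n13289 = n27868 := rfl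
theorem F44991 : act 2 n27868 = n13290 := d1_1 D27868 (iv4 D13290) D13289
theorem F44992 : act 7 n27868 = n18726 := d11_2 (iv7 F22088) D27868 (iv4 D18726)
theorem F44993 : act 1 n18730 = n27868 := d15_1 D18730 F44992 F29970
theorem F44994 : act 1 n27868 = n18729 := d15_0 (iv0 D18729) (iv7 F22092) (iv2 F44991)
def n27869 : Q := act 6 n13289
theorem D27869 : act 6 n13289 = n27869 := rfl
theorem F44995 : act 2 n27869 = n13291 := d3_1 D27869 (iv6 D13291) D13289
theorem F44996 : act 3 n27869 = n18786 := d7_1 D27869 (iv6 D18786) (iv3 F22087)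
def n27870 : Q := act 0 n13290
theorem D27870 : act 0 n13290 = n27870 := rfl
theorem F44997 : act 1 n18726 = n27870 := d15_0 (iv0 D27870) F22092 (iv2 F29970)
def n27871 : Q := act 1 n13290
theorem D27871 : act 1 n13290 = n27871 := rfl
theorem F44998 : act 1 n27871 = n18726 := d15_1 D27871 (iv7 F44992) F44991
def n27872 : Q := act 3 n13290
theorem D27872 : act 3 n13290 = n27872 := rfl
theorem F44999 : act 4 n27872 = n13292 := d5_2 D13290 D27872 (iv3 D13292) (iv4 D6306) D6305
theorem F45000 : act 7 n27872 = n18731 := d8_2 (iv7 F22092) D27872 (iv3 D18731)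
def n27873 : Q := act 5 n13290
theorem D27873 : act 5 n13290 = n27873 := rfl
theorem F45001 : act 7 n27873 = n18732 := d13_2 (iv7 F22092) D27873 (iv5 D18732)
def n27874 : Q := act 6 n13290
theorem D27874 : act 6 n13290 = n27874 := rfl
theorem F45002 : act 4 n27874 = n13291 := d10_1 D27874 (iv6 D13291) D13290
def n27875 : Q := act 0 n13291
theorem D27875 : act 0 n13291 = n27875 := rfl
def n27876 : Q := act 1 n13291
theorem D27876 : act 1 n13291 = n27876 := rfl
def n27877 : Q := act 0 n13292
theorem D27877 : act 0 n13292 = n27877 := rfl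
theorem F45003 : act 1 n18752 = n27877 := d15_0 (iv0 D27877) F22094 D18752
def n27878 : Q := act 1 n13292
theorem D27878 : act 1 n13292 = n27878 := rfl
def n27879 : Q := act 2 n13292
theorem D27879 : act 2 n13292 = n27879 := rfl
theorem F45004 : act 3 n27879 = n18800 := d0_2 D13292 D27879 (iv2 D18800) (iv3 D8809) (iv2 F13700)
theorem F45005 : act 7 n27879 = n18752 := d4_2 (iv7 F22094) D27879 (iv2 D18752)
theorem F45006 : act 1 n27879 = n18750 := d15_0 (iv0 D18750) (iv7 F22094) D27879
theorem F45007 : act 1 n27878 = n18752 := d15_1 D27878 (iv7 F45005) (iv2 D27879)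
theorem F45008 : act 1 n18751 = n27879 := d15_1 D18751 F45005 (iv2 D18752)
def n27880 : Q := act 5 n13292
theorem D27880 : act 5 n13292 = n27880 := rfl
theorem F45009 : act 3 n27880 = n13293 := d6_1 D27880 (iv5 D13293) D13292
theorem F45010 : act 7 n27880 = n18753 := d13_2 (iv7 F22094) D27880 (iv5 D18753)
def n27881 : Q := act 6 n13292
theorem D27881 : act 6 n13292 = n27881 := rfl
theorem F45011 : act 3 n27881 = n13294 := d7_1 D27881 (iv6 D13294) D13292
def n27882 : Q := act 4 n13293
theorem D27882 : act 4 n13293 = n27882 := rfl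
theorem F45012 : act 2 n27882 = n18803 := d1_1 D27882 (iv4 D18803) (iv2 F22095)
theorem F45013 : act 7 n27882 = n18757 := d11_2 (iv7 F22096) D27882 (iv4 D18757)
def n27883 : Q := act 6 n13293
theorem D27883 : act 6 n13293 = n27883 := rfl
theorem F45014 : act 2 n27883 = n18804 := d3_1 D27883 (iv6 D18804) (iv2 F22095)
def n27884 : Q := act 5 n13294
theorem D27884 : act 5 n13294 = n27884 := rfl
theorem F45015 : act 2 n27884 = n18807 := d2_1 D27884 (iv5 D18807) (iv2 F22097)
theorem F45016 : act 0 n27884 = n17729 := d17_2 (iv1 F41735) D27884 (iv5 D17729) (iv4 D8339) D8340 (iv0 F28780) F28778 F30381 (iv4 F28227)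
theorem F45017 : act 1 n27884 = n17712 := d17_6 D6217 (iv5 F13688) F13689 F13671 (iv4 F22098) D27884 (iv5 D17712) (iv0 F41731) F9279
def n27885 : Q := act 4 n13295
theorem D27885 : act 4 n13295 = n27885 := rfl
theorem F45018 : act 2 n27885 = n18813 := d1_1 D27885 (iv4 D18813) (iv2 F22099)
theorem F45019 : act 7 n27885 = n13308 := d11_2 (iv7 F22100) D27885 (iv4 D13308)
theorem F45020 : act 1 n27885 = n18859 := d18_6 D8916 (iv4 F41667) (iv1 F9360) (iv4 F9815) D13295 D27885 F41677 (iv0 D17352) F12891
theorem F45021 : act 1 n18860 = n27885 := d15_1 D18860 F45019 F22108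
def n27887 : Q := act 1 n13297
theorem D27887 : act 1 n13297 = n27887 := rfl
def n27888 : Q := act 2 n13297
theorem D27888 : act 2 n13297 = n27888 := rfl
theorem F45023 : act 3 n27888 = n18822 := d0_2 D13297 D27888 (iv2 D18822) (iv3 D8818) (iv2 F44656)
theorem F45024 : act 7 n27888 = n18841 := d4_2 (iv7 F44660) D27888 (iv2 D18841)
theorem F45025 : act 1 n27888 = n18839 := d15_0 (iv0 D18839) (iv7 F44660) D27888
theorem F45026 : act 1 n27887 = n18841 := d15_1 D27887 (iv7 F45024) (iv2 D27888)
theorem F45027 : act 1 n18840 = n27888 := d15_1 D18840 F45024 (iv2 D18841)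
def n27889 : Q := act 4 n13297
theorem D27889 : act 4 n13297 = n27889 := rfl
theorem F45028 : act 7 n27889 = n18842 := d11_2 (iv7 F44660) D27889 (iv4 D18842)
def n27890 : Q := act 5 n13297
theorem D27890 : act 5 n13297 = n27890 := rfl
theorem F45029 : act 3 n27890 = n13299 := d6_1 D27890 (iv5 D13299) D13297
theorem F45030 : act 7 n27890 = n18843 := d13_2 (iv7 F44660) D27890 (iv5 D18843)
def n27891 : Q := act 6 n13297
theorem D27891 : act 6 n13297 = n27891 := rfl
theorem F45031 : act 3 n27891 = n13300 := d7_1 D27891 (iv6 D13300) D13297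
def n27892 : Q := act 1 n13299
theorem D27892 : act 1 n13299 = n27892 := rfl
theorem F45032 : act 1 n27892 = n13304 := d15_1 D27892 F44654 (iv2 F44663)
theorem F45033 : act 7 n27892 = n18528 := d15_2 F29150 D27892 F29884
theorem F45034 : act 5 n26834 = n27892 := d21_0 (iv1 D27892) (iv5 D13299) D13300 F29882 (iv6 D8707) D8706 (iv1 F29706) (iv5 F43250) F43251 (iv1 F43212)
theorem F45035 : act 2 n27892 = n18833 := d2_1 F45034 (iv5 F30090) (iv2 F43215)
theorem F45036 : act 6 n27892 = n18872 := d12_2 F43214 F45034 (iv5 F44782) (iv6 D27745) F29890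
def n27893 : Q := act 4 n13299
theorem D27893 : act 4 n13299 = n27893 := rfl
theorem F45037 : act 2 n27893 = n18834 := d1_1 D27893 (iv4 D18834) (iv2 F44663)
theorem F45038 : act 7 n27893 = n18848 := d11_2 (iv7 F44664) D27893 (iv4 D18848)
def n27894 : Q := act 6 n13299
theorem D27894 : act 6 n13299 = n27894 := rfl
theorem F45039 : act 2 n27894 = n18835 := d3_1 D27894 (iv6 D18835) (iv2 F44663)
theorem F45040 : act 0 n27894 = n18621 := d21_4 (iv5 D6311) D6309 D13299 D27894 (iv6 D18621) D18620 (iv1 F29847) F44749 F44751 (iv1 D13307)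
def n27895 : Q := act 0 n13302
theorem D27895 : act 0 n13302 = n27895 := rfl
theorem F45041 : act 1 n18822 = n27895 := d15_0 (iv0 D27895) F44652 D18822
def n27896 : Q := act 1 n13302
theorem D27896 : act 1 n13302 = n27896 := rfl
def n27897 : Q := act 2 n13302
theorem D27897 : act 2 n13302 = n27897 := rfl
theorem F45042 : act 3 n27897 = n18841 := d0_2 D13302 D27897 (iv2 D18841) (iv3 D8823) F44651
theorem F45043 : act 7 n27897 = n18822 := d4_2 (iv7 F44652) D27897 (iv2 D18822)
theorem F45044 : act 1 n27897 = n18820 := d15_0 (iv0 D18820) (iv7 F44652) D27897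
theorem F45045 : act 1 n27896 = n18822 := d15_1 D27896 (iv7 F45043) (iv2 D27897)
def n27898 : Q := act 4 n13302
theorem D27898 : act 4 n13302 = n27898 := rfl
theorem F45047 : act 7 n27898 = n18823 := d11_2 (iv7 F44652) D27898 (iv4 D18823)
def n27899 : Q := act 5 n13302
theorem D27899 : act 5 n13302 = n27899 := rfl
theorem F45048 : act 3 n27899 = n13304 := d6_1 D27899 (iv5 D13304) D13302
theorem F45049 : act 7 n27899 = n18824 := d13_2 (iv7 F44652) D27899 (iv5 D18824)
def n27900 : Q := act 6 n13302
theorem D27900 : act 6 n13302 = n27900 := rfl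
theorem F45050 : act 3 n27900 = n13305 := d7_1 D27900 (iv6 D13305) D13302
def n27901 : Q := act 4 n13304
theorem D27901 : act 4 n13304 = n27901 := rfl
theorem F45051 : act 2 n27901 = n18848 := d1_1 D27901 (iv4 D18848) (iv2 F44653)
theorem F45052 : act 7 n27901 = n18834 := d11_2 (iv7 F44654) D27901 (iv4 D18834)
def n27902 : Q := act 3 n13306
theorem D27902 : act 3 n13306 = n27902 := rfl
theorem F45053 : act 7 n27902 = n18856 := d8_2 (iv7 F43195) D27902 (iv3 D18856)
def n27903 : Q := act 4 n13306
theorem D27903 : act 4 n13306 = n27903 := rfl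
theorem F45054 : act 2 n27903 = n18853 := d1_1 D27903 (iv4 D18853) (iv2 F43194)
theorem F45055 : act 7 n27903 = n18857 := d11_2 (iv7 F43195) D27903 (iv4 D18857)
theorem F45056 : act 1 n18853 = n17266 := d15_0 F43126 (iv7 F45055) F45054
def n27904 : Q := act 6 n13306
theorem D27904 : act 6 n13306 = n27904 := rfl
theorem F45057 : act 2 n27904 = n18854 := d3_1 D27904 (iv6 D18854) (iv2 F43194)
theorem F45058 : act 5 n27904 = n17381 := d12_1 D27904 (iv6 F44624) (iv5 F44622) (iv6 F43218) F43217
def n27905 : Q := act 3 n13307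
theorem D27905 : act 3 n13307 = n27905 := rfl
theorem F45059 : act 5 n27905 = n16820 := d6_2 F22107 D27905 F27575
theorem F45060 : act 7 n27905 = n18852 := d8_2 (iv7 F43154) D27905 (iv3 D18852)
def n27906 : Q := act 4 n13307
theorem D27906 : act 4 n13307 = n27906 := rfl
theorem F45061 : act 2 n27906 = n18857 := d1_1 D27906 (iv4 D18857) (iv2 F43153)
theorem F45062 : act 7 n27906 = n18853 := d11_2 (iv7 F43154) D27906 (iv4 D18853)
theorem F45063 : act 0 n27906 = n17351 := d18_2 (iv1 F22106) D27906 F28285 F12891 (iv4 F7644) D11199 F37327 F9820 D8816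
theorem F45064 : act 1 n27903 = n17351 := d15_0 (iv0 F45063) F45062 (iv2 F45054)
def n27907 : Q := act 0 n13308
theorem D27907 : act 0 n13308 = n27907 := rfl
theorem F45065 : act 4 n27907 = n17264 := d18_3 (iv1 D13307) D13308 D27907 (iv5 F43897) (iv4 F43898) (iv0 F43221) F42329 F29709 F22107
theorem F45066 : act 1 n18813 = n27907 := d15_0 (iv0 D27907) (iv7 F45019) F45018
def n27908 : Q := act 1 n13308
theorem D27908 : act 1 n13308 = n27908 := rfl
theorem F45067 : act 1 n27908 = n18813 := d15_1 D27908 F30071 (iv2 F22108)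
theorem F45068 : act 4 n27908 = n17265 := d18_7 F28955 (iv4 D7611) (iv1 D3455) (iv4 F4243) D6311 D13308 D27908 F28290 F28288
def n27909 : Q := act 3 n13308
theorem D27909 : act 3 n13308 = n27909 := rfl
theorem F45069 : act 6 n27909 = n13314 := d7_2 (iv6 F22109) D27909 (iv3 D13314)
def n27910 : Q := act 5 n13308
theorem D27910 : act 5 n13308 = n27910 := rfl
theorem F45070 : act 2 n27910 = n18862 := d2_1 D27910 (iv5 D18862) (iv2 F22108)
def n27911 : Q := act 3 n13309
theorem D27911 : act 3 n13309 = n27911 := rfl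
theorem F45071 : act 5 n27911 = n18903 := d6_2 (iv5 F22112) D27911 (iv3 D18903)
theorem F45072 : act 7 n27911 = n18866 := d8_2 (iv7 F22111) D27911 (iv3 D18866)
def n27912 : Q := act 6 n13309
theorem D27912 : act 6 n13309 = n27912 := rfl
theorem F45073 : act 2 n27912 = n18871 := d3_1 D27912 (iv6 D18871) (iv2 F22110)
theorem F45074 : act 4 n27912 = n13310 := d10_1 D27912 (iv6 D13310) D13309
def n27913 : Q := act 1 n13310
theorem D27913 : act 1 n13310 = n27913 := rfl
theorem F45075 : act 1 n27913 = n18630 := d15_1 D27913 F29901 (iv2 F22115)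
theorem F45076 : act 7 n27913 = n18542 := d15_2 (iv0 F44641) D27913 (iv2 F44639)
theorem F45077 : act 5 n18621 = n27913 := d21_0 (iv1 D27913) (iv5 F22125) (iv6 D13313) (iv1 D6313) (iv6 F9822) (iv5 D6311) D6309 D13299 D27894 F45040
theorem F45078 : act 6 n18833 = n27913 := d21_3 (iv5 F43217) (iv1 F43219) F30090 (iv1 D27913) (iv6 D13310) (iv5 D6312) (iv1 D2645) D2646 (iv6 F9822) D13306
theorem F45079 : act 2 n27913 = n18872 := d3_1 F45078 (iv6 F45036) F45035
def n27914 : Q := act 4 n13311
theorem D27914 : act 4 n13311 = n27914 := rfl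
theorem F45080 : act 7 n27914 = n16697 := d11_2 (iv7 F22117) D27914 (iv4 D16697)
theorem F45081 : act 0 n27914 = n21169 := d18_2 F30176 D27914 (iv4 D21169) (iv5 D10088) F6660 (iv0 F16806) D5067 (iv0 F13814) D18905
def n27915 : Q := act 6 n13311
theorem D27915 : act 6 n13311 = n27915 := rfl
theorem F45082 : act 3 n27915 = n13313 := d7_1 D27915 (iv6 D13313) D13311
theorem F45083 : act 5 n27915 = n23670 := d12_1 D27915 (iv6 D23670) (iv5 D11084) (iv6 F12253) (iv5 F22116)
def n27916 : Q := act 3 n13312
theorem D27916 : act 3 n13312 = n27916 := rfl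
theorem F45084 : act 5 n27916 = n16708 := d6_2 (iv5 F22120) D27916 (iv3 D16708)
theorem F45085 : act 7 n27916 = n16698 := d8_2 (iv7 F22121) D27916 (iv3 D16698)
def n27917 : Q := act 6 n13312
theorem D27917 : act 6 n13312 = n27917 := rfl
theorem F45086 : act 2 n27917 = n18876 := d3_1 D27917 (iv6 D18876) (iv2 F22119)
theorem F45087 : act 4 n27917 = n13313 := d10_1 D27917 (iv6 D13313) D13312
def n27918 : Q := act 0 n13313
theorem D27918 : act 0 n13313 = n27918 := rfl
theorem F45088 : act 1 n18879 = n27918 := d15_0 (iv0 D27918) (iv7 F29794) (iv2 F30122)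
def n27919 : Q := act 1 n13313
theorem D27919 : act 1 n13313 = n27919 := rfl
theorem F45089 : act 1 n27919 = n18879 := d15_1 D27919 (iv7 D18879) (iv2 F22124)
def n27920 : Q := act 0 n13314
theorem D27920 : act 0 n13314 = n27920 := rfl
def n27921 : Q := act 1 n13314
theorem D27921 : act 1 n13314 = n27921 := rfl
def n27922 : Q := act 2 n13314
theorem D27922 : act 2 n13314 = n27922 := rfl
theorem F45090 : act 3 n27922 = n18884 := d0_2 D13314 D27922 (iv2 D18884) (iv3 D8843) (iv2 F9831)
def n27923 : Q := act 5 n13315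
theorem D27923 : act 5 n13315 = n27923 := rfl
theorem F45091 : act 2 n27923 = n24323 := d2_1 D27923 (iv5 D24323) (iv2 F22126)
theorem F45092 : act 3 n27923 = n14214 := d6_1 D27923 (iv5 D14214) (iv3 F22127)
theorem F45093 : act 6 n27923 = n24324 := d12_2 D13315 D27923 (iv5 D24324) (iv6 D11452) (iv5 F9833)
theorem F45094 : act 1 n27923 = n13361 := d17_6 (iv1 F38484) F19220 F23949 (iv5 D14334) (iv4 F22128) D27923 F39887 (iv0 F39885) F39760
theorem F45095 : act 4 n27923 = n25137 := d18_5 (iv1 D5590) (iv4 F7799) (iv1 F19408) (iv4 F22128) D27923 (iv0 D25137) (iv4 D11939) F19630 (iv5 D11914)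
def n27924 : Q := act 5 n13316
theorem D27924 : act 5 n13316 = n27924 := rfl
theorem F45096 : act 2 n27924 = n24332 := d2_1 D27924 (iv5 D24332) F22903
def n27925 : Q := act 6 n13316
theorem D27925 : act 6 n13316 = n27925 := rfl
theorem F45097 : act 2 n27925 = n24333 := d3_1 D27925 (iv6 D24333) F22903
theorem F45098 : act 3 n27925 = n14609 := d7_1 D27925 F24276 F22947
theorem F45099 : act 4 n27925 = n14336 := d10_1 D27925 (iv6 D14336) (iv4 F22131)
theorem F45100 : act 5 n27925 = n24882 := d21_6 (iv5 F4401) F4402 (iv5 F4250) D6316 D13316 D27925 (iv1 F40758) (iv5 D24239) (iv6 D11397) F7915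
theorem F45101 : act 0 n25286 = n27925 := d17_0 F45100 (iv1 F40758) (iv5 D24239) F18641 D11400 (iv0 F19555) F9868 D12006 D25286
theorem F45102 : act 1 n25284 = n27925 := d18_8 (iv1 F40758) F40814 (iv1 D25823) (iv4 D12264) F19655 F19649 F19853 D25284 F45100
def n27926 : Q := act 5 n13317
theorem D27926 : act 5 n13317 = n27926 := rfl
theorem F45103 : act 3 n27926 = n24328 := d6_1 D27926 (iv5 D24328) (iv3 F22133)
theorem F45104 : act 7 n27926 = n24332 := d13_2 F22901 D27926 (iv5 D24332)
def n27927 : Q := act 0 n13318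
theorem D27927 : act 0 n13318 = n27927 := rfl
def n27928 : Q := act 1 n13318
theorem D27928 : act 1 n13318 = n27928 := rfl
theorem F45105 : act 5 n13476 = n27928 := d21_6 F9833 (iv1 F8469) F8467 D11397 F19392 D13476 (iv1 D27928) (iv5 D13318) (iv6 D6316) D6315
theorem F45106 : act 3 n27928 = n13483 := d6_1 F45105 (iv5 D13483) (iv3 F22616)
theorem F45107 : act 7 n24347 = n27928 := d8_0 F45106 F22634 D24347
theorem F45108 : act 4 n27928 = n14355 := d20_6 D6928 (iv1 F18790) F18787 (iv3 F18752) (iv1 F22631) (iv3 F45106) (iv1 D14355) (iv4 D6858) F4834 D3121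
theorem F45109 : act 2 n24347 = n27927 := d15_3 (iv0 D27927) D27928 (iv7 F45107)
def n27929 : Q := act 4 n13318
theorem D27929 : act 4 n13318 = n27929 := rfl
theorem F45110 : act 6 n27929 = n24833 := d10_2 (iv6 F22135) D27929 (iv4 D24833)
theorem F45111 : act 1 n27929 = n25813 := d18_6 (iv1 F11079) (iv4 F11082) F19456 (iv4 F9840) D13318 D27929 (iv4 D25813) (iv0 F20323) F11115
def n27930 : Q := act 7 n13318
theorem D27930 : act 7 n13318 = n27930 := rfl
theorem F45112 : act 3 n27930 = n13325 := d8_1 D27930 (iv7 D13325) (iv3 F22134)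
theorem F45113 : act 5 n27930 = n13319 := d13_1 D27930 (iv7 D13319) D13318
def n27931 : Q := act 4 n13320
theorem D27931 : act 4 n13320 = n27931 := rfl
theorem F45114 : act 2 n27931 = n24366 := d1_1 D27931 (iv4 D24366) (iv2 F22140)
theorem F45115 : act 7 n27931 = n24890 := d11_2 (iv7 F22142) D27931 (iv4 D24890)
def n27932 : Q := act 6 n13320
theorem D27932 : act 6 n13320 = n27932 := rfl
theorem F45116 : act 2 n27932 = n24367 := d3_1 D27932 (iv6 D24367) (iv2 F22140)
theorem F45117 : act 3 n27932 = n25322 := d7_1 D27932 (iv6 D25322) (iv3 F22141)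
theorem F45118 : act 0 n14921 = n27932 := d21_4 F10467 D11374 F18571 D14921 (iv6 D27932) (iv5 D13320) (iv1 D6318) D6319 F9843 F10468
def n27933 : Q := act 6 n13323
theorem D27933 : act 6 n13323 = n27933 := rfl
theorem F45119 : act 2 n27933 = n14798 := d3_1 D27933 F24447 (iv2 F22148)
theorem F45120 : act 3 n27933 = n24902 := d7_1 D27933 F39043 (iv3 F22149)
theorem F45121 : act 5 n27933 = n14781 := d12_1 D27933 (iv6 D14781) (iv5 D7047) D7048 F22147
def n27934 : Q := act 0 n13324
theorem D27934 : act 0 n13324 = n27934 := rfl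
theorem F45122 : act 4 n27934 = n23990 := d20_2 D13324 D27934 (iv3 F39088) (iv1 F40070) F40067 (iv4 F40082) (iv1 F40083) (iv4 D24904) (iv3 F22149) (iv1 D13323)
theorem F45123 : act 2 n24124 = n27934 := d1_3 F45122 F37495 D24124
theorem F45124 : act 7 n24127 = n27934 := d11_0 F45122 F37494 D24127
theorem F45125 : act 1 n24896 = n27934 := d18_6 D11243 F19528 (iv1 F18291) F18287 (iv5 F19184) (iv4 F39033) F45122 (iv0 D23990) (iv5 D11245)
def n27935 : Q := act 1 n13324
theorem D27935 : act 1 n13324 = n27935 := rfl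
theorem F45126 : act 1 n27935 = n24896 := d15_1 D27935 (iv7 D24896) (iv2 F22153)
theorem F45127 : act 7 n27935 = n24124 := d15_2 (iv0 D27934) D27935 F45123
theorem F45128 : act 4 n27935 = n16507 := d18_7 (iv1 F19524) F19520 (iv1 D5232) (iv4 F4253) D6319 D13324 D27935 F26101 F18501
theorem F45129 : act 2 n24127 = n27935 := d1_3 F45128 F26098 D24127
def n27936 : Q := act 3 n13324
theorem D27936 : act 3 n13324 = n27936 := rfl
theorem F45130 : act 6 n27936 = n24834 := d7_2 (iv6 F22154) D27936 (iv3 D24834)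
def n27937 : Q := act 5 n13324
theorem D27937 : act 5 n13324 = n27937 := rfl
theorem F45131 : act 2 n27937 = n24895 := d2_1 D27937 (iv5 D24895) (iv2 F22153)
def n27938 : Q := act 7 n13324
theorem D27938 : act 7 n13324 = n27938 := rfl
theorem F45132 : act 2 n27938 = n24896 := d4_1 D27938 (iv7 D24896) (iv2 F22153)
theorem F45133 : act 4 n27938 = n13325 := d11_1 D27938 (iv7 D13325) D13324
theorem F45134 : act 1 n24127 = n27938 := d15_1 (iv0 F37807) (iv7 D27938) F22153
theorem F45135 : act 1 n27938 = n24124 := d15_1 F45134 (iv7 F45127) (iv2 F45129)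
def n27939 : Q := act 6 n13325
theorem D27939 : act 6 n13325 = n27939 := rfl
theorem F45136 : act 2 n27939 = n24897 := d3_1 D27939 (iv6 D24897) (iv2 F22155)
theorem F45137 : act 5 n27939 = n27939 := d12_1 D27939 (iv6 D27939) F22156 F9846 (iv5 F22156)
theorem F45138 : act 7 n27939 = n14918 := d14_2 D13325 D27939 (iv6 D14918) F11418 (iv6 F9843)
theorem F45139 : act 1 n24925 = n27939 := d15_1 D24925 F45138 F24572
theorem F45140 : act 1 n27939 = n24924 := d15_0 (iv0 D24924) (iv7 F39035) (iv2 F45136)
def n27940 : Q := act 5 n13326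
theorem D27940 : act 5 n13326 = n27940 := rfl
theorem F45141 : act 2 n27940 = n23795 := d2_1 D27940 (iv5 D23795) (iv2 F22159)
theorem F45142 : act 3 n27940 = n13327 := d6_1 D27940 (iv5 D13327) D13326
theorem F45143 : act 7 n27940 = n13349 := d13_2 (iv7 F22161) D27940 (iv5 D13349)
theorem F45144 : act 1 n27940 = n24805 := d17_6 (iv1 F39827) F39824 (iv1 F37075) (iv5 D23787) (iv4 F22160) D27940 (iv5 F39758) (iv0 F39880) (iv4 D25271)
def n27941 : Q := act 6 n13326
theorem D27941 : act 6 n13326 = n27941 := rfl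
theorem F45145 : act 2 n27941 = n23796 := d3_1 D27941 (iv6 D23796) (iv2 F22159)
theorem F45146 : act 3 n27941 = n13328 := d7_1 D27941 (iv6 D13328) D13326
theorem F45147 : act 4 n27941 = n13758 := d10_1 D27941 F24312 (iv4 F22160)
theorem F45148 : act 5 n13724 = n27941 := d18_4 (iv1 F20261) (iv4 F40718) (iv1 F40731) (iv4 F40732) F45147 F24506 (iv4 F38561) F38559 F18977
theorem F45149 : act 0 n13724 = n24850 := d21_7 (iv5 F8467) F8468 (iv5 F8105) D11451 F22162 D27941 (iv5 F45148) (iv5 D24850) (iv6 D11780) F8435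
def n27942 : Q := act 4 n13327
theorem D27942 : act 4 n13327 = n27942 := rfl
theorem F45150 : act 2 n27942 = n13342 := d1_1 D27942 (iv4 D13342) (iv2 F22163)
theorem F45151 : act 7 n27942 = n13353 := d11_2 (iv7 F22164) D27942 (iv4 D13353)
def n27943 : Q := act 6 n13327
theorem D27943 : act 6 n13327 = n27943 := rfl
theorem F45152 : act 2 n27943 = n13343 := d3_1 D27943 (iv6 D13343) (iv2 F22163)
theorem F45153 : act 5 n27943 = n13726 := d12_1 D27943 (iv6 D13726) (iv5 F22168) (iv6 D13328) D13327
def n27944 : Q := act 4 n13330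
theorem D27944 : act 4 n13330 = n27944 := rfl
theorem F45154 : act 2 n27944 = n13353 := d1_1 D27944 (iv4 D13353) (iv2 F22175)
theorem F45155 : act 7 n27944 = n13342 := d11_2 (iv7 F22176) D27944 (iv4 D13342)
def n27945 : Q := act 6 n13330
theorem D27945 : act 6 n13330 = n27945 := rfl
theorem F45156 : act 2 n27945 = n13354 := d3_1 D27945 (iv6 D13354) (iv2 F22175)
theorem F45157 : act 5 n27945 = n14787 := d12_1 D27945 (iv6 D14787) F22179 (iv6 D13331) D13330
theorem F45158 : act 0 n24778 = n27945 := d21_4 (iv5 F18596) (iv1 F18601) (iv5 F19077) D24778 (iv6 D27945) (iv5 D13330) (iv1 D6322) D6323 F9853 D11217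
def n27946 : Q := act 3 n13332
theorem D27946 : act 3 n13332 = n27946 := rfl
theorem F45159 : act 7 n27946 = n13361 := d8_2 (iv7 F22941) D27946 (iv3 D13361)
def n27947 : Q := act 4 n13332
theorem D27947 : act 4 n13332 = n27947 := rfl
theorem F45160 : act 2 n27947 = n13358 := d1_1 D27947 (iv4 D13358) (iv2 F22940)
theorem F45161 : act 7 n27947 = n13362 := d11_2 (iv7 F22941) D27947 (iv4 D13362)
theorem F45162 : act 0 n27947 = n25388 := d18_2 D13332 D27947 F40154 F19978 (iv4 F17991) (iv0 F22453) F9860 (iv0 D6321) D6323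
theorem F45163 : act 1 n27947 = n23710 := d18_6 F24053 (iv4 F24043) (iv1 F38509) F38508 (iv5 F24468) D27947 (iv4 D23710) D23709 (iv5 F36856)
theorem F45164 : act 0 n24323 = n27946 := d20_4 D25415 F40197 (iv4 D24325) (iv3 F38106) (iv3 D27946) D27947 F45162 F40154 (iv3 F39275) F39277
def n27948 : Q := act 6 n13332
theorem D27948 : act 6 n13332 = n27948 := rfl
theorem F45165 : act 2 n27948 = n13359 := d3_1 D27948 (iv6 D13359) (iv2 F22940)
theorem F45166 : act 5 n27948 = n14930 := d12_1 D27948 (iv6 F24592) (iv5 D14805) D14806 (iv5 F24468)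
def n27949 : Q := act 4 n13333
theorem D27949 : act 4 n13333 = n27949 := rfl
theorem F45167 : act 2 n27949 = n13362 := d1_1 D27949 (iv4 D13362) (iv2 F22937)
theorem F45168 : act 7 n27949 = n13358 := d11_2 (iv7 F22938) D27949 (iv4 D13358)
theorem F45169 : act 0 n27949 = n23710 := d18_2 (iv1 F22184) D27949 (iv4 D23710) (iv5 D11101) F7533 D5715 (iv4 F22464) F9850 (iv5 F9866)
theorem F45170 : act 0 n25388 = n27949 := d20_1 (iv4 F40154) (iv4 D27949) (iv3 F39252) (iv1 F39260) F23632 D24241 (iv1 F40119) (iv4 D25372) F38408 (iv1 F36864)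
def n27950 : Q := act 6 n13333
theorem D27950 : act 6 n13333 = n27950 := rfl
theorem F45171 : act 2 n27950 = n13364 := d3_1 D27950 (iv6 D13364) (iv2 F22937)
theorem F45172 : act 5 n27950 = n13711 := d12_1 D27950 (iv6 D13711) (iv5 D6525) D6526 F22185
def n27951 : Q := act 3 n13334
theorem D27951 : act 3 n13334 = n27951 := rfl
theorem F45173 : act 4 n27951 = n23944 := d5_2 D13334 D27951 (iv3 D23944) (iv4 D11219) (iv3 F9852)
theorem F45174 : act 6 n27951 = n23944 := d7_2 (iv6 F22189) D27951 (iv3 D23944)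
def n27952 : Q := act 5 n13334
theorem D27952 : act 5 n13334 = n27952 := rfl
theorem F45175 : act 2 n27952 = n13368 := d2_1 D27952 (iv5 D13368) (iv2 F22188)
def n27953 : Q := act 7 n13334
theorem D27953 : act 7 n13334 = n27953 := rfl
theorem F45176 : act 2 n27953 = n13369 := d4_1 D27953 (iv7 D13369) (iv2 F22188)
theorem F45177 : act 4 n27953 = n13335 := d11_1 D27953 (iv7 D13335) D13334
theorem F45178 : act 1 n13366 = n27953 := d15_1 D13366 (iv7 D27953) F22188
theorem F45179 : act 1 n27953 = n13365 := d15_1 F45178 (iv7 F40150) F40149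
def n27954 : Q := act 6 n13335
theorem D27954 : act 6 n13335 = n27954 := rfl
theorem F45180 : act 2 n27954 = n13370 := d3_1 D27954 (iv6 D13370) (iv2 F22190)
theorem F45181 : act 3 n27954 = n23947 := d7_1 D27954 (iv6 D23947) (iv3 F22191)
theorem F45182 : act 5 n27954 = n27954 := d12_1 D27954 (iv6 D27954) F22192 F9857 (iv5 F22192)
theorem F45183 : act 7 n27954 = n23947 := d14_2 D13335 D27954 (iv6 D23947) (iv7 D11220) (iv6 F9853)
def n27955 : Q := act 1 n13336
theorem D27955 : act 1 n13336 = n27955 := rfl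
theorem F45184 : act 7 n27955 = n24515 := d15_2 (iv0 F39846) D27955 F39847
theorem F45185 : act 2 n24756 = n27955 := d4_3 F45184 F39847 F39844
theorem F45186 : act 5 n24516 = n27955 := d13_3 F45184 (iv5 D24515) D24516
theorem F45187 : act 3 n27955 = n25464 := d6_1 F45186 F40260 F39762
theorem F45188 : act 4 n27955 = n24975 := d18_5 D14600 (iv4 F24330) (iv1 F24332) (iv4 F38495) F45186 F39193 (iv4 D11870) F19287 F19286
def n27956 : Q := act 4 n13336
theorem D27956 : act 4 n13336 = n27956 := rfl
theorem F45189 : act 0 n27956 = n14627 := d18_2 (iv1 D27955) D27956 (iv4 D14627) (iv5 D6987) (iv4 F11248) D14609 (iv4 F24275) F39261 F45186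
def n27957 : Q := act 6 n13336
theorem D27957 : act 6 n13336 = n27957 := rfl
theorem F45190 : act 3 n27957 = n13343 := d7_1 D27957 (iv6 D13343) (iv3 F22197)
def n27958 : Q := act 7 n13337
theorem D27958 : act 7 n13337 = n27958 := rfl
theorem F45191 : act 3 n27958 = n13347 := d8_1 D27958 (iv7 D13347) (iv3 F22198)
theorem F45192 : act 5 n27958 = n13721 := d13_1 D27958 F38294 (iv5 F38290)
theorem F45193 : act 1 n24768 = n27958 := d15_1 (iv0 F38982) (iv7 D27958) (iv2 F38977)
theorem F45194 : act 1 n27958 = n14169 := d15_1 F45193 (iv7 F24209) F38763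
def n27959 : Q := act 0 n13339
theorem D27959 : act 0 n13339 = n27959 := rfl
theorem F45195 : act 5 n27959 = n14396 := d17_3 (iv1 F22458) D13339 D27959 F24043 D14403 (iv0 F24051) (iv5 D11572) F22454 (iv4 F7533)
theorem F45196 : act 3 n27959 = n25399 := d20_5 D24757 (iv1 F40108) (iv4 D25367) (iv3 F22203) D27959 F40176 (iv1 F39685) (iv4 D24801) (iv3 F19823) (iv1 F19825)
theorem F45197 : act 2 n14403 = n27959 := d15_3 (iv0 D27959) F39304 F39300
theorem F45198 : act 1 n13351 = n27959 := d15_0 (iv0 D27959) F22569 F22568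
theorem F45199 : act 7 n27959 = n24474 := d15_2 F39305 F45198 (iv2 F39301)
def n27960 : Q := act 4 n13339
theorem D27960 : act 4 n13339 = n27960 := rfl
theorem F45200 : act 2 n27960 = n24475 := d1_1 D27960 (iv4 D24475) (iv2 F22202)
theorem F45201 : act 7 n27960 = n25379 := d11_2 (iv7 F22569) D27960 (iv4 D25379)
theorem F45202 : act 1 n27960 = n25216 := d18_6 (iv1 D2651) F2329 D2650 D6327 D13339 D27960 (iv4 D25216) F22212 (iv5 D6333)
def n27961 : Q := act 6 n13339
theorem D27961 : act 6 n13339 = n27961 := rfl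
theorem F45203 : act 2 n27961 = n24476 := d3_1 D27961 (iv6 D24476) (iv2 F22202)
theorem F45204 : act 3 n27961 = n25368 := d7_1 D27961 (iv6 D25368) (iv3 F22203)
def n27962 : Q := act 7 n13340
theorem D27962 : act 7 n13340 = n27962 := rfl
theorem F45205 : act 2 n27962 = n24121 := d4_1 D27962 (iv7 F37798) (iv2 F22204)
theorem F45206 : act 3 n27962 = n25371 := d8_1 D27962 (iv7 D25371) (iv3 F22205)
theorem F45207 : act 4 n27962 = n13347 := d11_1 D27962 (iv7 D13347) (iv4 F22206)
theorem F45208 : act 5 n27962 = n14287 := d13_1 D27962 F37715 (iv5 F37713)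
theorem F45209 : act 6 n27962 = n25383 := d14_1 D27962 (iv7 D25383) (iv6 D12068) (iv7 F22461) D13340
theorem F45210 : act 1 n24123 = n27962 := d15_1 (iv0 F39324) (iv7 D27962) F22204
theorem F45211 : act 1 n27962 = n16499 := d15_1 F45210 (iv7 F39319) (iv2 F39320)
theorem F45212 : act 0 n24088 = n13722 := d18_2 (iv1 D24087) D24088 (iv4 D13722) (iv5 F22870) (iv4 F45207) F45211 F26088 (iv0 F26089) F37713
def n27963 : Q := act 4 n13341
theorem D27963 : act 4 n13341 = n27963 := rfl
theorem F45213 : act 2 n27963 = n24770 := d1_1 D27963 (iv4 D24770) F22209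
theorem F45214 : act 1 n27963 = n27960 := d18_6 (iv1 F24055) F22953 (iv1 F22187) F18592 (iv5 F22207) D27963 (iv4 D27960) F39304 F39299
def n27964 : Q := act 6 n13341
theorem D27964 : act 6 n13341 = n27964 := rfl
theorem F45215 : act 2 n27964 = n24771 := d3_1 D27964 (iv6 D24771) F22209
theorem F45216 : act 3 n27964 = n24221 := d7_1 D27964 F37966 F22210
theorem F45217 : act 5 n27964 = n24215 := d12_1 D27964 (iv6 D24215) (iv5 D11378) D11379 (iv5 F22207)
def n27965 : Q := act 0 n13342
theorem D27965 : act 0 n13342 = n27965 := rfl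
theorem F45218 : act 4 n27965 = n14403 := d18_3 (iv1 F22211) D13342 D27965 (iv5 D14403) (iv4 F24043) (iv0 F24044) F22953 (iv0 F22186) (iv5 F19746)
theorem F45219 : act 1 n13353 = n27965 := d15_0 (iv0 D27965) (iv7 F45155) F45154
def n27966 : Q := act 1 n13342
theorem D27966 : act 1 n13342 = n27966 := rfl
theorem F45220 : act 1 n27966 = n13353 := d15_1 D27966 (iv7 F45151) F45150
theorem F45221 : act 4 n27966 = n24474 := d18_7 (iv1 D5715) (iv4 F7533) (iv1 F22458) (iv4 D6327) D6328 D13342 D27966 F38432 (iv5 D12067)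
def n27967 : Q := act 3 n13342
theorem D27967 : act 3 n13342 = n27967 := rfl
def n27968 : Q := act 5 n13342
theorem D27968 : act 5 n13342 = n27968 := rfl
theorem F45222 : act 1 n27968 = n25387 := d17_6 (iv1 D6336) (iv5 D2652) D2650 D6328 D13342 D27968 (iv5 D25387) F22570 (iv4 D13362)
def n27969 : Q := act 6 n13342
theorem D27969 : act 6 n13342 = n27969 := rfl
theorem F45223 : act 4 n27969 = n13343 := d10_1 D27969 (iv6 D13343) D13342
def n27970 : Q := act 0 n13343
theorem D27970 : act 0 n13343 = n27970 := rfl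
def n27971 : Q := act 1 n13343
theorem D27971 : act 1 n13343 = n27971 := rfl
def n27972 : Q := act 5 n13343
theorem D27972 : act 5 n13343 = n27972 := rfl
theorem F45224 : act 2 n27972 = n13726 := d2_1 D27972 (iv5 F45153) F45152
theorem F45225 : act 6 n27972 = n13346 := d12_2 D13343 D27972 (iv5 D13346) (iv6 D6329) D6328
def n27973 : Q := act 7 n13343
theorem D27973 : act 7 n13343 = n27973 := rfl
def n27974 : Q := act 4 n13346
theorem D27974 : act 4 n13346 = n27974 := rfl
theorem F45226 : act 2 n27974 = n13725 := d1_1 D27974 (iv4 D13725) (iv2 F22213)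
theorem F45227 : act 7 n27974 = n13722 := d11_2 F22869 D27974 (iv4 D13722)
theorem F45228 : act 0 n27974 = n14289 := d18_2 (iv1 F22216) D27974 (iv4 D14289) (iv5 D6813) (iv4 F7783) D11308 F22522 F10588 (iv5 F10603)
def n27975 : Q := act 5 n13348
theorem D27975 : act 5 n13348 = n27975 := rfl
theorem F45229 : act 2 n27975 = n13349 := d2_1 D27975 (iv5 D13349) D13348
theorem F45230 : act 7 n27975 = n23795 := d13_2 (iv7 F22218) D27975 (iv5 D23795)
theorem F45231 : act 0 n27975 = n24805 := d17_2 F24270 D27975 (iv5 F39758) F39760 F38483 F38580 (iv5 D24152) F18965 (iv4 F24267)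
def n27976 : Q := act 0 n13349
theorem D27976 : act 0 n13349 = n27976 := rfl
theorem F45232 : act 4 n27976 = n25092 := d18_1 D27976 (iv1 F39429) (iv4 D24572) (iv5 D11622) (iv4 F10122) (iv0 F19407) (iv4 F22128) (iv0 F22129) D13349
theorem F45233 : act 3 n27976 = n25440 := d20_5 (iv4 F45218) (iv1 F45219) (iv4 D13353) (iv3 F22220) D27976 (iv4 F40220) (iv1 D24491) (iv4 D11582) (iv3 F18883) F24051
theorem F45234 : act 2 n24805 = n27976 := d15_3 (iv0 D27976) F39675 F39668
theorem F45235 : act 1 n23795 = n27976 := d15_0 (iv0 D27976) (iv7 F45143) F45141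
def n27977 : Q := act 4 n13349
theorem D27977 : act 4 n13349 = n27977 := rfl
theorem F45236 : act 1 n27977 = n24583 := d18_6 D5398 (iv4 F18101) (iv1 F18103) (iv4 F10354) D13349 D27977 (iv4 D24583) (iv0 D11628) (iv5 D5402)
theorem F45237 : act 0 n27977 = n24585 := d20_7 D23715 (iv1 F37977) (iv4 D24224) F22210 (iv1 F22208) (iv3 F22220) D27977 (iv4 D24585) F36891 (iv1 D23714)
def n27978 : Q := act 6 n13349
theorem D27978 : act 6 n13349 = n27978 := rfl
theorem F45238 : act 3 n27978 = n13354 := d7_1 D27978 (iv6 D13354) (iv3 F22220)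
def n27979 : Q := act 0 n13350
theorem D27979 : act 0 n13350 = n27979 := rfl
theorem F45239 : act 5 n27979 = n25840 := d17_1 D27979 (iv1 F40831) (iv5 D24746) (iv4 D11711) D11712 F19821 F10406 (iv0 F20306) (iv4 F22222)
theorem F45240 : act 4 n27979 = n24158 := d18_3 (iv1 F20307) (iv4 F22222) D27979 F38409 D25372 F40119 (iv4 D24241) F22248 F22246
theorem F45241 : act 2 n24818 = n27979 := d15_3 (iv0 D27979) (iv0 F38720) (iv7 F38841)
theorem F45242 : act 1 n24797 = n27979 := d15_0 (iv0 D27979) (iv7 F39926) F39924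
theorem F45243 : act 7 n27979 = n27925 := d15_2 (iv0 F38805) F45242 F45097
def n27980 : Q := act 4 n13351
theorem D27980 : act 4 n13351 = n27980 := rfl
theorem F45244 : act 2 n27980 = n25379 := d1_1 D27980 (iv4 D25379) F22568
theorem F45245 : act 7 n27980 = n24475 := d11_2 (iv7 F22230) D27980 (iv4 D24475)
theorem F45246 : act 0 n27980 = n25216 := d18_2 (iv1 F45198) D27980 (iv4 D25216) F19746 F19090 (iv0 F24467) (iv4 F38508) F38509 (iv5 F45195)
theorem F45247 : act 1 n27980 = n27963 := d18_6 (iv1 F9861) F9856 (iv1 F9859) D6332 D13351 D27980 (iv4 D27963) (iv0 D13341) (iv5 D6328)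
def n27981 : Q := act 6 n13351
theorem D27981 : act 6 n13351 = n27981 := rfl
theorem F45248 : act 2 n27981 = n25380 := d3_1 D27981 (iv6 D25380) F22568
theorem F45249 : act 3 n27981 = n24462 := d7_1 D27981 (iv6 D24462) (iv3 F22229)
theorem F45250 : act 0 n25391 = n27981 := d21_4 (iv5 F19795) (iv1 F19799) (iv5 F19981) D25391 (iv6 D27981) (iv5 D13351) F22459 D11101 F17988 D11108
def n27982 : Q := act 3 n13353
theorem D27982 : act 3 n13353 = n27982 := rfl
def n27983 : Q := act 5 n13353
theorem D27983 : act 5 n13353 = n27983 := rfl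
theorem F45251 : act 0 n27983 = n25387 := d17_2 (iv1 F45219) D27983 (iv5 D25387) (iv4 D12071) (iv5 D5716) D5715 D12067 F24052 (iv4 F45218)
def n27984 : Q := act 6 n13353
theorem D27984 : act 6 n13353 = n27984 := rfl
theorem F45252 : act 4 n27984 = n13354 := d10_1 D27984 (iv6 D13354) D13353
def n27985 : Q := act 0 n13354
theorem D27985 : act 0 n13354 = n27985 := rfl
def n27986 : Q := act 1 n13354
theorem D27986 : act 1 n13354 = n27986 := rfl
theorem F45253 : act 6 n13538 = n27986 := d21_3 F11428 (iv1 F18608) (iv5 F22692) (iv1 D27986) (iv6 D13354) (iv5 D6333) (iv1 D2651) D2652 (iv6 F4318) D6373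
theorem F45254 : act 5 n25293 = n27986 := d21_6 (iv5 D5882) F19401 D6511 F10576 D12010 D25293 (iv1 D27986) (iv5 F41238) (iv6 D26071) (iv1 D12359)
theorem F45255 : act 2 n27986 = n24778 := d2_1 F45254 F38789 (iv2 F39946)
theorem F45256 : act 3 n27986 = n25470 := d6_1 F45254 (iv5 F40268) (iv3 F39947)
def n27987 : Q := act 7 n13354
theorem D27987 : act 7 n13354 = n27987 := rfl
theorem F45257 : act 1 n24778 = n27987 := d15_1 (iv0 F45158) (iv7 D27987) (iv2 F45156)
def n27988 : Q := act 6 n13357
theorem D27988 : act 6 n13357 = n27988 := rfl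
theorem F45258 : act 3 n27988 = n13359 := d7_1 D27988 (iv6 D13359) D13357
def n27989 : Q := act 0 n13358
theorem D27989 : act 0 n13358 = n27989 := rfl
theorem F45259 : act 4 n27989 = n23711 := d18_3 D6335 D13358 D27989 F36874 F17991 (iv0 F22457) (iv4 D6327) (iv0 D2650) D2652
theorem F45260 : act 2 n25388 = n27989 := d15_3 (iv0 D27989) (iv0 F36869) D25388
theorem F45261 : act 1 n13362 = n27989 := d15_0 (iv0 D27989) (iv7 F45168) F45167
theorem F45262 : act 7 n27989 = n23710 := d15_2 F22570 F45261 F36870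
def n27990 : Q := act 3 n13358
theorem D27990 : act 3 n13358 = n27990 := rfl
def n27991 : Q := act 5 n13358
theorem D27991 : act 5 n13358 = n27991 := rfl
def n27992 : Q := act 6 n13358
theorem D27992 : act 6 n13358 = n27992 := rfl
theorem F45263 : act 4 n27992 = n13359 := d10_1 D27992 (iv6 D13359) D13358
def n27993 : Q := act 0 n13359
theorem D27993 : act 0 n13359 = n27993 := rfl
def n27994 : Q := act 1 n13359
theorem D27994 : act 1 n13359 = n27994 := rfl
def n27995 : Q := act 7 n13359
theorem D27995 : act 7 n13359 = n27995 := rfl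
theorem F45264 : act 5 n27995 = n14929 := d13_1 D27995 F38198 (iv5 F37967)
def n27996 : Q := act 2 n13361
theorem D27996 : act 2 n13361 = n27996 := rfl
theorem F45265 : act 5 n27996 = n24250 := d2_2 (iv5 F39887) D27996 (iv2 F39882)
theorem F45266 : act 1 n24323 = n27996 := d18_8 F38472 F38471 F38287 F22275 F10365 D11674 D24648 (iv4 F38648) F45265
def n27997 : Q := act 4 n13361
theorem D27997 : act 4 n13361 = n27997 := rfl
theorem F45267 : act 0 n27997 = n14333 := d18_2 F39888 D27997 (iv4 D14333) (iv5 D6845) F4826 D5097 (iv4 F10354) (iv0 F19721) D25191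
theorem F45268 : act 1 n27997 = n24570 := d18_6 D13398 (iv4 F39823) (iv1 F39826) D25272 (iv5 F39887) D27997 (iv4 D24570) F20250 (iv5 F10365)
def n27998 : Q := act 6 n13361
theorem D27998 : act 6 n13361 = n27998 := rfl
theorem F45269 : act 3 n27998 = n13364 := d7_1 D27998 (iv6 D13364) D13361
def n27999 : Q := act 3 n13362
theorem D27999 : act 3 n13362 = n27999 := rfl
def n28000 : Q := act 5 n13362
theorem D28000 : act 5 n13362 = n28000 := rfl
def n28001 : Q := act 6 n13362
theorem D28001 : act 6 n13362 = n28001 := rfl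
theorem F45270 : act 4 n28001 = n13364 := d10_1 D28001 (iv6 D13364) D13362
def n28002 : Q := act 0 n13364
theorem D28002 : act 0 n13364 = n28002 := rfl
def n28003 : Q := act 1 n13364
theorem D28003 : act 1 n13364 = n28003 := rfl
def n28004 : Q := act 5 n13364
theorem D28004 : act 5 n13364 = n28004 := rfl
theorem F45271 : act 2 n28004 = n13711 := d2_1 D28004 (iv5 F45172) F45171
theorem F45272 : act 6 n28004 = n13693 := d12_2 D13364 D28004 (iv5 D13693) (iv6 F23671) F23670
def n28005 : Q := act 7 n13364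
theorem D28005 : act 7 n13364 = n28005 := rfl
def n28006 : Q := act 3 n13365
theorem D28006 : act 3 n13365 = n28006 := rfl
def n28007 : Q := act 5 n13365
theorem D28007 : act 5 n13365 = n28007 := rfl
theorem F45273 : act 4 n28007 = n28000 := d16_2 F36868 D28007 (iv5 D28000) (iv4 D13362) (iv5 F23670) F23669 F36856 (iv7 F36859) F36861
def n28008 : Q := act 6 n13365
theorem D28008 : act 6 n13365 = n28008 := rfl
def n28009 : Q := act 3 n13366
theorem D28009 : act 3 n13366 = n28009 := rfl
def n28010 : Q := act 5 n13366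
theorem D28010 : act 5 n13366 = n28010 := rfl
theorem F45274 : act 4 n28010 = n27991 := d9_1 D28010 (iv5 D27991) (iv4 D13358) (iv5 F22196) F36867 F36865 F36868 D28007 F45273 (iv5 D28000) (iv4 D13362) (iv5 F23670) F23669 F36856 F36860
def n28011 : Q := act 6 n13366
theorem D28011 : act 6 n13366 = n28011 := rfl
def n28012 : Q := act 0 n13367
theorem D28012 : act 0 n13367 = n28012 := rfl
def n28013 : Q := act 1 n13367
theorem D28013 : act 1 n13367 = n28013 := rfl
def n28014 : Q := act 2 n13367
theorem D28014 : act 2 n13367 = n28014 := rfl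
theorem F45275 : act 4 n28014 = n13387 := d1_2 (iv4 F22237) D28014 (iv2 D13387)
def n28015 : Q := act 5 n13367
theorem D28015 : act 5 n13367 = n28015 := rfl
theorem F45276 : act 3 n28015 = n13368 := d6_1 D28015 (iv5 D13368) D13367
def n28016 : Q := act 7 n13367
theorem D28016 : act 7 n13367 = n28016 := rfl
theorem F45277 : act 3 n28016 = n13369 := d8_1 D28016 (iv7 D13369) D13367
theorem F45278 : act 4 n28016 = n13389 := d11_1 D28016 (iv7 D13389) (iv4 F22237)
def n28017 : Q := act 0 n13368
theorem D28017 : act 0 n13368 = n28017 := rfl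
theorem F45279 : act 5 n28017 = n27960 := d17_3 (iv1 D13366) D13368 D28017 (iv4 D27960) (iv5 D13339) F22458 D11101 D23709 F36860
theorem F45280 : act 4 n27983 = n28017 := d16_2 D13353 D27983 F45279 (iv4 D27960) (iv5 D13339) (iv4 D6327) D6328 (iv7 F22176) F22175
def n28018 : Q := act 1 n13368
theorem D28018 : act 1 n13368 = n28018 := rfl
theorem F45281 : act 5 n28018 = n27980 := d17_7 (iv1 F22208) (iv5 D6333) (iv1 D2651) D2652 D6337 D13368 D28018 F45247 (iv4 D27963)
theorem F45282 : act 4 n27968 = n28018 := d9_15 F45281 (iv4 D27980) (iv5 D13351) (iv4 D6332) D6333 D13353 D27983 F45280 F45279 (iv4 D27960) (iv5 D13339) (iv4 D6327) D6328 D13342 D27968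
def n28019 : Q := act 4 n13368
theorem D28019 : act 4 n13368 = n28019 := rfl
theorem F45283 : act 5 n28019 = n27953 := d16_3 D6337 D13368 D28019 F45177 F22192 F9856 (iv5 F22192) (iv7 D13335) F9851
theorem F45284 : act 0 n28019 = n28018 := d18_2 (iv1 D28018) D28019 (iv4 F45282) (iv5 D27968) (iv4 D13342) F22211 D25216 (iv0 F45246) (iv5 F45281)
theorem F45285 : act 1 n28019 = n28017 := d18_8 (iv1 F45214) (iv4 D27963) (iv1 F22208) D13353 D27983 F45280 (iv0 D28017) D28019 F45279
theorem F45286 : act 7 n28019 = n27952 := d15_2 D28018 (iv0 F45284) F45175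
def n28020 : Q := act 6 n13368
theorem D28020 : act 6 n13368 = n28020 := rfl
def n28021 : Q := act 7 n13368
theorem D28021 : act 7 n13368 = n28021 := rfl
theorem F45287 : act 2 n28021 = n28019 := d4_1 D28021 F45286 F45175
theorem F45288 : act 4 n28021 = n27952 := d11_1 D28021 (iv7 F45286) (iv4 D28019)
theorem F45289 : act 5 n28021 = n13369 := d13_1 D28021 (iv7 D13369) D13368
def n28022 : Q := act 6 n13369
theorem D28022 : act 6 n13369 = n28022 := rfl
theorem F45290 : act 4 n28022 = n13370 := d10_1 D28022 (iv6 D13370) (iv4 F22238)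
def n28023 : Q := act 0 n13370
theorem D28023 : act 0 n13370 = n28023 := rfl
theorem F45291 : act 1 n23947 = n28023 := d15_0 (iv0 D28023) (iv7 F22319) (iv2 F37382)
def n28024 : Q := act 1 n13370
theorem D28024 : act 1 n13370 = n28024 := rfl
theorem F45292 : act 1 n28024 = n23947 := d15_1 D28024 (iv7 F45183) F45180
def n28025 : Q := act 4 n13373
theorem D28025 : act 4 n13373 = n28025 := rfl
theorem F45293 : act 2 n28025 = n13374 := d1_1 D28025 (iv4 D13374) D13373
theorem F45294 : act 1 n28025 = n25364 := d18_6 (iv1 F24063) F23925 F22470 F22360 (iv5 F22241) D28025 (iv4 D25364) (iv0 F23805) F23804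
def n28026 : Q := act 6 n13373
theorem D28026 : act 6 n13373 = n28026 := rfl
theorem F45295 : act 2 n28026 = n13375 := d3_1 D28026 (iv6 D13375) D13373
def n28027 : Q := act 0 n13374
theorem D28027 : act 0 n13374 = n28027 := rfl
theorem F45296 : act 4 n28027 = n25038 := d18_3 F22339 D13374 D28027 (iv5 D25038) (iv4 D11888) (iv0 D5576) (iv4 F10042) (iv0 F19381) D11459
theorem F45297 : act 7 n25364 = n28027 := d11_0 F45296 F39276 D25364
def n28028 : Q := act 1 n13374
theorem D28028 : act 1 n13374 = n28028 := rfl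
theorem F45298 : act 4 n28028 = n16484 := d18_7 F23821 F11185 F22474 F10416 (iv5 F9867) D13374 D28028 (iv0 F26000) F23820
theorem F45299 : act 2 n25364 = n28028 := d1_3 F45298 F25997 D25364
theorem F45300 : act 6 n25363 = n28028 := d10_0 F45298 F25999 D25363
def n28029 : Q := act 5 n13374
theorem D28029 : act 5 n13374 = n28029 := rfl
def n28030 : Q := act 6 n13374
theorem D28030 : act 6 n13374 = n28030 := rfl
theorem F45301 : act 4 n28030 = n13375 := d10_1 D28030 (iv6 D13375) D13374
def n28031 : Q := act 0 n13375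
theorem D28031 : act 0 n13375 = n28031 := rfl
def n28032 : Q := act 1 n13375
theorem D28032 : act 1 n13375 = n28032 := rfl
def n28033 : Q := act 7 n13375
theorem D28033 : act 7 n13375 = n28033 := rfl
theorem F45302 : act 3 n28033 = n13378 := d8_1 D28033 (iv7 D13378) (iv3 F22244)
theorem F45303 : act 5 n28033 = n14944 := d13_1 D28033 (iv7 F41278) F41276
def n28034 : Q := act 2 n13376
theorem D28034 : act 2 n13376 = n28034 := rfl
theorem F45304 : act 7 n13377 = n28034 := d15_2 (iv0 D13376) D13377 (iv2 D28034)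
def n28035 : Q := act 3 n13376
theorem D28035 : act 3 n13376 = n28035 := rfl
def n28036 : Q := act 4 n13376
theorem D28036 : act 4 n13376 = n28036 := rfl
def n28037 : Q := act 5 n13376
theorem D28037 : act 5 n13376 = n28037 := rfl
def n28038 : Q := act 7 n13376
theorem D28038 : act 7 n13376 = n28038 := rfl
theorem F45305 : act 2 n28038 = n13377 := d4_1 D28038 F45304 (iv2 D28034)
def n28039 : Q := act 3 n13377
theorem D28039 : act 3 n13377 = n28039 := rfl
def n28040 : Q := act 4 n13377
theorem D28040 : act 4 n13377 = n28040 := rfl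
def n28041 : Q := act 5 n13377
theorem D28041 : act 5 n13377 = n28041 := rfl
theorem F45306 : act 6 n28041 = n23831 := d21_3 (iv5 F22329) (iv1 F22332) D28041 (iv1 D23831) (iv6 D11169) F7604 F4921 D2481 D5885 D12366
def n28042 : Q := act 6 n13377
theorem D28042 : act 6 n13377 = n28042 := rfl
theorem F45307 : act 5 n28042 = n14812 := d21_6 (iv5 F23001) (iv1 F23308) F23303 (iv6 F22330) (iv1 F22332) D28042 (iv1 F39913) F39909 F19846 (iv1 F19756)
def n28043 : Q := act 4 n13379
theorem D28043 : act 4 n13379 = n28043 := rfl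
theorem F45308 : act 2 n28043 = n13380 := d1_1 D28043 (iv4 D13380) D13379
theorem F45309 : act 7 n28043 = n25374 := d11_2 F22322 D28043 F40120
theorem F45310 : act 0 n28043 = n25363 := d18_2 (iv1 F22247) D28043 (iv4 D25363) (iv5 D12047) F8811 D5803 F10134 F8701 D11712
theorem F45311 : act 1 n28043 = n25377 := d15_1 (iv0 F45310) (iv7 D25377) (iv2 F40095)
def n28044 : Q := act 6 n13379
theorem D28044 : act 6 n13379 = n28044 := rfl
theorem F45312 : act 2 n28044 = n13381 := d3_1 D28044 (iv6 D13381) D13379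
def n28045 : Q := act 1 n13380
theorem D28045 : act 1 n13380 = n28045 := rfl
theorem F45313 : act 1 n28045 = n25374 := d15_1 D28045 (iv7 F45309) F45308
theorem F45314 : act 7 n28045 = n25363 := d15_2 (iv0 F22249) D28045 F40095
theorem F45315 : act 4 n24500 = n28045 := d20_0 (iv1 D28045) (iv4 D13380) (iv3 D6341) (iv1 D2665) (iv3 F4257) D6337 D13365 (iv4 F36868) (iv3 F38408) (iv1 F38459)
theorem F45316 : act 2 n28045 = n25377 := d1_1 F45315 F40124 (iv2 F38456)
theorem F45317 : act 5 n28045 = n25854 := d16_1 F45315 (iv4 D25854) (iv5 D12271) (iv4 D5818) (iv5 D2430) (iv4 F3787) D5712 D12058 (iv2 F38456)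
theorem F45318 : act 0 n25854 = n25265 := d17_2 (iv1 F45313) F45317 (iv5 D25265) (iv4 D11994) (iv5 D5662) D5660 D11989 F22324 (iv4 F40120)
def n28046 : Q := act 5 n13380
theorem D28046 : act 5 n13380 = n28046 := rfl
theorem F45319 : act 4 n28046 = n25825 := d16_2 D13380 D28046 (iv5 D25825) (iv4 D12264) F19655 F19649 (iv5 F22321) F22322 (iv2 D13379)
def n28047 : Q := act 6 n13380
theorem D28047 : act 6 n13380 = n28047 := rfl
theorem F45320 : act 4 n28047 = n13381 := d10_1 D28047 (iv6 D13381) D13380
def n28048 : Q := act 0 n13381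
theorem D28048 : act 0 n13381 = n28048 := rfl
def n28049 : Q := act 1 n13381
theorem D28049 : act 1 n13381 = n28049 := rfl
def n28050 : Q := act 7 n13381
theorem D28050 : act 7 n13381 = n28050 := rfl
theorem F45321 : act 3 n28050 = n13384 := d8_1 D28050 (iv7 D13384) (iv3 F22250)
def n28051 : Q := act 2 n13382
theorem D28051 : act 2 n13382 = n28051 := rfl
theorem F45322 : act 7 n13383 = n28051 := d15_2 (iv0 D13382) D13383 (iv2 D28051)
def n28052 : Q := act 3 n13382
theorem D28052 : act 3 n13382 = n28052 := rfl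
def n28053 : Q := act 4 n13382
theorem D28053 : act 4 n13382 = n28053 := rfl
def n28054 : Q := act 6 n13382
theorem D28054 : act 6 n13382 = n28054 := rfl
theorem F45323 : act 5 n28054 = n14813 := d21_6 F8283 (iv1 F7724) F7725 D6342 D13382 D28054 (iv1 D14813) F11309 (iv6 D5498) (iv1 F8281)
def n28055 : Q := act 7 n13382
theorem D28055 : act 7 n13382 = n28055 := rfl
theorem F45324 : act 2 n28055 = n13383 := d4_1 D28055 F45322 (iv2 D28051)
def n28056 : Q := act 3 n13383
theorem D28056 : act 3 n13383 = n28056 := rfl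
def n28057 : Q := act 4 n13383
theorem D28057 : act 4 n13383 = n28057 := rfl
def n28058 : Q := act 0 n13385
theorem D28058 : act 0 n13385 = n28058 := rfl
theorem F45325 : act 2 n13389 = n28058 := d15_3 (iv0 D28058) (iv0 D13385) D13389
theorem F45326 : act 5 n28058 = n13436 := d2_2 (iv5 F22254) F45325 (iv2 D13436)
theorem F45327 : act 7 n28058 = n13387 := d4_2 D13389 F45325 (iv2 D13387)
theorem F45328 : act 1 n13386 = n28058 := d15_1 D13386 F45327 (iv2 D13387)
def n28059 : Q := act 2 n13385
theorem D28059 : act 2 n13385 = n28059 := rfl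
theorem F45329 : act 7 n13386 = n28059 := d15_2 (iv0 D13385) D13386 (iv2 D28059)
def n28060 : Q := act 3 n13385
theorem D28060 : act 3 n13385 = n28060 := rfl
def n28061 : Q := act 4 n13385
theorem D28061 : act 4 n13385 = n28061 := rfl
def n28062 : Q := act 5 n13385
theorem D28062 : act 5 n13385 = n28062 := rfl
def n28063 : Q := act 6 n13385
theorem D28063 : act 6 n13385 = n28063 := rfl
def n28064 : Q := act 7 n13385
theorem D28064 : act 7 n13385 = n28064 := rfl
theorem F45330 : act 2 n28064 = n13386 := d4_1 D28064 F45329 (iv2 D28059)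
def n28065 : Q := act 3 n13386
theorem D28065 : act 3 n13386 = n28065 := rfl
def n28066 : Q := act 4 n13386
theorem D28066 : act 4 n13386 = n28066 := rfl
def n28067 : Q := act 5 n13386
theorem D28067 : act 5 n13386 = n28067 := rfl
def n28068 : Q := act 6 n13386
theorem D28068 : act 6 n13386 = n28068 := rfl
def n28069 : Q := act 0 n13387
theorem D28069 : act 0 n13387 = n28069 := rfl
theorem F45331 : act 1 n13389 = n28069 := d15_0 (iv0 D28069) (iv7 F45327) (iv2 F45325)
def n28070 : Q := act 1 n13387
theorem D28070 : act 1 n13387 = n28070 := rfl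
theorem F45332 : act 1 n28070 = n13389 := d15_1 D28070 (iv7 D13389) D13387
def n28071 : Q := act 5 n13387
theorem D28071 : act 5 n13387 = n28071 := rfl
theorem F45333 : act 2 n28071 = n13388 := d2_1 D28071 (iv5 D13388) D13387
theorem F45334 : act 3 n28071 = n28058 := d6_1 D28071 F45326 F22355
theorem F45335 : act 7 n28071 = n13436 := d13_2 F45327 D28071 (iv5 F45326)
theorem F45336 : act 1 n13435 = n28071 := d15_1 D13435 F45335 (iv2 D13436)
theorem F45337 : act 1 n28071 = n13434 := d15_0 (iv0 D13434) F22252 (iv2 F45333)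
def n28072 : Q := act 0 n13388
theorem D28072 : act 0 n13388 = n28072 := rfl
theorem F45338 : act 1 n13436 = n28072 := d15_0 (iv0 D28072) (iv7 F22252) D13436
def n28073 : Q := act 1 n13388
theorem D28073 : act 1 n13388 = n28073 := rfl
theorem F45339 : act 1 n28073 = n13436 := d15_1 D28073 (iv7 F45335) F45333
def n28074 : Q := act 4 n13388
theorem D28074 : act 4 n13388 = n28074 := rfl
theorem F45340 : act 3 n28074 = n13420 := d5_1 D28074 F22314 F10404 (iv4 F9869) (iv3 F22251)
theorem F45341 : act 7 n28074 = n13418 := d11_2 F22252 D28074 F22312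
def n28075 : Q := act 6 n13388
theorem D28075 : act 6 n13388 = n28075 := rfl
theorem F45342 : act 3 n28075 = n13390 := d7_1 D28075 (iv6 D13390) (iv3 F22251)
def n28076 : Q := act 6 n13389
theorem D28076 : act 6 n13389 = n28076 := rfl
theorem F45343 : act 3 n28076 = n13391 := d7_1 D28076 (iv6 D13391) (iv3 F22253)
theorem F45344 : act 5 n28076 = n28075 := d12_1 D28076 (iv6 D28075) (iv5 D13388) (iv6 F10412) (iv5 F22254)
theorem F45345 : act 7 n28076 = n28075 := d14_2 D13389 D28076 (iv6 D28075) (iv7 F22252) F10412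
def n28077 : Q := act 0 n13390
theorem D28077 : act 0 n13390 = n28077 := rfl
theorem F45346 : act 1 n13390 = n28077 := d15_0 (iv0 D28077) (iv7 F22259) F22256
def n28078 : Q := act 0 n13391
theorem D28078 : act 0 n13391 = n28078 := rfl
theorem F45347 : act 1 n13391 = n28078 := d15_0 (iv0 D28078) F22259 (iv2 F22256)
def n28079 : Q := act 2 n13392
theorem D28079 : act 2 n13392 = n28079 := rfl
theorem F45348 : act 7 n13392 = n28079 := d15_2 (iv0 D13392) F22260 (iv2 D28079)
def n28080 : Q := act 3 n13392
theorem D28080 : act 3 n13392 = n28080 := rfl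
def n28081 : Q := act 4 n13392
theorem D28081 : act 4 n13392 = n28081 := rfl
def n28082 : Q := act 5 n13392
theorem D28082 : act 5 n13392 = n28082 := rfl
theorem F45349 : act 0 n28082 = n25232 := d21_1 D28082 F39744 (iv6 D24795) (iv1 D11736) (iv6 D5458) (iv5 D2250) F5084 (iv5 F4263) D6346 D13392
theorem F45350 : act 6 n28082 = n14949 := d21_9 F38780 (iv1 F20556) F11440 (iv6 D6378) (iv1 F4329) D6346 F9878 D13392 D28082 (iv1 F38784)
theorem F45351 : act 0 n25232 = n28082 := d21_10 (iv5 D28082) (iv1 F22260) F9878 (iv6 D6346) (iv1 F4324) D6380 (iv5 F10609) D13747 F23001 D25232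
theorem F45352 : act 2 n24795 = n25232 := d15_3 (iv0 F45349) (iv0 F45351) F39745
theorem E5026 : n25229 = n11736 := (c3_4 D24795 F45352 (iv6 D25232) (iv2 F39743))
theorem E5027 : n24792 = n11971 := (((iv2 F38801)).symm.trans (sb E5026 F39743))
theorem E5028 : n24789 = n11970 := ((F38800).symm.trans (sb E5026 (iv7 D25229)))
theorem F45353 : act 2 n11971 = n11736 := (sb E5027 F38801)
theorem E5029 : n25226 = n11735 := ((F39740).symm.trans (sb E5027 (iv7 D24792)))
theorem F45354 : act 7 n11970 = n11736 := (sb E5028 (iv7 F38800))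
theorem F45355 : act 2 n11735 = n11970 := (sb E5029 (iv2 D25226))
theorem F45356 : act 7 n11735 = n11971 := (sb E5029 (iv7 F39740))
theorem F45357 : act 7 n25230 = n24790 := d8_2 F45356 D25230 (iv3 D24790)
theorem F45358 : act 7 n25231 = n24791 := d11_2 F45356 D25231 (iv4 D24791)
theorem F45359 : act 7 n13747 = n13983 := d13_2 F45356 (iv5 F23001) (iv5 F23301)
theorem F45360 : act 2 n13983 = n13748 := d15_3 F23306 F23308 F45359
theorem F45361 : act 2 n13747 = n13982 := d15_3 (iv0 D13982) D13983 (iv7 F45359)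
theorem F45362 : act 7 n13982 = n13748 := d4_2 (iv7 F45359) F45361 (iv2 F45360)
theorem F45363 : act 2 n25228 = n24791 := d1_3 (iv4 D24791) F45355 D25228
theorem F45364 : act 7 n24793 = n25227 := d8_2 F45354 D24793 (iv3 D25227)
theorem F45365 : act 7 n24794 = n25228 := d11_2 F45354 D24794 (iv4 D25228)
theorem F45366 : act 2 n25231 = n24794 := d4_3 F45365 F45363 (iv7 F45358)
def n28083 : Q := act 6 n13392
theorem D28083 : act 6 n13392 = n28083 := rfl
theorem F45367 : act 5 n28083 = n24373 := d21_6 (iv5 D2250) F5084 (iv5 F4263) D6346 D13392 D28083 (iv1 D24373) (iv5 F19086) (iv6 D11732) (iv1 D5456)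
def n28084 : Q := act 3 n13393
theorem D28084 : act 3 n13393 = n28084 := rfl
theorem F45368 : act 7 n28084 = n24162 := d8_2 (iv7 F22262) D28084 (iv3 D24162)
def n28085 : Q := act 6 n13393
theorem D28085 : act 6 n13393 = n28085 := rfl
theorem F45369 : act 2 n28085 = n24145 := d3_1 D28085 (iv6 D24145) (iv2 F22261)
theorem F45370 : act 4 n28085 = n13394 := d10_1 D28085 (iv6 D13394) D13393
def n28086 : Q := act 0 n13394
theorem D28086 : act 0 n13394 = n28086 := rfl
def n28087 : Q := act 1 n13394
theorem D28087 : act 1 n13394 = n28087 := rfl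
theorem F45371 : act 1 n28087 = n24149 := d15_1 D28087 (iv7 D24149) (iv2 F22263)
def n28088 : Q := act 7 n13394
theorem D28088 : act 7 n13394 = n28088 := rfl
theorem F45372 : act 2 n28088 = n24149 := d4_1 D28088 (iv7 D24149) (iv2 F22263)
theorem F45373 : act 6 n28088 = n24167 := d14_1 D28088 (iv7 D24167) (iv6 D11350) (iv7 F9889) D13394
theorem F45374 : act 1 n24149 = n28086 := d15_0 (iv0 D28086) D28088 F45372
theorem F45375 : act 1 n24147 = n28088 := d15_1 D24147 (iv7 D28088) F22263
theorem F45376 : act 1 n28088 = n24146 := d15_0 (iv0 D24146) D24149 (iv2 F45372)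
def n28089 : Q := act 0 n13397
theorem D28089 : act 0 n13397 = n28089 := rfl
theorem F45377 : act 5 n28089 = n24154 := d17_1 D28089 (iv1 F37865) (iv5 D12249) F10122 D11622 F19639 (iv5 F22279) (iv0 D13398) (iv4 F22275)
theorem F45378 : act 3 n28089 = n25383 := d20_5 F8848 F9997 D6359 D13397 D28089 F40145 (iv1 F24648) F18610 (iv3 D11385) F11424
theorem F45379 : act 2 n24509 = n28089 := d15_3 (iv0 D28089) (iv0 F38287) D24509
theorem F45380 : act 1 n14342 = n28089 := d15_0 (iv0 D28089) F22276 (iv2 F23958)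
theorem F45381 : act 7 n28089 = n24502 := d15_2 F37869 F45380 F38465
theorem F45382 : act 6 n25371 = n28089 := d21_9 (iv5 F37889) (iv1 F37892) (iv5 D14148) (iv6 D6726) (iv1 F4750) D3092 D6849 D14337 (iv5 F40707) (iv1 F45380)
def n28090 : Q := act 3 n13398
theorem D28090 : act 3 n13398 = n28090 := rfl
theorem F45383 : act 2 n28090 = n24161 := d0_1 D28090 F37874 (iv2 F19804) (iv3 F20325) F22277
theorem F45384 : act 4 n28090 = n25086 := d5_2 F39823 D28090 F39407 (iv4 F38822) (iv3 F39822)
theorem F45385 : act 5 n28090 = n25087 := d6_2 (iv5 F22279) D28090 (iv3 D25087)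
theorem F45386 : act 6 n28090 = n25799 := d7_2 F22281 D28090 F40779
theorem F45387 : act 7 n28090 = n24153 := d8_2 (iv7 F22280) D28090 F37862
theorem F45388 : act 0 n28090 = n24159 := d20_4 (iv4 D25271) (iv1 F39827) F39823 D28090 (iv3 F38136) D24545 (iv1 F39007) F39005 (iv3 F38999) F39881
theorem F45389 : act 0 n24158 = n28090 := d20_4 F9096 D12362 F36867 (iv3 F37959) (iv3 D28090) (iv4 F39823) (iv1 F39826) D25272 F39883 (iv1 D12363)
def n28091 : Q := act 4 n13405
theorem D28091 : act 4 n13405 = n28091 := rfl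
theorem F45390 : act 2 n28091 = n25750 := d1_1 D28091 F40669 (iv2 F27001)
theorem F45391 : act 3 n28091 = n16865 := d5_1 D28091 (iv4 F42216) F42215 F26457 F26430
theorem F45392 : act 6 n28091 = n16869 := d10_2 F27005 D28091 (iv4 F27619)
theorem F45393 : act 7 n28091 = n23770 := d11_2 (iv7 F27004) D28091 F37047
theorem F45394 : act 0 n28091 = n15940 := d18_2 F26281 D28091 (iv4 F26506) (iv5 D7955) F12598 (iv0 D7903) F5618 D3583 D7915
theorem F45395 : act 1 n28091 = n25562 := d18_8 (iv1 D26995) (iv4 F34024) (iv1 F37362) (iv4 D23935) (iv5 D11215) (iv4 F10373) D13405 D28091 (iv5 F43586)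
def n28092 : Q := act 6 n13412
theorem D28092 : act 6 n13412 = n28092 := rfl
theorem F45396 : act 3 n28092 = n13413 := d7_1 D28092 (iv6 D13413) D13412
def n28093 : Q := act 0 n13413
theorem D28093 : act 0 n13413 = n28093 := rfl
def n28094 : Q := act 1 n13413
theorem D28094 : act 1 n13413 = n28094 := rfl
def n28095 : Q := act 5 n13413
theorem D28095 : act 5 n13413 = n28095 := rfl
theorem F45397 : act 2 n28095 = n26078 := d2_1 D28095 (iv5 F41252) F37365
theorem F45398 : act 6 n28095 = n16583 := d12_2 D13413 D28095 F27058 F19047 (iv5 F11428)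
theorem F45399 : act 0 n28095 = n24215 := d21_7 (iv5 D6333) (iv1 D2651) D2652 (iv6 F4318) D6373 D13413 D28095 (iv5 F45217) (iv6 D27964) (iv1 F22208)
theorem F45400 : act 1 n28095 = n26079 := d15_1 (iv0 F45399) (iv7 D26079) (iv2 F37951)
def n28096 : Q := act 7 n13413
theorem D28096 : act 7 n13413 = n28096 := rfl
def n28097 : Q := act 2 n13414
theorem D28097 : act 2 n13414 = n28097 := rfl
theorem F45401 : act 1 n28097 = n25192 := d15_0 (iv0 F39645) F37364 D28097
theorem F45402 : act 1 n24238 = n28097 := d15_0 F45401 F39643 F38108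
def n28098 : Q := act 4 n13414
theorem D28098 : act 4 n13414 = n28098 := rfl
theorem F45403 : act 0 n28098 = n16486 := d18_2 (iv1 F38731) D28098 (iv4 D16486) (iv5 D7650) (iv4 F11870) F22440 (iv4 F8847) (iv0 F19057) D24745
theorem F45404 : act 0 n25039 = n28098 := d20_1 D25039 (iv4 D28098) (iv3 D13414) (iv1 D6374) F4317 D2740 (iv1 F8556) (iv4 D5599) D5598 (iv1 F22344)
def n28099 : Q := act 6 n13414
theorem D28099 : act 6 n13414 = n28099 := rfl
theorem F45405 : act 3 n28099 = n13415 := d7_1 D28099 (iv6 D13415) D13414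
def n28100 : Q := act 0 n13415
theorem D28100 : act 0 n13415 = n28100 := rfl
def n28101 : Q := act 1 n13415
theorem D28101 : act 1 n13415 = n28101 := rfl
def n28102 : Q := act 7 n13415
theorem D28102 : act 7 n13415 = n28102 := rfl
def n28103 : Q := act 3 n13416
theorem D28103 : act 3 n13416 = n28103 := rfl
theorem F45406 : act 7 n28103 = n25417 := d8_2 F22308 D28103 (iv3 D25417)
def n28104 : Q := act 5 n13416
theorem D28104 : act 5 n13416 = n28104 := rfl
theorem F45407 : act 2 n28104 = n25409 := d2_1 D28104 (iv5 D25409) F22307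
theorem F45408 : act 7 n28104 = n25418 := d13_2 F22308 D28104 (iv5 D25418)
theorem F45409 : act 4 n28104 = n23744 := d16_2 (iv4 F22306) D28104 (iv5 D23744) F18044 F10272 (iv4 F18382) F18383 (iv7 F18385) F18387
def n28105 : Q := act 6 n13416
theorem D28105 : act 6 n13416 = n28105 := rfl
theorem F45410 : act 2 n28105 = n25410 := d3_1 D28105 (iv6 D25410) F22307
theorem F45411 : act 4 n28105 = n23721 := d10_1 D28105 (iv6 D23721) (iv4 F22306)
def n28106 : Q := act 3 n13417
theorem D28106 : act 3 n13417 = n28106 := rfl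
theorem F45412 : act 7 n28106 = n25408 := d8_2 (iv7 F22309) D28106 (iv3 D25408)
def n28107 : Q := act 5 n13417
theorem D28107 : act 5 n13417 = n28107 := rfl
theorem F45413 : act 2 n28107 = n25418 := d2_1 D28107 (iv5 D25418) F22311
theorem F45414 : act 4 n28107 = n23742 := d9_1 D28107 (iv5 D23742) F18038 D11207 (iv4 F19796) F19795 (iv4 F22306) D28104 F45409 (iv5 D23744) F18044 F10272 (iv4 F18382) F18383 (iv4 F22310)
theorem F45415 : act 7 n28107 = n25409 := d13_2 (iv7 F22309) D28107 (iv5 D25409)
def n28108 : Q := act 6 n13417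
theorem D28108 : act 6 n13417 = n28108 := rfl
theorem F45416 : act 2 n28108 = n25419 := d3_1 D28108 (iv6 D25419) F22311
theorem F45417 : act 4 n28108 = n23722 := d10_1 D28108 (iv6 D23722) (iv4 F22310)
def n28109 : Q := act 0 n13418
theorem D28109 : act 0 n13418 = n28109 := rfl
def n28110 : Q := act 1 n13418
theorem D28110 : act 1 n13418 = n28110 := rfl
def n28111 : Q := act 2 n13418
theorem D28111 : act 2 n13418 = n28111 := rfl
theorem F45418 : act 4 n28111 = n13436 := d1_2 (iv4 F22312) D28111 (iv2 D13436)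
theorem F45419 : act 6 n28111 = n28014 := d3_2 (iv6 F22313) D28111 (iv2 D28014)
def n28112 : Q := act 5 n13418
theorem D28112 : act 5 n13418 = n28112 := rfl
theorem F45420 : act 3 n28112 = n13419 := d6_1 D28112 (iv5 D13419) D13418
def n28113 : Q := act 0 n13419
theorem D28113 : act 0 n13419 = n28113 := rfl
theorem F45421 : act 5 n28113 = n23715 := d17_3 (iv1 D13417) D13419 D28113 (iv4 D23715) (iv5 D11104) (iv0 D5076) D5078 D11109 (iv4 F22310)
theorem F45422 : act 4 n28113 = n23751 := d18_1 D28113 (iv1 D23751) D23752 F36993 F20004 F18012 (iv4 F22306) (iv0 D13416) D13419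
theorem F45423 : act 1 n23929 = n28113 := d15_0 (iv0 D28113) F37408 F37406
theorem F45424 : act 2 n25394 = n28113 := d1_3 F45422 (iv2 F36991) (iv4 F40167)
theorem F45425 : act 7 n25403 = n28113 := d11_0 F45422 F36989 (iv4 F40182)
def n28114 : Q := act 1 n13419
theorem D28114 : act 1 n13419 = n28114 := rfl
theorem F45426 : act 1 n28114 = n23929 := d15_1 D28114 F37375 F37373
theorem F45427 : act 7 n28114 = n25394 := d15_2 (iv0 D28113) D28114 F45424
theorem F45428 : act 5 n28114 = n23718 := d17_7 F18603 (iv5 D5741) F9907 D2726 D6375 D13419 D28114 (iv0 F37976) (iv4 D24224)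
theorem F45429 : act 4 n28114 = n23750 := d17_9 (iv1 F36987) F20064 (iv1 F18042) D23744 (iv4 F45409) (iv5 D28104) (iv0 D13416) D13419 D28114
theorem F45430 : act 2 n25403 = n28114 := d1_3 F45429 (iv2 F36985) (iv4 F40182)
def n28115 : Q := act 6 n13419
theorem D28115 : act 6 n13419 = n28115 := rfl
theorem F45431 : act 5 n28115 = n28020 := d12_1 D28115 (iv6 D28020) (iv5 D13368) (iv6 F10403) D13419
def n28116 : Q := act 6 n13420
theorem D28116 : act 6 n13420 = n28116 := rfl
theorem F45432 : act 4 n28116 = n13421 := d10_1 D28116 (iv6 D13421) (iv4 F22314)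
theorem F45433 : act 7 n28116 = n28022 := d14_2 D13420 D28116 (iv6 D28022) (iv7 D13369) (iv6 F10403)
def n28117 : Q := act 0 n13421
theorem D28117 : act 0 n13421 = n28117 := rfl
theorem F45434 : act 1 n27954 = n28117 := d15_0 (iv0 D28117) F22319 (iv2 F45180)
def n28118 : Q := act 1 n13421
theorem D28118 : act 1 n13421 = n28118 := rfl
theorem F45435 : act 1 n28118 = n27954 := d15_1 D28118 F45183 F37382
def n28119 : Q := act 6 n13422
theorem D28119 : act 6 n13422 = n28119 := rfl
theorem F45436 : act 2 n28119 = n13424 := d3_1 D28119 (iv6 D13424) D13422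
theorem F45437 : act 3 n28119 = n28026 := d7_1 D28119 (iv6 D28026) (iv3 F22320)
def n28120 : Q := act 5 n13423
theorem D28120 : act 5 n13423 = n28120 := rfl
theorem F45438 : act 7 n28120 = n28046 := d13_2 (iv7 F22325) D28120 (iv5 D28046)
def n28121 : Q := act 6 n13423
theorem D28121 : act 6 n13423 = n28121 := rfl
theorem F45439 : act 4 n28121 = n13424 := d10_1 D28121 (iv6 D13424) D13423
def n28122 : Q := act 0 n13424
theorem D28122 : act 0 n13424 = n28122 := rfl
def n28123 : Q := act 1 n13424
theorem D28123 : act 1 n13424 = n28123 := rfl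
def n28124 : Q := act 7 n13424
theorem D28124 : act 7 n13424 = n28124 := rfl
theorem F45440 : act 3 n28124 = n13427 := d8_1 D28124 (iv7 D13427) (iv3 F22326)
theorem F45441 : act 5 n28124 = n26088 := d13_1 D28124 F41270 F24609
theorem F45442 : act 6 n28124 = n28050 := d14_1 D28124 (iv7 D28050) (iv6 D13381) (iv7 F10407) D13424
def n28125 : Q := act 2 n13425
theorem D28125 : act 2 n13425 = n28125 := rfl
theorem F45443 : act 6 n28125 = n28055 := d3_2 (iv6 F23369) D28125 F45324
theorem F45444 : act 7 n13426 = n28125 := d15_2 (iv0 D13425) D13426 (iv2 D28125)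
def n28126 : Q := act 3 n13425
theorem D28126 : act 3 n13425 = n28126 := rfl
theorem F45445 : act 6 n28126 = n28056 := d7_2 (iv6 F23369) D28126 (iv3 D28056)
def n28127 : Q := act 4 n13425
theorem D28127 : act 4 n13425 = n28127 := rfl
theorem F45446 : act 6 n28127 = n28057 := d10_2 (iv6 F23369) D28127 (iv4 D28057)
def n28128 : Q := act 5 n13425
theorem D28128 : act 5 n13425 = n28128 := rfl
def n28129 : Q := act 7 n13425
theorem D28129 : act 7 n13425 = n28129 := rfl
theorem F45447 : act 2 n28129 = n13426 := d4_1 D28129 F45444 (iv2 D28125)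
def n28130 : Q := act 3 n13426
theorem D28130 : act 3 n13426 = n28130 := rfl
def n28131 : Q := act 4 n13426
theorem D28131 : act 4 n13426 = n28131 := rfl
def n28132 : Q := act 5 n13426
theorem D28132 : act 5 n13426 = n28132 := rfl
theorem F45448 : act 6 n28132 = n13526 := d21_3 (iv5 F22245) (iv1 F22327) D28132 (iv1 D13526) (iv6 D6431) F4413 (iv1 F5057) D1447 D3270 D7118
def n28133 : Q := act 6 n13426
theorem D28133 : act 6 n13426 = n28133 := rfl
theorem F45449 : act 7 n28133 = n28054 := d14_2 (iv7 F45444) D28133 (iv6 D28054) D28055 (iv6 F45443)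
theorem F45450 : act 5 n28133 = n25281 := d21_6 (iv5 F23299) (iv1 F23305) F23004 F22351 (iv1 F22327) D28133 (iv1 F39911) F24478 (iv6 F19758) (iv1 F19760)
theorem F45451 : act 7 n25281 = n14813 := d13_2 (iv7 F45449) F45450 (iv5 F45323)
theorem F45452 : act 0 n28083 = n28133 := d21_10 F45450 (iv1 F39911) F24478 (iv6 F19758) (iv1 F19760) D24795 (iv5 F39744) F45351 (iv5 D28082) D28083
theorem F45453 : act 2 n14813 = n25282 := d15_3 F39907 F39911 F45451
theorem F45454 : act 2 n25281 = n14812 := d15_3 (iv0 D14812) D14813 (iv7 F45451)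
theorem F45455 : act 2 n28042 = n28133 := d2_3 F45450 F45454 (iv5 F45307)
theorem F45456 : act 7 n14812 = n25282 := d4_2 (iv7 F45451) F45454 (iv2 F45453)
theorem E5030 : n28129 = n13377 := (c3_4 D28042 F45455 (iv6 D28133) (iv2 F45447))
theorem E5031 : n28038 = n13426 := (((iv2 F45305)).symm.trans (sb E5030 F45447))
theorem E5032 : n28034 = n13425 := ((F45304).symm.trans (sb E5030 (iv7 D28129)))
theorem F45457 : act 2 n13426 = n13377 := (sb E5031 F45305)
theorem E5033 : n28125 = n13376 := ((F45444).symm.trans (sb E5031 (iv7 D28038)))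
theorem F45458 : act 7 n13425 = n13377 := (sb E5032 (iv7 F45304))
theorem F45459 : act 2 n13376 = n13425 := (sb E5033 (iv2 D28125))
theorem E5034 : n28055 = n13432 := (((F23033).symm.trans (sb E5033 F45443))).symm
theorem F45460 : act 7 n13376 = n13426 := (sb E5033 (iv7 F45444))
theorem F45461 : act 2 n13432 = n13383 := (sb E5034 F45324)
theorem F45462 : act 7 n13432 = n13382 := (sb E5034 (iv7 D28055))
theorem F45463 : act 7 n14013 = n13782 := d13_2 F45462 (iv5 F23365) (iv5 F23032)
theorem E5035 : n28051 = n13431 := (c15_4 (iv0 D13431) D13432 F45462 D28051)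
theorem F45464 : act 2 n13431 = n13382 := (sb E5035 (iv2 D28051))
theorem F45465 : act 7 n13431 = n13383 := (sb E5035 (iv7 F45322))
theorem F45466 : act 7 n14014 = n13781 := d13_2 F45465 F23368 F23307
theorem F45467 : act 2 n13781 = n14013 := d15_3 (iv0 D14013) D14014 F45466
theorem F45468 : act 2 n14014 = n13782 := d4_1 (iv7 F45466) (iv7 F45463) (iv2 F45467)
theorem F45469 : act 2 n14005 = n13772 := d3_3 (iv6 F23370) F45468 (iv6 F23349)
theorem F45470 : act 7 n13773 = n14005 := d15_2 (iv0 D13772) D13773 F45469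
theorem F45471 : act 7 n14006 = n13772 := d15_2 (iv0 D14005) D14006 (iv2 F45469)
theorem F45472 : act 2 n13773 = n14006 := d4_3 F45471 (iv2 F45469) (iv7 F45470)
theorem F45473 : act 7 n28130 = n28035 := d8_2 F45460 D28130 (iv3 D28035)
theorem F45474 : act 7 n28131 = n28036 := d11_2 F45460 D28131 (iv4 D28036)
theorem F45475 : act 7 n28132 = n28037 := d13_2 F45460 D28132 (iv5 D28037)
theorem F45476 : act 2 n28127 = n28036 := d1_3 (iv4 D28036) F45459 D28127
theorem F45477 : act 2 n28128 = n28037 := d2_3 (iv5 D28037) F45459 D28128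
theorem F45478 : act 7 n28039 = n28126 := d8_2 F45458 D28039 (iv3 D28126)
theorem F45479 : act 7 n28040 = n28127 := d11_2 F45458 D28040 (iv4 D28127)
theorem F45480 : act 7 n28041 = n28128 := d13_2 F45458 D28041 (iv5 D28128)
theorem F45481 : act 2 n28132 = n28041 := d4_3 F45480 F45477 (iv7 F45475)
theorem F45482 : act 2 n23831 = n13526 := d3_3 (iv6 F45448) F45481 F45306
theorem F45483 : act 7 n13525 = n23831 := d15_2 F22668 F22667 F45482
theorem F45484 : act 7 n23830 = n13526 := d15_2 F37159 F37158 (iv2 F45482)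
theorem F45485 : act 2 n13525 = n23830 := d4_3 F45484 (iv2 F45482) (iv7 F45483)
theorem F45486 : act 2 n28131 = n28040 := d4_3 F45479 F45476 (iv7 F45474)
def n28134 : Q := act 4 n13428
theorem D28134 : act 4 n13428 = n28134 := rfl
theorem F45487 : act 2 n28134 = n13429 := d1_1 D28134 (iv4 D13429) D13428
theorem F45488 : act 7 n28134 = n28025 := d11_2 (iv7 F22336) D28134 (iv4 D28025)
theorem F45489 : act 0 n28134 = n28028 := d18_2 F22341 D28134 F45298 (iv5 D16484) F11870 (iv0 F22450) (iv4 F10109) F8625 D11956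
theorem F45490 : act 0 n28027 = n28134 := d20_7 D24241 (iv1 F40119) (iv4 D25372) F38408 (iv1 F36864) (iv3 F39275) (iv4 F45296) (iv4 D28134) F22334 (iv1 F22248)
def n28135 : Q := act 6 n13428
theorem D28135 : act 6 n13428 = n28135 := rfl
theorem F45491 : act 2 n28135 = n13430 := d3_1 D28135 (iv6 D13430) D13428
theorem F45492 : act 3 n28135 = n28044 := d7_1 D28135 (iv6 D28044) (iv3 F22334)
def n28136 : Q := act 1 n13429
theorem D28136 : act 1 n13429 = n28136 := rfl
theorem F45493 : act 1 n28136 = n28025 := d15_1 D28136 (iv7 F45488) F45487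
theorem F45494 : act 7 n28136 = n28028 := d15_2 F40098 D28136 (iv2 F45299)
theorem F45495 : act 4 n28136 = n24614 := d18_7 F39796 F24060 F22472 F10366 (iv5 F10409) D13429 D28136 F38615 (iv5 F39793)
theorem F45496 : act 2 n28027 = n28136 := d1_3 F45495 (iv2 F39274) (iv4 F45296)
def n28137 : Q := act 5 n13429
theorem D28137 : act 5 n13429 = n28137 := rfl
theorem F45497 : act 7 n28137 = n28029 := d13_2 (iv7 F22347) D28137 (iv5 D28029)
def n28138 : Q := act 6 n13429
theorem D28138 : act 6 n13429 = n28138 := rfl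
theorem F45498 : act 4 n28138 = n13430 := d10_1 D28138 (iv6 D13430) D13429
def n28139 : Q := act 0 n13430
theorem D28139 : act 0 n13430 = n28139 := rfl
def n28140 : Q := act 1 n13430
theorem D28140 : act 1 n13430 = n28140 := rfl
def n28141 : Q := act 7 n13430
theorem D28141 : act 7 n13430 = n28141 := rfl
theorem F45499 : act 3 n28141 = n13433 := d8_1 D28141 (iv7 D13433) (iv3 F22348)
theorem F45500 : act 6 n28141 = n28033 := d14_1 D28141 (iv7 D28033) (iv6 D13375) (iv7 F10410) D13430
def n28142 : Q := act 3 n13431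
theorem D28142 : act 3 n13431 = n28142 := rfl
theorem F45501 : act 7 n28142 = n28056 := d8_2 (iv7 F45465) D28142 (iv3 D28056)
def n28143 : Q := act 4 n13431
theorem D28143 : act 4 n13431 = n28143 := rfl
theorem F45502 : act 2 n28143 = n28053 := d1_1 D28143 (iv4 D28053) (iv2 F45464)
theorem F45503 : act 7 n28143 = n28057 := d11_2 (iv7 F45465) D28143 (iv4 D28057)
def n28144 : Q := act 6 n13431
theorem D28144 : act 6 n13431 = n28144 := rfl
theorem F45504 : act 2 n28144 = n28054 := d3_1 D28144 (iv6 D28054) (iv2 F45464)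
theorem F45505 : act 7 n28144 = n28042 := d14_2 (iv7 F45465) D28144 (iv6 D28042) (iv7 F45458) F23369
theorem F45506 : act 0 n28144 = n28083 := d21_4 (iv5 F10617) D13781 F23307 D28144 (iv6 D28083) D28082 F45349 F39744 (iv6 D24795) (iv1 D11736)
theorem F45507 : act 5 n28144 = n25282 := d21_6 F8636 (iv1 F8303) F5098 D6380 D13431 D28144 (iv1 D25282) (iv5 D12003) (iv6 D5665) (iv1 F8634)
def n28145 : Q := act 3 n13432
theorem D28145 : act 3 n13432 = n28145 := rfl
theorem F45508 : act 6 n28145 = n28035 := d7_2 F23033 D28145 (iv3 D28035)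
theorem F45509 : act 7 n28145 = n28052 := d8_2 (iv7 F45462) D28145 (iv3 D28052)
def n28146 : Q := act 4 n13432
theorem D28146 : act 4 n13432 = n28146 := rfl
theorem F45511 : act 6 n28146 = n28036 := d10_2 F23033 D28146 (iv4 D28036)
theorem F45512 : act 7 n28146 = n28053 := d11_2 (iv7 F45462) D28146 (iv4 D28053)
def n28147 : Q := act 2 n13434
theorem D28147 : act 2 n13434 = n28147 := rfl
theorem F45513 : act 7 n13435 = n28147 := d15_2 (iv0 D13434) D13435 (iv2 D28147)
def n28148 : Q := act 3 n13434
theorem D28148 : act 3 n13434 = n28148 := rfl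
def n28149 : Q := act 4 n13434
theorem D28149 : act 4 n13434 = n28149 := rfl
def n28150 : Q := act 5 n13434
theorem D28150 : act 5 n13434 = n28150 := rfl
def n28151 : Q := act 6 n13434
theorem D28151 : act 6 n13434 = n28151 := rfl
def n28152 : Q := act 7 n13434
theorem D28152 : act 7 n13434 = n28152 := rfl
theorem F45514 : act 2 n28152 = n13435 := d4_1 D28152 F45513 (iv2 D28147)
def n28153 : Q := act 3 n13435
theorem D28153 : act 3 n13435 = n28153 := rfl
def n28154 : Q := act 4 n13435
theorem D28154 : act 4 n13435 = n28154 := rfl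
def n28155 : Q := act 5 n13435
theorem D28155 : act 5 n13435 = n28155 := rfl
def n28156 : Q := act 6 n13435
theorem D28156 : act 6 n13435 = n28156 := rfl
def n28157 : Q := act 2 n13437
theorem D28157 : act 2 n13437 = n28157 := rfl
def n28158 : Q := act 3 n13437
theorem D28158 : act 3 n13437 = n28158 := rfl
def n28159 : Q := act 4 n13437
theorem D28159 : act 4 n13437 = n28159 := rfl
def n28160 : Q := act 5 n13437
theorem D28160 : act 5 n13437 = n28160 := rfl
theorem F45516 : act 0 n28160 = n24795 := d21_1 D28160 (iv5 F39744) (iv6 D25232) (iv1 D11971) (iv6 D5641) (iv5 D2344) (iv1 F7712) (iv5 F4328) D6382 D13437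
theorem F45517 : act 6 n28160 = n24774 := d21_9 F24613 (iv1 F20549) (iv5 F20551) (iv6 D6340) (iv1 F4331) D6382 F10414 D13437 D28160 (iv1 F38782)
theorem F45518 : act 0 n24795 = n28160 := d21_10 (iv5 D28160) (iv1 F22357) F10414 (iv6 D6382) (iv1 F4330) D6342 (iv5 F10785) D13982 F23299 D24795
def n28161 : Q := act 6 n13437
theorem D28161 : act 6 n13437 = n28161 := rfl
theorem F45519 : act 5 n28161 = n24271 := d21_6 (iv5 D2344) (iv1 F7712) (iv5 F4328) D6382 D13437 D28161 (iv1 D24271) (iv5 F19749) (iv6 D11967) (iv1 D5639)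
theorem F45520 : act 0 n28161 = n28042 := d21_10 F45307 (iv1 F39913) F39909 F19846 (iv1 F19756) D25232 F39744 F45518 (iv5 D28160) D28161
theorem F45521 : act 0 n28054 = n28161 := d21_4 (iv5 F10814) D14013 F23365 D28054 (iv6 D28161) D28160 F45516 (iv5 F39744) (iv6 D25232) (iv1 D11971)
def n28162 : Q := act 4 n13438
theorem D28162 : act 4 n13438 = n28162 := rfl
theorem F45522 : act 2 n28162 = n14409 := d1_1 D28162 F24060 F22545
theorem F45523 : act 6 n28162 = n14378 := d10_2 F22546 D28162 F24022
theorem F45524 : act 7 n28162 = n14314 := d11_2 (iv7 F22544) D28162 F23925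
theorem F45525 : act 5 n28162 = n24986 := d17_5 (iv1 D5411) D5414 D11657 (iv5 F22591) D28162 (iv0 D24986) (iv5 D11866) F18996 (iv4 D11652)
theorem F45526 : act 0 n28162 = n14271 := d17_0 (iv5 F23820) F26000 (iv5 D16484) F11870 D7650 F22452 (iv5 F22490) F22486 D28162
theorem F45527 : act 1 n28162 = n14407 := d18_8 (iv1 F39278) (iv4 F45296) F45490 (iv4 D28134) F22335 (iv4 F22489) F22486 D28162 (iv5 F39279)
def n28163 : Q := act 0 n13444
theorem D28163 : act 0 n13444 = n28163 := rfl
def n28164 : Q := act 1 n13444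
theorem D28164 : act 1 n13444 = n28164 := rfl
def n28165 : Q := act 2 n13444
theorem D28165 : act 2 n13444 = n28165 := rfl
theorem F45528 : act 6 n28165 = n25289 := d3_2 (iv6 F22374) D28165 (iv2 D25289)
def n28166 : Q := act 1 n13445
theorem D28166 : act 1 n13445 = n28166 := rfl
def n28167 : Q := act 2 n13445
theorem D28167 : act 2 n13445 = n28167 := rfl
theorem F45529 : act 4 n28167 = n13855 := d1_2 (iv4 F22375) D28167 (iv2 D13855)
theorem F45530 : act 6 n28167 = n17423 := d3_2 (iv6 F22376) D28167 (iv2 D17423)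
def n28168 : Q := act 0 n13446
theorem D28168 : act 0 n13446 = n28168 := rfl
theorem F45531 : act 4 n28168 = n24397 := d20_0 (iv1 D24397) F18804 (iv3 F21203) F41537 (iv3 D14047) F10870 F8672 D6393 D13446 D28168
theorem F45532 : act 1 n28167 = n28168 := d15_0 (iv0 D28168) F22379 D28167
def n28169 : Q := act 1 n13446
theorem D28169 : act 1 n13446 = n28169 := rfl
def n28170 : Q := act 2 n13446
theorem D28170 : act 2 n13446 = n28170 := rfl
theorem F45533 : act 3 n28170 = n28165 := d0_2 D13446 D28170 (iv2 D28165) (iv3 D13444) (iv2 F10433)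
theorem F45534 : act 4 n28170 = n14050 := d1_2 (iv4 F22377) D28170 (iv2 D14050)
theorem F45535 : act 6 n28170 = n14860 := d3_2 (iv6 F22378) D28170 (iv2 D14860)
theorem F45536 : act 7 n28170 = n28167 := d4_2 (iv7 F22379) D28170 (iv2 D28167)
theorem F45537 : act 1 n28170 = n24388 := d15_0 (iv0 F42819) (iv7 F22379) D28170
theorem F45538 : act 1 n28169 = n28167 := d15_1 D28169 (iv7 F45536) (iv2 D28170)
theorem F45539 : act 1 n28166 = n28170 := d15_1 D28166 F45536 (iv2 D28167)
def n28171 : Q := act 0 n13447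
theorem D28171 : act 0 n13447 = n28171 := rfl
theorem F45540 : act 1 n28165 = n28171 := d15_0 (iv0 D28171) F22381 D28165
def n28172 : Q := act 1 n13447
theorem D28172 : act 1 n13447 = n28172 := rfl
def n28173 : Q := act 2 n13447
theorem D28173 : act 2 n13447 = n28173 := rfl
theorem F45541 : act 3 n28173 = n28167 := d0_2 D13447 D28173 (iv2 D28167) (iv3 D13445) (iv2 F10436)
theorem F45542 : act 4 n28173 = n26986 := d1_2 F27760 D28173 F43565
theorem F45543 : act 6 n28173 = n15520 := d3_2 (iv6 F26480) D28173 (iv2 D15520)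
theorem F45544 : act 7 n28173 = n28165 := d4_2 (iv7 F22381) D28173 (iv2 D28165)
theorem F45545 : act 1 n28173 = n28163 := d15_0 (iv0 D28163) (iv7 F22381) D28173
theorem F45546 : act 1 n28172 = n28165 := d15_1 D28172 (iv7 F45544) (iv2 D28173)
theorem F45547 : act 1 n28164 = n28173 := d15_1 D28164 F45544 (iv2 D28165)
theorem E5036 : n28169 = n24300 := (c20_11 (iv4 F38244) (iv1 F38245) F18808 F12020 (iv1 F8097) D11440 (iv4 F37545) F43567 (iv4 F45542) F45541 (iv1 F45538))
theorem F45548 : act 0 n24300 = n13446 := (sb E5036 (iv1 D28169))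
theorem F45549 : act 1 n24300 = n28167 := (sb E5036 F45538)
theorem F45550 : act 3 n24396 = n28171 := d20_3 (iv4 F45529) (iv1 F45549) (iv4 F38244) (iv1 F45540) (iv3 F45533) F45534 (iv1 F23446) (iv4 F27108) F27107 (iv1 F23441)
def n28174 : Q := act 5 n13448
theorem D28174 : act 5 n13448 = n28174 := rfl
theorem F45551 : act 2 n28174 = n24249 := d2_1 D28174 (iv5 D24249) (iv2 F22885)
theorem F45552 : act 3 n28174 = n13693 := d6_1 D28174 (iv5 D13693) F22383
theorem F45553 : act 7 n28174 = n13712 := d13_2 (iv7 F22886) D28174 (iv5 D13712)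
def n28175 : Q := act 5 n13449
theorem D28175 : act 5 n13449 = n28175 := rfl
theorem F45554 : act 2 n28175 = n13712 := d2_1 D28175 (iv5 D13712) (iv2 F22894)
theorem F45555 : act 3 n28175 = n24436 := d6_1 D28175 (iv5 D24436) F22385
theorem F45556 : act 7 n28175 = n24249 := d13_2 F22893 D28175 (iv5 D24249)
def n28176 : Q := act 0 n13450
theorem D28176 : act 0 n13450 = n28176 := rfl
theorem F45557 : act 4 n28176 = n25770 := d18_1 D28176 (iv1 F40741) F40738 F20267 F8928 F18656 (iv4 F22382) (iv0 D13448) D13450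
theorem F45558 : act 3 n13697 = n28176 := d20_5 (iv4 F37603) (iv1 D24043) (iv4 D11281) (iv3 F10590) D13697 F45557 (iv1 F40741) F40738 F20266 (iv1 F18467)
theorem F45559 : act 7 n28176 = n13724 := d8_2 (iv7 F22867) F45558 (iv3 D13724)
theorem F45560 : act 7 n25781 = n25770 := d11_2 F45559 F40732 (iv4 F45557)
theorem F45561 : act 2 n25770 = n25780 := d15_3 (iv0 D25780) D25781 F45560
theorem F45562 : act 2 n25781 = n25771 := d15_3 F40740 F40741 (iv7 F45560)
theorem F45563 : act 7 n25771 = n25780 := d4_2 (iv7 F45560) F45562 (iv2 F45561)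
def n28177 : Q := act 1 n13450
theorem D28177 : act 1 n13450 = n28177 := rfl
theorem F45564 : act 5 n23796 = n28177 := d21_6 F4497 F8113 (iv5 F9833) D13315 F22130 D23796 (iv1 D28177) (iv5 D13450) (iv6 D6395) F4500
theorem F45565 : act 2 n28177 = n13724 := d2_1 F45564 F45148 F45145
theorem F45566 : act 3 n28177 = n24439 := d6_1 F45564 (iv5 F38980) F38978
theorem F45567 : act 4 n28177 = n25771 := d18_5 (iv1 F38568) (iv4 F18972) (iv1 F24502) (iv4 F37103) F45564 F40740 F40738 F20269 (iv5 F38567)
def n28178 : Q := act 4 n13450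
theorem D28178 : act 4 n13450 = n28178 := rfl
theorem F45568 : act 0 n28178 = n14186 := d18_2 (iv1 D28177) D28178 (iv4 D14186) (iv5 F18977) (iv4 F38596) (iv0 F38984) (iv4 F39699) (iv0 F39701) F45564
theorem F45569 : act 1 n28178 = n25778 := d18_6 (iv1 F8922) F19543 (iv1 D11530) (iv4 F10440) D13450 D28178 (iv4 D25778) F20257 F20253
def n28179 : Q := act 7 n13450
theorem D28179 : act 7 n13450 = n28179 := rfl
theorem F45570 : act 3 n28179 = n13458 := d8_1 D28179 (iv7 D13458) (iv3 F22386)
theorem F45571 : act 5 n28179 = n13451 := d13_1 D28179 (iv7 D13451) D13450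
theorem F45572 : act 1 n13724 = n28179 := d15_1 (iv0 F45149) (iv7 D28179) (iv2 F38908)
def n28180 : Q := act 5 n13452
theorem D28180 : act 5 n13452 = n28180 := rfl
theorem F45573 : act 2 n28180 = n24029 := d2_1 D28180 (iv5 D24029) F22393
theorem F45574 : act 3 n28180 = n24845 := d6_1 D28180 (iv5 D24845) (iv3 F22392)
def n28181 : Q := act 6 n13452
theorem D28181 : act 6 n13452 = n28181 := rfl
theorem F45575 : act 2 n28181 = n14934 := d3_1 D28181 F24602 F22393
theorem F45576 : act 3 n28181 = n24846 := d7_1 D28181 (iv6 D24846) (iv3 F22392)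
theorem F45577 : act 4 n28181 = n14263 := d10_1 D28181 (iv6 D14263) (iv4 F22510)
theorem F45578 : act 5 n28181 = n28097 := d21_6 (iv5 F4497) F8436 F8433 D6396 D13452 D28181 (iv1 F45402) (iv5 D24238) (iv6 D11396) F7912
theorem F45579 : act 0 n25236 = n28181 := d17_0 F45578 (iv1 F45402) (iv5 D24238) F18639 D11459 F22340 F22335 F19775 D25236
theorem F45580 : act 1 n13489 = n28181 := d18_8 (iv1 F45402) F39471 (iv1 D25111) (iv4 D11931) (iv5 F10417) F10416 (iv0 F22595) (iv4 F22646) F45578
def n28182 : Q := act 0 n13453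
theorem D28182 : act 0 n13453 = n28182 := rfl
theorem F45581 : act 4 n28182 = n14298 := d18_1 D28182 (iv1 F23886) F23838 F11065 (iv4 F11058) F11062 (iv4 F22510) (iv0 D13452) D13453
theorem F45582 : act 2 n24036 = n28182 := d15_3 (iv0 D28182) (iv0 F36941) (iv7 F37577)
theorem F45583 : act 3 n28182 = n24847 := d0_2 D24036 F45582 (iv2 F38903) (iv3 D13955) (iv2 F18374)
def n28183 : Q := act 4 n13453
theorem D28183 : act 4 n13453 = n28183 := rfl
theorem F45584 : act 0 n28183 = n14278 := d18_2 F36941 D28183 (iv4 D14278) D14279 (iv4 F39662) F39666 D25212 (iv0 F39705) (iv5 F36940)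
theorem F45585 : act 1 n28183 = n14191 := d18_6 (iv1 F22494) (iv4 F10105) F19538 (iv4 F10442) D13453 D28183 (iv4 D14191) F22540 F11075
def n28184 : Q := act 7 n13453
theorem D28184 : act 7 n13453 = n28184 := rfl
theorem F45586 : act 3 n28184 = n24441 := d8_1 D28184 (iv7 D24441) (iv3 F22394)
theorem F45587 : act 5 n28184 = n13454 := d13_1 D28184 (iv7 D13454) D13453
def n28185 : Q := act 4 n13455
theorem D28185 : act 4 n13455 = n28185 := rfl
theorem F45588 : act 2 n28185 = n13735 := d1_1 D28185 (iv4 D13735) (iv2 F22401)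
def n28186 : Q := act 6 n13455
theorem D28186 : act 6 n13455 = n28186 := rfl
theorem F45589 : act 2 n28186 = n13736 := d3_1 D28186 (iv6 D13736) (iv2 F22401)
theorem F45590 : act 5 n28186 = n28135 := d12_1 D28186 (iv6 D28135) F22335 (iv6 F19536) D13455
def n28187 : Q := act 4 n13456
theorem D28187 : act 4 n13456 = n28187 := rfl
theorem F45591 : act 2 n28187 = n13767 := d1_1 D28187 (iv4 D13767) F22402
theorem F45592 : act 1 n28187 = n14274 := d18_6 (iv1 F39330) F37795 (iv1 F23836) (iv4 F39662) F39663 D28187 (iv4 D14274) (iv0 F36905) (iv5 F39137)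
def n28188 : Q := act 6 n13456
theorem D28188 : act 6 n13456 = n28188 := rfl
theorem F45593 : act 2 n28188 = n13768 := d3_1 D28188 (iv6 D13768) F22402
def n28189 : Q := act 0 n13457
theorem D28189 : act 0 n13457 = n28189 := rfl
theorem F45594 : act 4 n28189 = n14266 := d20_2 D13457 D28189 (iv3 F36886) (iv1 F23730) F11033 (iv4 F11045) (iv1 F11046) (iv4 D6660) D6659 F19421
def n28190 : Q := act 1 n13457
theorem D28190 : act 1 n13457 = n28190 := rfl
theorem F45595 : act 4 n28190 = n14267 := d18_7 (iv1 F11061) F22515 F19540 F10442 D6399 D13457 D28190 F23828 F23826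
def n28191 : Q := act 3 n13457
theorem D28191 : act 3 n13457 = n28191 := rfl
def n28192 : Q := act 5 n13457
theorem D28192 : act 5 n13457 = n28192 := rfl
def n28193 : Q := act 7 n13457
theorem D28193 : act 7 n13457 = n28193 := rfl
theorem F45596 : act 4 n28193 = n13458 := d11_1 D28193 (iv7 D13458) D13457
def n28194 : Q := act 6 n13458
theorem D28194 : act 6 n13458 = n28194 := rfl
theorem F45597 : act 5 n28194 = n28194 := d12_1 D28194 (iv6 D28194) F22403 F10443 (iv5 F22403)
def n28195 : Q := act 5 n13459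
theorem D28195 : act 5 n13459 = n28195 := rfl
theorem F45598 : act 2 n28195 = n13950 := d2_1 D28195 (iv5 D13950) (iv2 F22408)
theorem F45599 : act 3 n28195 = n24852 := d6_1 D28195 (iv5 D24852) F22406
theorem F45600 : act 7 n28195 = n28180 := d13_2 (iv7 F22405) D28195 (iv5 D28180)
def n28196 : Q := act 6 n13459
theorem D28196 : act 6 n13459 = n28196 := rfl
theorem F45601 : act 2 n28196 = n13951 := d3_1 D28196 (iv6 D13951) (iv2 F22408)
theorem F45602 : act 3 n28196 = n24853 := d7_1 D28196 (iv6 D24853) F22406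
theorem F45603 : act 4 n28196 = n14228 := d10_1 D28196 (iv6 D14228) F22407
theorem F45604 : act 0 n13479 = n28196 := d20_10 F45603 (iv1 F24024) F24022 (iv3 F23987) (iv1 F24014) (iv3 F24017) (iv4 F38349) (iv1 F38351) (iv4 F38394) F38393
def n28197 : Q := act 1 n13460
theorem D28197 : act 1 n13460 = n28197 := rfl
theorem F45605 : act 1 n28197 = n28184 := d15_1 D28197 (iv7 D28184) (iv2 F22409)
theorem F45606 : act 7 n28197 = n28182 := d15_2 F37580 D28197 (iv2 F45582)
theorem F45607 : act 2 n13958 = n28197 := d4_3 F45606 (iv2 F45582) F37577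
theorem F45608 : act 3 n24855 = n28197 := d8_3 F45606 F45583 F38925
theorem F45609 : act 4 n14282 = n28197 := d11_3 F45606 F45581 (iv7 F37583)
theorem F45610 : act 1 n28184 = n24036 := d15_1 F45605 F37577 F45607
def n28198 : Q := act 4 n13460
theorem D28198 : act 4 n13460 = n28198 := rfl
theorem F45611 : act 2 n28198 = n28183 := d1_1 D28198 (iv4 D28183) (iv2 F22409)
theorem F45612 : act 6 n28198 = n28178 := d10_2 (iv6 F22411) D28198 (iv4 D28178)
theorem F45613 : act 1 n28198 = n14296 := d18_6 (iv1 F4809) (iv4 F22504) (iv1 D6403) (iv4 F10446) D13460 D28198 (iv4 D14296) F11072 F11065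
theorem F45614 : act 0 n28198 = n14244 := d20_7 (iv4 F10997) (iv1 F10998) (iv4 D6556) D6555 F19433 (iv3 F22410) D28198 (iv4 D14244) (iv3 D6781) (iv1 F4800)
def n28199 : Q := act 7 n13460
theorem D28199 : act 7 n13460 = n28199 := rfl
theorem F45615 : act 2 n28199 = n28184 := d4_1 D28199 (iv7 D28184) (iv2 F22409)
theorem F45616 : act 3 n28199 = n13968 := d8_1 D28199 F23254 (iv3 F22410)
theorem F45617 : act 5 n28199 = n13461 := d13_1 D28199 (iv7 D13461) D13460
theorem F45618 : act 1 n13958 = n28199 := d15_1 (iv0 F36941) (iv7 D28199) F22409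
theorem F45619 : act 1 n28199 = n28182 := d15_1 F45618 (iv7 F45606) (iv2 F45607)
def n28200 : Q := act 4 n13462
theorem D28200 : act 4 n13462 = n28200 := rfl
theorem F45620 : act 2 n28200 = n13987 := d1_1 D28200 (iv4 D13987) (iv2 F22418)
theorem F45621 : act 7 n28200 = n28185 := d11_2 (iv7 F22419) D28200 (iv4 D28185)
def n28201 : Q := act 6 n13462
theorem D28201 : act 6 n13462 = n28201 := rfl
theorem F45622 : act 2 n28201 = n13988 := d3_1 D28201 (iv6 D13988) (iv2 F22418)
def n28202 : Q := act 4 n13465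
theorem D28202 : act 4 n13465 = n28202 := rfl
theorem F45623 : act 2 n28202 = n14008 := d1_1 D28202 (iv4 D14008) (iv2 F22423)
theorem F45624 : act 7 n28202 = n28187 := d11_2 F22424 D28202 (iv4 D28187)
theorem F45625 : act 0 n28202 = n14268 := d18_2 (iv1 F22421) D28202 (iv4 D14268) (iv5 D6791) F4804 D3081 (iv4 F22504) F10447 (iv5 F22403)
def n28203 : Q := act 6 n13465
theorem D28203 : act 6 n13465 = n28203 := rfl
theorem F45626 : act 2 n28203 = n14009 := d3_1 D28203 (iv6 D14009) (iv2 F22423)
theorem F45627 : act 5 n28203 = n25196 := d12_1 D28203 (iv6 D25196) (iv5 D11957) D11958 F22422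
def n28204 : Q := act 0 n13466
theorem D28204 : act 0 n13466 = n28204 := rfl
theorem F45628 : act 4 n28204 = n14272 := d20_8 (iv4 F37732) (iv1 F37733) (iv4 D24040) D24039 F37591 F19137 D13466 D28204 (iv3 F36902) (iv1 F18478)
theorem F45629 : act 2 n28189 = n28204 := d1_3 F45628 F36903 (iv4 F45594)
theorem F45630 : act 7 n28190 = n28204 := d11_0 F45628 F36904 (iv4 F45595)
theorem F45631 : act 1 n28193 = n28204 := d18_6 D6793 F22496 F22398 F22396 (iv5 F22403) (iv4 F45596) F45628 (iv0 D14272) (iv5 D6795)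
def n28205 : Q := act 1 n13466
theorem D28205 : act 1 n13466 = n28205 := rfl
theorem F45632 : act 1 n28205 = n28193 := d15_1 D28205 (iv7 D28193) (iv2 F22427)
theorem F45633 : act 7 n28205 = n28189 := d15_2 (iv0 D28204) D28205 F45629
theorem F45634 : act 4 n28205 = n14235 := d18_7 (iv1 F22509) F22407 (iv1 D13459) F10446 D6404 D13466 D28205 F36906 F23814
theorem F45635 : act 2 n28190 = n28205 := d1_3 F45634 F36884 (iv4 F45595)
def n28206 : Q := act 3 n13466
theorem D28206 : act 3 n13466 = n28206 := rfl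
def n28207 : Q := act 5 n13466
theorem D28207 : act 5 n13466 = n28207 := rfl
theorem F45636 : act 2 n28207 = n28192 := d2_1 D28207 (iv5 D28192) (iv2 F22427)
def n28208 : Q := act 7 n13466
theorem D28208 : act 7 n13466 = n28208 := rfl
theorem F45637 : act 2 n28208 = n28193 := d4_1 D28208 (iv7 D28193) (iv2 F22427)
theorem F45638 : act 4 n28208 = n13467 := d11_1 D28208 (iv7 D13467) D13466
theorem F45639 : act 1 n28190 = n28208 := d15_1 D28190 (iv7 D28208) F22427
theorem F45640 : act 1 n28208 = n28189 := d15_1 F45639 (iv7 F45633) (iv2 F45635)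
def n28209 : Q := act 6 n13467
theorem D28209 : act 6 n13467 = n28209 := rfl
theorem F45641 : act 2 n28209 = n28194 := d3_1 D28209 (iv6 D28194) (iv2 F22428)
theorem F45642 : act 5 n28209 = n28209 := d12_1 D28209 (iv6 D28209) F22429 F10450 (iv5 F22429)
def n28210 : Q := act 4 n13468
theorem D28210 : act 4 n13468 = n28210 := rfl
theorem F45643 : act 2 n28210 = n13481 := d1_1 D28210 (iv4 D13481) (iv2 F22432)
theorem F45644 : act 7 n28210 = n13490 := d11_2 (iv7 F22434) D28210 (iv4 D13490)
def n28211 : Q := act 6 n13468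
theorem D28211 : act 6 n13468 = n28211 := rfl
theorem F45645 : act 2 n28211 = n13482 := d3_1 D28211 (iv6 D13482) (iv2 F22432)
theorem F45646 : act 3 n28211 = n24871 := d7_1 D28211 (iv6 D24871) (iv3 F22433)
theorem F45647 : act 5 n28211 = n24352 := d12_1 D28211 (iv6 D24352) (iv5 F22600) (iv6 D13469) D13468
def n28212 : Q := act 4 n13470
theorem D28212 : act 4 n13470 = n28212 := rfl
theorem F45648 : act 2 n28212 = n13490 := d1_1 D28212 (iv4 D13490) (iv2 F22601)
theorem F45649 : act 7 n28212 = n13481 := d11_2 (iv7 F22602) D28212 (iv4 D13481)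
def n28213 : Q := act 6 n13470
theorem D28213 : act 6 n13470 = n28213 := rfl
theorem F45650 : act 2 n28213 = n13491 := d3_1 D28213 (iv6 D13491) (iv2 F22601)
theorem F45651 : act 5 n28213 = n25200 := d12_1 D28213 (iv6 D25200) (iv5 F22576) F22577 D13470
theorem F45652 : act 0 n14947 = n28213 := d21_4 F38009 (iv1 D14843) D14845 (iv6 F24610) (iv6 D28213) (iv5 D13470) (iv1 D6407) D6408 (iv6 F18652) D24244
def n28214 : Q := act 4 n13471
theorem D28214 : act 4 n13471 = n28214 := rfl
theorem F45653 : act 2 n28214 = n13494 := d1_1 D28214 (iv4 D13494) (iv2 F22932)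
theorem F45654 : act 7 n28214 = n13498 := d11_2 (iv7 F22933) D28214 (iv4 D13498)
def n28215 : Q := act 6 n13471
theorem D28215 : act 6 n13471 = n28215 := rfl
theorem F45655 : act 2 n28215 = n13495 := d3_1 D28215 (iv6 D13495) (iv2 F22932)
theorem F45656 : act 3 n28215 = n24881 := d7_1 D28215 (iv6 D24881) (iv3 F38957)
def n28216 : Q := act 4 n13472
theorem D28216 : act 4 n13472 = n28216 := rfl
theorem F45657 : act 2 n28216 = n13498 := d1_1 D28216 (iv4 D13498) (iv2 F22929)
theorem F45658 : act 7 n28216 = n13494 := d11_2 (iv7 F22930) D28216 (iv4 D13494)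
def n28217 : Q := act 6 n13472
theorem D28217 : act 6 n13472 = n28217 := rfl
theorem F45659 : act 2 n28217 = n13500 := d3_1 D28217 (iv6 D13500) (iv2 F22929)
theorem F45660 : act 5 n28217 = n24340 := d12_1 D28217 (iv6 D24340) (iv5 D11468) D11469 F22605
def n28218 : Q := act 1 n13473
theorem D28218 : act 1 n13473 = n28218 := rfl
theorem F45661 : act 1 n28218 = n13505 := d15_1 D28218 (iv7 D13505) (iv2 F22608)
theorem F45662 : act 7 n28218 = n13501 := d15_2 (iv0 F24080) D28218 (iv2 F26050)
theorem F45663 : act 4 n28218 = n23986 := d18_7 (iv1 F11133) (iv4 D6837) (iv1 D3086) (iv4 F4406) D6408 D13473 D28218 F37469 (iv5 D14360)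
theorem F45664 : act 2 n13502 = n28218 := d1_3 F45663 F37472 F23935
def n28219 : Q := act 3 n13473
theorem D28219 : act 3 n13473 = n28219 := rfl
def n28220 : Q := act 5 n13473
theorem D28220 : act 5 n13473 = n28220 := rfl
theorem F45665 : act 2 n28220 = n13504 := d2_1 D28220 (iv5 D13504) (iv2 F22608)
theorem F45666 : act 4 n28220 = n14476 := d16_2 D13473 D28220 F24115 F11189 F4841 (iv4 F4409) (iv5 F10466) (iv7 D6423) (iv2 F10455)
theorem F45667 : act 7 n14474 = n28220 := d11_0 F45666 (iv7 D14476) D14474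
def n28221 : Q := act 7 n13473
theorem D28221 : act 7 n13473 = n28221 := rfl
theorem F45668 : act 2 n28221 = n13505 := d4_1 D28221 (iv7 D13505) (iv2 F22608)
theorem F45669 : act 4 n28221 = n13474 := d11_1 D28221 (iv7 D13474) D13473
theorem F45670 : act 5 n28221 = n14474 := d13_1 D28221 F45667 (iv5 D28220)
theorem F45671 : act 1 n13502 = n28221 := d15_1 D13502 (iv7 D28221) F22608
theorem F45672 : act 1 n28221 = n13501 := d15_1 F45671 (iv7 F45662) (iv2 F45664)
def n28222 : Q := act 6 n13474
theorem D28222 : act 6 n13474 = n28222 := rfl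
theorem F45673 : act 2 n28222 = n13506 := d3_1 D28222 (iv6 D13506) (iv2 F22609)
theorem F45674 : act 5 n28222 = n28222 := d12_1 D28222 (iv6 D28222) F22610 F10458 (iv5 F22610)
def n28223 : Q := act 1 n13475
theorem D28223 : act 1 n13475 = n28223 := rfl
theorem F45675 : act 1 n28223 = n24873 := d15_1 D28223 (iv7 F40101) F40099
theorem F45676 : act 5 n28223 = n24797 := d17_7 F45389 F45385 (iv1 F39418) (iv5 D24454) F18861 D13475 D28223 F45242 F45240
theorem F45677 : act 2 n14788 = n28223 := d2_3 F45676 (iv2 F39924) (iv5 F39931)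
theorem F45678 : act 4 n25805 = n28223 := d18_3 (iv1 F20305) D12259 (iv1 F40792) F45676 (iv4 D24797) (iv0 D11739) (iv4 F19039) F19662 (iv5 F20304)
def n28224 : Q := act 4 n13475
theorem D28224 : act 4 n13475 = n28224 := rfl
theorem F45679 : act 0 n28224 = n14559 := d18_2 (iv1 D28223) D28224 (iv4 D14559) F11219 (iv4 F18527) D24159 (iv4 F38133) (iv0 F38805) (iv5 F45676)
def n28225 : Q := act 6 n13475
theorem D28225 : act 6 n13475 = n28225 := rfl
theorem F45680 : act 3 n28225 = n13482 := d7_1 D28225 (iv6 D13482) (iv3 F22615)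
def n28226 : Q := act 1 n13476
theorem D28226 : act 1 n13476 = n28226 := rfl
theorem F45681 : act 7 n28226 = n24767 := d15_2 (iv0 F37937) D28226 F38758
theorem F45682 : act 4 n28226 = n24751 := d17_9 (iv1 D24751) (iv5 F23026) F23027 (iv5 D11145) (iv4 F9840) D13318 D27928 (iv5 F45105) D28226
theorem F45683 : act 2 n14803 = n28226 := d1_3 F45682 (iv2 F38744) (iv4 F24457)
theorem F45684 : act 6 n25271 = n28226 := d10_0 F45682 (iv6 F38742) D25271
def n28227 : Q := act 7 n13476
theorem D28227 : act 7 n13476 = n28227 := rfl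
theorem F45685 : act 3 n28227 = n13484 := d8_1 D28227 (iv7 D13484) (iv3 F22616)
theorem F45686 : act 5 n28227 = n24347 := d13_1 D28227 F45107 (iv5 F45105)
theorem F45687 : act 6 n28227 = n25235 := d14_1 D28227 F39759 (iv6 D24504) (iv7 F18940) D13476
theorem F45688 : act 1 n14803 = n28227 := d15_1 (iv0 F40106) (iv7 D28227) (iv2 F40103)
theorem F45689 : act 1 n28227 = n24767 := d15_1 F45688 (iv7 F45681) (iv2 F45683)
theorem F45690 : act 1 n27930 = n24347 := d17_6 (iv1 F38749) F38747 (iv1 F23340) (iv5 D13750) (iv4 F22137) (iv5 F45113) (iv5 F45686) F45689 (iv4 D24767)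
theorem F45691 : act 0 n25352 = n24348 := d20_1 D25352 (iv4 D24348) D24347 (iv1 F45690) F45112 (iv4 F45133) (iv1 F45134) (iv4 D24127) (iv3 F24019) F24020
theorem F45692 : act 0 n23784 = n24347 := d21_7 (iv5 F39887) (iv1 F45094) (iv5 D27923) (iv6 D13315) (iv1 F9837) D11138 D23784 (iv5 F45686) F45687 F39885
def n28228 : Q := act 5 n13477
theorem D28228 : act 5 n13477 = n28228 := rfl
theorem F45693 : act 2 n28228 = n14917 := d2_1 D28228 (iv5 D14917) F22619
theorem F45694 : act 3 n28228 = n24862 := d6_1 D28228 F38951 (iv3 F22618)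
theorem F45695 : act 7 n28228 = n24832 := d13_2 (iv7 F22621) D28228 (iv5 D24832)
theorem F45696 : act 0 n28228 = n14464 := d17_2 D13477 D28228 (iv5 F38022) F38021 F26054 F22612 F22610 F10461 D6412
theorem F45697 : act 1 n28228 = n14459 := d17_6 F24081 (iv5 D14428) (iv1 F24077) (iv5 D14360) (iv4 F22617) D28228 (iv5 F38843) (iv0 F39412) F20030
def n28229 : Q := act 0 n13478
theorem D28229 : act 0 n13478 = n28229 := rfl
theorem F45698 : act 5 n28229 = n24985 := d17_3 F10463 D13478 D28229 F39205 (iv5 F23977) (iv0 D14361) (iv5 D6868) (iv0 F10348) (iv4 F8402)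
theorem F45699 : act 2 n14922 = n28229 := d15_3 (iv0 D28229) F38722 F37918
theorem F45700 : act 1 n13488 = n28229 := d15_0 (iv0 D28229) (iv7 F38487) F38485
theorem F45701 : act 3 n28229 = n24869 := d0_2 D14922 F45699 (iv2 F38989) F24279 (iv2 F18553)
def n28230 : Q := act 4 n13478
theorem D28230 : act 4 n13478 = n28230 := rfl
theorem F45702 : act 5 n28230 = n14472 := d17_5 (iv1 F37124) (iv5 D11768) F10463 D13478 D28230 (iv0 D14472) (iv5 D6913) D6911 D14464
theorem F45703 : act 0 n28230 = n14379 := d18_2 (iv1 F38722) D28230 (iv4 D14379) (iv5 F22549) (iv4 F19106) F22607 (iv4 F38148) (iv0 F38719) F38717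
theorem F45704 : act 1 n28230 = n14381 := d18_6 (iv1 D1390) (iv4 F2390) D2811 D6412 D13478 D28230 (iv4 D14381) F11150 (iv5 D3105)
def n28231 : Q := act 6 n13478
theorem D28231 : act 6 n13478 = n28231 := rfl
def n28232 : Q := act 5 n13479
theorem D28232 : act 5 n13479 = n28232 := rfl
theorem F45705 : act 2 n28232 = n25318 := d2_1 D28232 (iv5 F39980) F37099
theorem F45706 : act 3 n28232 = n24864 := d6_1 D28232 (iv5 F38967) F38393
theorem F45707 : act 0 n28232 = n24936 := d17_2 F37936 D28232 (iv5 D24936) F19230 D11839 (iv0 F23986) (iv5 D14367) D14366 (iv4 F37934)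
theorem F45708 : act 1 n28232 = n25320 := d17_6 (iv1 F18739) (iv5 F18753) (iv1 F22631) (iv5 D13483) (iv4 F22623) D28232 F39987 (iv0 F19940) F18741
theorem F45709 : act 1 n25320 = n24257 := d15_1 F45708 F39982 (iv2 F45705)
theorem F45710 : act 0 n25361 = n24258 := d20_1 D25361 (iv4 D24258) D24257 (iv1 F45709) F39986 (iv4 F39999) (iv1 F40001) F39950 (iv3 F38589) F38591
theorem F45711 : act 7 n25317 = n28232 := d4_0 F45705 (iv7 F39982) F39984
theorem F45712 : act 1 n24257 = n24936 := d15_0 (iv0 F45707) (iv7 F45711) (iv2 F39984)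
def n28233 : Q := act 7 n13479
theorem D28233 : act 7 n13479 = n28233 := rfl
theorem F45713 : act 4 n28233 = n13484 := d11_1 D28233 (iv7 D13484) (iv4 F22623)
theorem F45714 : act 5 n28233 = n25317 := d13_1 D28233 F45711 (iv5 D28232)
theorem F45715 : act 6 n28233 = n25236 := d14_1 D28233 F39763 (iv6 D24511) F18937 D13479
theorem F45716 : act 4 n25317 = n16510 := d18_5 F22557 (iv4 F10796) (iv1 F23858) (iv4 F45713) F45714 (iv0 D16510) (iv4 D7668) D7667 (iv5 F11899)
theorem F45717 : act 0 n13951 = n28233 := d18_2 F23811 F23810 F45713 (iv5 F22633) D24348 (iv0 F45691) (iv4 D25352) (iv0 F24020) (iv5 D14377)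
def n28234 : Q := act 4 n13480
theorem D28234 : act 4 n13480 = n28234 := rfl
theorem F45718 : act 2 n28234 = n14808 := d1_1 D28234 (iv4 D14808) F22626
theorem F45719 : act 0 n28234 = n14405 := d18_2 D13480 D28234 (iv4 D14405) (iv5 D6892) (iv4 D3104) F4822 (iv4 F10457) F10461 D6413
theorem F45720 : act 1 n28234 = n14374 := d18_6 (iv1 F39213) F26078 (iv1 F22529) (iv4 F19106) (iv5 F22624) D28234 (iv4 D14374) D14373 (iv5 F39212)
def n28235 : Q := act 6 n13480
theorem D28235 : act 6 n13480 = n28235 := rfl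
theorem F45721 : act 2 n28235 = n14809 := d3_1 D28235 (iv6 D14809) F22626
theorem F45722 : act 5 n28235 = n24802 := d12_1 D28235 (iv6 D24802) (iv5 D11751) D11752 (iv5 F22624)
def n28236 : Q := act 0 n13481
theorem D28236 : act 0 n13481 = n28236 := rfl
theorem F45723 : act 4 n28236 = n14361 := d18_3 (iv1 F22562) D13481 D28236 F23977 (iv4 F39205) (iv0 F39206) F38148 (iv0 F22606) (iv5 F20486)
theorem F45724 : act 1 n13490 = n28236 := d15_0 (iv0 D28236) (iv7 F45649) F45648
def n28237 : Q := act 1 n13481
theorem D28237 : act 1 n13481 = n28237 := rfl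
theorem F45725 : act 1 n28237 = n13490 := d15_1 D28237 (iv7 F45644) F45643
theorem F45726 : act 4 n28237 = n14362 := d18_7 F11091 (iv4 F8402) F10463 (iv4 D6412) D6413 D13481 D28237 F23980 (iv5 D14313)
def n28238 : Q := act 3 n13481
theorem D28238 : act 3 n13481 = n28238 := rfl
def n28239 : Q := act 5 n13481
theorem D28239 : act 5 n13481 = n28239 := rfl
def n28240 : Q := act 6 n13481
theorem D28240 : act 6 n13481 = n28240 := rfl
theorem F45727 : act 4 n28240 = n13482 := d10_1 D28240 (iv6 D13482) D13481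
def n28241 : Q := act 0 n13482
theorem D28241 : act 0 n13482 = n28241 := rfl
def n28242 : Q := act 1 n13482
theorem D28242 : act 1 n13482 = n28242 := rfl
def n28243 : Q := act 5 n13482
theorem D28243 : act 5 n13482 = n28243 := rfl
theorem F45728 : act 2 n28243 = n24352 := d2_1 D28243 (iv5 F45647) F45645
theorem F45729 : act 6 n28243 = n13483 := d12_2 D13482 D28243 (iv5 D13483) (iv6 D6414) D6413
def n28244 : Q := act 7 n13482
theorem D28244 : act 7 n13482 = n28244 := rfl
def n28245 : Q := act 4 n13483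
theorem D28245 : act 4 n13483 = n28245 := rfl
theorem F45730 : act 2 n28245 = n24351 := d1_1 D28245 (iv4 D24351) (iv2 F22629)
theorem F45731 : act 7 n28245 = n24348 := d11_2 (iv7 F22634) D28245 (iv4 D24348)
theorem F45732 : act 0 n28245 = n24938 := d18_2 (iv1 F22631) D28245 (iv4 D24938) (iv5 D11839) (iv4 F19230) (iv0 F23688) F23686 F18731 (iv5 F18753)
def n28246 : Q := act 5 n13485
theorem D28246 : act 5 n13485 = n28246 := rfl
theorem F45733 : act 2 n28246 = n24875 := d2_1 D28246 (iv5 D24875) (iv2 F22635)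
theorem F45734 : act 3 n28246 = n27975 := d6_1 D28246 (iv5 D27975) (iv3 F22636)
theorem F45735 : act 7 n28246 = n24867 := d13_2 (iv7 F22637) D28246 (iv5 D24867)
theorem F45736 : act 0 n28246 = n27955 := d17_2 F22639 D28246 (iv5 F45186) F38495 F19443 F19308 (iv5 D11868) F10146 D6940
theorem F45737 : act 1 n28246 = n25259 := d17_6 (iv1 D14609) D14610 (iv1 F38939) (iv5 D13486) D13485 D28246 F39843 F39262 F24275
def n28247 : Q := act 6 n13485
theorem D28247 : act 6 n13485 = n28247 := rfl
theorem F45738 : act 2 n28247 = n24876 := d3_1 D28247 (iv6 D24876) (iv2 F22635)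
theorem F45739 : act 3 n28247 = n25284 := d7_1 D28247 F39915 (iv3 F22636)
theorem F45740 : act 4 n28247 = n13487 := d10_1 D28247 (iv6 D13487) D13485
theorem F45741 : act 5 n28247 = n24480 := d21_6 F39233 F39232 (iv5 D14532) F19420 F22639 D28247 (iv1 F38436) (iv5 D11597) D11598 D24514
theorem F45742 : act 0 n14161 = n28247 := d17_0 F45741 (iv1 F38436) (iv5 D11597) (iv4 D5391) D5392 F18895 F19313 F19774 (iv4 F23678)
def n28248 : Q := act 0 n13486
theorem D28248 : act 0 n13486 = n28248 := rfl
theorem F45743 : act 4 n28248 = n25897 := d18_1 D28248 (iv1 F40923) (iv4 D14535) (iv5 D6948) F10144 (iv0 D5559) (iv4 F8439) F18106 D13486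
theorem F45744 : act 2 n14919 = n28248 := d15_3 (iv0 D28248) F38939 (iv7 F24575)
theorem F45745 : act 1 n24858 = n28248 := d15_0 (iv0 D28248) F22642 (iv2 F38936)
theorem F45746 : act 7 n28248 = n24869 := d15_2 (iv0 F38938) F45745 (iv2 F38989)
def n28249 : Q := act 4 n13486
theorem D28249 : act 4 n13486 = n28249 := rfl
theorem F45747 : act 2 n28249 = n24877 := d1_1 D28249 (iv4 D24877) (iv2 F22640)
theorem F45748 : act 7 n28249 = n24870 := d11_2 (iv7 F22642) D28249 (iv4 D24870)
theorem F45749 : act 1 n28249 = n14540 := d18_6 D3131 D6940 F22639 (iv4 D13485) D13486 D28249 (iv4 D14540) (iv0 D6950) (iv5 D3135)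
theorem F45750 : act 0 n28249 = n14543 := d20_1 D28249 (iv4 D14543) D14542 (iv1 F38579) F18967 D13393 (iv1 F37915) (iv4 D24198) (iv3 F24279) (iv1 F38939)
def n28250 : Q := act 6 n13486
theorem D28250 : act 6 n13486 = n28250 := rfl
theorem F45751 : act 2 n28250 = n24878 := d3_1 D28250 (iv6 D24878) (iv2 F22640)
theorem F45752 : act 3 n28250 = n13491 := d7_1 D28250 (iv6 D13491) (iv3 F22641)
def n28251 : Q := act 0 n13487
theorem D28251 : act 0 n13487 = n28251 := rfl
theorem F45753 : act 4 n28251 = n24102 := d18_3 F45742 F45740 D28251 (iv5 D24102) D24101 F37760 (iv4 F38279) (iv0 F38280) F37127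
theorem F45754 : act 5 n28251 = n24551 := d21_0 (iv1 F38811) (iv5 D14603) F19370 (iv1 D6978) D6980 D14610 (iv1 F38939) (iv5 D13486) D13487 D28251
theorem F45755 : act 2 n14933 = n28251 := d15_3 (iv0 D28251) F38831 (iv7 F24598)
theorem F45756 : act 1 n24879 = n28251 := d15_0 (iv0 D28251) (iv7 F38860) (iv2 F39009)
theorem F45757 : act 7 n28251 = n24846 := d15_2 F39010 F45756 F38899
def n28252 : Q := act 4 n13488
theorem D28252 : act 4 n13488 = n28252 := rfl
theorem F45758 : act 0 n28252 = n14381 := d18_2 (iv1 F45700) D28252 (iv4 D14381) F22559 (iv4 F19109) F38820 (iv4 F39874) (iv0 F39877) (iv5 F45698)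
theorem F45759 : act 1 n28252 = n14379 := d18_6 (iv1 F4823) (iv4 F10457) (iv1 F10460) D6417 D13488 D28252 (iv4 D14379) (iv0 D6877) (iv5 D3100)
theorem F45760 : act 5 n14473 = n28252 := d17_7 (iv1 F11153) (iv5 D3105) (iv1 D1390) D1391 D3109 D6913 D14473 F45759 (iv4 D14379)
theorem F45761 : act 4 n28239 = n14473 := d16_2 D13481 D28239 F45760 (iv4 D28252) (iv5 D13488) (iv4 D6417) D6418 (iv7 F22434) F22432
def n28253 : Q := act 6 n13488
theorem D28253 : act 6 n13488 = n28253 := rfl
def n28254 : Q := act 3 n13490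
theorem D28254 : act 3 n13490 = n28254 := rfl
def n28255 : Q := act 5 n13490
theorem D28255 : act 5 n13490 = n28255 := rfl
theorem F45762 : act 4 n28255 = n14472 := d9_1 D28255 (iv5 F45702) (iv4 D28230) (iv5 D13478) (iv4 D6412) D6413 D13481 D28239 F45761 F45760 (iv4 D28252) (iv5 D13488) (iv4 D6417) D6418 D13490
def n28256 : Q := act 6 n13490
theorem D28256 : act 6 n13490 = n28256 := rfl
theorem F45763 : act 4 n28256 = n13491 := d10_1 D28256 (iv6 D13491) D13490
def n28257 : Q := act 0 n13491
theorem D28257 : act 0 n13491 = n28257 := rfl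
def n28258 : Q := act 1 n13491
theorem D28258 : act 1 n13491 = n28258 := rfl
theorem F45764 : act 5 n28119 = n28258 := d21_6 (iv5 D5495) F19326 D11455 F18721 (iv1 F22323) D28119 (iv1 D28258) (iv5 F38835) (iv6 D24810) (iv1 D11754)
theorem F45765 : act 2 n28258 = n14947 := d2_1 F45764 F24609 (iv2 F45436)
def n28259 : Q := act 7 n13491
theorem D28259 : act 7 n13491 = n28259 := rfl
theorem F45766 : act 1 n14947 = n28259 := d15_1 (iv0 F45652) (iv7 D28259) (iv2 F45650)
def n28260 : Q := act 6 n13493
theorem D28260 : act 6 n13493 = n28260 := rfl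
theorem F45767 : act 3 n28260 = n13495 := d7_1 D28260 (iv6 D13495) D13493
def n28261 : Q := act 0 n13494
theorem D28261 : act 0 n13494 = n28261 := rfl
theorem F45768 : act 4 n28261 = n14360 := d18_3 D6420 D13494 D28261 (iv5 D14360) (iv4 F22617) (iv0 D13477) (iv4 D6412) (iv0 D2811) D2813
theorem F45769 : act 1 n13498 = n28261 := d15_0 (iv0 D28261) (iv7 F45658) F45657
def n28262 : Q := act 3 n13494
theorem D28262 : act 3 n13494 = n28262 := rfl
def n28263 : Q := act 5 n13494
theorem D28263 : act 5 n13494 = n28263 := rfl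
theorem F45770 : act 4 n28263 = n14465 := d16_2 D13494 D28263 (iv5 D14465) D14464 (iv5 F38022) F38021 F26054 (iv7 F22933) F22932
def n28264 : Q := act 6 n13494
theorem D28264 : act 6 n13494 = n28264 := rfl
theorem F45771 : act 4 n28264 = n13495 := d10_1 D28264 (iv6 D13495) D13494
def n28265 : Q := act 0 n13495
theorem D28265 : act 0 n13495 = n28265 := rfl
def n28266 : Q := act 1 n13495
theorem D28266 : act 1 n13495 = n28266 := rfl
def n28267 : Q := act 5 n13495
theorem D28267 : act 5 n13495 = n28267 := rfl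
theorem F45772 : act 6 n28267 = n13985 := d12_2 D13495 D28267 (iv5 F38847) (iv6 D24820) (iv5 F22614)
def n28268 : Q := act 7 n13495
theorem D28268 : act 7 n13495 = n28268 := rfl
def n28269 : Q := act 4 n13497
theorem D28269 : act 4 n13497 = n28269 := rfl
theorem F45773 : act 2 n28269 = n24883 := d1_1 D28269 (iv4 D24883) F24278
theorem F45774 : act 7 n28269 = n24880 := d11_2 F38956 D28269 (iv4 D24880)
theorem F45775 : act 0 n28269 = n14150 := d18_2 (iv1 F23745) D28269 (iv4 D14150) (iv5 D6730) (iv4 F10972) (iv0 F22638) (iv4 D13485) (iv0 F18105) (iv5 F19180)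
theorem F45776 : act 1 n28269 = n14533 := d18_6 D14655 (iv4 F39921) F39923 F38285 (iv5 F23743) D28269 (iv4 D14533) F20386 D7001
def n28270 : Q := act 6 n13497
theorem D28270 : act 6 n13497 = n28270 := rfl
theorem F45777 : act 2 n28270 = n24884 := d3_1 D28270 (iv6 D24884) F24278
theorem F45778 : act 3 n28270 = n13500 := d7_1 D28270 (iv6 D13500) D13497
def n28271 : Q := act 3 n13498
theorem D28271 : act 3 n13498 = n28271 := rfl
def n28272 : Q := act 5 n13498
theorem D28272 : act 5 n13498 = n28272 := rfl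
theorem F45779 : act 4 n28272 = n14460 := d9_1 D28272 (iv5 D14460) D14459 (iv5 F38843) (iv4 D24819) (iv5 F22614) D13494 D28263 F45770 (iv5 D14465) D14464 (iv5 F38022) F38021 F26054 D13498
def n28273 : Q := act 6 n13498
theorem D28273 : act 6 n13498 = n28273 := rfl
theorem F45780 : act 4 n28273 = n13500 := d10_1 D28273 (iv6 D13500) D13498
def n28274 : Q := act 0 n13500
theorem D28274 : act 0 n13500 = n28274 := rfl
def n28275 : Q := act 1 n13500
theorem D28275 : act 1 n13500 = n28275 := rfl
def n28276 : Q := act 5 n13500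
theorem D28276 : act 5 n13500 = n28276 := rfl
theorem F45781 : act 2 n28276 = n24340 := d2_1 D28276 (iv5 F45660) F45659
theorem F45782 : act 6 n28276 = n24327 := d12_2 D13500 D28276 (iv5 D24327) (iv6 F26055) F26054
def n28277 : Q := act 7 n13500
theorem D28277 : act 7 n13500 = n28277 := rfl
def n28278 : Q := act 3 n13501
theorem D28278 : act 3 n13501 = n28278 := rfl
def n28279 : Q := act 5 n13501
theorem D28279 : act 5 n13501 = n28279 := rfl
theorem F45783 : act 4 n28279 = n14450 := d16_2 (iv4 F26051) D28279 (iv5 D14450) (iv4 D6907) D6908 D14452 F24105 F26021 D14426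
def n28280 : Q := act 6 n13501
theorem D28280 : act 6 n13501 = n28280 := rfl
def n28281 : Q := act 3 n13502
theorem D28281 : act 3 n13502 = n28281 := rfl
def n28282 : Q := act 5 n13502
theorem D28282 : act 5 n13502 = n28282 := rfl
theorem F45784 : act 4 n28282 = n14434 := d9_1 D28282 (iv5 D14434) (iv4 D6902) D6903 D14438 F26046 (iv4 F26051) D28279 F45783 (iv5 D14450) (iv4 D6907) D6908 D14452 F24105 F23935
def n28283 : Q := act 6 n13502
theorem D28283 : act 6 n13502 = n28283 := rfl
def n28284 : Q := act 0 n13503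
theorem D28284 : act 0 n13503 = n28284 := rfl
def n28285 : Q := act 1 n13503
theorem D28285 : act 1 n13503 = n28285 := rfl
def n28286 : Q := act 2 n13503
theorem D28286 : act 2 n13503 = n28286 := rfl
theorem F45785 : act 4 n28286 = n13520 := d1_2 (iv4 F22650) D28286 (iv2 D13520)
def n28287 : Q := act 5 n13503
theorem D28287 : act 5 n13503 = n28287 := rfl
theorem F45786 : act 3 n28287 = n13504 := d6_1 D28287 (iv5 D13504) D13503
def n28288 : Q := act 7 n13503
theorem D28288 : act 7 n13503 = n28288 := rfl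
theorem F45787 : act 3 n28288 = n13505 := d8_1 D28288 (iv7 D13505) D13503
theorem F45788 : act 4 n28288 = n13522 := d11_1 D28288 (iv7 D13522) (iv4 F22650)
def n28289 : Q := act 0 n13504
theorem D28289 : act 0 n13504 = n28289 := rfl
theorem F45789 : act 5 n28289 = n14374 := d17_3 (iv1 D13502) D13504 D28289 (iv4 D14374) (iv5 D6874) (iv0 F11148) D14204 F23994 F23935
theorem F45790 : act 4 n14411 = n28289 := d16_2 D6894 D14411 F45789 (iv4 D14374) (iv5 D6874) (iv4 D3099) D3100 (iv7 F11174) F11173
theorem F45791 : act 1 n14474 = n28289 := d17_6 (iv1 F22562) (iv5 D6413) (iv1 F10461) (iv5 F22610) (iv4 F45669) F45670 F45789 (iv0 F41145) (iv4 D26029)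
def n28290 : Q := act 1 n13504
theorem D28290 : act 1 n13504 = n28290 := rfl
theorem F45792 : act 1 n28290 = n14474 := d15_1 D28290 F45667 F45665
theorem F45793 : act 5 n28290 = n14405 := d17_7 (iv1 F22627) (iv5 D6418) (iv1 D2812) D2813 D6422 D13504 D28290 (iv0 F45719) (iv4 D28234)
theorem F45794 : act 4 n14386 = n28290 := d9_15 F45793 (iv4 D14405) (iv5 D6892) (iv4 D3104) D3105 D6894 D14411 F45790 F45789 (iv4 D14374) (iv5 D6874) (iv4 D3099) D3100 D6879 D14386
def n28291 : Q := act 4 n13504
theorem D28291 : act 4 n13504 = n28291 := rfl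
theorem F45795 : act 2 n28291 = n14476 := d1_1 D28291 (iv4 F45666) F45665
theorem F45796 : act 5 n28291 = n14330 := d9_2 D13504 D28291 F23939 F11095 (iv4 F10457) (iv5 F22610) (iv4 F45669) F45670 (iv4 D14474) (iv5 D6913) (iv4 D3109) (iv5 D1391) (iv4 F2390) D2813 D6422
theorem F45797 : act 0 n28291 = n14473 := d18_2 (iv1 D28290) D28291 (iv4 F45761) (iv5 D28239) (iv4 D13481) F22562 D26029 F41146 (iv5 F45793)
theorem F45798 : act 1 n28291 = n14472 := d18_8 F45703 (iv4 D14379) (iv1 F11153) D6894 D14411 F45790 (iv0 D28289) D28291 (iv5 F45702)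
theorem F45799 : act 7 n28291 = n14329 := d15_2 D14473 (iv0 F45797) F23937
def n28292 : Q := act 6 n13504
theorem D28292 : act 6 n13504 = n28292 := rfl
def n28293 : Q := act 7 n13504
theorem D28293 : act 7 n13504 = n28293 := rfl
theorem F45800 : act 2 n28293 = n14474 := d4_1 D28293 F45667 F45665
theorem F45801 : act 4 n28293 = n14329 := d11_1 D28293 (iv7 F45799) (iv4 D28291)
theorem F45802 : act 5 n28293 = n13505 := d13_1 D28293 (iv7 D13505) D13504
def n28294 : Q := act 6 n13505
theorem D28294 : act 6 n13505 = n28294 := rfl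
theorem F45803 : act 4 n28294 = n13506 := d10_1 D28294 (iv6 D13506) (iv4 F22651)
def n28295 : Q := act 0 n13506
theorem D28295 : act 0 n13506 = n28295 := rfl
def n28296 : Q := act 1 n13506
theorem D28296 : act 1 n13506 = n28296 := rfl
def n28297 : Q := act 0 n13507
theorem D28297 : act 0 n13507 = n28297 := rfl
def n28298 : Q := act 1 n13507
theorem D28298 : act 1 n13507 = n28298 := rfl
theorem F45804 : act 1 n28298 = n24912 := d15_1 D28298 (iv7 D24912) (iv2 F22654)
def n28299 : Q := act 5 n13507
theorem D28299 : act 5 n13507 = n28299 := rfl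
theorem F45805 : act 2 n28299 = n24911 := d2_1 D28299 (iv5 D24911) (iv2 F22654)
theorem F45806 : act 3 n28299 = n13510 := d6_1 D28299 (iv5 D13510) (iv3 F22655)
theorem F45807 : act 6 n28299 = n13947 := d12_2 D13507 D28299 (iv5 F23233) (iv6 D11375) (iv5 F10467)
def n28300 : Q := act 7 n13507
theorem D28300 : act 7 n13507 = n28300 := rfl
theorem F45808 : act 2 n28300 = n24912 := d4_1 D28300 (iv7 D24912) (iv2 F22654)
theorem F45809 : act 3 n28300 = n13511 := d8_1 D28300 (iv7 D13511) (iv3 F22655)
theorem F45810 : act 6 n28300 = n24916 := d14_1 D28300 (iv7 D24916) (iv6 D11825) F11490 D13507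
theorem F45811 : act 1 n24912 = n28297 := d15_0 (iv0 D28297) D28300 F45808
theorem F45812 : act 1 n24910 = n28300 := d15_1 D24910 (iv7 D28300) F22654
theorem F45813 : act 1 n28300 = n24909 := d15_0 (iv0 D24909) D24912 (iv2 F45808)
def n28301 : Q := act 2 n13508
theorem D28301 : act 2 n13508 = n28301 := rfl
theorem F45814 : act 7 n13509 = n28301 := d15_2 (iv0 D13508) D13509 (iv2 D28301)
def n28302 : Q := act 3 n13508
theorem D28302 : act 3 n13508 = n28302 := rfl
def n28303 : Q := act 4 n13508
theorem D28303 : act 4 n13508 = n28303 := rfl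
def n28304 : Q := act 5 n13508
theorem D28304 : act 5 n13508 = n28304 := rfl
def n28305 : Q := act 7 n13508
theorem D28305 : act 7 n13508 = n28305 := rfl
theorem F45815 : act 2 n28305 = n13509 := d4_1 D28305 F45814 (iv2 D28301)
def n28306 : Q := act 3 n13509
theorem D28306 : act 3 n13509 = n28306 := rfl
def n28307 : Q := act 4 n13509
theorem D28307 : act 4 n13509 = n28307 := rfl
def n28308 : Q := act 5 n13509
theorem D28308 : act 5 n13509 = n28308 := rfl
theorem F45816 : act 6 n28308 = n13799 := d21_3 (iv5 F37139) (iv1 F37142) D28308 (iv1 F23048) (iv6 D6563) F4519 (iv1 F2462) D2984 D6654 D13995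
def n28309 : Q := act 6 n13509
theorem D28309 : act 6 n13509 = n28309 := rfl
def n28310 : Q := act 4 n13510
theorem D28310 : act 4 n13510 = n28310 := rfl
theorem F45817 : act 6 n28310 = n13978 := d10_2 (iv6 F22656) D28310 (iv4 D13978)
def n28311 : Q := act 4 n13512
theorem D28311 : act 4 n13512 = n28311 := rfl
theorem F45818 : act 2 n28311 = n13513 := d1_1 D28311 (iv4 D13513) D13512
theorem F45819 : act 7 n28311 = n24905 := d11_2 (iv7 F22660) D28311 (iv4 D24905)
theorem F45820 : act 0 n28311 = n25345 := d18_2 (iv1 F22661) D28311 (iv4 D25345) (iv5 D12034) F8784 (iv0 F19360) F8374 F9975 D7040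
def n28312 : Q := act 6 n13512
theorem D28312 : act 6 n13512 = n28312 := rfl
theorem F45821 : act 2 n28312 = n13514 := d3_1 D28312 (iv6 D13514) D13512
theorem F45822 : act 3 n28312 = n24225 := d7_1 D28312 (iv6 D24225) (iv3 F22658)
theorem F45823 : act 5 n28312 = n24891 := d12_1 D28312 (iv6 D24891) (iv5 D11806) (iv6 F19508) (iv5 F22659)
def n28313 : Q := act 1 n13513
theorem D28313 : act 1 n13513 = n28313 := rfl
theorem F45824 : act 1 n28313 = n24905 := d15_1 D28313 (iv7 F45819) F45818
theorem F45825 : act 7 n28313 = n25345 := d15_2 F40078 D28313 (iv2 F40075)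
theorem F45826 : act 4 n28313 = n14394 := d18_7 (iv1 F40135) F37783 (iv1 F24471) F11969 (iv5 F11970) D13513 D28313 F40072 (iv5 F40129)
def n28314 : Q := act 5 n13513
theorem D28314 : act 5 n13513 = n28314 := rfl
def n28315 : Q := act 6 n13513
theorem D28315 : act 6 n13513 = n28315 := rfl
theorem F45827 : act 4 n28315 = n13514 := d10_1 D28315 (iv6 D13514) D13513
def n28316 : Q := act 0 n13514
theorem D28316 : act 0 n13514 = n28316 := rfl
def n28317 : Q := act 1 n13514
theorem D28317 : act 1 n13514 = n28317 := rfl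
def n28318 : Q := act 7 n13514
theorem D28318 : act 7 n13514 = n28318 := rfl
theorem F45828 : act 3 n28318 = n13517 := d8_1 D28318 (iv7 D13517) (iv3 F22663)
def n28319 : Q := act 2 n13515
theorem D28319 : act 2 n13515 = n28319 := rfl
theorem F45829 : act 7 n13516 = n28319 := d15_2 (iv0 D13515) D13516 (iv2 D28319)
def n28320 : Q := act 3 n13515
theorem D28320 : act 3 n13515 = n28320 := rfl
def n28321 : Q := act 4 n13515
theorem D28321 : act 4 n13515 = n28321 := rfl
def n28322 : Q := act 6 n13515
theorem D28322 : act 6 n13515 = n28322 := rfl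
theorem F45830 : act 5 n28322 = n14950 := d21_6 (iv5 F8717) (iv1 F8719) F5483 D6427 D13515 D28322 (iv1 D14950) (iv5 D7120) (iv6 D3270) (iv1 F5019)
theorem F45831 : act 0 n28322 = n28041 := d21_10 (iv5 D28041) (iv1 D13377) F20551 (iv6 F20550) (iv1 D11480) D11482 F18763 D23822 (iv5 F37151) D28322
theorem F45832 : act 1 n28322 = n28037 := d15_1 (iv0 F45831) (iv7 F45475) F45481
theorem F45833 : act 6 n14950 = n24775 := d21_3 D28037 (iv1 F45832) F45830 (iv1 D24775) (iv6 D11729) F8278 (iv1 F7737) (iv5 F7736) D6340 D13376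
def n28323 : Q := act 7 n13515
theorem D28323 : act 7 n13515 = n28323 := rfl
theorem F45834 : act 2 n28323 = n13516 := d4_1 D28323 F45829 (iv2 D28319)
def n28324 : Q := act 3 n13516
theorem D28324 : act 3 n13516 = n28324 := rfl
def n28325 : Q := act 4 n13516
theorem D28325 : act 4 n13516 = n28325 := rfl
def n28326 : Q := act 0 n13518
theorem D28326 : act 0 n13518 = n28326 := rfl
theorem F45835 : act 2 n13522 = n28326 := d15_3 (iv0 D28326) (iv0 D13518) D13522
theorem F45836 : act 7 n28326 = n13520 := d4_2 D13522 F45835 (iv2 D13520)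
theorem F45837 : act 1 n13519 = n28326 := d15_1 D13519 F45836 (iv2 D13520)
def n28327 : Q := act 2 n13518
theorem D28327 : act 2 n13518 = n28327 := rfl
theorem F45838 : act 7 n13519 = n28327 := d15_2 (iv0 D13518) D13519 (iv2 D28327)
def n28328 : Q := act 3 n13518
theorem D28328 : act 3 n13518 = n28328 := rfl
def n28329 : Q := act 4 n13518
theorem D28329 : act 4 n13518 = n28329 := rfl
def n28330 : Q := act 5 n13518
theorem D28330 : act 5 n13518 = n28330 := rfl
def n28331 : Q := act 6 n13518
theorem D28331 : act 6 n13518 = n28331 := rfl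
def n28332 : Q := act 7 n13518
theorem D28332 : act 7 n13518 = n28332 := rfl
theorem F45839 : act 2 n28332 = n13519 := d4_1 D28332 F45838 (iv2 D28327)
def n28333 : Q := act 3 n13519
theorem D28333 : act 3 n13519 = n28333 := rfl
def n28334 : Q := act 4 n13519
theorem D28334 : act 4 n13519 = n28334 := rfl
def n28335 : Q := act 5 n13519
theorem D28335 : act 5 n13519 = n28335 := rfl
def n28336 : Q := act 6 n13519
theorem D28336 : act 6 n13519 = n28336 := rfl
def n28337 : Q := act 0 n13520
theorem D28337 : act 0 n13520 = n28337 := rfl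
theorem F45840 : act 1 n13522 = n28337 := d15_0 (iv0 D28337) (iv7 F45836) (iv2 F45835)
def n28338 : Q := act 1 n13520
theorem D28338 : act 1 n13520 = n28338 := rfl
theorem F45841 : act 1 n28338 = n13522 := d15_1 D28338 (iv7 D13522) D13520
def n28339 : Q := act 5 n13520
theorem D28339 : act 5 n13520 = n28339 := rfl
theorem F45842 : act 2 n28339 = n13521 := d2_1 D28339 (iv5 D13521) D13520
def n28340 : Q := act 0 n13521
theorem D28340 : act 0 n13521 = n28340 := rfl
def n28341 : Q := act 1 n13521
theorem D28341 : act 1 n13521 = n28341 := rfl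
def n28342 : Q := act 4 n13521
theorem D28342 : act 4 n13521 = n28342 := rfl
def n28343 : Q := act 6 n13521
theorem D28343 : act 6 n13521 = n28343 := rfl
theorem F45843 : act 3 n28343 = n13523 := d7_1 D28343 (iv6 D13523) (iv3 F22664)
def n28344 : Q := act 6 n13522
theorem D28344 : act 6 n13522 = n28344 := rfl
theorem F45844 : act 3 n28344 = n13524 := d7_1 D28344 (iv6 D13524) (iv3 F22665)
def n28345 : Q := act 0 n13523
theorem D28345 : act 0 n13523 = n28345 := rfl
def n28346 : Q := act 1 n13523
theorem D28346 : act 1 n13523 = n28346 := rfl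
def n28347 : Q := act 7 n13523
theorem D28347 : act 7 n13523 = n28347 := rfl
def n28348 : Q := act 0 n13524
theorem D28348 : act 0 n13524 = n28348 := rfl
theorem F45845 : act 1 n24381 = n28348 := d15_0 (iv0 D28348) (iv7 F38057) (iv2 F38226)
def n28349 : Q := act 1 n13524
theorem D28349 : act 1 n13524 = n28349 := rfl
theorem F45846 : act 1 n28349 = n24381 := d15_1 D28349 F38228 F24346
def n28350 : Q := act 5 n13524
theorem D28350 : act 5 n13524 = n28350 := rfl
def n28351 : Q := act 3 n13525
theorem D28351 : act 3 n13525 = n28351 := rfl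
def n28352 : Q := act 4 n13525
theorem D28352 : act 4 n13525 = n28352 := rfl
def n28353 : Q := act 5 n13525
theorem D28353 : act 5 n13525 = n28353 := rfl
theorem F45847 : act 0 n26045 = n28353 := d21_10 (iv5 D28353) (iv1 F22667) F18792 (iv6 D11495) (iv1 F8139) D11425 F18669 D12341 F20495 D26045
def n28354 : Q := act 6 n13525
theorem D28354 : act 6 n13525 = n28354 := rfl
theorem F45848 : act 5 n28354 = n14006 := d21_6 (iv5 D1427) (iv1 F5052) (iv5 F4413) D6431 D13525 D28354 (iv1 D14006) (iv5 F11314) (iv6 D7062) (iv1 D3218)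
def n28355 : Q := act 3 n13526
theorem D28355 : act 3 n13526 = n28355 := rfl
def n28356 : Q := act 4 n13526
theorem D28356 : act 4 n13526 = n28356 := rfl
def n28357 : Q := act 5 n13526
theorem D28357 : act 5 n13526 = n28357 := rfl
theorem F45849 : act 6 n28357 = n25281 := d12_2 F45448 D28357 (iv5 F45450) (iv6 D28133) D28132
theorem F45850 : act 0 n28357 = n26045 := d21_4 (iv5 F45367) F45452 F45450 (iv6 F45849) (iv6 D26045) (iv5 F20495) (iv1 F20498) (iv5 F24495) (iv6 F38041) (iv1 F38211)
def n28358 : Q := act 3 n13528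
theorem D28358 : act 3 n13528 = n28358 := rfl
theorem F45851 : act 2 n28358 = n25539 := d0_1 D28358 F40373 F20074 (iv3 F27038) (iv2 F22674)
theorem F45852 : act 4 n28358 = n28358 := d5_2 D13528 D28358 (iv3 D28358) (iv4 D13528) F10481
theorem F45853 : act 6 n28358 = n25537 := d7_2 (iv6 F22675) D28358 F40366
theorem F45854 : act 7 n28358 = n24226 := d8_2 (iv7 F22676) D28358 (iv3 D24226)
def n28359 : Q := act 0 n13529
theorem D28359 : act 0 n13529 = n28359 := rfl
def n28360 : Q := act 2 n13529
theorem D28360 : act 2 n13529 = n28360 := rfl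
theorem F45855 : act 4 n28360 = n13535 := d1_2 (iv4 F22679) D28360 (iv2 D13535)
def n28361 : Q := act 6 n13529
theorem D28361 : act 6 n13529 = n28361 := rfl
theorem F45856 : act 3 n28361 = n13530 := d7_1 D28361 (iv6 D13530) D13529
theorem F45857 : act 4 n28361 = n13536 := d10_1 D28361 (iv6 D13536) (iv4 F22679)
def n28362 : Q := act 5 n13530
theorem D28362 : act 5 n13530 = n28362 := rfl
theorem F45858 : act 1 n28362 = n15883 := d17_6 (iv1 F18263) D16687 F27335 F18350 (iv4 F22680) D28362 (iv5 D15883) F20192 F20191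
def n28363 : Q := act 4 n13531
theorem D28363 : act 4 n13531 = n28363 := rfl
theorem F45859 : act 2 n28363 = n25461 := d1_1 D28363 F40256 F25247
theorem F45860 : act 7 n28363 = n25460 := d11_2 F27334 D28363 F40250
theorem F45861 : act 0 n28363 = n23737 := d18_2 (iv1 F22681) D28363 F36957 (iv5 F19124) (iv4 F37553) F40252 F40250 (iv0 F27337) (iv5 F18429)
theorem F45862 : act 1 n28363 = n24067 := d18_6 F12610 (iv4 F10538) D13581 F22742 F22682 D28363 F37672 (iv0 F18631) F11342
def n28364 : Q := act 2 n13533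
theorem D28364 : act 2 n13533 = n28364 := rfl
theorem F45863 : act 7 n13534 = n28364 := d15_2 (iv0 D13533) D13534 (iv2 D28364)
def n28365 : Q := act 4 n13533
theorem D28365 : act 4 n13533 = n28365 := rfl
def n28366 : Q := act 5 n13533
theorem D28366 : act 5 n13533 = n28366 := rfl
def n28367 : Q := act 6 n13533
theorem D28367 : act 6 n13533 = n28367 := rfl
def n28368 : Q := act 7 n13533
theorem D28368 : act 7 n13533 = n28368 := rfl
theorem F45864 : act 2 n28368 = n13534 := d4_1 D28368 F45863 (iv2 D28364)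
def n28369 : Q := act 3 n13534
theorem D28369 : act 3 n13534 = n28369 := rfl
def n28370 : Q := act 4 n13534
theorem D28370 : act 4 n13534 = n28370 := rfl
theorem F45865 : act 3 n25472 = n28370 := d20_5 (iv4 D11987) F8691 D5743 D12108 D25472 (iv4 D28370) (iv1 D13534) (iv4 F22679) (iv3 D13529) (iv1 F19811)
def n28371 : Q := act 5 n13534
theorem D28371 : act 5 n13534 = n28371 := rfl
def n28372 : Q := act 6 n13534
theorem D28372 : act 6 n13534 = n28372 := rfl
def n28373 : Q := act 6 n13535
theorem D28373 : act 6 n13535 = n28373 := rfl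
theorem F45866 : act 2 n28373 = n13536 := d3_1 D28373 (iv6 D13536) D13535
def n28374 : Q := act 0 n13536
theorem D28374 : act 0 n13536 = n28374 := rfl
def n28375 : Q := act 1 n13536
theorem D28375 : act 1 n13536 = n28375 := rfl
def n28376 : Q := act 5 n13536
theorem D28376 : act 5 n13536 = n28376 := rfl
theorem F45867 : act 3 n28376 = n13537 := d6_1 D28376 (iv5 D13537) (iv3 F22689)
def n28377 : Q := act 4 n13537
theorem D28377 : act 4 n13537 = n28377 := rfl
theorem F45868 : act 0 n28377 = n15854 := d17_0 (iv5 F25334) F25335 (iv5 F25617) F25616 F11757 (iv0 F12677) D12578 (iv0 F22690) D28377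
theorem F45869 : act 1 n28377 = n15860 := d18_6 (iv1 F20519) F20521 (iv1 D6441) (iv4 F10498) D13537 D28377 (iv4 D15860) F24539 F24538
def n28378 : Q := act 0 n13539
theorem D28378 : act 0 n13539 = n28378 := rfl
theorem F45870 : act 4 n28378 = n23714 := d18_3 F11434 D13539 D28378 F36889 F19805 F8697 (iv4 F11426) (iv0 D7112) D7114
theorem F45871 : act 2 n25390 = n28378 := d15_3 (iv0 D28378) (iv0 F37879) (iv7 F40157)
theorem F45872 : act 1 n23732 = n28378 := d15_0 (iv0 D28378) F22697 (iv2 F36942)
theorem F45873 : act 7 n28378 = n25247 := d15_2 F37880 F45872 F39798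
def n28379 : Q := act 3 n13539
theorem D28379 : act 3 n13539 = n28379 := rfl
theorem F45874 : act 7 n28379 = n25446 := d8_2 (iv7 F22697) D28379 (iv3 D25446)
def n28380 : Q := act 5 n13539
theorem D28380 : act 5 n13539 = n28380 := rfl
theorem F45875 : act 2 n28380 = n25435 := d2_1 D28380 F40213 (iv2 F22696)
theorem F45876 : act 7 n28380 = n25434 := d13_2 (iv7 F22697) D28380 F40209
theorem F45877 : act 4 n28380 = n23736 := d16_2 D13539 D28380 (iv5 D23736) (iv4 D11115) (iv5 D5081) D5080 D11113 F18018 (iv2 F10501)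
theorem F45878 : act 0 n28380 = n23726 := d17_2 F37879 D28380 (iv5 D23726) (iv4 D11110) (iv5 D5078) D5077 D11106 (iv0 F18533) D24168
theorem F45879 : act 1 n28380 = n23752 := d17_6 (iv1 F18217) F10405 (iv1 F10156) D6442 D13539 D28380 F36993 F36916 F36913
def n28381 : Q := act 6 n13539
theorem D28381 : act 6 n13539 = n28381 := rfl
theorem F45880 : act 2 n28381 = n25468 := d3_1 D28381 (iv6 D25468) (iv2 F22696)
theorem F45881 : act 4 n28381 = n13540 := d10_1 D28381 (iv6 D13540) D13539
def n28382 : Q := act 0 n13540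
theorem D28382 : act 0 n13540 = n28382 := rfl
theorem F45882 : act 2 n24828 = n28382 := d15_3 (iv0 D28382) (iv0 F39720) (iv7 F39721)
theorem F45883 : act 7 n28382 = n25470 := d4_2 (iv7 F39721) F45882 F40269
theorem E5037 : n25469 = n24828 := ((c15_4 (iv0 D25469) D25470 (iv7 F45883) (iv2 F45882))).symm
theorem F45884 : act 1 n24828 = n12107 := (sb E5037 (iv0 D25469))
theorem F45885 : act 1 n25471 = n28382 := d15_1 F40270 F45883 F40269
def n28383 : Q := act 7 n13540
theorem D28383 : act 7 n13540 = n28383 := rfl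
theorem F45886 : act 2 n28383 = n25471 := d4_1 D28383 (iv7 D25471) (iv2 F22698)
theorem F45887 : act 6 n28383 = n25450 := d14_1 D28383 (iv7 D25450) (iv6 D12096) (iv7 F10502) D13540
theorem F45888 : act 1 n25470 = n28383 := d15_1 D25470 (iv7 D28383) F22698
theorem F45889 : act 1 n28383 = n24828 := d15_1 F45888 F39721 (iv2 F40269)
def n28384 : Q := act 0 n13542
theorem D28384 : act 0 n13542 = n28384 := rfl
theorem F45890 : act 1 n25456 = n28384 := d15_0 (iv0 D28384) F22705 D25456
def n28385 : Q := act 1 n13542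
theorem D28385 : act 1 n13542 = n28385 := rfl
theorem F45891 : act 4 n14870 = n28385 := d20_6 (iv4 D3228) (iv1 D1431) D1432 D3231 D7080 D14870 (iv1 D28385) F22704 (iv3 D6446) (iv1 F7611)
theorem F45892 : act 0 n25456 = n28385 := d20_1 (iv4 F40246) (iv4 F45891) (iv3 D14870) (iv1 F20565) F20562 F26605 F5280 (iv4 F5317) (iv3 F11552) D15263
def n28386 : Q := act 2 n13542
theorem D28386 : act 2 n13542 = n28386 := rfl
theorem F45893 : act 3 n28386 = n25474 := d0_2 D13542 D28386 (iv2 D25474) (iv3 D12108) (iv2 F10511)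
theorem F45894 : act 4 n28386 = n13546 := d1_2 (iv4 F22704) D28386 (iv2 D13546)
theorem F45895 : act 7 n28386 = n25456 := d4_2 (iv7 F22705) D28386 (iv2 D25456)
theorem F45896 : act 1 n28386 = n25454 := d15_0 (iv0 D25454) (iv7 F22705) D28386
theorem F45897 : act 1 n25455 = n28386 := d15_1 D25455 F45895 (iv2 D25456)
def n28387 : Q := act 5 n13542
theorem D28387 : act 5 n13542 = n28387 := rfl
theorem F45898 : act 3 n28387 = n13543 := d6_1 D28387 (iv5 D13543) D13542
theorem F45899 : act 7 n28387 = n25457 := d13_2 (iv7 F22705) D28387 (iv5 D25457)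
def n28388 : Q := act 4 n13543
theorem D28388 : act 4 n13543 = n28388 := rfl
theorem F45900 : act 2 n28388 = n25434 := d1_1 D28388 F40210 (iv2 F22706)
theorem F45901 : act 5 n28388 = n23732 := d9_2 D13543 D28388 (iv4 D23732) (iv5 D11113) (iv4 D5080) D5081 D11115 D23736 (iv4 F45877) (iv5 D28380) (iv4 D13539) (iv5 D6442) (iv4 D2858) D2859 D6445
theorem F45902 : act 7 n28388 = n25435 := d11_2 (iv7 F22707) D28388 F40214
theorem F45903 : act 0 n28388 = n23752 := d18_2 (iv1 F37355) D28388 (iv4 D23752) (iv5 D11123) (iv4 D5084) F4940 D6451 F18208 (iv5 F37354)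
theorem F45904 : act 1 n28388 = n23726 := d18_6 F18186 (iv4 D7071) F10011 D6445 D13543 D28388 F36922 F36987 F36984
def n28389 : Q := act 6 n13543
theorem D28389 : act 6 n13543 = n28389 := rfl
theorem F45905 : act 2 n28389 = n25476 := d3_1 D28389 (iv6 D25476) (iv2 F22706)
def n28390 : Q := act 3 n13545
theorem D28390 : act 3 n13545 = n28390 := rfl
theorem F45906 : act 2 n28390 = n16624 := d0_1 D28390 F27114 F12035 (iv3 F24856) (iv2 F26919)
theorem F45907 : act 6 n28390 = n16608 := d7_2 F42814 D28390 (iv3 F42816)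
theorem F45908 : act 7 n28390 = n16635 := d8_2 (iv7 F26914) D28390 F27137
theorem F45909 : act 1 n16665 = n28390 := d15_1 D16665 F45908 F27136
theorem F45910 : act 1 n28390 = n16664 := d15_0 (iv0 D16664) (iv7 F27116) (iv2 F45906)
def n28391 : Q := act 4 n13545
theorem D28391 : act 4 n13545 = n28391 := rfl
theorem F45911 : act 3 n28359 = n28391 := d20_5 (iv4 D13528) (iv1 D6433) D6434 D13529 D28359 (iv4 D28391) (iv1 D13545) (iv4 F22704) (iv3 D13542) (iv1 F22678)
def n28392 : Q := act 4 n13550
theorem D28392 : act 4 n13550 = n28392 := rfl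
theorem F45912 : act 2 n28392 = n25424 := d1_1 D28392 F40203 (iv2 F22713)
theorem F45913 : act 7 n28392 = n25427 := d11_2 (iv7 F22714) D28392 F40205
theorem F45914 : act 5 n28392 = n23723 := d16_1 D28392 F36913 (iv5 F18596) F18597 F8684 D11118 D23739 F36961 (iv2 F22713)
def n28393 : Q := act 6 n13550
theorem D28393 : act 6 n13550 = n28393 := rfl
theorem F45915 : act 2 n28393 = n25493 := d3_1 D28393 (iv6 D25493) (iv2 F22713)
def n28394 : Q := act 0 n13551
theorem D28394 : act 0 n13551 = n28394 := rfl
theorem F45916 : act 5 n28394 = n20393 := d17_1 D28394 (iv1 D20393) F27900 (iv4 D17027) F12590 F8890 D8155 (iv0 F12923) (iv4 F22716)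
theorem F45917 : act 4 n28394 = n23949 := d18_3 F10889 (iv4 F22716) D28394 F37386 (iv4 F18250) (iv0 D8150) F5697 (iv0 F10054) (iv5 F10693)
theorem F45918 : act 2 n25494 = n28394 := d15_3 (iv0 D28394) F40019 (iv7 F40319)
theorem F45919 : act 6 n28394 = n24003 := d3_2 F40318 F45918 (iv2 F37629)
theorem F45920 : act 7 n28394 = n25307 := d4_2 (iv7 F40319) F45918 (iv2 F40014)
theorem F45921 : act 1 n19955 = n28394 := d15_1 (iv0 F40018) F45920 (iv2 F40014)
def n28395 : Q := act 7 n13551
theorem D28395 : act 7 n13551 = n28395 := rfl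
theorem F45922 : act 2 n28395 = n19955 := d4_1 D28395 F31790 (iv2 F22715)
theorem F45923 : act 3 n28395 = n26194 := d8_1 D28395 F41582 F24725
theorem F45924 : act 4 n28395 = n13552 := d11_1 D28395 (iv7 D13552) (iv4 F22716)
theorem F45925 : act 5 n28395 = n19954 := d13_1 D28395 (iv7 F32555) F32554
theorem F45926 : act 6 n28395 = n25487 := d14_1 D28395 (iv7 D25487) (iv6 D12112) (iv7 F10518) D13551
theorem F45927 : act 1 n25307 = n28395 := d15_1 F39970 (iv7 D28395) F22715
theorem F45928 : act 1 n28395 = n25494 := d15_1 F45927 F40319 F40014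
def n28396 : Q := act 5 n13553
theorem D28396 : act 5 n13553 = n28396 := rfl
theorem F45929 : act 2 n28396 = n13571 := d2_1 D28396 F22734 F22722
theorem F45930 : act 7 n28396 = n13566 := d13_2 (iv7 F22724) D28396 (iv5 D13566)
theorem F45931 : act 1 n13568 = n28396 := d15_1 D13568 F45930 F22730
theorem F45932 : act 1 n28396 = n13567 := d15_0 (iv0 D13567) D13571 (iv2 F45929)
def n28397 : Q := act 6 n13553
theorem D28397 : act 6 n13553 = n28397 := rfl
theorem F45933 : act 2 n28397 = n13572 := d3_1 D28397 (iv6 D13572) F22722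
theorem F45934 : act 4 n28397 = n15127 := d10_1 D28397 (iv6 D15127) (iv4 F22723)
theorem F45935 : act 7 n28397 = n13588 := d14_2 (iv7 F22724) D28397 (iv6 D13588) F10551 (iv6 F10525)
theorem F45936 : act 1 n13663 = n28397 := d15_1 D13663 F45935 F22771
theorem F45937 : act 0 n13662 = n28397 := d20_1 (iv4 F42093) F45934 F26872 (iv1 D7508) F5414 F2622 D2881 (iv4 F12653) D12569 D26349
def n28398 : Q := act 0 n13554
theorem D28398 : act 0 n13554 = n28398 := rfl
theorem F45938 : act 1 n13559 = n28398 := d15_0 (iv0 D28398) (iv7 F22726) (iv2 F22727)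
def n28399 : Q := act 1 n13554
theorem D28399 : act 1 n13554 = n28399 := rfl
def n28400 : Q := act 3 n13554
theorem D28400 : act 3 n13554 = n28400 := rfl
theorem F45940 : act 7 n28400 = n13560 := d8_2 F22726 D28400 (iv3 D13560)
def n28401 : Q := act 4 n13554
theorem D28401 : act 4 n13554 = n28401 := rfl
theorem F45941 : act 2 n28401 = n13556 := d1_1 D28401 (iv4 D13556) D13554
theorem F45942 : act 7 n28401 = n13561 := d11_2 F22726 D28401 (iv4 D13561)
theorem F45943 : act 1 n26112 = n13561 := d15_1 (iv0 F41306) (iv7 F45942) F45941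
theorem F45944 : act 0 n26111 = n13560 := d20_4 F5299 D6448 (iv4 F26557) D26111 (iv3 D13560) D13561 (iv1 F45943) F41303 (iv3 D15017) F11554
def n28402 : Q := act 5 n13554
theorem D28402 : act 5 n13554 = n28402 := rfl
theorem F45945 : act 2 n28402 = n13557 := d2_1 D28402 (iv5 D13557) D13554
theorem F45946 : act 7 n28402 = n13562 := d13_2 F22726 D28402 (iv5 D13562)
def n28403 : Q := act 6 n13554
theorem D28403 : act 6 n13554 = n28403 := rfl
theorem F45947 : act 2 n28403 = n13558 := d3_1 D28403 (iv6 D13558) D13554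
def n28404 : Q := act 1 n13555
theorem D28404 : act 1 n13555 = n28404 := rfl
def n28405 : Q := act 2 n13555
theorem D28405 : act 2 n13555 = n28405 := rfl
def n28406 : Q := act 5 n13555
theorem D28406 : act 5 n13555 = n28406 := rfl
theorem F45948 : act 3 n28406 = n13557 := d6_1 D28406 (iv5 D13557) D13555
def n28407 : Q := act 6 n13555
theorem D28407 : act 6 n13555 = n28407 := rfl
theorem F45949 : act 3 n28407 = n13558 := d7_1 D28407 (iv6 D13558) D13555
def n28408 : Q := act 7 n13555
theorem D28408 : act 7 n13555 = n28408 := rfl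
theorem F45950 : act 3 n28408 = n13559 := d8_1 D28408 (iv7 D13559) D13555
def n28409 : Q := act 0 n13556
theorem D28409 : act 0 n13556 = n28409 := rfl
theorem F45951 : act 4 n28409 = n15101 := d20_2 D13556 D28409 (iv3 D15101) (iv1 D7180) (iv3 D3311) F4938 (iv1 D1305) D1306 D2875 D6454
theorem F45952 : act 2 n15005 = n28409 := d15_3 (iv0 D28409) (iv0 F41306) F41305
theorem F45953 : act 6 n28409 = n15858 := d3_2 (iv6 F24640) F45952 (iv2 D15858)
def n28410 : Q := act 3 n13556
theorem D28410 : act 3 n13556 = n28410 := rfl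
theorem F45954 : act 0 n28410 = n14978 := d20_4 (iv4 F4468) D6454 D13556 D28410 (iv3 D14978) D14979 (iv1 F24790) F24791 (iv3 D7196) (iv1 D3315)
def n28411 : Q := act 5 n13556
theorem D28411 : act 5 n13556 = n28411 := rfl
def n28412 : Q := act 6 n13556
theorem D28412 : act 6 n13556 = n28412 := rfl
theorem F45955 : act 4 n28412 = n13558 := d10_1 D28412 (iv6 D13558) D13556
def n28413 : Q := act 7 n13556
theorem D28413 : act 7 n13556 = n28413 := rfl
theorem F45956 : act 2 n28413 = n13561 := d4_1 D28413 (iv7 F45942) F45941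
theorem F45957 : act 4 n28413 = n13559 := d11_1 D28413 (iv7 D13559) D13556
theorem F45958 : act 1 n13561 = n28409 := d15_0 (iv0 D28409) D28413 F45956
def n28414 : Q := act 0 n13557
theorem D28414 : act 0 n13557 = n28414 := rfl
def n28415 : Q := act 1 n13557
theorem D28415 : act 1 n13557 = n28415 := rfl
theorem F45959 : act 1 n28415 = n13562 := d15_1 D28415 (iv7 F45946) F45945
def n28416 : Q := act 4 n13557
theorem D28416 : act 4 n13557 = n28416 := rfl
def n28417 : Q := act 6 n13557
theorem D28417 : act 6 n13557 = n28417 := rfl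
def n28418 : Q := act 7 n13557
theorem D28418 : act 7 n13557 = n28418 := rfl
theorem F45960 : act 2 n28418 = n13562 := d4_1 D28418 (iv7 F45946) F45945
theorem F45961 : act 5 n28418 = n13559 := d13_1 D28418 (iv7 D13559) D13557
theorem F45962 : act 1 n13562 = n28414 := d15_0 (iv0 D28414) D28418 F45960
def n28421 : Q := act 5 n13558
theorem D28421 : act 5 n13558 = n28421 := rfl
def n28423 : Q := act 6 n13559
theorem D28423 : act 6 n13559 = n28423 := rfl
theorem F45963 : act 2 n28423 = n13563 := d3_1 D28423 (iv6 D13563) (iv2 F22727)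
def n28424 : Q := act 0 n13560
theorem D28424 : act 0 n13560 = n28424 := rfl
theorem F45964 : act 4 n28424 = n26161 := d20_0 (iv1 F41496) (iv4 D15069) (iv3 F20652) (iv1 F20656) D15101 (iv4 F45951) (iv1 F45958) (iv4 D13561) D13560 D28424
theorem F45965 : act 2 n15007 = n28424 := d15_3 (iv0 D28424) (iv0 F45944) F41302
theorem F45966 : act 6 n28424 = n13617 := d3_2 (iv6 F26511) F45965 F25450
def n28425 : Q := act 2 n13560
theorem D28425 : act 2 n13560 = n28425 := rfl
def n28426 : Q := act 4 n13560
theorem D28426 : act 4 n13560 = n28426 := rfl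
theorem F45967 : act 0 n28426 = n15066 := d20_1 D28426 (iv4 D15066) D15065 F41471 F11500 F5299 D6448 (iv4 F26557) D26111 F45944
theorem F45968 : act 0 n15061 = n28426 := d20_1 D15061 (iv4 D28426) (iv3 D13560) (iv1 D6455) (iv3 D2875) (iv4 D1306) D1304 (iv4 F4911) D3307 D7166
def n28427 : Q := act 5 n13560
theorem D28427 : act 5 n13560 = n28427 := rfl
theorem F45969 : act 3 n28427 = n13562 := d6_1 D28427 (iv5 D13562) D13560
def n28428 : Q := act 6 n13560
theorem D28428 : act 6 n13560 = n28428 := rfl
theorem F45970 : act 3 n28428 = n13563 := d7_1 D28428 (iv6 D13563) D13560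
def n28429 : Q := act 5 n13561
theorem D28429 : act 5 n13561 = n28429 := rfl
def n28430 : Q := act 6 n13561
theorem D28430 : act 6 n13561 = n28430 := rfl
theorem F45971 : act 4 n28430 = n13563 := d10_1 D28430 (iv6 D13563) D13561
def n28431 : Q := act 4 n13562
theorem D28431 : act 4 n13562 = n28431 := rfl
def n28432 : Q := act 6 n13562
theorem D28432 : act 6 n13562 = n28432 := rfl
def n28433 : Q := act 0 n13563
theorem D28433 : act 0 n13563 = n28433 := rfl
def n28434 : Q := act 1 n13563
theorem D28434 : act 1 n13563 = n28434 := rfl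
def n28435 : Q := act 5 n13563
theorem D28435 : act 5 n13563 = n28435 := rfl
def n28436 : Q := act 7 n13563
theorem D28436 : act 7 n13563 = n28436 := rfl
def n28438 : Q := act 3 n13564
theorem D28438 : act 3 n13564 = n28438 := rfl
def n28439 : Q := act 5 n13564
theorem D28439 : act 5 n13564 = n28439 := rfl
def n28442 : Q := act 4 n13565
theorem D28442 : act 4 n13565 = n28442 := rfl
theorem F45974 : act 0 n15005 = n28442 := d20_10 (iv4 D28442) (iv1 D13565) F10524 (iv3 F9154) (iv1 F26925) F20659 F9148 F12091 (iv4 F20526) D15005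
theorem F45975 : act 0 n25512 = n14983 := d20_4 (iv4 F26587) F45974 (iv4 D28442) (iv3 F40344) (iv3 D14983) D14984 (iv1 F24797) F24777 (iv3 D15142) D15140
def n28443 : Q := act 5 n13565
theorem D28443 : act 5 n13565 = n28443 := rfl
def n28444 : Q := act 6 n13565
theorem D28444 : act 6 n13565 = n28444 := rfl
def n28445 : Q := act 0 n13566
theorem D28445 : act 0 n13566 = n28445 := rfl
theorem F45976 : act 1 n13571 = n28445 := d15_0 (iv0 D28445) (iv7 F45930) F45929
def n28446 : Q := act 1 n13566
theorem D28446 : act 1 n13566 = n28446 := rfl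
theorem F45977 : act 1 n28446 = n13571 := d15_1 D28446 (iv7 D13571) (iv2 F22730)
theorem F45978 : act 5 n24390 = n28446 := d21_6 D13593 F37255 F11674 (iv6 F8172) D11500 D24390 (iv1 D28446) (iv5 D13566) F10525 F37245
def n28447 : Q := act 4 n13566
theorem D28447 : act 4 n13566 = n28447 := rfl
theorem F45979 : act 2 n28447 = n13569 := d1_1 D28447 (iv4 D13569) (iv2 F22730)
def n28448 : Q := act 6 n13566
theorem D28448 : act 6 n13566 = n28448 := rfl
theorem F45980 : act 2 n28448 = n13570 := d3_1 D28448 (iv6 D13570) (iv2 F22730)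
theorem F45981 : act 5 n28448 = n13642 := d12_1 D28448 (iv6 D13642) (iv5 D6487) (iv6 F10525) D13566
def n28449 : Q := act 2 n13567
theorem D28449 : act 2 n13567 = n28449 := rfl
theorem F45982 : act 7 n13568 = n28449 := d15_2 (iv0 D13567) D13568 (iv2 D28449)
def n28450 : Q := act 3 n13567
theorem D28450 : act 3 n13567 = n28450 := rfl
def n28451 : Q := act 4 n13567
theorem D28451 : act 4 n13567 = n28451 := rfl
def n28452 : Q := act 5 n13567
theorem D28452 : act 5 n13567 = n28452 := rfl
def n28453 : Q := act 6 n13567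
theorem D28453 : act 6 n13567 = n28453 := rfl
def n28454 : Q := act 7 n13567
theorem D28454 : act 7 n13567 = n28454 := rfl
theorem F45983 : act 2 n28454 = n13568 := d4_1 D28454 F45982 (iv2 D28449)
def n28455 : Q := act 3 n13568
theorem D28455 : act 3 n13568 = n28455 := rfl
def n28456 : Q := act 4 n13568
theorem D28456 : act 4 n13568 = n28456 := rfl
def n28457 : Q := act 5 n13568
theorem D28457 : act 5 n13568 = n28457 := rfl
theorem F45984 : act 6 n24396 = n28457 := d21_5 D6478 D13607 F25731 (iv6 F18805) D24396 (iv5 D28457) (iv1 D13568) (iv5 D6457) F4469 D2884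
def n28458 : Q := act 6 n13568
theorem D28458 : act 6 n13568 = n28458 := rfl
def n28459 : Q := act 0 n13569
theorem D28459 : act 0 n13569 = n28459 := rfl
def n28460 : Q := act 1 n13569
theorem D28460 : act 1 n13569 = n28460 := rfl
def n28461 : Q := act 3 n13569
theorem D28461 : act 3 n13569 = n28461 := rfl
theorem F45985 : act 4 n28461 = n13573 := d5_2 D13569 D28461 (iv3 D13573) (iv4 D6459) (iv3 F10526)
def n28462 : Q := act 5 n13569
theorem D28462 : act 5 n13569 = n28462 := rfl
def n28463 : Q := act 6 n13569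
theorem D28463 : act 6 n13569 = n28463 := rfl
theorem F45986 : act 4 n28463 = n13570 := d10_1 D28463 (iv6 D13570) D13569
def n28464 : Q := act 7 n13569
theorem D28464 : act 7 n13569 = n28464 := rfl
theorem F45987 : act 4 n28464 = n13571 := d11_1 D28464 (iv7 D13571) D13569
def n28465 : Q := act 0 n13570
theorem D28465 : act 0 n13570 = n28465 := rfl
def n28466 : Q := act 1 n13570
theorem D28466 : act 1 n13570 = n28466 := rfl
def n28467 : Q := act 7 n13570
theorem D28467 : act 7 n13570 = n28467 := rfl
theorem F45988 : act 3 n28467 = n13577 := d8_1 D28467 (iv7 D13577) (iv3 F22731)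
theorem F45989 : act 5 n28467 = n13660 := d13_1 D28467 (iv7 D13660) (iv5 F22732)
def n28468 : Q := act 6 n13571
theorem D28468 : act 6 n13571 = n28468 := rfl
theorem F45990 : act 3 n28468 = n13578 := d7_1 D28468 (iv6 D13578) (iv3 F22733)
def n28469 : Q := act 0 n13572
theorem D28469 : act 0 n13572 = n28469 := rfl
theorem F45991 : act 4 n28469 = n15856 := d20_0 (iv1 F42033) F42030 F26595 (iv1 F26806) F26612 (iv4 F12025) F5596 (iv4 F10533) (iv3 F22735) D28469
theorem F45992 : act 1 n13588 = n28469 := d15_0 (iv0 D28469) F22737 (iv2 F22771)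
def n28470 : Q := act 1 n13572
theorem D28470 : act 1 n13572 = n28470 := rfl
theorem F45993 : act 1 n28470 = n13588 := d15_1 D28470 (iv7 F45935) F45933
theorem F45994 : act 4 n15857 = n28470 := d20_0 (iv1 D28470) F22736 F11530 (iv1 F9364) D12746 D26683 (iv1 F42763) (iv4 F26996) (iv3 F42029) (iv1 F42035)
theorem F45995 : act 3 n16883 = n15857 := d20_5 (iv4 F12027) (iv1 D3569) (iv4 F5594) (iv3 F12438) D16883 F45994 (iv1 D28470) F22736 F11530 (iv1 F9364)
theorem F45996 : act 3 n28470 = n15848 := d20_3 (iv4 F42030) (iv1 F42035) F45994 (iv1 F42046) F42044 (iv4 F42087) (iv1 F42092) (iv4 F26982) F25838 (iv1 F26984)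
def n28471 : Q := act 5 n13572
theorem D28471 : act 5 n13572 = n28471 := rfl
theorem F45997 : act 3 n28471 = n13579 := d6_1 D28471 (iv5 D13579) (iv3 F22735)
theorem F45998 : act 7 n28471 = n13664 := d13_2 (iv7 F22737) D28471 (iv5 D13664)
def n28472 : Q := act 0 n13573
theorem D28472 : act 0 n13573 = n28472 := rfl
def n28473 : Q := act 1 n13573
theorem D28473 : act 1 n13573 = n28473 := rfl
def n28474 : Q := act 2 n13573
theorem D28474 : act 2 n13573 = n28474 := rfl
def n28475 : Q := act 6 n13573
theorem D28475 : act 6 n13573 = n28475 := rfl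
theorem F45999 : act 3 n28475 = n13574 := d7_1 D28475 (iv6 D13574) D13573
def n28476 : Q := act 0 n13574
theorem D28476 : act 0 n13574 = n28476 := rfl
def n28477 : Q := act 5 n13574
theorem D28477 : act 5 n13574 = n28477 := rfl
def n28478 : Q := act 7 n13574
theorem D28478 : act 7 n13574 = n28478 := rfl
theorem F46000 : act 4 n28478 = n13577 := d11_1 D28478 (iv7 D13577) (iv4 F22738)
theorem F46001 : act 1 n26249 = n28478 := d15_1 F41675 (iv7 D28478) (iv2 F37191)
theorem F46002 : act 0 n26244 = n28478 := d18_2 D12442 D26244 F46000 F22739 (iv4 F12876) F13880 (iv4 F41667) (iv0 D6023) (iv5 F9170)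
def n28479 : Q := act 3 n13575
theorem D28479 : act 3 n13575 = n28479 := rfl
def n28480 : Q := act 5 n13575
theorem D28480 : act 5 n13575 = n28480 := rfl
theorem F46003 : act 7 n28480 = n16826 := d13_2 (iv7 F43200) D28480 F37194
theorem F46004 : act 4 n28480 = n16835 := d17_4 (iv1 D6495) (iv5 F10529) D13575 D28480 F43156 (iv0 D8827) (iv5 D3932) D3931 F43124
theorem F46005 : act 1 n28480 = n15843 := d17_8 D27153 F43897 (iv1 F28291) F28288 (iv4 F18167) (iv5 F37197) F37200 D28480 (iv4 F41757)
def n28481 : Q := act 6 n13575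
theorem D28481 : act 6 n13575 = n28481 := rfl
def n28482 : Q := act 3 n13576
theorem D28482 : act 3 n13576 = n28482 := rfl
def n28483 : Q := act 6 n13576
theorem D28483 : act 6 n13576 = n28483 := rfl
def n28484 : Q := act 6 n13577
theorem D28484 : act 6 n13577 = n28484 := rfl
theorem F46006 : act 7 n28484 = n13578 := d14_2 D13577 D28484 (iv6 D13578) (iv7 D6461) D6460
def n28485 : Q := act 0 n13578
theorem D28485 : act 0 n13578 = n28485 := rfl
def n28486 : Q := act 1 n13578
theorem D28486 : act 1 n13578 = n28486 := rfl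
def n28487 : Q := act 5 n13578
theorem D28487 : act 5 n13578 = n28487 := rfl
theorem F46007 : act 6 n28487 = n13579 := d12_2 D13578 D28487 (iv5 D13579) (iv6 D6462) (iv5 F10530)
def n28488 : Q := act 4 n13579
theorem D28488 : act 4 n13579 = n28488 := rfl
theorem F46008 : act 7 n28488 = n13681 := d11_2 (iv7 F22740) D28488 (iv4 D13681)
theorem F46009 : act 5 n28488 = n16887 := d16_1 D28488 (iv4 D16887) (iv5 D7869) F5594 F2742 (iv4 F5594) D7869 D16888 F27654
theorem F46010 : act 0 n28488 = n26691 := d18_2 F25953 D28488 (iv4 D26691) (iv5 F27307) F27304 (iv0 F12715) (iv4 F25944) (iv0 D16459) D16461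
theorem F46011 : act 1 n28488 = n26688 := d18_6 D6026 (iv4 F12025) F5596 (iv4 F10533) D13579 D28488 (iv4 D26688) (iv0 D12749) (iv5 D6028)
def n28489 : Q := act 0 n13580
theorem D28489 : act 0 n13580 = n28489 := rfl
def n28490 : Q := act 1 n13580
theorem D28490 : act 1 n13580 = n28490 := rfl
theorem F46012 : act 1 n28490 = n25612 := d15_1 D28490 (iv7 D25612) (iv2 F22741)
def n28491 : Q := act 5 n13580
theorem D28491 : act 5 n13580 = n28491 := rfl
theorem F46013 : act 2 n28491 = n25611 := d2_1 D28491 (iv5 D25611) (iv2 F22741)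
theorem F46014 : act 6 n28491 = n13583 := d12_2 D13580 D28491 (iv5 D13583) (iv6 D6464) D6463
def n28492 : Q := act 7 n13580
theorem D28492 : act 7 n13580 = n28492 := rfl
theorem F46015 : act 2 n28492 = n25612 := d4_1 D28492 (iv7 D25612) (iv2 F22741)
theorem F46016 : act 6 n28492 = n25592 := d14_1 D28492 (iv7 D25592) (iv6 D12169) (iv7 F10536) D13580
theorem F46017 : act 1 n25612 = n28489 := d15_0 (iv0 D28489) D28492 F46015
theorem F46018 : act 1 n25610 = n28492 := d15_1 D25610 (iv7 D28492) F22741
theorem F46019 : act 1 n28492 = n25609 := d15_0 (iv0 D25609) D25612 (iv2 F46015)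
def n28493 : Q := act 3 n13581
theorem D28493 : act 3 n13581 = n28493 := rfl
theorem F46020 : act 2 n28493 = n23980 := d0_1 D28493 F37459 F18276 (iv3 F27055) F22743
theorem F46021 : act 4 n28493 = n28493 := d5_2 (iv4 F22742) D28493 (iv3 D28493) F22742 F20140
theorem F46022 : act 6 n28493 = n23965 := d7_2 F27667 D28493 F37433
theorem F46023 : act 7 n28493 = n25614 := d8_2 F22744 D28493 (iv3 D25614)
def n28494 : Q := act 5 n13581
theorem D28494 : act 5 n13581 = n28494 := rfl
theorem F46024 : act 2 n28494 = n25613 := d2_1 D28494 (iv5 D25613) F22743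
theorem F46025 : act 7 n28494 = n25615 := d13_2 F22744 D28494 (iv5 D25615)
theorem F46026 : act 1 n28494 = n25462 := d17_6 F25250 (iv5 F18429) (iv1 F22681) (iv5 F22682) (iv4 F22742) D28494 (iv5 D25462) D25461 F40256
def n28495 : Q := act 5 n13582
theorem D28495 : act 5 n13582 = n28495 := rfl
theorem F46027 : act 2 n28495 = n25615 := d2_1 D28495 (iv5 D25615) (iv2 F22750)
theorem F46028 : act 7 n28495 = n25613 := d13_2 (iv7 F22748) D28495 (iv5 D25613)
theorem F46029 : act 0 n28495 = n25462 := d17_2 (iv1 F22747) D28495 (iv5 D25462) F20023 (iv5 F18629) (iv0 F18631) F11342 (iv0 F12611) (iv4 F20176)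
def n28496 : Q := act 0 n13583
theorem D28496 : act 0 n13583 = n28496 := rfl
theorem F46030 : act 5 n28496 = n28363 := d17_3 (iv1 D13582) D13583 D28496 (iv4 D28363) (iv5 F22682) (iv0 D11231) F7688 F12660 F22749
theorem F46031 : act 2 n25616 = n28496 := d2_3 F46030 F45859 (iv5 F40515)
theorem F46032 : act 7 n25617 = n28496 := d13_0 F46030 F45860 (iv5 F40516)
theorem F46033 : act 1 n25619 = n28496 := d17_6 F22765 (iv5 D13586) (iv1 F10544) F8894 (iv4 F20176) (iv5 F40517) F46030 F45862 F37672
def n28497 : Q := act 1 n13583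
theorem D28497 : act 1 n13583 = n28497 := rfl
theorem F46034 : act 1 n28497 = n25619 := d15_1 D28497 (iv7 D25619) (iv2 F22751)
theorem F46035 : act 7 n28497 = n25616 := d15_2 (iv0 D28496) D28497 F46031
theorem F46036 : act 5 n28497 = n16953 := d17_7 F18027 F11342 F12610 F4479 (iv4 F10538) D13583 D28497 (iv0 F36958) F36957
theorem F46037 : act 2 n25617 = n28497 := d2_3 F46036 F40253 (iv5 F40516)
def n28498 : Q := act 4 n13583
theorem D28498 : act 4 n13583 = n28498 := rfl
theorem F46038 : act 2 n28498 = n25618 := d1_1 D28498 (iv4 D25618) (iv2 F22751)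
def n28499 : Q := act 7 n13583
theorem D28499 : act 7 n13583 = n28499 := rfl
theorem F46039 : act 2 n28499 = n25619 := d4_1 D28499 (iv7 D25619) (iv2 F22751)
theorem F46040 : act 5 n28499 = n13584 := d13_1 D28499 (iv7 D13584) D13583
theorem F46041 : act 1 n25617 = n28499 := d15_1 D25617 (iv7 D28499) F22751
theorem F46042 : act 1 n28499 = n25616 := d15_1 F46041 (iv7 F46035) (iv2 F46037)
def n28500 : Q := act 5 n13585
theorem D28500 : act 5 n13585 = n28500 := rfl
theorem F46043 : act 2 n28500 = n25621 := d2_1 D28500 (iv5 D25621) (iv2 F22757)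
theorem F46044 : act 7 n28500 = n25623 := d13_2 (iv7 F22758) D28500 (iv5 D25623)
theorem F46045 : act 1 n28500 = n28362 := d17_6 (iv1 D12103) (iv5 F18629) F22765 (iv5 D13586) D13585 D28500 (iv5 D28362) (iv0 F40258) (iv4 D25463)
def n28501 : Q := act 4 n13586
theorem D28501 : act 4 n13586 = n28501 := rfl
theorem F46046 : act 2 n28501 = n25463 := d1_1 D28501 (iv4 D25463) (iv2 F22761)
theorem F46047 : act 7 n28501 = n16944 := d11_2 (iv7 F22763) D28501 F27784
theorem F46048 : act 0 n28501 = n23924 := d18_2 F22765 D28501 F37340 (iv5 F18429) (iv4 F37661) (iv0 F37663) F27784 (iv0 F12673) (iv5 F18629)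
theorem F46049 : act 1 n28501 = n24017 := d18_6 (iv1 D7765) (iv4 F12069) F22760 (iv4 D13585) D13586 D28501 F37547 (iv0 F27335) (iv5 D16687)
def n28502 : Q := act 4 n13587
theorem D28502 : act 4 n13587 = n28502 := rfl
theorem F46050 : act 2 n28502 = n13657 := d1_1 D28502 F22813 (iv2 F22766)
theorem F46051 : act 5 n28502 = n16280 := d9_2 D13587 D28502 (iv4 D16280) (iv5 D7578) (iv4 D3447) (iv5 D1512) (iv4 F2425) D2887 D6490 D13655 (iv4 F44440) (iv5 D27544) F21943 F9797 (iv4 F10550)
theorem F46052 : act 7 n28502 = n13641 := d11_2 (iv7 F22768) D28502 (iv4 D13641)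
theorem F46053 : act 0 n28502 = n13654 := d18_2 (iv1 F22770) D28502 (iv4 F22810) F25823 (iv4 D7743) F12046 F12044 F11861 F25821
theorem F46054 : act 1 n28502 = n13653 := d18_6 (iv1 D7533) (iv4 D3434) D3431 (iv4 F10550) D13587 D28502 F27186 F27183 (iv5 D16131)
def n28503 : Q := act 6 n13587
theorem D28503 : act 6 n13587 = n28503 := rfl
theorem F46055 : act 2 n28503 = n13661 := d3_1 D28503 (iv6 D13661) (iv2 F22766)
theorem F46056 : act 3 n28503 = n18997 := d7_1 D28503 (iv6 D18997) (iv3 F22767)
def n28504 : Q := act 5 n13588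
theorem D28504 : act 5 n13588 = n28504 := rfl
theorem F46057 : act 2 n28504 = n13664 := d2_1 D28504 (iv5 D13664) (iv2 F22771)
def n28505 : Q := act 5 n13591
theorem D28505 : act 5 n13591 = n28505 := rfl
theorem F46058 : act 3 n28505 = n13593 := d6_1 D28505 (iv5 D13593) D13591
theorem F46059 : act 7 n28505 = n13621 := d13_2 (iv7 F22775) D28505 (iv5 D13621)
def n28506 : Q := act 6 n13591
theorem D28506 : act 6 n13591 = n28506 := rfl
theorem F46060 : act 3 n28506 = n13594 := d7_1 D28506 (iv6 D13594) D13591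
def n28507 : Q := act 4 n13593
theorem D28507 : act 4 n13593 = n28507 := rfl
theorem F46061 : act 2 n28507 = n13609 := d1_1 D28507 (iv4 D13609) (iv2 F22778)
theorem F46062 : act 7 n28507 = n13625 := d11_2 (iv7 F22779) D28507 (iv4 D13625)
def n28508 : Q := act 6 n13593
theorem D28508 : act 6 n13593 = n28508 := rfl
theorem F46063 : act 2 n28508 = n13610 := d3_1 D28508 (iv6 D13610) (iv2 F22778)
def n28509 : Q := act 0 n13594
theorem D28509 : act 0 n13594 = n28509 := rfl
def n28510 : Q := act 1 n13594
theorem D28510 : act 1 n13594 = n28510 := rfl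
theorem F46064 : act 1 n28510 = n13615 := d15_1 D28510 (iv7 D13615) (iv2 F22780)
def n28511 : Q := act 5 n13594
theorem D28511 : act 5 n13594 = n28511 := rfl
theorem F46065 : act 2 n28511 = n13614 := d2_1 D28511 (iv5 D13614) (iv2 F22780)
def n28512 : Q := act 7 n13594
theorem D28512 : act 7 n13594 = n28512 := rfl
theorem F46066 : act 2 n28512 = n13615 := d4_1 D28512 (iv7 D13615) (iv2 F22780)
theorem F46067 : act 6 n28512 = n13630 := d14_1 D28512 (iv7 D13630) (iv6 D6484) F10553 D13594
theorem F46068 : act 1 n13615 = n28509 := d15_0 (iv0 D28509) D28512 F46066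
theorem F46069 : act 1 n13613 = n28512 := d15_1 D13613 (iv7 D28512) F22780
theorem F46070 : act 1 n28512 = n13612 := d15_0 (iv0 D13612) D13615 (iv2 F46066)
def n28513 : Q := act 5 n13596
theorem D28513 : act 5 n13596 = n28513 := rfl
theorem F46071 : act 2 n28513 = n15374 := d2_1 D28513 F24951 (iv2 F25526)
theorem F46072 : act 0 n28513 = n13644 := d17_2 (iv1 F40592) D28513 (iv5 F25981) F25982 (iv5 F40610) (iv0 D25691) (iv5 D12206) (iv0 F37265) (iv4 F40591)
theorem F46073 : act 1 n28513 = n18362 := d17_8 (iv1 F21093) D26555 (iv1 F42518) (iv5 F42856) (iv4 F42857) (iv5 D13598) D13596 D28513 (iv4 D18362)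
theorem F46074 : act 4 n28513 = n26563 := d18_5 (iv1 F9332) D6008 (iv1 F21069) F25530 D28513 F42541 (iv4 D12703) F9343 (iv5 F9330)
theorem F46075 : act 1 n26499 = n17396 := d17_6 D26299 (iv5 F41890) (iv1 F46073) (iv5 D28513) (iv4 F25530) D26499 (iv5 D17396) (iv0 F27855) F27853
theorem F46076 : act 3 n26563 = n18319 := d20_3 D18362 (iv1 F46073) F46074 (iv1 D18319) (iv3 D8635) (iv4 D3877) (iv1 D1682) D1683 D3882 D8650
def n28514 : Q := act 6 n13596
theorem D28514 : act 6 n13596 = n28514 := rfl
theorem F46077 : act 2 n28514 = n14983 := d3_1 D28514 F41349 (iv2 F25526)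
theorem F46078 : act 4 n28514 = n26185 := d10_1 D28514 F42848 F25530
def n28515 : Q := act 1 n13598
theorem D28515 : act 1 n13598 = n28515 := rfl
theorem F46079 : act 5 n28515 = n26300 := d18_9 (iv1 F41897) F24871 (iv1 D12762) F9391 D6047 D12790 D26729 (iv4 F42857) D28515
theorem F46080 : act 2 n15682 = n28515 := d2_3 F46079 (iv2 D26300) F27264
theorem F46081 : act 4 n26518 = n28515 := d18_3 (iv1 F21076) D12678 (iv1 F42450) F46079 F41894 (iv0 F40449) (iv4 D15259) F11550 (iv5 F26964)
def n28516 : Q := act 6 n13598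
theorem D28516 : act 6 n13598 = n28516 := rfl
theorem F46082 : act 3 n28516 = n13610 := d7_1 D28516 (iv6 D13610) (iv3 F22781)
def n28517 : Q := act 0 n13599
theorem D28517 : act 0 n13599 = n28517 := rfl
def n28518 : Q := act 1 n13599
theorem D28518 : act 1 n13599 = n28518 := rfl
def n28519 : Q := act 5 n13599
theorem D28519 : act 5 n13599 = n28519 := rfl
theorem F46083 : act 3 n28519 = n13614 := d6_1 D28519 (iv5 D13614) (iv3 F22782)
def n28520 : Q := act 7 n13599
theorem D28520 : act 7 n13599 = n28520 := rfl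
theorem F46084 : act 3 n28520 = n13615 := d8_1 D28520 (iv7 D13615) (iv3 F22782)
def n28521 : Q := act 5 n13601
theorem D28521 : act 5 n13601 = n28521 := rfl
theorem F46085 : act 2 n28521 = n15565 := d2_1 D28521 F25798 (iv2 F25408)
theorem F46086 : act 0 n28521 = n16275 := d17_2 D13601 D28521 (iv5 F25994) (iv4 D16482) F25822 F22769 (iv5 D13587) (iv0 D6474) D6477
theorem F46087 : act 1 n28521 = n16270 := d17_6 (iv1 F26843) F25817 (iv1 F25785) (iv5 D16016) (iv4 F22784) D28521 (iv5 F25989) F26769 F12931
theorem F46088 : act 4 n28521 = n27755 := d18_5 F11796 (iv4 F11797) (iv1 F25468) (iv4 F22784) D28521 F44812 (iv4 D13255) F9800 (iv5 D3444)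
def n28522 : Q := act 5 n13603
theorem D28522 : act 5 n13603 = n28522 := rfl
theorem F46089 : act 3 n28522 = n13604 := d6_1 D28522 (iv5 D13604) D13603
theorem F46090 : act 0 n28522 = n15677 := d17_2 (iv1 F25529) D28522 F27214 F20822 (iv5 F26864) F40490 (iv5 D25587) F20166 D16036
def n28523 : Q := act 6 n13603
theorem D28523 : act 6 n13603 = n28523 := rfl
theorem F46091 : act 3 n28523 = n13605 := d7_1 D28523 (iv6 D13605) D13603
def n28524 : Q := act 0 n13604
theorem D28524 : act 0 n13604 = n28524 := rfl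
theorem F46092 : act 5 n28524 = n17423 := d17_3 F25426 D13604 D28524 F28401 (iv5 F26861) F26859 (iv5 D7529) D7527 (iv4 F20886)
theorem F46093 : act 2 n15808 = n28524 := d15_3 (iv0 D28524) (iv0 F26705) (iv7 F26830)
theorem F46094 : act 1 n13623 = n28524 := d17_6 (iv1 F11865) (iv5 F25731) (iv1 F22794) (iv5 D6483) D6482 D13623 F46092 F28403 (iv4 D15279)
def n28525 : Q := act 6 n13604
theorem D28525 : act 6 n13604 = n28525 := rfl
def n28526 : Q := act 7 n13604
theorem D28526 : act 7 n13604 = n28526 := rfl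
theorem F46095 : act 2 n28526 = n13623 := d4_1 D28526 F37268 F37267
theorem F46096 : act 4 n28526 = n16657 := d11_1 D28526 (iv7 F43068) F43037
theorem F46097 : act 5 n28526 = n13606 := d13_1 D28526 (iv7 D13606) D13604
theorem F46098 : act 0 n15808 = n28526 := d17_2 F27734 F26833 F46097 F22789 (iv5 F22793) F37252 F11674 D7641 D16482
def n28527 : Q := act 0 n13605
theorem D28527 : act 0 n13605 = n28527 := rfl
def n28528 : Q := act 1 n13605
theorem D28528 : act 1 n13605 = n28528 := rfl
def n28529 : Q := act 5 n13605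
theorem D28529 : act 5 n13605 = n28529 := rfl
def n28530 : Q := act 7 n13605
theorem D28530 : act 7 n13605 = n28530 := rfl
theorem F46099 : act 4 n28530 = n13615 := d11_1 D28530 (iv7 D13615) (iv4 F22787)
def n28531 : Q := act 6 n13606
theorem D28531 : act 6 n13606 = n28531 := rfl
theorem F46100 : act 2 n28531 = n13624 := d3_1 D28531 (iv6 D13624) (iv2 F22788)
theorem F46101 : act 4 n28531 = n13616 := d10_1 D28531 (iv6 D13616) (iv4 F22789)
def n28532 : Q := act 4 n13607
theorem D28532 : act 4 n13607 = n28532 := rfl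
theorem F46102 : act 2 n28532 = n15696 := d1_1 D28532 (iv4 D15696) (iv2 F25729)
theorem F46103 : act 0 n28532 = n16194 := d18_2 D13607 D28532 (iv4 D16194) (iv5 D7554) (iv4 D3439) F5419 (iv4 F10550) (iv0 D6474) D6478
theorem F46104 : act 1 n28532 = n16137 := d18_6 (iv1 F26738) (iv4 F27163) F27161 (iv4 F11863) (iv5 F25731) D28532 (iv4 D16137) D16136 (iv5 F26841)
def n28533 : Q := act 6 n13607
theorem D28533 : act 6 n13607 = n28533 := rfl
theorem F46105 : act 2 n28533 = n15697 := d3_1 D28533 (iv6 D15697) (iv2 F25729)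
def n28534 : Q := act 0 n13609
theorem D28534 : act 0 n13609 = n28534 := rfl
theorem F46106 : act 4 n28534 = n16056 := d18_3 F25733 D13609 D28534 F26861 (iv4 F28401) F28403 (iv4 D15279) (iv0 D7236) D7239
theorem F46107 : act 1 n13625 = n28534 := d18_6 (iv1 F25468) (iv4 F22784) (iv1 F22790) (iv4 D6482) D6483 D13625 F46106 F26859 (iv5 D7529)
def n28535 : Q := act 1 n13609
theorem D28535 : act 1 n13609 = n28535 := rfl
theorem F46108 : act 1 n28535 = n13625 := d15_1 D28535 (iv7 F46062) F46061
theorem F46109 : act 4 n28535 = n16120 := d18_7 (iv1 F11817) (iv4 F20886) F25426 (iv4 D6477) D6478 D13609 D28535 F25681 F25679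
def n28536 : Q := act 3 n13609
theorem D28536 : act 3 n13609 = n28536 := rfl
def n28537 : Q := act 5 n13609
theorem D28537 : act 5 n13609 = n28537 := rfl
theorem F46110 : act 4 n28537 = n16279 := d16_2 D13609 D28537 F43044 (iv4 F43045) (iv5 D13623) (iv4 D6482) D6483 (iv7 F22779) F22778
def n28538 : Q := act 6 n13609
theorem D28538 : act 6 n13609 = n28538 := rfl
theorem F46111 : act 4 n28538 = n13610 := d10_1 D28538 (iv6 D13610) D13609
def n28539 : Q := act 7 n13609
theorem D28539 : act 7 n13609 = n28539 := rfl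
theorem F46112 : act 2 n28539 = n13625 := d4_1 D28539 (iv7 F46062) F46061
theorem F46113 : act 4 n28539 = n13611 := d11_1 D28539 (iv7 D13611) D13609
def n28540 : Q := act 0 n13610
theorem D28540 : act 0 n13610 = n28540 := rfl
def n28541 : Q := act 1 n13610
theorem D28541 : act 1 n13610 = n28541 := rfl
def n28542 : Q := act 5 n13610
theorem D28542 : act 5 n13610 = n28542 := rfl
theorem F46114 : act 6 n28542 = n13614 := d12_2 D13610 D28542 (iv5 D13614) (iv6 D6479) D6478
def n28543 : Q := act 7 n13610
theorem D28543 : act 7 n13610 = n28543 := rfl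
def n28544 : Q := act 6 n13611
theorem D28544 : act 6 n13611 = n28544 := rfl
theorem F46115 : act 2 n28544 = n13626 := d3_1 D28544 (iv6 D13626) (iv2 F22792)
def n28545 : Q := act 2 n13612
theorem D28545 : act 2 n13612 = n28545 := rfl
theorem F46116 : act 7 n13613 = n28545 := d15_2 (iv0 D13612) D13613 (iv2 D28545)
def n28546 : Q := act 3 n13612
theorem D28546 : act 3 n13612 = n28546 := rfl
def n28547 : Q := act 4 n13612
theorem D28547 : act 4 n13612 = n28547 := rfl
def n28548 : Q := act 5 n13612
theorem D28548 : act 5 n13612 = n28548 := rfl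
def n28549 : Q := act 6 n13612
theorem D28549 : act 6 n13612 = n28549 := rfl
def n28550 : Q := act 7 n13612
theorem D28550 : act 7 n13612 = n28550 := rfl
theorem F46117 : act 2 n28550 = n13613 := d4_1 D28550 F46116 (iv2 D28545)
def n28552 : Q := act 4 n13613
theorem D28552 : act 4 n13613 = n28552 := rfl
def n28555 : Q := act 0 n13614
theorem D28555 : act 0 n13614 = n28555 := rfl
def n28556 : Q := act 1 n13614
theorem D28556 : act 1 n13614 = n28556 := rfl
def n28557 : Q := act 4 n13614
theorem D28557 : act 4 n13614 = n28557 := rfl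
def n28558 : Q := act 7 n13614
theorem D28558 : act 7 n13614 = n28558 := rfl
theorem F46118 : act 5 n28558 = n13615 := d13_1 D28558 (iv7 D13615) D13614
def n28559 : Q := act 6 n13615
theorem D28559 : act 6 n13615 = n28559 := rfl
theorem F46119 : act 2 n28559 = n13630 := d3_1 D28559 (iv6 F46067) F46066
theorem F46120 : act 7 n28559 = n13616 := d14_2 D13615 D28559 (iv6 D13616) (iv7 D6480) D6479
theorem F46121 : act 1 n13628 = n28559 := d15_1 D13628 F46120 F22795
theorem F46122 : act 1 n28559 = n13627 := d15_0 (iv0 D13627) D13630 (iv2 F46119)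
def n28560 : Q := act 0 n13616
theorem D28560 : act 0 n13616 = n28560 := rfl
theorem F46123 : act 1 n13630 = n28560 := d15_0 (iv0 D28560) (iv7 F46120) F46119
def n28561 : Q := act 1 n13616
theorem D28561 : act 1 n13616 = n28561 := rfl
theorem F46124 : act 1 n28561 = n13630 := d15_1 D28561 (iv7 D13630) (iv2 F22795)
def n28562 : Q := act 5 n13616
theorem D28562 : act 5 n13616 = n28562 := rfl
theorem F46125 : act 2 n28562 = n13629 := d2_1 D28562 (iv5 D13629) (iv2 F22795)
def n28563 : Q := act 5 n13617
theorem D28563 : act 5 n13617 = n28563 := rfl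
theorem F46126 : act 2 n28563 = n15560 := d2_1 D28563 F25793 (iv2 F25450)
theorem F46127 : act 1 n28563 = n13649 := d17_6 (iv1 D12917) D12919 (iv1 F42274) (iv5 D26440) (iv4 F22796) D28563 (iv5 F25993) (iv0 F27735) F26415
theorem F46128 : act 4 n28563 = n26631 := d18_5 (iv1 D5990) D5992 D12619 (iv4 F22796) D28563 (iv0 D26631) (iv4 D12728) (iv0 F27276) (iv5 D12614)
theorem F46129 : act 1 n13649 = n26258 := d15_1 F46127 F41698 (iv2 F46126)
def n28564 : Q := act 5 n13619
theorem D28564 : act 5 n13619 = n28564 := rfl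
theorem F46130 : act 2 n28564 = n13621 := d2_1 D28564 (iv5 D13621) D13619
theorem F46131 : act 0 n28564 = n15803 := d17_2 (iv1 F37260) D28564 (iv5 F26882) F26415 (iv5 F35191) F42246 (iv5 D26433) F21004 D15937
def n28565 : Q := act 6 n13619
theorem D28565 : act 6 n13619 = n28565 := rfl
theorem F46132 : act 2 n28565 = n13622 := d3_1 D28565 (iv6 D13622) D13619
def n28566 : Q := act 5 n13620
theorem D28566 : act 5 n13620 = n28566 := rfl
theorem F46133 : act 0 n28566 = n27007 := d17_2 F22797 D28566 (iv5 D27007) (iv4 D12932) F35189 F21008 (iv5 D12617) F9310 D7457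
theorem F46134 : act 0 n27460 = n15945 := d18_2 F46133 (iv4 F44379) (iv4 D15945) (iv5 D7470) (iv4 D3414) D3412 D7462 F25379 D28566
theorem F46135 : act 4 n25601 = n27530 := d20_8 D26784 F43076 F21940 (iv3 F44378) F46134 (iv3 F40507) (iv4 D25603) D25601 F44421 F21941
theorem F46136 : act 3 n25601 = n27007 := d20_5 F12911 F11540 F8896 (iv3 F20173) D25601 (iv4 F44379) F46134 (iv4 D15945) F11724 (iv1 F12913)
theorem F46137 : act 5 n23755 = n25601 := d6_0 F46136 (iv5 D27007) (iv3 F37002)
theorem F46138 : act 7 n25564 = n25601 := d8_0 F46136 F43629 (iv3 F40444)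
theorem F46139 : act 2 n25601 = n25567 := d2_1 F46137 (iv5 D25567) (iv2 F37005)
theorem F46140 : act 7 n25602 = n25567 := d15_2 (iv0 D25601) D25602 (iv2 F46139)
theorem F46141 : act 2 n25564 = n25602 := d4_3 F46140 (iv2 F46139) (iv7 F46138)
theorem F46142 : act 5 n23756 = n25602 := d13_3 F46140 (iv5 D25567) (iv7 F37007)
theorem F46143 : act 5 n25643 = n16898 := d17_7 (iv1 F37006) F46142 (iv1 D25602) (iv5 D12173) (iv4 F8898) D12188 D25643 F37427 F37423
theorem F46144 : act 1 n28566 = n26999 := d15_1 (iv0 F46133) F43603 (iv2 F43628)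
theorem F46145 : act 0 n15521 = n13621 := d17_2 (iv1 D15519) D15521 (iv5 D13621) D13620 D28566 F46144 (iv5 D26999) D26998 (iv4 F43598)
def n28567 : Q := act 6 n13620
theorem D28567 : act 6 n13620 = n28567 := rfl
theorem F46146 : act 4 n28567 = n13622 := d10_1 D28567 (iv6 D13622) D13620
def n28568 : Q := act 0 n13621
theorem D28568 : act 0 n13621 = n28568 := rfl
theorem F46147 : act 5 n28568 = n16924 := d17_3 F25452 D13621 D28568 (iv4 D16924) D16925 F27844 (iv5 D12621) D12620 (iv4 F21015)
theorem F46148 : act 4 n28568 = n26449 := d18_1 D28568 (iv1 F42301) (iv4 D15930) (iv5 D7466) D7465 F21013 (iv4 F22796) (iv0 D13617) D13621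
theorem F46149 : act 2 n15803 = n28568 := d15_3 (iv0 D28568) (iv0 F46145) (iv7 F26879)
def n28569 : Q := act 4 n13621
theorem D28569 : act 4 n13621 = n28569 := rfl
theorem F46150 : act 0 n28569 = n15958 := d18_2 F46145 D28569 (iv4 D15958) (iv5 F35189) D12932 F43593 F43591 F26706 D15521
theorem F46151 : act 1 n28569 = n15953 := d18_6 D3411 D7457 F22797 (iv4 D13620) D13621 D28569 (iv4 D15953) (iv0 D7472) (iv5 D3415)
def n28570 : Q := act 6 n13621
theorem D28570 : act 6 n13621 = n28570 := rfl
theorem F46152 : act 3 n28570 = n13626 := d7_1 D28570 (iv6 D13626) (iv3 F22798)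
def n28571 : Q := act 0 n13622
theorem D28571 : act 0 n13622 = n28571 := rfl
def n28572 : Q := act 1 n13622
theorem D28572 : act 1 n13622 = n28572 := rfl
def n28573 : Q := act 5 n13622
theorem D28573 : act 5 n13622 = n28573 := rfl
theorem F46153 : act 3 n28573 = n13629 := d6_1 D28573 (iv5 D13629) (iv3 F22799)
def n28574 : Q := act 7 n13622
theorem D28574 : act 7 n13622 = n28574 := rfl
theorem F46154 : act 3 n28574 = n13630 := d8_1 D28574 (iv7 D13630) (iv3 F22799)
def n28575 : Q := act 6 n13623
theorem D28575 : act 6 n13623 = n28575 := rfl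
def n28576 : Q := act 0 n13624
theorem D28576 : act 0 n13624 = n28576 := rfl
def n28577 : Q := act 1 n13624
theorem D28577 : act 1 n13624 = n28577 := rfl
def n28578 : Q := act 5 n13624
theorem D28578 : act 5 n13624 = n28578 := rfl
def n28579 : Q := act 7 n13624
theorem D28579 : act 7 n13624 = n28579 := rfl
theorem F46155 : act 4 n28579 = n13630 := d11_1 D28579 (iv7 D13630) (iv4 F22800)
def n28580 : Q := act 3 n13625
theorem D28580 : act 3 n13625 = n28580 := rfl
def n28581 : Q := act 5 n13625
theorem D28581 : act 5 n13625 = n28581 := rfl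
theorem F46156 : act 4 n28581 = n16278 := d9_1 D28581 F43039 F43037 (iv5 D13604) (iv4 D6477) D6478 D13609 D28537 F46110 F43044 (iv4 F43045) (iv5 D13623) (iv4 D6482) D6483 D13625
def n28582 : Q := act 6 n13625
theorem D28582 : act 6 n13625 = n28582 := rfl
theorem F46157 : act 4 n28582 = n13626 := d10_1 D28582 (iv6 D13626) D13625
def n28583 : Q := act 0 n13626
theorem D28583 : act 0 n13626 = n28583 := rfl
def n28584 : Q := act 1 n13626
theorem D28584 : act 1 n13626 = n28584 := rfl
def n28585 : Q := act 5 n13626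
theorem D28585 : act 5 n13626 = n28585 := rfl
theorem F46158 : act 6 n28585 = n13629 := d12_2 D13626 D28585 (iv5 D13629) (iv6 D6484) D6483
def n28586 : Q := act 7 n13626
theorem D28586 : act 7 n13626 = n28586 := rfl
def n28587 : Q := act 2 n13627
theorem D28587 : act 2 n13627 = n28587 := rfl
theorem F46159 : act 7 n13628 = n28587 := d15_2 (iv0 D13627) D13628 (iv2 D28587)
def n28592 : Q := act 7 n13627
theorem D28592 : act 7 n13627 = n28592 := rfl
theorem F46160 : act 2 n28592 = n13628 := d4_1 D28592 F46159 (iv2 D28587)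
def n28593 : Q := act 3 n13628
theorem D28593 : act 3 n13628 = n28593 := rfl
def n28594 : Q := act 4 n13628
theorem D28594 : act 4 n13628 = n28594 := rfl
def n28595 : Q := act 5 n13628
theorem D28595 : act 5 n13628 = n28595 := rfl
def n28596 : Q := act 6 n13628
theorem D28596 : act 6 n13628 = n28596 := rfl
def n28597 : Q := act 0 n13629
theorem D28597 : act 0 n13629 = n28597 := rfl
def n28598 : Q := act 1 n13629
theorem D28598 : act 1 n13629 = n28598 := rfl
def n28599 : Q := act 4 n13629
theorem D28599 : act 4 n13629 = n28599 := rfl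
def n28600 : Q := act 7 n13629
theorem D28600 : act 7 n13629 = n28600 := rfl
theorem F46161 : act 5 n28600 = n13630 := d13_1 D28600 (iv7 D13630) D13629
def n28601 : Q := act 3 n13639
theorem D28601 : act 3 n13639 = n28601 := rfl
theorem F46162 : act 5 n28601 = n15283 := d6_2 (iv5 F25820) D28601 (iv3 D15283)
theorem F46163 : act 7 n28601 = n13649 := d8_2 (iv7 F42892) D28601 (iv3 D13649)
def n28602 : Q := act 4 n13639
theorem D28602 : act 4 n13639 = n28602 := rfl
theorem F46164 : act 2 n28602 = n13645 := d1_1 D28602 (iv4 D13645) (iv2 F42891)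
theorem F46165 : act 7 n28602 = n13650 := d11_2 (iv7 F42892) D28602 (iv4 D13650)
def n28603 : Q := act 6 n13639
theorem D28603 : act 6 n13639 = n28603 := rfl
theorem F46166 : act 2 n28603 = n13647 := d3_1 D28603 (iv6 D13647) (iv2 F42891)
def n28604 : Q := act 4 n13640
theorem D28604 : act 4 n13640 = n28604 := rfl
theorem F46167 : act 2 n28604 = n13650 := d1_1 D28604 (iv4 D13650) (iv2 F42895)
theorem F46168 : act 7 n28604 = n13645 := d11_2 (iv7 F42896) D28604 (iv4 D13645)
def n28605 : Q := act 6 n13640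
theorem D28605 : act 6 n13640 = n28605 := rfl
theorem F46169 : act 2 n28605 = n13652 := d3_1 D28605 (iv6 D13652) (iv2 F42895)
def n28606 : Q := act 1 n13641
theorem D28606 : act 1 n13641 = n28606 := rfl
theorem F46170 : act 1 n28606 = n13657 := d15_1 D28606 (iv7 D13657) (iv2 F22805)
theorem F46171 : act 7 n28606 = n13653 := d15_2 F25826 D28606 (iv2 F27185)
theorem F46172 : act 4 n28606 = n27752 := d18_7 F25467 F11775 F11798 (iv4 F4482) D6487 D13641 D28606 F44805 (iv5 D16016)
theorem F46173 : act 2 n13654 = n28606 := d1_3 F46172 (iv2 D27752) F22810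
def n28607 : Q := act 3 n13641
theorem D28607 : act 3 n13641 = n28607 := rfl
def n28608 : Q := act 6 n13641
theorem D28608 : act 6 n13641 = n28608 := rfl
theorem F46174 : act 2 n28608 = n13656 := d3_1 D28608 (iv6 D13656) (iv2 F22805)
theorem F46175 : act 4 n28608 = n13642 := d10_1 D28608 (iv6 D13642) D13641
def n28609 : Q := act 0 n13642
theorem D28609 : act 0 n13642 = n28609 := rfl
def n28610 : Q := act 1 n13642
theorem D28610 : act 1 n13642 = n28610 := rfl
theorem F46176 : act 1 n28610 = n13660 := d15_1 D28610 (iv7 D13660) (iv2 F22806)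
def n28611 : Q := act 7 n13642
theorem D28611 : act 7 n13642 = n28611 := rfl
theorem F46177 : act 2 n28611 = n13660 := d4_1 D28611 (iv7 D13660) (iv2 F22806)
theorem F46178 : act 1 n13660 = n28609 := d15_0 (iv0 D28609) D28611 F46177
theorem F46179 : act 1 n13659 = n28611 := d15_1 D13659 (iv7 D28611) F22806
theorem F46180 : act 1 n28611 = n13658 := d15_0 (iv0 D13658) D13660 (iv2 F46177)
def n28612 : Q := act 6 n13644
theorem D28612 : act 6 n13644 = n28612 := rfl
theorem F46181 : act 3 n28612 = n13647 := d7_1 D28612 (iv6 D13647) D13644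
theorem F46182 : act 4 n28612 = n18368 := d10_1 D28612 (iv6 D18368) (iv4 F22808)
def n28613 : Q := act 0 n13645
theorem D28613 : act 0 n13645 = n28613 := rfl
theorem F46183 : act 4 n28613 = n16016 := d18_3 D6488 D13645 D28613 (iv5 D16016) (iv4 F22784) (iv0 D13601) (iv4 D6477) (iv0 D2884) D2887
theorem F46184 : act 1 n13650 = n28613 := d15_0 (iv0 D28613) (iv7 F46168) F46167
def n28614 : Q := act 1 n13645
theorem D28614 : act 1 n13645 = n28614 := rfl
theorem F46185 : act 1 n28614 = n13650 := d15_1 D28614 (iv7 F46165) F46164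
theorem F46186 : act 4 n28614 = n16117 := d18_7 (iv1 D15630) (iv4 F12931) (iv1 F26769) (iv4 D16478) F25821 D13645 D28614 F44806 F44803
def n28615 : Q := act 3 n13645
theorem D28615 : act 3 n13645 = n28615 := rfl
theorem F46187 : act 4 n28615 = n18366 := d5_2 D13645 D28615 (iv3 D18366) (iv4 F22808) (iv3 D13644)
def n28616 : Q := act 5 n13645
theorem D28616 : act 5 n13645 = n28616 := rfl
theorem F46188 : act 4 n28616 = n16276 := d16_2 D13645 D28616 (iv5 D16276) D16275 (iv5 F25994) (iv4 D16482) F25822 (iv7 F42892) F42891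
def n28617 : Q := act 6 n13645
theorem D28617 : act 6 n13645 = n28617 := rfl
theorem F46189 : act 4 n28617 = n13647 := d10_1 D28617 (iv6 D13647) D13645
def n28618 : Q := act 0 n13647
theorem D28618 : act 0 n13647 = n28618 := rfl
def n28619 : Q := act 1 n13647
theorem D28619 : act 1 n13647 = n28619 := rfl
def n28620 : Q := act 5 n13647
theorem D28620 : act 5 n13647 = n28620 := rfl
def n28621 : Q := act 7 n13647
theorem D28621 : act 7 n13647 = n28621 := rfl
def n28622 : Q := act 2 n13649
theorem D28622 : act 2 n13649 = n28622 := rfl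
theorem F46190 : act 3 n28622 = n18362 := d0_2 D13649 D28622 F42898 F42573 F42895
theorem F46191 : act 5 n28622 = n15519 := d2_2 F25993 D28622 (iv2 F42940)
theorem F46192 : act 1 n15560 = n28622 := d17_6 (iv1 F21471) D26987 (iv1 F43573) (iv5 D15941) (iv4 F11723) (iv5 F25793) F46191 F27754 (iv4 D16924)
def n28623 : Q := act 4 n13649
theorem D28623 : act 4 n13649 = n28623 := rfl
theorem F46193 : act 0 n28623 = n15921 := d18_2 (iv1 F46129) D28623 (iv4 D15921) (iv5 D7463) D7462 F25379 (iv4 D13620) (iv0 F25452) (iv5 F41697)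
theorem F46194 : act 1 n28623 = n15906 := d18_6 D3591 D7931 D16977 F27849 F25993 D28623 (iv4 D15906) (iv0 F30291) F5429
def n28624 : Q := act 6 n13649
theorem D28624 : act 6 n13649 = n28624 := rfl
theorem F46195 : act 3 n28624 = n13652 := d7_1 D28624 (iv6 D13652) D13649
def n28625 : Q := act 3 n13650
theorem D28625 : act 3 n13650 = n28625 := rfl
def n28626 : Q := act 5 n13650
theorem D28626 : act 5 n13650 = n28626 := rfl
theorem F46196 : act 4 n28626 = n16271 := d9_1 D28626 (iv5 D16271) D16270 (iv5 F25989) (iv4 D16478) F25821 D13645 D28616 F46188 (iv5 D16276) D16275 (iv5 F25994) (iv4 D16482) F25822 D13650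
def n28627 : Q := act 6 n13650
theorem D28627 : act 6 n13650 = n28627 := rfl
theorem F46197 : act 4 n28627 = n13652 := d10_1 D28627 (iv6 D13652) D13650
def n28628 : Q := act 0 n13652
theorem D28628 : act 0 n13652 = n28628 := rfl
def n28629 : Q := act 1 n13652
theorem D28629 : act 1 n13652 = n28629 := rfl
def n28630 : Q := act 5 n13652
theorem D28630 : act 5 n13652 = n28630 := rfl
def n28631 : Q := act 7 n13652
theorem D28631 : act 7 n13652 = n28631 := rfl
def n28632 : Q := act 3 n13653
theorem D28632 : act 3 n13653 = n28632 := rfl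
def n28633 : Q := act 5 n13653
theorem D28633 : act 5 n13653 = n28633 := rfl
theorem F46198 : act 4 n28633 = n16262 := d16_2 (iv4 F27186) D28633 (iv5 D16262) (iv4 D7573) (iv5 F25814) D7743 (iv5 F25823) F27178 D16235
def n28634 : Q := act 6 n13653
theorem D28634 : act 6 n13653 = n28634 := rfl
def n28635 : Q := act 3 n13654
theorem D28635 : act 3 n13654 = n28635 := rfl
theorem F46199 : act 4 n28635 = n27756 := d5_2 F22810 D28635 (iv3 D27756) (iv4 D13250) D13249
def n28636 : Q := act 5 n13654
theorem D28636 : act 5 n13654 = n28636 := rfl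
theorem F46200 : act 4 n28636 = n16243 := d9_1 D28636 (iv5 D16243) (iv4 D7568) F25818 D7738 F27165 (iv4 F27186) D28633 F46198 (iv5 D16262) (iv4 D7573) (iv5 F25814) D7743 (iv5 F25823) F22810
def n28637 : Q := act 6 n13654
theorem D28637 : act 6 n13654 = n28637 := rfl
theorem F46201 : act 4 n28637 = n27753 := d10_1 D28637 (iv6 D27753) F22810
def n28638 : Q := act 0 n13655
theorem D28638 : act 0 n13655 = n28638 := rfl
theorem F46202 : act 5 n28638 = n16137 := d17_3 (iv1 D13654) D13655 D28638 (iv4 D16137) (iv5 D7535) D7533 D16131 F25665 F22810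
theorem F46203 : act 4 n28638 = n16201 := d18_3 (iv1 F44441) F44440 D28638 (iv5 D16201) (iv4 D7556) F11780 D16147 F43038 (iv5 F43039)
theorem F46204 : act 1 n16280 = n28638 := d17_6 F25733 (iv5 D6478) D6474 D13587 D28502 F46051 F46202 F25735 (iv4 D15291)
def n28639 : Q := act 1 n13655
theorem D28639 : act 1 n13655 = n28639 := rfl
theorem F46205 : act 1 n28639 = n16280 := d15_1 D28639 (iv7 F44454) F44453
theorem F46206 : act 5 n28639 = n16194 := d17_7 (iv1 F22794) (iv5 D6483) (iv1 D2885) D2887 D6490 D13655 D28639 (iv0 F46103) (iv4 D28532)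
theorem F46207 : act 4 n16158 = n28639 := d9_15 F46206 (iv4 D16194) (iv5 D7554) (iv4 D3439) D3440 D7556 D16201 (iv4 F46203) F46202 (iv4 D16137) (iv5 D7535) (iv4 D3434) D3435 D7540 D16158
def n28640 : Q := act 6 n13655
theorem D28640 : act 6 n13655 = n28640 := rfl
def n28641 : Q := act 7 n13655
theorem D28641 : act 7 n13655 = n28641 := rfl
theorem F46208 : act 2 n28641 = n16280 := d4_1 D28641 (iv7 F44454) F44453
theorem F46209 : act 3 n28641 = n18890 := d8_1 D28641 F30143 F28200
theorem F46210 : act 4 n28641 = n16222 := d11_1 D28641 (iv7 F44439) F44440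
theorem F46211 : act 5 n28641 = n13657 := d13_1 D28641 (iv7 D13657) D13655
def n28642 : Q := act 0 n13656
theorem D28642 : act 0 n13656 = n28642 := rfl
def n28643 : Q := act 1 n13656
theorem D28643 : act 1 n13656 = n28643 := rfl
def n28644 : Q := act 5 n13656
theorem D28644 : act 5 n13656 = n28644 := rfl
def n28645 : Q := act 7 n13656
theorem D28645 : act 7 n13656 = n28645 := rfl
theorem F46212 : act 4 n28645 = n13660 := d11_1 D28645 (iv7 D13660) (iv4 F22811)
def n28646 : Q := act 6 n13657
theorem D28646 : act 6 n13657 = n28646 := rfl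
theorem F46213 : act 3 n28646 = n18891 := d7_1 D28646 (iv6 D18891) (iv3 F22812)
theorem F46214 : act 4 n28646 = n13661 := d10_1 D28646 (iv6 D13661) (iv4 F22813)
def n28647 : Q := act 2 n13658
theorem D28647 : act 2 n13658 = n28647 := rfl
theorem F46215 : act 7 n13659 = n28647 := d15_2 (iv0 D13658) D13659 (iv2 D28647)
def n28648 : Q := act 3 n13658
theorem D28648 : act 3 n13658 = n28648 := rfl
def n28649 : Q := act 4 n13658
theorem D28649 : act 4 n13658 = n28649 := rfl
def n28650 : Q := act 5 n13658
theorem D28650 : act 5 n13658 = n28650 := rfl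
def n28651 : Q := act 6 n13658
theorem D28651 : act 6 n13658 = n28651 := rfl
def n28652 : Q := act 7 n13658
theorem D28652 : act 7 n13658 = n28652 := rfl
theorem F46216 : act 2 n28652 = n13659 := d4_1 D28652 F46215 (iv2 D28647)
def n28653 : Q := act 3 n13659
theorem D28653 : act 3 n13659 = n28653 := rfl
def n28654 : Q := act 4 n13659
theorem D28654 : act 4 n13659 = n28654 := rfl
def n28655 : Q := act 5 n13659
theorem D28655 : act 5 n13659 = n28655 := rfl
def n28656 : Q := act 6 n13659
theorem D28656 : act 6 n13659 = n28656 := rfl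
def n28657 : Q := act 0 n13661
theorem D28657 : act 0 n13661 = n28657 := rfl
def n28658 : Q := act 1 n13661
theorem D28658 : act 1 n13661 = n28658 := rfl
def n28659 : Q := act 5 n13661
theorem D28659 : act 5 n13661 = n28659 := rfl
theorem F46217 : act 3 n28659 = n13678 := d6_1 D28659 (iv5 D13678) (iv3 F22815)
theorem F46218 : act 6 n28659 = n13664 := d12_2 D13661 D28659 (iv5 D13664) (iv6 D6493) (iv5 F10560)
def n28660 : Q := act 2 n13662
theorem D28660 : act 2 n13662 = n28660 := rfl
theorem F46219 : act 7 n13663 = n28660 := d15_2 (iv0 D13662) D13663 (iv2 D28660)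
def n28661 : Q := act 3 n13662
theorem D28661 : act 3 n13662 = n28661 := rfl
def n28662 : Q := act 5 n13662
theorem D28662 : act 5 n13662 = n28662 := rfl
def n28663 : Q := act 6 n13662
theorem D28663 : act 6 n13662 = n28663 := rfl
def n28664 : Q := act 7 n13662
theorem D28664 : act 7 n13662 = n28664 := rfl
theorem F46220 : act 2 n28664 = n13663 := d4_1 D28664 F46219 (iv2 D28660)
def n28665 : Q := act 3 n13663
theorem D28665 : act 3 n13663 = n28665 := rfl
def n28666 : Q := act 4 n13663
theorem D28666 : act 4 n13663 = n28666 := rfl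
def n28668 : Q := act 6 n13663
theorem D28668 : act 6 n13663 = n28668 := rfl
def n28669 : Q := act 0 n13664
theorem D28669 : act 0 n13664 = n28669 := rfl
def n28670 : Q := act 1 n13664
theorem D28670 : act 1 n13664 = n28670 := rfl
def n28671 : Q := act 4 n13664
theorem D28671 : act 4 n13664 = n28671 := rfl
def n28672 : Q := act 0 n13666
theorem D28672 : act 0 n13666 = n28672 := rfl
def n28673 : Q := act 1 n13666
theorem D28673 : act 1 n13666 = n28673 := rfl
def n28674 : Q := act 2 n13666
theorem D28674 : act 2 n13666 = n28674 := rfl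
def n28675 : Q := act 4 n13666
theorem D28675 : act 4 n13666 = n28675 := rfl
theorem F46221 : act 3 n28675 = n18823 := d5_1 D28675 (iv4 D18823) (iv3 D8818) (iv4 F43120) D13666
def n28676 : Q := act 5 n13666
theorem D28676 : act 5 n13666 = n28676 := rfl
theorem F46222 : act 3 n28676 = n13668 := d6_1 D28676 (iv5 D13668) D13666
def n28677 : Q := act 6 n13666
theorem D28677 : act 6 n13666 = n28677 := rfl
theorem F46223 : act 3 n28677 = n13669 := d7_1 D28677 (iv6 D13669) D13666
def n28678 : Q := act 0 n13668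
theorem D28678 : act 0 n13668 = n28678 := rfl
theorem F46224 : act 5 n28678 = n17730 := d17_3 D6494 D13668 D28678 F28835 D17734 (iv0 F28957) (iv5 D16393) F28953 F5673
theorem F46225 : act 1 n13673 = n28678 := d15_0 (iv0 D28678) (iv7 F44682) (iv2 F44683)
theorem F46226 : act 1 n17730 = n16826 := d17_8 (iv1 F29709) (iv5 F29707) F29708 (iv5 D8825) F43124 D13673 F46225 F46224 F27578
theorem F46227 : act 0 n23857 = n26244 := d18_2 (iv1 D23859) (iv4 F37192) (iv4 D26244) D26245 (iv4 F41674) (iv0 D17732) (iv4 F28835) F46226 F37194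
def n28679 : Q := act 1 n13668
theorem D28679 : act 1 n13668 = n28679 := rfl
theorem F46228 : act 1 n28679 = n13673 := d15_1 D28679 F44679 (iv2 F44680)
def n28680 : Q := act 4 n13668
theorem D28680 : act 4 n13668 = n28680 := rfl
def n28681 : Q := act 6 n13668
theorem D28681 : act 6 n13668 = n28681 := rfl
def n28682 : Q := act 0 n13669
theorem D28682 : act 0 n13669 = n28682 := rfl
def n28683 : Q := act 1 n13669
theorem D28683 : act 1 n13669 = n28683 := rfl
theorem F46229 : act 4 n28683 = n17718 := d17_9 (iv1 F28959) F28960 (iv1 D17591) F13036 (iv4 F11566) (iv5 F18714) D24320 (iv5 F38104) D28683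
theorem F46230 : act 6 n17717 = n28683 := d21_3 D12567 D26345 F42014 (iv1 D28683) (iv6 D13669) D13668 D28678 F46224 (iv6 D17730) (iv1 F41732)
theorem F46231 : act 7 n28683 = n15600 := d14_2 F28826 F46230 (iv6 D15600) F41949 D17285
theorem E5038 : n28682 = n17304 := ((c15_4 (iv0 D28682) D28683 F46231 (iv2 F41959))).symm
theorem F46232 : act 1 n17304 = n13669 := (sb E5038 (iv0 D28682))
def n28684 : Q := act 7 n13669
theorem D28684 : act 7 n13669 = n28684 := rfl
theorem F46233 : act 4 n28684 = n18543 := d11_1 D28684 F44669 (iv4 F43122)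
theorem F46234 : act 5 n28684 = n24408 := d13_1 D28684 F44676 (iv5 F38104)
theorem F46235 : act 0 n15600 = n28684 := d17_0 F46234 (iv1 F38271) F38105 F24900 (iv5 F28588) F28594 (iv5 F43458) (iv0 D26946) (iv4 F41951)
def n28685 : Q := act 0 n13671
theorem D28685 : act 0 n13671 = n28685 := rfl
def n28686 : Q := act 1 n13671
theorem D28686 : act 1 n13671 = n28686 := rfl
def n28687 : Q := act 2 n13671
theorem D28687 : act 2 n13671 = n28687 := rfl
def n28688 : Q := act 4 n13671
theorem D28688 : act 4 n13671 = n28688 := rfl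
theorem F46236 : act 3 n28688 = n18842 := d5_1 D28688 (iv4 D18842) (iv3 D8823) F43124 D13671
def n28689 : Q := act 5 n13671
theorem D28689 : act 5 n13671 = n28689 := rfl
theorem F46237 : act 3 n28689 = n13673 := d6_1 D28689 (iv5 D13673) D13671
def n28690 : Q := act 6 n13671
theorem D28690 : act 6 n13671 = n28690 := rfl
theorem F46238 : act 3 n28690 = n13674 := d7_1 D28690 (iv6 D13674) D13671
def n28691 : Q := act 4 n13673
theorem D28691 : act 4 n13673 = n28691 := rfl
def n28692 : Q := act 6 n13673
theorem D28692 : act 6 n13673 = n28692 := rfl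
theorem F46239 : act 0 n15000 = n28692 := d21_4 (iv5 D5874) (iv1 F8726) (iv5 F11456) D15000 (iv6 D28692) (iv5 D13673) (iv1 D6495) (iv5 F10529) (iv6 D6460) (iv1 F9076)
def n28693 : Q := act 0 n13674
theorem D28693 : act 0 n13674 = n28693 := rfl
theorem F46240 : act 5 n28693 = n13919 := d17_1 D28693 (iv1 F23629) F23626 F20898 (iv5 F21801) (iv0 F21805) D18109 (iv0 F29712) (iv4 F43125)
theorem F46241 : act 4 n28693 = n27089 := d18_3 (iv1 F30004) (iv4 F43125) D28693 F43764 (iv4 F30535) (iv0 D18114) (iv4 D8540) D8539 (iv5 F22040)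
theorem F46242 : act 6 n18760 = n28693 := d10_0 F46241 F43765 F30379
theorem F46243 : act 7 n15403 = n28693 := d11_0 F46241 (iv7 D27089) F41796
def n28694 : Q := act 1 n13674
theorem D28694 : act 1 n13674 = n28694 := rfl
def n28695 : Q := act 5 n13674
theorem D28695 : act 5 n13674 = n28695 := rfl
theorem F46244 : act 1 n28695 = n17812 := d17_6 D6220 D13074 F30098 (iv5 D18849) (iv4 F43125) D28695 (iv5 D17812) (iv0 F41802) F9266
theorem F46245 : act 1 n17831 = n28695 := d15_0 F46244 (iv7 F30530) (iv2 F30531)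
theorem E5039 : n28694 = n17541 := (c17_9 (iv1 F43771) (iv5 F28952) (iv1 F28986) (iv5 D8404) D8403 D17831 F46245 (iv5 D28695) D28694 F28534)
theorem F46246 : act 0 n17541 = n13674 := (sb E5039 (iv1 D28694))
def n28696 : Q := act 7 n13674
theorem D28696 : act 7 n13674 = n28696 := rfl
theorem F46247 : act 4 n28696 = n18606 := d11_1 D28696 F44648 (iv4 F43125)
theorem F46248 : act 1 n15403 = n28696 := d17_8 (iv1 D18606) F21797 (iv1 D13082) (iv5 D6222) (iv4 F9266) (iv5 F10960) D14143 (iv5 F24964) F46247
theorem F46249 : act 1 n23921 = n15403 := d15_0 F46248 (iv7 D28696) (iv2 F44684)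
def n28697 : Q := act 0 n13678
theorem D28697 : act 0 n13678 = n28697 := rfl
theorem F46250 : act 5 n28697 = n16830 := d17_3 F30047 D13678 D28697 (iv4 D16830) (iv5 D7849) (iv0 D3559) F2724 D1694 D3926
theorem F46251 : act 4 n28697 = n18710 := d18_1 D28697 (iv1 F44937) F44934 F22066 F9807 F4241 D3921 F30046 D13678
theorem F46252 : act 1 n18743 = n28697 := d15_0 (iv0 D28697) (iv7 F44963) F44962
theorem F46253 : act 2 n19011 = n28697 := d2_3 F46250 F43208 F43133
theorem F46254 : act 7 n19012 = n28697 := d13_0 F46250 (iv7 F43240) F43242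
theorem F46255 : act 7 n18710 = n27822 := d11_2 F46254 F46251 (iv4 F44966)
theorem F46256 : act 2 n27822 = n18711 := d15_3 F44936 F44937 F46255
theorem F46257 : act 2 n18710 = n27821 := d15_3 (iv0 D27821) D27822 (iv7 F46255)
theorem F46258 : act 7 n27821 = n18711 := d4_2 (iv7 F46255) F46257 (iv2 F46256)
def n28698 : Q := act 1 n13678
theorem D28698 : act 1 n13678 = n28698 := rfl
theorem F46259 : act 1 n28698 = n18743 := d15_1 D28698 (iv7 F30058) (iv2 F22826)
theorem F46260 : act 7 n28698 = n19011 := d15_2 (iv0 D28697) D28698 F46253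
theorem F46261 : act 5 n16846 = n28698 := d21_6 (iv5 D1488) (iv1 F2587) D3335 D7251 D15322 F43129 (iv1 D28698) (iv5 D13678) (iv6 D6497) (iv1 F4489)
theorem F46262 : act 2 n28698 = n19012 := d2_1 F46261 (iv5 F43242) F43238
theorem F46263 : act 4 n18711 = n28698 := d1_0 F46262 F44966 F46256
def n28699 : Q := act 4 n13678
theorem D28699 : act 4 n13678 = n28699 := rfl
theorem F46264 : act 2 n28699 = n19013 := d1_1 D28699 (iv4 D19013) (iv2 F22826)
theorem F46265 : act 6 n28699 = n13681 := d10_2 (iv6 F22827) D28699 (iv4 D13681)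
theorem F46266 : act 0 n28699 = n27814 := d18_2 (iv1 D28698) D28699 (iv4 D27814) D27815 F44923 (iv0 F28987) (iv4 F28996) (iv0 F30438) F46261
theorem F46267 : act 1 n28699 = n27819 := d18_6 (iv1 F9803) (iv4 F29958) (iv1 D8851) (iv4 F10564) D13678 D28699 (iv4 D27819) F22062 F13649
def n28700 : Q := act 6 n13679
theorem D28700 : act 6 n13679 = n28700 := rfl
def n28701 : Q := act 3 n13680
theorem D28701 : act 3 n13680 = n28701 := rfl
theorem F46268 : act 2 n28701 = n14887 := d0_1 D28701 F24528 (iv2 F20523) (iv3 F26697) F25973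
theorem F46269 : act 5 n28701 = n14880 := d6_2 F22829 D28701 F26689
def n28702 : Q := act 6 n13680
theorem D28702 : act 6 n13680 = n28702 := rfl
def n28703 : Q := act 3 n13681
theorem D28703 : act 3 n13681 = n28703 := rfl
def n28704 : Q := act 5 n13681
theorem D28704 : act 5 n13681 = n28704 := rfl
theorem F46270 : act 2 n28704 = n28488 := d2_1 D28704 F46009 F27653
theorem F46271 : act 7 n28704 = n16887 := d13_2 F46008 D28704 (iv5 F46009)
theorem F46272 : act 4 n28704 = n16888 := d16_2 D13681 D28704 F27655 F12441 F5599 (iv4 F12441) (iv5 F27655) (iv7 D16888) F12439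
theorem F46273 : act 0 n28704 = n16443 := d17_2 F25920 D28704 F25919 (iv4 D16428) (iv5 D7617) (iv0 D3457) D3459 D7625 D16443
theorem F46274 : act 1 n28704 = n16440 := d17_8 (iv1 F20723) (iv5 D12446) (iv1 F9179) D7622 D16436 (iv5 F25917) F25918 D28704 (iv4 D16440)
def n28705 : Q := act 0 n13682
theorem D28705 : act 0 n13682 = n28705 := rfl
theorem F46275 : act 3 n28705 = n15748 := d20_5 (iv4 F11601) (iv1 F22835) (iv4 D13683) (iv3 F22830) D28705 F26308 F12005 F26366 (iv3 F26375) (iv1 F9377)
theorem F46276 : act 5 n28705 = n16903 := d21_2 D13682 D28705 (iv6 D16903) (iv1 D7884) (iv6 D3574) (iv5 D1575) F2414 (iv5 F3473) D5170 F10566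
theorem F46277 : act 6 n28705 = n15751 := d21_5 (iv5 F10425) (iv1 F18314) D11266 (iv6 F22831) D28705 (iv5 D15751) (iv1 F18264) F18261 F18262 (iv1 F18183)
theorem F46278 : act 2 n16957 = n28705 := d15_3 (iv0 D28705) (iv0 F22832) (iv7 F27805)
theorem F46279 : act 1 n16910 = n28705 := d15_0 (iv0 D28705) (iv7 F27659) (iv2 F27712)
theorem F46280 : act 7 n28705 = n16903 := d15_2 F27716 F46279 F27696
def n28706 : Q := act 4 n13682
theorem D28706 : act 4 n13682 = n28706 := rfl
theorem F46281 : act 6 n28706 = n13808 := d10_2 (iv6 F22831) D28706 F23065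
theorem F46282 : act 5 n28706 = n25751 := d17_5 (iv1 D11241) F7698 F10566 D13682 D28706 (iv0 D25751) (iv5 D12223) D12222 (iv4 F20219)
theorem F46283 : act 1 n28706 = n16947 := d18_6 (iv1 D5792) (iv4 F8914) D12221 F20217 D13682 D28706 F27790 F23476 (iv5 D12227)
def n28707 : Q := act 3 n13683
theorem D28707 : act 3 n13683 = n28707 := rfl
theorem F46284 : act 5 n28707 = n16439 := d6_2 (iv5 F22834) D28707 (iv3 D16439)
theorem F46285 : act 6 n28707 = n14046 := d7_2 (iv6 F22833) D28707 (iv3 D14046)
def n28708 : Q := act 5 n13684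
theorem D28708 : act 5 n13684 = n28708 := rfl
theorem F46286 : act 2 n28708 = n25759 := d2_1 D28708 (iv5 D25759) (iv2 F22836)
theorem F46287 : act 3 n28708 = n26540 := d6_1 D28708 (iv5 D26540) F26610
theorem F46288 : act 7 n28708 = n25755 := d13_2 (iv7 F22837) D28708 (iv5 D25755)
def n28709 : Q := act 4 n13685
theorem D28709 : act 4 n13685 = n28709 := rfl
theorem F46289 : act 2 n28709 = n25760 := d1_1 D28709 (iv4 D25760) (iv2 F22839)
theorem F46290 : act 6 n28709 = n15250 := d10_2 (iv6 F22842) D28709 (iv4 D15250)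
theorem F46291 : act 7 n28709 = n25757 := d11_2 (iv7 F22841) D28709 (iv4 D25757)
theorem F46292 : act 0 n28709 = n16956 := d20_1 D28709 F27800 F20122 F22832 F22830 D13683 F25943 (iv4 D16458) D16457 (iv1 F25937)
def n28710 : Q := act 3 n13687
theorem D28710 : act 3 n13687 = n28710 := rfl
theorem F46293 : act 5 n28710 = n16442 := d6_2 (iv5 F22850) D28710 (iv3 D16442)
theorem F46294 : act 6 n28710 = n14849 := d7_2 (iv6 F22849) D28710 F26796
theorem F46295 : act 7 n28710 = n26718 := d8_2 F23105 D28710 F42829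
theorem F46296 : act 0 n28710 = n14899 := d20_4 F24534 F21337 D13687 D28710 (iv3 D14899) (iv4 D7092) F5513 (iv4 F12012) (iv3 F26691) F24537
theorem F46297 : act 0 n26549 = n16442 := d21_1 D26549 (iv5 F46293) F46294 (iv1 D14849) F11324 D13839 F42477 F42476 F42075 (iv1 F42073)
theorem F46298 : act 0 n16442 = n26370 := d21_7 D7497 (iv1 F26761) (iv5 D8164) D8165 (iv1 F26735) (iv6 F46294) F46293 (iv5 D26370) F26802 (iv1 F9290)
def n28711 : Q := act 0 n13688
theorem D28711 : act 0 n13688 = n28711 := rfl
theorem F46299 : act 5 n28711 = n24534 := d17_3 (iv1 F19399) D13688 D28711 (iv4 D24534) (iv5 D11608) (iv0 D5394) (iv5 D2218) D2217 D5391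
theorem F46300 : act 4 n28711 = n24104 := d18_1 D28711 (iv1 F37772) (iv4 D14594) (iv5 D6973) (iv4 F10159) F8212 D5386 (iv0 F19398) D13688
theorem F46301 : act 1 n24479 = n28711 := d15_0 (iv0 D28711) (iv7 F24415) (iv2 F38434)
theorem F46302 : act 3 n23789 = n28711 := d20_5 (iv4 F45663) (iv1 D28218) (iv4 D13473) (iv3 F18098) D23789 F46300 (iv1 F37772) (iv4 D14594) (iv3 F23975) (iv1 F37469)
theorem F46303 : act 7 n28711 = n23808 := d8_2 (iv7 F37089) F46302 (iv3 D23808)
def n28712 : Q := act 1 n13688
theorem D28712 : act 1 n13688 = n28712 := rfl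
theorem F46304 : act 1 n28712 = n24479 := d15_1 D28712 F38435 F38276
theorem F46305 : act 5 n28712 = n24545 := d18_9 (iv1 F39007) F39005 (iv1 F38446) F24596 F19560 D12300 D25919 (iv4 F40972) D28712
theorem F46306 : act 2 n23808 = n28712 := d2_3 F46305 F38539 (iv5 F37127)
theorem F46307 : act 4 n24105 = n28712 := d18_3 (iv1 F18494) D14594 (iv1 F37768) F46305 (iv4 D24545) F38521 F38517 F37765 (iv5 D24102)
def n28713 : Q := act 0 n13689
theorem D28713 : act 0 n13689 = n28713 := rfl
theorem F46308 : act 4 n28713 = n14318 := d18_3 F19553 D13689 D28713 (iv5 F37788) (iv4 F40130) (iv0 D25381) F22566 (iv0 F24470) (iv5 F11970)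
theorem F46309 : act 1 n26065 = n28713 := d15_0 (iv0 D28713) (iv7 F24419) (iv2 F41220)
theorem F46310 : act 7 n14447 = n28713 := d11_0 F46308 F26014 D14447
def n28714 : Q := act 1 n13689
theorem D28714 : act 1 n13689 = n28714 := rfl
theorem F46311 : act 1 n28714 = n26065 := d15_1 D28714 F41221 F22856
theorem F46312 : act 4 n28714 = n14446 := d18_7 F11288 (iv4 F11156) (iv1 F19403) F8796 D6511 D13689 D28714 (iv0 F37483) (iv5 D14777)
theorem F46313 : act 2 n14447 = n28714 := d1_3 F46312 (iv2 D14446) D14447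
def n28715 : Q := act 3 n13689
theorem D28715 : act 3 n13689 = n28715 := rfl
theorem F46314 : act 6 n28715 = n25296 := d7_2 (iv6 F22853) D28715 (iv3 D25296)
def n28716 : Q := act 5 n13689
theorem D28716 : act 5 n13689 = n28716 := rfl
def n28717 : Q := act 4 n13690
theorem D28717 : act 4 n13690 = n28717 := rfl
theorem F46315 : act 2 n28717 = n25823 := d1_1 D28717 (iv4 F40814) F38000
theorem F46316 : act 6 n28717 = n25319 := d10_2 (iv6 F22855) D28717 (iv4 D25319)
theorem F46317 : act 7 n28717 = n25822 := d11_2 F39808 D28717 F40811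
theorem F46318 : act 0 n28717 = n24169 := d18_2 F40837 D28717 (iv4 D24169) (iv5 F19040) F19039 (iv0 F20306) (iv4 F22222) (iv0 F38720) F40836
theorem F46319 : act 1 n28717 = n25788 := d18_6 (iv1 F8933) F10134 F19349 (iv4 F10579) D13690 D28717 (iv4 D25788) F20289 F8945
def n28718 : Q := act 0 n13691
theorem D28718 : act 0 n13691 = n28718 := rfl
theorem F46320 : act 4 n28718 = n25354 := d18_3 (iv1 F22662) D13691 D28718 (iv5 F40129) F40130 (iv0 F37789) F22232 (iv0 F22223) (iv5 F22659)
theorem F46321 : act 2 n28713 = n28718 := d15_3 (iv0 D28718) (iv0 F24101) F46310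
theorem F46322 : act 1 n14778 = n28718 := d15_0 (iv0 D28718) (iv7 F41221) F41220
theorem F46323 : act 7 n28718 = n28714 := d15_2 (iv0 F24420) F46322 (iv2 F46313)
def n28719 : Q := act 3 n13691
theorem D28719 : act 3 n13691 = n28719 := rfl
theorem F46324 : act 6 n28719 = n25324 := d7_2 (iv6 F22857) D28719 (iv3 D25324)
def n28720 : Q := act 5 n13691
theorem D28720 : act 5 n13691 = n28720 := rfl
theorem F46325 : act 2 n28720 = n28716 := d2_1 D28720 (iv5 D28716) (iv2 F22856)
def n28721 : Q := act 1 n13693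
theorem D28721 : act 1 n13693 = n28721 := rfl
theorem F46326 : act 1 n28721 = n13695 := d15_1 D28721 F22942 F22935
theorem F46327 : act 7 n28721 = n13708 := d15_2 (iv0 F23278) D28721 (iv2 F23275)
theorem F46328 : act 5 n25234 = n28721 := d21_0 (iv1 D28721) (iv5 D13693) (iv6 F23671) (iv1 D12363) (iv6 D5883) D5882 D12358 (iv5 F24646) F24645 (iv1 F39756)
theorem F46329 : act 2 n28721 = n13709 := d2_1 F46328 (iv5 F22959) D25234
theorem F46330 : act 3 n28721 = n24030 := d6_1 F46328 F37564 (iv3 F39752)
def n28722 : Q := act 4 n13693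
theorem D28722 : act 4 n13693 = n28722 := rfl
theorem F46331 : act 2 n28722 = n13710 := d1_1 D28722 (iv4 D13710) F22935
theorem F46332 : act 7 n28722 = n13716 := d11_2 F22934 D28722 (iv4 D13716)
def n28723 : Q := act 4 n13695
theorem D28723 : act 4 n13695 = n28723 := rfl
theorem F46333 : act 2 n28723 = n13716 := d1_1 D28723 (iv4 D13716) F22943
theorem F46334 : act 7 n28723 = n13710 := d11_2 (iv7 F22942) D28723 (iv4 D13710)
def n28724 : Q := act 6 n13695
theorem D28724 : act 6 n13695 = n28724 := rfl
theorem F46335 : act 2 n28724 = n13717 := d3_1 D28724 (iv6 D13717) F22943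
theorem F46336 : act 0 n28299 = n28724 := d21_4 (iv5 F36948) (iv1 F36950) F23233 (iv6 F45807) (iv6 D28724) (iv5 D13695) (iv1 D6519) D6520 F10591 D11279
def n28725 : Q := act 4 n13697
theorem D28725 : act 4 n13697 = n28725 := rfl
theorem F46337 : act 2 n28725 = n13722 := d1_1 D28725 (iv4 D13722) (iv2 F22868)
theorem F46338 : act 7 n28725 = n13725 := d11_2 (iv7 F22867) D28725 (iv4 D13725)
theorem F46339 : act 1 n28725 = n14289 := d18_6 (iv1 F39325) F26088 D24121 F39747 (iv5 F39750) D28725 (iv4 D14289) D14288 (iv5 F23840)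
def n28726 : Q := act 6 n13697
theorem D28726 : act 6 n13697 = n28726 := rfl
theorem F46340 : act 2 n28726 = n13723 := d3_1 D28726 (iv6 D13723) (iv2 F22868)
theorem F46341 : act 5 n28726 = n14790 := d12_1 D28726 (iv6 D14790) (iv5 F22233) F39748 (iv5 F39750)
def n28727 : Q := act 0 n13698
theorem D28727 : act 0 n13698 = n28727 := rfl
theorem F46342 : act 4 n28727 = n14174 := d18_3 F22214 D13698 D28727 (iv5 F37796) F39747 (iv0 F39751) F22145 F22228 D13346
theorem F46343 : act 2 n13727 = n28727 := d1_3 F46342 F23844 (iv4 F40733)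
theorem F46344 : act 7 n13728 = n28727 := d11_0 F46342 F23842 F23843
theorem F46345 : act 1 n13731 = n28727 := d18_6 (iv1 F22512) F10991 (iv1 F10596) F4513 (iv5 F10603) (iv4 F22975) F46342 F37717 (iv5 D11309)
def n28728 : Q := act 1 n13698
theorem D28728 : act 1 n13698 = n28728 := rfl
theorem F46346 : act 1 n28728 = n13731 := d15_1 D28728 (iv7 D13731) (iv2 F22860)
theorem F46347 : act 7 n28728 = n13727 := d15_2 (iv0 D28727) D28728 F46343
theorem F46348 : act 4 n28728 = n24087 := d18_7 (iv1 F18456) F22522 (iv1 D6519) F4510 D6520 D13698 D28728 F37712 F23847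
theorem F46349 : act 2 n13728 = n28728 := d1_3 F46348 F37714 F23843
def n28729 : Q := act 3 n13698
theorem D28729 : act 3 n13698 = n28729 := rfl
theorem F46350 : act 4 n28729 = n24044 := d5_2 D13698 D28729 (iv3 D24044) (iv4 D11281) (iv3 F10590)
theorem F46351 : act 6 n28729 = n24044 := d7_2 (iv6 F22861) D28729 (iv3 D24044)
def n28730 : Q := act 5 n13698
theorem D28730 : act 5 n13698 = n28730 := rfl
theorem F46352 : act 2 n28730 = n13730 := d2_1 D28730 (iv5 D13730) (iv2 F22860)
def n28731 : Q := act 7 n13698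
theorem D28731 : act 7 n13698 = n28731 := rfl
theorem F46353 : act 2 n28731 = n13731 := d4_1 D28731 (iv7 D13731) (iv2 F22860)
theorem F46354 : act 4 n28731 = n13699 := d11_1 D28731 (iv7 D13699) D13698
theorem F46355 : act 1 n13728 = n28731 := d15_1 D13728 (iv7 D28731) F22860
theorem F46356 : act 1 n28731 = n13727 := d15_1 F46355 (iv7 F46347) (iv2 F46349)
def n28732 : Q := act 6 n13699
theorem D28732 : act 6 n13699 = n28732 := rfl
theorem F46357 : act 2 n28732 = n13732 := d3_1 D28732 (iv6 D13732) (iv2 F22862)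
theorem F46358 : act 3 n28732 = n24047 := d7_1 D28732 (iv6 D24047) (iv3 F22863)
theorem F46359 : act 5 n28732 = n28732 := d12_1 D28732 (iv6 D28732) F22864 F10595 (iv5 F22864)
theorem F46360 : act 7 n28732 = n24047 := d14_2 D13699 D28732 (iv6 D24047) (iv7 D11282) (iv6 F10591)
def n28733 : Q := act 5 n13703
theorem D28733 : act 5 n13703 = n28733 := rfl
theorem F46361 : act 2 n28733 = n14215 := d2_1 D28733 (iv5 D14215) (iv2 F22946)
theorem F46362 : act 3 n28733 = n27924 := d6_1 D28733 (iv5 D27924) (iv3 F22947)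
theorem F46363 : act 7 n28733 = n14218 := d13_2 (iv7 F22948) D28733 (iv5 D14218)
def n28734 : Q := act 0 n13704
theorem D28734 : act 0 n13704 = n28734 := rfl
theorem F46364 : act 5 n28734 = n14553 := d17_3 (iv1 F22507) D13704 D28734 (iv4 D14553) D14554 (iv0 F24199) (iv5 D7673) (iv0 F19491) (iv4 F8198)
theorem F46365 : act 1 n24436 = n28734 := d15_0 (iv0 D28734) (iv7 F38289) (iv2 F38324)
theorem F46366 : act 3 n13754 = n28734 := d6_3 F46364 F24194 (iv5 F23262)
def n28735 : Q := act 1 n13704
theorem D28735 : act 1 n13704 = n28735 := rfl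
theorem F46367 : act 1 n28735 = n24436 := d15_1 D28735 F38325 F38281
theorem F46368 : act 5 n14556 = n28735 := d17_5 (iv1 F8199) D11545 (iv1 F24213) (iv5 D14557) D14556 F46367 (iv5 D24436) F18842 F18832
def n28736 : Q := act 4 n13704
theorem D28736 : act 4 n13704 = n28736 := rfl
def n28737 : Q := act 6 n13704
theorem D28737 : act 6 n13704 = n28737 := rfl
theorem F46369 : act 3 n28737 = n13711 := d7_1 D28737 (iv6 D13711) (iv3 F22951)
def n28738 : Q := act 1 n13706
theorem D28738 : act 1 n13706 = n28738 := rfl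
theorem F46370 : act 1 n28738 = n13714 := d15_1 D28738 (iv7 F23664) F23662
theorem F46371 : act 5 n28738 = n25056 := d17_7 (iv1 D25233) F22959 (iv1 D13709) (iv5 D6525) D6524 D13706 D28738 F39323 F39747
theorem F46372 : act 3 n14033 = n28738 := d6_3 F46371 (iv3 D25056) F23932
def n28739 : Q := act 4 n13706
theorem D28739 : act 4 n13706 = n28739 := rfl
def n28740 : Q := act 6 n13706
theorem D28740 : act 6 n13706 = n28740 := rfl
theorem F46373 : act 5 n28740 = n25385 := d12_1 D28740 (iv6 D25385) (iv5 F22954) (iv6 D13707) D13706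
def n28741 : Q := act 4 n13708
theorem D28741 : act 4 n13708 = n28741 := rfl
theorem F46374 : act 1 n28741 = n28739 := d18_6 (iv1 F39322) F22206 (iv1 F22228) F22145 (iv5 F22955) D28741 (iv4 D28739) D28738 F46371
def n28742 : Q := act 6 n13708
theorem D28742 : act 6 n13708 = n28742 := rfl
theorem F46375 : act 5 n28742 = n27932 := d12_1 D28742 (iv6 D27932) (iv5 D13320) D13321 (iv5 F22955)
def n28743 : Q := act 4 n13709
theorem D28743 : act 4 n13709 = n28743 := rfl
theorem F46376 : act 0 n28743 = n28739 := d18_2 (iv1 F22958) D28743 (iv4 D28739) (iv5 D13706) (iv4 D6524) (iv0 D2899) F2443 D2900 D6530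
def n28744 : Q := act 6 n13709
theorem D28744 : act 6 n13709 = n28744 := rfl
theorem F46377 : act 3 n28744 = n13741 := d7_1 D28744 (iv6 D13741) (iv3 F22960)
theorem F46378 : act 5 n28744 = n23818 := d12_1 D28744 (iv6 D23818) F18117 (iv6 F19763) F22959
theorem F46379 : act 0 n28744 = n24034 := d21_4 F39750 (iv1 D25233) F22959 D28744 (iv6 D24034) (iv5 D11277) (iv1 D5201) D5202 (iv6 F10591) D13697
def n28745 : Q := act 0 n13710
theorem D28745 : act 0 n13710 = n28745 := rfl
theorem F46380 : act 1 n13716 = n28745 := d15_0 (iv0 D28745) (iv7 F46334) F46333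
def n28746 : Q := act 1 n13710
theorem D28746 : act 1 n13710 = n28746 := rfl
theorem F46381 : act 1 n28746 = n13716 := d15_1 D28746 (iv7 F46332) F46331
def n28747 : Q := act 3 n13710
theorem D28747 : act 3 n13710 = n28747 := rfl
def n28748 : Q := act 5 n13710
theorem D28748 : act 5 n13710 = n28748 := rfl
def n28749 : Q := act 6 n13710
theorem D28749 : act 6 n13710 = n28749 := rfl
theorem F46382 : act 4 n28749 = n13711 := d10_1 D28749 (iv6 D13711) D13710
def n28750 : Q := act 0 n13711
theorem D28750 : act 0 n13711 = n28750 := rfl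
def n28751 : Q := act 1 n13711
theorem D28751 : act 1 n13711 = n28751 := rfl
def n28752 : Q := act 7 n13711
theorem D28752 : act 7 n13711 = n28752 := rfl
def n28753 : Q := act 0 n13712
theorem D28753 : act 0 n13712 = n28753 := rfl
theorem F46383 : act 1 n24249 = n28753 := d15_0 (iv0 D28753) (iv7 F45553) F45551
def n28754 : Q := act 1 n13712
theorem D28754 : act 1 n13712 = n28754 := rfl
theorem F46384 : act 1 n28754 = n24249 := d15_1 D28754 (iv7 F45556) F45554
theorem F46385 : act 5 n28754 = n25211 := d17_7 F24501 (iv5 F38025) (iv1 F38027) (iv5 D11417) (iv4 F10601) D13712 D28754 (iv0 F39701) F37103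
theorem F46386 : act 3 n13733 = n28754 := d6_3 F46385 (iv3 D25211) (iv5 F23861)
def n28755 : Q := act 4 n13712
theorem D28755 : act 4 n13712 = n28755 := rfl
def n28756 : Q := act 6 n13712
theorem D28756 : act 6 n13712 = n28756 := rfl
theorem F46387 : act 3 n28756 = n13717 := d7_1 D28756 (iv6 D13717) (iv3 F22961)
def n28757 : Q := act 0 n13713
theorem D28757 : act 0 n13713 = n28757 := rfl
theorem F46388 : act 4 n28757 = n25371 := d20_8 F39321 (iv1 F39322) F22206 (iv3 F22198) (iv1 F38293) F24194 (iv4 F22963) D28757 (iv3 F45206) (iv1 F45210)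
theorem F46389 : act 2 n28227 = n28757 := d15_3 (iv0 D28757) (iv0 F37937) D28227
theorem F46390 : act 1 n28226 = n28757 := d15_0 (iv0 D28757) (iv7 F24456) F45683
theorem F46391 : act 7 n28757 = n25366 := d15_2 D28226 F46390 F40103
theorem F46392 : act 5 n28757 = n27927 := d2_2 (iv5 F45686) F46389 (iv2 F45109)
theorem F46393 : act 4 n27927 = n14354 := d18_5 F19051 (iv4 F23453) (iv1 F40709) (iv4 F46388) F46392 (iv0 D14354) (iv4 D6858) D6857 (iv5 F18509)
def n28758 : Q := act 5 n13713
theorem D28758 : act 5 n13713 = n28758 := rfl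
theorem F46394 : act 3 n28758 = n13719 := d6_1 D28758 (iv5 D13719) (iv3 F22962)
theorem F46395 : act 1 n28758 = n24332 := d17_6 (iv1 F19481) D13969 (iv1 F23261) F23262 (iv4 F22963) D28758 (iv5 D24332) (iv0 F20232) F18082
def n28759 : Q := act 4 n13714
theorem D28759 : act 4 n13714 = n28759 := rfl
theorem F46396 : act 0 n28759 = n28743 := d18_2 F37800 D28759 (iv4 D28743) (iv5 F22959) F19762 D25233 (iv4 F39747) (iv0 D24121) D24122
theorem F46397 : act 1 n28759 = n28741 := d18_6 (iv1 F10598) F10594 (iv1 F10597) D6529 D13714 D28759 (iv4 D28741) (iv0 D13708) (iv5 D6525)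
def n28760 : Q := act 6 n13714
theorem D28760 : act 6 n13714 = n28760 := rfl
def n28761 : Q := act 5 n13715
theorem D28761 : act 5 n13715 = n28761 := rfl
theorem F46398 : act 2 n28761 = n24110 := d2_1 D28761 F37776 F24451
theorem F46399 : act 3 n28761 = n14554 := d6_1 D28761 (iv5 D14554) F22966
theorem F46400 : act 7 n28761 = n24111 := d13_2 F24458 D28761 (iv5 F37779)
theorem F46401 : act 0 n28761 = n16498 := d17_2 F24001 D28761 (iv5 D16498) F19520 D11329 F37777 F37776 F24461 (iv4 F23999)
theorem F46402 : act 1 n28761 = n23988 := d17_6 D5524 D11806 F22970 (iv5 D13719) (iv4 F22965) D28761 (iv5 D23988) (iv0 D11243) F7701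
def n28762 : Q := act 3 n13716
theorem D28762 : act 3 n13716 = n28762 := rfl
def n28763 : Q := act 5 n13716
theorem D28763 : act 5 n13716 = n28763 := rfl
def n28764 : Q := act 6 n13716
theorem D28764 : act 6 n13716 = n28764 := rfl
theorem F46403 : act 4 n28764 = n13717 := d10_1 D28764 (iv6 D13717) D13716
def n28765 : Q := act 0 n13717
theorem D28765 : act 0 n13717 = n28765 := rfl
def n28766 : Q := act 5 n13717
theorem D28766 : act 5 n13717 = n28766 := rfl
theorem F46404 : act 6 n28766 = n13719 := d12_2 D13717 D28766 (iv5 D13719) (iv6 D6531) D6530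
def n28767 : Q := act 7 n13717
theorem D28767 : act 7 n13717 = n28767 := rfl
theorem F46405 : act 1 n28299 = n28767 := d15_1 (iv0 F46336) (iv7 D28767) (iv2 F46335)
def n28768 : Q := act 4 n13719
theorem D28768 : act 4 n13719 = n28768 := rfl
theorem F46406 : act 0 n28768 = n24119 := d18_2 F22970 D28768 (iv4 D24119) (iv5 D11329) (iv4 F19520) F19524 (iv4 F9845) F9849 D11806
theorem F46407 : act 1 n28768 = n24112 := d18_6 F24459 (iv4 F23999) F24001 F22965 D13719 D28768 (iv4 D24112) D24111 (iv5 F37779)
def n28769 : Q := act 4 n13721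
theorem D28769 : act 4 n13721 = n28769 := rfl
theorem F46408 : act 7 n28769 = n14239 := d11_2 (iv7 F38294) D28769 (iv4 F38295)
theorem F46409 : act 0 n28769 = n14242 := d18_2 (iv1 F38987) D28769 F23764 F11034 (iv4 F11028) (iv0 F22949) (iv4 D13703) F22507 D11535
theorem F46410 : act 0 n14211 = n28769 := d20_1 D14211 (iv4 D28769) (iv3 D13721) (iv1 F22871) F22863 (iv4 F37609) (iv1 F37611) F23241 (iv3 F19297) F19298
theorem F46411 : act 2 n28769 = n14238 := d15_3 (iv0 D14238) D14239 (iv7 F46408)
theorem F46412 : act 4 n14238 = n24416 := d1_2 D28769 F46411 (iv2 F38296)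
def n28770 : Q := act 6 n13721
theorem D28770 : act 6 n13721 = n28770 := rfl
theorem F46413 : act 3 n28770 = n13723 := d7_1 D28770 (iv6 D13723) D13721
def n28771 : Q := act 0 n13722
theorem D28771 : act 0 n13722 = n28771 := rfl
theorem F46414 : act 4 n28771 = n14290 := d18_3 D6532 D13722 D28771 F23847 (iv4 F18462) (iv0 F22498) (iv4 D6524) (iv0 D2899) D2901
theorem F46415 : act 1 n13725 = n28771 := d15_0 (iv0 D28771) (iv7 F45227) F45226
theorem F46416 : act 7 n28771 = n14289 := d15_2 F37720 F46415 (iv2 F37718)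
def n28772 : Q := act 3 n13722
theorem D28772 : act 3 n13722 = n28772 := rfl
def n28773 : Q := act 5 n13722
theorem D28773 : act 5 n13722 = n28773 := rfl
def n28774 : Q := act 6 n13722
theorem D28774 : act 6 n13722 = n28774 := rfl
theorem F46417 : act 4 n28774 = n13723 := d10_1 D28774 (iv6 D13723) D13722
def n28775 : Q := act 0 n13723
theorem D28775 : act 0 n13723 = n28775 := rfl
def n28776 : Q := act 1 n13723
theorem D28776 : act 1 n13723 = n28776 := rfl
def n28777 : Q := act 7 n13723
theorem D28777 : act 7 n13723 = n28777 := rfl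
def n28778 : Q := act 6 n13724
theorem D28778 : act 6 n13724 = n28778 := rfl
theorem F46418 : act 3 n28778 = n13726 := d7_1 D28778 (iv6 D13726) D13724
def n28779 : Q := act 3 n13725
theorem D28779 : act 3 n13725 = n28779 := rfl
def n28780 : Q := act 5 n13725
theorem D28780 : act 5 n13725 = n28780 := rfl
def n28781 : Q := act 6 n13725
theorem D28781 : act 6 n13725 = n28781 := rfl
theorem F46419 : act 4 n28781 = n13726 := d10_1 D28781 (iv6 D13726) D13725
def n28782 : Q := act 0 n13726
theorem D28782 : act 0 n13726 = n28782 := rfl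
def n28783 : Q := act 1 n13726
theorem D28783 : act 1 n13726 = n28783 := rfl
def n28784 : Q := act 7 n13726
theorem D28784 : act 7 n13726 = n28784 := rfl
def n28785 : Q := act 3 n13727
theorem D28785 : act 3 n13727 = n28785 := rfl
def n28786 : Q := act 5 n13727
theorem D28786 : act 5 n13727 = n28786 := rfl
theorem F46420 : act 4 n28786 = n28780 := d16_2 (iv4 F40733) D28786 (iv5 D28780) (iv4 D13725) (iv5 F22168) F22167 F23840 (iv7 F23842) F23844
def n28787 : Q := act 6 n13727
theorem D28787 : act 6 n13727 = n28787 := rfl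
def n28788 : Q := act 3 n13728
theorem D28788 : act 3 n13728 = n28788 := rfl
def n28789 : Q := act 5 n13728
theorem D28789 : act 5 n13728 = n28789 := rfl
theorem F46421 : act 4 n28789 = n28773 := d9_1 D28789 (iv5 D28773) (iv4 D13722) (iv5 F22870) (iv4 F45207) F45208 (iv4 F40733) D28786 F46420 (iv5 D28780) (iv4 D13725) (iv5 F22168) F22167 F23840 F23843
def n28790 : Q := act 6 n13728
theorem D28790 : act 6 n13728 = n28790 := rfl
def n28791 : Q := act 0 n13729
theorem D28791 : act 0 n13729 = n28791 := rfl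
def n28792 : Q := act 1 n13729
theorem D28792 : act 1 n13729 = n28792 := rfl
def n28793 : Q := act 2 n13729
theorem D28793 : act 2 n13729 = n28793 := rfl
theorem F46422 : act 4 n28793 = n13792 := d1_2 (iv4 F22974) D28793 (iv2 D13792)
def n28794 : Q := act 5 n13729
theorem D28794 : act 5 n13729 = n28794 := rfl
theorem F46423 : act 3 n28794 = n13730 := d6_1 D28794 (iv5 D13730) D13729
def n28795 : Q := act 7 n13729
theorem D28795 : act 7 n13729 = n28795 := rfl
theorem F46424 : act 3 n28795 = n13731 := d8_1 D28795 (iv7 D13731) D13729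
theorem F46425 : act 4 n28795 = n13794 := d11_1 D28795 (iv7 D13794) (iv4 F22974)
def n28796 : Q := act 0 n13730
theorem D28796 : act 0 n13730 = n28796 := rfl
theorem F46426 : act 5 n28796 = n28739 := d17_3 (iv1 D13728) D13730 D28796 (iv4 D28739) (iv5 D13706) F22499 D6813 D14288 F23843
theorem F46427 : act 4 n28763 = n28796 := d16_2 D13716 D28763 F46426 (iv4 D28739) (iv5 D13706) (iv4 D6524) D6525 (iv7 F22942) (iv2 F22943)
def n28797 : Q := act 1 n13730
theorem D28797 : act 1 n13730 = n28797 := rfl
theorem F46428 : act 5 n28797 = n28759 := d17_7 (iv1 F22956) (iv5 D6530) (iv1 D2900) D2901 D6534 D13730 D28797 F46397 (iv4 D28741)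
theorem F46429 : act 4 n28748 = n28797 := d9_15 F46428 (iv4 D28759) (iv5 D13714) (iv4 D6529) D6530 D13716 D28763 F46427 F46426 (iv4 D28739) (iv5 D13706) (iv4 D6524) D6525 D13710 D28748
def n28798 : Q := act 4 n13730
theorem D28798 : act 4 n13730 = n28798 := rfl
theorem F46430 : act 5 n28798 = n28731 := d16_3 D6534 D13730 D28798 F46354 F22864 F10594 (iv5 F22864) (iv7 D13699) F10589
theorem F46431 : act 0 n28798 = n28797 := d18_2 (iv1 D28797) D28798 (iv4 F46429) (iv5 D28748) (iv4 D13710) D13709 D28743 (iv0 F46396) (iv5 F46428)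
theorem F46432 : act 1 n28798 = n28796 := d18_8 (iv1 F46374) (iv4 D28741) (iv1 F22956) D13716 D28763 F46427 (iv0 D28796) D28798 F46426
theorem F46433 : act 7 n28798 = n28730 := d15_2 D28797 (iv0 F46431) F46352
def n28799 : Q := act 6 n13730
theorem D28799 : act 6 n13730 = n28799 := rfl
def n28800 : Q := act 7 n13730
theorem D28800 : act 7 n13730 = n28800 := rfl
theorem F46434 : act 2 n28800 = n28798 := d4_1 D28800 F46433 F46352
theorem F46435 : act 4 n28800 = n28730 := d11_1 D28800 (iv7 F46433) (iv4 D28798)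
theorem F46436 : act 5 n28800 = n13731 := d13_1 D28800 (iv7 D13731) D13730
def n28801 : Q := act 6 n13731
theorem D28801 : act 6 n13731 = n28801 := rfl
theorem F46437 : act 4 n28801 = n13732 := d10_1 D28801 (iv6 D13732) (iv4 F22975)
def n28802 : Q := act 0 n13732
theorem D28802 : act 0 n13732 = n28802 := rfl
theorem F46438 : act 1 n24047 = n28802 := d15_0 (iv0 D28802) (iv7 F23247) (iv2 F37613)
def n28803 : Q := act 1 n13732
theorem D28803 : act 1 n13732 = n28803 := rfl
theorem F46439 : act 1 n28803 = n24047 := d15_1 D28803 (iv7 F46360) F46357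
def n28804 : Q := act 4 n13733
theorem D28804 : act 4 n13733 = n28804 := rfl
def n28805 : Q := act 6 n13733
theorem D28805 : act 6 n13733 = n28805 := rfl
def n28806 : Q := act 3 n13734
theorem D28806 : act 3 n13734 = n28806 := rfl
theorem F46440 : act 5 n28806 = n25213 := d6_2 F23870 D28806 (iv3 D25213)
theorem F46441 : act 1 n24845 = n28806 := d17_6 F24310 (iv5 F26140) (iv1 F26142) (iv5 D11832) (iv4 F19464) D24845 F46440 F40232 F40229
theorem F46442 : act 1 n28806 = n16525 := d15_1 F46441 F26137 (iv2 F38898)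
def n28807 : Q := act 4 n13734
theorem D28807 : act 4 n13734 = n28807 := rfl
def n28808 : Q := act 6 n13734
theorem D28808 : act 6 n13734 = n28808 := rfl
theorem F46443 : act 2 n28808 = n28267 := d3_1 D28808 F45772 F23869
theorem F46444 : act 5 n28808 = n28215 := d12_1 D28808 (iv6 D28215) (iv5 F38816) F38817 F23870
theorem F46445 : act 0 n28808 = n13756 := d21_4 (iv5 F39663) (iv1 F39665) F23870 D28808 (iv6 D13756) (iv5 D6547) F19482 D11141 F18083 D13456
def n28809 : Q := act 0 n13735
theorem D28809 : act 0 n13735 = n28809 := rfl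
theorem F46446 : act 1 n28200 = n28809 := d15_0 (iv0 D28809) (iv7 F23312) (iv2 F45620)
def n28810 : Q := act 1 n13735
theorem D28810 : act 1 n13735 = n28810 := rfl
theorem F46447 : act 1 n28810 = n28200 := d15_1 D28810 F45621 F45588
def n28811 : Q := act 3 n13735
theorem D28811 : act 3 n13735 = n28811 := rfl
theorem F46448 : act 4 n28811 = n13744 := d5_2 D13735 D28811 (iv3 D13744) (iv4 D6542) (iv3 F10604)
def n28812 : Q := act 5 n13735
theorem D28812 : act 5 n13735 = n28812 := rfl
def n28813 : Q := act 6 n13735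
theorem D28813 : act 6 n13735 = n28813 := rfl
theorem F46449 : act 4 n28813 = n13736 := d10_1 D28813 (iv6 D13736) D13735
def n28814 : Q := act 0 n13736
theorem D28814 : act 0 n13736 = n28814 := rfl
def n28815 : Q := act 1 n13736
theorem D28815 : act 1 n13736 = n28815 := rfl
def n28816 : Q := act 7 n13736
theorem D28816 : act 7 n13736 = n28816 := rfl
theorem F46450 : act 3 n28816 = n13749 := d8_1 D28816 (iv7 D13749) (iv3 F22980)
theorem F46451 : act 5 n28816 = n28141 := d13_1 D28816 (iv7 D28141) (iv5 F22981)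
def n28817 : Q := act 4 n13737
theorem D28817 : act 4 n13737 = n28817 := rfl
theorem F46452 : act 0 n28817 = n24056 := d18_2 F22983 D28817 (iv4 D24056) (iv5 D11290) (iv4 D5211) F3501 (iv4 F4663) F7760 D11276
theorem F46453 : act 1 n28817 = n24050 := d18_6 (iv1 D12076) F8820 D6436 (iv4 F11983) (iv5 F22982) D28817 (iv4 D24050) D24049 F37622
def n28818 : Q := act 6 n13737
theorem D28818 : act 6 n13737 = n28818 := rfl
theorem F46454 : act 3 n28818 = n13739 := d7_1 D28818 (iv6 D13739) D13737
theorem F46455 : act 5 n28818 = n16585 := d12_1 D28818 (iv6 D16585) (iv5 D7706) D7707 (iv5 F22982)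
def n28819 : Q := act 3 n13738
theorem D28819 : act 3 n13738 = n28819 := rfl
def n28820 : Q := act 5 n13738
theorem D28820 : act 5 n13738 = n28820 := rfl
theorem F46456 : act 4 n28820 = n13830 := d16_2 D13738 D28820 (iv5 D13830) (iv4 D6576) (iv5 F4535) (iv4 F8643) (iv5 F10608) F10777 (iv2 F10776)
theorem F46457 : act 0 n28820 = n14017 := d17_2 (iv1 F22986) D28820 (iv5 D14017) F10815 (iv5 F8523) F8526 (iv5 F10629) (iv0 D6570) D6572
theorem F46458 : act 1 n28820 = n14020 := d17_6 (iv1 F4668) (iv5 F7714) (iv1 F8647) (iv5 F10605) D13738 D28820 (iv5 D14020) F10819 F10620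
def n28821 : Q := act 6 n13738
theorem D28821 : act 6 n13738 = n28821 := rfl
theorem F46459 : act 4 n28821 = n13739 := d10_1 D28821 (iv6 D13739) D13738
def n28822 : Q := act 0 n13739
theorem D28822 : act 0 n13739 = n28822 := rfl
theorem F46460 : act 5 n28822 = n28309 := d21_2 (iv5 F22987) D28822 (iv6 D28309) (iv1 D13509) (iv6 D6425) (iv5 F8382) (iv1 F8720) F8717 D7062 F11984
def n28823 : Q := act 1 n13739
theorem D28823 : act 1 n13739 = n28823 := rfl
def n28824 : Q := act 7 n13739
theorem D28824 : act 7 n13739 = n28824 := rfl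
theorem F46461 : act 5 n28824 = n16589 := d13_1 D28824 (iv7 D16589) (iv5 F22987)
theorem F46462 : act 6 n28824 = n13763 := d14_1 D28824 F23331 F22656 F10779 D13739
def n28825 : Q := act 3 n13740
theorem D28825 : act 3 n13740 = n28825 := rfl
def n28826 : Q := act 5 n13740
theorem D28826 : act 5 n13740 = n28826 := rfl
theorem F46463 : act 4 n28826 = n13828 := d9_1 D28826 (iv5 D13828) (iv4 D6575) F4533 (iv4 F5497) (iv5 F10605) D13738 D28820 F46456 (iv5 D13830) (iv4 D6576) (iv5 F4535) (iv4 F8643) (iv5 F10608) D13740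
theorem F46464 : act 0 n28826 = n14020 := d17_2 (iv1 F22989) D28826 (iv5 D14020) F10821 (iv5 F4795) D5408 (iv5 F10632) F10631 D6586
theorem F46465 : act 1 n28826 = n14017 := d17_6 D2986 (iv5 F8289) (iv1 F8642) (iv5 F10608) D13740 D28826 (iv5 D14017) (iv0 D6662) (iv4 D2988)
def n28827 : Q := act 6 n13740
theorem D28827 : act 6 n13740 = n28827 := rfl
theorem F46466 : act 2 n28827 = n28310 := d3_1 D28827 F45817 F23286
theorem F46467 : act 4 n28827 = n13741 := d10_1 D28827 (iv6 D13741) D13740
theorem F46468 : act 0 n28827 = n13848 := d21_4 D14017 (iv1 F46465) (iv5 D28826) D28827 (iv6 D13848) (iv5 F23045) (iv1 D13796) (iv5 D6561) (iv6 F4671) D6662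
def n28828 : Q := act 3 n13742
theorem D28828 : act 3 n13742 = n28828 := rfl
def n28829 : Q := act 5 n13742
theorem D28829 : act 5 n13742 = n28829 := rfl
theorem F46469 : act 4 n28829 = n13868 := d16_2 (iv4 F22993) D28829 F23133 F10870 (iv5 D5649) (iv4 F8517) (iv5 F10850) F10849 F10846
theorem F46470 : act 0 n28829 = n14003 := d17_2 D13742 D28829 (iv5 D14003) (iv4 D6657) (iv5 F8289) (iv0 F8290) (iv5 F10605) (iv0 D6540) D6542
theorem F46471 : act 1 n28829 = n14011 := d17_6 (iv1 F4801) (iv5 F4763) (iv1 F8520) (iv5 F10844) (iv4 F22993) D28829 (iv5 D14011) F11046 F11045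
def n28830 : Q := act 6 n13742
theorem D28830 : act 6 n13742 = n28830 := rfl
theorem F46472 : act 4 n28830 = n14037 := d10_1 D28830 (iv6 D14037) (iv4 F22993)
def n28831 : Q := act 3 n13743
theorem D28831 : act 3 n13743 = n28831 := rfl
def n28832 : Q := act 5 n13743
theorem D28832 : act 5 n13743 = n28832 := rfl
theorem F46473 : act 4 n28832 = n13869 := d9_1 D28832 F23139 F10864 (iv5 D5326) (iv4 F4932) (iv5 F10844) (iv4 F22993) D28829 F46469 F23133 F10870 (iv5 D5649) (iv4 F8517) (iv5 F10850) (iv4 F22996)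
theorem F46474 : act 0 n28832 = n14011 := d17_2 (iv1 F22995) D28832 (iv5 D14011) (iv4 D6660) (iv5 F7714) D5643 (iv5 F10608) F10607 D6549
theorem F46475 : act 1 n28832 = n14003 := d17_6 D3044 (iv5 F8227) (iv1 F8516) (iv5 F10850) (iv4 F22996) D28832 (iv5 D14003) F10806 (iv4 D3046)
theorem F46476 : act 0 n25946 = n13762 := d21_4 D14003 (iv1 F46475) (iv5 D28832) (iv6 F41007) (iv6 D13762) D13761 F23015 (iv5 D6786) F4797 (iv1 F10806)
def n28833 : Q := act 0 n13744
theorem D28833 : act 0 n13744 = n28833 := rfl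
def n28834 : Q := act 1 n13744
theorem D28834 : act 1 n13744 = n28834 := rfl
def n28835 : Q := act 2 n13744
theorem D28835 : act 2 n13744 = n28835 := rfl
def n28836 : Q := act 5 n13744
theorem D28836 : act 5 n13744 = n28836 := rfl
theorem F46477 : act 3 n28836 = n13745 := d6_1 D28836 (iv5 D13745) D13744
def n28837 : Q := act 6 n13744
theorem D28837 : act 6 n13744 = n28837 := rfl
theorem F46478 : act 3 n28837 = n13746 := d7_1 D28837 (iv6 D13746) D13744
def n28838 : Q := act 6 n13745
theorem D28838 : act 6 n13745 = n28838 := rfl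
theorem F46479 : act 4 n28838 = n13916 := d10_1 D28838 (iv6 D13916) (iv4 F22997)
def n28839 : Q := act 0 n13746
theorem D28839 : act 0 n13746 = n28839 := rfl
def n28840 : Q := act 1 n13746
theorem D28840 : act 1 n13746 = n28840 := rfl
def n28841 : Q := act 5 n13746
theorem D28841 : act 5 n13746 = n28841 := rfl
def n28842 : Q := act 7 n13746
theorem D28842 : act 7 n13746 = n28842 := rfl
theorem F46480 : act 4 n28842 = n13749 := d11_1 D28842 (iv7 D13749) (iv4 F23000)
def n28843 : Q := act 3 n13747
theorem D28843 : act 3 n13747 = n28843 := rfl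
theorem F46481 : act 5 n28843 = n25230 := d6_2 (iv5 F23001) D28843 (iv3 D25230)
def n28844 : Q := act 4 n13747
theorem D28844 : act 4 n13747 = n28844 := rfl
def n28845 : Q := act 3 n13748
theorem D28845 : act 3 n13748 = n28845 := rfl
def n28846 : Q := act 4 n13748
theorem D28846 : act 4 n13748 = n28846 := rfl
def n28847 : Q := act 6 n13748
theorem D28847 : act 6 n13748 = n28847 := rfl
def n28848 : Q := act 4 n13750
theorem D28848 : act 4 n13750 = n28848 := rfl
theorem F46483 : act 7 n28848 = n23786 := d11_2 (iv7 F23005) D28848 (iv4 D23786)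
def n28849 : Q := act 6 n13750
theorem D28849 : act 6 n13750 = n28849 := rfl
theorem F46484 : act 5 n28849 = n28849 := d12_1 D28849 (iv6 D28849) (iv5 D13750) F19485 D13750
theorem F46485 : act 7 n28849 = n28209 := d14_2 (iv7 F23005) D28849 (iv6 D28209) (iv7 D13467) (iv6 F18087)
def n28850 : Q := act 4 n13751
theorem D28850 : act 4 n13751 = n28850 := rfl
theorem F46486 : act 2 n28850 = n13755 := d1_1 D28850 (iv4 D13755) (iv2 F23007)
def n28851 : Q := act 6 n13751
theorem D28851 : act 6 n13751 = n28851 := rfl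
theorem F46487 : act 2 n28851 = n13756 := d3_1 D28851 (iv6 D13756) (iv2 F23007)
theorem F46488 : act 3 n28851 = n28201 := d7_1 D28851 (iv6 D28201) (iv3 F23008)
theorem F46489 : act 0 n28267 = n28851 := d21_4 (iv5 F19744) F38848 F38847 (iv6 F45772) (iv6 D28851) (iv5 D13751) F19456 D11145 F18087 (iv1 F22426)
def n28852 : Q := act 3 n13753
theorem D28852 : act 3 n13753 = n28852 := rfl
theorem F46490 : act 5 n28852 = n25214 := d6_2 F38743 D28852 F39711
theorem F46491 : act 0 n28195 = n28852 := d17_2 (iv1 F22404) D28195 F46490 (iv4 D25214) F23870 F22979 (iv5 D13462) F10447 (iv4 F22396)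
theorem F46492 : act 1 n24029 = n28852 := d15_0 (iv0 F46491) F45600 F45573
def n28853 : Q := act 4 n13753
theorem D28853 : act 4 n13753 = n28853 := rfl
def n28854 : Q := act 6 n13753
theorem D28854 : act 6 n13753 = n28854 := rfl
theorem F46493 : act 5 n28854 = n23807 := d12_1 D28854 (iv6 D23807) F37093 F38742 F38743
theorem F46494 : act 0 n28854 = n28201 := d21_4 (iv5 F19068) (iv1 F38740) F38743 D28854 (iv6 D28201) (iv5 D13462) (iv1 D6403) D6404 (iv6 F18087) (iv1 F23257)
def n28855 : Q := act 4 n13754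
theorem D28855 : act 4 n13754 = n28855 := rfl
def n28856 : Q := act 6 n13754
theorem D28856 : act 6 n13754 = n28856 := rfl
theorem F46495 : act 5 n28856 = n24256 := d12_1 D28856 (iv6 D24256) (iv5 D11417) D11418 (iv5 F23262)
def n28857 : Q := act 0 n13755
theorem D28857 : act 0 n13755 = n28857 := rfl
def n28858 : Q := act 1 n13755
theorem D28858 : act 1 n13755 = n28858 := rfl
def n28859 : Q := act 3 n13755
theorem D28859 : act 3 n13755 = n28859 := rfl
theorem F46496 : act 4 n28859 = n13760 := d5_2 D13755 D28859 (iv3 D13760) (iv4 D6549) (iv3 F10610)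
def n28860 : Q := act 5 n13755
theorem D28860 : act 5 n13755 = n28860 := rfl
def n28861 : Q := act 6 n13755
theorem D28861 : act 6 n13755 = n28861 := rfl
theorem F46497 : act 4 n28861 = n13756 := d10_1 D28861 (iv6 D13756) D13755
def n28862 : Q := act 0 n13756
theorem D28862 : act 0 n13756 = n28862 := rfl
def n28863 : Q := act 5 n13756
theorem D28863 : act 5 n13756 = n28863 := rfl
theorem F46498 : act 3 n28863 = n13764 := d6_1 D28863 (iv5 D13764) (iv3 F23012)
theorem F46499 : act 6 n28863 = n13759 := d12_2 D13756 D28863 (iv5 D13759) (iv6 D6548) D6547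
def n28864 : Q := act 7 n13756
theorem D28864 : act 7 n13756 = n28864 := rfl
theorem F46500 : act 3 n28864 = n13765 := d8_1 D28864 (iv7 D13765) (iv3 F23012)
theorem F46501 : act 1 n28267 = n28864 := d15_1 (iv0 F46489) (iv7 D28864) (iv2 F46487)
def n28865 : Q := act 3 n13757
theorem D28865 : act 3 n13757 = n28865 := rfl
theorem F46502 : act 5 n28865 = n24257 := d6_2 F23265 D28865 (iv3 D24257)
theorem F46503 : act 6 n28865 = n24796 := d7_2 (iv6 F23263) D28865 (iv3 D24796)
theorem F46504 : act 7 n28865 = n23794 := d8_2 F23264 D28865 F37100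
theorem F46505 : act 4 n28865 = n24831 := d20_6 (iv4 F4907) (iv1 F7995) F5105 (iv3 F10611) D13757 D28865 F38864 (iv4 F22553) F22552 (iv1 D3150)
theorem F46506 : act 2 n28233 = n28865 := d1_3 F46505 F38862 (iv4 F45713)
theorem F46507 : act 0 n28196 = n28865 := d20_10 F46505 F38864 (iv4 F22553) F22552 (iv1 D3150) (iv3 F4857) (iv4 F10173) (iv1 F19295) (iv4 F38920) (iv3 F45602)
theorem F46508 : act 0 n28865 = n24209 := d20_1 (iv4 F46505) F37934 (iv3 F23982) (iv1 D13395) (iv3 F18969) F18970 D11632 (iv4 F23011) F23010 F38866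
theorem F46509 : act 0 n16526 = n24872 := d20_4 F9891 F10111 (iv4 F18363) (iv3 F26138) F38993 (iv4 F46505) F46508 F37934 (iv3 F23982) (iv1 D13395)
def n28866 : Q := act 4 n13757
theorem D28866 : act 4 n13757 = n28866 := rfl
theorem F46510 : act 6 n28866 = n24797 := d10_2 (iv6 F23263) D28866 (iv4 D24797)
theorem F46511 : act 7 n28866 = n23796 := d11_2 F23264 D28866 F37103
def n28867 : Q := act 4 n13759
theorem D28867 : act 4 n13759 = n28867 := rfl
def n28868 : Q := act 0 n13760
theorem D28868 : act 0 n13760 = n28868 := rfl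
def n28869 : Q := act 1 n13760
theorem D28869 : act 1 n13760 = n28869 := rfl
def n28870 : Q := act 2 n13760
theorem D28870 : act 2 n13760 = n28870 := rfl
def n28871 : Q := act 5 n13760
theorem D28871 : act 5 n13760 = n28871 := rfl
theorem F46512 : act 3 n28871 = n13761 := d6_1 D28871 (iv5 D13761) D13760
def n28872 : Q := act 6 n13760
theorem D28872 : act 6 n13760 = n28872 := rfl
theorem F46513 : act 3 n28872 = n13762 := d7_1 D28872 (iv6 D13762) D13760
def n28873 : Q := act 6 n13761
theorem D28873 : act 6 n13761 = n28873 := rfl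
theorem F46514 : act 4 n28873 = n13914 := d10_1 D28873 (iv6 D13914) (iv4 F23014)
def n28874 : Q := act 0 n13762
theorem D28874 : act 0 n13762 = n28874 := rfl
def n28875 : Q := act 5 n13762
theorem D28875 : act 5 n13762 = n28875 := rfl
def n28876 : Q := act 7 n13762
theorem D28876 : act 7 n13762 = n28876 := rfl
theorem F46515 : act 4 n28876 = n13765 := d11_1 D28876 (iv7 D13765) (iv4 F23017)
def n28877 : Q := act 3 n13763
theorem D28877 : act 3 n13763 = n28877 := rfl
theorem F46516 : act 5 n28877 = n28300 := d6_2 F23332 D28877 F45809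
theorem F46517 : act 7 n28877 = n28299 := d8_2 (iv7 F23331) D28877 F45806
def n28878 : Q := act 4 n13763
theorem D28878 : act 4 n13763 = n28878 := rfl
theorem F46518 : act 7 n28878 = n28310 := d11_2 (iv7 F23331) D28878 (iv4 D28310)
def n28879 : Q := act 0 n13764
theorem D28879 : act 0 n13764 = n28879 := rfl
theorem F46519 : act 6 n28879 = n28353 := d21_5 (iv5 F7925) (iv1 F8669) D6551 (iv6 F23018) D28879 (iv5 D28353) (iv1 F22667) F18792 (iv6 D11495) (iv1 F8139)
theorem F46520 : act 1 n14946 = n28879 := d15_0 (iv0 D28879) (iv7 F41275) F41273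
def n28880 : Q := act 1 n13764
theorem D28880 : act 1 n13764 = n28880 := rfl
theorem F46521 : act 1 n28880 = n14946 := d15_1 D28880 F24608 F23323
def n28881 : Q := act 4 n13764
theorem D28881 : act 4 n13764 = n28881 := rfl
theorem F46522 : act 6 n28881 = n13766 := d10_2 (iv6 F23018) D28881 (iv4 D13766)
def n28882 : Q := act 3 n13766
theorem D28882 : act 3 n13766 = n28882 := rfl
def n28883 : Q := act 5 n13766
theorem D28883 : act 5 n13766 = n28883 := rfl
theorem F46523 : act 4 n28883 = n14116 := d16_2 D13766 D28883 (iv5 D14116) F10941 (iv5 F8153) (iv4 F8665) (iv5 F18758) F18757 F10800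
theorem F46524 : act 0 n28883 = n14504 := d17_2 (iv1 F23021) D28883 (iv5 D14504) (iv4 D6928) (iv5 F8970) F8973 D6693 F10902 D7675
theorem F46525 : act 1 n28883 = n14512 := d17_6 (iv1 F8139) (iv5 F7925) (iv1 F8669) D6551 D13766 D28883 (iv5 D14512) F18789 F18787
def n28884 : Q := act 0 n13767
theorem D28884 : act 0 n13767 = n28884 := rfl
theorem F46526 : act 4 n28884 = n14275 := d18_3 (iv1 F22426) D13767 D28884 F23826 F11058 (iv0 F22500) F10106 (iv0 F19473) D6404
theorem F46527 : act 1 n28202 = n28884 := d15_0 (iv0 D28884) (iv7 F23356) (iv2 F45623)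
theorem F46528 : act 7 n28884 = n14274 := d15_2 (iv0 F45625) F46527 F23823
def n28885 : Q := act 3 n13767
theorem D28885 : act 3 n13767 = n28885 := rfl
theorem F46529 : act 4 n28885 = n13769 := d5_2 D13767 D28885 (iv3 D13769) (iv4 D6553) D6552
def n28886 : Q := act 5 n13767
theorem D28886 : act 5 n13767 = n28886 := rfl
def n28887 : Q := act 6 n13767
theorem D28887 : act 6 n13767 = n28887 := rfl
theorem F46530 : act 4 n28887 = n13768 := d10_1 D28887 (iv6 D13768) D13767
def n28888 : Q := act 0 n13768
theorem D28888 : act 0 n13768 = n28888 := rfl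
def n28889 : Q := act 1 n13768
theorem D28889 : act 1 n13768 = n28889 := rfl
def n28890 : Q := act 7 n13768
theorem D28890 : act 7 n13768 = n28890 := rfl
theorem F46531 : act 3 n28890 = n13774 := d8_1 D28890 (iv7 D13774) (iv3 F23022)
def n28891 : Q := act 0 n13769
theorem D28891 : act 0 n13769 = n28891 := rfl
def n28892 : Q := act 1 n13769
theorem D28892 : act 1 n13769 = n28892 := rfl
def n28893 : Q := act 2 n13769
theorem D28893 : act 2 n13769 = n28893 := rfl
def n28894 : Q := act 5 n13769
theorem D28894 : act 5 n13769 = n28894 := rfl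
theorem F46532 : act 3 n28894 = n13770 := d6_1 D28894 (iv5 D13770) D13769
def n28895 : Q := act 6 n13769
theorem D28895 : act 6 n13769 = n28895 := rfl
theorem F46533 : act 3 n28895 = n13771 := d7_1 D28895 (iv6 D13771) D13769
def n28896 : Q := act 0 n13770
theorem D28896 : act 0 n13770 = n28896 := rfl
theorem F46534 : act 5 n28896 = n13820 := d17_1 D28896 F23086 D13980 F23293 F10954 (iv0 F10858) (iv5 F23155) F23153 (iv4 F23023)
theorem F46535 : act 4 n28896 = n13832 := d18_1 D28896 F23101 (iv4 F23384) (iv5 D14020) F10821 F4794 (iv4 F10997) F10999 D13770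
theorem F46536 : act 0 n14684 = n13994 := d21_4 D13770 D28896 F46534 (iv6 F24365) (iv6 D13994) D13993 F23319 (iv5 D6755) (iv6 F4797) (iv1 F10614)
theorem F46537 : act 1 n13779 = n28896 := d15_0 (iv0 D28896) (iv7 F23362) F23360
theorem F46538 : act 1 n14684 = n28876 := d15_1 (iv0 F46536) (iv7 D28876) (iv2 F23321)
theorem E5040 : n28307 = n14671 := (c18_2 (iv1 F37142) D28307 (iv1 D14671) F11269 D7009 D14684 F46538 F46515 F23327 (iv5 F37139))
theorem F46539 : act 4 n14671 = n13509 := (sb E5040 (iv4 D28307))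
theorem F46540 : act 2 n28832 = n28896 := d1_3 F46535 F23140 (iv4 F46473)
theorem F46541 : act 7 n28829 = n28896 := d11_0 F46535 F23136 (iv4 F46469)
def n28897 : Q := act 1 n13770
theorem D28897 : act 1 n13770 = n28897 := rfl
theorem F46542 : act 1 n28897 = n13779 := d15_1 D28897 (iv7 F23345) F23344
theorem F46543 : act 7 n28897 = n28832 := d15_2 (iv0 D28896) D28897 F46540
theorem F46544 : act 5 n28897 = n13817 := d17_7 D6644 F10774 (iv1 F8654) F8651 D6553 D13770 D28897 F23080 (iv4 D6646)
theorem F46545 : act 4 n28897 = n13835 := d17_9 F23113 (iv5 D6703) (iv1 F4983) D5987 D12605 F20991 F10999 D13770 D28897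
theorem F46546 : act 2 n28829 = n28897 := d1_3 F46545 F23135 (iv4 F46469)
def n28898 : Q := act 6 n13770
theorem D28898 : act 6 n13770 = n28898 := rfl
theorem F46547 : act 4 n28898 = n13892 := d10_1 D28898 (iv6 D13892) (iv4 F23023)
def n28899 : Q := act 0 n13771
theorem D28899 : act 0 n13771 = n28899 := rfl
def n28900 : Q := act 1 n13771
theorem D28900 : act 1 n13771 = n28900 := rfl
def n28901 : Q := act 5 n13771
theorem D28901 : act 5 n13771 = n28901 := rfl
def n28902 : Q := act 7 n13771
theorem D28902 : act 7 n13771 = n28902 := rfl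
theorem F46548 : act 4 n28902 = n13774 := d11_1 D28902 (iv7 D13774) (iv4 F23024)
def n28903 : Q := act 3 n13772
theorem D28903 : act 3 n13772 = n28903 := rfl
def n28904 : Q := act 4 n13772
theorem D28904 : act 4 n13772 = n28904 := rfl
def n28905 : Q := act 5 n13772
theorem D28905 : act 5 n13772 = n28905 := rfl
theorem F46549 : act 6 n28905 = n28128 := d12_2 F23370 D28905 (iv5 D28128) F23369 F23368
theorem F46550 : act 7 n28905 = n28354 := d13_2 F45471 D28905 F45848
theorem F46551 : act 0 n28309 = n28905 := d21_1 F46460 (iv5 D28905) (iv6 F23370) (iv1 D14014) (iv6 D6661) (iv5 F7714) (iv1 F8647) (iv5 F10605) D13739 D28822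
def n28906 : Q := act 3 n13773
theorem D28906 : act 3 n13773 = n28906 := rfl
def n28907 : Q := act 4 n13773
theorem D28907 : act 4 n13773 = n28907 := rfl
def n28908 : Q := act 5 n13773
theorem D28908 : act 5 n13773 = n28908 := rfl
theorem F46552 : act 2 n28908 = n28354 := d2_1 D28908 F45848 (iv2 F45472)
theorem F46553 : act 6 n28908 = n23830 := d21_3 F24486 (iv1 F23354) D28908 (iv1 F37158) (iv6 D11429) F7928 (iv1 F3554) D5347 D11489 F24487
def n28909 : Q := act 6 n13773
theorem D28909 : act 6 n13773 = n28909 := rfl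
def n28910 : Q := act 4 n13775
theorem D28910 : act 4 n13775 = n28910 := rfl
theorem F46554 : act 2 n28910 = n13776 := d1_1 D28910 (iv4 D13776) D13775
theorem F46555 : act 0 n28910 = n25764 := d18_2 F23255 D28910 (iv4 D25764) (iv5 D12231) F8919 D6829 (iv4 F11082) F10760 D13968
def n28911 : Q := act 6 n13775
theorem D28911 : act 6 n13775 = n28911 := rfl
theorem F46556 : act 2 n28911 = n13777 := d3_1 D28911 (iv6 D13777) D13775
theorem F46557 : act 3 n28911 = n28203 := d7_1 D28911 (iv6 D28203) (iv3 F23025)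
theorem F46558 : act 5 n28911 = n24750 := d12_1 D28911 (iv6 D24750) (iv5 D11718) D11719 (iv5 F23026)
def n28912 : Q := act 1 n13776
theorem D28912 : act 1 n13776 = n28912 := rfl
theorem F46559 : act 7 n28912 = n25764 := d15_2 F23953 D28912 F40694
theorem F46560 : act 4 n25765 = n28912 := d20_0 (iv1 D28912) (iv4 D13776) (iv3 D6555) (iv1 D2914) (iv3 F4511) D6534 D13727 F40733 (iv3 F40705) (iv1 F40708)
def n28913 : Q := act 3 n13776
theorem D28913 : act 3 n13776 = n28913 := rfl
theorem F46561 : act 4 n28913 = n13778 := d5_2 D13776 D28913 (iv3 D13778) (iv4 D6556) D6555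
def n28914 : Q := act 5 n13776
theorem D28914 : act 5 n13776 = n28914 := rfl
def n28915 : Q := act 6 n13776
theorem D28915 : act 6 n13776 = n28915 := rfl
theorem F46562 : act 4 n28915 = n13777 := d10_1 D28915 (iv6 D13777) D13776
def n28916 : Q := act 0 n13777
theorem D28916 : act 0 n13777 = n28916 := rfl
def n28917 : Q := act 1 n13777
theorem D28917 : act 1 n13777 = n28917 := rfl
def n28918 : Q := act 7 n13777
theorem D28918 : act 7 n13777 = n28918 := rfl
theorem F46563 : act 3 n28918 = n13783 := d8_1 D28918 (iv7 D13783) (iv3 F23028)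
theorem F46564 : act 5 n28918 = n24766 := d13_1 D28918 (iv7 D24766) (iv5 F23029)
def n28919 : Q := act 0 n13778
theorem D28919 : act 0 n13778 = n28919 := rfl
def n28920 : Q := act 1 n13778
theorem D28920 : act 1 n13778 = n28920 := rfl
def n28921 : Q := act 2 n13778
theorem D28921 : act 2 n13778 = n28921 := rfl
def n28922 : Q := act 5 n13778
theorem D28922 : act 5 n13778 = n28922 := rfl
theorem F46565 : act 3 n28922 = n13779 := d6_1 D28922 (iv5 D13779) D13778
def n28923 : Q := act 6 n13778
theorem D28923 : act 6 n13778 = n28923 := rfl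
theorem F46566 : act 3 n28923 = n13780 := d7_1 D28923 (iv6 D13780) D13778
def n28924 : Q := act 6 n13779
theorem D28924 : act 6 n13779 = n28924 := rfl
theorem F46567 : act 4 n28924 = n13885 := d10_1 D28924 (iv6 D13885) (iv4 F23030)
def n28925 : Q := act 0 n13780
theorem D28925 : act 0 n13780 = n28925 := rfl
def n28926 : Q := act 1 n13780
theorem D28926 : act 1 n13780 = n28926 := rfl
def n28927 : Q := act 5 n13780
theorem D28927 : act 5 n13780 = n28927 := rfl
def n28928 : Q := act 7 n13780
theorem D28928 : act 7 n13780 = n28928 := rfl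
theorem F46568 : act 4 n28928 = n13783 := d11_1 D28928 (iv7 D13783) (iv4 F23031)
def n28929 : Q := act 3 n13781
theorem D28929 : act 3 n13781 = n28929 := rfl
theorem F46569 : act 5 n28929 = n28142 := d6_2 (iv5 F23307) D28929 (iv3 D28142)
def n28930 : Q := act 4 n13781
theorem D28930 : act 4 n13781 = n28930 := rfl
def n28931 : Q := act 6 n13781
theorem D28931 : act 6 n13781 = n28931 := rfl
def n28932 : Q := act 3 n13782
theorem D28932 : act 3 n13782 = n28932 := rfl
theorem F46570 : act 5 n28932 = n28145 := d6_2 F23032 D28932 (iv3 D28145)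
def n28933 : Q := act 4 n13782
theorem D28933 : act 4 n13782 = n28933 := rfl
def n28934 : Q := act 0 n13784
theorem D28934 : act 0 n13784 = n28934 := rfl
def n28935 : Q := act 1 n13784
theorem D28935 : act 1 n13784 = n28935 := rfl
def n28936 : Q := act 2 n13784
theorem D28936 : act 2 n13784 = n28936 := rfl
def n28937 : Q := act 4 n13784
theorem D28937 : act 4 n13784 = n28937 := rfl
theorem F46571 : act 3 n28937 = n14186 := d5_1 D28937 (iv4 D14186) (iv3 D6750) (iv4 F10618) D13784
def n28938 : Q := act 5 n13784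
theorem D28938 : act 5 n13784 = n28938 := rfl
theorem F46572 : act 3 n28938 = n13785 := d6_1 D28938 (iv5 D13785) D13784
def n28939 : Q := act 6 n13784
theorem D28939 : act 6 n13784 = n28939 := rfl
theorem F46573 : act 3 n28939 = n13786 := d7_1 D28939 (iv6 D13786) D13784
def n28940 : Q := act 0 n13785
theorem D28940 : act 0 n13785 = n28940 := rfl
theorem F46574 : act 5 n28940 = n13978 := d17_1 D28940 F23288 (iv5 F23394) F23395 (iv5 D6695) F10865 (iv5 F23139) F23137 (iv4 F23035)
theorem F46575 : act 4 n28940 = n13884 := d18_1 D28940 (iv1 D13884) (iv4 F23030) (iv5 D13779) (iv4 D6556) F4675 (iv4 F10828) F10831 D13785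
theorem F46576 : act 0 n28310 = n14074 := d21_4 D13785 D28940 F46574 (iv6 F45817) (iv6 D14074) (iv5 F23401) (iv1 D14028) (iv5 D6665) F4671 D6558
theorem F46577 : act 1 n13788 = n28940 := d15_0 (iv0 D28940) (iv7 F23385) F23383
theorem F46578 : act 2 n28826 = n28940 := d1_3 F46575 (iv2 F23156) (iv4 F46463)
theorem F46579 : act 7 n28820 = n28940 := d11_0 F46575 F23154 (iv4 F46456)
def n28941 : Q := act 1 n13785
theorem D28941 : act 1 n13785 = n28941 := rfl
theorem F46580 : act 1 n28941 = n13788 := d15_1 D28941 (iv7 F23378) F23377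
theorem F46581 : act 7 n28941 = n28826 := d15_2 (iv0 D28940) D28941 F46578
theorem F46582 : act 5 n28941 = n13976 := d17_7 D6672 F10844 F8228 F8227 (iv4 F10618) D13785 D28941 F23283 (iv4 D6674)
theorem F46583 : act 4 n28941 = n13883 := d17_9 (iv1 F23150) (iv5 D6604) (iv1 D2955) D2957 D6613 (iv5 F10829) F10831 D13785 D28941
theorem F46584 : act 2 n28820 = n28941 := d1_3 F46583 (iv2 F23151) (iv4 F46456)
def n28942 : Q := act 6 n13785
theorem D28942 : act 6 n13785 = n28942 := rfl
theorem F46585 : act 4 n28942 = n13876 := d10_1 D28942 (iv6 D13876) (iv4 F23035)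
def n28943 : Q := act 0 n13786
theorem D28943 : act 0 n13786 = n28943 := rfl
def n28944 : Q := act 1 n13786
theorem D28944 : act 1 n13786 = n28944 := rfl
def n28945 : Q := act 5 n13786
theorem D28945 : act 5 n13786 = n28945 := rfl
def n28946 : Q := act 7 n13786
theorem D28946 : act 7 n13786 = n28946 := rfl
theorem F46586 : act 4 n28946 = n14190 := d11_1 D28946 (iv7 D14190) (iv4 F23036)
def n28947 : Q := act 0 n13787
theorem D28947 : act 0 n13787 = n28947 := rfl
def n28948 : Q := act 1 n13787
theorem D28948 : act 1 n13787 = n28948 := rfl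
def n28949 : Q := act 2 n13787
theorem D28949 : act 2 n13787 = n28949 := rfl
def n28950 : Q := act 4 n13787
theorem D28950 : act 4 n13787 = n28950 := rfl
theorem F46587 : act 3 n28950 = n14191 := d5_1 D28950 (iv4 D14191) (iv3 D6752) (iv4 F10619) D13787
def n28951 : Q := act 5 n13787
theorem D28951 : act 5 n13787 = n28951 := rfl
theorem F46588 : act 3 n28951 = n13788 := d6_1 D28951 (iv5 D13788) D13787
def n28952 : Q := act 6 n13787
theorem D28952 : act 6 n13787 = n28952 := rfl
theorem F46589 : act 3 n28952 = n13789 := d7_1 D28952 (iv6 D13789) D13787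
def n28953 : Q := act 6 n13788
theorem D28953 : act 6 n13788 = n28953 := rfl
theorem F46590 : act 4 n28953 = n13870 := d10_1 D28953 (iv6 D13870) (iv4 F23037)
def n28954 : Q := act 0 n13789
theorem D28954 : act 0 n13789 = n28954 := rfl
def n28955 : Q := act 1 n13789
theorem D28955 : act 1 n13789 = n28955 := rfl
def n28956 : Q := act 5 n13789
theorem D28956 : act 5 n13789 = n28956 := rfl
def n28957 : Q := act 7 n13789
theorem D28957 : act 7 n13789 = n28957 := rfl
theorem F46591 : act 4 n28957 = n14195 := d11_1 D28957 (iv7 D14195) (iv4 F23038)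
def n28958 : Q := act 0 n13790
theorem D28958 : act 0 n13790 = n28958 := rfl
theorem F46592 : act 2 n13794 = n28958 := d15_3 (iv0 D28958) (iv0 D13790) D13794
theorem F46593 : act 7 n28958 = n13792 := d4_2 D13794 F46592 (iv2 D13792)
theorem F46594 : act 1 n13791 = n28958 := d15_1 D13791 F46593 (iv2 D13792)
def n28959 : Q := act 2 n13790
theorem D28959 : act 2 n13790 = n28959 := rfl
theorem F46595 : act 7 n13791 = n28959 := d15_2 (iv0 D13790) D13791 (iv2 D28959)
def n28960 : Q := act 3 n13790
theorem D28960 : act 3 n13790 = n28960 := rfl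
def n28961 : Q := act 4 n13790
theorem D28961 : act 4 n13790 = n28961 := rfl
def n28962 : Q := act 5 n13790
theorem D28962 : act 5 n13790 = n28962 := rfl
def n28963 : Q := act 6 n13790
theorem D28963 : act 6 n13790 = n28963 := rfl
def n28964 : Q := act 7 n13790
theorem D28964 : act 7 n13790 = n28964 := rfl
theorem F46596 : act 2 n28964 = n13791 := d4_1 D28964 F46595 (iv2 D28959)
def n28965 : Q := act 3 n13791
theorem D28965 : act 3 n13791 = n28965 := rfl
def n28966 : Q := act 4 n13791
theorem D28966 : act 4 n13791 = n28966 := rfl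
def n28967 : Q := act 5 n13791
theorem D28967 : act 5 n13791 = n28967 := rfl
def n28968 : Q := act 6 n13791
theorem D28968 : act 6 n13791 = n28968 := rfl
def n28969 : Q := act 0 n13792
theorem D28969 : act 0 n13792 = n28969 := rfl
theorem F46597 : act 1 n13794 = n28969 := d15_0 (iv0 D28969) (iv7 F46593) (iv2 F46592)
def n28970 : Q := act 1 n13792
theorem D28970 : act 1 n13792 = n28970 := rfl
theorem F46598 : act 1 n28970 = n13794 := d15_1 D28970 (iv7 D13794) D13792
def n28971 : Q := act 5 n13792
theorem D28971 : act 5 n13792 = n28971 := rfl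
theorem F46599 : act 2 n28971 = n13793 := d2_1 D28971 (iv5 D13793) D13792
def n28972 : Q := act 0 n13793
theorem D28972 : act 0 n13793 = n28972 := rfl
def n28973 : Q := act 1 n13793
theorem D28973 : act 1 n13793 = n28973 := rfl
def n28974 : Q := act 4 n13793
theorem D28974 : act 4 n13793 = n28974 := rfl
theorem F46600 : act 3 n28974 = n16562 := d5_1 D28974 F26221 F26545 F10962 (iv3 F23039)
theorem F46601 : act 5 n16568 = n28974 := d6_0 F46600 F26220 D16568
def n28975 : Q := act 6 n13793
theorem D28975 : act 6 n13793 = n28975 := rfl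
theorem F46602 : act 3 n28975 = n13797 := d7_1 D28975 (iv6 D13797) (iv3 F23039)
def n28976 : Q := act 6 n13794
theorem D28976 : act 6 n13794 = n28976 := rfl
theorem F46603 : act 3 n28976 = n13798 := d7_1 D28976 (iv6 D13798) (iv3 F23040)
def n28977 : Q := act 3 n13795
theorem D28977 : act 3 n13795 = n28977 := rfl
theorem F46604 : act 5 n28977 = n13821 := d6_2 (iv5 F23041) D28977 (iv3 D13821)
def n28978 : Q := act 6 n13795
theorem D28978 : act 6 n13795 = n28978 := rfl
theorem F46605 : act 4 n28978 = n13857 := d10_1 D28978 (iv6 D13857) (iv4 F23042)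
def n28979 : Q := act 3 n13796
theorem D28979 : act 3 n13796 = n28979 := rfl
theorem F46606 : act 5 n28979 = n13847 := d6_2 (iv5 F23045) D28979 (iv3 D13847)
def n28980 : Q := act 6 n13796
theorem D28980 : act 6 n13796 = n28980 := rfl
theorem F46607 : act 4 n28980 = n13840 := d10_1 D28980 (iv6 D13840) (iv4 F23046)
def n28981 : Q := act 0 n13797
theorem D28981 : act 0 n13797 = n28981 := rfl
def n28982 : Q := act 1 n13797
theorem D28982 : act 1 n13797 = n28982 := rfl
def n28983 : Q := act 7 n13797
theorem D28983 : act 7 n13797 = n28983 := rfl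
def n28984 : Q := act 0 n13798
theorem D28984 : act 0 n13798 = n28984 := rfl
theorem F46608 : act 1 n13798 = n28984 := d15_0 (iv0 D28984) (iv7 F23409) F23407
def n28985 : Q := act 5 n13798
theorem D28985 : act 5 n13798 = n28985 := rfl
def n28986 : Q := act 2 n13799
theorem D28986 : act 2 n13799 = n28986 := rfl
theorem F46609 : act 7 n13799 = n28986 := d15_2 (iv0 D13799) F23048 (iv2 D28986)
def n28987 : Q := act 3 n13799
theorem D28987 : act 3 n13799 = n28987 := rfl
def n28988 : Q := act 4 n13799
theorem D28988 : act 4 n13799 = n28988 := rfl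
def n28989 : Q := act 5 n13799
theorem D28989 : act 5 n13799 = n28989 := rfl
theorem F46610 : act 6 n28989 = n28822 := d12_2 F45816 D28989 F46460 (iv6 D28309) D28308
theorem F46611 : act 0 n28847 = n28989 := d21_10 (iv5 D28989) (iv1 F23048) F10621 (iv6 D6563) (iv1 F4668) D6661 F10814 D11970 F23002 D28847
def n28990 : Q := act 0 n13800
theorem D28990 : act 0 n13800 = n28990 := rfl
theorem F46612 : act 5 n28990 = n24580 := d21_2 D13800 D28990 (iv6 F38586) (iv1 D12230) (iv6 D5793) F3818 (iv1 F4769) F4766 D5374 (iv1 F19531)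
theorem F46613 : act 1 n24430 = n28990 := d15_0 (iv0 D28990) (iv7 F23451) (iv2 F38309)
theorem F46614 : act 3 n24110 = n28990 := d6_3 F46612 F38584 (iv5 F37776)
def n28991 : Q := act 1 n13800
theorem D28991 : act 1 n13800 = n28991 := rfl
theorem F46615 : act 1 n28991 = n24430 := d15_1 D28991 F38311 F23956
theorem F46616 : act 5 n28991 = n14555 := d17_7 (iv1 F38568) F23073 (iv1 D13813) (iv5 D6569) (iv4 F10622) D13800 D28991 F40782 F40780
theorem F46617 : act 3 n14557 = n28991 := d6_3 F46616 (iv3 D14555) D14557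
def n28992 : Q := act 4 n13800
theorem D28992 : act 4 n13800 = n28992 := rfl
def n28993 : Q := act 6 n13800
theorem D28993 : act 6 n13800 = n28993 := rfl
theorem F46618 : act 3 n28993 = n13804 := d7_1 D28993 (iv6 D13804) (iv3 F23049)
theorem F46619 : act 5 n28993 = n24179 := d12_1 D28993 (iv6 D24179) (iv5 F19220) F19221 D13800
def n28994 : Q := act 4 n13801
theorem D28994 : act 4 n13801 = n28994 := rfl
theorem F46620 : act 0 n28994 = n16584 := d18_2 D13801 D28994 (iv4 D16584) (iv5 D7706) F10291 F10081 (iv4 F8789) (iv0 F8791) D6565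
theorem F46621 : act 1 n28994 = n25290 := d18_6 F19049 F10140 (iv1 F18314) (iv4 F18341) (iv5 F23050) D28994 (iv4 D25290) F27059 F27058
def n28995 : Q := act 6 n13801
theorem D28995 : act 6 n13801 = n28995 := rfl
theorem F46622 : act 5 n28995 = n24010 := d12_1 D28995 (iv6 D24010) (iv5 D11263) D11264 (iv5 F23050)
def n28996 : Q := act 3 n13802
theorem D28996 : act 3 n13802 = n28996 := rfl
theorem F46623 : act 5 n28996 = n14366 := d6_2 (iv5 F23053) D28996 (iv3 F23982)
theorem F46624 : act 0 n24117 = n28996 := d21_1 D24117 F46623 (iv6 F39794) F39796 F24061 (iv5 F26094) (iv1 F39094) F39092 F19234 F19522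
theorem F46625 : act 0 n28996 = n16493 := d21_1 (iv5 F46623) (iv5 D16493) (iv6 F24104) F24106 (iv6 D11867) D11866 D24986 (iv5 F45525) F45523 (iv1 F24023)
def n28997 : Q := act 4 n13802
theorem D28997 : act 4 n13802 = n28997 := rfl
theorem F46626 : act 0 n28997 = n25290 := d18_2 (iv1 F23052) D28997 (iv4 D25290) (iv5 D12009) F10074 (iv0 D5126) (iv4 F3770) (iv0 F10062) D12026
theorem F46627 : act 1 n28997 = n16584 := d18_6 F18567 F18565 (iv1 F18309) (iv4 F22266) (iv5 F23053) D28997 (iv4 D16584) (iv0 F23237) (iv5 D13954)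
def n28998 : Q := act 6 n13802
theorem D28998 : act 6 n13802 = n28998 := rfl
theorem F46628 : act 2 n28998 = n25413 := d3_1 D28998 F40193 (iv2 F23456)
theorem F46629 : act 5 n28998 = n23721 := d12_1 D28998 (iv6 D23721) (iv5 F19795) F22267 (iv5 F23053)
def n28999 : Q := act 0 n13803
theorem D28999 : act 0 n13803 = n28999 := rfl
theorem F46630 : act 4 n28999 = n24035 := d18_3 (iv1 D13802) D13803 D28999 (iv5 D24035) F18363 (iv0 F10111) (iv4 F9891) D13395 (iv5 F23053)
theorem F46631 : act 1 n25328 = n28999 := d15_0 (iv0 D28999) (iv7 F23462) (iv2 F40005)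
def n29000 : Q := act 1 n13803
theorem D29000 : act 1 n13803 = n29000 := rfl
theorem F46632 : act 1 n29000 = n25328 := d15_1 D29000 F40006 F39956
theorem F46633 : act 4 n29000 = n24210 := d18_7 (iv1 D5686) F3721 F10032 D2925 D6565 D13803 D29000 F37941 (iv5 D12022)
def n29001 : Q := act 3 n13803
theorem D29001 : act 3 n13803 = n29001 := rfl
def n29002 : Q := act 5 n13803
theorem D29002 : act 5 n13803 = n29002 := rfl
theorem F46634 : act 4 n29002 = n25330 := d16_2 D13803 D29002 (iv5 D25330) (iv4 D12028) (iv5 D5693) D5692 D12026 F19896 F19871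
theorem F46635 : act 0 n29002 = n25342 := d17_2 (iv1 D29000) D29002 F40045 F39952 F19868 (iv0 F10284) D11479 (iv0 F37940) (iv4 F46633)
theorem F46636 : act 1 n29002 = n25325 := d17_6 F18516 (iv5 D5705) F4895 D6565 D13803 D29002 (iv5 D25325) (iv0 F37854) (iv4 D24150)
def n29003 : Q := act 6 n13803
theorem D29003 : act 6 n13803 = n29003 := rfl
theorem F46637 : act 4 n29003 = n13804 := d10_1 D29003 (iv6 D13804) D13803
def n29004 : Q := act 0 n13804
theorem D29004 : act 0 n13804 = n29004 := rfl
def n29005 : Q := act 1 n13804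
theorem D29005 : act 1 n13804 = n29005 := rfl
def n29006 : Q := act 7 n13804
theorem D29006 : act 7 n13804 = n29006 := rfl
theorem F46638 : act 5 n29006 = n24184 := d13_1 D29006 (iv7 D24184) (iv5 F23054)
def n29007 : Q := act 5 n13805
theorem D29007 : act 5 n13805 = n29007 := rfl
theorem F46639 : act 0 n29007 = n25306 := d17_2 (iv1 F23056) D29007 (iv5 D25306) F19877 (iv5 F18317) F18320 D11293 (iv0 F18420) D13441
theorem F46640 : act 1 n29007 = n24213 := d17_6 (iv1 F10001) F4727 F10111 (iv5 F10623) D13805 D29007 (iv5 D24213) F19918 F19917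
def n29008 : Q := act 3 n13807
theorem D29008 : act 3 n13807 = n29008 := rfl
def n29009 : Q := act 5 n13807
theorem D29009 : act 5 n13807 = n29009 := rfl
theorem F46641 : act 0 n29009 = n24213 := d17_2 (iv1 F23064) D29009 (iv5 D24213) (iv4 D11377) (iv5 D5270) D5269 D11376 (iv0 F18583) D13442
theorem F46642 : act 1 n29009 = n25306 := d17_6 D5680 F8735 (iv1 F10355) F10627 D13807 D29009 (iv5 D25306) (iv0 D12016) (iv4 D5682)
def n29010 : Q := act 3 n13808
theorem D29010 : act 3 n13808 = n29010 := rfl
theorem F46643 : act 4 n29010 = n14046 := d5_2 (iv4 F23065) D29010 (iv3 D14046) F10864 (iv3 F18343)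
theorem F46644 : act 7 n29010 = n24230 := d8_2 (iv7 F23480) D29010 F37985
theorem F46645 : act 0 n24234 = n29010 := d20_4 F18352 F8104 (iv4 F18635) (iv3 F37990) (iv3 D29010) F23065 F18344 (iv4 F26406) (iv3 D11272) D11270
theorem F46646 : act 1 n24232 = n29010 := d15_0 (iv0 F46645) (iv7 D24234) D24232
def n29011 : Q := act 5 n13808
theorem D29011 : act 5 n13808 = n29011 := rfl
theorem F46647 : act 0 n29011 = n25304 := d17_2 D13808 D29011 (iv5 D25304) (iv4 D12015) F8735 (iv0 F8648) (iv5 F10623) (iv0 D6566) D6568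
theorem F46648 : act 1 n29011 = n14094 := d17_6 (iv1 F18183) (iv5 F10425) (iv1 F18314) D11266 (iv4 F23065) D29011 (iv5 D14094) D14092 F23548
def n29012 : Q := act 3 n13809
theorem D29012 : act 3 n13809 = n29012 := rfl
theorem F46649 : act 4 n29012 = n29008 := d5_2 (iv4 F23068) D29012 (iv3 D29008) (iv4 D13807) D13806
def n29013 : Q := act 5 n13809
theorem D29013 : act 5 n13809 = n29013 := rfl
theorem F46650 : act 0 n29013 = n14094 := d17_2 (iv1 F23067) D29013 (iv5 D14094) (iv4 D6700) F4727 D6360 F10627 F10626 D12028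
theorem F46651 : act 1 n29013 = n25304 := d17_6 D6388 F10751 (iv1 F18309) (iv5 F23058) (iv4 F23068) D29013 (iv5 D25304) F19876 F8897
def n29014 : Q := act 0 n13810
theorem D29014 : act 0 n13810 = n29014 := rfl
theorem F46652 : act 4 n29014 = n24305 := d20_2 (iv4 F23069) D29014 (iv3 D24305) (iv1 D11444) (iv3 D5332) (iv4 D2186) D2184 D5328 D11438 F26718
theorem F46653 : act 1 n26852 = n29014 := d15_0 (iv0 D29014) (iv7 F23486) (iv2 F43271)
def n29015 : Q := act 1 n13810
theorem D29015 : act 1 n13810 = n29015 := rfl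
def n29016 : Q := act 2 n13810
theorem D29016 : act 2 n13810 = n29016 := rfl
theorem F46654 : act 4 n29016 = n13838 := d1_2 (iv4 F23069) D29016 (iv2 D13838)
theorem F46655 : act 7 n29016 = n26852 := d4_2 F23486 D29016 F43271
theorem F46656 : act 1 n29015 = n26852 := d15_1 D29015 (iv7 F46655) (iv2 D29016)
def n29017 : Q := act 5 n13810
theorem D29017 : act 5 n13810 = n29017 := rfl
theorem F46657 : act 3 n29017 = n13811 := d6_1 D29017 (iv5 D13811) D13810
def n29018 : Q := act 4 n13811
theorem D29018 : act 4 n13811 = n29018 := rfl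
theorem F46658 : act 5 n29018 = n25328 := d9_2 D13811 D29018 (iv4 D25328) (iv5 D12026) (iv4 D5692) D5693 D12028 D25330 (iv4 F46634) (iv5 D29002) (iv4 D13803) (iv5 D6565) (iv4 D2925) D2926 D6568
theorem F46659 : act 0 n29018 = n25325 := d18_2 F37046 D29018 F39996 F39979 F19880 (iv0 F10023) D6592 (iv0 F18076) D23769
theorem F46660 : act 1 n29018 = n25342 := d18_6 (iv1 F23064) (iv4 D13807) (iv1 D6567) D6568 D13811 D29018 (iv4 D25342) D25341 F40042
def n29019 : Q := act 6 n13811
theorem D29019 : act 6 n13811 = n29019 := rfl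
def n29020 : Q := act 3 n13812
theorem D29020 : act 3 n13812 = n29020 := rfl
theorem F46661 : act 5 n29020 = n24431 := d6_2 (iv5 F23070) D29020 F38313
theorem F46662 : act 4 n29020 = n28858 := d20_6 D13740 F22988 (iv4 D6572) (iv3 F10628) D13812 D29020 (iv1 D28858) (iv4 D13755) F10610 (iv1 F10607)
theorem F46663 : act 0 n14335 = n29020 := d18_0 F46662 (iv1 D28858) (iv4 D13755) (iv5 D6547) (iv4 F10319) F11087 (iv4 F20240) (iv0 F20243) D14335
theorem F46664 : act 1 n14165 = n29020 := d15_0 (iv0 F46663) (iv7 F40693) F40691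
def n29021 : Q := act 4 n13812
theorem D29021 : act 4 n13812 = n29021 := rfl
theorem F46665 : act 0 n29021 = n28755 := d18_2 D13812 D29021 (iv4 D28755) (iv5 D13712) F10601 F18657 F18654 (iv0 F10276) D6569
def n29022 : Q := act 6 n13812
theorem D29022 : act 6 n13812 = n29022 := rfl
def n29023 : Q := act 4 n13813
theorem D29023 : act 4 n13813 = n29023 := rfl
def n29024 : Q := act 6 n13813
theorem D29024 : act 6 n13813 = n29024 := rfl
theorem F46666 : act 2 n29024 = n25829 := d3_1 D29024 F40816 (iv2 F23497)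
theorem F46667 : act 3 n29024 = n24175 := d7_1 D29024 F37887 (iv3 F37522)
theorem F46668 : act 5 n29024 = n24170 := d12_1 D29024 (iv6 D24170) (iv5 F19040) (iv6 F19041) F23073
theorem F46669 : act 0 n29024 = n13844 := d21_4 (iv5 F38567) (iv1 F38568) F23073 D29024 (iv6 D13844) (iv5 D6584) F22493 D3077 (iv6 F8920) D12235
def n29025 : Q := act 0 n13814
theorem D29025 : act 0 n13814 = n29025 := rfl
theorem F46670 : act 1 n25776 = n29025 := d15_0 (iv0 D29025) (iv7 F23499) (iv2 F40721)
def n29026 : Q := act 1 n13814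
theorem D29026 : act 1 n13814 = n29026 := rfl
theorem F46671 : act 1 n29026 = n25776 := d15_1 D29026 F40722 F40710
def n29027 : Q := act 3 n13814
theorem D29027 : act 3 n13814 = n29027 := rfl
theorem F46672 : act 4 n29027 = n13821 := d5_2 D13814 D29027 (iv3 D13821) (iv4 D6572) (iv3 F10628)
def n29028 : Q := act 5 n13814
theorem D29028 : act 5 n13814 = n29028 := rfl
def n29029 : Q := act 6 n13814
theorem D29029 : act 6 n13814 = n29029 := rfl
theorem F46673 : act 4 n29029 = n13815 := d10_1 D29029 (iv6 D13815) D13814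
def n29030 : Q := act 0 n13815
theorem D29030 : act 0 n13815 = n29030 := rfl
def n29031 : Q := act 1 n13815
theorem D29031 : act 1 n13815 = n29031 := rfl
def n29032 : Q := act 7 n13815
theorem D29032 : act 7 n13815 = n29032 := rfl
theorem F46674 : act 3 n29032 = n13825 := d8_1 D29032 (iv7 D13825) (iv3 F23074)
theorem F46675 : act 5 n29032 = n25144 := d13_1 D29032 (iv7 D25144) (iv5 F23075)
def n29033 : Q := act 4 n13816
theorem D29033 : act 4 n13816 = n29033 := rfl
theorem F46676 : act 1 n29033 = n28736 := d18_6 F38292 (iv4 F38942) (iv1 F38946) F26139 (iv5 F23076) D29033 (iv4 D28736) D28735 (iv5 F46368)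
def n29034 : Q := act 6 n13816
theorem D29034 : act 6 n13816 = n29034 := rfl
theorem F46677 : act 3 n29034 = n13818 := d7_1 D29034 (iv6 D13818) D13816
theorem F46678 : act 5 n29034 = n16529 := d12_1 D29034 (iv6 D16529) (iv5 D7678) D7679 (iv5 F23076)
def n29035 : Q := act 3 n13817
theorem D29035 : act 3 n13817 = n29035 := rfl
theorem F46679 : act 7 n29035 = n28831 := d8_2 (iv7 F23078) D29035 (iv3 D28831)
def n29036 : Q := act 6 n13817
theorem D29036 : act 6 n13817 = n29036 := rfl
theorem F46680 : act 2 n29036 = n28830 := d3_1 D29036 (iv6 D28830) (iv2 F23077)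
theorem F46681 : act 4 n29036 = n13818 := d10_1 D29036 (iv6 D13818) D13817
def n29037 : Q := act 0 n13818
theorem D29037 : act 0 n13818 = n29037 := rfl
theorem F46682 : act 5 n29037 = n25945 := d21_2 (iv5 F23081) D29037 (iv6 D25945) (iv1 D12306) (iv6 D5841) (iv5 F8539) (iv1 F8544) F8239 D6962 F11931
def n29038 : Q := act 1 n13818
theorem D29038 : act 1 n13818 = n29038 := rfl
def n29039 : Q := act 7 n13818
theorem D29039 : act 7 n13818 = n29039 := rfl
theorem F46683 : act 5 n29039 = n16534 := d13_1 D29039 (iv7 D16534) (iv5 F23081)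
theorem F46684 : act 6 n29039 = n13849 := d14_1 D29039 F23516 F20422 F10849 D13818
def n29040 : Q := act 2 n13819
theorem D29040 : act 2 n13819 = n29040 := rfl
theorem F46685 : act 5 n29040 = n24445 := d2_2 (iv5 F23082) D29040 F38348
theorem F46686 : act 7 n29040 = n14162 := d4_2 F23417 D29040 (iv2 F23680)
theorem F46687 : act 1 n29040 = n14153 := d15_0 F23651 F23417 D29040
theorem F46688 : act 1 n14152 = n29040 := d15_0 F46687 F23650 (iv2 F23644)
def n29041 : Q := act 4 n13819
theorem D29041 : act 4 n13819 = n29041 := rfl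
def n29042 : Q := act 3 n13820
theorem D29042 : act 3 n13820 = n29042 := rfl
theorem F46689 : act 7 n29042 = n28828 := d8_2 (iv7 F23085) D29042 (iv3 D28828)
def n29043 : Q := act 0 n13821
theorem D29043 : act 0 n13821 = n29043 := rfl
def n29044 : Q := act 1 n13821
theorem D29044 : act 1 n13821 = n29044 := rfl
def n29045 : Q := act 2 n13821
theorem D29045 : act 2 n13821 = n29045 := rfl
def n29046 : Q := act 6 n13821
theorem D29046 : act 6 n13821 = n29046 := rfl
theorem F46690 : act 3 n29046 = n13822 := d7_1 D29046 (iv6 D13822) D13821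
def n29047 : Q := act 0 n13822
theorem D29047 : act 0 n13822 = n29047 := rfl
def n29048 : Q := act 1 n13822
theorem D29048 : act 1 n13822 = n29048 := rfl
def n29049 : Q := act 5 n13822
theorem D29049 : act 5 n13822 = n29049 := rfl
def n29050 : Q := act 7 n13822
theorem D29050 : act 7 n13822 = n29050 := rfl
theorem F46691 : act 4 n29050 = n13825 := d11_1 D29050 (iv7 D13825) (iv4 F23088)
def n29051 : Q := act 3 n13823
theorem D29051 : act 3 n13823 = n29051 := rfl
theorem F46692 : act 5 n29051 = n24611 := d6_2 (iv5 F23089) D29051 (iv3 D24611)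
def n29052 : Q := act 4 n13823
theorem D29052 : act 4 n13823 = n29052 := rfl
def n29053 : Q := act 3 n13824
theorem D29053 : act 3 n13824 = n29053 := rfl
theorem F46693 : act 5 n29053 = n24608 := d6_2 F23090 D29053 (iv3 D24608)
def n29054 : Q := act 4 n13824
theorem D29054 : act 4 n13824 = n29054 := rfl
def n29055 : Q := act 6 n13824
theorem D29055 : act 6 n13824 = n29055 := rfl
def n29056 : Q := act 6 n13828
theorem D29056 : act 6 n13828 = n29056 := rfl
theorem F46694 : act 3 n29056 = n16595 := d7_1 D29056 (iv6 D16595) (iv3 F26715)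
theorem F46695 : act 5 n29056 = n28700 := d12_1 D29056 (iv6 D28700) F22828 F21179 D13828
def n29057 : Q := act 5 n13829
theorem D29057 : act 5 n13829 = n29057 := rfl
theorem F46696 : act 2 n29057 = n16593 := d2_1 D29057 (iv5 D16593) (iv2 F26686)
theorem F46697 : act 3 n29057 = n13830 := d6_1 D29057 (iv5 D13830) D13829
def n29058 : Q := act 6 n13830
theorem D29058 : act 6 n13830 = n29058 := rfl
def n29059 : Q := act 6 n13832
theorem D29059 : act 6 n13832 = n29059 := rfl
theorem F46698 : act 5 n29059 = n26689 := d12_1 D29059 (iv6 D26689) (iv5 F23106) (iv6 D13833) D13832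
def n29060 : Q := act 0 n13834
theorem D29060 : act 0 n13834 = n29060 := rfl
def n29061 : Q := act 1 n13834
theorem D29061 : act 1 n13834 = n29061 := rfl
def n29062 : Q := act 5 n13834
theorem D29062 : act 5 n13834 = n29062 := rfl
theorem F46699 : act 3 n29062 = n13835 := d6_1 D29062 (iv5 D13835) D13834
def n29063 : Q := act 6 n13835
theorem D29063 : act 6 n13835 = n29063 := rfl
def n29064 : Q := act 4 n13836
theorem D29064 : act 4 n13836 = n29064 := rfl
theorem F46700 : act 2 n29064 = n16603 := d1_1 D29064 (iv4 D16603) F26720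
def n29065 : Q := act 5 n13836
theorem D29065 : act 5 n13836 = n29065 := rfl
theorem F46701 : act 2 n29065 = n16604 := d2_1 D29065 (iv5 D16604) F26720
theorem F46702 : act 0 n29065 = n26529 := d21_1 D29065 (iv5 D26529) (iv6 F41587) (iv1 D26197) (iv6 D12426) D12425 (iv1 F41453) (iv5 D14851) F11324 D13836
theorem F46703 : act 1 n29065 = n14099 := d15_1 (iv0 F46702) F23565 (iv2 F42470)
def n29066 : Q := act 6 n13836
theorem D29066 : act 6 n13836 = n29066 := rfl
theorem F46704 : act 2 n29066 = n16605 := d3_1 D29066 (iv6 D16605) F26720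
theorem F46705 : act 5 n29066 = n26605 := d21_6 D12425 (iv1 F41453) (iv5 D14851) F11324 D13836 D29066 (iv1 F42602) (iv5 D16076) (iv6 F26873) (iv1 F20689)
theorem F46706 : act 1 n29066 = n26289 := d15_0 (iv0 F41859) F37161 (iv2 F46704)
theorem F46707 : act 0 n26198 = n26288 := d21_1 D26198 (iv5 D26288) D26289 (iv1 F46706) (iv6 D29066) D29065 F46702 (iv5 D26529) (iv6 F41587) (iv1 D26197)
def n29067 : Q := act 4 n13839
theorem D29067 : act 4 n13839 = n29067 := rfl
def n29068 : Q := act 6 n13839
theorem D29068 : act 6 n13839 = n29068 := rfl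
theorem F46708 : act 3 n29068 = n13840 := d7_1 D29068 (iv6 D13840) (iv3 F23115)
def n29069 : Q := act 0 n13840
theorem D29069 : act 0 n13840 = n29069 := rfl
def n29070 : Q := act 1 n13840
theorem D29070 : act 1 n13840 = n29070 := rfl
def n29071 : Q := act 7 n13840
theorem D29071 : act 7 n13840 = n29071 := rfl
def n29072 : Q := act 3 n13841
theorem D29072 : act 3 n13841 = n29072 := rfl
theorem F46709 : act 5 n29072 = n25057 := d6_2 F24095 D29072 (iv3 F39329)
theorem F46710 : act 4 n29072 = n28810 := d20_6 D13738 F22985 (iv4 D6586) (iv3 F10648) D13841 D29072 (iv1 D28810) (iv4 D13735) F10604 D6540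
theorem F46711 : act 0 n14264 = n29072 := d18_0 F46710 (iv1 D28810) (iv4 D13735) (iv5 D6539) (iv4 F10106) (iv0 F22501) (iv4 F4804) D6790 D14264
theorem F46712 : act 1 n14262 = n29072 := d15_0 (iv0 F46711) (iv7 F23817) F23815
def n29073 : Q := act 4 n13841
theorem D29073 : act 4 n13841 = n29073 := rfl
def n29074 : Q := act 3 n13842
theorem D29074 : act 3 n13842 = n29074 := rfl
theorem F46713 : act 5 n29074 = n16499 := d6_2 (iv5 F23118) D29074 F26087
theorem F46714 : act 7 n29074 = n28738 := d8_2 (iv7 F26032) D29074 (iv3 F46372)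
theorem F46715 : act 4 n28745 = n29074 := d20_2 D13710 D28745 (iv3 D29074) (iv1 D13842) F10648 D6586 (iv1 F22989) (iv4 D13740) (iv3 F22960) (iv1 D13709)
theorem F46716 : act 1 n29074 = n14157 := d18_8 F22511 (iv4 F18462) (iv1 F22518) (iv4 D6529) D6530 D13716 F46380 F46715 (iv5 D14157)
theorem F46717 : act 1 n24085 = n29074 := d15_0 F46716 F23664 (iv2 F37710)
theorem F46718 : act 2 n29074 = n24122 := d15_3 (iv0 F37801) D28738 (iv7 F46714)
def n29075 : Q := act 4 n13842
theorem D29075 : act 4 n13842 = n29075 := rfl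
def n29076 : Q := act 6 n13842
theorem D29076 : act 6 n13842 = n29076 := rfl
theorem F46719 : act 5 n29076 = n16503 := d12_1 D29076 (iv6 D16503) (iv5 D7664) D7665 (iv5 F23118)
def n29077 : Q := act 0 n13843
theorem D29077 : act 0 n13843 = n29077 := rfl
theorem F46720 : act 1 n14276 = n29077 := d15_0 (iv0 D29077) (iv7 F23413) (iv2 F23830)
def n29078 : Q := act 1 n13843
theorem D29078 : act 1 n13843 = n29078 := rfl
theorem F46721 : act 1 n29078 = n14276 := d15_1 D29078 (iv7 F23849) F23848
def n29079 : Q := act 3 n13843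
theorem D29079 : act 3 n13843 = n29079 := rfl
theorem F46722 : act 4 n29079 = n13847 := d5_2 D13843 D29079 (iv3 D13847) (iv4 D6586) (iv3 F10648)
def n29080 : Q := act 5 n13843
theorem D29080 : act 5 n13843 = n29080 := rfl
def n29081 : Q := act 6 n13843
theorem D29081 : act 6 n13843 = n29081 := rfl
theorem F46723 : act 4 n29081 = n13844 := d10_1 D29081 (iv6 D13844) D13843
def n29082 : Q := act 0 n13844
theorem D29082 : act 0 n13844 = n29082 := rfl
def n29083 : Q := act 5 n13844
theorem D29083 : act 5 n13844 = n29083 := rfl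
theorem F46724 : act 3 n29083 = n13850 := d6_1 D29083 (iv5 D13850) (iv3 F23119)
theorem F46725 : act 6 n29083 = n13846 := d12_2 D13844 D29083 (iv5 D13846) (iv6 D6585) D6584
def n29084 : Q := act 7 n13844
theorem D29084 : act 7 n13844 = n29084 := rfl
theorem F46726 : act 3 n29084 = n13851 := d8_1 D29084 (iv7 D13851) (iv3 F23119)
theorem F46727 : act 1 n25829 = n29084 := d15_1 (iv0 F40817) (iv7 D29084) (iv2 F23850)
def n29085 : Q := act 4 n13846
theorem D29085 : act 4 n13846 = n29085 := rfl
def n29086 : Q := act 0 n13847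
theorem D29086 : act 0 n13847 = n29086 := rfl
def n29087 : Q := act 1 n13847
theorem D29087 : act 1 n13847 = n29087 := rfl
def n29088 : Q := act 2 n13847
theorem D29088 : act 2 n13847 = n29088 := rfl
def n29089 : Q := act 6 n13847
theorem D29089 : act 6 n13847 = n29089 := rfl
theorem F46728 : act 3 n29089 = n13848 := d7_1 D29089 (iv6 D13848) D13847
def n29090 : Q := act 0 n13848
theorem D29090 : act 0 n13848 = n29090 := rfl
def n29091 : Q := act 5 n13848
theorem D29091 : act 5 n13848 = n29091 := rfl
def n29092 : Q := act 7 n13848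
theorem D29092 : act 7 n13848 = n29092 := rfl
theorem F46729 : act 4 n29092 = n13851 := d11_1 D29092 (iv7 D13851) (iv4 F23121)
theorem F46730 : act 1 n28310 = n29092 := d15_1 (iv0 F46576) (iv7 D29092) (iv2 F23504)
theorem E5041 : n25978 = n25943 := ((c18_2 (iv1 F20420) D25943 (iv1 D25978) F20453 D13510 D28310 F46730 F46729 F23510 (iv5 F23513))).symm
theorem F46731 : act 0 n25943 = n12320 := (sb E5041 (iv1 D25978))
theorem F46732 : act 1 n25943 = n14725 := (sb E5041 F41056)
def n29093 : Q := act 3 n13849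
theorem D29093 : act 3 n13849 = n29093 := rfl
theorem F46733 : act 5 n29093 = n25926 := d6_2 (iv5 F23515) D29093 F40981
theorem F46734 : act 7 n29093 = n25925 := d8_2 (iv7 F23516) D29093 F40979
def n29094 : Q := act 4 n13849
theorem D29094 : act 4 n13849 = n29094 := rfl
theorem F46735 : act 7 n29094 = n25946 := d11_2 (iv7 F23516) D29094 (iv4 D25946)
theorem F46736 : act 1 n28876 = n29094 := d15_1 F46538 F46735 F41006
theorem F46737 : act 2 n29094 = n28874 := d15_3 (iv0 D28874) (iv0 F46476) (iv7 F46735)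
theorem F46738 : act 4 n28874 = n14075 := d1_2 D29094 F46737 F23514
theorem F46739 : act 7 n28874 = n14684 := d4_2 (iv7 F46735) F46737 (iv2 F41006)
theorem F46740 : act 1 n29094 = n13994 := d15_0 (iv0 F46536) (iv7 F46739) (iv2 F46737)
theorem E5042 : n28303 = n14670 := (c18_2 D13508 D28303 (iv1 F41001) F40997 (iv5 F23515) D29094 F46740 F23322 (iv0 F22657) (iv5 D13510))
theorem F46741 : act 4 n14670 = n13508 := (sb E5042 (iv4 D28303))
theorem F46742 : act 4 n25933 = n23819 := d18_7 F22992 (iv4 F23017) D28874 F46738 (iv5 F23513) (iv4 F24361) F40999 (iv0 D23819) (iv5 F22991)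
def n29095 : Q := act 0 n13850
theorem D29095 : act 0 n13850 = n29095 := rfl
theorem F46743 : act 6 n29095 = n26023 := d21_5 (iv5 F5470) (iv1 F8967) D6588 (iv6 F23122) D29095 (iv5 D26023) (iv1 F20479) F11210 (iv6 D6938) (iv1 F5468)
theorem F46744 : act 1 n14640 = n29095 := d15_0 (iv0 D29095) (iv7 F40965) F40963
def n29096 : Q := act 1 n13850
theorem D29096 : act 1 n13850 = n29096 := rfl
theorem F46745 : act 1 n29096 = n14640 := d15_1 D29096 F24320 F23506
def n29097 : Q := act 4 n13850
theorem D29097 : act 4 n13850 = n29097 := rfl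
theorem F46746 : act 6 n29097 = n13852 := d10_2 (iv6 F23122) D29097 (iv4 D13852)
def n29098 : Q := act 3 n13852
theorem D29098 : act 3 n13852 = n29098 := rfl
def n29099 : Q := act 5 n13852
theorem D29099 : act 5 n13852 = n29099 := rfl
theorem F46747 : act 4 n29099 = n14102 := d16_2 D13852 D29099 (iv5 D14102) F10927 F4732 (iv4 F8963) (iv5 F11198) F11197 F10900
theorem F46748 : act 0 n29099 = n16552 := d17_2 (iv1 F23125) D29099 (iv5 D16552) F11946 F7923 F8004 D6551 F10613 D11481
theorem F46749 : act 1 n29099 = n16555 := d17_6 (iv1 F5468) (iv5 F5470) (iv1 F8967) D6588 D13852 D29099 (iv5 D16555) F11950 F11209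
def n29100 : Q := act 2 n13853
theorem D29100 : act 2 n13853 = n29100 := rfl
theorem F46750 : act 7 n13854 = n29100 := d15_2 (iv0 D13853) D13854 (iv2 D29100)
def n29101 : Q := act 5 n13853
theorem D29101 : act 5 n13853 = n29101 := rfl
theorem F46751 : act 3 n29101 = n16610 := d6_1 D29101 (iv5 D16610) (iv3 F26721)
def n29102 : Q := act 6 n13853
theorem D29102 : act 6 n13853 = n29102 := rfl
theorem F46752 : act 3 n29102 = n16611 := d7_1 D29102 (iv6 D16611) (iv3 F26721)
theorem F46753 : act 4 n29102 = n15184 := d10_1 D29102 (iv6 F27103) (iv4 F27105)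
def n29103 : Q := act 7 n13853
theorem D29103 : act 7 n13853 = n29103 := rfl
theorem F46754 : act 2 n29103 = n13854 := d4_1 D29103 F46750 (iv2 D29100)
theorem F46755 : act 3 n29103 = n16612 := d8_1 D29103 (iv7 D16612) (iv3 F26721)
def n29104 : Q := act 3 n13854
theorem D29104 : act 3 n13854 = n29104 := rfl
theorem F46756 : act 2 n29104 = n16613 := d0_1 D29104 (iv3 D16613) (iv2 F27102) (iv3 F46755) F46754
theorem F46757 : act 4 n29104 = n16613 := d5_2 F27108 D29104 (iv3 D16613) (iv4 F26821) (iv3 F27107)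
def n29105 : Q := act 5 n13854
theorem D29105 : act 5 n13854 = n29105 := rfl
def n29106 : Q := act 6 n13854
theorem D29106 : act 6 n13854 = n29106 := rfl
def n29107 : Q := act 5 n13855
theorem D29107 : act 5 n13855 = n29107 := rfl
theorem F46758 : act 2 n29107 = n13856 := d2_1 D29107 (iv5 D13856) D13855
theorem F46759 : act 3 n29107 = n26853 := d6_1 D29107 (iv5 D26853) F26733
def n29108 : Q := act 0 n13856
theorem D29108 : act 0 n13856 = n29108 := rfl
def n29109 : Q := act 1 n13856
theorem D29109 : act 1 n13856 = n29109 := rfl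
def n29110 : Q := act 4 n13856
theorem D29110 : act 4 n13856 = n29110 := rfl
def n29111 : Q := act 6 n13856
theorem D29111 : act 6 n13856 = n29111 := rfl
theorem F46760 : act 3 n29111 = n13857 := d7_1 D29111 (iv6 D13857) (iv3 F23126)
def n29112 : Q := act 0 n13857
theorem D29112 : act 0 n13857 = n29112 := rfl
def n29113 : Q := act 1 n13857
theorem D29113 : act 1 n13857 = n29113 := rfl
def n29114 : Q := act 7 n13857
theorem D29114 : act 7 n13857 = n29114 := rfl
def n29115 : Q := act 0 n13858
theorem D29115 : act 0 n13858 = n29115 := rfl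
theorem F46761 : act 4 n29115 = n13872 := d20_0 (iv1 D13872) (iv4 F10936) (iv3 D6708) (iv1 D3020) D3021 F26382 F4640 D6591 D13858 D29115
theorem F46762 : act 1 n26397 = n29115 := d15_0 (iv0 D29115) F23143 (iv2 F42148)
theorem F46763 : act 3 n14086 = n29115 := d20_5 (iv4 D1356) D1354 D3014 D6697 D14086 F46761 (iv1 D13872) (iv4 F10936) (iv3 D6708) (iv1 D3020)
def n29116 : Q := act 1 n13858
theorem D29116 : act 1 n13858 = n29116 := rfl
theorem F46764 : act 4 n13871 = n29116 := d20_0 (iv1 D29116) (iv4 F26244) (iv3 D16573) (iv1 F11974) (iv3 F26451) F4740 (iv1 F2480) D2952 D6597 D13871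
def n29117 : Q := act 2 n13858
theorem D29117 : act 2 n13858 = n29117 := rfl
theorem F46765 : act 3 n29117 = n26385 := d0_2 D13858 D29117 (iv2 F42119) F26988 F10907
theorem F46766 : act 7 n29117 = n26397 := d4_2 (iv7 F23143) D29117 F42148
theorem F46767 : act 1 n29116 = n26397 := d15_1 D29116 (iv7 F46766) (iv2 D29117)
def n29118 : Q := act 5 n13858
theorem D29118 : act 5 n13858 = n29118 := rfl
theorem F46768 : act 3 n29118 = n13859 := d6_1 D29118 (iv5 D13859) D13858
def n29119 : Q := act 4 n13859
theorem D29119 : act 4 n13859 = n29119 := rfl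
theorem F46769 : act 5 n29119 = n14484 := d9_2 D13859 D29119 (iv4 D14484) F11198 F8963 (iv5 F4732) (iv4 F10927) D14102 (iv4 F46747) (iv5 D29099) (iv4 D13852) (iv5 D6588) F4639 D2947 D6591
theorem F46770 : act 0 n29119 = n16555 := d17_0 (iv5 D16555) (iv1 D7689) D7691 (iv4 F21213) F21214 F9407 D7720 (iv0 F23127) D29119
theorem F46771 : act 1 n29119 = n16552 := d18_6 F26448 F26382 F4640 D6591 D13859 D29119 F26207 (iv0 F23598) (iv5 D14116)
theorem E5043 : n26085 = n24672 := ((c21_4 D16552 (iv1 F46771) F46769 (iv6 F38667) (iv1 D26085) (iv6 D12365) (iv5 F20472) (iv1 D12330) (iv5 D5848) (iv6 F5475) D7688)).symm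
theorem F46772 : act 0 n24672 = n12365 := (sb E5043 (iv1 D26085))
theorem F46773 : act 1 n24672 = n14943 := (sb E5043 F41262)
theorem E5044 : n26084 = n25916 := (c15_2 F46773 F41267 F40962 (iv2 F38666))
theorem F46774 : act 0 n25916 = n14943 := (sb E5044 (iv1 F41267))
theorem F46775 : act 1 n25916 = n12365 := (sb E5044 (iv0 D26084))
theorem E5045 : n28040 = n24661 := (c18_2 (iv1 F22332) D28040 (iv1 D24661) F19014 D11680 D24672 F46773 F24606 F20555 (iv5 F22329))
theorem F46776 : act 2 n24661 = n28131 := (sb E5045 (iv2 F45486))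
theorem F46777 : act 4 n24661 = n13377 := (sb E5045 (iv4 D28040))
theorem F46778 : act 7 n24661 = n28127 := (sb E5045 F45479)
theorem E5046 : n28036 = n24660 := (c15_4 (iv0 D24660) D24661 F46778 F45476)
theorem F46779 : act 2 n24660 = n28127 := (sb E5046 (iv2 F45476))
theorem F46780 : act 4 n24660 = n13376 := (sb E5046 (iv4 D28036))
theorem F46781 : act 6 n24660 = n28146 := (sb E5046 (iv6 F45511))
theorem F46782 : act 7 n24660 = n28131 := (sb E5046 (iv7 F45474))
def n29120 : Q := act 6 n13859
theorem D29120 : act 6 n13859 = n29120 := rfl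
theorem F46783 : act 5 n29120 = n26863 := d12_1 D29120 (iv6 D26863) F21304 F11494 D13859
def n29121 : Q := act 0 n13860
theorem D29121 : act 0 n13860 = n29121 := rfl
def n29122 : Q := act 1 n13860
theorem D29122 : act 1 n13860 = n29122 := rfl
def n29123 : Q := act 5 n13860
theorem D29123 : act 5 n13860 = n29123 := rfl
theorem F46784 : act 3 n29123 = n13861 := d6_1 D29123 (iv5 D13861) D13860
def n29124 : Q := act 6 n13860
theorem D29124 : act 6 n13860 = n29124 := rfl
theorem F46785 : act 3 n29124 = n13862 := d7_1 D29124 (iv6 D13862) D13860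
theorem F46786 : act 4 n29124 = n13867 := d10_1 D29124 (iv6 D13867) (iv4 F23129)
def n29125 : Q := act 0 n13861
theorem D29125 : act 0 n13861 = n29125 := rfl
theorem F46787 : act 5 n29125 = n14063 := d17_3 F18076 D13861 D29125 F23477 (iv5 D11376) F18319 F18317 (iv0 D11202) (iv4 F18075)
theorem F46788 : act 1 n24744 = n29125 := d15_0 (iv0 D29125) (iv7 F23553) (iv2 F38728)
theorem F46789 : act 2 n29013 = n29125 := d2_3 F46787 (iv2 F23479) D29013
theorem F46790 : act 7 n29011 = n29125 := d13_0 F46787 (iv7 F23480) D29011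
def n29126 : Q := act 1 n13861
theorem D29126 : act 1 n13861 = n29126 := rfl
theorem F46791 : act 1 n29126 = n24744 := d15_1 D29126 (iv7 F39966) F39965
theorem F46792 : act 7 n29126 = n29013 := d15_2 (iv0 D29125) D29126 F46789
theorem F46793 : act 5 n29126 = n14064 := d17_7 (iv1 F10885) (iv5 F10887) (iv1 F10364) F10361 D6592 D13861 D29126 F23481 (iv4 D12014)
theorem F46794 : act 2 n29011 = n29126 := d2_3 F46793 (iv2 F23484) D29011
def n29127 : Q := act 4 n13861
theorem D29127 : act 4 n13861 = n29127 := rfl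
theorem F46795 : act 5 n29127 = n24150 := d16_1 D29127 (iv4 D24150) (iv5 D11342) F10018 D5448 D11708 D24744 (iv7 F39966) F39965
def n29128 : Q := act 6 n13861
theorem D29128 : act 6 n13861 = n29128 := rfl
def n29129 : Q := act 0 n13866
theorem D29129 : act 0 n13866 = n29129 := rfl
theorem F46796 : act 5 n29129 = n14079 := d21_2 D13866 D29129 F26828 (iv1 F26896) (iv6 D15262) (iv5 F12395) (iv1 F27128) (iv5 D12644) (iv6 F26671) F26986
theorem F46797 : act 2 n24291 = n29129 := d2_3 F46796 (iv2 F26827) D24291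
theorem F46798 : act 7 n29065 = n29129 := d13_0 F46796 F26826 D29065
theorem F46799 : act 1 n13866 = n16604 := d15_1 (iv0 D29129) (iv7 F38077) F46797
def n29130 : Q := act 4 n13866
theorem D29130 : act 4 n13866 = n29130 := rfl
def n29131 : Q := act 6 n13866
theorem D29131 : act 6 n13866 = n29131 := rfl
theorem F46800 : act 3 n29131 = n13870 := d7_1 D29131 (iv6 D13870) (iv3 F23131)
def n29132 : Q := act 3 n13868
theorem D29132 : act 3 n13868 = n29132 := rfl
theorem F46801 : act 5 n29132 = n14047 := d6_2 (iv5 F23133) D29132 (iv3 D14047)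
theorem F46802 : act 7 n29132 = n26717 := d8_2 F23136 D29132 F42827
theorem F46803 : act 2 n29132 = n26714 := d15_3 (iv0 F42822) (iv0 F42828) (iv7 F46802)
def n29133 : Q := act 6 n13868
theorem D29133 : act 6 n13868 = n29133 := rfl
theorem F46804 : act 2 n29133 = n29063 := d3_1 D29133 (iv6 D29063) F23135
def n29134 : Q := act 3 n13869
theorem D29134 : act 3 n13869 = n29134 := rfl
theorem F46805 : act 5 n29134 = n14046 := d6_2 (iv5 F23139) D29134 (iv3 D14046)
theorem F46806 : act 7 n29134 = n29062 := d8_2 (iv7 F23138) D29134 F46699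
def n29135 : Q := act 6 n13869
theorem D29135 : act 6 n13869 = n29135 := rfl
theorem F46807 : act 2 n29135 = n29059 := d3_1 D29135 (iv6 D29059) F23140
theorem F46808 : act 5 n29135 = n16441 := d12_1 D29135 (iv6 D16441) (iv5 F22834) F22833 (iv5 F23139)
def n29136 : Q := act 0 n13870
theorem D29136 : act 0 n13870 = n29136 := rfl
def n29137 : Q := act 1 n13870
theorem D29137 : act 1 n13870 = n29137 := rfl
def n29138 : Q := act 7 n13870
theorem D29138 : act 7 n13870 = n29138 := rfl
def n29139 : Q := act 2 n13871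
theorem D29139 : act 2 n13871 = n29139 := rfl
theorem F46809 : act 7 n13872 = n29139 := d15_2 (iv0 D13871) D13872 (iv2 D29139)
def n29140 : Q := act 3 n13871
theorem D29140 : act 3 n13871 = n29140 := rfl
theorem F46810 : act 4 n29140 = n14087 := d20_6 F4740 (iv1 F2480) D2952 D6597 D13871 D29140 (iv1 D14087) F10910 (iv3 D6600) (iv1 F4743)
theorem F46811 : act 0 n13875 = n29140 := d20_4 (iv4 D3501) F4645 (iv4 F10695) (iv3 F23142) (iv3 D29140) F46764 (iv1 D29116) (iv4 F26244) (iv3 D16573) (iv1 F11974)
def n29143 : Q := act 7 n13871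
theorem D29143 : act 7 n13871 = n29143 := rfl
theorem F46813 : act 2 n29143 = n13872 := d4_1 D29143 F46809 (iv2 D29139)
def n29144 : Q := act 3 n13872
theorem D29144 : act 3 n13872 = n29144 := rfl
def n29145 : Q := act 5 n13872
theorem D29145 : act 5 n13872 = n29145 := rfl
def n29146 : Q := act 6 n13872
theorem D29146 : act 6 n13872 = n29146 := rfl
def n29147 : Q := act 5 n13873
theorem D29147 : act 5 n13873 = n29147 := rfl
theorem F46814 : act 2 n29147 = n13874 := d2_1 D29147 (iv5 D13874) D13873
def n29148 : Q := act 0 n13874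
theorem D29148 : act 0 n13874 = n29148 := rfl
def n29149 : Q := act 1 n13874
theorem D29149 : act 1 n13874 = n29149 := rfl
def n29150 : Q := act 4 n13874
theorem D29150 : act 4 n13874 = n29150 := rfl
def n29151 : Q := act 6 n13874
theorem D29151 : act 6 n13874 = n29151 := rfl
theorem F46815 : act 3 n29151 = n13876 := d7_1 D29151 (iv6 D13876) (iv3 F23141)
def n29152 : Q := act 1 n13875
theorem D29152 : act 1 n13875 = n29152 := rfl
theorem F46817 : act 4 n14086 = n29152 := d20_0 (iv1 D29152) (iv4 F23595) F23594 F26448 (iv3 D3021) (iv4 D1356) D1354 D3014 D6697 D14086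
def n29153 : Q := act 5 n13875
theorem D29153 : act 5 n13875 = n29153 := rfl
theorem F46818 : act 3 n29153 = n13877 := d6_1 D29153 (iv5 D13877) (iv3 F23142)
theorem F46819 : act 7 n29153 = n29118 := d13_2 F23143 D29153 (iv5 D29118)
def n29154 : Q := act 0 n13876
theorem D29154 : act 0 n13876 = n29154 := rfl
def n29155 : Q := act 1 n13876
theorem D29155 : act 1 n13876 = n29155 := rfl
def n29156 : Q := act 5 n13876
theorem D29156 : act 5 n13876 = n29156 := rfl
theorem F46820 : act 6 n29156 = n13877 := d12_2 D13876 D29156 (iv5 D13877) (iv6 D6599) D6598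
def n29157 : Q := act 7 n13876
theorem D29157 : act 7 n13876 = n29157 := rfl
def n29158 : Q := act 4 n13877
theorem D29158 : act 4 n13877 = n29158 := rfl
theorem F46821 : act 2 n29158 = n29099 := d1_1 D29158 F46747 F23569
theorem F46822 : act 7 n29158 = n29119 := d11_2 (iv7 F23144) D29158 (iv4 D29119)
theorem F46823 : act 5 n29158 = n14078 := d16_1 D29158 (iv4 D14078) (iv5 D6693) F4715 D3012 D6696 D14085 (iv7 F23570) F23569
theorem F46824 : act 0 n29158 = n14518 := d17_0 (iv5 D14518) (iv1 F11959) (iv5 F21208) (iv4 D12774) (iv5 D6042) (iv0 F8096) D11441 (iv0 F23145) D29158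
theorem F46825 : act 1 n29158 = n14521 := d18_6 (iv1 F11974) (iv4 D3501) F4645 (iv4 F10695) D13877 D29158 F24160 F24549 F24548
def n29159 : Q := act 2 n13878
theorem D29159 : act 2 n13878 = n29159 := rfl
theorem F46826 : act 7 n13879 = n29159 := d15_2 (iv0 D13878) D13879 (iv2 D29159)
def n29160 : Q := act 3 n13878
theorem D29160 : act 3 n13878 = n29160 := rfl
def n29161 : Q := act 4 n13878
theorem D29161 : act 4 n13878 = n29161 := rfl
theorem F46827 : act 0 n16573 = n29161 := d20_10 (iv4 D29161) (iv1 F23589) F23587 (iv3 F23559) (iv1 F26987) (iv3 D11433) (iv4 D5317) D5315 (iv4 F11973) D16573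
def n29165 : Q := act 3 n13879
theorem D29165 : act 3 n13879 = n29165 := rfl
def n29166 : Q := act 4 n13879
theorem D29166 : act 4 n13879 = n29166 := rfl
theorem F46829 : act 3 n29166 = n13886 := d20_3 (iv4 F23587) (iv1 F23591) D29166 (iv1 F23576) F23574 (iv4 F23536) (iv1 F23540) (iv4 F46761) (iv3 F46763) (iv1 F23534)
def n29169 : Q := act 5 n13880
theorem D29169 : act 5 n13880 = n29169 := rfl
theorem F46830 : act 2 n29169 = n13881 := d2_1 D29169 (iv5 D13881) D13880
def n29170 : Q := act 6 n13880
theorem D29170 : act 6 n13880 = n29170 := rfl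
theorem F46831 : act 2 n29170 = n13882 := d3_1 D29170 (iv6 D13882) D13880
def n29171 : Q := act 0 n13881
theorem D29171 : act 0 n13881 = n29171 := rfl
def n29172 : Q := act 1 n13881
theorem D29172 : act 1 n13881 = n29172 := rfl
def n29173 : Q := act 4 n13881
theorem D29173 : act 4 n13881 = n29173 := rfl
def n29174 : Q := act 6 n13881
theorem D29174 : act 6 n13881 = n29174 := rfl
theorem F46832 : act 3 n29174 = n13885 := d7_1 D29174 (iv6 D13885) (iv3 F23147)
def n29175 : Q := act 0 n13882
theorem D29175 : act 0 n13882 = n29175 := rfl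
def n29176 : Q := act 1 n13882
theorem D29176 : act 1 n13882 = n29176 := rfl
def n29177 : Q := act 6 n13883
theorem D29177 : act 6 n13883 = n29177 := rfl
theorem F46833 : act 2 n29177 = n29058 := d3_1 D29177 (iv6 D29058) F23151
theorem F46834 : act 3 n29177 = n14975 := d7_1 D29177 F24621 (iv3 F26582)
theorem F46835 : act 5 n29177 = n14969 := d12_1 D29177 (iv6 D14969) (iv5 D7126) F26571 (iv5 F23149)
def n29178 : Q := act 3 n13884
theorem D29178 : act 3 n13884 = n29178 := rfl
theorem F46836 : act 2 n29178 = n14905 := d0_1 D29178 F24547 (iv2 F12009) (iv3 F26715) F23156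
theorem F46837 : act 5 n29178 = n14044 := d6_2 (iv5 F23155) D29178 (iv3 D14044)
theorem F46838 : act 7 n29178 = n29057 := d8_2 (iv7 F23154) D29178 F46697
def n29179 : Q := act 6 n13884
theorem D29179 : act 6 n13884 = n29179 := rfl
theorem F46839 : act 2 n29179 = n29056 := d3_1 D29179 (iv6 D29056) F23156
def n29180 : Q := act 0 n13885
theorem D29180 : act 0 n13885 = n29180 := rfl
def n29181 : Q := act 1 n13885
theorem D29181 : act 1 n13885 = n29181 := rfl
def n29182 : Q := act 7 n13885
theorem D29182 : act 7 n13885 = n29182 := rfl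
def n29183 : Q := act 2 n13886
theorem D29183 : act 2 n13886 = n29183 := rfl
theorem F46840 : act 7 n13887 = n29183 := d15_2 (iv0 D13886) D13887 (iv2 D29183)
def n29187 : Q := act 7 n13886
theorem D29187 : act 7 n13886 = n29187 := rfl
theorem F46841 : act 2 n29187 = n13887 := d4_1 D29187 F46840 (iv2 D29183)
def n29188 : Q := act 3 n13887
theorem D29188 : act 3 n13887 = n29188 := rfl
def n29189 : Q := act 4 n13887
theorem D29189 : act 4 n13887 = n29189 := rfl
def n29190 : Q := act 5 n13887
theorem D29190 : act 5 n13887 = n29190 := rfl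
def n29191 : Q := act 6 n13887
theorem D29191 : act 6 n13887 = n29191 := rfl
def n29192 : Q := act 4 n13888
theorem D29192 : act 4 n13888 = n29192 := rfl
theorem F46842 : act 2 n29192 = n13889 := d1_1 D29192 (iv4 D13889) D13888
theorem F46843 : act 1 n29192 = n24011 := d15_0 (iv0 F37542) F23580 (iv2 F46842)
theorem F46844 : act 1 n26489 = n29192 := d15_0 F46843 F37541 (iv2 F42387)
theorem F46845 : act 0 n29166 = n16573 := d20_1 D29166 F26244 (iv3 D13858) F10690 D11436 (iv4 F37539) (iv1 F46843) (iv4 D29192) (iv3 F23586) (iv1 F23591)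
theorem F46846 : act 0 n13891 = n29165 := d20_4 (iv4 D5325) (iv1 F7941) (iv4 F10700) (iv3 F23159) (iv3 D29165) D29166 F46845 F26244 (iv3 D13858) F10690
def n29193 : Q := act 5 n13888
theorem D29193 : act 5 n13888 = n29193 := rfl
theorem F46847 : act 2 n29193 = n13890 := d2_1 D29193 (iv5 D13890) D13888
def n29194 : Q := act 6 n13888
theorem D29194 : act 6 n13888 = n29194 := rfl
theorem F46848 : act 2 n29194 = n13891 := d3_1 D29194 (iv6 D13891) D13888
def n29195 : Q := act 1 n13889
theorem D29195 : act 1 n13889 = n29195 := rfl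
theorem F46849 : act 7 n29195 = n26489 := d15_2 (iv0 F37052) D29195 F42387
theorem F46850 : act 4 n24288 = n29195 := d20_0 (iv1 D29195) (iv4 D13889) (iv3 D6603) (iv1 D2955) D2956 F4647 D6606 D13897 (iv3 F38229) (iv1 F38230)
theorem F46851 : act 2 n29195 = n24011 := d1_1 F46850 F37539 D24288
def n29196 : Q := act 5 n13889
theorem D29196 : act 5 n13889 = n29196 := rfl
theorem F46852 : act 3 n29196 = n24744 := d6_1 D29196 (iv5 D24744) (iv3 F23157)
def n29197 : Q := act 0 n13890
theorem D29197 : act 0 n13890 = n29197 := rfl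
def n29198 : Q := act 1 n13890
theorem D29198 : act 1 n13890 = n29198 := rfl
def n29199 : Q := act 4 n13890
theorem D29199 : act 4 n13890 = n29199 := rfl
def n29200 : Q := act 6 n13890
theorem D29200 : act 6 n13890 = n29200 := rfl
theorem F46853 : act 3 n29200 = n13892 := d7_1 D29200 (iv6 D13892) (iv3 F23158)
def n29201 : Q := act 1 n13891
theorem D29201 : act 1 n13891 = n29201 := rfl
theorem F46854 : act 5 n29201 = n24313 := d18_9 (iv1 D24313) D24314 F38098 (iv4 D15981) (iv5 D7478) (iv4 F11726) D15948 (iv4 F26985) D29201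
def n29202 : Q := act 5 n13891
theorem D29202 : act 5 n13891 = n29202 := rfl
theorem F46855 : act 3 n29202 = n13893 := d6_1 D29202 (iv5 D13893) (iv3 F23159)
def n29203 : Q := act 0 n13892
theorem D29203 : act 0 n13892 = n29203 := rfl
def n29204 : Q := act 1 n13892
theorem D29204 : act 1 n13892 = n29204 := rfl
def n29205 : Q := act 5 n13892
theorem D29205 : act 5 n13892 = n29205 := rfl
theorem F46856 : act 6 n29205 = n13893 := d12_2 D13892 D29205 (iv5 D13893) (iv6 D6605) D6604
def n29206 : Q := act 7 n13892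
theorem D29206 : act 7 n13892 = n29206 := rfl
def n29207 : Q := act 4 n13893
theorem D29207 : act 4 n13893 = n29207 := rfl
theorem F46858 : act 5 n29207 = n13998 := d16_1 D29207 (iv4 D13998) (iv5 D6655) (iv4 F7732) (iv5 F7938) (iv4 F11973) (iv5 F24548) F24550 F23597
theorem F46860 : act 1 n29207 = n16546 := d18_6 F10690 (iv4 D5325) (iv1 F7941) (iv4 F10700) D13893 D29207 F26188 (iv0 F23127) (iv5 D13859)
def n29208 : Q := act 0 n13895
theorem D29208 : act 0 n13895 = n29208 := rfl
theorem F46861 : act 1 n13900 = n29208 := d15_0 (iv0 D29208) (iv7 F23166) (iv2 F23167)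
def n29209 : Q := act 1 n13895
theorem D29209 : act 1 n13895 = n29209 := rfl
def n29210 : Q := act 3 n13895
theorem D29210 : act 3 n13895 = n29210 := rfl
theorem F46863 : act 7 n29210 = n13901 := d8_2 F23166 D29210 (iv3 D13901)
def n29211 : Q := act 4 n13895
theorem D29211 : act 4 n13895 = n29211 := rfl
theorem F46864 : act 2 n29211 = n13897 := d1_1 D29211 (iv4 D13897) D13895
theorem F46865 : act 7 n29211 = n13902 := d11_2 F23166 D29211 (iv4 D13902)
def n29212 : Q := act 5 n13895
theorem D29212 : act 5 n13895 = n29212 := rfl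
theorem F46866 : act 2 n29212 = n13898 := d2_1 D29212 (iv5 D13898) D13895
theorem F46867 : act 7 n29212 = n13903 := d13_2 F23166 D29212 (iv5 D13903)
def n29213 : Q := act 6 n13895
theorem D29213 : act 6 n13895 = n29213 := rfl
theorem F46868 : act 2 n29213 = n13899 := d3_1 D29213 (iv6 D13899) D13895
def n29214 : Q := act 0 n13896
theorem D29214 : act 0 n13896 = n29214 := rfl
def n29215 : Q := act 1 n13896
theorem D29215 : act 1 n13896 = n29215 := rfl
def n29216 : Q := act 2 n13896
theorem D29216 : act 2 n13896 = n29216 := rfl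
def n29217 : Q := act 4 n13896
theorem D29217 : act 4 n13896 = n29217 := rfl
theorem F46869 : act 0 n29217 = n25312 := d20_7 (iv4 D2952) (iv1 D1333) D1334 D2956 D6606 D13896 D29217 F39975 F20979 (iv1 F9305)
theorem F46870 : act 0 n25310 = n29217 := d20_1 (iv4 F39971) (iv4 D29217) (iv3 D13896) (iv1 F26599) (iv3 D12768) (iv4 D6040) F4734 (iv4 F10927) (iv3 F23566) (iv1 F27012)
def n29218 : Q := act 5 n13896
theorem D29218 : act 5 n13896 = n29218 := rfl
theorem F46871 : act 3 n29218 = n13898 := d6_1 D29218 (iv5 D13898) D13896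
def n29219 : Q := act 6 n13896
theorem D29219 : act 6 n13896 = n29219 := rfl
theorem F46872 : act 3 n29219 = n13899 := d7_1 D29219 (iv6 D13899) D13896
def n29220 : Q := act 7 n13896
theorem D29220 : act 7 n13896 = n29220 := rfl
theorem F46873 : act 3 n29220 = n13900 := d8_1 D29220 (iv7 D13900) D13896
def n29221 : Q := act 0 n13897
theorem D29221 : act 0 n13897 = n29221 := rfl
theorem F46874 : act 4 n29221 = n29144 := d20_2 D13897 D29221 (iv3 D29144) (iv1 D13872) (iv3 D6597) (iv4 D2952) (iv1 D1333) D1334 D2956 D6606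
theorem F46875 : act 3 n29152 = n29221 := d5_5 F46874 (iv3 D29144) (iv4 F46761) (iv3 F46763) F46817
theorem F46876 : act 0 n15970 = n29144 := d20_1 (iv4 F25487) (iv4 F46874) (iv3 F46875) (iv1 D29152) F23142 F10695 F4646 D3491 (iv3 F26529) D13905
theorem F46877 : act 0 n29221 = n13902 := d20_10 (iv4 D13902) (iv1 D6607) F4647 (iv3 D2956) D2954 D6600 (iv4 F10910) D14086 F46817 F46875
def n29222 : Q := act 1 n13897
theorem D29222 : act 1 n13897 = n29222 := rfl
theorem F46878 : act 1 n29222 = n13902 := d15_1 D29222 (iv7 F46865) F46864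
theorem F46879 : act 3 n14087 = n29222 := d20_9 (iv4 D13897) (iv1 F26599) F21200 (iv3 D12768) F10942 (iv3 F23594) F23595 F46811 F46810 (iv1 D29222)
def n29223 : Q := act 5 n13897
theorem D29223 : act 5 n13897 = n29223 := rfl
def n29224 : Q := act 6 n13897
theorem D29224 : act 6 n13897 = n29224 := rfl
theorem F46880 : act 4 n29224 = n13899 := d10_1 D29224 (iv6 D13899) D13897
def n29225 : Q := act 7 n13897
theorem D29225 : act 7 n13897 = n29225 := rfl
theorem F46881 : act 2 n29225 = n13902 := d4_1 D29225 (iv7 F46865) F46864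
theorem F46882 : act 4 n29225 = n13900 := d11_1 D29225 (iv7 D13900) D13897
def n29226 : Q := act 0 n13898
theorem D29226 : act 0 n13898 = n29226 := rfl
def n29227 : Q := act 1 n13898
theorem D29227 : act 1 n13898 = n29227 := rfl
theorem F46883 : act 1 n29227 = n13903 := d15_1 D29227 (iv7 F46867) F46866
def n29228 : Q := act 4 n13898
theorem D29228 : act 4 n13898 = n29228 := rfl
def n29229 : Q := act 6 n13898
theorem D29229 : act 6 n13898 = n29229 := rfl
def n29230 : Q := act 7 n13898
theorem D29230 : act 7 n13898 = n29230 := rfl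
theorem F46884 : act 2 n29230 = n13903 := d4_1 D29230 (iv7 F46867) F46866
theorem F46885 : act 5 n29230 = n13900 := d13_1 D29230 (iv7 D13900) D13898
theorem F46886 : act 1 n13903 = n29226 := d15_0 (iv0 D29226) D29230 F46884
def n29231 : Q := act 0 n13899
theorem D29231 : act 0 n13899 = n29231 := rfl
def n29232 : Q := act 1 n13899
theorem D29232 : act 1 n13899 = n29232 := rfl
def n29233 : Q := act 5 n13899
theorem D29233 : act 5 n13899 = n29233 := rfl
theorem F46887 : act 0 n29233 = n15368 := d21_7 (iv5 F27225) (iv1 D7376) (iv5 D3384) (iv6 F4648) D6606 D13899 D29233 (iv5 D15368) (iv6 D7263) (iv1 F9226)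
theorem F46889 : act 0 n15368 = n29233 := d21_7 (iv5 F38254) (iv1 F38256) (iv5 F26968) (iv6 D12498) (iv1 F9221) D7263 D15368 (iv5 D29233) (iv6 D13899) (iv1 F26599)
theorem E5047 : n29232 = n26127 := ((c21_10 D29233 F46887 (iv5 D15368) (iv6 D7263) (iv1 F9226) D12502 (iv5 F41345) (iv1 F41389) (iv5 D26126) D26127 (iv1 D29232))).symm
theorem F46890 : act 0 n26127 = n13899 := (sb E5047 (iv1 D29232))
theorem E5048 : n29231 = n26127 := ((c15_4 (iv0 D29231) (iv0 F46890) F41393 (iv2 F41390))).symm
theorem F46891 : act 1 n26127 = n13899 := (sb E5048 (iv0 D29231))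
theorem F46892 : act 7 n13899 = n29213 := d15_2 (iv0 F46890) F46891 F46868
theorem F46893 : act 3 n26169 = n29224 := d20_5 F10699 F9560 (iv4 F9153) (iv3 F20678) D26169 F46880 (iv1 F46891) F41392 F41391 (iv1 F20640)
theorem F46894 : act 5 n15361 = n29227 := d21_0 (iv1 D29227) (iv5 D13898) D13899 (iv1 F46891) (iv6 D26127) D26126 (iv1 F41386) (iv5 F41372) (iv6 F41883) (iv1 F41885)
theorem F46895 : act 6 n24382 = n26169 := d7_0 F46893 (iv6 D29224) (iv3 F38229)
theorem E5049 : n13904 = n13900 := (c14_4 F46892 (iv6 D29213) (iv7 F23166) D13904 (iv7 D13900) D13899)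
theorem F46896 : act 6 n13900 = n6607 := (sb E5049 (iv6 D13904))
theorem F46897 : act 6 n13901 = n29220 := d7_2 F46896 D13901 F46873
theorem F46898 : act 6 n13902 = n29225 := d10_2 F46896 D13902 F46882
def n29234 : Q := act 0 n13901
theorem D29234 : act 0 n13901 = n29234 := rfl
def n29235 : Q := act 1 n13901
theorem D29235 : act 1 n13901 = n29235 := rfl
def n29236 : Q := act 2 n13901
theorem D29236 : act 2 n13901 = n29236 := rfl
def n29237 : Q := act 4 n13901
theorem D29237 : act 4 n13901 = n29237 := rfl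
theorem F46899 : act 0 n29237 = n24283 := d20_7 (iv4 D6591) F4696 D6040 D12768 F26598 D13901 D29237 F38058 (iv3 D11433) (iv1 F10691)
theorem F46900 : act 0 n26513 = n29237 := d20_1 (iv4 F42436) (iv4 D29237) (iv3 D13901) (iv1 D6607) (iv3 D2956) (iv4 D1334) D1332 D2949 D6594 (iv1 F26991)
theorem E5050 : n29235 = n29160 := ((c20_10 D29237 F46899 F38058 (iv3 D11433) (iv1 F10691) D13858 (iv4 F26244) F46827 (iv4 D29161) D29160 (iv1 D29235))).symm
theorem F46901 : act 0 n29160 = n13901 := (sb E5050 (iv1 D29235))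
def n29238 : Q := act 5 n13901
theorem D29238 : act 5 n13901 = n29238 := rfl
theorem F46902 : act 3 n29238 = n13903 := d6_1 D29238 (iv5 D13903) D13901
def n29239 : Q := act 5 n13902
theorem D29239 : act 5 n13902 = n29239 := rfl
def n29240 : Q := act 4 n13903
theorem D29240 : act 4 n13903 = n29240 := rfl
def n29241 : Q := act 6 n13903
theorem D29241 : act 6 n13903 = n29241 := rfl
def n29243 : Q := act 3 n13905
theorem D29243 : act 3 n13905 = n29243 := rfl
theorem F46904 : act 4 n29243 = n26510 := d5_2 F25487 D29243 (iv3 F42438) (iv4 D15971) D15970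
def n29246 : Q := act 3 n13906
theorem D29246 : act 3 n13906 = n29246 := rfl
theorem F46906 : act 4 n29246 = n25309 := d20_6 (iv4 D3014) (iv1 F2479) (iv4 F4649) (iv3 F10706) (iv1 F23169) D29246 (iv1 D25309) F19878 F9298 (iv1 F4985)
def n29247 : Q := act 4 n13906
theorem D29247 : act 4 n13906 = n29247 := rfl
theorem F46907 : act 3 n29247 = n24286 := d20_3 F10707 (iv1 F23169) D29247 (iv1 F38067) F21064 (iv4 F21070) D26510 (iv4 F46904) (iv3 D29243) (iv1 F23168)
theorem F46908 : act 0 n29144 = n29247 := d20_10 (iv4 D29247) (iv1 D13906) F10703 F26529 D7701 D16573 F26244 D29115 F46761 D29144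
def n29250 : Q := act 0 n13907
theorem D29250 : act 0 n13907 = n29250 := rfl
theorem F46909 : act 2 n13908 = n29250 := d15_3 (iv0 D29250) (iv0 F27199) (iv7 F38258)
theorem F46910 : act 1 n13912 = n29250 := d15_0 (iv0 D29250) (iv7 F38255) F38253
theorem F46911 : act 7 n29250 = n13909 := d15_2 F27206 F46910 (iv2 F27257)
theorem F46912 : act 5 n26298 = n29250 := d13_3 F46911 (iv5 F26968) D26298
def n29251 : Q := act 4 n13907
theorem D29251 : act 4 n13907 = n29251 := rfl
theorem F46914 : act 2 n29251 = n13910 := d1_1 D29251 (iv4 D13910) (iv2 F23170)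
def n29252 : Q := act 6 n13907
theorem D29252 : act 6 n13907 = n29252 := rfl
theorem F46915 : act 2 n29252 = n13911 := d3_1 D29252 (iv6 D13911) (iv2 F23170)
theorem F46916 : act 3 n29252 = n16579 := d7_1 D29252 (iv6 D16579) (iv3 F26597)
theorem F46917 : act 5 n29252 = n15675 := d12_1 D29252 (iv6 D15675) (iv5 D7374) (iv6 F10704) D13907
def n29253 : Q := act 3 n13908
theorem D29253 : act 3 n13908 = n29253 := rfl
def n29254 : Q := act 4 n13908
theorem D29254 : act 4 n13908 = n29254 := rfl
def n29255 : Q := act 6 n13908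
theorem D29255 : act 6 n13908 = n29255 := rfl
def n29256 : Q := act 3 n13909
theorem D29256 : act 3 n13909 = n29256 := rfl
theorem F46918 : act 5 n29256 = n26293 := d6_2 F26968 D29256 F41871
def n29257 : Q := act 4 n13909
theorem D29257 : act 4 n13909 = n29257 := rfl
def n29258 : Q := act 6 n13909
theorem D29258 : act 6 n13909 = n29258 := rfl
theorem F46919 : act 5 n29258 = n15680 := d12_1 D29258 (iv6 D15680) (iv5 F27212) D12498 F26968
def n29259 : Q := act 0 n13910
theorem D29259 : act 0 n13910 = n29259 := rfl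
def n29260 : Q := act 1 n13910
theorem D29260 : act 1 n13910 = n29260 := rfl
def n29261 : Q := act 3 n13910
theorem D29261 : act 3 n13910 = n29261 := rfl
theorem F46920 : act 4 n29261 = n13917 := d5_2 D13910 D29261 (iv3 D13917) (iv4 D6613) (iv3 F10705)
def n29262 : Q := act 5 n13910
theorem D29262 : act 5 n13910 = n29262 := rfl
def n29263 : Q := act 6 n13910
theorem D29263 : act 6 n13910 = n29263 := rfl
theorem F46921 : act 4 n29263 = n13911 := d10_1 D29263 (iv6 D13911) D13910
def n29264 : Q := act 7 n13910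
theorem D29264 : act 7 n13910 = n29264 := rfl
theorem F46922 : act 4 n29264 = n13912 := d11_1 D29264 (iv7 D13912) D13910
def n29265 : Q := act 0 n13911
theorem D29265 : act 0 n13911 = n29265 := rfl
def n29266 : Q := act 1 n13911
theorem D29266 : act 1 n13911 = n29266 := rfl
def n29267 : Q := act 7 n13911
theorem D29267 : act 7 n13911 = n29267 := rfl
theorem F46923 : act 3 n29267 = n13921 := d8_1 D29267 (iv7 D13921) (iv3 F23171)
theorem F46924 : act 5 n29267 = n15692 := d13_1 D29267 (iv7 D15692) (iv5 F23172)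
def n29268 : Q := act 6 n13912
theorem D29268 : act 6 n13912 = n29268 := rfl
theorem F46925 : act 3 n29268 = n13922 := d7_1 D29268 (iv6 D13922) (iv3 F23173)
def n29269 : Q := act 0 n13913
theorem D29269 : act 0 n13913 = n29269 := rfl
def n29270 : Q := act 1 n13913
theorem D29270 : act 1 n13913 = n29270 := rfl
def n29271 : Q := act 2 n13913
theorem D29271 : act 2 n13913 = n29271 := rfl
theorem F46926 : act 5 n29271 = n28170 := d2_2 (iv5 F23175) D29271 (iv2 D28170)
def n29272 : Q := act 4 n13913
theorem D29272 : act 4 n13913 = n29272 := rfl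
def n29273 : Q := act 6 n13913
theorem D29273 : act 6 n13913 = n29273 := rfl
theorem F46927 : act 3 n29273 = n13914 := d7_1 D29273 (iv6 D13914) D13913
def n29274 : Q := act 0 n13914
theorem D29274 : act 0 n13914 = n29274 := rfl
def n29275 : Q := act 1 n13914
theorem D29275 : act 1 n13914 = n29275 := rfl
def n29276 : Q := act 7 n13914
theorem D29276 : act 7 n13914 = n29276 := rfl
def n29277 : Q := act 0 n13915
theorem D29277 : act 0 n13915 = n29277 := rfl
def n29278 : Q := act 1 n13915
theorem D29278 : act 1 n13915 = n29278 := rfl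
def n29279 : Q := act 2 n13915
theorem D29279 : act 2 n13915 = n29279 := rfl
theorem F46928 : act 5 n29279 = n28173 := d2_2 (iv5 F23176) D29279 (iv2 D28173)
def n29280 : Q := act 4 n13915
theorem D29280 : act 4 n13915 = n29280 := rfl
def n29281 : Q := act 6 n13915
theorem D29281 : act 6 n13915 = n29281 := rfl
theorem F46929 : act 3 n29281 = n13916 := d7_1 D29281 (iv6 D13916) D13915
def n29282 : Q := act 0 n13916
theorem D29282 : act 0 n13916 = n29282 := rfl
def n29283 : Q := act 1 n13916
theorem D29283 : act 1 n13916 = n29283 := rfl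
def n29284 : Q := act 7 n13916
theorem D29284 : act 7 n13916 = n29284 := rfl
def n29285 : Q := act 0 n13917
theorem D29285 : act 0 n13917 = n29285 := rfl
def n29286 : Q := act 1 n13917
theorem D29286 : act 1 n13917 = n29286 := rfl
def n29287 : Q := act 2 n13917
theorem D29287 : act 2 n13917 = n29287 := rfl
def n29288 : Q := act 6 n13917
theorem D29288 : act 6 n13917 = n29288 := rfl
theorem F46930 : act 3 n29288 = n13918 := d7_1 D29288 (iv6 D13918) D13917
def n29289 : Q := act 0 n13918
theorem D29289 : act 0 n13918 = n29289 := rfl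
theorem F46931 : act 4 n29289 = n15993 := d18_3 (iv1 D13920) (iv4 F23177) D29289 (iv5 F42742) (iv4 F42745) (iv0 F29712) (iv4 F43125) (iv0 F46246) (iv5 F30463)
def n29290 : Q := act 1 n13918
theorem D29290 : act 1 n13918 = n29290 := rfl
theorem F46932 : act 4 n29290 = n15994 := d18_7 (iv1 F20988) (iv4 F29944) (iv1 D3810) (iv4 F5387) (iv5 F10710) (iv4 F23177) D29290 F42168 F42166
def n29291 : Q := act 5 n13918
theorem D29291 : act 5 n13918 = n29291 := rfl
def n29292 : Q := act 7 n13918
theorem D29292 : act 7 n13918 = n29292 := rfl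
theorem F46933 : act 4 n29292 = n13921 := d11_1 D29292 (iv7 D13921) (iv4 F23177)
def n29293 : Q := act 3 n13919
theorem D29293 : act 3 n13919 = n29293 := rfl
def n29294 : Q := act 4 n13919
theorem D29294 : act 4 n13919 = n29294 := rfl
theorem F46934 : act 1 n29294 = n26416 := d18_6 F42199 (iv4 F25899) F43770 (iv4 F46241) F46240 D29294 (iv4 D26416) D26415 (iv5 F42162)
def n29295 : Q := act 6 n13919
theorem D29295 : act 6 n13919 = n29295 := rfl
def n29296 : Q := act 3 n13920
theorem D29296 : act 3 n13920 = n29296 := rfl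
def n29297 : Q := act 4 n13920
theorem D29297 : act 4 n13920 = n29297 := rfl
theorem F46935 : act 0 n29297 = n26416 := d18_2 (iv1 F23628) D29297 (iv4 D26416) (iv5 D12603) F9300 D6200 F30457 F20901 (iv5 F23626)
def n29298 : Q := act 6 n13920
theorem D29298 : act 6 n13920 = n29298 := rfl
def n29299 : Q := act 6 n13921
theorem D29299 : act 6 n13921 = n29299 := rfl
theorem F46936 : act 7 n29299 = n13922 := d14_2 D13921 D29299 (iv6 D13922) (iv7 D6615) D6614
def n29300 : Q := act 0 n13922
theorem D29300 : act 0 n13922 = n29300 := rfl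
def n29301 : Q := act 1 n13922
theorem D29301 : act 1 n13922 = n29301 := rfl
def n29302 : Q := act 0 n13944
theorem D29302 : act 0 n13944 = n29302 := rfl
theorem F46937 : act 5 n29302 = n24342 := d21_2 D13944 D29302 (iv6 D24342) (iv1 F18750) (iv6 D6760) (iv5 F8184) (iv1 F8188) (iv5 F3654) D5517 (iv1 F19514)
theorem F46938 : act 1 n24852 = n29302 := d15_0 (iv0 D29302) (iv7 F26137) (iv2 F38917)
theorem F46939 : act 3 n13986 = n29302 := d6_3 F46937 F38162 (iv5 F23311)
theorem F46940 : act 7 n28806 = n29302 := d13_0 F46937 (iv7 F39707) (iv5 F46440)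
def n29303 : Q := act 1 n13944
theorem D29303 : act 1 n13944 = n29303 := rfl
theorem F46941 : act 1 n29303 = n24852 := d15_1 D29303 F38918 F38898
theorem F46942 : act 2 n28806 = n29303 := d15_3 F46941 F46938 (iv7 F46940)
theorem F46943 : act 5 n29303 = n25444 := d2_2 (iv5 F46440) F46942 F40226
def n29304 : Q := act 4 n13944
theorem D29304 : act 4 n13944 = n29304 := rfl
def n29305 : Q := act 6 n13944
theorem D29305 : act 6 n13944 = n29305 := rfl
theorem F46944 : act 3 n29305 = n13949 := d7_1 D29305 (iv6 D13949) (iv3 F23224)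
def n29306 : Q := act 4 n13946
theorem D29306 : act 4 n13946 = n29306 := rfl
theorem F46945 : act 2 n29306 = n28817 := d1_1 D29306 (iv4 D28817) F23229
theorem F46946 : act 0 n29306 = n24009 := d18_2 D13946 D29306 (iv4 D24009) (iv5 D11263) (iv4 D5193) F3509 (iv4 F7758) F7762 D6630
theorem F46947 : act 1 n29306 = n24001 := d18_6 F19045 F18000 (iv1 F10488) (iv4 F19887) (iv5 F23227) D29306 (iv4 D24001) D24000 F37521
theorem F46948 : act 0 n28755 = n29023 := d20_7 D24001 (iv1 F46947) (iv4 D29306) (iv3 F23230) (iv1 F22956) (iv3 F22961) D28755 (iv4 D29023) F37522 (iv1 D24000)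
def n29307 : Q := act 6 n13946
theorem D29307 : act 6 n13946 = n29307 := rfl
theorem F46949 : act 2 n29307 = n28818 := d3_1 D29307 (iv6 D28818) F23229
theorem F46950 : act 3 n29307 = n28742 := d7_1 D29307 (iv6 D28742) F23230
theorem F46951 : act 5 n29307 = n25322 := d12_1 D29307 (iv6 D25322) (iv5 D12022) D12023 (iv5 F23227)
def n29308 : Q := act 4 n13947
theorem D29308 : act 4 n13947 = n29308 := rfl
theorem F46952 : act 7 n29308 = n28817 := d11_2 (iv7 F23232) D29308 (iv4 D28817)
theorem F46953 : act 0 n29308 = n24001 := d18_2 (iv1 F23231) D29308 (iv4 D24001) (iv5 D11257) (iv4 D5188) (iv0 D2133) (iv4 F2461) D2973 D6633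
theorem F46954 : act 1 n29308 = n24009 := d18_6 (iv1 F19992) F19988 (iv1 F10496) (iv4 F18576) F23233 D29308 (iv4 D24009) (iv0 F23463) (iv5 D14059)
def n29309 : Q := act 0 n13948
theorem D29309 : act 0 n13948 = n29309 := rfl
theorem F46955 : act 4 n29309 = n24048 := d18_3 (iv1 D13947) D13948 D29309 F37615 F19899 F8836 (iv4 F8827) (iv0 F18578) F23233
theorem F46956 : act 1 n13952 = n29309 := d15_0 (iv0 D29309) (iv7 F37571) F37570
def n29310 : Q := act 1 n13948
theorem D29310 : act 1 n13948 = n29310 := rfl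
theorem F46957 : act 1 n29310 = n13952 := d15_1 D29310 (iv7 F37567) F37566
theorem F46958 : act 4 n29310 = n24049 := d18_7 F10253 F3517 (iv1 F4934) (iv4 F10246) D6630 D13948 D29310 F37620 (iv5 D11290)
def n29311 : Q := act 3 n13948
theorem D29311 : act 3 n13948 = n29311 := rfl
def n29312 : Q := act 5 n13948
theorem D29312 : act 5 n13948 = n29312 := rfl
theorem F46959 : act 4 n29312 = n24025 := d16_2 D13948 D29312 F37558 (iv4 D11770) (iv5 D5509) F10250 D6633 (iv7 F18359) F18358
theorem F46960 : act 0 n29312 = n24841 := d17_2 (iv1 D29310) D29312 F38885 F37706 F18455 (iv0 F10261) D11283 D24049 (iv4 F46958)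
theorem F46961 : act 1 n29312 = n24093 := d17_6 (iv1 D6636) (iv5 D2974) D2972 D6630 D13948 D29312 (iv5 D24093) (iv0 F23240) (iv4 D13959)
def n29313 : Q := act 6 n13948
theorem D29313 : act 6 n13948 = n29313 := rfl
theorem F46962 : act 4 n29313 = n13949 := d10_1 D29313 (iv6 D13949) D13948
def n29314 : Q := act 0 n13949
theorem D29314 : act 0 n13949 = n29314 := rfl
def n29315 : Q := act 1 n13949
theorem D29315 : act 1 n13949 = n29315 := rfl
def n29316 : Q := act 7 n13949
theorem D29316 : act 7 n13949 = n29316 := rfl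
def n29317 : Q := act 0 n13950
theorem D29317 : act 0 n13950 = n29317 := rfl
theorem F46963 : act 4 n29317 = n29077 := d18_1 D29317 (iv1 F46720) (iv4 D14276) (iv5 D6800) (iv4 F22484) (iv0 D6397) (iv4 F10442) (iv0 F19540) D13950
theorem F46964 : act 1 n28180 = n29317 := d15_0 (iv0 D29317) (iv7 F37561) (iv2 F45573)
theorem F46965 : act 3 n29317 = n28735 := d20_3 D13843 D29077 (iv4 F46963) (iv1 D28735) F22951 D13710 D28745 F46715 (iv3 D29074) (iv1 D13842)
def n29318 : Q := act 1 n13950
theorem D29318 : act 1 n13950 = n29318 := rfl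
theorem F46966 : act 1 n29318 = n28180 := d15_1 D29318 (iv7 F45600) F45598
theorem F46967 : act 5 n24344 = n29318 := d17_5 D6397 D13455 (iv1 F23310) F23311 (iv4 F38166) F46966 (iv5 D28180) (iv0 D13452) F10442
theorem F46968 : act 4 n29078 = n29318 := d18_7 (iv1 F22417) F22414 F19539 F10105 D6584 D13843 D29078 F46966 (iv5 D28180)
theorem F46969 : act 3 n29318 = n13971 := d20_3 D14276 (iv1 F46721) F46968 (iv1 F23270) F23008 D28200 (iv1 F46447) (iv4 F46710) (iv3 D29072) (iv1 F23116)
theorem F46970 : act 7 n28852 = n29318 := d8_0 F46969 (iv7 F23899) D28852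
theorem F46971 : act 2 n28852 = n29317 := d15_3 (iv0 D29317) D29318 (iv7 F46970)
def n29319 : Q := act 4 n13950
theorem D29319 : act 4 n13950 = n29319 := rfl
def n29320 : Q := act 6 n13950
theorem D29320 : act 6 n13950 = n29320 := rfl
theorem F46972 : act 3 n29320 = n13953 := d7_1 D29320 (iv6 D13953) (iv3 F23235)
def n29321 : Q := act 5 n13951
theorem D29321 : act 5 n13951 = n29321 := rfl
theorem F46973 : act 3 n29321 = n13954 := d6_1 D29321 (iv5 D13954) (iv3 F23236)
theorem F46974 : act 0 n24247 = n29321 := d21_1 D24247 (iv5 D29321) (iv6 D13951) F19540 (iv6 D6396) (iv5 F8433) F8435 (iv5 F8467) D11837 F19231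
def n29322 : Q := act 3 n13952
theorem D29322 : act 3 n13952 = n29322 := rfl
def n29323 : Q := act 5 n13952
theorem D29323 : act 5 n13952 = n29323 := rfl
theorem F46975 : act 4 n29323 = n24024 := d9_1 D29323 F37557 (iv4 D11431) (iv5 D5313) (iv4 F10246) D6630 D13948 D29312 F46959 F37558 (iv4 D11770) (iv5 D5509) F10250 D6633 D13952
theorem F46976 : act 0 n29323 = n24093 := d17_2 (iv1 F46956) D29323 (iv5 D24093) (iv4 D11313) (iv5 D5225) (iv0 F10253) D11290 F37616 (iv4 F46955)
theorem F46977 : act 1 n29323 = n24841 := d17_6 (iv1 F18376) F18370 (iv1 F7761) D6633 D13952 D29323 F38885 F37708 (iv4 D13956)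
def n29324 : Q := act 6 n13952
theorem D29324 : act 6 n13952 = n29324 := rfl
theorem F46978 : act 4 n29324 = n13953 := d10_1 D29324 (iv6 D13953) D13952
def n29325 : Q := act 0 n13953
theorem D29325 : act 0 n13953 = n29325 := rfl
def n29326 : Q := act 1 n13953
theorem D29326 : act 1 n13953 = n29326 := rfl
theorem F46979 : act 6 n28721 = n29326 := d21_3 (iv5 F22870) (iv1 F39756) F46328 (iv1 D29326) (iv6 D13953) (iv5 D6633) (iv1 D2973) D2974 F4661 D6532
theorem F46980 : act 2 n29326 = n28744 := d3_1 F46979 (iv6 D28744) (iv2 F46329)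
theorem F46981 : act 3 n29326 = n24911 := d7_1 F46979 F39059 (iv3 F46330)
theorem F46982 : act 5 n29326 = n24906 := d12_1 F46979 (iv6 D24906) (iv5 F24652) (iv6 F39754) F46328
def n29327 : Q := act 5 n13953
theorem D29327 : act 5 n13953 = n29327 := rfl
theorem F46983 : act 6 n29327 = n13954 := d12_2 D13953 D29327 (iv5 D13954) (iv6 D6634) D6633
def n29328 : Q := act 7 n13953
theorem D29328 : act 7 n13953 = n29328 := rfl
theorem F46984 : act 1 n28744 = n29328 := d15_1 (iv0 F46379) (iv7 D29328) (iv2 F37572)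
def n29329 : Q := act 4 n13954
theorem D29329 : act 4 n13954 = n29329 := rfl
theorem F46985 : act 2 n29329 = n28999 := d1_1 D29329 F46630 F37573
theorem F46986 : act 7 n29329 = n29000 := d11_2 F37939 D29329 F46633
theorem F46987 : act 0 n29329 = n14057 := d18_2 (iv1 F23238) D29329 (iv4 D14057) (iv5 D6683) (iv4 D3005) (iv0 F10048) (iv4 F8749) F8752 D12009
theorem F46988 : act 1 n29329 = n25300 := d18_6 (iv1 D11341) F10018 D5446 (iv4 F10756) D13954 D29329 (iv4 D25300) F23455 F23454
def n29330 : Q := act 4 n13955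
theorem D29330 : act 4 n13955 = n29330 := rfl
theorem F46989 : act 7 n29330 = n14181 := d11_2 F37589 D29330 (iv4 F37590)
theorem F46990 : act 0 n29330 = n14184 := d18_2 (iv1 F38927) D29330 F23695 F10994 (iv4 F8462) (iv0 F10310) (iv4 F10753) F19514 D11783
theorem F46991 : act 1 n29330 = n14155 := d18_6 (iv1 F19495) F19498 F23756 (iv4 F40229) F40230 D29330 (iv4 D14155) (iv0 F18896) (iv5 D11587)
theorem F46992 : act 2 n29330 = n14180 := d15_3 (iv0 D14180) D14181 (iv7 F46989)
theorem F46993 : act 4 n14180 = n24847 := d1_2 D29330 F46992 (iv2 F38903)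
def n29331 : Q := act 6 n13955
theorem D29331 : act 6 n13955 = n29331 := rfl
theorem F46994 : act 3 n29331 = n13957 := d7_1 D29331 (iv6 D13957) D13955
def n29332 : Q := act 3 n13956
theorem D29332 : act 3 n13956 = n29332 := rfl
def n29333 : Q := act 5 n13956
theorem D29333 : act 5 n13956 = n29333 := rfl
theorem F46995 : act 4 n29333 = n24021 := d16_2 D13956 D29333 (iv5 D24021) F18354 (iv5 F8414) (iv4 F18021) F18022 (iv7 F18373) F18374
def n29334 : Q := act 6 n13956
theorem D29334 : act 6 n13956 = n29334 := rfl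
theorem F46996 : act 4 n29334 = n13957 := d10_1 D29334 (iv6 D13957) D13956
def n29335 : Q := act 0 n13957
theorem D29335 : act 0 n13957 = n29335 := rfl
def n29336 : Q := act 1 n13957
theorem D29336 : act 1 n13957 = n29336 := rfl
def n29337 : Q := act 7 n13957
theorem D29337 : act 7 n13957 = n29337 := rfl
def n29338 : Q := act 6 n13958
theorem D29338 : act 6 n13958 = n29338 := rfl
theorem F46997 : act 3 n29338 = n13960 := d7_1 D29338 (iv6 D13960) D13958
def n29339 : Q := act 3 n13959
theorem D29339 : act 3 n13959 = n29339 := rfl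
def n29340 : Q := act 5 n13959
theorem D29340 : act 5 n13959 = n29340 := rfl
theorem F46998 : act 4 n29340 = n24019 := d9_1 D29340 (iv5 D24019) F18352 (iv5 F8838) (iv4 F20010) F20011 D13956 D29333 F46995 (iv5 D24021) F18354 (iv5 F8414) (iv4 F18021) F18022 D13959
def n29341 : Q := act 6 n13959
theorem D29341 : act 6 n13959 = n29341 := rfl
theorem F46999 : act 4 n29341 = n13960 := d10_1 D29341 (iv6 D13960) D13959
def n29342 : Q := act 0 n13960
theorem D29342 : act 0 n13960 = n29342 := rfl
def n29343 : Q := act 1 n13960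
theorem D29343 : act 1 n13960 = n29343 := rfl
def n29344 : Q := act 7 n13960
theorem D29344 : act 7 n13960 = n29344 := rfl
def n29345 : Q := act 3 n13961
theorem D29345 : act 3 n13961 = n29345 := rfl
def n29346 : Q := act 5 n13961
theorem D29346 : act 5 n13961 = n29346 := rfl
theorem F47000 : act 4 n29346 = n24016 := d16_2 F36901 D29346 (iv5 D24016) (iv4 D11268) F9966 (iv4 F8820) F18454 (iv7 F18475) F18476
def n29347 : Q := act 6 n13961
theorem D29347 : act 6 n13961 = n29347 := rfl
theorem F47001 : act 4 n29347 = n24079 := d10_1 D29347 (iv6 D24079) F36901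
def n29348 : Q := act 3 n13962
theorem D29348 : act 3 n13962 = n29348 := rfl
def n29349 : Q := act 5 n13962
theorem D29349 : act 5 n13962 = n29349 := rfl
theorem F47002 : act 4 n29349 = n24014 := d9_1 D29349 (iv5 D24014) (iv4 D11267) (iv5 F18191) (iv4 F36896) F36897 F36901 D29346 F47000 (iv5 D24016) (iv4 D11268) F9966 (iv4 F8820) F18454 (iv4 F23241)
def n29350 : Q := act 6 n13962
theorem D29350 : act 6 n13962 = n29350 := rfl
theorem F47003 : act 4 n29350 = n24080 := d10_1 D29350 (iv6 D24080) (iv4 F23241)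
def n29351 : Q := act 0 n13963
theorem D29351 : act 0 n13963 = n29351 := rfl
def n29352 : Q := act 1 n13963
theorem D29352 : act 1 n13963 = n29352 := rfl
def n29353 : Q := act 2 n13963
theorem D29353 : act 2 n13963 = n29353 := rfl
theorem F47004 : act 4 n29353 = n14024 := d1_2 (iv4 F23242) D29353 (iv2 D14024)
theorem F47005 : act 6 n29353 = n28793 := d3_2 (iv6 F23243) D29353 (iv2 D28793)
def n29354 : Q := act 5 n13963
theorem D29354 : act 5 n13963 = n29354 := rfl
theorem F47006 : act 3 n29354 = n13964 := d6_1 D29354 (iv5 D13964) D13963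
def n29355 : Q := act 7 n13963
theorem D29355 : act 7 n13963 = n29355 := rfl
theorem F47007 : act 3 n29355 = n13965 := d8_1 D29355 (iv7 D13965) D13963
theorem F47008 : act 4 n29355 = n14026 := d11_1 D29355 (iv7 D14026) (iv4 F23242)
def n29356 : Q := act 0 n13964
theorem D29356 : act 0 n13964 = n29356 := rfl
theorem F47009 : act 5 n29356 = n24001 := d17_3 (iv1 D13962) D13964 D29356 (iv4 D24001) (iv5 D11257) F10228 D5220 D11304 (iv4 F23241)
theorem F47010 : act 4 n29356 = n24012 := d18_1 D29356 F37543 D24235 F37992 F37732 F18478 F36901 (iv0 D13961) D13964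
theorem F47011 : act 1 n24026 = n29356 := d15_0 (iv0 D29356) F37691 F37689
def n29357 : Q := act 1 n13964
theorem D29357 : act 1 n13964 = n29357 := rfl
theorem F47012 : act 1 n29357 = n24026 := d15_1 D29357 F37607 F37605
theorem F47013 : act 5 n29357 = n24009 := d17_7 (iv1 F23228) (iv5 D6633) (iv1 D2973) D2974 D6637 D13964 D29357 (iv0 F46946) (iv4 D29306)
theorem F47014 : act 4 n29357 = n24007 := d17_9 (iv1 F38893) F38891 (iv1 F19132) D24016 (iv4 F47000) (iv5 D29346) (iv0 D13961) D13964 D29357
def n29358 : Q := act 6 n13964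
theorem D29358 : act 6 n13964 = n29358 := rfl
theorem F47015 : act 5 n29358 = n28799 := d12_1 D29358 (iv6 D28799) (iv5 D13730) (iv6 F10757) D13964
def n29359 : Q := act 6 n13965
theorem D29359 : act 6 n13965 = n29359 := rfl
theorem F47016 : act 4 n29359 = n13966 := d10_1 D29359 (iv6 D13966) (iv4 F23244)
theorem F47017 : act 7 n29359 = n28801 := d14_2 D13965 D29359 (iv6 D28801) (iv7 D13731) (iv6 F10757)
def n29360 : Q := act 0 n13966
theorem D29360 : act 0 n13966 = n29360 := rfl
theorem F47018 : act 1 n28732 = n29360 := d15_0 (iv0 D29360) F23247 (iv2 F46357)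
def n29361 : Q := act 1 n13966
theorem D29361 : act 1 n13966 = n29361 := rfl
theorem F47019 : act 1 n29361 = n28732 := d15_1 D29361 F46360 F37613
def n29362 : Q := act 5 n13967
theorem D29362 : act 5 n13967 = n29362 := rfl
theorem F47020 : act 2 n29362 = n27930 := d2_1 D29362 F45113 (iv2 F23248)
theorem F47021 : act 7 n29362 = n23784 := d13_2 (iv7 F23250) D29362 (iv5 D23784)
theorem F47022 : act 0 n29362 = n27928 := d17_2 F23252 D29362 (iv5 F45105) (iv4 F38382) (iv5 F38385) F40701 F40699 (iv0 F20243) (iv4 F22131)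
theorem F47023 : act 1 n29362 = n27927 := d17_6 F24196 F19068 (iv1 F23256) (iv5 D13968) D13967 D29362 (iv5 F46392) (iv0 D28757) F22963
def n29363 : Q := act 4 n13968
theorem D29363 : act 4 n13968 = n29363 := rfl
theorem F47024 : act 2 n29363 = n28848 := d1_1 D29363 (iv4 D28848) (iv2 F23253)
theorem F47025 : act 7 n29363 = n23785 := d11_2 (iv7 F23254) D29363 (iv4 D23785)
def n29364 : Q := act 6 n13968
theorem D29364 : act 6 n13968 = n29364 := rfl
theorem F47026 : act 2 n29364 = n28849 := d3_1 D29364 (iv6 D28849) (iv2 F23253)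
theorem F47027 : act 5 n29364 = n29364 := d12_1 D29364 (iv6 D29364) (iv5 D13968) F19453 D13968
theorem F47028 : act 7 n29364 = n28194 := d14_2 (iv7 F23254) D29364 (iv6 D28194) (iv7 D13458) (iv6 F18083)
def n29365 : Q := act 4 n13969
theorem D29365 : act 4 n13969 = n29365 := rfl
theorem F47029 : act 2 n29365 = n13973 := d1_1 D29365 (iv4 D13973) (iv2 F23258)
theorem F47030 : act 7 n29365 = n28850 := d11_2 (iv7 F23260) D29365 (iv4 D28850)
theorem F47031 : act 0 n29365 = n28858 := d18_2 (iv1 F23266) D29365 (iv4 F46662) F46661 F38314 F20319 (iv4 F19065) D24751 F38743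
theorem F47032 : act 1 n29365 = n28857 := d15_0 (iv0 D28857) (iv7 F23272) (iv2 F47029)
def n29366 : Q := act 6 n13969
theorem D29366 : act 6 n13969 = n29366 := rfl
theorem F47033 : act 2 n29366 = n13974 := d3_1 D29366 (iv6 D13974) (iv2 F23258)
theorem F47034 : act 3 n29366 = n28186 := d7_1 D29366 (iv6 D28186) (iv3 F23259)
theorem F47035 : act 5 n29366 = n28044 := d12_1 D29366 (iv6 D28044) F22246 F19856 D13969
def n29367 : Q := act 1 n13970
theorem D29367 : act 1 n13970 = n29367 := rfl
theorem F47036 : act 1 n29367 = n14304 := d15_1 D29367 F23892 (iv2 F23267)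
theorem F47037 : act 7 n29367 = n14343 := d15_2 (iv0 F23502) D29367 (iv2 F23963)
theorem F47038 : act 5 n29367 = n24138 := d17_7 (iv1 F38748) F23902 (iv1 D13972) (iv5 D6643) D6642 D13970 D29367 F37826 (iv4 F38746)
theorem F47039 : act 2 n14344 = n29367 := d2_3 F47038 F37829 F23967
theorem F47040 : act 6 n14414 = n29367 := d12_0 F47038 (iv6 F37828) F22285 D24646 F38647
def n29368 : Q := act 4 n13970
theorem D29368 : act 4 n13970 = n29368 := rfl
theorem F47041 : act 2 n29368 = n14345 := d1_1 D29368 (iv4 D14345) (iv2 F23267)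
theorem F47042 : act 7 n29368 = n14347 := d11_2 (iv7 F23269) D29368 (iv4 D14347)
def n29369 : Q := act 4 n13971
theorem D29369 : act 4 n13971 = n29369 := rfl
theorem F47043 : act 2 n29369 = n28855 := d1_1 D29369 (iv4 D28855) (iv2 F23897)
theorem F47044 : act 7 n29369 = n28853 := d11_2 F23899 D29369 (iv4 D28853)
def n29370 : Q := act 6 n13971
theorem D29370 : act 6 n13971 = n29370 := rfl
theorem F47045 : act 2 n29370 = n28856 := d3_1 D29370 (iv6 D28856) (iv2 F23897)
def n29371 : Q := act 3 n13972
theorem D29371 : act 3 n13972 = n29371 := rfl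
theorem F47046 : act 2 n29371 = n28735 := d0_1 D29371 (iv3 F46965) (iv2 F46971) (iv3 D28852) F23901
theorem F47047 : act 5 n29371 = n24768 := d6_2 F23902 D29371 (iv3 D24768)
theorem F47048 : act 7 n29371 = n28734 := d8_2 (iv7 F23900) D29371 (iv3 F46366)
theorem F47049 : act 0 n24415 = n29371 := d17_2 (iv1 F18848) D24415 F47047 F38761 F24201 (iv0 D14492) (iv5 D6923) F19450 (iv4 F18845)
theorem F47050 : act 0 n29371 = n24413 := d21_7 D24515 (iv1 F39003) (iv5 D24875) D24876 F39215 F38764 (iv5 F47047) (iv5 D24413) D24414 F38286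
def n29372 : Q := act 4 n13972
theorem D29372 : act 4 n13972 = n29372 := rfl
theorem F47051 : act 2 n29372 = n28853 := d1_1 D29372 (iv4 D28853) F23901
theorem F47052 : act 7 n29372 = n28855 := d11_2 (iv7 F23900) D29372 (iv4 D28855)
def n29373 : Q := act 6 n13972
theorem D29373 : act 6 n13972 = n29373 := rfl
theorem F47053 : act 2 n29373 = n28854 := d3_1 D29373 (iv6 D28854) F23901
theorem F47054 : act 0 n29373 = n13988 := d21_4 (iv5 F38747) (iv1 F38748) F23902 D29373 (iv6 D13988) (iv5 D6651) F19538 D6399 (iv6 F18083) (iv1 F23339)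
def n29374 : Q := act 0 n13973
theorem D29374 : act 0 n13973 = n29374 := rfl
theorem F47055 : act 1 n28850 = n29374 := d15_0 (iv0 D29374) F23272 (iv2 F46486)
def n29375 : Q := act 1 n13973
theorem D29375 : act 1 n13973 = n29375 := rfl
theorem F47056 : act 1 n29375 = n28850 := d15_1 D29375 (iv7 F47030) F47029
def n29376 : Q := act 3 n13973
theorem D29376 : act 3 n13973 = n29376 := rfl
theorem F47057 : act 4 n29376 = n13979 := d5_2 D13973 D29376 (iv3 D13979) (iv4 D6646) (iv3 F10772)
theorem F47058 : act 7 n29376 = n28859 := d8_2 (iv7 F23272) D29376 (iv3 D28859)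
def n29377 : Q := act 5 n13973
theorem D29377 : act 5 n13973 = n29377 := rfl
theorem F47059 : act 7 n29377 = n28860 := d13_2 (iv7 F23272) D29377 (iv5 D28860)
def n29378 : Q := act 6 n13973
theorem D29378 : act 6 n13973 = n29378 := rfl
theorem F47060 : act 4 n29378 = n13974 := d10_1 D29378 (iv6 D13974) D13973
def n29379 : Q := act 0 n13974
theorem D29379 : act 0 n13974 = n29379 := rfl
def n29380 : Q := act 1 n13974
theorem D29380 : act 1 n13974 = n29380 := rfl
def n29381 : Q := act 7 n13974
theorem D29381 : act 7 n13974 = n29381 := rfl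
theorem F47061 : act 3 n29381 = n13984 := d8_1 D29381 (iv7 D13984) (iv3 F23273)
theorem F47062 : act 5 n29381 = n28050 := d13_1 D29381 (iv7 D28050) (iv5 F23274)
theorem F47063 : act 6 n29381 = n28864 := d14_1 D29381 (iv7 D28864) (iv6 D13756) (iv7 F10773) D13974
def n29382 : Q := act 4 n13975
theorem D29382 : act 4 n13975 = n29382 := rfl
theorem F47064 : act 2 n29382 = n28741 := d1_1 D29382 (iv4 D28741) (iv2 F23275)
theorem F47065 : act 7 n29382 = n28743 := d11_2 (iv7 F23277) D29382 (iv4 D28743)
def n29383 : Q := act 6 n13975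
theorem D29383 : act 6 n13975 = n29383 := rfl
theorem F47066 : act 2 n29383 = n28742 := d3_1 D29383 (iv6 D28742) (iv2 F23275)
theorem F47067 : act 3 n29383 = n13977 := d7_1 D29383 (iv6 D13977) D13975
theorem F47068 : act 5 n29383 = n24367 := d12_1 D29383 (iv6 D24367) (iv5 D11486) D11487 (iv5 F23276)
def n29384 : Q := act 3 n13976
theorem D29384 : act 3 n13976 = n29384 := rfl
theorem F47069 : act 7 n29384 = n28825 := d8_2 (iv7 F23281) D29384 (iv3 D28825)
def n29385 : Q := act 6 n13976
theorem D29385 : act 6 n13976 = n29385 := rfl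
theorem F47070 : act 2 n29385 = n28821 := d3_1 D29385 (iv6 D28821) (iv2 F23280)
theorem F47071 : act 4 n29385 = n13977 := d10_1 D29385 (iv6 D13977) D13976
def n29386 : Q := act 0 n13977
theorem D29386 : act 0 n13977 = n29386 := rfl
def n29387 : Q := act 1 n13977
theorem D29387 : act 1 n13977 = n29387 := rfl
theorem F47072 : act 1 n29387 = n28824 := d15_1 D29387 (iv7 D28824) (iv2 F23284)
def n29388 : Q := act 7 n13977
theorem D29388 : act 7 n13977 = n29388 := rfl
theorem F47073 : act 2 n29388 = n28824 := d4_1 D29388 (iv7 D28824) (iv2 F23284)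
theorem F47074 : act 5 n29388 = n14821 := d13_1 D29388 F24485 (iv5 F23285)
theorem F47075 : act 6 n29388 = n13995 := d14_1 D29388 F23329 (iv6 D13741) F10777 D13977
theorem F47076 : act 1 n28824 = n29386 := d15_0 (iv0 D29386) D29388 F47073
theorem F47077 : act 1 n28823 = n29388 := d15_1 D28823 (iv7 D29388) F23284
theorem F47078 : act 0 n28822 = n29388 := d21_4 F10621 D13799 D28989 F46610 F47075 (iv5 F37139) (iv1 F37142) D28308 F45816 (iv1 F23048)
def n29389 : Q := act 3 n13978
theorem D29389 : act 3 n13978 = n29389 := rfl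
theorem F47079 : act 7 n29389 = n28819 := d8_2 (iv7 F23287) D29389 (iv3 D28819)
def n29390 : Q := act 0 n13979
theorem D29390 : act 0 n13979 = n29390 := rfl
theorem F47080 : act 1 n28870 = n29390 := d15_0 (iv0 D29390) F23290 D28870
def n29391 : Q := act 1 n13979
theorem D29391 : act 1 n13979 = n29391 := rfl
def n29392 : Q := act 2 n13979
theorem D29392 : act 2 n13979 = n29392 := rfl
theorem F47081 : act 3 n29392 = n28835 := d0_2 D13979 D29392 (iv2 D28835) (iv3 D13744) (iv2 F10782)
theorem F47082 : act 7 n29392 = n28870 := d4_2 (iv7 F23290) D29392 (iv2 D28870)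
theorem F47083 : act 1 n29392 = n28868 := d15_0 (iv0 D28868) (iv7 F23290) D29392
theorem F47084 : act 1 n29391 = n28870 := d15_1 D29391 (iv7 F47082) (iv2 D29392)
theorem F47085 : act 1 n28869 = n29392 := d15_1 D28869 F47082 (iv2 D28870)
def n29393 : Q := act 5 n13979
theorem D29393 : act 5 n13979 = n29393 := rfl
theorem F47086 : act 3 n29393 = n13980 := d6_1 D29393 (iv5 D13980) D13979
theorem F47087 : act 7 n29393 = n28871 := d13_2 (iv7 F23290) D29393 (iv5 D28871)
def n29394 : Q := act 6 n13979
theorem D29394 : act 6 n13979 = n29394 := rfl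
theorem F47088 : act 3 n29394 = n13981 := d7_1 D29394 (iv6 D13981) D13979
def n29395 : Q := act 6 n13980
theorem D29395 : act 6 n13980 = n29395 := rfl
theorem F47089 : act 2 n29395 = n28838 := d3_1 D29395 (iv6 D28838) (iv2 F23291)
theorem F47090 : act 4 n29395 = n14139 := d10_1 D29395 (iv6 D14139) (iv4 F23293)
def n29396 : Q := act 0 n13981
theorem D29396 : act 0 n13981 = n29396 := rfl
def n29397 : Q := act 1 n13981
theorem D29397 : act 1 n13981 = n29397 := rfl
theorem F47091 : act 1 n29397 = n28842 := d15_1 D29397 (iv7 D28842) (iv2 F23296)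
def n29398 : Q := act 5 n13981
theorem D29398 : act 5 n13981 = n29398 := rfl
theorem F47092 : act 2 n29398 = n28841 := d2_1 D29398 (iv5 D28841) (iv2 F23296)
def n29399 : Q := act 7 n13981
theorem D29399 : act 7 n13981 = n29399 := rfl
theorem F47093 : act 2 n29399 = n28842 := d4_1 D29399 (iv7 D28842) (iv2 F23296)
theorem F47094 : act 4 n29399 = n13984 := d11_1 D29399 (iv7 D13984) (iv4 F23297)
theorem F47095 : act 6 n29399 = n28876 := d14_1 D29399 (iv7 D28876) (iv6 D13762) (iv7 F10783) D13981
theorem F47096 : act 1 n28842 = n29396 := d15_0 (iv0 D29396) D29399 F47093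
theorem F47097 : act 1 n28840 = n29399 := d15_1 D28840 (iv7 D29399) F23296
theorem F47098 : act 1 n29399 = n28839 := d15_0 (iv0 D28839) D28842 (iv2 F47093)
def n29400 : Q := act 3 n13982
theorem D29400 : act 3 n13982 = n29400 := rfl
theorem F47099 : act 5 n29400 = n24793 := d6_2 (iv5 F23299) D29400 (iv3 D24793)
theorem F47100 : act 6 n29400 = n28843 := d7_2 (iv6 F23298) D29400 (iv3 D28843)
theorem F47101 : act 7 n29400 = n28845 := d8_2 (iv7 F45362) D29400 (iv3 D28845)
def n29401 : Q := act 4 n13982
theorem D29401 : act 4 n13982 = n29401 := rfl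
theorem F47102 : act 2 n29401 = n28844 := d1_1 D29401 (iv4 D28844) F45361
theorem F47103 : act 6 n29401 = n28844 := d10_2 (iv6 F23298) D29401 (iv4 D28844)
theorem F47104 : act 7 n29401 = n28846 := d11_2 (iv7 F45362) D29401 (iv4 D28846)
def n29402 : Q := act 3 n13983
theorem D29402 : act 3 n13983 = n29402 := rfl
theorem F47105 : act 5 n29402 = n24790 := d6_2 F23301 D29402 (iv3 D24790)
theorem F47106 : act 7 n29402 = n28843 := d8_2 F45359 D29402 (iv3 D28843)
def n29403 : Q := act 4 n13983
theorem D29403 : act 4 n13983 = n29403 := rfl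
theorem F47107 : act 2 n29403 = n28846 := d1_1 D29403 (iv4 D28846) (iv2 F45360)
theorem F47108 : act 7 n29403 = n28844 := d11_2 F45359 D29403 (iv4 D28844)
def n29404 : Q := act 6 n13983
theorem D29404 : act 6 n13983 = n29404 := rfl
theorem F47109 : act 2 n29404 = n28847 := d3_1 D29404 (iv6 D28847) (iv2 F45360)
theorem F47110 : act 5 n29404 = n28847 := d12_1 D29404 (iv6 D28847) (iv5 F23002) (iv6 F23003) F23301
theorem F47111 : act 7 n29404 = n28847 := d14_2 F45359 D29404 (iv6 D28847) (iv7 F45362) F23298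
theorem F47112 : act 0 n28989 = n28847 := d21_1 D28989 (iv5 F47110) (iv6 D29404) (iv1 D13983) (iv6 D6647) (iv5 D2979) (iv1 F2468) (iv5 F4519) D6563 D13799
theorem F47113 : act 0 n28908 = n28309 := d21_1 D28908 (iv5 F46460) (iv6 F46610) F47112 (iv6 D28847) (iv5 F23002) (iv1 F19759) (iv5 F23034) (iv6 F23352) (iv1 F23354)
def n29405 : Q := act 3 n13985
theorem D29405 : act 3 n13985 = n29405 := rfl
theorem F47114 : act 7 n29405 = n28754 := d8_2 (iv7 F23867) D29405 (iv3 F46386)
theorem F47115 : act 4 n29405 = n29026 := d20_6 D13817 F23079 (iv4 D6653) (iv3 F10793) D13985 D29405 (iv1 D29026) (iv4 D13814) F10628 D6570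
theorem F47116 : act 0 n28175 = n29405 := d18_0 F47115 (iv1 D29026) (iv4 D13814) (iv5 D6569) (iv4 F10622) F19531 (iv4 F10440) D13449 D28175
theorem F47117 : act 1 n28174 = n29405 := d15_0 (iv0 F47116) F45556 (iv2 F45551)
theorem F47118 : act 2 n29405 = n28753 := d15_3 (iv0 D28753) D28754 (iv7 F47114)
theorem F47119 : act 3 n28753 = n29303 := d0_2 D29405 F47118 (iv2 F46942) (iv3 D28806) (iv2 F23869)
def n29406 : Q := act 4 n13985
theorem D29406 : act 4 n13985 = n29406 := rfl
theorem F47120 : act 2 n29406 = n28807 := d1_1 D29406 (iv4 D28807) (iv2 F23869)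
theorem F47121 : act 7 n29406 = n28804 := d11_2 (iv7 F23867) D29406 (iv4 D28804)
def n29407 : Q := act 4 n13986
theorem D29407 : act 4 n13986 = n29407 := rfl
theorem F47122 : act 2 n29407 = n28804 := d1_1 D29407 (iv4 D28804) F23865
theorem F47123 : act 7 n29407 = n28807 := d11_2 F23868 D29407 (iv4 D28807)
def n29408 : Q := act 6 n13986
theorem D29408 : act 6 n13986 = n29408 := rfl
theorem F47124 : act 2 n29408 = n28805 := d3_1 D29408 (iv6 D28805) F23865
theorem F47125 : act 5 n29408 = n24346 := d12_1 D29408 (iv6 D24346) (iv5 D11473) D11474 (iv5 F23311)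
def n29409 : Q := act 0 n13987
theorem D29409 : act 0 n13987 = n29409 := rfl
theorem F47126 : act 1 n28185 = n29409 := d15_0 (iv0 D29409) F23312 (iv2 F45588)
def n29410 : Q := act 1 n13987
theorem D29410 : act 1 n13987 = n29410 := rfl
theorem F47127 : act 1 n29410 = n28185 := d15_1 D29410 (iv7 F45621) F45620
def n29411 : Q := act 3 n13987
theorem D29411 : act 3 n13987 = n29411 := rfl
theorem F47128 : act 4 n29411 = n13992 := d5_2 D13987 D29411 (iv3 D13992) (iv4 D6653) (iv3 F10793)
theorem F47129 : act 7 n29411 = n28811 := d8_2 (iv7 F23312) D29411 (iv3 D28811)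
def n29412 : Q := act 5 n13987
theorem D29412 : act 5 n13987 = n29412 := rfl
theorem F47130 : act 7 n29412 = n28812 := d13_2 (iv7 F23312) D29412 (iv5 D28812)
def n29413 : Q := act 6 n13987
theorem D29413 : act 6 n13987 = n29413 := rfl
theorem F47131 : act 4 n29413 = n13988 := d10_1 D29413 (iv6 D13988) D13987
def n29414 : Q := act 0 n13988
theorem D29414 : act 0 n13988 = n29414 := rfl
def n29415 : Q := act 5 n13988
theorem D29415 : act 5 n13988 = n29415 := rfl
theorem F47132 : act 3 n29415 = n13996 := d6_1 D29415 (iv5 D13996) (iv3 F23313)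
theorem F47133 : act 6 n29415 = n13991 := d12_2 D13988 D29415 (iv5 D13991) (iv6 D6652) D6651
def n29416 : Q := act 7 n13988
theorem D29416 : act 7 n13988 = n29416 := rfl
theorem F47134 : act 3 n29416 = n13997 := d8_1 D29416 (iv7 D13997) (iv3 F23313)
theorem F47135 : act 6 n29416 = n28816 := d14_1 D29416 (iv7 D28816) (iv6 D13736) (iv7 F10794) D13988
theorem F47136 : act 1 n28854 = n29416 := d15_1 (iv0 F46494) (iv7 D29416) (iv2 F45622)
def n29417 : Q := act 4 n13991
theorem D29417 : act 4 n13991 = n29417 := rfl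
def n29418 : Q := act 0 n13992
theorem D29418 : act 0 n13992 = n29418 := rfl
theorem F47137 : act 1 n28835 = n29418 := d15_0 (iv0 D29418) F23315 D28835
def n29419 : Q := act 1 n13992
theorem D29419 : act 1 n13992 = n29419 := rfl
def n29420 : Q := act 2 n13992
theorem D29420 : act 2 n13992 = n29420 := rfl
theorem F47138 : act 3 n29420 = n28870 := d0_2 D13992 D29420 (iv2 D28870) (iv3 D13760) (iv2 F10797)
theorem F47139 : act 7 n29420 = n28835 := d4_2 (iv7 F23315) D29420 (iv2 D28835)
theorem F47140 : act 1 n29420 = n28833 := d15_0 (iv0 D28833) (iv7 F23315) D29420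
theorem F47141 : act 1 n29419 = n28835 := d15_1 D29419 (iv7 F47139) (iv2 D29420)
theorem F47142 : act 1 n28834 = n29420 := d15_1 D28834 F47139 (iv2 D28835)
def n29421 : Q := act 5 n13992
theorem D29421 : act 5 n13992 = n29421 := rfl
theorem F47143 : act 3 n29421 = n13993 := d6_1 D29421 (iv5 D13993) D13992
theorem F47144 : act 7 n29421 = n28836 := d13_2 (iv7 F23315) D29421 (iv5 D28836)
def n29422 : Q := act 6 n13992
theorem D29422 : act 6 n13992 = n29422 := rfl
theorem F47145 : act 3 n29422 = n13994 := d7_1 D29422 (iv6 D13994) D13992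
def n29423 : Q := act 6 n13993
theorem D29423 : act 6 n13993 = n29423 := rfl
theorem F47146 : act 2 n29423 = n28873 := d3_1 D29423 (iv6 D28873) (iv2 F23316)
theorem F47147 : act 4 n29423 = n14137 := d10_1 D29423 (iv6 D14137) (iv4 F23317)
def n29424 : Q := act 5 n13994
theorem D29424 : act 5 n13994 = n29424 := rfl
theorem F47148 : act 2 n29424 = n28875 := d2_1 D29424 (iv5 D28875) (iv2 F23321)
def n29425 : Q := act 7 n13994
theorem D29425 : act 7 n13994 = n29425 := rfl
theorem F47149 : act 2 n29425 = n28876 := d4_1 D29425 (iv7 D28876) (iv2 F23321)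
theorem F47150 : act 4 n29425 = n13997 := d11_1 D29425 (iv7 D13997) (iv4 F23322)
theorem F47151 : act 6 n29425 = n28842 := d14_1 D29425 (iv7 D28842) (iv6 D13746) (iv7 F10798) D13994
theorem F47152 : act 1 n25946 = n29425 := d15_1 (iv0 F46476) (iv7 D29425) F23321
theorem F47153 : act 1 n29425 = n28874 := d15_1 F47152 F46739 (iv2 F41006)
theorem F47154 : act 4 n23820 = n25934 := d18_1 (iv1 F37136) (iv1 D25934) F20419 D12307 D25946 F47152 F47150 F23333 (iv5 F23332)
def n29426 : Q := act 3 n13995
theorem D29426 : act 3 n13995 = n29426 := rfl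
theorem F47155 : act 7 n29426 = n28744 := d8_2 (iv7 F23329) D29426 F46377
def n29427 : Q := act 4 n13995
theorem D29427 : act 4 n13995 = n29427 := rfl
theorem F47156 : act 2 n29427 = n28878 := d1_1 D29427 (iv4 D28878) (iv2 F23330)
theorem F47157 : act 7 n29427 = n28827 := d11_2 (iv7 F23329) D29427 F46467
theorem F47158 : act 1 n29092 = n29427 := d15_1 F46730 F47157 F46466
theorem E5051 : n29090 = n28878 := ((c15_4 (iv0 D29090) (iv0 F46468) (iv7 F47157) F47156)).symm
theorem F47159 : act 1 n28878 = n13848 := (sb E5051 (iv0 D29090))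
theorem E5052 : n14722 = n14676 := ((c18_2 D7007 D14676 (iv1 F41063) F41059 F23332 D28878 F47159 F23121 (iv0 F11271) (iv5 D7009))).symm
theorem F47160 : act 0 n14676 = n25980 := (sb E5052 (iv1 F41063))
theorem F47161 : act 1 n14676 = n7022 := (sb E5052 (iv0 D14722))
theorem F47162 : act 1 n29427 = n14074 := d15_0 (iv0 F46576) (iv7 F46518) (iv2 F47156)
theorem E5053 : n25977 = n25939 := ((c18_2 D12305 D25939 (iv1 F41061) (iv4 F37138) F37139 D29427 F47162 F23505 (iv0 F20423) (iv5 D12307))).symm
theorem F47163 : act 0 n25939 = n14725 := (sb E5053 (iv1 F41061))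
theorem F47164 : act 1 n25939 = n12320 := (sb E5053 (iv0 D25977))
def n29428 : Q := act 0 n13996
theorem D29428 : act 0 n13996 = n29428 := rfl
theorem F47165 : act 5 n29428 = n28909 := d21_2 D13996 D29428 (iv6 D28909) (iv1 D13773) (iv6 D6554) (iv5 F8651) (iv1 F8653) (iv5 F10780) (iv6 F22656) F22657
theorem F47166 : act 1 n26090 = n29428 := d15_0 (iv0 D29428) (iv7 F24608) (iv2 F41273)
def n29429 : Q := act 1 n13996
theorem D29429 : act 1 n13996 = n29429 := rfl
theorem F47167 : act 1 n29429 = n26090 := d15_1 D29429 F41275 (iv2 F23323)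
theorem F47168 : act 5 n28931 = n29429 := d21_6 F10780 (iv1 D5460) F5086 D6557 D13781 D28931 (iv1 D29429) (iv5 D13996) (iv6 D6654) (iv1 F10778)
theorem F47169 : act 6 n29429 = n25282 := d12_2 D28931 F47168 (iv5 F45507) (iv6 D28144) (iv5 F23307)
def n29430 : Q := act 4 n13996
theorem D29430 : act 4 n13996 = n29430 := rfl
theorem F47170 : act 2 n29430 = n28881 := d1_1 D29430 (iv4 D28881) (iv2 F23323)
theorem F47171 : act 6 n29430 = n13998 := d10_2 (iv6 F23324) D29430 (iv4 D13998)
def n29431 : Q := act 3 n13998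
theorem D29431 : act 3 n13998 = n29431 := rfl
def n29432 : Q := act 4 n13999
theorem D29432 : act 4 n13999 = n29432 := rfl
theorem F47172 : act 2 n29432 = n14000 := d1_1 D29432 (iv4 D14000) D13999
theorem F47173 : act 7 n29432 = n28910 := d11_2 (iv7 F23338) D29432 (iv4 D28910)
theorem F47174 : act 0 n29432 = n28912 := d18_2 (iv1 F23339) D29432 (iv4 F46560) F40699 F20240 F11088 F10770 F19481 D11141
theorem F47175 : act 1 n29432 = n14339 := d18_6 F38386 F23453 F23496 (iv4 F38746) F38747 D29432 (iv4 D14339) (iv0 F38384) F38385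
def n29433 : Q := act 6 n13999
theorem D29433 : act 6 n13999 = n29433 := rfl
theorem F47176 : act 2 n29433 = n14001 := d3_1 D29433 (iv6 D14001) D13999
theorem F47177 : act 3 n29433 = n28188 := d7_1 D29433 (iv6 D28188) (iv3 F23337)
def n29434 : Q := act 0 n14000
theorem D29434 : act 0 n14000 = n29434 := rfl
theorem F47178 : act 4 n29434 = n14340 := d18_3 (iv1 F23257) D14000 D29434 F23955 F11108 (iv0 F10771) (iv4 D6642) (iv0 F19455) D11145
theorem F47179 : act 2 n28912 = n29434 := d15_3 (iv0 D29434) (iv0 F40696) (iv7 F46559)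
theorem F47180 : act 1 n28910 = n29434 := d15_0 (iv0 D29434) F23341 (iv2 F46554)
theorem F47181 : act 7 n29434 = n14339 := d15_2 (iv0 F46555) F47180 (iv2 F40694)
def n29435 : Q := act 3 n14000
theorem D29435 : act 3 n14000 = n29435 := rfl
theorem F47182 : act 4 n29435 = n14002 := d5_2 D14000 D29435 (iv3 D14002) (iv4 D6657) D6656
theorem F47183 : act 7 n29435 = n28913 := d8_2 (iv7 F23341) D29435 (iv3 D28913)
def n29436 : Q := act 5 n14000
theorem D29436 : act 5 n14000 = n29436 := rfl
theorem F47184 : act 7 n29436 = n28914 := d13_2 (iv7 F23341) D29436 (iv5 D28914)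
def n29437 : Q := act 6 n14000
theorem D29437 : act 6 n14000 = n29437 := rfl
theorem F47185 : act 4 n29437 = n14001 := d10_1 D29437 (iv6 D14001) D14000
def n29438 : Q := act 0 n14001
theorem D29438 : act 0 n14001 = n29438 := rfl
def n29439 : Q := act 1 n14001
theorem D29439 : act 1 n14001 = n29439 := rfl
def n29440 : Q := act 7 n14001
theorem D29440 : act 7 n14001 = n29440 := rfl
theorem F47186 : act 3 n29440 = n14007 := d8_1 D29440 (iv7 D14007) (iv3 F23342)
theorem F47187 : act 6 n29440 = n28918 := d14_1 D29440 (iv7 D28918) (iv6 D13777) (iv7 F10803) D14001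
def n29441 : Q := act 0 n14002
theorem D29441 : act 0 n14002 = n29441 := rfl
theorem F47188 : act 1 n28921 = n29441 := d15_0 (iv0 D29441) F23343 D28921
def n29442 : Q := act 1 n14002
theorem D29442 : act 1 n14002 = n29442 := rfl
def n29443 : Q := act 2 n14002
theorem D29443 : act 2 n14002 = n29443 := rfl
theorem F47189 : act 3 n29443 = n28893 := d0_2 D14002 D29443 (iv2 D28893) (iv3 D13769) (iv2 F10804)
theorem F47190 : act 7 n29443 = n28921 := d4_2 (iv7 F23343) D29443 (iv2 D28921)
theorem F47191 : act 1 n29443 = n28919 := d15_0 (iv0 D28919) (iv7 F23343) D29443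
theorem F47192 : act 1 n29442 = n28921 := d15_1 D29442 (iv7 F47190) (iv2 D29443)
theorem F47193 : act 1 n28920 = n29443 := d15_1 D28920 F47190 (iv2 D28921)
def n29444 : Q := act 5 n14002
theorem D29444 : act 5 n14002 = n29444 := rfl
theorem F47194 : act 3 n29444 = n14003 := d6_1 D29444 (iv5 D14003) D14002
theorem F47195 : act 7 n29444 = n28922 := d13_2 (iv7 F23343) D29444 (iv5 D28922)
def n29445 : Q := act 6 n14002
theorem D29445 : act 6 n14002 = n29445 := rfl
theorem F47196 : act 3 n29445 = n14004 := d7_1 D29445 (iv6 D14004) D14002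
def n29446 : Q := act 6 n14003
theorem D29446 : act 6 n14003 = n29446 := rfl
theorem F47197 : act 2 n29446 = n28898 := d3_1 D29446 (iv6 D28898) (iv2 F23344)
theorem F47198 : act 4 n29446 = n14115 := d10_1 D29446 (iv6 D14115) (iv4 F23346)
def n29447 : Q := act 0 n14004
theorem D29447 : act 0 n14004 = n29447 := rfl
def n29448 : Q := act 1 n14004
theorem D29448 : act 1 n14004 = n29448 := rfl
theorem F47199 : act 1 n29448 = n28902 := d15_1 D29448 (iv7 D28902) (iv2 F23347)
def n29449 : Q := act 5 n14004
theorem D29449 : act 5 n14004 = n29449 := rfl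
theorem F47200 : act 2 n29449 = n28901 := d2_1 D29449 (iv5 D28901) (iv2 F23347)
def n29450 : Q := act 7 n14004
theorem D29450 : act 7 n14004 = n29450 := rfl
theorem F47201 : act 2 n29450 = n28902 := d4_1 D29450 (iv7 D28902) (iv2 F23347)
theorem F47202 : act 4 n29450 = n14007 := d11_1 D29450 (iv7 D14007) (iv4 F23348)
theorem F47203 : act 6 n29450 = n28928 := d14_1 D29450 (iv7 D28928) (iv6 D13780) (iv7 F10805) D14004
theorem F47204 : act 1 n28902 = n29447 := d15_0 (iv0 D29447) D29450 F47201
theorem F47205 : act 1 n28900 = n29450 := d15_1 D28900 (iv7 D29450) F23347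
theorem F47206 : act 1 n29450 = n28899 := d15_0 (iv0 D28899) D28902 (iv2 F47201)
def n29451 : Q := act 3 n14005
theorem D29451 : act 3 n14005 = n29451 := rfl
theorem F47207 : act 6 n29451 = n28932 := d7_2 (iv6 F23349) D29451 (iv3 D28932)
theorem F47208 : act 7 n29451 = n28906 := d8_2 F45470 D29451 (iv3 D28906)
def n29452 : Q := act 4 n14005
theorem D29452 : act 4 n14005 = n29452 := rfl
theorem F47209 : act 2 n29452 = n28904 := d1_1 D29452 (iv4 D28904) (iv2 F45469)
theorem F47210 : act 6 n29452 = n28933 := d10_2 (iv6 F23349) D29452 (iv4 D28933)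
theorem F47211 : act 7 n29452 = n28907 := d11_2 F45470 D29452 (iv4 D28907)
def n29453 : Q := act 5 n14005
theorem D29453 : act 5 n14005 = n29453 := rfl
theorem F47212 : act 2 n29453 = n28905 := d2_1 D29453 (iv5 D28905) (iv2 F45469)
theorem F47213 : act 6 n29453 = n28037 := d12_2 (iv6 F23349) D29453 (iv5 D28037) F23033 F23032
theorem F47214 : act 7 n29453 = n28908 := d13_2 F45470 D29453 (iv5 D28908)
def n29454 : Q := act 3 n14006
theorem D29454 : act 3 n14006 = n29454 := rfl
theorem F47215 : act 7 n29454 = n28903 := d8_2 (iv7 F45471) D29454 (iv3 D28903)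
def n29455 : Q := act 4 n14006
theorem D29455 : act 4 n14006 = n29455 := rfl
theorem F47216 : act 2 n29455 = n28907 := d1_1 D29455 (iv4 D28907) F45472
theorem F47217 : act 7 n29455 = n28904 := d11_2 (iv7 F45471) D29455 (iv4 D28904)
def n29456 : Q := act 6 n14006
theorem D29456 : act 6 n14006 = n29456 := rfl
theorem F47218 : act 2 n29456 = n28909 := d3_1 D29456 (iv6 D28909) F45472
theorem F47219 : act 5 n29456 = n28879 := d12_1 D29456 F46519 (iv5 D28353) D28354 F45848
theorem F47220 : act 7 n29456 = n28931 := d14_2 (iv7 F45471) D29456 (iv6 D28931) (iv7 F45466) F23370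
theorem F47221 : act 7 n29429 = n28879 := d13_2 F47220 F47168 (iv5 F47219)
theorem F47222 : act 2 n28879 = n29428 := d15_3 (iv0 D29428) D29429 F47221
theorem F47223 : act 2 n29429 = n28880 := d15_3 F46521 F46520 (iv7 F47221)
theorem F47224 : act 6 n28880 = n14813 := d3_2 (iv6 F47169) F47223 F45453
theorem F47225 : act 7 n28880 = n29428 := d4_2 (iv7 F47221) F47223 (iv2 F47222)
theorem F47226 : act 0 n28308 = n29456 := d21_10 F47219 (iv1 F46520) F24607 F23326 (iv1 F23300) D29404 F47110 F46611 (iv5 D28989) (iv6 F45816)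
theorem F47227 : act 0 n29456 = n28304 := d21_1 (iv5 F47219) (iv5 D28304) F38044 (iv1 D24274) (iv6 D11425) (iv5 F7925) (iv1 F8669) D6551 (iv6 F23018) D28879
def n29457 : Q := act 1 n14008
theorem D29457 : act 1 n14008 = n29457 := rfl
theorem F47228 : act 1 n29457 = n28187 := d15_1 D29457 (iv7 F45624) F45623
theorem F47229 : act 7 n29457 = n14268 := d15_2 F23824 D29457 (iv2 F23823)
theorem F47230 : act 4 n14269 = n29457 := d20_0 (iv1 D29457) (iv4 D14008) (iv3 D6659) (iv1 D2987) (iv3 F4660) D6637 D13961 (iv4 F36901) F36902 (iv1 F23827)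
theorem F47231 : act 2 n29457 = n28884 := d1_1 F47230 F46526 F23825
def n29458 : Q := act 3 n14008
theorem D29458 : act 3 n14008 = n29458 := rfl
theorem F47232 : act 4 n29458 = n14010 := d5_2 D14008 D29458 (iv3 D14010) (iv4 D6660) D6659
theorem F47233 : act 7 n29458 = n28885 := d8_2 (iv7 F23356) D29458 (iv3 D28885)
def n29459 : Q := act 5 n14008
theorem D29459 : act 5 n14008 = n29459 := rfl
theorem F47234 : act 7 n29459 = n28886 := d13_2 (iv7 F23356) D29459 (iv5 D28886)
def n29460 : Q := act 6 n14008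
theorem D29460 : act 6 n14008 = n29460 := rfl
theorem F47235 : act 4 n29460 = n14009 := d10_1 D29460 (iv6 D14009) D14008
def n29461 : Q := act 0 n14009
theorem D29461 : act 0 n14009 = n29461 := rfl
def n29462 : Q := act 1 n14009
theorem D29462 : act 1 n14009 = n29462 := rfl
def n29463 : Q := act 7 n14009
theorem D29463 : act 7 n14009 = n29463 := rfl
theorem F47236 : act 3 n29463 = n14015 := d8_1 D29463 (iv7 D14015) (iv3 F23357)
theorem F47237 : act 5 n29463 = n25210 := d13_1 D29463 (iv7 D25210) (iv5 F23358)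
theorem F47238 : act 6 n29463 = n28890 := d14_1 D29463 (iv7 D28890) (iv6 D13768) (iv7 F10809) D14009
def n29464 : Q := act 0 n14010
theorem D29464 : act 0 n14010 = n29464 := rfl
theorem F47239 : act 1 n28893 = n29464 := d15_0 (iv0 D29464) F23359 D28893
def n29465 : Q := act 1 n14010
theorem D29465 : act 1 n14010 = n29465 := rfl
def n29466 : Q := act 2 n14010
theorem D29466 : act 2 n14010 = n29466 := rfl
theorem F47240 : act 3 n29466 = n28921 := d0_2 D14010 D29466 (iv2 D28921) (iv3 D13778) (iv2 F10810)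
theorem F47241 : act 7 n29466 = n28893 := d4_2 (iv7 F23359) D29466 (iv2 D28893)
theorem F47242 : act 1 n29466 = n28891 := d15_0 (iv0 D28891) (iv7 F23359) D29466
theorem F47243 : act 1 n29465 = n28893 := d15_1 D29465 (iv7 F47241) (iv2 D29466)
theorem F47244 : act 1 n28892 = n29466 := d15_1 D28892 F47241 (iv2 D28893)
def n29467 : Q := act 5 n14010
theorem D29467 : act 5 n14010 = n29467 := rfl
theorem F47245 : act 3 n29467 = n14011 := d6_1 D29467 (iv5 D14011) D14010
theorem F47246 : act 7 n29467 = n28894 := d13_2 (iv7 F23359) D29467 (iv5 D28894)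
def n29468 : Q := act 6 n14010
theorem D29468 : act 6 n14010 = n29468 := rfl
theorem F47247 : act 3 n29468 = n14012 := d7_1 D29468 (iv6 D14012) D14010
def n29469 : Q := act 6 n14011
theorem D29469 : act 6 n14011 = n29469 := rfl
theorem F47248 : act 2 n29469 = n28924 := d3_1 D29469 (iv6 D28924) (iv2 F23360)
theorem F47249 : act 4 n29469 = n14109 := d10_1 D29469 (iv6 D14109) (iv4 F23361)
def n29470 : Q := act 0 n14012
theorem D29470 : act 0 n14012 = n29470 := rfl
def n29471 : Q := act 1 n14012
theorem D29471 : act 1 n14012 = n29471 := rfl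
theorem F47250 : act 1 n29471 = n28928 := d15_1 D29471 (iv7 D28928) (iv2 F23363)
def n29472 : Q := act 5 n14012
theorem D29472 : act 5 n14012 = n29472 := rfl
theorem F47251 : act 2 n29472 = n28927 := d2_1 D29472 (iv5 D28927) (iv2 F23363)
def n29473 : Q := act 7 n14012
theorem D29473 : act 7 n14012 = n29473 := rfl
theorem F47252 : act 2 n29473 = n28928 := d4_1 D29473 (iv7 D28928) (iv2 F23363)
theorem F47253 : act 4 n29473 = n14015 := d11_1 D29473 (iv7 D14015) (iv4 F23364)
theorem F47254 : act 6 n29473 = n28902 := d14_1 D29473 (iv7 D28902) (iv6 D13771) (iv7 F10811) D14012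
theorem F47255 : act 1 n28928 = n29470 := d15_0 (iv0 D29470) D29473 F47252
theorem F47256 : act 1 n28926 = n29473 := d15_1 D28926 (iv7 D29473) F23363
theorem F47257 : act 1 n29473 = n28925 := d15_0 (iv0 D28925) D28928 (iv2 F47252)
def n29474 : Q := act 3 n14013
theorem D29474 : act 3 n14013 = n29474 := rfl
theorem F47258 : act 5 n29474 = n28052 := d6_2 (iv5 F23365) D29474 (iv3 D28052)
theorem F47259 : act 7 n29474 = n28932 := d8_2 (iv7 F45463) D29474 (iv3 D28932)
def n29475 : Q := act 4 n14013
theorem D29475 : act 4 n14013 = n29475 := rfl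
theorem F47260 : act 2 n29475 = n28930 := d1_1 D29475 (iv4 D28930) F45467
theorem F47261 : act 7 n29475 = n28933 := d11_2 (iv7 F45463) D29475 (iv4 D28933)
def n29476 : Q := act 6 n14013
theorem D29476 : act 6 n14013 = n29476 := rfl
theorem F47262 : act 2 n29476 = n28931 := d3_1 D29476 (iv6 D28931) F45467
theorem F47263 : act 5 n29476 = n28880 := d12_1 D29476 F47224 (iv5 F45323) (iv6 D28054) (iv5 F23365)
theorem F47264 : act 7 n29476 = n28909 := d14_2 (iv7 F45463) D29476 (iv6 D28909) F45470 F23349
theorem F47265 : act 0 n29476 = n28308 := d21_4 F10785 D13382 (iv5 F23365) D29476 F45816 D28989 F47112 (iv5 F47110) (iv6 D29404) (iv1 D13983)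
theorem F47266 : act 0 n28304 = n29476 := d21_1 D28304 F47263 F47224 (iv1 D14813) (iv6 D7059) (iv5 F5083) D5499 F8382 D6425 D13508
def n29477 : Q := act 3 n14014
theorem D29477 : act 3 n14014 = n29477 := rfl
theorem F47267 : act 5 n29477 = n28056 := d6_2 F23368 D29477 (iv3 D28056)
theorem F47268 : act 6 n29477 = n28903 := d7_2 (iv6 F23370) D29477 (iv3 D28903)
theorem F47269 : act 7 n29477 = n28929 := d8_2 (iv7 F45466) D29477 (iv3 D28929)
def n29478 : Q := act 4 n14014
theorem D29478 : act 4 n14014 = n29478 := rfl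
theorem F47270 : act 2 n29478 = n28933 := d1_1 D29478 (iv4 D28933) (iv2 F45468)
theorem F47271 : act 6 n29478 = n28904 := d10_2 (iv6 F23370) D29478 (iv4 D28904)
theorem F47272 : act 7 n29478 = n28930 := d11_2 (iv7 F45466) D29478 (iv4 D28930)
def n29479 : Q := act 0 n14016
theorem D29479 : act 0 n14016 = n29479 := rfl
theorem F47273 : act 1 n28949 = n29479 := d15_0 (iv0 D29479) F23376 D28949
def n29480 : Q := act 1 n14016
theorem D29480 : act 1 n14016 = n29480 := rfl
def n29481 : Q := act 2 n14016
theorem D29481 : act 2 n14016 = n29481 := rfl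
theorem F47274 : act 3 n29481 = n28936 := d0_2 D14016 D29481 (iv2 D28936) (iv3 D13784) F10816
theorem F47275 : act 7 n29481 = n28949 := d4_2 (iv7 F23376) D29481 (iv2 D28949)
theorem F47276 : act 1 n29481 = n28947 := d15_0 (iv0 D28947) (iv7 F23376) D29481
theorem F47277 : act 1 n29480 = n28949 := d15_1 D29480 (iv7 F47275) (iv2 D29481)
theorem F47278 : act 1 n28948 = n29481 := d15_1 D28948 F47275 (iv2 D28949)
def n29482 : Q := act 4 n14016
theorem D29482 : act 4 n14016 = n29482 := rfl
theorem F47279 : act 3 n29482 = n14244 := d5_1 D29482 (iv4 D14244) (iv3 D6781) (iv4 F10815) D14016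
theorem F47280 : act 7 n29482 = n28950 := d11_2 (iv7 F23376) D29482 (iv4 D28950)
def n29483 : Q := act 5 n14016
theorem D29483 : act 5 n14016 = n29483 := rfl
theorem F47281 : act 3 n29483 = n14017 := d6_1 D29483 (iv5 D14017) D14016
theorem F47282 : act 7 n29483 = n28951 := d13_2 (iv7 F23376) D29483 (iv5 D28951)
def n29484 : Q := act 6 n14016
theorem D29484 : act 6 n14016 = n29484 := rfl
theorem F47283 : act 3 n29484 = n14018 := d7_1 D29484 (iv6 D14018) D14016
def n29485 : Q := act 6 n14017
theorem D29485 : act 6 n14017 = n29485 := rfl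
theorem F47284 : act 2 n29485 = n28942 := d3_1 D29485 (iv6 D28942) (iv2 F23377)
theorem F47285 : act 4 n29485 = n14101 := d10_1 D29485 (iv6 D14101) (iv4 F23379)
def n29486 : Q := act 0 n14018
theorem D29486 : act 0 n14018 = n29486 := rfl
def n29487 : Q := act 1 n14018
theorem D29487 : act 1 n14018 = n29487 := rfl
theorem F47286 : act 1 n29487 = n28946 := d15_1 D29487 (iv7 D28946) (iv2 F23380)
def n29488 : Q := act 5 n14018
theorem D29488 : act 5 n14018 = n29488 := rfl
theorem F47287 : act 2 n29488 = n28945 := d2_1 D29488 (iv5 D28945) (iv2 F23380)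
def n29489 : Q := act 7 n14018
theorem D29489 : act 7 n14018 = n29489 := rfl
theorem F47288 : act 2 n29489 = n28946 := d4_1 D29489 (iv7 D28946) (iv2 F23380)
theorem F47289 : act 4 n29489 = n14248 := d11_1 D29489 (iv7 D14248) (iv4 F23381)
theorem F47290 : act 6 n29489 = n28957 := d14_1 D29489 (iv7 D28957) (iv6 D13789) F10817 D14018
theorem F47291 : act 1 n28946 = n29486 := d15_0 (iv0 D29486) D29489 F47288
theorem F47292 : act 1 n28944 = n29489 := d15_1 D28944 (iv7 D29489) F23380
theorem F47293 : act 1 n29489 = n28943 := d15_0 (iv0 D28943) D28946 (iv2 F47288)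
def n29490 : Q := act 0 n14019
theorem D29490 : act 0 n14019 = n29490 := rfl
theorem F47294 : act 1 n28936 = n29490 := d15_0 (iv0 D29490) F23382 D28936
def n29491 : Q := act 1 n14019
theorem D29491 : act 1 n14019 = n29491 := rfl
def n29492 : Q := act 2 n14019
theorem D29492 : act 2 n14019 = n29492 := rfl
theorem F47295 : act 3 n29492 = n28949 := d0_2 D14019 D29492 (iv2 D28949) (iv3 D13787) F10822
theorem F47296 : act 7 n29492 = n28936 := d4_2 (iv7 F23382) D29492 (iv2 D28936)
theorem F47297 : act 1 n29492 = n28934 := d15_0 (iv0 D28934) (iv7 F23382) D29492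
theorem F47298 : act 1 n29491 = n28936 := d15_1 D29491 (iv7 F47296) (iv2 D29492)
theorem F47299 : act 1 n28935 = n29492 := d15_1 D28935 F47296 (iv2 D28936)
def n29493 : Q := act 4 n14019
theorem D29493 : act 4 n14019 = n29493 := rfl
theorem F47300 : act 3 n29493 = n14249 := d5_1 D29493 (iv4 D14249) (iv3 D6783) (iv4 F10821) D14019
theorem F47301 : act 7 n29493 = n28937 := d11_2 (iv7 F23382) D29493 (iv4 D28937)
def n29494 : Q := act 5 n14019
theorem D29494 : act 5 n14019 = n29494 := rfl
theorem F47302 : act 3 n29494 = n14020 := d6_1 D29494 (iv5 D14020) D14019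
theorem F47303 : act 7 n29494 = n28938 := d13_2 (iv7 F23382) D29494 (iv5 D28938)
def n29495 : Q := act 6 n14019
theorem D29495 : act 6 n14019 = n29495 := rfl
theorem F47304 : act 3 n29495 = n14021 := d7_1 D29495 (iv6 D14021) D14019
def n29496 : Q := act 6 n14020
theorem D29496 : act 6 n14020 = n29496 := rfl
theorem F47305 : act 2 n29496 = n28953 := d3_1 D29496 (iv6 D28953) (iv2 F23383)
theorem F47306 : act 4 n29496 = n14091 := d10_1 D29496 (iv6 D14091) (iv4 F23384)
def n29497 : Q := act 0 n14021
theorem D29497 : act 0 n14021 = n29497 := rfl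
def n29498 : Q := act 1 n14021
theorem D29498 : act 1 n14021 = n29498 := rfl
theorem F47307 : act 1 n29498 = n28957 := d15_1 D29498 (iv7 D28957) (iv2 F23386)
def n29499 : Q := act 5 n14021
theorem D29499 : act 5 n14021 = n29499 := rfl
theorem F47308 : act 2 n29499 = n28956 := d2_1 D29499 (iv5 D28956) (iv2 F23386)
def n29500 : Q := act 7 n14021
theorem D29500 : act 7 n14021 = n29500 := rfl
theorem F47309 : act 2 n29500 = n28957 := d4_1 D29500 (iv7 D28957) (iv2 F23386)
theorem F47310 : act 4 n29500 = n14253 := d11_1 D29500 (iv7 D14253) (iv4 F23387)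
theorem F47311 : act 6 n29500 = n28946 := d14_1 D29500 (iv7 D28946) (iv6 D13786) (iv7 F10820) D14021
theorem F47312 : act 1 n28957 = n29497 := d15_0 (iv0 D29497) D29500 F47309
theorem F47313 : act 1 n28955 = n29500 := d15_1 D28955 (iv7 D29500) F23386
theorem F47314 : act 1 n29500 = n28954 := d15_0 (iv0 D28954) D28957 (iv2 F47309)
def n29501 : Q := act 0 n14022
theorem D29501 : act 0 n14022 = n29501 := rfl
theorem F47315 : act 2 n14026 = n29501 := d15_3 (iv0 D29501) (iv0 D14022) D14026
theorem F47316 : act 3 n29501 = n28958 := d0_2 (iv3 F23392) F47315 (iv2 F46592) F23040 (iv2 F10827)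
theorem F47317 : act 5 n29501 = n29287 := d2_2 (iv5 F23393) F47315 (iv2 D29287)
theorem F47318 : act 7 n29501 = n14024 := d4_2 D14026 F47315 (iv2 D14024)
theorem F47319 : act 1 n14023 = n29501 := d15_1 D14023 F47318 (iv2 D14024)
def n29502 : Q := act 2 n14022
theorem D29502 : act 2 n14022 = n29502 := rfl
theorem F47320 : act 7 n14023 = n29502 := d15_2 (iv0 D14022) D14023 (iv2 D29502)
def n29503 : Q := act 3 n14022
theorem D29503 : act 3 n14022 = n29503 := rfl
def n29504 : Q := act 4 n14022
theorem D29504 : act 4 n14022 = n29504 := rfl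
def n29505 : Q := act 5 n14022
theorem D29505 : act 5 n14022 = n29505 := rfl
def n29506 : Q := act 6 n14022
theorem D29506 : act 6 n14022 = n29506 := rfl
def n29507 : Q := act 7 n14022
theorem D29507 : act 7 n14022 = n29507 := rfl
theorem F47321 : act 2 n29507 = n14023 := d4_1 D29507 F47320 (iv2 D29502)
def n29508 : Q := act 3 n14023
theorem D29508 : act 3 n14023 = n29508 := rfl
def n29509 : Q := act 4 n14023
theorem D29509 : act 4 n14023 = n29509 := rfl
def n29510 : Q := act 5 n14023
theorem D29510 : act 5 n14023 = n29510 := rfl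
def n29511 : Q := act 6 n14023
theorem D29511 : act 6 n14023 = n29511 := rfl
def n29512 : Q := act 0 n14024
theorem D29512 : act 0 n14024 = n29512 := rfl
theorem F47322 : act 1 n14026 = n29512 := d15_0 (iv0 D29512) (iv7 F47318) (iv2 F47315)
def n29513 : Q := act 1 n14024
theorem D29513 : act 1 n14024 = n29513 := rfl
theorem F47323 : act 1 n29513 = n14026 := d15_1 D29513 (iv7 D14026) D14024
def n29514 : Q := act 5 n14024
theorem D29514 : act 5 n14024 = n29514 := rfl
theorem F47324 : act 2 n29514 = n14025 := d2_1 D29514 (iv5 D14025) D14024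
theorem F47325 : act 3 n29514 = n28971 := d6_1 D29514 (iv5 D28971) (iv3 F23388)
theorem F47326 : act 7 n29514 = n29287 := d13_2 F47318 D29514 (iv5 F47317)
theorem F47327 : act 1 n29286 = n29514 := d15_1 D29286 F47326 (iv2 D29287)
theorem F47328 : act 1 n29514 = n29285 := d15_0 (iv0 D29285) F23391 (iv2 F47324)
def n29515 : Q := act 0 n14025
theorem D29515 : act 0 n14025 = n29515 := rfl
theorem F47329 : act 1 n29287 = n29515 := d15_0 (iv0 D29515) (iv7 F23391) D29287
def n29516 : Q := act 1 n14025
theorem D29516 : act 1 n14025 = n29516 := rfl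
theorem F47330 : act 1 n29516 = n29287 := d15_1 D29516 (iv7 F47326) F47324
def n29517 : Q := act 4 n14025
theorem D29517 : act 4 n14025 = n29517 := rfl
theorem F47331 : act 3 n29517 = n29264 := d5_1 D29517 F46922 F23173 (iv4 F10825) (iv3 F23390)
theorem F47332 : act 7 n29517 = n29261 := d11_2 F23391 D29517 F46920
def n29518 : Q := act 6 n14025
theorem D29518 : act 6 n14025 = n29518 := rfl
theorem F47333 : act 3 n29518 = n14029 := d7_1 D29518 (iv6 D14029) (iv3 F23390)
theorem F47334 : act 5 n29518 = n28975 := d12_1 D29518 (iv6 D28975) (iv5 D13793) (iv6 F10823) D14025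
def n29519 : Q := act 6 n14026
theorem D29519 : act 6 n14026 = n29519 := rfl
theorem F47335 : act 3 n29519 = n14030 := d7_1 D29519 (iv6 D14030) (iv3 F23392)
theorem F47336 : act 7 n29519 = n28976 := d14_2 D14026 D29519 (iv6 D28976) (iv7 D13794) (iv6 F10823)
def n29520 : Q := act 3 n14027
theorem D29520 : act 3 n14027 = n29520 := rfl
theorem F47337 : act 5 n29520 = n14039 := d6_2 (iv5 F23394) D29520 (iv3 D14039)
theorem F47338 : act 7 n29520 = n28979 := d8_2 F23398 D29520 (iv3 D28979)
def n29521 : Q := act 6 n14027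
theorem D29521 : act 6 n14027 = n29521 := rfl
theorem F47339 : act 2 n29521 = n28978 := d3_1 D29521 (iv6 D28978) F23397
theorem F47340 : act 4 n29521 = n14083 := d10_1 D29521 (iv6 D14083) (iv4 F23395)
def n29522 : Q := act 3 n14028
theorem D29522 : act 3 n14028 = n29522 := rfl
theorem F47341 : act 5 n29522 = n14073 := d6_2 (iv5 F23401) D29522 (iv3 D14073)
theorem F47342 : act 7 n29522 = n28977 := d8_2 (iv7 F23400) D29522 (iv3 D28977)
def n29523 : Q := act 6 n14028
theorem D29523 : act 6 n14028 = n29523 := rfl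
theorem F47343 : act 2 n29523 = n28980 := d3_1 D29523 (iv6 D28980) F23403
theorem F47344 : act 4 n29523 = n14052 := d10_1 D29523 (iv6 D14052) (iv4 F23402)
def n29524 : Q := act 0 n14029
theorem D29524 : act 0 n14029 = n29524 := rfl
def n29525 : Q := act 1 n14029
theorem D29525 : act 1 n14029 = n29525 := rfl
theorem F47345 : act 1 n29525 = n28983 := d15_1 D29525 (iv7 D28983) (iv2 F23404)
def n29526 : Q := act 7 n14029
theorem D29526 : act 7 n14029 = n29526 := rfl
theorem F47346 : act 2 n29526 = n28983 := d4_1 D29526 (iv7 D28983) (iv2 F23404)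
theorem F47347 : act 4 n29526 = n29299 := d11_1 D29526 F46936 (iv4 F23405)
theorem F47348 : act 5 n29526 = n28983 := d13_1 D29526 (iv7 D28983) (iv5 F23406)
theorem F47349 : act 6 n29526 = n29292 := d14_1 D29526 (iv7 D29292) (iv6 D13918) F10826 D14029
theorem F47350 : act 1 n28983 = n29524 := d15_0 (iv0 D29524) D29526 F47346
theorem F47351 : act 1 n28982 = n29526 := d15_1 D28982 (iv7 D29526) F23404
theorem F47352 : act 1 n29526 = n28981 := d15_0 (iv0 D28981) D28983 (iv2 F47346)
def n29527 : Q := act 0 n14030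
theorem D29527 : act 0 n14030 = n29527 := rfl
theorem F47353 : act 1 n14030 = n29527 := d15_0 (iv0 D29527) F23409 (iv2 F23407)
def n29528 : Q := act 5 n14030
theorem D29528 : act 5 n14030 = n29528 := rfl
theorem F47354 : act 2 n29528 = n28985 := d2_1 D29528 (iv5 D28985) (iv2 F23407)
theorem F47355 : act 6 n29528 = n29291 := d12_2 D14030 D29528 (iv5 D29291) (iv6 D13918) (iv5 F10829)
theorem F47356 : act 7 n29528 = n28985 := d13_2 (iv7 F23409) D29528 (iv5 D28985)
def n29529 : Q := act 2 n14031
theorem D29529 : act 2 n14031 = n29529 := rfl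
def n29530 : Q := act 3 n14031
theorem D29530 : act 3 n14031 = n29530 := rfl
def n29531 : Q := act 4 n14031
theorem D29531 : act 4 n14031 = n29531 := rfl
def n29532 : Q := act 5 n14031
theorem D29532 : act 5 n14031 = n29532 := rfl
theorem F47358 : act 0 n29532 = n29404 := d21_1 D29532 F47110 (iv6 D28847) (iv1 D13748) (iv6 D6543) (iv5 D2906) (iv1 F2470) (iv5 F4673) D6667 D14031
theorem F47359 : act 6 n29532 = n29386 := d21_9 F46461 (iv1 F27070) F20489 (iv6 D6554) (iv1 F4676) D6667 F10833 D14031 D29532 (iv1 F47076)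
theorem F47360 : act 0 n29404 = n29532 := d21_10 (iv5 D29532) (iv1 F23410) F10833 (iv6 D6667) (iv1 F4675) D6557 F10617 D11735 F23301 D29404
def n29533 : Q := act 6 n14031
theorem D29533 : act 6 n14031 = n29533 := rfl
theorem F47361 : act 0 n29533 = n28909 := d21_4 (iv5 F47110) F47360 (iv5 D29532) D29533 (iv6 D28909) D28908 F47113 (iv5 F46460) (iv6 F46610) F47112
theorem F47362 : act 5 n29533 = n23820 := d21_6 (iv5 D2906) (iv1 F2470) (iv5 F4673) D6667 D14031 D29533 (iv1 D23820) (iv5 F22991) (iv6 D13741) (iv1 D6541)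
theorem F47363 : act 0 n28931 = n29533 := d21_4 F10609 D13431 (iv5 F23307) D28931 (iv6 D29533) D29532 F47358 F47110 (iv6 D28847) (iv1 D13748)
def n29534 : Q := act 3 n14032
theorem D29534 : act 3 n14032 = n29534 := rfl
theorem F47364 : act 5 n29534 = n16501 := d6_2 F23860 D29534 F26092
theorem F47365 : act 7 n29534 = n29072 := d8_2 (iv7 F26007) D29534 (iv3 D29072)
theorem F47366 : act 4 n29534 = n29410 := d20_6 D13978 F23288 (iv4 D6674) (iv3 F10842) D14032 D29534 (iv1 D29410) (iv4 D13987) F10793 (iv1 F10778)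
theorem F47367 : act 7 n29410 = n28810 := d11_2 (iv7 F47365) F47366 (iv4 F46710)
theorem F47368 : act 0 n14270 = n29534 := d18_0 F47366 (iv1 D29410) (iv4 D13987) (iv5 D6651) F10105 F22494 (iv4 F11053) F11060 D14270
theorem F47369 : act 1 n14227 = n29534 := d15_0 (iv0 F47368) F23817 F23806
theorem F47370 : act 2 n28810 = n29409 := d15_3 (iv0 D29409) D29410 F47367
theorem F47371 : act 2 n29410 = n28809 := d15_3 (iv0 D28809) D28810 (iv7 F47367)
theorem F47372 : act 7 n28809 = n29409 := d4_2 (iv7 F47367) F47371 (iv2 F47370)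
def n29535 : Q := act 4 n14032
theorem D29535 : act 4 n14032 = n29535 := rfl
theorem F47373 : act 2 n29535 = n29075 := d1_1 D29535 (iv4 D29075) (iv2 F26033)
theorem F47374 : act 7 n29535 = n29073 := d11_2 (iv7 F26007) D29535 (iv4 D29073)
theorem F47375 : act 0 n29535 = n29319 := d18_2 D14032 D29535 (iv4 D29319) (iv5 D13950) (iv4 F22515) F11061 F11058 (iv0 F22500) D6671
def n29536 : Q := act 6 n14032
theorem D29536 : act 6 n14032 = n29536 := rfl
theorem F47376 : act 2 n29536 = n29076 := d3_1 D29536 (iv6 D29076) (iv2 F26033)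
def n29537 : Q := act 4 n14033
theorem D29537 : act 4 n14033 = n29537 := rfl
theorem F47377 : act 2 n29537 = n29073 := d1_1 D29537 (iv4 D29073) (iv2 F26010)
theorem F47378 : act 7 n29537 = n29075 := d11_2 F26032 D29537 (iv4 D29075)
theorem F47379 : act 0 n29319 = n29537 := d20_7 D28739 (iv1 F46374) (iv4 D28741) F23230 (iv1 F23228) (iv3 F23235) D29319 (iv4 D29537) F46372 (iv1 D28738)
def n29538 : Q := act 6 n14033
theorem D29538 : act 6 n14033 = n29538 := rfl
theorem F47380 : act 2 n29538 = n14443 := d3_1 D29538 F24099 (iv2 F26010)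
theorem F47381 : act 5 n29538 = n14321 := d12_1 D29538 (iv6 D14321) D14320 F23930 F23932
theorem F47382 : act 0 n29538 = n14071 := d21_4 D14279 (iv1 F23835) F23932 D29538 (iv6 D14071) (iv5 D6689) F10344 D5796 F8920 D6807
def n29539 : Q := act 0 n14034
theorem D29539 : act 0 n14034 = n29539 := rfl
theorem F47383 : act 1 n14291 = n29539 := d15_0 (iv0 D29539) F23413 (iv2 F23848)
def n29540 : Q := act 1 n14034
theorem D29540 : act 1 n14034 = n29540 := rfl
theorem F47384 : act 1 n29540 = n14291 := d15_1 D29540 F23849 F23830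
theorem F47385 : act 4 n29540 = n28852 := d18_7 (iv1 D13459) F10446 F19473 (iv4 F10106) D6671 D14034 D29540 (iv0 F46491) (iv5 D28195)
theorem F47386 : act 2 n29077 = n29540 := d1_3 F47385 F46971 F46963
theorem F47387 : act 7 n29078 = n29540 := d11_0 F47385 F46970 (iv4 F46968)
theorem F47388 : act 2 n29078 = n29539 := d15_3 (iv0 D29539) D29540 (iv7 F47387)
theorem F47389 : act 7 n29539 = n29077 := d4_2 (iv7 F47387) F47388 F47386
def n29541 : Q := act 3 n14034
theorem D29541 : act 3 n14034 = n29541 := rfl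
theorem F47390 : act 4 n29541 = n14039 := d5_2 D14034 D29541 (iv3 D14039) (iv4 D6674) (iv3 F10842)
theorem F47391 : act 7 n29541 = n29079 := d8_2 (iv7 F23413) D29541 (iv3 D29079)
def n29542 : Q := act 5 n14034
theorem D29542 : act 5 n14034 = n29542 := rfl
theorem F47392 : act 7 n29542 = n29080 := d13_2 (iv7 F23413) D29542 (iv5 D29080)
def n29543 : Q := act 6 n14034
theorem D29543 : act 6 n14034 = n29543 := rfl
theorem F47393 : act 4 n29543 = n14035 := d10_1 D29543 (iv6 D14035) D14034
def n29544 : Q := act 0 n14035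
theorem D29544 : act 0 n14035 = n29544 := rfl
def n29545 : Q := act 1 n14035
theorem D29545 : act 1 n14035 = n29545 := rfl
def n29546 : Q := act 7 n14035
theorem D29546 : act 7 n14035 = n29546 := rfl
theorem F47394 : act 3 n29546 = n14043 := d8_1 D29546 (iv7 D14043) (iv3 F23414)
theorem F47395 : act 5 n29546 = n24682 := d13_1 D29546 (iv7 D24682) (iv5 F23415)
theorem F47396 : act 6 n29546 = n29084 := d14_1 D29546 (iv7 D29084) (iv6 D13844) (iv7 F10843) D14035
def n29547 : Q := act 4 n14036
theorem D29547 : act 4 n14036 = n29547 := rfl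
theorem F47397 : act 7 n29547 = n29041 := d11_2 (iv7 F23417) D29547 (iv4 D29041)
theorem F47398 : act 1 n29547 = n29304 := d18_6 (iv1 D25444) F20009 D12278 F20348 (iv5 F23416) D29547 (iv4 D29304) D29303 F46943
def n29548 : Q := act 6 n14036
theorem D29548 : act 6 n14036 = n29548 := rfl
theorem F47399 : act 3 n29548 = n14037 := d7_1 D29548 (iv6 D14037) D14036
theorem F47400 : act 5 n29548 = n14494 := d12_1 D29548 (iv6 D14494) (iv5 D6923) D6924 (iv5 F23416)
def n29549 : Q := act 0 n14037
theorem D29549 : act 0 n14037 = n29549 := rfl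
theorem F47401 : act 5 n29549 = n14683 := d21_2 (iv5 F23419) D29549 (iv6 D14683) (iv1 D7008) (iv6 D3167) D3166 (iv1 F8549) (iv5 F8957) D12282 F20361
theorem F47402 : act 0 n29549 = n29039 := d21_7 (iv5 F26128) (iv1 F26132) F24138 (iv6 F20425) (iv1 F20427) D14683 (iv5 F47401) F46683 F26163 (iv1 F26127)
def n29550 : Q := act 1 n14037
theorem D29550 : act 1 n14037 = n29550 := rfl
theorem F47403 : act 1 n29550 = n29039 := d15_1 D29550 (iv7 D29039) (iv2 F23418)
def n29551 : Q := act 7 n14037
theorem D29551 : act 7 n14037 = n29551 := rfl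
theorem F47404 : act 2 n29551 = n29039 := d4_1 D29551 (iv7 D29039) (iv2 F23418)
theorem F47405 : act 5 n29551 = n14500 := d13_1 D29551 (iv7 D14500) (iv5 F23419)
theorem F47406 : act 6 n29551 = n14075 := d14_1 D29551 F23512 F11270 F10847 D14037
theorem F47407 : act 1 n29038 = n29551 := d15_1 D29038 (iv7 D29551) F23418
theorem F47408 : act 0 n29037 = n29551 := d21_7 (iv5 F24137) (iv1 F26135) F26130 F20444 (iv1 F20420) D25945 (iv5 F46682) F47405 (iv6 F26131) (iv1 F26133)
def n29552 : Q := act 2 n14038
theorem D29552 : act 2 n14038 = n29552 := rfl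
theorem F47409 : act 3 n29552 = n29040 := d0_2 D14038 D29552 (iv2 D29040) (iv3 D13819) F10851
theorem F47410 : act 5 n29552 = n24943 := d2_2 (iv5 F23420) D29552 F39105
theorem F47411 : act 7 n29552 = n14224 := d4_2 (iv7 F23421) D29552 (iv2 F23754)
theorem F47412 : act 1 n29552 = n14209 := d15_0 F23727 (iv7 F23421) D29552
theorem F47413 : act 1 n14208 = n29552 := d15_0 F47412 F23726 (iv2 F23720)
def n29553 : Q := act 4 n14038
theorem D29553 : act 4 n14038 = n29553 := rfl
theorem F47414 : act 7 n29553 = n29033 := d11_2 (iv7 F23421) D29553 (iv4 D29033)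
def n29554 : Q := act 0 n14039
theorem D29554 : act 0 n14039 = n29554 := rfl
theorem F47415 : act 1 n29088 = n29554 := d15_0 (iv0 D29554) F23423 D29088
def n29555 : Q := act 1 n14039
theorem D29555 : act 1 n14039 = n29555 := rfl
def n29556 : Q := act 2 n14039
theorem D29556 : act 2 n14039 = n29556 := rfl
theorem F47416 : act 3 n29556 = n29045 := d0_2 D14039 D29556 (iv2 D29045) (iv3 D13821) (iv2 F10852)
theorem F47417 : act 7 n29556 = n29088 := d4_2 (iv7 F23423) D29556 (iv2 D29088)
theorem F47418 : act 1 n29556 = n29086 := d15_0 (iv0 D29086) (iv7 F23423) D29556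
theorem F47419 : act 1 n29555 = n29088 := d15_1 D29555 (iv7 F47417) (iv2 D29556)
theorem F47420 : act 1 n29087 = n29556 := d15_1 D29087 F47417 (iv2 D29088)
def n29557 : Q := act 6 n14039
theorem D29557 : act 6 n14039 = n29557 := rfl
theorem F47421 : act 3 n29557 = n14040 := d7_1 D29557 (iv6 D14040) D14039
def n29558 : Q := act 0 n14040
theorem D29558 : act 0 n14040 = n29558 := rfl
def n29559 : Q := act 1 n14040
theorem D29559 : act 1 n14040 = n29559 := rfl
theorem F47422 : act 1 n29559 = n29050 := d15_1 D29559 (iv7 D29050) (iv2 F23424)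
def n29560 : Q := act 5 n14040
theorem D29560 : act 5 n14040 = n29560 := rfl
theorem F47423 : act 2 n29560 = n29049 := d2_1 D29560 (iv5 D29049) (iv2 F23424)
def n29561 : Q := act 7 n14040
theorem D29561 : act 7 n14040 = n29561 := rfl
theorem F47424 : act 2 n29561 = n29050 := d4_1 D29561 (iv7 D29050) (iv2 F23424)
theorem F47425 : act 4 n29561 = n14043 := d11_1 D29561 (iv7 D14043) (iv4 F23425)
theorem F47426 : act 6 n29561 = n29092 := d14_1 D29561 (iv7 D29092) (iv6 D13848) (iv7 F10853) D14040
theorem F47427 : act 1 n29050 = n29558 := d15_0 (iv0 D29558) D29561 F47424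
theorem F47428 : act 1 n29048 = n29561 := d15_1 D29048 (iv7 D29561) F23424
theorem F47429 : act 1 n29561 = n29047 := d15_0 (iv0 D29047) D29050 (iv2 F47424)
def n29562 : Q := act 3 n14041
theorem D29562 : act 3 n14041 = n29562 := rfl
theorem F47430 : act 5 n29562 = n25079 := d6_2 (iv5 F23427) D29562 (iv3 D25079)
theorem F47431 : act 6 n29562 = n29051 := d7_2 (iv6 F23426) D29562 (iv3 D29051)
theorem F47432 : act 7 n29562 = n29053 := d8_2 (iv7 F39388) D29562 (iv3 D29053)
def n29563 : Q := act 4 n14041
theorem D29563 : act 4 n14041 = n29563 := rfl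
theorem F47433 : act 2 n29563 = n29052 := d1_1 D29563 (iv4 D29052) F39387
theorem F47434 : act 6 n29563 = n29052 := d10_2 (iv6 F23426) D29563 (iv4 D29052)
theorem F47435 : act 7 n29563 = n29054 := d11_2 (iv7 F39388) D29563 (iv4 D29054)
def n29564 : Q := act 3 n14042
theorem D29564 : act 3 n14042 = n29564 := rfl
theorem F47436 : act 5 n29564 = n25076 := d6_2 F23429 D29564 (iv3 D25076)
theorem F47437 : act 7 n29564 = n29051 := d8_2 F39385 D29564 (iv3 D29051)
def n29565 : Q := act 4 n14042
theorem D29565 : act 4 n14042 = n29565 := rfl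
theorem F47438 : act 2 n29565 = n29054 := d1_1 D29565 (iv4 D29054) (iv2 F39386)
theorem F47439 : act 7 n29565 = n29052 := d11_2 F39385 D29565 (iv4 D29052)
def n29566 : Q := act 6 n14042
theorem D29566 : act 6 n14042 = n29566 := rfl
theorem F47440 : act 2 n29566 = n29055 := d3_1 D29566 (iv6 D29055) (iv2 F39386)
theorem F47441 : act 5 n29566 = n29055 := d12_1 D29566 (iv6 D29055) (iv5 F23090) (iv6 F23091) F23429
theorem F47442 : act 7 n29566 = n29055 := d14_2 F39385 D29566 (iv6 D29055) (iv7 F39388) F23426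
def n29567 : Q := act 0 n14046
theorem D29567 : act 0 n14046 = n29567 := rfl
theorem F47443 : act 1 n26712 = n29567 := d15_0 (iv0 D29567) F23439 (iv2 F42820)
def n29568 : Q := act 1 n14046
theorem D29568 : act 1 n14046 = n29568 := rfl
def n29569 : Q := act 2 n14046
theorem D29569 : act 2 n14046 = n29569 := rfl
theorem F47444 : act 3 n29569 = n26715 := d0_2 D14046 D29569 F42823 F26822 F10866
theorem F47445 : act 7 n29569 = n26712 := d4_2 (iv7 F23439) D29569 F42820
theorem F47446 : act 1 n29569 = n29060 := d15_0 (iv0 D29060) (iv7 F23439) D29569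
theorem F47447 : act 1 n29568 = n26712 := d15_1 D29568 (iv7 F47445) (iv2 D29569)
theorem F47448 : act 1 n29061 = n29569 := d15_1 D29061 F47445 F42820
theorem F47449 : act 4 n29569 = n24231 := d20_6 (iv4 D3502) (iv1 F4059) (iv4 F9405) (iv3 F21206) (iv1 F42825) (iv3 F47444) (iv1 D24231) F18633 (iv3 D5332) (iv1 F5508)
theorem F47450 : act 2 n24231 = n29010 := d1_1 F47449 F46643 D29569
theorem E5054 : n29061 = n16990 := ((c17_8 (iv1 D24231) D24233 F43572 (iv5 D15949) F11726 D7478 D15980 (iv5 F30295) F47448 F47449)).symm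
theorem F47451 : act 0 n16990 = n13834 := (sb E5054 (iv1 D29061))
theorem F47452 : act 1 n16990 = n29569 := (sb E5054 F47448)
theorem F47453 : act 7 n29060 = n27014 := d15_2 F47452 F47446 F43647
def n29570 : Q := act 4 n14047
theorem D29570 : act 4 n14047 = n29570 := rfl
theorem F47454 : act 2 n29570 = n26713 := d1_1 D29570 (iv4 D26713) (iv2 F26829)
theorem F47455 : act 3 n29570 = n14060 := d5_1 D29570 (iv4 D14060) F10880 (iv4 F10870) D14047
theorem F47456 : act 7 n29570 = n26716 := d11_2 F26823 D29570 (iv4 D26716)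
def n29571 : Q := act 2 n14048
theorem D29571 : act 2 n14048 = n29571 := rfl
theorem F47457 : act 4 n29571 = n16612 := d1_2 (iv4 F26821) D29571 F27102
theorem F47458 : act 7 n14049 = n29571 := d15_2 (iv0 D14048) D14049 (iv2 D29571)
def n29572 : Q := act 5 n14048
theorem D29572 : act 5 n14048 = n29572 := rfl
def n29573 : Q := act 6 n14048
theorem D29573 : act 6 n14048 = n29573 := rfl
theorem F47459 : act 4 n29573 = n16615 := d10_1 D29573 (iv6 D16615) (iv4 F26821)
def n29574 : Q := act 7 n14048
theorem D29574 : act 7 n14048 = n29574 := rfl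
theorem F47460 : act 2 n29574 = n14049 := d4_1 D29574 F47458 (iv2 D29571)
theorem F47461 : act 4 n29574 = n16609 := d11_1 D29574 (iv7 F27100) (iv4 F26821)
def n29575 : Q := act 3 n14049
theorem D29575 : act 3 n14049 = n29575 := rfl
def n29576 : Q := act 5 n14049
theorem D29576 : act 5 n14049 = n29576 := rfl
def n29577 : Q := act 6 n14049
theorem D29577 : act 6 n14049 = n29577 := rfl
theorem F47462 : act 4 n29577 = n16611 := d10_1 D29577 (iv6 D16611) F26717
def n29578 : Q := act 5 n14050
theorem D29578 : act 5 n14050 = n29578 := rfl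
theorem F47463 : act 2 n29578 = n14051 := d2_1 D29578 (iv5 D14051) D14050
theorem F47464 : act 3 n29578 = n26530 := d6_1 D29578 F42472 (iv3 F23442)
theorem F47465 : act 7 n29578 = n29107 := d13_2 (iv7 F23443) D29578 (iv5 D29107)
theorem F47466 : act 1 n29109 = n29578 := d15_1 D29109 F47465 F46758
theorem F47467 : act 1 n29578 = n29108 := d15_0 (iv0 D29108) (iv7 F23448) (iv2 F47463)
def n29579 : Q := act 0 n14051
theorem D29579 : act 0 n14051 = n29579 := rfl
theorem F47468 : act 1 n29107 = n29579 := d15_0 (iv0 D29579) F23448 (iv2 F46758)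
def n29580 : Q := act 1 n14051
theorem D29580 : act 1 n14051 = n29580 := rfl
theorem F47469 : act 1 n29580 = n29107 := d15_1 D29580 (iv7 F47465) F47463
def n29581 : Q := act 4 n14051
theorem D29581 : act 4 n14051 = n29581 := rfl
theorem F47470 : act 7 n29581 = n29110 := d11_2 (iv7 F23448) D29581 (iv4 D29110)
def n29582 : Q := act 6 n14051
theorem D29582 : act 6 n14051 = n29582 := rfl
theorem F47471 : act 3 n29582 = n14052 := d7_1 D29582 (iv6 D14052) (iv3 F23447)
def n29583 : Q := act 0 n14052
theorem D29583 : act 0 n14052 = n29583 := rfl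
def n29584 : Q := act 1 n14052
theorem D29584 : act 1 n14052 = n29584 := rfl
theorem F47472 : act 1 n29584 = n29071 := d15_1 D29584 (iv7 D29071) (iv2 F23449)
def n29585 : Q := act 7 n14052
theorem D29585 : act 7 n14052 = n29585 := rfl
theorem F47473 : act 2 n29585 = n29071 := d4_1 D29585 (iv7 D29071) (iv2 F23449)
theorem F47474 : act 6 n29585 = n29114 := d14_1 D29585 (iv7 D29114) (iv6 D13857) (iv7 F10874) D14052
theorem F47475 : act 1 n29071 = n29583 := d15_0 (iv0 D29583) D29585 F47473
theorem F47476 : act 1 n29070 = n29585 := d15_1 D29070 (iv7 D29585) F23449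
theorem F47477 : act 1 n29585 = n29069 := d15_0 (iv0 D29069) D29071 (iv2 F47473)
def n29586 : Q := act 0 n14053
theorem D29586 : act 0 n14053 = n29586 := rfl
theorem F47478 : act 5 n29586 = n25798 := d21_2 D14053 D29586 (iv6 F40776) F45389 F45386 F40781 (iv1 F38592) F38323 F18841 (iv1 F19515)
theorem F47479 : act 1 n14341 = n29586 := d15_0 (iv0 D29586) F23451 (iv2 F23956)
theorem F47480 : act 2 n28991 = n29586 := d2_3 F47478 (iv2 F40777) (iv5 F46616)
theorem F47481 : act 7 n28990 = n29586 := d13_0 F47478 F40775 (iv5 F46612)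
def n29587 : Q := act 1 n14053
theorem D29587 : act 1 n14053 = n29587 := rfl
theorem F47482 : act 1 n29587 = n14341 := d15_1 D29587 (iv7 F38311) F38309
theorem F47483 : act 7 n29587 = n28991 := d15_2 (iv0 D29586) D29587 F47480
theorem F47484 : act 5 n29587 = n14166 := d17_7 F20320 (iv5 F23493) (iv1 D14069) (iv5 D6689) (iv4 F10876) D14053 D29587 (iv0 F39700) F20303
theorem F47485 : act 2 n28990 = n29587 := d2_3 F47484 F38585 (iv5 F46612)
theorem F47486 : act 3 n14173 = n29587 := d6_3 F47484 F23684 D14173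
def n29588 : Q := act 4 n14053
theorem D29588 : act 4 n14053 = n29588 := rfl
theorem F47487 : act 7 n29588 = n28992 := d11_2 (iv7 F23451) D29588 (iv4 D28992)
theorem F47488 : act 1 n29588 = n28867 := d18_6 (iv1 F18656) (iv4 F8928) (iv1 F10345) (iv4 F10876) D14053 D29588 (iv4 D28867) (iv0 F38005) (iv5 D24242)
def n29589 : Q := act 6 n14053
theorem D29589 : act 6 n14053 = n29589 := rfl
theorem F47489 : act 3 n29589 = n14058 := d7_1 D29589 (iv6 D14058) (iv3 F23450)
def n29590 : Q := act 5 n14054
theorem D29590 : act 5 n14054 = n29590 := rfl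
theorem F47490 : act 2 n29590 = n29020 := d2_1 D29590 F46661 F38312
theorem F47491 : act 3 n29590 = n14059 := d6_1 D29590 (iv5 D14059) (iv3 F23452)
theorem F47492 : act 1 n29590 = n25761 := d17_6 F10768 D13970 F23502 (iv5 D14072) (iv4 F23453) D29590 (iv5 D25761) (iv0 D12229) F8919
theorem F47493 : act 4 n29590 = n29374 := d18_5 (iv1 D11725) (iv4 F18508) F19051 (iv4 F23453) D29590 (iv0 D29374) (iv4 D13973) D13972 (iv5 F23902)
theorem F47494 : act 0 n29590 = n25762 := d21_1 D29590 (iv5 D25762) F38586 (iv1 F40783) (iv6 F45386) F45385 (iv1 F39418) (iv5 D24454) D24455 F38386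
theorem F47495 : act 2 n29374 = n28858 := d1_1 F47493 (iv4 F46662) (iv2 F47490)
theorem F47496 : act 7 n28857 = n29374 := d15_2 (iv0 F47031) F47032 F47495
theorem F47497 : act 7 n29375 = n28858 := d15_2 (iv0 D29374) D29375 (iv2 F47495)
theorem F47498 : act 2 n28857 = n29375 := d4_3 F47497 (iv2 F47495) (iv7 F47496)
def n29591 : Q := act 4 n14055
theorem D29591 : act 4 n14055 = n29591 := rfl
theorem F47499 : act 2 n29591 = n28997 := d1_1 D29591 (iv4 D28997) F23456
theorem F47500 : act 7 n29591 = n28994 := d11_2 F23457 D29591 (iv4 D28994)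
theorem F47501 : act 0 n29591 = n24359 := d18_2 D14055 D29591 (iv4 D24359) (iv5 D11479) F10287 (iv0 D2779) (iv4 F3760) (iv0 F7730) D6683
theorem F47502 : act 1 n29591 = n25321 := d18_6 (iv1 F19194) F19191 (iv1 F18319) F18514 (iv5 F23454) D29591 (iv4 D25321) (iv0 F37575) (iv5 D24035)
def n29592 : Q := act 3 n14056
theorem D29592 : act 3 n14056 = n29592 := rfl
theorem F47503 : act 5 n29592 = n14265 := d6_2 (iv5 F23460) D29592 F23809
theorem F47504 : act 7 n29592 = n28996 := d8_2 (iv7 F23459) D29592 (iv3 D28996)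
theorem F47505 : act 0 n16494 = n29592 := d17_2 F18742 D16494 F47503 F23810 D29321 (iv0 F46974) (iv5 D24247) (iv0 F19231) F19230
theorem F47506 : act 1 n16500 = n29592 := d17_6 (iv1 F22556) D14294 F23872 (iv5 D7664) D7663 D16500 F47503 (iv0 F23811) F11140
def n29593 : Q := act 4 n14056
theorem D29593 : act 4 n14056 = n29593 := rfl
theorem F47507 : act 2 n29593 = n28994 := d1_1 D29593 (iv4 D28994) F23461
theorem F47508 : act 7 n29593 = n28997 := d11_2 (iv7 F23459) D29593 (iv4 D28997)
theorem F47509 : act 0 n29593 = n25321 := d18_2 (iv1 F23458) D29593 (iv4 D25321) (iv5 D12022) (iv4 F10076) F7654 (iv4 F8803) (iv0 F10050) D12013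
theorem F47510 : act 1 n29593 = n24359 := d18_6 (iv1 D11370) F7815 (iv1 F10330) (iv4 F18413) (iv5 F23460) D29593 (iv4 D24359) (iv0 F37940) (iv5 D24210)
def n29594 : Q := act 6 n14056
theorem D29594 : act 6 n14056 = n29594 := rfl
theorem F47511 : act 2 n29594 = n28995 := d3_1 D29594 (iv6 D28995) F23461
theorem F47512 : act 5 n29594 = n24057 := d12_1 D29594 (iv6 D24057) (iv5 D11290) D11291 (iv5 F23460)
def n29595 : Q := act 0 n14057
theorem D29595 : act 0 n14057 = n29595 := rfl
theorem F47513 : act 4 n29595 = n16583 := d18_3 (iv1 D14056) D14057 D29595 F27058 (iv4 D11707) F10363 (iv4 F22270) F22274 (iv5 F23460)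
theorem F47514 : act 2 n29000 = n29595 := d15_3 (iv0 D29595) (iv0 F46987) F46986
theorem F47515 : act 1 n25300 = n29595 := d15_0 (iv0 D29595) F23462 (iv2 F39956)
theorem F47516 : act 7 n29595 = n28999 := d15_2 F46988 F47515 (iv2 F46985)
def n29596 : Q := act 3 n14057
theorem D29596 : act 3 n14057 = n29596 := rfl
theorem F47517 : act 7 n29596 = n29001 := d8_2 (iv7 F23462) D29596 (iv3 D29001)
def n29597 : Q := act 5 n14057
theorem D29597 : act 5 n14057 = n29597 := rfl
theorem F47518 : act 2 n29597 = n29018 := d2_1 D29597 F46658 F40005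
theorem F47519 : act 7 n29597 = n29002 := d13_2 (iv7 F23462) D29597 (iv5 D29002)
theorem F47520 : act 4 n29597 = n25303 := d16_2 D14057 D29597 (iv5 D25303) (iv4 D12014) (iv5 D5675) D5674 D12013 (iv7 F19896) F19894
theorem F47521 : act 0 n29597 = n25297 := d17_2 F46987 D29597 (iv5 D25297) (iv4 D12011) (iv5 D5672) (iv0 F10288) D7706 (iv0 F23237) D29329
theorem F47522 : act 1 n29597 = n25314 := d17_6 (iv1 F19952) F19950 (iv1 F8805) D6683 D14057 D29597 (iv5 F40000) F40002 F39948
def n29598 : Q := act 6 n14057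
theorem D29598 : act 6 n14057 = n29598 := rfl
theorem F47523 : act 4 n29598 = n14058 := d10_1 D29598 (iv6 D14058) D14057
def n29599 : Q := act 0 n14058
theorem D29599 : act 0 n14058 = n29599 := rfl
def n29600 : Q := act 1 n14058
theorem D29600 : act 1 n14058 = n29600 := rfl
theorem F47524 : act 6 n14397 = n29600 := d21_3 (iv5 F37788) (iv1 F40148) F40146 (iv1 D29600) (iv6 D14058) (iv5 D6683) F7730 D5700 (iv6 F19921) (iv1 F37486)
def n29601 : Q := act 5 n14058
theorem D29601 : act 5 n14058 = n29601 := rfl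
theorem F47525 : act 6 n29601 = n14059 := d12_2 D14058 D29601 (iv5 D14059) (iv6 D6684) D6683
def n29602 : Q := act 7 n14058
theorem D29602 : act 7 n14058 = n29602 := rfl
theorem F47526 : act 6 n29602 = n29006 := d14_1 D29602 (iv7 D29006) (iv6 D13804) (iv7 F10878) D14058
def n29603 : Q := act 4 n14059
theorem D29603 : act 4 n14059 = n29603 := rfl
theorem F47527 : act 2 n29603 = n29309 := d1_1 D29603 F46955 (iv2 F37617)
theorem F47528 : act 7 n29603 = n29310 := d11_2 F37621 D29603 F46958
theorem F47529 : act 0 n29603 = n24033 := d18_2 (iv1 F23464) D29603 (iv4 D24033) (iv5 D11277) F10274 F3645 (iv4 F7789) (iv0 F10227) D11257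
theorem F47530 : act 1 n29603 = n24031 := d18_6 F22687 F18021 (iv1 F10020) (iv4 F10879) D14059 D29603 (iv4 D24031) D24030 F37564
def n29604 : Q := act 5 n14060
theorem D29604 : act 5 n14060 = n29604 := rfl
theorem F47531 : act 2 n29604 = n29009 := d2_1 D29604 (iv5 D29009) (iv2 F23465)
theorem F47532 : act 7 n29604 = n29007 := d13_2 (iv7 F23466) D29604 (iv5 D29007)
theorem F47533 : act 0 n29604 = n25334 := d17_2 F26403 D29604 (iv5 D25334) F19912 (iv5 F10425) D11253 (iv5 F23058) F23062 (iv4 F26406)
theorem F47534 : act 1 n29604 = n25331 := d17_6 (iv1 F10024) (iv5 F10361) (iv1 F10363) (iv5 F10881) D14060 D29604 (iv5 D25331) (iv0 D12029) (iv4 D5696)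
def n29605 : Q := act 3 n14061
theorem D29605 : act 3 n14061 = n29605 := rfl
theorem F47535 : act 7 n29605 = n29008 := d8_2 (iv7 F23469) D29605 (iv3 D29008)
def n29606 : Q := act 5 n14061
theorem D29606 : act 5 n14061 = n29606 := rfl
theorem F47536 : act 2 n29606 = n29007 := d2_1 D29606 (iv5 D29007) (iv2 F23468)
theorem F47537 : act 7 n29606 = n29009 := d13_2 (iv7 F23469) D29606 (iv5 D29009)
theorem F47538 : act 0 n29606 = n25331 := d17_2 F37336 D29606 (iv5 D25331) F19906 F10751 (iv0 F10396) D11266 (iv0 F18345) D23922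
theorem F47539 : act 1 n29606 = n25334 := d17_6 (iv1 F8742) (iv5 D5448) D5446 F10887 D14061 D29606 (iv5 D25334) F19910 F19880
def n29607 : Q := act 6 n14061
theorem D29607 : act 6 n14061 = n29607 := rfl
theorem F47540 : act 2 n29607 = n25757 := d3_1 D29607 F40682 (iv2 F23468)
theorem F47541 : act 4 n29607 = n14062 := d10_1 D29607 (iv6 D14062) D14061
theorem F47542 : act 7 n29607 = n25760 := d14_2 (iv7 F23469) D29607 F40686 F27807 F24850
theorem F47543 : act 0 n16956 = n29607 := d21_4 (iv5 F32554) (iv1 F32557) (iv5 D16955) D16956 (iv6 D29607) D29606 F47538 (iv5 D25331) D25332 (iv1 F40019)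
def n29608 : Q := act 3 n14064
theorem D29608 : act 3 n14064 = n29608 := rfl
theorem F47544 : act 4 n29608 = n29605 := d5_2 (iv4 F23483) D29608 (iv3 D29605) (iv4 D14061) (iv3 F18418)
theorem F47545 : act 7 n29608 = n29012 := d8_2 (iv7 F23482) D29608 (iv3 D29012)
def n29609 : Q := act 6 n14064
theorem D29609 : act 6 n14064 = n29609 := rfl
theorem F47546 : act 2 n29609 = n28706 := d3_1 D29609 F46281 F23484
theorem F47547 : act 4 n29609 = n16896 := d10_1 D29609 F27682 (iv4 F23483)
theorem F47548 : act 0 n26869 = n29609 := d21_4 (iv5 F36975) (iv1 F32625) (iv5 F31838) D26869 (iv6 D29609) (iv5 F46793) (iv1 D29126) (iv5 D13861) D13862 (iv1 F36976)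
def n29610 : Q := act 0 n14065
theorem D29610 : act 0 n14065 = n29610 := rfl
theorem F47549 : act 1 n29016 = n29610 := d15_0 (iv0 D29610) F23486 D29016
def n29611 : Q := act 1 n14065
theorem D29611 : act 1 n14065 = n29611 := rfl
theorem F47550 : act 1 n29611 = n29016 := d15_1 D29611 F46655 F43271
def n29612 : Q := act 5 n14065
theorem D29612 : act 5 n14065 = n29612 := rfl
theorem F47551 : act 3 n29612 = n14066 := d6_1 D29612 (iv5 D14066) D14065
theorem F47552 : act 7 n29612 = n29017 := d13_2 (iv7 F23486) D29612 (iv5 D29017)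
def n29613 : Q := act 1 n14066
theorem D29613 : act 1 n14066 = n29613 := rfl
theorem F47553 : act 1 n29613 = n25303 := d15_1 D29613 (iv7 F40010) F40009
theorem F47554 : act 7 n29613 = n23769 := d15_2 (iv0 F23488) D29613 F37045
theorem F47555 : act 5 n29613 = n14092 := d17_7 (iv1 F8782) F8780 F10048 D3006 D6687 D14066 D29613 F23546 (iv4 D12015)
theorem F47556 : act 2 n25629 = n29613 := d2_3 F47555 (iv2 F23549) (iv5 F40531)
theorem F47557 : act 4 n25349 = n29613 := d9_15 F47555 F23548 F18182 (iv4 F8803) (iv5 F19950) (iv4 F40082) (iv5 F40528) (iv4 D25628) (iv5 D12183) F8897 (iv5 D2781) (iv4 F3760) D5700 D12037 D25349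
def n29614 : Q := act 4 n14066
theorem D29614 : act 4 n14066 = n29614 := rfl
theorem F47558 : act 2 n29614 = n29002 := d1_1 D29614 F46634 F40009
theorem F47559 : act 5 n29614 = n25300 := d9_2 D14066 D29614 (iv4 D25300) (iv5 D12013) (iv4 D5674) D5675 D12014 D25303 (iv4 F47520) (iv5 D29597) (iv4 D14057) (iv5 D6683) (iv4 D3005) D3006 D6687
theorem F47560 : act 7 n29614 = n29018 := d11_2 (iv7 F23487) D29614 (iv4 D29018)
theorem F47561 : act 0 n29614 = n25314 := d18_2 (iv1 D29613) D29614 (iv4 D25314) (iv5 D12018) (iv4 D5682) (iv0 F10000) D6700 D14092 (iv5 F47555)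
theorem F47562 : act 1 n29614 = n25297 := d18_6 F37336 (iv4 D14061) (iv1 D6686) D6687 D14066 D29614 (iv4 F40050) F40053 F39977
def n29615 : Q := act 6 n14066
theorem D29615 : act 6 n14066 = n29615 := rfl
def n29616 : Q := act 5 n14067
theorem D29616 : act 5 n14067 = n29616 := rfl
theorem F47563 : act 0 n29616 = n24060 := d17_2 (iv1 F23490) D29616 (iv5 D24060) (iv4 D11294) (iv5 F10494) F10497 (iv5 F18331) (iv0 D11259) D11261
theorem F47564 : act 1 n29616 = n24062 := d17_6 (iv1 F8412) (iv5 F8414) (iv1 F10020) D6688 D14067 D29616 (iv5 D24062) F18636 F18635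
def n29617 : Q := act 3 n14068
theorem D29617 : act 3 n14068 = n29617 := rfl
theorem F47565 : act 7 n29617 = n29020 := d8_2 (iv7 F23498) D29617 (iv3 D29020)
theorem F47566 : act 4 n29617 = n29375 := d20_6 D13976 F23282 (iv4 D6691) (iv3 F10894) D14068 D29617 (iv1 D29375) (iv4 D13973) F10772 D6644
theorem F47567 : act 0 n25762 = n29617 := d18_0 F47566 (iv1 D29375) (iv4 D13973) (iv5 D6643) D6642 (iv0 F10768) (iv4 F8919) D12230 D25762
theorem F47568 : act 1 n25761 = n29617 := d15_0 (iv0 F47567) F40693 (iv2 F40688)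
def n29618 : Q := act 4 n14068
theorem D29618 : act 4 n14068 = n29618 := rfl
theorem F47569 : act 2 n29618 = n29023 := d1_1 D29618 (iv4 D29023) F23497
theorem F47570 : act 7 n29618 = n29021 := d11_2 (iv7 F23498) D29618 (iv4 D29021)
def n29619 : Q := act 4 n14069
theorem D29619 : act 4 n14069 = n29619 := rfl
theorem F47571 : act 2 n29619 = n29021 := d1_1 D29619 (iv4 D29021) F23494
theorem F47572 : act 7 n29619 = n29023 := d11_2 F23495 D29619 (iv4 D29023)
def n29620 : Q := act 6 n14069
theorem D29620 : act 6 n14069 = n29620 := rfl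
theorem F47573 : act 2 n29620 = n29022 := d3_1 D29620 (iv6 D29022) F23494
theorem F47574 : act 5 n29620 = n14348 := d12_1 D29620 (iv6 D14348) (iv5 D6854) D6855 (iv5 F23493)
def n29621 : Q := act 0 n14070
theorem D29621 : act 0 n14070 = n29621 := rfl
theorem F47575 : act 4 n29621 = n28753 := d20_2 D14070 D29621 F47119 (iv1 D29303) F23224 D13948 D29309 F46955 (iv3 F37618) (iv1 D14069)
theorem F47576 : act 1 n25766 = n29621 := d15_0 (iv0 D29621) F23499 (iv2 F40710)
theorem F47577 : act 2 n29026 = n29621 := d1_3 F47575 (iv2 F47118) F47115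
theorem F47578 : act 7 n29025 = n29621 := d15_2 F46671 F46670 (iv2 F47577)
def n29622 : Q := act 1 n14070
theorem D29622 : act 1 n14070 = n29622 := rfl
theorem F47579 : act 1 n29622 = n25766 := d15_1 D29622 (iv7 F40722) F40721
theorem F47580 : act 7 n29622 = n29026 := d15_2 (iv0 D29621) D29622 F47577
theorem F47581 : act 4 n29622 = n28754 := d18_7 F22391 F22388 (iv1 F19515) F10876 D6689 D14070 D29622 F46384 (iv5 D24249)
theorem F47582 : act 2 n29025 = n29622 := d4_3 F47580 F47577 (iv7 F47578)
def n29623 : Q := act 3 n14070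
theorem D29623 : act 3 n14070 = n29623 := rfl
theorem F47583 : act 4 n29623 = n14073 := d5_2 D14070 D29623 (iv3 D14073) (iv4 D6691) (iv3 F10894)
theorem F47584 : act 7 n29623 = n29027 := d8_2 (iv7 F23499) D29623 (iv3 D29027)
def n29624 : Q := act 5 n14070
theorem D29624 : act 5 n14070 = n29624 := rfl
theorem F47585 : act 7 n29624 = n29028 := d13_2 (iv7 F23499) D29624 (iv5 D29028)
def n29625 : Q := act 6 n14070
theorem D29625 : act 6 n14070 = n29625 := rfl
theorem F47586 : act 4 n29625 = n14071 := d10_1 D29625 (iv6 D14071) D14070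
def n29626 : Q := act 0 n14071
theorem D29626 : act 0 n14071 = n29626 := rfl
def n29627 : Q := act 5 n14071
theorem D29627 : act 5 n14071 = n29627 := rfl
theorem F47587 : act 3 n29627 = n14076 := d6_1 D29627 (iv5 D14076) (iv3 F23500)
theorem F47588 : act 6 n29627 = n14072 := d12_2 D14071 D29627 (iv5 D14072) (iv6 D6690) D6689
def n29628 : Q := act 7 n14071
theorem D29628 : act 7 n14071 = n29628 := rfl
theorem F47589 : act 3 n29628 = n14077 := d8_1 D29628 (iv7 D14077) (iv3 F23500)
theorem F47590 : act 6 n29628 = n29032 := d14_1 D29628 (iv7 D29032) (iv6 D13815) (iv7 F10895) D14071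
theorem F47591 : act 1 n14443 = n29628 := d15_1 (iv0 F40725) (iv7 D29628) (iv2 F40723)
def n29629 : Q := act 4 n14072
theorem D29629 : act 4 n14072 = n29629 := rfl
def n29630 : Q := act 0 n14073
theorem D29630 : act 0 n14073 = n29630 := rfl
theorem F47592 : act 1 n29045 = n29630 := d15_0 (iv0 D29630) F23503 D29045
def n29631 : Q := act 1 n14073
theorem D29631 : act 1 n14073 = n29631 := rfl
def n29632 : Q := act 2 n14073
theorem D29632 : act 2 n14073 = n29632 := rfl
theorem F47593 : act 3 n29632 = n29088 := d0_2 D14073 D29632 (iv2 D29088) (iv3 D13847) (iv2 F10897)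
theorem F47594 : act 7 n29632 = n29045 := d4_2 (iv7 F23503) D29632 (iv2 D29045)
theorem F47595 : act 1 n29632 = n29043 := d15_0 (iv0 D29043) (iv7 F23503) D29632
theorem F47596 : act 1 n29631 = n29045 := d15_1 D29631 (iv7 F47594) (iv2 D29632)
theorem F47597 : act 1 n29044 = n29632 := d15_1 D29044 F47594 (iv2 D29045)
def n29633 : Q := act 6 n14073
theorem D29633 : act 6 n14073 = n29633 := rfl
theorem F47598 : act 3 n29633 = n14074 := d7_1 D29633 (iv6 D14074) D14073
def n29634 : Q := act 5 n14074
theorem D29634 : act 5 n14074 = n29634 := rfl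
theorem F47599 : act 2 n29634 = n29091 := d2_1 D29634 (iv5 D29091) (iv2 F23504)
def n29635 : Q := act 7 n14074
theorem D29635 : act 7 n14074 = n29635 := rfl
theorem F47600 : act 2 n29635 = n29092 := d4_1 D29635 (iv7 D29092) (iv2 F23504)
theorem F47601 : act 4 n29635 = n14077 := d11_1 D29635 (iv7 D14077) (iv4 F23505)
theorem F47602 : act 6 n29635 = n29050 := d14_1 D29635 (iv7 D29050) (iv6 D13822) (iv7 F10898) D14074
theorem F47603 : act 1 n28827 = n29635 := d15_1 (iv0 F46468) (iv7 D29635) F23504
theorem F47604 : act 1 n29635 = n28878 := d15_1 F47603 F46518 (iv2 F46466)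
theorem E5055 : n14723 = n14681 := ((c18_2 (iv1 F20427) D14681 (iv1 D14723) (iv4 F18120) (iv5 F22991) (iv4 F46467) F47603 F47601 F23517 F23515)).symm
theorem F47605 : act 0 n14681 = n7022 := (sb E5055 (iv1 D14723))
theorem F47606 : act 1 n14681 = n25980 := (sb E5055 F41062)
def n29636 : Q := act 3 n14075
theorem D29636 : act 3 n14075 = n29636 := rfl
theorem F47607 : act 5 n29636 = n14659 := d6_2 F23513 D29636 F24343
theorem F47608 : act 7 n29636 = n14658 := d8_2 (iv7 F23512) D29636 F24341
def n29637 : Q := act 0 n14076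
theorem D29637 : act 0 n14076 = n29637 := rfl
theorem F47609 : act 6 n29637 = n14769 := d21_5 (iv5 F4845) (iv1 F4944) D6693 (iv6 F23507) D29637 (iv5 D14769) (iv1 F11964) F11961 (iv6 D7693) (iv1 F5478)
theorem F47610 : act 1 n25917 = n29637 := d15_0 (iv0 D29637) (iv7 F24320) (iv2 F40963)
theorem F47611 : act 2 n29095 = n29637 := d3_3 F47609 (iv2 F41127) (iv6 F46743)
theorem F47612 : act 7 n29096 = n29637 := d15_2 (iv0 D29095) D29096 (iv2 F47611)
theorem F47613 : act 6 n14565 = n29096 := d14_5 F47612 F47609 (iv7 F41137) F41136 F39509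
def n29638 : Q := act 1 n14076
theorem D29638 : act 1 n14076 = n29638 := rfl
theorem F47614 : act 1 n29638 = n25917 := d15_1 D29638 F40965 (iv2 F23506)
theorem F47615 : act 7 n29638 = n29095 := d15_2 (iv0 D29637) D29638 F47611
theorem F47616 : act 2 n29096 = n29638 := d4_3 F47615 F47611 (iv7 F47612)
theorem F47617 : act 6 n24641 = n29638 := d14_5 F47615 F46743 F41128 (iv6 F24412) F39514
def n29639 : Q := act 4 n14076
theorem D29639 : act 4 n14076 = n29639 := rfl
theorem F47618 : act 2 n29639 = n29097 := d1_1 D29639 (iv4 D29097) (iv2 F23506)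
theorem F47619 : act 6 n29639 = n14078 := d10_2 (iv6 F23507) D29639 (iv4 D14078)
def n29640 : Q := act 3 n14078
theorem D29640 : act 3 n14078 = n29640 := rfl
def n29641 : Q := act 4 n14079
theorem D29641 : act 4 n14079 = n29641 := rfl
theorem F47620 : act 2 n29641 = n24018 := d1_1 D29641 F37550 F26827
theorem F47621 : act 6 n29641 = n28386 := d10_2 (iv6 F26828) D29641 F45894
theorem F47622 : act 7 n29641 = n29064 := d11_2 (iv7 F26826) D29641 (iv4 D29064)
def n29642 : Q := act 4 n14082
theorem D29642 : act 4 n14082 = n29642 := rfl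
theorem F47623 : act 7 n29642 = n29067 := d11_2 (iv7 F23529) D29642 (iv4 D29067)
def n29643 : Q := act 6 n14082
theorem D29643 : act 6 n14082 = n29643 := rfl
theorem F47624 : act 3 n29643 = n14083 := d7_1 D29643 (iv6 D14083) (iv3 F23528)
theorem F47625 : act 5 n29643 = n17411 := d12_1 D29643 (iv6 D17411) (iv5 D8159) (iv6 F26505) D14082
def n29644 : Q := act 0 n14083
theorem D29644 : act 0 n14083 = n29644 := rfl
def n29645 : Q := act 1 n14083
theorem D29645 : act 1 n14083 = n29645 := rfl
theorem F47626 : act 1 n29645 = n29114 := d15_1 D29645 (iv7 D29114) (iv2 F23530)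
def n29646 : Q := act 7 n14083
theorem D29646 : act 7 n14083 = n29646 := rfl
theorem F47627 : act 2 n29646 = n29114 := d4_1 D29646 (iv7 D29114) (iv2 F23530)
theorem F47628 : act 6 n29646 = n29071 := d14_1 D29646 (iv7 D29071) (iv6 D13840) (iv7 F10905) D14083
theorem F47629 : act 1 n29114 = n29644 := d15_0 (iv0 D29644) D29646 F47627
theorem F47630 : act 1 n29113 = n29646 := d15_1 D29113 (iv7 D29646) F23530
theorem F47631 : act 1 n29646 = n29112 := d15_0 (iv0 D29112) D29114 (iv2 F47627)
def n29647 : Q := act 4 n14085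
theorem D29647 : act 4 n14085 = n29647 := rfl
theorem F47632 : act 2 n29647 = n29119 := d1_1 D29647 (iv4 D29119) (iv2 F23531)
theorem F47633 : act 5 n29647 = n14593 := d9_2 D14085 D29647 (iv4 D14593) (iv5 D6972) F4941 (iv5 F4643) (iv4 F10695) D13877 D29158 F46823 (iv4 D14078) (iv5 D6693) F4715 D3012 D6696
theorem F47634 : act 7 n29647 = n29099 := d11_2 F23570 D29647 F46747
theorem F47635 : act 0 n29647 = n14521 := d17_0 (iv5 D14521) (iv1 D6934) D6936 (iv4 F12033) F12034 (iv0 F8091) D11439 (iv0 F23532) D29647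
theorem F47636 : act 1 n29647 = n14518 := d18_6 (iv1 F10702) (iv4 D3491) F4720 D6696 D14085 D29647 F24158 (iv0 F23160) (iv5 D13893)
theorem E5056 : n14941 = n14642 := ((c21_4 D14518 (iv1 F47636) F47633 (iv6 F24323) (iv1 D14941) (iv6 D7117) (iv5 F11283) (iv1 D7032) (iv5 D3175) (iv6 F4846) D6933)).symm
theorem F47637 : act 0 n14642 = n7117 := (sb E5056 (iv1 D14941))
theorem F47638 : act 1 n14642 = n26087 := (sb E5056 F41268)
theorem E5057 : n14940 = n14639 := (c15_2 F47638 F41269 (iv7 F38668) F38666)
theorem F47639 : act 0 n14639 = n26087 := (sb E5057 (iv1 F41269))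
theorem F47640 : act 1 n14639 = n7117 := (sb E5057 (iv0 D14940))
theorem E5058 : n28131 = n25123 := (c18_2 (iv1 F22327) D28131 (iv1 D25123) F19685 (iv5 F11257) D14642 F47638 F41265 F20560 (iv5 F22245))
theorem F47641 : act 2 n25123 = n24661 := (sb E5058 (iv2 F46776))
theorem F47642 : act 4 n25123 = n13426 := (sb E5058 (iv4 D28131))
theorem F47643 : act 7 n25123 = n24660 := (sb E5058 (iv7 F46782))
theorem E5059 : n28127 = n25122 := (c15_4 (iv0 D25122) D25123 F47643 F46779)
theorem F47644 : act 2 n25122 = n24660 := (sb E5059 (iv2 F46779))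
theorem F47645 : act 4 n25122 = n13425 := (sb E5059 (iv4 D28127))
theorem F47646 : act 6 n25122 = n28057 := (sb E5059 F45446)
theorem F47647 : act 7 n25122 = n24661 := (sb E5059 (iv7 F46778))
def n29648 : Q := act 6 n14085
theorem D29648 : act 6 n14085 = n29648 := rfl
theorem F47648 : act 2 n29648 = n29120 := d3_1 D29648 (iv6 D29120) (iv2 F23531)
theorem F47649 : act 5 n29648 = n17018 := d12_1 D29648 (iv6 D17018) (iv5 F20648) F20646 D14085
def n29649 : Q := act 2 n14086
theorem D29649 : act 2 n14086 = n29649 := rfl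
theorem F47650 : act 7 n14087 = n29649 := d15_2 (iv0 D14086) D14087 (iv2 D29649)
def n29655 : Q := act 5 n14088
theorem D29655 : act 5 n14088 = n29655 := rfl
theorem F47652 : act 2 n29655 = n14089 := d2_1 D29655 (iv5 D14089) D14088
theorem F47654 : act 7 n29655 = n29147 := d13_2 (iv7 F23537) D29655 (iv5 D29147)
def n29656 : Q := act 6 n14088
theorem D29656 : act 6 n14088 = n29656 := rfl
theorem F47657 : act 2 n29656 = n14090 := d3_1 D29656 (iv6 D14090) D14088
def n29657 : Q := act 0 n14089
theorem D29657 : act 0 n14089 = n29657 := rfl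
theorem F47660 : act 1 n29147 = n29657 := d15_0 (iv0 D29657) F23542 (iv2 F46814)
def n29658 : Q := act 1 n14089
theorem D29658 : act 1 n14089 = n29658 := rfl
theorem F47661 : act 1 n29658 = n29147 := d15_1 D29658 (iv7 F47654) F47652
def n29659 : Q := act 4 n14089
theorem D29659 : act 4 n14089 = n29659 := rfl
def n29660 : Q := act 6 n14089
theorem D29660 : act 6 n14089 = n29660 := rfl
theorem F47663 : act 3 n29660 = n14091 := d7_1 D29660 (iv6 D14091) (iv3 F23541)
def n29661 : Q := act 0 n14090
theorem D29661 : act 0 n14090 = n29661 := rfl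
def n29662 : Q := act 1 n14090
theorem D29662 : act 1 n14090 = n29662 := rfl
def n29663 : Q := act 0 n14091
theorem D29663 : act 0 n14091 = n29663 := rfl
def n29664 : Q := act 1 n14091
theorem D29664 : act 1 n14091 = n29664 := rfl
theorem F47665 : act 1 n29664 = n29138 := d15_1 D29664 (iv7 D29138) (iv2 F23545)
def n29665 : Q := act 7 n14091
theorem D29665 : act 7 n14091 = n29665 := rfl
theorem F47666 : act 2 n29665 = n29138 := d4_1 D29665 (iv7 D29138) (iv2 F23545)
theorem F47667 : act 6 n29665 = n29157 := d14_1 D29665 (iv7 D29157) (iv6 D13876) (iv7 F10913) D14091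
theorem F47668 : act 1 n29138 = n29663 := d15_0 (iv0 D29663) D29665 F47666
theorem F47669 : act 1 n29137 = n29665 := d15_1 D29137 (iv7 D29665) F23545
theorem F47670 : act 1 n29665 = n29136 := d15_0 (iv0 D29136) D29138 (iv2 F47666)
def n29666 : Q := act 3 n14092
theorem D29666 : act 3 n14092 = n29666 := rfl
theorem F47671 : act 4 n29666 = n25339 := d5_2 (iv4 F23548) D29666 F40034 F19917 (iv3 F18181)
theorem F47672 : act 6 n29666 = n25649 := d7_2 F23550 D29666 F40545
theorem F47673 : act 7 n29666 = n23767 := d8_2 (iv7 F23547) D29666 F37041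
def n29667 : Q := act 0 n14093
theorem D29667 : act 0 n14093 = n29667 := rfl
theorem F47674 : act 1 n26528 = n29667 := d15_0 (iv0 D29667) F23552 (iv2 F42469)
theorem F47675 : act 4 n29234 = n29667 := d20_0 (iv1 F47674) (iv4 D26528) F26678 (iv1 F23540) D29144 (iv4 F46874) F46877 (iv4 D13902) D13901 D29234
def n29668 : Q := act 1 n14093
theorem D29668 : act 1 n14093 = n29668 := rfl
theorem F47676 : act 4 n29160 = n29668 := d20_6 F4019 D2803 F5102 D6600 D13878 D29160 (iv1 D29668) F23551 (iv3 D6702) (iv1 F4983)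
theorem F47677 : act 0 n26528 = n29668 := d20_1 D26528 (iv4 F47676) (iv3 D29160) (iv1 F23589) F23586 D29192 (iv1 F46844) F42388 F21064 D12664
def n29669 : Q := act 2 n14093
theorem D29669 : act 2 n14093 = n29669 := rfl
theorem F47678 : act 3 n29669 = n29192 := d0_2 D14093 D29669 F46842 F23157 F19053
theorem F47679 : act 4 n29669 = n14098 := d1_2 (iv4 F23551) D29669 (iv2 D14098)
theorem F47680 : act 7 n29669 = n26528 := d4_2 (iv7 F23552) D29669 F42469
theorem F47681 : act 1 n29669 = n29121 := d15_0 (iv0 D29121) (iv7 F23552) D29669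
theorem F47682 : act 1 n29122 = n29669 := d15_1 D29122 F47680 F42469
theorem F47683 : act 6 n26398 = n29669 := d10_0 F47679 F42123 D26398
def n29670 : Q := act 5 n14093
theorem D29670 : act 5 n14093 = n29670 := rfl
theorem F47684 : act 3 n29670 = n14094 := d6_1 D29670 (iv5 D14094) D14093
theorem F47685 : act 7 n29670 = n29123 := d13_2 (iv7 F23552) D29670 (iv5 D29123)
def n29671 : Q := act 6 n14093
theorem D29671 : act 6 n14093 = n29671 := rfl
theorem F47686 : act 2 n29671 = n26398 := d3_1 D29671 F47683 (iv2 D29669)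
theorem F47687 : act 3 n29671 = n14095 := d7_1 D29671 (iv6 D14095) D14093
theorem F47688 : act 4 n29671 = n14100 := d10_1 D29671 (iv6 D14100) (iv4 F23551)
theorem F47689 : act 7 n26395 = n29671 := d11_0 F47688 (iv7 F26989) D26395
def n29672 : Q := act 4 n14094
theorem D29672 : act 4 n14094 = n29672 := rfl
theorem F47690 : act 7 n29672 = n29127 := d11_2 (iv7 F23553) D29672 (iv4 D29127)
theorem F47691 : act 5 n29672 = n25294 := d16_1 D29672 F39948 F19922 F18517 (iv5 F8735) D12015 D25304 F39966 F38728
def n29673 : Q := act 6 n14094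
theorem D29673 : act 6 n14094 = n29673 := rfl
def n29674 : Q := act 5 n14095
theorem D29674 : act 5 n14095 = n29674 := rfl
theorem F47692 : act 7 n29674 = n29616 := d13_2 F23555 D29674 (iv5 D29616)
theorem F47693 : act 0 n29674 = n24016 := d17_2 F23557 D29674 (iv5 D24016) (iv4 D11268) F9966 D6437 F18398 F18396 D11292
theorem F47694 : act 1 n29674 = n24014 := d17_6 D5295 (iv5 F18029) (iv1 F18031) (iv5 F10919) (iv4 F23554) D29674 (iv5 D24014) (iv0 F18347) (iv4 D5297)
def n29675 : Q := act 5 n14098
theorem D29675 : act 5 n14098 = n29675 := rfl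
theorem F47695 : act 2 n29675 = n14099 := d2_1 D29675 (iv5 D14099) D14098
theorem F47696 : act 3 n29675 = n29147 := d6_1 D29675 (iv5 D29147) (iv3 F23559)
theorem F47697 : act 7 n29675 = n26529 := d13_2 F26679 D29675 (iv5 D26529)
theorem F47698 : act 0 n29129 = n29675 := d21_1 (iv5 F46796) (iv5 D29675) F42123 (iv1 D12598) (iv6 D5985) D5984 (iv1 F26756) (iv5 D8159) (iv6 F26505) D14079
theorem F47699 : act 1 n16604 = n29675 := d15_0 (iv0 F47698) (iv7 F46798) F46701
def n29676 : Q := act 4 n14099
theorem D29676 : act 4 n14099 = n29676 := rfl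
theorem F47700 : act 7 n29676 = n29130 := d11_2 (iv7 F23565) D29676 (iv4 D29130)
def n29677 : Q := act 6 n14099
theorem D29677 : act 6 n14099 = n29677 := rfl
theorem F47701 : act 3 n29677 = n14101 := d7_1 D29677 (iv6 D14101) (iv3 F23564)
def n29678 : Q := act 5 n14100
theorem D29678 : act 5 n14100 = n29678 := rfl
theorem F47702 : act 2 n29678 = n26399 := d2_1 D29678 (iv5 D26399) (iv2 F42122)
theorem F47703 : act 3 n29678 = n14102 := d6_1 D29678 (iv5 D14102) (iv3 F23566)
theorem F47704 : act 7 n29678 = n26396 := d13_2 F26989 D29678 (iv5 D26396)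
theorem F47705 : act 0 n29132 = n29678 := d21_1 (iv5 F46801) (iv5 D29678) (iv6 D14100) (iv1 F26674) (iv6 D6005) D6004 D12659 F26964 (iv6 F21204) F41537
def n29679 : Q := act 0 n14101
theorem D29679 : act 0 n14101 = n29679 := rfl
def n29680 : Q := act 1 n14101
theorem D29680 : act 1 n14101 = n29680 := rfl
theorem F47706 : act 1 n29680 = n29157 := d15_1 D29680 (iv7 D29157) (iv2 F23568)
def n29681 : Q := act 5 n14101
theorem D29681 : act 5 n14101 = n29681 := rfl
theorem F47707 : act 2 n29681 = n29156 := d2_1 D29681 (iv5 D29156) (iv2 F23568)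
theorem F47708 : act 6 n29681 = n14102 := d12_2 D14101 D29681 (iv5 D14102) (iv6 D6704) D6703
def n29682 : Q := act 7 n14101
theorem D29682 : act 7 n14101 = n29682 := rfl
theorem F47709 : act 2 n29682 = n29157 := d4_1 D29682 (iv7 D29157) (iv2 F23568)
theorem F47710 : act 6 n29682 = n29138 := d14_1 D29682 (iv7 D29138) (iv6 D13870) (iv7 F10925) D14101
theorem F47711 : act 1 n29157 = n29679 := d15_0 (iv0 D29679) D29682 F47709
theorem F47712 : act 1 n29155 = n29682 := d15_1 D29155 (iv7 D29682) F23568
theorem F47713 : act 1 n29682 = n29154 := d15_0 (iv0 D29154) D29157 (iv2 F47709)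
def n29683 : Q := act 2 n14103
theorem D29683 : act 2 n14103 = n29683 := rfl
theorem F47714 : act 7 n14104 = n29683 := d15_2 (iv0 D14103) D14104 (iv2 D29683)
def n29684 : Q := act 3 n14103
theorem D29684 : act 3 n14103 = n29684 := rfl
theorem F47715 : act 4 n29684 = n14111 := d20_6 F2620 D2792 F7729 D6705 D14103 D29684 (iv1 D14111) F10936 (iv3 D6597) F4892
def n29685 : Q := act 4 n14103
theorem D29685 : act 4 n14103 = n29685 := rfl
def n29686 : Q := act 5 n14103
theorem D29686 : act 5 n14103 = n29686 := rfl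
def n29687 : Q := act 6 n14103
theorem D29687 : act 6 n14103 = n29687 := rfl
def n29688 : Q := act 7 n14103
theorem D29688 : act 7 n14103 = n29688 := rfl
def n29689 : Q := act 3 n14104
theorem D29689 : act 3 n14104 = n29689 := rfl
def n29690 : Q := act 4 n14104
theorem D29690 : act 4 n14104 = n29690 := rfl
def n29691 : Q := act 5 n14104
theorem D29691 : act 5 n14104 = n29691 := rfl
def n29692 : Q := act 6 n14104
theorem D29692 : act 6 n14104 = n29692 := rfl
def n29693 : Q := act 4 n14105
theorem D29693 : act 4 n14105 = n29693 := rfl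
theorem F47717 : act 2 n29693 = n14106 := d1_1 D29693 (iv4 D14106) D14105
theorem F47718 : act 3 n29693 = n26528 := d5_1 D29693 (iv4 D26528) F26678 F23536 (iv3 F23574)
theorem F47719 : act 7 n29693 = n29192 := d11_2 (iv7 F23575) D29693 (iv4 D29192)
theorem F47720 : act 0 n29693 = n29195 := d20_1 D29693 (iv4 F46850) F38068 F26990 F23559 (iv4 F23587) (iv1 F23591) D29166 F46829 (iv1 F23576)
theorem F47721 : act 1 n29693 = n23772 := d15_1 (iv0 F47720) (iv7 F37541) (iv2 F46851)
theorem F47722 : act 0 n29684 = n14114 := d20_1 (iv4 F47715) F23595 F23142 (iv1 F10698) D11497 (iv4 F37051) (iv1 F47721) (iv4 D29693) F23574 (iv1 F23590)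
def n29694 : Q := act 5 n14105
theorem D29694 : act 5 n14105 = n29694 := rfl
theorem F47723 : act 2 n29694 = n14107 := d2_1 D29694 (iv5 D14107) D14105
theorem F47724 : act 3 n29694 = n29169 := d6_1 D29694 (iv5 D29169) (iv3 F23574)
theorem F47725 : act 7 n29694 = n29193 := d13_2 (iv7 F23575) D29694 (iv5 D29193)
theorem F47726 : act 1 n29198 = n29694 := d15_1 D29198 F47725 F46847
theorem F47727 : act 1 n29694 = n29197 := d15_0 (iv0 D29197) (iv7 F23582) (iv2 F47723)
def n29695 : Q := act 6 n14105
theorem D29695 : act 6 n14105 = n29695 := rfl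
theorem F47728 : act 2 n29695 = n14108 := d3_1 D29695 (iv6 D14108) D14105
theorem F47729 : act 3 n29695 = n29170 := d7_1 D29695 (iv6 D29170) (iv3 F23574)
def n29696 : Q := act 5 n14106
theorem D29696 : act 5 n14106 = n29696 := rfl
theorem F47730 : act 3 n29696 = n25304 := d6_1 D29696 (iv5 D25304) (iv3 F23579)
theorem F47731 : act 7 n29696 = n29196 := d13_2 (iv7 F23580) D29696 (iv5 D29196)
def n29697 : Q := act 6 n14106
theorem D29697 : act 6 n14106 = n29697 := rfl
theorem F47732 : act 3 n29697 = n17427 := d7_1 D29697 F28416 (iv3 F23579)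
theorem F47733 : act 4 n29697 = n14108 := d10_1 D29697 (iv6 D14108) D14106
theorem F47734 : act 5 n20774 = n29697 := d19_1 D20774 F47733 F23583 (iv1 F11483) D12396 F26906 F25311 D17932 F29102 F13612 (iv3 F6864) F7111 (iv5 D4140) (iv4 D1776) D1775 F6041 D4359 (iv4 F7304) D9873
theorem F47735 : act 0 n20005 = n29697 := d20_7 F9133 D5900 D12398 D26137 (iv1 F41416) (iv3 F41493) F41494 F47733 F23583 (iv1 F11483)
def n29698 : Q := act 0 n14107
theorem D29698 : act 0 n14107 = n29698 := rfl
theorem F47736 : act 1 n29193 = n29698 := d15_0 (iv0 D29698) F23582 (iv2 F46847)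
def n29699 : Q := act 1 n14107
theorem D29699 : act 1 n14107 = n29699 := rfl
theorem F47737 : act 1 n29699 = n29193 := d15_1 D29699 (iv7 F47725) F47723
def n29700 : Q := act 4 n14107
theorem D29700 : act 4 n14107 = n29700 := rfl
theorem F47738 : act 7 n29700 = n29199 := d11_2 (iv7 F23582) D29700 (iv4 D29199)
def n29701 : Q := act 6 n14107
theorem D29701 : act 6 n14107 = n29701 := rfl
theorem F47739 : act 3 n29701 = n14109 := d7_1 D29701 (iv6 D14109) (iv3 F23581)
def n29702 : Q := act 0 n14108
theorem D29702 : act 0 n14108 = n29702 := rfl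
def n29703 : Q := act 1 n14108
theorem D29703 : act 1 n14108 = n29703 := rfl
def n29704 : Q := act 0 n14109
theorem D29704 : act 0 n14109 = n29704 := rfl
def n29705 : Q := act 1 n14109
theorem D29705 : act 1 n14109 = n29705 := rfl
theorem F47740 : act 1 n29705 = n29182 := d15_1 D29705 (iv7 D29182) (iv2 F23584)
def n29706 : Q := act 7 n14109
theorem D29706 : act 7 n14109 = n29706 := rfl
theorem F47741 : act 2 n29706 = n29182 := d4_1 D29706 (iv7 D29182) (iv2 F23584)
theorem F47742 : act 6 n29706 = n29206 := d14_1 D29706 (iv7 D29206) (iv6 D13892) (iv7 F10933) D14109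
theorem F47743 : act 1 n29182 = n29704 := d15_0 (iv0 D29704) D29706 F47741
theorem F47744 : act 1 n29181 = n29706 := d15_1 D29181 (iv7 D29706) F23584
theorem F47745 : act 1 n29706 = n29180 := d15_0 (iv0 D29180) D29182 (iv2 F47741)
def n29707 : Q := act 2 n14110
theorem D29707 : act 2 n14110 = n29707 := rfl
theorem F47746 : act 7 n14111 = n29707 := d15_2 (iv0 D14110) D14111 (iv2 D29707)
def n29708 : Q := act 3 n14110
theorem D29708 : act 3 n14110 = n29708 := rfl
theorem F47747 : act 4 n29708 = n29122 := d20_6 F9303 (iv1 F4392) F7733 D6708 D14110 D29708 (iv1 D29122) F23129 (iv3 D6594) (iv1 F9306)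
def n29709 : Q := act 4 n14110
theorem D29709 : act 4 n14110 = n29709 := rfl
theorem F47748 : act 3 n29709 = n29215 := d20_3 (iv4 F10936) D14110 D29709 (iv1 D29215) (iv3 D13896) D13897 D29221 F46874 (iv3 D29144) (iv1 D13872)
theorem F47749 : act 0 n14114 = n29709 := d20_10 (iv4 D29709) (iv1 F23585) (iv4 F23536) (iv3 F26678) (iv1 F26676) (iv3 D11499) (iv4 D5360) (iv1 F8151) (iv4 F10941) (iv3 F23594)
theorem F47750 : act 0 n29708 = n29243 := d20_4 (iv4 F23595) F47749 (iv4 D29709) D29708 (iv3 D29243) (iv4 F25487) F46876 (iv4 F46874) (iv3 F46875) (iv1 D29152)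
def n29713 : Q := act 3 n14111
theorem D29713 : act 3 n14111 = n29713 := rfl
theorem F47752 : act 0 n14119 = n29713 := d20_4 (iv4 D5358) D5356 F26535 D14119 (iv3 D29713) (iv4 F47715) F47722 F23595 F23142 (iv1 F10698)
theorem F47753 : act 1 n29194 = n29713 := d15_0 (iv0 F47752) F26910 (iv2 F46848)
def n29714 : Q := act 5 n14111
theorem D29714 : act 5 n14111 = n29714 := rfl
def n29715 : Q := act 6 n14111
theorem D29715 : act 6 n14111 = n29715 := rfl
def n29716 : Q := act 5 n14112
theorem D29716 : act 5 n14112 = n29716 := rfl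
theorem F47754 : act 2 n29716 = n14113 := d2_1 D29716 (iv5 D14113) D14112
theorem F47755 : act 3 n29716 = n29193 := d6_1 D29716 (iv5 D29193) (iv3 F23586)
theorem F47756 : act 7 n29716 = n29169 := d13_2 (iv7 F23588) D29716 (iv5 D29169)
theorem F47757 : act 1 n29172 = n29716 := d15_1 D29172 F47756 F46830
theorem F47758 : act 1 n29716 = n29171 := d15_0 (iv0 D29171) (iv7 F23593) (iv2 F47754)
def n29717 : Q := act 6 n14112
theorem D29717 : act 6 n14112 = n29717 := rfl
theorem F47759 : act 2 n29717 = n14114 := d3_1 D29717 (iv6 D14114) D14112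
theorem F47760 : act 3 n29717 = n29194 := d7_1 D29717 (iv6 D29194) (iv3 F23586)
theorem F47761 : act 4 n29717 = n26397 := d10_1 D29717 F42149 (iv4 F23587)
theorem F47762 : act 0 n29161 = n29717 := d20_1 D29161 F47761 (iv3 D26397) (iv1 D12598) F9298 F4019 D2803 F5102 D6600 D13878
def n29718 : Q := act 0 n14113
theorem D29718 : act 0 n14113 = n29718 := rfl
theorem F47763 : act 1 n29169 = n29718 := d15_0 (iv0 D29718) F23593 (iv2 F46830)
def n29719 : Q := act 1 n14113
theorem D29719 : act 1 n14113 = n29719 := rfl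
theorem F47764 : act 1 n29719 = n29169 := d15_1 D29719 (iv7 F47756) F47754
def n29720 : Q := act 4 n14113
theorem D29720 : act 4 n14113 = n29720 := rfl
theorem F47765 : act 7 n29720 = n29173 := d11_2 (iv7 F23593) D29720 (iv4 D29173)
def n29721 : Q := act 6 n14113
theorem D29721 : act 6 n14113 = n29721 := rfl
theorem F47766 : act 3 n29721 = n14115 := d7_1 D29721 (iv6 D14115) (iv3 F23592)
def n29722 : Q := act 5 n14114
theorem D29722 : act 5 n14114 = n29722 := rfl
theorem F47767 : act 3 n29722 = n14116 := d6_1 D29722 (iv5 D14116) (iv3 F23594)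
def n29723 : Q := act 0 n14115
theorem D29723 : act 0 n14115 = n29723 := rfl
def n29724 : Q := act 1 n14115
theorem D29724 : act 1 n14115 = n29724 := rfl
theorem F47768 : act 1 n29724 = n29206 := d15_1 D29724 (iv7 D29206) (iv2 F23596)
def n29725 : Q := act 5 n14115
theorem D29725 : act 5 n14115 = n29725 := rfl
theorem F47769 : act 2 n29725 = n29205 := d2_1 D29725 (iv5 D29205) (iv2 F23596)
theorem F47770 : act 6 n29725 = n14116 := d12_2 D14115 D29725 (iv5 D14116) (iv6 D6710) D6709
def n29726 : Q := act 7 n14115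
theorem D29726 : act 7 n14115 = n29726 := rfl
theorem F47771 : act 2 n29726 = n29206 := d4_1 D29726 (iv7 D29206) (iv2 F23596)
theorem F47772 : act 6 n29726 = n29182 := d14_1 D29726 (iv7 D29182) (iv6 D13885) (iv7 F10939) D14115
theorem F47773 : act 1 n29206 = n29723 := d15_0 (iv0 D29723) D29726 F47771
theorem F47774 : act 1 n29204 = n29726 := d15_1 D29204 (iv7 D29726) F23596
theorem F47775 : act 1 n29726 = n29203 := d15_0 (iv0 D29203) D29206 (iv2 F47771)
def n29727 : Q := act 1 n14119
theorem D29727 : act 1 n14119 = n29727 := rfl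
theorem F47776 : act 3 n29234 = n29727 := d20_3 (iv4 F23551) D29667 (iv4 F47675) (iv1 D29727) (iv3 D14119) (iv4 F26535) (iv1 F8148) D5360 D11499 F26675
theorem F47777 : act 0 n29194 = n29727 := d20_4 (iv4 F46761) (iv1 F46762) (iv4 F47761) F47760 (iv3 F47776) F47675 (iv1 F47674) (iv4 D26528) F26678 (iv1 F23540)
def n29728 : Q := act 2 n14119
theorem D29728 : act 2 n14119 = n29728 := rfl
theorem F47778 : act 7 n29728 = n29194 := d4_2 (iv7 F26910) D29728 F46848
theorem F47779 : act 1 n29728 = n29165 := d15_0 (iv0 F46846) (iv7 F26910) D29728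
theorem F47780 : act 1 n29201 = n29728 := d15_1 D29201 F47778 F46848
def n29729 : Q := act 4 n14119
theorem D29729 : act 4 n14119 = n29729 := rfl
theorem F47781 : act 3 n29729 = n24054 := d5_1 D29729 F37639 F18681 F26535 D14119
theorem F47782 : act 7 n29729 = n15948 := d11_2 (iv7 F26910) D29729 (iv4 F26985)
theorem F47783 : act 0 n29729 = n15950 := d20_1 D29729 F25476 F11730 (iv1 F5410) D6702 (iv4 F23551) D29667 (iv4 F47675) F47776 (iv1 D29727)
theorem F47784 : act 0 n15929 = n29729 := d20_1 (iv4 F25394) (iv4 D29729) (iv3 D14119) (iv1 F26531) D12768 F21200 F26598 D13902 (iv3 F25398) (iv1 D15933)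
theorem F47785 : act 2 n29729 = n15947 := d15_3 (iv0 D15947) D15948 (iv7 F47782)
theorem F47786 : act 4 n15947 = n29728 := d1_2 D29729 F47785 (iv2 D29728)
def n29730 : Q := act 5 n14119
theorem D29730 : act 5 n14119 = n29730 := rfl
theorem F47787 : act 3 n29730 = n14121 := d6_1 D29730 (iv5 D14121) D14119
theorem F47788 : act 7 n29730 = n29202 := d13_2 (iv7 F26910) D29730 (iv5 D29202)
def n29731 : Q := act 4 n14121
theorem D29731 : act 4 n14121 = n29731 := rfl
theorem F47789 : act 5 n29731 = n16518 := d9_2 D14121 D29731 F26116 F18758 F8665 F8153 (iv4 F10941) D14116 (iv4 F46523) (iv5 D28883) (iv4 D13766) (iv5 D6551) (iv4 F5105) (iv5 F8147) F26535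
theorem F47790 : act 7 n29731 = n29207 := d11_2 (iv7 F26685) D29731 (iv4 D29207)
theorem F47791 : act 0 n29731 = n14512 := d17_0 (iv5 D14512) F11204 D11427 (iv4 F18823) F18824 F8177 D7713 F26684 D29731
theorem F47792 : act 1 n29731 = n14504 := d18_6 (iv1 F10698) (iv4 D5358) D5356 F26535 D14121 D29731 F24149 (iv0 F23145) (iv5 D13877)
theorem E5060 : n26092 = n14635 := (c21_4 D14504 (iv1 F47792) F47789 (iv6 F41280) (iv1 D14635) (iv6 D6991) D6990 F11253 (iv5 D6429) (iv6 F7927) (iv1 F11202))
theorem F47793 : act 2 n14635 = n14948 := (sb E5060 F41279)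
theorem F47794 : act 4 n14635 = n12367 := (sb E5060 (iv4 D26092))
theorem F47795 : act 6 n14635 = n16518 := (sb E5060 F41280)
theorem F47796 : act 7 n14635 = n14945 := (sb E5060 F41281)
theorem E5061 : n26089 = n14634 := (c15_4 (iv0 D14634) D14635 F47796 (iv2 F41271))
theorem F47797 : act 2 n14634 = n14945 := (sb E5061 F41271)
theorem F47798 : act 4 n14634 = n12366 := (sb E5061 (iv4 D26089))
theorem F47799 : act 7 n14634 = n14948 := (sb E5061 F41272)
theorem E5062 : n25163 = n25128 := (c18_7 (iv1 D6993) (iv4 F11255) D14634 F47798 (iv5 F22329) (iv4 F38685) F39604 (iv4 D25128) (iv0 D11935) (iv5 F11257))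
theorem F47800 : act 0 n25128 = n24706 := (sb E5062 (iv1 F39604))
theorem F47801 : act 1 n25128 = n11947 := (sb E5062 (iv0 D25163))
theorem E5063 : n25164 = n25132 := (c15_2 F47801 D25164 F39532 (iv2 F39534))
theorem F47802 : act 0 n25132 = n11947 := (sb E5063 (iv1 D25164))
theorem F47803 : act 1 n25132 = n24706 := (sb E5063 F39599)
def n29732 : Q := act 6 n14121
theorem D29732 : act 6 n14121 = n29732 := rfl
theorem F47804 : act 5 n29732 = n26275 := d12_1 D29732 (iv6 D26275) F20785 F26536 D14121
def n29733 : Q := act 3 n14133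
theorem D29733 : act 3 n14133 = n29733 := rfl
theorem F47805 : act 4 n29733 = n14140 := d5_2 D14133 D29733 (iv3 D14140) (iv4 D6718) (iv3 F10946)
theorem F47806 : act 5 n29733 = n24368 := d6_2 (iv5 F26543) D29733 (iv3 D24368)
theorem F47807 : act 7 n29733 = n28974 := d8_2 (iv7 F26544) D29733 F46600
def n29734 : Q := act 6 n14133
theorem D29734 : act 6 n14133 = n29734 := rfl
theorem F47808 : act 4 n29734 = n14134 := d10_1 D29734 (iv6 D14134) D14133
def n29735 : Q := act 0 n14134
theorem D29735 : act 0 n14134 = n29735 := rfl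
def n29736 : Q := act 1 n14134
theorem D29736 : act 1 n14134 = n29736 := rfl
def n29737 : Q := act 7 n14134
theorem D29737 : act 7 n14134 = n29737 := rfl
theorem F47809 : act 3 n29737 = n14144 := d8_1 D29737 (iv7 D14144) (iv3 F23610)
theorem F47810 : act 5 n29737 = n26326 := d13_1 D29737 (iv7 D26326) (iv5 F23611)
def n29738 : Q := act 0 n14136
theorem D29738 : act 0 n14136 = n29738 := rfl
theorem F47811 : act 1 n29279 = n29738 := d15_0 (iv0 D29738) F23615 D29279
def n29739 : Q := act 1 n14136
theorem D29739 : act 1 n14136 = n29739 := rfl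
def n29740 : Q := act 2 n14136
theorem D29740 : act 2 n14136 = n29740 := rfl
theorem F47812 : act 3 n29740 = n29271 := d0_2 D14136 D29740 (iv2 D29271) (iv3 D13913) F10949
theorem F47813 : act 5 n29740 = n28165 := d2_2 (iv5 F23614) D29740 (iv2 D28165)
theorem F47814 : act 7 n29740 = n29279 := d4_2 (iv7 F23615) D29740 (iv2 D29279)
theorem F47815 : act 1 n29740 = n29277 := d15_0 (iv0 D29277) (iv7 F23615) D29740
theorem F47816 : act 1 n29739 = n29279 := d15_1 D29739 (iv7 F47814) (iv2 D29740)
theorem F47817 : act 1 n29278 = n29740 := d15_1 D29278 F47814 (iv2 D29279)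
def n29741 : Q := act 4 n14136
theorem D29741 : act 4 n14136 = n29741 := rfl
theorem F47818 : act 7 n29741 = n29280 := d11_2 (iv7 F23615) D29741 (iv4 D29280)
def n29742 : Q := act 6 n14136
theorem D29742 : act 6 n14136 = n29742 := rfl
theorem F47819 : act 3 n29742 = n14137 := d7_1 D29742 (iv6 D14137) D14136
def n29743 : Q := act 0 n14137
theorem D29743 : act 0 n14137 = n29743 := rfl
def n29744 : Q := act 1 n14137
theorem D29744 : act 1 n14137 = n29744 := rfl
theorem F47820 : act 1 n29744 = n29276 := d15_1 D29744 (iv7 D29276) (iv2 F23616)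
def n29745 : Q := act 7 n14137
theorem D29745 : act 7 n14137 = n29745 := rfl
theorem F47821 : act 2 n29745 = n29276 := d4_1 D29745 (iv7 D29276) (iv2 F23616)
theorem F47822 : act 6 n29745 = n29284 := d14_1 D29745 (iv7 D29284) (iv6 D13916) F10950 D14137
theorem F47823 : act 1 n29276 = n29743 := d15_0 (iv0 D29743) D29745 F47821
theorem F47824 : act 1 n29275 = n29745 := d15_1 D29275 (iv7 D29745) F23616
theorem F47825 : act 1 n29745 = n29274 := d15_0 (iv0 D29274) D29276 (iv2 F47821)
def n29746 : Q := act 0 n14138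
theorem D29746 : act 0 n14138 = n29746 := rfl
theorem F47826 : act 1 n29271 = n29746 := d15_0 (iv0 D29746) F23618 D29271
def n29747 : Q := act 1 n14138
theorem D29747 : act 1 n14138 = n29747 := rfl
def n29748 : Q := act 2 n14138
theorem D29748 : act 2 n14138 = n29748 := rfl
theorem F47827 : act 3 n29748 = n29279 := d0_2 D14138 D29748 (iv2 D29279) (iv3 D13915) F10955
theorem F47828 : act 5 n29748 = n28167 := d2_2 (iv5 F23617) D29748 (iv2 D28167)
theorem F47829 : act 7 n29748 = n29271 := d4_2 (iv7 F23618) D29748 (iv2 D29271)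
theorem F47830 : act 1 n29748 = n29269 := d15_0 (iv0 D29269) (iv7 F23618) D29748
theorem F47831 : act 1 n29747 = n29271 := d15_1 D29747 (iv7 F47829) (iv2 D29748)
theorem F47832 : act 1 n29270 = n29748 := d15_1 D29270 F47829 (iv2 D29271)
def n29749 : Q := act 4 n14138
theorem D29749 : act 4 n14138 = n29749 := rfl
theorem F47833 : act 7 n29749 = n29272 := d11_2 (iv7 F23618) D29749 (iv4 D29272)
def n29750 : Q := act 6 n14138
theorem D29750 : act 6 n14138 = n29750 := rfl
theorem F47834 : act 3 n29750 = n14139 := d7_1 D29750 (iv6 D14139) D14138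
def n29751 : Q := act 0 n14139
theorem D29751 : act 0 n14139 = n29751 := rfl
def n29752 : Q := act 1 n14139
theorem D29752 : act 1 n14139 = n29752 := rfl
theorem F47835 : act 1 n29752 = n29284 := d15_1 D29752 (iv7 D29284) (iv2 F23619)
def n29753 : Q := act 7 n14139
theorem D29753 : act 7 n14139 = n29753 := rfl
theorem F47836 : act 2 n29753 = n29284 := d4_1 D29753 (iv7 D29284) (iv2 F23619)
theorem F47837 : act 6 n29753 = n29276 := d14_1 D29753 (iv7 D29276) (iv6 D13914) (iv7 F10953) D14139
theorem F47838 : act 1 n29284 = n29751 := d15_0 (iv0 D29751) D29753 F47836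
theorem F47839 : act 1 n29283 = n29753 := d15_1 D29283 (iv7 D29753) F23619
theorem F47840 : act 1 n29753 = n29282 := d15_0 (iv0 D29282) D29284 (iv2 F47836)
def n29754 : Q := act 0 n14140
theorem D29754 : act 0 n14140 = n29754 := rfl
theorem F47841 : act 1 n28971 = n29754 := d15_0 (iv0 D29754) F23621 (iv2 F46599)
def n29755 : Q := act 1 n14140
theorem D29755 : act 1 n14140 = n29755 := rfl
def n29756 : Q := act 2 n14140
theorem D29756 : act 2 n14140 = n29756 := rfl
theorem F47842 : act 3 n29756 = n29287 := d0_2 D14140 D29756 (iv2 D29287) (iv3 D13917) (iv2 F10956)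
theorem F47843 : act 5 n29756 = n28958 := d2_2 (iv5 F23620) D29756 (iv2 F46592)
theorem F47844 : act 7 n29756 = n28971 := d4_2 (iv7 F23621) D29756 F46599
theorem F47845 : act 1 n29756 = n28972 := d15_0 (iv0 D28972) (iv7 F23621) D29756
theorem F47846 : act 1 n29755 = n28971 := d15_1 D29755 (iv7 F47844) (iv2 D29756)
theorem F47847 : act 1 n28973 = n29756 := d15_1 D28973 F47844 F46599
def n29757 : Q := act 6 n14140
theorem D29757 : act 6 n14140 = n29757 := rfl
theorem F47848 : act 3 n29757 = n14141 := d7_1 D29757 (iv6 D14141) D14140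
def n29758 : Q := act 0 n14141
theorem D29758 : act 0 n14141 = n29758 := rfl
theorem F47849 : act 4 n29758 = n26414 := d18_3 (iv1 D14143) (iv4 F23623) D29758 (iv5 F42169) (iv4 F42171) (iv0 F30001) (iv4 F37332) F46249 F24964
theorem F47850 : act 2 n29289 = n29758 := d1_3 F47849 F42647 (iv4 F46931)
theorem F47852 : act 1 n29292 = n29758 := d18_6 D12601 (iv4 F42177) (iv1 F9694) (iv4 F11682) (iv5 F23178) (iv4 F46933) F47849 (iv0 D26414) (iv5 D12603)
def n29759 : Q := act 1 n14141
theorem D29759 : act 1 n14141 = n29759 := rfl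
theorem F47853 : act 1 n29759 = n29292 := d15_1 D29759 (iv7 D29292) (iv2 F23622)
theorem F47854 : act 7 n29759 = n29289 := d15_2 (iv0 D29758) D29759 F47850
theorem F47855 : act 4 n29759 = n26415 := d18_7 (iv1 F20981) F42172 (iv1 D6221) (iv4 F9266) (iv5 F10960) (iv4 F23623) D29759 F42161 F25494
theorem F47856 : act 2 n29290 = n29759 := d1_3 F47855 (iv2 F42646) (iv4 F46932)
def n29760 : Q := act 5 n14141
theorem D29760 : act 5 n14141 = n29760 := rfl
theorem F47858 : act 6 n29760 = n28985 := d12_2 D14141 D29760 (iv5 D28985) (iv6 D13798) (iv5 F10957)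
def n29761 : Q := act 7 n14141
theorem D29761 : act 7 n14141 = n29761 := rfl
theorem F47859 : act 2 n29761 = n29292 := d4_1 D29761 (iv7 D29292) (iv2 F23622)
theorem F47860 : act 4 n29761 = n14144 := d11_1 D29761 (iv7 D14144) (iv4 F23623)
theorem F47861 : act 6 n29761 = n28983 := d14_1 D29761 (iv7 D28983) (iv6 D13797) F10958 D14141
theorem F47862 : act 1 n29290 = n29761 := d15_1 D29290 (iv7 D29761) F23622
theorem F47863 : act 1 n29761 = n29289 := d15_1 F47862 (iv7 F47854) (iv2 F47856)
def n29762 : Q := act 3 n14142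
theorem D29762 : act 3 n14142 = n29762 := rfl
theorem F47864 : act 7 n29762 = n29296 := d8_2 (iv7 F41798) D29762 (iv3 D29296)
def n29763 : Q := act 4 n14142
theorem D29763 : act 4 n14142 = n29763 := rfl
theorem F47865 : act 2 n29763 = n29294 := d1_1 D29763 (iv4 D29294) (iv2 F41800)
theorem F47866 : act 7 n29763 = n29297 := d11_2 (iv7 F41798) D29763 (iv4 D29297)
def n29764 : Q := act 5 n14142
theorem D29764 : act 5 n14142 = n29764 := rfl
theorem F47869 : act 4 n29764 = n17550 := d17_4 F41803 (iv5 F10960) D14142 D29764 F30471 (iv0 D8406) (iv5 D3765) D3764 D8403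
theorem F47870 : act 1 n29764 = n23921 := d17_8 F30001 F29999 (iv1 F21803) F13294 (iv4 F11682) (iv5 F23178) F23627 D29764 F37332
theorem F47871 : act 0 n15995 = n29763 := d18_2 (iv1 D15994) D15995 (iv4 D29763) D29764 F47869 (iv0 F30551) F41673 F42747 F42634
theorem F47872 : act 0 n29764 = n28696 := d18_0 F46247 (iv1 D18606) (iv4 F42179) F42162 (iv4 F47855) F47853 F46933 F23627 D29764
theorem F47873 : act 6 n29764 = n18768 := d21_3 (iv5 F10960) D14142 D29764 (iv1 F30022) F13687 D13285 D27852 F44975 (iv6 D17832) F41803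
def n29765 : Q := act 6 n14142
theorem D29765 : act 6 n14142 = n29765 := rfl
theorem F47874 : act 2 n29765 = n29295 := d3_1 D29765 (iv6 D29295) (iv2 F41800)
def n29766 : Q := act 3 n14143
theorem D29766 : act 3 n14143 = n29766 := rfl
theorem F47875 : act 7 n29766 = n29293 := d8_2 F41799 D29766 (iv3 D29293)
def n29767 : Q := act 4 n14143
theorem D29767 : act 4 n14143 = n29767 := rfl
theorem F47876 : act 2 n29767 = n29297 := d1_1 D29767 (iv4 D29297) F41797
theorem F47877 : act 7 n29767 = n29294 := d11_2 F41799 D29767 (iv4 D29294)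
theorem F47878 : act 0 n29767 = n15995 := d18_2 (iv1 F23624) D29767 (iv4 D15995) (iv5 D7482) F5408 D3764 D8403 F41804 (iv5 F23178)
def n29768 : Q := act 6 n14143
theorem D29768 : act 6 n14143 = n29768 := rfl
theorem F47879 : act 2 n29768 = n29298 := d3_1 D29768 (iv6 D29298) F41797
def n29769 : Q := act 6 n14144
theorem D29769 : act 6 n14144 = n29769 := rfl
theorem F47880 : act 2 n29769 = n29299 := d3_1 D29769 (iv6 D29299) (iv2 F23625)
theorem F47881 : act 4 n29769 = n28983 := d10_1 D29769 (iv6 F47861) F47860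
theorem F47882 : act 7 n29769 = n14145 := d14_2 D14144 D29769 (iv6 D14145) (iv7 D6720) D6719
theorem F47883 : act 1 n29301 = n29769 := d15_1 D29301 F47882 F23630
theorem F47884 : act 1 n29769 = n29300 := d15_0 (iv0 D29300) (iv7 F46936) (iv2 F47880)
def n29770 : Q := act 0 n14145
theorem D29770 : act 0 n14145 = n29770 := rfl
theorem F47885 : act 1 n29299 = n29770 := d15_0 (iv0 D29770) (iv7 F47882) F47880
def n29771 : Q := act 1 n14145
theorem D29771 : act 1 n14145 = n29771 := rfl
theorem F47886 : act 1 n29771 = n29299 := d15_1 D29771 F46936 (iv2 F23630)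
def n29772 : Q := act 4 n14146
theorem D29772 : act 4 n14146 = n29772 := rfl
theorem F47887 : act 2 n29772 = n24999 := d1_1 D29772 (iv4 F39238) F23636
theorem F47888 : act 7 n29772 = n24998 := d11_2 F24175 D29772 F39230
theorem F47889 : act 0 n29772 = n24960 := d18_2 (iv1 F39260) D29772 (iv4 D24960) (iv5 F24259) (iv4 F24330) (iv0 F24331) (iv4 F37118) F39262 F39253
theorem F47890 : act 1 n29772 = n24962 := d18_6 (iv1 F8478) F9909 F19356 (iv4 F10967) D14146 D29772 (iv4 D24962) F19268 F8493
def n29773 : Q := act 3 n14147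
theorem D29773 : act 3 n14147 = n29773 := rfl
theorem F47891 : act 6 n29773 = n24932 := d7_2 (iv6 F23633) D29773 (iv3 D24932)
def n29774 : Q := act 5 n14147
theorem D29774 : act 5 n14147 = n29774 := rfl
def n29775 : Q := act 4 n14148
theorem D29775 : act 4 n14148 = n29775 := rfl
theorem F47892 : act 6 n29775 = n24938 := d10_2 (iv6 F23635) D29775 (iv4 D24938)
def n29776 : Q := act 1 n14149
theorem D29776 : act 1 n14149 = n29776 := rfl
theorem F47893 : act 1 n29776 = n14532 := d15_1 D29776 F24175 (iv2 F23636)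
theorem F47894 : act 7 n29776 = n25018 := d15_2 (iv0 F39166) D29776 F39259
theorem F47895 : act 5 n29776 = n24414 := d17_7 (iv1 F24339) (iv5 F20430) (iv1 F20433) (iv5 D6730) (iv4 F10972) D14149 D29776 (iv0 F39923) F39921
theorem F47896 : act 2 n25023 = n29776 := d2_3 F47895 F38283 F39253
theorem F47897 : act 3 n27996 = n29776 := d6_3 F47895 F38284 (iv5 F45265)
theorem F47898 : act 4 n24965 = n29776 := d18_3 (iv1 F19276) (iv4 F19570) (iv1 F39167) F47895 F38285 F24282 F24281 F24262 F24259
def n29777 : Q := act 0 n14150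
theorem D29777 : act 0 n14150 = n29777 := rfl
theorem F47899 : act 4 n29777 = n24860 := d20_2 D14150 D29777 (iv3 F40824) (iv1 F40831) F38733 (iv4 F40966) (iv1 F40967) (iv4 D14685) (iv3 F20429) (iv1 F20433)
theorem F47900 : act 2 n24880 = n29777 := d15_3 (iv0 D29777) (iv0 F45775) F45774
theorem F47901 : act 1 n14533 = n29777 := d15_0 (iv0 D29777) (iv7 F40904) F40903
theorem F47902 : act 7 n29777 = n24883 := d15_2 F45776 F47901 (iv2 F45773)
def n29778 : Q := act 3 n14150
theorem D29778 : act 3 n14150 = n29778 := rfl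
theorem F47903 : act 6 n29778 = n24948 := d7_2 (iv6 F23638) D29778 (iv3 D24948)
def n29779 : Q := act 5 n14150
theorem D29779 : act 5 n14150 = n29779 := rfl
theorem F47904 : act 2 n29779 = n29774 := d2_1 D29779 (iv5 D29774) (iv2 F23637)
def n29780 : Q := act 5 n14151
theorem D29780 : act 5 n14151 = n29780 := rfl
theorem F47905 : act 2 n29780 = n14160 := d2_1 D29780 (iv5 D14160) (iv2 F23639)
theorem F47906 : act 3 n29780 = n24335 := d6_1 D29780 (iv5 D24335) (iv3 F23640)
theorem F47907 : act 7 n29780 = n14168 := d13_2 (iv7 F23641) D29780 (iv5 D14168)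
def n29781 : Q := act 4 n14152
theorem D29781 : act 4 n14152 = n29781 := rfl
theorem F47908 : act 2 n29781 = n14163 := d1_1 D29781 (iv4 D14163) (iv2 F23644)
theorem F47909 : act 7 n29781 = n14170 := d11_2 (iv7 F23645) D29781 (iv4 D14170)
def n29782 : Q := act 4 n14153
theorem D29782 : act 4 n14153 = n29782 := rfl
theorem F47910 : act 2 n29782 = n14170 := d1_1 D29782 (iv4 D14170) (iv2 F23648)
theorem F47911 : act 7 n29782 = n14163 := d11_2 (iv7 F23650) D29782 (iv4 D14163)
def n29783 : Q := act 6 n14153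
theorem D29783 : act 6 n14153 = n29783 := rfl
theorem F47912 : act 2 n29783 = n14171 := d3_1 D29783 (iv6 D14171) (iv2 F23648)
theorem F47913 : act 3 n29783 = n28760 := d7_1 D29783 (iv6 D28760) (iv3 F23649)
theorem F47914 : act 0 n25925 = n29783 := d21_4 (iv5 F39100) (iv1 F39104) (iv5 F23420) (iv6 F40980) (iv6 D29783) (iv5 D14153) (iv1 D6733) D6734 (iv6 F11017) D14210
def n29784 : Q := act 4 n14154
theorem D29784 : act 4 n14154 = n29784 := rfl
theorem F47915 : act 2 n29784 = n14175 := d1_1 D29784 (iv4 D14175) (iv2 F23658)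
theorem F47916 : act 7 n29784 = n14178 := d11_2 (iv7 F23657) D29784 (iv4 D14178)
theorem F47917 : act 0 n24848 = n29784 := d20_1 D24848 (iv4 D29784) F40703 (iv1 F40700) F23954 (iv4 F37732) (iv1 F37733) (iv4 D24040) D24039 F37591
def n29785 : Q := act 6 n14154
theorem D29785 : act 6 n14154 = n29785 := rfl
theorem F47918 : act 2 n29785 = n14176 := d3_1 D29785 (iv6 D14176) (iv2 F23658)
theorem F47919 : act 5 n29785 = n14544 := d12_1 D29785 (iv6 D14544) (iv5 F19443) (iv6 F38343) F38342
def n29786 : Q := act 1 n14155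
theorem D29786 : act 1 n14155 = n29786 := rfl
theorem F47920 : act 1 n29786 = n14184 := d15_1 D29786 (iv7 D14184) (iv2 F23652)
theorem F47921 : act 7 n29786 = n14180 := d15_2 F46991 D29786 (iv2 F46992)
theorem F47922 : act 4 n29786 = n24855 := d18_7 (iv1 F19144) F19510 (iv1 D5556) (iv4 F4756) D6734 D14155 D29786 F38922 F38907
theorem F47923 : act 2 n14181 = n29786 := d1_3 F47922 F38924 F37590
def n29787 : Q := act 3 n14155
theorem D29787 : act 3 n14155 = n29787 := rfl
def n29788 : Q := act 5 n14155
theorem D29788 : act 5 n14155 = n29788 := rfl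
theorem F47924 : act 2 n29788 = n14183 := d2_1 D29788 (iv5 D14183) (iv2 F23652)
def n29789 : Q := act 7 n14155
theorem D29789 : act 7 n14155 = n29789 := rfl
theorem F47925 : act 2 n29789 = n14184 := d4_1 D29789 (iv7 D14184) (iv2 F23652)
theorem F47926 : act 4 n29789 = n14156 := d11_1 D29789 (iv7 D14156) D14155
theorem F47927 : act 1 n14181 = n29789 := d15_1 D14181 (iv7 D29789) F23652
theorem F47928 : act 1 n29789 = n14180 := d15_1 F47927 (iv7 F47921) (iv2 F47923)
def n29790 : Q := act 6 n14156
theorem D29790 : act 6 n14156 = n29790 := rfl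
theorem F47929 : act 2 n29790 = n14185 := d3_1 D29790 (iv6 D14185) (iv2 F23653)
theorem F47930 : act 5 n29790 = n29790 := d12_1 D29790 (iv6 D29790) F23654 F10986 (iv5 F23654)
def n29791 : Q := act 1 n14157
theorem D29791 : act 1 n14157 = n29791 := rfl
theorem F47931 : act 1 n29791 = n24085 := d15_1 D29791 F37711 (iv2 F23662)
theorem F47932 : act 7 n29791 = n24122 := d15_2 F46716 D29791 (iv2 F46718)
theorem F47933 : act 5 n29791 = n24123 := d17_7 (iv1 F39756) F46328 (iv1 D28721) (iv5 D13693) (iv4 F10991) D14157 D29791 F45210 F45207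
theorem F47934 : act 2 n28738 = n29791 := d2_3 F47933 F39320 (iv5 F46371)
theorem F47935 : act 4 n28746 = n29791 := d18_3 (iv1 F22956) D13716 (iv1 F46381) F47933 F39321 F39323 F39747 (iv0 F39751) (iv5 F22955)
def n29792 : Q := act 4 n14157
theorem D29792 : act 4 n14157 = n29792 := rfl
theorem F47936 : act 2 n29792 = n28739 := d1_1 D29792 (iv4 D28739) (iv2 F23662)
theorem F47937 : act 7 n29792 = n28759 := d11_2 (iv7 F23664) D29792 (iv4 D28759)
theorem F47938 : act 0 n29792 = n29382 := d18_2 (iv1 D29791) D29792 (iv4 D29382) F23276 F18774 (iv0 F22169) F22167 (iv0 F39324) (iv5 F47933)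
def n29793 : Q := act 6 n14157
theorem D29793 : act 6 n14157 = n29793 := rfl
theorem F47939 : act 2 n29793 = n28740 := d3_1 D29793 (iv6 D28740) (iv2 F23662)
theorem F47940 : act 3 n29793 = n14164 := d7_1 D29793 (iv6 D14164) (iv3 F23663)
def n29794 : Q := act 1 n14158
theorem D29794 : act 1 n14158 = n29794 := rfl
theorem F47941 : act 1 n29794 = n14401 := d15_1 D29794 (iv7 F36866) (iv2 F23665)
theorem F47942 : act 7 n29794 = n14396 := d15_2 (iv0 F24053) D29794 F24041
theorem F47943 : act 4 n29794 = n14404 := d17_9 (iv1 F24055) F22954 (iv1 D12070) (iv5 D5716) (iv4 F7533) D11101 D23709 (iv5 F36856) D29794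
theorem F47944 : act 5 n29794 = n24474 := d18_9 (iv1 D24474) D24475 F38771 (iv4 D24770) F19069 F9096 D12363 F23669 D29794
theorem F47945 : act 3 n28162 = n29794 := d20_3 (iv4 F10416) D13438 D28162 (iv1 D29794) F23666 (iv4 F23678) F45742 F45740 F22644 F22595
theorem F47946 : act 2 n29794 = n14404 := d0_1 F47945 F24054 F22545 (iv3 F24059) (iv2 F45522)
def n29795 : Q := act 5 n14159
theorem D29795 : act 5 n14159 = n29795 := rfl
theorem F47947 : act 2 n29795 = n24866 := d2_1 D29795 F38972 F23674
theorem F47948 : act 3 n29795 = n29362 := d6_1 D29795 (iv5 D29362) (iv3 F23673)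
theorem F47949 : act 7 n29795 = n24844 := d13_2 (iv7 F23676) D29795 (iv5 D24844)
theorem F47950 : act 0 n29795 = n24864 := d17_2 D14159 D29795 (iv5 F38967) F38394 F18865 F23656 F23654 F10989 D6738
theorem F47951 : act 1 n29795 = n24863 := d17_6 (iv1 F40233) F40230 (iv1 F38926) F38907 (iv4 F23672) D29795 F38964 (iv0 F38443) (iv4 F24450)
def n29796 : Q := act 0 n14160
theorem D29796 : act 0 n14160 = n29796 := rfl
theorem F47952 : act 5 n29796 = n24437 := d17_3 (iv1 F19525) D14160 D29796 F38327 (iv5 F46937) (iv0 D29302) (iv5 D13944) F19514 (iv4 F8441)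
theorem F47953 : act 1 n14168 = n29796 := d15_0 (iv0 D29796) (iv7 F38030) F38028
def n29797 : Q := act 1 n14160
theorem D29797 : act 1 n14160 = n29797 := rfl
theorem F47954 : act 1 n29797 = n14168 := d15_1 D29797 (iv7 F47907) F47905
theorem F47955 : act 5 n24484 = n29797 := d21_6 F45741 (iv1 F38436) (iv5 D11597) D11598 D24514 F39235 (iv1 D29797) (iv5 D14160) D14161 F45742
theorem F47956 : act 3 n29797 = n24365 := d6_1 F47955 F38191 F38440
def n29798 : Q := act 4 n14160
theorem D29798 : act 4 n14160 = n29798 := rfl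
def n29799 : Q := act 6 n14160
theorem D29799 : act 6 n14160 = n29799 := rfl
def n29800 : Q := act 1 n14161
theorem D29800 : act 1 n14161 = n29800 := rfl
theorem F47957 : act 7 n29800 = n24876 := d15_2 (iv0 F45742) D29800 (iv2 F45738)
theorem F47958 : act 4 n29800 = n24879 := d17_9 (iv1 F39010) (iv5 F37366) (iv1 F37370) (iv5 D14213) (iv4 F18829) D24412 (iv0 F38280) F37127 D29800
theorem F47959 : act 5 n29800 = n24481 := d18_9 (iv1 D24481) D24482 (iv1 F40846) (iv4 D14615) F18487 (iv4 F19312) F19774 (iv4 F23678) D29800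
theorem F47960 : act 3 n15012 = n29800 := d20_3 F40130 (iv1 F40148) F40145 (iv1 D29800) F24290 D25272 (iv1 F39886) F39000 F38466 D25381
theorem F47961 : act 6 n27958 = n29800 := d21_3 D11535 (iv1 F38987) (iv5 F45192) (iv1 D29800) (iv6 D14161) D14160 D29796 F47952 (iv6 D24437) (iv1 D11534)
def n29801 : Q := act 4 n14162
theorem D29801 : act 4 n14162 = n29801 := rfl
theorem F47962 : act 2 n29801 = n29547 := d1_1 D29801 (iv4 D29547) F23680
def n29802 : Q := act 6 n14162
theorem D29802 : act 6 n14162 = n29802 := rfl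
theorem F47963 : act 2 n29802 = n29548 := d3_1 D29802 (iv6 D29548) F23680
theorem F47964 : act 5 n29802 = n24443 := d12_1 D29802 (iv6 D24443) (iv5 D11545) D11546 (iv5 F23679)
def n29803 : Q := act 0 n14163
theorem D29803 : act 0 n14163 = n29803 := rfl
theorem F47965 : act 4 n29803 = n29302 := d18_3 F23083 D14163 D29803 F46937 (iv4 F38327) (iv0 F38328) F18888 D11586 (iv5 F23082)
theorem F47966 : act 1 n14170 = n29803 := d15_0 (iv0 D29803) (iv7 F47911) F47910
def n29804 : Q := act 1 n14163
theorem D29804 : act 1 n14163 = n29804 := rfl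
theorem F47967 : act 1 n29804 = n14170 := d15_1 D29804 (iv7 F47909) F47908
theorem F47968 : act 4 n29804 = n29303 := d18_7 (iv1 D11782) (iv4 F8441) (iv1 F19525) (iv4 D6738) D6739 D14163 D29804 F46941 (iv5 D24852)
def n29805 : Q := act 3 n14163
theorem D29805 : act 3 n14163 = n29805 := rfl
def n29806 : Q := act 5 n14163
theorem D29806 : act 5 n14163 = n29806 := rfl
def n29807 : Q := act 6 n14163
theorem D29807 : act 6 n14163 = n29807 := rfl
theorem F47969 : act 4 n29807 = n14164 := d10_1 D29807 (iv6 D14164) D14163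
def n29808 : Q := act 0 n14164
theorem D29808 : act 0 n14164 = n29808 := rfl
def n29809 : Q := act 1 n14164
theorem D29809 : act 1 n14164 = n29809 := rfl
def n29810 : Q := act 7 n14164
theorem D29810 : act 7 n14164 = n29810 := rfl
def n29811 : Q := act 0 n14165
theorem D29811 : act 0 n14165 = n29811 := rfl
theorem F47970 : act 5 n29811 = n25369 := d17_3 (iv1 F22916) D14165 D29811 (iv4 F40111) F23967 F23965 (iv5 D6854) F11087 (iv4 F20240)
theorem F47971 : act 4 n29811 = n28857 := d18_1 D29811 (iv1 F47032) (iv4 D29365) (iv5 D13969) (iv4 F10770) (iv0 D3093) (iv4 F4833) (iv0 F22915) D14165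
theorem F47972 : act 3 n29811 = n24049 := d20_5 (iv4 F47965) (iv1 F47966) (iv4 D14170) (iv3 F23683) D29811 (iv4 F46958) (iv1 D29310) (iv4 D13948) (iv3 F23224) D29302
theorem F47973 : act 2 n29617 = n29811 := d15_3 (iv0 D29811) F46664 (iv7 F47565)
theorem F47974 : act 1 n14335 = n29811 := d15_0 (iv0 D29811) (iv7 F40690) F40688
theorem F47975 : act 7 n29811 = n29590 := d15_2 (iv0 F46663) F47974 F47490
def n29812 : Q := act 4 n14165
theorem D29812 : act 4 n14165 = n29812 := rfl
theorem F47976 : act 1 n29812 = n29369 := d18_6 D6639 D13967 F23251 (iv4 F22918) D14165 D29812 (iv4 D29369) (iv0 D13971) (iv5 D6643)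
theorem F47977 : act 1 n29372 = n29812 := d15_0 F47976 F47044 (iv2 F47051)
def n29813 : Q := act 6 n14165
theorem D29813 : act 6 n14165 = n29813 := rfl
theorem F47978 : act 3 n29813 = n14171 := d7_1 D29813 (iv6 D14171) (iv3 F23683)
def n29814 : Q := act 5 n14167
theorem D29814 : act 5 n14167 = n29814 := rfl
theorem F47979 : act 2 n29814 = n24343 := d2_1 D29814 (iv5 D24343) (iv2 F23685)
theorem F47980 : act 3 n29814 = n14168 := d6_1 D29814 (iv5 D14168) D14167
theorem F47981 : act 7 n29814 = n24335 := d13_2 (iv7 F23687) D29814 (iv5 D24335)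
theorem F47982 : act 1 n29814 = n29321 := d17_6 F37102 D13991 (iv1 F38120) (iv5 D24328) (iv4 F23686) D29814 (iv5 D29321) (iv0 F38727) F37101
def n29815 : Q := act 4 n14168
theorem D29815 : act 4 n14168 = n29815 := rfl
def n29816 : Q := act 6 n14168
theorem D29816 : act 6 n14168 = n29816 := rfl
def n29817 : Q := act 5 n14169
theorem D29817 : act 5 n14169 = n29817 := rfl
theorem F47983 : act 2 n29817 = n28734 := d2_1 D29817 F46364 F24193
theorem F47984 : act 7 n29817 = n28735 := d13_2 F24209 D29817 (iv5 F46368)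
theorem F47985 : act 1 n29817 = n24413 := d17_6 D5370 D11518 F23691 (iv5 D14173) (iv4 F23690) D29817 (iv5 D24413) (iv0 D11511) F8191
theorem F47986 : act 0 n29817 = n24415 := d21_1 D29817 (iv5 D24415) (iv6 F24449) F38443 (iv6 F39919) F39918 (iv1 F39848) (iv5 D24867) D24868 (iv1 F38983)
def n29818 : Q := act 3 n14170
theorem D29818 : act 3 n14170 = n29818 := rfl
def n29819 : Q := act 5 n14170
theorem D29819 : act 5 n14170 = n29819 := rfl
def n29820 : Q := act 6 n14170
theorem D29820 : act 6 n14170 = n29820 := rfl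
theorem F47987 : act 4 n29820 = n14171 := d10_1 D29820 (iv6 D14171) D14170
def n29821 : Q := act 0 n14171
theorem D29821 : act 0 n14171 = n29821 := rfl
def n29822 : Q := act 1 n14171
theorem D29822 : act 1 n14171 = n29822 := rfl
theorem F47988 : act 6 n29552 = n29822 := d21_3 (iv5 F19501) (iv1 F39109) (iv5 F47410) (iv1 D29822) (iv6 D14171) (iv5 D6744) (iv1 D3031) D3032 (iv6 F4788) D6777
theorem F47989 : act 2 n29822 = n25925 := d3_1 F47988 F40980 D29552
theorem F47990 : act 5 n29822 = n24103 := d12_1 F47988 (iv6 D24103) D24102 (iv6 F39107) (iv5 F47410)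
def n29823 : Q := act 5 n14171
theorem D29823 : act 5 n14171 = n29823 := rfl
theorem F47991 : act 6 n29823 = n14173 := d12_2 D14171 D29823 (iv5 D14173) (iv6 D6745) D6744
def n29824 : Q := act 7 n14171
theorem D29824 : act 7 n14171 = n29824 := rfl
theorem F47992 : act 1 n25925 = n29824 := d15_1 (iv0 F47914) (iv7 D29824) (iv2 F47912)
def n29825 : Q := act 4 n14173
theorem D29825 : act 4 n14173 = n29825 := rfl
def n29826 : Q := act 6 n14174
theorem D29826 : act 6 n14174 = n29826 := rfl
theorem F47993 : act 3 n29826 = n14176 := d7_1 D29826 (iv6 D14176) D14174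
def n29827 : Q := act 0 n14175
theorem D29827 : act 0 n14175 = n29827 := rfl
theorem F47994 : act 4 n29827 = n24849 := d18_3 D6746 D14175 D29827 F38907 (iv4 F23672) (iv0 D14159) (iv4 D6738) (iv0 D3030) D3032
theorem F47995 : act 1 n14178 = n29827 := d15_0 (iv0 D29827) (iv7 F38455) F38454
theorem F47996 : act 7 n29827 = n24848 := d15_2 F38931 F47995 (iv2 F38928)
def n29828 : Q := act 3 n14175
theorem D29828 : act 3 n14175 = n29828 := rfl
def n29829 : Q := act 5 n14175
theorem D29829 : act 5 n14175 = n29829 := rfl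
def n29830 : Q := act 6 n14175
theorem D29830 : act 6 n14175 = n29830 := rfl
theorem F47997 : act 4 n29830 = n14176 := d10_1 D29830 (iv6 D14176) D14175
def n29831 : Q := act 0 n14176
theorem D29831 : act 0 n14176 = n29831 := rfl
def n29832 : Q := act 1 n14176
theorem D29832 : act 1 n14176 = n29832 := rfl
def n29833 : Q := act 7 n14176
theorem D29833 : act 7 n14176 = n29833 := rfl
def n29834 : Q := act 4 n14177
theorem D29834 : act 4 n14177 = n29834 := rfl
theorem F47998 : act 0 n29834 = n23786 := d18_2 (iv1 F40701) D29834 (iv4 D23786) (iv5 D11145) (iv4 F9840) D13317 (iv4 F22918) F22916 (iv5 F40699)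
theorem F47999 : act 1 n29834 = n29363 := d18_6 (iv1 F38740) (iv4 F45682) (iv1 D28226) (iv4 F38382) (iv5 F38385) D29834 (iv4 D29363) F23256 (iv5 F19068)
def n29835 : Q := act 6 n14177
theorem D29835 : act 6 n14177 = n29835 := rfl
theorem F48000 : act 3 n29835 = n14179 := d7_1 D29835 (iv6 D14179) D14177
def n29836 : Q := act 3 n14178
theorem D29836 : act 3 n14178 = n29836 := rfl
def n29837 : Q := act 5 n14178
theorem D29837 : act 5 n14178 = n29837 := rfl
def n29838 : Q := act 6 n14178
theorem D29838 : act 6 n14178 = n29838 := rfl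
theorem F48001 : act 4 n29838 = n14179 := d10_1 D29838 (iv6 D14179) D14178
def n29839 : Q := act 0 n14179
theorem D29839 : act 0 n14179 = n29839 := rfl
def n29840 : Q := act 1 n14179
theorem D29840 : act 1 n14179 = n29840 := rfl
def n29841 : Q := act 7 n14179
theorem D29841 : act 7 n14179 = n29841 := rfl
def n29842 : Q := act 3 n14180
theorem D29842 : act 3 n14180 = n29842 := rfl
def n29843 : Q := act 5 n14180
theorem D29843 : act 5 n14180 = n29843 := rfl
def n29844 : Q := act 6 n14180
theorem D29844 : act 6 n14180 = n29844 := rfl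
def n29845 : Q := act 3 n14181
theorem D29845 : act 3 n14181 = n29845 := rfl
def n29846 : Q := act 5 n14181
theorem D29846 : act 5 n14181 = n29846 := rfl
def n29847 : Q := act 6 n14181
theorem D29847 : act 6 n14181 = n29847 := rfl
def n29848 : Q := act 0 n14182
theorem D29848 : act 0 n14182 = n29848 := rfl
def n29849 : Q := act 1 n14182
theorem D29849 : act 1 n14182 = n29849 := rfl
def n29850 : Q := act 2 n14182
theorem D29850 : act 2 n14182 = n29850 := rfl
theorem F48002 : act 4 n29850 = n14198 := d1_2 (iv4 F23694) D29850 (iv2 D14198)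
def n29851 : Q := act 5 n14182
theorem D29851 : act 5 n14182 = n29851 := rfl
theorem F48003 : act 3 n29851 = n14183 := d6_1 D29851 (iv5 D14183) D14182
def n29852 : Q := act 7 n14182
theorem D29852 : act 7 n14182 = n29852 := rfl
theorem F48004 : act 3 n29852 = n14184 := d8_1 D29852 (iv7 D14184) D14182
theorem F48005 : act 4 n29852 = n14200 := d11_1 D29852 (iv7 D14200) (iv4 F23694)
def n29853 : Q := act 0 n14183
theorem D29853 : act 0 n14183 = n29853 := rfl
def n29854 : Q := act 1 n14183
theorem D29854 : act 1 n14183 = n29854 := rfl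
def n29855 : Q := act 4 n14183
theorem D29855 : act 4 n14183 = n29855 := rfl
theorem F48006 : act 5 n29855 = n24950 := d16_3 D6748 D14183 D29855 F39126 F19248 (iv4 F10985) (iv5 F23654) (iv7 D14156) F10983
theorem F48007 : act 7 n24949 = n29855 := d13_0 F48006 (iv7 D24950) D24949
def n29856 : Q := act 6 n14183
theorem D29856 : act 6 n14183 = n29856 := rfl
def n29857 : Q := act 7 n14183
theorem D29857 : act 7 n14183 = n29857 := rfl
theorem F48008 : act 4 n29857 = n24949 := d11_1 D29857 F48007 (iv4 D29855)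
theorem F48009 : act 5 n29857 = n14184 := d13_1 D29857 (iv7 D14184) D14183
def n29858 : Q := act 6 n14184
theorem D29858 : act 6 n14184 = n29858 := rfl
theorem F48010 : act 4 n29858 = n14185 := d10_1 D29858 (iv6 D14185) (iv4 F23695)
def n29859 : Q := act 0 n14185
theorem D29859 : act 0 n14185 = n29859 := rfl
def n29860 : Q := act 1 n14185
theorem D29860 : act 1 n14185 = n29860 := rfl
def n29861 : Q := act 0 n14186
theorem D29861 : act 0 n14186 = n29861 := rfl
theorem F48011 : act 1 n25778 = n29861 := d15_0 (iv0 D29861) (iv7 F23777) (iv2 F40726)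
def n29862 : Q := act 5 n14186
theorem D29862 : act 5 n14186 = n29862 := rfl
def n29863 : Q := act 6 n14186
theorem D29863 : act 6 n14186 = n29863 := rfl
theorem F48012 : act 4 n29863 = n14187 := d10_1 D29863 (iv6 D14187) D14186
def n29864 : Q := act 0 n14187
theorem D29864 : act 0 n14187 = n29864 := rfl
def n29865 : Q := act 1 n14187
theorem D29865 : act 1 n14187 = n29865 := rfl
def n29866 : Q := act 7 n14187
theorem D29866 : act 7 n14187 = n29866 := rfl
theorem F48013 : act 3 n29866 = n14190 := d8_1 D29866 (iv7 D14190) (iv3 F23698)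
def n29867 : Q := act 3 n14188
theorem D29867 : act 3 n14188 = n29867 := rfl
def n29868 : Q := act 4 n14188
theorem D29868 : act 4 n14188 = n29868 := rfl
def n29869 : Q := act 5 n14188
theorem D29869 : act 5 n14188 = n29869 := rfl
theorem F48014 : act 6 n29869 = n25129 := d12_2 F23785 D29869 (iv5 D25129) F23784 F23783
theorem F48015 : act 7 n29869 = n26024 := d13_2 F39529 D29869 F41131
theorem F48016 : act 0 n25945 = n29869 := d21_1 F46682 (iv5 D29869) (iv6 F23785) (iv1 D14252) (iv6 D6784) (iv5 F4795) (iv1 F8225) (iv5 F10629) D13818 D29037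
def n29870 : Q := act 3 n14189
theorem D29870 : act 3 n14189 = n29870 := rfl
def n29871 : Q := act 4 n14189
theorem D29871 : act 4 n14189 = n29871 := rfl
def n29872 : Q := act 6 n14189
theorem D29872 : act 6 n14189 = n29872 := rfl
theorem F48017 : act 5 n29872 = n29637 := d12_1 D29872 F47609 (iv5 D14769) D14770 F24410
theorem F48018 : act 0 n29872 = n14677 := d21_1 (iv5 F48017) (iv5 D14677) (iv6 F26195) (iv1 D14515) (iv6 D6932) (iv5 F4845) (iv1 F4944) D6693 (iv6 F23507) D29637
def n29873 : Q := act 1 n14191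
theorem D29873 : act 1 n14191 = n29873 := rfl
theorem F48019 : act 1 n29873 = n14278 := d15_1 D29873 (iv7 F23879) F23878
theorem F48020 : act 7 n29873 = n28198 := d15_2 F45585 D29873 F45611
theorem F48021 : act 4 n28199 = n29873 := d20_0 (iv1 D29873) (iv4 D14191) (iv3 D6752) (iv1 D3045) (iv3 F4757) D6748 D14180 F46993 (iv3 F45583) (iv1 F45619)
def n29874 : Q := act 5 n14191
theorem D29874 : act 5 n14191 = n29874 := rfl
def n29875 : Q := act 6 n14191
theorem D29875 : act 6 n14191 = n29875 := rfl
theorem F48022 : act 4 n29875 = n14192 := d10_1 D29875 (iv6 D14192) D14191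
def n29876 : Q := act 0 n14192
theorem D29876 : act 0 n14192 = n29876 := rfl
def n29877 : Q := act 1 n14192
theorem D29877 : act 1 n14192 = n29877 := rfl
def n29878 : Q := act 7 n14192
theorem D29878 : act 7 n14192 = n29878 := rfl
theorem F48023 : act 3 n29878 = n14195 := d8_1 D29878 (iv7 D14195) (iv3 F23699)
theorem F48024 : act 5 n29878 = n25055 := d13_1 D29878 (iv7 D25055) (iv5 F23700)
def n29879 : Q := act 3 n14193
theorem D29879 : act 3 n14193 = n29879 := rfl
theorem F48025 : act 5 n29879 = n25153 := d6_2 (iv5 F23701) D29879 (iv3 D25153)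
def n29880 : Q := act 4 n14193
theorem D29880 : act 4 n14193 = n29880 := rfl
def n29881 : Q := act 6 n14193
theorem D29881 : act 6 n14193 = n29881 := rfl
theorem F48026 : act 5 n29881 = n29638 := d12_1 D29881 (iv6 F47617) (iv5 F39584) (iv6 D25155) (iv5 F23701)
theorem F48027 : act 0 n29881 = n14682 := d21_10 (iv5 D14682) (iv1 D7008) D7009 F11270 (iv1 D6571) D6573 F10633 D11943 (iv5 F23701) D29881
theorem F48028 : act 0 n14677 = n29881 := d21_4 (iv5 D12307) D12305 D25940 F41003 (iv6 D29881) F23701 (iv1 F19705) (iv5 F23431) F23432 (iv1 F23123)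
def n29882 : Q := act 3 n14194
theorem D29882 : act 3 n14194 = n29882 := rfl
theorem F48029 : act 5 n29882 = n25156 := d6_2 F23702 D29882 (iv3 D25156)
def n29883 : Q := act 4 n14194
theorem D29883 : act 4 n14194 = n29883 := rfl
def n29884 : Q := act 0 n14196
theorem D29884 : act 0 n14196 = n29884 := rfl
theorem F48030 : act 2 n14200 = n29884 := d15_3 (iv0 D29884) (iv0 D14196) D14200
theorem F48031 : act 7 n29884 = n14198 := d4_2 D14200 F48030 (iv2 D14198)
theorem F48032 : act 1 n14197 = n29884 := d15_1 D14197 F48031 (iv2 D14198)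
def n29885 : Q := act 2 n14196
theorem D29885 : act 2 n14196 = n29885 := rfl
theorem F48033 : act 7 n14197 = n29885 := d15_2 (iv0 D14196) D14197 (iv2 D29885)
def n29886 : Q := act 3 n14196
theorem D29886 : act 3 n14196 = n29886 := rfl
def n29887 : Q := act 4 n14196
theorem D29887 : act 4 n14196 = n29887 := rfl
def n29888 : Q := act 5 n14196
theorem D29888 : act 5 n14196 = n29888 := rfl
def n29889 : Q := act 6 n14196
theorem D29889 : act 6 n14196 = n29889 := rfl
def n29890 : Q := act 7 n14196
theorem D29890 : act 7 n14196 = n29890 := rfl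
theorem F48034 : act 2 n29890 = n14197 := d4_1 D29890 F48033 (iv2 D29885)
def n29891 : Q := act 3 n14197
theorem D29891 : act 3 n14197 = n29891 := rfl
def n29892 : Q := act 4 n14197
theorem D29892 : act 4 n14197 = n29892 := rfl
def n29893 : Q := act 5 n14197
theorem D29893 : act 5 n14197 = n29893 := rfl
def n29894 : Q := act 6 n14197
theorem D29894 : act 6 n14197 = n29894 := rfl
def n29895 : Q := act 0 n14198
theorem D29895 : act 0 n14198 = n29895 := rfl
theorem F48035 : act 1 n14200 = n29895 := d15_0 (iv0 D29895) (iv7 F48031) (iv2 F48030)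
def n29896 : Q := act 1 n14198
theorem D29896 : act 1 n14198 = n29896 := rfl
theorem F48036 : act 1 n29896 = n14200 := d15_1 D29896 (iv7 D14200) D14198
def n29897 : Q := act 5 n14198
theorem D29897 : act 5 n14198 = n29897 := rfl
theorem F48037 : act 2 n29897 = n14199 := d2_1 D29897 (iv5 D14199) D14198
def n29898 : Q := act 0 n14199
theorem D29898 : act 0 n14199 = n29898 := rfl
def n29899 : Q := act 1 n14199
theorem D29899 : act 1 n14199 = n29899 := rfl
def n29900 : Q := act 4 n14199
theorem D29900 : act 4 n14199 = n29900 := rfl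
def n29901 : Q := act 6 n14199
theorem D29901 : act 6 n14199 = n29901 := rfl
theorem F48038 : act 3 n29901 = n14201 := d7_1 D29901 (iv6 D14201) (iv3 F23705)
def n29902 : Q := act 6 n14200
theorem D29902 : act 6 n14200 = n29902 := rfl
theorem F48039 : act 3 n29902 = n14202 := d7_1 D29902 (iv6 D14202) (iv3 F23706)
def n29903 : Q := act 0 n14201
theorem D29903 : act 0 n14201 = n29903 := rfl
def n29904 : Q := act 1 n14201
theorem D29904 : act 1 n14201 = n29904 := rfl
def n29905 : Q := act 7 n14201
theorem D29905 : act 7 n14201 = n29905 := rfl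
def n29906 : Q := act 0 n14202
theorem D29906 : act 0 n14202 = n29906 := rfl
theorem F48040 : act 1 n14202 = n29906 := d15_0 (iv0 D29906) (iv7 F23799) F23797
def n29907 : Q := act 5 n14202
theorem D29907 : act 5 n14202 = n29907 := rfl
def n29908 : Q := act 2 n14203
theorem D29908 : act 2 n14203 = n29908 := rfl
theorem F48041 : act 7 n14203 = n29908 := d15_2 (iv0 D14203) F23708 (iv2 D29908)
def n29909 : Q := act 3 n14203
theorem D29909 : act 3 n14203 = n29909 := rfl
def n29910 : Q := act 4 n14203
theorem D29910 : act 4 n14203 = n29910 := rfl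
def n29911 : Q := act 5 n14203
theorem D29911 : act 5 n14203 = n29911 := rfl
theorem F48042 : act 6 n29911 = n29037 := d12_2 F41005 D29911 F46682 (iv6 D25945) D25944
theorem F48043 : act 0 n29911 = n29055 := d21_1 D29911 (iv5 F47441) (iv6 D29566) (iv1 D14042) (iv6 D6675) (iv5 D2998) (iv1 F4978) (iv5 F4764) D6757 D14203
theorem F48044 : act 0 n29055 = n29911 := d21_10 (iv5 D29911) (iv1 F23708) F11000 (iv6 D6757) (iv1 F4794) D6784 F11041 D11641 F23090 D29055
theorem F48045 : act 0 n14770 = n25945 := d21_1 (iv5 F24410) (iv5 F46682) (iv6 F48042) F48043 (iv6 D29055) (iv5 F23090) (iv1 F19626) (iv5 F23704) (iv6 F23773) (iv1 F23775)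
def n29912 : Q := act 4 n14204
theorem D29912 : act 4 n14204 = n29912 := rfl
theorem F48046 : act 2 n29912 = n23987 := d1_1 D29912 (iv4 D23987) (iv2 F23709)
theorem F48047 : act 6 n29912 = n24434 := d10_2 (iv6 F23711) D29912 (iv4 D24434)
theorem F48048 : act 7 n29912 = n28261 := d11_2 F23976 D29912 F45768
theorem F48049 : act 0 n29912 = n28214 := d18_2 (iv1 F23994) D29912 (iv4 D28214) (iv5 F38816) (iv4 F39874) (iv0 F39877) F39205 (iv0 F24106) F24105
theorem F48050 : act 1 n29912 = n28216 := d18_6 (iv1 F10454) F18901 F19116 F19115 D14204 D29912 (iv4 D28216) F22604 F10466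
def n29913 : Q := act 0 n14205
theorem D29913 : act 0 n14205 = n29913 := rfl
theorem F48051 : act 1 n24108 = n29913 := d15_0 (iv0 D29913) (iv7 F24251) (iv2 F37770)
def n29914 : Q := act 1 n14205
theorem D29914 : act 1 n14205 = n29914 := rfl
theorem F48052 : act 1 n29914 = n24108 := d15_1 D29914 (iv7 D24108) (iv2 F23712)
theorem F48053 : act 4 n29914 = n23808 := d18_7 F18114 F18113 (iv1 D5381) (iv4 F4771) D6759 D14205 D29914 (iv0 F37128) (iv5 D14776)
theorem F48054 : act 2 n24105 = n29914 := d1_3 F48053 F46306 (iv4 F46307)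
theorem F48055 : act 7 n24104 = n29914 := d11_0 F48053 (iv7 F46303) F46300
theorem F48056 : act 2 n24104 = n29913 := d15_3 (iv0 D29913) D29914 (iv7 F48055)
theorem F48057 : act 7 n29913 = n24105 := d4_2 (iv7 F48055) F48056 F48054
def n29915 : Q := act 3 n14205
theorem D29915 : act 3 n14205 = n29915 := rfl
theorem F48058 : act 6 n29915 = n24450 := d7_2 (iv6 F23713) D29915 (iv3 D24450)
def n29916 : Q := act 5 n14205
theorem D29916 : act 5 n14205 = n29916 := rfl
theorem F48059 : act 2 n29916 = n24107 := d2_1 D29916 (iv5 D24107) (iv2 F23712)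
theorem F48060 : act 7 n29916 = n24564 := d13_2 F24251 D29916 F38552
theorem F48061 : act 4 n29916 = n24566 := d16_2 D14205 D29916 F38553 F18958 F8216 (iv4 F7795) (iv5 F18497) (iv7 D11320) (iv2 F11003)
def n29917 : Q := act 0 n14206
theorem D29917 : act 0 n14206 = n29917 := rfl
theorem F48062 : act 4 n29917 = n24448 := d18_1 D29917 (iv1 F38363) F38305 F18838 (iv4 F18832) (iv0 F22506) D13703 (iv0 F22950) D14206
theorem F48063 : act 2 n14220 = n29917 := d15_3 (iv0 D29917) (iv0 F38168) F38368
theorem F48064 : act 3 n29917 = n27927 := d0_2 (iv3 F38367) F48063 (iv2 F45109) (iv3 D24347) F38121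
theorem F48065 : act 7 n29917 = n14221 := d4_2 F38368 F48063 F38944
theorem F48066 : act 1 n14223 = n29917 := d15_1 F38169 F48065 F38944
def n29918 : Q := act 4 n14206
theorem D29918 : act 4 n14206 = n29918 := rfl
theorem F48067 : act 2 n29918 = n14222 := d1_1 D29918 (iv4 D14222) (iv2 F23714)
theorem F48068 : act 6 n29918 = n14687 := d10_2 F38278 D29918 (iv4 F38279)
theorem F48069 : act 0 n29918 = n24422 := d18_2 F38168 D29918 (iv4 D24422) (iv5 F24187) (iv4 F39102) (iv0 D24942) (iv4 F38920) F38921 (iv5 F38167)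
theorem F48070 : act 1 n29918 = n14509 := d18_6 (iv1 F19450) (iv4 F11009) (iv1 D6762) (iv4 F11006) D14206 D29918 (iv4 D14509) F19437 F18855
def n29919 : Q := act 7 n14206
theorem D29919 : act 7 n14206 = n29919 := rfl
theorem F48071 : act 2 n29919 = n14223 := d4_1 D29919 (iv7 D14223) (iv2 F23714)
theorem F48072 : act 5 n29919 = n14207 := d13_1 D29919 (iv7 D14207) D14206
theorem F48073 : act 1 n14221 = n29919 := d15_1 D14221 (iv7 D29919) F23714
theorem F48074 : act 1 n29919 = n14220 := d15_1 F48073 (iv7 F38368) (iv2 F38944)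
def n29920 : Q := act 4 n14208
theorem D29920 : act 4 n14208 = n29920 := rfl
theorem F48075 : act 2 n29920 = n14225 := d1_1 D29920 (iv4 D14225) (iv2 F23720)
theorem F48076 : act 7 n29920 = n14229 := d11_2 (iv7 F23721) D29920 (iv4 D14229)
def n29921 : Q := act 4 n14209
theorem D29921 : act 4 n14209 = n29921 := rfl
theorem F48077 : act 2 n29921 = n14229 := d1_1 D29921 (iv4 D14229) (iv2 F23724)
theorem F48078 : act 7 n29921 = n14225 := d11_2 (iv7 F23726) D29921 (iv4 D14225)
def n29922 : Q := act 6 n14209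
theorem D29922 : act 6 n14209 = n29922 := rfl
theorem F48079 : act 2 n29922 = n14230 := d3_1 D29922 (iv6 D14230) (iv2 F23724)
theorem F48080 : act 3 n29922 = n24010 := d7_1 D29922 (iv6 D24010) (iv3 F23725)
theorem F48081 : act 0 n14658 = n29922 := d21_4 (iv5 F38342) (iv1 F38347) (iv5 F23082) (iv6 F24342) (iv6 D29922) (iv5 D14209) (iv1 D6762) D6763 F11017 D14154
def n29923 : Q := act 4 n14210
theorem D29923 : act 4 n14210 = n29923 := rfl
theorem F48082 : act 2 n29923 = n14233 := d1_1 D29923 (iv4 D14233) F23728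
theorem F48083 : act 7 n29923 = n14236 := d11_2 (iv7 F23729) D29923 (iv4 D14236)
theorem F48084 : act 1 n29923 = n24418 := d18_6 (iv1 F38293) (iv4 D14553) (iv1 F24189) (iv4 F39102) F39100 D29923 (iv4 D24418) D24417 (iv5 F38290)
def n29924 : Q := act 6 n14210
theorem D29924 : act 6 n14210 = n29924 := rfl
theorem F48085 : act 2 n29924 = n14234 := d3_1 D29924 (iv6 D14234) F23728
theorem F48086 : act 5 n29924 = n25863 := d12_1 D29924 (iv6 D25863) (iv5 F20344) (iv6 F39099) F39100
def n29925 : Q := act 1 n14211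
theorem D29925 : act 1 n14211 = n29925 := rfl
theorem F48087 : act 1 n29925 = n14242 := d15_1 D29925 (iv7 D14242) (iv2 F23731)
theorem F48088 : act 7 n29925 = n14238 := d15_2 (iv0 F46410) D29925 (iv2 F46411)
theorem F48089 : act 4 n29925 = n24439 := d18_7 (iv1 F18842) F19530 (iv1 F18750) F11006 D6763 D14211 D29925 F38329 F38298
theorem F48090 : act 2 n14239 = n29925 := d1_3 F48089 F38981 F38295
def n29926 : Q := act 3 n14211
theorem D29926 : act 3 n14211 = n29926 := rfl
theorem F48091 : act 4 n29926 = n29787 := d5_2 D14211 D29926 (iv3 D29787) (iv4 D14155) (iv3 F11016)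
theorem F48092 : act 6 n29926 = n29787 := d7_2 (iv6 F23732) D29926 (iv3 D29787)
def n29927 : Q := act 5 n14211
theorem D29927 : act 5 n14211 = n29927 := rfl
theorem F48093 : act 2 n29927 = n14241 := d2_1 D29927 (iv5 D14241) (iv2 F23731)
def n29928 : Q := act 7 n14211
theorem D29928 : act 7 n14211 = n29928 := rfl
theorem F48094 : act 2 n29928 = n14242 := d4_1 D29928 (iv7 D14242) (iv2 F23731)
theorem F48095 : act 4 n29928 = n14212 := d11_1 D29928 (iv7 D14212) D14211
theorem F48096 : act 1 n14239 = n29928 := d15_1 D14239 (iv7 D29928) F23731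
theorem F48097 : act 1 n29928 = n14238 := d15_1 F48096 (iv7 F48088) (iv2 F48090)
def n29929 : Q := act 6 n14212
theorem D29929 : act 6 n14212 = n29929 := rfl
theorem F48098 : act 2 n29929 = n14243 := d3_1 D29929 (iv6 D14243) (iv2 F23733)
theorem F48099 : act 3 n29929 = n29790 := d7_1 D29929 (iv6 D29790) (iv3 F23734)
theorem F48100 : act 5 n29929 = n29929 := d12_1 D29929 (iv6 D29929) F23735 F11020 (iv5 F23735)
theorem F48101 : act 7 n29929 = n29790 := d14_2 D14212 D29929 (iv6 D29790) (iv7 D14156) (iv6 F11017)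
theorem F48102 : act 1 n29860 = n29929 := d15_1 D29860 F48101 F47929
theorem F48103 : act 1 n29929 = n29859 := d15_0 (iv0 D29859) (iv7 F23767) (iv2 F48098)
def n29930 : Q := act 4 n14213
theorem D29930 : act 4 n14213 = n29930 := rfl
theorem F48104 : act 2 n29930 = n24529 := d1_1 D29930 (iv4 F38515) F23740
theorem F48105 : act 6 n29930 = n29772 := d10_2 (iv6 F23739) D29930 (iv4 D29772)
theorem F48106 : act 7 n29930 = n24528 := d11_2 F38808 D29930 (iv4 F38809)
theorem F48107 : act 1 n29930 = n24466 := d18_6 (iv1 F8206) (iv4 F18113) (iv1 F19376) F18829 D14213 D29930 (iv4 D24466) F18867 F8216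
theorem F48108 : act 0 n29930 = n24464 := d20_1 D29930 (iv4 D24464) D24463 (iv1 F38535) F19973 (iv4 F20004) (iv1 F36917) F36919 D23942 (iv1 F37370)
def n29931 : Q := act 1 n14214
theorem D29931 : act 1 n14214 = n29931 := rfl
theorem F48109 : act 1 n29931 = n24798 := d15_1 D29931 F38808 (iv2 F23740)
theorem F48110 : act 7 n29931 = n24551 := d15_2 F24599 D29931 F38544
theorem F48111 : act 5 n29931 = n24846 := d18_9 (iv1 F38901) (iv4 F39005) F39215 (iv4 D24534) (iv5 D11608) D11607 D24529 (iv4 F38515) D29931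
theorem F48112 : act 2 n23942 = n29931 := d2_3 F48111 F38899 (iv5 F37366)
theorem F48113 : act 3 n28097 = n29931 := d6_3 F48111 (iv3 F45576) F45578
theorem F48114 : act 4 n24469 = n29931 := d18_3 (iv1 F18872) (iv4 F18958) (iv1 F38422) F48111 F38900 F24289 F24287 (iv0 F24216) (iv5 F24217)
def n29932 : Q := act 0 n14215
theorem D29932 : act 0 n14215 = n29932 := rfl
theorem F48115 : act 5 n29932 = n24853 := d17_3 D6767 D14215 D29932 F38920 (iv5 F23753) (iv0 D14224) (iv5 D6771) (iv0 D3055) (iv4 F4786)
theorem F48116 : act 1 n14218 = n29932 := d15_0 (iv0 D29932) (iv7 F38160) F38158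
def n29933 : Q := act 1 n14215
theorem D29933 : act 1 n14215 = n29933 := rfl
theorem F48117 : act 1 n29933 = n14218 := d15_1 D29933 (iv7 F46363) F46361
theorem F48118 : act 5 n24743 = n29933 := d21_6 (iv5 F38988) (iv1 F38990) (iv5 D11797) D11798 (iv1 F38446) (iv6 F38724) (iv1 D29933) (iv5 D14215) D14216 (iv1 F24283)
theorem F48119 : act 3 n29933 = n16583 := d6_1 F48118 F27058 D24743
def n29934 : Q := act 4 n14215
theorem D29934 : act 4 n14215 = n29934 := rfl
theorem F48120 : act 0 n29934 = n29825 := d18_2 (iv1 D29933) D29934 (iv4 D29825) (iv5 D14173) (iv4 F23690) F38983 F38979 (iv0 F38726) F48118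
def n29935 : Q := act 6 n14215
theorem D29935 : act 6 n14215 = n29935 := rfl
theorem F48121 : act 3 n29935 = n28276 := d7_1 D29935 F45782 F38115
theorem F48122 : act 5 n29935 = n28270 := d12_1 D29935 (iv6 D28270) F23743 (iv6 D14216) D14215
def n29936 : Q := act 5 n14217
theorem D29936 : act 5 n14217 = n29936 := rfl
theorem F48123 : act 2 n29936 = n27926 := d2_1 D29936 (iv5 D27926) (iv2 F23746)
theorem F48124 : act 3 n29936 = n14218 := d6_1 D29936 (iv5 D14218) D14217
theorem F48125 : act 7 n29936 = n27924 := d13_2 (iv7 F23748) D29936 (iv5 D27924)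
theorem F48126 : act 1 n29936 = n28758 := d17_6 F38386 D29590 F47494 (iv5 D25762) (iv4 F23747) D29936 (iv5 D28758) (iv0 F37937) (iv4 F38382)
def n29937 : Q := act 6 n14217
theorem D29937 : act 6 n14217 = n29937 := rfl
theorem F48127 : act 2 n29937 = n25211 := d3_1 D29937 F39698 (iv2 F23746)
theorem F48128 : act 3 n29937 = n14219 := d7_1 D29937 (iv6 D14219) D14217
theorem F48129 : act 4 n29937 = n24580 := d10_1 D29937 (iv6 F38586) (iv4 F23747)
theorem F48130 : act 0 n29937 = n28866 := d21_4 D28758 (iv1 F48126) (iv5 D29936) D29937 F46510 (iv5 F45676) (iv1 D28223) (iv5 D13475) D13476 F37937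
theorem F48131 : act 0 n27941 = n29937 := d20_10 F48129 (iv1 F40783) F40780 F38566 (iv1 F23835) D25056 (iv4 F39321) F39324 (iv4 F22167) (iv3 F45146)
def n29938 : Q := act 4 n14218
theorem D29938 : act 4 n14218 = n29938 := rfl
theorem F48132 : act 1 n29938 = n29825 := d18_6 (iv1 F8205) (iv4 F18845) (iv1 F18848) F22399 D14218 D29938 (iv4 D29825) (iv0 F23691) (iv5 D11518)
def n29939 : Q := act 6 n14218
theorem D29939 : act 6 n14218 = n29939 := rfl
def n29940 : Q := act 5 n14219
theorem D29940 : act 5 n14219 = n29940 := rfl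
theorem F48133 : act 2 n29940 = n29302 := d2_1 D29940 F46937 F38161
theorem F48134 : act 7 n29940 = n29303 := d13_2 (iv7 F40225) D29940 F46943
theorem F48135 : act 0 n29940 = n16525 := d17_2 F37744 D29940 (iv5 D16525) (iv4 D7677) D7678 (iv0 F23761) (iv5 D14232) (iv0 F24293) (iv4 F37743)
theorem F48136 : act 0 n24845 = n29940 := d21_1 D24845 (iv5 D29940) (iv6 D14219) (iv1 D6768) (iv6 D3054) (iv5 F4493) (iv1 F4496) (iv5 F3647) D5515 D11776
def n29941 : Q := act 6 n14220
theorem D29941 : act 6 n14220 = n29941 := rfl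
def n29942 : Q := act 3 n14221
theorem D29942 : act 3 n14221 = n29942 := rfl
theorem F48137 : act 2 n29942 = n27928 := d0_1 D29942 F45106 F22629 D24350 (iv2 F38944)
theorem F48138 : act 5 n29942 = n25366 := d6_2 F38943 D29942 F40104
theorem F48139 : act 7 n29942 = n27927 := d8_2 F48065 D29942 (iv3 F48064)
theorem F48140 : act 0 n27930 = n29942 := d20_4 D24124 (iv1 F45135) F45133 (iv3 F45112) (iv3 D29942) F38945 (iv1 D24425) (iv4 D11527) F8192 D11331
theorem F48141 : act 1 n23784 = n29942 := d15_0 (iv0 F48140) (iv7 D27930) (iv2 F37061)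
def n29943 : Q := act 6 n14221
theorem D29943 : act 6 n14221 = n29943 := rfl
def n29944 : Q := act 3 n14222
theorem D29944 : act 3 n14222 = n29944 := rfl
theorem F48142 : act 4 n29944 = n25296 := d5_2 D14222 D29944 (iv3 D25296) (iv4 D12011) (iv3 F11026)
def n29945 : Q := act 5 n14222
theorem D29945 : act 5 n14222 = n29945 := rfl
def n29946 : Q := act 7 n14222
theorem D29946 : act 7 n14222 = n29946 := rfl
theorem F48143 : act 4 n29946 = n14223 := d11_1 D29946 (iv7 D14223) D14222
theorem F48144 : act 1 n14509 = n29946 := d15_1 F48070 (iv7 D29946) (iv2 F48067)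
theorem F48145 : act 1 n29946 = n24422 := d15_1 F48144 (iv7 F38354) F38353
def n29947 : Q := act 6 n14223
theorem D29947 : act 6 n14223 = n29947 := rfl
theorem F48146 : act 3 n29947 = n25299 := d7_1 D29947 (iv6 D25299) (iv3 F23751)
theorem F48147 : act 5 n29947 = n29947 := d12_1 D29947 (iv6 D29947) F23752 F11029 (iv5 F23752)
def n29948 : Q := act 4 n14224
theorem D29948 : act 4 n14224 = n29948 := rfl
theorem F48148 : act 2 n29948 = n29033 := d1_1 D29948 (iv4 D29033) F23754
def n29949 : Q := act 6 n14224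
theorem D29949 : act 6 n14224 = n29949 := rfl
theorem F48149 : act 2 n29949 = n29034 := d3_1 D29949 (iv6 D29034) F23754
theorem F48150 : act 3 n29949 = n29802 := d7_1 D29949 (iv6 D29802) (iv3 F23757)
theorem F48151 : act 5 n29949 = n24941 := d12_1 D29949 (iv6 D24941) (iv5 D11842) D11843 (iv5 F23753)
def n29950 : Q := act 0 n14225
theorem D29950 : act 0 n14225 = n29950 := rfl
theorem F48152 : act 4 n29950 = n28734 := d18_3 F23422 D14225 D29950 F46364 (iv4 D14553) (iv0 D6954) (iv4 F10173) D11862 (iv5 F23420)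
theorem F48153 : act 1 n14229 = n29950 := d15_0 (iv0 D29950) (iv7 F48078) F48077
def n29951 : Q := act 1 n14225
theorem D29951 : act 1 n14225 = n29951 := rfl
theorem F48154 : act 1 n29951 = n14229 := d15_1 D29951 (iv7 F48076) F48075
theorem F48155 : act 4 n29951 = n28735 := d18_7 (iv1 D11534) F8198 F19491 (iv4 F10313) D6771 D14225 D29951 F46367 (iv5 D24436)
def n29952 : Q := act 3 n14225
theorem D29952 : act 3 n14225 = n29952 := rfl
def n29953 : Q := act 5 n14225
theorem D29953 : act 5 n14225 = n29953 := rfl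
def n29954 : Q := act 6 n14225
theorem D29954 : act 6 n14225 = n29954 := rfl
theorem F48156 : act 4 n29954 = n14226 := d10_1 D29954 (iv6 D14226) D14225
def n29955 : Q := act 0 n14226
theorem D29955 : act 0 n14226 = n29955 := rfl
def n29956 : Q := act 1 n14226
theorem D29956 : act 1 n14226 = n29956 := rfl
def n29957 : Q := act 7 n14226
theorem D29957 : act 7 n14226 = n29957 := rfl
def n29958 : Q := act 0 n14227
theorem D29958 : act 0 n14227 = n29958 := rfl
theorem F48157 : act 4 n29958 = n29409 := d18_1 D29958 (iv1 F47126) (iv4 D28185) (iv5 D13455) F22484 (iv0 D3075) (iv4 F4806) (iv0 F22508) D14227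
theorem F48158 : act 3 n29958 = n29791 := d20_5 (iv4 F48152) (iv1 F48153) (iv4 D14229) (iv3 F23758) D29958 (iv4 F47935) (iv1 D28746) (iv4 D13710) (iv3 F22951) D28734
theorem F48159 : act 2 n29072 = n29958 := d15_3 (iv0 D29958) F47369 F47365
theorem F48160 : act 1 n14270 = n29958 := d15_0 (iv0 D29958) (iv7 F23802) (iv2 F23815)
def n29959 : Q := act 4 n14227
theorem D29959 : act 4 n14227 = n29959 := rfl
theorem F48161 : act 1 n29959 = n28804 := d18_6 (iv1 F19472) (iv4 F22396) (iv1 F22404) (iv4 F22407) D14227 D29959 (iv4 D28804) (iv0 D13733) (iv5 D6539)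
theorem F48162 : act 1 n28807 = n29959 := d15_0 F48161 (iv7 F47121) F47120
def n29960 : Q := act 6 n14227
theorem D29960 : act 6 n14227 = n29960 := rfl
theorem F48163 : act 3 n29960 = n14230 := d7_1 D29960 (iv6 D14230) (iv3 F23758)
def n29961 : Q := act 5 n14228
theorem D29961 : act 5 n14228 = n29961 := rfl
theorem F48164 : act 2 n29961 = n29592 := d2_1 D29961 F47503 F23808
theorem F48165 : act 3 n29961 = n14232 := d6_1 D29961 (iv5 D14232) (iv3 F23759)
theorem F48166 : act 0 n29961 = n24117 := d17_2 (iv1 F23984) D29961 (iv5 D24117) (iv4 F19519) D16489 (iv0 F26063) (iv5 D13846) (iv0 F22557) (iv4 F11129)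
theorem F48167 : act 0 n16493 = n29961 := d21_1 D16493 (iv5 D29961) (iv6 D14228) F22508 (iv6 D3074) (iv5 F3742) D3091 F4827 D5702 F11895
def n29962 : Q := act 3 n14229
theorem D29962 : act 3 n14229 = n29962 := rfl
def n29963 : Q := act 5 n14229
theorem D29963 : act 5 n14229 = n29963 := rfl
def n29964 : Q := act 6 n14229
theorem D29964 : act 6 n14229 = n29964 := rfl
theorem F48168 : act 4 n29964 = n14230 := d10_1 D29964 (iv6 D14230) D14229
def n29965 : Q := act 0 n14230
theorem D29965 : act 0 n14230 = n29965 := rfl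
def n29966 : Q := act 1 n14230
theorem D29966 : act 1 n14230 = n29966 := rfl
theorem F48169 : act 6 n29040 = n29966 := d21_3 (iv5 F23660) (iv1 F38352) (iv5 F46685) (iv1 D29966) (iv6 D14230) (iv5 D6775) (iv1 D3056) D3057 F4788 D6746
theorem F48170 : act 2 n29966 = n14658 := d3_1 F48169 F24342 D29040
theorem F48171 : act 3 n29966 = n29822 := d7_1 F48169 (iv6 F47988) F47409
theorem F48172 : act 5 n29966 = n14650 := d12_1 F48169 (iv6 D14650) D14649 (iv6 F38350) (iv5 F46685)
def n29967 : Q := act 5 n14230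
theorem D29967 : act 5 n14230 = n29967 := rfl
theorem F48173 : act 6 n29967 = n14232 := d12_2 D14230 D29967 (iv5 D14232) (iv6 D6776) D6775
def n29968 : Q := act 7 n14230
theorem D29968 : act 7 n14230 = n29968 := rfl
theorem F48174 : act 1 n14658 = n29968 := d15_1 (iv0 F48081) (iv7 D29968) (iv2 F48079)
def n29969 : Q := act 4 n14232
theorem D29969 : act 4 n14232 = n29969 := rfl
theorem F48175 : act 0 n29969 = n29815 := d18_2 (iv1 F23760) D29969 (iv4 D29815) (iv5 D14168) (iv4 D6743) F10988 F10985 F8477 D11832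
theorem F48176 : act 1 n29969 = n29798 := d18_6 (iv1 D24484) F18888 (iv1 F19495) F19498 D14232 D29969 (iv4 D29798) D29797 (iv5 F47955)
def n29970 : Q := act 0 n14233
theorem D29970 : act 0 n14233 = n29970 := rfl
theorem F48177 : act 4 n29970 = n24419 := d18_3 D6777 D14233 D29970 F38298 F18832 (iv0 F19490) (iv4 F10313) (iv0 D3055) D3057
theorem F48178 : act 1 n14236 = n29970 := d15_0 (iv0 D29970) (iv7 F39199) F39198
theorem F48179 : act 7 n29970 = n24418 := d15_2 F38331 F48178 (iv2 F38330)
def n29971 : Q := act 3 n14233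
theorem D29971 : act 3 n14233 = n29971 := rfl
def n29972 : Q := act 5 n14233
theorem D29972 : act 5 n14233 = n29972 := rfl
def n29973 : Q := act 6 n14233
theorem D29973 : act 6 n14233 = n29973 := rfl
theorem F48180 : act 4 n29973 = n14234 := d10_1 D29973 (iv6 D14234) D14233
def n29974 : Q := act 0 n14234
theorem D29974 : act 0 n14234 = n29974 := rfl
def n29975 : Q := act 1 n14234
theorem D29975 : act 1 n14234 = n29975 := rfl
def n29976 : Q := act 7 n14234
theorem D29976 : act 7 n14234 = n29976 := rfl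
def n29977 : Q := act 6 n14235
theorem D29977 : act 6 n14235 = n29977 := rfl
theorem F48181 : act 3 n29977 = n14237 := d7_1 D29977 (iv6 D14237) D14235
def n29978 : Q := act 3 n14236
theorem D29978 : act 3 n14236 = n29978 := rfl
def n29979 : Q := act 5 n14236
theorem D29979 : act 5 n14236 = n29979 := rfl
def n29980 : Q := act 6 n14236
theorem D29980 : act 6 n14236 = n29980 := rfl
theorem F48182 : act 4 n29980 = n14237 := d10_1 D29980 (iv6 D14237) D14236
def n29981 : Q := act 0 n14237
theorem D29981 : act 0 n14237 = n29981 := rfl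
def n29982 : Q := act 1 n14237
theorem D29982 : act 1 n14237 = n29982 := rfl
def n29983 : Q := act 7 n14237
theorem D29983 : act 7 n14237 = n29983 := rfl
def n29984 : Q := act 3 n14238
theorem D29984 : act 3 n14238 = n29984 := rfl
def n29985 : Q := act 5 n14238
theorem D29985 : act 5 n14238 = n29985 := rfl
def n29986 : Q := act 6 n14238
theorem D29986 : act 6 n14238 = n29986 := rfl
def n29987 : Q := act 3 n14239
theorem D29987 : act 3 n14239 = n29987 := rfl
def n29988 : Q := act 5 n14239
theorem D29988 : act 5 n14239 = n29988 := rfl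
def n29989 : Q := act 6 n14239
theorem D29989 : act 6 n14239 = n29989 := rfl
def n29990 : Q := act 0 n14240
theorem D29990 : act 0 n14240 = n29990 := rfl
def n29991 : Q := act 1 n14240
theorem D29991 : act 1 n14240 = n29991 := rfl
def n29992 : Q := act 2 n14240
theorem D29992 : act 2 n14240 = n29992 := rfl
theorem F48183 : act 4 n29992 = n14256 := d1_2 (iv4 F23762) D29992 (iv2 D14256)
theorem F48184 : act 6 n29992 = n29850 := d3_2 (iv6 F23763) D29992 (iv2 D29850)
def n29993 : Q := act 5 n14240
theorem D29993 : act 5 n14240 = n29993 := rfl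
theorem F48185 : act 3 n29993 = n14241 := d6_1 D29993 (iv5 D14241) D14240
def n29994 : Q := act 7 n14240
theorem D29994 : act 7 n14240 = n29994 := rfl
theorem F48186 : act 3 n29994 = n14242 := d8_1 D29994 (iv7 D14242) D14240
theorem F48187 : act 4 n29994 = n14258 := d11_1 D29994 (iv7 D14258) (iv4 F23762)
def n29995 : Q := act 0 n14241
theorem D29995 : act 0 n14241 = n29995 := rfl
def n29996 : Q := act 1 n14241
theorem D29996 : act 1 n14241 = n29996 := rfl
def n29997 : Q := act 4 n14241
theorem D29997 : act 4 n14241 = n29997 := rfl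
def n29998 : Q := act 6 n14241
theorem D29998 : act 6 n14241 = n29998 := rfl
theorem F48188 : act 5 n29998 = n29856 := d12_1 D29998 (iv6 D29856) (iv5 D14183) (iv6 F11032) D14241
def n29999 : Q := act 7 n14241
theorem D29999 : act 7 n14241 = n29999 := rfl
theorem F48189 : act 5 n29999 = n14242 := d13_1 D29999 (iv7 D14242) D14241
def n30000 : Q := act 6 n14242
theorem D30000 : act 6 n14242 = n30000 := rfl
theorem F48190 : act 4 n30000 = n14243 := d10_1 D30000 (iv6 D14243) (iv4 F23764)
theorem F48191 : act 7 n30000 = n29858 := d14_2 D14242 D30000 (iv6 D29858) (iv7 D14184) (iv6 F11032)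
def n30001 : Q := act 0 n14243
theorem D30001 : act 0 n14243 = n30001 := rfl
theorem F48192 : act 1 n29790 = n30001 := d15_0 (iv0 D30001) F23767 (iv2 F47929)
def n30002 : Q := act 1 n14243
theorem D30002 : act 1 n14243 = n30002 := rfl
theorem F48193 : act 1 n30002 = n29790 := d15_1 D30002 (iv7 F48101) F48098
def n30003 : Q := act 0 n14244
theorem D30003 : act 0 n14244 = n30003 := rfl
theorem F48194 : act 4 n30003 = n28184 := d18_3 (iv1 F22527) D14244 D30003 F45587 F22396 F19472 (iv4 F10106) (iv0 F22501) D3082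
theorem F48195 : act 2 n29873 = n30003 := d15_3 (iv0 D30003) (iv0 F45614) (iv7 F48020)
theorem F48196 : act 1 n14296 = n30003 := d15_0 (iv0 D30003) F23768 (iv2 F23878)
theorem F48197 : act 7 n30003 = n28183 := d15_2 F45613 F48196 (iv2 F45611)
def n30004 : Q := act 5 n14244
theorem D30004 : act 5 n14244 = n30004 := rfl
theorem F48198 : act 7 n30004 = n29874 := d13_2 (iv7 F23768) D30004 (iv5 D29874)
def n30005 : Q := act 6 n14244
theorem D30005 : act 6 n14244 = n30005 := rfl
theorem F48199 : act 4 n30005 = n14245 := d10_1 D30005 (iv6 D14245) D14244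
def n30006 : Q := act 0 n14245
theorem D30006 : act 0 n14245 = n30006 := rfl
def n30007 : Q := act 1 n14245
theorem D30007 : act 1 n14245 = n30007 := rfl
def n30008 : Q := act 7 n14245
theorem D30008 : act 7 n14245 = n30008 := rfl
theorem F48200 : act 3 n30008 = n14248 := d8_1 D30008 (iv7 D14248) (iv3 F23769)
theorem F48201 : act 6 n30008 = n29878 := d14_1 D30008 (iv7 D29878) (iv6 D14192) (iv7 F11035) D14245
def n30009 : Q := act 3 n14246
theorem D30009 : act 3 n14246 = n30009 := rfl
theorem F48202 : act 6 n30009 = n29882 := d7_2 (iv6 F23770) D30009 (iv3 D29882)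
theorem F48203 : act 7 n30009 = n29870 := d8_2 F39528 D30009 (iv3 D29870)
def n30010 : Q := act 4 n14246
theorem D30010 : act 4 n14246 = n30010 := rfl
theorem F48204 : act 2 n30010 = n29868 := d1_1 D30010 (iv4 D29868) (iv2 F39527)
theorem F48205 : act 6 n30010 = n29883 := d10_2 (iv6 F23770) D30010 (iv4 D29883)
theorem F48206 : act 7 n30010 = n29871 := d11_2 F39528 D30010 (iv4 D29871)
def n30011 : Q := act 5 n14246
theorem D30011 : act 5 n14246 = n30011 := rfl
theorem F48207 : act 2 n30011 = n29869 := d2_1 D30011 (iv5 D29869) (iv2 F39527)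
theorem F48208 : act 6 n30011 = n24667 := d12_2 (iv6 F23770) D30011 (iv5 D24667) F23703 F23702
theorem F48209 : act 7 n30011 = n14770 := d13_2 F39528 D30011 F24410
theorem F48210 : act 0 n14683 = n30011 := d21_10 (iv5 D30011) (iv1 F23774) (iv5 F26158) F26157 (iv1 F38635) F47617 (iv5 F48026) F48027 (iv5 D14682) D14683
theorem F48211 : act 1 n14683 = n26024 := d15_1 (iv0 F48210) (iv7 F48015) (iv2 F48207)
def n30012 : Q := act 3 n14247
theorem D30012 : act 3 n14247 = n30012 := rfl
theorem F48212 : act 7 n30012 = n29867 := d8_2 (iv7 F39529) D30012 (iv3 D29867)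
def n30013 : Q := act 4 n14247
theorem D30013 : act 4 n14247 = n30013 := rfl
theorem F48213 : act 2 n30013 = n29871 := d1_1 D30013 (iv4 D29871) F39530
theorem F48214 : act 7 n30013 = n29868 := d11_2 (iv7 F39529) D30013 (iv4 D29868)
def n30014 : Q := act 6 n14247
theorem D30014 : act 6 n14247 = n30014 := rfl
theorem F48215 : act 2 n30014 = n29872 := d3_1 D30014 (iv6 D29872) F39530
theorem F48216 : act 5 n30014 = n29095 := d12_1 D30014 F46743 (iv5 D26023) D26024 F41131
theorem F48217 : act 7 n30014 = n29881 := d14_2 (iv7 F39529) D30014 (iv6 D29881) (iv7 F39524) F23785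
theorem F48218 : act 1 n29872 = n14682 := d15_0 (iv0 F48027) (iv7 F48217) F48215
theorem F48219 : act 0 n25944 = n30014 := d21_10 F48216 (iv1 F46744) F24319 F23509 (iv1 F23428) D29566 F47441 F48044 (iv5 D29911) (iv6 F41005)
theorem F48220 : act 0 n30014 = n25940 := d21_1 (iv5 F48216) (iv5 D25940) F26196 (iv1 D16549) (iv6 D7687) (iv5 F5470) (iv1 F8967) D6588 (iv6 F23122) D29095
def n30015 : Q := act 0 n14249
theorem D30015 : act 0 n14249 = n30015 := rfl
theorem F48221 : act 4 n30015 = n24850 := d18_3 (iv1 F20268) D14249 D30015 (iv5 D24850) F19143 (iv0 F19512) F10876 F10345 (iv5 F20267)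
theorem F48222 : act 1 n25768 = n30015 := d15_0 (iv0 D30015) F23777 (iv2 F40714)
theorem F48223 : act 2 n28178 = n30015 := d1_3 F48221 F38908 D28178
theorem F48224 : act 6 n28183 = n30015 := d10_0 F48221 F38910 D28183
theorem F48225 : act 7 n29861 = n30015 := d15_2 F45569 F48011 (iv2 F48223)
def n30016 : Q := act 1 n14249
theorem D30016 : act 1 n14249 = n30016 := rfl
theorem F48226 : act 1 n30016 = n25768 := d15_1 D30016 (iv7 F40727) F40726
theorem F48227 : act 7 n30016 = n28178 := d15_2 (iv0 D30015) D30016 F48223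
theorem F48228 : act 4 n28179 = n30016 := d20_6 D3071 (iv1 F10614) (iv4 D6553) D6552 (iv1 F22425) (iv3 F45570) (iv1 D30016) (iv4 D14249) (iv3 D6783) (iv1 D3070)
theorem F48229 : act 2 n29861 = n30016 := d4_3 F48227 F48223 (iv7 F48225)
def n30017 : Q := act 5 n14249
theorem D30017 : act 5 n14249 = n30017 := rfl
theorem F48230 : act 7 n30017 = n29862 := d13_2 (iv7 F23777) D30017 (iv5 D29862)
def n30018 : Q := act 6 n14249
theorem D30018 : act 6 n14249 = n30018 := rfl
theorem F48231 : act 4 n30018 = n14250 := d10_1 D30018 (iv6 D14250) D14249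
def n30019 : Q := act 0 n14250
theorem D30019 : act 0 n14250 = n30019 := rfl
def n30020 : Q := act 1 n14250
theorem D30020 : act 1 n14250 = n30020 := rfl
def n30021 : Q := act 7 n14250
theorem D30021 : act 7 n14250 = n30021 := rfl
theorem F48232 : act 3 n30021 = n14253 := d8_1 D30021 (iv7 D14253) (iv3 F23778)
theorem F48233 : act 5 n30021 = n24594 := d13_1 D30021 (iv7 D24594) (iv5 F23779)
theorem F48234 : act 6 n30021 = n29866 := d14_1 D30021 (iv7 D29866) (iv6 D14187) (iv7 F11038) D14250
def n30022 : Q := act 3 n14251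
theorem D30022 : act 3 n14251 = n30022 := rfl
theorem F48235 : act 5 n30022 = n24692 := d6_2 (iv5 F23780) D30022 (iv3 D24692)
theorem F48236 : act 7 n30022 = n29882 := d8_2 (iv7 F39521) D30022 (iv3 D29882)
def n30023 : Q := act 4 n14251
theorem D30023 : act 4 n14251 = n30023 := rfl
theorem F48237 : act 2 n30023 = n29880 := d1_1 D30023 (iv4 D29880) F39525
theorem F48238 : act 7 n30023 = n29883 := d11_2 (iv7 F39521) D30023 (iv4 D29883)
def n30024 : Q := act 6 n14251
theorem D30024 : act 6 n14251 = n30024 := rfl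
theorem F48239 : act 2 n30024 = n29881 := d3_1 D30024 (iv6 D29881) F39525
theorem F48240 : act 5 n30024 = n29096 := d12_1 D30024 (iv6 F47613) (iv5 F38681) (iv6 D24694) (iv5 F23780)
theorem F48241 : act 7 n30024 = n29872 := d14_2 (iv7 F39521) D30024 (iv6 D29872) F39528 F23770
theorem F48242 : act 0 n30024 = n25944 := d21_4 F10855 D11689 (iv5 F23780) D30024 F41005 D29911 F48043 (iv5 F47441) (iv6 D29566) (iv1 D14042)
theorem F48243 : act 0 n25940 = n30024 := d21_4 (iv5 D7009) D7007 D14677 (iv6 F41003) (iv6 D30024) F23780 (iv1 F19707) (iv5 F23092) (iv6 F23509) (iv1 F23511)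
def n30025 : Q := act 3 n14252
theorem D30025 : act 3 n14252 = n30025 := rfl
theorem F48244 : act 5 n30025 = n24696 := d6_2 F23783 D30025 (iv3 D24696)
theorem F48245 : act 6 n30025 = n29867 := d7_2 (iv6 F23785) D30025 (iv3 D29867)
theorem F48246 : act 7 n30025 = n29879 := d8_2 (iv7 F39524) D30025 (iv3 D29879)
def n30026 : Q := act 4 n14252
theorem D30026 : act 4 n14252 = n30026 := rfl
theorem F48247 : act 2 n30026 = n29883 := d1_1 D30026 (iv4 D29883) (iv2 F39526)
theorem F48248 : act 6 n30026 = n29868 := d10_2 (iv6 F23785) D30026 (iv4 D29868)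
theorem F48249 : act 7 n30026 = n29880 := d11_2 (iv7 F39524) D30026 (iv4 D29880)
def n30027 : Q := act 0 n14254
theorem D30027 : act 0 n14254 = n30027 := rfl
theorem F48250 : act 2 n14258 = n30027 := d15_3 (iv0 D30027) (iv0 D14254) D14258
theorem F48251 : act 3 n30027 = n29884 := d0_2 (iv3 F23794) F48250 (iv2 F48030) F23706 (iv2 F11044)
theorem F48252 : act 7 n30027 = n14256 := d4_2 D14258 F48250 (iv2 D14256)
theorem F48253 : act 1 n14255 = n30027 := d15_1 D14255 F48252 (iv2 D14256)
def n30028 : Q := act 2 n14254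
theorem D30028 : act 2 n14254 = n30028 := rfl
theorem F48254 : act 7 n14255 = n30028 := d15_2 (iv0 D14254) D14255 (iv2 D30028)
def n30029 : Q := act 3 n14254
theorem D30029 : act 3 n14254 = n30029 := rfl
def n30030 : Q := act 4 n14254
theorem D30030 : act 4 n14254 = n30030 := rfl
def n30031 : Q := act 5 n14254
theorem D30031 : act 5 n14254 = n30031 := rfl
def n30032 : Q := act 6 n14254
theorem D30032 : act 6 n14254 = n30032 := rfl
def n30033 : Q := act 7 n14254
theorem D30033 : act 7 n14254 = n30033 := rfl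
theorem F48255 : act 2 n30033 = n14255 := d4_1 D30033 F48254 (iv2 D30028)
def n30034 : Q := act 3 n14255
theorem D30034 : act 3 n14255 = n30034 := rfl
def n30035 : Q := act 4 n14255
theorem D30035 : act 4 n14255 = n30035 := rfl
def n30036 : Q := act 5 n14255
theorem D30036 : act 5 n14255 = n30036 := rfl
def n30037 : Q := act 6 n14255
theorem D30037 : act 6 n14255 = n30037 := rfl
def n30038 : Q := act 0 n14256
theorem D30038 : act 0 n14256 = n30038 := rfl
theorem F48256 : act 1 n14258 = n30038 := d15_0 (iv0 D30038) (iv7 F48252) (iv2 F48250)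
def n30039 : Q := act 1 n14256
theorem D30039 : act 1 n14256 = n30039 := rfl
theorem F48257 : act 1 n30039 = n14258 := d15_1 D30039 (iv7 D14258) D14256
def n30040 : Q := act 5 n14256
theorem D30040 : act 5 n14256 = n30040 := rfl
theorem F48258 : act 2 n30040 = n14257 := d2_1 D30040 (iv5 D14257) D14256
theorem F48259 : act 3 n30040 = n29897 := d6_1 D30040 (iv5 D29897) (iv3 F23791)
def n30041 : Q := act 0 n14257
theorem D30041 : act 0 n14257 = n30041 := rfl
def n30042 : Q := act 1 n14257
theorem D30042 : act 1 n14257 = n30042 := rfl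
def n30043 : Q := act 4 n14257
theorem D30043 : act 4 n14257 = n30043 := rfl
def n30044 : Q := act 6 n14257
theorem D30044 : act 6 n14257 = n30044 := rfl
theorem F48260 : act 3 n30044 = n14259 := d7_1 D30044 (iv6 D14259) (iv3 F23793)
theorem F48261 : act 5 n30044 = n29901 := d12_1 D30044 (iv6 D29901) (iv5 D14199) (iv6 F11042) D14257
def n30045 : Q := act 6 n14258
theorem D30045 : act 6 n14258 = n30045 := rfl
theorem F48262 : act 3 n30045 = n14260 := d7_1 D30045 (iv6 D14260) (iv3 F23794)
theorem F48263 : act 7 n30045 = n29902 := d14_2 D14258 D30045 (iv6 D29902) (iv7 D14200) (iv6 F11042)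
def n30046 : Q := act 0 n14259
theorem D30046 : act 0 n14259 = n30046 := rfl
def n30047 : Q := act 1 n14259
theorem D30047 : act 1 n14259 = n30047 := rfl
theorem F48264 : act 1 n30047 = n29905 := d15_1 D30047 (iv7 D29905) (iv2 F23795)
def n30048 : Q := act 7 n14259
theorem D30048 : act 7 n14259 = n30048 := rfl
theorem F48265 : act 2 n30048 = n29905 := d4_1 D30048 (iv7 D29905) (iv2 F23795)
theorem F48266 : act 5 n30048 = n29905 := d13_1 D30048 (iv7 D29905) (iv5 F23796)
theorem F48267 : act 1 n29905 = n30046 := d15_0 (iv0 D30046) D30048 F48265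
theorem F48268 : act 1 n29904 = n30048 := d15_1 D29904 (iv7 D30048) F23795
theorem F48269 : act 1 n30048 = n29903 := d15_0 (iv0 D29903) D29905 (iv2 F48265)
def n30049 : Q := act 0 n14260
theorem D30049 : act 0 n14260 = n30049 := rfl
theorem F48270 : act 1 n14260 = n30049 := d15_0 (iv0 D30049) F23799 (iv2 F23797)
def n30050 : Q := act 5 n14260
theorem D30050 : act 5 n14260 = n30050 := rfl
theorem F48271 : act 2 n30050 = n29907 := d2_1 D30050 (iv5 D29907) (iv2 F23797)
theorem F48272 : act 7 n30050 = n29907 := d13_2 (iv7 F23799) D30050 (iv5 D29907)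
def n30051 : Q := act 2 n14261
theorem D30051 : act 2 n14261 = n30051 := rfl
def n30052 : Q := act 3 n14261
theorem D30052 : act 3 n14261 = n30052 := rfl
def n30053 : Q := act 4 n14261
theorem D30053 : act 4 n14261 = n30053 := rfl
def n30054 : Q := act 5 n14261
theorem D30054 : act 5 n14261 = n30054 := rfl
theorem F48274 : act 6 n30054 = n29549 := d12_2 F24364 D30054 F47401 (iv6 D14683) D14682
theorem F48275 : act 0 n30054 = n29566 := d21_1 D30054 F47441 (iv6 D29055) (iv1 D13824) (iv6 D6573) (iv5 D2931) F4888 (iv5 F4799) D6788 D14261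
theorem F48276 : act 0 n29566 = n30054 := d21_10 (iv5 D30054) (iv1 F23800) F11049 (iv6 D6788) (iv1 F4801) D6753 F10996 D11911 F23429 D29566
def n30055 : Q := act 0 n14262
theorem D30055 : act 0 n14262 = n30055 := rfl
theorem F48277 : act 5 n30055 = n24118 := d17_3 D6789 D14262 D30055 F37795 F23860 (iv0 D14032) (iv5 D6671) (iv0 F22501) (iv4 F4804)
theorem F48278 : act 4 n30055 = n28809 := d18_1 D30055 (iv1 F46446) (iv4 D28200) (iv5 D13462) F22504 F4809 (iv4 F11058) F11062 D14262
theorem F48279 : act 2 n29534 = n30055 := d15_3 (iv0 D30055) F46712 (iv7 F47365)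
theorem F48280 : act 1 n14264 = n30055 := d15_0 (iv0 D30055) F23802 (iv2 F23806)
theorem F48281 : act 7 n30055 = n29958 := d15_2 (iv0 F46711) F48280 (iv2 F48159)
theorem F48282 : act 3 n24122 = n30055 := d8_3 F48281 F48158 F47932
def n30056 : Q := act 4 n14262
theorem D30056 : act 4 n14262 = n30056 := rfl
theorem F48283 : act 7 n30056 = n29959 := d11_2 (iv7 F23802) D30056 (iv4 D29959)
theorem F48284 : act 1 n30056 = n29406 := d18_6 F19538 (iv4 F10442) D13452 F22510 D14262 D30056 (iv4 D29406) (iv0 D13985) (iv5 D6651)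
theorem F48285 : act 1 n29407 = n30056 := d15_0 F48284 F47121 (iv2 F47122)
def n30057 : Q := act 6 n14262
theorem D30057 : act 6 n14262 = n30057 := rfl
theorem F48286 : act 3 n30057 = n25014 := d7_1 D30057 F39248 (iv3 F23801)
theorem F48287 : act 5 n30057 = n25008 := d12_1 D30057 (iv6 D25008) F23804 (iv6 D14263) D14262
def n30058 : Q := act 4 n14264
theorem D30058 : act 4 n14264 = n30058 := rfl
theorem F48288 : act 2 n30058 = n29959 := d1_1 D30058 (iv4 D29959) (iv2 F23806)
theorem F48289 : act 1 n30058 = n29407 := d18_6 (iv1 F10453) (iv4 F22414) (iv1 F22416) (iv4 F22515) D14264 D30058 (iv4 D29407) F23310 (iv5 D13455)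
theorem F48290 : act 1 n29406 = n30058 := d15_0 F48289 F47123 (iv2 F47120)
def n30059 : Q := act 6 n14264
theorem D30059 : act 6 n14264 = n30059 := rfl
theorem F48291 : act 2 n30059 = n29960 := d3_1 D30059 (iv6 D29960) (iv2 F23806)
theorem F48292 : act 3 n30059 = n24057 := d7_1 D30059 (iv6 D24057) (iv3 F23807)
def n30060 : Q := act 5 n14266
theorem D30060 : act 5 n14266 = n30060 := rfl
theorem F48293 : act 3 n30060 = n24942 := d6_1 D30060 F39100 F36886
theorem F48294 : act 7 n30060 = n24953 := d13_2 (iv7 F36885) D30060 F39137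
theorem F48295 : act 1 n30060 = n16501 := d17_8 (iv1 F23857) F19593 F22526 F11065 (iv4 F11058) (iv5 F23826) F23829 D30060 F26093
theorem F48296 : act 6 n30060 = n24989 := d21_3 D6791 D14266 D30060 (iv1 F39213) (iv6 D16495) D16494 F47505 F47503 (iv6 D14265) (iv1 D6790)
def n30061 : Q := act 6 n14266
theorem D30061 : act 6 n14266 = n30061 := rfl
theorem F48297 : act 3 n30061 = n29924 := d7_1 D30061 (iv6 D29924) F36886
def n30062 : Q := act 6 n14267
theorem D30062 : act 6 n14267 = n30062 := rfl
theorem F48298 : act 2 n30062 = n29977 := d3_1 D30062 (iv6 D29977) F36884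
theorem F48299 : act 3 n30062 = n24091 := d7_1 D30062 (iv6 D24091) (iv3 F36882)
def n30063 : Q := act 3 n14268
theorem D30063 : act 3 n14268 = n30063 := rfl
theorem F48300 : act 4 n30063 = n14283 := d5_2 D14268 D30063 (iv3 D14283) (iv4 D6809) (iv3 F11051)
theorem F48301 : act 0 n30063 = n28812 := d19_4 (iv1 D6790) D6791 D14268 D30063 (iv5 D28812) (iv4 D13735) F10604 D6540 F10605 F5497 (iv3 F5496) (iv1 F10394) F10393 F26383 F18394 (iv1 F18392) (iv5 D5212) D5211 (iv3 F22514)
theorem F48302 : act 5 n14268 = n30063 := d17_1 F45625 F48301 (iv5 D28812) (iv4 D13735) (iv5 D6539) (iv0 F19473) D6404 D13465 D28202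
theorem F48303 : act 5 n14283 = n14285 := d16_3 D14268 F48302 F48300 F23838 F11065 (iv4 F11058) (iv5 F23826) (iv7 D14275) F11056
theorem F48304 : act 3 n14285 = n14284 := d6_1 F48303 (iv5 D14284) D14283
theorem F48305 : act 7 n14284 = n14283 := d13_0 F48303 (iv7 D14285) D14284
def n30064 : Q := act 6 n14269
theorem D30064 : act 6 n14269 = n30064 := rfl
theorem F48306 : act 3 n30064 = n14286 := d7_1 D30064 (iv6 D14286) (iv3 F23813)
theorem F48307 : act 5 n30064 = n30064 := d12_1 D30064 (iv6 D30064) F23814 F11054 (iv5 F23814)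
def n30065 : Q := act 4 n14270
theorem D30065 : act 4 n14270 = n30065 := rfl
theorem F48308 : act 2 n30065 = n30056 := d1_1 D30065 (iv4 D30056) (iv2 F23815)
theorem F48309 : act 7 n30065 = n30058 := d11_2 (iv7 F23817) D30065 (iv4 D30058)
theorem F48310 : act 1 n30065 = n28807 := d18_6 (iv1 D6403) (iv4 F10446) F19478 (iv4 F22496) D14270 D30065 (iv4 D28807) F22979 (iv5 D13462)
theorem F48311 : act 0 n30065 = n28804 := d20_1 D30065 (iv4 D28804) F46386 (iv1 D28754) F22961 D13716 (iv1 F46381) F47935 (iv3 F48158) (iv1 F48160)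
def n30066 : Q := act 6 n14270
theorem D30066 : act 6 n14270 = n30066 := rfl
theorem F48312 : act 2 n30066 = n30057 := d3_1 D30066 (iv6 D30057) (iv2 F23815)
theorem F48313 : act 3 n30066 = n24002 := d7_1 D30066 (iv6 D24002) (iv3 F23816)
theorem F48314 : act 5 n30066 = n25416 := d12_1 D30066 (iv6 D25416) F23820 (iv6 D14271) D14270
def n30067 : Q := act 5 n14272
theorem D30067 : act 5 n14272 = n30067 := rfl
theorem F48315 : act 2 n30067 = n30060 := d2_1 D30067 (iv5 D30060) (iv2 F36903)
theorem F48316 : act 3 n30067 = n23717 := d6_1 D30067 F36897 F36902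
theorem F48317 : act 7 n30067 = n23713 := d13_2 (iv7 F36904) D30067 F36881
theorem F48318 : act 1 n30067 = n24118 := d17_8 (iv1 F23836) (iv5 D14279) (iv1 F11078) F11075 (iv4 F11053) (iv5 F23814) F23827 D30067 F37795
theorem F48319 : act 0 n30067 = n25057 := d18_0 (iv4 D25057) (iv1 D11902) F10108 (iv5 F10808) D14008 D29457 (iv4 F47230) F23827 D30067
theorem F48320 : act 6 n30067 = n24212 := d21_3 D6795 D14272 D30067 F37945 F24104 D16493 F48167 (iv5 D29961) (iv6 D14228) F22508
def n30068 : Q := act 6 n14272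
theorem D30068 : act 6 n14272 = n30068 := rfl
theorem F48321 : act 2 n30068 = n30061 := d3_1 D30068 (iv6 D30061) (iv2 F36903)
theorem F48322 : act 3 n30068 = n24079 := d7_1 D30068 (iv6 D24079) F36902
def n30069 : Q := act 3 n14274
theorem D30069 : act 3 n14274 = n30069 := rfl
def n30070 : Q := act 5 n14274
theorem D30070 : act 5 n14274 = n30070 := rfl
theorem F48323 : act 2 n30070 = n30063 := d2_1 D30070 (iv5 F48302) (iv2 F23823)
theorem F48324 : act 1 n30070 = n29412 := d17_6 (iv1 F47369) (iv5 D14227) F22508 D6795 D14274 D30070 (iv5 D29412) D29410 (iv4 F47366)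
def n30071 : Q := act 6 n14275
theorem D30071 : act 6 n14275 = n30071 := rfl
theorem F48325 : act 2 n30071 = n30064 := d3_1 D30071 (iv6 D30064) (iv2 F23825)
theorem F48326 : act 5 n30071 = n30071 := d12_1 D30071 (iv6 D30071) F23826 F11059 (iv5 F23826)
def n30072 : Q := act 3 n14276
theorem D30072 : act 3 n14276 = n30072 := rfl
def n30073 : Q := act 5 n14276
theorem D30073 : act 5 n14276 = n30073 := rfl
theorem F48327 : act 2 n30073 = n29542 := d2_1 D30073 (iv5 D29542) (iv2 F23830)
theorem F48328 : act 4 n30073 = n29412 := d16_2 D14276 D30073 (iv5 D29412) (iv4 D13987) (iv5 D6651) F10105 D6584 (iv7 F10843) (iv2 F22538)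
def n30074 : Q := act 6 n14276
theorem D30074 : act 6 n14276 = n30074 := rfl
theorem F48329 : act 2 n30074 = n29543 := d3_1 D30074 (iv6 D29543) (iv2 F23830)
theorem F48330 : act 4 n30074 = n14277 := d10_1 D30074 (iv6 D14277) D14276
def n30075 : Q := act 0 n14277
theorem D30075 : act 0 n14277 = n30075 := rfl
theorem F48331 : act 5 n30075 = n24593 := d21_0 (iv1 D24593) (iv5 F23779) (iv6 D14250) F11039 F8920 (iv5 D3077) D3075 D6800 D14277 D30075
def n30076 : Q := act 1 n14277
theorem D30076 : act 1 n14277 = n30076 := rfl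
theorem F48332 : act 1 n30076 = n29546 := d15_1 D30076 (iv7 D29546) (iv2 F23831)
theorem F48333 : act 5 n24592 = n30076 := d21_0 (iv1 D30076) (iv5 F38671) (iv6 D24674) (iv1 F22452) F11875 (iv5 D6845) F10163 D5402 D11631 D24592
theorem F48334 : act 6 n25053 = n24592 := d21_5 (iv5 D7650) (iv1 F22449) D5580 D11900 D25053 F48333 (iv1 D30076) (iv5 F38671) (iv6 D24674) (iv1 F22452)
def n30077 : Q := act 7 n14277
theorem D30077 : act 7 n14277 = n30077 := rfl
theorem F48335 : act 2 n30077 = n29546 := d4_1 D30077 (iv7 D29546) (iv2 F23831)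
theorem F48336 : act 1 n29546 = n30075 := d15_0 (iv0 D30075) D30077 F48335
theorem F48337 : act 1 n29545 = n30077 := d15_1 D29545 (iv7 D30077) F23831
theorem F48338 : act 1 n30077 = n29544 := d15_0 (iv0 D29544) D29546 (iv2 F48335)
def n30078 : Q := act 3 n14278
theorem D30078 : act 3 n14278 = n30078 := rfl
def n30079 : Q := act 5 n14278
theorem D30079 : act 5 n14278 = n30079 := rfl
theorem F48339 : act 2 n30079 = n30004 := d2_1 D30079 (iv5 D30004) (iv2 F23832)
theorem F48340 : act 4 n30079 = n29459 := d16_2 D14278 D30079 (iv5 D29459) (iv4 D14008) F10808 (iv4 F10108) (iv5 F10995) (iv7 F11035) F22542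
def n30080 : Q := act 6 n14278
theorem D30080 : act 6 n14278 = n30080 := rfl
theorem F48341 : act 2 n30080 = n30005 := d3_1 D30080 (iv6 D30005) (iv2 F23832)
theorem F48342 : act 4 n30080 = n14280 := d10_1 D30080 (iv6 D14280) D14278
def n30081 : Q := act 0 n14280
theorem D30081 : act 0 n14280 = n30081 := rfl
def n30082 : Q := act 1 n14280
theorem D30082 : act 1 n14280 = n30082 := rfl
theorem F48343 : act 1 n30082 = n30008 := d15_1 D30082 (iv7 D30008) (iv2 F23837)
def n30083 : Q := act 5 n14280
theorem D30083 : act 5 n14280 = n30083 := rfl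
theorem F48344 : act 2 n30083 = n14382 := d2_1 D30083 F24026 (iv2 F23837)
theorem F48345 : act 6 n30083 = n14310 := d12_2 D14280 D30083 (iv5 F24090) F24091 (iv5 D14279)
theorem F48346 : act 0 n30083 = n14348 := d21_7 (iv5 D6689) F10344 D5796 F8920 D6807 D14280 D30083 (iv5 F47574) (iv6 D29620) (iv1 D14069)
def n30084 : Q := act 7 n14280
theorem D30084 : act 7 n14280 = n30084 := rfl
theorem F48347 : act 2 n30084 = n30008 := d4_1 D30084 (iv7 D30008) (iv2 F23837)
theorem F48348 : act 1 n30008 = n30081 := d15_0 (iv0 D30081) D30084 F48347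
theorem F48349 : act 1 n30007 = n30084 := d15_1 D30007 (iv7 D30084) F23837
theorem F48350 : act 1 n30084 = n30006 := d15_0 (iv0 D30006) D30008 (iv2 F48347)
def n30085 : Q := act 3 n14281
theorem D30085 : act 3 n14281 = n30085 := rfl
def n30086 : Q := act 5 n14281
theorem D30086 : act 5 n14281 = n30086 := rfl
def n30087 : Q := act 6 n14281
theorem D30087 : act 6 n14281 = n30087 := rfl
def n30088 : Q := act 3 n14282
theorem D30088 : act 3 n14282 = n30088 := rfl
def n30089 : Q := act 5 n14282
theorem D30089 : act 5 n14282 = n30089 := rfl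
def n30090 : Q := act 6 n14282
theorem D30090 : act 6 n14282 = n30090 := rfl
def n30091 : Q := act 0 n14283
theorem D30091 : act 0 n14283 = n30091 := rfl
theorem F48351 : act 5 n30091 = n29319 := d17_3 (iv1 F23886) (iv5 F48303) D30091 (iv4 D29319) (iv5 D13950) F22416 (iv5 F45617) F45619 F45581
theorem F48352 : act 1 n14301 = n30091 := d15_0 (iv0 D30091) (iv7 F48305) (iv2 F23883)
def n30092 : Q := act 1 n14283
theorem D30092 : act 1 n14283 = n30092 := rfl
def n30093 : Q := act 2 n14283
theorem D30093 : act 2 n14283 = n30093 := rfl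
theorem F48353 : act 4 n30093 = n30070 := d1_2 F48300 D30093 F48323
theorem F48354 : act 5 n30093 = n14302 := d2_2 (iv5 F48303) D30093 F23884
theorem F48355 : act 7 n30093 = n14301 := d4_2 F48305 D30093 F23883
theorem F48356 : act 1 n30092 = n14301 := d15_1 D30092 (iv7 F48355) (iv2 D30093)
def n30094 : Q := act 0 n14284
theorem D30094 : act 0 n14284 = n30094 := rfl
theorem F48357 : act 1 n30093 = n30094 := d15_0 (iv0 D30094) F48305 D30093
def n30095 : Q := act 1 n14284
theorem D30095 : act 1 n14284 = n30095 := rfl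
theorem F48358 : act 1 n30095 = n30093 := d15_1 D30095 F48355 F23883
def n30096 : Q := act 4 n14284
theorem D30096 : act 4 n14284 = n30096 := rfl
theorem F48359 : act 3 n30096 = n29457 := d5_1 D30096 (iv4 F47230) F23813 (iv4 F23838) F48304
theorem F48360 : act 5 n30096 = n29457 := d9_2 D14284 D30096 (iv4 F47230) F23814 F11053 (iv5 F11075) (iv4 F23885) (iv5 F48354) F48353 (iv5 D30070) (iv4 D14274) (iv5 D6795) F4806 D3077 D6809
theorem F48361 : act 7 n30096 = n30063 := d11_2 (iv7 F48305) D30096 F48300
theorem F48362 : act 1 n29412 = n30096 := d15_1 F48324 F48361 (iv2 F48323)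
def n30097 : Q := act 6 n14284
theorem D30097 : act 6 n14284 = n30097 := rfl
def n30098 : Q := act 6 n14285
theorem D30098 : act 6 n14285 = n30098 := rfl
theorem F48363 : act 3 n30098 = n30097 := d7_1 D30098 (iv6 D30097) (iv3 F48304)
theorem F48364 : act 4 n30098 = n14286 := d10_1 D30098 (iv6 D14286) (iv4 F23838)
def n30099 : Q := act 0 n14286
theorem D30099 : act 0 n14286 = n30099 := rfl
theorem F48365 : act 1 n25785 = n30099 := d15_0 (iv0 D30099) (iv7 F40720) (iv2 F40742)
def n30100 : Q := act 1 n14286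
theorem D30100 : act 1 n14286 = n30100 := rfl
def n30101 : Q := act 6 n14287
theorem D30101 : act 6 n14287 = n30101 := rfl
theorem F48367 : act 2 n30101 = n29826 := d3_1 D30101 (iv6 D29826) F23844
theorem F48368 : act 4 n30101 = n28787 := d10_1 D30101 (iv6 D28787) F40733
theorem F48369 : act 5 n30101 = n29600 := d12_1 D30101 (iv6 F47524) (iv5 F40146) (iv6 F45209) F45208
def n30102 : Q := act 6 n14288
theorem D30102 : act 6 n14288 = n30102 := rfl
theorem F48370 : act 3 n30102 = n24497 := d7_1 D30102 F38453 (iv3 F23841)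
theorem F48371 : act 4 n30102 = n28790 := d10_1 D30102 (iv6 D28790) (iv4 F23843)
theorem F48372 : act 5 n30102 = n24476 := d12_1 D30102 (iv6 D24476) (iv5 D11572) D11573 F23840
def n30103 : Q := act 3 n14289
theorem D30103 : act 3 n14289 = n30103 := rfl
theorem F48373 : act 4 n30103 = n14300 := d5_2 D14289 D30103 (iv3 D14300) (iv4 D6827) (iv3 F11066)
theorem F48374 : act 6 n30103 = n24081 := d7_2 (iv6 F23845) D30103 (iv3 D24081)
def n30104 : Q := act 5 n14289
theorem D30104 : act 5 n14289 = n30104 := rfl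
def n30105 : Q := act 6 n14290
theorem D30105 : act 6 n14290 = n30105 := rfl
theorem F48375 : act 3 n30105 = n14303 := d7_1 D30105 (iv6 D14303) (iv3 F23846)
theorem F48376 : act 5 n30105 = n30105 := d12_1 D30105 (iv6 D30105) F23847 F11069 (iv5 F23847)
theorem F48377 : act 7 n30105 = n24084 := d14_2 D14290 D30105 (iv6 D24084) (iv7 D11306) (iv6 F11067)
def n30106 : Q := act 3 n14291
theorem D30106 : act 3 n14291 = n30106 := rfl
theorem F48378 : act 7 n30106 = n30072 := d8_2 (iv7 F23849) D30106 (iv3 D30072)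
def n30107 : Q := act 5 n14291
theorem D30107 : act 5 n14291 = n30107 := rfl
theorem F48379 : act 2 n30107 = n29080 := d2_1 D30107 (iv5 D29080) (iv2 F23848)
theorem F48380 : act 7 n30107 = n30073 := d13_2 (iv7 F23849) D30107 (iv5 D30073)
theorem F48381 : act 4 n30107 = n28812 := d16_2 D14291 D30107 (iv5 D28812) (iv4 D13735) (iv5 D6539) (iv4 F10106) D6671 F10843 F22536
def n30108 : Q := act 6 n14291
theorem D30108 : act 6 n14291 = n30108 := rfl
theorem F48382 : act 2 n30108 = n29081 := d3_1 D30108 (iv6 D29081) (iv2 F23848)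
theorem F48383 : act 4 n30108 = n14292 := d10_1 D30108 (iv6 D14292) D14291
def n30109 : Q := act 0 n14292
theorem D30109 : act 0 n14292 = n30109 := rfl
def n30110 : Q := act 5 n14292
theorem D30110 : act 5 n14292 = n30110 := rfl
theorem F48384 : act 2 n30110 = n29083 := d2_1 D30110 (iv5 D29083) (iv2 F23850)
theorem F48385 : act 6 n30110 = n14294 := d12_2 D14292 D30110 (iv5 D14294) (iv6 D6824) D6823
def n30111 : Q := act 7 n14292
theorem D30111 : act 7 n14292 = n30111 := rfl
theorem F48386 : act 2 n30111 = n29084 := d4_1 D30111 (iv7 D29084) (iv2 F23850)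
theorem F48387 : act 6 n30111 = n30077 := d14_1 D30111 (iv7 D30077) (iv6 D14277) (iv7 F22524) D14292
theorem F48388 : act 1 n29084 = n30109 := d15_0 (iv0 D30109) D30111 F48386
theorem F48389 : act 1 n29024 = n30111 := d15_1 (iv0 F46669) (iv7 D30111) F23850
theorem F48390 : act 7 n30109 = n29024 := d15_2 F46727 F48388 F46666
theorem F48391 : act 2 n30109 = n29082 := d15_3 (iv0 D29082) (iv0 F46669) (iv7 F48390)
theorem F48392 : act 7 n29082 = n25829 := d4_2 (iv7 F48390) F48391 (iv2 F46666)
theorem F48393 : act 5 n25830 = n29082 := d13_3 F48392 (iv5 D25829) D25830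
theorem F48394 : act 1 n30111 = n29082 := d15_1 F48389 F48392 (iv2 F46666)
def n30112 : Q := act 4 n14294
theorem D30112 : act 4 n14294 = n30112 := rfl
theorem F48395 : act 2 n30112 = n29085 := d1_1 D30112 (iv4 D29085) (iv2 F23871)
def n30113 : Q := act 7 n14294
theorem D30113 : act 7 n14294 = n30113 := rfl
theorem F48396 : act 2 n30113 = n14392 := d4_1 D30113 F24032 (iv2 F23871)
theorem F48397 : act 3 n30113 = n29367 := d8_1 D30113 F47037 (iv3 F23964)
theorem F48398 : act 5 n30113 = n14295 := d13_1 D30113 (iv7 D14295) D14294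
theorem F48399 : act 1 n16488 = n30113 := d15_1 (iv0 F26060) (iv7 D30113) F23871
theorem F48400 : act 1 n30113 = n16489 := d15_1 F48399 F26062 (iv2 F26056)
theorem F48401 : act 6 n25818 = n30113 := d12_0 F48398 F23875 F22361 D25109 F40801
def n30114 : Q := act 3 n14296
theorem D30114 : act 3 n14296 = n30114 := rfl
theorem F48402 : act 7 n30114 = n30078 := d8_2 (iv7 F23879) D30114 (iv3 D30078)
def n30115 : Q := act 5 n14296
theorem D30115 : act 5 n14296 = n30115 := rfl
theorem F48403 : act 2 n30115 = n29874 := d2_1 D30115 (iv5 D29874) (iv2 F23878)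
theorem F48404 : act 7 n30115 = n30079 := d13_2 (iv7 F23879) D30115 (iv5 D30079)
theorem F48405 : act 4 n30115 = n28886 := d16_2 D14296 D30115 (iv5 D28886) (iv4 D13767) (iv5 F19744) F19743 F19593 F11035 F22530
def n30116 : Q := act 6 n14296
theorem D30116 : act 6 n14296 = n30116 := rfl
theorem F48406 : act 2 n30116 = n29875 := d3_1 D30116 (iv6 D29875) (iv2 F23878)
theorem F48407 : act 4 n30116 = n14297 := d10_1 D30116 (iv6 D14297) D14296
def n30117 : Q := act 0 n14297
theorem D30117 : act 0 n14297 = n30117 := rfl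
def n30118 : Q := act 1 n14297
theorem D30118 : act 1 n14297 = n30118 := rfl
theorem F48408 : act 1 n30118 = n29878 := d15_1 D30118 (iv7 D29878) (iv2 F23880)
def n30119 : Q := act 7 n14297
theorem D30119 : act 7 n14297 = n30119 := rfl
theorem F48409 : act 2 n30119 = n29878 := d4_1 D30119 (iv7 D29878) (iv2 F23880)
theorem F48410 : act 6 n30119 = n30084 := d14_1 D30119 (iv7 D30084) (iv6 D14280) F22541 D14297
theorem F48411 : act 1 n29878 = n30117 := d15_0 (iv0 D30117) D30119 F48409
theorem F48412 : act 1 n29877 = n30119 := d15_1 D29877 (iv7 D30119) F23880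
theorem F48413 : act 1 n30119 = n29876 := d15_0 (iv0 D29876) D29878 (iv2 F48409)
def n30120 : Q := act 3 n14298
theorem D30120 : act 3 n14298 = n30120 := rfl
theorem F48414 : act 4 n30120 = n29842 := d5_2 F45581 D30120 (iv3 D29842) F46993 (iv3 F45583)
theorem F48415 : act 7 n30120 = n30088 := d8_2 F37583 D30120 (iv3 D30088)
def n30121 : Q := act 5 n14298
theorem D30121 : act 5 n14298 = n30121 := rfl
theorem F48416 : act 2 n30121 = n30086 := d2_1 D30121 (iv5 D30086) F37581
theorem F48417 : act 7 n30121 = n30089 := d13_2 F37583 D30121 (iv5 D30089)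
def n30122 : Q := act 6 n14298
theorem D30122 : act 6 n14298 = n30122 := rfl
theorem F48418 : act 2 n30122 = n30087 := d3_1 D30122 (iv6 D30087) F37581
def n30123 : Q := act 3 n14299
theorem D30123 : act 3 n14299 = n30123 := rfl
theorem F48419 : act 4 n30123 = n29339 := d5_2 (iv4 F23882) D30123 (iv3 D29339) (iv4 D13959) D13958
theorem F48420 : act 7 n30123 = n30085 := d8_2 (iv7 F37579) D30123 (iv3 D30085)
def n30124 : Q := act 5 n14299
theorem D30124 : act 5 n14299 = n30124 := rfl
theorem F48421 : act 2 n30124 = n30089 := d2_1 D30124 (iv5 D30089) (iv2 F37582)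
theorem F48422 : act 7 n30124 = n30086 := d13_2 (iv7 F37579) D30124 (iv5 D30086)
def n30125 : Q := act 6 n14299
theorem D30125 : act 6 n14299 = n30125 := rfl
theorem F48423 : act 2 n30125 = n30090 := d3_1 D30125 (iv6 D30090) (iv2 F37582)
theorem F48424 : act 4 n30125 = n29338 := d10_1 D30125 (iv6 D29338) (iv4 F23882)
def n30126 : Q := act 0 n14300
theorem D30126 : act 0 n14300 = n30126 := rfl
def n30127 : Q := act 1 n14300
theorem D30127 : act 1 n14300 = n30127 := rfl
def n30128 : Q := act 2 n14300
theorem D30128 : act 2 n14300 = n30128 := rfl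
theorem F48425 : act 3 n30128 = n30093 := d0_2 D14300 D30128 (iv2 D30093) (iv3 D14283) (iv2 F11073)
def n30129 : Q := act 5 n14300
theorem D30129 : act 5 n14300 = n30129 := rfl
theorem F48426 : act 3 n30129 = n14301 := d6_1 D30129 (iv5 D14301) D14300
theorem F48427 : act 7 n30128 = n30129 := d8_0 F48426 (iv7 F48355) (iv3 F48425)
theorem F48428 : act 1 n30127 = n30129 := d15_1 D30127 (iv7 F48427) (iv2 D30128)
def n30130 : Q := act 7 n14300
theorem D30130 : act 7 n14300 = n30130 := rfl
theorem F48429 : act 2 n30130 = n30129 := d4_1 D30130 (iv7 F48427) (iv2 D30128)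
theorem F48430 : act 3 n30130 = n14302 := d8_1 D30130 (iv7 D14302) D14300
theorem F48431 : act 5 n30130 = n30128 := d13_1 D30130 F48427 (iv5 D30129)
theorem F48432 : act 1 n30129 = n30126 := d15_0 (iv0 D30126) D30130 F48429
def n30131 : Q := act 4 n14301
theorem D30131 : act 4 n14301 = n30131 := rfl
theorem F48433 : act 2 n30131 = n30096 := d1_1 D30131 (iv4 D30096) (iv2 F23883)
theorem F48434 : act 5 n30131 = n28884 := d9_2 D14301 D30131 F46526 F23826 F11058 (iv5 F11065) (iv4 F23838) (iv5 F48303) (iv4 F48300) (iv5 F48302) (iv4 D14268) (iv5 D6791) F4804 D3082 D6827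
theorem F48435 : act 7 n30131 = n30070 := d11_2 F48355 D30131 (iv4 F48353)
theorem F48436 : act 0 n28812 = n30131 := d17_2 (iv1 D28810) D28812 F48434 F46526 F23826 F11062 D14262 F46712 F46710
def n30132 : Q := act 6 n14301
theorem D30132 : act 6 n14301 = n30132 := rfl
theorem F48437 : act 2 n30132 = n30097 := d3_1 D30132 (iv6 D30097) (iv2 F23883)
def n30133 : Q := act 6 n14302
theorem D30133 : act 6 n14302 = n30133 := rfl
theorem F48438 : act 2 n30133 = n30098 := d3_1 D30133 (iv6 D30098) (iv2 F23884)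
theorem F48439 : act 4 n30133 = n14303 := d10_1 D30133 (iv6 D14303) (iv4 F23885)
def n30134 : Q := act 0 n14303
theorem D30134 : act 0 n14303 = n30134 := rfl
theorem F48440 : act 1 n25775 = n30134 := d15_0 (iv0 D30134) (iv7 F40745) F40742
def n30135 : Q := act 1 n14303
theorem D30135 : act 1 n14303 = n30135 := rfl
theorem F48441 : act 1 n30135 = n25775 := d15_1 D30135 F40720 (iv2 F23889)
def n30136 : Q := act 4 n14304
theorem D30136 : act 4 n14304 = n30136 := rfl
theorem F48442 : act 2 n30136 = n14347 := d1_1 D30136 (iv4 D14347) (iv2 F23891)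
theorem F48443 : act 7 n30136 = n14345 := d11_2 (iv7 F23892) D30136 (iv4 D14345)
def n30137 : Q := act 6 n14304
theorem D30137 : act 6 n14304 = n30137 := rfl
theorem F48444 : act 2 n30137 = n14348 := d3_1 D30137 (iv6 D14348) (iv2 F23891)
theorem F48445 : act 5 n30137 = n29022 := d12_1 D30137 (iv6 D29022) F23070 F18975 D14304
theorem F48446 : act 0 n14382 = n30137 := d21_4 D14320 F23933 (iv5 F22559) D14382 (iv6 D30137) (iv5 D14304) (iv1 D6829) D6830 F11084 D6840
def n30138 : Q := act 4 n14305
theorem D30138 : act 4 n14305 = n30138 := rfl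
theorem F48447 : act 2 n30138 = n14350 := d1_1 D30138 (iv4 D14350) F23903
theorem F48448 : act 7 n30138 = n14352 := d11_2 (iv7 F23904) D30138 (iv4 D14352)
theorem F48449 : act 1 n30138 = n27929 := d18_6 F37937 F22963 F24196 (iv4 F37833) F37834 D30138 (iv4 D27929) D27928 (iv5 F45105)
def n30139 : Q := act 6 n14305
theorem D30139 : act 6 n14305 = n30139 := rfl
theorem F48450 : act 2 n30139 = n14351 := d3_1 D30139 (iv6 D14351) F23903
theorem F48451 : act 3 n30139 = n25346 := d7_1 D30139 (iv6 D25346) F23905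
theorem F48452 : act 5 n30139 = n24586 := d12_1 D30139 (iv6 D24586) (iv5 F20327) (iv6 F37835) F37834
def n30140 : Q := act 0 n14306
theorem D30140 : act 0 n14306 = n30140 := rfl
def n30141 : Q := act 1 n14306
theorem D30141 : act 1 n14306 = n30141 := rfl
theorem F48453 : act 1 n30141 = n14358 := d15_1 D30141 (iv7 D14358) (iv2 F23907)
theorem F48454 : act 4 n30141 = n29942 := d18_7 F23750 F23747 (iv1 D12230) F8919 D6830 D14306 D30141 (iv0 F48140) F45113
theorem F48455 : act 2 n14355 = n30141 := d1_3 F48454 F48137 F45108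
theorem F48456 : act 7 n14354 = n30141 := d11_0 F48454 F48139 F46393
theorem F48457 : act 2 n14354 = n30140 := d15_3 (iv0 D30140) D30141 (iv7 F48456)
theorem F48458 : act 4 n30140 = n24347 := d1_2 F46393 F48457 F45109
theorem F48459 : act 7 n30140 = n14355 := d4_2 (iv7 F48456) F48457 F48455
theorem F48460 : act 1 n14358 = n30140 := d15_1 F48453 F48459 F48455
def n30142 : Q := act 3 n14306
theorem D30142 : act 3 n14306 = n30142 := rfl
theorem F48461 : act 6 n30142 = n14328 := d7_2 (iv6 F23908) D30142 (iv3 D14328)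
def n30143 : Q := act 5 n14306
theorem D30143 : act 5 n14306 = n30143 := rfl
theorem F48462 : act 2 n30143 = n14357 := d2_1 D30143 (iv5 D14357) (iv2 F23907)
def n30144 : Q := act 7 n14306
theorem D30144 : act 7 n14306 = n30144 := rfl
theorem F48463 : act 2 n30144 = n14358 := d4_1 D30144 (iv7 D14358) (iv2 F23907)
theorem F48464 : act 4 n30144 = n14307 := d11_1 D30144 (iv7 D14307) D14306
theorem F48465 : act 1 n14355 = n30144 := d15_1 D14355 (iv7 D30144) F23907
theorem F48466 : act 1 n30144 = n14354 := d15_1 F48465 F48456 (iv2 F48455)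
def n30145 : Q := act 6 n14307
theorem D30145 : act 6 n14307 = n30145 := rfl
theorem F48467 : act 2 n30145 = n14359 := d3_1 D30145 (iv6 D14359) (iv2 F23909)
theorem F48468 : act 5 n30145 = n30145 := d12_1 D30145 (iv6 D30145) F23910 F11086 (iv5 F23910)
theorem F48469 : act 7 n30145 = n14331 := d14_2 D14307 D30145 (iv6 D14331) (iv7 D6843) (iv6 F11084)
theorem F48470 : act 1 n14479 = n30145 := d15_1 D14479 F48469 F23943
theorem F48471 : act 1 n30145 = n14478 := d15_0 (iv0 D14478) (iv7 F23974) (iv2 F48467)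
def n30146 : Q := act 4 n14308
theorem D30146 : act 4 n14308 = n30146 := rfl
theorem F48472 : act 7 n30146 = n14399 := d11_2 (iv7 F23914) D30146 (iv4 D14399)
theorem F48473 : act 0 n30146 = n26070 := d18_2 (iv1 F40915) D30146 (iv4 D26070) F20543 (iv4 F22232) (iv0 F37482) F37480 D24115 (iv5 F40911)
theorem F48474 : act 1 n30146 = n26067 := d18_6 F19401 (iv4 F8796) F19402 F11139 D14308 D30146 (iv4 D26067) (iv0 D12358) (iv5 D5882)
def n30147 : Q := act 6 n14308
theorem D30147 : act 6 n14308 = n30147 := rfl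
theorem F48475 : act 3 n30147 = n14312 := d7_1 D30147 (iv6 D14312) (iv3 F23913)
def n30148 : Q := act 4 n14310
theorem D30148 : act 4 n14310 = n30148 := rfl
theorem F48476 : act 2 n30148 = n14381 := d1_1 D30148 (iv4 D14381) F23918
theorem F48477 : act 7 n30148 = n14379 := d11_2 (iv7 F23917) D30148 (iv4 D14379)
def n30149 : Q := act 0 n14311
theorem D30149 : act 0 n14311 = n30149 := rfl
theorem F48478 : act 4 n30149 = n28229 := d18_3 (iv1 D14310) D14311 D30149 F45698 F39205 (iv0 F24106) (iv4 D14452) F24093 F24090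
theorem F48479 : act 1 n14315 = n30149 := d15_0 (iv0 D30149) F23920 (iv2 F23926)
theorem F48480 : act 2 n14383 = n30149 := d1_3 F48478 (iv2 F45699) (iv4 F24582)
theorem F48481 : act 7 n14384 = n30149 := d15_2 (iv0 D14383) D14384 (iv2 F48480)
def n30150 : Q := act 1 n14311
theorem D30150 : act 1 n14311 = n30150 := rfl
theorem F48482 : act 1 n30150 = n14315 := d15_1 D30150 F23927 (iv2 F23919)
theorem F48483 : act 7 n30150 = n14383 := d15_2 (iv0 D30149) D30150 F48480
theorem F48484 : act 4 n30150 = n24200 := d18_7 F18104 F8402 F10348 F5179 D6834 D14311 D30150 F38721 (iv5 D13488)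
theorem F48485 : act 2 n14384 = n30150 := d4_3 F48483 F48480 (iv7 F48481)
def n30151 : Q := act 3 n14311
theorem D30151 : act 3 n14311 = n30151 := rfl
theorem F48486 : act 7 n30151 = n14410 := d8_2 (iv7 F23920) D30151 (iv3 D14410)
def n30152 : Q := act 5 n14311
theorem D30152 : act 5 n14311 = n30152 := rfl
theorem F48487 : act 2 n30152 = n14386 := d2_1 D30152 (iv5 D14386) (iv2 F23919)
theorem F48488 : act 7 n30152 = n14411 := d13_2 (iv7 F23920) D30152 (iv5 D14411)
def n30153 : Q := act 6 n14311
theorem D30153 : act 6 n14311 = n30153 := rfl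
theorem F48489 : act 2 n30153 = n14387 := d3_1 D30153 (iv6 D14387) (iv2 F23919)
theorem F48490 : act 4 n30153 = n14312 := d10_1 D30153 (iv6 D14312) D14311
def n30154 : Q := act 0 n14312
theorem D30154 : act 0 n14312 = n30154 := rfl
theorem F48491 : act 5 n30154 = n25810 := d21_0 (iv1 D25810) D25811 F40796 F20322 F11084 (iv5 D3087) D3085 D6834 D14312 D30154
def n30155 : Q := act 1 n14312
theorem D30155 : act 1 n14312 = n30155 := rfl
theorem F48492 : act 1 n30155 = n14391 := d15_1 D30155 (iv7 D14391) (iv2 F23921)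
theorem F48493 : act 5 n25809 = n30155 := d21_0 (iv1 D30155) (iv5 F26104) (iv6 D16509) (iv1 D7667) F5452 (iv5 D2430) D2428 D5809 D12254 D25809
def n30156 : Q := act 7 n14312
theorem D30156 : act 7 n14312 = n30156 := rfl
theorem F48494 : act 2 n30156 = n14391 := d4_1 D30156 (iv7 D14391) (iv2 F23921)
theorem F48495 : act 6 n30156 = n14416 := d14_1 D30156 (iv7 D14416) (iv6 D6895) (iv7 F11164) D14312
theorem F48496 : act 1 n14391 = n30154 := d15_0 (iv0 D30154) D30156 F48494
theorem F48497 : act 1 n14389 = n30156 := d15_1 D14389 (iv7 D30156) F23921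
theorem F48498 : act 1 n30156 = n14388 := d15_0 (iv0 D14388) D14391 (iv2 F48494)
def n30157 : Q := act 4 n14313
theorem D30157 : act 4 n14313 = n30157 := rfl
theorem F48499 : act 2 n30157 = n14405 := d1_1 D30157 (iv4 D14405) (iv2 F23922)
theorem F48500 : act 7 n30157 = n14374 := d11_2 (iv7 F23923) D30157 (iv4 D14374)
theorem F48501 : act 1 n30157 = n14808 := d18_6 (iv1 F10459) F4409 (iv1 F4817) D6837 D14313 D30157 (iv4 D14808) (iv0 F22435) (iv5 D13468)
def n30158 : Q := act 6 n14313
theorem D30158 : act 6 n14313 = n30158 := rfl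
theorem F48502 : act 2 n30158 = n14406 := d3_1 D30158 (iv6 D14406) (iv2 F23922)
def n30159 : Q := act 3 n14315
theorem D30159 : act 3 n14315 = n30159 := rfl
theorem F48503 : act 7 n30159 = n14385 := d8_2 (iv7 F23927) D30159 (iv3 D14385)
def n30160 : Q := act 5 n14315
theorem D30160 : act 5 n14315 = n30160 := rfl
theorem F48504 : act 2 n30160 = n14411 := d2_1 D30160 (iv5 D14411) (iv2 F23926)
theorem F48505 : act 7 n30160 = n14386 := d13_2 (iv7 F23927) D30160 (iv5 D14386)
def n30161 : Q := act 6 n14315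
theorem D30161 : act 6 n14315 = n30161 := rfl
theorem F48506 : act 2 n30161 = n14412 := d3_1 D30161 (iv6 D14412) (iv2 F23926)
theorem F48507 : act 4 n30161 = n14316 := d10_1 D30161 (iv6 D14316) D14315
def n30162 : Q := act 0 n14316
theorem D30162 : act 0 n14316 = n30162 := rfl
theorem F48508 : act 2 n14638 = n30162 := d15_3 (iv0 D30162) (iv0 F38654) (iv7 F38656)
theorem F48509 : act 7 n30162 = n14414 := d4_2 (iv7 F38656) F48508 (iv2 F38651)
theorem E5064 : n14638 = n14413 := (c15_4 (iv0 D14413) D14414 (iv7 F48509) (iv2 F48508))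
theorem F48510 : act 2 n14413 = n30162 := (sb E5064 F48508)
theorem F48511 : act 3 n14413 = n6992 := (sb E5064 (iv3 D14638))
theorem F48512 : act 5 n14413 = n24655 := (sb E5064 (iv5 F38658))
theorem F48513 : act 7 n14413 = n24654 := (sb E5064 F38656)
theorem F48514 : act 1 n14416 = n30162 := d15_1 F38655 F48509 (iv2 F38651)
def n30163 : Q := act 7 n14316
theorem D30163 : act 7 n14316 = n30163 := rfl
theorem F48515 : act 2 n30163 = n14416 := d4_1 D30163 (iv7 D14416) (iv2 F23928)
theorem F48516 : act 6 n30163 = n14391 := d14_1 D30163 (iv7 D14391) (iv6 D6880) (iv7 F11174) D14316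
theorem F48517 : act 1 n14414 = n30163 := d15_1 D14414 (iv7 D30163) F23928
theorem F48518 : act 1 n30163 = n14413 := d15_1 F48517 F48513 F38651
def n30164 : Q := act 6 n14318
theorem D30164 : act 6 n14318 = n30164 := rfl
theorem F48519 : act 3 n30164 = n14321 := d7_1 D30164 (iv6 D14321) D14318
def n30165 : Q := act 0 n14319
theorem D30165 : act 0 n14319 = n30165 := rfl
theorem F48520 : act 4 n30165 = n28228 := d18_3 D6840 D14319 D30165 (iv5 D28228) F22617 (iv0 D6866) F5179 (iv0 D3085) D3087
theorem F48521 : act 2 n14431 = n30165 := d15_3 (iv0 D30165) (iv0 F38874) F38873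
theorem F48522 : act 1 n14324 = n30165 := d15_0 (iv0 D30165) F26016 (iv2 F26022)
theorem F48523 : act 7 n30165 = n14432 := d15_2 F38875 F48522 (iv2 F38872)
def n30166 : Q := act 3 n14319
theorem D30166 : act 3 n14319 = n30166 := rfl
theorem F48524 : act 7 n30166 = n14449 := d8_2 (iv7 F26016) D30166 (iv3 D14449)
def n30167 : Q := act 5 n14319
theorem D30167 : act 5 n14319 = n30167 := rfl
theorem F48525 : act 2 n30167 = n14434 := d2_1 D30167 (iv5 D14434) (iv2 F26015)
theorem F48526 : act 7 n30167 = n14450 := d13_2 (iv7 F26016) D30167 (iv5 D14450)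
def n30168 : Q := act 6 n14319
theorem D30168 : act 6 n14319 = n30168 := rfl
theorem F48527 : act 2 n30168 = n14435 := d3_1 D30168 (iv6 D14435) (iv2 F26015)
theorem F48528 : act 4 n30168 = n14321 := d10_1 D30168 (iv6 D14321) D14319
def n30169 : Q := act 0 n14321
theorem D30169 : act 0 n14321 = n30169 := rfl
def n30170 : Q := act 1 n14321
theorem D30170 : act 1 n14321 = n30170 := rfl
theorem F48529 : act 1 n30170 = n14444 := d15_1 D30170 (iv7 D14444) (iv2 F26017)
def n30171 : Q := act 7 n14321
theorem D30171 : act 7 n14321 = n30171 := rfl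
theorem F48530 : act 2 n30171 = n14444 := d4_1 D30171 (iv7 D14444) (iv2 F26017)
theorem F48531 : act 6 n30171 = n14456 := d14_1 D30171 (iv7 D14456) (iv6 D6909) F26018 D14321
theorem F48532 : act 1 n14444 = n30169 := d15_0 (iv0 D30169) D30171 F48530
theorem F48533 : act 1 n14442 = n30171 := d15_1 D14442 (iv7 D30171) F26017
theorem F48534 : act 1 n30171 = n14441 := d15_0 (iv0 D14441) D14444 (iv2 F48530)
def n30172 : Q := act 6 n14323
theorem D30172 : act 6 n14323 = n30172 := rfl
theorem F48535 : act 3 n30172 = n14325 := d7_1 D30172 (iv6 D14325) D14323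
theorem F48536 : act 4 n30172 = n28283 := d10_1 D30172 (iv6 D28283) (iv4 F23935)
def n30173 : Q := act 3 n14324
theorem D30173 : act 3 n14324 = n30173 := rfl
theorem F48537 : act 4 n30173 = n28281 := d5_2 D14324 D30173 (iv3 D28281) (iv4 F23935) (iv3 D14323)
theorem F48538 : act 7 n30173 = n14433 := d8_2 (iv7 F26023) D30173 (iv3 D14433)
def n30174 : Q := act 5 n14324
theorem D30174 : act 5 n14324 = n30174 := rfl
theorem F48539 : act 2 n30174 = n14450 := d2_1 D30174 (iv5 D14450) (iv2 F26022)
theorem F48540 : act 7 n30174 = n14434 := d13_2 (iv7 F26023) D30174 (iv5 D14434)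
def n30175 : Q := act 6 n14324
theorem D30175 : act 6 n14324 = n30175 := rfl
theorem F48541 : act 2 n30175 = n14451 := d3_1 D30175 (iv6 D14451) (iv2 F26022)
theorem F48542 : act 4 n30175 = n14325 := d10_1 D30175 (iv6 D14325) D14324
def n30176 : Q := act 0 n14325
theorem D30176 : act 0 n14325 = n30176 := rfl
def n30177 : Q := act 1 n14325
theorem D30177 : act 1 n14325 = n30177 := rfl
theorem F48543 : act 1 n30177 = n14456 := d15_1 D30177 (iv7 D14456) (iv2 F26026)
def n30178 : Q := act 7 n14325
theorem D30178 : act 7 n14325 = n30178 := rfl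
theorem F48544 : act 2 n30178 = n14456 := d4_1 D30178 (iv7 D14456) (iv2 F26026)
theorem F48545 : act 6 n30178 = n14444 := d14_1 D30178 (iv7 D14444) (iv6 D6904) (iv7 F26020) D14325
theorem F48546 : act 1 n14456 = n30176 := d15_0 (iv0 D30176) D30178 F48544
theorem F48547 : act 1 n14454 = n30178 := d15_1 D14454 (iv7 D30178) F26026
theorem F48548 : act 1 n30178 = n14453 := d15_0 (iv0 D14453) D14456 (iv2 F48544)
def n30179 : Q := act 3 n14326
theorem D30179 : act 3 n14326 = n30179 := rfl
theorem F48549 : act 7 n30179 = n14463 := d8_2 (iv7 F37122) D30179 (iv3 D14463)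
def n30180 : Q := act 5 n14326
theorem D30180 : act 5 n14326 = n30180 := rfl
theorem F48550 : act 2 n30180 = n14460 := d2_1 D30180 (iv5 D14460) (iv2 F37121)
theorem F48551 : act 7 n30180 = n14465 := d13_2 (iv7 F37122) D30180 (iv5 D14465)
def n30181 : Q := act 6 n14326
theorem D30181 : act 6 n14326 = n30181 := rfl
theorem F48552 : act 2 n30181 = n14461 := d3_1 D30181 (iv6 D14461) (iv2 F37121)
def n30182 : Q := act 3 n14327
theorem D30182 : act 3 n14327 = n30182 := rfl
theorem F48553 : act 7 n30182 = n14458 := d8_2 (iv7 F37126) D30182 (iv3 D14458)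
def n30183 : Q := act 4 n14327
theorem D30183 : act 4 n14327 = n30183 := rfl
theorem F48554 : act 2 n30183 = n14464 := d1_1 D30183 (iv4 D14464) (iv2 F37125)
theorem F48555 : act 7 n30183 = n14459 := d11_2 (iv7 F37126) D30183 (iv4 D14459)
theorem F48556 : act 5 n30183 = n24336 := d18_4 (iv1 F11096) (iv4 F11189) (iv1 F23936) D30183 F38148 (iv0 F22606) F19109 (iv0 F23933) (iv5 D14320)
theorem F48557 : act 1 n30183 = n14917 := d18_8 F18902 (iv4 F18901) (iv1 D6407) F4406 D3087 D6842 D14327 D30183 (iv5 D14917)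
theorem F48558 : act 3 n30183 = n28712 := d20_3 (iv4 F11189) (iv1 F23936) D30183 (iv1 D28712) F22851 D13689 D28713 F46308 (iv3 D14318) (iv1 F11096)
theorem F48559 : act 0 n30183 = n24832 := d20_4 D14594 (iv1 F37768) F46307 (iv3 F48558) F38868 D24861 F38948 (iv4 D14648) (iv3 F18492) (iv1 F18494)
def n30184 : Q := act 5 n14327
theorem D30184 : act 5 n14327 = n30184 := rfl
theorem F48560 : act 2 n30184 = n14465 := d2_1 D30184 (iv5 D14465) (iv2 F37125)
theorem F48561 : act 7 n30184 = n14460 := d13_2 (iv7 F37126) D30184 (iv5 D14460)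
def n30185 : Q := act 6 n14327
theorem D30185 : act 6 n14327 = n30185 := rfl
theorem F48562 : act 2 n30185 = n14466 := d3_1 D30185 (iv6 D14466) (iv2 F37125)
def n30186 : Q := act 0 n14328
theorem D30186 : act 0 n14328 = n30186 := rfl
def n30187 : Q := act 1 n14328
theorem D30187 : act 1 n14328 = n30187 := rfl
def n30188 : Q := act 2 n14328
theorem D30188 : act 2 n14328 = n30188 := rfl
theorem F48563 : act 3 n30188 = n14469 := d0_2 D14328 D30188 (iv2 D14469) (iv3 D6912) (iv2 F11093)
def n30189 : Q := act 5 n14328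
theorem D30189 : act 5 n14328 = n30189 := rfl
theorem F48564 : act 3 n30189 = n14329 := d6_1 D30189 (iv5 D14329) D14328
def n30190 : Q := act 7 n14328
theorem D30190 : act 7 n14328 = n30190 := rfl
theorem F48565 : act 3 n30190 = n14330 := d8_1 D30190 (iv7 D14330) D14328
def n30191 : Q := act 0 n14329
theorem D30191 : act 0 n14329 = n30191 := rfl
theorem F48566 : act 1 n14476 = n30191 := d15_0 (iv0 D30191) (iv7 F45799) F45795
def n30192 : Q := act 1 n14329
theorem D30192 : act 1 n14329 = n30192 := rfl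
theorem F48567 : act 1 n30192 = n14476 := d15_1 D30192 (iv7 D14476) (iv2 F23937)
def n30193 : Q := act 6 n14329
theorem D30193 : act 6 n14329 = n30193 := rfl
theorem F48568 : act 2 n30193 = n14475 := d3_1 D30193 (iv6 D14475) (iv2 F23937)
def n30194 : Q := act 6 n14330
theorem D30194 : act 6 n14330 = n30194 := rfl
theorem F48569 : act 2 n30194 = n14477 := d3_1 D30194 (iv6 D14477) (iv2 F23938)
theorem F48570 : act 4 n30194 = n14331 := d10_1 D30194 (iv6 D14331) (iv4 F23939)
def n30195 : Q := act 0 n14331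
theorem D30195 : act 0 n14331 = n30195 := rfl
theorem F48571 : act 1 n14359 = n30195 := d15_0 (iv0 D30195) (iv7 F48469) F48467
def n30196 : Q := act 1 n14331
theorem D30196 : act 1 n14331 = n30196 := rfl
theorem F48572 : act 1 n30196 = n14359 := d15_1 D30196 F23974 (iv2 F23943)
def n30197 : Q := act 0 n14332
theorem D30197 : act 0 n14332 = n30197 := rfl
theorem F48573 : act 4 n30197 = n27946 := d20_2 D14332 D30197 (iv3 D27946) (iv1 F22193) F9865 (iv4 F9874) (iv1 F9876) (iv4 D5602) D5601 F11099
theorem F48574 : act 1 n25082 = n30197 := d15_0 (iv0 D30197) (iv7 F38555) (iv2 F39393)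
theorem F48575 : act 7 n27997 = n30197 := d11_0 F48573 F45159 D27997
def n30198 : Q := act 1 n14332
theorem D30198 : act 1 n14332 = n30198 := rfl
theorem F48576 : act 1 n30198 = n25082 := d15_1 D30198 F39394 F23945
theorem F48577 : act 2 n27997 = n30198 := d15_3 F48576 F48574 (iv7 F48575)
theorem F48578 : act 4 n27996 = n30198 := d18_5 (iv1 F22288) F20326 F37080 (iv4 F38024) (iv5 F45265) F48576 (iv4 D25082) F19631 (iv5 F22285)
def n30199 : Q := act 3 n14332
theorem D30199 : act 3 n14332 = n30199 := rfl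
def n30200 : Q := act 5 n14332
theorem D30200 : act 5 n14332 = n30200 := rfl
def n30201 : Q := act 0 n14333
theorem D30201 : act 0 n14333 = n30201 := rfl
theorem F48579 : act 2 n30197 = n30201 := d15_3 (iv0 D30201) (iv0 F45267) F48575
theorem F48580 : act 1 n24570 = n30201 := d15_0 (iv0 D30201) (iv7 F39394) F39393
theorem F48581 : act 7 n30201 = n30198 := d15_2 F45268 F48580 (iv2 F48577)
def n30202 : Q := act 3 n14333
theorem D30202 : act 3 n14333 = n30202 := rfl
theorem F48582 : act 4 n30202 = n23725 := d5_2 D14333 D30202 (iv3 D23725) (iv4 D11110) (iv3 F11101)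
def n30203 : Q := act 5 n14333
theorem D30203 : act 5 n14333 = n30203 := rfl
theorem F48583 : act 2 n30203 = n30200 := d2_1 D30203 (iv5 D30200) (iv2 F23945)
def n30204 : Q := act 4 n14334
theorem D30204 : act 4 n14334 = n30204 := rfl
theorem F48584 : act 2 n30204 = n29775 := d1_1 D30204 (iv4 D29775) (iv2 F23946)
theorem F48585 : act 6 n30204 = n25352 := d10_2 (iv6 F23948) D30204 (iv4 D25352)
theorem F48586 : act 0 n30204 = n23806 := d18_2 F23949 D30204 (iv4 D23806) F37093 D25271 (iv0 F39881) F39000 (iv0 F38467) F19220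
theorem F48587 : act 1 n30204 = n23809 := d18_6 (iv1 F18103) (iv4 F10354) F22129 F22128 D14334 D30204 (iv4 D23809) F37088 F37086
def n30205 : Q := act 4 n14335
theorem D30205 : act 4 n14335 = n30205 := rfl
theorem F48588 : act 0 n30205 = n29369 := d18_2 (iv1 F47974) D30205 (iv4 D29369) (iv5 F23894) D24767 F40107 F40105 D25369 (iv5 F47970)
theorem F48589 : act 1 n30205 = n29372 := d18_6 F19456 (iv4 F9840) D13316 F22131 D14335 D30205 (iv4 D29372) F23271 (iv5 D13751)
def n30206 : Q := act 6 n14335
theorem D30206 : act 6 n14335 = n30206 := rfl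
theorem F48590 : act 3 n30206 = n28740 := d7_1 D30206 (iv6 D28740) (iv3 F23950)
def n30207 : Q := act 4 n14337
theorem D30207 : act 4 n14337 = n30207 := rfl
theorem F48591 : act 0 n30207 = n29363 := d18_2 D14337 D30207 (iv4 D29363) (iv5 D13968) D13967 (iv0 F23252) F22131 (iv0 D6847) D6849
theorem F48592 : act 1 n30207 = n23786 := d18_6 F22964 (iv4 F22963) D28757 F46388 F40707 D30207 (iv4 D23786) (iv0 F23027) F23026
def n30208 : Q := act 6 n14337
theorem D30208 : act 6 n14337 = n30208 := rfl
theorem F48593 : act 3 n30208 = n30101 := d7_1 D30208 (iv6 D30101) (iv3 F40705)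
def n30209 : Q := act 3 n14339
theorem D30209 : act 3 n14339 = n30209 := rfl
theorem F48594 : act 4 n30209 = n24092 := d5_2 D14339 D30209 (iv3 D24092) (iv4 D11313) (iv3 F11105)
theorem F48595 : act 6 n30209 = n30069 := d7_2 (iv6 F23952) D30209 (iv3 D30069)
def n30210 : Q := act 5 n14339
theorem D30210 : act 5 n14339 = n30210 := rfl
theorem F48596 : act 1 n30210 = n28860 := d17_6 (iv1 F46664) (iv5 D14165) F22915 D6849 D14339 D30210 (iv5 D28860) D28858 (iv4 F46662)
def n30211 : Q := act 6 n14340
theorem D30211 : act 6 n14340 = n30211 := rfl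
theorem F48597 : act 3 n30211 = n24095 := d7_1 D30211 (iv6 D24095) (iv3 F23954)
theorem F48598 : act 5 n30211 = n30211 := d12_1 D30211 (iv6 D30211) F23955 F11109 (iv5 F23955)
theorem F48599 : act 7 n30211 = n30071 := d14_2 D14340 D30211 (iv6 D30071) (iv7 D14275) (iv6 F11106)
def n30212 : Q := act 4 n14341
theorem D30212 : act 4 n14341 = n30212 := rfl
theorem F48600 : act 2 n30212 = n28992 := d1_1 D30212 (iv4 D28992) (iv2 F23956)
theorem F48601 : act 0 n30212 = n28867 := d18_2 (iv1 F47479) D30212 (iv4 D28867) (iv5 D13759) (iv4 F11112) (iv0 F20320) (iv4 F20303) D25798 (iv5 F47478)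
def n30213 : Q := act 6 n14341
theorem D30213 : act 6 n14341 = n30213 := rfl
theorem F48602 : act 2 n30213 = n28993 := d3_1 D30213 (iv6 D28993) (iv2 F23956)
theorem F48603 : act 3 n30213 = n14346 := d7_1 D30213 (iv6 D14346) (iv3 F23957)
def n30214 : Q := act 4 n14343
theorem D30214 : act 4 n14343 = n30214 := rfl
theorem F48604 : act 2 n30214 = n29629 := d1_1 D30214 (iv4 D29629) F23963
def n30215 : Q := act 6 n14343
theorem D30215 : act 6 n14343 = n30215 := rfl
theorem F48605 : act 2 n30215 = n29627 := d3_1 D30215 F47588 F23963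
theorem F48606 : act 3 n30215 = n30110 := d7_1 D30215 F48385 F23964
theorem F48607 : act 5 n30215 = n25777 := d12_1 D30215 (iv6 D25777) (iv5 D12238) D12239 (iv5 F23961)
def n30216 : Q := act 4 n14344
theorem D30216 : act 4 n14344 = n30216 := rfl
theorem F48608 : act 7 n30216 = n29629 := d11_2 (iv7 F23966) D30216 (iv4 D29629)
def n30217 : Q := act 0 n14345
theorem D30217 : act 0 n14345 = n30217 := rfl
theorem F48609 : act 4 n30217 = n28758 := d18_3 (iv1 D14344) D14345 D30217 (iv5 D28758) F22963 (iv0 F22964) F19065 D12256 F23967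
theorem F48610 : act 1 n14347 = n30217 := d15_0 (iv0 D30217) (iv7 F48443) F48442
def n30218 : Q := act 1 n14345
theorem D30218 : act 1 n14345 = n30218 := rfl
theorem F48611 : act 1 n30218 = n14347 := d15_1 D30218 (iv7 F47042) F47041
def n30219 : Q := act 3 n14345
theorem D30219 : act 3 n14345 = n30219 := rfl
def n30220 : Q := act 5 n14345
theorem D30220 : act 5 n14345 = n30220 := rfl
theorem F48612 : act 4 n30220 = n28860 := d16_2 D14345 D30220 (iv5 D28860) (iv4 D13755) (iv5 D6547) (iv4 F10319) D6854 (iv7 F23269) F23267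
def n30221 : Q := act 6 n14345
theorem D30221 : act 6 n14345 = n30221 := rfl
theorem F48613 : act 4 n30221 = n14346 := d10_1 D30221 (iv6 D14346) D14345
def n30222 : Q := act 0 n14346
theorem D30222 : act 0 n14346 = n30222 := rfl
def n30223 : Q := act 1 n14346
theorem D30223 : act 1 n14346 = n30223 := rfl
def n30224 : Q := act 7 n14346
theorem D30224 : act 7 n14346 = n30224 := rfl
def n30225 : Q := act 3 n14347
theorem D30225 : act 3 n14347 = n30225 := rfl
def n30226 : Q := act 5 n14347
theorem D30226 : act 5 n14347 = n30226 := rfl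
def n30227 : Q := act 6 n14347
theorem D30227 : act 6 n14347 = n30227 := rfl
theorem F48614 : act 4 n30227 = n14348 := d10_1 D30227 (iv6 D14348) D14347
def n30228 : Q := act 0 n14348
theorem D30228 : act 0 n14348 = n30228 := rfl
def n30229 : Q := act 7 n14348
theorem D30229 : act 7 n14348 = n30229 := rfl
theorem F48615 : act 1 n14382 = n30229 := d15_1 (iv0 F48446) (iv7 D30229) (iv2 F48444)
def n30230 : Q := act 4 n14349
theorem D30230 : act 4 n14349 = n30230 := rfl
theorem F48616 : act 2 n30230 = n24263 := d1_1 D30230 (iv4 F38599) (iv2 F38320)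
theorem F48617 : act 7 n30230 = n24264 := d11_2 (iv7 F38318) D30230 (iv4 F38319)
theorem F48618 : act 0 n30230 = n24267 := d18_2 (iv1 F38594) D30230 F38034 F18665 (iv4 F8928) F8932 (iv4 F11111) F19516 D12045
theorem F48619 : act 1 n30230 = n24245 := d18_6 F24501 F23011 (iv1 F38569) (iv4 F40780) F40781 D30230 (iv4 D24245) (iv0 F37111) (iv5 D23800)
def n30231 : Q := act 6 n14349
theorem D30231 : act 6 n14349 = n30231 := rfl
theorem F48620 : act 3 n30231 = n14351 := d7_1 D30231 (iv6 D14351) D14349
def n30232 : Q := act 0 n14350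
theorem D30232 : act 0 n14350 = n30232 := rfl
theorem F48621 : act 4 n30232 = n27930 := d18_3 D6856 D14350 D30232 F45113 F22137 F10765 (iv4 F10770) (iv0 D3093) D3095
theorem F48622 : act 1 n14352 = n30232 := d15_0 (iv0 D30232) (iv7 F40798) F40797
theorem F48623 : act 7 n27929 = n30232 := d11_0 F48621 (iv7 D27930) D27929
def n30233 : Q := act 1 n14350
theorem D30233 : act 1 n14350 = n30233 := rfl
theorem F48624 : act 1 n30233 = n14352 := d15_1 D30233 (iv7 F48448) F48447
theorem F48625 : act 4 n30233 = n23784 := d18_7 (iv1 F40107) (iv4 D24767) (iv1 F38749) F38746 (iv5 F22283) D14350 D30233 F48141 F48138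
theorem F48626 : act 2 n27929 = n30233 := d1_3 F48625 F37061 D27929
theorem F48627 : act 6 n14432 = n30233 := d10_0 F48625 (iv6 F38869) F38870
def n30234 : Q := act 3 n14350
theorem D30234 : act 3 n14350 = n30234 := rfl
def n30235 : Q := act 5 n14350
theorem D30235 : act 5 n14350 = n30235 := rfl
theorem F48628 : act 4 n30235 = n28914 := d16_2 D14350 D30235 (iv5 D28914) (iv4 D13776) F10615 (iv4 F18508) F18509 (iv7 F23904) (iv2 F23903)
def n30236 : Q := act 6 n14350
theorem D30236 : act 6 n14350 = n30236 := rfl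
theorem F48629 : act 4 n30236 = n14351 := d10_1 D30236 (iv6 D14351) D14350
def n30237 : Q := act 0 n14351
theorem D30237 : act 0 n14351 = n30237 := rfl
def n30238 : Q := act 1 n14351
theorem D30238 : act 1 n14351 = n30238 := rfl
def n30239 : Q := act 7 n14351
theorem D30239 : act 7 n14351 = n30239 := rfl
def n30240 : Q := act 3 n14352
theorem D30240 : act 3 n14352 = n30240 := rfl
def n30241 : Q := act 5 n14352
theorem D30241 : act 5 n14352 = n30241 := rfl
def n30242 : Q := act 6 n14352
theorem D30242 : act 6 n14352 = n30242 := rfl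
theorem F48630 : act 4 n30242 = n14353 := d10_1 D30242 (iv6 D14353) D14352
def n30243 : Q := act 0 n14353
theorem D30243 : act 0 n14353 = n30243 := rfl
def n30244 : Q := act 1 n14353
theorem D30244 : act 1 n14353 = n30244 := rfl
def n30245 : Q := act 7 n14353
theorem D30245 : act 7 n14353 = n30245 := rfl
def n30246 : Q := act 3 n14354
theorem D30246 : act 3 n14354 = n30246 := rfl
def n30247 : Q := act 5 n14354
theorem D30247 : act 5 n14354 = n30247 := rfl
def n30248 : Q := act 6 n14354
theorem D30248 : act 6 n14354 = n30248 := rfl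
def n30249 : Q := act 3 n14355
theorem D30249 : act 3 n14355 = n30249 := rfl
def n30250 : Q := act 5 n14355
theorem D30250 : act 5 n14355 = n30250 := rfl
def n30251 : Q := act 6 n14355
theorem D30251 : act 6 n14355 = n30251 := rfl
def n30252 : Q := act 0 n14356
theorem D30252 : act 0 n14356 = n30252 := rfl
def n30253 : Q := act 1 n14356
theorem D30253 : act 1 n14356 = n30253 := rfl
def n30254 : Q := act 2 n14356
theorem D30254 : act 2 n14356 = n30254 := rfl
theorem F48631 : act 4 n30254 = n14525 := d1_2 (iv4 F23969) D30254 (iv2 D14525)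
theorem F48632 : act 6 n30254 = n14469 := d3_2 (iv6 F23970) D30254 (iv2 D14469)
def n30255 : Q := act 5 n14356
theorem D30255 : act 5 n14356 = n30255 := rfl
theorem F48633 : act 3 n30255 = n14357 := d6_1 D30255 (iv5 D14357) D14356
def n30256 : Q := act 7 n14356
theorem D30256 : act 7 n14356 = n30256 := rfl
theorem F48634 : act 3 n30256 = n14358 := d8_1 D30256 (iv7 D14358) D14356
theorem F48635 : act 4 n30256 = n14527 := d11_1 D30256 (iv7 D14527) (iv4 F23969)
def n30257 : Q := act 0 n14357
theorem D30257 : act 0 n14357 = n30257 := rfl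
def n30258 : Q := act 1 n14357
theorem D30258 : act 1 n14357 = n30258 := rfl
def n30259 : Q := act 4 n14357
theorem D30259 : act 4 n14357 = n30259 := rfl
theorem F48636 : act 5 n30259 = n28912 := d16_3 D6858 D14357 D30259 (iv4 F46560) F40699 F20240 (iv5 F23910) (iv7 D14307) F11083
theorem F48637 : act 1 n28860 = n30259 := d17_6 (iv1 F23340) (iv5 D13750) (iv1 D6545) D6547 D13755 D28860 F48636 (iv0 F47174) (iv4 D29432)
def n30260 : Q := act 6 n14357
theorem D30260 : act 6 n14357 = n30260 := rfl
theorem F48638 : act 5 n30260 = n14475 := d12_1 D30260 (iv6 D14475) (iv5 D6913) (iv6 F11113) D14357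
def n30261 : Q := act 7 n14357
theorem D30261 : act 7 n14357 = n30261 := rfl
theorem F48639 : act 5 n30261 = n14358 := d13_1 D30261 (iv7 D14358) D14357
def n30262 : Q := act 6 n14358
theorem D30262 : act 6 n14358 = n30262 := rfl
theorem F48640 : act 4 n30262 = n14359 := d10_1 D30262 (iv6 D14359) (iv4 F23971)
theorem F48641 : act 7 n30262 = n14477 := d14_2 D14358 D30262 (iv6 D14477) (iv7 D6914) (iv6 F11113)
def n30263 : Q := act 6 n14360
theorem D30263 : act 6 n14360 = n30263 := rfl
theorem F48642 : act 3 n30263 = n14595 := d7_1 D30263 (iv6 D14595) (iv3 F23975)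
theorem F48643 : act 5 n30263 = n30263 := d12_1 D30263 (iv6 D30263) (iv5 D14360) F11136 D14360
def n30264 : Q := act 6 n14361
theorem D30264 : act 6 n14361 = n30264 := rfl
theorem F48644 : act 3 n30264 = n14616 := d7_1 D30264 (iv6 D14616) F23979
theorem F48645 : act 5 n30264 = n24988 := d12_1 D30264 (iv6 D24988) (iv5 D11866) D11867 (iv5 F23977)
def n30265 : Q := act 6 n14362
theorem D30265 : act 6 n14362 = n30265 := rfl
theorem F48646 : act 3 n30265 = n25238 := d7_1 D30265 (iv6 D25238) F24007
theorem F48647 : act 5 n30265 = n30068 := d12_1 D30265 (iv6 D30068) D30067 F48320 F37943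
def n30266 : Q := act 1 n14363
theorem D30266 : act 1 n14363 = n30266 := rfl
theorem F48648 : act 1 n30266 = n30157 := d15_1 D30266 F48500 F24012
theorem F48649 : act 7 n30266 = n28234 := d15_2 (iv0 F24472) D30266 F45718
theorem F48650 : act 4 n30266 = n26028 := d18_7 (iv1 D6407) F4406 D3085 (iv4 F5179) D6868 D14363 D30266 F41142 (iv5 D13470)
theorem F48651 : act 2 n26029 = n30266 := d1_3 F48650 (iv2 D26028) D26029
def n30267 : Q := act 3 n14363
theorem D30267 : act 3 n14363 = n30267 := rfl
theorem F48652 : act 4 n30267 = n14385 := d5_2 D14363 D30267 (iv3 D14385) (iv4 D6879) (iv3 F11127)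
def n30268 : Q := act 5 n14363
theorem D30268 : act 5 n14363 = n30268 := rfl
theorem F48653 : act 2 n30268 = n28289 := d2_1 D30268 F45789 F24012
theorem F48654 : act 7 n30268 = n28290 := d13_2 F24056 D30268 F45793
theorem F48655 : act 4 n30268 = n30160 := d16_2 D14363 D30268 (iv5 D30160) (iv4 D14315) (iv5 D6838) D6837 D14313 F23923 (iv2 F11176)
theorem F48656 : act 0 n30268 = n28293 := d17_2 (iv1 D30266) D30268 F45802 F22651 F10466 F10459 D13468 F41143 (iv4 F48650)
theorem F48657 : act 1 n30268 = n28220 := d17_6 (iv1 D23986) (iv5 D11242) F10348 D6868 D14363 D30268 (iv5 D28220) D28218 F45663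
def n30269 : Q := act 6 n14363
theorem D30269 : act 6 n14363 = n30269 := rfl
theorem F48658 : act 4 n30269 = n14364 := d10_1 D30269 (iv6 D14364) D14363
def n30270 : Q := act 0 n14364
theorem D30270 : act 0 n14364 = n30270 := rfl
def n30271 : Q := act 1 n14364
theorem D30271 : act 1 n14364 = n30271 := rfl
def n30272 : Q := act 5 n14364
theorem D30272 : act 5 n14364 = n30272 := rfl
theorem F48659 : act 3 n30272 = n14390 := d6_1 D30272 (iv5 D14390) (iv3 F23981)
theorem F48660 : act 6 n30272 = n14367 := d12_2 D14364 D30272 (iv5 D14367) (iv6 D6869) D6868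
def n30273 : Q := act 7 n14364
theorem D30273 : act 7 n14364 = n30273 := rfl
theorem F48661 : act 3 n30273 = n14391 := d8_1 D30273 (iv7 D14391) (iv3 F23981)
def n30274 : Q := act 4 n14369
theorem D30274 : act 4 n14369 = n30274 := rfl
theorem F48662 : act 2 n30274 = n28261 := d1_1 D30274 F45768 (iv2 F23990)
theorem F48663 : act 7 n30274 = n23987 := d11_2 (iv7 F23992) D30274 (iv4 D23987)
theorem F48664 : act 0 n30274 = n28216 := d18_2 (iv1 F26045) D30274 (iv4 D28216) (iv5 F22605) (iv4 F38148) (iv0 F38719) F38716 F37946 F26046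
theorem F48665 : act 1 n30274 = n28214 := d18_6 D6406 (iv4 F18109) F18110 F11414 D14369 D30274 (iv4 D28214) (iv0 D13471) (iv5 D6408)
def n30275 : Q := act 6 n14369
theorem D30275 : act 6 n14369 = n30275 := rfl
theorem F48666 : act 2 n30275 = n30263 := d3_1 D30275 (iv6 D30263) (iv2 F23990)
theorem F48667 : act 3 n30275 = n23999 := d7_1 D30275 (iv6 D23999) (iv3 F23991)
theorem F48668 : act 5 n30275 = n30275 := d12_1 D30275 (iv6 D30275) (iv5 D14369) F11146 D14369
def n30276 : Q := act 4 n14370
theorem D30276 : act 4 n14370 = n30276 := rfl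
theorem F48669 : act 2 n30276 = n30146 := d1_1 D30276 (iv4 D30146) (iv2 F23995)
theorem F48670 : act 0 n30276 = n14786 := d18_2 (iv1 F24045) D30276 (iv4 D14786) F22179 (iv4 F22566) F37786 (iv4 F37480) F40147 F40146
theorem F48671 : act 1 n30276 = n14789 := d18_6 F19360 (iv4 F8784) F19357 (iv4 F11139) D14370 D30276 (iv4 D14789) F18588 (iv5 D11378)
def n30277 : Q := act 6 n14370
theorem D30277 : act 6 n14370 = n30277 := rfl
theorem F48672 : act 2 n30277 = n30147 := d3_1 D30277 (iv6 D30147) (iv2 F23995)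
theorem F48673 : act 3 n30277 = n14375 := d7_1 D30277 (iv6 D14375) (iv3 F23996)
theorem F48674 : act 5 n30277 = n24128 := d12_1 D30277 (iv6 D24128) (iv5 F24000) (iv6 D14371) D14370
def n30278 : Q := act 1 n14371
theorem D30278 : act 1 n14371 = n30278 := rfl
theorem F48675 : act 1 n30278 = n24125 := d15_1 D30278 F37804 (iv2 F23997)
theorem F48676 : act 7 n30278 = n14801 := d15_2 (iv0 F24001) D30278 F24451
theorem F48677 : act 4 n30278 = n14783 := d17_9 (iv1 D14783) F22147 (iv1 D13323) (iv5 D6319) F4253 D5233 D11332 (iv5 F24000) D30278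
theorem F48678 : act 6 n14401 = n30278 := d21_3 D11101 D23708 (iv5 F36865) (iv1 D30278) (iv6 D14371) D14370 (iv1 F24046) (iv5 F24047) (iv6 D13352) F22459
theorem F48679 : act 2 n30278 = n14804 := d3_1 F48678 (iv6 F38510) F38505
theorem F48680 : act 3 n30278 = n25798 := d7_1 F48678 (iv6 F40776) F37959
def n30279 : Q := act 7 n14371
theorem D30279 : act 7 n14371 = n30279 := rfl
theorem F48681 : act 2 n30279 = n24125 := d4_1 D30279 F37804 (iv2 F23997)
theorem F48682 : act 3 n30279 = n14378 := d8_1 D30279 (iv7 D14378) (iv3 F23998)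
theorem F48683 : act 4 n30279 = n24125 := d11_1 D30279 F37804 (iv4 F23999)
theorem F48684 : act 5 n30279 = n23990 := d13_1 D30279 F37494 (iv5 F24000)
theorem F48685 : act 6 n30279 = n29794 := d14_1 D30279 F47942 (iv6 D14396) (iv7 F11160) D14371
theorem F48686 : act 1 n14804 = n30279 := d15_1 (iv0 F24459) (iv7 D30279) F23997
theorem F48687 : act 1 n30279 = n14801 := d15_1 F48686 (iv7 F48676) F48679
def n30280 : Q := act 4 n14372
theorem D30280 : act 4 n14372 = n30280 := rfl
theorem F48688 : act 2 n30280 = n28236 := d1_1 D30280 F45723 F24004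
theorem F48689 : act 7 n30280 = n28237 := d11_2 F24006 D30280 F45726
theorem F48690 : act 0 n30280 = n28212 := d18_2 D14372 D30280 (iv4 D28212) (iv5 D13470) F18901 (iv0 F18902) F11414 (iv0 D6871) D6874
theorem F48691 : act 1 n30280 = n28210 := d18_6 (iv1 F38823) (iv4 F38021) F38023 F20030 (iv5 F24002) D30280 (iv4 D28210) F41143 F41140
def n30281 : Q := act 6 n14372
theorem D30281 : act 6 n14372 = n30281 := rfl
theorem F48692 : act 2 n30281 = n30264 := d3_1 D30281 (iv6 D30264) F24004
theorem F48693 : act 3 n30281 = n24141 := d7_1 D30281 (iv6 D24141) F24005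
theorem F48694 : act 5 n30281 = n25401 := d12_1 D30281 (iv6 D25401) (iv5 D12078) D12079 (iv5 F24002)
def n30282 : Q := act 4 n14373
theorem D30282 : act 4 n14373 = n30282 := rfl
theorem F48695 : act 2 n30282 = n28237 := d1_1 D30282 F45726 F24010
theorem F48696 : act 7 n30282 = n28236 := d11_2 (iv7 F24009) D30282 F45723
theorem F48697 : act 0 n30282 = n28210 := d18_2 (iv1 F24008) D30282 (iv4 D28210) (iv5 D13468) (iv4 F18109) F19117 F19115 F11149 D6892
theorem F48698 : act 0 n28212 = n30282 := d20_1 D28212 (iv4 D30282) (iv3 F24011) (iv1 D12275) F8952 D5826 (iv1 F11308) (iv4 D7058) D7057 F22603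
def n30283 : Q := act 6 n14373
theorem D30283 : act 6 n14373 = n30283 := rfl
theorem F48699 : act 2 n30283 = n30265 := d3_1 D30283 (iv6 D30265) F24010
theorem F48700 : act 3 n30283 = n25863 := d7_1 D30283 (iv6 D25863) F24011
theorem F48701 : act 5 n30283 = n30061 := d12_1 D30283 (iv6 D30061) D30060 F48296 F39212
theorem F48702 : act 0 n30283 = n29589 := d21_4 D14428 (iv1 F39214) F39212 D30283 (iv6 D29589) (iv5 D14053) F19512 D12045 F19955 F24076
def n30284 : Q := act 3 n14374
theorem D30284 : act 3 n14374 = n30284 := rfl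
def n30285 : Q := act 6 n14374
theorem D30285 : act 6 n14374 = n30285 := rfl
theorem F48703 : act 2 n30285 = n30269 := d3_1 D30285 (iv6 D30269) (iv2 F24012)
theorem F48704 : act 4 n30285 = n14375 := d10_1 D30285 (iv6 D14375) D14374
def n30286 : Q := act 0 n14375
theorem D30286 : act 0 n14375 = n30286 := rfl
def n30287 : Q := act 1 n14375
theorem D30287 : act 1 n14375 = n30287 := rfl
theorem F48705 : act 1 n30287 = n30273 := d15_1 D30287 (iv7 D30273) (iv2 F24013)
def n30288 : Q := act 5 n14375
theorem D30288 : act 5 n14375 = n30288 := rfl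
theorem F48706 : act 2 n30288 = n30272 := d2_1 D30288 (iv5 D30272) (iv2 F24013)
theorem F48707 : act 3 n30288 = n24128 := d6_1 D30288 (iv5 F48674) F48673
theorem F48708 : act 6 n30288 = n14377 := d12_2 D14375 D30288 (iv5 D14377) (iv6 D6875) D6874
def n30289 : Q := act 7 n14375
theorem D30289 : act 7 n14375 = n30289 := rfl
theorem F48709 : act 2 n30289 = n30273 := d4_1 D30289 (iv7 D30273) (iv2 F24013)
theorem F48710 : act 1 n30273 = n30286 := d15_0 (iv0 D30286) D30289 F48709
theorem F48711 : act 1 n30271 = n30289 := d15_1 D30271 (iv7 D30289) F24013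
theorem F48712 : act 1 n30289 = n30270 := d15_0 (iv0 D30270) D30273 (iv2 F48709)
def n30290 : Q := act 4 n14376
theorem D30290 : act 4 n14376 = n30290 := rfl
theorem F48713 : act 2 n30290 = n24209 := d1_1 D30290 F37934 F24016
theorem F48714 : act 7 n30290 = n28196 := d11_2 (iv7 F24015) D30290 F45603
theorem F48715 : act 0 n30290 = n23794 := d17_0 F39980 (iv1 D25318) (iv5 D12020) (iv4 F8794) D12039 (iv0 F24020) (iv5 D14377) D14376 D30290
theorem F48716 : act 0 n28233 = n30290 := d20_1 (iv4 F45713) (iv4 D30290) (iv3 F24017) (iv1 D12279) F8954 F5133 (iv1 F7991) F7732 (iv3 F10795) (iv1 F23858)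
def n30291 : Q := act 5 n14376
theorem D30291 : act 5 n14376 = n30291 := rfl
theorem F48717 : act 2 n30291 = n28996 := d2_1 D30291 F46623 F24016
theorem F48718 : act 3 n30291 = n14481 := d6_1 D30291 (iv5 F24123) F24017
theorem F48719 : act 7 n30291 = n29961 := d13_2 (iv7 F24015) D30291 (iv5 D29961)
theorem F48720 : act 0 n30291 = n16494 := d17_2 (iv1 F24014) D30291 (iv5 D16494) (iv4 D7658) D7659 (iv0 F24033) (iv5 D14392) F23859 (iv4 F23988)
theorem F48721 : act 0 n16500 = n30291 := d21_1 D16500 (iv5 D30291) F39280 (iv1 F45527) F45523 (iv5 F39086) (iv1 F40070) F40068 F19934 (iv1 F19938)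
def n30292 : Q := act 4 n14377
theorem D30292 : act 4 n14377 = n30292 := rfl
theorem F48722 : act 2 n30292 = n24354 := d1_1 D30292 (iv4 F38170) (iv2 F24018)
theorem F48723 : act 7 n30292 = n24353 := d11_2 F39089 D30292 F39090
theorem F48724 : act 0 n30292 = n24330 := d18_2 (iv1 F39093) D30292 (iv4 D24330) (iv5 D11463) F8117 D7653 F19519 (iv0 F19522) (iv5 F39092)
theorem F48725 : act 1 n30292 = n24357 := d18_6 F38864 (iv4 F22553) (iv1 D6883) (iv4 F11140) D14377 D30292 F38173 F38123 F38865
def n30293 : Q := act 3 n14379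
theorem D30293 : act 3 n14379 = n30293 := rfl
def n30294 : Q := act 5 n14379
theorem D30294 : act 5 n14379 = n30294 := rfl
theorem F48726 : act 0 n30294 = n30180 := d17_2 F45703 D30294 (iv5 D30180) (iv4 F37120) (iv5 F39871) (iv0 F39877) (iv5 F45698) (iv0 D28229) D28230
theorem F48727 : act 1 n30294 = n30184 := d17_6 (iv1 F11092) (iv5 F11896) (iv1 F22529) F22549 D14379 D30294 (iv5 D30184) F23936 F11189
def n30295 : Q := act 6 n14379
theorem D30295 : act 6 n14379 = n30295 := rfl
theorem F48728 : act 4 n30295 = n14380 := d10_1 D30295 (iv6 D14380) D14379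
def n30296 : Q := act 0 n14380
theorem D30296 : act 0 n14380 = n30296 := rfl
def n30297 : Q := act 1 n14380
theorem D30297 : act 1 n14380 = n30297 := rfl
def n30298 : Q := act 7 n14380
theorem D30298 : act 7 n14380 = n30298 := rfl
def n30299 : Q := act 3 n14381
theorem D30299 : act 3 n14381 = n30299 := rfl
theorem F48729 : act 4 n30299 = n14567 := d5_2 D14381 D30299 (iv3 D14567) (iv4 D6961) (iv3 F22558)
def n30300 : Q := act 5 n14381
theorem D30300 : act 5 n14381 = n30300 := rfl
theorem F48730 : act 0 n30300 = n30184 := d17_2 F45758 D30300 (iv5 D30184) D30183 F48556 (iv0 F38719) F38717 F38721 D28252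
theorem F48731 : act 1 n30300 = n30180 := d17_6 D6840 D14320 F23933 (iv5 F22559) D14381 D30300 (iv5 D30180) (iv0 D14326) (iv4 D6842)
def n30301 : Q := act 6 n14381
theorem D30301 : act 6 n14381 = n30301 := rfl
theorem F48732 : act 4 n30301 = n14382 := d10_1 D30301 (iv6 D14382) D14381
def n30302 : Q := act 7 n14382
theorem D30302 : act 7 n14382 = n30302 := rfl
theorem F48733 : act 3 n30302 = n14499 := d8_1 D30302 (iv7 F24146) (iv3 F24025)
theorem F48734 : act 5 n30302 = n30008 := d13_1 D30302 (iv7 D30008) (iv5 F24026)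
def n30303 : Q := act 3 n14383
theorem D30303 : act 3 n14383 = n30303 := rfl
def n30304 : Q := act 5 n14383
theorem D30304 : act 5 n14383 = n30304 := rfl
theorem F48735 : act 0 n30304 = n30167 := d17_2 D14383 D30304 (iv5 D30167) (iv4 D14319) D14320 (iv0 F23931) F22549 (iv0 D6877) D6879
theorem F48736 : act 1 n30304 = n30174 := d17_6 F45696 (iv5 F38022) F38023 (iv5 F24581) (iv4 F24582) D30304 (iv5 D30174) F48522 F48520
def n30305 : Q := act 6 n14383
theorem D30305 : act 6 n14383 = n30305 := rfl
def n30306 : Q := act 3 n14384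
theorem D30306 : act 3 n14384 = n30306 := rfl
def n30307 : Q := act 4 n14384
theorem D30307 : act 4 n14384 = n30307 := rfl
theorem F48737 : act 2 n30307 = n24200 := d1_1 D30307 (iv4 F48484) (iv2 F48485)
theorem F48738 : act 7 n30307 = n28229 := d11_2 (iv7 F48481) D30307 (iv4 F48478)
theorem F48739 : act 1 n30307 = n24510 := d18_8 F19116 F19115 F11148 (iv4 D3099) D3100 D6879 D14384 D30307 (iv5 D24510)
theorem F48740 : act 3 n28248 = n30307 := d20_5 (iv4 F45723) (iv1 F45724) (iv4 D13490) (iv3 F22641) D28248 (iv4 D30307) (iv1 D14384) (iv4 D6879) (iv3 F11127) D14361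
theorem F48741 : act 1 n23793 = n30307 := d15_0 F48739 F38487 (iv2 F37095)
def n30308 : Q := act 5 n14384
theorem D30308 : act 5 n14384 = n30308 := rfl
theorem F48742 : act 0 n30308 = n30174 := d17_2 (iv1 F24028) D30308 (iv5 D30174) (iv4 D14324) (iv5 F11896) (iv0 F22528) (iv5 F22559) F11150 D6894
theorem F48743 : act 1 n30308 = n30167 := d15_1 (iv0 F48742) F48526 (iv2 F48539)
def n30309 : Q := act 6 n14384
theorem D30309 : act 6 n14384 = n30309 := rfl
def n30310 : Q := act 0 n14385
theorem D30310 : act 0 n14385 = n30310 := rfl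
def n30311 : Q := act 1 n14385
theorem D30311 : act 1 n14385 = n30311 := rfl
def n30312 : Q := act 2 n14385
theorem D30312 : act 2 n14385 = n30312 := rfl
def n30313 : Q := act 5 n14385
theorem D30313 : act 5 n14385 = n30313 := rfl
theorem F48744 : act 3 n30313 = n14386 := d6_1 D30313 (iv5 D14386) D14385
def n30314 : Q := act 6 n14385
theorem D30314 : act 6 n14385 = n30314 := rfl
theorem F48745 : act 3 n30314 = n14387 := d7_1 D30314 (iv6 D14387) D14385
def n30315 : Q := act 0 n14386
theorem D30315 : act 0 n14386 = n30315 := rfl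
theorem F48746 : act 5 n30315 = n14431 := d17_1 D30315 (iv1 F24088) D14450 (iv4 F45783) (iv5 D28279) (iv0 D13501) D13504 D28290 (iv4 F45794)
theorem F48747 : act 1 n14411 = n30315 := d15_0 (iv0 D30315) (iv7 F48505) F48504
def n30316 : Q := act 1 n14386
theorem D30316 : act 1 n14386 = n30316 := rfl
theorem F48748 : act 1 n30316 = n14411 := d15_1 D30316 (iv7 F48488) F48487
theorem F48749 : act 5 n30316 = n14432 := d17_7 (iv1 D3108) (iv5 D1391) D1389 D3100 D6879 D14386 D30316 F24084 (iv4 D6907)
def n30317 : Q := act 6 n14386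
theorem D30317 : act 6 n14386 = n30317 := rfl
def n30318 : Q := act 0 n14387
theorem D30318 : act 0 n14387 = n30318 := rfl
def n30319 : Q := act 1 n14387
theorem D30319 : act 1 n14387 = n30319 := rfl
def n30320 : Q := act 5 n14387
theorem D30320 : act 5 n14387 = n30320 := rfl
def n30321 : Q := act 7 n14387
theorem D30321 : act 7 n14387 = n30321 := rfl
theorem F48750 : act 4 n30321 = n14391 := d11_1 D30321 (iv7 D14391) (iv4 F24029)
def n30322 : Q := act 2 n14388
theorem D30322 : act 2 n14388 = n30322 := rfl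
theorem F48751 : act 7 n14389 = n30322 := d15_2 (iv0 D14388) D14389 (iv2 D30322)
def n30323 : Q := act 3 n14388
theorem D30323 : act 3 n14388 = n30323 := rfl
def n30324 : Q := act 4 n14388
theorem D30324 : act 4 n14388 = n30324 := rfl
def n30325 : Q := act 5 n14388
theorem D30325 : act 5 n14388 = n30325 := rfl
theorem F48752 : act 0 n30325 = n24137 := d21_1 D30325 F37825 (iv6 D14353) (iv1 D6857) F4835 (iv5 D1391) D1389 D3100 D6880 D14388
theorem F48753 : act 6 n30222 = n14388 := d21_5 (iv5 D3095) D3093 D6852 D14346 D30222 D30325 F48752 F37825 (iv6 D14353) (iv1 D6857)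
theorem F48754 : act 1 n30325 = n25812 := d15_1 (iv0 F48752) (iv7 D25812) (iv2 F37823)
def n30326 : Q := act 7 n14388
theorem D30326 : act 7 n14388 = n30326 := rfl
theorem F48755 : act 2 n30326 = n14389 := d4_1 D30326 F48751 (iv2 D30322)
def n30327 : Q := act 3 n14389
theorem D30327 : act 3 n14389 = n30327 := rfl
def n30328 : Q := act 4 n14389
theorem D30328 : act 4 n14389 = n30328 := rfl
def n30329 : Q := act 5 n14389
theorem D30329 : act 5 n14389 = n30329 := rfl
theorem F48756 : act 0 n24137 = n30329 := d21_10 (iv5 D30329) (iv1 D14389) D14390 F24030 F11886 F11885 (iv5 D5804) (iv1 F10115) D11335 D24137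
def n30330 : Q := act 6 n14389
theorem D30330 : act 6 n14389 = n30330 := rfl
def n30331 : Q := act 0 n14390
theorem D30331 : act 0 n14390 = n30331 := rfl
def n30332 : Q := act 1 n14390
theorem D30332 : act 1 n14390 = n30332 := rfl
def n30333 : Q := act 4 n14390
theorem D30333 : act 4 n14390 = n30333 := rfl
theorem F48757 : act 6 n30333 = n14393 := d10_2 (iv6 F24030) D30333 (iv4 D14393)
def n30334 : Q := act 7 n14390
theorem D30334 : act 7 n14390 = n30334 := rfl
theorem F48758 : act 5 n30334 = n14391 := d13_1 D30334 (iv7 D14391) D14390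
def n30335 : Q := act 4 n14392
theorem D30335 : act 4 n14392 = n30335 := rfl
theorem F48759 : act 7 n30335 = n29085 := d11_2 (iv7 F24032) D30335 (iv4 D29085)
def n30336 : Q := act 1 n14393
theorem D30336 : act 1 n14393 = n30336 := rfl
def n30337 : Q := act 3 n14393
theorem D30337 : act 3 n14393 = n30337 := rfl
def n30338 : Q := act 5 n14393
theorem D30338 : act 5 n14393 = n30338 := rfl
def n30339 : Q := act 6 n14394
theorem D30339 : act 6 n14394 = n30339 := rfl
theorem F48760 : act 3 n30339 = n14534 := d7_1 D30339 (iv6 D14534) (iv3 F24035)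
theorem F48761 : act 5 n30339 = n30339 := d12_1 D30339 (iv6 D30339) (iv5 D14394) F19414 D14394
theorem F48762 : act 7 n30339 = n25351 := d14_2 (iv7 F24036) D30339 (iv6 D25351) (iv7 D12038) (iv6 F19921)
def n30340 : Q := act 4 n14395
theorem D30340 : act 4 n14395 = n30340 := rfl
theorem F48763 : act 2 n30340 = n14399 := d1_1 D30340 (iv4 D14399) (iv2 F24038)
theorem F48764 : act 7 n30340 = n30276 := d11_2 (iv7 F24040) D30340 (iv4 D30276)
theorem F48765 : act 0 n30340 = n26067 := d18_2 F40139 D30340 (iv4 D26067) (iv5 F24646) (iv4 F40145) F40148 (iv4 F40130) (iv0 D25381) D25382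
theorem F48766 : act 1 n30340 = n26070 := d18_6 (iv1 F9091) F11157 (iv1 D6888) F11156 D14395 D30340 (iv4 D26070) F20542 (iv5 D7047)
def n30341 : Q := act 6 n14395
theorem D30341 : act 6 n14395 = n30341 := rfl
theorem F48767 : act 2 n30341 = n14400 := d3_1 D30341 (iv6 D14400) (iv2 F24038)
theorem F48768 : act 3 n30341 = n30158 := d7_1 D30341 (iv6 D30158) (iv3 F24039)
theorem F48769 : act 0 n28998 = n30341 := d21_4 F19922 (iv1 F22264) (iv5 F23053) D28998 (iv6 D30341) (iv5 D14395) (iv1 F19358) D12034 F19921 D12035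
def n30342 : Q := act 6 n14398
theorem D30342 : act 6 n14398 = n30342 := rfl
theorem F48770 : act 3 n30342 = n14541 := d7_1 D30342 (iv6 D14541) (iv3 F24048)
theorem F48771 : act 5 n30342 = n27981 := d12_1 D30342 (iv6 D27981) (iv5 D13351) D13352 F24047
def n30343 : Q := act 3 n14399
theorem D30343 : act 3 n14399 = n30343 := rfl
theorem F48772 : act 4 n30343 = n14410 := d5_2 D14399 D30343 (iv3 D14410) (iv4 D6894) (iv3 F11180)
def n30344 : Q := act 5 n14399
theorem D30344 : act 5 n14399 = n30344 := rfl
theorem F48773 : act 0 n30344 = n28720 := d17_2 F24443 D30344 (iv5 D28720) (iv4 D13691) (iv5 D6516) (iv0 F19360) D11378 F18589 D14786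
def n30345 : Q := act 6 n14399
theorem D30345 : act 6 n14399 = n30345 := rfl
theorem F48774 : act 4 n30345 = n14400 := d10_1 D30345 (iv6 D14400) D14399
def n30346 : Q := act 0 n14400
theorem D30346 : act 0 n14400 = n30346 := rfl
def n30347 : Q := act 5 n14400
theorem D30347 : act 5 n14400 = n30347 := rfl
theorem F48775 : act 3 n30347 = n14415 := d6_1 D30347 (iv5 D14415) (iv3 F24049)
theorem F48776 : act 6 n30347 = n14403 := d12_2 D14400 D30347 (iv5 D14403) (iv6 D6891) D6890
def n30348 : Q := act 7 n14400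
theorem D30348 : act 7 n14400 = n30348 := rfl
theorem F48777 : act 3 n30348 = n14416 := d8_1 D30348 (iv7 D14416) (iv3 F24049)
theorem F48778 : act 1 n28998 = n30348 := d15_1 (iv0 F48769) (iv7 D30348) (iv2 F48767)
def n30349 : Q := act 3 n14405
theorem D30349 : act 3 n14405 = n30349 := rfl
theorem F48779 : act 4 n30349 = n30159 := d5_2 D14405 D30349 (iv3 D30159) (iv4 D14315) (iv3 F11182)
theorem F48780 : act 7 n30349 = n30267 := d8_2 (iv7 F24056) D30349 (iv3 D30267)
def n30350 : Q := act 6 n14405
theorem D30350 : act 6 n14405 = n30350 := rfl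
theorem F48781 : act 4 n30350 = n14406 := d10_1 D30350 (iv6 D14406) D14405
def n30351 : Q := act 0 n14406
theorem D30351 : act 0 n14406 = n30351 := rfl
def n30352 : Q := act 1 n14406
theorem D30352 : act 1 n14406 = n30352 := rfl
theorem F48782 : act 6 n29586 = n30352 := d21_3 (iv5 F38597) (iv1 F40774) (iv5 F47478) (iv1 D30352) (iv6 D14406) (iv5 D6892) (iv1 F11149) D14204 F23711 D24432
theorem F48783 : act 5 n30352 = n25373 := d12_1 F48782 (iv6 D25373) (iv5 F38409) F40776 (iv5 F47478)
def n30353 : Q := act 5 n14406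
theorem D30353 : act 5 n14406 = n30353 := rfl
theorem F48784 : act 3 n30353 = n25044 := d6_1 D30353 F39298 (iv3 F24057)
theorem F48785 : act 6 n30353 = n14408 := d12_2 D14406 D30353 (iv5 D14408) (iv6 D6893) D6892
def n30354 : Q := act 7 n14406
theorem D30354 : act 7 n14406 = n30354 := rfl
theorem F48786 : act 3 n30354 = n30163 := d8_1 D30354 (iv7 D30163) (iv3 F24057)
theorem F48787 : act 6 n30354 = n30273 := d14_1 D30354 (iv7 D30273) (iv6 D14364) (iv7 F11183) D14406
def n30355 : Q := act 4 n14407
theorem D30355 : act 4 n14407 = n30355 := rfl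
theorem F48788 : act 2 n30355 = n24223 := d1_1 D30355 (iv4 F39792) F39791
theorem F48789 : act 3 n30355 = n28251 := d5_1 D30355 F45753 F37762 F24330 (iv3 F39281)
theorem F48790 : act 6 n30355 = n30290 := d10_2 F39280 D30355 (iv4 D30290)
theorem F48791 : act 7 n30355 = n28181 := d11_2 (iv7 F39282) D30355 F45577
theorem F48792 : act 0 n30355 = n24796 := d18_2 D14407 D30355 F38803 F22584 D25201 F39682 (iv4 D24987) (iv0 F26049) (iv5 D14408)
theorem F48793 : act 1 n23730 = n25256 := d17_6 (iv1 F45527) F45525 (iv1 F39208) (iv5 D23712) (iv4 F18015) D23730 F39828 (iv0 F48792) (iv4 D30355)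
theorem F48794 : act 0 n24511 = n30355 := d20_10 (iv4 D30355) (iv1 F45527) (iv4 D28162) (iv3 F24059) (iv1 F24062) (iv3 F24204) F24205 F24202 (iv4 F18953) (iv3 F38490)
def n30356 : Q := act 0 n14410
theorem D30356 : act 0 n14410 = n30356 := rfl
def n30357 : Q := act 1 n14410
theorem D30357 : act 1 n14410 = n30357 := rfl
def n30358 : Q := act 2 n14410
theorem D30358 : act 2 n14410 = n30358 := rfl
def n30359 : Q := act 5 n14410
theorem D30359 : act 5 n14410 = n30359 := rfl
theorem F48795 : act 3 n30359 = n14411 := d6_1 D30359 (iv5 D14411) D14410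
def n30360 : Q := act 6 n14410
theorem D30360 : act 6 n14410 = n30360 := rfl
theorem F48796 : act 3 n30360 = n14412 := d7_1 D30360 (iv6 D14412) D14410
def n30361 : Q := act 6 n14411
theorem D30361 : act 6 n14411 = n30361 := rfl
def n30362 : Q := act 0 n14412
theorem D30362 : act 0 n14412 = n30362 := rfl
def n30363 : Q := act 1 n14412
theorem D30363 : act 1 n14412 = n30363 := rfl
def n30364 : Q := act 5 n14412
theorem D30364 : act 5 n14412 = n30364 := rfl
def n30365 : Q := act 7 n14412
theorem D30365 : act 7 n14412 = n30365 := rfl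
theorem F48797 : act 4 n30365 = n14416 := d11_1 D30365 (iv7 D14416) (iv4 F24064)
def n30366 : Q := act 4 n14413
theorem D30366 : act 4 n14413 = n30366 := rfl
def n30367 : Q := act 6 n14413
theorem D30367 : act 6 n14413 = n30367 := rfl
theorem F48798 : act 3 n30367 = n14640 := d7_1 D30367 (iv6 D14640) (iv3 F48511)
theorem F48799 : act 5 n30367 = n29628 := d12_1 D30367 F47590 F46675 F39560 (iv5 F48512)
theorem F48800 : act 7 n30367 = n29627 := d14_2 (iv7 F48513) D30367 F47588 (iv7 F23966) (iv6 F38653)
def n30368 : Q := act 4 n14414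
theorem D30368 : act 4 n14414 = n30368 := rfl
def n30369 : Q := act 0 n14415
theorem D30369 : act 0 n14415 = n30369 := rfl
def n30370 : Q := act 1 n14415
theorem D30370 : act 1 n14415 = n30370 := rfl
def n30371 : Q := act 4 n14415
theorem D30371 : act 4 n14415 = n30371 := rfl
theorem F48801 : act 6 n30371 = n14417 := d10_2 (iv6 F24065) D30371 (iv4 D14417)
def n30372 : Q := act 7 n14415
theorem D30372 : act 7 n14415 = n30372 := rfl
theorem F48802 : act 5 n30372 = n14416 := d13_1 D30372 (iv7 D14416) D14415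
def n30373 : Q := act 0 n14417
theorem D30373 : act 0 n14417 = n30373 := rfl
theorem F48803 : act 4 n30373 = n24984 := d18_3 (iv1 F22588) D14417 D30373 (iv5 D24984) (iv4 D11865) F18996 (iv4 D11652) F8499 D11895
theorem F48804 : act 1 n24620 = n30373 := d15_0 (iv0 D30373) (iv7 F39307) F39306
theorem F48805 : act 2 n25465 = n30373 := d1_3 F48803 F39201 D25465
def n30374 : Q := act 1 n14417
theorem D30374 : act 1 n14417 = n30374 := rfl
theorem F48806 : act 1 n30374 = n24620 := d15_1 D30374 (iv7 F39296) F39295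
theorem F48807 : act 7 n30374 = n25465 := d15_2 (iv0 D30373) D30374 F48805
theorem F48808 : act 4 n30374 = n23730 := d18_7 (iv1 F38804) F24600 F23821 F11185 D6898 D14417 D30374 F48793 F39828
def n30375 : Q := act 3 n14417
theorem D30375 : act 3 n14417 = n30375 := rfl
def n30376 : Q := act 5 n14417
theorem D30376 : act 5 n14417 = n30376 := rfl
def n30377 : Q := act 6 n14426
theorem D30377 : act 6 n14426 = n30377 := rfl
theorem F48809 : act 2 n30377 = n14429 := d3_1 D30377 (iv6 D14429) D14426
theorem F48810 : act 4 n30377 = n28280 := d10_1 D30377 (iv6 D28280) F26051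
def n30378 : Q := act 3 n14427
theorem D30378 : act 3 n14427 = n30378 := rfl
theorem F48811 : act 4 n30378 = n14433 := d5_2 D14427 D30378 (iv3 D14433) (iv4 D6902) D6901
theorem F48812 : act 7 n30378 = n28281 := d8_2 (iv7 F26043) D30378 (iv3 D28281)
def n30379 : Q := act 5 n14427
theorem D30379 : act 5 n14427 = n30379 := rfl
theorem F48813 : act 2 n30379 = n28279 := d2_1 D30379 (iv5 D28279) (iv2 F26050)
theorem F48814 : act 7 n30379 = n28282 := d13_2 (iv7 F26043) D30379 (iv5 D28282)
theorem F48815 : act 4 n30379 = n30174 := d16_2 D14427 D30379 (iv5 D30174) (iv4 D14324) (iv5 F11896) (iv4 F26078) F37471 F37470 (iv2 D14426)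
def n30380 : Q := act 6 n14427
theorem D30380 : act 6 n14427 = n30380 := rfl
theorem F48816 : act 2 n30380 = n28280 := d3_1 D30380 (iv6 D28280) (iv2 F26050)
theorem F48817 : act 4 n30380 = n14429 := d10_1 D30380 (iv6 D14429) D14427
def n30381 : Q := act 0 n14429
theorem D30381 : act 0 n14429 = n30381 := rfl
def n30382 : Q := act 1 n14429
theorem D30382 : act 1 n14429 = n30382 := rfl
def n30383 : Q := act 5 n14429
theorem D30383 : act 5 n14429 = n30383 := rfl
theorem F48818 : act 3 n30383 = n14443 := d6_1 D30383 (iv5 D14443) (iv3 F24082)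
theorem F48819 : act 6 n30383 = n29072 := d12_2 D14429 D30383 F46709 F39326 (iv5 D14428)
theorem F48820 : act 0 n30383 = n29813 := d21_4 D30067 F48319 (iv5 F46709) (iv6 F48819) (iv6 D29813) (iv5 D14165) F22915 D6849 F11106 D14272
def n30384 : Q := act 7 n14429
theorem D30384 : act 7 n14429 = n30384 := rfl
theorem F48821 : act 3 n30384 = n14444 := d8_1 D30384 (iv7 D14444) (iv3 F24082)
def n30385 : Q := act 3 n14431
theorem D30385 : act 3 n14431 = n30385 := rfl
theorem F48822 : act 4 n30385 = n24920 := d5_2 F24571 D30385 F39064 F19211 (iv3 F24569)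
def n30386 : Q := act 6 n14431
theorem D30386 : act 6 n14431 = n30386 := rfl
def n30387 : Q := act 3 n14432
theorem D30387 : act 3 n14432 = n30387 := rfl
def n30388 : Q := act 0 n14433
theorem D30388 : act 0 n14433 = n30388 := rfl
def n30389 : Q := act 1 n14433
theorem D30389 : act 1 n14433 = n30389 := rfl
def n30390 : Q := act 2 n14433
theorem D30390 : act 2 n14433 = n30390 := rfl
def n30391 : Q := act 5 n14433
theorem D30391 : act 5 n14433 = n30391 := rfl
theorem F48823 : act 3 n30391 = n14434 := d6_1 D30391 (iv5 D14434) D14433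
def n30392 : Q := act 6 n14433
theorem D30392 : act 6 n14433 = n30392 := rfl
theorem F48824 : act 3 n30392 = n14435 := d7_1 D30392 (iv6 D14435) D14433
def n30393 : Q := act 0 n14434
theorem D30393 : act 0 n14434 = n30393 := rfl
theorem F48825 : act 5 n30393 = n30150 := d17_3 (iv1 D14432) D14434 D30393 F48484 (iv5 F38717) F39876 F39871 (iv0 F38871) F38870
theorem F48826 : act 1 n14450 = n30393 := d15_0 (iv0 D30393) (iv7 F48540) F48539
theorem F48827 : act 2 n30308 = n30393 := d2_3 F48825 (iv2 F48485) D30308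
theorem F48828 : act 7 n30304 = n30393 := d13_0 F48825 F48483 D30304
def n30394 : Q := act 1 n14434
theorem D30394 : act 1 n14434 = n30394 := rfl
theorem F48829 : act 1 n30394 = n14450 := d15_1 D30394 (iv7 F48526) F48525
theorem F48830 : act 7 n30394 = n30308 := d15_2 (iv0 D30393) D30394 F48827
theorem F48831 : act 5 n30394 = n30149 := d17_7 F22436 (iv5 D11663) (iv1 F22597) (iv5 D6903) D6902 D14434 D30394 (iv0 D30149) (iv4 D14311)
theorem F48832 : act 2 n30304 = n30394 := d2_3 F48831 (iv2 F48480) D30304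
def n30395 : Q := act 6 n14434
theorem D30395 : act 6 n14434 = n30395 := rfl
def n30396 : Q := act 0 n14435
theorem D30396 : act 0 n14435 = n30396 := rfl
def n30397 : Q := act 1 n14435
theorem D30397 : act 1 n14435 = n30397 := rfl
def n30398 : Q := act 5 n14435
theorem D30398 : act 5 n14435 = n30398 := rfl
def n30399 : Q := act 7 n14435
theorem D30399 : act 7 n14435 = n30399 := rfl
theorem F48833 : act 4 n30399 = n14444 := d11_1 D30399 (iv7 D14444) (iv4 F24085)
def n30400 : Q := act 6 n14438
theorem D30400 : act 6 n14438 = n30400 := rfl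
theorem F48834 : act 2 n30400 = n25057 := d3_1 D30400 F39326 F26047
theorem F48835 : act 3 n30400 = n24123 := d7_1 D30400 (iv6 F40133) F40131
theorem F48836 : act 4 n30400 = n14439 := d10_1 D30400 (iv6 D14439) D14438
theorem F48837 : act 7 n30400 = n24118 := d14_2 (iv7 F26079) D30400 (iv6 D24118) (iv7 F26035) D16495
theorem F48838 : act 0 n30400 = n23713 := d21_4 D14204 (iv1 F26044) (iv5 F26046) D30400 (iv6 D23713) D23712 F36879 (iv5 D14408) (iv6 D6893) (iv1 F11149)
theorem F48839 : act 5 n30400 = n29958 := d21_6 D14408 F26049 (iv5 D11866) D11867 (iv1 F26048) D30400 (iv1 F48160) (iv5 D14270) D14271 F23821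
theorem F48840 : act 0 n30060 = n30400 := d21_4 D6892 (iv1 F24008) (iv5 F39212) (iv6 F48296) (iv6 D30400) F26046 (iv1 F26045) (iv5 D14369) F11146 (iv1 F11143)
def n30401 : Q := act 2 n14441
theorem D30401 : act 2 n14441 = n30401 := rfl
theorem F48841 : act 7 n14442 = n30401 := d15_2 (iv0 D14441) D14442 (iv2 D30401)
def n30402 : Q := act 3 n14441
theorem D30402 : act 3 n14441 = n30402 := rfl
def n30403 : Q := act 4 n14441
theorem D30403 : act 4 n14441 = n30403 := rfl
def n30404 : Q := act 5 n14441
theorem D30404 : act 5 n14441 = n30404 := rfl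
def n30405 : Q := act 6 n14441
theorem D30405 : act 6 n14441 = n30405 := rfl
def n30406 : Q := act 7 n14441
theorem D30406 : act 7 n14441 = n30406 := rfl
theorem F48842 : act 2 n30406 = n14442 := d4_1 D30406 F48841 (iv2 D30401)
def n30407 : Q := act 3 n14442
theorem D30407 : act 3 n14442 = n30407 := rfl
def n30408 : Q := act 4 n14442
theorem D30408 : act 4 n14442 = n30408 := rfl
def n30409 : Q := act 5 n14442
theorem D30409 : act 5 n14442 = n30409 := rfl
theorem F48843 : act 6 n30134 = n30409 := d21_5 (iv5 D6800) (iv1 F4815) (iv5 F11075) D14303 D30134 (iv5 D30409) (iv1 D14442) D14443 F24099 (iv1 F23116)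
def n30410 : Q := act 6 n14442
theorem D30410 : act 6 n14442 = n30410 := rfl
def n30411 : Q := act 4 n14443
theorem D30411 : act 4 n14443 = n30411 := rfl
theorem F48844 : act 6 n30411 = n29073 := d10_2 (iv6 F24099) D30411 (iv4 D29073)
def n30412 : Q := act 7 n14443
theorem D30412 : act 7 n14443 = n30412 := rfl
theorem F48845 : act 5 n30412 = n14444 := d13_1 D30412 (iv7 D14444) D14443
def n30413 : Q := act 6 n14446
theorem D30413 : act 6 n14446 = n30413 := rfl
theorem F48846 : act 2 n30413 = n14448 := d3_1 D30413 (iv6 D14448) D14446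
def n30414 : Q := act 3 n14447
theorem D30414 : act 3 n14447 = n30414 := rfl
theorem F48847 : act 4 n30414 = n14449 := d5_2 D14447 D30414 (iv3 D14449) (iv4 D6907) D6906
def n30415 : Q := act 5 n14447
theorem D30415 : act 5 n14447 = n30415 := rfl
def n30416 : Q := act 6 n14447
theorem D30416 : act 6 n14447 = n30416 := rfl
theorem F48848 : act 4 n30416 = n14448 := d10_1 D30416 (iv6 D14448) D14447
def n30417 : Q := act 0 n14448
theorem D30417 : act 0 n14448 = n30417 := rfl
def n30418 : Q := act 1 n14448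
theorem D30418 : act 1 n14448 = n30418 := rfl
def n30419 : Q := act 7 n14448
theorem D30419 : act 7 n14448 = n30419 := rfl
theorem F48849 : act 3 n30419 = n14456 := d8_1 D30419 (iv7 D14456) (iv3 F24102)
def n30420 : Q := act 0 n14449
theorem D30420 : act 0 n14449 = n30420 := rfl
def n30421 : Q := act 1 n14449
theorem D30421 : act 1 n14449 = n30421 := rfl
def n30422 : Q := act 2 n14449
theorem D30422 : act 2 n14449 = n30422 := rfl
def n30423 : Q := act 5 n14449
theorem D30423 : act 5 n14449 = n30423 := rfl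
theorem F48850 : act 3 n30423 = n14450 := d6_1 D30423 (iv5 D14450) D14449
def n30424 : Q := act 6 n14449
theorem D30424 : act 6 n14449 = n30424 := rfl
theorem F48851 : act 3 n30424 = n14451 := d7_1 D30424 (iv6 D14451) D14449
def n30425 : Q := act 6 n14450
theorem D30425 : act 6 n14450 = n30425 := rfl
def n30426 : Q := act 0 n14451
theorem D30426 : act 0 n14451 = n30426 := rfl
def n30427 : Q := act 1 n14451
theorem D30427 : act 1 n14451 = n30427 := rfl
def n30428 : Q := act 5 n14451
theorem D30428 : act 5 n14451 = n30428 := rfl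
def n30429 : Q := act 7 n14451
theorem D30429 : act 7 n14451 = n30429 := rfl
theorem F48852 : act 4 n30429 = n14456 := d11_1 D30429 (iv7 D14456) (iv4 F24103)
def n30430 : Q := act 2 n14453
theorem D30430 : act 2 n14453 = n30430 := rfl
theorem F48853 : act 7 n14454 = n30430 := d15_2 (iv0 D14453) D14454 (iv2 D30430)
def n30431 : Q := act 3 n14453
theorem D30431 : act 3 n14453 = n30431 := rfl
def n30432 : Q := act 4 n14453
theorem D30432 : act 4 n14453 = n30432 := rfl
def n30433 : Q := act 5 n14453
theorem D30433 : act 5 n14453 = n30433 := rfl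
def n30434 : Q := act 6 n14453
theorem D30434 : act 6 n14453 = n30434 := rfl
def n30435 : Q := act 7 n14453
theorem D30435 : act 7 n14453 = n30435 := rfl
theorem F48854 : act 2 n30435 = n14454 := d4_1 D30435 F48853 (iv2 D30430)
def n30436 : Q := act 3 n14454
theorem D30436 : act 3 n14454 = n30436 := rfl
def n30437 : Q := act 4 n14454
theorem D30437 : act 4 n14454 = n30437 := rfl
def n30438 : Q := act 5 n14454
theorem D30438 : act 5 n14454 = n30438 := rfl
def n30439 : Q := act 6 n14454
theorem D30439 : act 6 n14454 = n30439 := rfl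
def n30440 : Q := act 0 n14455
theorem D30440 : act 0 n14455 = n30440 := rfl
theorem F48855 : act 6 n30440 = n30329 := d21_5 (iv5 D7654) D7652 D16488 F26058 D30440 (iv5 D30329) (iv1 D14389) D14390 F24030 F11886
theorem F48856 : act 5 n30440 = n30223 := d21_0 (iv1 D30223) (iv5 F40754) (iv6 D25789) (iv1 D12246) (iv6 F11885) (iv5 D7654) D7652 D16488 F26058 D30440
def n30441 : Q := act 1 n14455
theorem D30441 : act 1 n14455 = n30441 := rfl
theorem F48857 : act 5 n30222 = n30441 := d21_0 (iv1 D30441) (iv5 D14455) (iv6 D6909) (iv1 D3108) (iv6 F4835) (iv5 D3095) D3093 D6852 D14346 D30222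
def n30442 : Q := act 4 n14455
theorem D30442 : act 4 n14455 = n30442 := rfl
def n30443 : Q := act 7 n14455
theorem D30443 : act 7 n14455 = n30443 := rfl
theorem F48858 : act 5 n30443 = n14456 := d13_1 D30443 (iv7 D14456) D14455
def n30444 : Q := act 0 n14458
theorem D30444 : act 0 n14458 = n30444 := rfl
def n30445 : Q := act 1 n14458
theorem D30445 : act 1 n14458 = n30445 := rfl
def n30446 : Q := act 2 n14458
theorem D30446 : act 2 n14458 = n30446 := rfl
def n30447 : Q := act 4 n14458
theorem D30447 : act 4 n14458 = n30447 := rfl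
def n30448 : Q := act 5 n14458
theorem D30448 : act 5 n14458 = n30448 := rfl
theorem F48859 : act 3 n30448 = n14460 := d6_1 D30448 (iv5 D14460) D14458
def n30449 : Q := act 6 n14458
theorem D30449 : act 6 n14458 = n30449 := rfl
theorem F48860 : act 3 n30449 = n14461 := d7_1 D30449 (iv6 D14461) D14458
def n30450 : Q := act 3 n14459
theorem D30450 : act 3 n14459 = n30450 := rfl
theorem F48861 : act 2 n30450 = n28711 := d0_1 D30450 (iv3 F46302) F37090 D23805 F37123
theorem F48862 : act 7 n30450 = n28712 := d8_2 F48555 D30450 (iv3 F48558)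
theorem F48863 : act 0 n30450 = n14776 := d20_4 D3109 D6910 D14459 D30450 F24414 D14778 F24420 (iv4 D14447) (iv3 D6906) (iv1 D3108)
theorem F48864 : act 4 n30450 = n29913 := d20_6 D23996 F37514 (iv4 D11769) (iv3 F19118) (iv1 F24109) D30450 (iv1 F48051) F37771 F18496 (iv1 F18296)
theorem F48865 : act 3 n30447 = n29913 := d5_5 (iv4 F48864) (iv3 D30450) (iv4 D14459) D14458 D30447
theorem F48866 : act 0 n24412 = n30450 := d20_4 D12266 (iv1 F40813) (iv4 F40814) (iv3 F38277) (iv3 D30450) (iv4 D14459) (iv1 F23942) F23939 (iv3 F20295) (iv1 F20297)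
def n30451 : Q := act 6 n14459
theorem D30451 : act 6 n14459 = n30451 := rfl
theorem F48867 : act 4 n30451 = n14461 := d10_1 D30451 (iv6 D14461) D14459
def n30452 : Q := act 0 n14460
theorem D30452 : act 0 n14460 = n30452 := rfl
theorem F48868 : act 5 n30452 = n30148 := d17_3 D6910 D14460 D30452 (iv4 D30148) (iv5 F24090) (iv0 D14437) (iv5 D6903) (iv0 D3107) D3109
theorem F48869 : act 1 n14465 = n30452 := d15_0 (iv0 D30452) (iv7 F48561) F48560
theorem F48870 : act 2 n30300 = n30452 := d2_3 F48868 F48476 D30300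
theorem F48871 : act 7 n30294 = n30452 := d13_0 F48868 F48477 D30294
def n30453 : Q := act 1 n14460
theorem D30453 : act 1 n14460 = n30453 := rfl
theorem F48872 : act 1 n30453 = n14465 := d15_1 D30453 (iv7 F48551) F48550
theorem F48873 : act 7 n30453 = n30300 := d15_2 (iv0 D30452) D30453 F48870
theorem F48874 : act 2 n30294 = n30453 := d4_3 F48873 F48870 (iv7 F48871)
theorem F48875 : act 5 n24630 = n30453 := d13_3 F48873 (iv5 D30300) (iv7 F38632)
def n30454 : Q := act 6 n14460
theorem D30454 : act 6 n14460 = n30454 := rfl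
def n30455 : Q := act 0 n14461
theorem D30455 : act 0 n14461 = n30455 := rfl
def n30456 : Q := act 1 n14461
theorem D30456 : act 1 n14461 = n30456 := rfl
def n30457 : Q := act 5 n14461
theorem D30457 : act 5 n14461 = n30457 := rfl
def n30458 : Q := act 7 n14461
theorem D30458 : act 7 n14461 = n30458 := rfl
def n30459 : Q := act 0 n14463
theorem D30459 : act 0 n14463 = n30459 := rfl
def n30460 : Q := act 1 n14463
theorem D30460 : act 1 n14463 = n30460 := rfl
def n30461 : Q := act 2 n14463
theorem D30461 : act 2 n14463 = n30461 := rfl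
def n30462 : Q := act 4 n14463
theorem D30462 : act 4 n14463 = n30462 := rfl
def n30463 : Q := act 5 n14463
theorem D30463 : act 5 n14463 = n30463 := rfl
theorem F48876 : act 3 n30463 = n14465 := d6_1 D30463 (iv5 D14465) D14463
def n30464 : Q := act 6 n14463
theorem D30464 : act 6 n14463 = n30464 := rfl
theorem F48877 : act 3 n30464 = n14466 := d7_1 D30464 (iv6 D14466) D14463
def n30465 : Q := act 6 n14464
theorem D30465 : act 6 n14464 = n30465 := rfl
theorem F48878 : act 4 n30465 = n14466 := d10_1 D30465 (iv6 D14466) D14464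
def n30466 : Q := act 6 n14465
theorem D30466 : act 6 n14465 = n30466 := rfl
def n30467 : Q := act 0 n14466
theorem D30467 : act 0 n14466 = n30467 := rfl
def n30468 : Q := act 1 n14466
theorem D30468 : act 1 n14466 = n30468 := rfl
def n30469 : Q := act 5 n14466
theorem D30469 : act 5 n14466 = n30469 := rfl
def n30470 : Q := act 7 n14466
theorem D30470 : act 7 n14466 = n30470 := rfl
def n30471 : Q := act 0 n14467
theorem D30471 : act 0 n14467 = n30471 := rfl
theorem F48879 : act 2 n14471 = n30471 := d15_3 (iv0 D30471) (iv0 D14467) D14471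
theorem F48880 : act 4 n30471 = n14737 := d1_2 (iv4 F24114) F48879 (iv2 F24394)
theorem F48881 : act 7 n30471 = n14469 := d4_2 D14471 F48879 (iv2 D14469)
theorem F48882 : act 1 n14468 = n30471 := d15_1 D14468 F48881 (iv2 D14469)
def n30472 : Q := act 2 n14467
theorem D30472 : act 2 n14467 = n30472 := rfl
theorem F48883 : act 7 n14468 = n30472 := d15_2 (iv0 D14467) D14468 (iv2 D30472)
def n30473 : Q := act 3 n14467
theorem D30473 : act 3 n14467 = n30473 := rfl
def n30474 : Q := act 4 n14467
theorem D30474 : act 4 n14467 = n30474 := rfl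
def n30475 : Q := act 5 n14467
theorem D30475 : act 5 n14467 = n30475 := rfl
def n30476 : Q := act 6 n14467
theorem D30476 : act 6 n14467 = n30476 := rfl
def n30477 : Q := act 7 n14467
theorem D30477 : act 7 n14467 = n30477 := rfl
theorem F48884 : act 2 n30477 = n14468 := d4_1 D30477 F48883 (iv2 D30472)
def n30478 : Q := act 3 n14468
theorem D30478 : act 3 n14468 = n30478 := rfl
def n30479 : Q := act 4 n14468
theorem D30479 : act 4 n14468 = n30479 := rfl
theorem F48885 : act 3 n28338 = n30479 := d20_5 (iv4 F8236) (iv1 F7594) (iv4 F10470) (iv3 F22665) (iv1 F45841) (iv4 D30479) (iv1 D14468) F11188 (iv3 D3174) D3172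
def n30480 : Q := act 5 n14468
theorem D30480 : act 5 n14468 = n30480 := rfl
def n30481 : Q := act 6 n14468
theorem D30481 : act 6 n14468 = n30481 := rfl
def n30482 : Q := act 0 n14469
theorem D30482 : act 0 n14469 = n30482 := rfl
theorem F48886 : act 1 n14471 = n30482 := d15_0 (iv0 D30482) (iv7 F48881) (iv2 F48879)
theorem F48887 : act 4 n28328 = n30482 := d20_6 F9004 (iv1 D2826) D2827 D6428 D13518 D28328 (iv1 F48886) F24114 F11278 (iv1 F9002)
def n30483 : Q := act 1 n14469
theorem D30483 : act 1 n14469 = n30483 := rfl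
theorem F48888 : act 1 n30483 = n14471 := d15_1 D30483 (iv7 D14471) D14469
def n30484 : Q := act 5 n14469
theorem D30484 : act 5 n14469 = n30484 := rfl
theorem F48889 : act 2 n30484 = n14470 := d2_1 D30484 (iv5 D14470) D14469
def n30485 : Q := act 0 n14470
theorem D30485 : act 0 n14470 = n30485 := rfl
def n30486 : Q := act 1 n14470
theorem D30486 : act 1 n14470 = n30486 := rfl
def n30487 : Q := act 4 n14470
theorem D30487 : act 4 n14470 = n30487 := rfl
def n30488 : Q := act 6 n14470
theorem D30488 : act 6 n14470 = n30488 := rfl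
theorem F48890 : act 3 n30488 = n14475 := d7_1 D30488 (iv6 D14475) (iv3 F24112)
def n30489 : Q := act 7 n14470
theorem D30489 : act 7 n14470 = n30489 := rfl
theorem F48891 : act 3 n30489 = n14476 := d8_1 D30489 (iv7 D14476) (iv3 F24112)
theorem F48892 : act 5 n30489 = n14471 := d13_1 D30489 (iv7 D14471) D14470
def n30490 : Q := act 6 n14471
theorem D30490 : act 6 n14471 = n30490 := rfl
theorem F48893 : act 3 n30490 = n14477 := d7_1 D30490 (iv6 D14477) (iv3 F24113)
theorem F48894 : act 4 n30490 = n14755 := d10_1 D30490 (iv6 D14755) (iv4 F24114)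
def n30491 : Q := act 2 n14472
theorem D30491 : act 2 n14472 = n30491 := rfl
theorem F48895 : act 7 n14473 = n30491 := d15_2 (iv0 D14472) D14473 (iv2 D30491)
def n30492 : Q := act 3 n14472
theorem D30492 : act 3 n14472 = n30492 := rfl
def n30493 : Q := act 6 n14472
theorem D30493 : act 6 n14472 = n30493 := rfl
def n30494 : Q := act 7 n14472
theorem D30494 : act 7 n14472 = n30494 := rfl
theorem F48896 : act 2 n30494 = n14473 := d4_1 D30494 F48895 (iv2 D30491)
def n30495 : Q := act 3 n14473
theorem D30495 : act 3 n14473 = n30495 := rfl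
def n30496 : Q := act 6 n14473
theorem D30496 : act 6 n14473 = n30496 := rfl
def n30497 : Q := act 3 n14474
theorem D30497 : act 3 n14474 = n30497 := rfl
def n30498 : Q := act 6 n14474
theorem D30498 : act 6 n14474 = n30498 := rfl
theorem F48897 : act 4 n30498 = n14475 := d10_1 D30498 (iv6 D14475) D14474
def n30499 : Q := act 0 n14475
theorem D30499 : act 0 n14475 = n30499 := rfl
def n30500 : Q := act 1 n14475
theorem D30500 : act 1 n14475 = n30500 := rfl
def n30501 : Q := act 7 n14475
theorem D30501 : act 7 n14475 = n30501 := rfl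
def n30502 : Q := act 6 n14476
theorem D30502 : act 6 n14476 = n30502 := rfl
def n30503 : Q := act 0 n14477
theorem D30503 : act 0 n14477 = n30503 := rfl
def n30504 : Q := act 1 n14477
theorem D30504 : act 1 n14477 = n30504 := rfl
def n30505 : Q := act 5 n14477
theorem D30505 : act 5 n14477 = n30505 := rfl
def n30506 : Q := act 2 n14478
theorem D30506 : act 2 n14478 = n30506 := rfl
theorem F48898 : act 7 n14479 = n30506 := d15_2 (iv0 D14478) D14479 (iv2 D30506)
def n30507 : Q := act 3 n14478
theorem D30507 : act 3 n14478 = n30507 := rfl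
def n30508 : Q := act 4 n14478
theorem D30508 : act 4 n14478 = n30508 := rfl
def n30509 : Q := act 5 n14478
theorem D30509 : act 5 n14478 = n30509 := rfl
theorem F48899 : act 0 n30330 = n30509 := d21_10 (iv5 D30509) (iv1 F48471) F48468 (iv6 D30145) (iv1 F23911) D14353 (iv5 F37825) F48756 (iv5 D30329) D30330
def n30510 : Q := act 6 n14478
theorem D30510 : act 6 n14478 = n30510 := rfl
theorem F48900 : act 5 n30510 = n30082 := d21_6 (iv5 D6834) (iv1 F4821) (iv5 F4841) D6915 D14478 D30510 (iv1 D30082) D30083 F48345 (iv1 D14310)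
theorem E5065 : n30302 = n30228 := ((c21_11 F48734 (iv1 F48343) (iv5 F48900) (iv6 D30510) (iv1 F48471) (iv6 D30145) F23910 (iv1 F11087) D6854 D14348 D30228)).symm
theorem F48901 : act 3 n30228 = n14499 := (sb E5065 F48733)
theorem F48902 : act 5 n30228 = n30008 := (sb E5065 F48734)
theorem F48903 : act 7 n30228 = n14382 := (sb E5065 (iv7 D30302))
def n30511 : Q := act 7 n14478
theorem D30511 : act 7 n14478 = n30511 := rfl
theorem F48904 : act 2 n30511 = n14479 := d4_1 D30511 F48898 (iv2 D30506)
def n30512 : Q := act 3 n14479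
theorem D30512 : act 3 n14479 = n30512 := rfl
def n30513 : Q := act 4 n14479
theorem D30513 : act 4 n14479 = n30513 := rfl
def n30514 : Q := act 5 n14479
theorem D30514 : act 5 n14479 = n30514 := rfl
theorem F48905 : act 6 n30296 = n30514 := d21_5 (iv5 F11896) (iv1 F22529) F22549 D14380 D30296 (iv5 D30514) (iv1 D14479) F11191 (iv6 D6915) (iv1 F11092)
def n30515 : Q := act 6 n14479
theorem D30515 : act 6 n14479 = n30515 := rfl
theorem F48906 : act 5 n30515 = n24653 := d21_6 (iv5 D6852) (iv1 F11088) (iv5 F23910) D30145 (iv1 F48470) D30515 (iv1 D24653) D24654 F38653 (iv1 D14344)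
def n30516 : Q := act 4 n14480
theorem D30516 : act 4 n14480 = n30516 := rfl
theorem F48907 : act 2 n30516 = n29969 := d1_1 D30516 (iv4 D29969) F24119
def n30517 : Q := act 6 n14480
theorem D30517 : act 6 n14480 = n30517 := rfl
theorem F48908 : act 2 n30517 = n29967 := d3_1 D30517 F48173 F24119
theorem F48909 : act 3 n30517 = n28995 := d7_1 D30517 (iv6 D28995) F24120
theorem F48910 : act 5 n30517 = n29922 := d12_1 D30517 (iv6 D29922) (iv5 D14209) F20350 (iv5 F24117)
def n30518 : Q := act 4 n14481
theorem D30518 : act 4 n14481 = n30518 := rfl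
theorem F48911 : act 7 n30518 = n29969 := d11_2 (iv7 F24122) D30518 (iv4 D29969)
def n30519 : Q := act 0 n14482
theorem D30519 : act 0 n14482 = n30519 := rfl
theorem F48912 : act 4 n30519 = n29796 := d18_3 (iv1 D14481) D14482 D30519 F47952 F38327 F40227 F20009 D12279 F24123
theorem F48913 : act 1 n24940 = n30519 := d15_0 (iv0 D30519) (iv7 F26145) (iv2 F39095)
def n30520 : Q := act 1 n14482
theorem D30520 : act 1 n14482 = n30520 := rfl
theorem F48914 : act 1 n30520 = n24940 := d15_1 D30520 F39096 F39071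
theorem F48915 : act 4 n30520 = n29797 := d18_7 F22921 F8441 (iv1 F19514) F10753 D6916 D14482 D30520 F47954 (iv5 D14168)
def n30521 : Q := act 3 n14482
theorem D30521 : act 3 n14482 = n30521 := rfl
theorem F48916 : act 4 n30521 = n14486 := d5_2 D14482 D30521 (iv3 D14486) (iv4 D6919) (iv3 F11192)
def n30522 : Q := act 5 n14482
theorem D30522 : act 5 n14482 = n30522 := rfl
def n30523 : Q := act 6 n14482
theorem D30523 : act 6 n14482 = n30523 := rfl
theorem F48917 : act 4 n30523 = n14483 := d10_1 D30523 (iv6 D14483) D14482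
def n30524 : Q := act 0 n14483
theorem D30524 : act 0 n14483 = n30524 := rfl
def n30525 : Q := act 1 n14483
theorem D30525 : act 1 n14483 = n30525 := rfl
def n30526 : Q := act 7 n14483
theorem D30526 : act 7 n14483 = n30526 := rfl
theorem F48918 : act 3 n30526 = n14491 := d8_1 D30526 (iv7 D14491) (iv3 F24124)
theorem F48919 : act 5 n30526 = n14694 := d13_1 D30526 (iv7 D14694) (iv5 F24125)
def n30527 : Q := act 3 n14484
theorem D30527 : act 3 n14484 = n30527 := rfl
theorem F48920 : act 7 n30527 = n29640 := d8_2 (iv7 F24126) D30527 (iv3 D29640)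
def n30528 : Q := act 3 n14485
theorem D30528 : act 3 n14485 = n30528 := rfl
theorem F48921 : act 7 n30528 = n28882 := d8_2 (iv7 F24130) D30528 (iv3 D28882)
def n30529 : Q := act 5 n14485
theorem D30529 : act 5 n14485 = n30529 := rfl
theorem F48922 : act 2 n30529 = n29731 := d2_1 D30529 F47789 (iv2 F26117)
theorem F48923 : act 4 n30529 = n14906 := d9_1 D30529 F24548 F11973 F7938 F7732 D6655 D13998 (iv5 F46858) (iv4 D29207) (iv5 D13893) F10700 (iv5 F7942) F5077 D7070 (iv4 F24131)
theorem F48924 : act 7 n30529 = n28883 := d13_2 (iv7 F24130) D30529 (iv5 D28883)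
theorem F48925 : act 0 n30529 = n16546 := d17_2 (iv1 F24129) D30529 (iv5 D16546) (iv4 D7686) (iv5 F5470) D5829 (iv5 F11198) F11196 D6925
theorem F48926 : act 1 n30529 = n16538 := d17_6 D5349 (iv5 F9050) (iv1 F9052) D7070 (iv4 F24131) D30529 (iv5 D16538) F11936 (iv4 D5350)
theorem E5066 : n25912 = n14948 := ((c21_4 D16538 (iv1 F48926) (iv5 D30529) (iv6 F24611) (iv1 D25912) (iv6 D12297) D12296 F20398 (iv5 D11168) (iv6 F8136) (iv1 F11936))).symm
theorem F48927 : act 0 n14948 = n12297 := (sb E5066 (iv1 D25912))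
theorem F48928 : act 1 n14948 = n14637 := (sb E5066 F40951)
theorem E5067 : n25911 = n14945 := (c15_2 F48928 F40956 (iv7 F47796) F47793)
theorem F48929 : act 0 n14945 = n14637 := (sb E5067 (iv1 F40956))
theorem F48930 : act 1 n14945 = n12297 := (sb E5067 (iv0 D25911))
theorem E5068 : n24704 = n24670 := ((c18_2 (iv1 F19690) D24670 (iv1 D24704) F19022 (iv5 F11440) D14948 F48928 F24318 F20404 (iv5 F20407))).symm
theorem F48931 : act 0 n24670 = n11693 := (sb E5068 (iv1 D24704))
theorem F48932 : act 1 n24670 = n25166 := (sb E5068 F39605)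
theorem E5069 : n24703 = n24666 := (c15_2 F48932 F39606 (iv7 F39532) F39546)
theorem F48933 : act 0 n24666 = n25166 := (sb E5069 (iv1 F39606))
theorem F48934 : act 1 n24666 = n11693 := (sb E5069 (iv0 D24703))
def n30530 : Q := act 0 n14486
theorem D30530 : act 0 n14486 = n30530 := rfl
def n30531 : Q := act 1 n14486
theorem D30531 : act 1 n14486 = n30531 := rfl
def n30532 : Q := act 2 n14486
theorem D30532 : act 2 n14486 = n30532 := rfl
def n30533 : Q := act 5 n14486
theorem D30533 : act 5 n14486 = n30533 := rfl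
theorem F48935 : act 3 n30533 = n14487 := d6_1 D30533 (iv5 D14487) D14486
def n30534 : Q := act 6 n14486
theorem D30534 : act 6 n14486 = n30534 := rfl
theorem F48936 : act 3 n30534 = n14488 := d7_1 D30534 (iv6 D14488) D14486
def n30535 : Q := act 6 n14487
theorem D30535 : act 6 n14487 = n30535 := rfl
theorem F48937 : act 4 n30535 = n24290 := d10_1 D30535 (iv6 D24290) (iv4 F24132)
def n30536 : Q := act 0 n14488
theorem D30536 : act 0 n14488 = n30536 := rfl
def n30537 : Q := act 1 n14488
theorem D30537 : act 1 n14488 = n30537 := rfl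
def n30538 : Q := act 5 n14488
theorem D30538 : act 5 n14488 = n30538 := rfl
def n30539 : Q := act 7 n14488
theorem D30539 : act 7 n14488 = n30539 := rfl
theorem F48938 : act 4 n30539 = n14491 := d11_1 D30539 (iv7 D14491) (iv4 F24135)
def n30540 : Q := act 2 n14489
theorem D30540 : act 2 n14489 = n30540 := rfl
theorem F48939 : act 6 n30540 = n14586 := d3_2 (iv6 F24136) D30540 (iv2 D14586)
theorem F48940 : act 7 n14490 = n30540 := d15_2 (iv0 D14489) D14490 (iv2 D30540)
def n30541 : Q := act 3 n14489
theorem D30541 : act 3 n14489 = n30541 := rfl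
theorem F48941 : act 6 n30541 = n14587 := d7_2 (iv6 F24136) D30541 (iv3 D14587)
def n30542 : Q := act 4 n14489
theorem D30542 : act 4 n14489 = n30542 := rfl
theorem F48942 : act 6 n30542 = n14588 := d10_2 (iv6 F24136) D30542 (iv4 D14588)
def n30543 : Q := act 7 n14489
theorem D30543 : act 7 n14489 = n30543 := rfl
theorem F48943 : act 2 n30543 = n14490 := d4_1 D30543 F48940 (iv2 D30540)
theorem F48944 : act 5 n30543 = n30540 := d13_1 D30543 (iv7 F48940) (iv5 F24137)
def n30544 : Q := act 3 n14490
theorem D30544 : act 3 n14490 = n30544 := rfl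
theorem F48945 : act 5 n30544 = n30541 := d6_2 F24137 D30544 (iv3 D30541)
def n30545 : Q := act 4 n14490
theorem D30545 : act 4 n14490 = n30545 := rfl
def n30546 : Q := act 6 n14490
theorem D30546 : act 6 n14490 = n30546 := rfl
theorem F48946 : act 5 n30546 = n14592 := d12_1 D30546 (iv6 D14592) (iv5 F11234) (iv6 F24136) F24137
theorem F48947 : act 7 n30546 = n14592 := d14_2 (iv7 F48940) D30546 (iv6 D14592) F24243 (iv6 F48939)
theorem F48948 : act 0 n30546 = n26027 := d21_10 (iv5 D26027) (iv1 D12334) F9015 (iv6 D5850) (iv1 F3835) D3171 (iv5 F11199) D14489 F24137 D30546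
theorem F48949 : act 0 n26023 = n30546 := d21_4 D25944 F48219 F48216 F46743 (iv6 D30546) (iv5 F24137) (iv1 F26135) F26130 F20444 (iv1 F20420)
theorem F48950 : act 2 n14592 = n25890 := d15_3 F41138 (iv0 F48948) F48947
theorem E5070 : n25887 = n6969 := (c3_4 D14592 F48950 (iv6 D25890) (iv2 F40895))
theorem E5071 : n14589 = n12287 := (((iv2 F24244)).symm.trans (sb E5070 F40895))
theorem E5072 : n25884 = n6968 := ((((iv5 F11234)).symm.trans (sb E5070 F40896))).symm
theorem E5073 : n14586 = n12286 := ((F24243).symm.trans (sb E5070 (iv7 D25887)))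
theorem F48951 : act 2 n12287 = n6969 := (sb E5071 F24244)
theorem F48952 : act 7 n6968 = n12287 := (sb E5072 (iv7 F40894))
theorem F48953 : act 2 n12286 = n6968 := (sb E5073 (iv2 D14586))
theorem E5074 : n30540 = n16522 := ((((iv6 F26126)).symm.trans (sb E5073 (iv6 F48939)))).symm
theorem F48954 : act 7 n12286 = n6969 := (sb E5073 (iv7 F24243))
theorem F48955 : act 2 n16522 = n14489 := (sb E5074 (iv2 D30540))
theorem E5075 : n30543 = n16523 := (((F26128).symm.trans (sb E5074 (iv5 F48944)))).symm
theorem F48956 : act 7 n16522 = n14490 := (sb E5074 (iv7 F48940))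
theorem F48957 : act 2 n16523 = n14490 := (sb E5075 F48943)
theorem F48958 : act 7 n16523 = n14489 := (sb E5075 (iv7 D30543))
theorem F48959 : act 7 n14590 = n25885 := d8_2 F48954 D14590 (iv3 D25885)
theorem F48960 : act 7 n14591 = n25886 := d11_2 F48954 D14591 (iv4 D25886)
theorem F48961 : act 7 n25888 = n14587 := d13_2 F48959 (iv5 F40897) (iv5 F24246)
theorem F48962 : act 2 n14588 = n25886 := d1_3 (iv4 D25886) F48953 D14588
theorem F48963 : act 7 n25889 = n14588 := d11_2 F48952 D25889 (iv4 D14588)
theorem F48964 : act 2 n14591 = n25889 := d4_3 F48963 F48962 (iv7 F48960)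
def n30547 : Q := act 4 n14492
theorem D30547 : act 4 n14492 = n30547 := rfl
theorem F48965 : act 0 n30547 = n29934 := d18_2 D14492 D30547 (iv4 D29934) (iv5 D14215) F19517 (iv0 D11511) F8191 (iv0 F19449) D6923
theorem F48966 : act 0 n29938 = n30547 := d20_7 D24112 (iv1 F46407) (iv4 D28768) (iv3 F46394) (iv1 F48126) F48124 D29938 (iv4 D30547) (iv3 F37780) (iv1 D24111)
def n30548 : Q := act 0 n14493
theorem D30548 : act 0 n14493 = n30548 := rfl
theorem F48967 : act 1 n24420 = n30548 := d15_0 (iv0 D30548) (iv7 F26111) (iv2 F38299)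
def n30549 : Q := act 1 n14493
theorem D30549 : act 1 n14493 = n30549 := rfl
theorem F48968 : act 1 n30549 = n24420 := d15_1 D30549 (iv7 F38339) F38338
def n30550 : Q := act 3 n14493
theorem D30550 : act 3 n14493 = n30550 := rfl
theorem F48969 : act 4 n30550 = n14496 := d5_2 D14493 D30550 (iv3 D14496) (iv4 D6925) (iv3 F11200)
def n30551 : Q := act 5 n14493
theorem D30551 : act 5 n14493 = n30551 := rfl
def n30552 : Q := act 6 n14493
theorem D30552 : act 6 n14493 = n30552 := rfl
theorem F48970 : act 4 n30552 = n14494 := d10_1 D30552 (iv6 D14494) D14493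
def n30553 : Q := act 0 n14494
theorem D30553 : act 0 n14494 = n30553 := rfl
def n30554 : Q := act 7 n14494
theorem D30554 : act 7 n14494 = n30554 := rfl
theorem F48971 : act 3 n30554 = n14500 := d8_1 D30554 (iv7 D14500) (iv3 F24140)
theorem F48972 : act 1 n14614 = n30554 := d15_1 (iv0 F38341) (iv7 D30554) (iv2 F38340)
def n30555 : Q := act 0 n14496
theorem D30555 : act 0 n14496 = n30555 := rfl
def n30556 : Q := act 1 n14496
theorem D30556 : act 1 n14496 = n30556 := rfl
def n30557 : Q := act 2 n14496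
theorem D30557 : act 2 n14496 = n30557 := rfl
def n30558 : Q := act 5 n14496
theorem D30558 : act 5 n14496 = n30558 := rfl
theorem F48973 : act 3 n30558 = n14497 := d6_1 D30558 (iv5 D14497) D14496
def n30559 : Q := act 6 n14496
theorem D30559 : act 6 n14496 = n30559 := rfl
theorem F48974 : act 3 n30559 = n14498 := d7_1 D30559 (iv6 D14498) D14496
def n30560 : Q := act 6 n14497
theorem D30560 : act 6 n14497 = n30560 := rfl
theorem F48975 : act 4 n30560 = n24285 := d10_1 D30560 (iv6 D24285) (iv4 F24141)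
def n30561 : Q := act 0 n14498
theorem D30561 : act 0 n14498 = n30561 := rfl
def n30562 : Q := act 5 n14498
theorem D30562 : act 5 n14498 = n30562 := rfl
def n30563 : Q := act 7 n14498
theorem D30563 : act 7 n14498 = n30563 := rfl
theorem F48976 : act 4 n30563 = n14500 := d11_1 D30563 (iv7 D14500) (iv4 F24144)
theorem F48977 : act 1 n14575 = n30563 := d15_1 (iv0 F26156) (iv7 D30563) (iv2 F26154)
theorem E5076 : n30013 = n28900 := (c18_2 (iv1 F23771) D30013 (iv1 D28900) F23024 (iv5 F20489) (iv4 F24238) F48977 F48976 F26161 F26158)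
theorem F48978 : act 2 n28900 = n29871 := (sb E5076 F48213)
theorem F48979 : act 4 n28900 = n14247 := (sb E5076 (iv4 D30013))
theorem F48980 : act 7 n28900 = n29868 := (sb E5076 F48214)
theorem E5077 : n30010 = n28899 := (c15_4 (iv0 D28899) D28900 F48980 (iv2 F48204))
theorem F48981 : act 2 n28899 = n29868 := (sb E5077 F48204)
theorem F48982 : act 4 n28899 = n14246 := (sb E5077 (iv4 D30010))
theorem F48983 : act 6 n28899 = n29883 := (sb E5077 F48205)
theorem F48984 : act 7 n28899 = n29871 := (sb E5077 F48206)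
def n30564 : Q := act 4 n14499
theorem D30564 : act 4 n14499 = n30564 := rfl
theorem F48985 : act 7 n30564 = n14569 := d11_2 F24146 D30564 F24230
def n30565 : Q := act 0 n14501
theorem D30565 : act 0 n14501 = n30565 := rfl
theorem F48986 : act 4 n30565 = n29795 := d18_3 (iv1 F19245) D14501 D30565 (iv5 D29795) F23672 (iv0 F19513) F10753 F10311 D5557
theorem F48987 : act 1 n24944 = n30565 := d15_0 (iv0 D30565) (iv7 F26183) (iv2 F39110)
def n30566 : Q := act 3 n14501
theorem D30566 : act 3 n14501 = n30566 := rfl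
theorem F48988 : act 4 n30566 = n14503 := d5_2 D14501 D30566 (iv3 D14503) (iv4 D6928) D6927
def n30567 : Q := act 5 n14501
theorem D30567 : act 5 n14501 = n30567 := rfl
def n30568 : Q := act 6 n14501
theorem D30568 : act 6 n14501 = n30568 := rfl
theorem F48989 : act 4 n30568 = n14502 := d10_1 D30568 (iv6 D14502) D14501
def n30569 : Q := act 0 n14502
theorem D30569 : act 0 n14502 = n30569 := rfl
def n30570 : Q := act 1 n14502
theorem D30570 : act 1 n14502 = n30570 := rfl
def n30571 : Q := act 7 n14502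
theorem D30571 : act 7 n14502 = n30571 := rfl
theorem F48990 : act 3 n30571 = n14508 := d8_1 D30571 (iv7 D14508) (iv3 F24148)
theorem F48991 : act 5 n30571 = n24638 := d13_1 D30571 F39191 F39188
def n30572 : Q := act 0 n14503
theorem D30572 : act 0 n14503 = n30572 := rfl
def n30573 : Q := act 1 n14503
theorem D30573 : act 1 n14503 = n30573 := rfl
def n30574 : Q := act 2 n14503
theorem D30574 : act 2 n14503 = n30574 := rfl
def n30575 : Q := act 5 n14503
theorem D30575 : act 5 n14503 = n30575 := rfl
theorem F48992 : act 3 n30575 = n14504 := d6_1 D30575 (iv5 D14504) D14503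
def n30576 : Q := act 6 n14503
theorem D30576 : act 6 n14503 = n30576 := rfl
theorem F48993 : act 3 n30576 = n14505 := d7_1 D30576 (iv6 D14505) D14503
def n30577 : Q := act 6 n14504
theorem D30577 : act 6 n14504 = n30577 := rfl
theorem F48994 : act 4 n30577 = n24297 := d10_1 D30577 (iv6 D24297) (iv4 F24149)
def n30578 : Q := act 0 n14505
theorem D30578 : act 0 n14505 = n30578 := rfl
def n30579 : Q := act 1 n14505
theorem D30579 : act 1 n14505 = n30579 := rfl
theorem F48995 : act 4 n30579 = n24271 := d18_7 (iv1 F19847) (iv4 F38852) (iv1 F39353) F39351 F19615 (iv4 F24150) D30579 F38215 F38213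
def n30580 : Q := act 5 n14505
theorem D30580 : act 5 n14505 = n30580 := rfl
def n30581 : Q := act 7 n14505
theorem D30581 : act 7 n14505 = n30581 := rfl
theorem F48996 : act 4 n30581 = n14508 := d11_1 D30581 (iv7 D14508) (iv4 F24150)
def n30582 : Q := act 2 n14506
theorem D30582 : act 2 n14506 = n30582 := rfl
theorem F48997 : act 6 n30582 = n14710 := d3_2 (iv6 F24151) D30582 F24376
theorem F48998 : act 7 n14507 = n30582 := d15_2 (iv0 D14506) D14507 (iv2 D30582)
def n30583 : Q := act 3 n14506
theorem D30583 : act 3 n14506 = n30583 := rfl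
theorem F48999 : act 6 n30583 = n14711 := d7_2 (iv6 F24151) D30583 (iv3 D14711)
def n30584 : Q := act 4 n14506
theorem D30584 : act 4 n14506 = n30584 := rfl
theorem F49000 : act 6 n30584 = n14712 := d10_2 (iv6 F24151) D30584 (iv4 D14712)
def n30585 : Q := act 5 n14506
theorem D30585 : act 5 n14506 = n30585 := rfl
theorem F49001 : act 0 n30585 = n25155 := d21_1 D30585 F39584 F47617 (iv1 D29638) F23507 (iv5 D6693) (iv1 F8973) F8970 D6929 D14506
theorem F49002 : act 0 n25134 = n30585 := d21_10 (iv5 D30585) F26182 F26179 (iv6 F39344) (iv1 F39346) (iv6 F39541) (iv5 F39341) F39506 (iv5 D25133) D25134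
def n30586 : Q := act 7 n14506
theorem D30586 : act 7 n14506 = n30586 := rfl
theorem F49003 : act 2 n30586 = n14507 := d4_1 D30586 F48998 (iv2 D30582)
def n30587 : Q := act 3 n14507
theorem D30587 : act 3 n14507 = n30587 := rfl
def n30588 : Q := act 4 n14507
theorem D30588 : act 4 n14507 = n30588 := rfl
theorem F49004 : act 0 n30588 = n14519 := d18_2 (iv1 F26181) D30588 F24159 (iv5 F19086) (iv4 F38793) F38795 F38634 F19668 (iv5 F26179)
def n30589 : Q := act 6 n14507
theorem D30589 : act 6 n14507 = n30589 := rfl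
theorem F49005 : act 5 n30589 = n14643 := d12_1 D30589 F38714 (iv5 D24740) D24741 F38715
theorem F49006 : act 7 n30589 = n14709 := d14_2 (iv7 F48998) D30589 (iv6 D14709) D14710 (iv6 F48997)
theorem F49007 : act 0 n30589 = n24667 := d21_4 (iv5 F39584) F39583 F38715 D30589 (iv6 F48208) (iv5 D30011) (iv1 F23774) (iv5 F26158) F26157 (iv1 F38635)
theorem F49008 : act 1 n30589 = n14775 := d15_1 (iv0 F49007) F39538 F39535
theorem F49009 : act 2 n14709 = n25967 := d15_3 F41041 (iv0 F49007) F49006
theorem F49010 : act 2 n14644 = n25063 := d2_3 (iv5 F39341) F49009 F41039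
theorem E5078 : n25964 = n7017 := (c3_4 D14709 F49009 (iv6 D25967) D25964)
theorem E5079 : n14705 = n12315 := ((D14705).symm.trans (sb E5078 (iv2 D25964)))
theorem E5080 : n14710 = n12316 := ((D14710).symm.trans (sb E5078 (iv7 F41037)))
theorem F49011 : act 2 n12315 = n7017 := (sb E5079 (iv2 D14705))
theorem E5081 : n25968 = n7018 := ((D25968).symm.trans (sb E5079 (iv7 F24375)))
theorem E5082 : n30582 = n16540 := ((((iv6 F26175)).symm.trans (sb E5080 (iv6 F48997)))).symm
theorem F49012 : act 7 n12316 = n7017 := (sb E5080 (iv7 D14710))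
theorem F49013 : act 2 n7018 = n12316 := (sb E5081 F41042)
theorem F49014 : act 7 n7018 = n12315 := (sb E5081 (iv7 D25968))
theorem F49015 : act 2 n16540 = n14506 := (sb E5082 (iv2 D30582))
theorem F49016 : act 7 n16540 = n14507 := (sb E5082 (iv7 F48998))
theorem E5083 : n30586 = n16541 := (c15_4 F26177 (iv0 F26176) F49016 (iv2 F49003))
theorem F49017 : act 2 n16541 = n14507 := (sb E5083 F49003)
theorem F49018 : act 7 n16541 = n14506 := (sb E5083 (iv7 D30586))
theorem F49019 : act 7 n30585 = n25190 := d13_2 F49018 D30585 F39630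
theorem F49020 : act 2 n25190 = n24741 := d15_3 (iv0 F39583) (iv0 F49001) F49019
theorem E5084 : n24737 = n11953 := (c3_4 D25190 F49020 (iv6 D24741) D24737)
theorem E5085 : n25186 = n11703 := ((D25186).symm.trans (sb E5084 (iv2 D24737)))
theorem F49021 : act 2 n11703 = n11953 := (sb E5085 (iv2 D25186))
theorem F49022 : act 7 n11703 = n11953 := (sb E5085 (iv7 F39626))
theorem F49023 : act 7 n25187 = n24738 := d8_2 F49022 D25187 (iv3 D24738)
theorem F49024 : act 7 n25188 = n24739 := d11_2 F49022 D25188 (iv4 D24739)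
theorem F49025 : act 7 n25189 = n24740 := d13_2 F49022 D25189 (iv5 D24740)
theorem F49026 : act 2 n24740 = n25189 := d15_3 (iv0 F39629) (iv0 F39627) F49025
theorem F49027 : act 2 n25062 = n14643 := d3_3 F38714 F49026 F39628
theorem F49028 : act 7 n14644 = n25062 := d15_2 (iv0 D14643) D14644 F49027
theorem F49029 : act 7 n25063 = n14643 := d4_0 (iv2 F49027) (iv7 F49028) F49010
theorem F49030 : act 2 n25188 = n24739 := d1_3 (iv4 D24739) F49021 D25188
theorem F49031 : act 7 n25965 = n14711 := d8_2 F49014 D25965 (iv3 D14711)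
theorem F49032 : act 7 n25966 = n14712 := d11_2 F49014 D25966 (iv4 D14712)
theorem F49033 : act 7 n25969 = n14706 := d13_2 F49031 (iv5 F41044) (iv5 F41038)
theorem F49034 : act 2 n25970 = n14712 := d1_3 (iv4 D14712) F49013 D25970
theorem F49035 : act 7 n14707 = n25970 := d11_2 F49012 D14707 (iv4 D25970)
theorem F49036 : act 2 n25966 = n14707 := d4_3 F49035 F49034 (iv7 F49032)
def n30590 : Q := act 3 n14509
theorem D30590 : act 3 n14509 = n30590 := rfl
theorem F49037 : act 4 n30590 = n14511 := d5_2 D14509 D30590 (iv3 D14511) (iv4 D6931) D6930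
def n30591 : Q := act 5 n14509
theorem D30591 : act 5 n14509 = n30591 := rfl
def n30592 : Q := act 6 n14509
theorem D30592 : act 6 n14509 = n30592 := rfl
theorem F49038 : act 4 n30592 = n14510 := d10_1 D30592 (iv6 D14510) D14509
def n30593 : Q := act 0 n14510
theorem D30593 : act 0 n14510 = n30593 := rfl
def n30594 : Q := act 1 n14510
theorem D30594 : act 1 n14510 = n30594 := rfl
def n30595 : Q := act 7 n14510
theorem D30595 : act 7 n14510 = n30595 := rfl
theorem F49039 : act 3 n30595 = n14516 := d8_1 D30595 (iv7 D14516) (iv3 F24153)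
theorem F49040 : act 5 n30595 = n14552 := d13_1 D30595 (iv7 D14552) (iv5 F24154)
def n30596 : Q := act 0 n14511
theorem D30596 : act 0 n14511 = n30596 := rfl
def n30597 : Q := act 1 n14511
theorem D30597 : act 1 n14511 = n30597 := rfl
def n30598 : Q := act 2 n14511
theorem D30598 : act 2 n14511 = n30598 := rfl
def n30599 : Q := act 5 n14511
theorem D30599 : act 5 n14511 = n30599 := rfl
theorem F49041 : act 3 n30599 = n14512 := d6_1 D30599 (iv5 D14512) D14511
def n30600 : Q := act 6 n14511
theorem D30600 : act 6 n14511 = n30600 := rfl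
def n30601 : Q := act 6 n14512
theorem D30601 : act 6 n14512 = n30601 := rfl
theorem F49043 : act 4 n30601 = n15215 := d10_1 D30601 F24824 (iv4 F24155)
def n30602 : Q := act 0 n14513
theorem D30602 : act 0 n14513 = n30602 := rfl
def n30603 : Q := act 1 n14513
theorem D30603 : act 1 n14513 = n30603 := rfl
def n30604 : Q := act 5 n14513
theorem D30604 : act 5 n14513 = n30604 := rfl
def n30605 : Q := act 7 n14513
theorem D30605 : act 7 n14513 = n30605 := rfl
theorem F49044 : act 4 n30605 = n14516 := d11_1 D30605 (iv7 D14516) (iv4 F24156)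
def n30606 : Q := act 2 n14514
theorem D30606 : act 2 n14514 = n30606 := rfl
theorem F49045 : act 7 n14515 = n30606 := d15_2 (iv0 D14514) D14515 (iv2 D30606)
def n30607 : Q := act 3 n14514
theorem D30607 : act 3 n14514 = n30607 := rfl
def n30608 : Q := act 4 n14514
theorem D30608 : act 4 n14514 = n30608 := rfl
def n30609 : Q := act 6 n14514
theorem D30609 : act 6 n14514 = n30609 := rfl
theorem F49046 : act 5 n30609 = n29038 := d21_6 (iv5 D6972) (iv1 D3150) F4845 D6932 D14514 D30609 (iv1 D29038) F23081 (iv6 D7681) (iv1 F11240)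
theorem F49047 : act 0 n30609 = n14770 := d21_10 F24410 (iv1 D14189) (iv5 F20360) (iv6 D12282) (iv1 D5825) D5827 (iv5 F11945) D16548 (iv5 F26202) D30609
theorem F49048 : act 0 n29869 = n30609 := d21_4 F11257 D11935 D25129 (iv6 F48014) (iv6 D30609) F26202 (iv1 F26200) F24157 (iv6 F20403) (iv1 F20405)
theorem F49049 : act 6 n29038 = n29550 := d21_3 D29869 F49048 F49046 (iv1 D29550) (iv6 D14037) F10844 F8228 F8227 D6751 D14188
def n30610 : Q := act 7 n14514
theorem D30610 : act 7 n14514 = n30610 := rfl
theorem F49050 : act 2 n30610 = n14515 := d4_1 D30610 F49045 (iv2 D30606)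
theorem F49051 : act 6 n14674 = n30610 := d3_0 F49050 F26195 D14674
theorem F49052 : act 7 n30609 = n14683 := d14_4 F24362 F49051 (iv7 D30610) D30609 (iv6 D14683)
theorem F49053 : act 7 n29549 = n29038 := d13_2 F49052 (iv5 F47401) (iv5 F49046)
theorem F49054 : act 2 n14683 = n25945 := d15_3 (iv0 F48045) (iv0 F49047) F49052
theorem F49055 : act 2 n29037 = n29549 := d2_3 F47401 F49054 (iv5 F46682)
theorem E5086 : n25941 = n7008 := (c3_4 D14683 F49054 (iv6 D25945) (iv2 F41004))
theorem E5087 : n14679 = n12306 := (((iv2 F24363)).symm.trans (sb E5086 F41004))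
theorem E5088 : n14674 = n12305 := ((F24362).symm.trans (sb E5086 (iv7 D25941)))
theorem F49056 : act 2 n12306 = n7008 := (sb E5087 F24363)
theorem E5089 : n25937 = n7007 := ((F41002).symm.trans (sb E5087 (iv7 D14679)))
theorem E5090 : n30610 = n16549 := (((F26196).symm.trans (sb E5088 F49051))).symm
theorem F49057 : act 7 n12305 = n7008 := (sb E5088 (iv7 F24362))
theorem F49058 : act 2 n7007 = n12305 := (sb E5089 (iv2 D25937))
theorem F49059 : act 7 n7007 = n12306 := (sb E5089 (iv7 F41002))
theorem F49060 : act 2 n16549 = n14515 := (sb E5090 F49050)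
theorem F49061 : act 7 n16549 = n14514 := (sb E5090 (iv7 D30610))
theorem E5091 : n30606 = n16548 := ((c13_2 F49061 F26202 (iv7 F49045) F26194)).symm
theorem F49062 : act 2 n16548 = n14514 := (sb E5091 (iv2 D30606))
theorem F49063 : act 7 n16548 = n14515 := (sb E5091 (iv7 F49045))
theorem F49064 : act 7 n25942 = n14675 := d8_2 F49059 D25942 (iv3 D14675)
theorem F49065 : act 7 n25943 = n14676 := d11_2 F49059 D25943 (iv4 D14676)
theorem F49066 : act 7 n25944 = n14677 := d13_2 F49059 D25944 (iv5 D14677)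
theorem F49067 : act 2 n14677 = n25940 := d15_3 (iv0 F48220) (iv0 F48219) F49066
theorem F49068 : act 2 n25944 = n14682 := d15_3 (iv0 F48027) (iv0 F48028) (iv7 F49066)
theorem E5092 : n30051 = n14203 := (c3_4 (iv6 F41005) F49068 F24364 D30051)
theorem E5093 : n29908 = n14261 := ((D29908).symm.trans (sb E5092 (iv2 D30051)))
theorem F49069 : act 2 n14261 = n14203 := (sb E5093 (iv2 D29908))
theorem F49070 : act 7 n14261 = n14203 := (sb E5093 (iv7 F48041))
theorem F49071 : act 7 n14682 = n25940 := d4_2 (iv7 F49066) F49068 (iv2 F49067)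
theorem F49072 : act 7 n29909 = n30052 := d8_2 F49070 D29909 (iv3 D30052)
theorem F49073 : act 7 n29910 = n30053 := d11_2 F49070 D29910 (iv4 D30053)
theorem F49074 : act 7 n29911 = n30054 := d13_2 F49070 D29911 (iv5 D30054)
theorem F49075 : act 7 n29550 = n29037 := d14_4 F49074 F48274 F49053 F49049 (iv6 F48042)
theorem F49076 : act 2 n30054 = n29911 := d15_3 (iv0 F48044) (iv0 F48043) F49074
theorem F49077 : act 2 n29038 = n29550 := d4_3 F49075 F49055 F49053
theorem F49078 : act 2 n29910 = n30053 := d1_3 (iv4 D30053) F49069 D29910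
theorem F49079 : act 2 n14676 = n25939 := d15_3 F47164 (iv0 F46731) F49065
theorem F49080 : act 2 n25943 = n14681 := d15_3 F47606 (iv0 F47160) (iv7 F49065)
theorem F49081 : act 7 n14681 = n25939 := d4_2 (iv7 F49065) F49080 (iv2 F49079)
theorem F49082 : act 7 n14680 = n25938 := d8_2 F49057 D14680 (iv3 D25938)
def n30611 : Q := act 3 n14515
theorem D30611 : act 3 n14515 = n30611 := rfl
theorem F49083 : act 6 n30611 = n14675 := d7_2 (iv6 F26195) D30611 (iv3 D14675)
def n30612 : Q := act 4 n14515
theorem D30612 : act 4 n14515 = n30612 := rfl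
def n30613 : Q := act 0 n14517
theorem D30613 : act 0 n14517 = n30613 := rfl
def n30614 : Q := act 1 n14517
theorem D30614 : act 1 n14517 = n30614 := rfl
def n30615 : Q := act 2 n14517
theorem D30615 : act 2 n14517 = n30615 := rfl
def n30616 : Q := act 4 n14517
theorem D30616 : act 4 n14517 = n30616 := rfl
theorem F49085 : act 3 n30616 = n24370 := d5_1 D30616 (iv4 D24370) (iv3 D11490) (iv4 F11206) D14517
def n30617 : Q := act 5 n14517
theorem D30617 : act 5 n14517 = n30617 := rfl
theorem F49086 : act 3 n30617 = n14518 := d6_1 D30617 (iv5 D14518) D14517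
def n30618 : Q := act 6 n14517
theorem D30618 : act 6 n14517 = n30618 := rfl
theorem F49087 : act 3 n30618 = n14519 := d7_1 D30618 (iv6 D14519) D14517
def n30619 : Q := act 6 n14518
theorem D30619 : act 6 n14518 = n30619 := rfl
theorem F49088 : act 4 n30619 = n14907 := d10_1 D30619 (iv6 D14907) (iv4 F24158)
def n30620 : Q := act 0 n14519
theorem D30620 : act 0 n14519 = n30620 := rfl
def n30621 : Q := act 5 n14519
theorem D30621 : act 5 n14519 = n30621 := rfl
def n30622 : Q := act 7 n14519
theorem D30622 : act 7 n14519 = n30622 := rfl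
theorem F49089 : act 4 n30622 = n24374 := d11_1 D30622 (iv7 D24374) (iv4 F24159)
def n30623 : Q := act 0 n14520
theorem D30623 : act 0 n14520 = n30623 := rfl
def n30624 : Q := act 1 n14520
theorem D30624 : act 1 n14520 = n30624 := rfl
def n30625 : Q := act 2 n14520
theorem D30625 : act 2 n14520 = n30625 := rfl
def n30626 : Q := act 4 n14520
theorem D30626 : act 4 n14520 = n30626 := rfl
theorem F49090 : act 3 n30626 = n14807 := d5_1 D30626 (iv4 D14807) F11301 (iv4 F11207) D14520
def n30627 : Q := act 5 n14520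
theorem D30627 : act 5 n14520 = n30627 := rfl
theorem F49091 : act 3 n30627 = n14521 := d6_1 D30627 (iv5 D14521) D14520
def n30628 : Q := act 6 n14520
theorem D30628 : act 6 n14520 = n30628 := rfl
def n30629 : Q := act 6 n14521
theorem D30629 : act 6 n14521 = n30629 := rfl
theorem F49093 : act 4 n30629 = n14975 := d10_1 D30629 F24621 (iv4 F24160)
def n30630 : Q := act 0 n14522
theorem D30630 : act 0 n14522 = n30630 := rfl
def n30631 : Q := act 1 n14522
theorem D30631 : act 1 n14522 = n30631 := rfl
def n30632 : Q := act 5 n14522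
theorem D30632 : act 5 n14522 = n30632 := rfl
def n30633 : Q := act 7 n14522
theorem D30633 : act 7 n14522 = n30633 := rfl
theorem F49094 : act 4 n30633 = n14841 := d11_1 D30633 (iv7 D14841) (iv4 F24161)
def n30634 : Q := act 0 n14523
theorem D30634 : act 0 n14523 = n30634 := rfl
theorem F49095 : act 2 n14527 = n30634 := d15_3 (iv0 D30634) (iv0 D14523) D14527
theorem F49096 : act 7 n30634 = n14525 := d4_2 D14527 F49095 (iv2 D14525)
theorem F49097 : act 1 n14524 = n30634 := d15_1 D14524 F49096 (iv2 D14525)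
def n30635 : Q := act 2 n14523
theorem D30635 : act 2 n14523 = n30635 := rfl
theorem F49098 : act 7 n14524 = n30635 := d15_2 (iv0 D14523) D14524 (iv2 D30635)
def n30636 : Q := act 3 n14523
theorem D30636 : act 3 n14523 = n30636 := rfl
def n30637 : Q := act 4 n14523
theorem D30637 : act 4 n14523 = n30637 := rfl
def n30638 : Q := act 5 n14523
theorem D30638 : act 5 n14523 = n30638 := rfl
def n30639 : Q := act 6 n14523
theorem D30639 : act 6 n14523 = n30639 := rfl
def n30640 : Q := act 7 n14523
theorem D30640 : act 7 n14523 = n30640 := rfl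
theorem F49099 : act 2 n30640 = n14524 := d4_1 D30640 F49098 (iv2 D30635)
def n30641 : Q := act 3 n14524
theorem D30641 : act 3 n14524 = n30641 := rfl
def n30642 : Q := act 4 n14524
theorem D30642 : act 4 n14524 = n30642 := rfl
def n30643 : Q := act 5 n14524
theorem D30643 : act 5 n14524 = n30643 := rfl
def n30644 : Q := act 6 n14524
theorem D30644 : act 6 n14524 = n30644 := rfl
def n30645 : Q := act 0 n14525
theorem D30645 : act 0 n14525 = n30645 := rfl
theorem F49100 : act 1 n14527 = n30645 := d15_0 (iv0 D30645) (iv7 F49096) (iv2 F49095)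
def n30646 : Q := act 1 n14525
theorem D30646 : act 1 n14525 = n30646 := rfl
theorem F49101 : act 1 n30646 = n14527 := d15_1 D30646 (iv7 D14527) D14525
def n30647 : Q := act 5 n14525
theorem D30647 : act 5 n14525 = n30647 := rfl
theorem F49102 : act 2 n30647 = n14526 := d2_1 D30647 (iv5 D14526) D14525
def n30648 : Q := act 0 n14526
theorem D30648 : act 0 n14526 = n30648 := rfl
def n30649 : Q := act 1 n14526
theorem D30649 : act 1 n14526 = n30649 := rfl
def n30650 : Q := act 4 n14526
theorem D30650 : act 4 n14526 = n30650 := rfl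
def n30651 : Q := act 6 n14526
theorem D30651 : act 6 n14526 = n30651 := rfl
theorem F49103 : act 3 n30651 = n14530 := d7_1 D30651 (iv6 D14530) (iv3 F24163)
theorem F49104 : act 5 n30651 = n14754 := d12_1 D30651 (iv6 D14754) (iv5 D7029) (iv6 F11208) D14526
def n30652 : Q := act 6 n14527
theorem D30652 : act 6 n14527 = n30652 := rfl
theorem F49105 : act 3 n30652 = n14531 := d7_1 D30652 (iv6 D14531) (iv3 F24164)
theorem F49106 : act 7 n30652 = n14755 := d14_2 D14527 D30652 (iv6 D14755) (iv7 D7030) (iv6 F11208)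
def n30653 : Q := act 3 n14528
theorem D30653 : act 3 n14528 = n30653 := rfl
theorem F49107 : act 5 n30653 = n24361 := d6_2 (iv5 F24165) D30653 (iv3 D24361)
def n30654 : Q := act 6 n14528
theorem D30654 : act 6 n14528 = n30654 := rfl
theorem F49108 : act 4 n30654 = n24405 := d10_1 D30654 (iv6 D24405) (iv4 F24166)
def n30655 : Q := act 0 n14530
theorem D30655 : act 0 n14530 = n30655 := rfl
def n30656 : Q := act 1 n14530
theorem D30656 : act 1 n14530 = n30656 := rfl
def n30657 : Q := act 7 n14530
theorem D30657 : act 7 n14530 = n30657 := rfl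
theorem F49109 : act 5 n30657 = n14762 := d13_1 D30657 (iv7 D14762) (iv5 F24171)
def n30658 : Q := act 5 n14531
theorem D30658 : act 5 n14531 = n30658 := rfl
theorem F49110 : act 7 n30658 = n14765 := d13_2 (iv7 F24173) D30658 (iv5 D14765)
def n30659 : Q := act 6 n14532
theorem D30659 : act 6 n14532 = n30659 := rfl
theorem F49111 : act 3 n30659 = n25252 := d7_1 D30659 (iv6 D25252) (iv3 F24174)
theorem F49112 : act 5 n30659 = n30659 := d12_1 D30659 (iv6 D30659) (iv5 D14532) F19420 D14532
def n30660 : Q := act 3 n14533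
theorem D30660 : act 3 n14533 = n30660 := rfl
theorem F49113 : act 7 n30660 = n29773 := d8_2 (iv7 F24176) D30660 (iv3 D29773)
def n30661 : Q := act 5 n14533
theorem D30661 : act 5 n14533 = n30661 := rfl
theorem F49114 : act 7 n30661 = n29774 := d13_2 (iv7 F24176) D30661 (iv5 D29774)
def n30662 : Q := act 6 n14533
theorem D30662 : act 6 n14533 = n30662 := rfl
theorem F49115 : act 4 n30662 = n14534 := d10_1 D30662 (iv6 D14534) D14533
def n30663 : Q := act 0 n14534
theorem D30663 : act 0 n14534 = n30663 := rfl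
theorem F49116 : act 1 n24951 = n30663 := d15_0 (iv0 D30663) (iv7 F39082) (iv2 F39129)
def n30664 : Q := act 1 n14534
theorem D30664 : act 1 n14534 = n30664 := rfl
def n30665 : Q := act 3 n14535
theorem D30665 : act 3 n14535 = n30665 := rfl
def n30666 : Q := act 5 n14535
theorem D30666 : act 5 n14535 = n30666 := rfl
theorem F49118 : act 2 n30666 = n14548 := d2_1 D30666 (iv5 D14548) (iv2 F24178)
def n30667 : Q := act 6 n14535
theorem D30667 : act 6 n14535 = n30667 := rfl
theorem F49119 : act 2 n30667 = n14549 := d3_1 D30667 (iv6 D14549) (iv2 F24178)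
theorem F49120 : act 4 n30667 = n14536 := d10_1 D30667 (iv6 D14536) D14535
def n30668 : Q := act 0 n14536
theorem D30668 : act 0 n14536 = n30668 := rfl
theorem F49121 : act 5 n30668 = n25870 := d21_0 (iv1 D25870) (iv5 F26185) (iv6 D16544) F11940 (iv6 F10968) (iv5 D6724) (iv1 F19355) D6948 D14536 D30668
def n30669 : Q := act 1 n14536
theorem D30669 : act 1 n14536 = n30669 := rfl
theorem F49122 : act 1 n30669 = n14552 := d15_1 D30669 (iv7 D14552) (iv2 F24179)
theorem F49123 : act 5 n25869 = n30669 := d21_0 (iv1 D30669) (iv5 F38357) (iv6 D24447) (iv1 D11548) (iv6 F11004) (iv5 D6759) F10170 D5823 D12277 D25869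
def n30670 : Q := act 7 n14536
theorem D30670 : act 7 n14536 = n30670 := rfl
theorem F49124 : act 2 n30670 = n14552 := d4_1 D30670 (iv7 D14552) (iv2 F24179)
theorem F49125 : act 1 n14552 = n30668 := d15_0 (iv0 D30668) D30670 F49124
theorem F49126 : act 1 n14551 = n30670 := d15_1 D14551 (iv7 D30670) F24179
theorem F49127 : act 1 n30670 = n14550 := d15_0 (iv0 D14550) D14552 (iv2 F49124)
def n30671 : Q := act 1 n14540
theorem D30671 : act 1 n14540 = n30671 := rfl
theorem F49128 : act 1 n30671 = n14543 := d15_1 D30671 (iv7 F38500) F38499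
theorem F49129 : act 7 n30671 = n24877 := d15_2 F45749 D30671 (iv2 F45747)
theorem F49130 : act 4 n24858 = n30671 := d20_0 (iv1 D30671) (iv4 D14540) (iv3 F24048) (iv1 D14398) F11180 D6894 (iv1 F24028) D30307 (iv3 F48740) (iv1 F45745)
theorem F49131 : act 2 n30671 = n24870 := d1_1 F49130 (iv4 D24870) (iv2 F38936)
def n30672 : Q := act 3 n14540
theorem D30672 : act 3 n14540 = n30672 := rfl
def n30673 : Q := act 5 n14540
theorem D30673 : act 5 n14540 = n30673 := rfl
def n30674 : Q := act 6 n14540
theorem D30674 : act 6 n14540 = n30674 := rfl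
theorem F49132 : act 4 n30674 = n14541 := d10_1 D30674 (iv6 D14541) D14540
def n30675 : Q := act 0 n14541
theorem D30675 : act 0 n14541 = n30675 := rfl
def n30676 : Q := act 1 n14541
theorem D30676 : act 1 n14541 = n30676 := rfl
def n30677 : Q := act 7 n14541
theorem D30677 : act 7 n14541 = n30677 := rfl
def n30678 : Q := act 4 n14542
theorem D30678 : act 4 n14542 = n30678 := rfl
def n30679 : Q := act 6 n14542
theorem D30679 : act 6 n14542 = n30679 := rfl
theorem F49133 : act 3 n30679 = n14544 := d7_1 D30679 (iv6 D14544) D14542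
def n30680 : Q := act 3 n14543
theorem D30680 : act 3 n14543 = n30680 := rfl
def n30681 : Q := act 5 n14543
theorem D30681 : act 5 n14543 = n30681 := rfl
def n30682 : Q := act 6 n14543
theorem D30682 : act 6 n14543 = n30682 := rfl
theorem F49134 : act 4 n30682 = n14544 := d10_1 D30682 (iv6 D14544) D14543
def n30683 : Q := act 1 n14544
theorem D30683 : act 1 n14544 = n30683 := rfl
theorem F49135 : act 7 n30683 = n24941 := d15_2 (iv0 F26147) D30683 F39097
def n30684 : Q := act 7 n14544
theorem D30684 : act 7 n14544 = n30684 := rfl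
def n30685 : Q := act 3 n14545
theorem D30685 : act 3 n14545 = n30685 := rfl
def n30686 : Q := act 5 n14545
theorem D30686 : act 5 n14545 = n30686 := rfl
theorem F49136 : act 1 n30686 = n25949 := d17_6 (iv1 F23745) F23743 (iv1 F24283) (iv5 F38988) (iv4 F38991) D30686 (iv5 D25949) F39021 F39020
def n30687 : Q := act 6 n14545
theorem D30687 : act 6 n14545 = n30687 := rfl
def n30688 : Q := act 3 n14546
theorem D30688 : act 3 n14546 = n30688 := rfl
def n30689 : Q := act 5 n14546
theorem D30689 : act 5 n14546 = n30689 := rfl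
theorem F49137 : act 0 n30689 = n25949 := d17_2 F39218 D30689 (iv5 D25949) (iv4 D12310) F11916 F19441 F19443 F19308 D24990
def n30690 : Q := act 6 n14546
theorem D30690 : act 6 n14546 = n30690 := rfl
def n30691 : Q := act 0 n14547
theorem D30691 : act 0 n14547 = n30691 := rfl
def n30692 : Q := act 1 n14547
theorem D30692 : act 1 n14547 = n30692 := rfl
def n30693 : Q := act 2 n14547
theorem D30693 : act 2 n14547 = n30693 := rfl
theorem F49138 : act 4 n30693 = n14578 := d1_2 (iv4 F24190) D30693 (iv2 D14578)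
def n30694 : Q := act 5 n14547
theorem D30694 : act 5 n14547 = n30694 := rfl
theorem F49139 : act 3 n30694 = n14548 := d6_1 D30694 (iv5 D14548) D14547
def n30695 : Q := act 6 n14547
theorem D30695 : act 6 n14547 = n30695 := rfl
theorem F49140 : act 3 n30695 = n14549 := d7_1 D30695 (iv6 D14549) D14547
theorem F49141 : act 4 n30695 = n14580 := d10_1 D30695 (iv6 D14580) (iv4 F24190)
def n30696 : Q := act 6 n14548
theorem D30696 : act 6 n14548 = n30696 := rfl
def n30697 : Q := act 0 n14549
theorem D30697 : act 0 n14549 = n30697 := rfl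
def n30698 : Q := act 1 n14549
theorem D30698 : act 1 n14549 = n30698 := rfl
def n30699 : Q := act 5 n14549
theorem D30699 : act 5 n14549 = n30699 := rfl
def n30700 : Q := act 7 n14549
theorem D30700 : act 7 n14549 = n30700 := rfl
theorem F49142 : act 4 n30700 = n14552 := d11_1 D30700 (iv7 D14552) (iv4 F24191)
def n30701 : Q := act 2 n14550
theorem D30701 : act 2 n14550 = n30701 := rfl
theorem F49143 : act 7 n14551 = n30701 := d15_2 (iv0 D14550) D14551 (iv2 D30701)
def n30702 : Q := act 3 n14550
theorem D30702 : act 3 n14550 = n30702 := rfl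
def n30703 : Q := act 4 n14550
theorem D30703 : act 4 n14550 = n30703 := rfl
def n30704 : Q := act 5 n14550
theorem D30704 : act 5 n14550 = n30704 := rfl
theorem F49144 : act 0 n30704 = n24099 := d21_1 D30704 (iv5 F39115) (iv6 D24945) (iv1 D11845) (iv6 F10975) (iv5 D6730) (iv1 F19315) D3135 D6953 D14550
theorem F49145 : act 6 n30524 = n14550 := d21_5 (iv5 D5557) (iv1 F10311) D6916 D14483 D30524 D30704 F49144 (iv5 F39115) (iv6 D24945) (iv1 D11845)
theorem F49146 : act 1 n30704 = n25871 := d15_1 (iv0 F49144) (iv7 D25871) (iv2 F37749)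
def n30705 : Q := act 7 n14550
theorem D30705 : act 7 n14550 = n30705 := rfl
theorem F49147 : act 2 n30705 = n14551 := d4_1 D30705 F49143 (iv2 D30701)
def n30706 : Q := act 3 n14551
theorem D30706 : act 3 n14551 = n30706 := rfl
def n30707 : Q := act 4 n14551
theorem D30707 : act 4 n14551 = n30707 := rfl
def n30708 : Q := act 5 n14551
theorem D30708 : act 5 n14551 = n30708 := rfl
theorem F49148 : act 0 n24099 = n30708 := d21_10 (iv5 D30708) (iv1 D14551) (iv5 F24154) (iv6 D14510) F19436 F8193 (iv5 D5229) D5227 D11316 D24099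
def n30709 : Q := act 6 n14551
theorem D30709 : act 6 n14551 = n30709 := rfl
def n30710 : Q := act 0 n14553
theorem D30710 : act 0 n14553 = n30710 := rfl
theorem F49149 : act 5 n30710 = n24416 := d17_1 D30710 (iv1 F38337) F38334 F18845 (iv5 F18855) F18858 (iv5 F24187) F24189 D14553
theorem F49150 : act 4 n30710 = n24872 := d18_3 D6954 D14553 D30710 F38994 (iv4 F38366) (iv0 D24424) (iv4 D11527) (iv0 F19436) F11203
theorem F49151 : act 2 n27958 = n30710 := d15_3 (iv0 D30710) F38293 D27958
theorem F49152 : act 1 n14556 = n30710 := d15_0 (iv0 D30710) (iv7 F38762) (iv2 F38763)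
theorem F49153 : act 7 n30710 = n24868 := d15_2 (iv0 F38292) F49152 F38977
theorem F49154 : act 3 n28866 = n30710 := d20_9 (iv4 D14556) (iv1 D6955) (iv4 F10173) (iv3 F10174) F19901 F19898 F11112 D13757 D28866 (iv1 F49152)
def n30711 : Q := act 4 n14554
theorem D30711 : act 4 n14554 = n30711 := rfl
theorem F49155 : act 2 n30711 = n29825 := d1_1 D30711 (iv4 D29825) (iv2 F24197)
theorem F49156 : act 7 n30711 = n30547 := d11_2 F24200 D30711 (iv4 D30547)
def n30712 : Q := act 6 n14554
theorem D30712 : act 6 n14554 = n30712 := rfl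
theorem F49157 : act 2 n30712 = n29823 := d3_1 D30712 F47991 (iv2 F24197)
theorem F49158 : act 5 n30712 = n29783 := d12_1 D30712 (iv6 D29783) (iv5 D14153) F22967 D14554
def n30713 : Q := act 4 n14555
theorem D30713 : act 4 n14555 = n30713 := rfl
theorem F49159 : act 7 n30713 = n25211 := d11_2 (iv7 F24208) D30713 F39699
theorem F49160 : act 5 n30713 = n29405 := d17_5 (iv1 F19959) D24430 (iv1 F46615) F46616 D30713 (iv0 F47116) (iv5 D28175) F38915 F38913
theorem F49161 : act 0 n30713 = n27941 := d17_0 (iv5 F45148) F45149 (iv5 D24850) F19143 D12045 (iv0 F38591) (iv5 D24581) F38587 D30713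
theorem F49162 : act 3 n30713 = n24820 := d20_3 (iv4 F40780) (iv1 F40782) D30713 F38846 F19736 F19065 (iv1 F20319) (iv4 F38314) F38313 (iv1 F38569)
theorem F49163 : act 0 n28866 = n30713 := d20_10 (iv4 D30713) (iv1 F38587) F18970 F8220 (iv1 F8225) (iv3 F11927) (iv4 F26139) F46509 (iv4 F49150) (iv3 F49154)
theorem F49164 : act 6 n30713 = n24818 := d21_5 D24873 (iv1 F45675) F45676 (iv6 F46510) F49163 F38840 (iv1 F39929) (iv5 D25250) F19814 (iv1 F19817)
def n30714 : Q := act 6 n14555
theorem D30714 : act 6 n14555 = n30714 := rfl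
theorem F49165 : act 2 n30714 = n24158 := d3_1 D30714 F40776 (iv2 F40777)
theorem F49166 : act 3 n30714 = n14558 := d7_1 D30714 (iv6 D14558) D14555
theorem F49167 : act 4 n30714 = n24818 := d10_1 D30714 (iv6 F49164) (iv4 D30713)
theorem F49168 : act 7 n30714 = n24159 := d14_2 (iv7 F24208) D30714 F38134 (iv7 F22919) D14166
theorem F49169 : act 0 n30714 = n24161 := d21_4 D24430 (iv1 F46615) F46616 D30714 (iv6 F38598) F38597 (iv1 F40094) F40092 F19958 (iv1 F19959)
theorem F49170 : act 5 n30714 = n24463 := d21_6 D24501 F39417 (iv5 F45385) F45386 (iv1 F40782) D30714 (iv1 F38535) F19974 F8817 (iv1 F18951)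
theorem F49171 : act 0 n24153 = n30714 := d21_4 (iv5 F38575) (iv1 F38576) (iv5 D24152) D24153 (iv6 D30714) (iv5 F46616) (iv1 D28991) (iv5 D13800) (iv6 F19221) F38467
def n30715 : Q := act 3 n14556
theorem D30715 : act 3 n14556 = n30715 := rfl
theorem F49172 : act 2 n30715 = n25214 := d0_1 D30715 F39711 (iv2 F38744) D24768 (iv2 F38763)
theorem F49173 : act 4 n30715 = n24820 := d5_2 D14556 D30715 (iv3 F49162) (iv4 D30713) (iv3 D14555)
theorem F49174 : act 5 n30715 = n29317 := d6_2 (iv5 F46368) D30715 F46965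
theorem F49175 : act 7 n30715 = n25212 := d8_2 (iv7 F24209) D30715 F39703
theorem F49176 : act 6 n24819 = n30715 := d14_5 F49175 F39704 F23687 D24336 (iv7 F38842)
def n30716 : Q := act 6 n14556
theorem D30716 : act 6 n14556 = n30716 := rfl
theorem F49177 : act 2 n30716 = n24534 := d3_1 D30716 F38764 (iv2 F38763)
theorem F49178 : act 3 n30716 = n24819 := d7_1 D30716 F49176 (iv3 D30715)
theorem F49179 : act 4 n30716 = n14558 := d10_1 D30716 (iv6 D14558) D14556
theorem F49180 : act 7 n30716 = n24545 := d14_2 (iv7 F24209) D30716 F38541 F23641 D14169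
theorem F49181 : act 0 n30716 = n29800 := d21_4 D24436 (iv1 F46367) (iv5 F46368) D30716 (iv6 F47961) F45192 F38986 F38298 F18833 (iv1 F18842)
theorem F49182 : act 5 n30450 = n30716 := d21_2 D24412 F48866 (iv6 D30716) F38292 (iv6 D13337) D13336 F39846 F39843 (iv6 D23802) (iv1 F19376)
theorem F49183 : act 0 n28247 = n30716 := d21_4 (iv5 F39843) (iv1 F45737) (iv5 D28246) D28247 (iv6 D30716) F46368 (iv1 D28735) (iv5 D13704) D13705 (iv1 F39262)
def n30717 : Q := act 4 n14557
theorem D30717 : act 4 n14557 = n30717 := rfl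
theorem F49184 : act 2 n30717 = n30547 := d1_1 D30717 (iv4 D30547) (iv2 F24210)
theorem F49185 : act 7 n30717 = n29825 := d11_2 (iv7 F24211) D30717 (iv4 D29825)
def n30718 : Q := act 0 n14559
theorem D30718 : act 0 n14559 = n30718 := rfl
theorem F49186 : act 4 n30718 = n24873 := d18_3 F18505 D14559 D30718 (iv5 D24873) (iv4 F19174) F18951 F8816 (iv0 F10114) D11335
def n30719 : Q := act 3 n14559
theorem D30719 : act 3 n14559 = n30719 := rfl
theorem F49187 : act 4 n30719 = n14561 := d5_2 D14559 D30719 (iv3 D14561) (iv4 D6958) D6957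
def n30720 : Q := act 5 n14559
theorem D30720 : act 5 n14559 = n30720 := rfl
theorem F49188 : act 0 n30720 = n25841 := d17_2 F45679 D30720 (iv5 D25841) D25840 (iv5 F45239) (iv0 D27979) (iv5 F41230) (iv0 F41233) D28224
theorem F49189 : act 1 n30720 = n25845 := d17_6 (iv1 F20297) (iv5 F19651) (iv1 D11922) (iv5 F11219) D14559 D30720 (iv5 D25845) F40764 F40762
def n30721 : Q := act 6 n14559
theorem D30721 : act 6 n14559 = n30721 := rfl
theorem F49190 : act 4 n30721 = n14560 := d10_1 D30721 (iv6 D14560) D14559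
def n30722 : Q := act 0 n14560
theorem D30722 : act 0 n14560 = n30722 := rfl
def n30723 : Q := act 1 n14560
theorem D30723 : act 1 n14560 = n30723 := rfl
def n30724 : Q := act 7 n14560
theorem D30724 : act 7 n14560 = n30724 := rfl
theorem F49191 : act 3 n30724 = n14566 := d8_1 D30724 (iv7 D14566) (iv3 F24220)
theorem F49192 : act 5 n30724 = n25098 := d13_1 D30724 (iv7 D25098) (iv5 F24221)
def n30725 : Q := act 0 n14561
theorem D30725 : act 0 n14561 = n30725 := rfl
def n30726 : Q := act 1 n14561
theorem D30726 : act 1 n14561 = n30726 := rfl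
def n30727 : Q := act 2 n14561
theorem D30727 : act 2 n14561 = n30727 := rfl
def n30728 : Q := act 5 n14561
theorem D30728 : act 5 n14561 = n30728 := rfl
theorem F49193 : act 3 n30728 = n14562 := d6_1 D30728 (iv5 D14562) D14561
def n30729 : Q := act 6 n14561
theorem D30729 : act 6 n14561 = n30729 := rfl
theorem F49194 : act 3 n30729 = n14563 := d7_1 D30729 (iv6 D14563) D14561
def n30730 : Q := act 6 n14562
theorem D30730 : act 6 n14562 = n30730 := rfl
theorem F49195 : act 4 n30730 = n14857 := d10_1 D30730 (iv6 D14857) (iv4 F24222)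
def n30731 : Q := act 0 n14563
theorem D30731 : act 0 n14563 = n30731 := rfl
def n30732 : Q := act 1 n14563
theorem D30732 : act 1 n14563 = n30732 := rfl
theorem F49196 : act 4 n30732 = n14813 := d18_7 (iv1 F19848) (iv4 F38793) F38794 F19665 (iv5 F11222) (iv4 F24225) D30732 F39912 F39909
def n30733 : Q := act 5 n14563
theorem D30733 : act 5 n14563 = n30733 := rfl
theorem F49197 : act 1 n30733 = n30621 := d17_6 (iv1 D14507) (iv5 F19615) F19616 (iv5 F11222) (iv4 F24225) D30733 (iv5 D30621) (iv0 F49004) (iv4 D30588)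
def n30734 : Q := act 7 n14563
theorem D30734 : act 7 n14563 = n30734 := rfl
theorem F49198 : act 4 n30734 = n14566 := d11_1 D30734 (iv7 D14566) (iv4 F24225)
def n30735 : Q := act 3 n14564
theorem D30735 : act 3 n14564 = n30735 := rfl
def n30736 : Q := act 4 n14564
theorem D30736 : act 4 n14564 = n30736 := rfl
def n30737 : Q := act 3 n14565
theorem D30737 : act 3 n14565 = n30737 := rfl
def n30738 : Q := act 4 n14565
theorem D30738 : act 4 n14565 = n30738 := rfl
theorem F49199 : act 0 n30738 = n14572 := d18_2 (iv1 F38642) D30738 F24234 (iv5 D12003) (iv4 F19842) (iv0 F39352) F39351 F19617 (iv5 F38639)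
def n30739 : Q := act 0 n14567
theorem D30739 : act 0 n14567 = n30739 := rfl
def n30740 : Q := act 1 n14567
theorem D30740 : act 1 n14567 = n30740 := rfl
def n30741 : Q := act 2 n14567
theorem D30741 : act 2 n14567 = n30741 := rfl
def n30742 : Q := act 5 n14567
theorem D30742 : act 5 n14567 = n30742 := rfl
theorem F49200 : act 3 n30742 = n14568 := d6_1 D30742 (iv5 D14568) D14567
def n30743 : Q := act 6 n14567
theorem D30743 : act 6 n14567 = n30743 := rfl
theorem F49201 : act 3 n30743 = n14569 := d7_1 D30743 (iv6 D14569) D14567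
def n30744 : Q := act 6 n14568
theorem D30744 : act 6 n14568 = n30744 := rfl
theorem F49202 : act 4 n30744 = n14852 := d10_1 D30744 (iv6 D14852) (iv4 F24227)
def n30745 : Q := act 1 n14569
theorem D30745 : act 1 n14569 = n30745 := rfl
theorem F49203 : act 7 n30745 = n24369 := d15_2 (iv0 F27063) D30745 F38204
theorem F49204 : act 4 n14821 = n30745 := d11_3 F49203 F38205 (iv7 F24485)
theorem E5094 : n29487 = n29455 := (c18_7 (iv1 F27068) F49204 (iv1 D30745) F24230 F11225 (iv4 F23381) D29487 (iv4 D29455) F23350 (iv5 F27065))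
theorem F49205 : act 0 n29455 = n14018 := (sb E5094 (iv1 D29487))
theorem F49206 : act 1 n29455 = n28946 := (sb E5094 F47286)
theorem E5095 : n29486 = n29452 := (c15_2 F49206 F47291 F47211 (iv2 F47216))
theorem F49207 : act 0 n29452 = n28946 := (sb E5095 (iv1 F47291))
theorem F49208 : act 1 n29452 = n14018 := (sb E5095 (iv0 D29486))
def n30746 : Q := act 5 n14569
theorem D30746 : act 5 n14569 = n30746 := rfl
def n30747 : Q := act 0 n14570
theorem D30747 : act 0 n14570 = n30747 := rfl
def n30748 : Q := act 1 n14570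
theorem D30748 : act 1 n14570 = n30748 := rfl
def n30749 : Q := act 2 n14570
theorem D30749 : act 2 n14570 = n30749 := rfl
def n30750 : Q := act 4 n14570
theorem D30750 : act 4 n14570 = n30750 := rfl
theorem F49209 : act 3 n30750 = n25273 := d5_1 D30750 (iv4 D25273) F19834 (iv4 F11226) D14570
def n30751 : Q := act 5 n14570
theorem D30751 : act 5 n14570 = n30751 := rfl
theorem F49210 : act 3 n30751 = n14571 := d6_1 D30751 (iv5 D14571) D14570
def n30752 : Q := act 6 n14570
theorem D30752 : act 6 n14570 = n30752 := rfl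
theorem F49211 : act 3 n30752 = n14572 := d7_1 D30752 (iv6 D14572) D14570
def n30753 : Q := act 6 n14571
theorem D30753 : act 6 n14571 = n30753 := rfl
theorem F49212 : act 4 n30753 = n14998 := d10_1 D30753 (iv6 D14998) (iv4 F24231)
def n30754 : Q := act 0 n14572
theorem D30754 : act 0 n14572 = n30754 := rfl
def n30755 : Q := act 5 n14572
theorem D30755 : act 5 n14572 = n30755 := rfl
theorem F49213 : act 1 n30755 = n30580 := d17_6 (iv1 D24271) (iv5 F19749) F19750 D12003 (iv4 F24234) D30755 (iv5 D30580) D30579 F48995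
def n30756 : Q := act 7 n14572
theorem D30756 : act 7 n14572 = n30756 := rfl
theorem F49214 : act 4 n30756 = n25283 := d11_1 D30756 (iv7 D25283) (iv4 F24234)
def n30757 : Q := act 0 n14573
theorem D30757 : act 0 n14573 = n30757 := rfl
def n30758 : Q := act 1 n14573
theorem D30758 : act 1 n14573 = n30758 := rfl
def n30759 : Q := act 2 n14573
theorem D30759 : act 2 n14573 = n30759 := rfl
def n30760 : Q := act 4 n14573
theorem D30760 : act 4 n14573 = n30760 := rfl
theorem F49215 : act 3 n30760 = n26029 := d5_1 D30760 (iv4 D26029) (iv3 D12337) (iv4 F11229) D14573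
def n30761 : Q := act 5 n14573
theorem D30761 : act 5 n14573 = n30761 := rfl
theorem F49216 : act 3 n30761 = n14574 := d6_1 D30761 (iv5 D14574) D14573
def n30762 : Q := act 6 n14573
theorem D30762 : act 6 n14573 = n30762 := rfl
theorem F49217 : act 3 n30762 = n14575 := d7_1 D30762 (iv6 D14575) D14573
def n30763 : Q := act 6 n14574
theorem D30763 : act 6 n14574 = n30763 := rfl
theorem F49218 : act 4 n30763 = n15000 := d10_1 D30763 (iv6 D15000) (iv4 F24235)
def n30764 : Q := act 5 n14575
theorem D30764 : act 5 n14575 = n30764 := rfl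
def n30765 : Q := act 7 n14575
theorem D30765 : act 7 n14575 = n30765 := rfl
theorem F49219 : act 4 n30765 = n16588 := d11_1 D30765 F27067 (iv4 F24238)
def n30766 : Q := act 2 n14576
theorem D30766 : act 2 n14576 = n30766 := rfl
theorem F49220 : act 7 n14577 = n30766 := d15_2 (iv0 D14576) D14577 (iv2 D30766)
def n30767 : Q := act 3 n14576
theorem D30767 : act 3 n14576 = n30767 := rfl
def n30768 : Q := act 4 n14576
theorem D30768 : act 4 n14576 = n30768 := rfl
def n30769 : Q := act 5 n14576
theorem D30769 : act 5 n14576 = n30769 := rfl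
def n30770 : Q := act 6 n14576
theorem D30770 : act 6 n14576 = n30770 := rfl
def n30771 : Q := act 7 n14576
theorem D30771 : act 7 n14576 = n30771 := rfl
theorem F49221 : act 2 n30771 = n14577 := d4_1 D30771 F49220 (iv2 D30766)
def n30772 : Q := act 3 n14577
theorem D30772 : act 3 n14577 = n30772 := rfl
def n30773 : Q := act 4 n14577
theorem D30773 : act 4 n14577 = n30773 := rfl
def n30774 : Q := act 5 n14577
theorem D30774 : act 5 n14577 = n30774 := rfl
def n30775 : Q := act 6 n14577
theorem D30775 : act 6 n14577 = n30775 := rfl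
def n30776 : Q := act 5 n14578
theorem D30776 : act 5 n14578 = n30776 := rfl
theorem F49222 : act 2 n30776 = n14579 := d2_1 D30776 (iv5 D14579) D14578
def n30777 : Q := act 6 n14578
theorem D30777 : act 6 n14578 = n30777 := rfl
theorem F49223 : act 2 n30777 = n14580 := d3_1 D30777 (iv6 D14580) D14578
def n30778 : Q := act 0 n14579
theorem D30778 : act 0 n14579 = n30778 := rfl
def n30779 : Q := act 1 n14579
theorem D30779 : act 1 n14579 = n30779 := rfl
def n30780 : Q := act 4 n14579
theorem D30780 : act 4 n14579 = n30780 := rfl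
theorem F49224 : act 3 n30780 = n15211 := d5_1 D30780 (iv4 D15211) (iv3 D7211) (iv4 F11230) (iv3 F24239)
def n30781 : Q := act 6 n14579
theorem D30781 : act 6 n14579 = n30781 := rfl
theorem F49225 : act 3 n30781 = n14581 := d7_1 D30781 (iv6 D14581) (iv3 F24239)
def n30782 : Q := act 0 n14580
theorem D30782 : act 0 n14580 = n30782 := rfl
def n30783 : Q := act 1 n14580
theorem D30783 : act 1 n14580 = n30783 := rfl
def n30784 : Q := act 5 n14580
theorem D30784 : act 5 n14580 = n30784 := rfl
def n30785 : Q := act 7 n14580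
theorem D30785 : act 7 n14580 = n30785 := rfl
theorem F49227 : act 3 n30785 = n14585 := d8_1 D30785 (iv7 D14585) (iv3 F24240)
def n30786 : Q := act 0 n14581
theorem D30786 : act 0 n14581 = n30786 := rfl
def n30787 : Q := act 1 n14581
theorem D30787 : act 1 n14581 = n30787 := rfl
def n30788 : Q := act 5 n14581
theorem D30788 : act 5 n14581 = n30788 := rfl
theorem F49228 : act 6 n30788 = n14584 := d12_2 D14581 D30788 (iv5 D14584) (iv6 D6967) D6966
def n30789 : Q := act 7 n14581
theorem D30789 : act 7 n14581 = n30789 := rfl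
theorem F49229 : act 4 n30789 = n15216 := d11_1 D30789 (iv7 D15216) (iv4 F24241)
def n30790 : Q := act 2 n14582
theorem D30790 : act 2 n14582 = n30790 := rfl
theorem F49230 : act 7 n14583 = n30790 := d15_2 (iv0 D14582) D14583 (iv2 D30790)
def n30791 : Q := act 3 n14582
theorem D30791 : act 3 n14582 = n30791 := rfl
def n30792 : Q := act 4 n14582
theorem D30792 : act 4 n14582 = n30792 := rfl
def n30793 : Q := act 5 n14582
theorem D30793 : act 5 n14582 = n30793 := rfl
theorem F49231 : act 0 n30793 = n30604 := d17_2 D14582 D30793 (iv5 D30604) F24156 F11205 D6969 (iv5 F11234) (iv0 D6968) (iv4 F11233)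
theorem F49232 : act 6 n30536 = n14582 := d21_5 D11427 (iv1 F24134) (iv5 D14487) D14488 D30536 D30793 F49231 (iv5 D30604) (iv6 D14513) F11204
def n30795 : Q := act 3 n14583
theorem D30795 : act 3 n14583 = n30795 := rfl
def n30796 : Q := act 4 n14583
theorem D30796 : act 4 n14583 = n30796 := rfl
def n30797 : Q := act 5 n14583
theorem D30797 : act 5 n14583 = n30797 := rfl
def n30798 : Q := act 6 n14583
theorem D30798 : act 6 n14583 = n30798 := rfl
def n30799 : Q := act 0 n14584
theorem D30799 : act 0 n14584 = n30799 := rfl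
def n30800 : Q := act 1 n14584
theorem D30800 : act 1 n14584 = n30800 := rfl
def n30803 : Q := act 0 n14587
theorem D30803 : act 0 n14587 = n30803 := rfl
def n30804 : Q := act 1 n14587
theorem D30804 : act 1 n14587 = n30804 := rfl
def n30805 : Q := act 2 n14587
theorem D30805 : act 2 n14587 = n30805 := rfl
def n30806 : Q := act 4 n14587
theorem D30806 : act 4 n14587 = n30806 := rfl
def n30807 : Q := act 0 n14588
theorem D30807 : act 0 n14588 = n30807 := rfl
theorem F49236 : act 1 n14591 = n30807 := d15_0 (iv0 D30807) (iv7 F48963) (iv2 F48964)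
def n30808 : Q := act 1 n14588
theorem D30808 : act 1 n14588 = n30808 := rfl
theorem F49237 : act 1 n30808 = n14591 := d15_1 D30808 F48960 (iv2 F48962)
def n30810 : Q := act 5 n14588
theorem D30810 : act 5 n14588 = n30810 := rfl
def n30811 : Q := act 0 n14590
theorem D30811 : act 0 n14590 = n30811 := rfl
def n30812 : Q := act 1 n14590
theorem D30812 : act 1 n14590 = n30812 := rfl
def n30813 : Q := act 2 n14590
theorem D30813 : act 2 n14590 = n30813 := rfl
theorem F49238 : act 5 n30813 = n30805 := d2_2 (iv5 F24246) D30813 (iv2 D30805)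
def n30814 : Q := act 4 n14590
theorem D30814 : act 4 n14590 = n30814 := rfl
def n30815 : Q := act 6 n14590
theorem D30815 : act 6 n14590 = n30815 := rfl
def n30816 : Q := act 3 n14591
theorem D30816 : act 3 n14591 = n30816 := rfl
def n30817 : Q := act 5 n14591
theorem D30817 : act 5 n14591 = n30817 := rfl
def n30818 : Q := act 6 n14591
theorem D30818 : act 6 n14591 = n30818 := rfl
theorem F49240 : act 4 n30818 = n14592 := d10_1 D30818 (iv6 D14592) D14591
def n30819 : Q := act 3 n14593
theorem D30819 : act 3 n14593 = n30819 := rfl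
theorem F49241 : act 7 n30819 = n29098 := d8_2 (iv7 F24248) D30819 (iv3 D29098)
def n30820 : Q := act 3 n14594
theorem D30820 : act 3 n14594 = n30820 := rfl
theorem F49242 : act 7 n30820 = n29915 := d8_2 (iv7 F24251) D30820 (iv3 D29915)
def n30821 : Q := act 6 n14594
theorem D30821 : act 6 n14594 = n30821 := rfl
theorem F49243 : act 4 n30821 = n14595 := d10_1 D30821 (iv6 D14595) D14594
def n30822 : Q := act 0 n14595
theorem D30822 : act 0 n14595 = n30822 := rfl
theorem F49244 : act 1 n24429 = n30822 := d15_0 (iv0 D30822) (iv7 F38375) F38373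
def n30823 : Q := act 1 n14595
theorem D30823 : act 1 n14595 = n30823 := rfl
theorem F49245 : act 1 n30823 = n24429 := d15_1 D30823 F38308 F37773
def n30824 : Q := act 4 n14596
theorem D30824 : act 4 n14596 = n30824 := rfl
theorem F49246 : act 2 n30824 = n14606 := d1_1 D30824 (iv4 D14606) (iv2 F24253)
theorem F49247 : act 1 n30824 = n25058 := d18_6 (iv1 F8210) (iv4 F7795) F10168 D6974 D14596 D30824 (iv4 D25058) (iv0 F19600) (iv5 D11554)
def n30825 : Q := act 6 n14596
theorem D30825 : act 6 n14596 = n30825 := rfl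
theorem F49248 : act 2 n30825 = n14607 := d3_1 D30825 (iv6 D14607) (iv2 F24253)
def n30826 : Q := act 0 n14597
theorem D30826 : act 0 n14597 = n30826 := rfl
theorem F49249 : act 5 n30826 = n24860 := d17_1 D30826 (iv1 F38952) F19180 F8444 (iv5 F8493) F19276 (iv5 F24259) (iv0 D14600) (iv4 F24255)
theorem F49250 : act 4 n30826 = n24514 := d18_1 D30826 F39922 F39921 F24337 D25895 F40919 (iv4 D24877) F38990 F38988
theorem F49251 : act 3 n30826 = n27979 := d20_5 D14452 F24106 (iv4 F39205) F39204 D30826 F45240 F45389 F45384 F39407 (iv1 F24093)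
theorem F49252 : act 6 n30826 = n25444 := d21_5 (iv5 F38827) (iv1 F38830) (iv5 D14596) D14597 D30826 (iv5 F46943) (iv1 D29303) (iv5 D13944) D13945 (iv1 F38831)
theorem F49253 : act 2 n14608 = n30826 := d15_3 (iv0 D30826) F24283 (iv7 F38961)
theorem F49254 : act 7 n30826 = n14609 := d4_2 (iv7 F38961) F49253 (iv2 F24277)
theorem F49255 : act 1 n14611 = n30826 := d15_1 F24282 F49254 (iv2 F24277)
def n30827 : Q := act 7 n14597
theorem D30827 : act 7 n14597 = n30827 := rfl
theorem F49256 : act 2 n30827 = n14611 := d4_1 D30827 (iv7 D14611) (iv2 F24254)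
theorem F49257 : act 4 n30827 = n14601 := d11_1 D30827 (iv7 D14601) (iv4 F24255)
theorem F49258 : act 5 n30827 = n28248 := d13_1 D30827 F45746 F38988
theorem F49259 : act 1 n14609 = n30827 := d15_1 D14609 (iv7 D30827) F24254
theorem F49260 : act 1 n30827 = n14608 := d15_1 F49259 F38961 F24277
def n30828 : Q := act 3 n14598
theorem D30828 : act 3 n14598 = n30828 := rfl
def n30829 : Q := act 5 n14598
theorem D30829 : act 5 n14598 = n30829 := rfl
theorem F49261 : act 2 n30829 = n14620 := d2_1 D30829 (iv5 D14620) (iv2 F24256)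
def n30830 : Q := act 6 n14598
theorem D30830 : act 6 n14598 = n30830 := rfl
theorem F49262 : act 2 n30830 = n14621 := d3_1 D30830 (iv6 D14621) (iv2 F24256)
theorem F49263 : act 4 n30830 = n14599 := d10_1 D30830 (iv6 D14599) D14598
def n30831 : Q := act 0 n14599
theorem D30831 : act 0 n14599 = n30831 := rfl
def n30832 : Q := act 7 n14599
theorem D30832 : act 7 n14599 = n30832 := rfl
theorem F49264 : act 2 n30832 = n14625 := d4_1 D30832 (iv7 D14625) (iv2 F24257)
theorem F49265 : act 1 n14625 = n30831 := d15_0 (iv0 D30831) D30832 F49264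
theorem F49266 : act 1 n14623 = n30832 := d15_1 D14623 (iv7 D30832) F24257
theorem F49267 : act 7 n30831 = n14623 := d15_2 F38528 F49265 (iv2 F38525)
theorem F49268 : act 2 n30831 = n14622 := d15_3 (iv0 D14622) D14623 (iv7 F49267)
theorem F49269 : act 7 n14622 = n24537 := d4_2 (iv7 F49267) F49268 F38525
theorem F49270 : act 5 n24538 = n14622 := d13_3 F49269 (iv5 D24537) D24538
theorem F49271 : act 1 n30832 = n14622 := d15_1 F49266 F49269 F38525
def n30833 : Q := act 5 n14602
theorem D30833 : act 5 n14602 = n30833 := rfl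
theorem F49272 : act 2 n30833 = n25191 := d2_1 D30833 (iv5 D25191) (iv2 F24266)
theorem F49273 : act 3 n30833 = n14603 := d6_1 D30833 (iv5 D14603) D14602
theorem F49274 : act 7 n30833 = n27923 := d13_2 (iv7 F24269) D30833 (iv5 D27923)
theorem F49275 : act 0 n30833 = n27996 := d17_2 F24271 D30833 F45265 F38024 F37078 F37076 F18116 (iv0 F18094) (iv4 F22160)
theorem F49276 : act 4 n30833 = n24647 := d18_5 F10163 D5401 D11624 (iv4 F24267) D30833 (iv0 D24647) (iv4 D11674) (iv0 F20247) (iv5 D6845)
theorem F49277 : act 0 n27946 = n30833 := d20_10 F49276 (iv1 F39550) (iv4 D25135) F19692 (iv1 F22452) (iv3 F17987) D23710 (iv1 F45163) (iv4 D27947) D27946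
def n30834 : Q := act 4 n14603
theorem D30834 : act 4 n14603 = n30834 := rfl
theorem F49278 : act 2 n30834 = n24528 := d1_1 D30834 (iv4 F38809) F38806
theorem F49279 : act 7 n30834 = n24529 := d11_2 (iv7 F24272) D30834 (iv4 F38515)
theorem F49280 : act 0 n30834 = n24466 := d18_2 (iv1 F38811) D30834 (iv4 D24466) (iv5 F18868) (iv4 F23678) D29800 F47958 F45756 F45754
theorem F49281 : act 1 n30834 = n24464 := d18_6 D5380 D11553 F18862 F11287 D14603 D30834 (iv4 D24464) (iv0 D11559) (iv5 D5382)
def n30835 : Q := act 6 n14603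
theorem D30835 : act 6 n14603 = n30835 := rfl
theorem F49282 : act 5 n30835 = n30835 := d12_1 D30835 (iv6 D30835) (iv5 D14603) F19370 D14603
def n30836 : Q := act 4 n14604
theorem D30836 : act 4 n14604 = n30836 := rfl
theorem F49283 : act 2 n30836 = n24491 := d1_1 D30836 F40220 (iv2 F40218)
theorem F49284 : act 7 n30836 = n24490 := d11_2 (iv7 F38833) D30836 F38828
theorem F49285 : act 0 n30836 = n24459 := d18_2 D14604 D30836 (iv4 D24459) (iv5 D11554) D11553 F19377 F18829 F19391 D6979
theorem F49286 : act 0 n24461 = n30836 := d20_1 D24461 (iv4 D30836) (iv3 F38834) (iv1 D11960) F8631 D5640 (iv1 F19606) (iv4 D11905) D11904 (iv1 F19601)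
def n30837 : Q := act 6 n14604
theorem D30837 : act 6 n14604 = n30837 := rfl
theorem F49287 : act 3 n30837 = n25202 := d7_1 D30837 (iv6 D25202) F38834
theorem F49288 : act 5 n30837 = n29941 := d12_1 D30837 (iv6 D29941) (iv5 F38994) F38995 F38859
def n30838 : Q := act 3 n14605
theorem D30838 : act 3 n14605 = n30838 := rfl
theorem F49289 : act 2 n30838 = n25198 := d0_1 D30838 (iv3 D25198) F22579 D24808 (iv2 F38832)
theorem F49290 : act 5 n30838 = n24874 := d6_2 (iv5 F37740) D30838 F38999
theorem F49291 : act 7 n30838 = n27976 := d8_2 F40217 D30838 F45233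
theorem F49292 : act 4 n24587 = n30838 := d20_2 D11630 D24587 (iv3 D30838) (iv1 D14605) F11246 D13539 D28378 F45870 (iv3 F36891) (iv1 D11629)
theorem F49293 : act 1 n30838 = n27940 := d18_8 F24271 F24267 (iv1 F18965) F18522 D11915 D25084 F39402 F49292 (iv5 D27940)
theorem F49294 : act 1 n27975 = n30838 := d15_0 F49293 F45143 (iv2 F45229)
def n30839 : Q := act 4 n14605
theorem D30839 : act 4 n14605 = n30839 := rfl
theorem F49295 : act 2 n30839 = n24490 := d1_1 D30839 F38828 (iv2 F38832)
theorem F49296 : act 7 n30839 = n24491 := d11_2 F40217 D30839 F40220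
theorem F49297 : act 0 n30839 = n24461 := d18_2 (iv1 F37739) D30839 (iv4 D24461) (iv5 D11557) (iv4 F18113) (iv0 F18114) F11287 (iv0 F18481) D24096
theorem F49298 : act 1 n30839 = n24459 := d18_6 (iv1 F38521) D24545 (iv1 F39007) F39005 (iv5 F37740) D30839 (iv4 D24459) D24458 (iv5 F38519)
def n30840 : Q := act 6 n14605
theorem D30840 : act 6 n14605 = n30840 := rfl
theorem F49299 : act 5 n30840 = n24878 := d12_1 D30840 (iv6 D24878) (iv5 D11797) D11798 (iv5 F37740)
def n30841 : Q := act 3 n14606
theorem D30841 : act 3 n14606 = n30841 := rfl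
theorem F49300 : act 4 n30841 = n28379 := d5_2 D14606 D30841 (iv3 D28379) (iv4 D13539) (iv3 F11246)
def n30842 : Q := act 6 n14606
theorem D30842 : act 6 n14606 = n30842 := rfl
theorem F49301 : act 4 n30842 = n14607 := d10_1 D30842 (iv6 D14607) D14606
def n30843 : Q := act 0 n14607
theorem D30843 : act 0 n14607 = n30843 := rfl
def n30844 : Q := act 1 n14607
theorem D30844 : act 1 n14607 = n30844 := rfl
def n30845 : Q := act 5 n14607
theorem D30845 : act 5 n14607 = n30845 := rfl
theorem F49302 : act 3 n30845 = n24199 := d6_1 D30845 F37917 (iv3 F24273)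
theorem F49303 : act 6 n30845 = n14610 := d12_2 D14607 D30845 (iv5 D14610) (iv6 D6980) D6979
def n30846 : Q := act 7 n14607
theorem D30846 : act 7 n14607 = n30846 := rfl
theorem F49304 : act 3 n30846 = n28383 := d8_1 D30846 (iv7 D28383) (iv3 F24273)
def n30847 : Q := act 4 n14608
theorem D30847 : act 4 n14608 = n30847 := rfl
theorem F49305 : act 2 n30847 = n24514 := d1_1 D30847 (iv4 F49250) (iv2 F49253)
theorem F49306 : act 3 n30847 = n25271 := d5_1 D30847 (iv4 D25271) D25270 F39874 (iv3 F38960)
theorem F49307 : act 7 n30847 = n24414 := d11_2 (iv7 F38961) D30847 F38285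
theorem F49308 : act 5 n30847 = n25018 := d17_5 (iv1 D5521) D5522 D11799 F38959 D30847 F39250 (iv5 D14146) F19351 (iv4 D11796)
theorem F49309 : act 0 n30847 = n24516 := d17_0 F45186 (iv1 D27955) (iv5 D13336) (iv4 F19152) D24858 F45745 (iv5 F49258) F49260 D30847
theorem F49310 : act 1 n30847 = n23802 := d18_6 F19551 D14147 F39011 (iv4 D24880) F38959 D30847 F37118 F19440 (iv5 F11916)
theorem F49311 : act 6 n27955 = n30844 := d21_3 (iv5 F49308) F49309 F45186 (iv1 D30844) (iv6 D14607) (iv5 D6979) (iv1 F19391) D14213 F23739 (iv1 F39250)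
def n30848 : Q := act 3 n14612
theorem D30848 : act 3 n14612 = n30848 := rfl
def n30849 : Q := act 5 n14612
theorem D30849 : act 5 n14612 = n30849 := rfl
def n30850 : Q := act 6 n14612
theorem D30850 : act 6 n14612 = n30850 := rfl
theorem F49312 : act 4 n30850 = n14614 := d10_1 D30850 (iv6 D14614) D14612
def n30851 : Q := act 7 n14614
theorem D30851 : act 7 n14614 = n30851 := rfl
theorem F49313 : act 5 n30851 = n29976 := d13_1 D30851 (iv7 D29976) (iv5 F24297)
def n30852 : Q := act 3 n14615
theorem D30852 : act 3 n14615 = n30852 := rfl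
def n30853 : Q := act 5 n14615
theorem D30853 : act 5 n14615 = n30853 := rfl
def n30854 : Q := act 6 n14615
theorem D30854 : act 6 n14615 = n30854 := rfl
theorem F49314 : act 4 n30854 = n14616 := d10_1 D30854 (iv6 D14616) D14615
def n30855 : Q := act 0 n14616
theorem D30855 : act 0 n14616 = n30855 := rfl
def n30856 : Q := act 1 n14616
theorem D30856 : act 1 n14616 = n30856 := rfl
def n30857 : Q := act 7 n14616
theorem D30857 : act 7 n14616 = n30857 := rfl
theorem F49315 : act 5 n30857 = n24997 := d13_1 D30857 (iv7 D24997) (iv5 F24298)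
def n30858 : Q := act 3 n14617
theorem D30858 : act 3 n14617 = n30858 := rfl
def n30859 : Q := act 4 n14617
theorem D30859 : act 4 n14617 = n30859 := rfl
theorem F49316 : act 2 n30859 = n24481 := d1_1 D30859 (iv4 F40857) (iv2 F40864)
theorem F49317 : act 7 n30859 = n24480 := d11_2 (iv7 F40863) D30859 (iv4 F40855)
theorem F49318 : act 1 n30859 = n23801 := d18_8 (iv1 F19376) F18829 F19390 (iv4 D11315) D11316 D24098 F37748 D30859 (iv5 D23801)
theorem F49319 : act 3 n30859 = n28223 := d20_3 D6983 D14617 D30859 (iv1 D28223) F22615 D13481 D28236 F45723 (iv3 F23979) (iv1 D6982)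
theorem F49320 : act 0 n30859 = n24456 := d20_4 D12259 (iv1 F40792) F45678 (iv3 F49319) F38388 D28230 F45703 (iv4 D14379) F22551 (iv1 F20305)
def n30860 : Q := act 5 n14617
theorem D30860 : act 5 n14617 = n30860 := rfl
def n30861 : Q := act 6 n14617
theorem D30861 : act 6 n14617 = n30861 := rfl
def n30862 : Q := act 3 n14618
theorem D30862 : act 3 n14618 = n30862 := rfl
def n30863 : Q := act 5 n14618
theorem D30863 : act 5 n14618 = n30863 := rfl
theorem F49321 : act 0 n30863 = n25921 := d17_2 (iv1 F37747) D30863 (iv5 D25921) (iv4 D12300) (iv5 F19560) (iv0 D11872) (iv5 F18487) F18486 D24098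
def n30864 : Q := act 6 n14618
theorem D30864 : act 6 n14618 = n30864 := rfl
def n30865 : Q := act 0 n14619
theorem D30865 : act 0 n14619 = n30865 := rfl
def n30866 : Q := act 1 n14619
theorem D30866 : act 1 n14619 = n30866 := rfl
def n30867 : Q := act 2 n14619
theorem D30867 : act 2 n14619 = n30867 := rfl
theorem F49322 : act 4 n30867 = n14630 := d1_2 (iv4 F24299) D30867 (iv2 D14630)
def n30868 : Q := act 5 n14619
theorem D30868 : act 5 n14619 = n30868 := rfl
theorem F49323 : act 3 n30868 = n14620 := d6_1 D30868 (iv5 D14620) D14619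
def n30869 : Q := act 6 n14619
theorem D30869 : act 6 n14619 = n30869 := rfl
theorem F49324 : act 3 n30869 = n14621 := d7_1 D30869 (iv6 D14621) D14619
theorem F49325 : act 4 n30869 = n14632 := d10_1 D30869 (iv6 D14632) (iv4 F24299)
def n30870 : Q := act 0 n14620
theorem D30870 : act 0 n14620 = n30870 := rfl
theorem F49326 : act 5 n30870 = n14687 := d17_3 (iv1 D14618) D14620 D30870 (iv4 F38279) (iv5 D24412) F19376 D23801 F38391 F24442
def n30871 : Q := act 1 n14620
theorem D30871 : act 1 n14620 = n30871 := rfl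
theorem F49327 : act 5 n30871 = n14688 := d17_7 (iv1 F18494) (iv5 D6973) (iv1 D3154) D3157 D6983 D14620 D30871 (iv0 F37759) (iv4 D24101)
def n30872 : Q := act 4 n14620
theorem D30872 : act 4 n14620 = n30872 := rfl
def n30873 : Q := act 6 n14620
theorem D30873 : act 6 n14620 = n30873 := rfl
def n30874 : Q := act 0 n14621
theorem D30874 : act 0 n14621 = n30874 := rfl
def n30875 : Q := act 1 n14621
theorem D30875 : act 1 n14621 = n30875 := rfl
def n30876 : Q := act 5 n14621
theorem D30876 : act 5 n14621 = n30876 := rfl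
def n30877 : Q := act 7 n14621
theorem D30877 : act 7 n14621 = n30877 := rfl
theorem F49328 : act 4 n30877 = n14625 := d11_1 D30877 (iv7 D14625) (iv4 F24300)
def n30878 : Q := act 3 n14622
theorem D30878 : act 3 n14622 = n30878 := rfl
theorem F49329 : act 7 n30878 = n25243 := d8_2 (iv7 F49269) D30878 F39784
theorem F49330 : act 2 n30878 = n25242 := d15_3 (iv0 D25242) D25243 (iv7 F49329)
def n30879 : Q := act 4 n14622
theorem D30879 : act 4 n14622 = n30879 := rfl
def n30880 : Q := act 6 n14622
theorem D30880 : act 6 n14622 = n30880 := rfl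
theorem F49331 : act 7 n30880 = n30712 := d14_2 (iv7 F49269) D30880 (iv6 D30712) (iv7 F24200) (iv6 F38526)
def n30881 : Q := act 3 n14623
theorem D30881 : act 3 n14623 = n30881 := rfl
theorem F49332 : act 6 n30881 = n28991 := d7_2 F24301 D30881 (iv3 F46617)
theorem F49333 : act 2 n30352 = n30881 := d3_3 F49332 F47480 F48782
theorem F49334 : act 0 n30881 = n30158 := d21_4 (iv5 F40781) (iv1 F40782) (iv5 F46616) (iv6 F49332) (iv6 D30158) (iv5 D14313) F11091 D11242 (iv6 F19955) (iv1 F38594)
theorem F49335 : act 1 n30881 = n30354 := d15_1 (iv0 F49334) (iv7 D30354) (iv2 F48502)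
def n30882 : Q := act 4 n14623
theorem D30882 : act 4 n14623 = n30882 := rfl
theorem F49336 : act 6 n30882 = n30717 := d10_2 F24301 D30882 (iv4 D30717)
def n30883 : Q := act 0 n14624
theorem D30883 : act 0 n14624 = n30883 := rfl
def n30884 : Q := act 1 n14624
theorem D30884 : act 1 n14624 = n30884 := rfl
def n30885 : Q := act 4 n14624
theorem D30885 : act 4 n14624 = n30885 := rfl
theorem F49337 : act 6 n30885 = n14627 := d10_2 (iv6 F24303) D30885 (iv4 D14627)
def n30886 : Q := act 7 n14624
theorem D30886 : act 7 n14624 = n30886 := rfl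
theorem F49338 : act 3 n30886 = n14646 := d8_1 D30886 (iv7 D14646) (iv3 F24302)
theorem F49339 : act 5 n30886 = n14625 := d13_1 D30886 (iv7 D14625) D14624
theorem F49340 : act 6 n30886 = n24638 := d14_1 D30886 F39191 (iv6 D24973) F19290 (iv6 F24303)
theorem E5096 : n24638 = n24520 := ((c21_5 F18871 (iv1 F8211) D5392 D11600 D24520 (iv6 F49340) F49339 (iv1 F38528) (iv5 D24537) (iv6 D11609) (iv1 F18874))).symm
theorem F49341 : act 3 n24520 = n11667 := (sb E5096 (iv3 D24638))
theorem F49342 : act 5 n24520 = n30571 := (sb E5096 (iv5 F48991))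
theorem F49343 : act 6 n24520 = n30886 := (sb E5096 (iv6 F49340))
theorem F49344 : act 7 n24520 = n24973 := (sb E5096 F39191)
def n30887 : Q := act 0 n14627
theorem D30887 : act 0 n14627 = n30887 := rfl
theorem F49345 : act 4 n30887 = n28246 := d18_3 F19256 D14627 D30887 (iv5 D28246) (iv4 D13485) (iv0 F18105) F8444 F8486 D11849
def n30888 : Q := act 3 n14627
theorem D30888 : act 3 n14627 = n30888 := rfl
theorem F49346 : act 4 n30888 = n14647 := d5_2 D14627 D30888 (iv3 D14647) (iv4 D6996) (iv3 F11250)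
def n30889 : Q := act 5 n14627
theorem D30889 : act 5 n14627 = n30889 := rfl
theorem F49347 : act 0 n30889 = n25019 := d17_2 F45189 D30889 (iv5 D25019) D25018 (iv5 F49308) F49310 (iv5 F39843) (iv0 F39846) D27956
theorem F49348 : act 1 n30889 = n25024 := d17_6 (iv1 F19277) (iv5 F24206) (iv1 D6986) D6987 D14627 D30889 (iv5 D25024) F39173 F39172
def n30890 : Q := act 2 n14628
theorem D30890 : act 2 n14628 = n30890 := rfl
theorem F49349 : act 7 n14629 = n30890 := d15_2 (iv0 D14628) D14629 (iv2 D30890)
def n30891 : Q := act 3 n14628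
theorem D30891 : act 3 n14628 = n30891 := rfl
def n30892 : Q := act 4 n14628
theorem D30892 : act 4 n14628 = n30892 := rfl
def n30893 : Q := act 5 n14628
theorem D30893 : act 5 n14628 = n30893 := rfl
def n30894 : Q := act 6 n14628
theorem D30894 : act 6 n14628 = n30894 := rfl
def n30895 : Q := act 7 n14628
theorem D30895 : act 7 n14628 = n30895 := rfl
theorem F49350 : act 2 n30895 = n14629 := d4_1 D30895 F49349 (iv2 D30890)
def n30896 : Q := act 3 n14629
theorem D30896 : act 3 n14629 = n30896 := rfl
def n30897 : Q := act 4 n14629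
theorem D30897 : act 4 n14629 = n30897 := rfl
def n30898 : Q := act 5 n14629
theorem D30898 : act 5 n14629 = n30898 := rfl
def n30899 : Q := act 6 n14629
theorem D30899 : act 6 n14629 = n30899 := rfl
def n30900 : Q := act 5 n14630
theorem D30900 : act 5 n14630 = n30900 := rfl
theorem F49351 : act 2 n30900 = n14631 := d2_1 D30900 (iv5 D14631) D14630
def n30901 : Q := act 6 n14630
theorem D30901 : act 6 n14630 = n30901 := rfl
theorem F49352 : act 2 n30901 = n14632 := d3_1 D30901 (iv6 D14632) D14630
def n30902 : Q := act 0 n14631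
theorem D30902 : act 0 n14631 = n30902 := rfl
def n30903 : Q := act 1 n14631
theorem D30903 : act 1 n14631 = n30903 := rfl
def n30904 : Q := act 4 n14631
theorem D30904 : act 4 n14631 = n30904 := rfl
theorem F49353 : act 3 n30904 = n15202 := d5_1 D30904 (iv4 D15202) (iv3 D7209) (iv4 F11252) (iv3 F24315)
def n30905 : Q := act 6 n14631
theorem D30905 : act 6 n14631 = n30905 := rfl
theorem F49354 : act 3 n30905 = n14633 := d7_1 D30905 (iv6 D14633) (iv3 F24315)
def n30906 : Q := act 0 n14632
theorem D30906 : act 0 n14632 = n30906 := rfl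
def n30907 : Q := act 1 n14632
theorem D30907 : act 1 n14632 = n30907 := rfl
def n30908 : Q := act 5 n14632
theorem D30908 : act 5 n14632 = n30908 := rfl
theorem F49355 : act 3 n30908 = n14636 := d6_1 D30908 (iv5 D14636) (iv3 F24316)
def n30909 : Q := act 7 n14632
theorem D30909 : act 7 n14632 = n30909 := rfl
theorem F49356 : act 3 n30909 = n14637 := d8_1 D30909 (iv7 D14637) (iv3 F24316)
def n30910 : Q := act 0 n14633
theorem D30910 : act 0 n14633 = n30910 := rfl
def n30911 : Q := act 1 n14633
theorem D30911 : act 1 n14633 = n30911 := rfl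
def n30912 : Q := act 5 n14633
theorem D30912 : act 5 n14633 = n30912 := rfl
theorem F49357 : act 6 n30912 = n14636 := d12_2 D14633 D30912 (iv5 D14636) (iv6 D6991) D6990
def n30913 : Q := act 7 n14633
theorem D30913 : act 7 n14633 = n30913 := rfl
theorem F49358 : act 4 n30913 = n15207 := d11_1 D30913 (iv7 D15207) (iv4 F24317)
def n30914 : Q := act 3 n14634
theorem D30914 : act 3 n14634 = n30914 := rfl
def n30915 : Q := act 5 n14634
theorem D30915 : act 5 n14634 = n30915 := rfl
def n30916 : Q := act 6 n14634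
theorem D30916 : act 6 n14634 = n30916 := rfl
theorem F49359 : act 4 n30916 = n26090 := d10_1 D30916 (iv6 D26090) (iv4 F47798)
theorem F49360 : act 7 n30916 = n28881 := d14_2 (iv7 F47799) D30916 F46522 (iv7 F24130) (iv6 F24611)
def n30917 : Q := act 3 n14635
theorem D30917 : act 3 n14635 = n30917 := rfl
def n30918 : Q := act 5 n14635
theorem D30918 : act 5 n14635 = n30918 := rfl
def n30919 : Q := act 0 n14636
theorem D30919 : act 0 n14636 = n30919 := rfl
def n30920 : Q := act 1 n14636
theorem D30920 : act 1 n14636 = n30920 := rfl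
def n30921 : Q := act 4 n14636
theorem D30921 : act 4 n14636 = n30921 := rfl
def n30922 : Q := act 7 n14636
theorem D30922 : act 7 n14636 = n30922 := rfl
theorem F49361 : act 5 n30922 = n14637 := d13_1 D30922 (iv7 D14637) D14636
def n30923 : Q := act 3 n14639
theorem D30923 : act 3 n14639 = n30923 := rfl
def n30924 : Q := act 5 n14639
theorem D30924 : act 5 n14639 = n30924 := rfl
def n30925 : Q := act 6 n14639
theorem D30925 : act 6 n14639 = n30925 := rfl
theorem F49362 : act 4 n30925 = n14640 := d10_1 D30925 (iv6 D14640) D14639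
theorem F49363 : act 7 n30925 = n29639 := d14_2 F38668 D30925 F47619 (iv7 F24126) (iv6 F38667)
def n30926 : Q := act 4 n14641
theorem D30926 : act 4 n14641 = n30926 := rfl
theorem F49364 : act 6 n30926 = n30335 := d10_2 (iv6 F24322) D30926 (iv4 D30335)
def n30927 : Q := act 3 n14642
theorem D30927 : act 3 n14642 = n30927 := rfl
theorem F49365 : act 6 n30927 = n30819 := d7_2 (iv6 F24323) D30927 (iv3 D30819)
def n30928 : Q := act 5 n14642
theorem D30928 : act 5 n14642 = n30928 := rfl
def n30929 : Q := act 3 n14643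
theorem D30929 : act 3 n14643 = n30929 := rfl
def n30930 : Q := act 4 n14643
theorem D30930 : act 4 n14643 = n30930 := rfl
def n30931 : Q := act 3 n14644
theorem D30931 : act 3 n14644 = n30931 := rfl
def n30932 : Q := act 4 n14644
theorem D30932 : act 4 n14644 = n30932 := rfl
theorem F49366 : act 0 n30932 = n14951 := d18_2 (iv1 F39346) D30932 (iv4 D14951) (iv5 D7120) (iv4 F11438) (iv0 F47637) (iv4 D14642) F20405 (iv5 F39343)
def n30933 : Q := act 0 n14645
theorem D30933 : act 0 n14645 = n30933 := rfl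
def n30934 : Q := act 1 n14645
theorem D30934 : act 1 n14645 = n30934 := rfl
theorem F49367 : act 4 n30934 = n24775 := d18_7 (iv1 F20549) (iv4 F47794) (iv1 D14635) F11255 D6994 D14645 D30934 F38778 F24613
def n30935 : Q := act 3 n14645
theorem D30935 : act 3 n14645 = n30935 := rfl
theorem F49368 : act 6 n30935 = n14647 := d7_2 (iv6 F24324) D30935 (iv3 D14647)
def n30936 : Q := act 5 n14645
theorem D30936 : act 5 n14645 = n30936 := rfl
def n30937 : Q := act 7 n14645
theorem D30937 : act 7 n14645 = n30937 := rfl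
theorem F49370 : act 4 n30937 = n14646 := d11_1 D30937 (iv7 D14646) D14645
def n30938 : Q := act 0 n14647
theorem D30938 : act 0 n14647 = n30938 := rfl
def n30939 : Q := act 1 n14647
theorem D30939 : act 1 n14647 = n30939 := rfl
def n30940 : Q := act 2 n14647
theorem D30940 : act 2 n14647 = n30940 := rfl
def n30941 : Q := act 3 n14648
theorem D30941 : act 3 n14648 = n30941 := rfl
def n30942 : Q := act 5 n14648
theorem D30942 : act 5 n14648 = n30942 := rfl
theorem F49372 : act 2 n30942 = n14653 := d2_1 D30942 (iv5 D14653) (iv2 F24327)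
theorem F49373 : act 0 n30942 = n30689 := d17_2 F38948 D30942 (iv5 D30689) (iv4 F24576) F24574 F49255 F49249 (iv0 D24860) D24861
theorem F49374 : act 1 n30942 = n30686 := d17_6 D6950 F19438 F24331 (iv5 D14649) D14648 D30942 (iv5 D30686) (iv0 D14545) (iv4 D6952)
def n30943 : Q := act 6 n14648
theorem D30943 : act 6 n14648 = n30943 := rfl
theorem F49375 : act 2 n30943 = n14654 := d3_1 D30943 (iv6 D14654) (iv2 F24327)
theorem F49376 : act 4 n30943 = n14650 := d10_1 D30943 (iv6 D14650) D14648
def n30944 : Q := act 0 n14650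
theorem D30944 : act 0 n14650 = n30944 := rfl
def n30945 : Q := act 1 n14650
theorem D30945 : act 1 n14650 = n30945 := rfl
theorem F49377 : act 1 n30945 = n14659 := d15_1 D30945 (iv7 D14659) (iv2 F24333)
def n30946 : Q := act 7 n14650
theorem D30946 : act 7 n14650 = n30946 := rfl
theorem F49378 : act 2 n30946 = n14659 := d4_1 D30946 (iv7 D14659) (iv2 F24333)
theorem F49379 : act 1 n14659 = n30944 := d15_0 (iv0 D30944) D30946 F49378
theorem F49380 : act 1 n14657 = n30946 := d15_1 D14657 (iv7 D30946) F24333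
theorem F49381 : act 1 n30946 = n14656 := d15_0 (iv0 D14656) D14659 (iv2 F49378)
def n30947 : Q := act 3 n14651
theorem D30947 : act 3 n14651 = n30947 := rfl
def n30948 : Q := act 6 n14651
theorem D30948 : act 6 n14651 = n30948 := rfl
def n30949 : Q := act 0 n14652
theorem D30949 : act 0 n14652 = n30949 := rfl
def n30950 : Q := act 1 n14652
theorem D30950 : act 1 n14652 = n30950 := rfl
def n30951 : Q := act 2 n14652
theorem D30951 : act 2 n14652 = n30951 := rfl
theorem F49382 : act 4 n30951 = n14664 := d1_2 (iv4 F24334) D30951 (iv2 D14664)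
def n30952 : Q := act 5 n14652
theorem D30952 : act 5 n14652 = n30952 := rfl
theorem F49383 : act 3 n30952 = n14653 := d6_1 D30952 (iv5 D14653) D14652
def n30953 : Q := act 6 n14652
theorem D30953 : act 6 n14652 = n30953 := rfl
theorem F49384 : act 3 n30953 = n14654 := d7_1 D30953 (iv6 D14654) D14652
theorem F49385 : act 4 n30953 = n14666 := d10_1 D30953 (iv6 D14666) (iv4 F24334)
def n30954 : Q := act 0 n14653
theorem D30954 : act 0 n14653 = n30954 := rfl
theorem F49386 : act 5 n30954 = n25897 := d17_3 F19178 D14653 D30954 (iv4 F45743) (iv5 F49258) F49260 (iv5 F38959) (iv0 D11799) D11801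
theorem F49387 : act 2 n30689 = n30954 := d2_3 F49386 (iv2 F40928) D30689
theorem F49388 : act 7 n30686 = n30954 := d13_0 F49386 F40929 D30686
theorem F49389 : act 4 n30889 = n30954 := d16_2 D14627 D30889 F49386 (iv4 F45743) (iv5 F49258) F49257 (iv5 F39140) F39139 (iv2 F19288)
def n30955 : Q := act 1 n14653
theorem D30955 : act 1 n14653 = n30955 := rfl
theorem F49390 : act 7 n30955 = n30689 := d15_2 (iv0 D30954) D30955 F49387
theorem F49391 : act 5 n30955 = n25898 := d17_7 F19425 (iv5 D11603) (iv1 F20387) (iv5 D7001) D7000 D14653 D30955 F40924 (iv4 D14535)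
theorem F49392 : act 2 n30686 = n30955 := d2_3 F49391 (iv2 F40926) D30686
def n30956 : Q := act 6 n14653
theorem D30956 : act 6 n14653 = n30956 := rfl
def n30957 : Q := act 0 n14654
theorem D30957 : act 0 n14654 = n30957 := rfl
def n30958 : Q := act 1 n14654
theorem D30958 : act 1 n14654 = n30958 := rfl
def n30959 : Q := act 5 n14654
theorem D30959 : act 5 n14654 = n30959 := rfl
def n30960 : Q := act 7 n14654
theorem D30960 : act 7 n14654 = n30960 := rfl
theorem F49393 : act 4 n30960 = n14659 := d11_1 D30960 (iv7 D14659) (iv4 F24335)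
def n30961 : Q := act 2 n14656
theorem D30961 : act 2 n14656 = n30961 := rfl
theorem F49394 : act 7 n14657 = n30961 := d15_2 (iv0 D14656) D14657 (iv2 D30961)
def n30962 : Q := act 3 n14656
theorem D30962 : act 3 n14656 = n30962 := rfl
def n30963 : Q := act 4 n14656
theorem D30963 : act 4 n14656 = n30963 := rfl
def n30964 : Q := act 5 n14656
theorem D30964 : act 5 n14656 = n30964 := rfl
def n30965 : Q := act 6 n14656
theorem D30965 : act 6 n14656 = n30965 := rfl
def n30966 : Q := act 7 n14656
theorem D30966 : act 7 n14656 = n30966 := rfl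
theorem F49395 : act 2 n30966 = n14657 := d4_1 D30966 F49394 (iv2 D30961)
def n30967 : Q := act 3 n14657
theorem D30967 : act 3 n14657 = n30967 := rfl
def n30968 : Q := act 4 n14657
theorem D30968 : act 4 n14657 = n30968 := rfl
def n30969 : Q := act 5 n14657
theorem D30969 : act 5 n14657 = n30969 := rfl
theorem F49396 : act 6 n30002 = n30969 := d21_5 (iv5 D6739) (iv1 F10989) (iv5 F23654) D29790 (iv1 F48193) (iv5 D30969) (iv1 D14657) D14658 F24342 F23083
def n30970 : Q := act 6 n14657
theorem D30970 : act 6 n14657 = n30970 := rfl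
def n30971 : Q := act 4 n14658
theorem D30971 : act 4 n14658 = n30971 := rfl
theorem F49397 : act 6 n30971 = n29041 := d10_2 (iv6 F24342) D30971 (iv4 D29041)
def n30972 : Q := act 0 n14660
theorem D30972 : act 0 n14660 = n30972 := rfl
theorem F49398 : act 1 n23827 = n30972 := d15_0 (iv0 D30972) F24345 D23827
def n30973 : Q := act 1 n14660
theorem D30973 : act 1 n14660 = n30973 := rfl
def n30974 : Q := act 2 n14660
theorem D30974 : act 2 n14660 = n30974 := rfl
theorem F49399 : act 3 n30974 = n28326 := d0_2 D14660 D30974 (iv2 F45835) F22665 F11265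
theorem F49400 : act 5 n30974 = n28474 := d2_2 (iv5 F24344) D30974 (iv2 D28474)
theorem F49401 : act 7 n30974 = n23827 := d4_2 (iv7 F24345) D30974 (iv2 D23827)
theorem F49402 : act 1 n30974 = n23825 := d15_0 (iv0 D23825) (iv7 F24345) D30974
theorem F49403 : act 1 n30973 = n23827 := d15_1 D30973 (iv7 F49401) (iv2 D30974)
theorem F49404 : act 1 n23826 = n30974 := d15_1 D23826 F49401 (iv2 D23827)
def n30975 : Q := act 4 n14660
theorem D30975 : act 4 n14660 = n30975 := rfl
theorem F49405 : act 3 n30975 = n23815 := d5_1 D30975 F37130 F18115 (iv4 F11264) D14660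
theorem F49406 : act 7 n30975 = n23813 := d11_2 (iv7 F24345) D30975 F37129
def n30976 : Q := act 6 n14660
theorem D30976 : act 6 n14660 = n30976 := rfl
theorem F49407 : act 3 n30976 = n14661 := d7_1 D30976 (iv6 D14661) D14660
def n30977 : Q := act 0 n14661
theorem D30977 : act 0 n14661 = n30977 := rfl
theorem F49408 : act 1 n24282 = n30977 := d15_0 (iv0 D30977) (iv7 F38228) F38226
def n30978 : Q := act 1 n14661
theorem D30978 : act 1 n14661 = n30978 := rfl
theorem F49409 : act 1 n30978 = n24282 := d15_1 D30978 F38057 (iv2 F24346)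
def n30979 : Q := act 5 n14661
theorem D30979 : act 5 n14661 = n30979 := rfl
theorem F49410 : act 2 n30979 = n28350 := d2_1 D30979 (iv5 D28350) (iv2 F24346)
theorem F49411 : act 6 n30979 = n28477 := d12_2 D14661 D30979 (iv5 D28477) (iv6 D13574) (iv5 F11263)
def n30980 : Q := act 2 n14662
theorem D30980 : act 2 n14662 = n30980 := rfl
theorem F49412 : act 7 n14663 = n30980 := d15_2 (iv0 D14662) D14663 (iv2 D30980)
def n30981 : Q := act 3 n14662
theorem D30981 : act 3 n14662 = n30981 := rfl
def n30982 : Q := act 4 n14662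
theorem D30982 : act 4 n14662 = n30982 := rfl
def n30983 : Q := act 5 n14662
theorem D30983 : act 5 n14662 = n30983 := rfl
def n30984 : Q := act 6 n14662
theorem D30984 : act 6 n14662 = n30984 := rfl
def n30985 : Q := act 7 n14662
theorem D30985 : act 7 n14662 = n30985 := rfl
theorem F49413 : act 2 n30985 = n14663 := d4_1 D30985 F49412 (iv2 D30980)
def n30986 : Q := act 3 n14663
theorem D30986 : act 3 n14663 = n30986 := rfl
def n30987 : Q := act 4 n14663
theorem D30987 : act 4 n14663 = n30987 := rfl
def n30988 : Q := act 5 n14663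
theorem D30988 : act 5 n14663 = n30988 := rfl
def n30989 : Q := act 6 n14663
theorem D30989 : act 6 n14663 = n30989 := rfl
def n30990 : Q := act 5 n14664
theorem D30990 : act 5 n14664 = n30990 := rfl
theorem F49414 : act 2 n30990 = n14665 := d2_1 D30990 (iv5 D14665) D14664
def n30991 : Q := act 6 n14664
theorem D30991 : act 6 n14664 = n30991 := rfl
theorem F49415 : act 2 n30991 = n14666 := d3_1 D30991 (iv6 D14666) D14664
def n30992 : Q := act 0 n14665
theorem D30992 : act 0 n14665 = n30992 := rfl
def n30993 : Q := act 1 n14665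
theorem D30993 : act 1 n14665 = n30993 := rfl
def n30994 : Q := act 4 n14665
theorem D30994 : act 4 n14665 = n30994 := rfl
theorem F49416 : act 3 n30994 = n15114 := d5_1 D30994 (iv4 D15114) F11511 (iv4 F11268) (iv3 F24348)
def n30995 : Q := act 6 n14665
theorem D30995 : act 6 n14665 = n30995 := rfl
theorem F49417 : act 3 n30995 = n14669 := d7_1 D30995 (iv6 D14669) (iv3 F24348)
def n30996 : Q := act 0 n14666
theorem D30996 : act 0 n14666 = n30996 := rfl
def n30997 : Q := act 1 n14666
theorem D30997 : act 1 n14666 = n30997 := rfl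
def n30998 : Q := act 5 n14666
theorem D30998 : act 5 n14666 = n30998 := rfl
theorem F49418 : act 3 n30998 = n14672 := d6_1 D30998 (iv5 D14672) (iv3 F24349)
def n30999 : Q := act 7 n14666
theorem D30999 : act 7 n14666 = n30999 := rfl
theorem F49419 : act 3 n30999 = n14673 := d8_1 D30999 (iv7 D14673) (iv3 F24349)
def n31000 : Q := act 3 n14667
theorem D31000 : act 3 n14667 = n31000 := rfl
theorem F49420 : act 5 n31000 = n14819 := d6_2 (iv5 F24350) D31000 (iv3 D14819)
theorem F49421 : act 7 n31000 = n30751 := d8_2 F24354 D31000 F49210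
def n31001 : Q := act 6 n14667
theorem D31001 : act 6 n14667 = n31001 := rfl
theorem F49422 : act 2 n31001 = n30763 := d3_1 D31001 (iv6 D30763) F24353
theorem F49423 : act 4 n31001 = n14862 := d10_1 D31001 (iv6 D14862) (iv4 F24351)
def n31002 : Q := act 3 n14668
theorem D31002 : act 3 n14668 = n31002 := rfl
theorem F49424 : act 5 n31002 = n14810 := d6_2 (iv5 F24357) D31002 (iv3 D14810)
theorem F49425 : act 7 n31002 = n30761 := d8_2 (iv7 F24356) D31002 F49216
def n31003 : Q := act 6 n14668
theorem D31003 : act 6 n14668 = n31003 := rfl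
theorem F49426 : act 2 n31003 = n30753 := d3_1 D31003 (iv6 D30753) F24359
theorem F49427 : act 4 n31003 = n14868 := d10_1 D31003 (iv6 D14868) (iv4 F24358)
def n31004 : Q := act 0 n14669
theorem D31004 : act 0 n14669 = n31004 := rfl
def n31005 : Q := act 1 n14669
theorem D31005 : act 1 n14669 = n31005 := rfl
def n31006 : Q := act 5 n14669
theorem D31006 : act 5 n14669 = n31006 := rfl
theorem F49428 : act 6 n31006 = n14672 := d12_2 D14669 D31006 (iv5 D14672) (iv6 D7006) D7005
def n31007 : Q := act 7 n14669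
theorem D31007 : act 7 n14669 = n31007 := rfl
theorem F49429 : act 4 n31007 = n15123 := d11_1 D31007 (iv7 D15123) (iv4 F24360)
def n31008 : Q := act 2 n14670
theorem D31008 : act 2 n14670 = n31008 := rfl
theorem F49430 : act 4 n31008 = n28301 := d1_2 (iv4 F46741) D31008 (iv2 D28301)
theorem F49431 : act 7 n14671 = n31008 := d15_2 (iv0 D14670) D14671 (iv2 D31008)
def n31009 : Q := act 3 n14670
theorem D31009 : act 3 n14670 = n31009 := rfl
def n31010 : Q := act 5 n14670
theorem D31010 : act 5 n14670 = n31010 := rfl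
def n31011 : Q := act 6 n14670
theorem D31011 : act 6 n14670 = n31011 := rfl
theorem F49432 : act 4 n31011 = n24274 := d10_1 D31011 (iv6 F38044) (iv4 F46741)
def n31012 : Q := act 7 n14670
theorem D31012 : act 7 n14670 = n31012 := rfl
theorem F49433 : act 2 n31012 = n14671 := d4_1 D31012 F49431 (iv2 D31008)
theorem F49434 : act 4 n31012 = n28305 := d11_1 D31012 (iv7 D28305) (iv4 F46741)
def n31013 : Q := act 3 n14671
theorem D31013 : act 3 n14671 = n31013 := rfl
def n31014 : Q := act 5 n14671
theorem D31014 : act 5 n14671 = n31014 := rfl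
def n31015 : Q := act 6 n14671
theorem D31015 : act 6 n14671 = n31015 := rfl
theorem F49435 : act 4 n31015 = n28309 := d10_1 D31015 (iv6 D28309) (iv4 F46539)
def n31016 : Q := act 0 n14672
theorem D31016 : act 0 n14672 = n31016 := rfl
theorem F49436 : act 5 n31016 = n29430 := d17_3 (iv1 D14671) D14672 D31016 (iv4 D29430) (iv5 D13996) (iv0 F22657) (iv5 D13510) D13509 (iv4 F46539)
def n31017 : Q := act 1 n14672
theorem D31017 : act 1 n14672 = n31017 := rfl
theorem F49437 : act 5 n30916 = n31017 := d21_6 F11263 F11254 (iv5 D6990) D6991 D14634 D30916 (iv1 D31017) (iv5 D14672) (iv6 D7006) D7003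
def n31018 : Q := act 4 n14672
theorem D31018 : act 4 n14672 = n31018 := rfl
def n31019 : Q := act 7 n14672
theorem D31019 : act 7 n14672 = n31019 := rfl
theorem F49438 : act 5 n31019 = n14673 := d13_1 D31019 (iv7 D14673) D14672
def n31020 : Q := act 0 n14675
theorem D31020 : act 0 n14675 = n31020 := rfl
def n31021 : Q := act 1 n14675
theorem D31021 : act 1 n14675 = n31021 := rfl
def n31022 : Q := act 2 n14675
theorem D31022 : act 2 n14675 = n31022 := rfl
def n31023 : Q := act 4 n14675
theorem D31023 : act 4 n14675 = n31023 := rfl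
def n31024 : Q := act 5 n14675
theorem D31024 : act 5 n14675 = n31024 := rfl
theorem F49439 : act 3 n31024 = n14677 := d6_1 D31024 (iv5 D14677) D14675
def n31025 : Q := act 3 n14676
theorem D31025 : act 3 n14676 = n31025 := rfl
def n31026 : Q := act 5 n14676
theorem D31026 : act 5 n14676 = n31026 := rfl
def n31027 : Q := act 4 n14677
theorem D31027 : act 4 n14677 = n31027 := rfl
def n31030 : Q := act 2 n14680
theorem D31030 : act 2 n14680 = n31030 := rfl
def n31031 : Q := act 4 n14680
theorem D31031 : act 4 n14680 = n31031 := rfl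
def n31032 : Q := act 5 n14680
theorem D31032 : act 5 n14680 = n31032 := rfl
theorem F49440 : act 3 n31032 = n14682 := d6_1 D31032 (iv5 D14682) D14680
theorem F49441 : act 6 n30052 = n31032 := d7_0 F49440 F24364 D30052
def n31033 : Q := act 6 n14680
theorem D31033 : act 6 n14680 = n31033 := rfl
theorem F49442 : act 3 n31033 = n14683 := d7_1 D31033 (iv6 D14683) D14680
def n31034 : Q := act 3 n14681
theorem D31034 : act 3 n14681 = n31034 := rfl
def n31035 : Q := act 5 n14681
theorem D31035 : act 5 n14681 = n31035 := rfl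
def n31036 : Q := act 6 n14681
theorem D31036 : act 6 n14681 = n31036 := rfl
theorem F49443 : act 4 n31036 = n14683 := d10_1 D31036 (iv6 D14683) D14681
def n31037 : Q := act 4 n14682
theorem D31037 : act 4 n14682 = n31037 := rfl
theorem F49444 : act 6 n31037 = n30053 := d10_2 (iv6 F24364) D31037 (iv4 D30053)
def n31038 : Q := act 3 n14684
theorem D31038 : act 3 n14684 = n31038 := rfl
theorem F49445 : act 6 n31038 = n29042 := d7_2 (iv6 F24365) D31038 (iv3 D29042)
def n31039 : Q := act 5 n14684
theorem D31039 : act 5 n14684 = n31039 := rfl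
def n31040 : Q := act 3 n14685
theorem D31040 : act 3 n14685 = n31040 := rfl
def n31041 : Q := act 5 n14685
theorem D31041 : act 5 n14685 = n31041 := rfl
theorem F49446 : act 2 n31041 = n14690 := d2_1 D31041 (iv5 D14690) (iv2 F24366)
theorem F49447 : act 0 n31041 = n30863 := d17_2 (iv1 F40967) D31041 (iv5 D30863) (iv4 F24442) F39006 F39007 (iv5 F46305) F46304 (iv4 F40966)
theorem F49448 : act 1 n31041 = n30860 := d17_6 D6981 D14613 (iv1 F24289) F19225 D14685 D31041 (iv5 D30860) (iv0 D14617) (iv4 D6983)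
theorem F49449 : act 1 n30860 = n25921 := d15_1 F49448 F40977 (iv2 F49446)
def n31042 : Q := act 6 n14685
theorem D31042 : act 6 n14685 = n31042 := rfl
theorem F49450 : act 2 n31042 = n14691 := d3_1 D31042 (iv6 D14691) (iv2 F24366)
theorem F49451 : act 4 n31042 = n14686 := d10_1 D31042 (iv6 D14686) D14685
def n31043 : Q := act 0 n14686
theorem D31043 : act 0 n14686 = n31043 := rfl
def n31044 : Q := act 1 n14686
theorem D31044 : act 1 n14686 = n31044 := rfl
theorem F49452 : act 1 n31044 = n14694 := d15_1 D31044 (iv7 D14694) (iv2 F24367)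
def n31045 : Q := act 7 n14686
theorem D31045 : act 7 n14686 = n31045 := rfl
theorem F49453 : act 2 n31045 = n14694 := d4_1 D31045 (iv7 D14694) (iv2 F24367)
theorem F49454 : act 1 n14694 = n31043 := d15_0 (iv0 D31043) D31045 F49453
theorem F49455 : act 1 n14693 = n31045 := d15_1 D14693 (iv7 D31045) F24367
theorem F49456 : act 1 n31045 = n14692 := d15_0 (iv0 D14692) D14694 (iv2 F49453)
def n31046 : Q := act 3 n14687
theorem D31046 : act 3 n14687 = n31046 := rfl
def n31047 : Q := act 3 n14688
theorem D31047 : act 3 n14688 = n31047 := rfl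
def n31048 : Q := act 6 n14688
theorem D31048 : act 6 n14688 = n31048 := rfl
def n31049 : Q := act 0 n14689
theorem D31049 : act 0 n14689 = n31049 := rfl
def n31050 : Q := act 1 n14689
theorem D31050 : act 1 n14689 = n31050 := rfl
def n31051 : Q := act 2 n14689
theorem D31051 : act 2 n14689 = n31051 := rfl
theorem F49457 : act 4 n31051 = n14697 := d1_2 (iv4 F24368) D31051 (iv2 D14697)
def n31052 : Q := act 5 n14689
theorem D31052 : act 5 n14689 = n31052 := rfl
theorem F49458 : act 3 n31052 = n14690 := d6_1 D31052 (iv5 D14690) D14689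
def n31053 : Q := act 6 n14689
theorem D31053 : act 6 n14689 = n31053 := rfl
theorem F49459 : act 3 n31053 = n14691 := d7_1 D31053 (iv6 D14691) D14689
theorem F49460 : act 4 n31053 = n14699 := d10_1 D31053 (iv6 D14699) (iv4 F24368)
def n31054 : Q := act 0 n14690
theorem D31054 : act 0 n14690 = n31054 := rfl
theorem F49461 : act 5 n31054 = n25864 := d17_3 (iv1 D14688) D14690 D31054 F40855 (iv5 F45741) (iv0 F45742) (iv5 F37127) (iv0 F37128) F24416
theorem F49462 : act 2 n30863 = n31054 := d2_3 F49461 F40862 D30863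
theorem F49463 : act 7 n30860 = n31054 := d13_0 F49461 (iv7 F40863) D30860
def n31055 : Q := act 1 n14690
theorem D31055 : act 1 n14690 = n31055 := rfl
theorem F49464 : act 7 n31055 = n30863 := d15_2 (iv0 D31054) D31055 F49462
theorem F49465 : act 5 n31055 = n25865 := d17_7 (iv1 F20341) (iv5 F20344) (iv1 F19564) (iv5 F11194) D7012 D14690 D31055 F40856 (iv4 D14598)
theorem F49466 : act 2 n30860 = n31055 := d2_3 F49465 (iv2 F40864) D30860
def n31056 : Q := act 6 n14690
theorem D31056 : act 6 n14690 = n31056 := rfl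
def n31057 : Q := act 0 n14691
theorem D31057 : act 0 n14691 = n31057 := rfl
def n31058 : Q := act 1 n14691
theorem D31058 : act 1 n14691 = n31058 := rfl
def n31059 : Q := act 5 n14691
theorem D31059 : act 5 n14691 = n31059 := rfl
def n31060 : Q := act 7 n14691
theorem D31060 : act 7 n14691 = n31060 := rfl
theorem F49467 : act 4 n31060 = n14694 := d11_1 D31060 (iv7 D14694) (iv4 F24369)
def n31061 : Q := act 2 n14692
theorem D31061 : act 2 n14692 = n31061 := rfl
theorem F49468 : act 7 n14693 = n31061 := d15_2 (iv0 D14692) D14693 (iv2 D31061)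
def n31062 : Q := act 3 n14692
theorem D31062 : act 3 n14692 = n31062 := rfl
def n31063 : Q := act 4 n14692
theorem D31063 : act 4 n14692 = n31063 := rfl
def n31064 : Q := act 5 n14692
theorem D31064 : act 5 n14692 = n31064 := rfl
def n31065 : Q := act 6 n14692
theorem D31065 : act 6 n14692 = n31065 := rfl
def n31066 : Q := act 7 n14692
theorem D31066 : act 7 n14692 = n31066 := rfl
theorem F49469 : act 2 n31066 = n14693 := d4_1 D31066 F49468 (iv2 D31061)
def n31067 : Q := act 3 n14693
theorem D31067 : act 3 n14693 = n31067 := rfl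
def n31068 : Q := act 4 n14693
theorem D31068 : act 4 n14693 = n31068 := rfl
def n31069 : Q := act 5 n14693
theorem D31069 : act 5 n14693 = n31069 := rfl
def n31070 : Q := act 6 n14693
theorem D31070 : act 6 n14693 = n31070 := rfl
def n31071 : Q := act 2 n14695
theorem D31071 : act 2 n14695 = n31071 := rfl
theorem F49470 : act 7 n14696 = n31071 := d15_2 (iv0 D14695) D14696 (iv2 D31071)
def n31072 : Q := act 3 n14695
theorem D31072 : act 3 n14695 = n31072 := rfl
def n31073 : Q := act 4 n14695
theorem D31073 : act 4 n14695 = n31073 := rfl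
def n31074 : Q := act 5 n14695
theorem D31074 : act 5 n14695 = n31074 := rfl
def n31075 : Q := act 6 n14695
theorem D31075 : act 6 n14695 = n31075 := rfl
def n31076 : Q := act 7 n14695
theorem D31076 : act 7 n14695 = n31076 := rfl
theorem F49471 : act 2 n31076 = n14696 := d4_1 D31076 F49470 (iv2 D31071)
def n31077 : Q := act 3 n14696
theorem D31077 : act 3 n14696 = n31077 := rfl
def n31078 : Q := act 4 n14696
theorem D31078 : act 4 n14696 = n31078 := rfl
def n31079 : Q := act 5 n14696
theorem D31079 : act 5 n14696 = n31079 := rfl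
def n31080 : Q := act 6 n14696
theorem D31080 : act 6 n14696 = n31080 := rfl
def n31081 : Q := act 5 n14697
theorem D31081 : act 5 n14697 = n31081 := rfl
theorem F49472 : act 2 n31081 = n14698 := d2_1 D31081 (iv5 D14698) D14697
def n31082 : Q := act 6 n14697
theorem D31082 : act 6 n14697 = n31082 := rfl
theorem F49473 : act 2 n31082 = n14699 := d3_1 D31082 (iv6 D14699) D14697
def n31083 : Q := act 0 n14698
theorem D31083 : act 0 n14698 = n31083 := rfl
def n31084 : Q := act 1 n14698
theorem D31084 : act 1 n14698 = n31084 := rfl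
def n31085 : Q := act 4 n14698
theorem D31085 : act 4 n14698 = n31085 := rfl
theorem F49474 : act 3 n31085 = n15078 := d5_1 D31085 (iv4 D15078) F11499 (iv4 F11273) (iv3 F24371)
def n31086 : Q := act 6 n14698
theorem D31086 : act 6 n14698 = n31086 := rfl
theorem F49475 : act 3 n31086 = n14700 := d7_1 D31086 (iv6 D14700) (iv3 F24371)
def n31087 : Q := act 0 n14699
theorem D31087 : act 0 n14699 = n31087 := rfl
def n31088 : Q := act 1 n14699
theorem D31088 : act 1 n14699 = n31088 := rfl
def n31089 : Q := act 5 n14699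
theorem D31089 : act 5 n14699 = n31089 := rfl
theorem F49476 : act 3 n31089 = n14703 := d6_1 D31089 (iv5 D14703) (iv3 F24372)
def n31090 : Q := act 7 n14699
theorem D31090 : act 7 n14699 = n31090 := rfl
theorem F49477 : act 3 n31090 = n14704 := d8_1 D31090 (iv7 D14704) (iv3 F24372)
def n31091 : Q := act 0 n14700
theorem D31091 : act 0 n14700 = n31091 := rfl
def n31092 : Q := act 1 n14700
theorem D31092 : act 1 n14700 = n31092 := rfl
def n31093 : Q := act 5 n14700
theorem D31093 : act 5 n14700 = n31093 := rfl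
def n31094 : Q := act 7 n14700
theorem D31094 : act 7 n14700 = n31094 := rfl
theorem F49479 : act 4 n31094 = n15091 := d11_1 D31094 (iv7 D15091) (iv4 F24373)
def n31095 : Q := act 2 n14701
theorem D31095 : act 2 n14701 = n31095 := rfl
theorem F49480 : act 7 n14702 = n31095 := d15_2 (iv0 D14701) D14702 (iv2 D31095)
def n31096 : Q := act 3 n14701
theorem D31096 : act 3 n14701 = n31096 := rfl
def n31097 : Q := act 4 n14701
theorem D31097 : act 4 n14701 = n31097 := rfl
def n31098 : Q := act 5 n14701
theorem D31098 : act 5 n14701 = n31098 := rfl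
def n31099 : Q := act 6 n14701
theorem D31099 : act 6 n14701 = n31099 := rfl
def n31100 : Q := act 7 n14701
theorem D31100 : act 7 n14701 = n31100 := rfl
theorem F49481 : act 2 n31100 = n14702 := d4_1 D31100 F49480 (iv2 D31095)
def n31101 : Q := act 3 n14702
theorem D31101 : act 3 n14702 = n31101 := rfl
def n31102 : Q := act 4 n14702
theorem D31102 : act 4 n14702 = n31102 := rfl
def n31103 : Q := act 5 n14702
theorem D31103 : act 5 n14702 = n31103 := rfl
def n31104 : Q := act 6 n14702
theorem D31104 : act 6 n14702 = n31104 := rfl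
def n31108 : Q := act 7 n14703
theorem D31108 : act 7 n14703 = n31108 := rfl
theorem F49483 : act 5 n31108 = n14704 := d13_1 D31108 (iv7 D14704) D14703
def n31111 : Q := act 2 n14706
theorem D31111 : act 2 n14706 = n31111 := rfl
def n31112 : Q := act 4 n14706
theorem D31112 : act 4 n14706 = n31112 := rfl
def n31113 : Q := act 6 n14706
theorem D31113 : act 6 n14706 = n31113 := rfl
theorem F49484 : act 3 n31113 = n14709 := d7_1 D31113 (iv6 D14709) D14706
def n31114 : Q := act 0 n14707
theorem D31114 : act 0 n14707 = n31114 := rfl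
theorem F49485 : act 1 n14712 = n31114 := d15_0 (iv0 D31114) F49035 F49034
def n31115 : Q := act 1 n14707
theorem D31115 : act 1 n14707 = n31115 := rfl
theorem F49486 : act 1 n31115 = n14712 := d15_1 D31115 (iv7 F49032) F49036
def n31116 : Q := act 3 n14707
theorem D31116 : act 3 n14707 = n31116 := rfl
def n31118 : Q := act 6 n14707
theorem D31118 : act 6 n14707 = n31118 := rfl
theorem F49487 : act 4 n31118 = n14709 := d10_1 D31118 (iv6 D14709) D14707
def n31119 : Q := act 0 n14711
theorem D31119 : act 0 n14711 = n31119 := rfl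
def n31120 : Q := act 1 n14711
theorem D31120 : act 1 n14711 = n31120 := rfl
def n31121 : Q := act 2 n14711
theorem D31121 : act 2 n14711 = n31121 := rfl
def n31122 : Q := act 4 n14711
theorem D31122 : act 4 n14711 = n31122 := rfl
def n31123 : Q := act 3 n14712
theorem D31123 : act 3 n14712 = n31123 := rfl
def n31124 : Q := act 5 n14712
theorem D31124 : act 5 n14712 = n31124 := rfl
def n31125 : Q := act 2 n14713
theorem D31125 : act 2 n14713 = n31125 := rfl
theorem F49488 : act 7 n14714 = n31125 := d15_2 (iv0 D14713) D14714 (iv2 D31125)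
def n31126 : Q := act 3 n14713
theorem D31126 : act 3 n14713 = n31126 := rfl
def n31127 : Q := act 4 n14713
theorem D31127 : act 4 n14713 = n31127 := rfl
def n31128 : Q := act 5 n14713
theorem D31128 : act 5 n14713 = n31128 := rfl
def n31129 : Q := act 6 n14713
theorem D31129 : act 6 n14713 = n31129 := rfl
def n31130 : Q := act 7 n14713
theorem D31130 : act 7 n14713 = n31130 := rfl
theorem F49489 : act 2 n31130 = n14714 := d4_1 D31130 F49488 (iv2 D31125)
def n31131 : Q := act 3 n14714
theorem D31131 : act 3 n14714 = n31131 := rfl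
def n31132 : Q := act 4 n14714
theorem D31132 : act 4 n14714 = n31132 := rfl
def n31133 : Q := act 5 n14714
theorem D31133 : act 5 n14714 = n31133 := rfl
def n31134 : Q := act 6 n14714
theorem D31134 : act 6 n14714 = n31134 := rfl
def n31135 : Q := act 4 n14715
theorem D31135 : act 4 n14715 = n31135 := rfl
theorem F49490 : act 2 n31135 = n14716 := d1_1 D31135 (iv4 D14716) D14715
def n31136 : Q := act 5 n14715
theorem D31136 : act 5 n14715 = n31136 := rfl
theorem F49491 : act 2 n31136 = n14717 := d2_1 D31136 (iv5 D14717) D14715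
def n31137 : Q := act 6 n14715
theorem D31137 : act 6 n14715 = n31137 := rfl
theorem F49492 : act 2 n31137 = n14718 := d3_1 D31137 (iv6 D14718) D14715
def n31138 : Q := act 0 n14716
theorem D31138 : act 0 n14716 = n31138 := rfl
def n31139 : Q := act 1 n14716
theorem D31139 : act 1 n14716 = n31139 := rfl
theorem F49493 : act 4 n31072 = n31139 := d20_6 F9010 (iv1 F3835) D3170 D7014 D14695 D31072 (iv1 D31139) (iv4 D14716) (iv3 D7020) (iv1 F9013)
def n31140 : Q := act 5 n14716
theorem D31140 : act 5 n14716 = n31140 := rfl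
def n31141 : Q := act 6 n14716
theorem D31141 : act 6 n14716 = n31141 := rfl
theorem F49494 : act 4 n31141 = n14718 := d10_1 D31141 (iv6 D14718) D14716
def n31142 : Q := act 0 n14717
theorem D31142 : act 0 n14717 = n31142 := rfl
def n31143 : Q := act 1 n14717
theorem D31143 : act 1 n14717 = n31143 := rfl
def n31144 : Q := act 4 n14717
theorem D31144 : act 4 n14717 = n31144 := rfl
theorem F49495 : act 3 n31144 = n15043 := d5_1 D31144 (iv4 D15043) F11477 (iv4 F11275) (iv3 F24377)
def n31145 : Q := act 6 n14717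
theorem D31145 : act 6 n14717 = n31145 := rfl
theorem F49496 : act 3 n31145 = n14721 := d7_1 D31145 (iv6 D14721) (iv3 F24377)
def n31146 : Q := act 0 n14718
theorem D31146 : act 0 n14718 = n31146 := rfl
def n31147 : Q := act 1 n14718
theorem D31147 : act 1 n14718 = n31147 := rfl
def n31148 : Q := act 5 n14718
theorem D31148 : act 5 n14718 = n31148 := rfl
theorem F49497 : act 3 n31148 = n14724 := d6_1 D31148 (iv5 D14724) (iv3 F24378)
def n31149 : Q := act 7 n14718
theorem D31149 : act 7 n14718 = n31149 := rfl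
theorem F49498 : act 3 n31149 = n14725 := d8_1 D31149 (iv7 D14725) (iv3 F24378)
def n31150 : Q := act 3 n14719
theorem D31150 : act 3 n14719 = n31150 := rfl
theorem F49499 : act 5 n31150 = n25872 := d6_2 (iv5 F24379) D31150 (iv3 D25872)
theorem F49500 : act 7 n31150 = n30728 := d8_2 F24383 D31150 F49193
def n31151 : Q := act 6 n14719
theorem D31151 : act 6 n14719 = n31151 := rfl
theorem F49501 : act 2 n31151 = n30744 := d3_1 D31151 (iv6 D30744) F24382
theorem F49502 : act 4 n31151 = n15087 := d10_1 D31151 (iv6 D15087) (iv4 F24380)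
def n31152 : Q := act 3 n14720
theorem D31152 : act 3 n14720 = n31152 := rfl
theorem F49503 : act 5 n31152 = n24644 := d6_2 (iv5 F24386) D31152 (iv3 D24644)
theorem F49504 : act 7 n31152 = n30742 := d8_2 (iv7 F24385) D31152 F49200
def n31153 : Q := act 6 n14720
theorem D31153 : act 6 n14720 = n31153 := rfl
theorem F49505 : act 2 n31153 = n30730 := d3_1 D31153 (iv6 D30730) F24388
theorem F49506 : act 4 n31153 = n15085 := d10_1 D31153 (iv6 D15085) (iv4 F24387)
def n31154 : Q := act 0 n14721
theorem D31154 : act 0 n14721 = n31154 := rfl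
def n31155 : Q := act 1 n14721
theorem D31155 : act 1 n14721 = n31155 := rfl
def n31156 : Q := act 5 n14721
theorem D31156 : act 5 n14721 = n31156 := rfl
theorem F49507 : act 6 n31156 = n14724 := d12_2 D14721 D31156 (iv5 D14724) (iv6 D7022) D7021
def n31157 : Q := act 7 n14721
theorem D31157 : act 7 n14721 = n31157 := rfl
theorem F49508 : act 4 n31157 = n15052 := d11_1 D31157 (iv7 D15052) (iv4 F24389)
def n31158 : Q := act 0 n14724
theorem D31158 : act 0 n14724 = n31158 := rfl
theorem F49509 : act 5 n31158 = n29097 := d17_3 F47605 D14724 D31158 (iv4 D29097) (iv5 D13850) (iv0 F11271) (iv5 D7009) D7008 D14681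
def n31159 : Q := act 1 n14724
theorem D31159 : act 1 n14724 = n31159 := rfl
theorem F49510 : act 5 n30925 = n31159 := d21_6 F9011 (iv1 F11282) F11283 D7117 (iv1 F47640) D30925 (iv1 D31159) (iv5 D14724) (iv6 D7022) (iv1 F9013)
def n31160 : Q := act 4 n14724
theorem D31160 : act 4 n14724 = n31160 := rfl
def n31161 : Q := act 7 n14724
theorem D31161 : act 7 n14724 = n31161 := rfl
theorem F49511 : act 5 n31161 = n14725 := d13_1 D31161 (iv7 D14725) D14724
def n31162 : Q := act 2 n14726
theorem D31162 : act 2 n14726 = n31162 := rfl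
theorem F49512 : act 7 n14727 = n31162 := d15_2 (iv0 D14726) D14727 (iv2 D31162)
def n31163 : Q := act 3 n14726
theorem D31163 : act 3 n14726 = n31163 := rfl
def n31164 : Q := act 4 n14726
theorem D31164 : act 4 n14726 = n31164 := rfl
def n31165 : Q := act 5 n14726
theorem D31165 : act 5 n14726 = n31165 := rfl
def n31166 : Q := act 6 n14726
theorem D31166 : act 6 n14726 = n31166 := rfl
def n31167 : Q := act 7 n14726
theorem D31167 : act 7 n14726 = n31167 := rfl
theorem F49513 : act 2 n31167 = n14727 := d4_1 D31167 F49512 (iv2 D31162)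
def n31168 : Q := act 3 n14727
theorem D31168 : act 3 n14727 = n31168 := rfl
def n31169 : Q := act 4 n14727
theorem D31169 : act 4 n14727 = n31169 := rfl
def n31170 : Q := act 5 n14727
theorem D31170 : act 5 n14727 = n31170 := rfl
def n31171 : Q := act 6 n14727
theorem D31171 : act 6 n14727 = n31171 := rfl
def n31172 : Q := act 4 n14728
theorem D31172 : act 4 n14728 = n31172 := rfl
theorem F49514 : act 2 n31172 = n14729 := d1_1 D31172 (iv4 D14729) D14728
def n31173 : Q := act 5 n14728
theorem D31173 : act 5 n14728 = n31173 := rfl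
theorem F49515 : act 2 n31173 = n14730 := d2_1 D31173 (iv5 D14730) D14728
def n31174 : Q := act 6 n14728
theorem D31174 : act 6 n14728 = n31174 := rfl
theorem F49516 : act 2 n31174 = n14731 := d3_1 D31174 (iv6 D14731) D14728
def n31175 : Q := act 0 n14729
theorem D31175 : act 0 n14729 = n31175 := rfl
def n31176 : Q := act 1 n14729
theorem D31176 : act 1 n14729 = n31176 := rfl
theorem F49517 : act 4 n30981 = n31176 := d20_6 (iv4 D1409) D1407 D3165 D7004 D14662 D30981 (iv1 D31176) (iv4 D14729) (iv3 D7023) (iv1 D3173)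
def n31177 : Q := act 6 n14729
theorem D31177 : act 6 n14729 = n31177 := rfl
theorem F49518 : act 3 n31177 = n24913 := d7_1 D31177 (iv6 D24913) (iv3 F24390)
theorem F49519 : act 4 n31177 = n14731 := d10_1 D31177 (iv6 D14731) D14729
def n31178 : Q := act 0 n14730
theorem D31178 : act 0 n14730 = n31178 := rfl
def n31179 : Q := act 1 n14730
theorem D31179 : act 1 n14730 = n31179 := rfl
def n31180 : Q := act 4 n14730
theorem D31180 : act 4 n14730 = n31180 := rfl
theorem F49520 : act 3 n31180 = n14991 := d5_1 D31180 (iv4 D14991) F11447 (iv4 F11276) (iv3 F24391)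
def n31181 : Q := act 6 n14730
theorem D31181 : act 6 n14730 = n31181 := rfl
theorem F49521 : act 3 n31181 = n14732 := d7_1 D31181 (iv6 D14732) (iv3 F24391)
def n31182 : Q := act 0 n14731
theorem D31182 : act 0 n14731 = n31182 := rfl
def n31183 : Q := act 1 n14731
theorem D31183 : act 1 n14731 = n31183 := rfl
def n31184 : Q := act 5 n14731
theorem D31184 : act 5 n14731 = n31184 := rfl
theorem F49522 : act 3 n31184 = n14735 := d6_1 D31184 (iv5 D14735) (iv3 F24392)
def n31185 : Q := act 7 n14731
theorem D31185 : act 7 n14731 = n31185 := rfl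
theorem F49523 : act 3 n31185 = n14736 := d8_1 D31185 (iv7 D14736) (iv3 F24392)
def n31186 : Q := act 0 n14732
theorem D31186 : act 0 n14732 = n31186 := rfl
def n31187 : Q := act 1 n14732
theorem D31187 : act 1 n14732 = n31187 := rfl
def n31188 : Q := act 5 n14732
theorem D31188 : act 5 n14732 = n31188 := rfl
def n31189 : Q := act 7 n14732
theorem D31189 : act 7 n14732 = n31189 := rfl
theorem F49525 : act 4 n31189 = n15004 := d11_1 D31189 (iv7 D15004) (iv4 F24393)
def n31200 : Q := act 0 n14735
theorem D31200 : act 0 n14735 = n31200 := rfl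
def n31203 : Q := act 7 n14735
theorem D31203 : act 7 n14735 = n31203 := rfl
theorem F49528 : act 5 n31203 = n14736 := d13_1 D31203 (iv7 D14736) D14735
def n31204 : Q := act 6 n14737
theorem D31204 : act 6 n14737 = n31204 := rfl
theorem F49529 : act 2 n31204 = n14755 := d3_1 D31204 (iv6 D14755) F24394
def n31205 : Q := act 0 n14738
theorem D31205 : act 0 n14738 = n31205 := rfl
theorem F49530 : act 1 n14743 = n31205 := d15_0 (iv0 D31205) (iv7 F24397) (iv2 F24398)
def n31206 : Q := act 1 n14738
theorem D31206 : act 1 n14738 = n31206 := rfl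
theorem F49531 : act 1 n31206 = n14743 := d15_1 D31206 (iv7 D14743) D14738
def n31207 : Q := act 3 n14738
theorem D31207 : act 3 n14738 = n31207 := rfl
theorem F49532 : act 7 n31207 = n14744 := d8_2 F24397 D31207 (iv3 D14744)
def n31208 : Q := act 4 n14738
theorem D31208 : act 4 n14738 = n31208 := rfl
theorem F49533 : act 2 n31208 = n14740 := d1_1 D31208 (iv4 D14740) D14738
theorem F49534 : act 7 n31208 = n14745 := d11_2 F24397 D31208 (iv4 D14745)
def n31209 : Q := act 5 n14738
theorem D31209 : act 5 n14738 = n31209 := rfl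
theorem F49535 : act 2 n31209 = n14741 := d2_1 D31209 (iv5 D14741) D14738
theorem F49536 : act 7 n31209 = n14746 := d13_2 F24397 D31209 (iv5 D14746)
def n31210 : Q := act 6 n14738
theorem D31210 : act 6 n14738 = n31210 := rfl
theorem F49537 : act 2 n31210 = n14742 := d3_1 D31210 (iv6 D14742) D14738
def n31211 : Q := act 0 n14739
theorem D31211 : act 0 n14739 = n31211 := rfl
def n31212 : Q := act 1 n14739
theorem D31212 : act 1 n14739 = n31212 := rfl
def n31213 : Q := act 2 n14739
theorem D31213 : act 2 n14739 = n31213 := rfl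
def n31214 : Q := act 4 n14739
theorem D31214 : act 4 n14739 = n31214 := rfl
theorem F49538 : act 0 n31214 = n30975 := d20_7 (iv4 D3170) (iv1 D1408) D1409 D3174 D7026 D14739 D31214 (iv4 D30975) (iv3 D14660) (iv1 F11266)
def n31215 : Q := act 5 n14739
theorem D31215 : act 5 n14739 = n31215 := rfl
theorem F49539 : act 3 n31215 = n14741 := d6_1 D31215 (iv5 D14741) D14739
def n31216 : Q := act 6 n14739
theorem D31216 : act 6 n14739 = n31216 := rfl
theorem F49540 : act 3 n31216 = n14742 := d7_1 D31216 (iv6 D14742) D14739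
def n31217 : Q := act 7 n14739
theorem D31217 : act 7 n14739 = n31217 := rfl
theorem F49541 : act 3 n31217 = n14743 := d8_1 D31217 (iv7 D14743) D14739
def n31218 : Q := act 0 n14740
theorem D31218 : act 0 n14740 = n31218 := rfl
theorem F49542 : act 4 n31218 = n31077 := d20_2 D14740 D31218 (iv3 D31077) (iv1 D14696) (iv3 D7014) (iv4 D3170) (iv1 D1408) D1409 D3174 D7026
def n31219 : Q := act 1 n14740
theorem D31219 : act 1 n14740 = n31219 := rfl
theorem F49543 : act 1 n31219 = n14745 := d15_1 D31219 (iv7 F49534) F49533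
def n31220 : Q := act 3 n14740
theorem D31220 : act 3 n14740 = n31220 := rfl
def n31221 : Q := act 5 n14740
theorem D31221 : act 5 n14740 = n31221 := rfl
def n31222 : Q := act 6 n14740
theorem D31222 : act 6 n14740 = n31222 := rfl
theorem F49544 : act 4 n31222 = n14742 := d10_1 D31222 (iv6 D14742) D14740
def n31223 : Q := act 7 n14740
theorem D31223 : act 7 n14740 = n31223 := rfl
theorem F49545 : act 2 n31223 = n14745 := d4_1 D31223 (iv7 F49534) F49533
theorem F49546 : act 4 n31223 = n14743 := d11_1 D31223 (iv7 D14743) D14740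
theorem F49547 : act 1 n14745 = n31218 := d15_0 (iv0 D31218) D31223 F49545
def n31224 : Q := act 0 n14741
theorem D31224 : act 0 n14741 = n31224 := rfl
def n31225 : Q := act 1 n14741
theorem D31225 : act 1 n14741 = n31225 := rfl
theorem F49548 : act 1 n31225 = n14746 := d15_1 D31225 (iv7 F49536) F49535
def n31226 : Q := act 4 n14741
theorem D31226 : act 4 n14741 = n31226 := rfl
def n31227 : Q := act 6 n14741
theorem D31227 : act 6 n14741 = n31227 := rfl
def n31228 : Q := act 7 n14741
theorem D31228 : act 7 n14741 = n31228 := rfl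
theorem F49549 : act 2 n31228 = n14746 := d4_1 D31228 (iv7 F49536) F49535
theorem F49550 : act 5 n31228 = n14743 := d13_1 D31228 (iv7 D14743) D14741
theorem F49551 : act 1 n14746 = n31224 := d15_0 (iv0 D31224) D31228 F49549
def n31229 : Q := act 0 n14742
theorem D31229 : act 0 n14742 = n31229 := rfl
def n31230 : Q := act 1 n14742
theorem D31230 : act 1 n14742 = n31230 := rfl
def n31231 : Q := act 5 n14742
theorem D31231 : act 5 n14742 = n31231 := rfl
def n31232 : Q := act 7 n14742
theorem D31232 : act 7 n14742 = n31232 := rfl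
def n31233 : Q := act 6 n14743
theorem D31233 : act 6 n14743 = n31233 := rfl
theorem F49552 : act 2 n31233 = n14747 := d3_1 D31233 (iv6 D14747) (iv2 F24398)
def n31234 : Q := act 0 n14744
theorem D31234 : act 0 n14744 = n31234 := rfl
def n31235 : Q := act 1 n14744
theorem D31235 : act 1 n14744 = n31235 := rfl
def n31236 : Q := act 2 n14744
theorem D31236 : act 2 n14744 = n31236 := rfl
def n31237 : Q := act 4 n14744
theorem D31237 : act 4 n14744 = n31237 := rfl
theorem F49553 : act 0 n30982 = n31237 := d20_1 D30982 (iv4 D31237) (iv3 D14744) (iv1 D7027) (iv3 D3174) (iv4 D1409) D1407 D3165 D7004 D14662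
def n31238 : Q := act 5 n14744
theorem D31238 : act 5 n14744 = n31238 := rfl
theorem F49554 : act 3 n31238 = n14746 := d6_1 D31238 (iv5 D14746) D14744
def n31239 : Q := act 6 n14744
theorem D31239 : act 6 n14744 = n31239 := rfl
theorem F49555 : act 3 n31239 = n14747 := d7_1 D31239 (iv6 D14747) D14744
def n31240 : Q := act 3 n14745
theorem D31240 : act 3 n14745 = n31240 := rfl
def n31241 : Q := act 5 n14745
theorem D31241 : act 5 n14745 = n31241 := rfl
def n31242 : Q := act 6 n14745
theorem D31242 : act 6 n14745 = n31242 := rfl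
theorem F49556 : act 4 n31242 = n14747 := d10_1 D31242 (iv6 D14747) D14745
def n31243 : Q := act 4 n14746
theorem D31243 : act 4 n14746 = n31243 := rfl
def n31244 : Q := act 6 n14746
theorem D31244 : act 6 n14746 = n31244 := rfl
def n31245 : Q := act 0 n14747
theorem D31245 : act 0 n14747 = n31245 := rfl
def n31246 : Q := act 1 n14747
theorem D31246 : act 1 n14747 = n31246 := rfl
def n31247 : Q := act 5 n14747
theorem D31247 : act 5 n14747 = n31247 := rfl
def n31248 : Q := act 7 n14747
theorem D31248 : act 7 n14747 = n31248 := rfl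
def n31251 : Q := act 4 n14748
theorem D31251 : act 4 n14748 = n31251 := rfl
def n31255 : Q := act 3 n14749
theorem D31255 : act 3 n14749 = n31255 := rfl
def n31259 : Q := act 4 n14750
theorem D31259 : act 4 n14750 = n31259 := rfl
theorem F49559 : act 2 n31259 = n14753 := d1_1 D31259 (iv4 D14753) (iv2 F24401)
def n31260 : Q := act 6 n14750
theorem D31260 : act 6 n14750 = n31260 := rfl
theorem F49560 : act 2 n31260 = n14754 := d3_1 D31260 (iv6 D14754) (iv2 F24401)
def n31261 : Q := act 2 n14751
theorem D31261 : act 2 n14751 = n31261 := rfl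
theorem F49561 : act 7 n14752 = n31261 := d15_2 (iv0 D14751) D14752 (iv2 D31261)
def n31262 : Q := act 3 n14751
theorem D31262 : act 3 n14751 = n31262 := rfl
def n31263 : Q := act 4 n14751
theorem D31263 : act 4 n14751 = n31263 := rfl
def n31264 : Q := act 5 n14751
theorem D31264 : act 5 n14751 = n31264 := rfl
def n31265 : Q := act 6 n14751
theorem D31265 : act 6 n14751 = n31265 := rfl
def n31266 : Q := act 7 n14751
theorem D31266 : act 7 n14751 = n31266 := rfl
theorem F49562 : act 2 n31266 = n14752 := d4_1 D31266 F49561 (iv2 D31261)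
def n31267 : Q := act 3 n14752
theorem D31267 : act 3 n14752 = n31267 := rfl
def n31268 : Q := act 4 n14752
theorem D31268 : act 4 n14752 = n31268 := rfl
def n31269 : Q := act 5 n14752
theorem D31269 : act 5 n14752 = n31269 := rfl
def n31270 : Q := act 6 n14752
theorem D31270 : act 6 n14752 = n31270 := rfl
def n31271 : Q := act 0 n14753
theorem D31271 : act 0 n14753 = n31271 := rfl
def n31272 : Q := act 1 n14753
theorem D31272 : act 1 n14753 = n31272 := rfl
def n31273 : Q := act 5 n14753
theorem D31273 : act 5 n14753 = n31273 := rfl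
def n31274 : Q := act 6 n14753
theorem D31274 : act 6 n14753 = n31274 := rfl
theorem F49563 : act 4 n31274 = n14754 := d10_1 D31274 (iv6 D14754) D14753
def n31275 : Q := act 0 n14754
theorem D31275 : act 0 n14754 = n31275 := rfl
def n31276 : Q := act 1 n14754
theorem D31276 : act 1 n14754 = n31276 := rfl
def n31277 : Q := act 7 n14754
theorem D31277 : act 7 n14754 = n31277 := rfl
theorem F49564 : act 3 n31277 = n14762 := d8_1 D31277 (iv7 D14762) (iv3 F24402)
def n31278 : Q := act 0 n14755
theorem D31278 : act 0 n14755 = n31278 := rfl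
def n31279 : Q := act 1 n14755
theorem D31279 : act 1 n14755 = n31279 := rfl
def n31280 : Q := act 5 n14755
theorem D31280 : act 5 n14755 = n31280 := rfl
theorem F49565 : act 3 n31280 = n14765 := d6_1 D31280 (iv5 D14765) (iv3 F24403)
def n31281 : Q := act 0 n14756
theorem D31281 : act 0 n14756 = n31281 := rfl
def n31282 : Q := act 1 n14756
theorem D31282 : act 1 n14756 = n31282 := rfl
def n31283 : Q := act 2 n14756
theorem D31283 : act 2 n14756 = n31283 := rfl
theorem F49566 : act 5 n31283 = n14825 := d2_2 (iv5 F24404) D31283 (iv2 D14825)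
def n31284 : Q := act 4 n14756
theorem D31284 : act 4 n14756 = n31284 := rfl
theorem F49567 : act 3 n31284 = n14968 := d5_1 D31284 (iv4 D14968) F11444 (iv4 F11280) D14756
def n31285 : Q := act 6 n14756
theorem D31285 : act 6 n14756 = n31285 := rfl
theorem F49568 : act 3 n31285 = n14757 := d7_1 D31285 (iv6 D14757) D14756
def n31286 : Q := act 0 n14757
theorem D31286 : act 0 n14757 = n31286 := rfl
def n31287 : Q := act 1 n14757
theorem D31287 : act 1 n14757 = n31287 := rfl
def n31288 : Q := act 5 n14757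
theorem D31288 : act 5 n14757 = n31288 := rfl
theorem F49569 : act 6 n31288 = n14829 := d12_2 D14757 D31288 (iv5 D14829) (iv6 D7064) (iv5 F11279)
def n31289 : Q := act 7 n14757
theorem D31289 : act 7 n14757 = n31289 := rfl
theorem F49570 : act 4 n31289 = n14976 := d11_1 D31289 (iv7 D14976) (iv4 F24405)
def n31290 : Q := act 0 n14758
theorem D31290 : act 0 n14758 = n31290 := rfl
def n31291 : Q := act 1 n14758
theorem D31291 : act 1 n14758 = n31291 := rfl
def n31292 : Q := act 2 n14758
theorem D31292 : act 2 n14758 = n31292 := rfl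
theorem F49571 : act 5 n31292 = n14938 := d2_2 (iv5 F24406) D31292 (iv2 D14938)
def n31293 : Q := act 4 n14758
theorem D31293 : act 4 n14758 = n31293 := rfl
theorem F49572 : act 3 n31293 = n14883 := d5_1 D31293 (iv4 D14883) F11334 (iv4 F11284) D14758
def n31294 : Q := act 6 n14758
theorem D31294 : act 6 n14758 = n31294 := rfl
theorem F49573 : act 3 n31294 = n14759 := d7_1 D31294 (iv6 D14759) D14758
def n31295 : Q := act 0 n14759
theorem D31295 : act 0 n14759 = n31295 := rfl
def n31296 : Q := act 1 n14759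
theorem D31296 : act 1 n14759 = n31296 := rfl
def n31297 : Q := act 5 n14759
theorem D31297 : act 5 n14759 = n31297 := rfl
theorem F49574 : act 6 n31297 = n14942 := d12_2 D14759 D31297 (iv5 D14942) (iv6 D7117) (iv5 F11283)
def n31298 : Q := act 7 n14759
theorem D31298 : act 7 n14759 = n31298 := rfl
theorem F49575 : act 4 n31298 = n14892 := d11_1 D31298 (iv7 D14892) (iv4 F24407)
def n31299 : Q := act 2 n14760
theorem D31299 : act 2 n14760 = n31299 := rfl
theorem F49576 : act 7 n14761 = n31299 := d15_2 (iv0 D14760) D14761 (iv2 D31299)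
def n31300 : Q := act 3 n14760
theorem D31300 : act 3 n14760 = n31300 := rfl
def n31301 : Q := act 4 n14760
theorem D31301 : act 4 n14760 = n31301 := rfl
def n31302 : Q := act 5 n14760
theorem D31302 : act 5 n14760 = n31302 := rfl
def n31303 : Q := act 6 n14760
theorem D31303 : act 6 n14760 = n31303 := rfl
def n31304 : Q := act 7 n14760
theorem D31304 : act 7 n14760 = n31304 := rfl
theorem F49577 : act 2 n31304 = n14761 := d4_1 D31304 F49576 (iv2 D31299)
def n31305 : Q := act 3 n14761
theorem D31305 : act 3 n14761 = n31305 := rfl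
def n31306 : Q := act 4 n14761
theorem D31306 : act 4 n14761 = n31306 := rfl
def n31307 : Q := act 5 n14761
theorem D31307 : act 5 n14761 = n31307 := rfl
def n31308 : Q := act 6 n14761
theorem D31308 : act 6 n14761 = n31308 := rfl
def n31309 : Q := act 2 n14763
theorem D31309 : act 2 n14763 = n31309 := rfl
theorem F49578 : act 7 n14764 = n31309 := d15_2 (iv0 D14763) D14764 (iv2 D31309)
def n31310 : Q := act 3 n14763
theorem D31310 : act 3 n14763 = n31310 := rfl
def n31311 : Q := act 4 n14763
theorem D31311 : act 4 n14763 = n31311 := rfl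
def n31312 : Q := act 5 n14763
theorem D31312 : act 5 n14763 = n31312 := rfl
def n31313 : Q := act 6 n14763
theorem D31313 : act 6 n14763 = n31313 := rfl
def n31314 : Q := act 7 n14763
theorem D31314 : act 7 n14763 = n31314 := rfl
def n31315 : Q := act 3 n14764
theorem D31315 : act 3 n14764 = n31315 := rfl
def n31316 : Q := act 4 n14764
theorem D31316 : act 4 n14764 = n31316 := rfl
def n31317 : Q := act 5 n14764
theorem D31317 : act 5 n14764 = n31317 := rfl
def n31318 : Q := act 6 n14764
theorem D31318 : act 6 n14764 = n31318 := rfl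
def n31319 : Q := act 0 n14765
theorem D31319 : act 0 n14765 = n31319 := rfl
def n31320 : Q := act 1 n14765
theorem D31320 : act 1 n14765 = n31320 := rfl
def n31321 : Q := act 4 n14765
theorem D31321 : act 4 n14765 = n31321 := rfl
def n31322 : Q := act 0 n14767
theorem D31322 : act 0 n14767 = n31322 := rfl
def n31323 : Q := act 1 n14767
theorem D31323 : act 1 n14767 = n31323 := rfl
def n31324 : Q := act 2 n14767
theorem D31324 : act 2 n14767 = n31324 := rfl
def n31325 : Q := act 4 n14767
theorem D31325 : act 4 n14767 = n31325 := rfl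
def n31326 : Q := act 5 n14767
theorem D31326 : act 5 n14767 = n31326 := rfl
theorem F49580 : act 3 n31326 = n14769 := d6_1 D31326 (iv5 D14769) D14767
def n31327 : Q := act 6 n14767
theorem D31327 : act 6 n14767 = n31327 := rfl
theorem F49581 : act 3 n31327 = n14770 := d7_1 D31327 (iv6 D14770) D14767
theorem F49582 : act 5 n29870 = n31327 := d6_0 F49581 F24410 D29870
def n31328 : Q := act 0 n14768
theorem D31328 : act 0 n14768 = n31328 := rfl
theorem F49583 : act 1 n14773 = n31328 := d15_0 (iv0 D31328) (iv7 F41134) F41133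
def n31329 : Q := act 1 n14768
theorem D31329 : act 1 n14768 = n31329 := rfl
def n31330 : Q := act 3 n14768
theorem D31330 : act 3 n14768 = n31330 := rfl
def n31331 : Q := act 5 n14768
theorem D31331 : act 5 n14768 = n31331 := rfl
def n31332 : Q := act 6 n14768
theorem D31332 : act 6 n14768 = n31332 := rfl
theorem F49585 : act 4 n31332 = n14770 := d10_1 D31332 (iv6 D14770) D14768
def n31333 : Q := act 0 n14769
theorem D31333 : act 0 n14769 = n31333 := rfl
theorem F49586 : act 5 n31333 = n25890 := d21_2 D14769 D31333 (iv6 D25890) (iv1 D12287) (iv6 D5827) (iv5 D2435) (iv1 F2110) (iv5 F2539) D3177 D7035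
theorem F49587 : act 6 n31333 = n16523 := d21_5 D14682 (iv1 F48218) F48017 F47609 D31333 (iv5 F26128) (iv1 F26132) F24138 (iv6 F20425) (iv1 F20427)
theorem F49588 : act 2 n30546 = n31333 := d15_3 (iv0 D31333) (iv0 F24409) (iv7 F48947)
theorem F49589 : act 1 n14774 = n31333 := d15_0 (iv0 D31333) (iv7 F41137) F41135
theorem F49590 : act 7 n31333 = n25890 := d15_2 (iv0 F39633) F49589 (iv2 F48950)
def n31334 : Q := act 4 n14769
theorem D31334 : act 4 n14769 = n31334 := rfl
def n31335 : Q := act 0 n14772
theorem D31335 : act 0 n14772 = n31335 := rfl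
def n31336 : Q := act 1 n14772
theorem D31336 : act 1 n14772 = n31336 := rfl
def n31337 : Q := act 2 n14772
theorem D31337 : act 2 n14772 = n31337 := rfl
def n31338 : Q := act 4 n14772
theorem D31338 : act 4 n14772 = n31338 := rfl
def n31339 : Q := act 5 n14772
theorem D31339 : act 5 n14772 = n31339 := rfl
theorem F49591 : act 3 n31339 = n14774 := d6_1 D31339 (iv5 D14774) D14772
theorem F49592 : act 6 n30735 = n31339 := d7_0 F49591 (iv6 F24412) D30735
def n31340 : Q := act 6 n14772
theorem D31340 : act 6 n14772 = n31340 := rfl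
theorem F49593 : act 3 n31340 = n14775 := d7_1 D31340 (iv6 D14775) D14772
theorem F49594 : act 5 n24669 = n31340 := d6_0 F49593 F24413 D24669
def n31341 : Q := act 3 n14773
theorem D31341 : act 3 n14773 = n31341 := rfl
def n31342 : Q := act 5 n14773
theorem D31342 : act 5 n14773 = n31342 := rfl
def n31343 : Q := act 6 n14773
theorem D31343 : act 6 n14773 = n31343 := rfl
theorem F49595 : act 4 n31343 = n14775 := d10_1 D31343 (iv6 D14775) D14773
def n31344 : Q := act 4 n14774
theorem D31344 : act 4 n14774 = n31344 := rfl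
theorem F49596 : act 6 n31344 = n30736 := d10_2 F24412 D31344 (iv4 D30736)
def n31345 : Q := act 6 n14776
theorem D31345 : act 6 n14776 = n31345 := rfl
theorem F49597 : act 3 n31345 = n14779 := d7_1 D31345 (iv6 D14779) (iv3 F24414)
theorem F49598 : act 4 n31345 = n31048 := d10_1 D31345 (iv6 D31048) (iv4 F24416)
theorem F49599 : act 5 n31345 = n31345 := d12_1 D31345 (iv6 D31345) (iv5 D14776) F19367 D14776
theorem F49600 : act 7 n31345 = n29947 := d14_2 (iv7 F24415) D31345 (iv6 D29947) (iv7 D14223) (iv6 F22852)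
def n31346 : Q := act 4 n14777
theorem D31346 : act 4 n14777 = n31346 := rfl
theorem F49601 : act 2 n31346 = n28313 := d1_1 D31346 F45826 (iv2 F24417)
theorem F49602 : act 7 n31346 = n25355 := d11_2 (iv7 F24418) D31346 (iv4 D25355)
theorem F49603 : act 0 n31346 = n28311 := d18_2 (iv1 F37485) D31346 (iv4 D28311) F22659 F18610 F24648 (iv4 F40145) F40148 F37788
theorem F49604 : act 1 n31346 = n23817 := d18_6 (iv1 F19359) F5054 D3212 D7039 D14777 D31346 (iv4 D23817) F22226 (iv5 D6516)
def n31347 : Q := act 6 n14777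
theorem D31347 : act 6 n14777 = n31347 := rfl
theorem F49605 : act 2 n31347 = n30339 := d3_1 D31347 (iv6 D30339) (iv2 F24417)
theorem F49606 : act 5 n31347 = n31347 := d12_1 D31347 (iv6 D31347) (iv5 D14777) F19368 D14777
theorem F49607 : act 7 n31347 = n25360 := d14_2 (iv7 F24418) D31347 (iv6 D25360) (iv7 D12044) (iv6 F19943)
def n31348 : Q := act 3 n14778
theorem D31348 : act 3 n14778 = n31348 := rfl
theorem F49608 : act 4 n31348 = n31047 := d5_2 D14778 D31348 (iv3 D31047) (iv4 F24416) F24414
theorem F49609 : act 7 n31348 = n28715 := d8_2 (iv7 F24419) D31348 (iv3 D28715)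
def n31349 : Q := act 5 n14778
theorem D31349 : act 5 n14778 = n31349 := rfl
theorem F49610 : act 7 n31349 = n28716 := d13_2 (iv7 F24419) D31349 (iv5 D28716)
theorem F49611 : act 0 n31349 = n30344 := d17_2 (iv1 F46322) D31349 (iv5 D30344) (iv4 D14399) (iv5 D6890) D6888 D14394 F40072 (iv4 F46320)
def n31350 : Q := act 6 n14778
theorem D31350 : act 6 n14778 = n31350 := rfl
theorem F49612 : act 4 n31350 = n14779 := d10_1 D31350 (iv6 D14779) D14778
def n31351 : Q := act 0 n14779
theorem D31351 : act 0 n14779 = n31351 := rfl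
theorem F49613 : act 1 n25327 = n31351 := d15_0 (iv0 D31351) (iv7 F39955) (iv2 F40003)
def n31352 : Q := act 1 n14779
theorem D31352 : act 1 n14779 = n31352 := rfl
theorem F49614 : act 1 n31352 = n25327 := d15_1 D31352 (iv7 F41224) F41222
def n31353 : Q := act 3 n14780
theorem D31353 : act 3 n14780 = n31353 := rfl
theorem F49615 : act 4 n31353 = n24898 := d5_2 D14780 D31353 (iv3 D24898) (iv4 D11817) (iv3 F11296)
def n31354 : Q := act 5 n14780
theorem D31354 : act 5 n14780 = n31354 := rfl
theorem F49616 : act 2 n31354 = n14794 := d2_1 D31354 (iv5 D14794) (iv2 F24422)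
theorem F49617 : act 4 n31354 = n26075 := d16_2 D14780 D31354 (iv5 D26075) (iv4 D12360) (iv5 D5882) F5173 D5882 F9094 (iv2 F11295)
def n31355 : Q := act 6 n14780
theorem D31355 : act 6 n14780 = n31355 := rfl
theorem F49618 : act 2 n31355 = n14795 := d3_1 D31355 (iv6 D14795) (iv2 F24422)
theorem F49619 : act 4 n31355 = n14781 := d10_1 D31355 (iv6 D14781) D14780
def n31356 : Q := act 0 n14781
theorem D31356 : act 0 n14781 = n31356 := rfl
theorem F49620 : act 5 n31356 = n24206 := d21_0 (iv1 D24206) D24207 F37931 F18563 (iv6 F10576) (iv5 D6511) (iv1 F19400) D7047 D14781 D31356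
def n31357 : Q := act 1 n14781
theorem D31357 : act 1 n14781 = n31357 := rfl
theorem F49621 : act 1 n31357 = n14799 := d15_1 D31357 (iv7 D14799) (iv2 F24423)
theorem F49622 : act 5 n24205 = n31357 := d21_0 (iv1 D31357) (iv5 F45121) (iv6 D27933) (iv1 D13323) F9843 (iv5 D5507) F9958 D5260 D11369 D24205
def n31358 : Q := act 7 n14781
theorem D31358 : act 7 n14781 = n31358 := rfl
theorem F49623 : act 2 n31358 = n14799 := d4_1 D31358 (iv7 D14799) (iv2 F24423)
theorem F49624 : act 3 n31358 = n24903 := d8_1 D31358 (iv7 D24903) (iv3 F24424)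
theorem F49625 : act 1 n14799 = n31356 := d15_0 (iv0 D31356) D31358 F49623
theorem F49626 : act 1 n14797 = n31358 := d15_1 D14797 (iv7 D31358) F24423
theorem F49627 : act 1 n31358 = n14796 := d15_0 (iv0 D14796) D14799 (iv2 F49623)
def n31359 : Q := act 6 n14785
theorem D31359 : act 6 n14785 = n31359 := rfl
theorem F49628 : act 3 n31359 = n14787 := d7_1 D31359 (iv6 D14787) D14785
theorem F49629 : act 4 n31359 = n30864 := d10_1 D31359 (iv6 D30864) (iv4 F24442)
def n31360 : Q := act 3 n14786
theorem D31360 : act 3 n14786 = n31360 := rfl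
theorem F49630 : act 4 n31360 = n30862 := d5_2 D14786 D31360 (iv3 D30862) (iv4 F24442) (iv3 D14785)
def n31361 : Q := act 5 n14786
theorem D31361 : act 5 n14786 = n31361 := rfl
def n31362 : Q := act 6 n14786
theorem D31362 : act 6 n14786 = n31362 := rfl
theorem F49631 : act 4 n31362 = n14787 := d10_1 D31362 (iv6 D14787) D14786
def n31363 : Q := act 0 n14787
theorem D31363 : act 0 n14787 = n31363 := rfl
def n31364 : Q := act 1 n14787
theorem D31364 : act 1 n14787 = n31364 := rfl
def n31365 : Q := act 7 n14787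
theorem D31365 : act 7 n14787 = n31365 := rfl
def n31366 : Q := act 4 n14788
theorem D31366 : act 4 n14788 = n31366 := rfl
theorem F49632 : act 2 n31366 = n25805 := d1_1 D31366 F45678 (iv2 F45677)
theorem F49633 : act 7 n31366 = n25804 := d11_2 F41231 D31366 (iv4 F41232)
theorem F49634 : act 0 n31366 = n24136 := d18_2 F39932 D31366 (iv4 D24136) (iv5 D11335) F10015 F19348 (iv4 F10579) F19352 D24503
theorem F49635 : act 1 n31366 = n25786 := d18_6 D11921 F19649 (iv1 F19859) D25286 (iv5 F39931) D31366 (iv4 D25786) F20272 F11219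
def n31367 : Q := act 6 n14788
theorem D31367 : act 6 n14788 = n31367 := rfl
theorem F49636 : act 3 n31367 = n14790 := d7_1 D31367 (iv6 D14790) D14788
def n31368 : Q := act 3 n14789
theorem D31368 : act 3 n14789 = n31368 := rfl
def n31369 : Q := act 5 n14789
theorem D31369 : act 5 n14789 = n31369 := rfl
def n31370 : Q := act 6 n14789
theorem D31370 : act 6 n14789 = n31370 := rfl
theorem F49637 : act 4 n31370 = n14790 := d10_1 D31370 (iv6 D14790) D14789
def n31371 : Q := act 1 n14790
theorem D31371 : act 1 n14790 = n31371 := rfl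
theorem F49638 : act 7 n31371 = n25322 := d15_2 (iv0 F27061) D31371 F39990
def n31372 : Q := act 7 n14790
theorem D31372 : act 7 n14790 = n31372 := rfl
def n31373 : Q := act 3 n14791
theorem D31373 : act 3 n14791 = n31373 := rfl
def n31374 : Q := act 5 n14791
theorem D31374 : act 5 n14791 = n31374 := rfl
theorem F49639 : act 4 n31374 = n31369 := d16_2 F40141 D31374 (iv5 D31369) (iv4 D14789) (iv5 F22233) (iv4 F37783) (iv5 F40911) F40912 (iv2 F40137)
theorem F49640 : act 1 n31374 = n28314 := d17_6 (iv1 F24037) F19469 (iv1 F37786) D25382 F40141 D31374 (iv5 D28314) D28313 F45826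
def n31375 : Q := act 6 n14791
theorem D31375 : act 6 n14791 = n31375 := rfl
def n31376 : Q := act 3 n14792
theorem D31376 : act 3 n14792 = n31376 := rfl
def n31377 : Q := act 5 n14792
theorem D31377 : act 5 n14792 = n31377 := rfl
theorem F49641 : act 4 n31377 = n31361 := d9_1 D31377 (iv5 D31361) (iv4 D14786) F22179 (iv4 F22566) D25382 F40141 D31374 F49639 (iv5 D31369) (iv4 D14789) (iv5 F22233) (iv4 F37783) (iv5 F40911) F40913
theorem F49642 : act 0 n31377 = n28314 := d17_2 (iv1 F37949) D31377 (iv5 D28314) (iv4 D13513) F11970 F24471 F22233 F18588 D24214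
def n31378 : Q := act 6 n14792
theorem D31378 : act 6 n14792 = n31378 := rfl
def n31379 : Q := act 0 n14793
theorem D31379 : act 0 n14793 = n31379 := rfl
def n31380 : Q := act 1 n14793
theorem D31380 : act 1 n14793 = n31380 := rfl
theorem F49643 : act 4 n30891 = n31380 := d20_6 (iv4 D6958) (iv1 F4899) D3159 D6989 D14628 D30891 (iv1 D31380) F24444 (iv3 D7063) (iv1 F11221)
def n31381 : Q := act 2 n14793
theorem D31381 : act 2 n14793 = n31381 := rfl
theorem F49644 : act 4 n31381 = n14825 := d1_2 (iv4 F24444) D31381 (iv2 D14825)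
def n31382 : Q := act 5 n14793
theorem D31382 : act 5 n14793 = n31382 := rfl
theorem F49645 : act 3 n31382 = n14794 := d6_1 D31382 (iv5 D14794) D14793
def n31383 : Q := act 6 n14793
theorem D31383 : act 6 n14793 = n31383 := rfl
theorem F49646 : act 3 n31383 = n14795 := d7_1 D31383 (iv6 D14795) D14793
theorem F49647 : act 4 n31383 = n14826 := d10_1 D31383 (iv6 D14826) (iv4 F24444)
def n31384 : Q := act 0 n14794
theorem D31384 : act 0 n14794 = n31384 := rfl
theorem F49648 : act 5 n31384 = n31346 := d17_3 (iv1 D14792) D14794 D31384 (iv4 D31346) (iv5 D14777) (iv0 F11289) D14308 F40915 F40913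
theorem F49649 : act 4 n28720 = n31384 := d16_0 F49648 (iv4 D31346) (iv5 D14777) (iv4 D7039) D7040 D14778 D31349 F49610 (iv2 F46325)
def n31385 : Q := act 1 n14794
theorem D31385 : act 1 n14794 = n31385 := rfl
theorem F49650 : act 5 n31385 = n25345 := d17_7 (iv1 F22662) (iv5 D6516) (iv1 F19359) D3215 D7051 D14794 D31385 (iv0 F45820) (iv4 D28311)
theorem F49651 : act 4 n31385 = n31349 := d17_9 F49611 (iv5 D30344) F40136 D31369 (iv4 F49639) (iv5 D31374) (iv0 D14791) D14794 D31385
def n31386 : Q := act 4 n14794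
theorem D31386 : act 4 n14794 = n31386 := rfl
theorem F49652 : act 2 n31386 = n26075 := d1_1 D31386 (iv4 F49617) F49616
theorem F49653 : act 7 n31386 = n31354 := d11_2 F41249 D31386 F49617
theorem F49654 : act 5 n31386 = n24214 := d16_3 D7051 D14794 D31386 (iv4 D24214) (iv5 D11378) F8374 D11378 F18587 F11295
theorem F49655 : act 0 n31386 = n31385 := d18_2 (iv1 D31385) D31386 F49651 (iv5 D31349) (iv4 D14778) (iv0 F22225) D23817 (iv0 F40055) (iv5 F49650)
theorem F49656 : act 1 n31386 = n31384 := d18_6 F40136 (iv4 D14789) (iv1 D7050) D7051 D14794 D31386 (iv4 F49649) (iv0 F48773) (iv5 D30344)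
def n31387 : Q := act 6 n14794
theorem D31387 : act 6 n14794 = n31387 := rfl
def n31388 : Q := act 0 n14795
theorem D31388 : act 0 n14795 = n31388 := rfl
def n31389 : Q := act 1 n14795
theorem D31389 : act 1 n14795 = n31389 := rfl
def n31390 : Q := act 5 n14795
theorem D31390 : act 5 n14795 = n31390 := rfl
def n31391 : Q := act 7 n14795
theorem D31391 : act 7 n14795 = n31391 := rfl
theorem F49657 : act 4 n31391 = n14799 := d11_1 D31391 (iv7 D14799) (iv4 F24445)
def n31392 : Q := act 2 n14796
theorem D31392 : act 2 n14796 = n31392 := rfl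
theorem F49658 : act 7 n14797 = n31392 := d15_2 (iv0 D14796) D14797 (iv2 D31392)
def n31393 : Q := act 3 n14796
theorem D31393 : act 3 n14796 = n31393 := rfl
def n31394 : Q := act 4 n14796
theorem D31394 : act 4 n14796 = n31394 := rfl
def n31395 : Q := act 6 n14796
theorem D31395 : act 6 n14796 = n31395 := rfl
theorem F49659 : act 0 n24360 = n31395 := d21_4 (iv5 D5687) (iv1 F10285) D11479 D24360 (iv6 D31395) F39044 (iv1 D24901) D24902 F39043 F19189
def n31396 : Q := act 7 n14796
theorem D31396 : act 7 n14796 = n31396 := rfl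
theorem F49660 : act 2 n31396 = n14797 := d4_1 D31396 F49658 (iv2 D31392)
def n31397 : Q := act 3 n14797
theorem D31397 : act 3 n14797 = n31397 := rfl
def n31398 : Q := act 4 n14797
theorem D31398 : act 4 n14797 = n31398 := rfl
def n31399 : Q := act 6 n14797
theorem D31399 : act 6 n14797 = n31399 := rfl
def n31400 : Q := act 0 n14798
theorem D31400 : act 0 n14798 = n31400 := rfl
def n31401 : Q := act 1 n14798
theorem D31401 : act 1 n14798 = n31401 := rfl
def n31402 : Q := act 4 n14798
theorem D31402 : act 4 n14798 = n31402 := rfl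
theorem F49661 : act 6 n31402 = n14807 := d10_2 (iv6 F24447) D31402 (iv4 D14807)
def n31403 : Q := act 7 n14798
theorem D31403 : act 7 n14798 = n31403 := rfl
theorem F49662 : act 3 n31403 = n14841 := d8_1 D31403 (iv7 D14841) (iv3 F24446)
theorem F49663 : act 5 n31403 = n14799 := d13_1 D31403 (iv7 D14799) D14798
def n31404 : Q := act 5 n14800
theorem D31404 : act 5 n14800 = n31404 := rfl
theorem F49664 : act 2 n31404 = n29796 := d2_1 D31404 F47952 F38326
theorem F49665 : act 3 n31404 = n14802 := d6_1 D31404 (iv5 D14802) D14800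
theorem F49666 : act 7 n31404 = n29797 := d13_2 F38439 D31404 (iv5 F47955)
theorem F49667 : act 0 n31404 = n24254 := d17_2 (iv1 F40234) D31404 (iv5 D24254) F18662 D14153 F23651 F23416 (iv0 F38346) (iv4 F38394)
theorem F49668 : act 1 n31404 = n29780 := d17_6 D11776 D24845 F48136 (iv5 D29940) F24450 D31404 (iv5 D29780) (iv0 F23642) F19136
def n31405 : Q := act 4 n14802
theorem D31405 : act 4 n14802 = n31405 := rfl
theorem F49669 : act 2 n31405 = n28768 := d1_1 D31405 (iv4 D28768) (iv2 F24453)
def n31406 : Q := act 6 n14802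
theorem D31406 : act 6 n14802 = n31406 := rfl
theorem F49670 : act 2 n31406 = n28766 := d3_1 D31406 F46404 (iv2 F24453)
theorem F49671 : act 5 n31406 = n28724 := d12_1 D31406 (iv6 D28724) (iv5 D13695) (iv6 F24438) D14802
def n31407 : Q := act 5 n14803
theorem D31407 : act 5 n14803 = n31407 := rfl
theorem F49672 : act 3 n31407 = n14805 := d6_1 D31407 (iv5 D14805) D14803
theorem F49673 : act 7 n31407 = n28758 := d13_2 (iv7 F24456) D31407 (iv5 D28758)
theorem F49674 : act 1 n31407 = n27926 := d17_6 (iv1 F10760) D13751 (iv1 F23271) (iv5 F23902) (iv4 F24457) D31407 (iv5 D27926) (iv0 F23251) (iv4 D13967)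
theorem F49675 : act 0 n31407 = n27924 := d21_1 D31407 (iv5 D27924) D27925 (iv1 F45102) F39915 D27975 F45231 (iv5 F39758) (iv6 F45687) (iv1 F45688)
def n31408 : Q := act 6 n14803
theorem D31408 : act 6 n14803 = n31408 := rfl
theorem F49676 : act 2 n31408 = n25271 := d3_1 D31408 F45684 (iv2 F45683)
theorem F49677 : act 3 n31408 = n14806 := d7_1 D31408 (iv6 D14806) D14803
theorem F49678 : act 4 n31408 = n24769 := d10_1 D31408 (iv6 D24769) (iv4 F24457)
theorem F49679 : act 7 n31408 = n25272 := d14_2 (iv7 F24456) D31408 F39884 F22886 D13713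
theorem F49680 : act 5 n31408 = n27946 := d21_6 D27975 F45231 (iv5 F39758) (iv6 F45687) (iv1 F45688) D31408 F49277 (iv5 D30833) F24268 F24270
theorem F49681 : act 0 n24504 = n31408 := d17_0 F49680 F49277 (iv5 D30833) F24267 D24576 (iv0 F38574) F37500 (iv0 F38287) (iv4 F38471)
def n31409 : Q := act 4 n14805
theorem D31409 : act 4 n14805 = n31409 := rfl
theorem F49682 : act 7 n31409 = n28768 := d11_2 (iv7 F24462) D31409 (iv4 D28768)
def n31410 : Q := act 5 n14807
theorem D31410 : act 5 n14807 = n31410 := rfl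
def n31411 : Q := act 3 n14808
theorem D31411 : act 3 n14808 = n31411 := rfl
theorem F49683 : act 4 n31411 = n14810 := d5_2 D14808 D31411 (iv3 D14810) (iv4 D7058) D7057
theorem F49684 : act 7 n31411 = n30760 := d8_2 F41144 D31411 F49215
def n31412 : Q := act 5 n14808
theorem D31412 : act 5 n14808 = n31412 := rfl
theorem F49685 : act 4 n31412 = n30452 := d16_2 D14808 D31412 F48868 (iv4 D30148) (iv5 F24090) (iv4 F38822) (iv5 F41140) F41141 (iv2 F22626)
theorem F49686 : act 0 n31412 = n28279 := d17_2 F24472 D31412 (iv5 D28279) F26051 (iv5 F26046) F26048 (iv5 F23977) (iv0 D14361) D14363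
theorem F49687 : act 1 n31412 = n28282 := d17_6 (iv1 F22612) (iv5 F26054) (iv1 D11758) (iv5 F11304) D14808 D31412 (iv5 D28282) F45671 F45669
def n31413 : Q := act 6 n14808
theorem D31413 : act 6 n14808 = n31413 := rfl
theorem F49688 : act 4 n31413 = n14809 := d10_1 D31413 (iv6 D14809) D14808
def n31414 : Q := act 0 n14809
theorem D31414 : act 0 n14809 = n31414 := rfl
def n31415 : Q := act 1 n14809
theorem D31415 : act 1 n14809 = n31415 := rfl
def n31416 : Q := act 7 n14809
theorem D31416 : act 7 n14809 = n31416 := rfl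
theorem F49689 : act 3 n31416 = n14814 := d8_1 D31416 (iv7 D14814) (iv3 F24473)
theorem F49690 : act 5 n31416 = n24817 := d13_1 D31416 (iv7 D24817) (iv5 F24474)
def n31417 : Q := act 0 n14810
theorem D31417 : act 0 n14810 = n31417 := rfl
theorem F49691 : act 1 n30759 = n31417 := d15_0 (iv0 D31417) F24475 D30759
def n31418 : Q := act 1 n14810
theorem D31418 : act 1 n14810 = n31418 := rfl
def n31419 : Q := act 2 n14810
theorem D31419 : act 2 n14810 = n31419 := rfl
theorem F49692 : act 3 n31419 = n30749 := d0_2 D14810 D31419 (iv2 D30749) (iv3 D14570) (iv2 F11305)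
theorem F49693 : act 7 n31419 = n30759 := d4_2 (iv7 F24475) D31419 (iv2 D30759)
theorem F49694 : act 1 n31419 = n30757 := d15_0 (iv0 D30757) (iv7 F24475) D31419
theorem F49695 : act 1 n31418 = n30759 := d15_1 D31418 (iv7 F49693) (iv2 D31419)
theorem F49696 : act 1 n30758 = n31419 := d15_1 D30758 F49693 (iv2 D30759)
def n31420 : Q := act 6 n14810
theorem D31420 : act 6 n14810 = n31420 := rfl
theorem F49697 : act 3 n31420 = n14811 := d7_1 D31420 (iv6 D14811) D14810
def n31421 : Q := act 0 n14811
theorem D31421 : act 0 n14811 = n31421 := rfl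
def n31422 : Q := act 1 n14811
theorem D31422 : act 1 n14811 = n31422 := rfl
theorem F49698 : act 1 n31422 = n30756 := d15_1 D31422 (iv7 D30756) (iv2 F24476)
theorem F49699 : act 4 n31422 = n24641 := d18_7 (iv1 F19669) (iv4 F38604) F38605 F19111 (iv5 F11309) (iv4 F24477) D31422 F38635 F24226
theorem F49700 : act 2 n30738 = n31422 := d1_3 F49699 (iv2 F39511) D30738
theorem F49701 : act 7 n30736 = n31422 := d11_0 F49699 (iv7 F39514) D30736
theorem F49702 : act 2 n30736 = n31421 := d15_3 (iv0 D31421) D31422 (iv7 F49701)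
theorem F49703 : act 4 n31421 = n24640 := d1_2 D30736 F49702 F39512
theorem F49704 : act 7 n31421 = n30738 := d4_2 (iv7 F49701) F49702 F49700
theorem E5097 : n30754 = n30736 := ((c15_4 (iv0 D30754) (iv0 F49199) (iv7 F49704) (iv2 F49702))).symm
theorem F49705 : act 1 n30736 = n14572 := (sb E5097 (iv0 D30754))
theorem F49706 : act 1 n30756 = n31421 := d15_1 F49698 F49704 F49700
def n31423 : Q := act 5 n14811
theorem D31423 : act 5 n14811 = n31423 := rfl
theorem F49707 : act 2 n31423 = n30755 := d2_1 D31423 (iv5 D30755) (iv2 F24476)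
def n31424 : Q := act 7 n14811
theorem D31424 : act 7 n14811 = n31424 := rfl
theorem F49708 : act 2 n31424 = n30756 := d4_1 D31424 (iv7 D30756) (iv2 F24476)
theorem F49709 : act 4 n31424 = n14814 := d11_1 D31424 (iv7 D14814) (iv4 F24477)
theorem F49710 : act 6 n31424 = n30765 := d14_1 D31424 (iv7 D30765) (iv6 D14575) (iv7 F11306) D14811
theorem F49711 : act 1 n30738 = n31424 := d15_1 (iv0 F49199) (iv7 D31424) F24476
theorem F49712 : act 1 n31424 = n30736 := d15_1 F49711 F49701 (iv2 F49700)
def n31425 : Q := act 3 n14812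
theorem D31425 : act 3 n14812 = n31425 := rfl
def n31426 : Q := act 4 n14812
theorem D31426 : act 4 n14812 = n31426 := rfl
def n31427 : Q := act 6 n14812
theorem D31427 : act 6 n14812 = n31427 := rfl
theorem F49713 : act 2 n31427 = n28357 := d3_1 D31427 F45849 F45454
theorem F49714 : act 5 n31427 = n23831 := d12_1 D31427 (iv6 F45306) (iv5 D28041) D28042 F45307
theorem F49715 : act 7 n31427 = n28353 := d14_2 (iv7 F45456) D31427 (iv6 F46519) (iv7 F47221) F47169
theorem F49716 : act 0 n31427 = n14838 := d21_4 (iv5 F45519) F45520 F45307 D31427 (iv6 D14838) (iv5 F11317) (iv1 F20500) (iv5 F38047) (iv6 F38214) (iv1 F38215)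
def n31428 : Q := act 3 n14813
theorem D31428 : act 3 n14813 = n31428 := rfl
def n31429 : Q := act 4 n14816
theorem D31429 : act 4 n14816 = n31429 := rfl
theorem F49717 : act 2 n31429 = n14817 := d1_1 D31429 (iv4 D14817) D14816
theorem F49718 : act 0 n31429 = n25796 := d18_2 (iv1 F37074) D31429 (iv4 D25796) (iv5 D12249) F10122 (iv0 F10116) (iv4 F7583) D11148 D23788
theorem F49719 : act 1 n31429 = n24156 := d18_6 F38287 F22275 D13398 (iv4 F39823) F39824 D31429 (iv4 D24156) D24155 F37867
def n31430 : Q := act 6 n14816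
theorem D31430 : act 6 n14816 = n31430 := rfl
theorem F49720 : act 2 n31430 = n14818 := d3_1 D31430 (iv6 D14818) D14816
theorem F49721 : act 5 n31430 = n29433 := d12_1 D31430 (iv6 D29433) (iv5 F38747) (iv6 F39825) F39824
theorem F49722 : act 0 n31430 = n24346 := d21_4 F37093 (iv1 F39827) F39824 D31430 (iv6 D24346) (iv5 D11473) (iv1 D5341) D5342 F8119 D11160
def n31431 : Q := act 1 n14817
theorem D31431 : act 1 n14817 = n31431 := rfl
theorem F49723 : act 7 n31431 = n25796 := d15_2 F38582 D31431 F40770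
theorem F49724 : act 4 n31431 = n24152 := d18_7 F39443 F39439 (iv1 F22288) F20326 F19837 D14817 D31431 F38576 F38575
theorem F49725 : act 2 n24156 = n31431 := d1_3 F49724 F37858 D24156
def n31432 : Q := act 3 n14817
theorem D31432 : act 3 n14817 = n31432 := rfl
theorem F49726 : act 4 n31432 = n14819 := d5_2 D14817 D31432 (iv3 D14819) (iv4 D7061) D7060
theorem F49727 : act 7 n31432 = n30750 := d8_2 F39889 D31432 F49209
def n31433 : Q := act 5 n14817
theorem D31433 : act 5 n14817 = n31433 := rfl
def n31434 : Q := act 6 n14817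
theorem D31434 : act 6 n14817 = n31434 := rfl
theorem F49728 : act 4 n31434 = n14818 := d10_1 D31434 (iv6 D14818) D14817
def n31435 : Q := act 0 n14818
theorem D31435 : act 0 n14818 = n31435 := rfl
theorem F49729 : act 6 n31435 = n24328 := d21_5 F38769 F38768 F19837 D14818 D31435 (iv5 D24328) (iv1 D11462) D11463 F18734 D23789
theorem F49730 : act 5 n31435 = n28805 := d21_8 (iv5 D13462) (iv1 D6403) D6404 (iv6 F18087) (iv1 F23257) D14001 (iv5 F24480) D31435 (iv6 D28805) (iv1 F22978)
theorem F49731 : act 2 n24346 = n31435 := d2_3 F49730 (iv2 F47124) F47125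
def n31436 : Q := act 1 n14818
theorem D31436 : act 1 n14818 = n31436 := rfl
theorem F49732 : act 7 n31436 = n24346 := d15_2 (iv0 D31435) D31436 F49731
def n31437 : Q := act 7 n14818
theorem D31437 : act 7 n14818 = n31437 := rfl
theorem F49733 : act 3 n31437 = n14822 := d8_1 D31437 (iv7 D14822) (iv3 F24479)
theorem F49734 : act 5 n31437 = n29440 := d13_1 D31437 (iv7 D29440) (iv5 F24480)
def n31438 : Q := act 0 n14819
theorem D31438 : act 0 n14819 = n31438 := rfl
theorem F49735 : act 1 n30749 = n31438 := d15_0 (iv0 D31438) F24481 D30749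
def n31439 : Q := act 1 n14819
theorem D31439 : act 1 n14819 = n31439 := rfl
def n31440 : Q := act 2 n14819
theorem D31440 : act 2 n14819 = n31440 := rfl
theorem F49736 : act 3 n31440 = n30759 := d0_2 D14819 D31440 (iv2 D30759) (iv3 D14573) (iv2 F11310)
theorem F49737 : act 7 n31440 = n30749 := d4_2 (iv7 F24481) D31440 (iv2 D30749)
theorem F49738 : act 1 n31440 = n30747 := d15_0 (iv0 D30747) (iv7 F24481) D31440
theorem F49739 : act 1 n31439 = n30749 := d15_1 D31439 (iv7 F49737) (iv2 D31440)
theorem F49740 : act 1 n30748 = n31440 := d15_1 D30748 F49737 (iv2 D30749)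
def n31441 : Q := act 6 n14819
theorem D31441 : act 6 n14819 = n31441 := rfl
theorem F49741 : act 3 n31441 = n14820 := d7_1 D31441 (iv6 D14820) D14819
def n31442 : Q := act 1 n14820
theorem D31442 : act 1 n14820 = n31442 := rfl
theorem F49742 : act 1 n31442 = n30765 := d15_1 D31442 (iv7 D30765) (iv2 F24482)
theorem F49743 : act 7 n31442 = n16532 := d15_2 (iv0 F24484) D31442 F26154
theorem F49744 : act 2 n30563 = n31442 := d4_3 F49743 F26154 D30563
theorem F49745 : act 4 n16534 = n31442 := d11_3 F49743 F26155 D16534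
theorem F49746 : act 6 n30539 = n31442 := d14_5 F49743 (iv6 D16532) F11929 D14488 D30539
theorem E5098 : n29871 = n29448 := ((c18_7 (iv1 F26165) F49745 (iv1 D31442) F24483 F11314 (iv4 F23348) D29448 (iv4 D29871) F23775 (iv5 F24145))).symm
theorem F49747 : act 2 n29448 = n28900 := (sb E5098 (iv2 F48978))
theorem F49748 : act 4 n29448 = n14189 := (sb E5098 (iv4 D29871))
theorem F49749 : act 7 n29448 = n28899 := (sb E5098 (iv7 F48984))
theorem E5099 : n29868 = n29447 := (c15_4 (iv0 D29447) D29448 F49749 F48981)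
theorem F49750 : act 2 n29447 = n28899 := (sb E5099 (iv2 F48981))
theorem F49751 : act 4 n29447 = n14188 := (sb E5099 (iv4 D29868))
theorem F49752 : act 6 n29447 = n30026 := (sb E5099 (iv6 F48248))
theorem F49753 : act 7 n29447 = n28900 := (sb E5099 (iv7 F48980))
theorem E5100 : n30765 = n30561 := ((c18_3 F20361 (iv4 F24144) D30561 F49219 F27065 (iv4 F46548) F47204 F49751 (iv0 D14188) (iv5 F20360))).symm
theorem F49754 : act 0 n30561 = n31442 := (sb E5100 (iv1 F49742))
theorem F49755 : act 4 n30561 = n16588 := (sb E5100 F49219)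
theorem F49756 : act 6 n30561 = n31424 := (sb E5100 (iv6 F49710))
theorem F49757 : act 7 n30561 = n14575 := (sb E5100 (iv7 D30765))
def n31443 : Q := act 5 n14820
theorem D31443 : act 5 n14820 = n31443 := rfl
theorem F49758 : act 2 n31443 = n30764 := d2_1 D31443 (iv5 D30764) (iv2 F24482)
def n31444 : Q := act 7 n14820
theorem D31444 : act 7 n14820 = n31444 := rfl
theorem F49759 : act 2 n31444 = n30561 := d4_1 D31444 F49757 (iv2 F24482)
theorem F49760 : act 4 n31444 = n14822 := d11_1 D31444 (iv7 D14822) (iv4 F24483)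
theorem F49761 : act 6 n31444 = n30756 := d14_1 D31444 (iv7 D30756) (iv6 D14572) (iv7 F11311) D14820
theorem F49762 : act 1 n30563 = n31444 := d15_1 F48977 (iv7 D31444) F24482
theorem F49763 : act 1 n31444 = n16532 := d15_1 F49762 (iv7 F49743) (iv2 F49744)
def n31445 : Q := act 3 n14821
theorem D31445 : act 3 n14821 = n31445 := rfl
theorem F49764 : act 7 n31445 = n24367 := d8_2 (iv7 F24485) D31445 F38201
theorem F49765 : act 1 n14921 = n31445 := d15_1 (iv0 F45118) F49764 (iv2 F45116)
def n31446 : Q := act 2 n14823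
theorem D31446 : act 2 n14823 = n31446 := rfl
theorem F49766 : act 7 n14824 = n31446 := d15_2 (iv0 D14823) D14824 (iv2 D31446)
def n31447 : Q := act 3 n14823
theorem D31447 : act 3 n14823 = n31447 := rfl
def n31448 : Q := act 4 n14823
theorem D31448 : act 4 n14823 = n31448 := rfl
def n31449 : Q := act 5 n14823
theorem D31449 : act 5 n14823 = n31449 := rfl
def n31450 : Q := act 6 n14823
theorem D31450 : act 6 n14823 = n31450 := rfl
def n31451 : Q := act 7 n14823
theorem D31451 : act 7 n14823 = n31451 := rfl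
theorem F49767 : act 2 n31451 = n14824 := d4_1 D31451 F49766 (iv2 D31446)
def n31452 : Q := act 3 n14824
theorem D31452 : act 3 n14824 = n31452 := rfl
def n31453 : Q := act 4 n14824
theorem D31453 : act 4 n14824 = n31453 := rfl
def n31454 : Q := act 5 n14824
theorem D31454 : act 5 n14824 = n31454 := rfl
def n31455 : Q := act 6 n14824
theorem D31455 : act 6 n14824 = n31455 := rfl
def n31456 : Q := act 6 n14825
theorem D31456 : act 6 n14825 = n31456 := rfl
theorem F49768 : act 2 n31456 = n14826 := d3_1 D31456 (iv6 D14826) D14825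
def n31457 : Q := act 0 n14826
theorem D31457 : act 0 n14826 = n31457 := rfl
def n31458 : Q := act 1 n14826
theorem D31458 : act 1 n14826 = n31458 := rfl
def n31459 : Q := act 5 n14826
theorem D31459 : act 5 n14826 = n31459 := rfl
def n31460 : Q := act 7 n14826
theorem D31460 : act 7 n14826 = n31460 := rfl
theorem F49770 : act 3 n31460 = n14830 := d8_1 D31460 (iv7 D14830) (iv3 F24488)
def n31463 : Q := act 4 n14827
theorem D31463 : act 4 n14827 = n31463 := rfl
def n31464 : Q := act 5 n14827
theorem D31464 : act 5 n14827 = n31464 := rfl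
theorem F49772 : act 0 n31464 = n30632 := d17_2 D14827 D31464 (iv5 D30632) F24161 (iv5 D7067) D7066 (iv5 F11317) (iv0 D7065) (iv4 F11315)
def n31465 : Q := act 6 n14827
theorem D31465 : act 6 n14827 = n31465 := rfl
theorem F49774 : act 0 n24362 = n31465 := d21_4 D6936 D14528 F24165 D24362 (iv6 D31465) D31464 F49772 (iv5 D30632) (iv6 D14522) (iv1 D6934)
def n31468 : Q := act 4 n14828
theorem D31468 : act 4 n14828 = n31468 := rfl
theorem F49776 : act 5 n31468 = n31463 := d18_4 (iv1 F20500) (iv4 F41159) (iv1 F41162) D31468 (iv4 D31463) (iv0 D14827) F11315 D7066 (iv5 F11317)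
def n31471 : Q := act 0 n14829
theorem D31471 : act 0 n14829 = n31471 := rfl
def n31472 : Q := act 1 n14829
theorem D31472 : act 1 n14829 = n31472 := rfl
def n31474 : Q := act 7 n14829
theorem D31474 : act 7 n14829 = n31474 := rfl
theorem F49777 : act 5 n31474 = n14830 := d13_1 D31474 (iv7 D14830) D14829
def n31477 : Q := act 3 n14831
theorem D31477 : act 3 n14831 = n31477 := rfl
theorem F49780 : act 7 n31477 = n14836 := d8_2 F24490 D31477 (iv3 D14836)
def n31478 : Q := act 4 n14831
theorem D31478 : act 4 n14831 = n31478 := rfl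
theorem F49781 : act 2 n31478 = n14833 := d1_1 D31478 (iv4 D14833) D14831
theorem F49782 : act 7 n31478 = n14837 := d11_2 F24490 D31478 (iv4 D14837)
def n31479 : Q := act 6 n14831
theorem D31479 : act 6 n14831 = n31479 := rfl
theorem F49783 : act 2 n31479 = n14834 := d3_1 D31479 (iv6 D14834) D14831
theorem F49784 : act 7 n24363 = n31479 := d15_2 (iv0 F24491) D24363 F49783
def n31480 : Q := act 0 n14832
theorem D31480 : act 0 n14832 = n31480 := rfl
def n31481 : Q := act 1 n14832
theorem D31481 : act 1 n14832 = n31481 := rfl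
def n31482 : Q := act 2 n14832
theorem D31482 : act 2 n14832 = n31482 := rfl
def n31483 : Q := act 4 n14832
theorem D31483 : act 4 n14832 = n31483 := rfl
def n31484 : Q := act 6 n14832
theorem D31484 : act 6 n14832 = n31484 := rfl
theorem F49785 : act 3 n31484 = n14834 := d7_1 D31484 (iv6 D14834) D14832
def n31485 : Q := act 7 n14832
theorem D31485 : act 7 n14832 = n31485 := rfl
theorem F49786 : act 3 n31485 = n14835 := d8_1 D31485 (iv7 D14835) D14832
theorem F49787 : act 5 n31485 = n31477 := d13_1 D31485 F49780 F24494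
def n31486 : Q := act 0 n14833
theorem D31486 : act 0 n14833 = n31486 := rfl
def n31487 : Q := act 1 n14833
theorem D31487 : act 1 n14833 = n31487 := rfl
theorem F49788 : act 1 n31487 = n14837 := d15_1 D31487 (iv7 F49782) F49781
def n31488 : Q := act 3 n14833
theorem D31488 : act 3 n14833 = n31488 := rfl
def n31490 : Q := act 6 n14833
theorem D31490 : act 6 n14833 = n31490 := rfl
theorem F49789 : act 4 n31490 = n14834 := d10_1 D31490 (iv6 D14834) D14833
def n31491 : Q := act 7 n14833
theorem D31491 : act 7 n14833 = n31491 := rfl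
theorem F49790 : act 2 n31491 = n14837 := d4_1 D31491 (iv7 F49782) F49781
theorem F49791 : act 4 n31491 = n14835 := d11_1 D31491 (iv7 D14835) D14833
theorem F49792 : act 1 n14837 = n31486 := d15_0 (iv0 D31486) D31491 F49790
def n31492 : Q := act 7 n14834
theorem D31492 : act 7 n14834 = n31492 := rfl
theorem F49793 : act 2 n31492 = n24363 := d4_1 D31492 F49784 F49783
theorem F49794 : act 5 n31492 = n31479 := d13_1 D31492 (iv7 F49784) (iv5 F38184)
def n31493 : Q := act 6 n14835
theorem D31493 : act 6 n14835 = n31493 := rfl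
theorem F49795 : act 2 n31493 = n14838 := d3_1 D31493 (iv6 D14838) (iv2 F24492)
def n31494 : Q := act 0 n14836
theorem D31494 : act 0 n14836 = n31494 := rfl
def n31495 : Q := act 1 n14836
theorem D31495 : act 1 n14836 = n31495 := rfl
def n31496 : Q := act 2 n14836
theorem D31496 : act 2 n14836 = n31496 := rfl
theorem F49796 : act 5 n31496 = n31482 := d2_2 (iv5 F24494) D31496 (iv2 D31482)
def n31497 : Q := act 4 n14836
theorem D31497 : act 4 n14836 = n31497 := rfl
def n31498 : Q := act 6 n14836
theorem D31498 : act 6 n14836 = n31498 := rfl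
theorem F49797 : act 3 n31498 = n14838 := d7_1 D31498 (iv6 D14838) D14836
def n31499 : Q := act 3 n14837
theorem D31499 : act 3 n14837 = n31499 := rfl
def n31500 : Q := act 5 n14837
theorem D31500 : act 5 n14837 = n31500 := rfl
def n31501 : Q := act 6 n14837
theorem D31501 : act 6 n14837 = n31501 := rfl
theorem F49798 : act 4 n31501 = n14838 := d10_1 D31501 (iv6 D14838) D14837
def n31502 : Q := act 0 n14838
theorem D31502 : act 0 n14838 = n31502 := rfl
theorem F49799 : act 5 n31502 = n23830 := d21_0 (iv1 F37158) F18674 (iv6 D11429) (iv1 F7929) (iv6 F11316) (iv5 D7067) D7065 F11317 D14838 D31502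
theorem F49800 : act 2 n28353 = n31502 := d15_3 (iv0 D31502) (iv0 F49716) F49715
theorem F49801 : act 6 n31502 = n29428 := d3_2 F46519 F49800 (iv2 F47222)
theorem F49802 : act 7 n31502 = n28357 := d4_2 F49715 F49800 (iv2 F49713)
def n31503 : Q := act 5 n14838
theorem D31503 : act 5 n14838 = n31503 := rfl
theorem F49803 : act 6 n31503 = n24363 := d12_2 D14838 D31503 (iv5 F38184) (iv6 D14834) F11317
theorem F49804 : act 0 n28353 = n31503 := d21_10 (iv5 D31503) D31502 F49799 (iv6 F46553) F47113 (iv6 D28309) D28308 F47226 F47219 F46519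
theorem F49805 : act 1 n28357 = n31503 := d15_0 (iv0 F49804) (iv7 F49715) F49713
theorem F49806 : act 7 n14838 = n31503 := d14_0 F49803 F49784 (iv6 D31479) (iv7 F24490) D14838
theorem E5101 : n31493 = n26045 := (c15_4 (iv0 F45850) F49805 (iv7 F49806) (iv2 F49795))
theorem F49807 : act 2 n26045 = n14838 := (sb E5101 F49795)
theorem E5102 : n14835 = n12342 := ((((iv6 D26045)).symm.trans (sb E5101 (iv6 D31493)))).symm
theorem E5105 : n26042 = n7066 := (((iv2 F41165)).symm.trans (sb E5102 F24492))
theorem E5106 : n31485 = n26043 := (((D26043).symm.trans (sb E5102 (iv3 F49786)))).symm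
theorem E5107 : n31491 = n26044 := (((D26044).symm.trans (sb E5102 (iv4 F49791)))).symm
theorem E5108 : n14831 = n12341 := ((((iv5 F20495)).symm.trans (sb E5102 F24493))).symm
theorem E5109 : n26039 = n7065 := ((F41164).symm.trans (sb E5102 (iv7 D14835)))
theorem F49808 : act 2 n7066 = n12342 := (sb E5105 F41165)
theorem E5110 : n31477 = n26040 := (((F41167).symm.trans (sb E5106 F49787))).symm
theorem F49809 : act 7 n26043 = n14832 := (sb E5106 (iv7 D31485))
theorem F49811 : act 7 n26044 = n14833 := (sb E5107 (iv7 D31491))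
theorem E5111 : n31478 = n26041 := (((D26041).symm.trans (sb E5108 D31478))).symm
theorem E5112 : n31479 = n16570 := ((((iv6 F26240)).symm.trans (sb E5108 D31479))).symm
theorem F49812 : act 7 n12341 = n7066 := (sb E5108 (iv7 F24490))
theorem F49813 : act 2 n7065 = n12341 := (sb E5109 (iv2 D26039))
theorem F49814 : act 7 n7065 = n12342 := (sb E5109 (iv7 F41164))
theorem F49815 : act 7 n26040 = n14836 := (sb E5110 F49780)
theorem F49816 : act 2 n26041 = n14833 := (sb E5111 F49781)
theorem F49818 : act 2 n16570 = n14834 := (sb E5112 F49783)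
theorem E5113 : n31492 = n16571 := (((F26241).symm.trans (sb E5112 (iv5 F49794)))).symm
theorem F49819 : act 7 n16570 = n24363 := (sb E5112 (iv7 F49784))
theorem F49820 : act 2 n16571 = n24363 := (sb E5113 F49793)
theorem F49821 : act 7 n16571 = n14834 := (sb E5113 (iv7 D31492))
def n31504 : Q := act 2 n14839
theorem D31504 : act 2 n14839 = n31504 := rfl
theorem F49822 : act 7 n14840 = n31504 := d15_2 (iv0 D14839) D14840 (iv2 D31504)
def n31505 : Q := act 3 n14839
theorem D31505 : act 3 n14839 = n31505 := rfl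
def n31506 : Q := act 4 n14839
theorem D31506 : act 4 n14839 = n31506 := rfl
def n31507 : Q := act 6 n14839
theorem D31507 : act 6 n14839 = n31507 := rfl
theorem F49823 : act 5 n31507 = n28823 := d21_6 (iv5 D7070) (iv1 D3222) D3223 (iv6 F11316) D14839 D31507 (iv1 D28823) F22987 (iv6 D7709) (iv1 F11322)
theorem F49824 : act 0 n31507 = n28908 := d21_10 (iv5 D28908) (iv1 D13773) (iv5 F20489) (iv6 D12338) (iv1 D5864) D5866 (iv5 F18669) D24273 (iv5 F38050) D31507
theorem F49825 : act 0 n28905 = n31507 := d21_4 F11440 D13425 D28128 (iv6 F46549) (iv6 D31507) F38050 (iv1 F38048) F24495 (iv6 F20554) (iv1 F20556)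
theorem F49826 : act 6 n28823 = n29387 := d21_3 D28905 F49825 F49823 (iv1 D29387) (iv6 D13977) F10774 (iv1 F8654) F8651 D6554 D13772
def n31508 : Q := act 7 n14839
theorem D31508 : act 7 n14839 = n31508 := rfl
theorem F49827 : act 2 n31508 = n14840 := d4_1 D31508 F49822 (iv2 D31504)
def n31509 : Q := act 3 n14840
theorem D31509 : act 3 n14840 = n31509 := rfl
def n31510 : Q := act 4 n14840
theorem D31510 : act 4 n14840 = n31510 := rfl
theorem F49828 : act 6 n31510 = n25933 := d10_2 (iv6 F38045) D31510 F46742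
theorem F49829 : act 5 n31510 = n30800 := d21_6 D14571 F24232 (iv5 D12303) D12304 D25933 (iv6 F49828) (iv1 D30800) (iv5 D14584) (iv6 D6967) D6963
theorem F49830 : act 0 n30605 = n31510 := d17_0 F49829 (iv1 D30800) (iv5 D14584) F11233 (iv5 F11205) D14515 F26194 F26192 (iv4 F49044)
theorem F49831 : act 1 n16547 = n31510 := d15_0 (iv0 F49830) (iv7 D30605) (iv2 F26190)
theorem E5114 : n31487 = n12285 := (c18_3 (iv1 F20499) D14837 (iv1 F49788) F20369 (iv5 F11945) (iv4 F26191) F49831 (iv4 D31510) F38049 F38047)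
theorem E5115 : n25880 = n14833 := ((D25880).symm.trans (sb E5114 (iv1 D31487)))
theorem E5116 : n25881 = n14837 := ((D25881).symm.trans (sb E5114 F49788))
theorem E5117 : n31486 = n14585 := ((D31486).symm.trans (sb E5115 (iv1 F40891)))
theorem F49832 : act 1 n14833 = n12285 := (sb E5115 (iv0 D25880))
theorem F49833 : act 0 n14837 = n12285 := (sb E5116 (iv1 D25881))
theorem F49834 : act 0 n14585 = n14837 := (sb E5117 (iv1 F49792))
theorem F49835 : act 1 n14585 = n14833 := (sb E5117 (iv0 D31486))
theorem F49836 : act 0 n31506 = n30605 := d18_2 D14839 D31506 F49044 F24157 (iv4 F24242) F49835 (iv4 D14833) (iv0 D7065) D7067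
def n31511 : Q := act 4 n14843
theorem D31511 : act 4 n14843 = n31511 := rfl
theorem F49837 : act 2 n31511 = n28866 := d1_1 D31511 (iv4 D28866) (iv2 F24498)
theorem F49838 : act 3 n31511 = n25233 := d5_1 D31511 (iv4 F39747) (iv3 F37797) (iv4 F38442) F38441
theorem F49839 : act 6 n31511 = n25286 := d10_2 F24497 D31511 (iv4 D25286)
theorem F49840 : act 7 n31511 = n27941 := d11_2 (iv7 F24499) D31511 F45147
theorem F49841 : act 5 n31511 = n28176 := d17_5 (iv1 D11407) D11408 D24244 F38009 D31511 (iv0 D28176) (iv5 D13450) D13449 (iv4 F22384)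
theorem F49842 : act 1 n31511 = n25211 := d18_8 (iv1 D28754) D28755 F46948 (iv4 D29023) (iv5 F23073) (iv4 F18972) D14843 D31511 (iv5 F46385)
def n31512 : Q := act 5 n14844
theorem D31512 : act 5 n14844 = n31512 := rfl
theorem F49843 : act 2 n31512 = n14845 := d2_1 D31512 (iv5 D14845) D14844
theorem F49844 : act 6 n31512 = n28258 := d12_2 (iv6 F24503) D31512 (iv5 F45764) (iv6 D28119) F22321
theorem F49845 : act 7 n31512 = n24251 := d13_2 (iv7 F24504) D31512 F38025
theorem F49846 : act 0 n31512 = n24242 := d17_2 (iv1 F24505) D31512 (iv5 D24242) (iv4 F22382) D28174 F47117 (iv5 F49160) (iv0 F49163) (iv4 D28866)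
theorem F49847 : act 1 n31512 = n24243 := d17_6 (iv1 F10345) D6689 D14068 (iv5 F38564) F38561 D31512 (iv5 D24243) F18650 (iv4 F8928)
def n31513 : Q := act 4 n14845
theorem D31513 : act 4 n14845 = n31513 := rfl
theorem F49848 : act 7 n31513 = n28867 := d11_2 (iv7 F24508) D31513 (iv4 D28867)
theorem F49849 : act 0 n31513 = n28992 := d18_2 (iv1 F24509) D31513 (iv4 D28992) (iv5 D13800) F10622 F10277 F3822 D5305 D11417
def n31514 : Q := act 0 n14846
theorem D31514 : act 0 n14846 = n31514 := rfl
theorem F49850 : act 1 n17413 = n31514 := d15_0 (iv0 D31514) (iv7 F40239) F40236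
def n31515 : Q := act 1 n14846
theorem D31515 : act 1 n14846 = n31515 := rfl
def n31516 : Q := act 2 n14846
theorem D31516 : act 2 n14846 = n31516 := rfl
theorem F49851 : act 4 n31516 = n14850 := d1_2 (iv4 F24510) D31516 (iv2 D14850)
theorem F49852 : act 6 n31516 = n29016 := d3_2 (iv6 F24511) D31516 (iv2 D29016)
theorem F49853 : act 7 n31516 = n17413 := d4_2 F40239 D31516 (iv2 F40236)
theorem F49854 : act 1 n31515 = n17413 := d15_1 D31515 (iv7 F49853) (iv2 D31516)
def n31517 : Q := act 5 n14846
theorem D31517 : act 5 n14846 = n31517 := rfl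
theorem F49855 : act 3 n31517 = n14847 := d6_1 D31517 (iv5 D14847) D14846
theorem F49856 : act 1 n31517 = n25513 := d17_6 (iv1 F20689) D12425 (iv1 F41453) (iv5 D14851) (iv4 F24510) D31517 (iv5 D25513) F40339 F40337
def n31518 : Q := act 4 n14847
theorem D31518 : act 4 n14847 = n31518 := rfl
theorem F49857 : act 5 n31518 = n28378 := d16_1 D31518 F45870 F36889 F19805 (iv5 F10506) D13541 (iv5 F40325) F40328 F39803
theorem F49858 : act 0 n31518 = n25427 := d17_0 (iv5 D25427) (iv1 D12088) D12090 (iv4 F36998) F36999 F18052 D12121 (iv0 F24512) D31518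
theorem F49859 : act 1 n31518 = n25424 := d18_6 F22677 (iv4 D11115) (iv1 F10012) D7071 D14847 D31518 F40203 F40286 F40285
def n31519 : Q := act 6 n14847
theorem D31519 : act 6 n14847 = n31519 := rfl
theorem F49860 : act 5 n31519 = n29019 := d12_1 D31519 (iv6 D29019) (iv5 D13811) (iv6 F11323) D14847
def n31520 : Q := act 3 n14848
theorem D31520 : act 3 n14848 = n31520 := rfl
theorem F49861 : act 2 n31520 = n15269 := d0_1 D31520 (iv3 D15269) F12559 D16680 F27313
theorem F49862 : act 6 n31520 = n26712 := d7_2 (iv6 F27314) D31520 (iv3 D26712)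
def n31521 : Q := act 4 n14848
theorem D31521 : act 4 n14848 = n31521 := rfl
theorem F49863 : act 6 n31521 = n26713 := d10_2 (iv6 F27314) D31521 (iv4 D26713)
def n31522 : Q := act 4 n14849
theorem D31522 : act 4 n14849 = n31522 := rfl
theorem F49864 : act 3 n31522 = n15250 := d5_1 D31522 (iv4 D15250) (iv3 F12533) F12535 (iv3 F26796)
def n31523 : Q := act 5 n14850
theorem D31523 : act 5 n14850 = n31523 := rfl
theorem F49865 : act 2 n31523 = n14851 := d2_1 D31523 (iv5 D14851) D14850
theorem F49866 : act 7 n31523 = n17416 := d13_2 F26728 D31523 (iv5 D17416)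
theorem F49867 : act 0 n31523 = n26146 := d21_7 D26139 (iv1 F41425) F24822 (iv6 F26828) (iv1 F23522) (iv6 F24514) D31523 (iv5 D26146) (iv6 D12403) D12399
theorem F49868 : act 0 n26191 = n31523 := d21_7 D16604 (iv1 F46799) (iv5 D13866) D13867 (iv1 F41578) (iv6 D26192) (iv5 F41571) (iv5 D31523) F24514 (iv1 F26825)
def n31524 : Q := act 4 n14851
theorem D31524 : act 4 n14851 = n31524 := rfl
def n31525 : Q := act 6 n14851
theorem D31525 : act 6 n14851 = n31525 := rfl
theorem F49869 : act 3 n31525 = n14852 := d7_1 D31525 (iv6 D14852) (iv3 F24515)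
theorem F49870 : act 5 n31525 = n29068 := d12_1 D31525 (iv6 D29068) (iv5 D13839) (iv6 F11324) D14851
def n31526 : Q := act 1 n14852
theorem D31526 : act 1 n14852 = n31526 := rfl
def n31527 : Q := act 7 n14852
theorem D31527 : act 7 n14852 = n31527 := rfl
theorem F49871 : act 5 n31527 = n29071 := d13_1 D31527 (iv7 D29071) (iv5 F24516)
def n31528 : Q := act 2 n14853
theorem D31528 : act 2 n14853 = n31528 := rfl
theorem F49872 : act 7 n14854 = n31528 := d15_2 (iv0 D14853) D14854 (iv2 D31528)
def n31529 : Q := act 4 n14853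
theorem D31529 : act 4 n14853 = n31529 := rfl
theorem F49873 : act 0 n31529 = n16624 := d20_1 D31529 F27115 (iv3 D14960) (iv1 D7124) (iv3 D3275) (iv4 D1449) (iv1 F2560) D3228 D7074 D14853
theorem F49874 : act 1 n31529 = n16635 := d15_1 (iv0 F49873) (iv7 F45908) F45906
def n31530 : Q := act 5 n14853
theorem D31530 : act 5 n14853 = n31530 := rfl
def n31531 : Q := act 6 n14853
theorem D31531 : act 6 n14853 = n31531 := rfl
def n31532 : Q := act 7 n14853
theorem D31532 : act 7 n14853 = n31532 := rfl
theorem F49875 : act 2 n31532 = n14854 := d4_1 D31532 F49872 (iv2 D31528)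
def n31533 : Q := act 3 n14854
theorem D31533 : act 3 n14854 = n31533 := rfl
def n31534 : Q := act 4 n14854
theorem D31534 : act 4 n14854 = n31534 := rfl
theorem F49876 : act 0 n16624 = n31534 := d20_10 (iv4 D31534) (iv1 D14854) (iv4 F20506) (iv3 D12346) (iv1 D5872) D5873 F26527 F5523 (iv4 F12036) (iv3 F27114)
theorem F49877 : act 3 n26046 = n31534 := d20_5 (iv4 D2467) D2465 D5869 D12344 D26046 (iv4 D31534) (iv1 D14854) (iv4 F20506) (iv3 D12346) (iv1 D5872)
theorem F49878 : act 0 n31533 = n26095 := d20_10 (iv4 D26095) (iv1 F20561) F11333 (iv3 F26593) (iv1 F26609) D14960 (iv4 F27115) F49876 (iv4 D31534) D31533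
theorem F49879 : act 1 n16635 = n31534 := d15_0 (iv0 F49876) F27116 (iv2 F27136)
def n31535 : Q := act 5 n14854
theorem D31535 : act 5 n14854 = n31535 := rfl
def n31536 : Q := act 6 n14854
theorem D31536 : act 6 n14854 = n31536 := rfl
def n31537 : Q := act 5 n14855
theorem D31537 : act 5 n14855 = n31537 := rfl
theorem F49880 : act 2 n31537 = n14856 := d2_1 D31537 (iv5 D14856) D14855
theorem F49881 : act 3 n31537 = n17416 := d6_1 D31537 (iv5 D17416) F26727
def n31538 : Q := act 0 n14856
theorem D31538 : act 0 n14856 = n31538 := rfl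
def n31539 : Q := act 1 n14856
theorem D31539 : act 1 n14856 = n31539 := rfl
theorem F49882 : act 5 n15144 = n31539 := d21_6 (iv5 F25823) (iv1 F25665) (iv5 D16131) (iv6 F26817) (iv1 D15141) D15144 (iv1 D31539) (iv5 D14856) (iv6 F20867) F26485
def n31540 : Q := act 4 n14856
theorem D31540 : act 4 n14856 = n31540 := rfl
def n31541 : Q := act 6 n14856
theorem D31541 : act 6 n14856 = n31541 := rfl
theorem F49883 : act 3 n31541 = n14857 := d7_1 D31541 (iv6 D14857) (iv3 F24517)
def n31542 : Q := act 0 n14857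
theorem D31542 : act 0 n14857 = n31542 := rfl
def n31543 : Q := act 1 n14857
theorem D31543 : act 1 n14857 = n31543 := rfl
def n31544 : Q := act 7 n14857
theorem D31544 : act 7 n14857 = n31544 := rfl
def n31545 : Q := act 2 n14858
theorem D31545 : act 2 n14858 = n31545 := rfl
theorem F49884 : act 7 n14859 = n31545 := d15_2 (iv0 D14858) D14859 (iv2 D31545)
def n31546 : Q := act 3 n14858
theorem D31546 : act 3 n14858 = n31546 := rfl
def n31547 : Q := act 4 n14858
theorem D31547 : act 4 n14858 = n31547 := rfl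
theorem F49885 : act 0 n31547 = n15288 := d20_1 D31547 (iv4 F27138) F27137 (iv1 F26918) (iv3 D11170) (iv4 D5105) F3623 F5178 D7076 D14858
theorem F49886 : act 0 n14960 = n31547 := d20_10 (iv4 D31547) (iv1 F41188) F41185 (iv3 F26727) (iv1 F26735) F26796 (iv4 F12535) (iv1 F8183) F26634 D14960
def n31548 : Q := act 5 n14858
theorem D31548 : act 5 n14858 = n31548 := rfl
def n31549 : Q := act 6 n14858
theorem D31549 : act 6 n14858 = n31549 := rfl
def n31550 : Q := act 7 n14858
theorem D31550 : act 7 n14858 = n31550 := rfl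
theorem F49887 : act 2 n31550 = n14859 := d4_1 D31550 F49884 (iv2 D31545)
def n31551 : Q := act 3 n14859
theorem D31551 : act 3 n14859 = n31551 := rfl
def n31552 : Q := act 4 n14859
theorem D31552 : act 4 n14859 = n31552 := rfl
theorem F49888 : act 3 n31552 = n14863 := d20_3 (iv4 F41185) (iv1 F41190) D31552 (iv1 F39936) F39934 (iv4 F41173) (iv1 F41178) D31534 (iv3 F49877) (iv1 F41169)
def n31553 : Q := act 5 n14859
theorem D31553 : act 5 n14859 = n31553 := rfl
def n31554 : Q := act 6 n14859
theorem D31554 : act 6 n14859 = n31554 := rfl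
def n31555 : Q := act 5 n14860
theorem D31555 : act 5 n14860 = n31555 := rfl
theorem F49889 : act 2 n31555 = n14861 := d2_1 D31555 (iv5 D14861) D14860
def n31556 : Q := act 0 n14861
theorem D31556 : act 0 n14861 = n31556 := rfl
def n31557 : Q := act 1 n14861
theorem D31557 : act 1 n14861 = n31557 := rfl
def n31558 : Q := act 4 n14861
theorem D31558 : act 4 n14861 = n31558 := rfl
def n31559 : Q := act 6 n14861
theorem D31559 : act 6 n14861 = n31559 := rfl
theorem F49890 : act 3 n31559 = n14862 := d7_1 D31559 (iv6 D14862) (iv3 F24518)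
theorem F49891 : act 5 n31559 = n29273 := d12_1 D31559 (iv6 D29273) F23175 F22378 D14861
def n31560 : Q := act 0 n14862
theorem D31560 : act 0 n14862 = n31560 := rfl
theorem F49892 : act 6 n31560 = n23920 := d21_5 (iv5 D3232) D3229 D7077 D14862 D31560 (iv5 D23920) (iv1 D11199) (iv5 F18146) (iv6 D11181) F7634
theorem F49893 : act 2 n28692 = n31560 := d3_3 F49892 (iv2 F44683) D28692
def n31561 : Q := act 1 n14862
theorem D31561 : act 1 n14862 = n31561 := rfl
theorem F49894 : act 7 n31561 = n28692 := d15_2 (iv0 D31560) D31561 F49893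
def n31562 : Q := act 7 n14862
theorem D31562 : act 7 n14862 = n31562 := rfl
theorem F49895 : act 5 n31562 = n29276 := d13_1 D31562 (iv7 D29276) (iv5 F24519)
def n31563 : Q := act 2 n14863
theorem D31563 : act 2 n14863 = n31563 := rfl
theorem F49896 : act 7 n14864 = n31563 := d15_2 (iv0 D14863) D14864 (iv2 D31563)
def n31564 : Q := act 4 n14863
theorem D31564 : act 4 n14863 = n31564 := rfl
def n31565 : Q := act 5 n14863
theorem D31565 : act 5 n14863 = n31565 := rfl
def n31566 : Q := act 6 n14863
theorem D31566 : act 6 n14863 = n31566 := rfl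
def n31567 : Q := act 7 n14863
theorem D31567 : act 7 n14863 = n31567 := rfl
theorem F49897 : act 2 n31567 = n14864 := d4_1 D31567 F49896 (iv2 D31563)
def n31568 : Q := act 3 n14864
theorem D31568 : act 3 n14864 = n31568 := rfl
def n31569 : Q := act 4 n14864
theorem D31569 : act 4 n14864 = n31569 := rfl
def n31570 : Q := act 5 n14864
theorem D31570 : act 5 n14864 = n31570 := rfl
def n31571 : Q := act 6 n14864
theorem D31571 : act 6 n14864 = n31571 := rfl
def n31572 : Q := act 5 n14865
theorem D31572 : act 5 n14865 = n31572 := rfl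
theorem F49898 : act 2 n31572 = n14867 := d2_1 D31572 (iv5 D14867) D14865
def n31573 : Q := act 0 n14866
theorem D31573 : act 0 n14866 = n31573 := rfl
theorem F49899 : act 3 n31573 = n15246 := d20_5 (iv4 D6445) D6444 D13541 (iv3 F24520) D31573 F24844 F21463 (iv4 F27702) F27701 F22672
theorem F49900 : act 4 n31573 = n16677 := d20_8 F11555 (iv1 F5530) (iv4 F26570) (iv3 D3275) (iv1 F5027) D7078 D14866 D31573 (iv3 D16677) (iv1 F12057)
def n31574 : Q := act 1 n14866
theorem D31574 : act 1 n14866 = n31574 := rfl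
theorem F49901 : act 4 n31520 = n31574 := d20_6 (iv4 D1432) D1430 D3226 D7072 D14848 D31520 (iv1 D31574) (iv4 D14866) (iv3 D7078) (iv1 D3230)
def n31575 : Q := act 5 n14866
theorem D31575 : act 5 n14866 = n31575 := rfl
theorem F49902 : act 3 n31575 = n25496 := d6_1 D31575 F40325 (iv3 F24520)
def n31576 : Q := act 0 n14867
theorem D31576 : act 0 n14867 = n31576 := rfl
def n31577 : Q := act 1 n14867
theorem D31577 : act 1 n14867 = n31577 := rfl
def n31578 : Q := act 4 n14867
theorem D31578 : act 4 n14867 = n31578 := rfl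
def n31579 : Q := act 6 n14867
theorem D31579 : act 6 n14867 = n31579 := rfl
theorem F49903 : act 3 n31579 = n14868 := d7_1 D31579 (iv6 D14868) (iv3 F24521)
def n31580 : Q := act 0 n14868
theorem D31580 : act 0 n14868 = n31580 := rfl
def n31581 : Q := act 1 n14868
theorem D31581 : act 1 n14868 = n31581 := rfl
def n31582 : Q := act 7 n14868
theorem D31582 : act 7 n14868 = n31582 := rfl
def n31585 : Q := act 3 n14869
theorem D31585 : act 3 n14869 = n31585 := rfl
theorem F49906 : act 7 n31585 = n14875 := d8_2 F24522 D31585 (iv3 D14875)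
def n31586 : Q := act 4 n14869
theorem D31586 : act 4 n14869 = n31586 := rfl
theorem F49907 : act 2 n31586 = n14871 := d1_1 D31586 (iv4 D14871) D14869
theorem F49908 : act 7 n31586 = n14876 := d11_2 F24522 D31586 (iv4 D14876)
def n31587 : Q := act 5 n14869
theorem D31587 : act 5 n14869 = n31587 := rfl
theorem F49909 : act 2 n31587 = n14872 := d2_1 D31587 (iv5 D14872) D14869
theorem F49910 : act 7 n31587 = n14877 := d13_2 F24522 D31587 (iv5 D14877)
def n31588 : Q := act 6 n14869
theorem D31588 : act 6 n14869 = n31588 := rfl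
theorem F49911 : act 2 n31588 = n14873 := d3_1 D31588 (iv6 D14873) D14869
def n31589 : Q := act 0 n14870
theorem D31589 : act 0 n14870 = n31589 := rfl
def n31590 : Q := act 1 n14870
theorem D31590 : act 1 n14870 = n31590 := rfl
theorem F49912 : act 3 n15293 = n31590 := d20_9 F45891 (iv1 D28385) F22704 (iv3 D6446) (iv1 F7611) D7074 (iv4 F20506) D26050 (iv4 F41183) (iv1 D31590)
def n31591 : Q := act 2 n14870
theorem D31591 : act 2 n14870 = n31591 := rfl
def n31592 : Q := act 5 n14870
theorem D31592 : act 5 n14870 = n31592 := rfl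
theorem F49913 : act 3 n31592 = n14872 := d6_1 D31592 (iv5 D14872) D14870
def n31593 : Q := act 6 n14870
theorem D31593 : act 6 n14870 = n31593 := rfl
theorem F49914 : act 3 n31593 = n14873 := d7_1 D31593 (iv6 D14873) D14870
def n31594 : Q := act 7 n14870
theorem D31594 : act 7 n14870 = n31594 := rfl
theorem F49915 : act 3 n31594 = n14874 := d8_1 D31594 (iv7 D14874) D14870
def n31595 : Q := act 0 n14871
theorem D31595 : act 0 n14871 = n31595 := rfl
theorem F49916 : act 4 n31595 = n31533 := d20_2 D14871 D31595 (iv3 D31533) (iv1 D14854) (iv3 D7074) (iv4 D3228) (iv1 D1431) D1432 D3231 D7080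
theorem F49917 : act 3 n16665 = n31595 := d5_5 F49916 (iv3 D31533) D31534 (iv3 F49877) F41168
theorem F49918 : act 0 n26100 = n31533 := d20_1 D26100 (iv4 F49916) (iv3 F49917) (iv1 D16665) F12055 F5528 D3519 D7760 F26593 (iv1 F20566)
theorem F49919 : act 0 n31595 = n14876 := d20_10 (iv4 D14876) (iv1 D7081) F5177 (iv3 D3231) D3229 D7076 (iv4 F20501) D26046 F41168 F49917
def n31596 : Q := act 1 n14871
theorem D31596 : act 1 n14871 = n31596 := rfl
theorem F49920 : act 1 n31596 = n14876 := d15_1 D31596 (iv7 F49908) F49907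
theorem F49921 : act 3 n26047 = n31596 := d20_9 (iv4 D14871) (iv1 F20565) F20563 F20562 F26603 (iv3 F11559) (iv4 F12056) D16664 F41170 (iv1 D31596)
def n31597 : Q := act 3 n14871
theorem D31597 : act 3 n14871 = n31597 := rfl
theorem F49922 : act 0 n31597 = n31520 := d20_10 F49901 (iv1 D31574) (iv4 D14866) (iv3 D7078) (iv1 D3230) D3231 F5177 D7080 D14871 D31597
theorem F49923 : act 0 n16677 = n31597 := d20_4 F5323 D6068 F12562 D16677 (iv3 D31597) (iv4 D14871) (iv1 F20565) F20563 F20562 F26603
def n31598 : Q := act 5 n14871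
theorem D31598 : act 5 n14871 = n31598 := rfl
def n31599 : Q := act 6 n14871
theorem D31599 : act 6 n14871 = n31599 := rfl
theorem F49924 : act 4 n31599 = n14873 := d10_1 D31599 (iv6 D14873) D14871
def n31600 : Q := act 7 n14871
theorem D31600 : act 7 n14871 = n31600 := rfl
theorem F49925 : act 2 n31600 = n14876 := d4_1 D31600 (iv7 F49908) F49907
theorem F49926 : act 4 n31600 = n14874 := d11_1 D31600 (iv7 D14874) D14871
def n31601 : Q := act 0 n14872
theorem D31601 : act 0 n14872 = n31601 := rfl
def n31602 : Q := act 1 n14872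
theorem D31602 : act 1 n14872 = n31602 := rfl
theorem F49927 : act 1 n31602 = n14877 := d15_1 D31602 (iv7 F49910) F49909
def n31603 : Q := act 4 n14872
theorem D31603 : act 4 n14872 = n31603 := rfl
def n31604 : Q := act 6 n14872
theorem D31604 : act 6 n14872 = n31604 := rfl
def n31605 : Q := act 7 n14872
theorem D31605 : act 7 n14872 = n31605 := rfl
theorem F49928 : act 2 n31605 = n14877 := d4_1 D31605 (iv7 F49910) F49909
theorem F49929 : act 5 n31605 = n14874 := d13_1 D31605 (iv7 D14874) D14872
theorem F49930 : act 1 n14877 = n31601 := d15_0 (iv0 D31601) D31605 F49928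
def n31606 : Q := act 0 n14873
theorem D31606 : act 0 n14873 = n31606 := rfl
def n31607 : Q := act 1 n14873
theorem D31607 : act 1 n14873 = n31607 := rfl
def n31608 : Q := act 5 n14873
theorem D31608 : act 5 n14873 = n31608 := rfl
def n31609 : Q := act 7 n14873
theorem D31609 : act 7 n14873 = n31609 := rfl
def n31611 : Q := act 0 n14875
theorem D31611 : act 0 n14875 = n31611 := rfl
def n31612 : Q := act 1 n14875
theorem D31612 : act 1 n14875 = n31612 := rfl
def n31613 : Q := act 2 n14875
theorem D31613 : act 2 n14875 = n31613 := rfl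
def n31614 : Q := act 4 n14875
theorem D31614 : act 4 n14875 = n31614 := rfl
theorem F49932 : act 0 n31614 = n31522 := d20_7 F12036 F5522 (iv4 F26605) (iv3 F20562) (iv1 F20567) D14875 D31614 (iv4 D31522) F26796 (iv1 F12041)
theorem F49933 : act 0 n31521 = n31614 := d20_1 D31521 (iv4 D31614) (iv3 D14875) (iv1 D7081) (iv3 D3231) (iv4 D1432) D1430 D3226 D7072 D14848
theorem E5118 : n31612 = n31546 := ((c20_10 D31614 F49932 (iv4 D31522) F26796 (iv1 F12041) (iv3 F27114) F27115 F49886 (iv4 D31547) D31546 (iv1 D31612))).symm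
theorem F49934 : act 0 n31546 = n14875 := (sb E5118 (iv1 D31612))
def n31615 : Q := act 5 n14875
theorem D31615 : act 5 n14875 = n31615 := rfl
theorem F49935 : act 3 n31615 = n14877 := d6_1 D31615 (iv5 D14877) D14875
def n31616 : Q := act 6 n14875
theorem D31616 : act 6 n14875 = n31616 := rfl
def n31617 : Q := act 5 n14876
theorem D31617 : act 5 n14876 = n31617 := rfl
def n31618 : Q := act 6 n14876
theorem D31618 : act 6 n14876 = n31618 := rfl
def n31619 : Q := act 4 n14877
theorem D31619 : act 4 n14877 = n31619 := rfl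
def n31620 : Q := act 6 n14877
theorem D31620 : act 6 n14877 = n31620 := rfl
def n31625 : Q := act 4 n14879
theorem D31625 : act 4 n14879 = n31625 := rfl
theorem F49938 : act 2 n31625 = n14883 := d1_1 D31625 (iv4 D14883) (iv2 F24524)
def n31626 : Q := act 6 n14879
theorem D31626 : act 6 n14879 = n31626 := rfl
theorem F49939 : act 2 n31626 = n14884 := d3_1 D31626 (iv6 D14884) (iv2 F24524)
def n31627 : Q := act 0 n14880
theorem D31627 : act 0 n14880 = n31627 := rfl
theorem F49940 : act 1 n14888 = n31627 := d15_0 (iv0 D31627) (iv7 F26687) (iv2 F26688)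
def n31628 : Q := act 1 n14880
theorem D31628 : act 1 n14880 = n31628 := rfl
theorem F49941 : act 1 n31628 = n14888 := d15_1 D31628 (iv7 D14888) (iv2 F24525)
def n31629 : Q := act 2 n14881
theorem D31629 : act 2 n14881 = n31629 := rfl
def n31630 : Q := act 3 n14881
theorem D31630 : act 3 n14881 = n31630 := rfl
def n31631 : Q := act 4 n14881
theorem D31631 : act 4 n14881 = n31631 := rfl
def n31632 : Q := act 5 n14881
theorem D31632 : act 5 n14881 = n31632 := rfl
def n31633 : Q := act 6 n14881
theorem D31633 : act 6 n14881 = n31633 := rfl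
def n31634 : Q := act 7 n14881
theorem D31634 : act 7 n14881 = n31634 := rfl
def n31635 : Q := act 3 n14882
theorem D31635 : act 3 n14882 = n31635 := rfl
def n31636 : Q := act 4 n14882
theorem D31636 : act 4 n14882 = n31636 := rfl
def n31637 : Q := act 5 n14882
theorem D31637 : act 5 n14882 = n31637 := rfl
def n31638 : Q := act 6 n14882
theorem D31638 : act 6 n14882 = n31638 := rfl
def n31639 : Q := act 0 n14883
theorem D31639 : act 0 n14883 = n31639 := rfl
def n31640 : Q := act 1 n14883
theorem D31640 : act 1 n14883 = n31640 := rfl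
def n31641 : Q := act 5 n14883
theorem D31641 : act 5 n14883 = n31641 := rfl
def n31642 : Q := act 6 n14883
theorem D31642 : act 6 n14883 = n31642 := rfl
theorem F49944 : act 4 n31642 = n14884 := d10_1 D31642 (iv6 D14884) D14883
def n31643 : Q := act 0 n14884
theorem D31643 : act 0 n14884 = n31643 := rfl
def n31644 : Q := act 1 n14884
theorem D31644 : act 1 n14884 = n31644 := rfl
def n31645 : Q := act 5 n14884
theorem D31645 : act 5 n14884 = n31645 := rfl
theorem F49946 : act 6 n31645 = n14887 := d12_2 D14884 D31645 (iv5 D14887) (iv6 D7084) D7083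
def n31646 : Q := act 7 n14884
theorem D31646 : act 7 n14884 = n31646 := rfl
theorem F49947 : act 3 n31646 = n14892 := d8_1 D31646 (iv7 D14892) (iv3 F24527)
def n31647 : Q := act 2 n14885
theorem D31647 : act 2 n14885 = n31647 := rfl
theorem F49948 : act 7 n14886 = n31647 := d15_2 (iv0 D14885) D14886 (iv2 D31647)
def n31648 : Q := act 3 n14885
theorem D31648 : act 3 n14885 = n31648 := rfl
def n31649 : Q := act 4 n14885
theorem D31649 : act 4 n14885 = n31649 := rfl
def n31650 : Q := act 5 n14885
theorem D31650 : act 5 n14885 = n31650 := rfl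
def n31651 : Q := act 6 n14885
theorem D31651 : act 6 n14885 = n31651 := rfl
def n31652 : Q := act 7 n14885
theorem D31652 : act 7 n14885 = n31652 := rfl
theorem F49949 : act 2 n31652 = n14886 := d4_1 D31652 F49948 (iv2 D31647)
def n31653 : Q := act 3 n14886
theorem D31653 : act 3 n14886 = n31653 := rfl
def n31654 : Q := act 4 n14886
theorem D31654 : act 4 n14886 = n31654 := rfl
def n31655 : Q := act 5 n14886
theorem D31655 : act 5 n14886 = n31655 := rfl
def n31656 : Q := act 6 n14886
theorem D31656 : act 6 n14886 = n31656 := rfl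
def n31657 : Q := act 0 n14887
theorem D31657 : act 0 n14887 = n31657 := rfl
def n31658 : Q := act 1 n14887
theorem D31658 : act 1 n14887 = n31658 := rfl
def n31659 : Q := act 4 n14887
theorem D31659 : act 4 n14887 = n31659 := rfl
def n31660 : Q := act 7 n14887
theorem D31660 : act 7 n14887 = n31660 := rfl
theorem F49950 : act 3 n31660 = n14897 := d8_1 D31660 (iv7 D14897) (iv3 F24528)
theorem F49951 : act 5 n31660 = n14888 := d13_1 D31660 (iv7 D14888) D14887
def n31661 : Q := act 2 n14889
theorem D31661 : act 2 n14889 = n31661 := rfl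
theorem F49952 : act 7 n14890 = n31661 := d15_2 (iv0 D14889) D14890 (iv2 D31661)
def n31662 : Q := act 3 n14889
theorem D31662 : act 3 n14889 = n31662 := rfl
def n31663 : Q := act 4 n14889
theorem D31663 : act 4 n14889 = n31663 := rfl
def n31664 : Q := act 5 n14889
theorem D31664 : act 5 n14889 = n31664 := rfl
def n31665 : Q := act 6 n14889
theorem D31665 : act 6 n14889 = n31665 := rfl
def n31666 : Q := act 7 n14889
theorem D31666 : act 7 n14889 = n31666 := rfl
theorem F49953 : act 2 n31666 = n14890 := d4_1 D31666 F49952 (iv2 D31661)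
def n31667 : Q := act 3 n14890
theorem D31667 : act 3 n14890 = n31667 := rfl
def n31668 : Q := act 4 n14890
theorem D31668 : act 4 n14890 = n31668 := rfl
def n31669 : Q := act 5 n14890
theorem D31669 : act 5 n14890 = n31669 := rfl
def n31670 : Q := act 6 n14890
theorem D31670 : act 6 n14890 = n31670 := rfl
def n31671 : Q := act 0 n14891
theorem D31671 : act 0 n14891 = n31671 := rfl
theorem F49954 : act 6 n31671 = n15842 := d21_5 F12083 (iv1 D7087) D7088 (iv6 F24532) D31671 (iv5 D15842) (iv1 D7427) D7428 F11710 D7439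
def n31672 : Q := act 1 n14891
theorem D31672 : act 1 n14891 = n31672 := rfl
def n31673 : Q := act 4 n14891
theorem D31673 : act 4 n14891 = n31673 := rfl
theorem F49955 : act 6 n31673 = n14896 := d10_2 (iv6 F24532) D31673 (iv4 D14896)
def n31674 : Q := act 7 n14891
theorem D31674 : act 7 n14891 = n31674 := rfl
theorem F49956 : act 5 n31674 = n14892 := d13_1 D31674 (iv7 D14892) D14891
def n31675 : Q := act 0 n14893
theorem D31675 : act 0 n14893 = n31675 := rfl
def n31676 : Q := act 1 n14893
theorem D31676 : act 1 n14893 = n31676 := rfl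
def n31677 : Q := act 2 n14893
theorem D31677 : act 2 n14893 = n31677 := rfl
theorem F49957 : act 6 n31677 = n15415 := d3_2 (iv6 F24533) D31677 (iv2 D15415)
def n31678 : Q := act 0 n14894
theorem D31678 : act 0 n14894 = n31678 := rfl
def n31679 : Q := act 1 n14894
theorem D31679 : act 1 n14894 = n31679 := rfl
def n31680 : Q := act 2 n14894
theorem D31680 : act 2 n14894 = n31680 := rfl
def n31681 : Q := act 4 n14894
theorem D31681 : act 4 n14894 = n31681 := rfl
theorem F49958 : act 3 n31681 = n28501 := d5_1 D31681 (iv4 D28501) F22762 F12081 D14894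
def n31682 : Q := act 6 n14894
theorem D31682 : act 6 n14894 = n31682 := rfl
theorem F49959 : act 3 n31682 = n14895 := d7_1 D31682 (iv6 D14895) D14894
theorem F49960 : act 7 n31682 = n15425 := d14_2 (iv7 F27916) D31682 (iv6 D15425) (iv7 F12682) D17033
def n31683 : Q := act 3 n14896
theorem D31683 : act 3 n14896 = n31683 := rfl
def n31684 : Q := act 7 n14896
theorem D31684 : act 7 n14896 = n31684 := rfl
theorem F49961 : act 4 n31684 = n14897 := d11_1 D31684 (iv7 D14897) D14896
theorem F49962 : act 1 n15888 = n31684 := d15_1 F41215 (iv7 D31684) (iv2 F41212)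
theorem F49963 : act 1 n31684 = n15880 := d15_1 F49962 (iv7 F42098) F42096
def n31685 : Q := act 6 n14897
theorem D31685 : act 6 n14897 = n31685 := rfl
theorem F49964 : act 5 n31685 = n14907 := d12_1 D31685 (iv6 D14907) (iv5 D7098) (iv6 F11338) (iv5 F24538)
def n31686 : Q := act 3 n14898
theorem D31686 : act 3 n14898 = n31686 := rfl
theorem F49965 : act 4 n31686 = n14899 := d5_2 D14898 D31686 (iv3 D14899) (iv4 D7092) D7091
theorem F49966 : act 6 n31686 = n15441 := d7_2 (iv6 F24541) D31686 (iv3 D15441)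
def n31687 : Q := act 5 n14898
theorem D31687 : act 5 n14898 = n31687 := rfl
theorem F49967 : act 2 n31687 = n25655 := d2_1 D31687 F40550 F27783
theorem F49968 : act 7 n31687 = n25654 := d13_2 F40257 D31687 F40549
theorem F49969 : act 0 n31687 = n16685 := d17_2 F37341 D31687 (iv5 D16685) F12069 F5544 D7765 D16687 (iv0 F27337) (iv4 F37340)
theorem F49970 : act 1 n31687 = n25657 := d17_6 (iv1 F10544) F8894 F12611 (iv5 F11342) D14898 D31687 F40551 (iv0 F22759) (iv4 D13585)
def n31688 : Q := act 0 n14899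
theorem D31688 : act 0 n14899 = n31688 := rfl
theorem F49971 : act 2 n26718 = n31688 := d15_3 (iv0 D31688) (iv0 F46296) F46295
theorem F49972 : act 6 n31688 = n26715 := d3_2 D26718 F49971 F42823
def n31689 : Q := act 0 n14900
theorem D31689 : act 0 n14900 = n31689 := rfl
def n31690 : Q := act 1 n14900
theorem D31690 : act 1 n14900 = n31690 := rfl
def n31691 : Q := act 2 n14900
theorem D31691 : act 2 n14900 = n31691 := rfl
def n31692 : Q := act 6 n14900
theorem D31692 : act 6 n14900 = n31692 := rfl
theorem F49973 : act 3 n31692 = n14901 := d7_1 D31692 (iv6 D14901) D14900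
theorem F49974 : act 7 n31692 = n15456 := d14_2 F41218 D31692 (iv6 D15456) (iv7 F20799) (iv6 F41217)
def n31695 : Q := act 4 n14902
theorem D31695 : act 4 n14902 = n31695 := rfl
theorem F49976 : act 0 n16613 = n31695 := d20_10 (iv4 D31695) (iv1 F26696) F23098 (iv3 D13829) F10640 D13446 F22377 D14048 F26821 D16613
theorem F49977 : act 3 n29567 = n31695 := d20_5 (iv4 D6393) F8083 (iv4 F10864) D14046 D29567 (iv4 D31695) (iv1 F26696) F23098 (iv3 D13829) F10640
def n31699 : Q := act 3 n14903
theorem D31699 : act 3 n14903 = n31699 := rfl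
def n31700 : Q := act 4 n14903
theorem D31700 : act 4 n14903 = n31700 := rfl
theorem F49979 : act 0 n31700 = n16613 := d20_1 D31700 (iv4 F46757) (iv3 D29104) (iv1 D13854) (iv3 D6589) (iv4 D2946) (iv1 F4534) D6576 D13829 (iv1 F26694)
theorem F49980 : act 0 n24387 = n31699 := d20_4 (iv4 F22375) F42819 (iv4 D24388) D24387 (iv3 D31699) D31700 F49979 (iv4 F46757) (iv3 D29104) (iv1 D13854)
theorem F49981 : act 0 n29575 = n31700 := d20_10 (iv4 D31700) (iv1 D14903) F11385 (iv3 D7097) (iv1 F5202) D5364 F8171 D7724 F26717 D29575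
theorem F49982 : act 3 n16597 = n31700 := d20_5 (iv4 D2208) D2206 (iv4 F5515) D7719 D16597 (iv4 D31700) (iv1 D14903) F11385 (iv3 D7097) (iv1 F5202)
theorem F49983 : act 7 n29575 = n29104 := d15_2 (iv0 F49979) (iv0 F49981) F46756
theorem E5119 : n29100 = n14049 := (c8_3 F49983 (iv3 D29104) F46750 D29575)
theorem E5120 : n29574 = n13853 := (((iv2 F47460)).symm.trans (sb E5119 (iv2 D29100)))
theorem E5121 : n29571 = n13854 := ((F47458).symm.trans (sb E5119 (iv7 F46750)))
theorem F49984 : act 2 n13853 = n14049 := (sb E5120 F47460)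
theorem E5122 : n16616 = n16609 := ((F27105).symm.trans (sb E5120 F47461))
theorem E5123 : n29103 = n14048 := ((D29103).symm.trans (sb E5120 (iv7 D29574)))
theorem E5124 : n16617 = n16612 := (((iv4 F27108)).symm.trans (sb E5121 F47457))
theorem F49985 : act 7 n13854 = n14049 := (sb E5121 (iv7 F47458))
theorem F49986 : act 0 n16609 = n7728 := (sb E5122 (iv1 F27104))
theorem F49987 : act 1 n16609 = n7726 := (sb E5122 (iv0 D16616))
theorem F49988 : act 4 n16609 = n13853 := (sb E5122 (iv4 F27105))
theorem F49989 : act 6 n16609 = n15184 := (sb E5122 F27103)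
theorem F49990 : act 2 n14048 = n13854 := (sb E5123 F46754)
theorem F49991 : act 7 n14048 = n13853 := (sb E5123 (iv7 D29103))
theorem F49992 : act 0 n16612 = n7726 := (sb E5124 (iv1 D16617))
theorem F49993 : act 1 n16612 = n7728 := (sb E5124 F27106)
theorem F49994 : act 3 n16612 = n14048 := (sb E5124 F27107)
theorem F49995 : act 4 n16612 = n13854 := (sb E5124 F27108)
theorem F49996 : act 7 n29101 = n29572 := d13_2 F49991 D29101 (iv5 D29572)
theorem F49997 : act 2 n29105 = n29572 := d2_3 (iv5 D29572) F49990 D29105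
theorem F49998 : act 2 n29106 = n29573 := d3_3 (iv6 D29573) F49990 D29106
theorem F49999 : act 2 n15184 = n16611 := d3_1 F49989 (iv6 D16611) D16609
theorem F50000 : act 2 n29577 = n29102 := d1_3 F46753 F49999 (iv4 F47462)
theorem E5125 : n15181 = n15173 := ((c2_3 D15184 F49999 F27101 F24808)).symm
theorem F50001 : act 2 n15173 = n7204 := (sb E5125 F24808)
theorem F50002 : act 7 n15173 = n7203 := (sb E5125 (iv7 D15181))
theorem F50003 : act 7 n15179 = n16611 := d13_2 F50002 D15179 F27101
theorem E5126 : n15176 = n15172 := (c15_4 (iv0 D15172) D15173 F50002 D15176)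
theorem F50004 : act 2 n15172 = n7203 := (sb E5126 (iv2 D15176))
theorem F50005 : act 7 n15172 = n7204 := (sb E5126 (iv7 F24807))
theorem F50006 : act 7 n29576 = n29105 := d13_2 F49985 D29576 (iv5 D29105)
theorem F50007 : act 2 n29101 = n29576 := d4_3 F50006 F49997 (iv7 F49996)
def n31703 : Q := act 0 n14905
theorem D31703 : act 0 n14905 = n31703 := rfl
theorem F50008 : act 1 n29057 = n31703 := d15_0 (iv0 D31703) (iv7 F27076) (iv2 F46696)
def n31704 : Q := act 1 n14905
theorem D31704 : act 1 n14905 = n31704 := rfl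
theorem F50009 : act 1 n31704 = n29057 := d15_1 D31704 (iv7 F46838) F46836
def n31705 : Q := act 4 n14905
theorem D31705 : act 4 n14905 = n31705 := rfl
def n31706 : Q := act 6 n14905
theorem D31706 : act 6 n14905 = n31706 := rfl
theorem F50010 : act 3 n31706 = n14907 := d7_1 D31706 (iv6 D14907) (iv3 F24547)
def n31707 : Q := act 3 n14906
theorem D31707 : act 3 n14906 = n31707 := rfl
theorem F50011 : act 5 n31707 = n16573 := d6_2 (iv5 F24548) D31707 (iv3 D16573)
theorem F50012 : act 7 n31707 = n29722 := d8_2 (iv7 F24550) D31707 F47767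
def n31708 : Q := act 6 n14906
theorem D31708 : act 6 n14906 = n31708 := rfl
theorem F50013 : act 2 n31708 = n29732 := d3_1 D31708 (iv6 D29732) (iv2 F26683)
theorem F50014 : act 5 n31708 = n15431 := d12_1 D31708 (iv6 D15431) (iv5 F12943) F12941 (iv5 F24548)
def n31709 : Q := act 0 n14907
theorem D31709 : act 0 n14907 = n31709 := rfl
def n31710 : Q := act 1 n14907
theorem D31710 : act 1 n14907 = n31710 := rfl
def n31711 : Q := act 7 n14907
theorem D31711 : act 7 n14907 = n31711 := rfl
def n31712 : Q := act 6 n14917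
theorem D31712 : act 6 n14917 = n31712 := rfl
theorem F50015 : act 3 n31712 = n14918 := d7_1 D31712 (iv6 D14918) (iv3 F24569)
theorem F50016 : act 4 n31712 = n30386 := d10_1 D31712 (iv6 D30386) (iv4 F24571)
theorem F50017 : act 5 n31712 = n31712 := d12_1 D31712 (iv6 D31712) (iv5 D14917) F11415 D14917
def n31713 : Q := act 0 n14918
theorem D31713 : act 0 n14918 = n31713 := rfl
theorem F50018 : act 1 n24897 = n31713 := d15_0 (iv0 D31713) (iv7 F45138) F45136
def n31714 : Q := act 1 n14918
theorem D31714 : act 1 n14918 = n31714 := rfl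
theorem F50019 : act 1 n31714 = n24897 := d15_1 D31714 F39035 (iv2 F24572)
def n31715 : Q := act 6 n14919
theorem D31715 : act 6 n14919 = n31715 := rfl
theorem F50020 : act 3 n31715 = n14921 := d7_1 D31715 (iv6 D14921) D14919
theorem F50021 : act 4 n31715 = n30690 := d10_1 D31715 (iv6 D30690) (iv4 F24576)
theorem F50022 : act 5 n31715 = n29331 := d12_1 D31715 (iv6 D29331) (iv5 F40230) F40231 (iv5 F24574)
def n31716 : Q := act 3 n14920
theorem D31716 : act 3 n14920 = n31716 := rfl
theorem F50023 : act 4 n31716 = n30688 := d5_2 D14920 D31716 (iv3 D30688) (iv4 F24576) (iv3 D14919)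
def n31717 : Q := act 6 n14920
theorem D31717 : act 6 n14920 = n31717 := rfl
theorem F50024 : act 4 n31717 = n14921 := d10_1 D31717 (iv6 D14921) D14920
def n31718 : Q := act 7 n14921
theorem D31718 : act 7 n14921 = n31718 := rfl
theorem F50025 : act 5 n31718 = n29337 := d13_1 D31718 (iv7 D29337) (iv5 F24580)
def n31719 : Q := act 6 n14922
theorem D31719 : act 6 n14922 = n31719 := rfl
theorem F50026 : act 3 n31719 = n14924 := d7_1 D31719 (iv6 D14924) D14922
theorem F50027 : act 4 n31719 = n30305 := d10_1 D31719 (iv6 D30305) F24582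
theorem F50028 : act 5 n31719 = n25466 := d12_1 D31719 (iv6 D25466) (iv5 D12104) D12105 (iv5 F24581)
def n31720 : Q := act 3 n14923
theorem D31720 : act 3 n14923 = n31720 := rfl
theorem F50029 : act 4 n31720 = n30303 := d5_2 D14923 D31720 (iv3 D30303) F24582 (iv3 D14922)
def n31721 : Q := act 6 n14923
theorem D31721 : act 6 n14923 = n31721 := rfl
theorem F50030 : act 4 n31721 = n14924 := d10_1 D31721 (iv6 D14924) D14923
def n31722 : Q := act 0 n14924
theorem D31722 : act 0 n14924 = n31722 := rfl
def n31723 : Q := act 1 n14924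
theorem D31723 : act 1 n14924 = n31723 := rfl
def n31724 : Q := act 7 n14924
theorem D31724 : act 7 n14924 = n31724 := rfl
theorem F50031 : act 5 n31724 = n25471 := d13_1 D31724 (iv7 D25471) (iv5 F24585)
def n31725 : Q := act 3 n14925
theorem D31725 : act 3 n14925 = n31725 := rfl
def n31726 : Q := act 6 n14925
theorem D31726 : act 6 n14925 = n31726 := rfl
theorem F50032 : act 4 n31726 = n25238 := d10_1 D31726 (iv6 D25238) (iv4 F24586)
def n31727 : Q := act 3 n14926
theorem D31727 : act 3 n14926 = n31727 := rfl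
def n31728 : Q := act 6 n14926
theorem D31728 : act 6 n14926 = n31728 := rfl
theorem F50033 : act 4 n31728 = n25239 := d10_1 D31728 (iv6 D25239) (iv4 F24589)
def n31729 : Q := act 0 n14927
theorem D31729 : act 0 n14927 = n31729 := rfl
def n31730 : Q := act 1 n14927
theorem D31730 : act 1 n14927 = n31730 := rfl
theorem F50034 : act 4 n30767 = n31730 := d20_6 (iv4 D6961) (iv1 D3145) D3146 D6965 D14576 D30767 (iv1 D31730) F24590 (iv3 D7116) (iv1 F11224)
def n31731 : Q := act 2 n14927
theorem D31731 : act 2 n14927 = n31731 := rfl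
theorem F50035 : act 4 n31731 = n14938 := d1_2 (iv4 F24590) D31731 (iv2 D14938)
def n31732 : Q := act 6 n14927
theorem D31732 : act 6 n14927 = n31732 := rfl
theorem F50036 : act 3 n31732 = n14928 := d7_1 D31732 (iv6 D14928) D14927
theorem F50037 : act 4 n31732 = n14939 := d10_1 D31732 (iv6 D14939) (iv4 F24590)
def n31733 : Q := act 0 n14928
theorem D31733 : act 0 n14928 = n31733 := rfl
def n31734 : Q := act 1 n14928
theorem D31734 : act 1 n14928 = n31734 := rfl
theorem F50038 : act 4 n25243 = n31734 := d20_6 D14945 F48929 F24318 (iv3 F24304) (iv1 F38528) (iv3 F39784) (iv1 D31734) F24591 F11425 D7118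
def n31735 : Q := act 5 n14928
theorem D31735 : act 5 n14928 = n31735 := rfl
def n31736 : Q := act 7 n14928
theorem D31736 : act 7 n14928 = n31736 := rfl
theorem F50039 : act 4 n31736 = n14932 := d11_1 D31736 (iv7 D14932) (iv4 F24591)
def n31737 : Q := act 3 n14929
theorem D31737 : act 3 n14929 = n31737 := rfl
def n31738 : Q := act 4 n14929
theorem D31738 : act 4 n14929 = n31738 := rfl
def n31739 : Q := act 6 n14929
theorem D31739 : act 6 n14929 = n31739 := rfl
theorem F50040 : act 7 n31739 = n31406 := d14_2 (iv7 F38198) D31739 (iv6 D31406) (iv7 F38194) (iv6 F38195)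
def n31740 : Q := act 3 n14930
theorem D31740 : act 3 n14930 = n31740 := rfl
theorem F50041 : act 6 n31740 = n31407 := d7_2 F24592 D31740 F49672
def n31741 : Q := act 4 n14930
theorem D31741 : act 4 n14930 = n31741 := rfl
theorem F50042 : act 6 n31741 = n31409 := d10_2 F24592 D31741 (iv4 D31409)
def n31742 : Q := act 0 n14931
theorem D31742 : act 0 n14931 = n31742 := rfl
def n31743 : Q := act 1 n14931
theorem D31743 : act 1 n14931 = n31743 := rfl
def n31744 : Q := act 4 n14931
theorem D31744 : act 4 n14931 = n31744 := rfl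
theorem F50043 : act 6 n31744 = n14935 := d10_2 (iv6 F24594) D31744 (iv4 D14935)
def n31745 : Q := act 7 n14931
theorem D31745 : act 7 n14931 = n31745 := rfl
theorem F50044 : act 3 n31745 = n14952 := d8_1 D31745 (iv7 D14952) (iv3 F24593)
theorem F50045 : act 5 n31745 = n14932 := d13_1 D31745 (iv7 D14932) D14931
theorem F50046 : act 6 n31745 = n25280 := d14_1 D31745 F39906 (iv6 D24778) F19078 (iv6 F24594)
theorem E5127 : n27985 = n25280 := (c21_5 F22192 (iv1 F9859) D6333 D13354 D27985 (iv6 F50046) F50045 (iv1 F37964) (iv5 F37967) (iv6 D13359) (iv1 F22195))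
theorem F50047 : act 1 n25280 = n13354 := (sb E5127 (iv0 D27985))
def n31746 : Q := act 3 n14935
theorem D31746 : act 3 n14935 = n31746 := rfl
theorem F50048 : act 4 n31746 = n14953 := d5_2 D14935 D31746 (iv3 D14953) (iv4 D7122) (iv3 F11433)
def n31747 : Q := act 5 n14935
theorem D31747 : act 5 n14935 = n31747 := rfl
theorem F50049 : act 4 n31747 = n25482 := d16_2 D14935 D31747 F40285 (iv4 D13528) (iv5 F10482) (iv4 F18606) (iv5 F22692) F22695 F18602
theorem F50050 : act 0 n31747 = n28104 := d17_2 (iv1 F24604) D31747 (iv5 D28104) F22306 (iv5 F19795) (iv0 D11984) D11985 F19803 D12074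
theorem F50051 : act 1 n31747 = n28107 := d17_6 (iv1 F18221) (iv5 F11432) (iv1 D7113) D7114 D14935 D31747 (iv5 D28107) F37379 F37377
def n31748 : Q := act 2 n14936
theorem D31748 : act 2 n14936 = n31748 := rfl
theorem F50052 : act 7 n14937 = n31748 := d15_2 (iv0 D14936) D14937 (iv2 D31748)
def n31749 : Q := act 3 n14936
theorem D31749 : act 3 n14936 = n31749 := rfl
def n31750 : Q := act 4 n14936
theorem D31750 : act 4 n14936 = n31750 := rfl
def n31751 : Q := act 5 n14936
theorem D31751 : act 5 n14936 = n31751 := rfl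
def n31752 : Q := act 6 n14936
theorem D31752 : act 6 n14936 = n31752 := rfl
def n31753 : Q := act 7 n14936
theorem D31753 : act 7 n14936 = n31753 := rfl
theorem F50053 : act 2 n31753 = n14937 := d4_1 D31753 F50052 (iv2 D31748)
def n31754 : Q := act 3 n14937
theorem D31754 : act 3 n14937 = n31754 := rfl
def n31755 : Q := act 4 n14937
theorem D31755 : act 4 n14937 = n31755 := rfl
def n31756 : Q := act 5 n14937
theorem D31756 : act 5 n14937 = n31756 := rfl
def n31757 : Q := act 6 n14937
theorem D31757 : act 6 n14937 = n31757 := rfl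
def n31758 : Q := act 6 n14938
theorem D31758 : act 6 n14938 = n31758 := rfl
theorem F50054 : act 2 n31758 = n14939 := d3_1 D31758 (iv6 D14939) D14938
def n31759 : Q := act 0 n14939
theorem D31759 : act 0 n14939 = n31759 := rfl
def n31760 : Q := act 1 n14939
theorem D31760 : act 1 n14939 = n31760 := rfl
def n31761 : Q := act 5 n14939
theorem D31761 : act 5 n14939 = n31761 := rfl
theorem F50055 : act 3 n31761 = n14942 := d6_1 D31761 (iv5 D14942) (iv3 F24605)
def n31762 : Q := act 7 n14939
theorem D31762 : act 7 n14939 = n31762 := rfl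
theorem F50056 : act 3 n31762 = n14943 := d8_1 D31762 (iv7 D14943) (iv3 F24605)
def n31763 : Q := act 0 n14942
theorem D31763 : act 0 n14942 = n31763 := rfl
def n31764 : Q := act 1 n14942
theorem D31764 : act 1 n14942 = n31764 := rfl
def n31765 : Q := act 4 n14942
theorem D31765 : act 4 n14942 = n31765 := rfl
def n31766 : Q := act 7 n14942
theorem D31766 : act 7 n14942 = n31766 := rfl
theorem F50057 : act 5 n31766 = n14943 := d13_1 D31766 (iv7 D14943) D14942
def n31767 : Q := act 0 n14944
theorem D31767 : act 0 n14944 = n31767 := rfl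
def n31768 : Q := act 1 n14944
theorem D31768 : act 1 n14944 = n31768 := rfl
def n31769 : Q := act 2 n14944
theorem D31769 : act 2 n14944 = n31769 := rfl
def n31770 : Q := act 4 n14944
theorem D31770 : act 4 n14944 = n31770 := rfl
def n31771 : Q := act 6 n14944
theorem D31771 : act 6 n14944 = n31771 := rfl
theorem F50058 : act 3 n31771 = n14946 := d7_1 D31771 (iv6 D14946) D14944
theorem F50059 : act 5 n31771 = n29416 := d12_1 D31771 F47135 F46451 F45500 F45303
theorem F50060 : act 7 n31771 = n29415 := d14_2 F41278 D31771 F47133 (iv7 F38155) (iv6 F41277)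
theorem E5128 : n31768 = n23804 := ((c21_4 F37086 (iv1 F18103) D11158 D23804 (iv1 D31768) D31771 F50059 (iv1 F47136) F46493 (iv6 D23807) (iv1 F37092))).symm
theorem F50061 : act 0 n23804 = n14944 := (sb E5128 (iv1 D31768))
def n31772 : Q := act 3 n14945
theorem D31772 : act 3 n14945 = n31772 := rfl
theorem F50062 : act 7 n31772 = n30917 := d8_2 F47796 D31772 (iv3 D30917)
def n31773 : Q := act 5 n14945
theorem D31773 : act 5 n14945 = n31773 := rfl
theorem F50063 : act 2 n31773 = n30915 := d2_1 D31773 (iv5 D30915) F47797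
theorem F50064 : act 7 n31773 = n30918 := d13_2 F47796 D31773 (iv5 D30918)
def n31774 : Q := act 6 n14945
theorem D31774 : act 6 n14945 = n31774 := rfl
theorem F50065 : act 2 n31774 = n30916 := d3_1 D31774 (iv6 D30916) F47797
theorem F50066 : act 4 n31774 = n14946 := d10_1 D31774 (iv6 D14946) D14945
theorem F50067 : act 7 n31774 = n29430 := d14_2 F47796 D31774 F47171 (iv7 F26115) (iv6 F47795)
def n31775 : Q := act 4 n14947
theorem D31775 : act 4 n14947 = n31775 := rfl
theorem F50068 : act 6 n31775 = n31513 := d10_2 (iv6 F24610) D31775 (iv4 D31513)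
def n31776 : Q := act 3 n14948
theorem D31776 : act 3 n14948 = n31776 := rfl
theorem F50069 : act 6 n31776 = n30528 := d7_2 (iv6 F24611) D31776 (iv3 D30528)
theorem F50070 : act 7 n31776 = n30914 := d8_2 F47799 D31776 (iv3 D30914)
def n31777 : Q := act 5 n14948
theorem D31777 : act 5 n14948 = n31777 := rfl
theorem F50071 : act 2 n31777 = n30918 := d2_1 D31777 (iv5 D30918) F47793
theorem F50072 : act 7 n31777 = n30915 := d13_2 F47799 D31777 (iv5 D30915)
def n31778 : Q := act 2 n14949
theorem D31778 : act 2 n14949 = n31778 := rfl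
theorem F50073 : act 7 n14950 = n31778 := d15_2 (iv0 D14949) D14950 (iv2 D31778)
def n31779 : Q := act 3 n14949
theorem D31779 : act 3 n14949 = n31779 := rfl
def n31780 : Q := act 4 n14949
theorem D31780 : act 4 n14949 = n31780 := rfl
theorem F50074 : act 0 n31780 = n30937 := d18_2 D14949 D31780 F49370 F24325 (iv4 F24318) (iv0 F48929) (iv4 D14945) (iv0 D7118) D7120
def n31781 : Q := act 5 n14949
theorem D31781 : act 5 n14949 = n31781 := rfl
theorem F50075 : act 6 n31781 = n24373 := d12_2 F45350 D31781 (iv5 F45367) (iv6 D28083) D28082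
theorem F50076 : act 0 n31781 = n28037 := d21_1 D31781 (iv5 D28037) F23033 (iv1 D13432) (iv6 D6380) (iv5 F5098) F7597 D3273 (iv6 F11441) D14949
theorem F50077 : act 0 n28041 = n31781 := d21_1 D28041 (iv5 D31781) (iv6 F45350) F45349 (iv6 D25232) (iv5 F23001) (iv1 F23308) F23303 (iv6 F22330) (iv1 F22332)
def n31782 : Q := act 7 n14949
theorem D31782 : act 7 n14949 = n31782 := rfl
theorem F50078 : act 2 n31782 = n14950 := d4_1 D31782 F50073 (iv2 D31778)
def n31783 : Q := act 3 n14950
theorem D31783 : act 3 n14950 = n31783 := rfl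
def n31784 : Q := act 4 n14950
theorem D31784 : act 4 n14950 = n31784 := rfl
theorem F50079 : act 6 n31784 = n30934 := d10_2 (iv6 F45833) D31784 F49367
theorem F50080 : act 0 n31784 = n25061 := d18_2 (iv1 F38783) D31784 F39339 F19608 (iv4 F20401) (iv0 F48927) (iv4 D14948) F20556 (iv5 F38780)
theorem F50081 : act 1 n31784 = n30937 := d15_1 (iv0 F50080) (iv7 D30937) (iv2 F39338)
def n31785 : Q := act 0 n14951
theorem D31785 : act 0 n14951 = n31785 := rfl
def n31786 : Q := act 3 n14951
theorem D31786 : act 3 n14951 = n31786 := rfl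
theorem F50082 : act 6 n31786 = n14953 := d7_2 (iv6 F24612) D31786 (iv3 D14953)
def n31787 : Q := act 5 n14951
theorem D31787 : act 5 n14951 = n31787 := rfl
theorem F50083 : act 1 n31787 = n25124 := d17_6 (iv1 D13426) (iv5 F11440) (iv1 D7119) D7120 D14951 D31787 (iv5 D25124) D25123 F47642
def n31788 : Q := act 7 n14951
theorem D31788 : act 7 n14951 = n31788 := rfl
theorem F50084 : act 4 n31788 = n14952 := d11_1 D31788 (iv7 D14952) D14951
theorem F50085 : act 6 n31788 = n24635 := d14_1 D31788 F38857 (iv6 D24780) F19083 (iv6 F24612)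
def n31789 : Q := act 0 n14953
theorem D31789 : act 0 n14953 = n31789 := rfl
def n31790 : Q := act 1 n14953
theorem D31790 : act 1 n14953 = n31790 := rfl
def n31791 : Q := act 2 n14953
theorem D31791 : act 2 n14953 = n31791 := rfl
def n31792 : Q := act 1 n14960
theorem D31792 : act 1 n14960 = n31792 := rfl
def n31793 : Q := act 2 n14960
theorem D31793 : act 2 n14960 = n31793 := rfl
theorem F50086 : act 4 n31793 = n28390 := d1_2 F27115 D31793 F45906
theorem F50087 : act 6 n31793 = n24385 := d3_2 (iv6 F26632) D31793 (iv2 F38236)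
theorem F50088 : act 7 n31793 = n15288 := d4_2 (iv7 F26633) D31793 F24875
theorem F50089 : act 1 n31793 = n15293 := d15_0 (iv0 D15293) (iv7 F26633) D31793
theorem F50090 : act 1 n31792 = n15288 := d15_1 D31792 (iv7 F50088) (iv2 D31793)
theorem F50091 : act 1 n15294 = n31793 := d15_1 D15294 F50088 F24875
def n31794 : Q := act 5 n14960
theorem D31794 : act 5 n14960 = n31794 := rfl
theorem F50092 : act 3 n31794 = n14962 := d6_1 D31794 (iv5 D14962) D14960
theorem F50093 : act 7 n31794 = n15295 := d13_2 (iv7 F26633) D31794 (iv5 D15295)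
theorem F50094 : act 0 n31794 = n28421 := d21_7 D28396 (iv1 F45931) D28457 (iv6 F45984) (iv1 F38245) (iv6 F26632) D31794 (iv5 D28421) (iv6 D13558) D13553
def n31795 : Q := act 4 n14962
theorem D31795 : act 4 n14962 = n31795 := rfl
theorem F50095 : act 7 n31795 = n15302 := d11_2 (iv7 F26638) D31795 (iv4 D15302)
theorem F50096 : act 5 n31795 = n16974 := d16_1 D31795 (iv4 D16974) (iv5 D7926) F5625 F2759 (iv4 F5625) D7926 (iv7 F24641) (iv2 F26637)
theorem F50097 : act 0 n31795 = n15093 := d18_2 (iv1 F26636) D31795 (iv4 D15093) (iv5 D7177) F5299 D6449 (iv4 F26562) F26560 (iv5 F24643)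
def n31796 : Q := act 6 n14962
theorem D31796 : act 6 n14962 = n31796 := rfl
theorem F50098 : act 5 n31796 = n24411 := d12_1 D31796 (iv6 D24411) F18824 F26639 D14962
def n31797 : Q := act 4 n14964
theorem D31797 : act 4 n14964 = n31797 := rfl
theorem F50099 : act 2 n31797 = n14968 := d1_1 D31797 (iv4 D14968) (iv2 F24617)
theorem F50100 : act 5 n31797 = n15043 := d9_2 D14964 D31797 (iv4 D15043) (iv5 D7156) F26428 F9124 (iv4 F26527) D12350 D26055 F41200 (iv4 D15010) (iv5 D7140) F5225 D3292 (iv4 F26605)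
def n31798 : Q := act 6 n14964
theorem D31798 : act 6 n14964 = n31798 := rfl
theorem F50101 : act 2 n31798 = n14969 := d3_1 D31798 (iv6 D14969) (iv2 F24617)
theorem F50102 : act 5 n31798 = n29058 := d12_1 D31798 (iv6 D29058) (iv5 D13830) (iv6 F26606) D14964
def n31799 : Q := act 3 n14966
theorem D31799 : act 3 n14966 = n31799 := rfl
theorem F50103 : act 5 n31799 = n15007 := d6_2 (iv5 F26681) D31799 (iv3 D15007)
def n31800 : Q := act 4 n14966
theorem D31800 : act 4 n14966 = n31800 := rfl
def n31801 : Q := act 6 n14966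
theorem D31801 : act 6 n14966 = n31801 := rfl
theorem F50104 : act 5 n31801 = n15563 := d12_1 D31801 (iv6 D15563) (iv5 F25794) (iv6 F26423) (iv5 F26681)
def n31802 : Q := act 3 n14967
theorem D31802 : act 3 n14967 = n31802 := rfl
theorem F50105 : act 5 n31802 = n15005 := d6_2 (iv5 F26893) D31802 (iv3 D15005)
def n31803 : Q := act 4 n14967
theorem D31803 : act 4 n14967 = n31803 := rfl
def n31804 : Q := act 6 n14967
theorem D31804 : act 6 n14967 = n31804 := rfl
theorem F50106 : act 5 n31804 = n15861 := d12_1 D31804 (iv6 D15861) (iv5 D7437) (iv6 F20527) (iv5 F26893)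
def n31805 : Q := act 0 n14968
theorem D31805 : act 0 n14968 = n31805 := rfl
theorem F50107 : act 4 n31805 = n15018 := d18_3 (iv1 D14967) D14968 D31805 (iv5 D15018) (iv4 D7146) F9126 (iv4 F26428) (iv0 F26526) (iv5 F26893)
def n31806 : Q := act 1 n14968
theorem D31806 : act 1 n14968 = n31806 := rfl
theorem F50108 : act 4 n31806 = n15016 := d18_7 (iv1 F12057) F11555 (iv1 F5530) (iv4 F26570) D7126 D14968 D31806 (iv0 F27301) (iv5 D16678)
def n31807 : Q := act 5 n14968
theorem D31807 : act 5 n14968 = n31807 := rfl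
theorem F50109 : act 2 n31807 = n15043 := d2_1 D31807 (iv5 F50100) F50099
theorem F50110 : act 7 n31807 = n15010 := d13_2 F41199 D31807 (iv5 F41200)
theorem F50111 : act 4 n31807 = n15011 := d16_2 D14968 D31807 F24643 F11458 F5538 D7760 D16683 F27322 F24617
theorem F50112 : act 0 n16682 = n31807 := d18_2 F20662 D16682 F50111 F24643 F11458 (iv0 F9119) D12388 (iv0 F20621) D12405
def n31808 : Q := act 6 n14968
theorem D31808 : act 6 n14968 = n31808 := rfl
theorem F50113 : act 4 n31808 = n14969 := d10_1 D31808 (iv6 D14969) D14968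
def n31809 : Q := act 0 n14969
theorem D31809 : act 0 n14969 = n31809 := rfl
def n31810 : Q := act 1 n14969
theorem D31810 : act 1 n14969 = n31810 := rfl
theorem F50114 : act 5 n29295 = n31810 := d21_6 (iv5 D6604) (iv1 D2955) D2957 D6614 D13919 D29295 (iv1 D31810) (iv5 F46835) (iv6 D29177) (iv1 F23150)
def n31811 : Q := act 7 n14969
theorem D31811 : act 7 n14969 = n31811 := rfl
theorem F50115 : act 3 n31811 = n14976 := d8_1 D31811 (iv7 D14976) (iv3 F24619)
def n31812 : Q := act 2 n14973
theorem D31812 : act 2 n14973 = n31812 := rfl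
theorem F50116 : act 7 n14974 = n31812 := d15_2 (iv0 D14973) D14974 (iv2 D31812)
def n31813 : Q := act 3 n14973
theorem D31813 : act 3 n14973 = n31813 := rfl
def n31814 : Q := act 4 n14973
theorem D31814 : act 4 n14973 = n31814 := rfl
def n31815 : Q := act 5 n14973
theorem D31815 : act 5 n14973 = n31815 := rfl
def n31816 : Q := act 6 n14973
theorem D31816 : act 6 n14973 = n31816 := rfl
def n31817 : Q := act 7 n14973
theorem D31817 : act 7 n14973 = n31817 := rfl
theorem F50117 : act 2 n31817 = n14974 := d4_1 D31817 F50116 (iv2 D31812)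
def n31818 : Q := act 3 n14974
theorem D31818 : act 3 n14974 = n31818 := rfl
def n31819 : Q := act 4 n14974
theorem D31819 : act 4 n14974 = n31819 := rfl
def n31820 : Q := act 5 n14974
theorem D31820 : act 5 n14974 = n31820 := rfl
def n31821 : Q := act 6 n14974
theorem D31821 : act 6 n14974 = n31821 := rfl
def n31822 : Q := act 0 n14975
theorem D31822 : act 0 n14975 = n31822 := rfl
def n31823 : Q := act 1 n14975
theorem D31823 : act 1 n14975 = n31823 := rfl
def n31824 : Q := act 7 n14975
theorem D31824 : act 7 n14975 = n31824 := rfl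
theorem F50118 : act 5 n31824 = n14976 := d13_1 D31824 (iv7 D14976) D14975
def n31825 : Q := act 0 n14978
theorem D31825 : act 0 n14978 = n31825 := rfl
def n31826 : Q := act 2 n14978
theorem D31826 : act 2 n14978 = n31826 := rfl
theorem F50119 : act 4 n31826 = n25477 := d1_2 (iv4 F24723) D31826 (iv2 F41366)
def n31827 : Q := act 5 n14978
theorem D31827 : act 5 n14978 = n31827 := rfl
theorem F50120 : act 3 n31827 = n14980 := d6_1 D31827 (iv5 D14980) D14978
def n31828 : Q := act 5 n14979
theorem D31828 : act 5 n14979 = n31828 := rfl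
def n31829 : Q := act 0 n14980
theorem D31829 : act 0 n14980 = n31829 := rfl
theorem F50121 : act 1 n14985 = n31829 := d15_0 (iv0 D31829) (iv7 F41374) F41373
theorem F50122 : act 5 n15346 = n31829 := d21_0 (iv1 F50121) (iv5 D14985) (iv6 F41353) (iv1 D3382) (iv6 F4648) D6609 D13908 (iv5 F38259) (iv6 F41903) (iv1 F41905)
theorem F50123 : act 6 n26296 = n15346 := d21_5 D3384 D7375 (iv5 F27212) D12498 D26296 F50122 (iv1 F50121) (iv5 D14985) (iv6 F41353) (iv1 D3382)
def n31833 : Q := act 4 n14983
theorem D31833 : act 4 n14983 = n31833 := rfl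
theorem F50126 : act 2 n31833 = n26185 := d1_1 D31833 (iv4 F46078) F46077
theorem F50127 : act 3 n31833 = n26152 := d5_1 D31833 (iv4 D26152) F24624 (iv4 D14984) D14983
theorem F50128 : act 6 n31833 = n15666 := d10_2 (iv6 F41349) D31833 (iv4 D15666)
theorem F50129 : act 7 n31833 = n26184 := d11_2 F41375 D31833 F41561
theorem F50130 : act 0 n31833 = n25481 := d20_1 D31833 F40283 F20659 F20621 (iv3 F26807) (iv4 F26587) F45974 (iv4 D28442) (iv3 F40344) F45975
theorem F50131 : act 0 n26188 = n31833 := d20_1 (iv4 F41566) (iv4 D31833) (iv3 D14983) (iv1 D7131) (iv3 D3284) (iv4 D1456) (iv1 F2122) (iv4 F3944) (iv3 F9157) (iv1 F26927)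
def n31834 : Q := act 5 n14983
theorem D31834 : act 5 n14983 = n31834 := rfl
theorem F50132 : act 3 n31834 = n14985 := d6_1 D31834 (iv5 D14985) D14983
def n31835 : Q := act 5 n14984
theorem D31835 : act 5 n14984 = n31835 := rfl
theorem F50133 : act 3 n31835 = n26153 := d6_1 D31835 (iv5 D26153) F24624
def n31837 : Q := act 6 n14985
theorem D31837 : act 6 n14985 = n31837 := rfl
theorem F50134 : act 5 n31837 = n15376 := d12_1 D31837 (iv6 D15376) F24947 F41353 D14985
def n31838 : Q := act 4 n14987
theorem D31838 : act 4 n14987 = n31838 := rfl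
theorem F50135 : act 2 n31838 = n14991 := d1_1 D31838 (iv4 D14991) (iv2 F24625)
def n31839 : Q := act 6 n14987
theorem D31839 : act 6 n14987 = n31839 := rfl
theorem F50136 : act 2 n31839 = n14992 := d3_1 D31839 (iv6 D14992) (iv2 F24625)
theorem F50137 : act 3 n31839 = n15003 := d7_1 D31839 F24639 (iv3 F26628)
theorem F50138 : act 5 n31839 = n14992 := d12_1 D31839 (iv6 D14992) (iv5 D7133) F26627 D14987
def n31840 : Q := act 3 n14989
theorem D31840 : act 3 n14989 = n31840 := rfl
theorem F50139 : act 5 n31840 = n26301 := d6_2 (iv5 F41345) D31840 F41898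
def n31841 : Q := act 4 n14989
theorem D31841 : act 4 n14989 = n31841 := rfl
def n31842 : Q := act 6 n14989
theorem D31842 : act 6 n14989 = n31842 := rfl
theorem F50140 : act 5 n31842 = n15685 := d12_1 D31842 (iv6 D15685) F27225 D12502 (iv5 F41345)
def n31843 : Q := act 3 n14990
theorem D31843 : act 3 n14990 = n31843 := rfl
def n31844 : Q := act 4 n14990
theorem D31844 : act 4 n14990 = n31844 := rfl
def n31845 : Q := act 6 n14990
theorem D31845 : act 6 n14990 = n31845 := rfl
def n31846 : Q := act 0 n14991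
theorem D31846 : act 0 n14991 = n31846 := rfl
def n31847 : Q := act 1 n14991
theorem D31847 : act 1 n14991 = n31847 := rfl
def n31848 : Q := act 5 n14991
theorem D31848 : act 5 n14991 = n31848 := rfl
def n31849 : Q := act 6 n14991
theorem D31849 : act 6 n14991 = n31849 := rfl
theorem F50141 : act 4 n31849 = n14992 := d10_1 D31849 (iv6 D14992) D14991
def n31850 : Q := act 0 n14992
theorem D31850 : act 0 n14992 = n31850 := rfl
def n31851 : Q := act 1 n14992
theorem D31851 : act 1 n14992 = n31851 := rfl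
def n31852 : Q := act 7 n14992
theorem D31852 : act 7 n14992 = n31852 := rfl
theorem F50142 : act 3 n31852 = n15004 := d8_1 D31852 (iv7 D15004) (iv3 F24628)
def n31853 : Q := act 0 n14997
theorem D31853 : act 0 n14997 = n31853 := rfl
theorem F50143 : act 1 n31555 = n31853 := d15_0 (iv0 D31853) F24633 (iv2 F49889)
def n31854 : Q := act 1 n14997
theorem D31854 : act 1 n14997 = n31854 := rfl
def n31855 : Q := act 2 n14997
theorem D31855 : act 2 n14997 = n31855 := rfl
theorem F50144 : act 3 n31855 = n31572 := d0_2 D14997 D31855 F49898 F24521 F11452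
theorem F50145 : act 5 n31855 = n26052 := d2_2 (iv5 F24632) D31855 (iv2 D26052)
theorem F50146 : act 7 n31855 = n31555 := d4_2 (iv7 F24633) D31855 F49889
theorem F50147 : act 1 n31855 = n31556 := d15_0 (iv0 D31556) (iv7 F24633) D31855
theorem F50148 : act 1 n31854 = n31555 := d15_1 D31854 (iv7 F50146) (iv2 D31855)
theorem F50149 : act 5 n28412 = n31556 := d21_6 F25994 (iv1 F42921) F41701 (iv6 F41304) F41306 D28412 (iv1 F50147) F50145 F41186 F27737
theorem E5129 : n31792 = n31552 := ((c17_10 (iv1 D31792) D31794 F50094 (iv5 D28421) (iv4 F45955) F50149 (iv0 D31556) (iv5 D14861) D14859 D31552)).symm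
theorem F50150 : act 0 n31552 = n14960 := (sb E5129 (iv1 D31792))
theorem F50151 : act 1 n31552 = n15288 := (sb E5129 F50090)
theorem E5130 : n31551 = n16970 := ((c20_5 (iv4 F12039) (iv1 D3589) (iv4 F5625) (iv3 F12542) D16970 (iv3 D31551) D31552 F50150 (iv4 F27115) F27114 (iv1 F12038))).symm
theorem F50152 : act 3 n16970 = n14859 := (sb E5130 (iv3 D31551))
theorem F50153 : act 1 n31557 = n31855 := d15_1 D31557 F50146 F49889
def n31856 : Q := act 4 n14997
theorem D31856 : act 4 n14997 = n31856 := rfl
theorem F50154 : act 7 n31856 = n31558 := d11_2 (iv7 F24633) D31856 (iv4 D31558)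
def n31857 : Q := act 6 n14997
theorem D31857 : act 6 n14997 = n31857 := rfl
theorem F50155 : act 3 n31857 = n14998 := d7_1 D31857 (iv6 D14998) D14997
def n31858 : Q := act 0 n14998
theorem D31858 : act 0 n14998 = n31858 := rfl
def n31859 : Q := act 1 n14998
theorem D31859 : act 1 n14998 = n31859 := rfl
theorem F50156 : act 1 n31859 = n31582 := d15_1 D31859 (iv7 D31582) (iv2 F24634)
def n31860 : Q := act 7 n14998
theorem D31860 : act 7 n14998 = n31860 := rfl
theorem F50157 : act 2 n31860 = n31582 := d4_1 D31860 (iv7 D31582) (iv2 F24634)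
theorem F50158 : act 6 n31860 = n31562 := d14_1 D31860 (iv7 D31562) (iv6 D14862) F11453 D14998
theorem F50159 : act 1 n31582 = n31858 := d15_0 (iv0 D31858) D31860 F50157
theorem F50160 : act 1 n31581 = n31860 := d15_1 D31581 (iv7 D31860) F24634
theorem F50161 : act 1 n31860 = n31580 := d15_0 (iv0 D31580) D31582 (iv2 F50157)
def n31861 : Q := act 0 n14999
theorem D31861 : act 0 n14999 = n31861 := rfl
theorem F50162 : act 1 n31572 = n31861 := d15_0 (iv0 D31861) F24636 (iv2 F49898)
def n31862 : Q := act 1 n14999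
theorem D31862 : act 1 n14999 = n31862 := rfl
def n31863 : Q := act 2 n14999
theorem D31863 : act 2 n14999 = n31863 := rfl
theorem F50163 : act 3 n31863 = n31555 := d0_2 D14999 D31863 F49889 F24518 F11457
theorem F50164 : act 5 n31863 = n25289 := d2_2 (iv5 F24635) D31863 (iv2 D25289)
theorem F50165 : act 7 n31863 = n31572 := d4_2 (iv7 F24636) D31863 F49898
theorem F50166 : act 1 n31863 = n31576 := d15_0 (iv0 D31576) (iv7 F24636) D31863
theorem F50167 : act 1 n31862 = n31572 := d15_1 D31862 (iv7 F50165) (iv2 D31863)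
theorem F50168 : act 1 n31577 = n31863 := d15_1 D31577 F50165 F49898
def n31864 : Q := act 4 n14999
theorem D31864 : act 4 n14999 = n31864 := rfl
theorem F50169 : act 7 n31864 = n31578 := d11_2 (iv7 F24636) D31864 (iv4 D31578)
def n31865 : Q := act 6 n14999
theorem D31865 : act 6 n14999 = n31865 := rfl
theorem F50170 : act 3 n31865 = n15000 := d7_1 D31865 (iv6 D15000) D14999
theorem F50171 : act 5 n31865 = n29742 := d12_1 D31865 (iv6 D29742) F23614 F22374 (iv5 F24635)
def n31866 : Q := act 1 n15000
theorem D31866 : act 1 n15000 = n31866 := rfl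
theorem F50172 : act 1 n31866 = n31562 := d15_1 D31866 (iv7 D31562) (iv2 F24637)
theorem F50173 : act 7 n31866 = n31560 := d15_2 (iv0 F46239) D31866 (iv2 F49893)
theorem F50174 : act 2 n31561 = n31866 := d4_3 F50173 (iv2 F49893) (iv7 F49894)
theorem F50175 : act 1 n31562 = n28692 := d15_1 F50172 (iv7 F49894) F50174
def n31867 : Q := act 7 n15000
theorem D31867 : act 7 n15000 = n31867 := rfl
theorem F50176 : act 2 n31867 = n31562 := d4_1 D31867 (iv7 D31562) (iv2 F24637)
theorem F50177 : act 5 n31867 = n29745 := d13_1 D31867 (iv7 D29745) (iv5 F24638)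
theorem F50178 : act 6 n31867 = n31582 := d14_1 D31867 (iv7 D31582) (iv6 D14868) (iv7 F11455) D15000
theorem F50179 : act 1 n31561 = n31867 := d15_1 D31561 (iv7 D31867) F24637
theorem F50180 : act 1 n31867 = n31560 := d15_1 F50179 (iv7 F50173) (iv2 F50174)
def n31868 : Q := act 2 n15001
theorem D31868 : act 2 n15001 = n31868 := rfl
theorem F50181 : act 7 n15002 = n31868 := d15_2 (iv0 D15001) D15002 (iv2 D31868)
def n31869 : Q := act 3 n15001
theorem D31869 : act 3 n15001 = n31869 := rfl
def n31870 : Q := act 4 n15001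
theorem D31870 : act 4 n15001 = n31870 := rfl
def n31871 : Q := act 5 n15001
theorem D31871 : act 5 n15001 = n31871 := rfl
def n31872 : Q := act 6 n15001
theorem D31872 : act 6 n15001 = n31872 := rfl
theorem F50182 : act 5 n31872 = n31823 := d21_6 (iv5 D5119) F5189 D3285 D7137 D15001 D31872 (iv1 D31823) (iv5 D14975) (iv6 D7128) (iv1 F7635)
def n31873 : Q := act 7 n15001
theorem D31873 : act 7 n15001 = n31873 := rfl
theorem F50183 : act 2 n31873 = n15002 := d4_1 D31873 F50181 (iv2 D31868)
def n31874 : Q := act 3 n15002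
theorem D31874 : act 3 n15002 = n31874 := rfl
def n31875 : Q := act 4 n15002
theorem D31875 : act 4 n15002 = n31875 := rfl
def n31876 : Q := act 5 n15002
theorem D31876 : act 5 n15002 = n31876 := rfl
def n31877 : Q := act 6 n15002
theorem D31877 : act 6 n15002 = n31877 := rfl
def n31878 : Q := act 0 n15003
theorem D31878 : act 0 n15003 = n31878 := rfl
def n31879 : Q := act 1 n15003
theorem D31879 : act 1 n15003 = n31879 := rfl
def n31880 : Q := act 4 n15003
theorem D31880 : act 4 n15003 = n31880 := rfl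
theorem F50184 : act 6 n31880 = n15010 := d10_2 (iv6 F24639) D31880 (iv4 D15010)
def n31881 : Q := act 7 n15003
theorem D31881 : act 7 n15003 = n31881 := rfl
theorem F50185 : act 5 n31881 = n15004 := d13_1 D31881 (iv7 D15004) D15003
def n31882 : Q := act 1 n15005
theorem D31882 : act 1 n15005 = n31882 := rfl
def n31883 : Q := act 0 n15007
theorem D31883 : act 0 n15007 = n31883 := rfl
def n31884 : Q := act 1 n15007
theorem D31884 : act 1 n15007 = n31884 := rfl
def n31885 : Q := act 3 n15009
theorem D31885 : act 3 n15009 = n31885 := rfl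
theorem F50186 : act 5 n31885 = n16973 := d6_2 (iv5 F24642) D31885 F27827
theorem F50187 : act 7 n31885 = n16972 := d8_2 (iv7 F24641) D31885 F27826
def n31886 : Q := act 4 n15009
theorem D31886 : act 4 n15009 = n31886 := rfl
theorem F50188 : act 2 n31886 = n31795 := d1_1 D31886 (iv4 D31795) F26637
theorem F50189 : act 7 n31886 = n16974 := d11_2 (iv7 F24641) D31886 (iv4 D16974)
theorem F50190 : act 5 n31886 = n15302 := d16_1 D31886 (iv4 D15302) (iv5 D7244) F5323 F4078 (iv4 F5323) D7244 (iv7 F26638) F26637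
theorem F50191 : act 0 n31886 = n26151 := d18_2 (iv1 F26588) D31886 (iv4 D26151) (iv5 D12405) F9148 (iv0 F12699) F12696 F26525 D7156
def n31887 : Q := act 6 n15009
theorem D31887 : act 6 n15009 = n31887 := rfl
theorem F50192 : act 2 n31887 = n31796 := d3_1 D31887 (iv6 D31796) F26637
theorem F50193 : act 5 n31887 = n24322 := d12_1 D31887 (iv6 D24322) F18715 (iv6 F12547) (iv5 F24642)
def n31888 : Q := act 1 n15010
theorem D31888 : act 1 n15010 = n31888 := rfl
theorem F50194 : act 1 n31888 = n15043 := d15_1 D31888 (iv7 F41308) F41307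
theorem F50195 : act 7 n31888 = n16682 := d15_2 F24863 D31888 F27319
theorem F50196 : act 5 n31888 = n15272 := d17_7 F11561 (iv5 D7244) F26591 D12350 D26055 F41200 D31888 F24863 (iv4 D15010)
theorem F50197 : act 4 n31888 = n15092 := d18_7 (iv1 F20666) (iv4 D7146) (iv1 D3291) (iv4 F5225) D7140 D15010 D31888 F24862 F24859
def n31889 : Q := act 3 n15010
theorem D31889 : act 3 n15010 = n31889 := rfl
def n31890 : Q := act 6 n15011
theorem D31890 : act 6 n15011 = n31890 := rfl
theorem F50198 : act 2 n31890 = n15044 := d3_1 D31890 (iv6 D15044) (iv2 F26586)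
def n31891 : Q := act 5 n15014
theorem D31891 : act 5 n15014 = n31891 := rfl
def n31892 : Q := act 6 n15016
theorem D31892 : act 6 n15016 = n31892 := rfl
theorem F50199 : act 5 n31892 = n15889 := d12_1 D31892 (iv6 D15889) (iv5 D7454) (iv6 F11461) D15016
def n31893 : Q := act 5 n15017
theorem D31893 : act 5 n15017 = n31893 := rfl
theorem F50200 : act 3 n31893 = n15018 := d6_1 D31893 (iv5 D15018) D15017
def n31894 : Q := act 6 n15018
theorem D31894 : act 6 n15018 = n31894 := rfl
theorem F50201 : act 5 n31894 = n17417 := d12_1 D31894 (iv6 D17417) (iv5 F20806) F20804 D15018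
def n31895 : Q := act 6 n15043
theorem D31895 : act 6 n15043 = n31895 := rfl
theorem F50202 : act 4 n31895 = n15044 := d10_1 D31895 (iv6 D15044) D15043
def n31896 : Q := act 0 n15044
theorem D31896 : act 0 n15044 = n31896 := rfl
def n31897 : Q := act 1 n15044
theorem D31897 : act 1 n15044 = n31897 := rfl
def n31898 : Q := act 5 n15044
theorem D31898 : act 5 n15044 = n31898 := rfl
theorem F50203 : act 3 n31898 = n15051 := d6_1 D31898 (iv5 D15051) (iv3 F24679)
theorem F50204 : act 6 n31898 = n15047 := d12_2 D15044 D31898 (iv5 D15047) (iv6 D7157) D7156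
def n31899 : Q := act 7 n15044
theorem D31899 : act 7 n15044 = n31899 := rfl
theorem F50205 : act 3 n31899 = n15052 := d8_1 D31899 (iv7 D15052) (iv3 F24679)
def n31900 : Q := act 4 n15047
theorem D31900 : act 4 n15047 = n31900 := rfl
theorem F50206 : act 2 n31900 = n21579 := d1_1 D31900 F33975 (iv2 F26553)
theorem F50207 : act 5 n31900 = n21578 := d9_2 D15047 D31900 F33970 (iv5 D12540) F26380 F5489 (iv4 F9133) D12396 F26906 (iv5 D15814) (iv4 D7420) (iv5 D3397) (iv4 F5388) (iv5 F26312) (iv4 F26450)
theorem F50208 : act 7 n31900 = n15054 := d11_2 (iv7 F26554) D31900 (iv4 D15054)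
theorem F50209 : act 0 n31900 = n26285 := d17_0 F41846 (iv1 D15570) (iv5 F26497) F24986 F11590 (iv0 F10685) D7958 (iv0 F26551) D31900
theorem F50210 : act 1 n31900 = n26290 := d18_6 (iv1 F20649) (iv4 D12398) (iv1 F9138) (iv4 F26450) D15047 D31900 (iv4 D26290) F20812 (iv5 D12414)
def n31901 : Q := act 2 n15049
theorem D31901 : act 2 n15049 = n31901 := rfl
theorem F50211 : act 7 n15050 = n31901 := d15_2 (iv0 D15049) D15050 (iv2 D31901)
def n31902 : Q := act 3 n15049
theorem D31902 : act 3 n15049 = n31902 := rfl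
def n31903 : Q := act 4 n15049
theorem D31903 : act 4 n15049 = n31903 := rfl
def n31904 : Q := act 5 n15049
theorem D31904 : act 5 n15049 = n31904 := rfl
def n31905 : Q := act 6 n15049
theorem D31905 : act 6 n15049 = n31905 := rfl
theorem F50212 : act 5 n31905 = n31672 := d21_6 F10530 (iv1 F5181) D3300 D7158 D15049 D31905 (iv1 D31672) (iv5 D14891) (iv6 D7085) (iv1 F10532)
def n31906 : Q := act 7 n15049
theorem D31906 : act 7 n15049 = n31906 := rfl
theorem F50213 : act 2 n31906 = n15050 := d4_1 D31906 F50211 (iv2 D31901)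
def n31907 : Q := act 3 n15050
theorem D31907 : act 3 n15050 = n31907 := rfl
def n31908 : Q := act 4 n15050
theorem D31908 : act 4 n15050 = n31908 := rfl
def n31909 : Q := act 5 n15050
theorem D31909 : act 5 n15050 = n31909 := rfl
theorem F50214 : act 6 n15409 = n31909 := d21_5 (iv5 D7281) (iv1 D3343) D3344 (iv6 F11578) D15409 (iv5 D31909) (iv1 D15050) D15051 F24682 (iv1 F12705)
def n31910 : Q := act 6 n15050
theorem D31910 : act 6 n15050 = n31910 := rfl
def n31911 : Q := act 0 n15051
theorem D31911 : act 0 n15051 = n31911 := rfl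
def n31912 : Q := act 1 n15051
theorem D31912 : act 1 n15051 = n31912 := rfl
def n31913 : Q := act 4 n15051
theorem D31913 : act 4 n15051 = n31913 := rfl
theorem F50215 : act 6 n31913 = n15054 := d10_2 (iv6 F24682) D31913 (iv4 D15054)
def n31914 : Q := act 7 n15051
theorem D31914 : act 7 n15051 = n31914 := rfl
theorem F50216 : act 5 n31914 = n15052 := d13_1 D31914 (iv7 D15052) D15051
def n31915 : Q := act 0 n15053
theorem D31915 : act 0 n15053 = n31915 := rfl
theorem F50217 : act 1 n29695 = n31915 := d15_0 (iv0 D31915) F24683 (iv2 F47728)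
def n31916 : Q := act 1 n15053
theorem D31916 : act 1 n15053 = n31916 := rfl
def n31917 : Q := act 2 n15053
theorem D31917 : act 2 n15053 = n31917 := rfl
theorem F50218 : act 6 n31917 = n29728 := d3_2 (iv6 F26911) D31917 (iv2 D29728)
theorem F50219 : act 7 n31917 = n29695 := d4_2 (iv7 F24683) D31917 F47728
theorem F50220 : act 1 n31917 = n29702 := d15_0 (iv0 D29702) (iv7 F24683) D31917
theorem F50221 : act 1 n31916 = n29695 := d15_1 D31916 (iv7 F50219) (iv2 D31917)
theorem F50222 : act 1 n29703 = n31917 := d15_1 D29703 F50219 F47728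
def n31918 : Q := act 4 n15053
theorem D31918 : act 4 n15053 = n31918 := rfl
theorem F50223 : act 3 n31918 = n17406 := d5_1 D31918 (iv4 D17406) F12922 (iv4 F11479) D15053
theorem F50224 : act 6 n31918 = n29729 := d10_2 (iv6 F26911) D31918 (iv4 D29729)
theorem F50225 : act 7 n31918 = n29697 := d11_2 (iv7 F24683) D31918 F47733
theorem F50226 : act 0 n31918 = n26164 := d20_7 (iv4 D12398) (iv1 F9138) (iv4 F26450) F11478 D7159 D15053 D31918 F41510 F20678 (iv1 F20649)
theorem F50227 : act 5 n20918 = n31918 := d19_1 D20918 (iv4 D31918) (iv3 D15053) (iv1 F20641) (iv5 F24971) (iv4 F33975) F33974 (iv1 F33663) (iv5 D21432) (iv4 D10212) (iv3 F15480) F15482 F13845 (iv4 D4108) D4107 F6290 D4237 F6916 D9944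
theorem F50228 : act 1 n31918 = n20519 := d15_1 (iv0 F50226) F32611 (iv2 F41508)
def n31919 : Q := act 3 n15054
theorem D31919 : act 3 n15054 = n31919 := rfl
theorem F50229 : act 2 n31919 = n21679 := d0_1 D31919 (iv3 D21679) F16473 (iv3 F25311) F26907
def n31920 : Q := act 0 n15056
theorem D31920 : act 0 n15056 = n31920 := rfl
def n31921 : Q := act 1 n15056
theorem D31921 : act 1 n15056 = n31921 := rfl
def n31922 : Q := act 2 n15056
theorem D31922 : act 2 n15056 = n31922 := rfl
theorem F50233 : act 3 n31922 = n15117 := d0_2 D15056 D31922 (iv2 F41579) (iv3 D26137) F20645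
theorem F50234 : act 6 n31922 = n29117 := d3_2 (iv6 F24687) D31922 (iv2 D29117)
theorem F50235 : act 7 n31922 = n29656 := d4_2 (iv7 F24688) D31922 F47657
theorem F50236 : act 1 n31922 = n29661 := d15_0 (iv0 D29661) (iv7 F24688) D31922
theorem F50238 : act 1 n29662 = n31922 := d15_1 D29662 F50235 F47657
def n31923 : Q := act 5 n15060
theorem D31923 : act 5 n15060 = n31923 := rfl
theorem F50239 : act 2 n31923 = n31828 := d2_1 D31923 (iv5 D31828) F41361
theorem F50240 : act 3 n31923 = n15062 := d6_1 D31923 (iv5 D15062) D15060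
theorem F50241 : act 7 n31923 = n31835 := d13_2 F41352 D31923 (iv5 D31835)
def n31924 : Q := act 6 n15060
theorem D31924 : act 6 n15060 = n31924 := rfl
theorem F50242 : act 2 n31924 = n26339 := d3_1 D31924 F42006 F41361
theorem F50243 : act 3 n31924 = n15063 := d7_1 D31924 (iv6 D15063) D15060
theorem F50244 : act 4 n31924 = n26125 := d10_1 D31924 (iv6 D26125) (iv4 F24693)
theorem F50245 : act 7 n31924 = n15898 := d14_2 F41352 D31924 (iv6 D15898) F25543 (iv6 F41351)
theorem F50246 : act 1 n16302 = n31924 := d15_1 (iv0 F27209) F50245 (iv2 F25570)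
def n31925 : Q := act 1 n15061
theorem D31925 : act 1 n15061 = n31925 := rfl
theorem F50247 : act 1 n31925 = n15066 := d15_1 D31925 (iv7 F41474) F41473
def n31926 : Q := act 5 n15061
theorem D31926 : act 5 n15061 = n31926 := rfl
def n31927 : Q := act 6 n15061
theorem D31927 : act 6 n15061 = n31927 := rfl
theorem F50248 : act 4 n31927 = n15063 := d10_1 D31927 (iv6 D15063) D15061
theorem F50249 : act 7 n31927 = n15902 := d14_2 F41466 D31927 (iv6 D15902) (iv7 F25534) (iv6 F41465)
theorem F50250 : act 3 n31927 = n16047 := d20_3 (iv4 D16424) (iv1 F43610) (iv4 F50248) (iv1 D16047) F11747 F10538 D6465 D13585 (iv3 F25326) F27013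
theorem F50251 : act 6 n16047 = n26184 := d7_2 D31927 F50250 (iv3 F41562)
theorem F50252 : act 7 n16047 = n26498 := d8_2 (iv7 F50249) F50250 F42408
theorem F50253 : act 2 n26498 = n16046 := d15_3 (iv0 D16046) D16047 F50252
theorem F50254 : act 6 n16046 = n25596 := d3_2 D26498 F50253 F40499
theorem F50255 : act 3 n25598 = n16046 := d7_3 F50254 (iv3 D25596) D25598
def n31928 : Q := act 0 n15062
theorem D31928 : act 0 n15062 = n31928 := rfl
theorem F50256 : act 1 n15067 = n31928 := d15_0 (iv0 D31928) (iv7 F41468) F41467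
def n31929 : Q := act 1 n15062
theorem D31929 : act 1 n15062 = n31929 := rfl
def n31930 : Q := act 4 n15062
theorem D31930 : act 4 n15062 = n31930 := rfl
def n31931 : Q := act 6 n15062
theorem D31931 : act 6 n15062 = n31931 := rfl
def n31932 : Q := act 5 n15063
theorem D31932 : act 5 n15063 = n31932 := rfl
theorem F50258 : act 7 n31932 = n15911 := d13_2 (iv7 F41344) D31932 (iv5 D15911)
def n31933 : Q := act 4 n15065
theorem D31933 : act 4 n15065 = n31933 := rfl
theorem F50259 : act 6 n31933 = n15916 := d10_2 (iv6 F41339) D31933 (iv4 D15916)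
def n31934 : Q := act 5 n15065
theorem D31934 : act 5 n15065 = n31934 := rfl
theorem F50260 : act 3 n31934 = n15067 := d6_1 D31934 (iv5 D15067) D15065
def n31935 : Q := act 5 n15066
theorem D31935 : act 5 n15066 = n31935 := rfl
def n31936 : Q := act 4 n15067
theorem D31936 : act 4 n15067 = n31936 := rfl
def n31937 : Q := act 6 n15067
theorem D31937 : act 6 n15067 = n31937 := rfl
theorem F50261 : act 5 n31937 = n15922 := d12_1 D31937 (iv6 D15922) (iv5 D7463) F41341 D15067
def n31938 : Q := act 3 n15069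
theorem D31938 : act 3 n15069 = n31938 := rfl
theorem F50262 : act 2 n31938 = n23741 := d0_1 D31938 (iv3 D23741) (iv2 F18039) (iv3 F11498) (iv2 F24695)
theorem F50263 : act 7 n31938 = n20007 := d8_2 F41483 D31938 (iv3 F41482)
theorem F50264 : act 1 n25501 = n31938 := d15_1 D25501 F50263 F31834
theorem F50265 : act 1 n31938 = n25500 := d15_0 (iv0 D25500) (iv7 F36965) (iv2 F50262)
def n31939 : Q := act 5 n15069
theorem D31939 : act 5 n15069 = n31939 := rfl
theorem F50266 : act 2 n31939 = n15074 := d2_1 D31939 (iv5 D15074) (iv2 F24695)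
def n31940 : Q := act 4 n15070
theorem D31940 : act 4 n15070 = n31940 := rfl
theorem F50267 : act 2 n31940 = n15078 := d1_1 D31940 (iv4 D15078) (iv2 F24696)
def n31941 : Q := act 6 n15070
theorem D31941 : act 6 n15070 = n31941 := rfl
theorem F50268 : act 2 n31941 = n15079 := d3_1 D31941 (iv6 D15079) (iv2 F24696)
def n31942 : Q := act 4 n15072
theorem D31942 : act 4 n15072 = n31942 := rfl
theorem F50269 : act 2 n31942 = n26111 := d1_1 D31942 F41503 F41505
theorem F50270 : act 3 n31942 = n28409 := d5_1 D31942 F45951 (iv3 D15101) D15102 (iv3 F24719)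
theorem F50271 : act 7 n31942 = n28424 := d11_2 (iv7 F41498) D31942 F45964
theorem F50272 : act 6 n26357 = n31942 := d14_5 F50271 F45966 (iv7 F25449) (iv6 F26993) (iv7 F42045)
theorem F50273 : act 1 n31884 = n31942 := d15_1 D31884 F50271 (iv2 F45965)
theorem F50274 : act 1 n31942 = n31883 := d15_0 (iv0 D31883) (iv7 F41302) (iv2 F50269)
def n31943 : Q := act 5 n15072
theorem D31943 : act 5 n15072 = n31943 := rfl
def n31944 : Q := act 6 n15072
theorem D31944 : act 6 n15072 = n31944 := rfl
theorem F50275 : act 2 n31944 = n25622 := d3_1 D31944 (iv6 F41504) F41505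
theorem F50276 : act 3 n31944 = n26548 := d7_1 D31944 F42502 (iv3 F24719)
theorem F50277 : act 4 n31944 = n26357 := d10_1 D31944 F50272 (iv4 D31942)
theorem F50278 : act 7 n31944 = n15939 := d14_2 (iv7 F41498) D31944 (iv6 D15939) (iv7 F25447) F41497
theorem F50279 : act 1 n23775 = n31944 := d15_1 (iv0 F42404) F50278 F26995
theorem F50280 : act 1 n31944 = n16424 := d15_1 F50279 (iv7 F42761) F42758
theorem F50281 : act 0 n25524 = n31943 := d21_1 (iv5 F40357) (iv5 D31943) D31944 (iv1 F50279) (iv6 D23775) D23774 (iv1 F43063) (iv5 D16919) D16920 F27742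
theorem E5131 : n28666 = n26350 := ((c20_11 (iv4 D28666) (iv1 D13663) F10562 F5428 D3457 D7615 D16424 (iv1 F50280) F50277 F42044 (iv1 F42034))).symm
theorem F50282 : act 4 n26350 = n13663 := (sb E5131 (iv4 D28666))
theorem E5132 : n28665 = n26355 := (c20_4 F42087 (iv1 F42034) F50282 D28665 (iv1 F42043) (iv3 F42029) F42030 (iv1 F42091) (iv4 D16298) (iv3 F27007) (iv1 F42090))
theorem F50283 : act 3 n26355 = n13663 := (sb E5132 (iv3 D28665))
def n31945 : Q := act 3 n15073
theorem D31945 : act 3 n15073 = n31945 := rfl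
theorem F50284 : act 2 n31945 = n25489 := d0_1 D31945 F40306 (iv2 F41426) (iv3 F41495) F41499
theorem F50285 : act 4 n31945 = n17028 := d5_2 (iv4 F26624) D31945 F27902 F12696 D15007
theorem F50286 : act 6 n31945 = n15940 := d7_2 (iv6 F26625) D31945 (iv3 D15940)
theorem F50287 : act 7 n31945 = n25488 := d8_2 F41501 D31945 F41502
theorem F50288 : act 1 n23743 = n31945 := d15_1 (iv0 F36970) F50287 F40303
theorem F50289 : act 1 n31945 = n25499 := d15_1 F50288 (iv7 D25499) (iv2 F36968)
def n31946 : Q := act 5 n15073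
theorem D31946 : act 5 n15073 = n31946 := rfl
def n31947 : Q := act 0 n15074
theorem D31947 : act 0 n15074 = n31947 := rfl
def n31948 : Q := act 1 n15074
theorem D31948 : act 1 n15074 = n31948 := rfl
def n31949 : Q := act 4 n15074
theorem D31949 : act 4 n15074 = n31949 := rfl
def n31950 : Q := act 6 n15074
theorem D31950 : act 6 n15074 = n31950 := rfl
theorem F50290 : act 3 n31950 = n25497 := d7_1 D31950 (iv6 D25497) (iv3 F24699)
def n31951 : Q := act 0 n15075
theorem D31951 : act 0 n15075 = n31951 := rfl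
theorem F50291 : act 4 n31951 = n23837 := d20_2 (iv4 F24701) D31951 F37174 (iv1 F22725) D13560 D28426 F45967 (iv4 D15066) D15065 F41471
theorem F50292 : act 3 n31951 = n25504 := d20_5 F37346 (iv1 D13548) (iv4 F20053) (iv3 F24700) D31951 F40337 (iv1 F20689) D12424 (iv3 F40299) (iv1 F40301)
theorem F50293 : act 2 n23749 = n31951 := d15_3 (iv0 D31951) (iv0 F27006) D23749
theorem F50294 : act 7 n31951 = n23747 := d4_2 D23749 F50293 (iv2 D23747)
theorem F50295 : act 1 n23746 = n31951 := d15_1 D23746 F50294 (iv2 D23747)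
def n31952 : Q := act 5 n15075
theorem D31952 : act 5 n15075 = n31952 := rfl
theorem F50296 : act 3 n31952 = n25498 := d6_1 D31952 (iv5 D25498) (iv3 F24700)
def n31953 : Q := act 7 n15075
theorem D31953 : act 7 n15075 = n31953 := rfl
theorem F50297 : act 2 n31953 = n23746 := d4_1 D31953 F41551 F41547
theorem F50298 : act 3 n31953 = n25499 := d8_1 D31953 (iv7 D25499) (iv3 F24700)
theorem F50299 : act 4 n31953 = n15083 := d11_1 D31953 (iv7 D15083) (iv4 F24701)
theorem F50300 : act 1 n23747 = n31953 := d15_1 (iv0 F41550) (iv7 D31953) (iv2 F41547)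
theorem F50301 : act 1 n31953 = n23749 := d15_1 F50300 (iv7 D23749) D23747
theorem E5133 : n31882 = n23839 := ((c20_1 (iv4 F37178) (iv1 D31882) F26587 F26807 F20614 (iv3 F24704) (iv4 F50299) (iv1 F50300) F36979 F18138 D13564)).symm
theorem F50302 : act 0 n23839 = n15005 := (sb E5133 (iv1 D31882))
theorem E5134 : n31883 = n28438 := (c20_5 F11509 (iv1 F12700) F12696 D15007 D31883 (iv3 D28438) (iv4 F37178) F50302 F26587 F26807 F20614)
theorem F50303 : act 0 n28438 = n31942 := (sb E5134 (iv1 F50274))
theorem F50304 : act 1 n28438 = n15007 := (sb E5134 (iv0 D31883))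
def n31954 : Q := act 2 n15076
theorem D31954 : act 2 n15076 = n31954 := rfl
theorem F50305 : act 7 n15077 = n31954 := d15_2 (iv0 D15076) D15077 (iv2 D31954)
def n31955 : Q := act 3 n15076
theorem D31955 : act 3 n15076 = n31955 := rfl
def n31956 : Q := act 4 n15076
theorem D31956 : act 4 n15076 = n31956 := rfl
def n31957 : Q := act 5 n15076
theorem D31957 : act 5 n15076 = n31957 := rfl
theorem F50306 : act 6 n31957 = n15339 := d21_3 D7170 D15076 D31957 (iv1 F26649) (iv6 D12935) (iv5 F21129) (iv1 F30293) (iv5 D7463) F41341 (iv1 D7167)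
theorem F50307 : act 2 n27006 = n31957 := d3_3 F50306 F24917 D27006
theorem F50308 : act 3 n15341 = n31957 := d7_3 F50306 (iv3 D15339) D15341
theorem F50309 : act 5 n31955 = n15341 := d6_0 F50308 (iv5 D31957) D31955
theorem E5135 : n31954 = n26166 := (c2_4 F43627 F50307 (iv5 D31957) D31954)
theorem F50310 : act 2 n26166 = n15076 := (sb E5135 (iv2 D31954))
theorem F50311 : act 7 n26166 = n15077 := (sb E5135 (iv7 F50305))
theorem F50312 : act 2 n15077 = n26165 := d15_3 (iv0 D26165) D26166 F50311
theorem F50313 : act 7 n15076 = n26165 := d4_2 (iv7 F50311) F50310 (iv2 F50312)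
def n31958 : Q := act 6 n15076
theorem D31958 : act 6 n15076 = n31958 := rfl
def n31959 : Q := act 3 n15077
theorem D31959 : act 3 n15077 = n31959 := rfl
theorem F50314 : act 7 n31959 = n27011 := d8_2 F50311 D31959 F43634
theorem F50315 : act 5 n27012 = n31959 := d13_3 F50314 (iv5 D27011) D27012
theorem F50316 : act 1 n15082 = n31959 := d15_1 (iv0 F41343) F50314 F43633
def n31960 : Q := act 4 n15077
theorem D31960 : act 4 n15077 = n31960 := rfl
def n31961 : Q := act 5 n15077
theorem D31961 : act 5 n15077 = n31961 := rfl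
theorem F50317 : act 3 n31961 = n27012 := d6_1 D31961 F50315 (iv3 D31959)
theorem F50318 : act 7 n31961 = n27006 := d13_2 F50311 D31961 (iv5 F43627)
def n31962 : Q := act 6 n15077
theorem D31962 : act 6 n15077 = n31962 := rfl
def n31963 : Q := act 0 n15078
theorem D31963 : act 0 n15078 = n31963 := rfl
def n31964 : Q := act 1 n15078
theorem D31964 : act 1 n15078 = n31964 := rfl
theorem F50319 : act 4 n31885 = n31964 := d20_6 (iv4 F24387) (iv1 D14720) F11275 (iv3 F11477) (iv1 F26588) D31885 (iv1 D31964) (iv4 D15078) F11499 D7172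
def n31965 : Q := act 5 n15078
theorem D31965 : act 5 n15078 = n31965 := rfl
def n31966 : Q := act 6 n15078
theorem D31966 : act 6 n15078 = n31966 := rfl
theorem F50320 : act 4 n31966 = n15079 := d10_1 D31966 (iv6 D15079) D15078
def n31967 : Q := act 0 n15079
theorem D31967 : act 0 n15079 = n31967 := rfl
def n31968 : Q := act 1 n15079
theorem D31968 : act 1 n15079 = n31968 := rfl
def n31969 : Q := act 5 n15079
theorem D31969 : act 5 n15079 = n31969 := rfl
theorem F50321 : act 3 n31969 = n15090 := d6_1 D31969 (iv5 D15090) (iv3 F24702)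
theorem F50322 : act 6 n31969 = n15082 := d12_2 D15079 D31969 (iv5 D15082) (iv6 D7171) D7170
def n31970 : Q := act 7 n15079
theorem D31970 : act 7 n15079 = n31970 := rfl
theorem F50323 : act 3 n31970 = n15091 := d8_1 D31970 (iv7 D15091) (iv3 F24702)
def n31971 : Q := act 4 n15080
theorem D31971 : act 4 n15080 = n31971 := rfl
theorem F50324 : act 3 n31971 = n15109 := d5_1 D31971 (iv4 F24723) (iv3 D14978) D14979 (iv3 F26819)
def n31972 : Q := act 5 n15080
theorem D31972 : act 5 n15080 = n31972 := rfl
theorem F50325 : act 3 n31972 = n31828 := d6_1 D31972 (iv5 D31828) (iv3 F26819)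
def n31973 : Q := act 4 n15082
theorem D31973 : act 4 n15082 = n31973 := rfl
theorem F50326 : act 0 n31864 = n31973 := d20_7 D15272 F26929 (iv4 D15043) F11477 (iv1 F11454) D14999 D31864 (iv4 D31973) F24703 F11553
theorem E5136 : n31862 = n23846 := ((c18_10 (iv1 D31862) D31864 F50326 (iv4 D31973) (iv5 D15082) (iv4 F24701) (iv0 F27006) F18046 D11176 D23846)).symm
theorem F50327 : act 0 n23846 = n14999 := (sb E5136 (iv1 D31862))
theorem F50328 : act 1 n23846 = n31572 := (sb E5136 F50167)
def n31974 : Q := act 7 n15082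
theorem D31974 : act 7 n15082 = n31974 := rfl
theorem F50329 : act 3 n31974 = n15094 := d8_1 D31974 (iv7 D15094) (iv3 F24703)
theorem F50330 : act 5 n31974 = n15083 := d13_1 D31974 (iv7 D15083) D15082
def n31975 : Q := act 4 n15084
theorem D31975 : act 4 n15084 = n31975 := rfl
theorem F50331 : act 7 n31975 = n31524 := d11_2 (iv7 F24706) D31975 (iv4 D31524)
def n31976 : Q := act 6 n15084
theorem D31976 : act 6 n15084 = n31976 := rfl
theorem F50332 : act 3 n31976 = n15085 := d7_1 D31976 (iv6 D15085) D15084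
theorem F50333 : act 5 n31976 = n16054 := d12_1 D31976 (iv6 D16054) (iv5 F26854) (iv6 F26473) (iv5 F24705)
def n31977 : Q := act 0 n15085
theorem D31977 : act 0 n15085 = n31977 := rfl
def n31978 : Q := act 1 n15085
theorem D31978 : act 1 n15085 = n31978 := rfl
theorem F50334 : act 1 n31978 = n31544 := d15_1 D31978 (iv7 D31544) (iv2 F24707)
def n31979 : Q := act 7 n15085
theorem D31979 : act 7 n15085 = n31979 := rfl
theorem F50335 : act 2 n31979 = n31544 := d4_1 D31979 (iv7 D31544) (iv2 F24707)
theorem F50336 : act 6 n31979 = n31527 := d14_1 D31979 (iv7 D31527) (iv6 D14852) F11504 D15085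
theorem F50337 : act 1 n31544 = n31977 := d15_0 (iv0 D31977) D31979 F50335
theorem F50338 : act 1 n31543 = n31979 := d15_1 D31543 (iv7 D31979) F24707
theorem F50339 : act 1 n31979 = n31542 := d15_0 (iv0 D31542) D31544 (iv2 F50335)
def n31980 : Q := act 0 n15086
theorem D31980 : act 0 n15086 = n31980 := rfl
theorem F50340 : act 1 n31537 = n31980 := d15_0 (iv0 D31980) F24709 (iv2 F49880)
theorem F50341 : act 5 n15138 = n31980 := d21_6 (iv5 F44803) (iv1 F44806) (iv5 D16117) (iv6 F26811) F26797 D15138 (iv1 F50340) (iv5 D31537) F26764 (iv1 F26738)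
theorem F50342 : act 2 n31980 = n31539 := d2_1 F50341 (iv5 F49882) (iv2 F24799)
def n31981 : Q := act 1 n15086
theorem D31981 : act 1 n15086 = n31981 := rfl
theorem F50344 : act 7 n31981 = n31539 := d15_2 (iv0 D31980) D31981 (iv2 F50342)
theorem F50345 : act 2 n31981 = n31538 := d15_3 (iv0 D31538) D31539 (iv7 F50344)
theorem F50346 : act 7 n31538 = n31980 := d4_2 (iv7 F50344) F50345 F50342
def n31982 : Q := act 2 n15086
theorem D31982 : act 2 n15086 = n31982 := rfl
theorem F50348 : act 3 n31982 = n31523 := d0_2 D15086 D31982 F49865 F24515 F11508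
theorem F50349 : act 5 n31982 = n26048 := d2_2 (iv5 F24708) D31982 (iv2 D26048)
theorem F50350 : act 7 n31982 = n31537 := d4_2 (iv7 F24709) D31982 F49880
theorem F50351 : act 1 n31982 = n31538 := d15_0 (iv0 D31538) (iv7 F24709) D31982
theorem F50352 : act 1 n31539 = n31982 := d15_0 F50351 F50346 F50342
def n31983 : Q := act 4 n15086
theorem D31983 : act 4 n15086 = n31983 := rfl
theorem F50353 : act 7 n31983 = n31540 := d11_2 (iv7 F24709) D31983 (iv4 D31540)
def n31984 : Q := act 6 n15086
theorem D31984 : act 6 n15086 = n31984 := rfl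
theorem F50354 : act 3 n31984 = n15087 := d7_1 D31984 (iv6 D15087) D15086
theorem F50355 : act 5 n31984 = n29582 := d12_1 D31984 (iv6 D29582) (iv5 D14051) (iv6 F20502) (iv5 F24708)
def n31985 : Q := act 1 n15087
theorem D31985 : act 1 n15087 = n31985 := rfl
theorem F50356 : act 1 n31985 = n31527 := d15_1 D31985 (iv7 D31527) (iv2 F24710)
def n31986 : Q := act 7 n15087
theorem D31986 : act 7 n15087 = n31986 := rfl
theorem F50357 : act 2 n31986 = n31527 := d4_1 D31986 (iv7 D31527) (iv2 F24710)
theorem F50358 : act 5 n31986 = n29585 := d13_1 D31986 (iv7 D29585) (iv5 F24711)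
theorem F50359 : act 6 n31986 = n31544 := d14_1 D31986 (iv7 D31544) (iv6 D14857) (iv7 F11506) D15087
theorem F50360 : act 1 n31527 = n26676 := d15_0 (iv0 F42741) D31986 F50357
theorem F50361 : act 1 n31526 = n31986 := d15_1 D31526 (iv7 D31986) F24710
theorem F50362 : act 1 n31986 = n16416 := d15_0 (iv0 F25900) D31527 (iv2 F50357)
def n31987 : Q := act 2 n15088
theorem D31987 : act 2 n15088 = n31987 := rfl
theorem F50363 : act 7 n15089 = n31987 := d15_2 (iv0 D15088) D15089 (iv2 D31987)
def n31988 : Q := act 3 n15088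
theorem D31988 : act 3 n15088 = n31988 := rfl
def n31989 : Q := act 4 n15088
theorem D31989 : act 4 n15088 = n31989 := rfl
def n31990 : Q := act 5 n15088
theorem D31990 : act 5 n15088 = n31990 := rfl
def n31991 : Q := act 6 n15088
theorem D31991 : act 6 n15088 = n31991 := rfl
def n31992 : Q := act 7 n15088
theorem D31992 : act 7 n15088 = n31992 := rfl
theorem F50364 : act 2 n31992 = n15089 := d4_1 D31992 F50363 (iv2 D31987)
def n31993 : Q := act 3 n15089
theorem D31993 : act 3 n15089 = n31993 := rfl
def n31994 : Q := act 4 n15089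
theorem D31994 : act 4 n15089 = n31994 := rfl
def n31995 : Q := act 5 n15089
theorem D31995 : act 5 n15089 = n31995 := rfl
def n31996 : Q := act 6 n15089
theorem D31996 : act 6 n15089 = n31996 := rfl
def n31997 : Q := act 0 n15090
theorem D31997 : act 0 n15090 = n31997 := rfl
def n31998 : Q := act 1 n15090
theorem D31998 : act 1 n15090 = n31998 := rfl
def n31999 : Q := act 4 n15090
theorem D31999 : act 4 n15090 = n31999 := rfl
theorem F50365 : act 6 n31999 = n15093 := d10_2 (iv6 F24712) D31999 (iv4 D15093)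
def n32000 : Q := act 7 n15090
theorem D32000 : act 7 n15090 = n32000 := rfl
theorem F50366 : act 5 n32000 = n15091 := d13_1 D32000 (iv7 D15091) D15090
def n32001 : Q := act 3 n15092
theorem D32001 : act 3 n15092 = n32001 := rfl
theorem F50367 : act 5 n32001 = n16624 := d6_2 (iv5 F24714) D32001 F27114
theorem F50368 : act 7 n32001 = n16666 := d8_2 (iv7 F24713) D32001 F27294
theorem F50369 : act 1 n15153 = n32001 := d17_6 (iv1 F41176) (iv5 F50349) (iv1 F50352) (iv5 F49882) F24756 D15153 F50367 (iv0 F49873) (iv4 D31529)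
def n32002 : Q := act 6 n15092
theorem D32002 : act 6 n15092 = n32002 := rfl
theorem F50370 : act 5 n32002 = n16634 := d12_1 D32002 (iv6 D16634) F12034 D7734 (iv5 F24714)
def n32003 : Q := act 3 n15093
theorem D32003 : act 3 n15093 = n32003 := rfl
def n32004 : Q := act 5 n15093
theorem D32004 : act 5 n15093 = n32004 := rfl
theorem F50371 : act 4 n32004 = n15268 := d16_2 D15093 D32004 (iv5 D15268) (iv4 F12535) D7928 (iv4 F20664) (iv5 F24859) F24861 F20661
theorem F50372 : act 1 n32004 = n31800 := d17_8 (iv1 F27324) (iv5 D16683) (iv1 F26609) D14962 D31795 F50096 F27830 D32004 (iv4 D31800)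
theorem F50373 : act 0 n32004 = n31803 := d18_0 (iv4 D31803) (iv1 D14967) D14968 D31807 F50111 (iv0 F24644) D16974 F27830 D32004
def n32005 : Q := act 7 n15093
theorem D32005 : act 7 n15093 = n32005 := rfl
theorem F50374 : act 4 n32005 = n15094 := d11_1 D32005 (iv7 D15094) D15093
theorem F50375 : act 1 n31886 = n32005 := d15_1 (iv0 F50191) (iv7 D32005) (iv2 F41462)
theorem F50376 : act 1 n32005 = n15302 := d15_1 F50375 (iv7 F50095) (iv2 F50188)
def n32006 : Q := act 6 n15094
theorem D32006 : act 6 n15094 = n32006 := rfl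
def n32007 : Q := act 0 n15097
theorem D32007 : act 0 n15097 = n32007 := rfl
theorem F50377 : act 1 n15102 = n32007 := d15_0 (iv0 D32007) (iv7 F41420) F41417
def n32008 : Q := act 1 n15097
theorem D32008 : act 1 n15097 = n32008 := rfl
theorem F50378 : act 1 n32008 = n15102 := d15_1 D32008 (iv7 F41428) F41426
def n32009 : Q := act 5 n15097
theorem D32009 : act 5 n15097 = n32009 := rfl
def n32010 : Q := act 4 n15098
theorem D32010 : act 4 n15098 = n32010 := rfl
def n32011 : Q := act 6 n15098
theorem D32011 : act 6 n15098 = n32011 := rfl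
theorem F50379 : act 5 n32011 = n16011 := d12_1 D32011 (iv6 D16011) (iv5 D7489) F26974 D15098
def n32012 : Q := act 5 n15101
theorem D32012 : act 5 n15101 = n32012 := rfl
theorem F50380 : act 3 n32012 = n15103 := d6_1 D32012 (iv5 D15103) D15101
def n32013 : Q := act 5 n15102
theorem D32013 : act 5 n15102 = n32013 := rfl
theorem F50381 : act 3 n32013 = n31943 := d6_1 D32013 (iv5 D31943) F24719
def n32014 : Q := act 4 n15103
theorem D32014 : act 4 n15103 = n32014 := rfl
def n32015 : Q := act 6 n15103
theorem D32015 : act 6 n15103 = n32015 := rfl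
def n32016 : Q := act 5 n15105
theorem D32016 : act 5 n15105 = n32016 := rfl
theorem F50382 : act 2 n32016 = n15110 := d2_1 D32016 (iv5 D15110) (iv2 F24720)
def n32017 : Q := act 4 n15106
theorem D32017 : act 4 n15106 = n32017 := rfl
theorem F50383 : act 2 n32017 = n15114 := d1_1 D32017 (iv4 D15114) (iv2 F24721)
def n32018 : Q := act 6 n15106
theorem D32018 : act 6 n15106 = n32018 := rfl
theorem F50384 : act 2 n32018 = n15115 := d3_1 D32018 (iv6 D15115) (iv2 F24721)
def n32019 : Q := act 5 n15107
theorem D32019 : act 5 n15107 = n32019 := rfl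
theorem F50385 : act 2 n32019 = n15118 := d2_1 D32019 (iv5 D15118) (iv2 F24722)
theorem F50386 : act 1 n32019 = n26288 := d17_6 D25553 (iv5 F40414) F30972 D19984 F31814 D32019 (iv5 D26288) F27043 (iv4 F20093)
theorem F50387 : act 1 n26856 = n32019 := d15_0 F50386 F41857 (iv2 F43282)
theorem F50388 : act 0 n26857 = n26718 := d21_4 D32019 (iv1 F50387) (iv5 D26856) D26857 (iv6 D26718) D26717 F42828 (iv5 D26396) (iv6 F41413) (iv1 F41416)
def n32020 : Q := act 3 n15108
theorem D32020 : act 3 n15108 = n32020 := rfl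
theorem F50389 : act 6 n32020 = n16035 := d7_2 (iv6 F41368) D32020 (iv3 D16035)
def n32021 : Q := act 4 n15108
theorem D32021 : act 4 n15108 = n32021 := rfl
theorem F50390 : act 2 n32021 = n26121 := d1_1 D32021 F41329 (iv2 F41367)
theorem F50391 : act 6 n32021 = n16036 := d10_2 (iv6 F41368) D32021 (iv4 D16036)
theorem F50392 : act 7 n32021 = n31826 := d11_2 (iv7 F41369) D32021 F50119
theorem F50393 : act 3 n32021 = n28404 := d20_3 D7182 D15108 D32021 (iv1 D28404) (iv3 D13555) D13556 D28409 F45951 (iv3 D15101) (iv1 D7180)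
theorem E5137 : n28514 = n28404 := ((c0_1 F50393 F46077 (iv3 D14983) (iv2 F41347) D26121 (iv2 F50390))).symm
theorem F50394 : act 2 n28404 = n14983 := (sb E5137 F46077)
theorem F50395 : act 4 n28404 = n26185 := (sb E5137 F46078)
theorem F50396 : act 6 n28404 = n13596 := (sb E5137 (iv6 D28514))
theorem F50397 : act 0 n32021 = n28410 := d20_4 D12424 (iv1 F41564) (iv4 F50395) (iv3 F50393) (iv3 D28410) (iv4 D13556) D13553 F22723 (iv3 F20687) (iv1 F20689)
theorem F50398 : act 1 n32021 = n31825 := d15_0 (iv0 D31825) F41363 (iv2 F50390)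
def n32022 : Q := act 5 n15108
theorem D32022 : act 5 n15108 = n32022 := rfl
def n32023 : Q := act 5 n15109
theorem D32023 : act 5 n15109 = n32023 := rfl
theorem F50399 : act 0 n32023 = n28387 := d17_2 (iv1 F40277) D32023 (iv5 D28387) F22704 (iv5 F11533) (iv0 F28390) (iv5 D15103) F20656 (iv4 F40273)
def n32024 : Q := act 0 n15110
theorem D32024 : act 0 n15110 = n32024 := rfl
def n32025 : Q := act 1 n15110
theorem D32025 : act 1 n15110 = n32025 := rfl
theorem F50400 : act 5 n32025 = n25455 := d17_7 (iv1 F26896) (iv5 F41437) (iv1 D15113) (iv5 D7183) D7182 D15110 D32025 F45897 F45894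
def n32026 : Q := act 4 n15110
theorem D32026 : act 4 n15110 = n32026 := rfl
def n32027 : Q := act 6 n15110
theorem D32027 : act 6 n15110 = n32027 := rfl
theorem F50401 : act 3 n32027 = n28393 := d7_1 D32027 (iv6 D28393) (iv3 F24724)
def n32028 : Q := act 0 n15111
theorem D32028 : act 0 n15111 = n32028 := rfl
theorem F50402 : act 5 n32028 = n19866 := d17_1 D32028 F31710 D19907 F31853 D26727 (iv0 F43290) F43288 F26909 (iv4 F24726)
theorem F50403 : act 3 n32028 = n19867 := d20_5 F23130 F10889 (iv4 F22716) (iv3 F24725) D32028 (iv4 F31797) (iv1 D19957) (iv4 F14661) (iv3 F31841) (iv1 F31844)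
theorem F50404 : act 6 n16979 = n25455 := d21_5 F50402 F31710 D19907 (iv6 F31854) (iv1 F27856) (iv5 F50400) (iv1 D32025) (iv5 D15110) D15111 D32028
theorem F50405 : act 1 n20499 = n32028 := d15_0 (iv0 D32028) (iv7 F41582) F41580
theorem F50406 : act 3 n25455 = n16981 := d7_1 F50404 (iv6 D16981) D16979
theorem E5138 : n26301 = n26094 := ((c10_2 F50404 (iv4 F41283) (iv6 D26301) (iv4 F27853))).symm
theorem E5139 : n12502 = n12369 := ((((iv3 D26094)).symm.trans (sb E5138 F41898))).symm
theorem F50407 : act 5 n26094 = n31840 := (sb E5138 (iv5 F50139))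
theorem F50408 : act 6 n26094 = n12500 := (sb E5138 (iv6 D26301))
theorem E5140 : n26302 = n7082 := ((((iv1 F20561)).symm.trans (sb E5139 D26302))).symm
theorem E5142 : n26093 = n7256 := ((D26093).symm.trans (sb E5139 F27231))
theorem E5143 : n26095 = n16976 := ((D26095).symm.trans (sb E5139 (iv4 F27848)))
theorem E5144 : n26096 = n14989 := ((D26096).symm.trans (sb E5139 (iv5 F41345)))
theorem E5145 : n26097 = n5945 := ((D26097).symm.trans (sb E5139 (iv6 D12502)))
theorem E5146 : n26304 = n26098 := (((D26098).symm.trans (sb E5139 D26304))).symm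
theorem E5147 : n15348 = n12370 := ((((iv1 F20566)).symm.trans (sb E5140 (iv1 F41904)))).symm
theorem F50409 : act 2 n7256 = n12369 := (sb E5142 (iv2 D26093))
theorem F50410 : act 1 n16976 = n31533 := (sb E5143 (iv0 F49878))
theorem F50411 : act 4 n16976 = n12369 := (sb E5143 (iv4 D26095))
theorem F50412 : act 5 n14989 = n12369 := (sb E5144 (iv5 D26096))
theorem F50413 : act 6 n5945 = n12369 := (sb E5145 (iv6 D26097))
theorem F50414 : act 0 n26098 = n15346 := (sb E5146 (iv1 F41905))
theorem F50417 : act 6 n26098 = n15363 := (sb E5146 F41903)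
theorem E5148 : n26101 = n14990 := ((D26101).symm.trans (sb E5147 F41372))
theorem E5149 : n26298 = n26102 := (((D26102).symm.trans (sb E5147 (iv6 F41883)))).symm
theorem F50418 : act 7 n12370 = n7256 := (sb E5147 (iv7 D15348))
theorem F50419 : act 5 n14990 = n12370 := (sb E5148 (iv5 D26101))
theorem F50420 : act 0 n26102 = n15361 := (sb E5149 (iv1 F41885))
theorem F50423 : act 5 n26102 = n29250 := (sb E5149 F46912)
theorem F50424 : act 7 n26102 = n12498 := (sb E5149 (iv7 D26298))
theorem E5150 : n26122 = n26104 := ((c21_2 D12372 D26104 (iv5 D26122) F41331 (iv1 F9267) (iv6 F10704) D13907 D29250 (iv5 F50423) (iv6 D26102) (iv1 D12370))).symm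
theorem F50425 : act 2 n26104 = n14985 := (sb E5150 F41373)
theorem F50426 : act 5 n26104 = n12390 := (sb E5150 (iv5 D26122))
theorem F50427 : act 7 n26104 = n14980 := (sb E5150 F41374)
theorem E5151 : n26124 = n26105 := (c15_4 F41292 F41291 F50427 (iv2 F41377))
theorem F50428 : act 2 n26105 = n14980 := (sb E5151 F41377)
theorem F50429 : act 5 n26105 = n12391 := (sb E5151 (iv5 D26124))
theorem F50430 : act 7 n26105 = n14985 := (sb E5151 F41378)
theorem E5152 : n26102 = n16591 := ((c21_5 (iv5 F50429) (iv1 D26105) (iv5 D12372) (iv6 F11993) D16591 (iv6 D26102) (iv5 F50419) (iv1 D14990) (iv5 D7133) F26627 (iv1 F20627))).symm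
theorem E5153 : n15361 = n14044 := ((((iv1 F27073)).symm.trans (sb E5152 F50420))).symm
theorem F50432 : act 5 n16591 = n29250 := (sb E5152 F50423)
theorem F50433 : act 6 n16591 = n12370 := (sb E5152 (iv6 D26102))
theorem F50434 : act 7 n16591 = n12498 := (sb E5152 F50424)
theorem E5155 : n16592 = n7261 := (((iv1 F27074)).symm.trans (sb E5153 (iv1 D15361)))
theorem E5156 : n29227 = n29178 := ((((iv5 F46837)).symm.trans (sb E5153 F46894))).symm
theorem F50435 : act 0 n7261 = n7712 := (sb E5155 (iv1 D16592))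
theorem F50436 : act 1 n7261 = n14044 := (sb E5155 F27074)
theorem F50437 : act 0 n29178 = n13898 := (sb E5156 (iv1 D29227))
theorem F50438 : act 1 n29178 = n13903 := (sb E5156 F46883)
theorem E5157 : n29226 = n16593 := (c15_2 F50438 F46886 F27076 (iv2 F46836))
theorem F50439 : act 0 n16593 = n13903 := (sb E5157 (iv1 F46886))
theorem F50440 : act 1 n16593 = n13898 := (sb E5157 (iv0 D29226))
theorem F50441 : act 5 n31656 = n26341 := d21_6 D13903 (iv1 F50438) F46837 (iv6 F25950) (iv1 F26690) D31656 (iv1 F42013) (iv5 D16452) (iv6 F21201) F26598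
theorem E5158 : n31632 = n7130 := (c21_9 D12563 D26341 (iv5 F50441) (iv6 D31656) (iv1 D14886) (iv6 D7084) D7083 D14881 D31632 (iv6 F41364) (iv1 D12562))
theorem E5159 : n14980 = n14881 := ((D14980).symm.trans (sb E5158 (iv5 D31632)))
theorem E5160 : n31829 = n26103 := ((((iv1 F41290)).symm.trans (sb E5159 D31829))).symm
theorem E5162 : n31629 = n26105 := ((D31629).symm.trans (sb E5159 (iv2 F50428)))
theorem E5163 : n31827 = n31630 := (((D31630).symm.trans (sb E5159 (iv3 F50120)))).symm
theorem F50442 : act 5 n14881 = n7130 := (sb E5159 (iv5 D14980))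
theorem E5166 : n31634 = n26104 := ((D31634).symm.trans (sb E5159 (iv7 F50427)))
theorem E5167 : n14985 = n14882 := ((((iv1 F41289)).symm.trans (sb E5160 (iv1 F50121)))).symm
theorem E5168 : n15346 = n12371 := ((((iv5 D26103)).symm.trans (sb E5160 (iv5 F50122)))).symm
theorem F50443 : act 2 n26105 = n14881 := (sb E5162 (iv2 D31629))
theorem F50444 : act 5 n31630 = n14978 := (sb E5163 (iv5 D31827))
theorem F50445 : act 7 n26104 = n14881 := (sb E5166 (iv7 D31634))
theorem F50446 : act 2 n14882 = n26104 := (sb E5167 (iv2 F50425))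
theorem E5170 : n31834 = n31635 := (((D31635).symm.trans (sb E5167 (iv3 F50132)))).symm
theorem E5172 : n31637 = n7131 := ((D31637).symm.trans (sb E5167 (iv5 D14985)))
theorem E5173 : n31837 = n31638 := (((D31638).symm.trans (sb E5167 D31837))).symm
theorem F50447 : act 7 n14882 = n26105 := (sb E5167 (iv7 F50430))
theorem E5174 : n7256 = n7081 := ((((iv1 F20567)).symm.trans (sb E5168 (iv1 D15346)))).symm
theorem E5175 : n26098 = n7080 := (((F20565).symm.trans (sb E5168 (iv0 F50414)))).symm
theorem E5176 : n26296 = n13829 := (((F26629).symm.trans (sb E5168 (iv6 F50123)))).symm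
theorem F50448 : act 5 n31635 = n14983 := (sb E5170 (iv5 D31834))
theorem F50449 : act 5 n7131 = n14882 := (sb E5172 (iv5 D31637))
theorem F50450 : act 5 n31638 = n15376 := (sb E5173 F50134)
theorem E5177 : n14874 = n12369 := (((iv2 F24523)).symm.trans (sb E5174 F50409))
theorem E5178 : n15335 = n14875 := (((D14875).symm.trans (sb E5174 (iv3 F24913)))).symm
theorem E5179 : n15341 = n14876 := (((D14876).symm.trans (sb E5174 (iv4 F24920)))).symm
theorem E5180 : n15347 = n14877 := (((D14877).symm.trans (sb E5174 D15347))).symm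
theorem E5181 : n14878 = n3336 := ((D14878).symm.trans (sb E5174 (iv6 D7256)))
theorem E5182 : n14869 = n12370 := ((F24522).symm.trans (sb E5174 (iv7 F50418)))
theorem E5184 : n15363 = n14873 := (((D14873).symm.trans (sb E5175 F50417))).symm
theorem E5185 : n14903 = n14873 := (((iv1 F26694)).symm.trans (sb E5176 (tr (iv1 F41884) E5184)))
theorem E5186 : n14902 = n12498 := ((F26696).symm.trans (sb E5176 (iv0 D26296)))
theorem F50451 : act 2 n12369 = n7081 := (sb E5177 F24523)
theorem E5189 : n31594 = n26094 := (((D26094).symm.trans (sb E5177 (iv3 F49915)))).symm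
theorem E5190 : n31600 = n16976 := ((((iv4 F50411)).symm.trans (sb E5177 (iv4 F49926)))).symm
theorem E5191 : n31605 = n14989 := ((((iv5 F50412)).symm.trans (sb E5177 (iv5 F49929)))).symm
theorem F50452 : act 7 n12369 = n7080 := (sb E5177 (iv7 D14874))
theorem E5193 : n31614 = n17390 := ((D31614).symm.trans (sb E5178 (iv4 F28359)))
theorem E5194 : n31616 = n7253 := ((D31616).symm.trans (sb E5178 (iv6 D15335)))
theorem E5195 : n31957 = n23834 := ((((iv3 F37165)).symm.trans (sb E5179 F50308))).symm
theorem E5196 : n31955 = n31617 := (((D31617).symm.trans (sb E5179 (iv5 F50309)))).symm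
theorem E5197 : n31618 = n7254 := ((D31618).symm.trans (sb E5179 (iv6 D15341)))
theorem E5198 : n31602 = n12393 := (((iv1 F49927)).symm.trans (sb E5180 (iv1 F41387)))
theorem E5199 : n31601 = n14987 := ((F49930).symm.trans (sb E5180 (iv0 F41346)))
theorem E5200 : n31587 = n14990 := (((iv7 F49910)).symm.trans (sb E5180 (iv7 F41371)))
theorem F50453 : act 6 n3336 = n7081 := (sb E5181 (iv6 D14878))
theorem F50454 : act 2 n12370 = n7080 := (sb E5182 (iv2 D14869))
theorem E5205 : n31585 = n26099 := (((D26099).symm.trans (sb E5182 D31585))).symm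
theorem E5206 : n31586 = n26100 := (((D26100).symm.trans (sb E5182 D31586))).symm
theorem E5207 : n31588 = n16591 := ((((iv6 F50433)).symm.trans (sb E5182 D31588))).symm
theorem F50455 : act 7 n12370 = n7081 := (sb E5182 (iv7 F24522))
theorem E5208 : n31606 = n26297 := ((D31606).symm.trans (sb E5184 (iv1 F41880)))
theorem E5209 : n31608 = n13908 := ((D31608).symm.trans (sb E5184 F38259))
theorem E5210 : n31609 = n7261 := ((D31609).symm.trans (sb E5184 (iv7 D15363)))
theorem E5211 : n26297 = n7097 := ((E5208).symm.trans ((D31606).symm.trans (sb E5185 (iv1 D14903))))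
theorem E5212 : n31607 = n13829 := ((D31607).symm.trans (sb E5185 F26694))
theorem E5214 : n31699 = n31593 := ((((iv3 F49914)).symm.trans (sb E5185 D31699))).symm
theorem E5215 : n31700 = n31599 := ((((iv4 F49924)).symm.trans (sb E5185 D31700))).symm
theorem F50456 : act 0 n12498 = n13829 := (sb E5186 (iv1 F26696))
theorem E5220 : n31695 = n26295 := ((((iv4 F41879)).symm.trans (sb E5186 D31695))).symm
theorem F50457 : act 7 n26094 = n14870 := (sb E5189 (iv7 D31594))
theorem F50458 : act 2 n16976 = n14876 := (sb E5190 F49925)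
theorem F50459 : act 7 n16976 = n14871 := (sb E5190 (iv7 D31600))
theorem F50460 : act 2 n14989 = n14877 := (sb E5191 F49928)
theorem F50461 : act 7 n14989 = n14872 := (sb E5191 (iv7 D31605))
theorem F50462 : act 0 n17390 = n31522 := (sb E5193 F49932)
theorem F50463 : act 1 n17390 = n31521 := (sb E5193 (iv0 F49933))
theorem F50464 : act 4 n17390 = n14875 := (sb E5193 (iv4 D31614))
theorem F50465 : act 6 n7253 = n14875 := (sb E5194 (iv6 D31616))
theorem F50466 : act 2 n23834 = n27006 := (sb E5195 (iv2 F50307))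
theorem F50467 : act 5 n23834 = n15076 := (sb E5195 (iv5 D31957))
theorem F50468 : act 6 n23834 = n15339 := (sb E5195 F50306)
theorem F50469 : act 3 n31617 = n15076 := (sb E5196 (iv3 D31955))
theorem F50470 : act 6 n7254 = n14876 := (sb E5197 (iv6 D31618))
theorem F50471 : act 0 n12393 = n14872 := (sb E5198 (iv1 D31602))
theorem F50472 : act 1 n12393 = n14877 := (sb E5198 F49927)
theorem F50473 : act 0 n14987 = n14877 := (sb E5199 (iv1 F49930))
theorem F50474 : act 1 n14987 = n14872 := (sb E5199 (iv0 D31601))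
theorem F50475 : act 2 n14990 = n14872 := (sb E5200 F49909)
theorem F50476 : act 7 n14990 = n14877 := (sb E5200 F49910)
theorem F50477 : act 7 n26099 = n14875 := (sb E5205 F49906)
theorem F50478 : act 2 n26100 = n14871 := (sb E5206 F49907)
theorem F50479 : act 7 n26100 = n14876 := (sb E5206 F49908)
theorem F50480 : act 2 n16591 = n14873 := (sb E5207 F49911)
theorem E5223 : n31606 = n7097 := (E5208).trans E5211
theorem F50481 : act 1 n7097 = n14873 := (sb E5223 (iv0 D31606))
theorem F50482 : act 5 n13908 = n14873 := (sb E5209 (iv5 D31608))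
theorem F50483 : act 7 n7261 = n14873 := (sb E5210 (iv7 D31609))
theorem F50484 : act 0 n7097 = n12498 := (sb E5211 (iv1 D26297))
theorem F50485 : act 0 n13829 = n14873 := (sb E5212 (iv1 D31607))
theorem F50486 : act 1 n31593 = n24387 := (sb E5214 (iv0 F49980))
theorem F50487 : act 0 n31599 = n16613 := (sb E5215 F49979)
theorem F50488 : act 1 n31599 = n29575 := (sb E5215 (iv0 F49981))
theorem F50489 : act 3 n31599 = n16597 := (sb E5215 (iv3 F49982))
theorem F50490 : act 1 n26295 = n16613 := (sb E5220 (iv0 F49976))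
theorem E5224 : n29567 = n27014 := ((((iv3 F43648)).symm.trans (sb E5220 (iv3 F49977)))).symm
theorem F50491 : act 0 n27014 = n26712 := (sb E5224 (iv1 F47443))
theorem F50492 : act 1 n27014 = n14046 := (sb E5224 (iv0 D29567))
theorem E5225 : n31657 = n26328 := (c21_2 D14887 D31657 (iv5 D26328) (iv6 D12554) (iv1 D5966) D5969 D12563 D26341 (iv5 F50441) (iv6 D31656) (iv1 D14886))
theorem F50493 : act 1 n26328 = n14887 := (sb E5225 (iv0 D31657))
theorem E5226 : n31658 = n26340 := (c15_2 F50493 D31658 F42008 (iv2 F41983))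
theorem F50494 : act 0 n26340 = n14887 := (sb E5226 (iv1 D31658))
theorem F50495 : act 7 n29568 = n16990 := d15_2 F50492 D29568 (iv2 F43647)
theorem F50496 : act 0 n26432 = n16439 := d21_1 D26432 (iv5 F46284) F46285 (iv1 F50492) (iv6 D27014) D27013 F43644 F42396 (iv6 F43615) (iv1 D26431)
theorem F50497 : act 2 n29060 = n29568 := d4_3 F50495 (iv2 F43647) (iv7 F47453)
theorem F50498 : act 3 n16998 = n29568 := d8_3 F50495 F27860 D16998
theorem F50499 : act 6 n31961 = n29568 := d14_5 F50495 (iv6 D16990) (iv7 F27240) D27006 (iv7 F50318)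
theorem F50500 : act 0 n16439 = n31932 := d21_7 D26159 (iv1 F41490) D31961 F50499 (iv1 D29568) (iv6 F46285) F46284 (iv5 D31932) (iv6 D15063) (iv1 F20671)
theorem F50501 : act 7 n31599 = n15357 := d15_2 F50490 (iv0 F50487) (iv2 F41878)
theorem E5227 : n27004 = n16597 := (c8_3 F50501 F24934 D27004 (iv3 F50489))
theorem E5228 : n24294 = n16996 := (((iv1 F38082)).symm.trans (sb E5227 (iv1 F43620)))
theorem F50502 : act 2 n16597 = n16998 := (sb E5227 F43617)
theorem F50503 : act 6 n16597 = n16987 := (sb E5227 F43618)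
theorem F50504 : act 7 n16597 = n12929 := (sb E5227 (iv7 D27004))
theorem E5230 : n16598 = n7938 := ((((iv1 D16996)).symm.trans (sb E5228 (iv1 F38084)))).symm
theorem F50505 : act 1 n16996 = n16597 := (sb E5228 F38082)
theorem F50506 : act 2 n16996 = n11440 := (sb E5228 (iv2 D24294))
theorem F50507 : act 3 n16996 = n13836 := (sb E5228 F38080)
theorem F50508 : act 7 n16996 = n16599 := (sb E5228 F38081)
theorem F50509 : act 0 n7938 = n7719 := (sb E5230 (iv1 D16598))
theorem F50510 : act 0 n24020 = n25565 := d20_4 F18635 (iv1 F8412) (iv4 F18354) D24020 F40445 F27861 F50509 D16600 F27086 (iv1 F18637)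
theorem E5231 : n26226 = n26153 := (c21_8 D7466 (iv1 F27841) (iv5 D7937) D7938 F50509 (iv6 F18135) (iv5 F20705) D26226 (iv5 D26153) F41357 (iv1 F9307))
theorem F50511 : act 0 n26153 = n15201 := (sb E5231 (iv1 F41629))
theorem F50512 : act 1 n26153 = n12438 := (sb E5231 (iv0 D26226))
theorem E5232 : n26227 = n26156 := (c15_2 F50512 D26227 F41476 (iv2 F41467))
theorem F50513 : act 0 n26156 = n12438 := (sb E5232 (iv1 D26227))
theorem F50514 : act 1 n26156 = n15201 := (sb E5232 F41634)
theorem F50515 : act 4 n31835 = n31640 := d20_6 (iv4 F18125) (iv1 F20367) F20365 D12438 (iv1 F50512) (iv3 F50133) (iv1 D31640) (iv4 D14883) F11334 (iv1 F10532)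
theorem F50516 : act 0 n29064 = n25547 := d20_7 F23098 F50485 (iv4 F49924) F50489 (iv1 F50505) F50507 D29064 (iv4 F41872) F41871 F50456
theorem F50517 : act 1 n24018 = n25547 := d15_0 (iv0 F50516) (iv7 F47622) F47620
theorem F50518 : act 0 n28387 = n32022 := d21_7 D25587 (iv1 F40490) F26864 D25547 (iv1 F50517) F37551 D28387 (iv5 D32022) F41368 (iv1 F20166)
theorem E5233 : n31597 = n16987 := ((c7_1 F50503 (iv3 D31597) D31599 F50489)).symm
theorem E5234 : n31520 = n27010 := ((((iv1 F43632)).symm.trans (sb E5233 F49922))).symm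
theorem E5235 : n27009 = n16677 := ((F43638).symm.trans (sb E5233 (iv0 F49923)))
theorem F50519 : act 3 n16987 = n14871 := (sb E5233 (iv3 D31597))
theorem F50520 : act 2 n27010 = n15269 := (sb E5234 F49861)
theorem F50521 : act 3 n27010 = n14848 := (sb E5234 (iv3 D31520))
theorem F50522 : act 4 n27010 = n31574 := (sb E5234 F49901)
theorem F50523 : act 6 n27010 = n26712 := (sb E5234 F49862)
theorem F50524 : act 0 n16677 = n16987 := (sb E5235 (iv1 F43638))
theorem F50525 : act 1 n16677 = n12934 := (sb E5235 (iv0 D27009))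
theorem E5236 : n31961 = n28364 := ((c0_4 F50519 (iv2 F50478) (iv3 F41285) D28364 F50317 F43636)).symm
theorem F50526 : act 3 n28364 = n27012 := (sb E5236 F50317)
theorem F50527 : act 5 n28364 = n15077 := (sb E5236 (iv5 D31961))
theorem F50528 : act 6 n28364 = n29568 := (sb E5236 F50499)
theorem E5237 : n27006 = n13534 := ((((iv7 F45863)).symm.trans (sb E5236 F50318))).symm
theorem E5238 : n28368 = n23834 := (((iv2 F45864)).symm.trans (sb E5237 (iv2 F50466)))
theorem E5239 : n28369 = n12934 := ((D28369).symm.trans (sb E5237 F43626))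
theorem E5240 : n28371 = n26166 := ((D28371).symm.trans (sb E5237 (iv5 F43627)))
theorem E5241 : n28372 = n12931 := ((D28372).symm.trans (sb E5237 (iv6 D27006)))
theorem F50529 : act 2 n23834 = n13534 := (sb E5238 F45864)
theorem F50530 : act 7 n23834 = n13533 := (sb E5238 (iv7 D28368))
theorem F50531 : act 3 n12934 = n13534 := (sb E5239 (iv3 D28369))
theorem F50532 : act 5 n26166 = n13534 := (sb E5240 (iv5 D28371))
theorem F50533 : act 6 n12931 = n13534 := (sb E5241 (iv6 D28372))
theorem F50534 : act 6 n28370 = n27005 := d10_2 F50533 D28370 (iv4 D27005)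
theorem F50535 : act 0 n28376 = n26458 := d21_7 (iv5 F42396) (iv1 F43066) F35190 F50533 (iv1 D13534) D13536 D28376 (iv5 D26458) (iv6 F27211) (iv1 F26646)
theorem E5242 : n15199 = n15062 := (c21_2 (iv5 F11532) D15199 (iv5 D15062) D15063 (iv1 F42240) F43615 (iv5 F42396) (iv1 F43066) F35190 F50533 (iv1 D13534))
theorem E5243 : n31928 = n26228 := ((D31928).symm.trans (sb E5242 (iv1 F41633)))
theorem E5244 : n31929 = n7209 := ((D31929).symm.trans (sb E5242 (iv0 D15199)))
theorem E5245 : n15200 = n15067 := (((iv1 F41635)).symm.trans (sb E5243 (iv1 F50256)))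
theorem F50536 : act 1 n26228 = n15062 := (sb E5243 (iv0 D31928))
theorem F50537 : act 0 n7209 = n15062 := (sb E5244 (iv1 D31929))
theorem F50538 : act 0 n15067 = n7209 := (sb E5245 (iv1 D15200))
theorem F50539 : act 1 n15067 = n26228 := (sb E5245 F41635)
theorem F50540 : act 5 n15979 = n28367 := d21_8 (iv5 F41631) (iv1 F50539) (iv5 D15067) (iv6 F41341) (iv1 D3412) D3416 D7478 D15979 (iv6 D28367) (iv1 F37170)
theorem E5246 : n27001 = n16599 := (c21_5 D3415 D7472 (iv5 F35185) D12929 D27001 (iv6 F37168) (iv5 F41631) (iv1 F50539) (iv5 D15067) (iv6 F41341) (iv1 D3412))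
theorem E5247 : n24293 = n16998 := (((iv1 F38083)).symm.trans (sb E5246 (iv1 F43619)))
theorem E5248 : n24292 = n12929 := ((F38079).symm.trans (sb E5246 (iv0 D27001)))
theorem E5249 : n27002 = n11440 := (((iv1 F43606)).symm.trans (sb E5247 (iv1 D24293)))
theorem F50541 : act 1 n16998 = n16599 := (sb E5247 F38083)
theorem F50542 : act 0 n12929 = n16599 := (sb E5248 (iv1 F38079))
theorem F50543 : act 0 n11440 = n12929 := (sb E5249 (iv1 D27002))
theorem F50544 : act 1 n11440 = n16998 := (sb E5249 F43606)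
theorem F50545 : act 1 n25524 = n31946 := d17_6 (iv1 F20673) D15067 F50538 F11532 (iv4 F22679) (iv5 F40357) (iv5 D31946) (iv0 F41484) (iv4 D26158)
theorem E5250 : n28366 = n26165 := (c13_2 F50530 D28366 (iv7 F50313) (iv5 F50467))
theorem F50546 : act 5 n26165 = n13533 := (sb E5250 (iv5 D28366))
theorem E5251 : n29060 = n28367 := ((c14_2 F50530 D28367 F47453 (iv6 D27014) (iv7 F27249) (iv6 F50468))).symm
theorem F50547 : act 0 n28367 = n29569 := (sb E5251 (iv1 F47446))
theorem F50548 : act 1 n28367 = n13834 := (sb E5251 (iv0 D29060))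
theorem F50549 : act 2 n28367 = n29568 := (sb E5251 F50497)
theorem F50550 : act 7 n28367 = n27014 := (sb E5251 F47453)
theorem E5252 : n28364 = n23835 := (c15_4 F37171 F37166 F50530 D28364)
theorem F50551 : act 2 n23835 = n13533 := (sb E5252 (iv2 D28364))
theorem F50552 : act 3 n23835 = n27012 := (sb E5252 F50526)
theorem F50553 : act 5 n23835 = n15077 := (sb E5252 F50527)
theorem F50554 : act 6 n23835 = n29568 := (sb E5252 F50528)
theorem F50555 : act 7 n23835 = n13534 := (sb E5252 (iv7 F45863))
theorem F50556 : act 0 n26460 = n28376 := d21_7 (iv5 F50546) (iv1 F41512) (iv5 D15070) (iv6 F26904) (iv1 F41545) F42231 D26460 (iv5 D28376) (iv6 D13536) D13533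
theorem F50557 : act 0 n15661 = n31660 := d21_1 D15661 F49951 F24531 F50484 (iv6 D12498) F27212 (iv1 F20910) (iv5 D12555) D12556 F27208
theorem F50558 : act 7 n31593 = n15355 := d8_2 F50483 (iv3 F49914) F24932
theorem F50559 : act 5 n31593 = n29253 := d6_2 F50482 (iv3 F49914) (iv3 D29253)
theorem F50560 : act 5 n31604 = n29255 := d12_5 (iv6 D29255) F50482 (iv6 D14873) D14872 D31604
theorem E5253 : n31704 = n29230 := (c21_8 D6609 D13908 F50482 (iv6 D14873) (iv1 F20565) F26629 D29057 (iv1 F50009) F46885 F46896 (iv1 D6607))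
theorem F50561 : act 0 n29230 = n14905 := (sb E5253 (iv1 D31704))
theorem F50562 : act 1 n29230 = n29057 := (sb E5253 F50009)
theorem E5254 : n31703 = n29212 := (c15_2 F50562 F50008 F46867 (iv2 F46884))
theorem F50563 : act 0 n29212 = n29057 := (sb E5254 (iv1 F50008))
theorem F50564 : act 1 n29212 = n14905 := (sb E5254 (iv0 D31703))
theorem E5255 : n29213 = n26131 := (c21_4 D14905 (iv1 F50564) (iv5 D29212) D29213 (iv1 F41400) (iv6 D12394) D12393 F50471 (iv5 D14872) D14873 (iv1 F50481))
theorem F50565 : act 2 n26131 = n13899 := (sb E5255 F46868)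
theorem E5256 : n13905 = n13895 := (((iv6 F41401)).symm.trans (sb E5255 (iv6 D29213)))
theorem F50566 : act 7 n26131 = n13899 := (sb E5255 (iv7 F46892))
theorem E5257 : n29208 = n6610 := ((D29208).symm.trans (sb E5256 (iv1 F23168)))
theorem E5258 : n29209 = n6608 := ((D29209).symm.trans (sb E5256 (iv0 D13905)))
theorem E5260 : n29243 = n29210 := (((D29210).symm.trans (sb E5256 D29243))).symm
theorem E5261 : n29211 = n15970 := ((D29211).symm.trans (sb E5256 (iv4 F25487)))
theorem F50567 : act 6 n13895 = n26131 := (sb E5256 F41401)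
theorem E5264 : n13906 = n13900 := (((iv1 F23169)).symm.trans (sb E5257 (iv1 F46861)))
theorem F50568 : act 1 n6610 = n13895 := (sb E5257 (iv0 D29208))
theorem F50569 : act 0 n6608 = n13895 := (sb E5258 (iv1 D29209))
theorem F50570 : act 1 n29210 = n29708 := (sb E5260 (iv0 F47750))
theorem F50571 : act 4 n29210 = n26510 := (sb E5260 F46904)
theorem F50572 : act 2 n15970 = n13897 := (sb E5261 F46864)
theorem F50573 : act 4 n15970 = n13895 := (sb E5261 (iv4 D29211))
theorem F50574 : act 7 n15970 = n13902 := (sb E5261 F46865)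
theorem F50575 : act 0 n13900 = n6608 := (sb E5264 (iv1 D13906))
theorem F50576 : act 1 n13900 = n6610 := (sb E5264 F23169)
theorem E5265 : n29246 = n29220 := ((((iv3 F46873)).symm.trans (sb E5264 D29246))).symm
theorem E5266 : n29247 = n29225 := ((((iv4 F46882)).symm.trans (sb E5264 D29247))).symm
theorem F50577 : act 4 n29220 = n25309 := (sb E5265 F46906)
theorem F50578 : act 1 n29225 = n29144 := (sb E5266 (iv0 F46908))
theorem F50579 : act 3 n29225 = n24286 := (sb E5266 F46907)
theorem F50580 : act 6 n24286 = n15933 := d7_2 F46898 F50579 F25398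
theorem F50581 : act 7 n24286 = n24382 := d8_2 D29225 F50579 F38229
theorem F50582 : act 2 n24382 = n24287 := d15_3 F38071 F38067 F50581
theorem F50583 : act 2 n24286 = n24383 := d15_3 F38231 F38230 (iv7 F50581)
theorem F50584 : act 7 n24383 = n24287 := d4_2 (iv7 F50581) F50583 (iv2 F50582)
theorem F50585 : act 3 n24287 = n15969 := d0_2 (iv3 F38229) F50582 (iv2 D15969) D15970 F50572
theorem E5269 : n24383 = n15975 := ((c8_4 F50584 F50585 (iv7 F25486) D15975)).symm
theorem F50586 : act 0 n15975 = n11497 := (sb E5269 (iv1 D24383))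
theorem F50587 : act 1 n15975 = n24288 := (sb E5269 F38231)
theorem F50588 : act 2 n15975 = n24286 := (sb E5269 (iv2 F50583))
theorem F50589 : act 7 n15975 = n24287 := (sb E5269 F50584)
theorem E5270 : n15974 = n15933 := ((c0_5 D15975 F50588 (iv3 F50579) F46881 (iv3 F25398) F25488)).symm
theorem F50590 : act 2 n15933 = n7477 := (sb E5270 F25488)
theorem F50591 : act 7 n15933 = n7476 := (sb E5270 (iv7 D15974))
theorem E5271 : n15978 = n15975 := (c3_1 D15978 F50588 F50580 F50590)
theorem F50592 : act 6 n15975 = n7477 := (sb E5271 (iv6 D15978))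
theorem F50593 : act 7 n15973 = n26169 := d14_2 F50591 D15973 (iv6 F46895) (iv7 F50581) F50580
theorem E5272 : n15969 = n15932 := (c15_4 (iv0 D15932) D15933 F50591 D15969)
theorem F50594 : act 2 n15932 = n7476 := (sb E5272 (iv2 D15969))
theorem F50595 : act 3 n15932 = n24287 := (sb E5272 (iv3 F50585))
theorem F50596 : act 7 n15932 = n7477 := (sb E5272 (iv7 F25486))
theorem F50597 : act 6 n25309 = n29237 := d10_2 F46897 F50577 (iv4 D29237)
theorem F50598 : act 7 n25309 = n29217 := d11_2 D29220 F50577 (iv4 D29217)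
theorem F50599 : act 2 n29217 = n25308 := d15_3 (iv0 D25308) D25309 F50598
theorem F50600 : act 4 n25308 = n29216 := d1_2 D29217 F50599 (iv2 D29216)
theorem F50601 : act 0 n31655 = n26344 := d21_1 D31655 F42012 F20924 (iv1 F50576) F46896 D13903 (iv1 F50438) F46837 (iv6 F25950) (iv1 F26690)
theorem E5273 : n31656 = n31628 := ((c21_5 (iv5 F46885) F50561 (iv5 D14905) (iv6 F24531) (iv1 F49941) (iv6 D31656) D31655 F50601 F42012 F20924 (iv1 F50576))).symm
theorem F50602 : act 5 n31628 = n26341 := (sb E5273 F50441)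
theorem F50603 : act 6 n31628 = n14886 := (sb E5273 (iv6 D31656))
theorem F50604 : act 0 n26331 = n31655 := d21_1 D26331 (iv5 D31655) (iv6 F50603) (iv1 D31628) (iv6 D14880) D14879 (iv1 F41292) F50429 D26125 (iv1 F41381)
theorem F50605 : act 0 n28701 = n15661 := d21_1 (iv5 F46269) (iv5 D15661) (iv6 D7368) (iv1 F9271) D12556 D26331 F50604 (iv5 D31655) (iv6 F50603) (iv1 D31628)
theorem F50606 : act 7 n26510 = n29237 := d11_2 (iv7 F46863) F50571 (iv4 D29237)
theorem F50607 : act 2 n29237 = n26511 := d15_3 F42434 F42437 F50606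
theorem F50608 : act 4 n26511 = n29236 := d1_2 D29237 F50607 (iv2 D29236)
theorem F50609 : act 7 n29233 = n15395 := d13_2 F50566 D29233 (iv5 F41399)
theorem F50610 : act 2 n15395 = n29233 := d15_3 (iv0 F46889) (iv0 F46887) F50609
theorem F50611 : act 7 n31615 = n31843 := d8_2 F50476 (iv3 F49935) (iv3 D31843)
theorem F50612 : act 7 n31619 = n31844 := d11_2 F50476 D31619 (iv4 D31844)
theorem F50613 : act 5 n31843 = n26099 := d13_1 F50611 F50477 D31615
theorem F50614 : act 2 n31603 = n31844 := d1_3 (iv4 D31844) F50475 D31603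
theorem F50615 : act 2 n31604 = n31845 := d3_3 (iv6 D31845) F50475 D31604
theorem F50616 : act 1 n31598 = n15160 := d17_6 (iv1 D12391) D12393 F50471 (iv5 D14872) D14871 D31598 (iv5 D15160) (iv0 F24794) F24693
theorem F50617 : act 6 n31613 = n15333 := d3_2 F50465 D31613 (iv2 D15333)
theorem F50618 : act 4 n25545 = n31613 := d10_3 F50617 (iv4 F27262) D25545
theorem F50619 : act 7 n31592 = n31840 := d8_2 F50461 (iv3 F49913) (iv3 D31840)
theorem F50620 : act 7 n31603 = n31841 := d11_2 F50461 D31603 (iv4 D31841)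
theorem F50621 : act 2 n31841 = n31619 := d4_1 F50620 F50612 (iv2 F50614)
theorem F50622 : act 2 n31620 = n31842 := d3_3 (iv6 D31842) F50460 D31620
theorem F50623 : act 5 n15343 = n31620 := d2_0 F50622 F50140 (iv2 F27272)
theorem F50624 : act 7 n28385 = n25455 := d11_2 F50457 F45891 (iv4 F41283)
theorem F50625 : act 2 n25455 = n28384 := d15_3 (iv0 D28384) D28385 F50624
theorem F50626 : act 2 n28385 = n25454 := d15_3 (iv0 D25454) D25455 (iv7 F50624)
theorem F50627 : act 4 n25454 = n31591 := d1_2 F45891 F50626 (iv2 D31591)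
theorem F50628 : act 7 n25454 = n28384 := d4_2 (iv7 F50624) F50626 (iv2 F50625)
theorem F50629 : act 6 n28384 = n25566 := d3_2 F50404 F50625 F40446
theorem F50630 : act 3 n25568 = n28384 := d7_3 F50629 (iv3 D25566) D25568
theorem F50631 : act 4 n31639 = n31828 := d18_3 (iv1 D14882) D14883 D31639 (iv5 D31828) (iv4 D14979) (iv0 D7130) F5224 D7131 F50449
theorem F50632 : act 0 n31650 = n26331 := d21_1 D31650 (iv5 D26331) (iv6 D12556) (iv1 F9273) F41353 F50449 (iv1 D14882) (iv5 D7083) D7084 D14885
theorem E5274 : n15389 = n14885 := (c21_6 (iv5 F24947) (iv1 D7265) (iv5 D3339) D3340 D7268 D15389 D31650 F50632 (iv5 D26331) (iv6 D12556) (iv1 F9273))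
theorem E5275 : n31651 = n7268 := ((D31651).symm.trans (sb E5274 (iv6 D15389)))
theorem F50633 : act 6 n7268 = n14885 := (sb E5275 (iv6 D31651))
theorem F50634 : act 1 n31650 = n26344 := d15_1 (iv0 F50632) (iv7 D26344) (iv2 F41990)
theorem F50635 : act 6 n31647 = n15366 := d3_2 F50633 D31647 F35045
theorem F50636 : act 6 n31648 = n15386 := d7_2 F50633 D31648 (iv3 D15386)
theorem F50637 : act 6 n31649 = n15387 := d10_2 F50633 D31649 (iv4 D15387)
theorem E5276 : n31652 = n31628 := (c14_3 F35046 F50633 D31652 F50603 F49948 F50635)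
theorem F50638 : act 2 n31628 = n14886 := (sb E5276 F49949)
theorem F50639 : act 7 n31628 = n14885 := (sb E5276 (iv7 D31652))
theorem F50640 : act 7 n31650 = n26341 := d13_2 F50639 D31650 (iv5 F50602)
theorem E5277 : n31647 = n31627 := (c15_4 (iv0 D31627) D31628 F50639 D31647)
theorem F50641 : act 2 n31627 = n14885 := (sb E5277 (iv2 D31647))
theorem F50642 : act 6 n31627 = n15366 := (sb E5277 F50635)
theorem F50643 : act 7 n31627 = n14886 := (sb E5277 (iv7 F49948))
theorem F50644 : act 5 n26342 = n31627 := d21_2 D16452 (iv1 F42009) F50642 F26500 (iv6 D7263) D7262 (iv1 F20833) F27197 D12554 F27200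
theorem F50645 : act 2 n31650 = n26342 := d2_3 F50644 F50641 D31650
theorem F50646 : act 7 n31655 = n26342 := d13_0 F50644 F50643 D31655
theorem F50647 : act 2 n26341 = n31655 := d4_3 F50646 (iv2 F50645) F50640
theorem F50648 : act 0 n29104 = n15357 := d20_10 F24935 F50435 F11992 (iv3 D7712) (iv1 F8177) (iv3 F18807) F18808 (iv1 F49993) F49995 D29104
theorem E5278 : n16985 = n15269 := ((c20_4 (iv4 F26634) F8182 F12039 D15269 (iv1 D16985) (iv3 F27847) F50411 (iv1 F20561) F11333 (iv3 F26593) (iv1 F26609))).symm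
theorem F50649 : act 0 n15269 = n7933 := (sb E5278 (iv1 D16985))
theorem F50650 : act 1 n15269 = n27012 := (sb E5278 F43639)
theorem F50651 : act 7 n16984 = n27010 := d15_2 F50650 F43640 F50520
theorem F50652 : act 2 n16677 = n16984 := d4_3 F50651 F50520 (iv7 F27298)
theorem F50653 : act 3 n26049 = n16984 := d8_3 F50651 F50521 (iv7 F41181)
theorem F50654 : act 5 n16984 = n26203 := d6_2 (iv5 F41539) F50653 (iv3 D26203)
theorem F50655 : act 0 n16981 = n31564 := d20_1 (iv4 F27857) (iv4 D31564) (iv3 F49888) F50150 (iv3 D14960) (iv4 F26634) F8182 F12039 D15269 F50649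
def n32029 : Q := act 1 n15111
theorem D32029 : act 1 n15111 = n32029 := rfl
theorem F50656 : act 1 n32029 = n20499 := d15_1 D32029 F32582 (iv2 F31813)
theorem F50657 : act 4 n29219 = n32029 := d20_6 (iv4 D7164) (iv1 F9143) (iv4 F20638) (iv3 F41391) F46890 (iv3 F46872) (iv1 D32029) F24726 F11512 (iv1 F11496)
theorem F50658 : act 6 n32029 = n29217 := d10_2 D29219 F50657 (iv4 D29217)
theorem F50659 : act 5 n32029 = n19905 := d21_6 (iv5 F28356) (iv1 F40489) (iv5 D25587) (iv6 F39972) F46870 (iv6 F50658) (iv1 F32453) (iv5 F32455) (iv6 D12146) D12142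
def n32030 : Q := act 4 n15112
theorem D32030 : act 4 n15112 = n32030 := rfl
def n32031 : Q := act 6 n15112
theorem D32031 : act 6 n15112 = n32031 := rfl
def n32032 : Q := act 3 n15113
theorem D32032 : act 3 n15113 = n32032 := rfl
theorem F50660 : act 2 n32032 = n16666 := d0_1 D32032 F27294 F12059 (iv3 F24855) F41438
theorem F50661 : act 5 n32032 = n16635 := d6_2 (iv5 F41437) D32032 F27137
theorem F50662 : act 0 n15153 = n32032 := d21_7 F25814 (iv1 D3446) (iv5 D1512) (iv6 F2574) D3314 D7194 D15153 F50661 (iv6 D16635) (iv1 F12046)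
def n32033 : Q := act 4 n15113
theorem D32033 : act 4 n15113 = n32033 := rfl
def n32034 : Q := act 6 n15113
theorem D32034 : act 6 n15113 = n32034 := rfl
theorem F50663 : act 2 n32034 = n16794 := d3_1 D32034 F27559 F41438
theorem F50664 : act 5 n32034 = n16791 := d12_1 D32034 (iv6 D16791) F12395 D15262 (iv5 F41437)
def n32035 : Q := act 0 n15114
theorem D32035 : act 0 n15114 = n32035 := rfl
def n32036 : Q := act 1 n15114
theorem D32036 : act 1 n15114 = n32036 := rfl
theorem F50665 : act 4 n31840 = n32036 := d20_6 (iv4 F24380) (iv1 F24381) F11276 (iv3 F11447) D14989 D31840 (iv1 D32036) (iv4 D15114) F11511 (iv1 F11505)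
def n32037 : Q := act 5 n15114
theorem D32037 : act 5 n15114 = n32037 := rfl
def n32038 : Q := act 6 n15114
theorem D32038 : act 6 n15114 = n32038 := rfl
theorem F50666 : act 4 n32038 = n15115 := d10_1 D32038 (iv6 D15115) D15114
def n32039 : Q := act 0 n15115
theorem D32039 : act 0 n15115 = n32039 := rfl
def n32040 : Q := act 1 n15115
theorem D32040 : act 1 n15115 = n32040 := rfl
def n32041 : Q := act 5 n15115
theorem D32041 : act 5 n15115 = n32041 := rfl
theorem F50667 : act 3 n32041 = n15122 := d6_1 D32041 (iv5 D15122) (iv3 F24727)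
theorem F50668 : act 6 n32041 = n15118 := d12_2 D15115 D32041 (iv5 D15118) (iv6 D7184) D7183
def n32042 : Q := act 7 n15115
theorem D32042 : act 7 n15115 = n32042 := rfl
theorem F50669 : act 3 n32042 = n15123 := d8_1 D32042 (iv7 D15123) (iv3 F24727)
def n32043 : Q := act 4 n15117
theorem D32043 : act 4 n15117 = n32043 := rfl
def n32044 : Q := act 1 n15118
theorem D32044 : act 1 n15118 = n32044 := rfl
theorem F50670 : act 7 n32044 = n26856 := d15_2 (iv0 F27921) D32044 F43282
theorem F50671 : act 5 n26287 = n32044 := d21_0 (iv1 D32044) (iv5 D15118) (iv6 D7184) D7179 (iv6 F26974) D7489 F27122 F21110 D12847 (iv1 F41854)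
theorem F50672 : act 2 n32044 = n26288 := d2_1 F50671 (iv5 D26288) D26287
def n32045 : Q := act 4 n15118
theorem D32045 : act 4 n15118 = n32045 := rfl
def n32046 : Q := act 2 n15120
theorem D32046 : act 2 n15120 = n32046 := rfl
theorem F50673 : act 7 n15121 = n32046 := d15_2 (iv0 D15120) D15121 (iv2 D32046)
def n32047 : Q := act 3 n15120
theorem D32047 : act 3 n15120 = n32047 := rfl
def n32048 : Q := act 4 n15120
theorem D32048 : act 4 n15120 = n32048 := rfl
def n32049 : Q := act 5 n15120
theorem D32049 : act 5 n15120 = n32049 := rfl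
def n32050 : Q := act 6 n15120
theorem D32050 : act 6 n15120 = n32050 := rfl
def n32051 : Q := act 7 n15120
theorem D32051 : act 7 n15120 = n32051 := rfl
theorem F50674 : act 2 n32051 = n15121 := d4_1 D32051 F50673 (iv2 D32046)
def n32052 : Q := act 3 n15121
theorem D32052 : act 3 n15121 = n32052 := rfl
def n32053 : Q := act 4 n15121
theorem D32053 : act 4 n15121 = n32053 := rfl
def n32054 : Q := act 5 n15121
theorem D32054 : act 5 n15121 = n32054 := rfl
theorem F50675 : act 6 n16339 = n32054 := d21_5 (iv5 D7302) F10678 D3597 (iv6 F11829) D16339 (iv5 D32054) (iv1 D15121) D15122 F24730 F20643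
def n32055 : Q := act 6 n15121
theorem D32055 : act 6 n15121 = n32055 := rfl
def n32056 : Q := act 0 n15122
theorem D32056 : act 0 n15122 = n32056 := rfl
def n32057 : Q := act 1 n15122
theorem D32057 : act 1 n15122 = n32057 := rfl
def n32058 : Q := act 4 n15122
theorem D32058 : act 4 n15122 = n32058 := rfl
theorem F50676 : act 6 n32058 = n15124 := d10_2 (iv6 F24730) D32058 (iv4 D15124)
def n32059 : Q := act 7 n15122
theorem D32059 : act 7 n15122 = n32059 := rfl
theorem F50677 : act 5 n32059 = n15123 := d13_1 D32059 (iv7 D15123) D15122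
def n32060 : Q := act 3 n15124
theorem D32060 : act 3 n15124 = n32060 := rfl
def n32061 : Q := act 5 n15124
theorem D32061 : act 5 n15124 = n32061 := rfl
theorem F50678 : act 2 n32061 = n26534 := d2_1 D32061 F42480 F41528
theorem F50679 : act 4 n32061 = n15633 := d16_2 D15124 D32061 (iv5 F26458) F26457 (iv5 F12935) (iv4 F20682) (iv5 F24992) F24991 F20680
theorem F50680 : act 0 n32061 = n15804 := d17_2 F27920 D32061 F26762 (iv4 D15430) (iv5 F12943) F12944 D12396 F20636 D17034
theorem F50681 : act 1 n32061 = n15809 := d17_6 (iv1 F21308) F21310 F20642 D7187 D15124 D32061 F26763 F27892 F27890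
def n32062 : Q := act 7 n15124
theorem D32062 : act 7 n15124 = n32062 := rfl
theorem F50682 : act 4 n32062 = n15125 := d11_1 D32062 (iv7 D15125) D15124
theorem F50683 : act 1 n15418 = n32062 := d15_1 F41530 (iv7 D32062) (iv2 F41528)
theorem F50684 : act 1 n32062 = n15426 := d15_1 F50683 (iv7 F27918) F27917
def n32063 : Q := act 6 n15125
theorem D32063 : act 6 n15125 = n32063 := rfl
def n32064 : Q := act 4 n15126
theorem D32064 : act 4 n15126 = n32064 := rfl
theorem F50685 : act 2 n32064 = n15191 := d1_1 D32064 F24811 (iv2 F24734)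
theorem F50686 : act 7 n32064 = n15174 := d11_2 (iv7 F24735) D32064 (iv4 D15174)
theorem F50687 : act 1 n15187 = n32064 := d15_1 D15187 F50686 F24804
theorem F50688 : act 1 n32064 = n15186 := d15_0 (iv0 D15186) D15191 (iv2 F50685)
def n32065 : Q := act 6 n15126
theorem D32065 : act 6 n15126 = n32065 := rfl
theorem F50689 : act 2 n32065 = n15195 := d3_1 D32065 (iv6 D15195) (iv2 F24734)
def n32066 : Q := act 5 n15127
theorem D32066 : act 5 n15127 = n32066 := rfl
theorem F50690 : act 2 n32066 = n15198 := d2_1 D32066 (iv5 D15198) (iv2 F24738)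
theorem F50691 : act 3 n32066 = n16076 := d6_1 D32066 (iv5 D16076) (iv3 F26872)
theorem F50692 : act 7 n32066 = n16106 := d13_2 (iv7 F24739) D32066 (iv5 D16106)
theorem F50693 : act 1 n16307 = n32066 := d15_1 D16307 F50692 F25620
theorem F50694 : act 1 n32066 = n16306 := d15_0 (iv0 D16306) (iv7 F24818) (iv2 F50690)
def n32067 : Q := act 5 n15130
theorem D32067 : act 5 n15130 = n32067 := rfl
theorem F50695 : act 3 n32067 = n15132 := d6_1 D32067 (iv5 D15132) D15130
theorem F50696 : act 7 n32067 = n15160 := d13_2 (iv7 F24744) D32067 (iv5 D15160)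
def n32068 : Q := act 6 n15130
theorem D32068 : act 6 n15130 = n32068 := rfl
theorem F50697 : act 3 n32068 = n15133 := d7_1 D32068 (iv6 D15133) D15130
def n32069 : Q := act 0 n15132
theorem D32069 : act 0 n15132 = n32069 := rfl
theorem F50698 : act 1 n15150 = n32069 := d15_0 (iv0 D32069) F24748 (iv2 F24761)
def n32070 : Q := act 1 n15132
theorem D32070 : act 1 n15132 = n32070 := rfl
theorem F50699 : act 1 n32070 = n15150 := d15_1 D32070 (iv7 D15150) (iv2 F24747)
def n32071 : Q := act 4 n15132
theorem D32071 : act 4 n15132 = n32071 := rfl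
theorem F50700 : act 2 n32071 = n15148 := d1_1 D32071 (iv4 D15148) (iv2 F24747)
theorem F50701 : act 7 n32071 = n15164 := d11_2 (iv7 F24748) D32071 (iv4 D15164)
def n32072 : Q := act 6 n15132
theorem D32072 : act 6 n15132 = n32072 := rfl
theorem F50702 : act 2 n32072 = n15149 := d3_1 D32072 (iv6 D15149) (iv2 F24747)
def n32075 : Q := act 5 n15133
theorem D32075 : act 5 n15133 = n32075 := rfl
theorem F50705 : act 0 n32075 = n16666 := d21_7 (iv5 F27176) (iv1 F9795) (iv5 D3444) (iv6 F5303) F24779 D15133 D32075 (iv5 D16666) (iv6 D7753) (iv1 F27162)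
def n32076 : Q := act 7 n15133
theorem D32076 : act 7 n15133 = n32076 := rfl
theorem F50707 : act 6 n32076 = n15169 := d14_1 D32076 (iv7 D15169) (iv6 D7199) F11519 D15133
def n32077 : Q := act 0 n15137
theorem D32077 : act 0 n15137 = n32077 := rfl
def n32078 : Q := act 1 n15137
theorem D32078 : act 1 n15137 = n32078 := rfl
def n32079 : Q := act 4 n15137
theorem D32079 : act 4 n15137 = n32079 := rfl
def n32080 : Q := act 6 n15137
theorem D32080 : act 6 n15137 = n32080 := rfl
theorem F50711 : act 3 n32080 = n15149 := d7_1 D32080 (iv6 D15149) (iv3 F24750)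
def n32084 : Q := act 5 n15140
theorem D32084 : act 5 n15140 = n32084 := rfl
theorem F50715 : act 2 n32084 = n32012 := d2_1 D32084 (iv5 D32012) F26979
theorem F50716 : act 3 n32084 = n26118 := d6_1 D32084 (iv5 D26118) (iv3 F26807)
theorem F50717 : act 7 n32084 = n31893 := d13_2 F26812 D32084 (iv5 D31893)
def n32085 : Q := act 4 n15141
theorem D32085 : act 4 n15141 = n32085 := rfl
theorem F50718 : act 2 n32085 = n26112 := d1_1 D32085 F41303 (iv2 F26815)
theorem F50719 : act 3 n32085 = n28424 := d5_1 D32085 F45964 F41495 (iv4 D26140) F26956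
theorem F50720 : act 6 n32085 = n16130 := d10_2 (iv6 F26817) D32085 (iv4 D16130)
theorem F50721 : act 7 n32085 = n28409 := d11_2 F26980 D32085 F45951
theorem F50722 : act 0 n32085 = n23839 := d20_1 D32085 F37178 D28438 F50303 F50270 F45951 F26977 F24758 (iv3 F24784) (iv1 F24754)
theorem F50723 : act 0 n28442 = n32085 := d20_1 D28442 (iv4 D32085) (iv3 F26956) (iv1 D12400) (iv3 D5902) (iv4 F5146) (iv1 F3432) (iv4 F4470) (iv3 F10527) (iv1 F22729)
def n32086 : Q := act 5 n15141
theorem D32086 : act 5 n15141 = n32086 := rfl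
theorem F50724 : act 2 n32086 = n31893 := d2_1 D32086 (iv5 D31893) (iv2 F26815)
theorem F50725 : act 3 n32086 = n26141 := d6_1 D32086 (iv5 D26141) F26956
theorem F50726 : act 7 n32086 = n32012 := d13_2 F26980 D32086 (iv5 D32012)
def n32087 : Q := act 5 n15142
theorem D32087 : act 5 n15142 = n32087 := rfl
theorem F50727 : act 2 n32087 = n32067 := d2_1 D32087 (iv5 D32067) F24776
theorem F50728 : act 3 n32087 = n15143 := d6_1 D32087 (iv5 D15143) D15142
theorem F50729 : act 0 n32087 = n31617 := d17_2 F24775 D32087 (iv5 D31617) (iv4 D14876) D14877 (iv0 F50473) (iv5 D14987) F20622 (iv4 F24765)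
theorem E5279 : n16651 = n15337 := ((c21_5 D32087 F50729 (iv5 D31617) (iv6 F50470) D15337 (iv6 D16651) (iv5 F25813) (iv1 F27192) (iv5 D16184) (iv6 F41334) F24775)).symm
theorem E5280 : n15630 = n7745 := (((iv3 F26835)).symm.trans (sb E5279 F27287))
theorem F50730 : act 6 n15337 = n7742 := (sb E5279 (iv6 D16651))
theorem E5281 : n16653 = n7359 := ((D16653).symm.trans (sb E5280 (iv1 D15630)))
theorem E5282 : n16654 = n8162 := ((D16654).symm.trans (sb E5280 F26738))
theorem E5283 : n16650 = n7743 := (((iv2 F27286)).symm.trans (sb E5280 (iv2 F27167)))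
theorem F50731 : act 3 n7745 = n15337 := (sb E5280 F26835)
theorem E5284 : n16652 = n7741 := (((iv4 F27289)).symm.trans (sb E5280 (iv4 F27163)))
theorem E5285 : n27752 = n16655 := (((D16655).symm.trans (sb E5280 (iv5 F44803)))).symm
theorem E5286 : n16656 = n7738 := ((D16656).symm.trans (sb E5280 (iv7 F27166)))
theorem F50732 : act 1 n7359 = n7745 := (sb E5281 (iv0 D16653))
theorem F50733 : act 0 n8162 = n7745 := (sb E5282 (iv1 D16654))
theorem F50734 : act 2 n7743 = n7745 := (sb E5283 F27286)
theorem F50735 : act 4 n7741 = n7745 := (sb E5284 F27289)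
theorem F50736 : act 6 n7741 = n7743 := (sb E5284 (iv6 D16652))
theorem F50737 : act 0 n16655 = n16117 := (sb E5285 (iv1 F44806))
theorem F50738 : act 1 n16655 = n16016 := (sb E5285 F44805)
theorem F50739 : act 2 n16655 = n13249 := (sb E5285 (iv2 D27752))
theorem F50740 : act 3 n16655 = n16258 := (sb E5285 F44802)
theorem F50741 : act 4 n16655 = n28606 := (sb E5285 (iv4 F46172))
theorem F50742 : act 7 n16655 = n16235 := (sb E5285 F44804)
theorem F50743 : act 7 n7738 = n7745 := (sb E5286 (iv7 D16656))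
theorem E5287 : n32068 = n15142 := (c21_6 F27153 (iv1 F27189) (iv5 D15668) (iv6 F41351) (iv1 F24797) D32068 D32087 F50729 (iv5 D31617) (iv6 F50470) D15337)
theorem E5288 : n15133 = n7192 := ((((iv3 D15142)).symm.trans (sb E5287 F50697))).symm
theorem F50744 : act 6 n15142 = n15130 := (sb E5287 (iv6 D32068))
theorem E5291 : n7194 = n7191 := (((F24783).symm.trans (sb E5288 F24749))).symm
theorem E5292 : n15138 = n3314 := ((((iv4 D7192)).symm.trans (sb E5288 F24801))).symm
theorem E5293 : n32075 = n15143 := (((D15143).symm.trans (sb E5288 D32075))).symm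
theorem E5294 : n15144 = n7190 := ((D15144).symm.trans (sb E5288 (iv6 D15133)))
theorem E5295 : n32076 = n15145 := (((D15145).symm.trans (sb E5288 D32076))).symm
theorem E5299 : n15153 = n15137 := (((D15137).symm.trans (sb E5291 D15153))).symm
theorem E5302 : n31980 = n7193 := (((D7193).symm.trans (sb E5292 F50341))).symm
theorem F50745 : act 6 n3314 = n7191 := (sb E5292 (iv6 D15138))
theorem F50746 : act 0 n15143 = n16666 := (sb E5293 F50705)
theorem E5304 : n31539 = n15132 := (((D15132).symm.trans (sb E5294 F49882))).symm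
theorem F50747 : act 6 n7190 = n7192 := (sb E5294 (iv6 D15144))
theorem F50748 : act 6 n15145 = n15169 := (sb E5295 F50707)
theorem E5305 : n32077 = n32032 := ((D32077).symm.trans (sb E5299 F50662))
theorem E5306 : n32078 = n32001 := ((D32078).symm.trans (sb E5299 F50369))
theorem E5307 : n31537 = n15146 := (((D15146).symm.trans (sb E5302 (iv1 F50340)))).symm
theorem E5308 : n15147 = n15086 := ((D15147).symm.trans (sb E5302 (iv0 D31980)))
theorem E5310 : n32069 = n14856 := ((D32069).symm.trans (sb E5304 (iv1 D31539)))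
theorem E5311 : n32070 = n31982 := ((D32070).symm.trans (sb E5304 F50352))
theorem E5312 : n31981 = n7198 := (((F24748).symm.trans (sb E5304 (iv7 F50344)))).symm
theorem F50749 : act 1 n32032 = n15137 := (sb E5305 (iv0 D32077))
theorem F50750 : act 0 n32001 = n15137 := (sb E5306 (iv1 D32078))
theorem F50751 : act 2 n15146 = n14856 := (sb E5307 F49880)
theorem F50752 : act 3 n15146 = n17416 := (sb E5307 F49881)
theorem F50753 : act 5 n15146 = n14855 := (sb E5307 (iv5 D31537))
theorem F50754 : act 7 n15146 = n31982 := (sb E5307 (iv7 F50350))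
theorem F50755 : act 0 n15086 = n7193 := (sb E5308 (iv1 D15147))
theorem F50756 : act 0 n14856 = n15150 := (sb E5310 (iv1 F50698))
theorem F50757 : act 1 n14856 = n15132 := (sb E5310 (iv0 D32069))
theorem F50758 : act 0 n31982 = n15132 := (sb E5311 (iv1 D32070))
theorem F50759 : act 1 n31982 = n15150 := (sb E5311 F50699)
theorem F50760 : act 0 n7198 = n15086 := (sb E5312 (iv1 D31981))
theorem E5313 : n31557 = n13562 := (c17_7 (iv1 F11518) D7198 F50760 F24708 F20501 D14861 D31557 (iv5 D13562) F22725 F22723)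
theorem E5314 : n28415 = n14861 := (((iv1 F45959)).symm.trans (sb E5313 (iv1 D31557)))
theorem E5315 : n31855 = n28414 := (((F45962).symm.trans (sb E5313 F50153))).symm
theorem E5316 : n31556 = n13557 := ((D31556).symm.trans (sb E5314 (iv1 D28415)))
theorem F50761 : act 1 n14861 = n13562 := (sb E5314 F45959)
theorem F50762 : act 2 n28414 = n14997 := (sb E5315 (iv2 D31855))
theorem F50763 : act 3 n28414 = n31572 := (sb E5315 F50144)
theorem F50764 : act 5 n28414 = n26052 := (sb E5315 F50145)
theorem F50765 : act 7 n28414 = n31555 := (sb E5315 F50146)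
theorem F50766 : act 1 n13557 = n14861 := (sb E5316 (iv0 D31556))
theorem E5317 : n28412 = n6454 := ((((iv5 D13557)).symm.trans (sb E5316 (iv5 F50149)))).symm
theorem E5318 : n13558 = n13556 := (((D13556).symm.trans (sb E5317 F45955))).symm
theorem E5321 : n28403 = n28401 := ((((iv2 F45941)).symm.trans (sb E5318 (iv2 F45947)))).symm
theorem E5322 : n28410 = n28407 := ((D28410).symm.trans (sb E5318 (iv3 F45949)))
theorem E5323 : n28421 = n28411 := (((D28411).symm.trans (sb E5318 D28421))).symm
theorem F50767 : act 6 n13556 = n6454 := (sb E5318 (iv6 D13558))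
theorem F50768 : act 6 n28401 = n13554 := (sb E5321 (iv6 D28403))
theorem F50769 : act 0 n28407 = n14978 := (sb E5322 F45954)
theorem F50770 : act 1 n28407 = n32021 := (sb E5322 (iv0 F50397))
theorem F50771 : act 3 n28407 = n13556 := (sb E5322 (iv3 D28410))
theorem F50772 : act 1 n28411 = n31794 := (sb E5323 (iv0 F50094))
theorem F50773 : act 5 n29573 = n16306 := d21_6 D7198 F50760 F24708 F20502 D14048 D29573 (iv1 F50694) (iv5 D32066) (iv6 D15127) (iv1 F11518)
theorem E5325 : n16144 = n7584 := (c21_10 D7585 D16306 (iv5 F50773) (iv6 D29573) (iv1 F23441) (iv6 F26737) (iv5 F26861) F26858 F25679 D16144 (iv1 D7584))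
theorem E5326 : n16301 = n7555 := (((iv2 F25837)).symm.trans (sb E5325 F25690))
theorem E5327 : n16302 = n16187 := ((D16302).symm.trans (sb E5325 (iv3 F25720)))
theorem E5328 : n16303 = n7547 := ((D16303).symm.trans (sb E5325 F25691))
theorem E5329 : n16305 = n7537 := ((D16305).symm.trans (sb E5325 (iv6 D16144)))
theorem F50774 : act 2 n7555 = n7584 := (sb E5326 F25837)
theorem E5330 : n16199 = n7583 := ((D16199).symm.trans (sb E5326 (iv7 D16301)))
theorem F50775 : act 0 n16187 = n15657 := (sb E5327 F27209)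
theorem F50776 : act 1 n16187 = n31924 := (sb E5327 F50246)
theorem F50777 : act 3 n16187 = n7584 := (sb E5327 (iv3 D16302))
theorem E5331 : n16181 = n15876 := ((D16181).symm.trans (sb E5328 (iv1 F26984)))
theorem E5332 : n16182 = n12579 := ((D16182).symm.trans (sb E5328 (iv0 F26983)))
theorem E5333 : n15196 = n7555 := (((F11809).symm.trans (sb E5328 (iv3 F25838)))).symm
theorem F50778 : act 4 n7547 = n7584 := (sb E5328 (iv4 D16303))
theorem F50779 : act 6 n7537 = n7584 := (sb E5329 (iv6 D16305))
theorem E5334 : n16180 = n15874 := ((((iv3 F27007)).symm.trans (sb E5330 F25759))).symm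
theorem E5335 : n16298 = n7561 := ((D16298).symm.trans (sb E5330 F25760))
theorem E5336 : n16300 = n16126 := ((D16300).symm.trans (sb E5330 F25761))
theorem F50780 : act 7 n7583 = n7555 := (sb E5330 (iv7 D16199))
theorem F50781 : act 1 n15876 = n7547 := (sb E5331 (iv0 D16181))
theorem F50782 : act 0 n12579 = n7547 := (sb E5332 (iv1 D16182))
theorem E5337 : n16196 = n7519 := ((D16196).symm.trans (sb E5333 (iv1 F24815)))
theorem E5338 : n16197 = n7208 := ((D16197).symm.trans (sb E5333 (iv0 D15196)))
theorem E5340 : n26373 = n7559 := (((iv1 F42090)).symm.trans (sb E5334 (iv1 F25706)))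
theorem E5341 : n7558 = n7447 := ((((iv0 D15874)).symm.trans (sb E5334 F25707))).symm
theorem F50783 : act 2 n15874 = n7561 := (sb E5334 F25704)
theorem F50784 : act 6 n15874 = n7546 := (sb E5334 (iv6 D16180))
theorem F50785 : act 7 n15874 = n7547 := (sb E5334 F25705)
theorem F50786 : act 0 n7561 = n12579 := (sb E5335 F27009)
theorem F50787 : act 1 n7561 = n15876 := (sb E5335 F42091)
theorem F50788 : act 4 n7561 = n7583 := (sb E5335 (iv4 D16298))
theorem F50789 : act 6 n16126 = n7583 := (sb E5336 (iv6 D16300))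
theorem F50790 : act 1 n7519 = n7555 := (sb E5337 (iv0 D16196))
theorem F50791 : act 0 n7208 = n7555 := (sb E5338 (iv1 D16197))
theorem F50792 : act 1 n7559 = n15874 := (sb E5340 F42090)
theorem E5342 : n16212 = n12579 := (((iv2 F25765)).symm.trans (sb E5340 (iv2 D26373)))
theorem E5343 : n16213 = n12681 := ((D16213).symm.trans (sb E5340 F42086))
theorem E5344 : n16214 = n15858 := ((D16214).symm.trans (sb E5340 F42087))
theorem E5345 : n16216 = n15101 := ((D16216).symm.trans (sb E5340 F42088))
theorem E5346 : n16207 = n15876 := ((F25764).symm.trans (sb E5340 F42089))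
theorem F50793 : act 1 n7447 = n3441 := (sb E5341 (iv0 D7558))
theorem F50794 : act 2 n12579 = n7559 := (sb E5342 F25765)
theorem F50795 : act 3 n12681 = n7559 := (sb E5343 (iv3 D16213))
theorem F50796 : act 4 n15858 = n7559 := (sb E5344 (iv4 D16214))
theorem F50797 : act 6 n15101 = n7559 := (sb E5345 (iv6 D16216))
theorem F50798 : act 7 n15876 = n7559 := (sb E5346 (iv7 F25764))
theorem E5351 : n29580 = n16115 := (c21_2 D29107 (iv1 F47469) (iv5 D16115) (iv6 D7525) (iv1 F11795) D3449 D7585 D16306 (iv5 F50773) (iv6 D29573) (iv1 F23441))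
theorem F50799 : act 0 n16115 = n14051 := (sb E5351 (iv1 D29580))
theorem F50800 : act 1 n16115 = n29107 := (sb E5351 F47469)
theorem E5352 : n29579 = n16179 := (c15_2 F50800 F47468 (iv7 D16179) (iv2 F25630))
theorem F50801 : act 0 n16179 = n29107 := (sb E5352 (iv1 F47468))
theorem F50802 : act 1 n16179 = n14051 := (sb E5352 (iv0 D29579))
theorem E5353 : n16619 = n16125 := (c17_3 (iv1 D7725) D7727 D16619 (iv5 D16125) (iv4 F11818) D16115 F50800 (iv5 D29107) F23441 F26821)
theorem F50803 : act 1 n16125 = n7727 := (sb E5353 (iv0 D16619))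
theorem F50804 : act 7 n16620 = n16142 := d15_2 F50803 D16620 F25684
theorem F50805 : act 5 n16143 = n16620 := d13_3 F50804 (iv5 D16142) D16143
theorem F50806 : act 6 n15197 = n16143 := d21_5 (iv5 F25818) (iv1 F9799) F9797 D7519 (iv1 F24816) F50805 (iv1 D16620) (iv5 D7727) F5517 D3512
theorem E5354 : n16296 = n15197 := (c3_4 F50806 F25685 F50789 D16296)
theorem F50807 : act 2 n15197 = n7583 := (sb E5354 (iv2 D16296))
theorem F50808 : act 7 n15197 = n7584 := (sb E5354 (iv7 F25835))
theorem E5355 : n26046 = n16611 := (c21_11 F27101 (iv1 D15173) (iv5 D7202) F5303 F11796 D7525 D16115 F50799 (iv5 D14051) (iv6 F20502) D26046)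
theorem F50809 : act 0 n16611 = n14855 := (sb E5355 (iv1 F41169))
theorem F50810 : act 1 n16611 = n12344 := (sb E5355 (iv0 D26046))
theorem E5356 : n31534 = n29102 := ((((iv3 F46752)).symm.trans (sb E5355 F49877))).symm
theorem E5357 : n29577 = n16665 := (((iv4 F47462)).symm.trans (sb E5355 F41168))
theorem F50811 : act 0 n29102 = n16635 := (sb E5356 (iv1 F49879))
theorem F50812 : act 1 n29102 = n16624 := (sb E5356 (iv0 F49876))
theorem E5358 : n15184 = n14854 := ((F46753).symm.trans (sb E5356 (iv4 D31534)))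
theorem F50813 : act 2 n16665 = n29102 := (sb E5357 F50000)
theorem F50814 : act 4 n16665 = n16611 := (sb E5357 F47462)
theorem F50815 : act 6 n16665 = n14049 := (sb E5357 (iv6 D29577))
theorem E5359 : n31532 = n16611 := (((iv2 F49875)).symm.trans (sb E5358 F49999))
theorem F50816 : act 4 n14854 = n29102 := (sb E5358 (iv4 F46753))
theorem E5360 : n31535 = n7204 := ((D31535).symm.trans (sb E5358 (iv5 D15184)))
theorem E5361 : n31536 = n16609 := ((D31536).symm.trans (sb E5358 (iv6 F49989)))
theorem F50817 : act 2 n16611 = n14854 := (sb E5359 F49875)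
theorem E5362 : n15179 = n14853 := (((iv7 F50003)).symm.trans (sb E5359 (iv7 D31532)))
theorem F50818 : act 5 n7204 = n14854 := (sb E5360 (iv5 D31535))
theorem F50819 : act 6 n16609 = n14854 := (sb E5361 (iv6 D31536))
theorem E5363 : n31530 = n7203 := ((D31530).symm.trans (sb E5362 (iv5 D15179)))
theorem F50820 : act 7 n14853 = n16611 := (sb E5362 F50003)
theorem F50821 : act 5 n7203 = n14853 := (sb E5363 (iv5 D31530))
theorem F50822 : act 5 n31528 = n15172 := d2_2 F50821 D31528 F50004
theorem F50823 : act 5 n16664 = n15177 := d6_2 F50821 F41171 (iv3 D15177)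
theorem E5364 : n28452 = n26050 := ((c17_1 D26050 (iv5 D28452) (iv1 F45932) (iv5 D28396) F22723 D15126 F24737 F50821 (iv0 D14853) (iv4 F20506))).symm
theorem F50824 : act 5 n26050 = n13567 := (sb E5364 (iv5 D28452))
theorem E5365 : n28668 = n6482 := (c21_6 F50824 (iv1 F45932) (iv5 D28396) D28397 (iv1 F45936) D28668 D13623 F25750 (iv5 D15543) (iv6 F26489) D26050)
theorem E5366 : n13663 = n13624 := (((D13624).symm.trans (sb E5365 (iv6 D28668)))).symm
theorem E5367 : n28576 = n6493 := ((D28576).symm.trans (sb E5366 (iv1 D13663)))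
theorem E5368 : n28577 = n28397 := ((D28577).symm.trans (sb E5366 F45936))
theorem E5369 : n28664 = n28531 := ((((iv2 F46100)).symm.trans (sb E5366 (iv2 F46220)))).symm
theorem E5370 : n26355 = n16876 := ((((iv3 F27636)).symm.trans (sb E5366 (iv3 F50283)))).symm
theorem E5371 : n26350 = n6484 := (((F22800).symm.trans (sb E5366 (iv4 F50282)))).symm
theorem E5373 : n28660 = n28579 := (((D28579).symm.trans (sb E5366 F46219))).symm
theorem F50825 : act 1 n6493 = n13624 := (sb E5367 (iv0 D28576))
theorem F50826 : act 0 n28397 = n13624 := (sb E5368 (iv1 D28577))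
theorem F50827 : act 7 n28531 = n13662 := (sb E5369 (iv7 D28664))
theorem F50828 : act 0 n16876 = n15850 := (sb E5370 (iv1 F42043))
theorem F50829 : act 1 n16876 = n12571 := (sb E5370 (iv0 D26355))
theorem E5374 : n13627 = n12569 := ((D13627).symm.trans (sb E5371 (iv1 D26350)))
theorem E5375 : n15858 = n13628 := (((D13628).symm.trans (sb E5371 F42034))).symm
theorem F50830 : act 2 n28579 = n13662 := (sb E5373 (iv2 D28660))
theorem E5376 : n28559 = n26349 := (((D26349).symm.trans (sb E5374 (iv1 F46122)))).symm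
theorem F50831 : act 1 n12569 = n6484 := (sb E5374 (iv0 D13627))
theorem E5377 : n28587 = n26351 := (((D26351).symm.trans (sb E5374 D28587))).symm
theorem E5382 : n28592 = n7436 := (((F20935).symm.trans (sb E5374 D28592))).symm
theorem E5383 : n28593 = n26357 := ((D28593).symm.trans (sb E5375 (iv3 F42044)))
theorem E5384 : n28594 = n7559 := ((D28594).symm.trans (sb E5375 F50796))
theorem E5385 : n28596 = n28409 := ((D28596).symm.trans (sb E5375 (iv6 F45953)))
theorem F50832 : act 0 n26349 = n13628 := (sb E5376 (iv1 F46121))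
theorem F50833 : act 2 n26349 = n13630 := (sb E5376 F46119)
theorem F50834 : act 6 n26349 = n13615 := (sb E5376 (iv6 D28559))
theorem F50835 : act 7 n26349 = n13616 := (sb E5376 F46120)
theorem F50836 : act 7 n26351 = n13628 := (sb E5377 (iv7 F46159))
theorem F50837 : act 2 n7436 = n13628 := (sb E5382 F46160)
theorem F50838 : act 3 n26357 = n13628 := (sb E5383 (iv3 D28593))
theorem F50839 : act 4 n7559 = n13628 := (sb E5384 (iv4 D28594))
theorem F50840 : act 6 n28409 = n13628 := (sb E5385 (iv6 D28596))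
theorem F50841 : act 2 n28595 = n15859 := d2_3 (iv5 D15859) F50837 D28595
theorem E5386 : n28663 = n28530 := ((c10_2 F50834 (iv4 F46099) (iv6 D28663) F42093)).symm
theorem F50842 : act 6 n28530 = n13662 := (sb E5386 (iv6 D28663))
theorem E5387 : n29269 = n28558 := ((c21_7 (iv5 F37310) (iv1 F37312) F25798 (iv6 F26512) D26349 F50834 (iv5 F46118) (iv1 F47830) F47828 F45530 (iv1 F28404))).symm
theorem F50843 : act 0 n28558 = n29748 := (sb E5387 (iv1 F47830))
theorem F50844 : act 1 n28558 = n13913 := (sb E5387 (iv0 D29269))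
theorem F50845 : act 4 n16113 = n28509 := d17_9 (iv1 F46068) (iv5 F46118) F50843 F47828 F45529 D29107 (iv0 F50801) F25703 F25633
theorem E5388 : n29270 = n28511 := ((c15_4 F47832 (iv0 F50843) (iv7 D28558) (iv2 F46065))).symm
theorem F50846 : act 0 n28511 = n13913 := (sb E5388 (iv1 D29270))
theorem F50847 : act 1 n28511 = n29748 := (sb E5388 F47832)
theorem E5389 : n15281 = n15279 := (c21_4 (iv5 F10560) (iv1 F22804) F25825 D15281 (iv1 F28403) (iv6 F45530) (iv5 F47828) (iv1 F50847) (iv5 D28511) (iv6 D13594) (iv1 F37248))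
theorem E5390 : n16483 = n16482 := ((((iv2 F42910)).symm.trans (sb E5389 F42942))).symm
theorem F50848 : act 6 n15279 = n7236 := (sb E5389 (iv6 D15281))
theorem F50849 : act 6 n16482 = n7641 := (sb E5390 (iv6 D16483))
theorem E5391 : n16963 = n16481 := ((c7_2 F50849 D16481 (iv6 D16963) (iv3 F25995))).symm
theorem E5392 : n15519 = n15312 := ((F42940).symm.trans (sb E5391 F42937))
theorem F50850 : act 6 n16481 = n7920 := (sb E5391 (iv6 D16963))
theorem F50851 : act 0 n15312 = n7328 := (sb E5392 (iv1 D15519))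
theorem F50852 : act 1 n15312 = n16924 := (sb E5392 F27754)
theorem F50853 : act 2 n15312 = n16481 := (sb E5392 (iv2 F42940))
theorem F50854 : act 3 n15312 = n26299 := (sb E5392 F41891)
theorem F50855 : act 4 n15312 = n26998 := (sb E5392 F43598)
theorem F50856 : act 5 n15312 = n28622 := (sb E5392 (iv5 F46191))
theorem F50857 : act 7 n15312 = n17428 := (sb E5392 F42876)
theorem F50858 : act 6 n28630 = n16275 := d12_4 F50849 F25822 D13652 D28630 (iv5 F25994)
theorem E5393 : n28529 = n24399 := ((c21_8 D28521 F46086 (iv5 F25994) F50849 (iv1 D7641) (iv6 F8172) D11503 D24399 (iv5 D28529) (iv6 D13605) D13601)).symm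
theorem F50859 : act 5 n24399 = n13605 := (sb E5393 (iv5 D28529))
theorem E5394 : n28560 = n26351 := (c21_5 (iv5 F11674) (iv1 F37252) F22793 D13616 D28560 F42031 D28521 F46086 (iv5 F25994) F50849 (iv1 D7641))
theorem E5395 : n15857 = n13630 := (((iv1 F42035)).symm.trans (sb E5394 (iv1 F46123)))
theorem E5396 : n15856 = n13616 := ((F42033).symm.trans (sb E5394 (iv0 D28560)))
theorem E5397 : n28561 = n7436 := (((iv1 F46124)).symm.trans (sb E5395 (iv1 D15857)))
theorem F50860 : act 1 n13630 = n26351 := (sb E5395 F42035)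
theorem E5398 : n28574 = n16883 := (((iv3 F46154)).symm.trans (sb E5395 (iv3 F45995)))
theorem E5399 : n28579 = n28470 := (((iv4 F46155)).symm.trans (sb E5395 F45994))
theorem F50861 : act 0 n13616 = n26351 := (sb E5396 (iv1 F42033))
theorem E5400 : n28531 = n28469 := (((iv4 F46101)).symm.trans (sb E5396 (iv4 F45991)))
theorem F50862 : act 0 n7436 = n13616 := (sb E5397 (iv1 D28561))
theorem F50863 : act 1 n7436 = n13630 := (sb E5397 F46124)
theorem F50864 : act 3 n16883 = n13630 := (sb E5398 F46154)
theorem F50865 : act 7 n16883 = n13622 := (sb E5398 (iv7 D28574))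
theorem F50866 : act 2 n28470 = n13662 := (sb E5399 F50830)
theorem F50867 : act 4 n28470 = n13630 := (sb E5399 F46155)
theorem F50868 : act 7 n28470 = n13624 := (sb E5399 (iv7 D28579))
theorem F50869 : act 2 n28469 = n13624 := (sb E5400 F46100)
theorem F50870 : act 4 n28469 = n13616 := (sb E5400 F46101)
theorem F50871 : act 6 n28469 = n13606 := (sb E5400 (iv6 D28531))
theorem F50872 : act 7 n28469 = n13662 := (sb E5400 F50827)
theorem E5401 : n29746 = n13614 := (c21_8 D13587 (iv1 F22769) (iv5 F25822) (iv6 F50849) F27734 (iv6 F22376) (iv5 F23617) D29746 (iv5 D13614) (iv6 D6479) D6474)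
theorem E5402 : n29271 = n28555 := (((D28555).symm.trans (sb E5401 (iv1 F47826)))).symm
theorem E5403 : n28556 = n14138 := ((D28556).symm.trans (sb E5401 (iv0 D29746)))
theorem F50873 : act 0 n28555 = n29747 := (sb E5402 (iv1 F47831))
theorem F50874 : act 2 n28555 = n13913 := (sb E5402 (iv2 D29271))
theorem F50875 : act 3 n28555 = n29740 := (sb E5402 (iv3 F47812))
theorem F50876 : act 5 n28555 = n28170 := (sb E5402 F46926)
theorem F50877 : act 7 n28555 = n29748 := (sb E5402 (iv7 F47829))
theorem F50878 : act 0 n14138 = n13614 := (sb E5403 (iv1 D28556))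
theorem E5404 : n28166 = n24393 := ((c17_10 (iv1 D28166) (iv5 F23617) F50878 (iv5 D13614) (iv4 F22787) (iv5 F50859) (iv0 D24399) (iv5 D11503) D11501 D24393)).symm
theorem F50879 : act 0 n24393 = n13445 := (sb E5404 (iv1 D28166))
theorem F50880 : act 1 n24393 = n28170 := (sb E5404 F45539)
theorem F50881 : act 7 n29747 = n28511 := d15_2 (iv0 F50878) D29747 F46065
theorem F50882 : act 2 n28558 = n29747 := d4_3 F50881 F46065 D28558
theorem F50883 : act 5 n28512 = n29747 := d13_3 F50881 (iv5 D28511) D28512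
theorem E5405 : n28163 = n24392 := ((c20_4 (iv4 F45534) (iv1 F50880) (iv4 D24393) D24392 (iv1 F45545) F45541 F45529 (iv1 F23445) (iv4 F26717) (iv3 F26721) (iv1 F23444))).symm
theorem F50884 : act 0 n24392 = n28173 := (sb E5405 (iv1 F45545))
theorem F50885 : act 1 n24392 = n13444 := (sb E5405 (iv0 D28163))
theorem E5406 : n28457 = n26051 := ((c21_11 (iv5 D28457) (iv1 D13568) (iv5 D6457) F4469 D2884 D6479 D13614 D28555 F50876 F45535 (iv1 F41189))).symm
theorem F50886 : act 5 n26051 = n13568 := (sb E5406 (iv5 D28457))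
theorem F50887 : act 6 n26051 = n24396 := (sb E5406 (iv6 F45984))
theorem F50888 : act 0 n25684 = n15653 := d20_10 (iv4 F25579) F40675 F40672 F26612 (iv1 F9363) (iv3 F11530) (iv4 F22736) D28469 F50870 (iv3 F40607)
theorem F50889 : act 7 n16876 = n15848 := d8_2 F50868 (iv3 F27636) (iv3 F45996)
theorem F50890 : act 2 n15848 = n23897 := d4_1 F50889 (iv7 D23897) F37274
theorem F50891 : act 6 n15848 = n23884 := d14_1 F50889 (iv7 D23884) (iv6 D11187) F37233 D16876
theorem E5407 : n26356 = n23897 := ((c15_4 F42047 (iv0 F50828) F50889 F50890)).symm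
theorem F50892 : act 0 n23897 = n12571 := (sb E5407 (iv1 D26356))
theorem F50893 : act 1 n23897 = n15850 := (sb E5407 F42047)
theorem E5408 : n26357 = n23895 := ((c15_1 D23895 F42046 (iv7 F50889) (iv2 F37274))).symm
theorem E5409 : n15849 = n11192 := ((((iv1 D23895)).symm.trans (sb E5408 (iv1 F42048)))).symm
theorem F50894 : act 1 n23895 = n15848 := (sb E5408 F42046)
theorem F50895 : act 2 n23895 = n12571 := (sb E5408 (iv2 D26357))
theorem F50896 : act 3 n23895 = n13628 := (sb E5408 F50838)
theorem F50897 : act 4 n23895 = n31944 := (sb E5408 (iv4 F50277))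
theorem F50898 : act 6 n23895 = n31942 := (sb E5408 F50272)
theorem F50899 : act 7 n23895 = n15850 := (sb E5408 F42045)
theorem E5410 : n23894 = n7431 := ((D23894).symm.trans (sb E5409 (iv1 D15849)))
theorem F50900 : act 1 n7431 = n11192 := (sb E5410 (iv0 D23894))
theorem E5411 : n25687 = n25620 := (c20_8 F5416 (iv1 F5545) (iv4 F11585) D7436 F50862 (iv3 F40607) F40608 D25687 F40519 (iv3 D12577) F12677)
theorem F50901 : act 1 n25620 = n12203 := (sb E5411 (iv0 D25687))
theorem E5412 : n26548 = n25688 := ((c15_2 F50901 D25688 F42503 (iv2 F40518))).symm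
theorem F50902 : act 2 n25688 = n15882 := (sb E5412 F42501)
theorem F50903 : act 3 n25688 = n31944 := (sb E5412 (iv3 F50276))
theorem F50904 : act 4 n25688 = n12681 := (sb E5412 (iv4 D26548))
theorem F50905 : act 6 n25688 = n15102 := (sb E5412 F42502)
theorem F50906 : act 7 n25688 = n16019 := (sb E5412 F42503)
theorem F50907 : act 3 n18992 = n28630 := d7_3 F50858 F25831 D18992
theorem F50908 : act 4 n16277 = n28630 := d10_3 F50858 (iv4 D16275) D16277
theorem F50909 : act 5 n28624 = n18992 := d6_0 F50907 (iv5 D28630) (iv3 F46195)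
theorem F50910 : act 6 n26998 = n15310 := d10_2 D15312 F50855 (iv4 D15310)
theorem F50911 : act 6 n16962 = n16977 := d3_2 F50910 F42931 (iv2 F43599)
theorem F50912 : act 6 n25535 = n16913 := d7_2 F50910 (iv3 F40362) (iv3 F43600)
theorem F50913 : act 6 n26299 = n15309 := d7_2 D15312 F50854 (iv3 D15309)
theorem F50914 : act 6 n26292 = n15278 := d3_2 F50913 (iv2 F42916) (iv2 F42881)
theorem F50915 : act 6 n26848 = n15240 := d10_2 F50913 (iv4 F43254) (iv4 F41888)
theorem F50916 : act 0 n28406 = n31615 := d21_1 D28406 (iv5 D31615) (iv6 F50465) (iv1 F40395) (iv6 F50913) (iv5 F41890) (iv1 F46073) (iv5 D28513) (iv6 F50396) (iv1 D28404)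
theorem E5413 : n26705 = n17408 := (c3_3 F50915 F42877 D26705 F43256)
theorem F50917 : act 6 n17408 = n12762 := (sb E5413 (iv6 D26705))
theorem E5414 : n25714 = n25682 := ((c21_4 D26851 (iv1 F43270) (iv5 D25681) D25682 (iv1 D25714) (iv6 D12212) (iv5 F20207) (iv1 F40611) F40612 (iv6 F50915) (iv1 F43255))).symm
theorem F50918 : act 0 n25682 = n12212 := (sb E5414 (iv1 D25714))
theorem F50919 : act 1 n25682 = n16075 := (sb E5414 F40632)
theorem F50920 : act 0 n25680 = n16019 := d21_4 D12764 (iv1 F40599) F40597 D25680 (iv6 D16019) D16018 (iv1 F42109) (iv5 F41869) F50917 (iv1 D12762)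
theorem F50921 : act 0 n29612 = n25678 := d21_7 D25658 (iv1 F40554) (iv5 F27035) (iv6 F50917) (iv1 D17408) F26888 D29612 (iv5 D25678) (iv6 D12198) D12193
theorem F50922 : act 1 n25680 = n15882 := d15_1 (iv0 F50920) (iv7 F40521) F40518
theorem F50923 : act 1 n15882 = n25690 := d15_1 F50922 (iv7 D25690) (iv2 F40600)
theorem F50924 : act 1 n25690 = n16019 := d15_1 F50923 (iv7 F50906) F50902
theorem E5415 : n31861 = n23841 := ((c21_1 D23841 (iv1 F50162) (iv5 D31572) F27755 (iv1 F50852) (iv6 D15312) (iv5 F37308) (iv1 D11195) (iv5 D5124) (iv6 F7632) D11175)).symm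
theorem F50925 : act 0 n23841 = n31572 := (sb E5415 (iv1 F50162))
theorem F50926 : act 1 n23841 = n14999 := (sb E5415 (iv0 D31861))
theorem E5416 : n28438 = n23842 := (c21_5 F50856 (iv1 F46192) F25793 (iv6 F26511) (iv1 F50304) (iv6 D23842) D23841 F50925 (iv5 D31572) F27755 (iv1 F50852))
theorem F50927 : act 0 n23842 = n31942 := (sb E5416 F50303)
theorem F50928 : act 1 n23842 = n15007 := (sb E5416 F50304)
theorem F50929 : act 3 n23842 = n13564 := (sb E5416 (iv3 D28438))
theorem E5418 : n29277 = n23883 := (c21_8 (iv5 F13868) (iv1 F18161) F37308 D15312 F50851 (iv6 F26480) (iv5 F23176) D29277 (iv5 D23883) (iv6 D11187) (iv1 F12435))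
theorem F50931 : act 0 n23883 = n29740 := (sb E5418 (iv1 F47815))
theorem F50932 : act 1 n23883 = n13915 := (sb E5418 (iv0 D29277))
theorem E5419 : n28571 = n16882 := (c21_5 D15521 F46145 (iv5 D13621) D13622 D28571 (iv6 D16882) (iv5 F13868) (iv1 F18161) F37308 D15312 F50851)
theorem F50933 : act 1 n16882 = n13622 := (sb E5419 (iv0 D28571))
theorem E5420 : n28572 = n16886 := (c15_2 F50933 D28572 (iv7 D16886) (iv2 F27648))
theorem F50934 : act 0 n16886 = n13622 := (sb E5420 (iv1 D28572))
theorem E5421 : n31570 = n23852 := (c21_1 D31570 (iv1 D23852) (iv5 D11178) F7632 D5121 D11187 D23883 F50931 F47813 F45528 (iv1 F39938))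
theorem F50935 : act 5 n23852 = n14864 := (sb E5421 (iv5 D31570))
theorem E5422 : n31571 = n24309 := ((c21_5 D11186 (iv1 F43059) (iv5 D15314) (iv6 F18711) D24309 (iv6 D31571) (iv5 F50935) (iv1 D23852) (iv5 D11178) F7632 D5121)).symm
theorem F50936 : act 6 n24309 = n14864 := (sb E5422 (iv6 D31571))
theorem F50937 : act 5 n23848 = n31577 := d21_0 (iv1 D31577) (iv5 D14867) (iv6 F12954) F27735 F50850 F25996 (iv1 F18159) (iv5 D11193) (iv6 F18139) D23848
theorem F50938 : act 5 n29739 = n16881 := d21_8 (iv5 F5922) D8897 (iv5 F25996) (iv6 F50850) (iv1 F27736) (iv6 F45543) (iv5 F46928) (iv1 F47816) (iv6 D16881) (iv1 D7866)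
theorem F50939 : act 2 n23883 = n29739 := d2_3 F50938 F37239 D23883
theorem F50940 : act 7 n29738 = n23883 := d15_2 F47816 F47811 F50939
theorem F50941 : act 7 n29278 = n29739 := d15_2 F50932 D29278 (iv2 F50939)
theorem F50942 : act 2 n29738 = n29278 := d4_3 F50941 (iv2 F50939) (iv7 F50940)
theorem F50943 : act 5 n23884 = n29738 := d13_3 F50940 (iv5 D23883) D23884
theorem E5423 : n31854 = n28439 := ((c21_1 D28439 (iv1 D31854) F24632 F26489 F25083 F50848 (iv5 F25825) (iv1 D13640) (iv5 D6487) (iv6 F10525) D13564)).symm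
theorem F50944 : act 0 n28439 = n14997 := (sb E5423 (iv1 D31854))
theorem F50945 : act 1 n28439 = n31555 := (sb E5423 F50148)
theorem F50946 : act 4 n16114 = n28510 := d17_9 (iv1 D28510) D28511 F50846 F23175 F22377 D14051 (iv0 F50799) (iv5 D16115) D16114
theorem E5424 : n31548 = n28446 := (c21_1 D31548 (iv1 D28446) (iv5 D13566) F10525 F37245 D13594 D28511 F50846 F23175 F22378 D14858)
theorem E5425 : n24390 = n14858 := (((iv5 F45978)).symm.trans (sb E5424 (iv5 D31548)))
theorem F50947 : act 5 n14858 = n28446 := (sb E5425 F45978)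
theorem E5426 : n31549 = n11500 := ((D31549).symm.trans (sb E5425 (iv6 D24390)))
theorem F50948 : act 6 n11500 = n14858 := (sb E5426 (iv6 D31549))
theorem F50949 : act 6 n31545 = n24386 := d3_2 F50948 D31545 (iv2 D24386)
theorem F50950 : act 6 n31546 = n24387 := d7_2 F50948 D31546 (iv3 D24387)
theorem F50951 : act 6 n31547 = n24388 := d10_2 F50948 D31547 (iv4 D24388)
theorem F50952 : act 7 n24395 = n31554 := d14_4 F49884 F50949 (iv7 F38241) D24395 (iv6 D31554)
theorem F50953 : act 3 n23881 = n16168 := d20_5 F50946 (iv1 D28510) F37257 F37215 D23881 (iv4 D16168) (iv1 F25635) (iv4 F25639) F25638 (iv1 F25629)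
theorem F50954 : act 0 n15177 = n32012 := d21_1 F50823 (iv5 D32012) F50797 (iv1 D7559) (iv6 D3441) D3440 F25724 F9420 D7753 D16664
theorem F50955 : act 1 n15177 = n31893 := d15_1 (iv0 F50954) (iv7 F50717) F50715
theorem E5427 : n31528 = n26047 := (c17_4 F24781 D7202 D15172 (iv5 F50822) (iv4 F41170) F50823 F50955 (iv5 D31893) F26798 F24758)
theorem F50956 : act 2 n26047 = n14853 := (sb E5427 (iv2 D31528))
theorem F50957 : act 5 n26047 = n15172 := (sb E5427 F50822)
theorem F50958 : act 7 n26047 = n14854 := (sb E5427 (iv7 F49872))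
theorem F50959 : act 7 n31533 = n31596 := d8_2 F50958 D31533 (iv3 F49921)
theorem F50960 : act 7 n29102 = n16664 := d11_2 F50958 F50816 F41170
theorem F50961 : act 2 n16664 = n31529 := d15_3 F49874 (iv0 F50811) F50960
theorem F50962 : act 7 n16665 = n31529 := d4_2 (iv7 F50960) (iv2 F50813) (iv2 F50961)
theorem F50963 : act 2 n31533 = n31595 := d15_3 (iv0 D31595) D31596 (iv7 F50959)
theorem E5428 : n31553 = n28445 := ((c17_7 (iv1 F41177) F50957 (iv1 F24802) F11529 (iv4 F10528) (iv5 F22734) F45976 (iv5 D31553) F41190 F41185)).symm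
theorem F50964 : act 5 n28445 = n14859 := (sb E5428 (iv5 D31553))
theorem F50965 : act 5 n31533 = n15182 := d6_2 F50818 D31533 (iv3 D15182)
theorem E5429 : n29578 = n16176 := ((c21_8 (iv5 F50818) (iv1 D7204) (iv5 D3317) F2574 D1509 D3436 D7545 D16176 (iv5 D29578) (iv6 F41174) (iv1 F41178))).symm
theorem F50966 : act 0 n16176 = n29109 := (sb E5429 (iv1 F47466))
theorem E5430 : n29108 = n7545 := ((((iv0 D16176)).symm.trans (sb E5429 F47467))).symm
theorem F50967 : act 2 n16176 = n14051 := (sb E5429 F47463)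
theorem F50968 : act 3 n16176 = n26530 := (sb E5429 F47464)
theorem F50969 : act 5 n16176 = n14050 := (sb E5429 (iv5 D29578))
theorem F50970 : act 7 n16176 = n29107 := (sb E5429 F47465)
theorem E5431 : n16177 = n13856 := ((D16177).symm.trans (sb E5430 (iv0 D29108)))
theorem F50971 : act 0 n13856 = n7545 := (sb E5431 (iv1 D16177))
theorem F50972 : act 1 n16142 = n16618 := d17_6 (iv1 D13854) D13856 F50971 (iv5 D7545) (iv4 F11773) D16142 (iv5 D16618) (iv0 F49992) F49995
theorem F50973 : act 7 n29109 = n16115 := d15_2 (iv0 F50971) D29109 F25630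
theorem F50974 : act 2 n16179 = n29109 := d4_3 F50973 F25630 D16179
theorem F50975 : act 5 n16116 = n29109 := d13_3 F50973 (iv5 D16115) D16116
theorem E5432 : n28547 = n7543 := (c17_10 (iv1 F25635) F50975 (iv1 D29109) (iv5 D13856) (iv4 F22375) (iv5 F23617) D29747 (iv5 F50883) F46070 D28547)
theorem E5433 : n16168 = n13612 := ((D16168).symm.trans (sb E5432 (iv4 D28547)))
theorem E5434 : n28546 = n23881 := ((D28546).symm.trans (sb E5433 (iv3 F50953)))
theorem F50976 : act 4 n13612 = n7543 := (sb E5433 (iv4 D16168))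
theorem F50977 : act 3 n23881 = n13612 := (sb E5434 (iv3 D28546))
theorem F50978 : act 4 n16166 = n28545 := d1_2 F50976 D16166 (iv2 D28545)
theorem F50979 : act 4 n16170 = n28549 := d10_3 (iv6 D28549) F50976 D16170
theorem F50980 : act 4 n16171 = n28550 := d11_3 (iv7 D28550) F50976 D16171
theorem E5435 : n28552 = n7544 := (c1_3 F50980 F46117 D28552 (iv2 F25702))
theorem E5436 : n16173 = n13613 := ((D16173).symm.trans (sb E5435 (iv4 D28552)))
theorem F50981 : act 4 n13613 = n7544 := (sb E5436 (iv4 D16173))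
theorem F50983 : act 0 n32079 = n31856 := d18_2 F50750 D32079 (iv4 D31856) F24632 F20506 D14854 F50816 F50812 (iv5 F50367)
theorem F50984 : act 6 n29575 = n31595 := d7_2 F50815 D29575 (iv3 F49917)
theorem F50985 : act 0 n16169 = n29576 := d21_1 D16169 (iv5 D29576) (iv6 F50815) (iv1 D16665) (iv6 D7753) (iv5 F9420) (iv1 F25723) (iv5 D3435) D3436 D7543
theorem F50986 : act 1 n16169 = n29572 := d15_1 (iv0 F50985) (iv7 F49996) F50007
theorem E5437 : n16170 = n15167 := (c21_4 D29572 (iv1 F50986) (iv5 D16169) D16170 (iv1 D15167) (iv6 D7199) D7198 F50760 F24708 F20502 D14048)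
theorem F50987 : act 4 n15167 = n28549 := (sb E5437 F50979)
theorem F50988 : act 6 n15167 = n7543 := (sb E5437 (iv6 D16170))
theorem F50989 : act 1 n15162 = n16666 := d17_6 F50809 (iv5 F50753) (iv1 F24763) (iv5 D7198) D7197 D15162 (iv5 D16666) D16665 F50814
theorem F50990 : act 0 n15163 = n15167 := d21_4 D16666 (iv1 F50989) (iv5 D15162) D15163 F50988 D16169 F50985 (iv5 D29576) (iv6 F50815) (iv1 D16665)
theorem F50991 : act 7 n15163 = n15155 := d15_2 D15167 (iv0 F50990) F24764
theorem F50992 : act 2 n15169 = n15163 := d4_3 F50991 F24764 D15169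
theorem F50993 : act 4 n15155 = n15169 := d11_1 F50991 (iv7 D15169) (iv4 F24769)
theorem F50994 : act 1 n15163 = n15166 := d15_0 (iv0 D15166) D15169 F50992
theorem F50995 : act 3 n16215 = n26549 := d6_3 (iv5 D26549) F50795 D16215
theorem F50996 : act 2 n26374 = n16215 := d0_5 F50995 F42504 F25356 (iv2 F20961) (iv3 F42094)
theorem E5438 : n16190 = n15898 := (c20_11 F25370 F27200 F11842 (iv3 D7629) (iv1 F11989) (iv3 F22735) F22736 F50791 F11786 (iv3 F11785) D16190)
theorem F50997 : act 1 n15898 = n7553 := (sb E5438 (iv0 D16190))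
theorem E5439 : n26339 = n16191 := ((c15_2 F50997 D16191 F42007 F25570)).symm
theorem F50998 : act 2 n16191 = n31924 := (sb E5439 (iv2 F50242))
theorem F50999 : act 3 n16191 = n26437 := (sb E5439 F42259)
theorem F51000 : act 4 n16191 = n12562 := (sb E5439 (iv4 D26339))
theorem F51001 : act 6 n16191 = n14979 := (sb E5439 F42006)
theorem F51002 : act 7 n16191 = n15657 := (sb E5439 F42007)
theorem F51003 : act 0 n16193 = n31924 := d20_10 F50244 (iv1 F41381) F20913 F26507 F11987 (iv3 F10561) F10562 D7583 (iv4 F50788) (iv3 F25742)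
theorem F51004 : act 1 n16193 = n15657 := d15_1 (iv0 F51003) (iv7 F51002) F50998
theorem F51005 : act 7 n16198 = n16299 := d13_2 F50780 D16198 (iv5 D16299)
theorem F51006 : act 2 n16304 = n16198 := d2_3 (iv5 D16198) F50774 D16304
theorem E5440 : n28436 = n28430 := (c14_5 (iv7 F45942) F50768 (iv7 F22726) D13563 D28436 (iv6 D28430))
theorem F51007 : act 7 n28430 = n13563 := (sb E5440 (iv7 D28436))
theorem E5441 : n31853 = n28443 := ((c17_2 (iv1 F22729) D28443 (iv1 F50143) (iv5 D31555) (iv4 F41173) (iv5 F50349) F50759 F24762 F24782 (iv4 F10528))).symm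
theorem F51008 : act 0 n28443 = n31555 := (sb E5441 (iv1 F50143))
theorem F51009 : act 1 n28443 = n14997 := (sb E5441 (iv0 D31853))
theorem F51010 : act 5 n32080 = n15149 := d12_3 F50745 D15137 D32080 (iv6 D15149) (iv5 D7193)
theorem F51011 : act 7 n16640 = n16645 := d14_4 F50743 (iv6 D7745) F12047 D16640 (iv6 D16645)
theorem E5442 : n16649 = n16642 := ((c4_2 F51011 F27283 (iv7 D16649) (iv2 F27145))).symm
theorem F51012 : act 7 n16642 = n7740 := (sb E5442 (iv7 D16649))
theorem F51013 : act 1 n16647 = n16645 := d15_1 D16647 (iv7 F51011) F27145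
theorem F51014 : act 1 n16645 = n16646 := d15_0 (iv0 D16646) (iv7 F51012) (iv2 F27283)
theorem E5443 : n27761 = n27753 := ((c3_3 (iv6 F27290) F50739 D27753 F44821)).symm
theorem F51015 : act 2 n27753 = n16266 := (sb E5443 F44821)
theorem F51016 : act 5 n27753 = n13252 := (sb E5443 (iv5 D27761))
theorem F51017 : act 1 n32087 = n31598 := d15_0 F50616 (iv7 F50696) (iv2 F50727)
def n32088 : Q := act 1 n15143
theorem D32088 : act 1 n15143 = n32088 := rfl
theorem F51018 : act 1 n32088 = n15162 := d15_1 D32088 (iv7 F24786) F24798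
theorem F51019 : act 7 n32088 = n32032 := d15_2 (iv0 F50746) D32088 F50660
theorem F51020 : act 5 n32088 = n28390 := d17_7 (iv1 D26047) (iv5 F24708) F50755 (iv5 D7193) D7192 D15143 D32088 F45910 F41170
theorem F51021 : act 2 n32001 = n32088 := d2_3 F51020 F45906 (iv5 F50367)
theorem F51022 : act 3 n26143 = n32088 := d6_3 F51020 (iv3 D28390) F41446
def n32089 : Q := act 4 n15143
theorem D32089 : act 4 n15143 = n32089 := rfl
theorem F51023 : act 2 n32089 = n32079 := d1_1 D32089 (iv4 D32079) F24798
theorem F51024 : act 1 n32089 = n31558 := d18_6 (iv1 D6455) F4468 D3314 D7192 D15143 D32089 (iv4 D31558) F50761 (iv5 D13562)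
def n32090 : Q := act 6 n15143
theorem D32090 : act 6 n15143 = n32090 := rfl
theorem F51025 : act 2 n32090 = n32080 := d3_1 D32090 (iv6 D32080) F24798
theorem F51026 : act 5 n32090 = n32072 := d12_1 D32090 (iv6 D32072) (iv5 D15132) F50747 D15143
def n32091 : Q := act 7 n15143
theorem D32091 : act 7 n15143 = n32091 := rfl
theorem F51027 : act 2 n32091 = n15162 := d4_1 D32091 (iv7 F24786) F24798
theorem F51028 : act 5 n32091 = n15145 := d13_1 D32091 (iv7 D15145) D15143
theorem F51029 : act 1 n32001 = n32091 := d15_1 (iv0 F50750) (iv7 D32091) (iv2 F24798)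
theorem F51030 : act 1 n32091 = n32032 := d15_1 F51029 (iv7 F51019) (iv2 F51021)
theorem F51031 : act 0 n28429 = n31794 := d17_2 (iv1 F45958) D28429 (iv5 D31794) (iv4 F27115) (iv5 F50367) F51029 F51028 (iv0 F26977) (iv4 F45951)
def n32092 : Q := act 4 n15146
theorem D32092 : act 4 n15146 = n32092 := rfl
theorem F51032 : act 2 n32092 = n31540 := d1_1 D32092 (iv4 D31540) (iv2 F50751)
def n32093 : Q := act 6 n15146
theorem D32093 : act 6 n15146 = n32093 := rfl
theorem F51033 : act 2 n32093 = n31541 := d3_1 D32093 (iv6 D31541) (iv2 F50751)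
def n32094 : Q := act 0 n15148
theorem D32094 : act 0 n15148 = n32094 := rfl
theorem F51034 : act 4 n32094 = n15295 := d18_3 F50755 D15148 D32094 (iv5 D15295) (iv4 F12056) D16665 F50814 F50810 (iv5 F24708)
def n32095 : Q := act 1 n15148
theorem D32095 : act 1 n15148 = n32095 := rfl
theorem F51035 : act 1 n32095 = n15164 := d15_1 D32095 (iv7 F50701) F50700
def n32096 : Q := act 3 n15148
theorem D32096 : act 3 n15148 = n32096 := rfl
theorem F51036 : act 0 n32096 = n24814 := d19_4 D3314 D7193 D15148 D32096 (iv5 D24814) (iv4 D11755) F8379 (iv1 F8281) F8283 F5211 (iv3 F5046) (iv1 F10190) (iv5 D2722) (iv4 F9932) (iv3 D794) (iv1 D454) D455 D800 D1466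
theorem F51037 : act 5 n28136 = n32096 := d17_1 (iv1 F45493) F51036 (iv5 D24814) (iv4 D11755) (iv5 D5495) D5493 D11749 F22243 D28025
def n32097 : Q := act 5 n15148
theorem D32097 : act 5 n15148 = n32097 := rfl
theorem F51038 : act 3 n32097 = n28136 := d6_1 D32097 F51037 (iv3 D32096)
def n32098 : Q := act 6 n15148
theorem D32098 : act 6 n15148 = n32098 := rfl
theorem F51039 : act 4 n32098 = n15149 := d10_1 D32098 (iv6 D15149) D15148
def n32099 : Q := act 7 n15148
theorem D32099 : act 7 n15148 = n32099 := rfl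
theorem F51040 : act 2 n32099 = n15164 := d4_1 D32099 (iv7 F50701) F50700
theorem F51041 : act 4 n32099 = n15150 := d11_1 D32099 (iv7 D15150) D15148
theorem F51042 : act 1 n15164 = n32094 := d15_0 (iv0 D32094) D32099 F51040
def n32100 : Q := act 0 n15149
theorem D32100 : act 0 n15149 = n32100 := rfl
def n32101 : Q := act 1 n15149
theorem D32101 : act 1 n15149 = n32101 := rfl
def n32102 : Q := act 7 n15149
theorem D32102 : act 7 n15149 = n32102 := rfl
def n32103 : Q := act 6 n15150
theorem D32103 : act 6 n15150 = n32103 := rfl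
theorem F51043 : act 2 n32103 = n15165 := d3_1 D32103 (iv6 D15165) (iv2 F24761)
def n32104 : Q := act 0 n15155
theorem D32104 : act 0 n15155 = n32104 := rfl
theorem F51044 : act 1 n15169 = n32104 := d15_0 (iv0 D32104) (iv7 F50991) (iv2 F50992)
def n32105 : Q := act 1 n15155
theorem D32105 : act 1 n15155 = n32105 := rfl
theorem F51045 : act 1 n32105 = n15169 := d15_1 D32105 (iv7 D15169) (iv2 F24764)
def n32106 : Q := act 5 n15155
theorem D32106 : act 5 n15155 = n32106 := rfl
theorem F51046 : act 2 n32106 = n15168 := d2_1 D32106 (iv5 D15168) (iv2 F24764)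
def n32107 : Q := act 5 n15156
theorem D32107 : act 5 n15156 = n32107 := rfl
theorem F51047 : act 2 n32107 = n31835 := d2_1 D32107 (iv5 D31835) F41350
theorem F51048 : act 7 n32107 = n31828 := d13_2 (iv7 F41362) D32107 (iv5 D31828)
theorem F51049 : act 1 n32107 = n15182 := d17_6 (iv1 D12370) D12372 D26104 F50426 (iv4 F24765) D32107 (iv5 F50965) (iv0 F49918) (iv4 D26100)
theorem F51050 : act 1 n15182 = n31923 := d15_1 F51049 F50241 (iv2 F51047)
def n32108 : Q := act 5 n15158
theorem D32108 : act 5 n15158 = n32108 := rfl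
theorem F51051 : act 2 n32108 = n15160 := d2_1 D32108 (iv5 D15160) D15158
theorem F51052 : act 3 n32108 = n32091 := d6_1 D32108 F51028 (iv3 F24789)
theorem F51053 : act 7 n32108 = n32087 := d13_2 F24793 D32108 (iv5 D32087)
theorem F51054 : act 1 n15160 = n31617 := d15_0 (iv0 F50729) (iv7 F51053) F51051
def n32109 : Q := act 6 n15158
theorem D32109 : act 6 n15158 = n32109 := rfl
theorem F51055 : act 2 n32109 = n15161 := d3_1 D32109 (iv6 D15161) D15158
theorem F51056 : act 3 n32109 = n15169 := d7_1 D32109 (iv6 F50748) (iv3 F24789)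
theorem F51057 : act 4 n32109 = n15161 := d10_1 D32109 (iv6 D15161) (iv4 F24791)
theorem F51058 : act 7 n32109 = n15161 := d14_2 F24793 D32109 (iv6 D15161) (iv7 F24744) (iv6 F50744)
def n32110 : Q := act 4 n15160
theorem D32110 : act 4 n15160 = n32110 := rfl
theorem F51059 : act 1 n32110 = n31841 := d18_6 D7130 D14979 (iv1 F24790) F24791 D15160 D32110 (iv4 D31841) (iv0 D14989) (iv5 D7133)
theorem F51060 : act 1 n31844 = n32110 := d15_0 F51059 (iv7 F50620) F50614
def n32111 : Q := act 6 n15160
theorem D32111 : act 6 n15160 = n32111 := rfl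
theorem F51061 : act 3 n32111 = n15165 := d7_1 D32111 (iv6 D15165) (iv3 F24767)
def n32112 : Q := act 0 n15161
theorem D32112 : act 0 n15161 = n32112 := rfl
theorem F51062 : act 1 n15161 = n32112 := d15_0 (iv0 D32112) (iv7 F51058) F51055
def n32113 : Q := act 5 n15161
theorem D32113 : act 5 n15161 = n32113 := rfl
theorem F51063 : act 3 n32113 = n15168 := d6_1 D32113 (iv5 D15168) (iv3 F24768)
def n32114 : Q := act 4 n15162
theorem D32114 : act 4 n15162 = n32114 := rfl
theorem F51064 : act 7 n32114 = n32079 := d11_2 F24786 D32114 (iv4 D32079)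
theorem F51065 : act 0 n32114 = n31558 := d18_2 (iv1 F50989) D32114 (iv4 D31558) (iv5 D14861) (iv4 F20501) D26047 (iv4 F41170) (iv0 D16664) D16666
def n32115 : Q := act 6 n15162
theorem D32115 : act 6 n15162 = n32115 := rfl
theorem F51066 : act 3 n32115 = n32103 := d7_1 D32115 (iv6 D32103) (iv3 F24788)
def n32116 : Q := act 5 n15163
theorem D32116 : act 5 n15163 = n32116 := rfl
theorem F51067 : act 3 n32116 = n32106 := d6_1 D32116 (iv5 D32106) F24792
theorem F51068 : act 7 n32116 = n32106 := d13_2 (iv7 F50991) D32116 (iv5 D32106)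
def n32117 : Q := act 3 n15164
theorem D32117 : act 3 n15164 = n32117 := rfl
def n32118 : Q := act 5 n15164
theorem D32118 : act 5 n15164 = n32118 := rfl
def n32119 : Q := act 6 n15164
theorem D32119 : act 6 n15164 = n32119 := rfl
theorem F51069 : act 4 n32119 = n15165 := d10_1 D32119 (iv6 D15165) D15164
def n32120 : Q := act 0 n15165
theorem D32120 : act 0 n15165 = n32120 := rfl
def n32121 : Q := act 1 n15165
theorem D32121 : act 1 n15165 = n32121 := rfl
def n32122 : Q := act 5 n15165
theorem D32122 : act 5 n15165 = n32122 := rfl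
theorem F51070 : act 6 n32122 = n15168 := d12_2 D15165 D32122 (iv5 D15168) (iv6 D7199) D7198
def n32123 : Q := act 7 n15165
theorem D32123 : act 7 n15165 = n32123 := rfl
def n32124 : Q := act 2 n15166
theorem D32124 : act 2 n15166 = n32124 := rfl
theorem F51071 : act 7 n15167 = n32124 := d15_2 (iv0 D15166) D15167 (iv2 D32124)
def n32128 : Q := act 6 n15166
theorem D32128 : act 6 n15166 = n32128 := rfl
def n32129 : Q := act 7 n15166
theorem D32129 : act 7 n15166 = n32129 := rfl
theorem F51072 : act 2 n32129 = n15167 := d4_1 D32129 F51071 (iv2 D32124)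
theorem F51073 : act 6 n16166 = n32129 := d3_0 F51072 F50988 D16166
theorem F51074 : act 7 n32128 = n16175 := d14_4 F25701 F51073 (iv7 D32129) D32128 (iv6 D16175)
def n32130 : Q := act 3 n15167
theorem D32130 : act 3 n15167 = n32130 := rfl
theorem F51075 : act 6 n32130 = n16167 := d7_2 (iv6 F50988) D32130 (iv3 D16167)
def n32131 : Q := act 5 n15167
theorem D32131 : act 5 n15167 = n32131 := rfl
def n32132 : Q := act 0 n15168
theorem D32132 : act 0 n15168 = n32132 := rfl
def n32133 : Q := act 1 n15168
theorem D32133 : act 1 n15168 = n32133 := rfl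
theorem F51076 : act 1 n32133 = n32116 := d15_1 D32133 F51068 F51046
theorem F51077 : act 5 n16646 = n32133 := d21_0 (iv1 D32133) (iv5 D15168) (iv6 D7199) (iv1 D3315) F2574 D1512 D3445 F25818 D7740 D16646
def n32134 : Q := act 4 n15168
theorem D32134 : act 4 n15168 = n32134 := rfl
def n32135 : Q := act 7 n15168
theorem D32135 : act 7 n15168 = n32135 := rfl
theorem F51078 : act 2 n32135 = n32116 := d4_1 D32135 F51068 F51046
theorem F51079 : act 5 n32135 = n15169 := d13_1 D32135 (iv7 D15169) D15168
theorem F51080 : act 1 n32116 = n32132 := d15_0 (iv0 D32132) D32135 F51078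
theorem F51081 : act 5 n32132 = n16647 := d17_7 D16646 F51077 (iv1 D32133) (iv5 D15168) (iv4 F24769) D32116 F51080 F51013 F27284
def n32136 : Q := act 3 n15172
theorem D32136 : act 3 n15172 = n32136 := rfl
theorem F51082 : act 5 n32136 = n31596 := d6_2 F50957 D32136 (iv3 F49921)
theorem F51083 : act 7 n32136 = n15182 := d8_2 (iv7 F50005) D32136 (iv3 D15182)
theorem F51084 : act 1 n31828 = n32136 := d17_6 (iv1 D7081) D7083 D14881 F50442 D14979 D31828 F51082 F49920 (iv4 D14876)
theorem F51085 : act 1 n32136 = n31835 := d15_1 F51084 (iv7 F50241) F50239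
def n32137 : Q := act 4 n15172
theorem D32137 : act 4 n15172 = n32137 := rfl
theorem F51086 : act 2 n32137 = n15178 := d1_1 D32137 (iv4 D15178) (iv2 F50004)
theorem F51087 : act 7 n32137 = n15183 := d11_2 (iv7 F50005) D32137 (iv4 D15183)
def n32138 : Q := act 6 n15172
theorem D32138 : act 6 n15172 = n32138 := rfl
theorem F51088 : act 2 n32138 = n15180 := d3_1 D32138 (iv6 D15180) (iv2 F50004)
def n32139 : Q := act 3 n15173
theorem D32139 : act 3 n15173 = n32139 := rfl
theorem F51089 : act 5 n32139 = n29102 := d6_2 F27101 D32139 F46752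
theorem F51090 : act 7 n32139 = n15177 := d8_2 (iv7 F50002) D32139 (iv3 D15177)
theorem F51091 : act 4 n32139 = n28460 := d20_6 (iv4 F20473) (iv1 D12330) F9007 (iv3 F11528) (iv1 F24803) D32139 (iv1 D28460) (iv4 D13569) F10526 (iv1 F9076)
theorem F51092 : act 0 n32084 = n32139 := d18_0 F51091 (iv1 D28460) (iv4 D13569) (iv5 D6457) F4468 D3315 D7197 F24759 D32084
theorem F51093 : act 1 n32086 = n32139 := d15_0 (iv0 F51092) F50717 (iv2 F50724)
theorem F51094 : act 0 n16142 = n16623 := d21_7 (iv5 F51089) (iv1 F51093) (iv5 D32086) F26817 (iv1 D7533) D7536 D16142 F27113 D16624 (iv1 F50812)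
def n32140 : Q := act 4 n15173
theorem D32140 : act 4 n15173 = n32140 := rfl
theorem F51095 : act 2 n32140 = n15183 := d1_1 D32140 (iv4 D15183) (iv2 F50001)
theorem F51096 : act 7 n32140 = n15178 := d11_2 (iv7 F50002) D32140 (iv4 D15178)
def n32141 : Q := act 6 n15173
theorem D32141 : act 6 n15173 = n32141 := rfl
theorem F51097 : act 2 n32141 = n15185 := d3_1 D32141 (iv6 D15185) (iv2 F50001)
def n32142 : Q := act 0 n15174
theorem D32142 : act 0 n15174 = n32142 := rfl
theorem F51098 : act 1 n15191 = n32142 := d15_0 (iv0 D32142) (iv7 F50686) F50685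
def n32143 : Q := act 1 n15174
theorem D32143 : act 1 n15174 = n32143 := rfl
theorem F51099 : act 1 n32143 = n15191 := d15_1 D32143 (iv7 D15191) (iv2 F24804)
def n32144 : Q := act 3 n15174
theorem D32144 : act 3 n15174 = n32144 := rfl
def n32145 : Q := act 5 n15174
theorem D32145 : act 5 n15174 = n32145 := rfl
theorem F51100 : act 2 n32145 = n15189 := d2_1 D32145 (iv5 D15189) (iv2 F24804)
def n32146 : Q := act 6 n15174
theorem D32146 : act 6 n15174 = n32146 := rfl
theorem F51101 : act 2 n32146 = n15190 := d3_1 D32146 (iv6 D15190) (iv2 F24804)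
theorem F51102 : act 4 n32146 = n15175 := d10_1 D32146 (iv6 D15175) D15174
def n32147 : Q := act 0 n15175
theorem D32147 : act 0 n15175 = n32147 := rfl
def n32148 : Q := act 1 n15175
theorem D32148 : act 1 n15175 = n32148 := rfl
theorem F51103 : act 1 n32148 = n15194 := d15_1 D32148 (iv7 D15194) (iv2 F24805)
def n32149 : Q := act 7 n15175
theorem D32149 : act 7 n15175 = n32149 := rfl
theorem F51104 : act 2 n32149 = n15194 := d4_1 D32149 (iv7 D15194) (iv2 F24805)
theorem F51105 : act 5 n32149 = n16226 := d13_1 D32149 (iv7 D16226) (iv5 F24806)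
theorem F51106 : act 1 n15194 = n32147 := d15_0 (iv0 D32147) D32149 F51104
theorem F51107 : act 1 n15193 = n32149 := d15_1 D15193 (iv7 D32149) F24805
theorem F51108 : act 1 n32149 = n15192 := d15_0 (iv0 D15192) D15194 (iv2 F51104)
def n32150 : Q := act 2 n15177
theorem D32150 : act 2 n15177 = n32150 := rfl
theorem F51109 : act 5 n32150 = n31529 := d2_2 F50823 D32150 (iv2 F50961)
theorem F51110 : act 1 n32150 = n32086 := d15_0 F51093 F51090 D32150
theorem F51111 : act 1 n32084 = n32150 := d15_0 F51110 F50726 (iv2 F50715)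
theorem F51112 : act 4 n28459 = n32150 := d18_3 (iv1 D13568) D13569 D28459 F51109 (iv4 D31529) (iv0 D14853) (iv4 F20506) D26051 F50886
def n32151 : Q := act 4 n15177
theorem D32151 : act 4 n15177 = n32151 := rfl
theorem F51113 : act 2 n32151 = n28459 := d1_1 D32151 F51112 (iv2 D32150)
theorem F51114 : act 7 n32151 = n28460 := d11_2 F51090 D32151 (iv4 F51091)
theorem F51115 : act 0 n32151 = n28464 := d18_2 (iv1 F50955) D32151 F45987 F22734 F10528 F24778 (iv4 F24780) (iv0 F26797) D31893
theorem F51116 : act 1 n32151 = n28447 := d18_6 (iv1 F41188) F41185 (iv1 F41177) (iv4 F41170) F50823 D32151 (iv4 D28447) D28446 (iv5 F50947)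
def n32152 : Q := act 6 n15177
theorem D32152 : act 6 n15177 = n32152 := rfl
theorem F51117 : act 3 n32152 = n15180 := d7_1 D32152 (iv6 D15180) D15177
def n32153 : Q := act 0 n15178
theorem D32153 : act 0 n15178 = n32153 := rfl
theorem F51118 : act 4 n32153 = n31802 := d18_3 D7203 D15178 D32153 F50105 F26587 (iv0 D15140) (iv4 D7192) (iv0 D3314) D3317
theorem F51119 : act 1 n15183 = n32153 := d15_0 (iv0 D32153) (iv7 F51096) F51095
def n32154 : Q := act 1 n15178
theorem D32154 : act 1 n15178 = n32154 := rfl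
theorem F51120 : act 1 n32154 = n15183 := d15_1 D32154 (iv7 F51087) F51086
def n32155 : Q := act 3 n15178
theorem D32155 : act 3 n15178 = n32155 := rfl
theorem F51121 : act 0 n32155 = n28137 := d19_4 D14853 (iv5 F50821) D15178 D32155 (iv5 D28137) (iv4 D13429) (iv3 D6379) (iv1 D2739) (iv5 D1265) F1438 (iv3 F1432) D1259 D2717 F10293 F9108 (iv1 F4614) (iv5 F4616) D3228 D7074
theorem F51122 : act 5 n25204 = n32155 := d17_1 (iv1 F39686) F51121 (iv5 D28137) (iv4 D13429) F10409 D11765 F22584 F19739 D24801
def n32156 : Q := act 5 n15178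
theorem D32156 : act 5 n15178 = n32156 := rfl
theorem F51123 : act 3 n32156 = n25204 := d6_1 D32156 F51122 (iv3 D32155)
def n32157 : Q := act 6 n15178
theorem D32157 : act 6 n15178 = n32157 := rfl
theorem F51124 : act 4 n32157 = n15180 := d10_1 D32157 (iv6 D15180) D15178
def n32158 : Q := act 0 n15180
theorem D32158 : act 0 n15180 = n32158 := rfl
def n32159 : Q := act 1 n15180
theorem D32159 : act 1 n15180 = n32159 := rfl
def n32160 : Q := act 5 n15180
theorem D32160 : act 5 n15180 = n32160 := rfl
def n32161 : Q := act 7 n15180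
theorem D32161 : act 7 n15180 = n32161 := rfl
def n32162 : Q := act 2 n15182
theorem D32162 : act 2 n15182 = n32162 := rfl
theorem F51125 : act 5 n32162 = n31595 := d2_2 F50965 D32162 (iv2 F50963)
theorem F51126 : act 1 n32162 = n31828 := d15_0 F51084 F51083 D32162
theorem F51127 : act 1 n31835 = n32162 := d15_0 F51126 (iv7 F51048) F51047
theorem F51128 : act 0 n26295 = n29575 := d21_4 D16107 (iv1 F41877) (iv5 D26294) D26295 F50984 (iv5 F51125) (iv1 F51127) (iv5 D31835) F41351 (iv1 F11814)
def n32163 : Q := act 4 n15182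
theorem D32163 : act 4 n15182 = n32163 := rfl
theorem F51129 : act 0 n32163 = n31636 := d18_2 (iv1 F51050) D32163 (iv4 D31636) (iv5 F50449) D14984 (iv0 F24796) F24791 (iv0 F24794) D31923
theorem F51130 : act 1 n32163 = n31631 := d18_6 D7080 D14871 D31595 F49916 F50965 D32163 (iv4 D31631) (iv0 D14881) (iv5 D7083)
def n32164 : Q := act 6 n15182
theorem D32164 : act 6 n15182 = n32164 := rfl
theorem F51131 : act 3 n32164 = n15185 := d7_1 D32164 (iv6 D15185) D15182
def n32165 : Q := act 3 n15183
theorem D32165 : act 3 n15183 = n32165 := rfl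
def n32166 : Q := act 5 n15183
theorem D32166 : act 5 n15183 = n32166 := rfl
def n32167 : Q := act 6 n15183
theorem D32167 : act 6 n15183 = n32167 := rfl
theorem F51132 : act 4 n32167 = n15185 := d10_1 D32167 (iv6 D15185) D15183
def n32168 : Q := act 0 n15185
theorem D32168 : act 0 n15185 = n32168 := rfl
def n32169 : Q := act 1 n15185
theorem D32169 : act 1 n15185 = n32169 := rfl
def n32170 : Q := act 5 n15185
theorem D32170 : act 5 n15185 = n32170 := rfl
def n32171 : Q := act 7 n15185
theorem D32171 : act 7 n15185 = n32171 := rfl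
def n32172 : Q := act 2 n15186
theorem D32172 : act 2 n15186 = n32172 := rfl
theorem F51133 : act 7 n15187 = n32172 := d15_2 (iv0 D15186) D15187 (iv2 D32172)
def n32173 : Q := act 3 n15186
theorem D32173 : act 3 n15186 = n32173 := rfl
def n32174 : Q := act 4 n15186
theorem D32174 : act 4 n15186 = n32174 := rfl
theorem F51134 : act 5 n32174 = n15293 := d18_4 (iv1 D7204) D7205 D15186 D32174 F41183 (iv0 D26050) F20506 D14854 (iv5 F50818)
def n32175 : Q := act 5 n15186
theorem D32175 : act 5 n15186 = n32175 := rfl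
def n32176 : Q := act 6 n15186
theorem D32176 : act 6 n15186 = n32176 := rfl
def n32177 : Q := act 7 n15186
theorem D32177 : act 7 n15186 = n32177 := rfl
theorem F51135 : act 2 n32177 = n15187 := d4_1 D32177 F51133 (iv2 D32172)
def n32178 : Q := act 3 n15187
theorem D32178 : act 3 n15187 = n32178 := rfl
def n32179 : Q := act 4 n15187
theorem D32179 : act 4 n15187 = n32179 := rfl
def n32180 : Q := act 5 n15187
theorem D32180 : act 5 n15187 = n32180 := rfl
def n32181 : Q := act 6 n15187
theorem D32181 : act 6 n15187 = n32181 := rfl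
def n32182 : Q := act 0 n15188
theorem D32182 : act 0 n15188 = n32182 := rfl
def n32183 : Q := act 1 n15188
theorem D32183 : act 1 n15188 = n32183 := rfl
def n32184 : Q := act 2 n15188
theorem D32184 : act 2 n15188 = n32184 := rfl
theorem F51136 : act 4 n32184 = n15219 := d1_2 (iv4 F24809) D32184 (iv2 D15219)
def n32185 : Q := act 5 n15188
theorem D32185 : act 5 n15188 = n32185 := rfl
theorem F51137 : act 3 n32185 = n15189 := d6_1 D32185 (iv5 D15189) D15188
def n32186 : Q := act 6 n15188
theorem D32186 : act 6 n15188 = n32186 := rfl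
theorem F51138 : act 3 n32186 = n15190 := d7_1 D32186 (iv6 D15190) D15188
theorem F51139 : act 4 n32186 = n15220 := d10_1 D32186 (iv6 D15220) (iv4 F24809)
def n32187 : Q := act 0 n15189
theorem D32187 : act 0 n15189 = n32187 := rfl
def n32188 : Q := act 1 n15189
theorem D32188 : act 1 n15189 = n32188 := rfl
def n32189 : Q := act 4 n15189
theorem D32189 : act 4 n15189 = n32189 := rfl
def n32190 : Q := act 6 n15189
theorem D32190 : act 6 n15189 = n32190 := rfl
def n32191 : Q := act 7 n15189
theorem D32191 : act 7 n15189 = n32191 := rfl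
theorem F51140 : act 5 n32191 = n15191 := d13_1 D32191 (iv7 D15191) D15189
def n32192 : Q := act 0 n15190
theorem D32192 : act 0 n15190 = n32192 := rfl
def n32193 : Q := act 1 n15190
theorem D32193 : act 1 n15190 = n32193 := rfl
def n32194 : Q := act 5 n15190
theorem D32194 : act 5 n15190 = n32194 := rfl
def n32195 : Q := act 7 n15190
theorem D32195 : act 7 n15190 = n32195 := rfl
theorem F51141 : act 4 n32195 = n15194 := d11_1 D32195 (iv7 D15194) (iv4 F24810)
def n32196 : Q := act 6 n15191
theorem D32196 : act 6 n15191 = n32196 := rfl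
theorem F51142 : act 4 n32196 = n15195 := d10_1 D32196 (iv6 D15195) (iv4 F24811)
def n32197 : Q := act 2 n15192
theorem D32197 : act 2 n15192 = n32197 := rfl
theorem F51143 : act 7 n15193 = n32197 := d15_2 (iv0 D15192) D15193 (iv2 D32197)
def n32198 : Q := act 3 n15192
theorem D32198 : act 3 n15192 = n32198 := rfl
def n32199 : Q := act 4 n15192
theorem D32199 : act 4 n15192 = n32199 := rfl
def n32200 : Q := act 5 n15192
theorem D32200 : act 5 n15192 = n32200 := rfl
def n32201 : Q := act 6 n15192
theorem D32201 : act 6 n15192 = n32201 := rfl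
def n32202 : Q := act 7 n15192
theorem D32202 : act 7 n15192 = n32202 := rfl
theorem F51144 : act 2 n32202 = n15193 := d4_1 D32202 F51143 (iv2 D32197)
def n32203 : Q := act 3 n15193
theorem D32203 : act 3 n15193 = n32203 := rfl
def n32204 : Q := act 4 n15193
theorem D32204 : act 4 n15193 = n32204 := rfl
def n32205 : Q := act 5 n15193
theorem D32205 : act 5 n15193 = n32205 := rfl
def n32206 : Q := act 6 n15193
theorem D32206 : act 6 n15193 = n32206 := rfl
def n32207 : Q := act 6 n15194
theorem D32207 : act 6 n15194 = n32207 := rfl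
theorem F51145 : act 3 n32207 = n15235 := d7_1 D32207 (iv6 D15235) (iv3 F24812)
theorem F51146 : act 7 n32207 = n15195 := d14_2 D15194 D32207 (iv6 D15195) (iv7 D7207) D7206
def n32208 : Q := act 0 n15195
theorem D32208 : act 0 n15195 = n32208 := rfl
def n32209 : Q := act 1 n15195
theorem D32209 : act 1 n15195 = n32209 := rfl
def n32210 : Q := act 5 n15195
theorem D32210 : act 5 n15195 = n32210 := rfl
theorem F51147 : act 3 n32210 = n15238 := d6_1 D32210 (iv5 D15238) (iv3 F24814)
theorem F51148 : act 6 n32210 = n15198 := d12_2 D15195 D32210 (iv5 D15198) (iv6 D7208) (iv5 F11529)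
def n32211 : Q := act 3 n15197
theorem D32211 : act 3 n15197 = n32211 := rfl
theorem F51149 : act 2 n32211 = n16193 := d0_1 D32211 F25742 (iv2 F50783) F27007 (iv2 F50807)
theorem F51150 : act 4 n32211 = n16193 := d5_2 F27008 D32211 F25742 F50788 (iv3 F27007)
theorem F51151 : act 7 n32211 = n16187 := d8_2 (iv7 F50808) D32211 F50777
theorem F51152 : act 0 n32211 = n16191 := d20_10 F51000 (iv1 D12562) F9277 F9276 D5971 D12569 F20934 D15874 F27008 D32211
theorem F51153 : act 1 n32211 = n15898 := d15_1 (iv0 F51152) (iv7 F50245) (iv2 F50998)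
theorem F51154 : act 0 n23891 = n15902 := d20_1 (iv4 F37299) F25376 (iv3 F25369) (iv1 F51153) (iv3 D32211) (iv4 F27008) (iv1 F50792) F50839 (iv3 F50896) (iv1 D23895)
def n32212 : Q := act 5 n15197
theorem D32212 : act 5 n15197 = n32212 := rfl
theorem F51155 : act 2 n32212 = n16299 := d2_1 D32212 (iv5 D16299) (iv2 F50807)
theorem F51156 : act 7 n32212 = n16304 := d13_2 (iv7 F50808) D32212 (iv5 D16304)
def n32213 : Q := act 0 n15198
theorem D32213 : act 0 n15198 = n32213 := rfl
theorem F51157 : act 1 n16106 = n32213 := d15_0 (iv0 D32213) F24818 (iv2 F25620)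
def n32214 : Q := act 1 n15198
theorem D32214 : act 1 n15198 = n32214 := rfl
theorem F51158 : act 1 n32214 = n16106 := d15_1 D32214 (iv7 F50692) F50690
theorem F51159 : act 5 n29106 = n32214 := d21_6 (iv5 F24762) (iv1 F50759) F50349 F41174 (iv1 F23446) D29106 (iv1 D32214) (iv5 D15198) (iv6 D7208) (iv1 F24782)
theorem F51160 : act 2 n32214 = n16306 := d2_1 F51159 (iv5 F50773) (iv2 F49998)
theorem F51161 : act 7 n16307 = n32214 := d15_2 (iv0 D16306) D16307 F51160
theorem F51162 : act 7 n32213 = n16306 := d15_2 F51158 F51157 (iv2 F51160)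
theorem F51163 : act 2 n16307 = n32213 := d4_3 F51162 (iv2 F51160) (iv7 F51161)
def n32215 : Q := act 4 n15198
theorem D32215 : act 4 n15198 = n32215 := rfl
theorem F51164 : act 7 n32215 = n16308 := d11_2 (iv7 F24818) D32215 (iv4 D16308)
def n32216 : Q := act 4 n15201
theorem D32216 : act 4 n15201 = n32216 := rfl
theorem F51165 : act 2 n32216 = n15202 := d1_1 D32216 (iv4 D15202) D15201
def n32217 : Q := act 6 n15201
theorem D32217 : act 6 n15201 = n32217 := rfl
theorem F51166 : act 2 n32217 = n15203 := d3_1 D32217 (iv6 D15203) D15201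
def n32218 : Q := act 0 n15202
theorem D32218 : act 0 n15202 = n32218 := rfl
def n32219 : Q := act 1 n15202
theorem D32219 : act 1 n15202 = n32219 := rfl
theorem F51167 : act 4 n31799 = n32219 := d20_6 F9172 D7031 F11280 (iv3 F11444) D14966 D31799 (iv1 D32219) (iv4 D15202) (iv3 D7209) (iv1 F9175)
def n32220 : Q := act 5 n15202
theorem D32220 : act 5 n15202 = n32220 := rfl
def n32221 : Q := act 6 n15202
theorem D32221 : act 6 n15202 = n32221 := rfl
theorem F51168 : act 4 n32221 = n15203 := d10_1 D32221 (iv6 D15203) D15202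
def n32222 : Q := act 0 n15203
theorem D32222 : act 0 n15203 = n32222 := rfl
def n32223 : Q := act 1 n15203
theorem D32223 : act 1 n15203 = n32223 := rfl
def n32224 : Q := act 5 n15203
theorem D32224 : act 5 n15203 = n32224 := rfl
theorem F51169 : act 3 n32224 = n15206 := d6_1 D32224 (iv5 D15206) (iv3 F24820)
theorem F51170 : act 6 n32224 = n28376 := d12_2 D15203 D32224 (iv5 D28376) (iv6 D13536) (iv5 F11532)
def n32225 : Q := act 7 n15203
theorem D32225 : act 7 n15203 = n32225 := rfl
theorem F51171 : act 3 n32225 = n15207 := d8_1 D32225 (iv7 D15207) (iv3 F24820)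
def n32226 : Q := act 2 n15204
theorem D32226 : act 2 n15204 = n32226 := rfl
theorem F51172 : act 7 n15205 = n32226 := d15_2 (iv0 D15204) D15205 (iv2 D32226)
def n32227 : Q := act 3 n15204
theorem D32227 : act 3 n15204 = n32227 := rfl
def n32228 : Q := act 4 n15204
theorem D32228 : act 4 n15204 = n32228 := rfl
def n32229 : Q := act 5 n15204
theorem D32229 : act 5 n15204 = n32229 := rfl
def n32230 : Q := act 6 n15204
theorem D32230 : act 6 n15204 = n32230 := rfl
def n32231 : Q := act 7 n15204
theorem D32231 : act 7 n15204 = n32231 := rfl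
theorem F51173 : act 2 n32231 = n15205 := d4_1 D32231 F51172 (iv2 D32226)
def n32232 : Q := act 3 n15205
theorem D32232 : act 3 n15205 = n32232 := rfl
def n32233 : Q := act 4 n15205
theorem D32233 : act 4 n15205 = n32233 := rfl
def n32234 : Q := act 5 n15205
theorem D32234 : act 5 n15205 = n32234 := rfl
def n32235 : Q := act 6 n15205
theorem D32235 : act 6 n15205 = n32235 := rfl
def n32236 : Q := act 0 n15206
theorem D32236 : act 0 n15206 = n32236 := rfl
theorem F51174 : act 6 n32236 = n16090 := d21_5 F11755 (iv1 F18132) D13537 (iv6 F24821) D32236 (iv5 D16090) (iv1 D7512) D7513 F11753 D7515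
def n32237 : Q := act 1 n15206
theorem D32237 : act 1 n15206 = n32237 := rfl
theorem F51175 : act 5 n32050 = n32237 := d21_6 F9173 (iv1 F3946) D3312 D7185 D15120 D32050 (iv1 D32237) (iv5 D15206) (iv6 D7210) (iv1 F9175)
def n32238 : Q := act 4 n15206
theorem D32238 : act 4 n15206 = n32238 := rfl
theorem F51176 : act 6 n32238 = n28377 := d10_2 (iv6 F24821) D32238 (iv4 D28377)
def n32239 : Q := act 7 n15206
theorem D32239 : act 7 n15206 = n32239 := rfl
theorem F51177 : act 5 n32239 = n15207 := d13_1 D32239 (iv7 D15207) D15206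
def n32240 : Q := act 4 n15210
theorem D32240 : act 4 n15210 = n32240 := rfl
theorem F51178 : act 2 n32240 = n15211 := d1_1 D32240 (iv4 D15211) D15210
def n32241 : Q := act 6 n15210
theorem D32241 : act 6 n15210 = n32241 := rfl
theorem F51179 : act 2 n32241 = n15212 := d3_1 D32241 (iv6 D15212) D15210
def n32242 : Q := act 0 n15211
theorem D32242 : act 0 n15211 = n32242 := rfl
def n32243 : Q := act 1 n15211
theorem D32243 : act 1 n15211 = n32243 := rfl
theorem F51180 : act 4 n31630 = n32243 := d20_6 D3321 (iv1 F11282) F11284 (iv3 F11334) D14881 D31630 (iv1 D32243) (iv4 D15211) (iv3 D7211) (iv1 D3320)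
def n32244 : Q := act 5 n15211
theorem D32244 : act 5 n15211 = n32244 := rfl
def n32245 : Q := act 6 n15211
theorem D32245 : act 6 n15211 = n32245 := rfl
theorem F51181 : act 4 n32245 = n15212 := d10_1 D32245 (iv6 D15212) D15211
def n32246 : Q := act 0 n15212
theorem D32246 : act 0 n15212 = n32246 := rfl
def n32247 : Q := act 1 n15212
theorem D32247 : act 1 n15212 = n32247 := rfl
def n32248 : Q := act 5 n15212
theorem D32248 : act 5 n15212 = n32248 := rfl
theorem F51182 : act 3 n32248 = n15215 := d6_1 D32248 (iv5 D15215) (iv3 F24823)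
theorem F51183 : act 6 n32248 = n24291 := d12_2 D15212 D32248 (iv5 D24291) F18700 (iv5 F11533)
def n32249 : Q := act 7 n15212
theorem D32249 : act 7 n15212 = n32249 := rfl
theorem F51184 : act 3 n32249 = n15216 := d8_1 D32249 (iv7 D15216) (iv3 F24823)
def n32250 : Q := act 2 n15213
theorem D32250 : act 2 n15213 = n32250 := rfl
theorem F51185 : act 7 n15214 = n32250 := d15_2 (iv0 D15213) D15214 (iv2 D32250)
def n32251 : Q := act 3 n15213
theorem D32251 : act 3 n15213 = n32251 := rfl
def n32252 : Q := act 4 n15213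
theorem D32252 : act 4 n15213 = n32252 := rfl
def n32253 : Q := act 5 n15213
theorem D32253 : act 5 n15213 = n32253 := rfl
def n32254 : Q := act 6 n15213
theorem D32254 : act 6 n15213 = n32254 := rfl
def n32255 : Q := act 7 n15213
theorem D32255 : act 7 n15213 = n32255 := rfl
theorem F51186 : act 2 n32255 = n15214 := d4_1 D32255 F51185 (iv2 D32250)
def n32256 : Q := act 3 n15214
theorem D32256 : act 3 n15214 = n32256 := rfl
def n32257 : Q := act 4 n15214
theorem D32257 : act 4 n15214 = n32257 := rfl
def n32258 : Q := act 5 n15214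
theorem D32258 : act 5 n15214 = n32258 := rfl
def n32259 : Q := act 6 n15214
theorem D32259 : act 6 n15214 = n32259 := rfl
def n32260 : Q := act 0 n15215
theorem D32260 : act 0 n15215 = n32260 := rfl
def n32261 : Q := act 1 n15215
theorem D32261 : act 1 n15215 = n32261 := rfl
theorem F51187 : act 5 n31991 = n32261 := d21_6 (iv5 D1467) D1464 D3308 D7174 D15088 D31991 (iv1 D32261) (iv5 D15215) (iv6 D7212) (iv1 D3320)
theorem F51188 : act 0 n16399 = n31991 := d21_10 F51187 (iv1 D32261) (iv5 D15215) (iv6 D7212) (iv1 D3320) D3322 F5308 D3454 D7607 D16399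
def n32262 : Q := act 7 n15215
theorem D32262 : act 7 n15215 = n32262 := rfl
theorem F51189 : act 5 n32262 = n15216 := d13_1 D32262 (iv7 D15216) D15215
def n32263 : Q := act 2 n15217
theorem D32263 : act 2 n15217 = n32263 := rfl
theorem F51190 : act 7 n15218 = n32263 := d15_2 (iv0 D15217) D15218 (iv2 D32263)
def n32264 : Q := act 3 n15217
theorem D32264 : act 3 n15217 = n32264 := rfl
def n32265 : Q := act 4 n15217
theorem D32265 : act 4 n15217 = n32265 := rfl
def n32266 : Q := act 5 n15217
theorem D32266 : act 5 n15217 = n32266 := rfl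
def n32267 : Q := act 6 n15217
theorem D32267 : act 6 n15217 = n32267 := rfl
def n32268 : Q := act 7 n15217
theorem D32268 : act 7 n15217 = n32268 := rfl
theorem F51191 : act 2 n32268 = n15218 := d4_1 D32268 F51190 (iv2 D32263)
def n32269 : Q := act 3 n15218
theorem D32269 : act 3 n15218 = n32269 := rfl
def n32270 : Q := act 4 n15218
theorem D32270 : act 4 n15218 = n32270 := rfl
def n32271 : Q := act 5 n15218
theorem D32271 : act 5 n15218 = n32271 := rfl
def n32272 : Q := act 6 n15218
theorem D32272 : act 6 n15218 = n32272 := rfl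
def n32273 : Q := act 6 n15219
theorem D32273 : act 6 n15219 = n32273 := rfl
theorem F51192 : act 2 n32273 = n15220 := d3_1 D32273 (iv6 D15220) D15219
def n32274 : Q := act 0 n15220
theorem D32274 : act 0 n15220 = n32274 := rfl
def n32275 : Q := act 1 n15220
theorem D32275 : act 1 n15220 = n32275 := rfl
def n32276 : Q := act 5 n15220
theorem D32276 : act 5 n15220 = n32276 := rfl
theorem F51193 : act 3 n32276 = n15223 := d6_1 D32276 (iv5 D15223) (iv3 F24825)
def n32277 : Q := act 7 n15220
theorem D32277 : act 7 n15220 = n32277 := rfl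
theorem F51194 : act 3 n32277 = n15224 := d8_1 D32277 (iv7 D15224) (iv3 F24825)
def n32278 : Q := act 3 n15221
theorem D32278 : act 3 n15221 = n32278 := rfl
def n32279 : Q := act 5 n15221
theorem D32279 : act 5 n15221 = n32279 := rfl
def n32280 : Q := act 6 n15221
theorem D32280 : act 6 n15221 = n32280 := rfl
def n32281 : Q := act 3 n15222
theorem D32281 : act 3 n15222 = n32281 := rfl
def n32282 : Q := act 5 n15222
theorem D32282 : act 5 n15222 = n32282 := rfl
def n32283 : Q := act 6 n15222
theorem D32283 : act 6 n15222 = n32283 := rfl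
def n32284 : Q := act 0 n15223
theorem D32284 : act 0 n15223 = n32284 := rfl
def n32285 : Q := act 1 n15223
theorem D32285 : act 1 n15223 = n32285 := rfl
def n32286 : Q := act 4 n15223
theorem D32286 : act 4 n15223 = n32286 := rfl
theorem F51195 : act 5 n32286 = n18813 := d16_3 (iv4 F11534) D15223 D32286 (iv4 D18813) (iv5 D8816) (iv4 F9358) (iv5 F20714) (iv7 D12444) F9169
theorem F51196 : act 7 n18862 = n32286 := d13_0 F51195 F30071 D18862
def n32287 : Q := act 7 n15223
theorem D32287 : act 7 n15223 = n32287 := rfl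
theorem F51197 : act 4 n32287 = n18862 := d11_1 D32287 F51196 (iv4 D32286)
theorem F51198 : act 5 n32287 = n15224 := d13_1 D32287 (iv7 D15224) D15223
def n32289 : Q := act 1 n15225
theorem D32289 : act 1 n15225 = n32289 := rfl
theorem F51200 : act 1 n32289 = n15230 := d15_1 D32289 (iv7 D15230) D15225
def n32290 : Q := act 3 n15225
theorem D32290 : act 3 n15225 = n32290 := rfl
theorem F51201 : act 7 n32290 = n15231 := d8_2 F24827 D32290 (iv3 D15231)
def n32291 : Q := act 4 n15225
theorem D32291 : act 4 n15225 = n32291 := rfl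
theorem F51202 : act 2 n32291 = n15227 := d1_1 D32291 (iv4 D15227) D15225
theorem F51203 : act 7 n32291 = n15232 := d11_2 F24827 D32291 (iv4 D15232)
theorem E5444 : n28476 = n15227 := ((c15_4 (iv0 D28476) F28981 (iv7 F51203) F51202)).symm
theorem F51204 : act 1 n15227 = n13574 := (sb E5444 (iv0 D28476))
theorem F51205 : act 0 n26830 = n15843 := d18_0 (iv4 F41757) D27153 (iv4 F43898) (iv5 D15228) D15227 F51204 F22738 D13576 (iv5 F43119)
def n32292 : Q := act 5 n15225
theorem D32292 : act 5 n15225 = n32292 := rfl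
theorem F51206 : act 2 n32292 = n15228 := d2_1 D32292 (iv5 D15228) D15225
theorem F51207 : act 7 n32292 = n15233 := d13_2 F24827 D32292 (iv5 D15233)
def n32293 : Q := act 6 n15225
theorem D32293 : act 6 n15225 = n32293 := rfl
theorem F51208 : act 2 n32293 = n15229 := d3_1 D32293 (iv6 D15229) D15225
def n32294 : Q := act 0 n15226
theorem D32294 : act 0 n15226 = n32294 := rfl
def n32295 : Q := act 1 n15226
theorem D32295 : act 1 n15226 = n32295 := rfl
def n32296 : Q := act 2 n15226
theorem D32296 : act 2 n15226 = n32296 := rfl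
def n32297 : Q := act 4 n15226
theorem D32297 : act 4 n15226 = n32297 := rfl
def n32298 : Q := act 5 n15226
theorem D32298 : act 5 n15226 = n32298 := rfl
theorem F51209 : act 3 n32298 = n15228 := d6_1 D32298 (iv5 D15228) D15226
def n32299 : Q := act 6 n15226
theorem D32299 : act 6 n15226 = n32299 := rfl
theorem F51210 : act 3 n32299 = n15229 := d7_1 D32299 (iv6 D15229) D15226
def n32300 : Q := act 7 n15226
theorem D32300 : act 7 n15226 = n32300 := rfl
theorem F51211 : act 3 n32300 = n15230 := d8_1 D32300 (iv7 D15230) D15226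
def n32301 : Q := act 0 n15227
theorem D32301 : act 0 n15227 = n32301 := rfl
theorem F51212 : act 4 n32301 = n23860 := d18_3 D7215 D15227 D32301 F37197 F18167 F28956 (iv4 D7606) (iv0 D3454) (iv5 F5308)
theorem F51213 : act 2 n28478 = n32301 := d15_3 (iv0 D32301) F51204 D28478
theorem F51214 : act 7 n32301 = n23857 := d4_2 D28478 F51213 F37191
theorem F51215 : act 6 n28347 = n32301 := d14_5 F51214 (iv6 D23857) (iv7 F18144) D13523 D28347
theorem F51216 : act 1 n15232 = n32301 := d15_1 F28981 F51214 F37191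
def n32302 : Q := act 3 n15227
theorem D32302 : act 3 n15227 = n32302 := rfl
def n32303 : Q := act 5 n15227
theorem D32303 : act 5 n15227 = n32303 := rfl
def n32304 : Q := act 6 n15227
theorem D32304 : act 6 n15227 = n32304 := rfl
theorem F51217 : act 4 n32304 = n15229 := d10_1 D32304 (iv6 D15229) D15227
def n32305 : Q := act 7 n15227
theorem D32305 : act 7 n15227 = n32305 := rfl
theorem F51218 : act 2 n32305 = n15232 := d4_1 D32305 (iv7 F51203) F51202
theorem F51219 : act 4 n32305 = n15230 := d11_1 D32305 (iv7 D15230) D15227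
def n32306 : Q := act 0 n15228
theorem D32306 : act 0 n15228 = n32306 := rfl
theorem F51220 : act 4 n32306 = n16834 := d18_1 D32306 (iv1 D16834) (iv4 F27578) F37194 (iv4 F37328) F41659 F41656 F20717 D15228
theorem F51221 : act 5 n32306 = n32055 := d21_2 D15228 D32306 (iv6 D32055) (iv1 D15121) (iv6 D7185) (iv5 D3312) (iv1 D1465) D1467 D3322 D7215
theorem E5445 : n32055 = n26661 := (c17_6 (iv1 F9817) D8825 (iv1 F30088) (iv5 F30090) (iv4 F51220) F51221 F42726 (iv5 D12742) F9356 (iv4 F9815))
theorem F51222 : act 5 n26661 = n32306 := (sb E5445 (iv5 F51221))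
theorem F51223 : act 6 n26661 = n15121 := (sb E5445 (iv6 D32055))
theorem F51224 : act 7 n32306 = n16091 := d13_2 (iv7 F42727) F51222 (iv5 F25890)
theorem F51225 : act 1 n15233 = n32306 := d15_1 F42730 F51224 (iv2 F42328)
theorem F51226 : act 6 n32051 = n16397 := d3_2 F51223 (iv2 F50674) F42728
def n32307 : Q := act 6 n15228
theorem D32307 : act 6 n15228 = n32307 := rfl
theorem F51227 : act 4 n32307 = n17821 := d10_1 D32307 (iv6 F43896) (iv4 F43898)
theorem F51228 : act 0 n32307 = n15987 := d21_4 (iv5 F5308) D7215 D15228 D32307 (iv6 D15987) D15986 F25901 (iv5 D16419) (iv6 D7613) (iv1 D3455)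
def n32308 : Q := act 7 n15228
theorem D32308 : act 7 n15228 = n32308 := rfl
theorem F51229 : act 2 n32308 = n15233 := d4_1 D32308 (iv7 F51207) F51206
theorem F51230 : act 5 n32308 = n15230 := d13_1 D32308 (iv7 D15230) D15228
theorem F51231 : act 6 n16796 = n32308 := d3_0 F51229 (iv6 F24829) D16796
theorem F51232 : act 7 n32307 = n16804 := d14_4 F27561 F51231 (iv7 D32308) D32307 (iv6 D16804)
theorem F51233 : act 7 n17137 = n17821 := d11_2 F51232 F28980 (iv4 F51227)
theorem F51234 : act 7 n26936 = n17287 := d13_2 F51233 F43438 F28231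
theorem F51235 : act 2 n17821 = n27206 := d15_3 F43986 (iv0 F30523) F51233
theorem F51236 : act 2 n17137 = n17679 := d15_3 F43463 D17821 (iv7 F51233)
theorem F51237 : act 2 n26811 = n16804 := d1_3 F28980 F51236 (iv4 F43091)
theorem F51238 : act 2 n26935 = n17287 := d2_3 F28231 F51236 (iv5 F43434)
theorem E5446 : n17675 = n8015 := (c3_4 D17137 F51236 (iv6 D17679) (iv2 F28745))
theorem E5447 : n17134 = n8324 := (((iv2 F28076)).symm.trans (sb E5446 F28745))
theorem E5448 : n26808 = n7843 := (((F28979).symm.trans (sb E5446 (iv4 F43090)))).symm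
theorem E5449 : n17129 = n8323 := ((F28075).symm.trans (sb E5446 (iv7 D17675)))
theorem F51239 : act 2 n8324 = n8015 := (sb E5447 F28076)
theorem E5450 : n16800 = n12823 := ((((iv4 F29959)).symm.trans (sb E5447 (iv4 F28966)))).symm
theorem E5451 : n17670 = n8014 := ((F28743).symm.trans (sb E5447 (iv7 D17134)))
theorem E5452 : n16796 = n12822 := ((F27561).symm.trans (sb E5448 (iv7 D26808)))
theorem F51240 : act 7 n8323 = n8015 := (sb E5449 (iv7 F28075))
theorem F51241 : act 2 n12823 = n7843 := (sb E5450 F27562)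
theorem E5453 : n26805 = n7842 := ((F43088).symm.trans (sb E5450 (iv7 D16800)))
theorem F51242 : act 2 n8014 = n8323 := (sb E5451 (iv2 D17670))
theorem F51243 : act 7 n8014 = n8324 := (sb E5451 (iv7 F28743))
theorem E5454 : n32308 = n26250 := ((((iv6 F41665)).symm.trans (sb E5452 F51231))).symm
theorem F51244 : act 7 n12822 = n7843 := (sb E5452 (iv7 F27561))
theorem F51245 : act 2 n7842 = n12822 := (sb E5453 (iv2 D26805))
theorem F51246 : act 7 n7842 = n12823 := (sb E5453 (iv7 F43088))
theorem F51247 : act 2 n26250 = n15233 := (sb E5454 F51229)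
theorem E5455 : n15230 = n12443 := ((((iv5 D26250)).symm.trans (sb E5454 F51230))).symm
theorem F51248 : act 7 n26250 = n15228 := (sb E5454 (iv7 D32308))
theorem E5456 : n32289 = n5916 := ((((iv1 D12443)).symm.trans (sb E5455 (iv1 F51200)))).symm
theorem E5458 : n26247 = n7216 := (((iv2 F41664)).symm.trans (sb E5455 F24828))
theorem E5459 : n32300 = n26248 := (((D26248).symm.trans (sb E5455 (iv3 F51211)))).symm
theorem E5460 : n32305 = n26249 := (((D26249).symm.trans (sb E5455 (iv4 F51219)))).symm
theorem E5461 : n26242 = n7215 := ((F41662).symm.trans (sb E5455 (iv7 D15230)))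
theorem E5462 : n15225 = n12442 := (((D12442).symm.trans (sb E5456 (iv1 D32289)))).symm
theorem F51249 : act 2 n7216 = n12443 := (sb E5458 F41664)
theorem F51250 : act 7 n26248 = n15226 := (sb E5459 (iv7 D32300))
theorem F51251 : act 2 n26249 = n15232 := (sb E5460 F51218)
theorem F51252 : act 7 n26249 = n15227 := (sb E5460 (iv7 D32305))
theorem F51253 : act 7 n7215 = n12443 := (sb E5461 (iv7 F41662))
theorem F51254 : act 2 n12442 = n7215 := (sb E5462 (iv2 D15225))
theorem E5463 : n32290 = n26243 := (((D26243).symm.trans (sb E5462 D32290))).symm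
theorem E5464 : n32291 = n26244 := (((D26244).symm.trans (sb E5462 D32291))).symm
theorem E5465 : n32292 = n26245 := (((D26245).symm.trans (sb E5462 D32292))).symm
theorem E5466 : n32293 = n26246 := (((D26246).symm.trans (sb E5462 D32293))).symm
theorem F51255 : act 7 n12442 = n7216 := (sb E5462 (iv7 F24827))
theorem F51256 : act 7 n26243 = n15231 := (sb E5463 F51201)
theorem F51257 : act 2 n26244 = n15227 := (sb E5464 F51202)
theorem F51258 : act 7 n26244 = n15232 := (sb E5464 F51203)
theorem F51259 : act 2 n26245 = n15228 := (sb E5465 F51206)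
theorem F51260 : act 7 n26245 = n15233 := (sb E5465 F51207)
theorem F51261 : act 2 n26246 = n15229 := (sb E5466 F51208)
theorem F51262 : act 7 n17679 = n27206 := d4_2 (iv7 F51233) F51236 (iv2 F51235)
theorem F51263 : act 7 n17288 = n26935 := d13_2 F51262 F43988 F43434
theorem F51264 : act 7 n17732 = n17133 := d14_2 F51262 (iv6 F43987) (iv6 D17133) F51243 D17679
theorem F51265 : act 7 n17265 = n17352 := d13_2 F51264 F28208 (iv5 F28838)
theorem F51266 : act 2 n17133 = n17674 := d15_3 F43902 F43903 F51264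
theorem F51267 : act 2 n17732 = n27153 := d15_3 (iv0 D27153) (iv0 F28593) (iv7 F51264)
theorem F51268 : act 2 n17264 = n17352 := d2_3 (iv5 F28838) F51267 F43897
theorem F51269 : act 7 n27153 = n17674 := d4_2 (iv7 F51264) F51267 (iv2 F51266)
theorem F51270 : act 7 n17353 = n17264 := d13_2 F51269 F28744 (iv5 F43897)
theorem F51271 : act 2 n17265 = n17353 := d4_3 F51270 F51268 (iv7 F51265)
theorem F51272 : act 7 n27907 = n18860 := d11_2 F51270 (iv4 F45065) (iv4 F41676)
theorem F51273 : act 2 n18860 = n27908 := d15_3 F45067 F45066 F51272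
theorem F51274 : act 2 n27907 = n18859 := d15_3 (iv0 D18859) D18860 (iv7 F51272)
theorem F51275 : act 7 n18859 = n27908 := d4_2 (iv7 F51272) F51274 (iv2 F51273)
theorem F51276 : act 2 n17544 = n27084 := d3_3 F43755 F51271 (iv6 F43464)
theorem F51277 : act 2 n17720 = n27147 := d2_3 (iv5 F43886) F51276 F43754
theorem F51278 : act 7 n27083 = n17544 := d15_2 F43753 F43749 F51276
theorem F51279 : act 7 n17543 = n27084 := d15_2 F28539 F28542 (iv2 F51276)
theorem F51280 : act 2 n27083 = n17543 := d4_3 F51279 (iv2 F51276) (iv7 F51278)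
theorem F51281 : act 7 n17720 = n17112 := d13_2 F51279 F43754 (iv5 F28538)
theorem F51282 : act 2 n17112 = n17695 := d15_3 F43751 D17720 F51281
theorem F51283 : act 7 n27147 = n17695 := d4_2 (iv7 F51281) F51277 (iv2 F51282)
theorem F51284 : act 2 n26742 = n16676 := d1_3 (iv4 F28976) F51282 (iv4 F42958)
theorem E5467 : n17691 = n8004 := (c3_4 D17112 F51282 (iv6 D17695) (iv2 F28758))
theorem E5468 : n17108 = n8330 := (((iv2 F28052)).symm.trans (sb E5467 F28758))
theorem E5469 : n26739 = n7755 := ((((iv4 F28975)).symm.trans (sb E5467 (iv4 F42957)))).symm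
theorem E5470 : n17103 = n8329 := ((F28050).symm.trans (sb E5467 (iv7 D17691)))
theorem F51285 : act 2 n8330 = n8004 := (sb E5468 F28052)
theorem E5471 : n16672 = n12793 := ((((iv4 F42953)).symm.trans (sb E5468 F28974))).symm
theorem E5472 : n17687 = n8003 := ((F28757).symm.trans (sb E5468 (iv7 D17108)))
theorem E5473 : n16667 = n12792 := ((F27295).symm.trans (sb E5469 (iv7 D26739)))
theorem F51286 : act 7 n8329 = n8004 := (sb E5470 (iv7 F28050))
theorem F51287 : act 2 n12793 = n7755 := (sb E5471 F27297)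
theorem E5474 : n26735 = n7754 := ((F42952).symm.trans (sb E5471 (iv7 D16672)))
theorem F51288 : act 2 n8003 = n8329 := (sb E5472 (iv2 D17687))
theorem F51289 : act 7 n8003 = n8330 := (sb E5472 (iv7 F28757))
theorem F51290 : act 7 n12792 = n7755 := (sb E5473 (iv7 F27295))
theorem F51291 : act 2 n7754 = n12792 := (sb E5474 (iv2 D26735))
theorem F51292 : act 7 n7754 = n12793 := (sb E5474 (iv7 F42952))
theorem F51293 : act 7 n26740 = n16668 := d8_2 F51292 D26740 (iv3 D16668)
theorem F51294 : act 7 n26741 = n16670 := d13_2 F51292 D26741 (iv5 D16670)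
theorem F51295 : act 2 n26737 = n16670 := d2_3 (iv5 D16670) F51291 D26737
theorem F51296 : act 2 n26738 = n16671 := d3_3 (iv6 D16671) F51291 D26738
theorem F51297 : act 2 n17107 = n17678 := d1_3 (iv4 F42954) F51296 (iv4 F28971)
theorem E5475 : n18706 = n13274 := (c2_4 (iv5 F42955) F51296 F27296 (iv2 F29966))
theorem E5476 : n27817 = n8772 := (((iv2 F44925)).symm.trans (sb E5475 F29966))
theorem E5477 : n27812 = n8771 := ((F44922).symm.trans (sb E5475 (iv7 D18706)))
theorem F51298 : act 2 n8772 = n13274 := (sb E5476 F44925)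
theorem E5478 : n18701 = n13273 := ((F29964).symm.trans (sb E5476 (iv7 D27817)))
theorem F51299 : act 7 n8771 = n13274 := (sb E5477 (iv7 F44922))
theorem F51300 : act 2 n13273 = n8771 := (sb E5478 (iv2 D18701))
theorem F51301 : act 7 n13273 = n8772 := (sb E5478 (iv7 F29964))
theorem F51302 : act 7 n18707 = n27813 := d8_2 F51301 D18707 (iv3 D27813)
theorem F51303 : act 7 n18708 = n27814 := d11_2 F51301 D18708 (iv4 D27814)
theorem F51304 : act 7 n16671 = n27815 := d13_2 F51301 (iv5 F27296) (iv5 D27815)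
theorem F51305 : act 7 n17673 = n17107 := d11_2 F51304 F44923 F28971
theorem F51306 : act 2 n27815 = n18704 := d15_3 (iv0 F42202) F44886 F51304
theorem F51307 : act 7 n26738 = n18704 := d4_2 (iv7 F51304) (iv2 F51296) (iv2 F51306)
theorem F51308 : act 7 n17132 = n17678 := d11_2 F51307 F29965 (iv4 F42954)
theorem F51309 : act 2 n17673 = n17132 := d4_3 F51308 (iv2 F51297) (iv7 F51305)
theorem F51310 : act 2 n27814 = n18703 := d15_3 (iv0 F43243) F30333 F51303
theorem F51311 : act 7 n27819 = n18703 := d15_2 (iv0 F46266) F46267 (iv2 F51310)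
theorem F51312 : act 2 n18708 = n27819 := d4_3 F51311 (iv2 F51310) (iv7 F51303)
theorem F51313 : act 2 n18705 = n27816 := d3_3 (iv6 D27816) F51300 D18705
theorem F51314 : act 7 n27818 = n18702 := d8_2 F51299 D27818 (iv3 D18702)
theorem F51315 : act 2 n27820 = n18709 := d3_3 (iv6 D18709) F51298 D27820
theorem F51316 : act 7 n16673 = n26736 := d8_2 F51290 D16673 (iv3 D26736)
theorem F51317 : act 7 n16675 = n26737 := d13_2 F51290 D16675 (iv5 D26737)
theorem F51318 : act 2 n26741 = n16675 := d4_3 F51317 F51295 (iv7 F51294)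
theorem F51319 : act 7 n17692 = n17104 := d8_2 F51289 D17692 (iv3 D17104)
theorem F51320 : act 7 n17694 = n17106 := d13_2 F51289 D17694 (iv5 D17106)
theorem F51321 : act 7 n17345 = n26967 := d14_4 F51320 F28232 (iv7 F51234) F43439 F43518
theorem F51322 : act 2 n17106 = n17690 := d15_3 (iv0 F43799) (iv0 F43798) F51320
theorem F51323 : act 2 n17694 = n17111 := d15_3 (iv0 F30430) (iv0 F28248) (iv7 F51320)
theorem F51324 : act 2 n17344 = n26967 := d3_3 F43518 F51323 (iv6 F28278)
theorem F51325 : act 7 n17111 = n17690 := d4_2 (iv7 F51320) F51323 (iv2 F51322)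
theorem F51326 : act 7 n26968 = n17344 := d14_4 F51325 (iv6 F43435) (iv7 F51263) F43989 F28278
theorem F51327 : act 2 n17345 = n26968 := d4_3 F51326 F51324 (iv7 F51321)
theorem F51328 : act 2 n17288 = n26936 := d3_3 F43439 F51327 (iv6 F43989)
theorem F51329 : act 7 n17109 = n17688 := d8_2 F51286 D17109 (iv3 D17688)
theorem F51330 : act 2 n26251 = n15234 := d3_3 (iv6 D15234) F51249 D26251
theorem F51331 : act 7 n26809 = n16797 := d8_2 F51246 D26809 (iv3 D16797)
theorem F51332 : act 7 n26810 = n16799 := d13_2 F51246 D26810 (iv5 D16799)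
theorem F51333 : act 2 n26807 = n16799 := d2_3 (iv5 D16799) F51245 D26807
theorem F51334 : act 7 n16801 = n26806 := d8_2 F51244 D16801 (iv3 D26806)
theorem F51335 : act 7 n16803 = n26807 := d13_2 F51244 D16803 (iv5 D26807)
theorem F51336 : act 2 n26810 = n16803 := d4_3 F51335 F51333 (iv7 F51332)
theorem F51337 : act 7 n17676 = n17130 := d8_2 F51243 D17676 (iv3 D17130)
theorem F51338 : act 7 n17135 = n17671 := d8_2 F51240 D17135 (iv3 D17671)
theorem F51339 : act 1 n26811 = n15987 := d15_0 (iv0 F51228) F51232 (iv2 F51237)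
def n32309 : Q := act 0 n15229
theorem D32309 : act 0 n15229 = n32309 := rfl
def n32310 : Q := act 1 n15229
theorem D32310 : act 1 n15229 = n32310 := rfl
def n32311 : Q := act 5 n15229
theorem D32311 : act 5 n15229 = n32311 := rfl
theorem F51340 : act 0 n32311 = n15645 := d21_7 (iv5 D3312) (iv1 D1465) D1467 D3322 D7215 D15229 D32311 F25141 (iv6 D15085) (iv1 F11502)
def n32312 : Q := act 7 n15229
theorem D32312 : act 7 n15229 = n32312 := rfl
def n32313 : Q := act 0 n15231
theorem D32313 : act 0 n15231 = n32313 := rfl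
def n32314 : Q := act 1 n15231
theorem D32314 : act 1 n15231 = n32314 := rfl
def n32315 : Q := act 2 n15231
theorem D32315 : act 2 n15231 = n32315 := rfl
def n32316 : Q := act 4 n15231
theorem D32316 : act 4 n15231 = n32316 := rfl
def n32317 : Q := act 5 n15231
theorem D32317 : act 5 n15231 = n32317 := rfl
theorem F51341 : act 3 n32317 = n15233 := d6_1 D32317 (iv5 D15233) D15231
theorem F51342 : act 6 n16797 = n32317 := d7_0 F51341 (iv6 F24829) D16797
def n32318 : Q := act 6 n15231
theorem D32318 : act 6 n15231 = n32318 := rfl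
theorem F51343 : act 3 n32318 = n15234 := d7_1 D32318 (iv6 D15234) D15231
def n32319 : Q := act 3 n15232
theorem D32319 : act 3 n15232 = n32319 := rfl
def n32320 : Q := act 5 n15232
theorem D32320 : act 5 n15232 = n32320 := rfl
def n32321 : Q := act 6 n15232
theorem D32321 : act 6 n15232 = n32321 := rfl
theorem F51344 : act 4 n32321 = n15234 := d10_1 D32321 (iv6 D15234) D15232
def n32322 : Q := act 0 n15234
theorem D32322 : act 0 n15234 = n32322 := rfl
def n32323 : Q := act 1 n15234
theorem D32323 : act 1 n15234 = n32323 := rfl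
def n32324 : Q := act 5 n15234
theorem D32324 : act 5 n15234 = n32324 := rfl
theorem F51345 : act 6 n32324 = n16799 := d12_2 D15234 D32324 (iv5 D16799) F24829 (iv5 D15233)
theorem F51346 : act 0 n31990 = n32324 := d21_1 D31990 (iv5 D32324) (iv6 D15234) (iv1 D7216) (iv6 D3322) (iv5 D1467) D1464 D3308 D7174 D15088
theorem F51347 : act 0 n32324 = n31995 := d21_10 (iv5 D31995) (iv1 D15089) D15090 F24712 F11553 (iv6 F12397) (iv5 D7844) D7842 D16799 (iv6 F51345)
def n32325 : Q := act 7 n15234
theorem D32325 : act 7 n15234 = n32325 := rfl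
def n32326 : Q := act 2 n15236
theorem D32326 : act 2 n15236 = n32326 := rfl
theorem F51348 : act 7 n15237 = n32326 := d15_2 (iv0 D15236) D15237 (iv2 D32326)
def n32327 : Q := act 3 n15236
theorem D32327 : act 3 n15236 = n32327 := rfl
def n32328 : Q := act 4 n15236
theorem D32328 : act 4 n15236 = n32328 := rfl
def n32329 : Q := act 5 n15236
theorem D32329 : act 5 n15236 = n32329 := rfl
def n32330 : Q := act 6 n15236
theorem D32330 : act 6 n15236 = n32330 := rfl
theorem F51349 : act 5 n32330 = n29070 := d21_6 (iv5 D5903) (iv1 F3945) (iv5 F5309) D7218 D15236 D32330 (iv1 D29070) (iv5 F24516) (iv6 D14852) F11325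
def n32331 : Q := act 7 n15236
theorem D32331 : act 7 n15236 = n32331 := rfl
theorem F51350 : act 2 n32331 = n15237 := d4_1 D32331 F51348 (iv2 D32326)
def n32332 : Q := act 3 n15237
theorem D32332 : act 3 n15237 = n32332 := rfl
def n32333 : Q := act 4 n15237
theorem D32333 : act 4 n15237 = n32333 := rfl
def n32334 : Q := act 5 n15237
theorem D32334 : act 5 n15237 = n32334 := rfl
def n32335 : Q := act 6 n15237
theorem D32335 : act 6 n15237 = n32335 := rfl
def n32336 : Q := act 0 n15238
theorem D32336 : act 0 n15238 = n32336 := rfl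
theorem F51351 : act 1 n18715 = n32336 := d15_0 (iv0 D32336) (iv7 F44940) F44938
def n32337 : Q := act 1 n15238
theorem D32337 : act 1 n15238 = n32337 := rfl
theorem F51352 : act 1 n32337 = n18715 := d15_1 D32337 (iv7 F41688) F41686
def n32338 : Q := act 4 n15238
theorem D32338 : act 4 n15238 = n32338 := rfl
theorem F51353 : act 6 n32338 = n15239 := d10_2 (iv6 F24831) D32338 (iv4 D15239)
def n32339 : Q := act 3 n15239
theorem D32339 : act 3 n15239 = n32339 := rfl
theorem F51354 : act 5 n32339 = n26695 := d6_2 (iv5 F24833) D32339 (iv3 D26695)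
theorem F51355 : act 7 n32339 = n16447 := d8_2 (iv7 F24832) D32339 (iv3 D16447)
def n32340 : Q := act 3 n15240
theorem D32340 : act 3 n15240 = n32340 := rfl
theorem F51356 : act 4 n32340 = n16913 := d5_2 F41888 D32340 (iv3 F43600) (iv4 F50855) F50854
theorem F51357 : act 7 n32340 = n26702 := d8_2 (iv7 F42878) D32340 (iv3 D26702)
def n32341 : Q := act 6 n15241
theorem D32341 : act 6 n15241 = n32341 := rfl
theorem F51358 : act 2 n32341 = n26703 := d3_1 D32341 (iv6 D26703) (iv2 F42883)
def n32342 : Q := act 5 n15242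
theorem D32342 : act 5 n15242 = n32342 := rfl
theorem F51359 : act 2 n32342 = n15243 := d2_1 D32342 (iv5 D15243) D15242
theorem F51360 : act 7 n32342 = n25672 := d13_2 (iv7 F24836) D32342 F40594
theorem F51361 : act 0 n32342 = n25661 := d17_2 (iv1 F24837) D32342 (iv5 D25661) F37263 D13598 D28515 F46079 F41896 F24927
theorem F51362 : act 1 n32342 = n25675 := d17_6 (iv1 F26641) (iv5 F21075) F27125 F12395 (iv4 F24835) D32342 F40597 F37266 F8904
def n32343 : Q := act 6 n15242
theorem D32343 : act 6 n15242 = n32343 := rfl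
theorem F51363 : act 2 n32343 = n15244 := d3_1 D32343 (iv6 D15244) D15242
theorem F51364 : act 4 n32343 = n15262 := d10_1 D32343 (iv6 D15262) (iv4 F24835)
theorem F51365 : act 7 n28391 = n32343 := d11_0 F51364 (iv7 F26914) D28391
def n32344 : Q := act 4 n15243
theorem D32344 : act 4 n15243 = n32344 := rfl
theorem F51366 : act 7 n32344 = n26706 := d11_2 (iv7 F24841) D32344 (iv4 D26706)
theorem F51367 : act 0 n32344 = n26507 := d18_2 F26967 D32344 (iv4 D26507) (iv5 D12656) (iv4 D6003) (iv0 D2530) (iv4 F3812) D5782 D12202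
theorem F51368 : act 1 n32344 = n26537 := d18_6 F24930 (iv4 D15259) (iv1 D7227) (iv4 F11537) D15243 D32344 (iv4 D26537) F42430 F42431
def n32345 : Q := act 6 n15243
theorem D32345 : act 6 n15243 = n32345 := rfl
theorem F51369 : act 3 n32345 = n15245 := d7_1 D32345 (iv6 D15245) (iv3 F24840)
def n32346 : Q := act 0 n15244
theorem D32346 : act 0 n15244 = n32346 := rfl
def n32347 : Q := act 1 n15244
theorem D32347 : act 1 n15244 = n32347 := rfl
theorem F51370 : act 1 n32347 = n28391 := d15_1 D32347 F51365 F51363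
def n32348 : Q := act 5 n15244
theorem D32348 : act 5 n15244 = n32348 := rfl
theorem F51371 : act 3 n32348 = n15248 := d6_1 D32348 (iv5 D15248) (iv3 F24842)
def n32349 : Q := act 7 n15244
theorem D32349 : act 7 n15244 = n32349 := rfl
theorem F51372 : act 2 n32349 = n28391 := d4_1 D32349 F51365 F51363
theorem F51373 : act 3 n32349 = n15249 := d8_1 D32349 (iv7 D15249) (iv3 F24842)
theorem F51374 : act 4 n32349 = n15266 := d11_1 D32349 (iv7 D15266) (iv4 F24843)
theorem F51375 : act 6 n32349 = n24840 := d14_1 D32349 (iv7 D24840) F19128 (iv7 F11538) D15244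
theorem F51376 : act 1 n28391 = n32346 := d15_0 (iv0 D32346) D32349 F51372
def n32350 : Q := act 0 n15245
theorem D32350 : act 0 n15245 = n32350 := rfl
def n32351 : Q := act 1 n15245
theorem D32351 : act 1 n15245 = n32351 := rfl
def n32352 : Q := act 5 n15245
theorem D32352 : act 5 n15245 = n32352 := rfl
theorem F51377 : act 6 n32352 = n15248 := d12_2 D15245 D32352 (iv5 D15248) (iv6 D7222) D7221
def n32353 : Q := act 7 n15245
theorem D32353 : act 7 n15245 = n32353 := rfl
theorem F51378 : act 6 n32353 = n26710 := d14_1 D32353 (iv7 D26710) (iv6 D12765) (iv7 F11539) D15245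
def n32354 : Q := act 5 n15246
theorem D32354 : act 5 n15246 = n32354 := rfl
def n32355 : Q := act 6 n15246
theorem D32355 : act 6 n15246 = n32355 := rfl
theorem F51379 : act 4 n32355 = n16889 := d10_1 D32355 F27660 (iv4 F24844)
theorem F51380 : act 7 n32355 = n28706 := d14_2 F27719 D32355 F46281 F23480 (iv6 F27718)
theorem F51381 : act 1 n26869 = n32355 := d15_1 (iv0 F47548) F51380 (iv2 F47546)
def n32356 : Q := act 3 n15247
theorem D32356 : act 3 n15247 = n32356 := rfl
theorem F51382 : act 6 n32356 = n29012 := d7_2 (iv6 F24846) D32356 (iv3 D29012)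
def n32357 : Q := act 5 n15247
theorem D32357 : act 5 n15247 = n32357 := rfl
def n32358 : Q := act 0 n15248
theorem D32358 : act 0 n15248 = n32358 := rfl
theorem F51383 : act 5 n32358 = n25499 := d17_3 (iv1 D15247) D15248 D32358 F40330 F22712 F21464 F9521 D12915 F24845
theorem F51384 : act 7 n25498 = n32358 := d13_0 F51383 (iv7 D25499) D25498
def n32359 : Q := act 1 n15248
theorem D32359 : act 1 n15248 = n32359 := rfl
theorem F51385 : act 5 n32359 = n23743 := d17_7 F27905 F18037 (iv1 D7224) F5315 (iv4 F11542) D15248 D32359 F50288 F50285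
theorem F51386 : act 2 n25498 = n32359 := d2_3 F51385 F36968 D25498
def n32360 : Q := act 4 n15248
theorem D32360 : act 4 n15248 = n32360 := rfl
def n32361 : Q := act 7 n15248
theorem D32361 : act 7 n15248 = n32361 := rfl
theorem F51387 : act 5 n32361 = n15249 := d13_1 D32361 (iv7 D15249) D15248
theorem F51388 : act 1 n25498 = n32361 := d15_1 (iv0 F40329) (iv7 D32361) (iv2 F27745)
def n32362 : Q := act 5 n15250
theorem D32362 : act 5 n15250 = n32362 := rfl
theorem F51389 : act 1 n32362 = n23927 := d17_6 F27813 (iv5 F20039) F20044 F20043 D15250 D32362 (iv5 D23927) D23925 (iv4 F37343)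
def n32363 : Q := act 3 n15251
theorem D32363 : act 3 n15251 = n32363 := rfl
theorem F51390 : act 4 n32363 = n32356 := d5_2 D15251 D32363 (iv3 D32356) (iv4 F24845) F21461
theorem F51391 : act 6 n32363 = n29008 := d7_2 (iv6 F24850) D32363 (iv3 D29008)
def n32364 : Q := act 5 n15251
theorem D32364 : act 5 n15251 = n32364 := rfl
theorem F51392 : act 0 n32364 = n23927 := d17_2 (iv1 F37702) D32364 (iv5 D23927) (iv4 F22293) (iv5 F26388) (iv0 D13547) F12491 (iv0 F18452) (iv4 F37700)
def n32365 : Q := act 5 n15254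
theorem D32365 : act 5 n15254 = n32365 := rfl
theorem F51393 : act 2 n32365 = n17396 := d2_1 D32365 (iv5 D17396) F26657
theorem F51394 : act 7 n32365 = n26726 := d13_2 (iv7 F26776) D32365 (iv5 D26726)
def n32366 : Q := act 5 n15259
theorem D32366 : act 5 n15259 = n32366 := rfl
theorem F51395 : act 2 n32366 = n26726 := d2_1 D32366 (iv5 D26726) F26781
theorem F51396 : act 3 n32366 = n17404 := d6_1 D32366 F28371 F26700
theorem F51397 : act 7 n32366 = n17396 := d13_2 (iv7 F26698) D32366 (iv5 D17396)
def n32367 : Q := act 6 n15263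
theorem D32367 : act 6 n15263 = n32367 := rfl
theorem F51398 : act 2 n32367 = n23832 := d3_1 D32367 (iv6 D23832) F26915
theorem F51399 : act 3 n32367 = n28373 := d7_1 D32367 (iv6 D28373) (iv3 F26916)
theorem F51400 : act 7 n32367 = n29066 := d14_2 (iv7 F26917) D32367 (iv6 D29066) (iv7 F26826) F26828
def n32368 : Q := act 4 n15265
theorem D32368 : act 4 n15265 = n32368 := rfl
theorem F51401 : act 2 n32368 = n32033 := d1_1 D32368 (iv4 D32033) (iv2 F41438)
theorem F51402 : act 7 n32368 = n32030 := d11_2 F41440 D32368 (iv4 D32030)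
def n32369 : Q := act 6 n15268
theorem D32369 : act 6 n15268 = n32369 := rfl
theorem F51403 : act 5 n32369 = n16444 := d12_1 D32369 (iv6 D16444) (iv5 F22850) F22849 D15268
def n32370 : Q := act 4 n15269
theorem D32370 : act 4 n15269 = n32370 := rfl
theorem F51404 : act 2 n32370 = n31574 := d1_1 D32370 (iv4 F50522) F50520
theorem F51405 : act 3 n32370 = n16911 := d5_1 D32370 (iv4 D16911) F12492 F12039 D15269
theorem F51406 : act 6 n32370 = n24230 := d10_2 (iv6 F24858) D32370 F37986
theorem F51407 : act 7 n32370 = n31573 := d11_2 F27298 D32370 F49900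
theorem F51408 : act 0 n32370 = n16926 := d20_7 D31552 F50150 (iv4 F27115) F27114 (iv1 F12038) D15269 D32370 F27758 (iv3 F41184) (iv1 F41190)
theorem F51409 : act 0 n25248 = n32370 := d20_10 (iv4 D32370) F50649 (iv4 F27857) (iv3 F50406) (iv1 D25455) (iv3 D12100) (iv4 D5733) F8692 D11987 D25248
def n32371 : Q := act 5 n15269
theorem D32371 : act 5 n15269 = n32371 := rfl
theorem F51410 : act 3 n32371 = n15270 := d6_1 D32371 (iv5 D15270) D15269
def n32372 : Q := act 4 n15270
theorem D32372 : act 4 n15270 = n32372 := rfl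
theorem F51411 : act 0 n32372 = n31800 := d18_2 F41321 D32372 (iv4 D31800) F26681 (iv4 F12696) F12700 (iv4 F11509) (iv0 F20614) D26118
theorem F51412 : act 1 n32372 = n31803 := d18_6 (iv1 F26609) (iv4 F26634) F8182 F12039 D15270 D32372 (iv4 D31803) (iv0 F27323) (iv5 D16683)
def n32373 : Q := act 6 n15270
theorem D32373 : act 6 n15270 = n32373 := rfl
theorem F51413 : act 5 n32373 = n29063 := d12_1 D32373 (iv6 D29063) (iv5 D13835) (iv6 F12040) D15270
def n32374 : Q := act 4 n15271
theorem D32374 : act 4 n15271 = n32374 := rfl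
theorem F51414 : act 2 n32374 = n32005 := d1_1 D32374 F50374 F24860
theorem F51415 : act 5 n32374 = n32372 := d9_2 (iv5 F24859) D32374 (iv4 D32372) (iv5 D15270) (iv4 F12039) (iv5 F5626) (iv4 F5299) D7177 D15093 D32004 F50371 (iv5 D15268) (iv4 F12535) D7928 (iv4 F20664)
theorem F51416 : act 7 n32374 = n26151 := d11_2 (iv7 F24861) D32374 (iv4 D26151)
theorem F51417 : act 0 n32374 = n31795 := d18_2 D15271 D32374 (iv4 D31795) (iv5 D14962) (iv4 F26634) F8183 F12535 (iv0 D7230) D7232
theorem F51418 : act 1 n32374 = n16974 := d18_6 D12378 F26557 F12569 (iv4 F20664) (iv5 F24859) D32374 (iv4 D16974) (iv0 F26567) (iv5 D12381)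
def n32375 : Q := act 6 n15271
theorem D32375 : act 6 n15271 = n32375 := rfl
theorem F51419 : act 2 n32375 = n32006 := d3_1 D32375 (iv6 D32006) F24860
theorem F51420 : act 3 n32375 = n26196 := d7_1 D32375 (iv6 D26196) F26898
theorem F51421 : act 5 n32375 = n32063 := d12_1 D32375 (iv6 D32063) F24731 (iv6 F20665) (iv5 F24859)
def n32376 : Q := act 3 n15272
theorem D32376 : act 3 n15272 = n32376 := rfl
def n32377 : Q := act 7 n15272
theorem D32377 : act 7 n15272 = n32377 := rfl
theorem F51422 : act 2 n32377 = n31888 := d4_1 D32377 F50195 F27319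
theorem F51423 : act 4 n32377 = n15273 := d11_1 D32377 (iv7 D15273) D15272
theorem F51424 : act 5 n32377 = n16682 := d13_1 D32377 (iv7 F50195) F50196
theorem F51425 : act 1 n26113 = n32377 := d15_1 (iv0 F41309) (iv7 D32377) (iv2 F27319)
theorem F51426 : act 1 n32377 = n31807 := d15_1 F51425 F50110 (iv2 F41307)
def n32378 : Q := act 6 n15273
theorem D32378 : act 6 n15273 = n32378 := rfl
theorem F51427 : act 2 n32378 = n32002 := d3_1 D32378 (iv6 D32002) (iv2 F24864)
theorem F51428 : act 3 n32378 = n32031 := d7_1 D32378 (iv6 D32031) (iv3 F41441)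
theorem F51429 : act 5 n32378 = n26725 := d12_1 D32378 (iv6 D26725) F21214 (iv6 F11556) (iv5 F24865)
def n32379 : Q := act 6 n15283
theorem D32379 : act 6 n15283 = n32379 := rfl
theorem F51430 : act 3 n32379 = n15286 := d7_1 D32379 (iv6 D15286) D15283
theorem F51431 : act 7 n32379 = n15307 := d14_2 (iv7 F42899) D32379 (iv6 D15307) (iv7 F42902) (iv6 F50850)
def n32380 : Q := act 6 n15284
theorem D32380 : act 6 n15284 = n32380 := rfl
theorem F51432 : act 3 n32380 = n15307 := d7_1 D32380 (iv6 D15307) (iv3 F24873)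
theorem F51433 : act 4 n32380 = n15286 := d10_1 D32380 (iv6 D15286) D15284
theorem F51434 : act 7 n32380 = n15286 := d14_2 (iv7 F42900) D32380 (iv6 D15286) (iv7 F42894) (iv6 F50849)
def n32382 : Q := act 1 n15286
theorem D32382 : act 1 n15286 = n32382 := rfl
def n32383 : Q := act 5 n15286
theorem D32383 : act 5 n15286 = n32383 := rfl
def n32384 : Q := act 4 n15287
theorem D32384 : act 4 n15287 = n32384 := rfl
theorem F51435 : act 2 n32384 = n15291 := d1_1 D32384 (iv4 D15291) (iv2 F24874)
theorem F51436 : act 7 n32384 = n28532 := d11_2 F25732 D32384 (iv4 D28532)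
theorem F51437 : act 0 n32384 = n16121 := d18_2 F37251 D32384 (iv4 D16121) (iv5 D7529) F11797 (iv0 F11796) (iv4 F4482) F37246 (iv5 F22793)
def n32385 : Q := act 6 n15287
theorem D32385 : act 6 n15287 = n32385 := rfl
theorem F51438 : act 2 n32385 = n15292 := d3_1 D32385 (iv6 D15292) (iv2 F24874)
def n32386 : Q := act 5 n15288
theorem D32386 : act 5 n15288 = n32386 := rfl
theorem F51439 : act 2 n32386 = n15295 := d2_1 D32386 (iv5 D15295) (iv2 F24875)
theorem F51440 : act 0 n32386 = n28429 := d17_2 F49885 D32386 (iv5 D28429) (iv4 D13561) D13562 F45962 F50764 F41188 D31547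
theorem F51441 : act 1 n32386 = n28411 := d17_6 F26797 D15137 (iv1 F50749) F50661 F27138 D32386 (iv5 D28411) (iv0 F41306) F41303
def n32387 : Q := act 5 n15291
theorem D32387 : act 5 n15291 = n32387 := rfl
theorem F51442 : act 3 n32387 = n17665 := d6_1 D32387 (iv5 D17665) (iv3 F24876)
def n32388 : Q := act 6 n15291
theorem D32388 : act 6 n15291 = n32388 := rfl
theorem F51443 : act 3 n32388 = n17666 := d7_1 D32388 (iv6 D17666) (iv3 F24876)
theorem F51444 : act 4 n32388 = n15292 := d10_1 D32388 (iv6 D15292) D15291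
def n32389 : Q := act 0 n15292
theorem D32389 : act 0 n15292 = n32389 := rfl
def n32390 : Q := act 1 n15292
theorem D32390 : act 1 n15292 = n32390 := rfl
def n32391 : Q := act 5 n15292
theorem D32391 : act 5 n15292 = n32391 := rfl
theorem F51445 : act 3 n32391 = n15299 := d6_1 D32391 (iv5 D15299) (iv3 F24877)
theorem F51446 : act 6 n32391 = n15295 := d12_2 D15292 D32391 (iv5 D15295) (iv6 D7240) D7239
def n32392 : Q := act 7 n15292
theorem D32392 : act 7 n15292 = n32392 := rfl
theorem F51447 : act 3 n32392 = n15300 := d8_1 D32392 (iv7 D15300) (iv3 F24877)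
def n32393 : Q := act 2 n15293
theorem D32393 : act 2 n15293 = n32393 := rfl
theorem F51448 : act 7 n15294 = n32393 := d15_2 (iv0 D15293) D15294 (iv2 D32393)
def n32394 : Q := act 6 n15293
theorem D32394 : act 6 n15293 = n32394 := rfl
def n32395 : Q := act 7 n15293
theorem D32395 : act 7 n15293 = n32395 := rfl
theorem F51449 : act 2 n32395 = n15294 := d4_1 D32395 F51448 (iv2 D32393)
def n32396 : Q := act 3 n15294
theorem D32396 : act 3 n15294 = n32396 := rfl
def n32397 : Q := act 4 n15294
theorem D32397 : act 4 n15294 = n32397 := rfl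
def n32398 : Q := act 5 n15294
theorem D32398 : act 5 n15294 = n32398 := rfl
def n32399 : Q := act 6 n15294
theorem D32399 : act 6 n15294 = n32399 := rfl
def n32400 : Q := act 0 n15295
theorem D32400 : act 0 n15295 = n32400 := rfl
def n32401 : Q := act 1 n15295
theorem D32401 : act 1 n15295 = n32401 := rfl
theorem F51450 : act 5 n32401 = n23839 := d17_7 (iv1 D15141) D15143 F50746 (iv5 D16666) F12056 D15295 D32401 (iv0 F50722) (iv4 D32085)
theorem F51451 : act 3 n23841 = n32401 := d6_3 F51450 (iv3 D23839) D23841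
def n32402 : Q := act 4 n15299
theorem D32402 : act 4 n15299 = n32402 := rfl
theorem F51452 : act 6 n32402 = n15302 := d10_2 (iv6 F24881) D32402 (iv4 D15302)
def n32403 : Q := act 7 n15299
theorem D32403 : act 7 n15299 = n32403 := rfl
theorem F51453 : act 5 n32403 = n15300 := d13_1 D32403 (iv7 D15300) D15299
theorem F51454 : act 1 n18761 = n32403 := d15_1 (iv0 F30059) (iv7 D32403) (iv2 F25201)
theorem F51455 : act 1 n32403 = n27857 := d15_1 F51454 F44987 F30066
def n32404 : Q := act 3 n15302
theorem D32404 : act 3 n15302 = n32404 := rfl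
def n32405 : Q := act 5 n15305
theorem D32405 : act 5 n15305 = n32405 := rfl
def n32406 : Q := act 6 n15305
theorem D32406 : act 6 n15305 = n32406 := rfl
theorem F51456 : act 4 n32406 = n15307 := d10_1 D32406 (iv6 D15307) D15305
def n32407 : Q := act 0 n15307
theorem D32407 : act 0 n15307 = n32407 := rfl
def n32408 : Q := act 1 n15307
theorem D32408 : act 1 n15307 = n32408 := rfl
def n32409 : Q := act 5 n15307
theorem D32409 : act 5 n15307 = n32409 := rfl
def n32410 : Q := act 5 n15310
theorem D32410 : act 5 n15310 = n32410 := rfl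
def n32411 : Q := act 5 n15313
theorem D32411 : act 5 n15313 = n32411 := rfl
theorem F51457 : act 2 n32411 = n15317 := d2_1 D32411 (iv5 D15317) (iv2 F24893)
theorem F51458 : act 3 n32411 = n25672 := d6_1 D32411 F40594 (iv3 F24894)
theorem F51459 : act 0 n32411 = n23774 := d17_2 F26702 D32411 (iv5 D23774) (iv4 F26647) (iv5 F42396) (iv0 F43644) (iv5 D27013) (iv0 D12936) (iv4 F21476)
theorem F51460 : act 1 n32411 = n23771 := d17_6 D5121 D11186 (iv1 F43059) (iv5 D15314) D15313 D32411 (iv5 D23771) (iv0 D11133) F7576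
def n32412 : Q := act 4 n15314
theorem D32412 : act 4 n15314 = n32412 := rfl
theorem F51461 : act 2 n32412 = n15320 := d1_1 D32412 (iv4 D15320) (iv2 F24895)
def n32413 : Q := act 6 n15314
theorem D32413 : act 6 n15314 = n32413 := rfl
theorem F51462 : act 2 n32413 = n15321 := d3_1 D32413 (iv6 D15321) (iv2 F24895)
theorem F51463 : act 3 n32413 = n28533 := d7_1 D32413 (iv6 D28533) F25730
def n32414 : Q := act 3 n15316
theorem D32414 : act 3 n15316 = n32414 := rfl
theorem F51464 : act 2 n32414 = n23963 := d0_1 D32414 F37428 F18242 (iv3 F21475) (iv2 F26659)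
theorem F51465 : act 4 n32414 = n25570 := d5_2 F26651 D32414 F40453 (iv4 D15254) (iv3 F26650)
theorem F51466 : act 6 n32414 = n23962 := d7_2 (iv6 F26660) D32414 F37422
theorem F51467 : act 7 n32414 = n20022 := d8_2 F27725 D32414 F31857
def n32415 : Q := act 0 n15317
theorem D32415 : act 0 n15317 = n32415 := rfl
theorem F51468 : act 5 n32415 = n16865 := d21_2 D15317 D32415 (iv6 F42760) (iv1 F42763) (iv6 D15939) D15938 (iv1 F43571) (iv5 D26987) (iv6 F26660) (iv1 D15316)
theorem F51469 : act 2 n23774 = n32415 := d15_3 (iv0 D32415) (iv0 F43053) F42386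
theorem F51470 : act 7 n32415 = n23771 := d4_2 F42386 F51469 (iv2 F42385)
def n32416 : Q := act 4 n15317
theorem D32416 : act 4 n15317 = n32416 := rfl
theorem F51471 : act 3 n32416 = n32344 := d5_1 D32416 (iv4 D32344) F24840 (iv4 F12911) (iv3 F24897)
def n32417 : Q := act 6 n15317
theorem D32417 : act 6 n15317 = n32417 := rfl
theorem F51472 : act 3 n32417 = n17383 := d7_1 D32417 (iv6 D17383) (iv3 F24897)
def n32418 : Q := act 4 n15318
theorem D32418 : act 4 n15318 = n32418 := rfl
theorem F51473 : act 2 n32418 = n23892 := d1_1 D32418 (iv4 D23892) (iv2 F43046)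
theorem F51474 : act 7 n32418 = n23879 := d11_2 (iv7 F43049) D32418 (iv4 D23879)
def n32419 : Q := act 6 n15318
theorem D32419 : act 6 n15318 = n32419 := rfl
theorem F51475 : act 2 n32419 = n23893 := d3_1 D32419 (iv6 D23893) (iv2 F43046)
theorem F51476 : act 3 n32419 = n28575 := d7_1 D32419 (iv6 D28575) (iv3 F43047)
def n32420 : Q := act 3 n15319
theorem D32420 : act 3 n15319 = n32420 := rfl
theorem F51477 : act 2 n32420 = n28522 := d0_1 D32420 F46089 (iv2 F37267) F37213 (iv2 F43050)
theorem F51478 : act 5 n32420 = n16878 := d6_2 (iv5 F43051) D32420 (iv3 D16878)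
theorem F51479 : act 7 n32420 = n23887 := d8_2 (iv7 F43052) D32420 F37294
def n32421 : Q := act 4 n15319
theorem D32421 : act 4 n15319 = n32421 := rfl
theorem F51480 : act 2 n32421 = n23879 := d1_1 D32421 (iv4 D23879) (iv2 F43050)
theorem F51481 : act 7 n32421 = n23892 := d11_2 (iv7 F43052) D32421 (iv4 D23892)
def n32422 : Q := act 6 n15319
theorem D32422 : act 6 n15319 = n32422 := rfl
theorem F51482 : act 2 n32422 = n23880 := d3_1 D32422 (iv6 D23880) (iv2 F43050)
def n32423 : Q := act 0 n15320
theorem D32423 : act 0 n15320 = n32423 := rfl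
def n32424 : Q := act 5 n15320
theorem D32424 : act 5 n15320 = n32424 := rfl
theorem F51483 : act 3 n32424 = n17682 := d6_1 D32424 (iv5 D17682) (iv3 F24898)
theorem F51484 : act 1 n32424 = n17748 := d17_6 (iv1 F18161) F37308 (iv1 D7247) D7250 D15320 D32424 F29907 (iv0 F30278) F30277
def n32425 : Q := act 6 n15320
theorem D32425 : act 6 n15320 = n32425 := rfl
theorem F51485 : act 3 n32425 = n17683 := d7_1 D32425 (iv6 D17683) (iv3 F24898)
theorem F51486 : act 4 n32425 = n15321 := d10_1 D32425 (iv6 D15321) D15320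
def n32426 : Q := act 0 n15321
theorem D32426 : act 0 n15321 = n32426 := rfl
def n32427 : Q := act 1 n15321
theorem D32427 : act 1 n15321 = n32427 := rfl
def n32428 : Q := act 7 n15321
theorem D32428 : act 7 n15321 = n32428 := rfl
theorem F51487 : act 3 n32428 = n15324 := d8_1 D32428 (iv7 D15324) (iv3 F24899)
def n32429 : Q := act 3 n15322
theorem D32429 : act 3 n15322 = n32429 := rfl
def n32430 : Q := act 5 n15322
theorem D32430 : act 5 n15322 = n32430 := rfl
def n32431 : Q := act 3 n15323
theorem D32431 : act 3 n15323 = n32431 := rfl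
def n32432 : Q := act 5 n15323
theorem D32432 : act 5 n15323 = n32432 := rfl
def n32433 : Q := act 6 n15323
theorem D32433 : act 6 n15323 = n32433 := rfl
theorem F51488 : act 4 n32433 = n17069 := d10_1 D32433 (iv6 D17069) (iv4 F43174)
def n32434 : Q := act 5 n15332
theorem D32434 : act 5 n15332 = n32434 := rfl
theorem F51489 : act 2 n32434 = n18994 := d2_1 D32434 F30326 (iv2 F42912)
theorem F51490 : act 3 n32434 = n16270 := d6_1 D32434 (iv5 F25989) F25990
theorem F51491 : act 0 n32434 = n15371 := d17_2 (iv1 F28340) D32434 F24948 F11745 D16040 F40402 (iv5 D25548) F20087 D17385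
def n32435 : Q := act 6 n15332
theorem D32435 : act 6 n15332 = n32435 := rfl
def n32436 : Q := act 5 n15333
theorem D32436 : act 5 n15333 = n32436 := rfl
theorem F51492 : act 2 n32436 = n15334 := d2_1 D32436 (iv5 D15334) D15333
theorem F51493 : act 3 n32436 = n28515 := d6_1 D32436 F46079 F41893
theorem F51494 : act 1 n32436 = n23887 := d17_6 (iv1 D7500) D7501 D16042 F28356 F27262 D32436 (iv5 D23887) F37230 F11745
theorem F51495 : act 4 n32436 = n16060 := d18_5 (iv1 D6071) (iv4 F8868) D12142 F27262 D32436 (iv0 D16060) (iv4 D7505) D7504 (iv5 F26863)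
theorem F51496 : act 1 n18994 = n26307 := d17_8 (iv1 D26611) D26612 (iv1 F42626) (iv5 F29486) (iv4 F51495) (iv5 D32436) F28351 (iv5 F30326) F42616
theorem F51497 : act 1 n23887 = n15677 := d15_1 F51494 (iv7 F27259) (iv2 F51492)
theorem F51498 : act 1 n28522 = n32436 := d15_0 F51494 (iv7 F51479) F51477
theorem F51499 : act 5 n26383 = n18158 := d17_1 (iv1 F42116) (iv1 D18158) (iv5 F25861) (iv4 F25860) F24948 (iv0 F22786) D28522 F51498 F51495
theorem F51500 : act 2 n18158 = n26389 := d2_1 F51499 (iv5 D26389) (iv2 F42113)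
def n32437 : Q := act 0 n15334
theorem D32437 : act 0 n15334 = n32437 := rfl
def n32438 : Q := act 1 n15334
theorem D32438 : act 1 n15334 = n32438 := rfl
theorem F51501 : act 5 n32438 = n23885 := d17_7 (iv1 F20163) D16026 (iv1 F28358) (iv5 D17389) (iv4 F12914) D15334 D32438 F37287 (iv4 F25569)
theorem F51502 : act 3 n28526 = n32438 := d20_3 D7751 D16657 (iv4 F46096) (iv1 D32438) F24912 F17254 D22644 F35208 F25621 F25747
theorem F51503 : act 2 n32438 = n23887 := d0_1 F51502 F37294 (iv2 F43046) F43047 (iv2 F46095)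
theorem F51504 : act 7 n32438 = n28522 := d8_2 D28526 F51502 F46089
theorem E5479 : n32437 = n32420 := ((c15_4 (iv0 D32437) D32438 F51504 (iv2 F51477))).symm
theorem F51505 : act 1 n32420 = n15334 := (sb E5479 (iv0 D32437))
def n32439 : Q := act 6 n15334
theorem D32439 : act 6 n15334 = n32439 := rfl
theorem F51506 : act 3 n32439 = n15343 := d7_1 D32439 (iv6 D15343) (iv3 F24912)
def n32440 : Q := act 6 n15338
theorem D32440 : act 6 n15338 = n32440 := rfl
theorem F51507 : act 3 n32440 = n16640 := d7_1 D32440 (iv6 D16640) F27155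
def n32441 : Q := act 6 n15340
theorem D32441 : act 6 n15340 = n32441 := rfl
def n32442 : Q := act 0 n15343
theorem D32442 : act 0 n15343 = n32442 := rfl
def n32443 : Q := act 1 n15343
theorem D32443 : act 1 n15343 = n32443 := rfl
def n32444 : Q := act 7 n15343
theorem D32444 : act 7 n15343 = n32444 := rfl
def n32445 : Q := act 6 n15350
theorem D32445 : act 6 n15350 = n32445 := rfl
theorem F51508 : act 4 n32445 = n26703 := d10_1 D32445 (iv6 D26703) (iv4 F24927)
def n32446 : Q := act 5 n15352
theorem D32446 : act 5 n15352 = n32446 := rfl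
theorem F51509 : act 2 n32446 = n15354 := d2_1 D32446 (iv5 D15354) D15352
theorem F51510 : act 7 n32446 = n28515 := d13_2 F41895 D32446 F46079
theorem F51511 : act 0 n32446 = n25683 := d17_2 (iv1 F41889) D32446 (iv5 D25683) (iv4 D12201) D12202 F40598 F40594 F24834 (iv4 F41888)
theorem F51512 : act 0 n15371 = n23905 := d21_7 D32446 F51511 (iv5 D25683) D25684 F50888 (iv6 D15653) (iv5 F24948) F37315 (iv6 F50913) (iv1 F41889)
theorem F51513 : act 1 n32446 = n25669 := d15_0 F40585 F27265 (iv2 F51509)
def n32447 : Q := act 6 n15352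
theorem D32447 : act 6 n15352 = n32447 := rfl
theorem F51514 : act 2 n32447 = n15355 := d3_1 D32447 (iv6 D15355) D15352
def n32448 : Q := act 6 n15353
theorem D32448 : act 6 n15353 = n32448 := rfl
theorem F51515 : act 3 n32448 = n27000 := d7_1 D32448 (iv6 D27000) (iv3 F24928)
theorem F51516 : act 4 n32448 = n15355 := d10_1 D32448 (iv6 D15355) D15353
theorem F51517 : act 0 n32448 = n29570 := d20_7 (iv4 D3001) D2999 D6676 D14044 (iv1 F50436) (iv3 F24932) (iv4 F51516) (iv4 D29570) (iv3 D14047) (iv1 D6679)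
def n32449 : Q := act 0 n15354
theorem D32449 : act 0 n15354 = n32449 := rfl
theorem F51518 : act 5 n32449 = n25671 := d17_3 F26820 D15354 D32449 F40591 (iv5 F40597) F40599 (iv5 D12764) D12762 (iv4 F24871)
theorem F51519 : act 4 n32449 = n26728 := d18_1 D32449 (iv1 F42851) F27534 F12395 (iv4 F24835) F24837 (iv4 F24927) (iv0 D15350) D15354
theorem F51520 : act 2 n25683 = n32449 := d15_3 (iv0 D32449) F42433 (iv7 F40604)
theorem F51521 : act 1 n28515 = n32449 := d15_0 (iv0 D32449) (iv7 F27265) F46080
theorem F51522 : act 7 n32449 = n25669 := d15_2 D28515 F51521 F40584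
theorem F51523 : act 3 n26518 = n18201 := d20_3 (iv4 F51519) (iv1 F51521) (iv4 F46081) (iv1 D18201) (iv3 D8586) (iv4 D3851) (iv1 F6939) (iv4 F12383) (iv3 F21226) D26728
theorem F51524 : act 3 n32449 = n28564 := d0_2 (iv3 F40603) F51520 F46130 F22798 (iv2 F22792)
def n32450 : Q := act 6 n15354
theorem D32450 : act 6 n15354 = n32450 := rfl
theorem F51525 : act 3 n32450 = n15359 := d7_1 D32450 (iv6 D15359) (iv3 F24931)
def n32451 : Q := act 0 n15355
theorem D32451 : act 0 n15355 = n32451 := rfl
def n32452 : Q := act 1 n15355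
theorem D32452 : act 1 n15355 = n32452 := rfl
theorem F51526 : act 3 n24397 = n32452 := d20_9 (iv4 F51516) F51517 (iv4 D29570) (iv3 D14047) (iv1 D6679) D6680 (iv4 F22377) D28168 F45531 (iv1 D32452)
theorem F51527 : act 4 n32452 = n24837 := d20_6 (iv4 D5328) (iv1 F3576) (iv4 F8175) (iv3 F18807) (iv1 F38246) F51526 (iv1 D24837) F19127 (iv3 D6041) F8092
def n32453 : Q := act 5 n15355
theorem D32453 : act 5 n15355 = n32453 := rfl
theorem F51528 : act 3 n32453 = n15362 := d6_1 D32453 (iv5 D15362) (iv3 F24932)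
theorem F51529 : act 7 n32453 = n29253 := d13_2 F50558 D32453 (iv5 F50559)
def n32454 : Q := act 6 n15356
theorem D32454 : act 6 n15356 = n32454 := rfl
theorem F51530 : act 3 n32454 = n15955 := d7_1 D32454 (iv6 D15955) F35183
def n32455 : Q := act 0 n15357
theorem D32455 : act 0 n15357 = n32455 := rfl
theorem F51531 : act 4 n32455 = n29575 := d20_2 (iv4 F24935) D32455 (iv3 D29575) (iv1 D14049) (iv3 D6680) (iv4 D3001) D2999 D6676 D14044 (iv1 F50436)
theorem F51532 : act 6 n32455 = n31533 := d21_5 D16133 F25670 (iv5 D15356) D15357 D32455 F50965 (iv1 F51049) (iv5 D32107) F41334 F11792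
theorem F51533 : act 2 n29575 = n32455 := d15_3 (iv0 D32455) (iv0 F50648) (iv7 F49983)
theorem F51534 : act 3 n32455 = n16609 := d0_2 D29575 F51533 (iv2 D16609) (iv3 F26721) F49984
theorem F51535 : act 7 n32455 = n16613 := d4_2 (iv7 F49983) F51533 (iv2 F46756)
def n32456 : Q := act 5 n15357
theorem D32456 : act 5 n15357 = n32456 := rfl
theorem F51536 : act 3 n32456 = n27003 := d6_1 D32456 (iv5 D27003) (iv3 F24934)
def n32457 : Q := act 6 n15358
theorem D32457 : act 6 n15358 = n32457 := rfl
theorem F51537 : act 4 n32457 = n15359 := d10_1 D32457 (iv6 D15359) D15358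
def n32458 : Q := act 0 n15359
theorem D32458 : act 0 n15359 = n32458 := rfl
def n32459 : Q := act 1 n15359
theorem D32459 : act 1 n15359 = n32459 := rfl
def n32460 : Q := act 5 n15359
theorem D32460 : act 5 n15359 = n32460 := rfl
theorem F51538 : act 2 n32460 = n29258 := d2_1 D32460 F46919 F27268
theorem F51539 : act 6 n32460 = n15362 := d12_2 D15359 D32460 (iv5 D15362) (iv6 D7261) D7260
def n32461 : Q := act 7 n15359
theorem D32461 : act 7 n15359 = n32461 := rfl
def n32462 : Q := act 4 n15362
theorem D32462 : act 4 n15362 = n32462 := rfl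
theorem F51540 : act 2 n32462 = n29257 := d1_1 D32462 (iv4 D29257) (iv2 F27257)
theorem F51541 : act 7 n32462 = n29254 := d11_2 F38258 D32462 (iv4 D29254)
def n32463 : Q := act 3 n15364
theorem D32463 : act 3 n15364 = n32463 := rfl
theorem F51542 : act 2 n32463 = n18560 := d0_1 D32463 (iv3 D18560) F13626 (iv3 F11573) (iv2 F24936)
def n32464 : Q := act 6 n15364
theorem D32464 : act 6 n15364 = n32464 := rfl
theorem F51543 : act 2 n32464 = n15380 := d3_1 D32464 (iv6 D15380) (iv2 F24936)
theorem F51544 : act 4 n32464 = n15365 := d10_1 D32464 (iv6 D15365) D15364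
def n32465 : Q := act 0 n15365
theorem D32465 : act 0 n15365 = n32465 := rfl
def n32466 : Q := act 1 n15365
theorem D32466 : act 1 n15365 = n32466 := rfl
theorem F51545 : act 1 n32466 = n15384 := d15_1 D32466 (iv7 D15384) (iv2 F24937)
def n32467 : Q := act 5 n15365
theorem D32467 : act 5 n15365 = n32467 := rfl
theorem F51546 : act 2 n32467 = n15383 := d2_1 D32467 (iv5 D15383) (iv2 F24937)
theorem F51547 : act 3 n32467 = n15440 := d6_1 D32467 (iv5 F41696) F41695
theorem F51548 : act 6 n32467 = n15368 := d12_2 D15365 D32467 (iv5 D15368) (iv6 D7263) D7262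
def n32468 : Q := act 7 n15365
theorem D32468 : act 7 n15365 = n32468 := rfl
theorem F51549 : act 2 n32468 = n15384 := d4_1 D32468 (iv7 D15384) (iv2 F24937)
theorem F51550 : act 1 n15384 = n32465 := d15_0 (iv0 D32465) D32468 F51549
theorem F51551 : act 1 n15382 = n32468 := d15_1 D15382 (iv7 D32468) F24937
theorem F51552 : act 1 n32468 = n15381 := d15_0 (iv0 D15381) D15384 (iv2 F51549)
def n32469 : Q := act 3 n15366
theorem D32469 : act 3 n15366 = n32469 := rfl
theorem F51553 : act 4 n32469 = n25554 := d5_2 F27872 D32469 (iv3 F40420) (iv4 D17005) D17004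
theorem F51554 : act 7 n32469 = n15386 := d8_2 (iv7 F35046) D32469 (iv3 D15386)
def n32470 : Q := act 5 n15366
theorem D32470 : act 5 n15366 = n32470 := rfl
theorem F51555 : act 2 n32470 = n15388 := d2_1 D32470 (iv5 D15388) (iv2 F35045)
theorem F51556 : act 7 n32470 = n15388 := d13_2 (iv7 F35046) D32470 (iv5 D15388)
theorem F51557 : act 0 n32470 = n26132 := d21_1 D32470 (iv5 D26132) (iv6 D12394) D12390 F41331 (iv5 F27194) (iv1 F20832) (iv5 D7262) D7263 D15366
theorem F51558 : act 0 n26132 = n32470 := d21_1 D26132 (iv5 D32470) (iv6 F50642) (iv1 F49940) F24531 D14905 (iv1 F50564) (iv5 D29212) F50567 (iv1 F41400)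
def n32471 : Q := act 2 n15371
theorem D32471 : act 2 n15371 = n32471 := rfl
theorem F51559 : act 4 n32471 = n26610 := d1_2 (iv4 F25860) D32471 (iv2 F42619)
theorem F51560 : act 5 n32471 = n15652 := d2_2 (iv5 F24948) D32471 (iv2 D15652)
theorem F51561 : act 1 n32471 = n18994 := d15_0 F51496 F41918 D32471
def n32472 : Q := act 6 n15371
theorem D32472 : act 6 n15371 = n32472 := rfl
theorem F51562 : act 3 n32472 = n15372 := d7_1 D32472 (iv6 D15372) D15371
def n32473 : Q := act 0 n15372
theorem D32473 : act 0 n15372 = n32473 := rfl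
def n32474 : Q := act 1 n15372
theorem D32474 : act 1 n15372 = n32474 := rfl
def n32475 : Q := act 5 n15372
theorem D32475 : act 5 n15372 = n32475 := rfl
theorem F51563 : act 6 n32475 = n15661 := d12_2 D15372 D32475 (iv5 D15661) (iv6 D7368) (iv5 F17284)
def n32476 : Q := act 7 n15372
theorem D32476 : act 7 n15372 = n32476 := rfl
def n32477 : Q := act 6 n15374
theorem D32477 : act 6 n15374 = n32477 := rfl
theorem F51564 : act 3 n32477 = n15376 := d7_1 D32477 (iv6 D15376) D15374
def n32478 : Q := act 6 n15375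
theorem D32478 : act 6 n15375 = n32478 := rfl
theorem F51565 : act 4 n32478 = n15376 := d10_1 D32478 (iv6 D15376) D15375
def n32479 : Q := act 0 n15376
theorem D32479 : act 0 n15376 = n32479 := rfl
def n32480 : Q := act 1 n15376
theorem D32480 : act 1 n15376 = n32480 := rfl
def n32481 : Q := act 7 n15376
theorem D32481 : act 7 n15376 = n32481 := rfl
def n32482 : Q := act 3 n15377
theorem D32482 : act 3 n15377 = n32482 := rfl
theorem F51566 : act 5 n32482 = n21984 := d6_2 (iv5 F30814) D32482 F34485
theorem F51567 : act 0 n32482 = n22002 := d19_4 (iv1 F11812) D15656 F25153 D32482 F34499 (iv4 F17721) (iv3 D10908) (iv1 F7391) D10848 (iv4 F22032) F26944 D15435 F26748 F26745 F26744 (iv1 D16120) (iv5 D7529) F11797 D7522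
def n32483 : Q := act 6 n15377
theorem D32483 : act 6 n15377 = n32483 := rfl
def n32484 : Q := act 6 n15378
theorem D32484 : act 6 n15378 = n32484 := rfl
def n32485 : Q := act 6 n15379
theorem D32485 : act 6 n15379 = n32485 := rfl
theorem F51568 : act 3 n32485 = n18571 := d7_1 D32485 (iv6 D18571) (iv3 F24952)
def n32486 : Q := act 0 n15380
theorem D32486 : act 0 n15380 = n32486 := rfl
def n32487 : Q := act 1 n15380
theorem D32487 : act 1 n15380 = n32487 := rfl
def n32488 : Q := act 5 n15380
theorem D32488 : act 5 n15380 = n32488 := rfl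
theorem F51569 : act 3 n32488 = n18574 := d6_1 D32488 (iv5 D18574) (iv3 F24954)
def n32489 : Q := act 7 n15380
theorem D32489 : act 7 n15380 = n32489 := rfl
theorem F51570 : act 3 n32489 = n18575 := d8_1 D32489 (iv7 D18575) (iv3 F24954)
theorem F51571 : act 4 n32489 = n15384 := d11_1 D32489 (iv7 D15384) (iv4 F24955)
def n32490 : Q := act 2 n15381
theorem D32490 : act 2 n15381 = n32490 := rfl
theorem F51572 : act 7 n15382 = n32490 := d15_2 (iv0 D15381) D15382 (iv2 D32490)
def n32491 : Q := act 3 n15381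
theorem D32491 : act 3 n15381 = n32491 := rfl
def n32492 : Q := act 4 n15381
theorem D32492 : act 4 n15381 = n32492 := rfl
def n32493 : Q := act 5 n15381
theorem D32493 : act 5 n15381 = n32493 := rfl
def n32494 : Q := act 6 n15381
theorem D32494 : act 6 n15381 = n32494 := rfl
def n32495 : Q := act 7 n15381
theorem D32495 : act 7 n15381 = n32495 := rfl
theorem F51573 : act 2 n32495 = n15382 := d4_1 D32495 F51572 (iv2 D32490)
def n32496 : Q := act 3 n15382
theorem D32496 : act 3 n15382 = n32496 := rfl
def n32497 : Q := act 4 n15382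
theorem D32497 : act 4 n15382 = n32497 := rfl
def n32498 : Q := act 5 n15382
theorem D32498 : act 5 n15382 = n32498 := rfl
def n32499 : Q := act 6 n15382
theorem D32499 : act 6 n15382 = n32499 := rfl
def n32500 : Q := act 0 n15383
theorem D32500 : act 0 n15383 = n32500 := rfl
def n32501 : Q := act 1 n15383
theorem D32501 : act 1 n15383 = n32501 := rfl
def n32502 : Q := act 4 n15383
theorem D32502 : act 4 n15383 = n32502 := rfl
theorem F51574 : act 3 n32502 = n22982 := d5_1 D32502 (iv4 F44724) F44723 (iv4 D15411) (iv3 F24956)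
theorem F51575 : act 6 n32502 = n15397 := d10_2 (iv6 F24957) D32502 (iv4 D15397)
def n32503 : Q := act 7 n15383
theorem D32503 : act 7 n15383 = n32503 := rfl
theorem F51576 : act 3 n32503 = n15412 := d8_1 D32503 (iv7 D15412) (iv3 F24956)
theorem F51577 : act 5 n32503 = n15384 := d13_1 D32503 (iv7 D15384) D15383
def n32504 : Q := act 0 n15386
theorem D32504 : act 0 n15386 = n32504 := rfl
def n32505 : Q := act 1 n15386
theorem D32505 : act 1 n15386 = n32505 := rfl
def n32506 : Q := act 2 n15386
theorem D32506 : act 2 n15386 = n32506 := rfl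
def n32507 : Q := act 4 n15386
theorem D32507 : act 4 n15386 = n32507 := rfl
theorem F51578 : act 7 n32507 = n25554 := d11_2 F51554 D32507 (iv4 F51553)
theorem F51579 : act 0 n32507 = n25555 := d20_7 (iv4 D3352) (iv1 D1479) (iv4 F2591) (iv3 F5329) D7268 D15386 D32507 F40424 F21302 (iv1 F10679)
theorem F51580 : act 5 n20497 = n32507 := d19_1 D20497 (iv4 D32507) (iv3 D15386) F26580 D7270 D15397 F26945 F17639 (iv5 D10171) (iv4 F6923) F6142 F6921 (iv5 D1872) F1831 F1830 (iv1 F1841) F7064 D4398 D9731
theorem F51581 : act 0 n20426 = n32507 := d20_1 F32459 (iv4 D32507) (iv3 D15386) F26580 F5329 F2591 D1478 D3348 D7292 (iv1 F27054)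
theorem F51582 : act 2 n32507 = n25553 := d2_1 F51580 (iv5 F40414) F32572
theorem F51583 : act 4 n25553 = n32506 := d1_2 D32507 F51582 (iv2 D32506)
theorem F51584 : act 3 n15413 = n32505 := d20_9 D32507 F51579 F40424 F21302 (iv1 F10679) D7301 (iv4 F12701) D17036 (iv4 F41841) (iv1 D32505)
def n32508 : Q := act 5 n15386
theorem D32508 : act 5 n15386 = n32508 := rfl
theorem F51585 : act 3 n32508 = n15388 := d6_1 D32508 (iv5 D15388) D15386
def n32509 : Q := act 0 n15387
theorem D32509 : act 0 n15387 = n32509 := rfl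
theorem F51586 : act 1 n15387 = n32509 := d15_0 (iv0 D32509) (iv7 F35044) (iv2 F35047)
theorem F51587 : act 3 n26282 = n32509 := d20_9 (iv4 D15387) F26580 F5330 F5329 D3342 D7277 (iv4 F20798) D26281 F41834 (iv1 F51586)
def n32510 : Q := act 5 n15387
theorem D32510 : act 5 n15387 = n32510 := rfl
def n32511 : Q := act 0 n15388
theorem D32511 : act 0 n15388 = n32511 := rfl
theorem F51588 : act 5 n32511 = n26127 := d21_2 D15388 D32511 (iv6 D26127) (iv1 F20628) (iv6 F41353) (iv5 F24947) (iv1 D7265) (iv5 D3339) D3340 D7268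
theorem F51589 : act 1 n15388 = n32511 := d15_0 (iv0 D32511) (iv7 F51556) F51555
theorem F51590 : act 2 n26132 = n32511 := d2_3 F51588 F41390 D26132
theorem F51591 : act 3 n15417 = n32511 := d6_3 F51588 F41391 (iv5 F24971)
theorem F51592 : act 7 n26132 = n32511 := d13_0 F51588 F41393 D26132
theorem F51593 : act 4 n32511 = n21231 := d19_2 (iv1 F46891) (iv5 F51588) F33457 (iv1 F16469) F16471 (iv4 F7393) (iv3 D4270) (iv1 F3132) (iv5 D1846) F1813 F1812 (iv1 F1817) D1809 D4257 D9377 D19905 (iv5 F50659) (iv4 F50657) F46872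
def n32512 : Q := act 4 n15388
theorem D32512 : act 4 n15388 = n32512 := rfl
def n32513 : Q := act 6 n15388
theorem D32513 : act 6 n15388 = n32513 := rfl
def n32514 : Q := act 3 n15395
theorem D32514 : act 3 n15395 = n32514 := rfl
def n32515 : Q := act 4 n15395
theorem D32515 : act 4 n15395 = n32515 := rfl
def n32516 : Q := act 6 n15395
theorem D32516 : act 6 n15395 = n32516 := rfl
def n32517 : Q := act 0 n15397
theorem D32517 : act 0 n15397 = n32517 := rfl
theorem F51594 : act 5 n32517 = n21520 := d17_1 D32517 (iv1 F33850) D21521 F41403 (iv5 D26132) F41400 F41399 (iv0 D15395) D15397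
theorem F51595 : act 1 n15397 = n32517 := d15_0 (iv0 D32517) (iv7 F36220) F36218
def n32518 : Q := act 0 n15400
theorem D32518 : act 0 n15400 = n32518 := rfl
def n32519 : Q := act 1 n15400
theorem D32519 : act 1 n15400 = n32519 := rfl
def n32520 : Q := act 2 n15400
theorem D32520 : act 2 n15400 = n32520 := rfl
def n32521 : Q := act 4 n15400
theorem D32521 : act 4 n15400 = n32521 := rfl
theorem F51596 : act 3 n32521 = n27080 := d5_1 D32521 (iv4 D27080) (iv3 D12972) (iv4 F41771) D15400
def n32522 : Q := act 5 n15400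
theorem D32522 : act 5 n15400 = n32522 := rfl
theorem F51597 : act 3 n32522 = n15402 := d6_1 D32522 (iv5 D15402) D15400
def n32523 : Q := act 6 n15400
theorem D32523 : act 6 n15400 = n32523 := rfl
theorem F51598 : act 3 n32523 = n15403 := d7_1 D32523 (iv6 D15403) D15400
theorem F51599 : act 5 n29766 = n32523 := d6_0 F51598 F24964 D29766
def n32524 : Q := act 0 n15402
theorem D32524 : act 0 n15402 = n32524 := rfl
theorem F51600 : act 5 n32524 = n32433 := d17_3 D7272 D15402 D32524 F51488 (iv5 F29830) (iv0 D18601) (iv5 D8735) (iv0 D3907) (iv4 F5331)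
theorem F51601 : act 1 n15407 = n32524 := d15_0 (iv0 D32524) F41793 F41791
theorem F51602 : act 1 n32433 = n17713 := d17_8 (iv1 F43751) (iv5 F43748) (iv1 F43749) (iv5 D12979) F41776 D15407 F51601 F51600 F28774
def n32525 : Q := act 1 n15402
theorem D32525 : act 1 n15402 = n32525 := rfl
theorem F51603 : act 1 n32525 = n15407 := d15_1 D32525 (iv7 F41790) F41794
def n32526 : Q := act 4 n15402
theorem D32526 : act 4 n15402 = n32526 := rfl
def n32527 : Q := act 6 n15402
theorem D32527 : act 6 n15402 = n32527 := rfl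
theorem F51604 : act 5 n32527 = n29768 := d12_1 D32527 (iv6 D29768) (iv5 F24964) (iv6 D15403) D15402
def n32528 : Q := act 0 n15405
theorem D32528 : act 0 n15405 = n32528 := rfl
def n32529 : Q := act 1 n15405
theorem D32529 : act 1 n15405 = n32529 := rfl
def n32530 : Q := act 2 n15405
theorem D32530 : act 2 n15405 = n32530 := rfl
def n32531 : Q := act 4 n15405
theorem D32531 : act 4 n15405 = n32531 := rfl
theorem F51605 : act 3 n32531 = n27093 := d5_1 D32531 (iv4 D27093) (iv3 D12977) F41776 D15405
def n32532 : Q := act 5 n15405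
theorem D32532 : act 5 n15405 = n32532 := rfl
theorem F51606 : act 3 n32532 = n15407 := d6_1 D32532 (iv5 D15407) D15405
def n32533 : Q := act 6 n15405
theorem D32533 : act 6 n15405 = n32533 := rfl
theorem F51607 : act 3 n32533 = n15408 := d7_1 D32533 (iv6 D15408) D15405
def n32534 : Q := act 4 n15407
theorem D32534 : act 4 n15407 = n32534 := rfl
def n32535 : Q := act 6 n15407
theorem D32535 : act 6 n15407 = n32535 := rfl
theorem F51608 : act 0 n31898 = n32535 := d21_4 (iv5 F12943) F26548 D15047 (iv6 F50204) (iv6 D32535) (iv5 D15407) (iv1 D7273) D7274 F11578 D7283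
def n32536 : Q := act 5 n15408
theorem D32536 : act 5 n15408 = n32536 := rfl
theorem F51609 : act 0 n32536 = n16844 := d17_2 (iv1 F41778) D32536 (iv5 D16844) (iv4 D7853) D7854 F27587 F27582 F29780 (iv4 F13665)
theorem F51610 : act 1 n32536 = n16825 := d17_6 D8323 D17673 F43790 (iv5 D27097) (iv4 F41780) D32536 (iv5 D16825) (iv0 F30054) F11560
def n32537 : Q := act 3 n15409
theorem D32537 : act 3 n15409 = n32537 := rfl
def n32538 : Q := act 4 n15409
theorem D32538 : act 4 n15409 = n32538 := rfl
def n32539 : Q := act 5 n15409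
theorem D32539 : act 5 n15409 = n32539 := rfl
theorem F51611 : act 7 n32539 = n17713 := d13_2 (iv7 F41811) D32539 F41728
theorem F51612 : act 4 n32539 = n17721 := d17_4 (iv1 D7273) D7274 D15409 D32539 F28830 (iv0 D12981) (iv5 D6163) D6162 F41776
def n32540 : Q := act 3 n15410
theorem D32540 : act 3 n15410 = n32540 := rfl
def n32541 : Q := act 4 n15410
theorem D32541 : act 4 n15410 = n32541 := rfl
theorem F51613 : act 0 n32541 = n26627 := d18_2 (iv1 F41770) D32541 (iv4 D26627) (iv5 D12723) F9351 D6162 F41776 F20783 (iv5 F41768)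
def n32542 : Q := act 6 n15410
theorem D32542 : act 6 n15410 = n32542 := rfl
def n32543 : Q := act 0 n15411
theorem D32543 : act 0 n15411 = n32543 := rfl
def n32544 : Q := act 1 n15411
theorem D32544 : act 1 n15411 = n32544 := rfl
theorem F51614 : act 4 n32544 = n16340 := d18_7 (iv1 F21125) (iv4 F42185) (iv1 D3908) (iv4 F5331) D7274 D15411 D32544 F42663 F42661
def n32545 : Q := act 5 n15411
theorem D32545 : act 5 n15411 = n32545 := rfl
def n32546 : Q := act 7 n15411
theorem D32546 : act 7 n15411 = n32546 := rfl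
theorem F51615 : act 4 n32546 = n15412 := d11_1 D32546 (iv7 D15412) D15411
def n32547 : Q := act 6 n15412
theorem D32547 : act 6 n15412 = n32547 := rfl
theorem F51616 : act 7 n32547 = n15440 := d14_2 D15412 D32547 (iv6 D15440) (iv7 D7286) (iv6 F11578)
def n32548 : Q := act 2 n15413
theorem D32548 : act 2 n15413 = n32548 := rfl
def n32549 : Q := act 5 n15413
theorem D32549 : act 5 n15413 = n32549 := rfl
def n32550 : Q := act 6 n15413
theorem D32550 : act 6 n15413 = n32550 := rfl
def n32551 : Q := act 7 n15413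
theorem D32551 : act 7 n15413 = n32551 := rfl
def n32554 : Q := act 5 n15415
theorem D32554 : act 5 n15415 = n32554 := rfl
theorem F51619 : act 2 n32554 = n15416 := d2_1 D32554 (iv5 D15416) D15415
def n32555 : Q := act 0 n15416
theorem D32555 : act 0 n15416 = n32555 := rfl
def n32556 : Q := act 1 n15416
theorem D32556 : act 1 n15416 = n32556 := rfl
def n32557 : Q := act 4 n15416
theorem D32557 : act 4 n15416 = n32557 := rfl
theorem F51620 : act 7 n32557 = n23968 := d11_2 F27934 D32557 F37445
theorem F51621 : act 5 n32557 = n23889 := d16_7 F37442 D25665 (iv4 F41849) (iv5 D26284) F20798 D15416 D32557 F37296 D23966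
theorem F51622 : act 2 n23972 = n32557 := d2_3 F51621 F37437 D23972
theorem F51623 : act 3 n23890 = n32557 := d6_3 F51621 (iv3 D23889) D23890
theorem F51624 : act 4 n32554 = n23972 := d1_0 F51622 (iv4 D32557) (iv2 F51619)
def n32558 : Q := act 6 n15416
theorem D32558 : act 6 n15416 = n32558 := rfl
theorem F51625 : act 3 n32558 = n15419 := d7_1 D32558 (iv6 D15419) (iv3 F24968)
def n32559 : Q := act 6 n15417
theorem D32559 : act 6 n15417 = n32559 := rfl
theorem F51626 : act 2 n32559 = n31898 := d3_1 D32559 F50204 F26553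
theorem F51627 : act 5 n32559 = n31890 := d12_1 D32559 (iv6 D31890) F24643 (iv6 F20639) (iv5 F24971)
def n32560 : Q := act 3 n15418
theorem D32560 : act 3 n15418 = n32560 := rfl
theorem F51628 : act 4 n32560 = n23890 := d5_2 D15418 D32560 F51623 (iv4 D32557) F24968
def n32561 : Q := act 6 n15418
theorem D32561 : act 6 n15418 = n32561 := rfl
theorem F51629 : act 4 n32561 = n15419 := d10_1 D32561 (iv6 D15419) D15418
def n32562 : Q := act 0 n15419
theorem D32562 : act 0 n15419 = n32562 := rfl
def n32563 : Q := act 1 n15419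
theorem D32563 : act 1 n15419 = n32563 := rfl
def n32564 : Q := act 7 n15419
theorem D32564 : act 7 n15419 = n32564 := rfl
def n32565 : Q := act 2 n15420
theorem D32565 : act 2 n15420 = n32565 := rfl
theorem F51630 : act 7 n15421 = n32565 := d15_2 (iv0 D15420) D15421 (iv2 D32565)
def n32566 : Q := act 4 n15420
theorem D32566 : act 4 n15420 = n32566 := rfl
theorem F51631 : act 0 n32566 = n17010 := d20_1 D32566 (iv4 D17010) (iv3 F35039) (iv1 F27868) F12575 F5630 (iv1 F4082) (iv4 F10673) D7280 D15420
theorem F51632 : act 0 n17005 = n32566 := d20_1 D17005 (iv4 D32566) F27932 (iv1 D17037) (iv3 D7962) (iv4 D3606) (iv1 D1586) (iv4 F2760) (iv3 F5629) D7940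
theorem F51633 : act 5 n22068 = n32566 := d18_9 F51631 (iv4 D17010) (iv1 D7941) (iv4 F12510) D16937 (iv4 F31352) (iv0 D10549) (iv4 F16710) D22068
def n32569 : Q := act 7 n15420
theorem D32569 : act 7 n15420 = n32569 := rfl
theorem F51634 : act 2 n32569 = n15421 := d4_1 D32569 F51630 (iv2 D32565)
def n32570 : Q := act 3 n15421
theorem D32570 : act 3 n15421 = n32570 := rfl
def n32571 : Q := act 4 n15421
theorem D32571 : act 4 n15421 = n32571 := rfl
theorem F51635 : act 0 n17010 = n32571 := d20_10 (iv4 D32571) (iv1 D15421) D15423 F24973 F21325 (iv3 F26932) (iv4 F14666) (iv1 F17224) (iv4 F32395) F32396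
theorem F51636 : act 1 n17005 = n32571 := d15_0 (iv0 F51635) (iv7 F35035) F35033
theorem F51637 : act 5 n32571 = n22067 := d17_7 D10549 D22126 (iv1 F35066) (iv5 D22508) (iv4 F35031) (iv5 F35032) F51636 (iv0 D22067) F16710
def n32572 : Q := act 5 n15421
theorem D32572 : act 5 n15421 = n32572 := rfl
def n32573 : Q := act 6 n15421
theorem D32573 : act 6 n15421 = n32573 := rfl
def n32574 : Q := act 5 n15422
theorem D32574 : act 5 n15422 = n32574 := rfl
theorem F51638 : act 2 n32574 = n15424 := d2_1 D32574 (iv5 D15424) D15422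
def n32575 : Q := act 6 n15422
theorem D32575 : act 6 n15422 = n32575 := rfl
theorem F51639 : act 2 n32575 = n15425 := d3_1 D32575 (iv6 D15425) D15422
def n32576 : Q := act 6 n15423
theorem D32576 : act 6 n15423 = n32576 := rfl
theorem F51640 : act 3 n32576 = n26869 := d7_1 D32576 (iv6 D26869) (iv3 F24973)
theorem F51641 : act 4 n32576 = n15425 := d10_1 D32576 (iv6 D15425) D15423
def n32577 : Q := act 0 n15424
theorem D32577 : act 0 n15424 = n32577 := rfl
def n32578 : Q := act 1 n15424
theorem D32578 : act 1 n15424 = n32578 := rfl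
def n32579 : Q := act 4 n15424
theorem D32579 : act 4 n15424 = n32579 := rfl
def n32580 : Q := act 6 n15424
theorem D32580 : act 6 n15424 = n32580 := rfl
theorem F51642 : act 3 n32580 = n15427 := d7_1 D32580 (iv6 D15427) (iv3 F24974)
def n32581 : Q := act 0 n15425
theorem D32581 : act 0 n15425 = n32581 := rfl
def n32582 : Q := act 1 n15425
theorem D32582 : act 1 n15425 = n32582 := rfl
def n32583 : Q := act 5 n15425
theorem D32583 : act 5 n15425 = n32583 := rfl
theorem F51643 : act 3 n32583 = n15428 := d6_1 D32583 (iv5 D15428) (iv3 F24975)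
def n32584 : Q := act 3 n15426
theorem D32584 : act 3 n15426 = n32584 := rfl
def n32585 : Q := act 6 n15426
theorem D32585 : act 6 n15426 = n32585 := rfl
theorem F51644 : act 4 n32585 = n15427 := d10_1 D32585 (iv6 D15427) D15426
def n32586 : Q := act 0 n15427
theorem D32586 : act 0 n15427 = n32586 := rfl
def n32587 : Q := act 1 n15427
theorem D32587 : act 1 n15427 = n32587 := rfl
def n32588 : Q := act 5 n15427
theorem D32588 : act 5 n15427 = n32588 := rfl
theorem F51645 : act 6 n32588 = n15428 := d12_2 D15427 D32588 (iv5 D15428) (iv6 D7282) D7281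
def n32589 : Q := act 7 n15427
theorem D32589 : act 7 n15427 = n32589 := rfl
def n32590 : Q := act 4 n15428
theorem D32590 : act 4 n15428 = n32590 := rfl
theorem F51646 : act 0 n32590 = n16436 := d17_0 (iv5 F25917) (iv1 F46274) (iv5 D28704) (iv4 D13681) (iv5 D6500) (iv0 F11987) D12758 (iv0 F24976) D32590
theorem F51647 : act 1 n32590 = n16428 := d18_6 F27308 F27304 (iv1 F12454) (iv4 F11588) D15428 D32590 (iv4 D16428) D16427 F25909
theorem E5480 : n26550 = n26475 := (c20_5 D32590 F51646 (iv4 D16436) (iv3 F26611) D26550 (iv3 D26475) (iv4 F42062) (iv1 F42063) F25344 (iv3 F26522) (iv1 F24977))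
theorem F51648 : act 1 n26475 = n12682 := (sb E5480 (iv0 D26550))
def n32591 : Q := act 0 n15429
theorem D32591 : act 0 n15429 = n32591 := rfl
def n32592 : Q := act 1 n15429
theorem D32592 : act 1 n15429 = n32592 := rfl
def n32593 : Q := act 2 n15429
theorem D32593 : act 2 n15429 = n32593 := rfl
def n32594 : Q := act 4 n15429
theorem D32594 : act 4 n15429 = n32594 := rfl
theorem F51649 : act 5 n32594 = n25535 := d16_7 (iv4 F42809) F42810 (iv4 F43299) F43300 (iv4 F28409) F28410 D32594 F42930 F42934
theorem F51650 : act 3 n32410 = n32594 := d6_3 F51649 F40362 D32410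
def n32595 : Q := act 6 n15429
theorem D32595 : act 6 n15429 = n32595 := rfl
theorem F51651 : act 3 n32595 = n15431 := d7_1 D32595 (iv6 D15431) D15429
def n32596 : Q := act 3 n15430
theorem D32596 : act 3 n15430 = n32596 := rfl
theorem F51652 : act 4 n32596 = n32410 := d5_2 D15430 D32596 F51650 (iv4 D32594) (iv3 D15429)
def n32597 : Q := act 6 n15430
theorem D32597 : act 6 n15430 = n32597 := rfl
theorem F51653 : act 4 n32597 = n15431 := d10_1 D32597 (iv6 D15431) D15430
def n32598 : Q := act 0 n15431
theorem D32598 : act 0 n15431 = n32598 := rfl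
def n32599 : Q := act 1 n15431
theorem D32599 : act 1 n15431 = n32599 := rfl
def n32600 : Q := act 7 n15431
theorem D32600 : act 7 n15431 = n32600 := rfl
def n32601 : Q := act 0 n15432
theorem D32601 : act 0 n15432 = n32601 := rfl
def n32602 : Q := act 1 n15432
theorem D32602 : act 1 n15432 = n32602 := rfl
def n32603 : Q := act 2 n15432
theorem D32603 : act 2 n15432 = n32603 := rfl
theorem F51654 : act 5 n32603 = n29695 := d2_2 (iv5 F24979) D32603 F47728
def n32604 : Q := act 4 n15432
theorem D32604 : act 4 n15432 = n32604 := rfl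
def n32605 : Q := act 6 n15432
theorem D32605 : act 6 n15432 = n32605 := rfl
theorem F51655 : act 3 n32605 = n15434 := d7_1 D32605 (iv6 D15434) D15432
theorem F51656 : act 5 n32605 = n29701 := d12_1 D32605 (iv6 D29701) (iv5 D14107) D14108 (iv5 F24979)
def n32606 : Q := act 3 n15433
theorem D32606 : act 3 n15433 = n32606 := rfl
def n32607 : Q := act 6 n15433
theorem D32607 : act 6 n15433 = n32607 := rfl
theorem F51657 : act 4 n32607 = n15434 := d10_1 D32607 (iv6 D15434) D15433
def n32608 : Q := act 0 n15434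
theorem D32608 : act 0 n15434 = n32608 := rfl
def n32609 : Q := act 1 n15434
theorem D32609 : act 1 n15434 = n32609 := rfl
def n32610 : Q := act 7 n15434
theorem D32610 : act 7 n15434 = n32610 := rfl
theorem F51658 : act 5 n32610 = n29706 := d13_1 D32610 (iv7 D29706) (iv5 F24981)
def n32611 : Q := act 3 n15435
theorem D32611 : act 3 n15435 = n32611 := rfl
def n32612 : Q := act 6 n15435
theorem D32612 : act 6 n15435 = n32612 := rfl
theorem F51659 : act 4 n32612 = n17018 := d10_1 D32612 (iv6 D17018) (iv4 F24982)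
def n32613 : Q := act 3 n15436
theorem D32613 : act 3 n15436 = n32613 := rfl
theorem F51660 : act 7 n32613 = n25697 := d8_2 (iv7 F41825) D32613 F41823
theorem F51661 : act 4 n25692 = n32613 := d19_2 D15240 (iv5 F40612) (iv3 D32613) (iv1 D15436) (iv5 F26418) (iv4 D12473) F9200 F3962 F2931 (iv4 D1572) (iv3 F2732) (iv1 F2735) D2416 F3805 (iv3 F3803) F3808 (iv5 F2578) D3325 D7220
theorem F51662 : act 0 n32596 = n23779 := d20_4 (iv4 D7285) D7283 D15430 D32596 (iv3 F40627) F40628 (iv1 F40611) F51661 (iv3 D32613) (iv1 D15436)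
theorem F51663 : act 0 n23979 = n32594 := d20_4 F12476 (iv1 F7691) D11238 (iv3 F37457) (iv3 F51650) (iv4 F51652) F51662 (iv4 D23779) F18079 (iv1 F12478)
theorem F51664 : act 1 n23974 = n32594 := d15_0 (iv0 F51663) (iv7 D23979) (iv2 F37453)
theorem F51665 : act 2 n32613 = n25701 := d1_1 F51661 (iv4 D25701) (iv2 F42879)
def n32614 : Q := act 6 n15436
theorem D32614 : act 6 n15436 = n32614 := rfl
theorem F51666 : act 4 n32614 = n17020 := d10_1 D32614 (iv6 D17020) (iv4 F24983)
def n32615 : Q := act 6 n15439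
theorem D32615 : act 6 n15439 = n32615 := rfl
theorem F51667 : act 3 n32615 = n18488 := d7_1 D32615 (iv6 D18488) (iv3 F26496)
theorem F51668 : act 4 n32615 = n15440 := d10_1 D32615 (iv6 D15440) (iv4 F24986)
def n32616 : Q := act 0 n15440
theorem D32616 : act 0 n15440 = n32616 := rfl
def n32617 : Q := act 1 n15440
theorem D32617 : act 1 n15440 = n32617 := rfl
def n32618 : Q := act 0 n15441
theorem D32618 : act 0 n15441 = n32618 := rfl
def n32619 : Q := act 1 n15441
theorem D32619 : act 1 n15441 = n32619 := rfl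
def n32620 : Q := act 5 n15441
theorem D32620 : act 5 n15441 = n32620 := rfl
theorem F51669 : act 3 n32620 = n15442 := d6_1 D32620 (iv5 D15442) D15441
theorem F51670 : act 4 n32620 = n22378 := d20_6 F15180 (iv1 F7244) (iv4 F7261) D9437 F27051 (iv3 F51669) (iv1 D22378) F17194 (iv3 D9731) (iv1 F15178)
def n32621 : Q := act 6 n15442
theorem D32621 : act 6 n15442 = n32621 := rfl
def n32622 : Q := act 5 n15443
theorem D32622 : act 5 n15443 = n32622 := rfl
theorem F51671 : act 2 n32622 = n26994 := d2_1 D32622 F43584 (iv2 F26941)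
theorem F51672 : act 3 n32622 = n16006 := d6_1 D32622 (iv5 D16006) (iv3 F26942)
theorem F51673 : act 7 n32622 = n26995 := d13_2 F40438 D32622 F43586
theorem F51674 : act 0 n32622 = n26996 := d17_2 (iv1 F40671) D32622 F43590 F21478 F9530 F12484 F26789 F25001 (iv4 F40669)
theorem F51675 : act 1 n32622 = n23964 := d17_6 (iv1 F8885) (iv5 F7567) F12641 D7291 D15443 D32622 (iv5 D23964) (iv0 F18244) (iv4 D8179)
def n32623 : Q := act 0 n15447
theorem D32623 : act 0 n15447 = n32623 := rfl
theorem F51676 : act 5 n32623 = n26192 := d19_1 D32623 F41575 F32581 (iv1 F31713) (iv5 D19867) F14575 (iv3 F14348) (iv1 F14352) (iv5 F6913) (iv4 F13804) (iv3 D8862) (iv1 D3950) (iv5 F4230) D6286 (iv3 F20770) D26262 F41705 (iv4 D15449) (iv3 F24989)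
theorem F51677 : act 2 n26198 = n32623 := d15_3 (iv0 D32623) (iv0 F27921) (iv7 F41589)
theorem F51678 : act 1 n32044 = n32623 := d15_0 (iv0 D32623) (iv7 F41857) (iv2 F50672)
theorem F51679 : act 7 n32623 = n32019 := d15_2 D32044 F51678 F50385
def n32624 : Q := act 4 n15447
theorem D32624 : act 4 n15447 = n32624 := rfl
def n32625 : Q := act 6 n15447
theorem D32625 : act 6 n15447 = n32625 := rfl
theorem F51680 : act 3 n32625 = n15450 := d7_1 D32625 (iv6 D15450) (iv3 F24989)
def n32626 : Q := act 3 n15448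
theorem D32626 : act 3 n15448 = n32626 := rfl
theorem F51681 : act 5 n32626 = n26172 := d6_2 (iv5 F24992) D32626 F41518
theorem F51682 : act 7 n32626 = n26171 := d8_2 (iv7 F24991) D32626 F41517
theorem F51683 : act 0 n17011 = n32626 := d21_1 D17011 F51681 F41519 (iv1 F41540) (iv6 F41543) D26485 F42378 F27028 (iv6 F27867) (iv1 F27869)
def n32627 : Q := act 4 n15448
theorem D32627 : act 4 n15448 = n32627 := rfl
theorem F51684 : act 2 n32627 = n32062 := d1_1 D32627 F50682 F24993
theorem F51685 : act 7 n32627 = n26177 := d11_2 (iv7 F24991) D32627 (iv4 D26177)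
theorem F51686 : act 0 n32627 = n17034 := d17_0 F27919 F26493 (iv5 F43312) F43311 F21314 (iv0 F10680) D7293 D15448 D32627
theorem F51687 : act 1 n32627 = n17041 := d18_6 (iv1 F12944) (iv4 D8178) D8177 (iv4 F20682) (iv5 F24992) D32627 (iv4 D17041) (iv0 F20635) (iv5 D12396)
def n32628 : Q := act 6 n15448
theorem D32628 : act 6 n15448 = n32628 := rfl
theorem F51688 : act 2 n32628 = n32063 := d3_1 D32628 (iv6 D32063) F24993
theorem F51689 : act 5 n32628 = n32006 := d12_1 D32628 (iv6 D32006) F24715 (iv6 F20683) (iv5 F24992)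
def n32629 : Q := act 3 n15449
theorem D32629 : act 3 n15449 = n32629 := rfl
def n32630 : Q := act 6 n15449
theorem D32630 : act 6 n15449 = n32630 := rfl
theorem F51690 : act 4 n32630 = n15450 := d10_1 D32630 (iv6 D15450) D15449
def n32631 : Q := act 0 n15450
theorem D32631 : act 0 n15450 = n32631 := rfl
def n32632 : Q := act 1 n15450
theorem D32632 : act 1 n15450 = n32632 := rfl
def n32633 : Q := act 7 n15450
theorem D32633 : act 7 n15450 = n32633 := rfl
def n32634 : Q := act 2 n15452
theorem D32634 : act 2 n15452 = n32634 := rfl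
theorem F51691 : act 7 n15453 = n32634 := d15_2 (iv0 D15452) D15453 (iv2 D32634)
def n32636 : Q := act 7 n15452
theorem D32636 : act 7 n15452 = n32636 := rfl
theorem F51692 : act 2 n32636 = n15453 := d4_1 D32636 F51691 (iv2 D32634)
def n32637 : Q := act 3 n15453
theorem D32637 : act 3 n15453 = n32637 := rfl
theorem F51694 : act 4 n32637 = n32509 := d5_2 F27052 D32637 (iv3 F51587) (iv4 F41834) F41832
theorem F51695 : act 0 n32637 = n17004 := d20_4 F12701 D15452 F27052 D32637 (iv3 D17004) D17005 F51632 (iv4 D32566) F27932 (iv1 D17037)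
theorem F51696 : act 0 n17004 = n32637 := d20_4 D32571 (iv1 F51636) (iv4 D17005) D17004 (iv3 D32637) (iv4 F27052) (iv1 F41838) F41836 (iv3 F27908) (iv1 F27912)
theorem E5481 : n32570 = n32504 := ((c20_5 F51694 (iv1 F51586) (iv4 D15387) D15386 D32504 (iv3 D32570) D32571 (iv1 F51636) (iv4 D17005) D17004 F51696)).symm
theorem F51697 : act 3 n32504 = n15421 := (sb E5481 (iv3 D32570))
def n32638 : Q := act 5 n15453
theorem D32638 : act 5 n15453 = n32638 := rfl
def n32639 : Q := act 6 n15453
theorem D32639 : act 6 n15453 = n32639 := rfl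
def n32640 : Q := act 5 n15454
theorem D32640 : act 5 n15454 = n32640 := rfl
theorem F51699 : act 2 n32640 = n15455 := d2_1 D32640 (iv5 D15455) D15454
theorem F51700 : act 3 n32640 = n32044 := d6_1 D32640 (iv5 F50671) F41852
def n32641 : Q := act 6 n15454
theorem D32641 : act 6 n15454 = n32641 := rfl
theorem F51701 : act 2 n32641 = n15456 := d3_1 D32641 (iv6 D15456) D15454
def n32642 : Q := act 0 n15455
theorem D32642 : act 0 n15455 = n32642 := rfl
def n32643 : Q := act 1 n15455
theorem D32643 : act 1 n15455 = n32643 := rfl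
def n32644 : Q := act 4 n15455
theorem D32644 : act 4 n15455 = n32644 := rfl
theorem F51702 : act 7 n32644 = n25665 := d11_2 F41843 D32644 (iv4 F41849)
theorem F51703 : act 5 n32644 = n23971 := d16_3 F12701 D15455 D32644 (iv4 D23971) D23972 (iv4 F51624) (iv5 D32554) (iv7 F27926) (iv2 D17038)
theorem F51704 : act 3 n25675 = n32644 := d6_3 F51703 F37452 (iv5 F40597)
theorem F51705 : act 4 n32642 = n25538 := d20_8 F18066 (iv1 F12503) F12502 (iv3 F21196) (iv1 F40599) F51704 (iv4 D32644) D32642 F40371 F20072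
theorem F51706 : act 0 n25538 = n23968 := d18_2 D32642 F51705 F37445 (iv5 D17039) F12701 D15453 (iv4 F27052) (iv0 D15452) D15455
theorem F51707 : act 5 n31920 = n32642 := d19_1 D31920 F51705 F40371 F20072 (iv5 D11129) (iv4 D5088) (iv3 F3446) (iv1 F3475) F3473 F2413 F1612 (iv1 D806) D807 D1484 (iv3 F26276) D1490 (iv5 F5293) D7164 D15056
def n32645 : Q := act 6 n15455
theorem D32645 : act 6 n15455 = n32645 := rfl
theorem F51708 : act 3 n32645 = n15458 := d7_1 D32645 (iv6 D15458) (iv3 F24995)
def n32646 : Q := act 0 n15456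
theorem D32646 : act 0 n15456 = n32646 := rfl
theorem F51709 : act 4 n32646 = n31690 := d20_0 (iv1 D31690) (iv4 F41210) (iv3 D26061) (iv1 D12353) F26626 (iv4 D7639) (iv1 F9377) (iv4 F11601) (iv3 F24996) D32646
def n32647 : Q := act 1 n15456
theorem D32647 : act 1 n15456 = n32647 := rfl
theorem F51710 : act 4 n31689 = n32647 := d20_0 (iv1 D32647) (iv4 F27936) F27935 (iv1 F21181) F26691 F12012 F5512 D7095 D14900 D31689
def n32648 : Q := act 5 n15456
theorem D32648 : act 5 n15456 = n32648 := rfl
theorem F51711 : act 3 n32648 = n15459 := d6_1 D32648 (iv5 D15459) (iv3 F24996)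
def n32649 : Q := act 3 n15457
theorem D32649 : act 3 n15457 = n32649 := rfl
theorem F51712 : act 4 n32649 = n25675 := d5_2 D15457 D32649 F51704 (iv4 D32644) F24995
theorem F51713 : act 7 n32649 = n25673 := d8_2 F41845 D32649 F41848
theorem F51714 : act 2 n25685 = n32649 := d1_3 F51712 F40596 D25685
def n32650 : Q := act 6 n15457
theorem D32650 : act 6 n15457 = n32650 := rfl
theorem F51715 : act 4 n32650 = n15458 := d10_1 D32650 (iv6 D15458) D15457
def n32651 : Q := act 0 n15458
theorem D32651 : act 0 n15458 = n32651 := rfl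
def n32652 : Q := act 1 n15458
theorem D32652 : act 1 n15458 = n32652 := rfl
def n32653 : Q := act 5 n15458
theorem D32653 : act 5 n15458 = n32653 := rfl
theorem F51716 : act 6 n32653 = n15459 := d12_2 D15458 D32653 (iv5 D15459) (iv6 D7303) D7302
theorem F51717 : act 5 n18705 = n32652 := d21_6 (iv5 D12747) (iv1 D6027) D6028 F9366 D8771 D18705 (iv1 D32652) D32653 F51716 F24998
def n32654 : Q := act 7 n15458
theorem D32654 : act 7 n15458 = n32654 := rfl
def n32655 : Q := act 4 n15459
theorem D32655 : act 4 n15459 = n32655 := rfl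
theorem F51718 : act 0 n32655 = n26699 := d17_0 F42803 (iv1 F42784) F24833 (iv4 D12751) (iv5 D6028) D6027 D12747 (iv0 F24998) D32655
theorem F51719 : act 1 n32655 = n26697 := d18_6 (iv1 F25947) (iv4 D7639) (iv1 F9377) (iv4 F11601) D15459 D32655 (iv4 D26697) D26696 F42794
def n32656 : Q := act 5 n15520
theorem D32656 : act 5 n15520 = n32656 := rfl
theorem F51720 : act 2 n32656 = n15521 := d2_1 D32656 (iv5 D15521) D15520
theorem F51721 : act 3 n32656 = n28524 := d6_1 D32656 F46092 F28400
theorem F51722 : act 7 n32656 = n28568 := d13_2 F27753 D32656 F46147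
theorem F51723 : act 1 n32656 = n28505 := d17_6 (iv1 D7469) D7470 D15943 F35196 F26714 D32656 (iv5 D28505) F37254 F11723
theorem F51724 : act 4 n32656 = n15961 := d18_5 (iv1 D6129) (iv4 F9522) D12916 F26714 D32656 (iv0 D15961) (iv4 D7474) D7473 (iv5 F35189)
theorem F51725 : act 1 n28505 = n15803 := d15_1 F51723 F26879 (iv2 F51720)
theorem F51726 : act 1 n28564 = n32656 := d15_0 F51723 F46059 (iv2 F46130)
theorem E5482 : n28565 = n16884 := (c21_4 D32656 (iv1 F51726) (iv5 D28564) D28565 (iv1 D16884) (iv6 D7868) (iv5 F5922) D8897 (iv5 F25996) (iv6 F50850) (iv1 F27736))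
theorem F51727 : act 2 n16884 = n13622 := (sb E5482 F46132)
theorem F51728 : act 6 n16884 = n13619 := (sb E5482 (iv6 D28565))
def n32657 : Q := act 1 n15521
theorem D32657 : act 1 n15521 = n32657 := rfl
theorem F51729 : act 1 n32657 = n28568 := d15_1 D32657 (iv7 F51722) F51720
theorem F51730 : act 7 n32657 = n28564 := d15_2 (iv0 F46145) D32657 F46130
theorem F51731 : act 5 n32657 = n25668 := d17_7 (iv1 F21013) D15928 (iv1 F35198) (iv5 D16927) (iv4 F12506) D15521 D32657 (iv0 F40582) F22796
theorem F51732 : act 3 n25669 = n32657 := d20_3 (iv4 F12381) D16762 (iv4 F40586) (iv1 D32657) F25074 D15532 (iv1 F42482) (iv4 D26534) F21081 (iv1 F26961)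
theorem F51733 : act 2 n32657 = n28505 := d0_1 F51732 F46058 F22778 (iv3 F22781) (iv2 F40584)
def n32658 : Q := act 6 n15521
theorem D32658 : act 6 n15521 = n32658 := rfl
theorem F51734 : act 3 n32658 = n15533 := d7_1 D32658 (iv6 D15533) (iv3 F25074)
theorem F51735 : act 5 n32658 = n29281 := d12_1 D32658 (iv6 D29281) F23176 F26480 D15521
def n32659 : Q := act 1 n15532
theorem D32659 : act 1 n15532 = n32659 := rfl
theorem F51736 : act 1 n32659 = n15547 := d15_1 D32659 (iv7 F26831) (iv2 F26881)
theorem F51737 : act 7 n32659 = n32061 := d15_2 F42482 D32659 F50678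
theorem F51738 : act 5 n32659 = n32062 := d17_7 (iv1 F24969) F24971 (iv1 F20640) (iv5 F20791) (iv4 F27883) (iv5 F27885) D32659 F50684 (iv4 D15426)
theorem F51739 : act 4 n32659 = n24384 := d17_9 F38234 (iv5 D12522) F10674 (iv5 F12930) (iv4 F27886) (iv5 D17024) D17022 (iv5 F27885) D32659
def n32660 : Q := act 3 n15532
theorem D32660 : act 3 n15532 = n32660 := rfl
def n32661 : Q := act 6 n15532
theorem D32661 : act 6 n15532 = n32661 := rfl
theorem F51740 : act 4 n32661 = n15533 := d10_1 D32661 (iv6 D15533) D15532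
def n32662 : Q := act 0 n15533
theorem D32662 : act 0 n15533 = n32662 := rfl
def n32663 : Q := act 1 n15533
theorem D32663 : act 1 n15533 = n32663 := rfl
def n32664 : Q := act 7 n15533
theorem D32664 : act 7 n15533 = n32664 := rfl
theorem F51741 : act 5 n32664 = n29284 := d13_1 D32664 (iv7 D29284) (iv5 F26484)
def n32665 : Q := act 5 n15541
theorem D32665 : act 5 n15541 = n32665 := rfl
theorem F51742 : act 2 n32665 = n15543 := d2_1 D32665 (iv5 D15543) D15541
theorem F51743 : act 3 n32665 = n28568 := d6_1 D32665 F46147 F27752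
theorem F51744 : act 7 n32665 = n28524 := d13_2 F28402 D32665 F46092
theorem F51745 : act 0 n32665 = n23869 := d17_2 F26768 D32665 (iv5 D23869) (iv4 F37244) D13593 F37256 (iv5 D15287) F11861 D16478
theorem F51746 : act 1 n32665 = n28526 := d17_6 (iv1 F11776) D7554 (iv1 F25675) (iv5 F26841) F26765 D32665 F46097 F37241 (iv4 F11770)
theorem F51747 : act 4 n32665 = n16156 := d18_5 F27158 (iv4 F27159) F26842 F26765 D32665 F25694 (iv4 D7556) F11780 (iv5 F25728)
theorem F51748 : act 3 n16156 = n27379 := d20_3 (iv4 F46096) (iv1 F51746) F51747 (iv1 D27379) (iv3 D13116) (iv4 D6244) (iv1 F14022) D7978 F12745 D16657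
def n32666 : Q := act 4 n15543
theorem D32666 : act 4 n15543 = n32666 := rfl
theorem F51749 : act 2 n32666 = n16156 := d1_1 D32666 (iv4 F51747) F51742
theorem F51750 : act 7 n32666 = n16155 := d11_2 F26830 D32666 F25739
theorem F51751 : act 0 n32666 = n16111 := d18_2 F25750 D32666 (iv4 D16111) (iv5 D7524) (iv4 F11797) D7527 (iv4 F20886) F25427 D13623
theorem F51752 : act 1 n32666 = n16160 := d18_6 D3512 D7738 (iv1 F26486) F26487 D15543 D32666 F25697 (iv0 F25746) (iv5 D3515)
def n32667 : Q := act 6 n15543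
theorem D32667 : act 6 n15543 = n32667 := rfl
theorem F51753 : act 3 n32667 = n15548 := d7_1 D32667 (iv6 D15548) (iv3 F25090)
theorem F51754 : act 5 n32667 = n31857 := d12_1 D32667 (iv6 D31857) F24632 F26489 D15543
def n32668 : Q := act 3 n15547
theorem D32668 : act 3 n15547 = n32668 := rfl
def n32669 : Q := act 6 n15547
theorem D32669 : act 6 n15547 = n32669 := rfl
theorem F51755 : act 4 n32669 = n15548 := d10_1 D32669 (iv6 D15548) D15547
def n32670 : Q := act 0 n15548
theorem D32670 : act 0 n15548 = n32670 := rfl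
def n32671 : Q := act 1 n15548
theorem D32671 : act 1 n15548 = n32671 := rfl
def n32672 : Q := act 7 n15548
theorem D32672 : act 7 n15548 = n32672 := rfl
theorem F51756 : act 5 n32672 = n31860 := d13_1 D32672 (iv7 D31860) (iv5 F26490)
def n32673 : Q := act 0 n15560
theorem D32673 : act 0 n15560 = n32673 := rfl
def n32674 : Q := act 6 n15560
theorem D32674 : act 6 n15560 = n32674 := rfl
theorem F51757 : act 3 n32674 = n15563 := d7_1 D32674 (iv6 D15563) D15560
def n32675 : Q := act 3 n15561
theorem D32675 : act 3 n15561 = n32675 := rfl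
def n32676 : Q := act 6 n15561
theorem D32676 : act 6 n15561 = n32676 := rfl
theorem F51758 : act 4 n32676 = n15563 := d10_1 D32676 (iv6 D15563) D15561
def n32677 : Q := act 0 n15563
theorem D32677 : act 0 n15563 = n32677 := rfl
def n32678 : Q := act 1 n15563
theorem D32678 : act 1 n15563 = n32678 := rfl
def n32679 : Q := act 7 n15563
theorem D32679 : act 7 n15563 = n32679 := rfl
def n32680 : Q := act 6 n15565
theorem D32680 : act 6 n15565 = n32680 := rfl
theorem F51759 : act 3 n32680 = n15568 := d7_1 D32680 (iv6 D15568) D15565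
def n32681 : Q := act 3 n15566
theorem D32681 : act 3 n15566 = n32681 := rfl
def n32682 : Q := act 6 n15566
theorem D32682 : act 6 n15566 = n32682 := rfl
theorem F51760 : act 4 n32682 = n15568 := d10_1 D32682 (iv6 D15568) D15566
def n32683 : Q := act 0 n15568
theorem D32683 : act 0 n15568 = n32683 := rfl
def n32684 : Q := act 1 n15568
theorem D32684 : act 1 n15568 = n32684 := rfl
def n32685 : Q := act 7 n15568
theorem D32685 : act 7 n15568 = n32685 := rfl
def n32686 : Q := act 3 n15569
theorem D32686 : act 3 n15569 = n32686 := rfl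
def n32687 : Q := act 6 n15569
theorem D32687 : act 6 n15569 = n32687 := rfl
theorem F51761 : act 4 n32687 = n17417 := d10_1 D32687 (iv6 D17417) (iv4 F26494)
def n32688 : Q := act 3 n15570
theorem D32688 : act 3 n15570 = n32688 := rfl
theorem F51762 : act 4 n32688 = n26586 := d5_2 (iv4 F26495) D32688 (iv3 F42579) (iv4 D26378) F26950
theorem F51763 : act 5 n32688 = n25673 := d6_2 F41846 D32688 F41848
def n32689 : Q := act 6 n15570
theorem D32689 : act 6 n15570 = n32689 := rfl
theorem F51764 : act 4 n32689 = n17418 := d10_1 D32689 (iv6 D17418) (iv4 F26495)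
def n32690 : Q := act 0 n15572
theorem D32690 : act 0 n15572 = n32690 := rfl
def n32691 : Q := act 1 n15572
theorem D32691 : act 1 n15572 = n32691 := rfl
theorem F51765 : act 4 n32691 = n16374 := d18_7 (iv1 F21144) (iv4 F42346) (iv1 D3899) (iv4 F5371) F26491 (iv4 F25105) D32691 F42709 F42707
def n32692 : Q := act 5 n15572
theorem D32692 : act 5 n15572 = n32692 := rfl
theorem F51766 : act 3 n32692 = n18491 := d6_1 D32692 (iv5 D18491) (iv3 F25104)
def n32693 : Q := act 7 n15572
theorem D32693 : act 7 n15572 = n32693 := rfl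
theorem F51767 : act 3 n32693 = n18492 := d8_1 D32693 (iv7 D18492) (iv3 F25104)
theorem F51768 : act 4 n32693 = n15576 := d11_1 D32693 (iv7 D15576) (iv4 F25105)
def n32694 : Q := act 3 n15573
theorem D32694 : act 3 n15573 = n32694 := rfl
def n32695 : Q := act 4 n15573
theorem D32695 : act 4 n15573 = n32695 := rfl
def n32696 : Q := act 5 n15573
theorem D32696 : act 5 n15573 = n32696 := rfl
theorem F51769 : act 7 n32696 = n17813 := d13_2 (iv7 F41968) D32696 F41933
theorem F51770 : act 4 n32696 = n17822 := d17_4 (iv1 D7348) F26491 D15573 D32696 (iv5 F30499) (iv0 D12894) (iv5 D6112) D6111 F41950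
theorem F51771 : act 1 n32696 = n26844 := d17_8 F30018 (iv5 D18550) (iv1 F22023) F22020 (iv4 F20845) (iv5 F41938) F41969 D32696 F43237
def n32697 : Q := act 6 n15573
theorem D32697 : act 6 n15573 = n32697 := rfl
def n32698 : Q := act 3 n15574
theorem D32698 : act 3 n15574 = n32698 := rfl
def n32699 : Q := act 4 n15574
theorem D32699 : act 4 n15574 = n32699 := rfl
theorem F51772 : act 0 n32699 = n26646 := d18_2 (iv1 F41940) D32699 (iv4 D26646) (iv5 D12732) F9355 D6111 F41950 F20848 (iv5 F41938)
def n32700 : Q := act 6 n15574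
theorem D32700 : act 6 n15574 = n32700 := rfl
def n32701 : Q := act 0 n15592
theorem D32701 : act 0 n15592 = n32701 := rfl
def n32702 : Q := act 1 n15592
theorem D32702 : act 1 n15592 = n32702 := rfl
def n32703 : Q := act 2 n15592
theorem D32703 : act 2 n15592 = n32703 := rfl
def n32704 : Q := act 4 n15592
theorem D32704 : act 4 n15592 = n32704 := rfl
theorem F51773 : act 3 n32704 = n26933 := d5_1 D32704 (iv4 D26933) (iv3 D12886) (iv4 F41941) D15592
def n32705 : Q := act 5 n15592
theorem D32705 : act 5 n15592 = n32705 := rfl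
theorem F51774 : act 3 n32705 = n15594 := d6_1 D32705 (iv5 D15594) D15592
def n32706 : Q := act 6 n15592
theorem D32706 : act 6 n15592 = n32706 := rfl
theorem F51775 : act 3 n32706 = n15595 := d7_1 D32706 (iv6 D15595) D15592
def n32707 : Q := act 0 n15594
theorem D32707 : act 0 n15594 = n32707 := rfl
theorem F51776 : act 5 n32707 = n16845 := d17_3 D7347 D15594 D32707 F27591 D16849 (iv0 F27593) (iv5 D8701) (iv0 D3898) (iv4 F5371)
theorem F51777 : act 1 n15599 = n32707 := d15_0 (iv0 D32707) F41964 F41962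
theorem F51778 : act 1 n16845 = n17813 := d17_8 (iv1 F43463) (iv5 F43434) (iv1 F43436) (iv5 D12892) F41950 D15599 F51777 F51776 F28948
def n32708 : Q := act 1 n15594
theorem D32708 : act 1 n15594 = n32708 := rfl
theorem F51779 : act 1 n32708 = n15599 := d15_1 D32708 (iv7 F41961) F41965
def n32709 : Q := act 4 n15594
theorem D32709 : act 4 n15594 = n32709 := rfl
def n32710 : Q := act 6 n15594
theorem D32710 : act 6 n15594 = n32710 := rfl
def n32711 : Q := act 0 n15597
theorem D32711 : act 0 n15597 = n32711 := rfl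
def n32712 : Q := act 1 n15597
theorem D32712 : act 1 n15597 = n32712 := rfl
def n32713 : Q := act 2 n15597
theorem D32713 : act 2 n15597 = n32713 := rfl
def n32714 : Q := act 4 n15597
theorem D32714 : act 4 n15597 = n32714 := rfl
theorem F51780 : act 3 n32714 = n26941 := d5_1 D32714 (iv4 D26941) (iv3 D12890) F41950 D15597
def n32715 : Q := act 5 n15597
theorem D32715 : act 5 n15597 = n32715 := rfl
theorem F51781 : act 3 n32715 = n15599 := d6_1 D32715 (iv5 D15599) D15597
def n32716 : Q := act 6 n15597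
theorem D32716 : act 6 n15597 = n32716 := rfl
theorem F51782 : act 3 n32716 = n15600 := d7_1 D32716 (iv6 D15600) D15597
def n32717 : Q := act 4 n15599
theorem D32717 : act 4 n15599 = n32717 := rfl
def n32718 : Q := act 6 n15599
theorem D32718 : act 6 n15599 = n32718 := rfl
theorem F51783 : act 2 n32718 = n26324 := d3_1 D32718 F41979 F41962
theorem F51784 : act 0 n26323 = n32718 := d21_4 (iv5 F25794) (iv1 F9260) D12540 D26323 (iv6 D32718) (iv5 D15599) (iv1 D7348) F26491 (iv6 D7342) D7339
theorem F51785 : act 7 n26325 = n32718 := d15_2 (iv0 D26324) D26325 F51783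
def n32719 : Q := act 1 n15600
theorem D32719 : act 1 n15600 = n32719 := rfl
def n32720 : Q := act 5 n15600
theorem D32720 : act 5 n15600 = n32720 := rfl
theorem F51786 : act 1 n32720 = n32430 := d17_6 D8329 D17690 F43467 (iv5 D26947) (iv4 F41951) D32720 (iv5 D32430) (iv0 D15322) F11566
def n32721 : Q := act 4 n15632
theorem D32721 : act 4 n15632 = n32721 := rfl
theorem F51787 : act 2 n32721 = n28534 := d1_1 D32721 F46106 F26860
theorem F51788 : act 7 n32721 = n28535 := d11_2 F26743 D32721 F46109
theorem F51789 : act 0 n32721 = n28539 := d18_2 (iv1 F26837) D32721 F46113 F22793 (iv4 F22789) F37241 (iv4 F11770) (iv0 D7532) D7535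
theorem F51790 : act 1 n32721 = n28507 := d18_6 (iv1 F11866) D16482 F27734 F12931 D15632 D32721 (iv4 D28507) F37256 (iv5 D15287)
def n32722 : Q := act 6 n15632
theorem D32722 : act 6 n15632 = n32722 := rfl
theorem F51791 : act 3 n32722 = n15636 := d7_1 D32722 (iv6 D15636) (iv3 F25129)
theorem F51792 : act 5 n32722 = n29111 := d12_1 D32722 (iv6 D29111) (iv5 D13856) (iv6 F11666) D15632
def n32723 : Q := act 3 n15633
theorem D32723 : act 3 n15633 = n32723 := rfl
theorem F51793 : act 2 n32723 = n26494 := d0_1 D32723 F42395 F21074 (iv3 F21081) F26463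
theorem F51794 : act 5 n32723 = n26423 := d6_2 F26458 D32723 F42215
theorem F51795 : act 7 n32723 = n26486 := d8_2 F38233 D32723 F42381
theorem F51796 : act 0 n32723 = n26491 := d20_4 D15809 (iv1 F50681) F50679 D32723 (iv3 F42393) (iv4 F41994) (iv1 F41996) (iv4 D15674) (iv3 F20889) (iv1 F20891)
theorem F51797 : act 4 n32423 = n32723 := d20_8 D15644 (iv1 F26849) F16396 F9263 (iv1 F5326) (iv3 F11565) D15320 D32423 (iv3 D32723) (iv1 F25131)
theorem F51798 : act 1 n32723 = n16989 := d15_1 (iv0 F51796) F35199 F42392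
def n32724 : Q := act 6 n15633
theorem D32724 : act 6 n15633 = n32724 := rfl
theorem F51799 : act 2 n32724 = n26535 := d3_1 D32724 (iv6 D26535) F26463
theorem F51800 : act 5 n32724 = n26686 := d12_1 D32724 (iv6 D26686) (iv5 D12747) (iv6 F26459) F26458
def n32725 : Q := act 4 n15634
theorem D32725 : act 4 n15634 = n32725 := rfl
theorem F51801 : act 2 n32725 = n32659 := d1_1 D32725 F51739 F38232
theorem F51802 : act 5 n32725 = n32627 := d9_2 (iv5 F25133) D32725 (iv4 D32627) F24992 F20682 F12935 (iv4 F26457) F26458 (iv4 F50679) (iv5 D32061) (iv4 D15124) (iv5 D7187) F5302 (iv5 F7944) (iv4 F18692)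
theorem F51803 : act 7 n32725 = n26534 := d11_2 F26464 D32725 (iv4 D26534)
theorem F51804 : act 0 n32725 = n15809 := d17_0 F26763 F24980 D26866 F43306 F21505 (iv0 F10653) D7360 D15634 D32725
theorem F51805 : act 1 n32725 = n15804 := d18_6 D3394 (iv4 F26420) F7947 (iv4 F18692) (iv5 F25133) D32725 (iv4 D15804) (iv0 D7418) (iv5 D3397)
def n32726 : Q := act 6 n15634
theorem D32726 : act 6 n15634 = n32726 := rfl
theorem F51806 : act 3 n32726 = n26484 := d7_1 D32726 (iv6 D26484) (iv3 F26889)
theorem F51807 : act 5 n32726 = n24285 := d12_1 D32726 (iv6 D24285) (iv5 D11434) D11435 (iv5 F25133)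
def n32727 : Q := act 3 n15635
theorem D32727 : act 3 n15635 = n32727 := rfl
def n32728 : Q := act 6 n15635
theorem D32728 : act 6 n15635 = n32728 := rfl
theorem F51808 : act 4 n32728 = n15636 := d10_1 D32728 (iv6 D15636) D15635
def n32729 : Q := act 0 n15636
theorem D32729 : act 0 n15636 = n32729 := rfl
def n32730 : Q := act 1 n15636
theorem D32730 : act 1 n15636 = n32730 := rfl
def n32731 : Q := act 7 n15636
theorem D32731 : act 7 n15636 = n32731 := rfl
theorem F51809 : act 5 n32731 = n29114 := d13_1 D32731 (iv7 D29114) (iv5 F25134)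
def n32732 : Q := act 5 n15637
theorem D32732 : act 5 n15637 = n32732 := rfl
theorem F51810 : act 2 n32732 = n26996 := d2_1 D32732 F43590 (iv2 F25138)
theorem F51811 : act 7 n32732 = n23964 := d13_2 (iv7 F25136) D32732 (iv5 D23964)
theorem F51812 : act 0 n32732 = n26995 := d17_2 (iv1 F25135) D32732 F43586 (iv4 D25562) (iv5 D12152) F12593 F12590 F8890 D8154
theorem F51813 : act 1 n32732 = n26994 := d17_6 (iv1 D13405) F26285 (iv1 F12486) (iv5 F18253) F25137 D32732 F43584 (iv0 F45394) (iv4 D28091)
def n32733 : Q := act 0 n15639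
theorem D32733 : act 0 n15639 = n32733 := rfl
theorem F51814 : act 5 n32733 = n23770 := d17_3 (iv1 D15637) D15639 D32733 F37047 F18406 (iv0 F21487) (iv5 D12925) F18255 F25137
theorem F51815 : act 1 n17405 = n32733 := d15_0 (iv0 D32733) (iv7 F40481) F40479
theorem F51816 : act 3 n23771 = n32733 := d6_3 F51814 (iv3 D23770) D23771
theorem F51817 : act 4 n21444 = n32733 := d16_2 (iv4 F16167) D21444 F51814 F37047 F18406 (iv4 F36974) (iv5 F36975) F32623 (iv2 D20013)
def n32734 : Q := act 1 n15639
theorem D32734 : act 1 n15639 = n32734 := rfl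
theorem F51818 : act 1 n32734 = n17405 := d15_1 D32734 (iv7 F28414) F28413
theorem F51819 : act 5 n32734 = n25750 := d17_7 (iv1 F21332) F20228 (iv1 F20051) F10693 D7361 D15639 D32734 (iv0 F42279) F42276
def n32735 : Q := act 4 n15639
theorem D32735 : act 4 n15639 = n32735 := rfl
theorem F51820 : act 5 n32735 = n21667 := d16_1 D32735 F34100 (iv5 F28374) (iv4 D17406) (iv5 D8155) D8154 D17405 (iv7 F28414) F28413
theorem F51821 : act 0 n32735 = n21677 := d18_2 (iv1 D32734) D32735 (iv4 F37357) (iv5 D23932) F26785 (iv0 F18687) D15443 F40671 (iv5 F51819)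
def n32736 : Q := act 6 n15639
theorem D32736 : act 6 n15639 = n32736 := rfl
def n32737 : Q := act 3 n15644
theorem D32737 : act 3 n15644 = n32737 := rfl
theorem F51822 : act 4 n32737 = n26583 := d5_2 D15644 D32737 (iv3 F42863) (iv4 D16052) F26852
theorem F51823 : act 5 n32737 = n25697 := d6_2 F41820 D32737 F41823
def n32738 : Q := act 6 n15644
theorem D32738 : act 6 n15644 = n32738 := rfl
theorem F51824 : act 4 n32738 = n15645 := d10_1 D32738 (iv6 D15645) D15644
def n32739 : Q := act 0 n15645
theorem D32739 : act 0 n15645 = n32739 := rfl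
def n32740 : Q := act 7 n15645
theorem D32740 : act 7 n15645 = n32740 := rfl
theorem F51825 : act 5 n32740 = n31979 := d13_1 D32740 (iv7 D31979) (iv5 F25141)
def n32741 : Q := act 6 n15652
theorem D32741 : act 6 n15652 = n32741 := rfl
theorem F51826 : act 2 n32741 = n15653 := d3_1 D32741 (iv6 D15653) D15652
theorem F51827 : act 4 n32741 = n25586 := d10_1 D32741 (iv6 D25586) F25569
def n32742 : Q := act 0 n15653
theorem D32742 : act 0 n15653 = n32742 := rfl
def n32743 : Q := act 5 n15653
theorem D32743 : act 5 n15653 = n32743 := rfl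
theorem F51828 : act 3 n32743 = n15661 := d6_1 D32743 (iv5 D15661) (iv3 F25149)
def n32744 : Q := act 6 n15656
theorem D32744 : act 6 n15656 = n32744 := rfl
theorem F51829 : act 4 n32744 = n32483 := d10_1 D32744 (iv6 D32483) (iv4 F25153)
def n32745 : Q := act 5 n15657
theorem D32745 : act 5 n15657 = n32745 := rfl
theorem F51830 : act 3 n32745 = n26458 := d6_1 D32745 (iv5 D26458) F27210
def n32746 : Q := act 4 n15661
theorem D32746 : act 4 n15661 = n32746 := rfl
def n32747 : Q := act 5 n15666
theorem D32747 : act 5 n15666 = n32747 := rfl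
theorem F51831 : act 2 n32747 = n26499 := d2_1 D32747 (iv5 D26499) (iv2 F25531)
theorem F51832 : act 3 n32747 = n26420 := d6_1 D32747 (iv5 D26420) (iv3 F25158)
theorem F51833 : act 7 n32747 = n26497 := d13_2 F25532 D32747 (iv5 D26497)
theorem F51834 : act 0 n32747 = n32366 := d17_2 F26648 D32747 (iv5 D32366) (iv4 D15259) F25987 F9340 (iv5 D6013) (iv0 F26640) (iv4 F21072)
theorem F51835 : act 1 n32747 = n32365 := d17_6 (iv1 F41897) (iv5 F42572) (iv1 F42574) F24951 D15666 D32747 (iv5 D32365) (iv0 F40448) (iv4 F41894)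
def n32748 : Q := act 6 n15668
theorem D32748 : act 6 n15668 = n32748 := rfl
theorem F51836 : act 3 n32748 = n26422 := d7_1 D32748 (iv6 D26422) (iv3 F25162)
theorem F51837 : act 4 n32748 = n32484 := d10_1 D32748 (iv6 D32484) F27273
def n32749 : Q := act 3 n15674
theorem D32749 : act 3 n15674 = n32749 := rfl
theorem F51838 : act 2 n32749 = n18005 := d0_1 D32749 (iv3 D18005) F13271 (iv3 F11672) (iv2 F25165)
def n32750 : Q := act 6 n15674
theorem D32750 : act 6 n15674 = n32750 := rfl
theorem F51839 : act 2 n32750 = n15689 := d3_1 D32750 (iv6 D15689) (iv2 F25165)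
theorem F51840 : act 4 n32750 = n15675 := d10_1 D32750 (iv6 D15675) D15674
def n32751 : Q := act 0 n15675
theorem D32751 : act 0 n15675 = n32751 := rfl
def n32752 : Q := act 1 n15675
theorem D32752 : act 1 n15675 = n32752 := rfl
theorem F51841 : act 1 n32752 = n15692 := d15_1 D32752 (iv7 D15692) (iv2 F25166)
def n32753 : Q := act 7 n15675
theorem D32753 : act 7 n15675 = n32753 := rfl
theorem F51842 : act 2 n32753 = n15692 := d4_1 D32753 (iv7 D15692) (iv2 F25166)
theorem F51843 : act 1 n15692 = n32751 := d15_0 (iv0 D32751) D32753 F51842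
theorem F51844 : act 1 n15691 = n32753 := d15_1 D15691 (iv7 D32753) F25166
theorem F51845 : act 1 n32753 = n15690 := d15_0 (iv0 D15690) D15692 (iv2 F51842)
def n32754 : Q := act 2 n15677
theorem D32754 : act 2 n15677 = n32754 := rfl
theorem F51846 : act 3 n32754 = n32446 := d0_2 D15677 D32754 F51509 F24931 F27221
theorem F51847 : act 4 n32754 = n26388 := d1_2 (iv4 F25586) D32754 (iv2 F42133)
theorem F51848 : act 5 n32754 = n17385 := d2_2 (iv5 F27214) D32754 F28338
theorem F51849 : act 7 n32754 = n32436 := d4_2 F27259 D32754 F51492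
theorem F51850 : act 1 n32754 = n32420 := d15_0 F51505 F27259 D32754
theorem F51851 : act 1 n32438 = n32754 := d15_0 F51850 F51479 (iv2 F51503)
def n32755 : Q := act 6 n15677
theorem D32755 : act 6 n15677 = n32755 := rfl
theorem F51852 : act 3 n32755 = n15680 := d7_1 D32755 (iv6 D15680) D15677
def n32756 : Q := act 1 n15678
theorem D32756 : act 1 n15678 = n32756 := rfl
theorem F51853 : act 1 n32756 = n15683 := d15_1 D32756 F27266 (iv2 F27267)
theorem F51854 : act 7 n32756 = n22645 := d15_2 F25722 D32756 (iv2 F35215)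
theorem F51855 : act 4 n32756 = n16133 := d17_9 F25670 (iv5 D15356) (iv1 F24916) F26845 D27764 F44835 (iv0 D22280) F27217 D32756
theorem F51856 : act 2 n22644 = n32756 := d1_3 F51855 F25668 (iv4 F35208)
def n32757 : Q := act 6 n15678
theorem D32757 : act 6 n15678 = n32757 := rfl
theorem F51857 : act 2 n32757 = n32457 := d3_1 D32757 (iv6 D32457) (iv2 F27267)
theorem F51858 : act 3 n32757 = n22284 := d7_1 D32757 (iv6 D22284) (iv3 F27216)
theorem F51859 : act 4 n32757 = n15680 := d10_1 D32757 (iv6 D15680) D15678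
def n32758 : Q := act 0 n15680
theorem D32758 : act 0 n15680 = n32758 := rfl
def n32759 : Q := act 1 n15680
theorem D32759 : act 1 n15680 = n32759 := rfl
theorem F51860 : act 1 n32759 = n32461 := d15_1 D32759 (iv7 D32461) (iv2 F27268)
def n32760 : Q := act 7 n15680
theorem D32760 : act 7 n15680 = n32760 := rfl
theorem F51861 : act 2 n32760 = n32461 := d4_1 D32760 (iv7 D32461) (iv2 F27268)
theorem F51862 : act 6 n32760 = n32444 := d14_1 D32760 (iv7 D32444) (iv6 D15343) (iv7 F27220) D15680
theorem F51863 : act 1 n32461 = n32758 := d15_0 (iv0 D32758) D32760 F51861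
theorem F51864 : act 1 n32459 = n32760 := d15_1 D32459 (iv7 D32760) F27268
theorem F51865 : act 1 n32760 = n32458 := d15_0 (iv0 D32458) D32461 (iv2 F51861)
def n32761 : Q := act 4 n15682
theorem D32761 : act 4 n15682 = n32761 := rfl
theorem F51866 : act 2 n32761 = n26518 := d1_1 D32761 F46081 (iv2 F46080)
theorem F51867 : act 7 n32761 = n26517 := d11_2 (iv7 F27265) D32761 F42448
theorem F51868 : act 0 n32761 = n26483 := d18_2 (iv1 F40605) D32761 (iv4 D26483) (iv5 D12644) D12643 F26616 (iv4 D15666) (iv0 F25291) D25683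
theorem F51869 : act 1 n32761 = n26522 := d18_6 D6044 D12779 (iv1 F27856) F27853 F27264 D32761 F42465 F27126 (iv5 D6047)
def n32762 : Q := act 6 n15682
theorem D32762 : act 6 n15682 = n32762 := rfl
theorem F51870 : act 3 n32762 = n15685 := d7_1 D32762 (iv6 D15685) D15682
def n32763 : Q := act 3 n15683
theorem D32763 : act 3 n15683 = n32763 := rfl
theorem F51871 : act 2 n32763 = n22292 := d0_1 D32763 F34790 F17157 (iv3 F17253) (iv2 F27269)
theorem F51872 : act 5 n32763 = n22291 := d6_2 F27270 D32763 F34784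
theorem F51873 : act 7 n32763 = n22597 := d8_2 (iv7 F27266) D32763 F35136
theorem F51874 : act 0 n21932 = n32763 := d20_4 (iv4 F16666) (iv1 D10466) D10467 D21932 (iv3 D32763) (iv4 D15683) (iv1 D7376) D7377 F11672 D8507
theorem F51875 : act 1 n22601 = n32763 := d15_1 D22601 F51873 F35135
def n32764 : Q := act 6 n15683
theorem D32764 : act 6 n15683 = n32764 := rfl
theorem F51876 : act 2 n32764 = n22646 := d3_1 D32764 (iv6 D22646) (iv2 F27269)

end Cfsg.Agent.Helper17.ONTC
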