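import Cfsg.Agent.Helper17.ONTC.Facts7

set_option autoImplicit false
set_option linter.all false

noncomputable section

namespace Cfsg.Agent.Helper17.ONTC

theorem F51877 : act 4 n32764 = n15685 := d10_1 D32764 (iv6 D15685) D15683
def n32765 : Q := act 0 n15685
theorem D32765 : act 0 n15685 = n32765 := rfl
def n32766 : Q := act 1 n15685
theorem D32766 : act 1 n15685 = n32766 := rfl
theorem F51878 : act 1 n32766 = n32444 := d15_1 D32766 (iv7 D32444) F27272
def n32767 : Q := act 7 n15685
theorem D32767 : act 7 n15685 = n32767 := rfl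
theorem F51879 : act 2 n32767 = n32444 := d4_1 D32767 (iv7 D32444) F27272
theorem F51880 : act 6 n32767 = n32461 := d14_1 D32767 (iv7 D32461) (iv6 D15359) F27222 D15685
theorem F51881 : act 1 n32444 = n32765 := d15_0 (iv0 D32765) D32767 F51879
theorem F51882 : act 1 n32443 = n32767 := d15_1 D32443 (iv7 D32767) (iv2 F27272)
theorem F51883 : act 1 n32767 = n32442 := d15_0 (iv0 D32442) D32444 (iv2 F51879)
def n32768 : Q := act 3 n15686
theorem D32768 : act 3 n15686 = n32768 := rfl
theorem F51884 : act 2 n32768 = n19308 := d0_1 D32768 F30960 (iv2 F17805) (iv3 F35178) F35177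
theorem F51885 : act 5 n32768 = n19307 := d6_2 (iv5 F35170) D32768 (iv3 F35168)
theorem F51886 : act 0 n32768 = n21986 := d19_4 F25752 D26294 F41874 D32768 (iv5 D21986) F16694 (iv3 D10340) (iv1 F6784) D10145 (iv4 F16400) (iv3 F33974) (iv1 F33977) (iv5 F41705) F41706 F26951 F25648 F25823 (iv4 D7743) D7742
def n32769 : Q := act 6 n15686
theorem D32769 : act 6 n15686 = n32769 := rfl
def n32770 : Q := act 6 n15687
theorem D32770 : act 6 n15687 = n32770 := rfl
theorem F51887 : act 3 n32770 = n19279 := d7_1 D32770 (iv6 D19279) (iv3 F27845)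
def n32771 : Q := act 4 n15688
theorem D32771 : act 4 n15688 = n32771 := rfl
theorem F51888 : act 2 n32771 = n19175 := d1_1 D32771 F30810 (iv2 F30812)
theorem F51889 : act 7 n32771 = n19176 := d11_2 (iv7 F30809) D32771 (iv4 F30810)
theorem F51890 : act 5 n32771 = n26329 := d16_3 D7377 D15688 D32771 (iv4 D26329) (iv5 D12555) F9269 D12555 F20908 F11671
theorem F51891 : act 0 n32771 = n19064 := d17_0 (iv5 F30604) (iv1 D15378) D15379 F35175 (iv5 F41911) F41913 F30814 F30813 D32771
theorem F51892 : act 1 n32771 = n19177 := d18_8 (iv1 F41913) (iv4 D26305) (iv1 F20827) D15375 F31380 F31379 F30813 D32771 (iv5 F30814)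
def n32772 : Q := act 6 n15688
theorem D32772 : act 6 n15688 = n32772 := rfl
theorem F51893 : act 3 n32772 = n18033 := d7_1 D32772 (iv6 D18033) (iv3 F25169)
def n32773 : Q := act 0 n15689
theorem D32773 : act 0 n15689 = n32773 := rfl
def n32774 : Q := act 1 n15689
theorem D32774 : act 1 n15689 = n32774 := rfl
def n32775 : Q := act 5 n15689
theorem D32775 : act 5 n15689 = n32775 := rfl
theorem F51894 : act 3 n32775 = n18036 := d6_1 D32775 (iv5 D18036) (iv3 F25170)
def n32776 : Q := act 7 n15689
theorem D32776 : act 7 n15689 = n32776 := rfl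
theorem F51895 : act 3 n32776 = n18037 := d8_1 D32776 (iv7 D18037) (iv3 F25170)
theorem F51896 : act 4 n32776 = n15692 := d11_1 D32776 (iv7 D15692) (iv4 F25171)
def n32777 : Q := act 2 n15690
theorem D32777 : act 2 n15690 = n32777 := rfl
theorem F51897 : act 7 n15691 = n32777 := d15_2 (iv0 D15690) D15691 (iv2 D32777)
def n32778 : Q := act 3 n15690
theorem D32778 : act 3 n15690 = n32778 := rfl
def n32779 : Q := act 4 n15690
theorem D32779 : act 4 n15690 = n32779 := rfl
def n32780 : Q := act 5 n15690
theorem D32780 : act 5 n15690 = n32780 := rfl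
def n32781 : Q := act 6 n15690
theorem D32781 : act 6 n15690 = n32781 := rfl
theorem F51898 : act 5 n32781 = n26314 := d21_6 F24947 (iv1 D3382) D3384 D7378 D15690 D32781 (iv1 D26314) (iv5 F41916) (iv6 D26306) (iv1 F20827)
def n32782 : Q := act 7 n15690
theorem D32782 : act 7 n15690 = n32782 := rfl
theorem F51899 : act 2 n32782 = n15691 := d4_1 D32782 F51897 (iv2 D32777)
def n32783 : Q := act 3 n15691
theorem D32783 : act 3 n15691 = n32783 := rfl
def n32784 : Q := act 4 n15691
theorem D32784 : act 4 n15691 = n32784 := rfl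
def n32785 : Q := act 5 n15691
theorem D32785 : act 5 n15691 = n32785 := rfl
def n32786 : Q := act 6 n15691
theorem D32786 : act 6 n15691 = n32786 := rfl
def n32787 : Q := act 0 n15696
theorem D32787 : act 0 n15696 = n32787 := rfl
theorem F51900 : act 4 n32787 = n16139 := d18_3 F37255 D15696 D32787 F25679 F11775 F11799 (iv4 F4485) F37248 D13593
theorem F51901 : act 2 n16194 = n32787 := d15_3 (iv0 D32787) (iv0 F25738) (iv7 F25743)
theorem F51902 : act 1 n32384 = n32787 := d15_0 (iv0 D32787) F25181 (iv2 F51435)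
theorem F51903 : act 7 n32787 = n16137 := d15_2 (iv0 F51437) F51902 F25676
def n32788 : Q := act 5 n15696
theorem D32788 : act 5 n15696 = n32788 := rfl
theorem F51904 : act 3 n32788 = n17092 := d6_1 D32788 (iv5 D17092) (iv3 F25180)
theorem F51905 : act 7 n32788 = n32387 := d13_2 (iv7 F25181) D32788 (iv5 D32387)
theorem F51906 : act 0 n32788 = n28633 := d17_2 F25738 D32788 (iv5 D28633) F27186 (iv5 F27165) F26767 (iv5 F26861) F26859 D16121
theorem F51907 : act 1 n32788 = n28636 := d17_6 (iv1 F22769) (iv5 F25822) (iv1 D7641) (iv5 F11674) D15696 D32788 (iv5 D28636) (iv0 F46053) (iv4 D28502)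
def n32789 : Q := act 6 n15696
theorem D32789 : act 6 n15696 = n32789 := rfl
theorem F51908 : act 3 n32789 = n17093 := d7_1 D32789 (iv6 D17093) (iv3 F25180)
theorem F51909 : act 4 n32789 = n15697 := d10_1 D32789 (iv6 D15697) D15696
def n32790 : Q := act 0 n15697
theorem D32790 : act 0 n15697 = n32790 := rfl
def n32791 : Q := act 1 n15697
theorem D32791 : act 1 n15697 = n32791 := rfl
def n32792 : Q := act 7 n15697
theorem D32792 : act 7 n15697 = n32792 := rfl
theorem F51910 : act 3 n32792 = n15700 := d8_1 D32792 (iv7 D15700) (iv3 F25182)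
theorem F51911 : act 6 n32792 = n32392 := d14_1 D32792 (iv7 D32392) (iv6 D15292) (iv7 F11675) D15697
def n32793 : Q := act 3 n15698
theorem D32793 : act 3 n15698 = n32793 := rfl
theorem F51912 : act 7 n32793 = n32431 := d8_2 (iv7 F43175) D32793 (iv3 D32431)
def n32794 : Q := act 5 n15698
theorem D32794 : act 5 n15698 = n32794 := rfl
theorem F51913 : act 2 n32794 = n32430 := d2_1 D32794 (iv5 D32430) F43176
theorem F51914 : act 7 n32794 = n32432 := d13_2 (iv7 F43175) D32794 (iv5 D32432)
def n32795 : Q := act 3 n15699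
theorem D32795 : act 3 n15699 = n32795 := rfl
theorem F51915 : act 7 n32795 = n32429 := d8_2 (iv7 F43179) D32795 (iv3 D32429)
def n32796 : Q := act 5 n15699
theorem D32796 : act 5 n15699 = n32796 := rfl
theorem F51916 : act 2 n32796 = n32432 := d2_1 D32796 (iv5 D32432) (iv2 F43177)
theorem F51917 : act 7 n32796 = n32430 := d13_2 (iv7 F43179) D32796 (iv5 D32430)
theorem F51918 : act 1 n32432 = n32720 := d15_0 F51786 (iv7 F51917) F51916
theorem E5483 : n32719 = n23917 := (c17_9 F29882 D18545 F29892 (iv5 D17068) (iv4 F43174) D32432 F51918 (iv5 D32720) D32719 F37329)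
theorem F51919 : act 0 n23917 = n15600 := (sb E5483 (iv1 D32719))
def n32797 : Q := act 6 n15699
theorem D32797 : act 6 n15699 = n32797 := rfl
theorem F51920 : act 2 n32797 = n32433 := d3_1 D32797 (iv6 D32433) (iv2 F43177)
theorem F51921 : act 4 n32797 = n16860 := d10_1 D32797 (iv6 D16860) (iv4 F43178)
theorem F51922 : act 1 n32539 = n32797 := d17_8 F43165 (iv5 D18620) (iv1 F22051) F22048 (iv4 F20780) (iv5 F41768) F41812 D32539 F51921
def n32798 : Q := act 4 n15703
theorem D32798 : act 4 n15703 = n32798 := rfl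
theorem F51923 : act 2 n32798 = n15704 := d1_1 D32798 (iv4 D15704) D15703
theorem F51924 : act 7 n32798 = n32412 := d11_2 (iv7 F25193) D32798 (iv4 D32412)
theorem F51925 : act 0 n32798 = n26492 := d17_0 F42458 F30281 (iv5 D18964) F13855 F5922 D7866 (iv5 F43051) F25196 D32798
theorem F51926 : act 1 n32798 = n32423 := d18_6 (iv1 F27243) F27040 (iv1 F27732) F27730 (iv5 F25192) D32798 F51797 F51798 (iv5 D16989)
def n32799 : Q := act 6 n15703
theorem D32799 : act 6 n15703 = n32799 := rfl
theorem F51927 : act 2 n32799 = n15705 := d3_1 D32799 (iv6 D15705) D15703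
theorem F51928 : act 3 n32799 = n32385 := d7_1 D32799 (iv6 D32385) (iv3 F25191)
def n32800 : Q := act 0 n15704
theorem D32800 : act 0 n15704 = n32800 := rfl
theorem F51929 : act 4 n32800 = n26486 := d18_3 F43061 D15704 D32800 (iv5 D26486) F26666 (iv0 D11133) F7576 D5122 D11191
theorem F51930 : act 1 n32412 = n32800 := d15_0 (iv0 D32800) F25198 (iv2 F51461)
theorem F51931 : act 2 n26492 = n32800 := d1_3 F51929 F42380 D26492
theorem F51932 : act 7 n32423 = n32800 := d11_0 F51929 (iv7 F51795) (iv4 F51797)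
def n32801 : Q := act 1 n15704
theorem D32801 : act 1 n15704 = n32801 := rfl
theorem F51933 : act 1 n32801 = n32412 := d15_1 D32801 (iv7 F51924) F51923
theorem F51934 : act 7 n32801 = n26492 := d15_2 (iv0 D32800) D32801 F51931
theorem F51935 : act 4 n32801 = n26494 := d18_7 (iv1 F26784) F27726 (iv1 D16917) F12499 (iv5 F11678) D15704 D32801 (iv0 F43644) (iv5 D27013)
theorem F51936 : act 3 n26881 = n32801 := d20_3 D27124 F43862 (iv4 F43355) (iv1 D32801) F25197 (iv4 D8012) (iv1 F7022) D10531 D22093 F34561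
theorem F51937 : act 5 n32801 = n26880 := d6_2 D26881 F51936 (iv3 D26880)
theorem F51938 : act 2 n32423 = n32801 := d1_3 F51935 (iv2 F51793) (iv4 F51797)
def n32802 : Q := act 5 n15704
theorem D32802 : act 5 n15704 = n32802 := rfl
theorem F51939 : act 3 n32802 = n17124 := d6_1 D32802 (iv5 D17124) (iv3 F25197)
theorem F51940 : act 7 n32802 = n32424 := d13_2 (iv7 F25198) D32802 (iv5 D32424)
theorem F51941 : act 1 n32802 = n17434 := d17_6 (iv1 F18158) F30276 (iv1 D7921) (iv5 F11678) D15704 D32802 F30273 (iv0 F37302) (iv4 D23898)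
def n32803 : Q := act 6 n15704
theorem D32803 : act 6 n15704 = n32803 := rfl
theorem F51942 : act 3 n32803 = n17125 := d7_1 D32803 (iv6 D17125) (iv3 F25197)
theorem F51943 : act 4 n32803 = n15705 := d10_1 D32803 (iv6 D15705) D15704
def n32804 : Q := act 0 n15705
theorem D32804 : act 0 n15705 = n32804 := rfl
def n32805 : Q := act 1 n15705
theorem D32805 : act 1 n15705 = n32805 := rfl
def n32806 : Q := act 5 n15705
theorem D32806 : act 5 n15705 = n32806 := rfl
theorem F51944 : act 3 n32806 = n15708 := d6_1 D32806 (iv5 D15708) (iv3 F25199)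
theorem F51945 : act 6 n32806 = n16972 := d12_2 D15705 D32806 (iv5 D16972) (iv6 D7923) (iv5 F11678)
def n32807 : Q := act 7 n15705
theorem D32807 : act 7 n15705 = n32807 := rfl
theorem F51946 : act 3 n32807 = n15709 := d8_1 D32807 (iv7 D15709) (iv3 F25199)
theorem F51947 : act 6 n32807 = n32428 := d14_1 D32807 (iv7 D32428) (iv6 D15321) (iv7 F11679) D15705
def n32808 : Q := act 4 n15708
theorem D32808 : act 4 n15708 = n32808 := rfl
theorem F51948 : act 2 n32808 = n32402 := d1_1 D32808 (iv4 D32402) (iv2 F25201)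
theorem F51949 : act 6 n32808 = n16974 := d10_2 (iv6 F25202) D32808 (iv4 D16974)
def n32809 : Q := act 7 n15708
theorem D32809 : act 7 n15708 = n32809 := rfl
theorem F51950 : act 2 n32809 = n32403 := d4_1 D32809 (iv7 D32403) (iv2 F25201)
theorem F51951 : act 5 n32809 = n15709 := d13_1 D32809 (iv7 D15709) D15708
theorem F51952 : act 1 n18810 = n32809 := d15_1 (iv0 F30443) (iv7 D32809) F25201
theorem F51953 : act 1 n32809 = n18771 := d15_1 F51952 F30025 (iv2 F30066)
def n32810 : Q := act 0 n15711
theorem D32810 : act 0 n15711 = n32810 := rfl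
def n32811 : Q := act 1 n15711
theorem D32811 : act 1 n15711 = n32811 := rfl
def n32812 : Q := act 2 n15711
theorem D32812 : act 2 n15711 = n32812 := rfl
def n32813 : Q := act 4 n15711
theorem D32813 : act 4 n15711 = n32813 := rfl
theorem F51954 : act 3 n32813 = n27199 := d5_1 D32813 (iv4 D27199) (iv3 D13028) F30461 D15711
def n32814 : Q := act 5 n15711
theorem D32814 : act 5 n15711 = n32814 := rfl
theorem F51955 : act 3 n32814 = n15713 := d6_1 D32814 (iv5 D15713) D15711
def n32815 : Q := act 6 n15711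
theorem D32815 : act 6 n15711 = n32815 := rfl
theorem F51956 : act 3 n32815 = n15714 := d7_1 D32815 (iv6 D15714) D15711
theorem F51957 : act 5 n32698 = n32815 := d6_0 F51956 (iv5 F26498) D32698
def n32816 : Q := act 0 n15713
theorem D32816 : act 0 n15713 = n32816 := rfl
theorem F51958 : act 5 n32816 = n23921 := d17_3 D7383 D15713 D32816 F37332 (iv5 F29265) (iv0 D18085) (iv5 D8531) (iv0 D3809) (iv4 F5387)
theorem F51959 : act 1 n15718 = n32816 := d15_0 (iv0 D32816) (iv7 F30527) F30531
theorem F51960 : act 2 n28695 = n32816 := d2_3 F51958 F44684 D28695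
def n32817 : Q := act 1 n15713
theorem D32817 : act 1 n15713 = n32817 := rfl
theorem F51961 : act 1 n32817 = n15718 := d15_1 D32817 F30530 F30528
theorem F51962 : act 7 n32817 = n28695 := d15_2 (iv0 D32816) D32817 F51960
theorem F51963 : act 5 n32817 = n28696 := d17_7 (iv1 F43761) F43979 (iv1 D27203) (iv5 D13030) F30461 D15713 D32817 (iv0 F47872) F47869
theorem F51964 : act 6 n32817 = n29724 := d21_3 D29764 F47872 (iv5 F51963) (iv1 D29724) (iv6 D14115) (iv5 D6709) (iv1 D3020) D3022 D6719 D14142
def n32818 : Q := act 4 n15713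
theorem D32818 : act 4 n15713 = n32818 := rfl
def n32819 : Q := act 6 n15713
theorem D32819 : act 6 n15713 = n32819 := rfl
theorem F51965 : act 5 n32819 = n32700 := d12_1 D32819 (iv6 D32700) F26498 (iv6 D15714) D15713
def n32820 : Q := act 0 n15714
theorem D32820 : act 0 n15714 = n32820 := rfl
def n32821 : Q := act 1 n15714
theorem D32821 : act 1 n15714 = n32821 := rfl
theorem F51966 : act 1 n32821 = n32696 := d15_1 D32821 F51769 F30525
theorem F51967 : act 4 n32821 = n16850 := d17_9 F43192 F13621 (iv1 D8709) (iv5 D3900) (iv4 F5371) F26491 D15574 F26498 D32821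
theorem F51968 : act 7 n16845 = n32821 := d11_0 F51967 (iv7 D16850) (iv4 F27591)
theorem E5484 : n32820 = n26844 := ((c15_4 (iv0 D32820) D32821 (iv7 F51968) (iv2 F43236))).symm
theorem F51969 : act 1 n26844 = n15714 := (sb E5484 (iv0 D32820))
def n32822 : Q := act 7 n15714
theorem D32822 : act 7 n15714 = n32822 := rfl
theorem F51970 : act 2 n32822 = n32696 := d4_1 D32822 F51769 F30525
theorem F51971 : act 4 n32822 = n17314 := d11_1 D32822 (iv7 F30495) (iv4 F30462)
theorem F51972 : act 5 n32822 = n26316 := d13_1 D32822 F41966 F26498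
theorem F51973 : act 0 n16845 = n32822 := d17_0 F51972 (iv1 F41939) F26499 F11664 (iv5 F13623) F22021 (iv5 F27592) (iv0 D16847) (iv4 F27591)
def n32823 : Q := act 0 n15716
theorem D32823 : act 0 n15716 = n32823 := rfl
def n32824 : Q := act 1 n15716
theorem D32824 : act 1 n15716 = n32824 := rfl
def n32825 : Q := act 2 n15716
theorem D32825 : act 2 n15716 = n32825 := rfl
def n32826 : Q := act 4 n15716
theorem D32826 : act 4 n15716 = n32826 := rfl
theorem F51974 : act 3 n32826 = n27210 := d5_1 D32826 (iv4 D27210) (iv3 D13033) F30457 D15716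
def n32827 : Q := act 5 n15716
theorem D32827 : act 5 n15716 = n32827 := rfl
theorem F51975 : act 3 n32827 = n15718 := d6_1 D32827 (iv5 D15718) D15716
def n32828 : Q := act 6 n15716
theorem D32828 : act 6 n15716 = n32828 := rfl
theorem F51976 : act 3 n32828 = n15719 := d7_1 D32828 (iv6 D15719) D15716
def n32829 : Q := act 4 n15718
theorem D32829 : act 4 n15718 = n32829 := rfl
def n32830 : Q := act 6 n15718
theorem D32830 : act 6 n15718 = n32830 := rfl
theorem F51977 : act 0 n29056 = n32830 := d21_4 F10708 (iv1 F10639) D13828 D29056 (iv6 D32830) (iv5 D15718) (iv1 D7384) (iv5 F10710) (iv6 D6614) D6611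
def n32831 : Q := act 7 n15719
theorem D32831 : act 7 n15719 = n32831 := rfl
theorem F51978 : act 4 n32831 = n27097 := d11_1 D32831 F43788 (iv4 F30455)
theorem F51979 : act 5 n32831 = n27853 := d13_1 D32831 F44980 F30060
theorem F51980 : act 6 n32831 = n32696 := d14_1 D32831 F51769 (iv6 D17813) F30488 D15719
theorem F51981 : act 1 n16846 = n32831 := d15_1 (iv0 F30438) (iv7 D32831) F30532
theorem F51982 : act 1 n32831 = n16830 := d15_1 F51981 (iv7 F43240) F43238
def n32832 : Q := act 3 n15796
theorem D32832 : act 3 n15796 = n32832 := rfl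
theorem F51983 : act 2 n32832 = n17903 := d0_1 D32832 (iv3 D17903) F13253 (iv3 F11705) (iv2 F25300)
theorem F51984 : act 5 n32832 = n31919 := d6_2 F26908 D32832 (iv3 D31919)
def n32833 : Q := act 6 n15796
theorem D32833 : act 6 n15796 = n32833 := rfl
theorem F51985 : act 2 n32833 = n15815 := d3_1 D32833 (iv6 D15815) (iv2 F25300)
theorem F51986 : act 4 n32833 = n15797 := d10_1 D32833 (iv6 D15797) D15796
def n32834 : Q := act 0 n15797
theorem D32834 : act 0 n15797 = n32834 := rfl
def n32835 : Q := act 1 n15797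
theorem D32835 : act 1 n15797 = n32835 := rfl
theorem F51987 : act 1 n32835 = n15819 := d15_1 D32835 (iv7 D15819) (iv2 F25301)
def n32836 : Q := act 7 n15797
theorem D32836 : act 7 n15797 = n32836 := rfl
theorem F51988 : act 2 n32836 = n15819 := d4_1 D32836 (iv7 D15819) (iv2 F25301)
theorem F51989 : act 1 n15819 = n32834 := d15_0 (iv0 D32834) D32836 F51988
theorem F51990 : act 1 n15817 = n32836 := d15_1 D15817 (iv7 D32836) F25301
theorem F51991 : act 1 n32836 = n15816 := d15_0 (iv0 D15816) D15819 (iv2 F51988)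
def n32837 : Q := act 6 n15803
theorem D32837 : act 6 n15803 = n32837 := rfl
theorem F51992 : act 3 n32837 = n15806 := d7_1 D32837 (iv6 D15806) D15803
theorem F51993 : act 5 n32837 = n31579 := d12_1 D32837 (iv6 D31579) (iv5 D14867) (iv6 F12954) F26882
def n32838 : Q := act 3 n15804
theorem D32838 : act 3 n15804 = n32838 := rfl
theorem F51994 : act 5 n32838 = n32596 := d6_2 (iv5 F26762) D32838 (iv3 D32596)
theorem F51995 : act 7 n32838 = n32660 := d8_2 (iv7 F26880) D32838 (iv3 D32660)
def n32839 : Q := act 6 n15804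
theorem D32839 : act 6 n15804 = n32839 := rfl
theorem F51996 : act 2 n32839 = n32669 := d3_1 D32839 (iv6 D32669) F26832
theorem F51997 : act 4 n32839 = n15806 := d10_1 D32839 (iv6 D15806) D15804
def n32840 : Q := act 0 n15806
theorem D32840 : act 0 n15806 = n32840 := rfl
def n32841 : Q := act 1 n15806
theorem D32841 : act 1 n15806 = n32841 := rfl
theorem F51998 : act 1 n32841 = n32672 := d15_1 D32841 (iv7 D32672) (iv2 F26877)
theorem F51999 : act 5 n28481 = n32841 := d21_6 (iv5 D5898) F4926 D2876 D6460 D13575 D28481 (iv1 D32841) (iv5 F26878) (iv6 D14868) F11331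
def n32842 : Q := act 7 n15806
theorem D32842 : act 7 n15806 = n32842 := rfl
theorem F52000 : act 2 n32842 = n32672 := d4_1 D32842 (iv7 D32672) (iv2 F26877)
theorem F52001 : act 5 n32842 = n31582 := d13_1 D32842 (iv7 D31582) F26878
theorem F52002 : act 6 n32842 = n32664 := d14_1 D32842 (iv7 D32664) (iv6 D15533) F26577 D15806
theorem F52003 : act 1 n32672 = n32840 := d15_0 (iv0 D32840) D32842 F52000
theorem F52004 : act 1 n32671 = n32842 := d15_1 D32671 (iv7 D32842) F26877
theorem F52005 : act 1 n32842 = n32670 := d15_0 (iv0 D32670) D32672 (iv2 F52000)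
def n32843 : Q := act 6 n15808
theorem D32843 : act 6 n15808 = n32843 := rfl
theorem F52006 : act 3 n32843 = n15811 := d7_1 D32843 (iv6 D15811) D15808
theorem F52007 : act 5 n32843 = n29750 := d12_1 D32843 (iv6 D29750) F23617 F22376 F26833
def n32844 : Q := act 3 n15809
theorem D32844 : act 3 n15809 = n32844 := rfl
theorem F52008 : act 5 n32844 = n32606 := d6_2 (iv5 F26763) D32844 (iv3 D32606)
theorem F52009 : act 7 n32844 = n32668 := d8_2 (iv7 F26831) D32844 (iv3 D32668)
def n32845 : Q := act 6 n15809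
theorem D32845 : act 6 n15809 = n32845 := rfl
theorem F52010 : act 2 n32845 = n32661 := d3_1 D32845 (iv6 D32661) F26881
theorem F52011 : act 4 n32845 = n15811 := d10_1 D32845 (iv6 D15811) D15809
def n32846 : Q := act 0 n15811
theorem D32846 : act 0 n15811 = n32846 := rfl
def n32847 : Q := act 1 n15811
theorem D32847 : act 1 n15811 = n32847 := rfl
theorem F52012 : act 1 n32847 = n32664 := d15_1 D32847 (iv7 D32664) (iv2 F26883)
def n32848 : Q := act 7 n15811
theorem D32848 : act 7 n15811 = n32848 := rfl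
theorem F52013 : act 2 n32848 = n32664 := d4_1 D32848 (iv7 D32664) (iv2 F26883)
theorem F52014 : act 5 n32848 = n29753 := d13_1 D32848 (iv7 D29753) F26884
theorem F52015 : act 6 n32848 = n32672 := d14_1 D32848 (iv7 D32672) (iv6 D15548) F26579 D15811
theorem F52016 : act 1 n32664 = n32846 := d15_0 (iv0 D32846) D32848 F52013
theorem F52017 : act 1 n32663 = n32848 := d15_1 D32663 (iv7 D32848) F26883
theorem F52018 : act 1 n32848 = n32662 := d15_0 (iv0 D32662) D32664 (iv2 F52013)
def n32849 : Q := act 3 n15812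
theorem D32849 : act 3 n15812 = n32849 := rfl
theorem F52019 : act 5 n32849 = n32611 := d6_2 F26748 D32849 (iv3 D32611)
theorem F52020 : act 7 n32849 = n32727 := d8_2 F26747 D32849 (iv3 D32727)
def n32850 : Q := act 6 n15812
theorem D32850 : act 6 n15812 = n32850 := rfl
theorem F52021 : act 2 n32850 = n32738 := d3_1 D32850 (iv6 D32738) F26746
theorem F52022 : act 4 n32850 = n26322 := d10_1 D32850 (iv6 D26322) (iv4 F26745)
def n32851 : Q := act 3 n15813
theorem D32851 : act 3 n15813 = n32851 := rfl
theorem F52023 : act 4 n32851 = n18367 := d5_2 F26752 D32851 (iv3 F29543) (iv4 D17410) F26758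
theorem F52024 : act 5 n32851 = n32613 := d6_2 F26750 D32851 (iv3 D32613)
theorem F52025 : act 7 n32851 = n32737 := d8_2 (iv7 F26749) D32851 (iv3 D32737)
def n32852 : Q := act 6 n15813
theorem D32852 : act 6 n15813 = n32852 := rfl
theorem F52026 : act 2 n32852 = n32728 := d3_1 D32852 (iv6 D32728) (iv2 F26751)
theorem F52027 : act 4 n32852 = n26321 := d10_1 D32852 (iv6 D26321) F26752
def n32853 : Q := act 6 n15814
theorem D32853 : act 6 n15814 = n32853 := rfl
theorem F52028 : act 2 n32853 = n31913 := d3_1 D32853 F50215 (iv2 F26907)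
theorem F52029 : act 3 n32853 = n17934 := d7_1 D32853 (iv6 D17934) (iv3 F25311)
theorem F52030 : act 4 n32853 = n26135 := d10_1 D32853 F41406 F26906
def n32854 : Q := act 0 n15815
theorem D32854 : act 0 n15815 = n32854 := rfl
def n32855 : Q := act 1 n15815
theorem D32855 : act 1 n15815 = n32855 := rfl
def n32856 : Q := act 5 n15815
theorem D32856 : act 5 n15815 = n32856 := rfl
theorem F52031 : act 3 n32856 = n17937 := d6_1 D32856 (iv5 D17937) (iv3 F25312)
def n32857 : Q := act 7 n15815
theorem D32857 : act 7 n15815 = n32857 := rfl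
theorem F52032 : act 3 n32857 = n17938 := d8_1 D32857 (iv7 D17938) (iv3 F25312)
theorem F52033 : act 4 n32857 = n15819 := d11_1 D32857 (iv7 D15819) (iv4 F25313)
def n32858 : Q := act 2 n15816
theorem D32858 : act 2 n15816 = n32858 := rfl
theorem F52034 : act 7 n15817 = n32858 := d15_2 (iv0 D15816) D15817 (iv2 D32858)
def n32859 : Q := act 3 n15816
theorem D32859 : act 3 n15816 = n32859 := rfl
def n32860 : Q := act 4 n15816
theorem D32860 : act 4 n15816 = n32860 := rfl
def n32861 : Q := act 5 n15816
theorem D32861 : act 5 n15816 = n32861 := rfl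
def n32862 : Q := act 6 n15816
theorem D32862 : act 6 n15816 = n32862 := rfl
theorem F52035 : act 5 n32862 = n32617 := d21_6 (iv5 F25799) (iv1 D3395) D3397 D7421 D15816 D32862 (iv1 D32617) (iv5 F41696) (iv6 D26257) (iv1 F20764)
def n32863 : Q := act 7 n15816
theorem D32863 : act 7 n15816 = n32863 := rfl
theorem F52036 : act 2 n32863 = n15817 := d4_1 D32863 F52034 (iv2 D32858)
def n32864 : Q := act 3 n15817
theorem D32864 : act 3 n15817 = n32864 := rfl
def n32865 : Q := act 4 n15817
theorem D32865 : act 4 n15817 = n32865 := rfl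
def n32866 : Q := act 5 n15817
theorem D32866 : act 5 n15817 = n32866 := rfl
def n32867 : Q := act 6 n15817
theorem D32867 : act 6 n15817 = n32867 := rfl
def n32868 : Q := act 0 n15818
theorem D32868 : act 0 n15818 = n32868 := rfl
def n32869 : Q := act 1 n15818
theorem D32869 : act 1 n15818 = n32869 := rfl
def n32870 : Q := act 4 n15818
theorem D32870 : act 4 n15818 = n32870 := rfl
theorem F52037 : act 6 n32870 = n15832 := d10_2 (iv6 F25315) D32870 (iv4 D15832)
def n32871 : Q := act 7 n15818
theorem D32871 : act 7 n15818 = n32871 := rfl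
theorem F52038 : act 3 n32871 = n15847 := d8_1 D32871 (iv7 D15847) (iv3 F25314)
theorem F52039 : act 5 n32871 = n15819 := d13_1 D32871 (iv7 D15819) D15818
def n32872 : Q := act 3 n15830
theorem D32872 : act 3 n15830 = n32872 := rfl
theorem F52040 : act 5 n32872 = n31682 := d6_2 (iv5 F26516) D32872 F49959
theorem F52041 : act 7 n32872 = n32583 := d8_2 (iv7 F26517) D32872 F51643
def n32873 : Q := act 4 n15830
theorem D32873 : act 4 n15830 = n32873 := rfl
theorem F52042 : act 7 n32873 = n32590 := d11_2 (iv7 F26517) D32873 (iv4 D32590)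
theorem F52043 : act 0 n32873 = n26681 := d17_0 (iv5 F42779) F42781 (iv5 F46009) (iv4 D28488) (iv5 D13579) F11989 D7630 (iv0 F26515) D32873
theorem F52044 : act 1 n32873 = n26685 := d18_6 (iv1 F22835) (iv4 D13683) F21338 (iv4 F24534) (iv5 F26516) D32873 (iv4 D26685) (iv0 F24998) (iv5 D15459)
def n32874 : Q := act 6 n15830
theorem D32874 : act 6 n15830 = n32874 := rfl
theorem F52045 : act 5 n32874 = n15864 := d12_1 D32874 (iv6 D15864) F12083 D14895 (iv5 F26516)
theorem F52046 : act 0 n32874 = n18804 := d21_4 F22828 F24537 (iv5 F26516) D32874 (iv6 D18804) (iv5 D8810) F30047 D13678 F22827 D13679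
def n32875 : Q := act 3 n15831
theorem D32875 : act 3 n15831 = n32875 := rfl
theorem F52047 : act 5 n32875 = n17040 := d6_2 (iv5 F26520) D32875 F27935
def n32876 : Q := act 4 n15831
theorem D32876 : act 4 n15831 = n32876 := rfl
theorem F52048 : act 2 n32876 = n32590 := d1_1 D32876 (iv4 D32590) (iv2 F26519)
theorem F52049 : act 5 n32876 = n32590 := d16_1 D32876 (iv4 D32590) (iv5 D15428) F11588 D12860 (iv4 F24534) (iv5 F26516) F26517 (iv2 F26519)
theorem F52050 : act 0 n32876 = n26685 := d17_0 (iv5 F42772) (iv1 F46011) F46009 (iv4 D16887) (iv5 D7869) F26425 D7424 D15831 D32876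
theorem F52051 : act 1 n32876 = n26681 := d18_6 F25942 (iv4 D13687) (iv1 F12449) (iv4 F12708) (iv5 F26520) D32876 (iv4 D26681) D26680 F42752
def n32877 : Q := act 6 n15831
theorem D32877 : act 6 n15831 = n32877 := rfl
theorem F52052 : act 2 n32877 = n32588 := d3_1 D32877 F51645 (iv2 F26519)
theorem F52053 : act 5 n32877 = n17042 := d12_1 D32877 (iv6 D17042) (iv5 D7963) D7964 (iv5 F26520)
def n32878 : Q := act 0 n15832
theorem D32878 : act 0 n15832 = n32878 := rfl
theorem F52054 : act 4 n32878 = n16427 := d18_1 D32878 (iv1 D16427) D16428 (iv5 F25919) (iv4 D16443) F20722 (iv4 F25923) F25925 (iv5 F26521)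
theorem F52055 : act 1 n16455 = n32878 := d15_0 (iv0 D32878) (iv7 F42797) F42796
theorem F52056 : act 7 n32655 = n32878 := d11_0 F52054 F25908 D32655
def n32879 : Q := act 1 n15832
theorem D32879 : act 1 n15832 = n32879 := rfl
theorem F52057 : act 1 n32879 = n16455 := d15_1 D32879 (iv7 F42804) F42802
theorem F52058 : act 5 n32879 = n32655 := d17_7 (iv1 F24977) (iv5 D15428) (iv1 F12455) D16461 F25955 (iv5 F26521) D32879 F51719 (iv4 D26697)
theorem F52059 : act 4 n32879 = n16426 := d17_9 (iv1 F25905) (iv5 D7622) (iv1 D3458) D3459 D7626 D16448 F25925 (iv5 F26521) D32879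
theorem F52060 : act 2 n32655 = n32879 := d1_3 F52059 (iv2 F25906) D32655
def n32880 : Q := act 3 n15832
theorem D32880 : act 3 n15832 = n32880 := rfl
theorem F52061 : act 4 n32880 = n15870 := d5_2 D15832 D32880 (iv3 D15870) (iv4 D7441) (iv3 F11707)
def n32881 : Q := act 0 n15835
theorem D32881 : act 0 n15835 = n32881 := rfl
def n32882 : Q := act 1 n15835
theorem D32882 : act 1 n15835 = n32882 := rfl
def n32883 : Q := act 2 n15835
theorem D32883 : act 2 n15835 = n32883 := rfl
def n32884 : Q := act 4 n15835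
theorem D32884 : act 4 n15835 = n32884 := rfl
theorem F52062 : act 3 n32884 = n27143 := d5_1 D32884 (iv4 D27143) (iv3 D13000) F41745 D15835
def n32885 : Q := act 5 n15835
theorem D32885 : act 5 n15835 = n32885 := rfl
theorem F52063 : act 3 n32885 = n15837 := d6_1 D32885 (iv5 D15837) D15835
def n32886 : Q := act 6 n15835
theorem D32886 : act 6 n15835 = n32886 := rfl
theorem F52064 : act 3 n32886 = n15838 := d7_1 D32886 (iv6 D15838) D15835
theorem F52065 : act 5 n32540 = n32886 := d6_0 F52064 F25322 D32540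
def n32887 : Q := act 1 n15837
theorem D32887 : act 1 n15837 = n32887 := rfl
theorem F52066 : act 1 n32887 = n15842 := d15_1 D32887 F41753 F41751
theorem F52067 : act 7 n32887 = n27884 := d15_2 F30045 D32887 F45015
theorem F52068 : act 5 n32887 = n18772 := d17_7 D17715 F28778 F30380 (iv5 D13002) F41745 D15837 D32887 (iv0 F41733) (iv4 D17717)
def n32888 : Q := act 4 n15837
theorem D32888 : act 4 n15837 = n32888 := rfl
def n32889 : Q := act 6 n15837
theorem D32889 : act 6 n15837 = n32889 := rfl
theorem F52069 : act 5 n32889 = n32542 := d12_1 D32889 (iv6 D32542) (iv5 F25322) (iv6 D15838) D15837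
def n32890 : Q := act 0 n15838
theorem D32890 : act 0 n15838 = n32890 := rfl
def n32891 : Q := act 1 n15838
theorem D32891 : act 1 n15838 = n32891 := rfl
theorem F52070 : act 1 n32891 = n32539 := d15_1 D32891 F51611 F41747
theorem F52071 : act 4 n32891 = n16831 := d17_9 F27584 F13639 (iv1 D8743) (iv5 D3909) (iv4 F5331) D7274 D15410 (iv5 F25322) D32891
theorem F52072 : act 6 n16830 = n32891 := d21_3 D13678 D28697 F46250 (iv1 D32891) (iv6 D15838) D15837 (iv1 F30045) (iv5 D18807) (iv6 D8811) F30047
theorem F52073 : act 7 n32891 = n32433 := d14_2 F43240 F52072 (iv6 D32433) (iv7 F43175) (iv6 F43239)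
theorem E5485 : n32890 = n32797 := ((c15_4 (iv0 D32890) D32891 F52073 (iv2 F51920))).symm
theorem F52074 : act 1 n32797 = n15838 := (sb E5485 (iv0 D32890))
def n32892 : Q := act 7 n15838
theorem D32892 : act 7 n15838 = n32892 := rfl
theorem F52075 : act 2 n32892 = n32539 := d4_1 D32892 F51611 F41747
theorem F52076 : act 4 n32892 = n17569 := d11_1 D32892 (iv7 F28796) (iv4 F41746)
theorem F52077 : act 5 n32892 = n26270 := d13_1 D32892 F41809 (iv5 F25322)
theorem F52078 : act 0 n32433 = n32892 := d17_0 F52077 (iv1 F41769) F24967 F11579 (iv5 F13641) F22049 F29890 F29887 (iv4 F51488)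
def n32893 : Q := act 0 n15840
theorem D32893 : act 0 n15840 = n32893 := rfl
def n32894 : Q := act 1 n15840
theorem D32894 : act 1 n15840 = n32894 := rfl
def n32895 : Q := act 2 n15840
theorem D32895 : act 2 n15840 = n32895 := rfl
def n32896 : Q := act 4 n15840
theorem D32896 : act 4 n15840 = n32896 := rfl
theorem F52079 : act 3 n32896 = n27151 := d5_1 D32896 (iv4 D27151) (iv3 D13005) (iv4 F41740) D15840
def n32897 : Q := act 5 n15840
theorem D32897 : act 5 n15840 = n32897 := rfl
theorem F52080 : act 3 n32897 = n15842 := d6_1 D32897 (iv5 D15842) D15840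
def n32898 : Q := act 6 n15840
theorem D32898 : act 6 n15840 = n32898 := rfl
theorem F52081 : act 3 n32898 = n15843 := d7_1 D32898 (iv6 D15843) D15840
def n32899 : Q := act 4 n15842
theorem D32899 : act 4 n15842 = n32899 := rfl
def n32900 : Q := act 5 n15843
theorem D32900 : act 5 n15843 = n32900 := rfl
theorem F52082 : act 2 n32900 = n28678 := d2_1 D32900 F46224 (iv2 F41756)
theorem F52083 : act 0 n32900 = n23920 := d17_2 F51205 D32900 (iv5 D23920) F37327 D13304 (iv0 F29151) (iv5 D17983) (iv0 F29271) (iv4 F43118)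
theorem F52084 : act 1 n32900 = n23916 := d17_6 D8916 D19039 F30544 F28235 F41757 D32900 (iv5 D23916) (iv0 D11198) F7644
theorem F52085 : act 7 n28679 = n32900 := d15_2 (iv0 D28678) D28679 F52082
def n32901 : Q := act 7 n15843
theorem D32901 : act 7 n15843 = n32901 := rfl
theorem F52086 : act 4 n32901 = n27154 := d11_1 D32901 (iv7 D27154) F41757
theorem F52087 : act 5 n32901 = n28679 := d13_1 D32901 F52085 (iv5 D32900)
theorem F52088 : act 6 n32901 = n32539 := d14_1 D32901 F51611 (iv6 D17713) F41742 D15843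
theorem F52089 : act 1 n16826 = n32901 := d15_1 F46226 (iv7 D32901) F41756
theorem E5486 : n31910 = n28679 := (c12_5 F52088 (iv5 D32539) F50214 (iv5 D31909) D31910 (iv5 F52087))
theorem F52090 : act 6 n28679 = n15050 := (sb E5486 (iv6 D31910))
def n32902 : Q := act 3 n15844
theorem D32902 : act 3 n15844 = n32902 := rfl
def n32903 : Q := act 4 n15844
theorem D32903 : act 4 n15844 = n32903 := rfl
theorem F52091 : act 5 n32903 = n32899 := d16_1 D32903 (iv4 D32899) (iv5 D15842) F41740 (iv5 F12878) (iv4 F28227) (iv5 F41739) F42015 F42017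
theorem F52092 : act 1 n32903 = n26473 := d18_6 F42337 (iv4 F28978) F30380 D27146 F43882 D32903 (iv4 D26473) D26472 (iv5 F42336)
def n32904 : Q := act 6 n15844
theorem D32904 : act 6 n15844 = n32904 := rfl
theorem F52093 : act 5 n32904 = n31710 := d21_6 (iv5 D7437) (iv1 D3401) D3402 (iv6 F11710) D15844 D32904 (iv1 D31710) (iv5 F49964) (iv6 D31685) (iv1 F24539)
def n32905 : Q := act 3 n15845
theorem D32905 : act 3 n15845 = n32905 := rfl
def n32906 : Q := act 4 n15845
theorem D32906 : act 4 n15845 = n32906 := rfl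
theorem F52094 : act 5 n32906 = n32888 := d9_2 (iv5 F41739) D32906 (iv4 D32888) (iv5 D15837) (iv4 F41745) D13002 D27146 F43882 D32903 F52091 (iv4 D32899) (iv5 D15842) F41740 (iv5 F12878) (iv4 F28227)
theorem F52095 : act 0 n32906 = n26473 := d18_2 (iv1 F42026) D32906 (iv4 D26473) (iv5 D12633) F9319 D6178 (iv4 F41740) F20932 (iv5 F42025)
def n32907 : Q := act 6 n15845
theorem D32907 : act 6 n15845 = n32907 := rfl
def n32908 : Q := act 0 n15846
theorem D32908 : act 0 n15846 = n32908 := rfl
theorem F52096 : act 4 n32908 = n16092 := d18_3 (iv1 D15845) D15846 D32908 F29130 (iv4 D17968) F13716 (iv4 F22098) F41735 (iv5 F41739)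
def n32909 : Q := act 1 n15846
theorem D32909 : act 1 n15846 = n32909 := rfl
theorem F52097 : act 4 n32909 = n16093 := d18_7 (iv1 F21035) (iv4 F29135) (iv1 D3790) (iv4 F5400) D7428 D15846 D32909 F42354 F42353
def n32910 : Q := act 3 n15846
theorem D32910 : act 3 n15846 = n32910 := rfl
theorem F52098 : act 6 n32910 = n15870 := d7_2 (iv6 F25324) D32910 (iv3 D15870)
def n32911 : Q := act 5 n15846
theorem D32911 : act 5 n15846 = n32911 := rfl
theorem F52099 : act 4 n32911 = n26348 := d16_2 D15846 D32911 F42025 F20929 F9684 (iv4 F20929) (iv5 F42025) (iv7 D26348) F20926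
theorem F52100 : act 7 n32911 = n26347 := d16_8 (iv4 D15846) (iv5 D7428) F5400 F2839 (iv4 F5400) D7428 D15846 D32911 F42022
theorem F52101 : act 1 n32909 = n32911 := d15_1 D32909 F52100 F42022
theorem F52102 : act 0 n32908 = n32911 := d18_2 D16092 (iv4 F52096) F52099 F42025 F20929 F9688 F29132 (iv0 D7511) D7513
def n32912 : Q := act 7 n15846
theorem D32912 : act 7 n15846 = n32912 := rfl
theorem F52103 : act 2 n32912 = n32911 := d4_1 D32912 F52100 F42022
theorem F52104 : act 4 n32912 = n15847 := d11_1 D32912 (iv7 D15847) D15846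
theorem F52105 : act 5 n32912 = n26347 := d13_1 D32912 (iv7 F52100) (iv5 D32911)
def n32913 : Q := act 6 n15847
theorem D32913 : act 6 n15847 = n32913 := rfl
theorem F52106 : act 5 n32913 = n29769 := d12_1 D32913 (iv6 D29769) F23626 F20899 (iv5 F25325)
theorem F52107 : act 7 n32913 = n15873 := d14_2 D15847 D32913 (iv6 D15873) (iv7 D7442) (iv6 F11710)
def n32914 : Q := act 4 n15848
theorem D32914 : act 4 n15848 = n32914 := rfl
theorem F52108 : act 0 n15902 = n32914 := d20_1 (iv4 F25376) (iv4 D32914) (iv3 F45996) (iv1 D28470) F22735 F10533 (iv1 F5597) F12027 D12746 F27203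
def n32915 : Q := act 5 n15848
theorem D32915 : act 5 n15848 = n32915 := rfl
def n32916 : Q := act 5 n15850
theorem D32916 : act 5 n15850 = n32916 := rfl
theorem F52109 : act 2 n32916 = n15852 := d2_1 D32916 (iv5 D15852) D15850
def n32917 : Q := act 5 n15851
theorem D32917 : act 5 n15851 = n32917 := rfl
theorem F52110 : act 3 n32917 = n28500 := d6_1 D32917 (iv5 D28500) (iv3 F25326)
def n32918 : Q := act 0 n15852
theorem D32918 : act 0 n15852 = n32918 := rfl
def n32919 : Q := act 1 n15852
theorem D32919 : act 1 n15852 = n32919 := rfl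
def n32920 : Q := act 4 n15852
theorem D32920 : act 4 n15852 = n32920 := rfl
def n32921 : Q := act 6 n15852
theorem D32921 : act 6 n15852 = n32921 := rfl
theorem F52111 : act 3 n32921 = n15855 := d7_1 D32921 (iv6 D15855) (iv3 F25327)
def n32922 : Q := act 0 n15854
theorem D32922 : act 0 n15854 = n32922 := rfl
theorem F52112 : act 4 n32922 = n16607 := d18_1 D32922 F27095 D26375 F42097 F42062 (iv0 D12635) D12637 (iv0 F25335) F25334
theorem F52113 : act 1 n15860 = n32922 := d15_0 (iv0 D32922) (iv7 F42053) F42051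
def n32923 : Q := act 3 n15854
theorem D32923 : act 3 n15854 = n32923 := rfl
def n32924 : Q := act 6 n15854
theorem D32924 : act 6 n15854 = n32924 := rfl
theorem F52114 : act 4 n32924 = n15855 := d10_1 D32924 (iv6 D15855) D15854
def n32925 : Q := act 0 n15855
theorem D32925 : act 0 n15855 = n32925 := rfl
def n32926 : Q := act 1 n15855
theorem D32926 : act 1 n15855 = n32926 := rfl
def n32927 : Q := act 7 n15855
theorem D32927 : act 7 n15855 = n32927 := rfl
def n32928 : Q := act 0 n15859
theorem D32928 : act 0 n15859 = n32928 := rfl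
def n32929 : Q := act 1 n15859
theorem D32929 : act 1 n15859 = n32929 := rfl
def n32930 : Q := act 4 n15859
theorem D32930 : act 4 n15859 = n32930 := rfl
def n32931 : Q := act 6 n15859
theorem D32931 : act 6 n15859 = n32931 := rfl
theorem F52115 : act 3 n32931 = n15861 := d7_1 D32931 (iv6 D15861) (iv3 F25329)
def n32932 : Q := act 3 n15860
theorem D32932 : act 3 n15860 = n32932 := rfl
def n32933 : Q := act 6 n15860
theorem D32933 : act 6 n15860 = n32933 := rfl
theorem F52116 : act 4 n32933 = n15861 := d10_1 D32933 (iv6 D15861) D15860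
def n32934 : Q := act 0 n15861
theorem D32934 : act 0 n15861 = n32934 := rfl
def n32935 : Q := act 1 n15861
theorem D32935 : act 1 n15861 = n32935 := rfl
def n32936 : Q := act 7 n15861
theorem D32936 : act 7 n15861 = n32936 := rfl
def n32937 : Q := act 0 n15862
theorem D32937 : act 0 n15862 = n32937 := rfl
def n32938 : Q := act 1 n15862
theorem D32938 : act 1 n15862 = n32938 := rfl
def n32939 : Q := act 2 n15862
theorem D32939 : act 2 n15862 = n32939 := rfl
theorem F52117 : act 5 n32939 = n31680 := d2_2 (iv5 F25330) D32939 (iv2 D31680)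
def n32940 : Q := act 4 n15862
theorem D32940 : act 4 n15862 = n32940 := rfl
def n32941 : Q := act 6 n15862
theorem D32941 : act 6 n15862 = n32941 := rfl
theorem F52118 : act 3 n32941 = n15864 := d7_1 D32941 (iv6 D15864) D15862
def n32942 : Q := act 3 n15863
theorem D32942 : act 3 n15863 = n32942 := rfl
def n32943 : Q := act 6 n15863
theorem D32943 : act 6 n15863 = n32943 := rfl
theorem F52120 : act 4 n32943 = n15864 := d10_1 D32943 (iv6 D15864) D15863
def n32944 : Q := act 0 n15864
theorem D32944 : act 0 n15864 = n32944 := rfl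
def n32945 : Q := act 1 n15864
theorem D32945 : act 1 n15864 = n32945 := rfl
def n32946 : Q := act 7 n15864
theorem D32946 : act 7 n15864 = n32946 := rfl
def n32947 : Q := act 0 n15865
theorem D32947 : act 0 n15865 = n32947 := rfl
def n32948 : Q := act 1 n15865
theorem D32948 : act 1 n15865 = n32948 := rfl
def n32949 : Q := act 2 n15865
theorem D32949 : act 2 n15865 = n32949 := rfl
theorem F52121 : act 5 n32949 = n31677 := d2_2 (iv5 F25333) D32949 (iv2 D31677)
def n32950 : Q := act 4 n15865
theorem D32950 : act 4 n15865 = n32950 := rfl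
def n32951 : Q := act 6 n15865
theorem D32951 : act 6 n15865 = n32951 := rfl
theorem F52122 : act 3 n32951 = n15867 := d7_1 D32951 (iv6 D15867) D15865
theorem F52123 : act 5 n32951 = n32558 := d12_1 D32951 (iv6 D32558) (iv5 D15416) (iv6 F24533) (iv5 F25333)
def n32953 : Q := act 6 n15866
theorem D32953 : act 6 n15866 = n32953 := rfl
def n32954 : Q := act 0 n15867
theorem D32954 : act 0 n15867 = n32954 := rfl
def n32955 : Q := act 1 n15867
theorem D32955 : act 1 n15867 = n32955 := rfl
def n32956 : Q := act 7 n15867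
theorem D32956 : act 7 n15867 = n32956 := rfl
theorem F52126 : act 5 n32956 = n32564 := d13_1 D32956 (iv7 D32564) (iv5 F25336)
def n32957 : Q := act 3 n15868
theorem D32957 : act 3 n15868 = n32957 := rfl
def n32958 : Q := act 6 n15868
theorem D32958 : act 6 n15868 = n32958 := rfl
theorem F52127 : act 4 n32958 = n16097 := d10_1 D32958 (iv6 D16097) (iv4 F25337)
def n32959 : Q := act 3 n15869
theorem D32959 : act 3 n15869 = n32959 := rfl
def n32960 : Q := act 6 n15869
theorem D32960 : act 6 n15869 = n32960 := rfl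
theorem F52128 : act 4 n32960 = n16099 := d10_1 D32960 (iv6 D16099) (iv4 F25338)
def n32961 : Q := act 0 n15870
theorem D32961 : act 0 n15870 = n32961 := rfl
def n32962 : Q := act 1 n15870
theorem D32962 : act 1 n15870 = n32962 := rfl
def n32963 : Q := act 2 n15870
theorem D32963 : act 2 n15870 = n32963 := rfl
def n32964 : Q := act 5 n15870
theorem D32964 : act 5 n15870 = n32964 := rfl
theorem F52129 : act 3 n32964 = n15871 := d6_1 D32964 (iv5 D15871) D15870
def n32965 : Q := act 7 n15870
theorem D32965 : act 7 n15870 = n32965 := rfl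
theorem F52131 : act 3 n32965 = n15872 := d8_1 D32965 (iv7 D15872) D15870
def n32966 : Q := act 6 n15871
theorem D32966 : act 6 n15871 = n32966 := rfl
theorem F52133 : act 4 n32966 = n26368 := d10_1 D32966 (iv6 D26368) (iv4 F25339)
def n32967 : Q := act 6 n15872
theorem D32967 : act 6 n15872 = n32967 := rfl
theorem F52134 : act 2 n32967 = n32966 := d3_1 D32967 (iv6 D32966) (iv2 F25343)
theorem F52135 : act 4 n32967 = n15873 := d10_1 D32967 (iv6 D15873) (iv4 F25344)
def n32968 : Q := act 0 n15873
theorem D32968 : act 0 n15873 = n32968 := rfl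
theorem F52136 : act 6 n32968 = n31669 := d21_5 (iv5 D12570) (iv1 F9285) (iv5 F11716) D15873 D32968 (iv5 D31669) (iv1 D14890) D14891 F24532 (iv1 F20938)
def n32969 : Q := act 1 n15873
theorem D32969 : act 1 n15873 = n32969 := rfl
def n32970 : Q := act 5 n15874
theorem D32970 : act 5 n15874 = n32970 := rfl
theorem F52137 : act 2 n32970 = n16220 := d2_1 D32970 F25766 (iv2 F50783)
theorem F52138 : act 3 n32970 = n16299 := d6_1 D32970 (iv5 D16299) (iv3 F27007)
theorem F52139 : act 7 n32970 = n16183 := d13_2 (iv7 F50785) D32970 (iv5 D16183)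
theorem F52140 : act 1 n16218 = n32970 := d15_1 D16218 F52139 F25710
theorem F52141 : act 1 n32970 = n16217 := d15_0 (iv0 D16217) D16220 (iv2 F52137)
def n32971 : Q := act 5 n15876
theorem D32971 : act 5 n15876 = n32971 := rfl
theorem F52142 : act 2 n32971 = n15877 := d2_1 D32971 (iv5 D15877) D15876
theorem F52143 : act 3 n32971 = n16024 := d6_1 D32971 (iv5 D16024) (iv3 F26595)
theorem F52144 : act 7 n32971 = n16215 := d13_2 (iv7 F50798) D32971 (iv5 D16215)
def n32972 : Q := act 0 n15877
theorem D32972 : act 0 n15877 = n32972 := rfl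
theorem F52145 : act 1 n16215 = n32972 := d15_0 (iv0 D32972) (iv7 F42095) F50996
def n32973 : Q := act 1 n15877
theorem D32973 : act 1 n15877 = n32973 := rfl
theorem F52146 : act 1 n32973 = n16215 := d15_1 D32973 (iv7 F52144) F52142
def n32974 : Q := act 4 n15877
theorem D32974 : act 4 n15877 = n32974 := rfl
def n32975 : Q := act 6 n15877
theorem D32975 : act 6 n15877 = n32975 := rfl
theorem F52147 : act 3 n32975 = n15881 := d7_1 D32975 (iv6 D15881) (iv3 F25347)
def n32976 : Q := act 3 n15878
theorem D32976 : act 3 n15878 = n32976 := rfl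
theorem F52148 : act 5 n32976 = n24296 := d6_2 (iv5 F25348) D32976 F38087
theorem F52149 : act 7 n32976 = n28376 := d8_2 F25350 D32976 F45867
def n32977 : Q := act 4 n15878
theorem D32977 : act 4 n15878 = n32977 := rfl
theorem F52150 : act 2 n32977 = n32922 := d1_1 D32977 F52112 F27093
theorem F52152 : act 5 n32977 = n32922 := d16_1 D32977 F52112 (iv5 D16607) F12016 F8168 (iv4 F18130) (iv5 F25352) (iv7 F27094) F27093
theorem F52154 : act 1 n32977 = n26353 := d18_6 D7086 (iv4 F11584) (iv1 F9457) (iv4 F18708) (iv5 F25348) D32977 (iv4 D26353) F20938 (iv5 D7088)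
def n32978 : Q := act 6 n15878
theorem D32978 : act 6 n15878 = n32978 := rfl
theorem F52155 : act 5 n32978 = n24297 := d12_1 D32978 (iv6 D24297) (iv5 D11441) D11442 (iv5 F25348)
def n32979 : Q := act 4 n15879
theorem D32979 : act 4 n15879 = n32979 := rfl
theorem F52157 : act 5 n32979 = n28377 := d9_2 (iv5 F25352) D32979 (iv4 D28377) (iv5 D13537) F10498 (iv5 F8098) (iv4 F18708) (iv5 F25348) D32977 F52152 F52112 (iv5 D16607) F12016 F8168 (iv4 F18130)
theorem F52158 : act 7 n32979 = n32922 := d11_2 F27094 D32979 F52112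
theorem F52159 : act 0 n32979 = n26353 := d17_0 F42040 (iv1 D16101) D16103 F25611 F21047 (iv0 F11596) D7448 D15879 D32979
theorem F52160 : act 1 n32979 = n26359 := d18_6 (iv1 F12014) (iv4 F12081) F12082 (iv4 F18130) (iv5 F25352) D32979 (iv4 D26359) (iv0 F27083) (iv5 D16596)
def n32980 : Q := act 3 n15880
theorem D32980 : act 3 n15880 = n32980 := rfl
theorem F52161 : act 5 n32980 = n32959 := d6_2 (iv5 F25354) D32980 (iv3 D32959)
def n32981 : Q := act 6 n15880
theorem D32981 : act 6 n15880 = n32981 := rfl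
theorem F52162 : act 4 n32981 = n15881 := d10_1 D32981 (iv6 D15881) D15880
def n32982 : Q := act 0 n15881
theorem D32982 : act 0 n15881 = n32982 := rfl
def n32983 : Q := act 1 n15881
theorem D32983 : act 1 n15881 = n32983 := rfl
def n32984 : Q := act 7 n15881
theorem D32984 : act 7 n15881 = n32984 := rfl
def n32985 : Q := act 5 n15882
theorem D32985 : act 5 n15882 = n32985 := rfl
theorem F52163 : act 3 n32985 = n15883 := d6_1 D32985 (iv5 D15883) D15882
def n32986 : Q := act 1 n15883
theorem D32986 : act 1 n15883 = n32986 := rfl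
theorem F52164 : act 1 n32986 = n28500 := d15_1 D32986 F46044 F40525
theorem F52165 : act 5 n32986 = n24063 := d17_7 F19126 F19124 F18027 F11342 D7452 D15883 D32986 (iv0 F37663) F27784
def n32987 : Q := act 4 n15883
theorem D32987 : act 4 n15883 = n32987 := rfl
def n32988 : Q := act 6 n15883
theorem D32988 : act 6 n15883 = n32988 := rfl
def n32989 : Q := act 0 n15887
theorem D32989 : act 0 n15887 = n32989 := rfl
theorem F52166 : act 2 n16442 = n32989 := d15_3 (iv0 D32989) (iv0 F42774) F42769
theorem F52167 : act 1 n16024 = n32989 := d15_0 (iv0 D32989) (iv7 F42079) F42077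
def n32990 : Q := act 4 n15887
theorem D32990 : act 4 n15887 = n32990 := rfl
def n32991 : Q := act 6 n15887
theorem D32991 : act 6 n15887 = n32991 := rfl
theorem F52168 : act 3 n32991 = n15889 := d7_1 D32991 (iv6 D15889) (iv3 F25356)
def n32992 : Q := act 3 n15888
theorem D32992 : act 3 n15888 = n32992 := rfl
def n32993 : Q := act 6 n15888
theorem D32993 : act 6 n15888 = n32993 := rfl
theorem F52170 : act 4 n32993 = n15889 := d10_1 D32993 (iv6 D15889) D15888
def n32994 : Q := act 0 n15889
theorem D32994 : act 0 n15889 = n32994 := rfl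
def n32995 : Q := act 1 n15889
theorem D32995 : act 1 n15889 = n32995 := rfl
def n32996 : Q := act 7 n15889
theorem D32996 : act 7 n15889 = n32996 := rfl
def n32997 : Q := act 6 n15897
theorem D32997 : act 6 n15897 = n32997 := rfl
theorem F52171 : act 2 n32997 = n32744 := d3_1 D32997 (iv6 D32744) (iv2 F25574)
theorem F52172 : act 3 n32997 = n15907 := d7_1 D32997 (iv6 D15907) (iv3 F25368)
def n32998 : Q := act 5 n15898
theorem D32998 : act 5 n15898 = n32998 := rfl
theorem F52173 : act 2 n32998 = n32745 := d2_1 D32998 (iv5 D32745) F25570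
theorem F52174 : act 3 n32998 = n15911 := d6_1 D32998 (iv5 D15911) (iv3 F25369)
def n32999 : Q := act 5 n15900
theorem D32999 : act 5 n15900 = n32999 := rfl
theorem F52175 : act 0 n32999 = n26999 := d17_2 (iv1 F25375) D32999 (iv5 D26999) (iv4 D12927) F35185 (iv0 D7472) (iv5 D3415) D3412 D7462
theorem F52176 : act 1 n32999 = n27007 := d17_6 (iv1 F27756) (iv5 F46147) (iv1 F51729) F51731 F40580 D32999 (iv5 D27007) F43593 F43591
def n33000 : Q := act 6 n15900
theorem D33000 : act 6 n15900 = n33000 := rfl
def n33001 : Q := act 0 n15901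
theorem D33001 : act 0 n15901 = n33001 := rfl
theorem F52177 : act 5 n33001 = n16977 := d17_3 (iv1 D15900) D15901 D33001 F27849 F25993 F46129 F41697 (iv0 F40581) F40580
theorem F52178 : act 1 n15919 = n33001 := d15_0 (iv0 D33001) (iv7 F42210) F42209
def n33002 : Q := act 1 n15901
theorem D33002 : act 1 n15901 = n33002 := rfl
theorem F52179 : act 1 n33002 = n15919 := d15_1 D33002 (iv7 F42233) F42232
theorem F52180 : act 5 n33002 = n16978 := d17_7 (iv1 D3592) (iv5 F5429) F30291 (iv5 D7458) D7457 D15901 D33002 F27852 (iv4 D7936)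
def n33003 : Q := act 4 n15901
theorem D33003 : act 4 n15901 = n33003 := rfl
theorem F52181 : act 2 n33003 = n27342 := d1_1 D33003 F44243 F42232
theorem F52182 : act 1 n33003 = n16933 := d18_6 (iv1 D7469) (iv4 D3414) D3411 D7457 D15901 D33003 (iv4 D16933) (iv0 F30294) (iv5 D15941)
theorem F52183 : act 5 n27341 = n33003 := d2_0 F52181 (iv5 D27342) D27341
def n33004 : Q := act 6 n15901
theorem D33004 : act 6 n15901 = n33004 := rfl
def n33005 : Q := act 5 n15902
theorem D33005 : act 5 n15902 = n33005 := rfl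
def n33006 : Q := act 1 n15906
theorem D33006 : act 1 n15906 = n33006 := rfl
theorem F52184 : act 1 n33006 = n15921 := d15_1 D33006 (iv7 F42237) F42236
def n33007 : Q := act 6 n15906
theorem D33007 : act 6 n15906 = n33007 := rfl
theorem F52185 : act 4 n33007 = n15907 := d10_1 D33007 (iv6 D15907) D15906
def n33008 : Q := act 0 n15907
theorem D33008 : act 0 n15907 = n33008 := rfl
def n33009 : Q := act 1 n15907
theorem D33009 : act 1 n15907 = n33009 := rfl
def n33010 : Q := act 5 n15907
theorem D33010 : act 5 n15907 = n33010 := rfl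
theorem F52186 : act 6 n33010 = n15911 := d12_2 D15907 D33010 (iv5 D15911) (iv6 D7459) D7458
def n33011 : Q := act 7 n15907
theorem D33011 : act 7 n15907 = n33011 := rfl
def n33012 : Q := act 4 n15909
theorem D33012 : act 4 n15909 = n33012 := rfl
theorem F52187 : act 2 n33012 = n16424 := d1_1 D33012 (iv4 D16424) (iv2 F27204)
theorem F52188 : act 6 n33012 = n29195 := d10_2 F38069 D33012 (iv4 F46850)
theorem F52189 : act 7 n33012 = n23775 := d11_2 F43616 D33012 (iv4 F43614)
theorem F52190 : act 0 n33012 = n25622 := d20_1 D33012 F40523 (iv3 D12571) (iv1 D5972) (iv3 F9276) F9277 (iv1 F27201) (iv4 F25370) F25369 D15909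
theorem F52191 : act 0 n15939 = n33012 := d20_1 F26996 (iv4 D33012) (iv3 F42076) (iv1 F42073) F50795 F50839 (iv1 D13628) (iv4 F22800) (iv3 F27636) F50828
def n33013 : Q := act 5 n15909
theorem D33013 : act 5 n15909 = n33013 := rfl
theorem F52192 : act 2 n33013 = n16425 := d2_1 D33013 (iv5 D16425) (iv2 F27204)
def n33014 : Q := act 0 n15911
theorem D33014 : act 0 n15911 = n33014 := rfl
def n33015 : Q := act 1 n15911
theorem D33015 : act 1 n15911 = n33015 := rfl
def n33016 : Q := act 4 n15911
theorem D33016 : act 4 n15911 = n33016 := rfl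
def n33017 : Q := act 5 n15916
theorem D33017 : act 5 n15916 = n33017 := rfl
def n33018 : Q := act 4 n15917
theorem D33018 : act 4 n15917 = n33018 := rfl
theorem F52193 : act 0 n33018 = n18995 := d18_2 (iv1 F41472) D33018 (iv4 D18995) F30276 D16966 (iv0 F28352) (iv4 D16988) F27244 F26652
theorem F52194 : act 1 n33018 = n18991 := d18_6 D7865 D16874 F27633 (iv4 D15916) D15917 D33018 (iv4 D18991) (iv0 D8897) F5922
def n33019 : Q := act 6 n15917
theorem D33019 : act 6 n15917 = n33019 := rfl
theorem F52195 : act 3 n33019 = n15922 := d7_1 D33019 (iv6 D15922) (iv3 F25385)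
def n33020 : Q := act 4 n15919
theorem D33020 : act 4 n15919 = n33020 := rfl
theorem F52196 : act 7 n33020 = n27342 := d11_2 F42233 D33020 F44243
theorem F52197 : act 5 n33020 = n26759 := d16_1 D33020 F42996 F30867 (iv4 D15906) (iv5 D7458) D7457 D15901 (iv7 F42210) F42209
theorem F52198 : act 0 n33020 = n16933 := d18_2 (iv1 F52178) D33020 (iv4 D16933) (iv5 D7900) F5616 D3592 D7936 F27850 (iv5 F52177)
theorem E5487 : n25594 = n25571 := ((c20_5 (iv4 D5787) (iv1 F5617) (iv4 F8877) (iv3 F20106) D25571 F40497 D33020 F52198 (iv4 D16933) F12508 (iv1 F8909))).symm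
theorem F52199 : act 3 n25571 = n15919 := (sb E5487 F40497)
theorem F52200 : act 5 n25571 = n12170 := (sb E5487 (iv5 D25594))
theorem F52201 : act 3 n26760 = n33020 := d6_3 F52197 (iv3 D26759) D26760
def n33021 : Q := act 6 n15919
theorem D33021 : act 6 n15919 = n33021 := rfl
def n33022 : Q := act 3 n15921
theorem D33022 : act 3 n15921 = n33022 := rfl
def n33023 : Q := act 5 n15921
theorem D33023 : act 5 n15921 = n33023 := rfl
theorem F52202 : act 2 n33023 = n27317 := d2_1 D33023 F44203 F42211
theorem F52203 : act 4 n33023 = n27341 := d9_1 D33023 F52183 (iv4 D33003) (iv5 D15901) (iv4 D7457) D7458 D15906 (iv5 F30867) (iv4 F42996) (iv5 F52197) (iv4 D33020) (iv5 D15919) (iv4 D7462) D7463 D15921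
def n33024 : Q := act 6 n15921
theorem D33024 : act 6 n15921 = n33024 := rfl
theorem F52204 : act 4 n33024 = n15922 := d10_1 D33024 (iv6 D15922) D15921
def n33025 : Q := act 0 n15922
theorem D33025 : act 0 n15922 = n33025 := rfl
def n33026 : Q := act 1 n15922
theorem D33026 : act 1 n15922 = n33026 := rfl
def n33027 : Q := act 7 n15922
theorem D33027 : act 7 n15922 = n33027 := rfl
def n33028 : Q := act 5 n15927
theorem D33028 : act 5 n15927 = n33028 := rfl
theorem F52205 : act 2 n33028 = n23766 := d2_1 D33028 (iv5 D23766) (iv2 F25388)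
theorem F52206 : act 3 n33028 = n15928 := d6_1 D33028 (iv5 D15928) D15927
theorem F52207 : act 7 n33028 = n25640 := d13_2 (iv7 F25389) D33028 (iv5 D25640)
theorem F52208 : act 1 n25643 = n33028 := d15_1 D25643 F52207 F40539
theorem F52209 : act 1 n33028 = n25642 := d15_0 (iv0 D25642) (iv7 F37040) (iv2 F52205)
def n33029 : Q := act 6 n15927
theorem D33029 : act 6 n15927 = n33029 := rfl
theorem F52210 : act 2 n33029 = n23767 := d3_1 D33029 (iv6 D23767) (iv2 F25388)
theorem F52211 : act 3 n33029 = n15929 := d7_1 D33029 (iv6 D15929) D15927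
theorem F52212 : act 4 n33029 = n25337 := d10_1 D33029 F40032 F37029
def n33030 : Q := act 4 n15928
theorem D33030 : act 4 n15928 = n33030 := rfl
theorem F52213 : act 2 n33030 = n15945 := d1_1 D33030 (iv4 D15945) (iv2 F25392)
theorem F52214 : act 5 n33030 = n27340 := d16_1 D33030 (iv4 F44241) (iv5 D26451) (iv4 D12625) (iv5 D5993) D5992 D12621 F21017 (iv2 F25392)
def n33031 : Q := act 6 n15928
theorem D33031 : act 6 n15928 = n33031 := rfl
theorem F52215 : act 2 n33031 = n15946 := d3_1 D33031 (iv6 D15946) (iv2 F25392)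
def n33032 : Q := act 1 n15929
theorem D33032 : act 1 n15929 = n33032 := rfl
theorem F52216 : act 1 n33032 = n15950 := d15_1 D33032 (iv7 D15950) (iv2 F25393)
theorem F52217 : act 7 n33032 = n15947 := d15_2 (iv0 F47784) D33032 (iv2 F47785)
theorem F52218 : act 2 n15948 = n33032 := d4_3 F52217 (iv2 F47785) F47782
theorem F52219 : act 4 n29194 = n33032 := d11_3 F52217 F47786 F47778
theorem F52220 : act 3 n33032 = n26398 := d5_1 F52219 (iv4 D26398) D26397 (iv4 F47761) F47760
theorem F52221 : act 6 n33032 = n29192 := d10_2 D29194 F52219 (iv4 D29192)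
theorem F52222 : act 0 n29717 = n29166 := d20_10 (iv4 D29166) (iv1 D13879) (iv4 F10910) (iv3 D6697) (iv1 F5411) (iv3 F11730) (iv4 F25476) (iv1 F52216) (iv4 F52219) (iv3 F47760)
def n33033 : Q := act 5 n15929
theorem D33033 : act 5 n15929 = n33033 := rfl
theorem F52223 : act 2 n33033 = n15949 := d2_1 D33033 (iv5 D15949) (iv2 F25393)
def n33034 : Q := act 7 n15929
theorem D33034 : act 7 n15929 = n33034 := rfl
theorem F52224 : act 2 n33034 = n15950 := d4_1 D33034 (iv7 D15950) (iv2 F25393)
theorem F52225 : act 4 n33034 = n15935 := d11_1 D33034 (iv7 D15935) (iv4 F25394)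
theorem F52226 : act 1 n15948 = n33034 := d15_1 D15948 (iv7 D33034) F25393
theorem F52227 : act 1 n33034 = n15947 := d15_1 F52226 (iv7 F52217) (iv2 F52218)
def n33035 : Q := act 3 n15930
theorem D33035 : act 3 n15930 = n33035 := rfl
theorem F52228 : act 2 n33035 = n17738 := d0_1 D33035 (iv3 D17738) F13173 (iv3 F11727) (iv2 F25395)
def n33036 : Q := act 5 n15930
theorem D33036 : act 5 n15930 = n33036 := rfl
theorem F52229 : act 2 n33036 = n15963 := d2_1 D33036 (iv5 D15963) (iv2 F25395)
theorem F52230 : act 4 n33036 = n27339 := d9_1 D33036 F44240 (iv4 D26443) (iv5 D12621) (iv4 D5992) D5993 D12625 D26451 F44241 (iv5 F52214) (iv4 D33030) (iv5 D15928) (iv4 D7465) D7466 D15930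
def n33037 : Q := act 6 n15930
theorem D33037 : act 6 n15930 = n33037 := rfl
theorem F52231 : act 2 n33037 = n15964 := d3_1 D33037 (iv6 D15964) (iv2 F25395)
theorem F52232 : act 4 n33037 = n15931 := d10_1 D33037 (iv6 D15931) D15930
def n33038 : Q := act 0 n15931
theorem D33038 : act 0 n15931 = n33038 := rfl
def n33039 : Q := act 1 n15931
theorem D33039 : act 1 n15931 = n33039 := rfl
theorem F52233 : act 1 n33039 = n15968 := d15_1 D33039 (iv7 D15968) (iv2 F25396)
def n33040 : Q := act 5 n15931
theorem D33040 : act 5 n15931 = n33040 := rfl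
theorem F52234 : act 2 n33040 = n15967 := d2_1 D33040 (iv5 D15967) (iv2 F25396)
theorem F52235 : act 6 n33040 = n15934 := d12_2 D15931 D33040 (iv5 D15934) (iv6 D7467) D7466
def n33041 : Q := act 7 n15931
theorem D33041 : act 7 n15931 = n33041 := rfl
theorem F52236 : act 2 n33041 = n15968 := d4_1 D33041 (iv7 D15968) (iv2 F25396)
theorem F52237 : act 1 n15968 = n33038 := d15_0 (iv0 D33038) D33041 F52236
theorem F52238 : act 1 n15966 = n33041 := d15_1 D15966 (iv7 D33041) F25396
theorem F52239 : act 1 n33041 = n15965 := d15_0 (iv0 D15965) D15968 (iv2 F52236)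
def n33042 : Q := act 4 n15932
theorem D33042 : act 4 n15932 = n33042 := rfl
theorem F52240 : act 2 n33042 = n15971 := d1_1 D33042 (iv4 D15971) (iv2 F50594)
theorem F52241 : act 7 n33042 = n15976 := d11_2 (iv7 F50596) D33042 (iv4 D15976)
theorem F52242 : act 3 n25335 = n33042 := d20_5 (iv4 D11708) F8274 D5696 D12031 D25335 (iv4 D33042) (iv1 F25401) (iv4 F25476) F25475 (iv1 F20184)
def n33043 : Q := act 5 n15932
theorem D33043 : act 5 n15932 = n33043 := rfl
theorem F52243 : act 2 n33043 = n15972 := d2_1 D33043 (iv5 D15972) (iv2 F50594)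
theorem F52244 : act 7 n33043 = n15977 := d13_2 (iv7 F50596) D33043 (iv5 D15977)
theorem F52245 : act 0 n33043 = n29062 := d21_1 D33043 (iv5 D29062) (iv6 F24858) F50649 (iv6 D7933) D7932 F27838 (iv5 D7466) D7467 D15932
def n33044 : Q := act 6 n15932
theorem D33044 : act 6 n15932 = n33044 := rfl
theorem F52246 : act 2 n33044 = n15973 := d3_1 D33044 (iv6 D15973) (iv2 F50594)
theorem F52247 : act 5 n33044 = n17014 := d21_6 D7932 F27838 (iv5 D7466) D7467 D15932 D33044 (iv1 D17014) (iv5 D7942) (iv6 D3594) D3591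
def n33045 : Q := act 4 n15933
theorem D33045 : act 4 n15933 = n33045 := rfl
theorem F52248 : act 2 n33045 = n15976 := d1_1 D33045 (iv4 D15976) (iv2 F50590)
theorem F52249 : act 3 n33045 = n29237 := d5_1 D33045 (iv4 D29237) (iv3 D13901) D13902 (iv3 F25398)
theorem F52250 : act 7 n33045 = n15971 := d11_2 (iv7 F50591) D33045 (iv4 D15971)
def n33046 : Q := act 5 n15933
theorem D33046 : act 5 n15933 = n33046 := rfl
theorem F52251 : act 2 n33046 = n15977 := d2_1 D33046 (iv5 D15977) (iv2 F50590)
theorem F52252 : act 3 n33046 = n29239 := d6_1 D33046 (iv5 D29239) (iv3 F25398)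
theorem F52253 : act 7 n33046 = n15972 := d13_2 (iv7 F50591) D33046 (iv5 D15972)
theorem F52254 : act 0 n29062 = n33046 := d21_1 D29062 (iv5 D33046) (iv6 F50580) (iv1 F38067) (iv6 D12651) D12650 (iv1 F43645) (iv5 D16989) D16990 F47451
def n33047 : Q := act 0 n15934
theorem D33047 : act 0 n15934 = n33047 := rfl
theorem F52255 : act 5 n33047 = n29568 := d21_8 (iv5 F20705) (iv1 F50512) (iv5 D26153) F41357 (iv1 F9307) D7467 D15934 D33047 (iv6 F50554) (iv1 D23835)
theorem F52256 : act 2 n15979 = n33047 := d2_3 F52255 (iv2 F50549) (iv5 F50540)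
theorem F52257 : act 7 n15980 = n33047 := d13_0 F52255 F50495 F30295
def n33048 : Q := act 1 n15934
theorem D33048 : act 1 n15934 = n33048 := rfl
theorem F52258 : act 1 n33048 = n15982 := d15_1 D33048 (iv7 D15982) (iv2 F25399)
theorem F52259 : act 7 n33048 = n15979 := d15_2 (iv0 D33047) D33048 F52256
theorem F52260 : act 5 n27014 = n33048 := d21_0 (iv1 D33048) (iv5 D15934) (iv6 D7467) (iv1 F9311) D12615 D26432 F50496 (iv5 F46284) F46285 (iv1 F50492)
theorem F52261 : act 2 n33048 = n15980 := d2_1 F52260 (iv5 F30295) (iv2 F43647)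
theorem F52262 : act 1 n15982 = n33047 := d15_1 F52258 (iv7 F52257) (iv2 F52261)
def n33049 : Q := act 4 n15934
theorem D33049 : act 4 n15934 = n33049 := rfl
theorem F52263 : act 2 n33049 = n15981 := d1_1 D33049 (iv4 D15981) (iv2 F25399)
def n33050 : Q := act 7 n15934
theorem D33050 : act 7 n15934 = n33050 := rfl
theorem F52264 : act 2 n33050 = n15982 := d4_1 D33050 (iv7 D15982) (iv2 F25399)
theorem F52265 : act 5 n33050 = n15935 := d13_1 D33050 (iv7 D15935) D15934
theorem F52266 : act 1 n15980 = n33050 := d15_1 D15980 (iv7 D33050) F25399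
theorem F52267 : act 1 n33050 = n15979 := d15_1 F52266 (iv7 F52259) F52261
def n33051 : Q := act 5 n15937
theorem D33051 : act 5 n15937 = n33051 := rfl
theorem F52268 : act 2 n33051 = n26258 := d2_1 D33051 F41697 F25416
theorem F52269 : act 3 n33051 = n28521 := d6_1 D33051 (iv5 D28521) (iv3 F25407)
theorem F52270 : act 7 n33051 = n28563 := d13_2 (iv7 F25449) D33051 (iv5 D28563)
theorem F52271 : act 1 n33051 = n28601 := d17_6 (iv1 D7898) D7900 (iv1 F42284) (iv5 D15938) D15937 D33051 F46162 F26706 F12506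
theorem F52272 : act 4 n33051 = n16321 := d18_5 (iv1 D3412) D3414 D7468 D15937 D33051 (iv0 D16321) (iv4 D7589) (iv0 F30292) (iv5 D7463)
theorem F52273 : act 0 n33051 = n28622 := d21_7 D7250 D15318 F43048 D16876 F50828 F26993 D33051 (iv5 F50856) (iv6 D15312) (iv1 D7247)
theorem F52274 : act 5 n24312 = n28506 := d21_8 D33051 F52273 (iv5 F50856) (iv6 D15312) (iv1 D7247) (iv6 F8100) D11446 D24312 (iv6 D28506) F37253
theorem F52275 : act 3 n28511 = n24312 := d6_3 F52274 F46060 D28511
theorem E5488 : n32673 = n28601 := ((c15_1 F52271 (iv0 D32673) (iv7 F41698) (iv2 F52268))).symm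
theorem F52276 : act 1 n28601 = n15560 := (sb E5488 (iv0 D32673))
def n33052 : Q := act 4 n15938
theorem D33052 : act 4 n15938 = n33052 := rfl
theorem F52277 : act 3 n33052 = n16279 := d19_3 D7468 D15938 D33052 (iv1 D16279) (iv5 D7578) (iv4 D3447) F2623 D1514 F2625 (iv4 D856) (iv3 F1613) D1576 F2746 F2698 F2642 (iv1 D1523) (iv5 F2398) (iv4 F3810) (iv3 F5405)
def n33053 : Q := act 6 n15938
theorem D33053 : act 6 n15938 = n33053 := rfl
def n33054 : Q := act 5 n15939
theorem D33054 : act 5 n15939 = n33054 := rfl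
theorem F52278 : act 2 n33054 = n32917 := d2_1 D33054 (iv5 D32917) (iv2 F26995)
def n33055 : Q := act 4 n15941
theorem D33055 : act 4 n15941 = n33055 := rfl
def n33056 : Q := act 6 n15941
theorem D33056 : act 6 n15941 = n33056 := rfl
def n33057 : Q := act 4 n15943
theorem D33057 : act 4 n15943 = n33057 := rfl
theorem F52279 : act 3 n33057 = n27542 := d19_3 D12916 (iv5 F35196) D33057 F44436 (iv5 D26782) F21267 (iv3 D6063) F4072 (iv5 D1504) F1528 D1308 F3464 (iv5 D1574) (iv4 F2413) F1955 (iv1 F2417) D1209 D2581 D6122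
theorem F52280 : act 5 n27541 = n33057 := d6_0 F52279 (iv5 D27542) D27541
def n33058 : Q := act 6 n15943
theorem D33058 : act 6 n15943 = n33058 := rfl
def n33059 : Q := act 4 n15944
theorem D33059 : act 4 n15944 = n33059 := rfl
def n33060 : Q := act 6 n15944
theorem D33060 : act 6 n15944 = n33060 := rfl
def n33061 : Q := act 0 n15945
theorem D33061 : act 0 n15945 = n33061 := rfl
theorem F52281 : act 4 n33061 = n26999 := d18_3 (iv1 D15944) D15945 D33061 (iv5 D26999) (iv4 D12927) (iv0 D6128) (iv4 F9522) D12917 (iv5 F35191)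
def n33062 : Q := act 5 n15945
theorem D33062 : act 5 n15945 = n33062 := rfl
theorem F52282 : act 2 n33062 = n27340 := d2_1 D33062 (iv5 F52214) F52213
theorem F52283 : act 7 n33062 = n27339 := d13_2 F42286 D33062 F44240
theorem F52284 : act 0 n33062 = n27341 := d17_2 F46134 D33062 F52183 (iv4 D33003) (iv5 D15901) D15900 D32999 F52176 (iv4 F44379)
theorem F52285 : act 0 n26759 = n33062 := d19_0 (iv5 D33062) (iv4 D15945) F11724 (iv1 F12913) (iv5 D8143) (iv4 D3666) F2796 (iv1 D1196) (iv5 D718) (iv4 D415) F1083 (iv1 F373) (iv5 F710) (iv4 F1410) (iv3 F2297) (iv1 F6462) (iv5 F14017) D12805 D26759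
def n33063 : Q := act 6 n15945
theorem D33063 : act 6 n15945 = n33063 := rfl
theorem F52286 : act 4 n33063 = n15946 := d10_1 D33063 (iv6 D15946) D15945
def n33064 : Q := act 0 n15946
theorem D33064 : act 0 n15946 = n33064 := rfl
def n33065 : Q := act 1 n15946
theorem D33065 : act 1 n15946 = n33065 := rfl
def n33066 : Q := act 5 n15946
theorem D33066 : act 5 n15946 = n33066 := rfl
theorem F52287 : act 3 n33066 = n25626 := d6_1 D33066 (iv5 D25626) (iv3 F25473)
theorem F52288 : act 6 n33066 = n15949 := d12_2 D15946 D33066 (iv5 D15949) (iv6 D7471) D7470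
def n33067 : Q := act 7 n15946
theorem D33067 : act 7 n15946 = n33067 := rfl
theorem F52289 : act 3 n33067 = n25627 := d8_1 D33067 (iv7 D25627) (iv3 F25473)
def n33068 : Q := act 3 n15947
theorem D33068 : act 3 n15947 = n33068 := rfl
theorem F52290 : act 2 n33068 = n26395 := d0_1 D33068 F42146 F37640 (iv3 F47781) F47785
theorem F52291 : act 7 n33068 = n26398 := d8_2 F52217 D33068 (iv3 F52220)
theorem F52292 : act 4 n33068 = n26385 := d20_6 F19912 (iv1 D6389) (iv4 F8897) (iv3 F11725) D15947 D33068 (iv1 F42124) (iv4 F39975) F39974 (iv1 F19910)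
theorem F52293 : act 6 n32043 = n33068 := d10_0 F52292 F42120 D32043
def n33069 : Q := act 5 n15947
theorem D33069 : act 5 n15947 = n33069 := rfl
def n33070 : Q := act 6 n15947
theorem D33070 : act 6 n15947 = n33070 := rfl
theorem F52294 : act 2 n33070 = n31918 := d3_1 D33070 F50224 F47785
theorem F52295 : act 3 n33070 = n32043 := d7_1 D33070 F52293 (iv3 D33068)
theorem F52296 : act 4 n33070 = n31917 := d10_1 D33070 F50218 (iv4 F47786)
theorem F52297 : act 5 n33070 = n20775 := d21_6 (iv5 F35191) (iv1 D15944) (iv5 D7470) D7471 D15947 D33070 (iv1 D20775) F27767 (iv6 D16930) F21468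
theorem F52298 : act 0 n33070 = n20005 := d20_4 (iv4 F41575) (iv1 F41577) D32043 (iv3 F52295) F31832 F14659 (iv1 F31794) F31797 (iv3 F50403) (iv1 F50405)
def n33071 : Q := act 5 n15948
theorem D33071 : act 5 n15948 = n33071 := rfl
def n33072 : Q := act 0 n15949
theorem D33072 : act 0 n15949 = n33072 := rfl
def n33073 : Q := act 4 n15949
theorem D33073 : act 4 n15949 = n33073 := rfl
def n33074 : Q := act 7 n15949
theorem D33074 : act 7 n15949 = n33074 := rfl
theorem F52299 : act 3 n33074 = n25629 := d8_1 D33074 (iv7 D25629) (iv3 F25474)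
theorem F52300 : act 5 n33074 = n15950 := d13_1 D33074 (iv7 D15950) D15949
def n33075 : Q := act 1 n15953
theorem D33075 : act 1 n15953 = n33075 := rfl
theorem F52301 : act 1 n33075 = n15958 := d15_1 D33075 (iv7 F35200) F35204
theorem F52302 : act 4 n33075 = n32657 := d18_7 (iv1 F50852) F50855 (iv1 D26998) (iv4 D12927) F35185 D15953 D33075 F51729 F46147
def n33076 : Q := act 6 n15953
theorem D33076 : act 6 n15953 = n33076 := rfl
theorem F52303 : act 4 n33076 = n15955 := d10_1 D33076 (iv6 D15955) D15953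
def n33077 : Q := act 0 n15955
theorem D33077 : act 0 n15955 = n33077 := rfl
def n33078 : Q := act 1 n15955
theorem D33078 : act 1 n15955 = n33078 := rfl
def n33079 : Q := act 5 n15955
theorem D33079 : act 5 n15955 = n33079 := rfl
theorem F52304 : act 6 n33079 = n27003 := d12_2 D15955 D33079 (iv5 D27003) (iv6 D12929) F35185
def n33080 : Q := act 7 n15955
theorem D33080 : act 7 n15955 = n33080 := rfl
def n33081 : Q := act 4 n15957
theorem D33081 : act 4 n15957 = n33081 := rfl
theorem F52305 : act 0 n33081 = n32421 := d18_2 (iv1 F43066) D33081 (iv4 D32421) F43051 D16879 (iv0 F27647) (iv4 D15916) (iv0 F26645) (iv5 F42396)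
theorem F52306 : act 1 n33081 = n32418 := d18_6 D7246 D15305 F43625 (iv4 D27005) (iv5 F35190) D33081 (iv4 D32418) (iv0 D15318) (iv5 D7250)
def n33082 : Q := act 6 n15957
theorem D33082 : act 6 n15957 = n33082 := rfl
theorem F52307 : act 3 n33082 = n15960 := d7_1 D33082 (iv6 D15960) D15957
def n33083 : Q := act 3 n15958
theorem D33083 : act 3 n15958 = n33083 := rfl
def n33084 : Q := act 5 n15958
theorem D33084 : act 5 n15958 = n33084 := rfl
theorem F52308 : act 2 n33084 = n18958 := d2_1 D33084 F30269 F35201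
def n33085 : Q := act 6 n15958
theorem D33085 : act 6 n15958 = n33085 := rfl
theorem F52309 : act 4 n33085 = n15960 := d10_1 D33085 (iv6 D15960) D15958
def n33086 : Q := act 0 n15960
theorem D33086 : act 0 n15960 = n33086 := rfl
def n33087 : Q := act 1 n15960
theorem D33087 : act 1 n15960 = n33087 := rfl
def n33088 : Q := act 5 n15960
theorem D33088 : act 5 n15960 = n33088 := rfl
theorem F52310 : act 6 n33088 = n27011 := d12_2 D15960 D33088 (iv5 D27011) (iv6 D12934) F35189
def n33089 : Q := act 7 n15960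
theorem D33089 : act 7 n15960 = n33089 := rfl
def n33090 : Q := act 3 n15961
theorem D33090 : act 3 n15961 = n33090 := rfl
def n33091 : Q := act 5 n15961
theorem D33091 : act 5 n15961 = n33091 := rfl
theorem F52311 : act 1 n33091 = n26633 := d17_6 (iv1 F46129) (iv5 F25993) (iv1 F27736) D32656 F51724 D33091 (iv5 D26633) D26632 (iv4 F42677)
def n33092 : Q := act 6 n15961
theorem D33092 : act 6 n15961 = n33092 := rfl
def n33093 : Q := act 3 n15962
theorem D33093 : act 3 n15962 = n33093 := rfl
theorem F52312 : act 4 n33093 = n32838 := d5_2 F25479 D33093 (iv3 D32838) (iv4 D15804) D15803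
theorem F52313 : act 5 n23902 = n33093 := d16_1 D23902 F52312 F51994 F51652 (iv5 D32410) (iv4 D15310) (iv5 F37308) F42908 F42903
def n33094 : Q := act 5 n15962
theorem D33094 : act 5 n15962 = n33094 := rfl
theorem F52314 : act 3 n33094 = n23902 := d6_1 D33094 F52313 (iv3 D33093)
theorem F52315 : act 4 n33094 = n27541 := d16_2 F25479 D33094 F52280 (iv4 D33057) F35196 F26714 D32656 F51722 (iv2 F46149)
theorem F52316 : act 0 n33094 = n26633 := d17_2 F42253 D33094 (iv5 D26633) (iv4 D12728) F9352 D6129 F35189 F21008 D26435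
def n33095 : Q := act 6 n15962
theorem D33095 : act 6 n15962 = n33095 := rfl
theorem F52317 : act 4 n33095 = n32837 := d10_1 D33095 (iv6 D32837) F25479
def n33096 : Q := act 0 n15963
theorem D33096 : act 0 n15963 = n33096 := rfl
theorem F52318 : act 5 n33096 = n16321 := d17_3 (iv1 D15962) D15963 D33096 (iv4 F52272) (iv5 D33051) (iv0 F37253) D28505 F51725 F25479
def n33097 : Q := act 1 n15963
theorem D33097 : act 1 n15963 = n33097 := rfl
theorem F52319 : act 5 n33097 = n16322 := d17_7 (iv1 F30293) (iv5 D7463) (iv1 D3412) D3415 D7474 D15963 D33097 (iv0 F42670) (iv4 D26629)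
theorem F52320 : act 3 n32418 = n33097 := d19_19 (iv1 D33097) (iv5 D15963) (iv4 D7474) F5406 (iv1 F4064) (iv5 D2554) (iv4 D1192) (iv3 F2175) F2176 (iv5 D1138) F1298 (iv3 D524) D522 D850 D1572 D3566 D7865 (iv5 F43048) D32418
def n33098 : Q := act 4 n15963
theorem D33098 : act 4 n15963 = n33098 := rfl
theorem F52321 : act 2 n33098 = n27339 := d1_1 D33098 (iv4 F52230) F52229
theorem F52322 : act 7 n33098 = n27340 := d11_2 F42309 D33098 (iv4 F44241)
theorem F52323 : act 0 n33098 = n26759 := d18_2 (iv1 D33097) D33098 F42996 F30867 (iv4 D15906) (iv0 F30291) D7589 D16322 (iv5 F52319)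
theorem F52324 : act 1 n33098 = n27341 := d15_0 (iv0 F52284) F52283 (iv2 F52321)
def n33099 : Q := act 6 n15963
theorem D33099 : act 6 n15963 = n33099 := rfl
def n33100 : Q := act 0 n15964
theorem D33100 : act 0 n15964 = n33100 := rfl
def n33101 : Q := act 1 n15964
theorem D33101 : act 1 n15964 = n33101 := rfl
def n33102 : Q := act 5 n15964
theorem D33102 : act 5 n15964 = n33102 := rfl
def n33103 : Q := act 7 n15964
theorem D33103 : act 7 n15964 = n33103 := rfl
theorem F52327 : act 3 n33103 = n17771 := d8_1 D33103 (iv7 D17771) (iv3 F25481)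
theorem F52328 : act 4 n33103 = n15968 := d11_1 D33103 (iv7 D15968) (iv4 F25482)
def n33104 : Q := act 2 n15965
theorem D33104 : act 2 n15965 = n33104 := rfl
theorem F52329 : act 7 n15966 = n33104 := d15_2 (iv0 D15965) D15966 (iv2 D33104)
def n33105 : Q := act 3 n15965
theorem D33105 : act 3 n15965 = n33105 := rfl
def n33106 : Q := act 4 n15965
theorem D33106 : act 4 n15965 = n33106 := rfl
def n33107 : Q := act 5 n15965
theorem D33107 : act 5 n15965 = n33107 := rfl
def n33108 : Q := act 6 n15965
theorem D33108 : act 6 n15965 = n33108 := rfl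
def n33109 : Q := act 7 n15965
theorem D33109 : act 7 n15965 = n33109 := rfl
theorem F52330 : act 2 n33109 = n15966 := d4_1 D33109 F52329 (iv2 D33104)
def n33110 : Q := act 3 n15966
theorem D33110 : act 3 n15966 = n33110 := rfl
def n33111 : Q := act 4 n15966
theorem D33111 : act 4 n15966 = n33111 := rfl
def n33112 : Q := act 5 n15966
theorem D33112 : act 5 n15966 = n33112 := rfl
def n33113 : Q := act 6 n15966
theorem D33113 : act 6 n15966 = n33113 := rfl
def n33114 : Q := act 0 n15967
theorem D33114 : act 0 n15967 = n33114 := rfl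
def n33115 : Q := act 1 n15967
theorem D33115 : act 1 n15967 = n33115 := rfl
def n33116 : Q := act 4 n15967
theorem D33116 : act 4 n15967 = n33116 := rfl
theorem F52331 : act 6 n33116 = n15981 := d10_2 (iv6 F25484) D33116 (iv4 D15981)
def n33117 : Q := act 7 n15967
theorem D33117 : act 7 n15967 = n33117 := rfl
theorem F52332 : act 3 n33117 = n15996 := d8_1 D33117 (iv7 D15996) (iv3 F25483)
theorem F52333 : act 5 n33117 = n15968 := d13_1 D33117 (iv7 D15968) D15967
def n33118 : Q := act 1 n15970
theorem D33118 : act 1 n15970 = n33118 := rfl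
theorem F52334 : act 1 n33118 = n29225 := d15_1 D33118 (iv7 D29225) (iv2 F50572)
theorem F52335 : act 3 n29116 = n33118 := d20_9 F50573 (iv1 F50568) F10707 F10706 (iv1 F4736) D6708 F10936 D13871 F46764 (iv1 D33118)
theorem F52336 : act 4 n33118 = n29222 := d5_2 F46764 F52335 (iv3 F46879) (iv4 F46810) (iv3 D29140)
def n33119 : Q := act 5 n15970
theorem D33119 : act 5 n15970 = n33119 := rfl
theorem F52337 : act 2 n33119 = n29223 := d2_1 D33119 (iv5 D29223) (iv2 F50572)
theorem F52338 : act 3 n33119 = n15972 := d6_1 D33119 (iv5 D15972) D15970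
theorem F52339 : act 7 n33119 = n29239 := d13_2 (iv7 F50574) D33119 (iv5 D29239)
def n33120 : Q := act 6 n15970
theorem D33120 : act 6 n15970 = n33120 := rfl
theorem F52340 : act 2 n33120 = n29224 := d3_1 D33120 (iv6 D29224) (iv2 F50572)
theorem F52341 : act 3 n33120 = n15973 := d7_1 D33120 (iv6 D15973) D15970
theorem F52342 : act 4 n33120 = n26131 := d10_1 D33120 (iv6 F50567) (iv4 F50573)
theorem F52343 : act 7 n33120 = n29224 := d14_2 (iv7 F50574) D33120 (iv6 D29224) D29225 (iv6 F46898)
theorem F52344 : act 0 n26172 = n15973 := d20_4 (iv4 D8178) D8177 (iv4 F20682) (iv3 F41518) (iv3 F52341) F52342 (iv1 F41400) F20632 F20631 (iv1 F12944)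
theorem F52345 : act 0 n15973 = n26160 := d20_10 F41494 F47735 F47733 F23583 (iv1 F11483) (iv3 F20631) F20632 D26131 (iv4 F52342) F52341
theorem F52346 : act 0 n29134 = n15972 := d21_1 (iv5 F46805) (iv5 D15972) D15973 F52345 (iv6 D26160) D26159 (iv1 F41490) (iv5 F50553) F50554 (iv1 D29568)
theorem F52347 : act 1 n29134 = n15977 := d15_1 (iv0 F52346) (iv7 F52244) F52243
def n33121 : Q := act 0 n15971
theorem D33121 : act 0 n15971 = n33121 := rfl
theorem F52348 : act 4 n33121 = n29713 := d20_2 D15971 D33121 (iv3 D29713) (iv1 D14111) (iv3 D6708) (iv4 F7733) F3706 (iv4 F2620) (iv3 F5407) D7476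
theorem F52349 : act 3 n33121 = n29685 := d20_5 (iv4 F47747) (iv1 F50570) F50571 (iv3 F42438) D33121 (iv4 D29685) (iv1 F23573) D29192 (iv3 F47678) (iv1 F47682)
theorem F52350 : act 1 n15976 = n33121 := d15_0 (iv0 D33121) (iv7 F52250) F52248
def n33122 : Q := act 1 n15971
theorem D33122 : act 1 n15971 = n33122 := rfl
theorem F52351 : act 1 n33122 = n15976 := d15_1 D33122 (iv7 F52241) F52240
theorem F52352 : act 4 n29727 = n33122 := d20_0 (iv1 D33122) (iv4 D15971) D15970 F46876 (iv3 D29144) (iv4 F46761) (iv1 F46762) (iv4 F47761) F47760 F47777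
def n33123 : Q := act 5 n15971
theorem D33123 : act 5 n15971 = n33123 := rfl
def n33124 : Q := act 6 n15971
theorem D33124 : act 6 n15971 = n33124 := rfl
theorem F52353 : act 4 n33124 = n15973 := d10_1 D33124 (iv6 D15973) D15971
def n33125 : Q := act 0 n15972
theorem D33125 : act 0 n15972 = n33125 := rfl
theorem F52354 : act 5 n33125 = n26712 := d21_2 D15972 D33125 (iv6 F50523) (iv1 D27010) (iv6 D12934) F35189 (iv1 D7473) (iv5 D3415) D3416 D7476
theorem F52355 : act 0 n27011 = n31974 := d21_1 D27011 F50330 (iv6 F41519) F52344 (iv6 D15973) D15972 D33125 F52354 (iv6 F50523) (iv1 D27010)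
theorem F52356 : act 2 n29062 = n33125 := d15_3 (iv0 D33125) (iv0 F52346) F46806
theorem F52357 : act 1 n15977 = n33125 := d15_0 (iv0 D33125) (iv7 F52253) F52251
theorem F52358 : act 3 n33125 = n26714 := d0_2 (iv3 F46699) F52356 (iv2 F46803) (iv3 D29132) (iv2 F23135)
def n33126 : Q := act 4 n15972
theorem D33126 : act 4 n15972 = n33126 := rfl
def n33127 : Q := act 6 n15972
theorem D33127 : act 6 n15972 = n33127 := rfl
def n33128 : Q := act 5 n15973
theorem D33128 : act 5 n15973 = n33128 := rfl
theorem F52359 : act 2 n33128 = n17014 := d2_1 D33128 (iv5 F52247) F52246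
theorem F52360 : act 0 n33128 = n17001 := d21_1 D33128 (iv5 D17001) (iv6 D7939) (iv1 F9536) D12934 D27011 F52355 F50330 (iv6 F41519) F52344
theorem F52361 : act 0 n17016 = n33128 := d21_7 (iv5 F52265) (iv1 F52266) (iv5 F30295) (iv6 D16990) (iv1 F27243) F21494 (iv5 F27875) (iv5 D33128) (iv6 D15973) (iv1 F25403)
def n33129 : Q := act 4 n15975
theorem D33129 : act 4 n15975 = n33129 := rfl
theorem F52362 : act 6 n33129 = n15976 := d10_2 (iv6 F50592) D33129 (iv4 D15976)
theorem F52363 : act 0 n29685 = n33129 := d20_10 (iv4 D33129) F50586 (iv4 F37051) F37050 D24054 (iv3 F47781) (iv4 D29729) F47752 (iv4 F52348) F52349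
def n33130 : Q := act 5 n15975
theorem D33130 : act 5 n15975 = n33130 := rfl
theorem F52364 : act 3 n33130 = n15977 := d6_1 D33130 (iv5 D15977) D15975
def n33131 : Q := act 3 n15976
theorem D33131 : act 3 n15976 = n33131 := rfl
theorem F52365 : act 7 n33131 = n25335 := d8_2 F52241 D33131 F52242
theorem F52366 : act 0 n33131 = n25337 := d20_4 F52225 (iv1 F25402) D15976 D33131 F40031 F39971 D26385 (iv4 F52292) (iv3 D33068) (iv1 F52227)
theorem F52367 : act 0 n25339 = n33131 := d20_4 (iv4 D12015) (iv1 F8782) (iv4 F19917) (iv3 F40034) (iv3 D33131) (iv4 D15976) (iv1 D7477) (iv4 F11726) F11725 (iv1 F19876)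
def n33132 : Q := act 5 n15976
theorem D33132 : act 5 n15976 = n33132 := rfl
def n33133 : Q := act 4 n15977
theorem D33133 : act 4 n15977 = n33133 := rfl
def n33134 : Q := act 6 n15977
theorem D33134 : act 6 n15977 = n33134 := rfl
def n33135 : Q := act 3 n15979
theorem D33135 : act 3 n15979 = n33135 := rfl
def n33136 : Q := act 4 n15979
theorem D33136 : act 4 n15979 = n33136 := rfl
def n33137 : Q := act 6 n15979
theorem D33137 : act 6 n15979 = n33137 := rfl
def n33138 : Q := act 4 n15980
theorem D33138 : act 4 n15980 = n33138 := rfl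
def n33139 : Q := act 6 n15980
theorem D33139 : act 6 n15980 = n33139 := rfl
def n33140 : Q := act 0 n15981
theorem D33140 : act 0 n15981 = n33140 := rfl
def n33141 : Q := act 3 n15981
theorem D33141 : act 3 n15981 = n33141 := rfl
theorem F52368 : act 4 n33141 = n15997 := d5_2 D15981 D33141 (iv3 D15997) (iv4 D7484) (iv3 F11729)
theorem F52369 : act 7 n30043 = n33141 := d11_0 F52368 F25496 D30043
def n33142 : Q := act 5 n15981
theorem D33142 : act 5 n15981 = n33142 := rfl
def n33143 : Q := act 7 n15981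
theorem D33143 : act 7 n15981 = n33143 := rfl
theorem F52370 : act 3 n33143 = n30043 := d8_1 D33143 F52369 (iv3 D33141)
theorem F52371 : act 4 n33143 = n15982 := d11_1 D33143 (iv7 D15982) D15981
def n33144 : Q := act 6 n15982
theorem D33144 : act 6 n15982 = n33144 := rfl
theorem F52372 : act 3 n33144 = n15998 := d7_1 D33144 (iv6 D15998) (iv3 F25489)
def n33145 : Q := act 0 n15984
theorem D33145 : act 0 n15984 = n33145 := rfl
def n33146 : Q := act 1 n15984
theorem D33146 : act 1 n15984 = n33146 := rfl
def n33147 : Q := act 2 n15984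
theorem D33147 : act 2 n15984 = n33147 := rfl
def n33148 : Q := act 4 n15984
theorem D33148 : act 4 n15984 = n33148 := rfl
theorem F52373 : act 3 n33148 = n18075 := d5_1 D33148 (iv4 D18075) (iv3 D8529) F29940 D15984
def n33149 : Q := act 5 n15984
theorem D33149 : act 5 n15984 = n33149 := rfl
theorem F52374 : act 3 n33149 = n15986 := d6_1 D33149 (iv5 D15986) D15984
def n33150 : Q := act 6 n15984
theorem D33150 : act 6 n15984 = n33150 := rfl
theorem F52375 : act 3 n33150 = n15987 := d7_1 D33150 (iv6 D15987) D15984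
def n33151 : Q := act 1 n15986
theorem D33151 : act 1 n15986 = n33151 := rfl
theorem F52376 : act 1 n33151 = n15991 := d15_1 D33151 F42193 (iv2 F42194)
def n33152 : Q := act 4 n15986
theorem D33152 : act 4 n15986 = n33152 := rfl
def n33153 : Q := act 6 n15986
theorem D33153 : act 6 n15986 = n33153 := rfl
def n33154 : Q := act 7 n15987
theorem D33154 : act 7 n15987 = n33154 := rfl
theorem F52377 : act 4 n33154 = n16847 := d11_1 D33154 F29759 (iv4 F29941)
theorem F52378 : act 5 n33154 = n26644 := d13_1 D33154 F42710 (iv5 F25871)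
theorem F52379 : act 0 n16804 = n33154 := d17_0 F52378 (iv1 F42708) F25873 F11835 (iv5 F12881) F21402 F30499 (iv0 F30523) (iv4 F28980)
def n33155 : Q := act 0 n15989
theorem D33155 : act 0 n15989 = n33155 := rfl
def n33156 : Q := act 1 n15989
theorem D33156 : act 1 n15989 = n33156 := rfl
def n33157 : Q := act 2 n15989
theorem D33157 : act 2 n15989 = n33157 := rfl
def n33158 : Q := act 4 n15989
theorem D33158 : act 4 n15989 = n33158 := rfl
theorem F52380 : act 3 n33158 = n18097 := d5_1 D33158 (iv4 D18097) (iv3 D8534) F29944 D15989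
def n33159 : Q := act 5 n15989
theorem D33159 : act 5 n15989 = n33159 := rfl
theorem F52381 : act 3 n33159 = n15991 := d6_1 D33159 (iv5 D15991) D15989
def n33160 : Q := act 6 n15989
theorem D33160 : act 6 n15989 = n33160 := rfl
theorem F52382 : act 3 n33160 = n15992 := d7_1 D33160 (iv6 D15992) D15989
def n33161 : Q := act 4 n15991
theorem D33161 : act 4 n15991 = n33161 := rfl
def n33162 : Q := act 6 n15991
theorem D33162 : act 6 n15991 = n33162 := rfl
theorem F52383 : act 0 n29059 = n33162 := d21_4 (iv5 D6580) D6577 D13832 D29059 (iv6 D33162) (iv5 D15991) (iv1 D7481) D7482 F11731 (iv1 F10646)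
def n33163 : Q := act 7 n15992
theorem D33163 : act 7 n15992 = n33163 := rfl
theorem F52384 : act 4 n33163 = n16828 := d11_1 D33163 F29734 (iv4 F29945)
theorem F52385 : act 5 n33163 = n27798 := d13_1 D33163 F44890 (iv5 F29946)
theorem F52386 : act 1 n16671 = n33163 := d15_1 F44886 (iv7 D33163) (iv2 F42200)
theorem F52387 : act 1 n33163 = n18704 := d15_1 F52386 (iv7 F51307) F51296
def n33164 : Q := act 3 n15993
theorem D33164 : act 3 n15993 = n33164 := rfl
def n33165 : Q := act 6 n15993
theorem D33165 : act 6 n15993 = n33165 := rfl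
def n33166 : Q := act 3 n15994
theorem D33166 : act 3 n15994 = n33166 := rfl
def n33167 : Q := act 6 n15994
theorem D33167 : act 6 n15994 = n33167 := rfl
def n33168 : Q := act 3 n15995
theorem D33168 : act 3 n15995 = n33168 := rfl
theorem F52388 : act 6 n33168 = n15997 := d7_2 (iv6 F25493) D33168 (iv3 D15997)
def n33169 : Q := act 5 n15995
theorem D33169 : act 5 n15995 = n33169 := rfl
theorem F52389 : act 6 n33169 = n30050 := d12_2 (iv6 F25493) D33169 (iv5 D30050) (iv6 D14260) (iv5 F11733)
def n33170 : Q := act 7 n15995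
theorem D33170 : act 7 n15995 = n33170 := rfl
theorem F52390 : act 4 n33170 = n15996 := d11_1 D33170 (iv7 D15996) D15995
theorem F52391 : act 6 n33170 = n30048 := d14_1 D33170 (iv7 D30048) (iv6 D14259) F11734 (iv6 F25493)
theorem F52392 : act 1 n29297 = n33170 := d15_1 (iv0 F46935) (iv7 D33170) (iv2 F42163)
theorem F52393 : act 1 n33170 = n29294 := d15_1 F52392 (iv7 F47877) F47876
def n33171 : Q := act 6 n15996
theorem D33171 : act 6 n15996 = n33171 := rfl
theorem F52394 : act 4 n33171 = n30048 := d10_1 D33171 (iv6 F52391) F52390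
theorem F52395 : act 7 n33171 = n15998 := d14_2 D15996 D33171 (iv6 D15998) (iv7 D7485) (iv6 F11731)
def n33172 : Q := act 0 n15997
theorem D33172 : act 0 n15997 = n33172 := rfl
theorem F52396 : act 1 n30040 = n33172 := d15_0 (iv0 D33172) F25496 (iv2 F48258)
def n33173 : Q := act 1 n15997
theorem D33173 : act 1 n15997 = n33173 := rfl
def n33174 : Q := act 2 n15997
theorem D33174 : act 2 n15997 = n33174 := rfl
theorem F52397 : act 5 n33174 = n30027 := d2_2 (iv5 F25495) D33174 (iv2 F48250)
theorem F52398 : act 7 n33174 = n30040 := d4_2 (iv7 F25496) D33174 F48258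
theorem F52399 : act 1 n33174 = n30041 := d15_0 (iv0 D30041) (iv7 F25496) D33174
theorem F52400 : act 1 n33173 = n30040 := d15_1 D33173 (iv7 F52398) (iv2 D33174)
theorem F52401 : act 1 n30042 = n33174 := d15_1 D30042 F52398 F48258
def n33175 : Q := act 0 n15998
theorem D33175 : act 0 n15998 = n33175 := rfl
def n33176 : Q := act 1 n15998
theorem D33176 : act 1 n15998 = n33176 := rfl
def n33177 : Q := act 5 n16003
theorem D33177 : act 5 n16003 = n33177 := rfl
theorem F52402 : act 0 n33177 = n26851 := d17_2 D16003 D33177 (iv5 D26851) (iv4 D12844) F26863 F20969 (iv5 D12591) F9293 D7488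
theorem F52403 : act 1 n33177 = n26850 := d17_6 (iv1 D15332) D15334 (iv1 F51505) F51478 F27640 D33177 (iv5 D26850) D26849 (iv4 F43260)
def n33178 : Q := act 6 n16003
theorem D33178 : act 6 n16003 = n33178 := rfl
def n33179 : Q := act 0 n16006
theorem D33179 : act 0 n16006 = n33179 := rfl
theorem F52404 : act 5 n33179 = n17407 := d17_3 F37279 D16006 D33179 F28375 (iv5 F30326) F51496 F41917 F37288 F37289
theorem F52405 : act 1 n16018 = n33179 := d15_0 (iv0 D33179) (iv7 F42102) F42101
def n33180 : Q := act 4 n16006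
theorem D33180 : act 4 n16006 = n33180 := rfl
theorem F52406 : act 1 n33180 = n17393 := d18_6 (iv1 D7500) (iv4 D3423) D3420 D7488 D16006 D33180 (iv4 D17393) (iv0 F27124) (iv5 D16040)
def n33181 : Q := act 6 n16006
theorem D33181 : act 6 n16006 = n33181 := rfl
def n33182 : Q := act 0 n16010
theorem D33182 : act 0 n16010 = n33182 := rfl
theorem F52407 : act 4 n33182 = n18994 := d18_3 (iv1 F27123) D16010 D33182 F30326 (iv4 F28375) (iv0 D17407) (iv4 D8158) (iv0 D3673) (iv5 F5431)
theorem F52408 : act 1 n16020 = n33182 := d15_0 (iv0 D33182) (iv7 F42104) F42103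
def n33183 : Q := act 1 n16010
theorem D33183 : act 1 n16010 = n33183 := rfl
theorem F52409 : act 1 n33183 = n16020 := d15_1 D33183 (iv7 F42111) F42110
def n33184 : Q := act 5 n16010
theorem D33184 : act 5 n16010 = n33184 := rfl
theorem F52410 : act 3 n33184 = n26729 := d6_1 D33184 F42856 (iv3 F29548)
theorem F52411 : act 4 n28536 = n33184 := d5_0 F52410 (iv4 F42857) F22781 D13609 D28536
def n33185 : Q := act 6 n16010
theorem D33185 : act 6 n16010 = n33185 := rfl
theorem F52412 : act 4 n33185 = n16011 := d10_1 D33185 (iv6 D16011) D16010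
def n33186 : Q := act 0 n16011
theorem D33186 : act 0 n16011 = n33186 := rfl
def n33187 : Q := act 1 n16011
theorem D33187 : act 1 n16011 = n33187 := rfl
def n33188 : Q := act 7 n16011
theorem D33188 : act 7 n16011 = n33188 := rfl
def n33189 : Q := act 6 n16016
theorem D33189 : act 6 n16016 = n33189 := rfl
theorem F52413 : act 3 n33189 = n16021 := d7_1 D33189 (iv6 D16021) (iv3 F25506)
def n33190 : Q := act 4 n16018
theorem D33190 : act 4 n16018 = n33190 := rfl
theorem F52414 : act 3 n33190 = n28537 := d5_1 D33190 F46110 (iv3 F52277) (iv4 D33052) (iv3 F25508)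
theorem F52415 : act 5 n33190 = n28536 := d16_1 D33190 F52411 (iv5 D33184) (iv4 D16010) (iv5 D7489) D7488 D16006 (iv7 F42102) F42101
theorem F52416 : act 0 n33190 = n17393 := d18_2 (iv1 F52405) D33190 (iv4 D17393) (iv5 D8147) F5696 D3674 D8163 F28376 (iv5 F52404)
def n33191 : Q := act 6 n16018
theorem D33191 : act 6 n16018 = n33191 := rfl
theorem F52417 : act 3 n33191 = n33053 := d7_1 D33191 (iv6 D33053) (iv3 F25508)
def n33192 : Q := act 5 n16019
theorem D33192 : act 5 n16019 = n33192 := rfl
theorem F52418 : act 3 n33192 = n33054 := d6_1 D33192 (iv5 D33054) (iv3 F25509)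
def n33193 : Q := act 3 n16020
theorem D33193 : act 3 n16020 = n33193 := rfl
def n33194 : Q := act 5 n16020
theorem D33194 : act 5 n16020 = n33194 := rfl
def n33195 : Q := act 6 n16020
theorem D33195 : act 6 n16020 = n33195 := rfl
theorem F52419 : act 4 n33195 = n16021 := d10_1 D33195 (iv6 D16021) D16020
def n33196 : Q := act 0 n16021
theorem D33196 : act 0 n16021 = n33196 := rfl
def n33197 : Q := act 1 n16021
theorem D33197 : act 1 n16021 = n33197 := rfl
def n33198 : Q := act 5 n16021
theorem D33198 : act 5 n16021 = n33198 := rfl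
theorem F52420 : act 6 n33198 = n16024 := d12_2 D16021 D33198 (iv5 D16024) (iv6 D7495) D7494
def n33199 : Q := act 7 n16021
theorem D33199 : act 7 n16021 = n33199 := rfl
def n33200 : Q := act 4 n16024
theorem D33200 : act 4 n16024 = n33200 := rfl
def n33201 : Q := act 4 n16026
theorem D33201 : act 4 n16026 = n33201 := rfl
theorem F52421 : act 2 n33201 = n16044 := d1_1 D33201 (iv4 D16044) (iv2 F25511)
def n33202 : Q := act 6 n16026
theorem D33202 : act 6 n16026 = n33202 := rfl
theorem F52422 : act 2 n33202 = n16045 := d3_1 D33202 (iv6 D16045) (iv2 F25511)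
def n33203 : Q := act 1 n16027
theorem D33203 : act 1 n16027 = n33203 := rfl
theorem F52423 : act 1 n33203 = n16049 := d15_1 D33203 (iv7 D16049) (iv2 F25512)
theorem F52424 : act 7 n33203 = n16046 := d15_2 (iv0 F42410) D33203 (iv2 F50253)
theorem F52425 : act 2 n16047 = n33203 := d4_3 F52424 (iv2 F50253) (iv7 F50252)
def n33204 : Q := act 5 n16027
theorem D33204 : act 5 n16027 = n33204 := rfl
theorem F52426 : act 2 n33204 = n16048 := d2_1 D33204 (iv5 D16048) (iv2 F25512)
def n33205 : Q := act 3 n16028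
theorem D33205 : act 3 n16028 = n33205 := rfl
theorem F52427 : act 2 n33205 = n17616 := d0_1 D33205 (iv3 D17616) F13115 (iv3 F11749) (iv2 F25514)
def n33206 : Q := act 5 n16028
theorem D33206 : act 5 n16028 = n33206 := rfl
theorem F52428 : act 2 n33206 = n16062 := d2_1 D33206 (iv5 D16062) (iv2 F25514)
theorem F52429 : act 7 n33206 = n18158 := d13_2 F42114 D33206 (iv5 F51499)
theorem F52430 : act 0 n33206 = n16740 := d17_2 (iv1 F42134) D33206 F42618 (iv4 F42616) F41917 F37288 (iv5 F51501) F51851 F51847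
theorem F52431 : act 1 n33206 = n18159 := d17_6 (iv1 F26949) (iv5 D12584) (iv1 F9290) D7497 D16028 D33206 (iv5 F42622) (iv0 D26610) (iv4 D12719)
def n33207 : Q := act 6 n16028
theorem D33207 : act 6 n16028 = n33207 := rfl
theorem F52432 : act 2 n33207 = n16063 := d3_1 D33207 (iv6 D16063) (iv2 F25514)
theorem F52433 : act 4 n33207 = n16029 := d10_1 D33207 (iv6 D16029) D16028
def n33208 : Q := act 0 n16029
theorem D33208 : act 0 n16029 = n33208 := rfl
def n33209 : Q := act 1 n16029
theorem D33209 : act 1 n16029 = n33209 := rfl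
theorem F52434 : act 1 n33209 = n16067 := d15_1 D33209 (iv7 D16067) (iv2 F25515)
def n33210 : Q := act 5 n16029
theorem D33210 : act 5 n16029 = n33210 := rfl
theorem F52435 : act 2 n33210 = n16066 := d2_1 D33210 (iv5 D16066) (iv2 F25515)
theorem F52436 : act 6 n33210 = n16032 := d12_2 D16029 D33210 (iv5 D16032) (iv6 D7498) D7497
def n33211 : Q := act 7 n16029
theorem D33211 : act 7 n16029 = n33211 := rfl
theorem F52437 : act 2 n33211 = n16067 := d4_1 D33211 (iv7 D16067) (iv2 F25515)
theorem F52438 : act 1 n16067 = n33208 := d15_0 (iv0 D33208) D33211 F52437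
theorem F52439 : act 1 n16065 = n33211 := d15_1 D16065 (iv7 D33211) F25515
theorem F52440 : act 1 n33211 = n16064 := d15_0 (iv0 D16064) D16067 (iv2 F52437)
def n33212 : Q := act 0 n16032
theorem D33212 : act 0 n16032 = n33212 := rfl
theorem F52441 : act 1 n16081 = n33212 := d15_0 (iv0 D33212) (iv7 F42599) F42598
def n33213 : Q := act 1 n16032
theorem D33213 : act 1 n16032 = n33213 := rfl
theorem F52442 : act 1 n33213 = n16081 := d15_1 D33213 (iv7 D16081) (iv2 F25517)
theorem F52443 : act 5 n26289 = n33213 := d21_0 (iv1 D33213) (iv5 D16032) (iv6 D7498) (iv1 F9294) (iv6 F26957) D26141 (iv1 F41432) F20702 D23832 F41859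
theorem F52444 : act 3 n33213 = n16426 := d6_1 F52443 F25904 (iv3 F41858)
def n33214 : Q := act 4 n16032
theorem D33214 : act 4 n16032 = n33214 := rfl
theorem F52445 : act 2 n33214 = n16080 := d1_1 D33214 (iv4 D16080) (iv2 F25517)
def n33215 : Q := act 5 n16035
theorem D33215 : act 5 n16035 = n33215 := rfl
theorem F52446 : act 3 n33215 = n16037 := d6_1 D33215 (iv5 D16037) D16035
def n33216 : Q := act 5 n16036
theorem D33216 : act 5 n16036 = n33216 := rfl
theorem F52447 : act 2 n33216 = n26307 := d2_1 D33216 F41917 F25554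
theorem F52448 : act 3 n33216 = n28513 := d6_1 D33216 (iv5 D28513) (iv3 F25525)
theorem F52449 : act 7 n33216 = n32471 := d13_2 F25527 D33216 F51560
theorem F52450 : act 1 n33216 = n23905 := d17_6 (iv1 D8145) D8147 (iv1 F40401) (iv5 D16037) D16036 D33216 F37315 F40395 F12914
theorem F52451 : act 4 n33216 = n16355 := d18_5 (iv1 D3421) D3423 D7499 D16036 D33216 (iv0 D16355) (iv4 D7598) F27120 (iv5 D7494)
theorem F52452 : act 1 n32434 = n33216 := d15_0 F52450 (iv7 F42918) (iv2 F51489)
theorem F52453 : act 5 n26608 = n18284 := d17_1 (iv1 F42610) (iv1 D18284) D18286 (iv4 F29483) (iv5 D15334) D15332 D32434 F52452 F52451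
theorem F52454 : act 2 n18284 = n26612 := d2_1 F52453 (iv5 D26612) (iv2 F42607)
def n33217 : Q := act 4 n16037
theorem D33217 : act 4 n16037 = n33217 := rfl
theorem F52455 : act 5 n33217 = n18134 := d16_1 D33217 F29303 (iv5 F25861) (iv4 F25860) F24948 F11745 D16040 (iv7 F40408) (iv2 F40410)
theorem F52456 : act 3 n33217 = n18135 := d19_3 D7499 D16037 D33217 F29304 (iv5 D17248) (iv4 D8091) (iv3 D3648) (iv1 F2782) (iv5 D872) (iv4 D547) (iv3 F996) F1080 (iv5 D411) (iv4 F693) (iv3 F1349) D1184 (iv5 F2420) D2879 (iv3 F5412)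
def n33218 : Q := act 6 n16037
theorem D33218 : act 6 n16037 = n33218 := rfl
def n33219 : Q := act 5 n16039
theorem D33219 : act 5 n16039 = n33219 := rfl
theorem F52457 : act 3 n33219 = n16040 := d6_1 D33219 (iv5 D16040) D16039
def n33220 : Q := act 4 n16040
theorem D33220 : act 4 n16040 = n33220 := rfl
def n33221 : Q := act 6 n16040
theorem D33221 : act 6 n16040 = n33221 := rfl
def n33222 : Q := act 5 n16041
theorem D33222 : act 5 n16041 = n33222 := rfl
def n33223 : Q := act 3 n16042
theorem D33223 : act 3 n16042 = n33223 := rfl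
theorem F52458 : act 5 n33223 = n25544 := d6_2 (iv5 F28356) D33223 (iv3 D25544)
def n33224 : Q := act 4 n16042
theorem D33224 : act 4 n16042 = n33224 := rfl
def n33225 : Q := act 6 n16042
theorem D33225 : act 6 n16042 = n33225 := rfl
def n33226 : Q := act 3 n16043
theorem D33226 : act 3 n16043 = n33226 := rfl
theorem F52459 : act 5 n33226 = n25546 := d6_2 (iv5 F26864) D33226 (iv3 D25546)
def n33227 : Q := act 4 n16043
theorem D33227 : act 4 n16043 = n33227 := rfl
def n33228 : Q := act 6 n16043
theorem D33228 : act 6 n16043 = n33228 := rfl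
def n33229 : Q := act 0 n16044
theorem D33229 : act 0 n16044 = n33229 := rfl
theorem F52460 : act 4 n33229 = n26850 := d18_3 (iv1 D16043) D16044 D33229 (iv5 D26850) (iv4 D12839) (iv0 D6070) (iv4 F8868) D12143 (iv5 F26864)
def n33230 : Q := act 1 n16044
theorem D33230 : act 1 n16044 = n33230 := rfl
theorem F52461 : act 4 n33230 = n26851 := d18_7 (iv1 F25500) (iv4 D7493) (iv1 D3421) D3423 D7501 D16044 D33230 (iv0 F52402) (iv5 D33177)
def n33231 : Q := act 3 n16044
theorem D33231 : act 3 n16044 = n33231 := rfl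
theorem F52462 : act 4 n33231 = n23766 := d5_2 D16044 D33231 F37039 F18070 (iv3 F11746)
theorem F52463 : act 7 n33231 = n25644 := d8_2 F40491 D33231 F40542
def n33232 : Q := act 5 n16044
theorem D33232 : act 5 n16044 = n33232 := rfl
theorem F52464 : act 4 n33232 = n18158 := d16_2 D16044 D33232 (iv5 F51499) (iv4 D26383) (iv5 D12591) (iv4 F20164) D25587 F40488 F25511
theorem F52465 : act 0 n28536 = n33232 := d19_0 (iv5 D33232) (iv4 D16044) F11746 (iv1 F20073) (iv5 D12138) F8859 F4134 (iv1 D2580) (iv5 D1209) F1378 (iv3 D544) (iv1 F999) D439 D759 D1311 D2884 D6478 D13609 D28536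
def n33233 : Q := act 6 n16044
theorem D33233 : act 6 n16044 = n33233 := rfl
theorem F52466 : act 4 n33233 = n16045 := d10_1 D33233 (iv6 D16045) D16044
def n33234 : Q := act 0 n16045
theorem D33234 : act 0 n16045 = n33234 := rfl
def n33235 : Q := act 1 n16045
theorem D33235 : act 1 n16045 = n33235 := rfl
def n33236 : Q := act 5 n16045
theorem D33236 : act 5 n16045 = n33236 := rfl
theorem F52467 : act 3 n33236 = n28491 := d6_1 D33236 (iv5 D28491) (iv3 F25580)
theorem F52468 : act 6 n33236 = n16048 := d12_2 D16045 D33236 (iv5 D16048) (iv6 D7502) D7501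
def n33237 : Q := act 7 n16045
theorem D33237 : act 7 n16045 = n33237 := rfl
theorem F52469 : act 3 n33237 = n28492 := d8_1 D33237 (iv7 D28492) (iv3 F25580)
def n33238 : Q := act 4 n16046
theorem D33238 : act 4 n16046 = n33238 := rfl
theorem F52470 : act 2 n33238 = n26327 := d1_1 D33238 (iv4 F42409) F50253
theorem F52471 : act 6 n33238 = n25667 := d10_2 (iv6 F50254) D33238 F40574
theorem F52472 : act 3 n32741 = n33238 := d7_3 F52471 F40576 D32741
theorem F52473 : act 0 n33238 = n28661 := d20_4 (iv4 F21085) F42432 (iv4 F51827) F52472 (iv3 D28661) F42093 F50832 (iv4 F50839) (iv3 F50795) (iv1 D12681)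
def n33239 : Q := act 5 n16046
theorem D33239 : act 5 n16046 = n33239 := rfl
def n33240 : Q := act 4 n16047
theorem D33240 : act 4 n16047 = n33240 := rfl
theorem F52474 : act 3 n33240 = n26125 := d5_1 D33240 (iv4 F50244) F50243 (iv4 F50248) F50250
theorem F52475 : act 6 n33240 = n26123 := d10_2 (iv6 F50251) D33240 (iv4 F41561)
theorem F52476 : act 7 n33240 = n26327 := d11_2 (iv7 F50252) D33240 (iv4 F42409)
theorem F52477 : act 0 n28661 = n33240 := d20_10 (iv4 D33240) (iv1 D16047) F11748 F5414 (iv1 F11597) D7447 (iv4 F20934) D26349 (iv4 F42093) D28661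
theorem F52478 : act 0 n33240 = n23888 := d20_4 F51150 F51003 F50244 (iv3 F52474) F37295 (iv4 F37299) F51154 F25376 (iv3 F25369) (iv1 F51153)
theorem F52479 : act 1 n33238 = n23888 := d15_0 (iv0 F52478) F52476 (iv2 F52470)
def n33241 : Q := act 5 n16047
theorem D33241 : act 5 n16047 = n33241 := rfl
def n33242 : Q := act 0 n16048
theorem D33242 : act 0 n16048 = n33242 := rfl
def n33243 : Q := act 1 n16048
theorem D33243 : act 1 n16048 = n33243 := rfl
def n33244 : Q := act 4 n16048
theorem D33244 : act 4 n16048 = n33244 := rfl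
def n33245 : Q := act 7 n16048
theorem D33245 : act 7 n16048 = n33245 := rfl
theorem F52480 : act 3 n33245 = n28499 := d8_1 D33245 (iv7 D28499) (iv3 F25581)
theorem F52481 : act 5 n33245 = n16049 := d13_1 D33245 (iv7 D16049) D16048
def n33246 : Q := act 0 n16052
theorem D33246 : act 0 n16052 = n33246 := rfl
theorem F52482 : act 4 n33246 = n32420 := d18_3 D7503 D16052 D33246 F51478 F27640 (iv0 D16003) (iv4 D7488) (iv0 D3420) D3424
theorem F52483 : act 1 n16057 = n33246 := d15_0 (iv0 D33246) (iv7 F28379) F28378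
def n33247 : Q := act 1 n16052
theorem D33247 : act 1 n16052 = n33247 := rfl
theorem F52484 : act 1 n33247 = n16057 := d15_1 D33247 (iv7 F28385) F28384
theorem F52485 : act 4 n33247 = n32438 := d18_7 (iv1 F28340) F43260 (iv1 D26849) (iv4 D12839) F26854 D16052 D33247 F51851 F51848
def n33248 : Q := act 6 n16052
theorem D33248 : act 6 n16052 = n33248 := rfl
theorem F52486 : act 4 n33248 = n16054 := d10_1 D33248 (iv6 D16054) D16052
def n33249 : Q := act 0 n16054
theorem D33249 : act 0 n16054 = n33249 := rfl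
def n33250 : Q := act 1 n16054
theorem D33250 : act 1 n16054 = n33250 := rfl
def n33251 : Q := act 7 n16054
theorem D33251 : act 7 n16054 = n33251 := rfl
theorem F52487 : act 3 n33251 = n32740 := d8_1 D33251 (iv7 D32740) F26874
def n33252 : Q := act 6 n16056
theorem D33252 : act 6 n16056 = n33252 := rfl
theorem F52488 : act 2 n33252 = n32722 := d3_1 D33252 (iv6 D32722) (iv2 F26860)
theorem F52489 : act 3 n33252 = n16059 := d7_1 D33252 (iv6 D16059) D16056
def n33253 : Q := act 3 n16057
theorem D33253 : act 3 n16057 = n33253 := rfl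
def n33254 : Q := act 5 n16057
theorem D33254 : act 5 n16057 = n33254 := rfl
theorem F52490 : act 2 n33254 = n18366 := d2_1 D33254 F29544 F28378
def n33255 : Q := act 6 n16057
theorem D33255 : act 6 n16057 = n33255 := rfl
theorem F52491 : act 4 n33255 = n16059 := d10_1 D33255 (iv6 D16059) D16057
def n33256 : Q := act 0 n16059
theorem D33256 : act 0 n16059 = n33256 := rfl
def n33257 : Q := act 1 n16059
theorem D33257 : act 1 n16059 = n33257 := rfl
def n33258 : Q := act 5 n16059
theorem D33258 : act 5 n16059 = n33258 := rfl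
theorem F52492 : act 2 n33258 = n29643 := d2_1 D33258 F47625 F28380
theorem F52493 : act 6 n33258 = n26853 := d12_2 D16059 D33258 (iv5 D26853) (iv6 D12846) F26863
def n33259 : Q := act 7 n16059
theorem D33259 : act 7 n16059 = n33259 := rfl
def n33260 : Q := act 3 n16060
theorem D33260 : act 3 n16060 = n33260 := rfl
theorem F52494 : act 4 n33260 = n18201 := d5_2 F51495 D33260 (iv3 F51523) F46081 (iv3 F51493)
def n33261 : Q := act 6 n16060
theorem D33261 : act 6 n16060 = n33261 := rfl
def n33262 : Q := act 6 n16061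
theorem D33262 : act 6 n16061 = n33262 := rfl
theorem F52495 : act 4 n33262 = n32755 := d10_1 D33262 (iv6 D32755) F25586
def n33263 : Q := act 0 n16062
theorem D33263 : act 0 n16062 = n33263 := rfl
theorem F52496 : act 5 n33263 = n16355 := d17_3 (iv1 D16061) D16062 D33263 (iv4 F52451) (iv5 D33216) (iv0 F37229) D23887 F51497 F25586
theorem F52497 : act 2 n16740 = n33263 := d15_3 (iv0 D33263) (iv0 F25588) (iv7 F27479)
theorem F52498 : act 1 n18158 = n33263 := d15_0 (iv0 D33263) (iv7 F42137) (iv2 F51500)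
theorem F52499 : act 7 n33263 = n18159 := d15_2 D18158 F52498 (iv2 D18159)
theorem F52500 : act 3 n33263 = n18202 := d0_2 D16740 F52497 (iv2 D18202) (iv3 D8586) (iv2 F12366)
def n33264 : Q := act 4 n16062
theorem D33264 : act 4 n16062 = n33264 := rfl
theorem F52501 : act 0 n33264 = n28536 := d18_2 F25588 D33264 F52411 (iv5 D33184) (iv4 D16010) F27123 D7598 D16356 F25861
def n33265 : Q := act 6 n16062
theorem D33265 : act 6 n16062 = n33265 := rfl
def n33266 : Q := act 0 n16063
theorem D33266 : act 0 n16063 = n33266 := rfl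
def n33267 : Q := act 1 n16063
theorem D33267 : act 1 n16063 = n33267 := rfl
def n33268 : Q := act 5 n16063
theorem D33268 : act 5 n16063 = n33268 := rfl
theorem F52503 : act 3 n33268 = n17650 := d6_1 D33268 (iv5 D17650) (iv3 F25589)
def n33269 : Q := act 7 n16063
theorem D33269 : act 7 n16063 = n33269 := rfl
theorem F52504 : act 3 n33269 = n17651 := d8_1 D33269 (iv7 D17651) (iv3 F25589)
theorem F52505 : act 4 n33269 = n16067 := d11_1 D33269 (iv7 D16067) (iv4 F25590)
def n33270 : Q := act 2 n16064
theorem D33270 : act 2 n16064 = n33270 := rfl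
theorem F52506 : act 7 n16065 = n33270 := d15_2 (iv0 D16064) D16065 (iv2 D33270)
def n33271 : Q := act 3 n16064
theorem D33271 : act 3 n16064 = n33271 := rfl
def n33272 : Q := act 4 n16064
theorem D33272 : act 4 n16064 = n33272 := rfl
def n33273 : Q := act 5 n16064
theorem D33273 : act 5 n16064 = n33273 := rfl
def n33274 : Q := act 6 n16064
theorem D33274 : act 6 n16064 = n33274 := rfl
def n33275 : Q := act 7 n16064
theorem D33275 : act 7 n16064 = n33275 := rfl
theorem F52507 : act 2 n33275 = n16065 := d4_1 D33275 F52506 (iv2 D33270)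
def n33276 : Q := act 3 n16065
theorem D33276 : act 3 n16065 = n33276 := rfl
def n33277 : Q := act 4 n16065
theorem D33277 : act 4 n16065 = n33277 := rfl
def n33278 : Q := act 5 n16065
theorem D33278 : act 5 n16065 = n33278 := rfl
def n33279 : Q := act 6 n16065
theorem D33279 : act 6 n16065 = n33279 := rfl
def n33280 : Q := act 0 n16066
theorem D33280 : act 0 n16066 = n33280 := rfl
def n33281 : Q := act 1 n16066
theorem D33281 : act 1 n16066 = n33281 := rfl
def n33282 : Q := act 4 n16066
theorem D33282 : act 4 n16066 = n33282 := rfl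
theorem F52508 : act 6 n33282 = n16080 := d10_2 (iv6 F25592) D33282 (iv4 D16080)
def n33283 : Q := act 7 n16066
theorem D33283 : act 7 n16066 = n33283 := rfl
theorem F52509 : act 3 n33283 = n16095 := d8_1 D33283 (iv7 D16095) (iv3 F25591)
theorem F52510 : act 5 n33283 = n16067 := d13_1 D33283 (iv7 D16067) D16066
def n33284 : Q := act 3 n16075
theorem D33284 : act 3 n16075 = n33284 := rfl
theorem F52511 : act 2 n33284 = n26446 := d0_1 D33284 (iv3 F42293) F27622 (iv3 F40354) F40353
theorem F52512 : act 6 n33284 = n31951 := d7_2 (iv6 F40340) D33284 F50292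
theorem F52513 : act 7 n33284 = n26445 := d8_2 F40559 D33284 F42288
theorem F52514 : act 0 n26448 = n33284 := d20_4 F22742 F18258 (iv4 F27328) (iv3 F42297) (iv3 D33284) (iv4 D16075) (iv1 D7508) (iv4 F11748) F11747 D13581
theorem F52515 : act 1 n26434 = n33284 := d15_0 (iv0 F52514) (iv7 D26448) (iv2 F42247)
def n33285 : Q := act 5 n16075
theorem D33285 : act 5 n16075 = n33285 := rfl
def n33286 : Q := act 4 n16076
theorem D33286 : act 4 n16076 = n33286 := rfl
def n33287 : Q := act 6 n16076
theorem D33287 : act 6 n16076 = n33287 := rfl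
def n33288 : Q := act 2 n16078
theorem D33288 : act 2 n16078 = n33288 := rfl
theorem F52516 : act 7 n16079 = n33288 := d15_2 (iv0 D16078) D16079 (iv2 D33288)
def n33289 : Q := act 3 n16078
theorem D33289 : act 3 n16078 = n33289 := rfl
def n33290 : Q := act 4 n16078
theorem D33290 : act 4 n16078 = n33290 := rfl
def n33291 : Q := act 5 n16078
theorem D33291 : act 5 n16078 = n33291 := rfl
theorem F52517 : act 0 n16605 = n33291 := d21_10 (iv5 D33291) (iv1 F42601) (iv5 D26604) (iv6 F42130) (iv1 F42131) (iv6 F42123) D29675 (iv1 F47699) (iv5 D16604) D16605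
theorem F52518 : act 3 n33291 = n16458 := d20_5 F12686 F8170 (iv4 F12016) (iv3 F27092) F52517 (iv4 D16458) (iv1 F11846) D7639 (iv3 F26626) F12688
theorem F52519 : act 1 n32367 = n33291 := d15_0 (iv0 F52517) (iv7 F37161) (iv2 F51398)
theorem F52520 : act 6 n26064 = n33291 := d21_3 D12682 (iv1 F51648) F42356 (iv1 F52519) (iv6 D32367) (iv5 F41615) (iv1 F41618) (iv5 D15103) (iv6 F26981) (iv1 D12681)
theorem F52521 : act 7 n33291 = n26289 := d14_2 (iv7 F41219) F52520 (iv6 D26289) F20809 (iv6 F24542)
theorem F52522 : act 0 n26399 = n26717 := d21_1 D26399 (iv5 D26717) D26718 F42831 F52520 (iv5 D33291) (iv1 F42601) (iv5 D26604) (iv6 F42130) (iv1 F42131)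
theorem F52523 : act 7 n33213 = n16078 := d13_2 F52521 F52443 D33291
theorem F52524 : act 2 n16079 = n33213 := d4_3 F52523 D33288 (iv7 F52516)
theorem E5489 : n33289 = n26680 := (c8_2 F52523 D33289 F42751 (iv3 F52444))
theorem F52525 : act 3 n26680 = n16078 := (sb E5489 (iv3 D33289))
theorem E5490 : n33288 = n33212 := (c15_4 (iv0 D33212) D33213 F52523 D33288)
theorem F52526 : act 2 n33212 = n16078 := (sb E5490 (iv2 D33288))
theorem F52527 : act 7 n33212 = n16079 := (sb E5490 (iv7 F52516))
def n33292 : Q := act 6 n16078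
theorem D33292 : act 6 n16078 = n33292 := rfl
def n33293 : Q := act 3 n16079
theorem D33293 : act 3 n16079 = n33293 := rfl
theorem F52528 : act 2 n33293 = n32648 := d0_1 D33293 F51711 F25906 (iv3 F52444) (iv2 F52524)
theorem F52529 : act 5 n32641 = n33293 := d2_0 F52528 (iv5 D32648) (iv2 F51701)
def n33294 : Q := act 4 n16079
theorem D33294 : act 4 n16079 = n33294 := rfl
def n33295 : Q := act 5 n16079
theorem D33295 : act 5 n16079 = n33295 := rfl
theorem F52530 : act 2 n33295 = n26289 := d2_1 D33295 F52443 (iv2 F52524)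
theorem F52531 : act 3 n33295 = n32641 := d6_1 D33295 F52529 (iv3 D33293)
theorem F52532 : act 6 n33295 = n26287 := d21_3 D26604 (iv1 F42600) D33295 (iv1 F41855) F26622 F25987 (iv1 D3912) (iv5 F4032) D6018 D12713
theorem F52533 : act 0 n32367 = n33295 := d21_10 (iv5 D33295) (iv1 D16079) (iv5 D7509) (iv6 D3425) D3420 F26974 D15098 (iv1 F41617) F41615 D32367
theorem F52534 : act 1 n16605 = n33295 := d15_0 (iv0 F52533) F51400 F46704
def n33296 : Q := act 6 n16079
theorem D33296 : act 6 n16079 = n33296 := rfl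
def n33297 : Q := act 0 n16080
theorem D33297 : act 0 n16080 = n33297 := rfl
def n33298 : Q := act 1 n16080
theorem D33298 : act 1 n16080 = n33298 := rfl
def n33299 : Q := act 3 n16080
theorem D33299 : act 3 n16080 = n33299 := rfl
theorem F52535 : act 4 n33299 = n16102 := d5_2 D16080 D33299 (iv3 D16102) (iv4 D7517) (iv3 F11751)
def n33300 : Q := act 5 n16080
theorem D33300 : act 5 n16080 = n33300 := rfl
def n33301 : Q := act 7 n16080
theorem D33301 : act 7 n16080 = n33301 := rfl
theorem F52536 : act 4 n33301 = n16081 := d11_1 D33301 (iv7 D16081) D16080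
def n33302 : Q := act 6 n16081
theorem D33302 : act 6 n16081 = n33302 := rfl
theorem F52537 : act 3 n33302 = n16105 := d7_1 D33302 (iv6 D16105) (iv3 F25596)
def n33303 : Q := act 0 n16083
theorem D33303 : act 0 n16083 = n33303 := rfl
def n33304 : Q := act 1 n16083
theorem D33304 : act 1 n16083 = n33304 := rfl
def n33305 : Q := act 2 n16083
theorem D33305 : act 2 n16083 = n33305 := rfl
def n33306 : Q := act 4 n16083
theorem D33306 : act 4 n16083 = n33306 := rfl
theorem F52538 : act 3 n33306 = n17958 := d5_1 D33306 (iv4 D17958) (iv3 D8467) F29132 D16083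
def n33307 : Q := act 5 n16083
theorem D33307 : act 5 n16083 = n33307 := rfl
theorem F52539 : act 3 n33307 = n16085 := d6_1 D33307 (iv5 D16085) D16083
def n33308 : Q := act 6 n16083
theorem D33308 : act 6 n16083 = n33308 := rfl
theorem F52540 : act 3 n33308 = n16086 := d7_1 D33308 (iv6 D16086) D16083
def n33309 : Q := act 1 n16085
theorem D33309 : act 1 n16085 = n33309 := rfl
theorem F52541 : act 1 n33309 = n16090 := d15_1 D33309 (iv7 F42322) F42321
theorem F52542 : act 7 n33309 = n27810 := d15_2 F29963 D33309 F44914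
theorem F52543 : act 5 n33309 = n27811 := d17_7 F13689 F13671 (iv1 F13716) (iv5 D8469) F29132 D16085 D33309 F44921 F30363
def n33310 : Q := act 4 n16085
theorem D33310 : act 4 n16085 = n33310 := rfl
theorem F52544 : act 5 n33310 = n32909 := d16_1 D33310 F52097 F30352 (iv4 D17980) (iv5 D8474) F29135 D16090 (iv7 F42322) F42321
def n33311 : Q := act 6 n16085
theorem D33311 : act 6 n16085 = n33311 := rfl
def n33312 : Q := act 0 n16086
theorem D33312 : act 0 n16086 = n33312 := rfl
def n33313 : Q := act 1 n16086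
theorem D33313 : act 1 n16086 = n33313 := rfl
theorem F52545 : act 4 n33313 = n17720 := d17_9 (iv1 D17720) F13153 (iv1 D8253) (iv5 D3712) (iv4 F5430) D7593 D16340 (iv5 F25852) D33313
theorem F52546 : act 6 n18704 = n33313 := d21_3 D3917 D8771 D18704 (iv1 D33313) (iv6 D16086) D16085 (iv1 F29963) (iv5 D18699) (iv6 D8770) (iv1 D3916)
theorem F52547 : act 7 n33313 = n16676 := d14_2 F51307 F52546 (iv6 D16676) (iv7 F51290) D26738
theorem E5491 : n33312 = n26742 := ((c15_4 (iv0 D33312) D33313 F52547 (iv2 F51284))).symm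
theorem F52548 : act 1 n26742 = n16086 := (sb E5491 (iv0 D33312))
def n33314 : Q := act 7 n16086
theorem D33314 : act 7 n16086 = n33314 := rfl
theorem F52549 : act 4 n33314 = n17972 := d11_1 D33314 (iv7 D17972) (iv4 F29133)
theorem F52550 : act 5 n33314 = n26625 := d13_1 D33314 F42664 (iv5 F25852)
theorem F52551 : act 0 n16676 = n33314 := d17_0 F52550 (iv1 F42662) F25854 F11830 (iv5 F13025) F21582 (iv5 F28830) F30429 F28976
def n33315 : Q := act 0 n16088
theorem D33315 : act 0 n16088 = n33315 := rfl
def n33316 : Q := act 1 n16088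
theorem D33316 : act 1 n16088 = n33316 := rfl
def n33317 : Q := act 2 n16088
theorem D33317 : act 2 n16088 = n33317 := rfl
def n33318 : Q := act 4 n16088
theorem D33318 : act 4 n16088 = n33318 := rfl
theorem F52552 : act 3 n33318 = n17977 := d5_1 D33318 (iv4 D17977) (iv3 D8472) F29135 D16088
def n33319 : Q := act 5 n16088
theorem D33319 : act 5 n16088 = n33319 := rfl
theorem F52553 : act 3 n33319 = n16090 := d6_1 D33319 (iv5 D16090) D16088
def n33320 : Q := act 6 n16088
theorem D33320 : act 6 n16088 = n33320 := rfl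
theorem F52554 : act 3 n33320 = n16091 := d7_1 D33320 (iv6 D16091) D16088
def n33321 : Q := act 4 n16090
theorem D33321 : act 4 n16090 = n33321 := rfl
theorem F52555 : act 5 n33321 = n32908 := d9_2 D16090 D33321 F52096 F29130 (iv4 D17968) (iv5 D8469) F29132 D16085 D33310 F52544 F52097 F30352 (iv4 D17980) (iv5 D8474) F29135
def n33322 : Q := act 3 n16092
theorem D33322 : act 3 n16092 = n33322 := rfl
def n33323 : Q := act 6 n16092
theorem D33323 : act 6 n16092 = n33323 := rfl
def n33324 : Q := act 3 n16093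
theorem D33324 : act 3 n16093 = n33324 := rfl
def n33325 : Q := act 6 n16093
theorem D33325 : act 6 n16093 = n33325 := rfl
def n33326 : Q := act 0 n16094
theorem D33326 : act 0 n16094 = n33326 := rfl
theorem F52556 : act 4 n33326 = n26345 := d18_3 (iv1 D16093) D16094 D33326 F42014 (iv4 D17717) D17716 (iv4 F30411) F30409 (iv5 F30352)
theorem F52557 : act 2 n32903 = n33326 := d1_3 F52556 F42017 D32903
theorem F52558 : act 7 n32906 = n33326 := d11_0 F52556 (iv7 F42015) D32906
def n33327 : Q := act 1 n16094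
theorem D33327 : act 1 n16094 = n33327 := rfl
theorem F52559 : act 7 n33327 = n32903 := d15_2 (iv0 D33326) D33327 F52557
theorem F52560 : act 4 n33327 = n26346 := d18_7 (iv1 F41729) (iv4 D8339) (iv1 D3743) (iv4 F5415) D7513 D16094 D33327 F42018 F25325
theorem F52561 : act 2 n32906 = n33327 := d1_3 F52560 (iv2 F42021) D32906
def n33328 : Q := act 3 n16094
theorem D33328 : act 3 n16094 = n33328 := rfl
def n33329 : Q := act 5 n16094
theorem D33329 : act 5 n16094 = n33329 := rfl
theorem F52563 : act 4 n33329 = n26474 := d16_2 D16094 D33329 F42353 F21032 F9621 (iv4 F21032) (iv5 F42353) (iv7 D26474) F21029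
theorem F52564 : act 7 n33329 = n26473 := d16_8 (iv4 D16094) (iv5 D7513) F5415 F2820 (iv4 F5415) D7513 D16094 D33329 F42350
theorem F52565 : act 0 n33329 = n33327 := d18_0 F52560 (iv1 D26346) D26347 (iv5 F52105) F52104 F42016 (iv4 F52556) (iv0 D33326) D33329
theorem F52566 : act 1 n33329 = n33326 := d15_1 (iv0 F52565) (iv7 F52558) F52561
def n33330 : Q := act 7 n16094
theorem D33330 : act 7 n16094 = n33330 := rfl
theorem F52567 : act 2 n33330 = n33329 := d4_1 D33330 F52564 F42350
theorem F52568 : act 4 n33330 = n16095 := d11_1 D33330 (iv7 D16095) D16094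
theorem F52569 : act 5 n33330 = n26473 := d13_1 D33330 (iv7 F52564) (iv5 D33329)
theorem F52570 : act 1 n32906 = n33330 := d15_1 (iv0 F52095) (iv7 D33330) (iv2 F42350)
theorem F52571 : act 1 n33330 = n32903 := d15_1 F52570 (iv7 F52559) (iv2 F52561)
def n33331 : Q := act 6 n16095
theorem D33331 : act 6 n16095 = n33331 := rfl
theorem F52572 : act 7 n33331 = n16105 := d14_2 D16095 D33331 (iv6 D16105) (iv7 D7518) (iv6 F11753)
def n33332 : Q := act 0 n16096
theorem D33332 : act 0 n16096 = n33332 := rfl
def n33333 : Q := act 1 n16096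
theorem D33333 : act 1 n16096 = n33333 := rfl
def n33334 : Q := act 2 n16096
theorem D33334 : act 2 n16096 = n33334 := rfl
theorem F52573 : act 5 n33334 = n31691 := d2_2 (iv5 F25602) D33334 (iv2 D31691)
def n33335 : Q := act 4 n16096
theorem D33335 : act 4 n16096 = n33335 := rfl
def n33336 : Q := act 6 n16096
theorem D33336 : act 6 n16096 = n33336 := rfl
theorem F52574 : act 3 n33336 = n16097 := d7_1 D33336 (iv6 D16097) D16096
def n33337 : Q := act 0 n16097
theorem D33337 : act 0 n16097 = n33337 := rfl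
def n33338 : Q := act 1 n16097
theorem D33338 : act 1 n16097 = n33338 := rfl
def n33339 : Q := act 5 n16097
theorem D33339 : act 5 n16097 = n33339 := rfl
theorem F52575 : act 6 n33339 = n16427 := d12_2 D16097 D33339 F25909 (iv6 D14901) (iv5 F11755)
theorem F52576 : act 0 n33339 = n18696 := d21_4 (iv5 F23106) F24545 (iv5 F25909) (iv6 F52575) (iv6 D18696) (iv5 D8769) (iv1 D3916) D3917 (iv6 F9366) D12749
def n33340 : Q := act 7 n16097
theorem D33340 : act 7 n16097 = n33340 := rfl
def n33341 : Q := act 4 n16098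
theorem D33341 : act 4 n16098 = n33341 := rfl
def n33342 : Q := act 6 n16098
theorem D33342 : act 6 n16098 = n33342 := rfl
theorem F52577 : act 3 n33342 = n16099 := d7_1 D33342 (iv6 D16099) D16098
theorem F52578 : act 5 n33342 = n32625 := d12_1 D33342 (iv6 D32625) (iv5 D15447) (iv6 F24542) (iv5 F25603)
def n33343 : Q := act 0 n16099
theorem D33343 : act 0 n16099 = n33343 := rfl
def n33344 : Q := act 1 n16099
theorem D33344 : act 1 n16099 = n33344 := rfl
def n33345 : Q := act 7 n16099
theorem D33345 : act 7 n16099 = n33345 := rfl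
theorem F52579 : act 5 n33345 = n32633 := d13_1 D33345 (iv7 D32633) (iv5 F25604)
def n33346 : Q := act 3 n16100
theorem D33346 : act 3 n16100 = n33346 := rfl
def n33347 : Q := act 6 n16100
theorem D33347 : act 6 n16100 = n33347 := rfl
theorem F52581 : act 2 n33347 = n32943 := d3_1 D33347 (iv6 D32943) F25606
theorem F52582 : act 4 n33347 = n26362 := d10_1 D33347 (iv6 D26362) (iv4 F25605)
def n33349 : Q := act 6 n16101
theorem D33349 : act 6 n16101 = n33349 := rfl
theorem F52584 : act 2 n33349 = n32953 := d3_1 D33349 (iv6 D32953) F25610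
theorem F52585 : act 4 n33349 = n26364 := d10_1 D33349 (iv6 D26364) (iv4 F25609)
def n33353 : Q := act 5 n16102
theorem D33353 : act 5 n16102 = n33353 := rfl
theorem F52586 : act 3 n33353 = n16103 := d6_1 D33353 (iv5 D16103) D16102
def n33354 : Q := act 7 n16102
theorem D33354 : act 7 n16102 = n33354 := rfl
theorem F52588 : act 3 n33354 = n16104 := d8_1 D33354 (iv7 D16104) D16102
def n33355 : Q := act 6 n16103
theorem D33355 : act 6 n16103 = n33355 := rfl
theorem F52590 : act 4 n33355 = n26480 := d10_1 D33355 (iv6 D26480) (iv4 F25611)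
def n33356 : Q := act 6 n16104
theorem D33356 : act 6 n16104 = n33356 := rfl
theorem F52591 : act 2 n33356 = n33355 := d3_1 D33356 (iv6 D33355) (iv2 F25615)
theorem F52592 : act 4 n33356 = n16105 := d10_1 D33356 (iv6 D16105) (iv4 F25616)
def n33357 : Q := act 0 n16105
theorem D33357 : act 0 n16105 = n33357 := rfl
theorem F52593 : act 6 n33357 = n32234 := d21_5 (iv5 D12578) F12677 (iv5 F11757) D16105 D33357 (iv5 D32234) (iv1 D15205) D15206 F24821 F22690
def n33358 : Q := act 1 n16105
theorem D33358 : act 1 n16105 = n33358 := rfl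
def n33359 : Q := act 4 n16106
theorem D33359 : act 4 n16106 = n33359 := rfl
theorem F52594 : act 2 n33359 = n16308 := d1_1 D33359 (iv4 D16308) (iv2 F25620)
def n33360 : Q := act 6 n16107
theorem D33360 : act 6 n16107 = n33360 := rfl
theorem F52595 : act 3 n33360 = n16112 := d7_1 D33360 (iv6 D16112) (iv3 F25621)
def n33361 : Q := act 0 n16108
theorem D33361 : act 0 n16108 = n33361 := rfl
def n33362 : Q := act 1 n16108
theorem D33362 : act 1 n16108 = n33362 := rfl
def n33363 : Q := act 5 n16108
theorem D33363 : act 5 n16108 = n33363 := rfl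
theorem F52596 : act 3 n33363 = n16115 := d6_1 D33363 (iv5 D16115) (iv3 F25623)
def n33364 : Q := act 7 n16108
theorem D33364 : act 7 n16108 = n33364 := rfl
theorem F52597 : act 3 n33364 = n16116 := d8_1 D33364 (iv7 D16116) (iv3 F25623)
theorem F52598 : act 6 n33364 = n16193 := d14_1 D33364 (iv7 D16193) (iv6 D7553) (iv7 F11761) D16108
def n33365 : Q := act 0 n16111
theorem D33365 : act 0 n16111 = n33365 := rfl
theorem F52599 : act 4 n33365 = n28524 := d18_3 (iv1 F25748) D16111 D33365 F46092 F28401 F26739 (iv4 D7743) F12046 (iv5 F21274)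
theorem F52600 : act 2 n16155 = n33365 := d15_3 (iv0 D33365) (iv0 F51751) F51750
theorem F52601 : act 1 n16160 = n33365 := d15_0 (iv0 D33365) F25627 (iv2 F25696)
theorem F52602 : act 7 n33365 = n16156 := d15_2 F51752 F52601 (iv2 F51749)
def n33366 : Q := act 3 n16111
theorem D33366 : act 3 n16111 = n33366 := rfl
theorem F52603 : act 7 n33366 = n16200 := d8_2 (iv7 F25627) D33366 (iv3 D16200)
def n33367 : Q := act 5 n16111
theorem D33367 : act 5 n16111 = n33367 := rfl
theorem F52604 : act 2 n33367 = n16158 := d2_1 D33367 (iv5 D16158) (iv2 F25626)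
theorem F52605 : act 7 n33367 = n16201 := d13_2 (iv7 F25627) D33367 (iv5 D16201)
def n33368 : Q := act 6 n16111
theorem D33368 : act 6 n16111 = n33368 := rfl
theorem F52606 : act 2 n33368 = n16159 := d3_1 D33368 (iv6 D16159) (iv2 F25626)
theorem F52607 : act 4 n33368 = n16112 := d10_1 D33368 (iv6 D16112) D16111
def n33369 : Q := act 0 n16112
theorem D33369 : act 0 n16112 = n33369 := rfl
def n33370 : Q := act 1 n16112
theorem D33370 : act 1 n16112 = n33370 := rfl
theorem F52608 : act 1 n33370 = n16164 := d15_1 D33370 (iv7 D16164) (iv2 F25628)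
def n33371 : Q := act 5 n16112
theorem D33371 : act 5 n16112 = n33371 := rfl
theorem F52609 : act 2 n33371 = n16163 := d2_1 D33371 (iv5 D16163) (iv2 F25628)
theorem F52610 : act 6 n33371 = n16115 := d12_2 D16112 D33371 (iv5 D16115) (iv6 D7525) D7524
def n33372 : Q := act 7 n16112
theorem D33372 : act 7 n16112 = n33372 := rfl
theorem F52611 : act 2 n33372 = n16164 := d4_1 D33372 (iv7 D16164) (iv2 F25628)
theorem F52612 : act 6 n33372 = n16206 := d14_1 D33372 (iv7 D16206) (iv6 D7557) (iv7 F11765) D16112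
theorem F52613 : act 1 n16164 = n33369 := d15_0 (iv0 D33369) D33372 F52611
theorem F52614 : act 1 n16162 = n33372 := d15_1 D16162 (iv7 D33372) F25628
theorem F52615 : act 1 n33372 = n16161 := d15_0 (iv0 D16161) D16164 (iv2 F52611)
def n33373 : Q := act 2 n16113
theorem D33373 : act 2 n16113 = n33373 := rfl
theorem F52616 : act 7 n16114 = n33373 := d15_2 (iv0 D16113) D16114 (iv2 D33373)
def n33375 : Q := act 5 n16113
theorem D33375 : act 5 n16113 = n33375 := rfl
theorem F52617 : act 0 n33375 = n29101 := d21_1 D33375 (iv5 D29101) D29102 F50811 (iv6 D16635) (iv5 F21274) (iv1 F25748) (iv5 D7524) D7525 D16113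
theorem F52618 : act 6 n32105 = n16113 := d21_5 (iv5 F50661) (iv1 F51030) F51028 F50748 (iv1 F51045) D33375 F52617 (iv5 D29101) D29102 F50811
theorem F52619 : act 0 n29105 = n33375 := d21_1 D29105 (iv5 D33375) (iv6 F52618) (iv1 D32105) (iv6 D15155) (iv5 F24762) (iv1 F50759) F50349 F41174 (iv1 F23446)
def n33378 : Q := act 5 n16114
theorem D33378 : act 5 n16114 = n33378 := rfl
def n33379 : Q := act 6 n16114
theorem D33379 : act 6 n16114 = n33379 := rfl
def n33380 : Q := act 4 n16115
theorem D33380 : act 4 n16115 = n33380 := rfl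
theorem F52621 : act 2 n33380 = n16178 := d1_1 D33380 (iv4 D16178) (iv2 F25630)
def n33381 : Q := act 6 n16117
theorem D33381 : act 6 n16117 = n33381 := rfl
theorem F52622 : act 3 n33381 = n17417 := d7_1 D33381 (iv6 D17417) (iv3 F26952)
def n33382 : Q := act 6 n16120
theorem D33382 : act 6 n16120 = n33382 := rfl
theorem F52623 : act 3 n33382 = n26322 := d7_1 D33382 (iv6 D26322) F26744
theorem F52624 : act 5 n33382 = n31541 := d12_1 D33382 (iv6 D31541) (iv5 D14856) (iv6 F20867) F26488
def n33383 : Q := act 3 n16121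
theorem D33383 : act 3 n16121 = n33383 := rfl
theorem F52625 : act 4 n33383 = n16157 := d5_2 D16121 D33383 (iv3 D16157) (iv4 D7540) (iv3 F11767)
def n33384 : Q := act 5 n16121
theorem D33384 : act 5 n16121 = n33384 := rfl
theorem F52626 : act 2 n33384 = n28638 := d2_1 D33384 F46202 F25676
theorem F52627 : act 7 n33384 = n28639 := d13_2 F25743 D33384 F46206
theorem F52628 : act 0 n33384 = n28641 := d17_2 F51437 D33384 F46211 F22813 F10560 F37248 D13593 F37256 D32384
theorem F52629 : act 1 n33384 = n27548 := d17_6 F50737 (iv5 D16117) (iv1 D7527) D7529 D16121 D33384 F44455 D28606 (iv4 F50741)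
def n33385 : Q := act 6 n16121
theorem D33385 : act 6 n16121 = n33385 := rfl
theorem F52630 : act 4 n33385 = n16122 := d10_1 D33385 (iv6 D16122) D16121
def n33386 : Q := act 0 n16122
theorem D33386 : act 0 n16122 = n33386 := rfl
def n33387 : Q := act 1 n16122
theorem D33387 : act 1 n16122 = n33387 := rfl
def n33388 : Q := act 5 n16122
theorem D33388 : act 5 n16122 = n33388 := rfl
theorem F52631 : act 3 n33388 = n16163 := d6_1 D33388 (iv5 D16163) (iv3 F25636)
theorem F52632 : act 6 n33388 = n16125 := d12_2 D16122 D33388 (iv5 D16125) (iv6 D7530) D7529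
def n33389 : Q := act 7 n16122
theorem D33389 : act 7 n16122 = n33389 := rfl
theorem F52633 : act 3 n33389 = n16164 := d8_1 D33389 (iv7 D16164) (iv3 F25636)
def n33390 : Q := act 2 n16123
theorem D33390 : act 2 n16123 = n33390 := rfl
theorem F52634 : act 7 n16124 = n33390 := d15_2 (iv0 D16123) D16124 (iv2 D33390)
def n33391 : Q := act 3 n16123
theorem D33391 : act 3 n16123 = n33391 := rfl
def n33392 : Q := act 4 n16123
theorem D33392 : act 4 n16123 = n33392 := rfl
def n33393 : Q := act 5 n16123
theorem D33393 : act 5 n16123 = n33393 := rfl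
def n33394 : Q := act 6 n16123
theorem D33394 : act 6 n16123 = n33394 := rfl
def n33395 : Q := act 7 n16123
theorem D33395 : act 7 n16123 = n33395 := rfl
theorem F52635 : act 2 n33395 = n16124 := d4_1 D33395 F52634 (iv2 D33390)
def n33398 : Q := act 5 n16124
theorem D33398 : act 5 n16124 = n33398 := rfl
def n33400 : Q := act 0 n16125
theorem D33400 : act 0 n16125 = n33400 := rfl
theorem F52636 : act 2 n16623 = n33400 := d15_3 (iv0 D33400) F50803 D16623
theorem F52637 : act 5 n33400 = n16608 := d2_2 (iv5 F27113) F52636 (iv2 F27097)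
theorem F52638 : act 7 n33400 = n16618 := d4_2 D16623 F52636 F27109
theorem F52639 : act 1 n16620 = n33400 := d15_1 D16620 F52638 F27109
def n33401 : Q := act 4 n16125
theorem D33401 : act 4 n16125 = n33401 := rfl
theorem F52640 : act 0 n33401 = n29272 := d18_2 (iv1 F50803) D33401 (iv4 D29272) F23175 F22377 D14049 (iv4 F26717) (iv0 D7724) D7727
def n33402 : Q := act 7 n16125
theorem D33402 : act 7 n16125 = n33402 := rfl
theorem F52641 : act 2 n33402 = n16620 := d4_1 D33402 F50804 F25684
theorem F52642 : act 3 n33402 = n16179 := d8_1 D33402 (iv7 D16179) (iv3 F25637)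
theorem F52643 : act 5 n33402 = n16126 := d13_1 D33402 (iv7 D16126) D16125
theorem F52644 : act 1 n16618 = n33402 := d15_1 F50972 (iv7 D33402) (iv2 F25684)
theorem F52645 : act 1 n33402 = n16623 := d15_1 F52644 (iv7 D16623) (iv2 F27109)
def n33403 : Q := act 4 n16128
theorem D33403 : act 4 n16128 = n33403 := rfl
theorem F52646 : act 2 n33403 = n28613 := d1_1 D33403 F46183 (iv2 F25646)
theorem F52647 : act 7 n33403 = n28614 := d11_2 (iv7 F25647) D33403 F46186
theorem F52648 : act 0 n33403 = n28604 := d18_2 (iv1 F27184) D33403 (iv4 D28604) F25825 D15279 (iv0 F25083) (iv4 F26487) F26486 F27165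
theorem F52649 : act 1 n33403 = n28602 := d18_6 F37245 F37244 F25656 (iv4 F11770) D16128 D33403 (iv4 D28602) (iv0 D13639) (iv5 D6487)
def n33404 : Q := act 6 n16128
theorem D33404 : act 6 n16128 = n33404 := rfl
theorem F52650 : act 2 n33404 = n33189 := d3_1 D33404 (iv6 D33189) (iv2 F25646)
theorem F52651 : act 3 n33404 = n27016 := d7_1 D33404 (iv6 D27016) F26951
theorem F52652 : act 5 n33404 = n32975 := d12_1 D33404 (iv6 D32975) (iv5 D15877) F26528 D16128
def n33405 : Q := act 5 n16130
theorem D33405 : act 5 n16130 = n33405 := rfl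
theorem F52653 : act 2 n33405 = n26260 := d2_1 D33405 F41701 (iv2 F25651)
theorem F52654 : act 3 n33405 = n28563 := d6_1 D33405 (iv5 D28563) (iv3 F25652)
theorem F52655 : act 7 n33405 = n28521 := d13_2 (iv7 F25653) D33405 (iv5 D28521)
theorem F52656 : act 0 n33405 = n23901 := d17_2 F37240 D33405 F37310 (iv4 D15284) (iv5 F25820) (iv0 D13639) (iv5 D6487) F37246 (iv4 F22789)
theorem F52657 : act 1 n33405 = n27538 := d17_6 F26485 (iv5 F25823) (iv1 F25665) (iv5 D16131) D16130 D33405 F44427 (iv0 F25083) (iv4 F26487)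
theorem F52658 : act 4 n33405 = n16241 := d18_5 (iv1 F5419) D3439 (iv1 F11771) D16130 D33405 F25801 (iv4 D7573) F9801 F9797
theorem F52659 : act 3 n16241 = n27492 := d20_3 D27538 (iv1 F52657) F52658 (iv1 D27492) (iv3 D13152) (iv4 D6260) (iv1 D2630) D2631 D6265 D13167
def n33406 : Q := act 4 n16131
theorem D33406 : act 4 n16131 = n33406 := rfl
theorem F52660 : act 2 n33406 = n28614 := d1_1 D33406 F46186 (iv2 F25662)
theorem F52661 : act 7 n33406 = n28613 := d11_2 (iv7 F25664) D33406 F46183
theorem F52662 : act 0 n33406 = n28602 := d18_2 (iv1 F25665) D33406 (iv4 D28602) F25820 D15284 F28404 F28401 F26739 (iv5 F25823)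
theorem F52663 : act 1 n33406 = n28604 := d18_6 F37247 (iv4 F22789) F37240 (iv4 D16130) D16131 D33406 (iv4 D28604) F22804 F10560
def n33407 : Q := act 6 n16131
theorem D33407 : act 6 n16131 = n33407 := rfl
theorem F52664 : act 2 n33407 = n33381 := d3_1 D33407 (iv6 D33381) (iv2 F25662)
theorem F52665 : act 3 n33407 = n26382 := d7_1 D33407 (iv6 D26382) (iv3 F25663)
def n33408 : Q := act 6 n16133
theorem D33408 : act 6 n16133 = n33408 := rfl
theorem F52666 : act 2 n33408 = n33360 := d3_1 D33408 (iv6 D33360) (iv2 F25668)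
theorem F52667 : act 3 n33408 = n16138 := d7_1 D33408 (iv6 D16138) (iv3 F25669)
def n33409 : Q := act 0 n16134
theorem D33409 : act 0 n16134 = n33409 := rfl
def n33410 : Q := act 1 n16134
theorem D33410 : act 1 n16134 = n33410 := rfl
theorem F52668 : act 1 n33410 = n33364 := d15_1 D33410 (iv7 D33364) (iv2 F25672)
def n33411 : Q := act 5 n16134
theorem D33411 : act 5 n16134 = n33411 := rfl
theorem F52669 : act 2 n33411 = n33363 := d2_1 D33411 (iv5 D33363) (iv2 F25672)
theorem F52670 : act 3 n33411 = n16142 := d6_1 D33411 (iv5 D16142) (iv3 F25673)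
theorem F52671 : act 0 n32456 = n33411 := d21_7 D15897 F27190 F25813 (iv6 F50730) (iv1 F24923) D15357 D32456 (iv5 D33411) (iv6 D16134) F11772
def n33412 : Q := act 7 n16134
theorem D33412 : act 7 n16134 = n33412 := rfl
theorem F52672 : act 2 n33412 = n33364 := d4_1 D33412 (iv7 D33364) (iv2 F25672)
theorem F52673 : act 3 n33412 = n16143 := d8_1 D33412 (iv7 D16143) (iv3 F25673)
theorem F52674 : act 4 n33412 = n33364 := d11_1 D33412 (iv7 D33364) (iv4 F25674)
theorem F52675 : act 6 n33412 = n32211 := d14_1 D33412 F51151 (iv6 D16187) (iv7 F11810) D16134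
def n33413 : Q := act 4 n16136
theorem D33413 : act 4 n16136 = n33413 := rfl
theorem F52679 : act 2 n33413 = n28535 := d1_1 D33413 F46109 F26839
theorem F52680 : act 7 n33413 = n28534 := d11_2 F26862 D33413 F46106
theorem F52681 : act 0 n33413 = n28507 := d18_2 (iv1 F25675) D33413 (iv4 D28507) (iv5 D13593) F37244 F25657 (iv4 D16130) F11771 D7554
theorem F52682 : act 1 n33413 = n28539 := d18_6 D7640 D16478 F26768 (iv4 F26765) F26841 D33413 F46113 F37252 F11674
def n33414 : Q := act 6 n16136
theorem D33414 : act 6 n16136 = n33414 := rfl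
theorem F52683 : act 2 n33414 = n33382 := d3_1 D33414 (iv6 D33382) F26839
theorem F52684 : act 3 n33414 = n17415 := d7_1 D33414 (iv6 D17415) F26840
theorem F52685 : act 5 n33414 = n32093 := d12_1 D33414 (iv6 D32093) F50753 F26764 F26841
def n33415 : Q := act 3 n16137
theorem D33415 : act 3 n16137 = n33415 := rfl
def n33416 : Q := act 6 n16137
theorem D33416 : act 6 n16137 = n33416 := rfl
theorem F52686 : act 2 n33416 = n33385 := d3_1 D33416 (iv6 D33385) (iv2 F25676)
theorem F52687 : act 4 n33416 = n16138 := d10_1 D33416 (iv6 D16138) D16137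
def n33417 : Q := act 0 n16138
theorem D33417 : act 0 n16138 = n33417 := rfl
def n33418 : Q := act 1 n16138
theorem D33418 : act 1 n16138 = n33418 := rfl
theorem F52688 : act 1 n33418 = n33389 := d15_1 D33418 (iv7 D33389) (iv2 F25677)
def n33419 : Q := act 5 n16138
theorem D33419 : act 5 n16138 = n33419 := rfl
theorem F52689 : act 2 n33419 = n33388 := d2_1 D33419 (iv5 D33388) (iv2 F25677)
theorem F52690 : act 6 n33419 = n16142 := d12_2 D16138 D33419 (iv5 D16142) (iv6 D7536) D7535
def n33420 : Q := act 7 n16138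
theorem D33420 : act 7 n16138 = n33420 := rfl
theorem F52691 : act 2 n33420 = n33389 := d4_1 D33420 (iv7 D33389) (iv2 F25677)
theorem F52692 : act 1 n33389 = n33417 := d15_0 (iv0 D33417) D33420 F52691
theorem F52693 : act 1 n33387 = n33420 := d15_1 D33387 (iv7 D33420) F25677
theorem F52694 : act 1 n33420 = n33386 := d15_0 (iv0 D33386) D33389 (iv2 F52691)
def n33421 : Q := act 6 n16139
theorem D33421 : act 6 n16139 = n33421 := rfl
theorem F52695 : act 2 n33421 = n16195 := d3_1 D33421 (iv6 D16195) (iv2 F25678)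
def n33422 : Q := act 2 n16140
theorem D33422 : act 2 n16140 = n33422 := rfl
theorem F52696 : act 7 n16141 = n33422 := d15_2 (iv0 D16140) D16141 (iv2 D33422)
def n33425 : Q := act 5 n16140
theorem D33425 : act 5 n16140 = n33425 := rfl
theorem F52697 : act 0 n33425 = n16610 := d17_2 D16140 D33425 (iv5 D16610) F26717 D29576 (iv0 F50985) (iv5 D16169) (iv0 D7543) (iv4 F11773)
theorem E5492 : n32128 = n16140 := (c21_6 (iv5 F50753) (iv1 F24763) (iv5 D7198) D7199 D15166 D32128 D33425 F52697 (iv5 D16610) D16611 F50809)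
theorem F52698 : act 6 n16140 = n15166 := (sb E5492 (iv6 D32128))
theorem F52699 : act 7 n16140 = n16175 := (sb E5492 F51074)
theorem F52700 : act 0 n16614 = n33425 := d21_1 D16614 (iv5 D33425) F52698 (iv1 F50994) (iv6 D15163) D15162 (iv1 F51018) F51020 F45907 (iv1 F27099)
theorem F52701 : act 2 n16175 = n16141 := d4_1 F52699 F52696 (iv2 D33422)
theorem F52703 : act 6 n16141 = n16171 := d3_2 D16175 F52701 F25702
theorem F52704 : act 6 n32124 = n33422 := d14_5 (iv7 F52696) F52703 (iv7 D16171) (iv6 F50988) F51071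
def n33426 : Q := act 3 n16141
theorem D33426 : act 3 n16141 = n33426 := rfl
def n33427 : Q := act 4 n16141
theorem D33427 : act 4 n16141 = n33427 := rfl
theorem F52708 : act 6 n33427 = n28550 := d10_2 (iv6 F52703) D33427 (iv4 F50980)
def n33428 : Q := act 5 n16141
theorem D33428 : act 5 n16141 = n33428 := rfl
def n33429 : Q := act 4 n16142
theorem D33429 : act 4 n16142 = n33429 := rfl
theorem F52709 : act 2 n33429 = n33401 := d1_1 D33429 (iv4 D33401) (iv2 F25684)
theorem F52710 : act 1 n33429 = n29749 := d18_6 (iv1 F46069) F50981 (iv1 D7544) (iv4 F11773) D16142 D33429 (iv4 D29749) D29747 (iv5 F50883)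
def n33430 : Q := act 3 n16147
theorem D33430 : act 3 n16147 = n33430 := rfl
def n33431 : Q := act 5 n16147
theorem D33431 : act 5 n16147 = n33431 := rfl
theorem F52711 : act 2 n33431 = n16659 := d2_1 D33431 (iv5 D16659) F25736
theorem F52712 : act 4 n33431 = n32387 := d16_2 D16147 D33431 (iv5 D32387) (iv4 D15291) (iv5 D7239) (iv4 F5526) (iv5 F9420) F9421 (iv2 F25725)
theorem F52713 : act 0 n33431 = n27542 := d17_2 (iv1 F43038) D33431 (iv5 D27542) (iv4 F37311) F37310 F28404 (iv5 F46092) (iv0 D28524) (iv4 F43037)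
theorem F52714 : act 1 n33431 = n27539 := d17_6 D6292 F27176 F27161 F25728 D16147 D33431 (iv5 D27539) (iv0 D13167) F9755
def n33432 : Q := act 6 n16147
theorem D33432 : act 6 n16147 = n33432 := rfl
theorem F52715 : act 2 n33432 = n16660 := d3_1 D33432 (iv6 D16660) F25736
theorem F52716 : act 4 n33432 = n16149 := d10_1 D33432 (iv6 D16149) D16147
def n33433 : Q := act 0 n16149
theorem D33433 : act 0 n16149 = n33433 := rfl
def n33434 : Q := act 1 n16149
theorem D33434 : act 1 n16149 = n33434 := rfl
theorem F52717 : act 1 n33434 = n16663 := d15_1 D33434 (iv7 D16663) F25737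
def n33435 : Q := act 5 n16149
theorem D33435 : act 5 n16149 = n33435 := rfl
theorem F52718 : act 2 n33435 = n16622 := d2_1 D33435 F27111 F25737
theorem F52719 : act 6 n33435 = n16618 := d12_2 D16149 D33435 (iv5 D16618) F12018 F25728
def n33436 : Q := act 7 n16149
theorem D33436 : act 7 n16149 = n33436 := rfl
theorem F52720 : act 2 n33436 = n16663 := d4_1 D33436 (iv7 D16663) F25737
theorem F52721 : act 1 n16663 = n33433 := d15_0 (iv0 D33433) D33436 F52720
theorem F52722 : act 1 n16662 = n33436 := d15_1 D16662 (iv7 D33436) (iv2 F25737)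
theorem F52723 : act 1 n33436 = n16661 := d15_0 (iv0 D16661) D16663 (iv2 F52720)
def n33437 : Q := act 3 n16155
theorem D33437 : act 3 n16155 = n33437 := rfl
theorem F52724 : act 4 n33437 = n32844 := d5_2 (iv4 F25739) D33437 (iv3 D32844) (iv4 D15809) D15808
def n33438 : Q := act 5 n16155
theorem D33438 : act 5 n16155 = n33438 := rfl
theorem F52725 : act 0 n33438 = n27767 := d17_2 D16155 D33438 (iv5 D27767) (iv4 D13255) F27160 (iv0 F27158) F25728 (iv0 D7538) D7540
theorem F52726 : act 1 n33438 = n27757 := d17_6 F46086 (iv5 F25994) F27734 F26833 (iv4 F25739) D33438 (iv5 D27757) D27755 (iv4 F46088)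
def n33439 : Q := act 6 n16155
theorem D33439 : act 6 n16155 = n33439 := rfl
theorem F52727 : act 4 n33439 = n32843 := d10_1 D33439 (iv6 D32843) (iv4 F25739)
def n33440 : Q := act 5 n16156
theorem D33440 : act 5 n16156 = n33440 := rfl
theorem F52728 : act 0 n33440 = n27757 := d17_2 (iv1 F25694) D33440 (iv5 D27757) (iv4 D13250) F27176 F27162 (iv5 F9420) (iv0 F25724) D7556
theorem F52729 : act 1 n33440 = n27767 := d17_6 F41703 (iv5 F25989) F26768 D32665 F51747 D33440 (iv5 D27767) F44809 F44808
def n33441 : Q := act 6 n16156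
theorem D33441 : act 6 n16156 = n33441 := rfl
def n33442 : Q := act 0 n16157
theorem D33442 : act 0 n16157 = n33442 := rfl
theorem F52730 : act 5 n33442 = n25603 := d19_1 D33442 (iv4 D25603) F20173 (iv1 F12489) (iv5 D7887) (iv4 D3575) (iv3 F2747) (iv1 D1483) (iv5 D807) F974 (iv3 D463) (iv1 D248) D249 D469 D817 D1509 D3435 D7540 D16157
theorem F52731 : act 3 n33062 = n33442 := d6_3 F52730 F40507 D33062
def n33443 : Q := act 1 n16157
theorem D33443 : act 1 n16157 = n33443 := rfl
def n33444 : Q := act 2 n16157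
theorem D33444 : act 2 n16157 = n33444 := rfl
def n33445 : Q := act 5 n16157
theorem D33445 : act 5 n16157 = n33445 := rfl
theorem F52732 : act 3 n33445 = n16158 := d6_1 D33445 (iv5 D16158) D16157
theorem F52733 : act 0 n33445 = n25573 := d20_4 D16280 (iv1 F46205) (iv4 F46207) (iv3 F52732) F40456 (iv4 D16933) (iv1 F42284) D33052 F52277 (iv1 D16279)
def n33446 : Q := act 6 n16157
theorem D33446 : act 6 n16157 = n33446 := rfl
theorem F52734 : act 3 n33446 = n16159 := d7_1 D33446 (iv6 D16159) D16157
def n33447 : Q := act 7 n16157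
theorem D33447 : act 7 n16157 = n33447 := rfl
theorem F52735 : act 3 n33447 = n16160 := d8_1 D33447 (iv7 D16160) D16157
def n33448 : Q := act 0 n16158
theorem D33448 : act 0 n16158 = n33448 := rfl
theorem F52736 : act 5 n33448 = n16240 := d17_1 D33448 (iv1 F25805) D16262 (iv4 F46198) (iv5 D28633) (iv0 D13653) D13655 D28639 (iv4 F46207)
theorem F52737 : act 1 n16201 = n33448 := d17_6 (iv1 F9799) F9797 (iv1 F5419) D3440 D7556 D16201 F52736 (iv0 D16240) (iv4 D7568)
def n33449 : Q := act 1 n16158
theorem D33449 : act 1 n16158 = n33449 := rfl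
theorem F52738 : act 1 n33449 = n16201 := d15_1 D33449 (iv7 F52605) F52604
theorem F52739 : act 5 n33449 = n16241 := d17_7 (iv1 D3446) (iv5 D1512) D1509 D3435 D7540 D16158 D33449 F25801 (iv4 D7573)
def n33450 : Q := act 6 n16158
theorem D33450 : act 6 n16158 = n33450 := rfl
def n33451 : Q := act 7 n16158
theorem D33451 : act 7 n16158 = n33451 := rfl
theorem F52740 : act 2 n33451 = n16201 := d4_1 D33451 (iv7 F52605) F52604
theorem F52741 : act 4 n33451 = n33384 := d11_1 D33451 F52627 (iv4 F46207)
theorem F52742 : act 5 n33451 = n16160 := d13_1 D33451 (iv7 D16160) D16158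
def n33452 : Q := act 0 n16159
theorem D33452 : act 0 n16159 = n33452 := rfl
def n33453 : Q := act 1 n16159
theorem D33453 : act 1 n16159 = n33453 := rfl
def n33454 : Q := act 5 n16159
theorem D33454 : act 5 n16159 = n33454 := rfl
def n33455 : Q := act 7 n16159
theorem D33455 : act 7 n16159 = n33455 := rfl
theorem F52743 : act 4 n33455 = n16164 := d11_1 D33455 (iv7 D16164) (iv4 F25695)
def n33456 : Q := act 6 n16160
theorem D33456 : act 6 n16160 = n33456 := rfl
theorem F52744 : act 2 n33456 = n16202 := d3_1 D33456 (iv6 D16202) (iv2 F25696)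
theorem F52745 : act 4 n33456 = n16165 := d10_1 D33456 (iv6 D16165) (iv4 F25697)
def n33457 : Q := act 2 n16161
theorem D33457 : act 2 n16161 = n33457 := rfl
theorem F52746 : act 7 n16162 = n33457 := d15_2 (iv0 D16161) D16162 (iv2 D33457)
def n33458 : Q := act 3 n16161
theorem D33458 : act 3 n16161 = n33458 := rfl
def n33459 : Q := act 4 n16161
theorem D33459 : act 4 n16161 = n33459 := rfl
def n33460 : Q := act 5 n16161
theorem D33460 : act 5 n16161 = n33460 := rfl
def n33461 : Q := act 6 n16161
theorem D33461 : act 6 n16161 = n33461 := rfl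
def n33462 : Q := act 7 n16161
theorem D33462 : act 7 n16161 = n33462 := rfl
theorem F52747 : act 2 n33462 = n16162 := d4_1 D33462 F52746 (iv2 D33457)
def n33464 : Q := act 4 n16162
theorem D33464 : act 4 n16162 = n33464 := rfl
def n33465 : Q := act 5 n16162
theorem D33465 : act 5 n16162 = n33465 := rfl
def n33466 : Q := act 6 n16162
theorem D33466 : act 6 n16162 = n33466 := rfl
def n33467 : Q := act 0 n16163
theorem D33467 : act 0 n16163 = n33467 := rfl
def n33468 : Q := act 1 n16163
theorem D33468 : act 1 n16163 = n33468 := rfl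
def n33469 : Q := act 4 n16163
theorem D33469 : act 4 n16163 = n33469 := rfl
theorem F52748 : act 6 n33469 = n16178 := d10_2 (iv6 F25699) D33469 (iv4 D16178)
def n33470 : Q := act 7 n16163
theorem D33470 : act 7 n16163 = n33470 := rfl
theorem F52749 : act 5 n33470 = n16164 := d13_1 D33470 (iv7 D16164) D16163
def n33471 : Q := act 6 n16164
theorem D33471 : act 6 n16164 = n33471 := rfl
theorem F52750 : act 2 n33471 = n16206 := d3_1 D33471 (iv6 F52612) F52611
theorem F52751 : act 7 n33471 = n16165 := d14_2 D16164 D33471 (iv6 D16165) (iv7 D7542) D7541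
theorem F52752 : act 1 n16204 = n33471 := d15_1 D16204 F52751 F25700
theorem F52753 : act 1 n33471 = n16203 := d15_0 (iv0 D16203) D16206 (iv2 F52750)
def n33472 : Q := act 0 n16165
theorem D33472 : act 0 n16165 = n33472 := rfl
theorem F52754 : act 1 n16206 = n33472 := d15_0 (iv0 D33472) (iv7 F52751) F52750
def n33473 : Q := act 1 n16165
theorem D33473 : act 1 n16165 = n33473 := rfl
theorem F52755 : act 1 n33473 = n16206 := d15_1 D33473 (iv7 D16206) (iv2 F25700)
def n33474 : Q := act 5 n16165
theorem D33474 : act 5 n16165 = n33474 := rfl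
theorem F52756 : act 2 n33474 = n16205 := d2_1 D33474 (iv5 D16205) (iv2 F25700)
theorem F52757 : act 6 n33474 = n16183 := d12_2 D16165 D33474 (iv5 D16183) (iv6 D7547) (iv5 F11779)
def n33476 : Q := act 1 n16166
theorem D33476 : act 1 n16166 = n33476 := rfl
theorem F52759 : act 1 n33476 = n16171 := d15_1 D33476 (iv7 D16171) D16166
def n33478 : Q := act 5 n16166
theorem D33478 : act 5 n16166 = n33478 := rfl
theorem F52761 : act 2 n33478 = n16169 := d2_1 D33478 (iv5 D16169) D16166
theorem F52762 : act 7 n33478 = n16174 := d13_2 F25701 D33478 (iv5 D16174)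
theorem F52763 : act 1 n29572 = n16174 := d15_1 F50986 (iv7 F52762) F52761
theorem F52764 : act 1 n16174 = n29576 := d15_1 F52763 F50006 F49997
theorem F52765 : act 0 n33428 = n16614 := d17_2 (iv1 F25683) D33428 (iv5 D16614) (iv4 F26821) D29572 F52763 (iv5 D16174) F25634 (iv4 F25639)
theorem E5493 : n16175 = n16124 := (c21_4 D29576 (iv1 F52764) (iv5 D16174) D16175 (iv1 D16124) (iv6 D7530) D7529 (iv1 F26859) F26861 F26737 (iv1 F23445))
theorem E5494 : n33395 = n16141 := (((iv2 F52635)).symm.trans (sb E5493 F52701))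
theorem E5497 : n33390 = n16140 := ((F52634).symm.trans (sb E5493 (iv7 F52699)))
theorem F52766 : act 2 n16141 = n16124 := (sb E5494 F52635)
theorem E5498 : n33422 = n16123 := ((F52696).symm.trans (sb E5494 (iv7 D33395)))
theorem F52769 : act 7 n16140 = n16124 := (sb E5497 (iv7 F52634))
theorem F52770 : act 2 n16123 = n16140 := (sb E5498 (iv2 D33422))
theorem E5499 : n33394 = n32124 := ((D33394).symm.trans (sb E5498 (iv6 F52704)))
theorem F52771 : act 7 n16123 = n16141 := (sb E5498 (iv7 F52696))
theorem F52772 : act 6 n32124 = n16123 := (sb E5499 (iv6 D33394))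
theorem F52775 : act 7 n33428 = n33393 := d13_2 F52771 D33428 (iv5 D33393)
theorem F52776 : act 2 n33393 = n33425 := d15_3 (iv0 F52700) (iv0 F52765) F52775
theorem F52779 : act 7 n33398 = n33425 := d13_2 F52769 D33398 (iv5 D33425)
theorem F52780 : act 2 n33428 = n33398 := d4_3 F52779 (iv2 F52776) (iv7 F52775)
theorem F52781 : act 1 n33428 = n16610 := d15_0 (iv0 F52697) (iv7 F52779) (iv2 F52780)
theorem E5500 : n33476 = n7525 := (c21_5 D16610 (iv1 F52781) (iv5 D33428) F52703 (iv1 F52759) (iv6 D7525) D7524 F25747 (iv5 D3515) (iv6 F5517) D7724)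
theorem E5501 : n16166 = n16113 := (((D16113).symm.trans (sb E5500 (iv1 D33476)))).symm
theorem E5502 : n16171 = n16114 := (((D16114).symm.trans (sb E5500 F52759))).symm
theorem E5504 : n33373 = n7543 := ((D33373).symm.trans (sb E5501 (iv2 D16166)))
theorem E5506 : n28545 = n28509 := (((F50845).symm.trans (sb E5501 F50978))).symm
theorem E5507 : n33478 = n33375 := (((D33375).symm.trans (sb E5501 D33478))).symm
theorem E5508 : n32129 = n32105 := ((((iv6 F52618)).symm.trans (sb E5501 F51073))).symm
theorem E5510 : n28550 = n28510 := (((F50946).symm.trans (sb E5502 F50980))).symm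
theorem E5511 : n33379 = n16141 := ((D33379).symm.trans (sb E5502 (iv6 F52703)))
theorem F52782 : act 2 n7543 = n16113 := (sb E5504 (iv2 D33373))
theorem F52783 : act 7 n7543 = n16114 := (sb E5504 (iv7 F52616))
theorem F52785 : act 2 n28509 = n13612 := (sb E5506 (iv2 D28545))
theorem F52787 : act 2 n33375 = n16169 := (sb E5507 F52761)
theorem F52789 : act 2 n32105 = n15167 := (sb E5508 F51072)
theorem F52790 : act 7 n32105 = n15166 := (sb E5508 (iv7 D32129))
theorem F52794 : act 6 n28510 = n33427 := (sb E5510 (iv6 F52708))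
theorem F52795 : act 7 n28510 = n13612 := (sb E5510 (iv7 D28550))
theorem F52796 : act 6 n16141 = n16114 := (sb E5511 (iv6 D33379))
theorem F52798 : act 0 n29101 = n33378 := d21_1 D29101 (iv5 D33378) (iv6 F52796) (iv1 D16141) (iv6 D7536) D7535 (iv1 F26837) (iv5 D15632) F11666 D13853
theorem F52800 : act 1 n29105 = n33378 := d15_0 (iv0 F52798) F49996 (iv2 F49997)
theorem F52801 : act 7 n33378 = n16169 := d15_2 (iv0 F52619) F52800 (iv2 F52787)
theorem E5512 : n32124 = n32104 := (c15_4 (iv0 D32104) D32105 F52790 D32124)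
theorem F52803 : act 6 n32104 = n16123 := (sb E5512 F52772)
theorem F52804 : act 7 n32104 = n15167 := (sb E5512 (iv7 F51071))
def n33483 : Q := act 5 n16167
theorem D33483 : act 5 n16167 = n33483 := rfl
theorem F52807 : act 3 n33483 = n16169 := d6_1 D33483 (iv5 D16169) D16167
def n33484 : Q := act 4 n16169
theorem D33484 : act 4 n16169 = n33484 := rfl
def n33485 : Q := act 6 n16169
theorem D33485 : act 6 n16169 = n33485 := rfl
def n33493 : Q := act 4 n16176
theorem D33493 : act 4 n16176 = n33493 := rfl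
theorem F52809 : act 2 n33493 = n29581 := d1_1 D33493 (iv4 D29581) (iv2 F50967)
def n33494 : Q := act 6 n16176
theorem D33494 : act 6 n16176 = n33494 := rfl
theorem F52810 : act 2 n33494 = n29582 := d3_1 D33494 (iv6 D29582) (iv2 F50967)
def n33495 : Q := act 0 n16178
theorem D33495 : act 0 n16178 = n33495 := rfl
theorem F52811 : act 4 n33495 = n24403 := d18_3 F50971 D16178 D33495 F38252 F18808 (iv0 F49986) F49988 (iv0 D13853) D13856
theorem F52812 : act 7 n24401 = n33495 := d11_0 F52811 (iv7 D24403) D24401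
def n33496 : Q := act 1 n16178
theorem D33496 : act 1 n16178 = n33496 := rfl
def n33497 : Q := act 3 n16178
theorem D33497 : act 3 n16178 = n33497 := rfl
def n33498 : Q := act 5 n16178
theorem D33498 : act 5 n16178 = n33498 := rfl
def n33499 : Q := act 7 n16178
theorem D33499 : act 7 n16178 = n33499 := rfl
theorem F52813 : act 4 n33499 = n16179 := d11_1 D33499 (iv7 D16179) D16178
theorem F52814 : act 1 n24401 = n33499 := d18_6 D14048 F26821 (iv1 D7725) (iv4 F8171) D11503 D24401 F52813 F50802 (iv5 D14051)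
theorem F52815 : act 1 n33380 = n24401 := d15_0 F52814 (iv7 D33499) (iv2 F52621)
def n33500 : Q := act 6 n16179
theorem D33500 : act 6 n16179 = n33500 := rfl
def n33501 : Q := act 0 n16183
theorem D33501 : act 0 n16183 = n33501 := rfl
theorem F52816 : act 1 n16220 = n33501 := d15_0 (iv0 D33501) (iv7 F52139) F52137
def n33502 : Q := act 1 n16183
theorem D33502 : act 1 n16183 = n33502 := rfl
theorem F52817 : act 1 n33502 = n16220 := d15_1 D33502 (iv7 D16220) (iv2 F25710)
def n33503 : Q := act 4 n16183
theorem D33503 : act 4 n16183 = n33503 := rfl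
theorem F52818 : act 2 n33503 = n16219 := d1_1 D33503 (iv4 D16219) (iv2 F25710)
def n33504 : Q := act 6 n16184
theorem D33504 : act 6 n16184 = n33504 := rfl
theorem F52819 : act 2 n33504 = n32748 := d3_1 D33504 (iv6 D32748) (iv2 F25711)
def n33505 : Q := act 6 n16186
theorem D33505 : act 6 n16186 = n33505 := rfl
theorem F52820 : act 2 n33505 = n16189 := d3_1 D33505 (iv6 D16189) (iv2 F25715)
theorem F52821 : act 3 n33505 = n33421 := d7_1 D33505 (iv6 D33421) (iv3 F25716)
def n33506 : Q := act 5 n16187
theorem D33506 : act 5 n16187 = n33506 := rfl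
theorem F52822 : act 2 n33506 = n16192 := d2_1 D33506 (iv5 D16192) (iv2 F25719)
theorem F52823 : act 3 n33506 = n16304 := d6_1 D33506 (iv5 D16304) (iv3 F50777)
def n33507 : Q := act 3 n16188
theorem D33507 : act 3 n16188 = n33507 := rfl
theorem F52824 : act 4 n33507 = n16200 := d5_2 D16188 D33507 (iv3 D16200) (iv4 D7556) (iv3 F11784)
theorem F52825 : act 0 n16200 = n22512 := d20_7 (iv4 F29330) (iv1 F29427) F29424 (iv3 F27216) (iv1 F25722) D33507 F52824 (iv4 D22512) F17231 (iv1 F17210)
def n33508 : Q := act 5 n16188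
theorem D33508 : act 5 n16188 = n33508 := rfl
theorem F52826 : act 2 n33508 = n19611 := d2_1 D33508 (iv5 F35214) (iv2 F35215)
theorem F52827 : act 7 n33508 = n19610 := d13_2 (iv7 F35210) D33508 F35211
theorem F52828 : act 4 n33508 = n19610 := d16_2 D16188 D33508 F35211 F35208 (iv5 D16107) F11794 D16133 (iv7 F25717) F25715
theorem F52829 : act 0 n33508 = n19612 := d17_2 (iv1 F25722) D33508 (iv5 F31380) (iv4 D15375) F24947 F9273 D12555 F20910 D15678
theorem F52830 : act 1 n33508 = n18192 := d17_6 (iv1 F44831) (iv5 D15897) F11811 D7552 D16188 D33508 F29360 (iv0 F35292) F44832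
def n33509 : Q := act 6 n16188
theorem D33509 : act 6 n16188 = n33509 := rfl
theorem F52831 : act 4 n33509 = n16189 := d10_1 D33509 (iv6 D16189) D16188
def n33510 : Q := act 0 n16189
theorem D33510 : act 0 n16189 = n33510 := rfl
def n33511 : Q := act 1 n16189
theorem D33511 : act 1 n16189 = n33511 := rfl
def n33512 : Q := act 5 n16189
theorem D33512 : act 5 n16189 = n33512 := rfl
theorem F52832 : act 3 n33512 = n16205 := d6_1 D33512 (iv5 D16205) (iv3 F25740)
theorem F52833 : act 6 n33512 = n16192 := d12_2 D16189 D33512 (iv5 D16192) (iv6 D7553) D7552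
def n33513 : Q := act 7 n16189
theorem D33513 : act 7 n16189 = n33513 := rfl
theorem F52834 : act 3 n33513 = n16206 := d8_1 D33513 (iv7 D16206) (iv3 F25740)
def n33514 : Q := act 5 n16191
theorem D33514 : act 5 n16191 = n33514 := rfl
theorem F52835 : act 7 n33514 = n32745 := d13_2 (iv7 F51002) D33514 (iv5 D32745)
def n33515 : Q := act 0 n16192
theorem D33515 : act 0 n16192 = n33515 := rfl
def n33516 : Q := act 1 n16192
theorem D33516 : act 1 n16192 = n33516 := rfl
def n33517 : Q := act 4 n16192
theorem D33517 : act 4 n16192 = n33517 := rfl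
def n33518 : Q := act 7 n16192
theorem D33518 : act 7 n16192 = n33518 := rfl
theorem F52836 : act 3 n33518 = n16220 := d8_1 D33518 (iv7 D16220) (iv3 F25741)
theorem F52837 : act 5 n33518 = n16193 := d13_1 D33518 (iv7 D16193) D16192
def n33519 : Q := act 3 n16194
theorem D33519 : act 3 n16194 = n33519 := rfl
theorem F52838 : act 4 n33519 = n33447 := d5_2 D16194 D33519 F52735 F25697 (iv3 F11805)
theorem F52839 : act 7 n33519 = n33383 := d8_2 (iv7 F25743) D33519 (iv3 D33383)
def n33520 : Q := act 6 n16194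
theorem D33520 : act 6 n16194 = n33520 := rfl
theorem F52840 : act 4 n33520 = n16195 := d10_1 D33520 (iv6 D16195) D16194
def n33521 : Q := act 0 n16195
theorem D33521 : act 0 n16195 = n33521 := rfl
def n33522 : Q := act 1 n16195
theorem D33522 : act 1 n16195 = n33522 := rfl
def n33523 : Q := act 5 n16195
theorem D33523 : act 5 n16195 = n33523 := rfl
theorem F52841 : act 3 n33523 = n33474 := d6_1 D33523 (iv5 D33474) (iv3 F25757)
theorem F52842 : act 6 n33523 = n16198 := d12_2 D16195 D33523 (iv5 D16198) (iv6 D7555) D7554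
def n33524 : Q := act 7 n16195
theorem D33524 : act 7 n16195 = n33524 := rfl
theorem F52843 : act 3 n33524 = n33471 := d8_1 D33524 F52751 (iv3 F25757)
theorem F52844 : act 6 n33524 = n33389 := d14_1 D33524 (iv7 D33389) (iv6 D16122) F11803 D16195
def n33525 : Q := act 0 n16198
theorem D33525 : act 0 n16198 = n33525 := rfl
theorem F52845 : act 1 n32212 = n33525 := d15_0 (iv0 D33525) F51005 (iv2 F51155)
def n33526 : Q := act 1 n16198
theorem D33526 : act 1 n16198 = n33526 := rfl
theorem F52846 : act 1 n33526 = n32212 := d15_1 D33526 F51156 F51006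
def n33527 : Q := act 4 n16198
theorem D33527 : act 4 n16198 = n33527 := rfl
def n33528 : Q := act 2 n16200
theorem D33528 : act 2 n16200 = n33528 := rfl
def n33529 : Q := act 5 n16200
theorem D33529 : act 5 n16200 = n33529 := rfl
theorem F52847 : act 3 n33529 = n16201 := d6_1 D33529 (iv5 D16201) D16200
def n33530 : Q := act 6 n16200
theorem D33530 : act 6 n16200 = n33530 := rfl
theorem F52848 : act 3 n33530 = n16202 := d7_1 D33530 (iv6 D16202) D16200
def n33531 : Q := act 6 n16201
theorem D33531 : act 6 n16201 = n33531 := rfl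
def n33532 : Q := act 0 n16202
theorem D33532 : act 0 n16202 = n33532 := rfl
def n33533 : Q := act 1 n16202
theorem D33533 : act 1 n16202 = n33533 := rfl
def n33534 : Q := act 5 n16202
theorem D33534 : act 5 n16202 = n33534 := rfl
def n33535 : Q := act 7 n16202
theorem D33535 : act 7 n16202 = n33535 := rfl
theorem F52849 : act 4 n33535 = n16206 := d11_1 D33535 (iv7 D16206) (iv4 F25762)
def n33536 : Q := act 2 n16203
theorem D33536 : act 2 n16203 = n33536 := rfl
theorem F52850 : act 7 n16204 = n33536 := d15_2 (iv0 D16203) D16204 (iv2 D33536)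
def n33537 : Q := act 3 n16203
theorem D33537 : act 3 n16203 = n33537 := rfl
def n33538 : Q := act 4 n16203
theorem D33538 : act 4 n16203 = n33538 := rfl
def n33539 : Q := act 5 n16203
theorem D33539 : act 5 n16203 = n33539 := rfl
def n33540 : Q := act 6 n16203
theorem D33540 : act 6 n16203 = n33540 := rfl
def n33541 : Q := act 7 n16203
theorem D33541 : act 7 n16203 = n33541 := rfl
theorem F52851 : act 2 n33541 = n16204 := d4_1 D33541 F52850 (iv2 D33536)
def n33542 : Q := act 3 n16204
theorem D33542 : act 3 n16204 = n33542 := rfl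
def n33543 : Q := act 4 n16204
theorem D33543 : act 4 n16204 = n33543 := rfl
def n33544 : Q := act 5 n16204
theorem D33544 : act 5 n16204 = n33544 := rfl
def n33545 : Q := act 6 n16204
theorem D33545 : act 6 n16204 = n33545 := rfl
def n33546 : Q := act 0 n16205
theorem D33546 : act 0 n16205 = n33546 := rfl
def n33547 : Q := act 1 n16205
theorem D33547 : act 1 n16205 = n33547 := rfl
def n33548 : Q := act 4 n16205
theorem D33548 : act 4 n16205 = n33548 := rfl
theorem F52852 : act 6 n33548 = n16219 := d10_2 (iv6 F25763) D33548 (iv4 D16219)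
def n33549 : Q := act 7 n16205
theorem D33549 : act 7 n16205 = n33549 := rfl
theorem F52853 : act 5 n33549 = n16206 := d13_1 D33549 (iv7 D16206) D16205
def n33550 : Q := act 4 n16215
theorem D33550 : act 4 n16215 = n33550 := rfl
def n33551 : Q := act 6 n16215
theorem D33551 : act 6 n16215 = n33551 := rfl
def n33552 : Q := act 2 n16217
theorem D33552 : act 2 n16217 = n33552 := rfl
theorem F52854 : act 7 n16218 = n33552 := d15_2 (iv0 D16217) D16218 (iv2 D33552)
def n33555 : Q := act 5 n16217
theorem D33555 : act 5 n16217 = n33555 := rfl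
theorem F52855 : act 0 n16615 = n33555 := d21_10 (iv5 D33555) (iv1 F52141) (iv5 D32970) F50784 (iv1 F25629) (iv6 F52796) D33428 F52765 (iv5 D16614) D16615
def n33557 : Q := act 7 n16217
theorem D33557 : act 7 n16217 = n33557 := rfl
theorem F52856 : act 2 n33557 = n16218 := d4_1 D33557 F52854 (iv2 D33552)
def n33558 : Q := act 3 n16218
theorem D33558 : act 3 n16218 = n33558 := rfl
def n33559 : Q := act 4 n16218
theorem D33559 : act 4 n16218 = n33559 := rfl
def n33560 : Q := act 5 n16218
theorem D33560 : act 5 n16218 = n33560 := rfl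
theorem F52857 : act 6 n33560 = n16646 := d21_3 D32970 (iv1 F52140) D33560 (iv1 F51014) (iv6 D16645) F27165 (iv1 F27184) (iv5 D16128) (iv6 F26528) D15874
theorem F52858 : act 0 n31531 = n33560 := d21_10 (iv5 D33560) (iv1 D16218) (iv5 D7560) (iv6 D3441) (iv1 D1510) (iv6 F2574) D3317 D7203 F50821 D31531
theorem F52859 : act 0 n33560 = n16615 := d21_4 D32116 (iv1 F51076) (iv5 F51077) (iv6 F52857) (iv6 D16615) D16614 F52700 (iv5 D33425) F52698 (iv1 F50994)
def n33561 : Q := act 6 n16218
theorem D33561 : act 6 n16218 = n33561 := rfl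
def n33562 : Q := act 0 n16219
theorem D33562 : act 0 n16219 = n33562 := rfl
def n33563 : Q := act 1 n16219
theorem D33563 : act 1 n16219 = n33563 := rfl
def n33564 : Q := act 3 n16219
theorem D33564 : act 3 n16219 = n33564 := rfl
def n33565 : Q := act 5 n16219
theorem D33565 : act 5 n16219 = n33565 := rfl
def n33566 : Q := act 7 n16219
theorem D33566 : act 7 n16219 = n33566 := rfl
theorem F52860 : act 4 n33566 = n16220 := d11_1 D33566 (iv7 D16220) D16219
def n33567 : Q := act 6 n16220
theorem D33567 : act 6 n16220 = n33567 := rfl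
def n33568 : Q := act 5 n16221
theorem D33568 : act 5 n16221 = n33568 := rfl
theorem F52861 : act 2 n33568 = n27558 := d2_1 D33568 F44465 F44180
theorem F52862 : act 3 n33568 = n16222 := d6_1 D33568 (iv5 D16222) D16221
def n33569 : Q := act 6 n16221
theorem D33569 : act 6 n16221 = n33569 := rfl
theorem F52863 : act 3 n33569 = n16223 := d7_1 D33569 (iv6 D16223) D16221
def n33570 : Q := act 6 n16222
theorem D33570 : act 6 n16222 = n33570 := rfl
theorem F52864 : act 2 n33570 = n16281 := d3_1 D33570 (iv6 D16281) (iv2 F25767)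
def n33571 : Q := act 0 n16223
theorem D33571 : act 0 n16223 = n33571 := rfl
def n33572 : Q := act 1 n16223
theorem D33572 : act 1 n16223 = n33572 := rfl
theorem F52865 : act 1 n33572 = n16285 := d15_1 D33572 (iv7 D16285) (iv2 F25768)
def n33573 : Q := act 5 n16223
theorem D33573 : act 5 n16223 = n33573 := rfl
theorem F52866 : act 2 n33573 = n16284 := d2_1 D33573 (iv5 D16284) (iv2 F25768)
def n33574 : Q := act 7 n16223
theorem D33574 : act 7 n16223 = n33574 := rfl
theorem F52867 : act 2 n33574 = n16285 := d4_1 D33574 (iv7 D16285) (iv2 F25768)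
theorem F52868 : act 4 n33574 = n16226 := d11_1 D33574 (iv7 D16226) (iv4 F25769)
theorem F52869 : act 1 n16285 = n33571 := d15_0 (iv0 D33571) D33574 F52867
theorem F52870 : act 1 n16283 = n33574 := d15_1 D16283 (iv7 D33574) F25768
theorem F52871 : act 1 n33574 = n16282 := d15_0 (iv0 D16282) D16285 (iv2 F52867)
def n33575 : Q := act 2 n16224
theorem D33575 : act 2 n16224 = n33575 := rfl
theorem F52872 : act 7 n16225 = n33575 := d15_2 (iv0 D16224) D16225 (iv2 D33575)
def n33576 : Q := act 3 n16224
theorem D33576 : act 3 n16224 = n33576 := rfl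
def n33577 : Q := act 4 n16224
theorem D33577 : act 4 n16224 = n33577 := rfl
def n33578 : Q := act 5 n16224
theorem D33578 : act 5 n16224 = n33578 := rfl
def n33579 : Q := act 6 n16224
theorem D33579 : act 6 n16224 = n33579 := rfl
def n33580 : Q := act 7 n16224
theorem D33580 : act 7 n16224 = n33580 := rfl
theorem F52873 : act 2 n33580 = n16225 := d4_1 D33580 F52872 (iv2 D33575)
def n33581 : Q := act 3 n16225
theorem D33581 : act 3 n16225 = n33581 := rfl
theorem F52874 : act 4 n33581 = n28643 := d20_6 F43120 (iv1 F9818) F9815 (iv3 F11824) (iv1 F25770) D33581 (iv1 D28643) F22811 F10558 D6494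
def n33582 : Q := act 4 n16225
theorem D33582 : act 4 n16225 = n33582 := rfl
def n33583 : Q := act 5 n16225
theorem D33583 : act 5 n16225 = n33583 := rfl
def n33584 : Q := act 6 n16225
theorem D33584 : act 6 n16225 = n33584 := rfl
def n33585 : Q := act 6 n16235
theorem D33585 : act 6 n16235 = n33585 := rfl
theorem F52875 : act 2 n33585 = n16238 := d3_1 D33585 (iv6 D16238) D16235
theorem F52876 : act 4 n33585 = n28634 := d10_1 D33585 (iv6 D28634) F27186
def n33586 : Q := act 3 n16236
theorem D33586 : act 3 n16236 = n33586 := rfl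
theorem F52877 : act 4 n33586 = n16242 := d5_2 D16236 D33586 (iv3 D16242) (iv4 D7568) D7567
theorem F52878 : act 7 n33586 = n28635 := d8_2 (iv7 F27182) D33586 (iv3 D28635)
def n33587 : Q := act 5 n16236
theorem D33587 : act 5 n16236 = n33587 := rfl
theorem F52879 : act 2 n33587 = n28633 := d2_1 D33587 (iv5 D28633) (iv2 F27185)
theorem F52880 : act 7 n33587 = n28636 := d13_2 (iv7 F27182) D33587 (iv5 D28636)
theorem F52881 : act 4 n33587 = n27757 := d16_2 D16236 D33587 (iv5 D27757) (iv4 D13250) F27176 F50735 D16655 F50742 (iv2 D16235)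
theorem F52882 : act 0 n33587 = n32387 := d17_2 (iv1 F25826) D33587 (iv5 D32387) (iv4 D15291) (iv5 D7239) D7237 (iv5 F25820) (iv0 D13639) D13641
def n33588 : Q := act 6 n16236
theorem D33588 : act 6 n16236 = n33588 := rfl
theorem F52883 : act 2 n33588 = n28634 := d3_1 D33588 (iv6 D28634) (iv2 F27185)
theorem F52884 : act 4 n33588 = n16238 := d10_1 D33588 (iv6 D16238) D16236
def n33589 : Q := act 0 n16238
theorem D33589 : act 0 n16238 = n33589 := rfl
def n33590 : Q := act 1 n16238
theorem D33590 : act 1 n16238 = n33590 := rfl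
def n33591 : Q := act 5 n16238
theorem D33591 : act 5 n16238 = n33591 := rfl
theorem F52885 : act 3 n33591 = n16253 := d6_1 D33591 (iv5 D16253) (iv3 F25788)
def n33592 : Q := act 7 n16238
theorem D33592 : act 7 n16238 = n33592 := rfl
theorem F52886 : act 3 n33592 = n16254 := d8_1 D33592 (iv7 D16254) (iv3 F25788)
def n33593 : Q := act 3 n16240
theorem D33593 : act 3 n16240 = n33593 := rfl
theorem F52887 : act 4 n33593 = n32681 := d5_2 F25797 D33593 (iv3 D32681) (iv4 D15566) D15565
def n33594 : Q := act 6 n16240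
theorem D33594 : act 6 n16240 = n33594 := rfl
theorem F52888 : act 4 n33594 = n32680 := d10_1 D33594 (iv6 D32680) F25797
def n33595 : Q := act 6 n16241
theorem D33595 : act 6 n16241 = n33595 := rfl
def n33596 : Q := act 0 n16242
theorem D33596 : act 0 n16242 = n33596 := rfl
theorem F52889 : act 5 n33596 = n25573 := d19_1 D33596 (iv4 D25573) F20106 F8878 (iv5 D5145) (iv4 D2117) (iv3 F2339) F2340 F2136 F1571 F1570 F805 D493 D839 D1550 D3512 (iv5 F25818) D7568 D16242
def n33597 : Q := act 1 n16242
theorem D33597 : act 1 n16242 = n33597 := rfl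
def n33598 : Q := act 2 n16242
theorem D33598 : act 2 n16242 = n33598 := rfl
def n33599 : Q := act 5 n16242
theorem D33599 : act 5 n16242 = n33599 := rfl
theorem F52890 : act 3 n33599 = n16243 := d6_1 D33599 (iv5 D16243) D16242
def n33600 : Q := act 6 n16242
theorem D33600 : act 6 n16242 = n33600 := rfl
theorem F52891 : act 3 n33600 = n16244 := d7_1 D33600 (iv6 D16244) D16242
def n33601 : Q := act 0 n16243
theorem D33601 : act 0 n16243 = n33601 := rfl
theorem F52892 : act 5 n33601 = n32666 := d17_3 (iv1 D16241) D16243 D33601 (iv4 D32666) (iv5 D15543) (iv0 F26703) (iv5 F37310) (iv0 F52656) F52658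
theorem F52893 : act 1 n16262 = n33601 := d15_0 (iv0 D33601) (iv7 F44817) F44816
theorem F52894 : act 2 n33440 = n33601 := d2_3 F52892 F51749 D33440
theorem F52895 : act 7 n33438 = n33601 := d13_0 F52892 F51750 D33438
def n33602 : Q := act 1 n16243
theorem D33602 : act 1 n16243 = n33602 := rfl
theorem F52896 : act 1 n33602 = n16262 := d15_1 D33602 (iv7 F44849) F44848
theorem F52897 : act 7 n33602 = n33440 := d15_2 (iv0 D33601) D33602 F52894
theorem F52898 : act 5 n33602 = n33365 := d17_7 F25747 (iv5 D3515) D3512 (iv5 F25818) D7568 D16243 D33602 (iv0 D33365) (iv4 D16111)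
theorem F52899 : act 2 n33438 = n33602 := d2_3 F52898 (iv2 F52600) D33438
def n33603 : Q := act 6 n16243
theorem D33603 : act 6 n16243 = n33603 := rfl
def n33604 : Q := act 0 n16244
theorem D33604 : act 0 n16244 = n33604 := rfl
def n33605 : Q := act 1 n16244
theorem D33605 : act 1 n16244 = n33605 := rfl
def n33606 : Q := act 5 n16244
theorem D33606 : act 5 n16244 = n33606 := rfl
def n33607 : Q := act 7 n16244
theorem D33607 : act 7 n16244 = n33607 := rfl
theorem F52900 : act 4 n33607 = n16254 := d11_1 D33607 (iv7 D16254) (iv4 F25802)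
def n33608 : Q := act 2 n16251
theorem D33608 : act 2 n16251 = n33608 := rfl
theorem F52901 : act 7 n16252 = n33608 := d15_2 (iv0 D16251) D16252 (iv2 D33608)
def n33609 : Q := act 3 n16251
theorem D33609 : act 3 n16251 = n33609 := rfl
def n33610 : Q := act 4 n16251
theorem D33610 : act 4 n16251 = n33610 := rfl
def n33611 : Q := act 5 n16251
theorem D33611 : act 5 n16251 = n33611 := rfl
def n33612 : Q := act 6 n16251
theorem D33612 : act 6 n16251 = n33612 := rfl
def n33613 : Q := act 7 n16251
theorem D33613 : act 7 n16251 = n33613 := rfl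
theorem F52902 : act 2 n33613 = n16252 := d4_1 D33613 F52901 (iv2 D33608)
def n33614 : Q := act 3 n16252
theorem D33614 : act 3 n16252 = n33614 := rfl
def n33615 : Q := act 4 n16252
theorem D33615 : act 4 n16252 = n33615 := rfl
def n33616 : Q := act 5 n16252
theorem D33616 : act 5 n16252 = n33616 := rfl
def n33617 : Q := act 6 n16252
theorem D33617 : act 6 n16252 = n33617 := rfl
def n33618 : Q := act 0 n16253
theorem D33618 : act 0 n16253 = n33618 := rfl
def n33619 : Q := act 1 n16253
theorem D33619 : act 1 n16253 = n33619 := rfl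
theorem F52903 : act 5 n33540 = n33619 := d21_6 F9797 (iv1 F5419) D3440 D7557 D16203 D33540 (iv1 D33619) (iv5 D16253) (iv6 D7570) (iv1 F9799)
def n33620 : Q := act 4 n16253
theorem D33620 : act 4 n16253 = n33620 := rfl
def n33621 : Q := act 7 n16253
theorem D33621 : act 7 n16253 = n33621 := rfl
theorem F52904 : act 5 n33621 = n16254 := d13_1 D33621 (iv7 D16254) D16253
def n33622 : Q := act 4 n16258
theorem D33622 : act 4 n16258 = n33622 := rfl
theorem F52905 : act 2 n33622 = n16259 := d1_1 D33622 (iv4 D16259) D16258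
theorem F52906 : act 5 n33622 = n22281 := d9_2 F27153 D33622 (iv4 F34768) D22637 F44832 F44828 F27279 F26845 D27764 F44835 F34759 F25811 (iv4 D16259) F25813 (iv4 F24915)
theorem F52907 : act 7 n33622 = n22637 := d11_2 F44829 D33622 F44832
theorem F52908 : act 0 n33622 = n19613 := d17_0 (iv5 D19613) D19610 F35211 F35208 (iv5 D16107) F11814 D15668 F27189 D33622
theorem F52909 : act 1 n33622 = n22720 := d18_6 (iv1 F9226) (iv4 F12571) F26875 (iv4 F24915) F27153 D33622 F35290 F20833 (iv5 D7262)
def n33623 : Q := act 6 n16258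
theorem D33623 : act 6 n16258 = n33623 := rfl
theorem F52910 : act 2 n33623 = n16260 := d3_1 D33623 (iv6 D16260) D16258
theorem F52911 : act 3 n33623 = n16266 := d7_1 D33623 (iv6 F27290) F50740
theorem F52912 : act 5 n33623 = n16260 := d12_1 D33623 (iv6 D16260) F25813 (iv6 F50730) F27153
def n33624 : Q := act 3 n16259
theorem D33624 : act 3 n16259 = n33624 := rfl
theorem F52913 : act 4 n33624 = n16261 := d5_2 D16259 D33624 (iv3 D16261) (iv4 D7573) D7572
theorem F52914 : act 5 n33624 = n22633 := d6_2 F25811 D33624 (iv3 D22633)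
def n33625 : Q := act 6 n16259
theorem D33625 : act 6 n16259 = n33625 := rfl
theorem F52915 : act 4 n33625 = n16260 := d10_1 D33625 (iv6 D16260) D16259
def n33626 : Q := act 0 n16260
theorem D33626 : act 0 n16260 = n33626 := rfl
def n33627 : Q := act 1 n16260
theorem D33627 : act 1 n16260 = n33627 := rfl
def n33628 : Q := act 7 n16260
theorem D33628 : act 7 n16260 = n33628 := rfl
theorem F52916 : act 3 n33628 = n16267 := d8_1 D33628 (iv7 D16267) (iv3 F25827)
def n33629 : Q := act 0 n16261
theorem D33629 : act 0 n16261 = n33629 := rfl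
theorem F52917 : act 4 n33629 = n19584 := d20_8 F31307 (iv1 D18162) F13494 D10749 F25812 D33624 F52913 D33629 F31359 (iv1 F31304)
theorem F52918 : act 7 n22133 = n33629 := d11_0 F52917 F31360 D22133
def n33630 : Q := act 2 n16261
theorem D33630 : act 2 n16261 = n33630 := rfl
def n33631 : Q := act 5 n16261
theorem D33631 : act 5 n16261 = n33631 := rfl
theorem F52919 : act 3 n33631 = n16262 := d6_1 D33631 (iv5 D16262) D16261
def n33632 : Q := act 6 n16261
theorem D33632 : act 6 n16261 = n33632 := rfl
theorem F52920 : act 3 n33632 = n16263 := d7_1 D33632 (iv6 D16263) D16261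
def n33633 : Q := act 6 n16262
theorem D33633 : act 6 n16262 = n33633 := rfl
def n33634 : Q := act 0 n16263
theorem D33634 : act 0 n16263 = n33634 := rfl
def n33635 : Q := act 1 n16263
theorem D33635 : act 1 n16263 = n33635 := rfl
def n33636 : Q := act 5 n16263
theorem D33636 : act 5 n16263 = n33636 := rfl
def n33637 : Q := act 7 n16263
theorem D33637 : act 7 n16263 = n33637 := rfl
theorem F52921 : act 4 n33637 = n16267 := d11_1 D33637 (iv7 D16267) (iv4 F25828)
def n33638 : Q := act 2 n16264
theorem D33638 : act 2 n16264 = n33638 := rfl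
theorem F52922 : act 7 n16265 = n33638 := d15_2 (iv0 D16264) D16265 (iv2 D33638)
def n33639 : Q := act 3 n16264
theorem D33639 : act 3 n16264 = n33639 := rfl
def n33640 : Q := act 4 n16264
theorem D33640 : act 4 n16264 = n33640 := rfl
def n33641 : Q := act 5 n16264
theorem D33641 : act 5 n16264 = n33641 := rfl
def n33642 : Q := act 6 n16264
theorem D33642 : act 6 n16264 = n33642 := rfl
def n33643 : Q := act 7 n16264
theorem D33643 : act 7 n16264 = n33643 := rfl
theorem F52923 : act 2 n33643 = n16265 := d4_1 D33643 F52922 (iv2 D33638)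
def n33644 : Q := act 3 n16265
theorem D33644 : act 3 n16265 = n33644 := rfl
def n33645 : Q := act 4 n16265
theorem D33645 : act 4 n16265 = n33645 := rfl
def n33646 : Q := act 5 n16265
theorem D33646 : act 5 n16265 = n33646 := rfl
theorem F52924 : act 6 n33386 = n33646 := d21_5 (iv5 D16117) (iv1 D7527) D7529 D16122 D33386 (iv5 D33646) (iv1 D16265) D16266 (iv6 F27290) F50737
def n33647 : Q := act 6 n16265
theorem D33647 : act 6 n16265 = n33647 := rfl
def n33648 : Q := act 0 n16266
theorem D33648 : act 0 n16266 = n33648 := rfl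
def n33649 : Q := act 1 n16266
theorem D33649 : act 1 n16266 = n33649 := rfl
theorem F52925 : act 5 n33461 = n33649 := d21_6 (iv5 D1512) D1509 D3435 D7541 D16161 D33461 (iv1 D33649) (iv5 D16266) (iv6 D7575) (iv1 D3446)
def n33650 : Q := act 4 n16266
theorem D33650 : act 4 n16266 = n33650 := rfl
theorem F52926 : act 2 n33650 = n28637 := d1_1 D33650 F46201 F51015
theorem F52927 : act 6 n33650 = n28606 := d10_2 F27290 D33650 (iv4 F50741)
def n33651 : Q := act 7 n16266
theorem D33651 : act 7 n16266 = n33651 := rfl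
theorem F52928 : act 5 n33651 = n16267 := d13_1 D33651 (iv7 D16267) D16266
def n33652 : Q := act 0 n16269
theorem D33652 : act 0 n16269 = n33652 := rfl
def n33653 : Q := act 1 n16269
theorem D33653 : act 1 n16269 = n33653 := rfl
def n33654 : Q := act 2 n16269
theorem D33654 : act 2 n16269 = n33654 := rfl
def n33655 : Q := act 4 n16269
theorem D33655 : act 4 n16269 = n33655 := rfl
def n33656 : Q := act 5 n16269
theorem D33656 : act 5 n16269 = n33656 := rfl
theorem F52929 : act 3 n33656 = n16271 := d6_1 D33656 (iv5 D16271) D16269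
def n33657 : Q := act 6 n16269
theorem D33657 : act 6 n16269 = n33657 := rfl
theorem F52930 : act 3 n33657 = n16272 := d7_1 D33657 (iv6 D16272) D16269
def n33658 : Q := act 6 n16270
theorem D33658 : act 6 n16270 = n33658 := rfl
theorem F52931 : act 4 n33658 = n16272 := d10_1 D33658 (iv6 D16272) D16270
def n33659 : Q := act 0 n16271
theorem D33659 : act 0 n16271 = n33659 := rfl
theorem F52932 : act 5 n33659 = n26781 := d17_3 D7576 D16271 D33659 F43040 F21274 (iv0 D7735) (iv5 F25818) (iv0 D3445) D3447
theorem F52933 : act 4 n33659 = n32788 := d18_1 D33659 F51906 F46198 (iv5 D16262) (iv4 D7573) F9801 (iv4 F21943) F21945 D16271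
theorem F52934 : act 2 n26782 = n33659 := d15_3 (iv0 D33659) (iv0 F43058) (iv7 F43070)
theorem F52935 : act 1 n16276 = n33659 := d15_0 (iv0 D33659) (iv7 F44430) F44429
theorem F52936 : act 7 n33659 = n33431 := d15_2 F27291 F52935 F52711
def n33660 : Q := act 6 n16271
theorem D33660 : act 6 n16271 = n33660 := rfl
def n33661 : Q := act 0 n16272
theorem D33661 : act 0 n16272 = n33661 := rfl
def n33662 : Q := act 1 n16272
theorem D33662 : act 1 n16272 = n33662 := rfl
def n33663 : Q := act 5 n16272
theorem D33663 : act 5 n16272 = n33663 := rfl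
def n33664 : Q := act 7 n16272
theorem D33664 : act 7 n16272 = n33664 := rfl
def n33665 : Q := act 0 n16274
theorem D33665 : act 0 n16274 = n33665 := rfl
def n33666 : Q := act 1 n16274
theorem D33666 : act 1 n16274 = n33666 := rfl
def n33667 : Q := act 2 n16274
theorem D33667 : act 2 n16274 = n33667 := rfl
theorem F52937 : act 4 n33667 = n33091 := d16_0 (iv5 D33091) (iv4 F51724) (iv5 D32656) (iv4 F26714) (iv5 F35196) D33057 (iv5 F52280) F44433 D33667
theorem F52938 : act 5 n33059 = n33667 := d9_0 F52937 (iv5 D33091) (iv4 F51724) (iv5 D32656) (iv4 F26714) (iv5 F35196) D33057 (iv5 F52280) (iv4 F52315) (iv5 D33094) (iv4 F25479) (iv5 F26882) F26415 (iv5 F35191) D33059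
def n33668 : Q := act 4 n16274
theorem D33668 : act 4 n16274 = n33668 := rfl
theorem F52939 : act 2 n33668 = n33091 := d1_1 D33668 (iv4 F52937) (iv2 D33667)
theorem F52940 : act 3 n33668 = n18991 := d5_1 D33668 (iv4 D18991) (iv3 F25831) (iv4 D16275) D16274
theorem F52941 : act 7 n33668 = n33094 := d11_2 F44433 D33668 F52315
theorem F52942 : act 5 n26450 = n33668 := d13_3 F52941 (iv5 D33094) (iv7 F42304)
theorem F52943 : act 0 n33668 = n16323 := d17_2 (iv1 F42302) F52942 (iv5 D16323) (iv4 D7589) F5429 D3592 D7937 F27841 D15930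
def n33669 : Q := act 5 n16274
theorem D33669 : act 5 n16274 = n33669 := rfl
theorem F52944 : act 2 n33669 = n33059 := d2_1 D33669 F52938 (iv2 D33667)
theorem F52945 : act 3 n33669 = n16276 := d6_1 D33669 (iv5 D16276) D16274
theorem F52946 : act 7 n33669 = n33057 := d13_2 F44433 D33669 (iv5 F52280)
theorem F52947 : act 4 n33669 = n16925 := d16_4 F42303 F52942 (iv4 D33668) D33669 (iv5 D16925) D16924 (iv5 F46147) (iv7 F51722) F51720
def n33670 : Q := act 6 n16274
theorem D33670 : act 6 n16274 = n33670 := rfl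
theorem F52948 : act 3 n33670 = n16277 := d7_1 D33670 (iv6 D16277) D16274
def n33671 : Q := act 6 n16276
theorem D33671 : act 6 n16276 = n33671 := rfl
def n33672 : Q := act 0 n16277
theorem D33672 : act 0 n16277 = n33672 := rfl
def n33673 : Q := act 1 n16277
theorem D33673 : act 1 n16277 = n33673 := rfl
def n33674 : Q := act 5 n16277
theorem D33674 : act 5 n16277 = n33674 := rfl
def n33675 : Q := act 7 n16277
theorem D33675 : act 7 n16277 = n33675 := rfl
def n33676 : Q := act 3 n16278
theorem D33676 : act 3 n16278 = n33676 := rfl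
def n33677 : Q := act 6 n16278
theorem D33677 : act 6 n16278 = n33677 := rfl
def n33678 : Q := act 6 n16279
theorem D33678 : act 6 n16279 = n33678 := rfl
def n33679 : Q := act 3 n16280
theorem D33679 : act 3 n16280 = n33679 := rfl
theorem F52949 : act 4 n33679 = n27432 := d5_2 D16280 D33679 F44349 (iv4 F21962) F21961
def n33680 : Q := act 6 n16280
theorem D33680 : act 6 n16280 = n33680 := rfl
theorem F52950 : act 4 n33680 = n16281 := d10_1 D33680 (iv6 D16281) D16280
def n33681 : Q := act 0 n16281
theorem D33681 : act 0 n16281 = n33681 := rfl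
def n33682 : Q := act 1 n16281
theorem D33682 : act 1 n16281 = n33682 := rfl
def n33683 : Q := act 5 n16281
theorem D33683 : act 5 n16281 = n33683 := rfl
theorem F52951 : act 6 n33683 = n16284 := d12_2 D16281 D33683 (iv5 D16284) (iv6 D7579) D7578
def n33684 : Q := act 7 n16281
theorem D33684 : act 7 n16281 = n33684 := rfl
def n33685 : Q := act 2 n16282
theorem D33685 : act 2 n16282 = n33685 := rfl
theorem F52952 : act 7 n16283 = n33685 := d15_2 (iv0 D16282) D16283 (iv2 D33685)
def n33686 : Q := act 3 n16282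
theorem D33686 : act 3 n16282 = n33686 := rfl
def n33687 : Q := act 4 n16282
theorem D33687 : act 4 n16282 = n33687 := rfl
def n33688 : Q := act 5 n16282
theorem D33688 : act 5 n16282 = n33688 := rfl
def n33689 : Q := act 6 n16282
theorem D33689 : act 6 n16282 = n33689 := rfl
def n33690 : Q := act 7 n16282
theorem D33690 : act 7 n16282 = n33690 := rfl
theorem F52953 : act 2 n33690 = n16283 := d4_1 D33690 F52952 (iv2 D33685)
def n33691 : Q := act 3 n16283
theorem D33691 : act 3 n16283 = n33691 := rfl
def n33692 : Q := act 4 n16283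
theorem D33692 : act 4 n16283 = n33692 := rfl
def n33693 : Q := act 5 n16283
theorem D33693 : act 5 n16283 = n33693 := rfl
def n33694 : Q := act 6 n16283
theorem D33694 : act 6 n16283 = n33694 := rfl
def n33695 : Q := act 0 n16284
theorem D33695 : act 0 n16284 = n33695 := rfl
def n33696 : Q := act 1 n16284
theorem D33696 : act 1 n16284 = n33696 := rfl
def n33697 : Q := act 4 n16284
theorem D33697 : act 4 n16284 = n33697 := rfl
def n33698 : Q := act 7 n16284
theorem D33698 : act 7 n16284 = n33698 := rfl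
theorem F52954 : act 5 n33698 = n16285 := d13_1 D33698 (iv7 D16285) D16284
def n33701 : Q := act 3 n16286
theorem D33701 : act 3 n16286 = n33701 := rfl
theorem F52957 : act 7 n33701 = n16292 := d8_2 F25833 D33701 (iv3 D16292)
def n33702 : Q := act 4 n16286
theorem D33702 : act 4 n16286 = n33702 := rfl
theorem F52958 : act 2 n33702 = n16288 := d1_1 D33702 (iv4 D16288) D16286
theorem F52959 : act 7 n33702 = n16293 := d11_2 F25833 D33702 (iv4 D16293)
def n33703 : Q := act 5 n16286
theorem D33703 : act 5 n16286 = n33703 := rfl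
theorem F52960 : act 2 n33703 = n16289 := d2_1 D33703 (iv5 D16289) D16286
theorem F52961 : act 7 n33703 = n16294 := d13_2 F25833 D33703 (iv5 D16294)
def n33704 : Q := act 6 n16286
theorem D33704 : act 6 n16286 = n33704 := rfl
theorem F52962 : act 2 n33704 = n16290 := d3_1 D33704 (iv6 D16290) D16286
def n33705 : Q := act 0 n16287
theorem D33705 : act 0 n16287 = n33705 := rfl
def n33706 : Q := act 1 n16287
theorem D33706 : act 1 n16287 = n33706 := rfl
def n33707 : Q := act 2 n16287
theorem D33707 : act 2 n16287 = n33707 := rfl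
def n33708 : Q := act 4 n16287
theorem D33708 : act 4 n16287 = n33708 := rfl
theorem F52963 : act 0 n33708 = n28645 := d20_7 F37327 (iv1 D6310) F4243 (iv3 F5427) D7580 D16287 D33708 F46212 F22814 (iv1 F18165)
def n33709 : Q := act 5 n16287
theorem D33709 : act 5 n16287 = n33709 := rfl
theorem F52964 : act 3 n33709 = n16289 := d6_1 D33709 (iv5 D16289) D16287
def n33710 : Q := act 6 n16287
theorem D33710 : act 6 n16287 = n33710 := rfl
theorem F52965 : act 3 n33710 = n16290 := d7_1 D33710 (iv6 D16290) D16287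
def n33711 : Q := act 7 n16287
theorem D33711 : act 7 n16287 = n33711 := rfl
theorem F52966 : act 3 n33711 = n16291 := d8_1 D33711 (iv7 D16291) D16287
def n33712 : Q := act 0 n16288
theorem D33712 : act 0 n16288 = n33712 := rfl
def n33713 : Q := act 1 n16288
theorem D33713 : act 1 n16288 = n33713 := rfl
theorem F52967 : act 1 n33713 = n16293 := d15_1 D33713 (iv7 F52959) F52958
def n33714 : Q := act 3 n16288
theorem D33714 : act 3 n16288 = n33714 := rfl
def n33715 : Q := act 5 n16288
theorem D33715 : act 5 n16288 = n33715 := rfl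
def n33716 : Q := act 6 n16288
theorem D33716 : act 6 n16288 = n33716 := rfl
theorem F52968 : act 4 n33716 = n16290 := d10_1 D33716 (iv6 D16290) D16288
def n33717 : Q := act 7 n16288
theorem D33717 : act 7 n16288 = n33717 := rfl
theorem F52969 : act 2 n33717 = n16293 := d4_1 D33717 (iv7 F52959) F52958
theorem F52970 : act 4 n33717 = n16291 := d11_1 D33717 (iv7 D16291) D16288
theorem F52971 : act 1 n16293 = n33712 := d15_0 (iv0 D33712) D33717 F52969
def n33718 : Q := act 0 n16289
theorem D33718 : act 0 n16289 = n33718 := rfl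
theorem F52972 : act 5 n33718 = n33545 := d21_2 D16289 D33718 (iv6 D33545) (iv1 D16204) (iv6 D7557) (iv5 D3440) (iv1 D1510) D1512 D3448 D7580
def n33719 : Q := act 1 n16289
theorem D33719 : act 1 n16289 = n33719 := rfl
theorem F52973 : act 1 n33719 = n16294 := d15_1 D33719 (iv7 F52961) F52960
def n33720 : Q := act 4 n16289
theorem D33720 : act 4 n16289 = n33720 := rfl
def n33721 : Q := act 6 n16289
theorem D33721 : act 6 n16289 = n33721 := rfl
def n33722 : Q := act 7 n16289
theorem D33722 : act 7 n16289 = n33722 := rfl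
theorem F52974 : act 2 n33722 = n16294 := d4_1 D33722 (iv7 F52961) F52960
theorem F52975 : act 5 n33722 = n16291 := d13_1 D33722 (iv7 D16291) D16289
theorem F52976 : act 1 n16294 = n33718 := d15_0 (iv0 D33718) D33722 F52974
def n33723 : Q := act 0 n16290
theorem D33723 : act 0 n16290 = n33723 := rfl
def n33724 : Q := act 1 n16290
theorem D33724 : act 1 n16290 = n33724 := rfl
def n33725 : Q := act 5 n16290
theorem D33725 : act 5 n16290 = n33725 := rfl
theorem F52977 : act 0 n33725 = n33435 := d21_7 (iv5 D3440) (iv1 D1510) D1512 D3448 D7580 D16290 D33725 (iv5 D33435) (iv6 D16149) (iv1 F11780)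
def n33726 : Q := act 7 n16290
theorem D33726 : act 7 n16290 = n33726 := rfl
def n33727 : Q := act 6 n16291
theorem D33727 : act 6 n16291 = n33727 := rfl
theorem F52978 : act 2 n33727 = n16295 := d3_1 D33727 (iv6 D16295) (iv2 F25834)
def n33728 : Q := act 0 n16292
theorem D33728 : act 0 n16292 = n33728 := rfl
def n33729 : Q := act 1 n16292
theorem D33729 : act 1 n16292 = n33729 := rfl
def n33730 : Q := act 2 n16292
theorem D33730 : act 2 n16292 = n33730 := rfl
def n33731 : Q := act 4 n16292
theorem D33731 : act 4 n16292 = n33731 := rfl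
def n33732 : Q := act 5 n16292
theorem D33732 : act 5 n16292 = n33732 := rfl
theorem F52979 : act 3 n33732 = n16294 := d6_1 D33732 (iv5 D16294) D16292
def n33733 : Q := act 6 n16292
theorem D33733 : act 6 n16292 = n33733 := rfl
theorem F52980 : act 3 n33733 = n16295 := d7_1 D33733 (iv6 D16295) D16292
def n33734 : Q := act 3 n16293
theorem D33734 : act 3 n16293 = n33734 := rfl
def n33735 : Q := act 5 n16293
theorem D33735 : act 5 n16293 = n33735 := rfl
def n33736 : Q := act 6 n16293
theorem D33736 : act 6 n16293 = n33736 := rfl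
theorem F52981 : act 4 n33736 = n16295 := d10_1 D33736 (iv6 D16295) D16293
def n33737 : Q := act 4 n16294
theorem D33737 : act 4 n16294 = n33737 := rfl
def n33738 : Q := act 6 n16294
theorem D33738 : act 6 n16294 = n33738 := rfl
def n33739 : Q := act 0 n16295
theorem D33739 : act 0 n16295 = n33739 := rfl
def n33740 : Q := act 1 n16295
theorem D33740 : act 1 n16295 = n33740 := rfl
def n33741 : Q := act 5 n16295
theorem D33741 : act 5 n16295 = n33741 := rfl
theorem F52982 : act 0 n33460 = n33741 := d21_1 D33460 (iv5 D33741) (iv6 D16295) (iv1 D7581) (iv6 D3448) (iv5 D1512) D1509 D3435 D7541 D16161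
def n33742 : Q := act 7 n16295
theorem D33742 : act 7 n16295 = n33742 := rfl
def n33743 : Q := act 0 n16299
theorem D33743 : act 0 n16299 = n33743 := rfl
theorem F52983 : act 1 n16304 = n33743 := d15_0 (iv0 D33743) (iv7 F51005) (iv2 F51006)
def n33744 : Q := act 1 n16299
theorem D33744 : act 1 n16299 = n33744 := rfl
theorem F52984 : act 1 n33744 = n16304 := d15_1 D33744 (iv7 F51156) F51155
def n33745 : Q := act 4 n16299
theorem D33745 : act 4 n16299 = n33745 := rfl
theorem F52985 : act 7 n33745 = n33527 := d11_2 F51005 D33745 (iv4 D33527)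
def n33746 : Q := act 6 n16299
theorem D33746 : act 6 n16299 = n33746 := rfl
def n33747 : Q := act 4 n16304
theorem D33747 : act 4 n16304 = n33747 := rfl
theorem F52986 : act 2 n33747 = n33527 := d1_1 D33747 (iv4 D33527) (iv2 F51006)
def n33748 : Q := act 6 n16304
theorem D33748 : act 6 n16304 = n33748 := rfl
theorem F52987 : act 2 n33748 = n33523 := d3_1 D33748 F52842 (iv2 F51006)
theorem F52988 : act 5 n33748 = n33421 := d12_1 D33748 (iv6 D33421) F25679 F50779 D16304
def n33749 : Q := act 3 n16306
theorem D33749 : act 3 n16306 = n33749 := rfl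
def n33750 : Q := act 4 n16306
theorem D33750 : act 4 n16306 = n33750 := rfl
theorem F52989 : act 0 n33750 = n32930 := d18_2 D16306 D33750 (iv4 D32930) (iv5 D15859) (iv4 F20959) (iv0 F50786) F50788 (iv0 D7583) D7585
theorem E5513 : n33749 = n32972 := ((c20_5 D26062 F41214 (iv4 D15880) (iv3 F25347) D32972 (iv3 D33749) D33750 F52989 (iv4 D32930) F25329 (iv1 F20525))).symm
theorem F52990 : act 3 n32972 = n16306 := (sb E5513 (iv3 D33749))
def n33751 : Q := act 6 n16306
theorem D33751 : act 6 n16306 = n33751 := rfl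
def n33752 : Q := act 3 n16307
theorem D33752 : act 3 n16307 = n33752 := rfl
def n33753 : Q := act 4 n16307
theorem D33753 : act 4 n16307 = n33753 := rfl
def n33754 : Q := act 5 n16307
theorem D33754 : act 5 n16307 = n33754 := rfl
theorem F52991 : act 7 n33754 = n29106 := d13_2 (iv7 F51161) D33754 F51159
theorem F52992 : act 6 n33754 = n31529 := d21_3 D32066 (iv1 F50693) D33754 F49873 (iv6 D16624) (iv5 F27113) (iv1 F52645) F52643 F50789 (iv1 F24741)
theorem F52993 : act 4 n31531 = n33754 := d10_3 F52992 (iv4 D31529) D31531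
def n33755 : Q := act 6 n16307
theorem D33755 : act 6 n16307 = n33755 := rfl
def n33756 : Q := act 0 n16308
theorem D33756 : act 0 n16308 = n33756 := rfl
def n33757 : Q := act 1 n16308
theorem D33757 : act 1 n16308 = n33757 := rfl
def n33758 : Q := act 3 n16308
theorem D33758 : act 3 n16308 = n33758 := rfl
theorem F52994 : act 4 n33758 = n16447 := d5_2 D16308 D33758 (iv3 D16447) (iv4 D7626) (iv3 F11825)
def n33759 : Q := act 5 n16308
theorem D33759 : act 5 n16308 = n33759 := rfl
def n33760 : Q := act 3 n16319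
theorem D33760 : act 3 n16319 = n33760 := rfl
theorem F52995 : act 2 n33760 = n17451 := d0_1 D33760 (iv3 D17451) F12984 (iv3 F11827) (iv2 F25841)
def n33761 : Q := act 5 n16319
theorem D33761 : act 5 n16319 = n33761 := rfl
theorem F52996 : act 2 n33761 = n16323 := d2_1 D33761 (iv5 D16323) (iv2 F25841)
theorem F52997 : act 4 n33761 = n27457 := d16_2 D16319 D33761 F44376 (iv4 D26988) (iv5 D12919) F9522 (iv5 F9352) F9353 D7588
theorem F52998 : act 1 n33761 = n33091 := d17_6 D7472 (iv5 F35185) (iv1 F9532) (iv5 F11826) D16319 D33761 (iv5 D33091) (iv0 D15961) (iv4 D7474)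
theorem F52999 : act 1 n33094 = n33761 := d18_6 F46134 (iv4 D15945) D15943 D33057 (iv5 F52280) (iv4 F52315) F52997 (iv0 D27457) D27460
def n33762 : Q := act 6 n16319
theorem D33762 : act 6 n16319 = n33762 := rfl
theorem F53000 : act 2 n33762 = n16324 := d3_1 D33762 (iv6 D16324) (iv2 F25841)
theorem F53001 : act 4 n33762 = n16320 := d10_1 D33762 (iv6 D16320) D16319
def n33763 : Q := act 0 n16320
theorem D33763 : act 0 n16320 = n33763 := rfl
def n33764 : Q := act 1 n16320
theorem D33764 : act 1 n16320 = n33764 := rfl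
theorem F53002 : act 1 n33764 = n16328 := d15_1 D33764 (iv7 D16328) (iv2 F25842)
def n33765 : Q := act 5 n16320
theorem D33765 : act 5 n16320 = n33765 := rfl
theorem F53003 : act 2 n33765 = n16327 := d2_1 D33765 (iv5 D16327) (iv2 F25842)
theorem F53004 : act 6 n33765 = n17001 := d12_2 D16320 D33765 (iv5 D17001) (iv6 D7939) (iv5 F11826)
def n33766 : Q := act 7 n16320
theorem D33766 : act 7 n16320 = n33766 := rfl
theorem F53005 : act 2 n33766 = n16328 := d4_1 D33766 (iv7 D16328) (iv2 F25842)
theorem F53006 : act 1 n16328 = n33763 := d15_0 (iv0 D33763) D33766 F53005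
theorem F53007 : act 1 n16326 = n33766 := d15_1 D16326 (iv7 D33766) F25842
theorem F53008 : act 1 n33766 = n16325 := d15_0 (iv0 D16325) D16328 (iv2 F53005)
def n33767 : Q := act 3 n16321
theorem D33767 : act 3 n16321 = n33767 := rfl
def n33768 : Q := act 6 n16321
theorem D33768 : act 6 n16321 = n33768 := rfl
def n33769 : Q := act 3 n16322
theorem D33769 : act 3 n16322 = n33769 := rfl
theorem F53009 : act 4 n33769 = n32675 := d5_2 F25843 D33769 (iv3 D32675) (iv4 D15561) D15560
theorem F53010 : act 5 n33769 = n32418 := d6_2 F52319 D33769 F52320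
def n33770 : Q := act 6 n16322
theorem D33770 : act 6 n16322 = n33770 := rfl
theorem F53011 : act 4 n33770 = n32674 := d10_1 D33770 (iv6 D32674) F25843
def n33771 : Q := act 0 n16323
theorem D33771 : act 0 n16323 = n33771 := rfl
theorem F53012 : act 5 n33771 = n26449 := d17_3 (iv1 D16322) D16323 D33771 (iv4 F46148) F46147 F27756 (iv5 F46162) F52276 F25843
theorem F53013 : act 2 n33094 = n33771 := d15_3 (iv0 D33771) (iv0 F52943) F52941
theorem F53014 : act 7 n33771 = n33091 := d4_2 F52941 F53013 (iv2 F52939)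
def n33772 : Q := act 4 n16323
theorem D33772 : act 4 n16323 = n33772 := rfl
theorem F53015 : act 2 n33772 = n27457 := d1_1 D33772 (iv4 F52997) F52996
theorem F53016 : act 7 n33772 = n27458 := d11_2 F42683 D33772 (iv4 F44377)
theorem F53017 : act 0 n33772 = n27416 := d18_2 F52943 D33772 F44314 F30269 (iv4 D16982) F27839 D12625 D26450 F52942
def n33773 : Q := act 6 n16323
theorem D33773 : act 6 n16323 = n33773 := rfl
theorem F53018 : act 3 n33773 = n17483 := d7_1 D33773 (iv6 D17483) (iv3 F25844)
def n33774 : Q := act 0 n16324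
theorem D33774 : act 0 n16324 = n33774 := rfl
def n33775 : Q := act 1 n16324
theorem D33775 : act 1 n16324 = n33775 := rfl
def n33776 : Q := act 5 n16324
theorem D33776 : act 5 n16324 = n33776 := rfl
def n33777 : Q := act 7 n16324
theorem D33777 : act 7 n16324 = n33777 := rfl
theorem F53020 : act 3 n33777 = n17487 := d8_1 D33777 (iv7 D17487) (iv3 F25845)
theorem F53021 : act 4 n33777 = n16328 := d11_1 D33777 (iv7 D16328) (iv4 F25846)
def n33778 : Q := act 2 n16325
theorem D33778 : act 2 n16325 = n33778 := rfl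
theorem F53022 : act 7 n16326 = n33778 := d15_2 (iv0 D16325) D16326 (iv2 D33778)
def n33779 : Q := act 3 n16325
theorem D33779 : act 3 n16325 = n33779 := rfl
def n33780 : Q := act 4 n16325
theorem D33780 : act 4 n16325 = n33780 := rfl
def n33781 : Q := act 5 n16325
theorem D33781 : act 5 n16325 = n33781 := rfl
def n33782 : Q := act 6 n16325
theorem D33782 : act 6 n16325 = n33782 := rfl
def n33783 : Q := act 7 n16325
theorem D33783 : act 7 n16325 = n33783 := rfl
theorem F53023 : act 2 n33783 = n16326 := d4_1 D33783 F53022 (iv2 D33778)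
def n33784 : Q := act 3 n16326
theorem D33784 : act 3 n16326 = n33784 := rfl
def n33785 : Q := act 4 n16326
theorem D33785 : act 4 n16326 = n33785 := rfl
def n33786 : Q := act 5 n16326
theorem D33786 : act 5 n16326 = n33786 := rfl
def n33787 : Q := act 6 n16326
theorem D33787 : act 6 n16326 = n33787 := rfl
def n33788 : Q := act 0 n16327
theorem D33788 : act 0 n16327 = n33788 := rfl
def n33789 : Q := act 1 n16327
theorem D33789 : act 1 n16327 = n33789 := rfl
def n33790 : Q := act 4 n16327
theorem D33790 : act 4 n16327 = n33790 := rfl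
theorem F53024 : act 6 n33790 = n17015 := d10_2 (iv6 F25848) D33790 (iv4 D17015)
def n33791 : Q := act 7 n16327
theorem D33791 : act 7 n16327 = n33791 := rfl
theorem F53025 : act 3 n33791 = n16342 := d8_1 D33791 (iv7 D16342) (iv3 F25847)
theorem F53026 : act 5 n33791 = n16328 := d13_1 D33791 (iv7 D16328) D16327
def n33792 : Q := act 0 n16330
theorem D33792 : act 0 n16330 = n33792 := rfl
def n33793 : Q := act 1 n16330
theorem D33793 : act 1 n16330 = n33793 := rfl
def n33794 : Q := act 2 n16330
theorem D33794 : act 2 n16330 = n33794 := rfl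
def n33795 : Q := act 4 n16330
theorem D33795 : act 4 n16330 = n33795 := rfl
theorem F53027 : act 3 n33795 = n18593 := d5_1 D33795 (iv4 D18593) (iv3 D8733) F42181 D16330
def n33796 : Q := act 5 n16330
theorem D33796 : act 5 n16330 = n33796 := rfl
theorem F53028 : act 3 n33796 = n16332 := d6_1 D33796 (iv5 D16332) D16330
def n33797 : Q := act 6 n16330
theorem D33797 : act 6 n16330 = n33797 := rfl
theorem F53029 : act 3 n33797 = n16333 := d7_1 D33797 (iv6 D16333) D16330
def n33798 : Q := act 0 n16332
theorem D33798 : act 0 n16332 = n33798 := rfl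
theorem F53030 : act 5 n33798 = n16676 := d17_3 D7591 D16332 D33798 (iv4 F28976) (iv5 F28538) (iv0 D17543) (iv5 D8245) (iv0 D3710) (iv4 F5430)
theorem F53031 : act 1 n16337 = n33798 := d15_0 (iv0 D33798) (iv7 F42654) F42653
theorem F53032 : act 1 n16676 = n26467 := d17_8 F29832 (iv5 F29830) (iv1 F29831) (iv5 D8740) F42185 D16337 F53031 F53030 F42324
theorem F53033 : act 0 n26627 = n32538 := d18_2 (iv1 D26626) D26627 (iv4 D32538) D32539 F51612 F30429 F28976 F53032 F42656
def n33799 : Q := act 1 n16332
theorem D33799 : act 1 n16332 = n33799 := rfl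
theorem F53034 : act 1 n33799 = n16337 := d15_1 D33799 F42651 F42649
def n33800 : Q := act 4 n16332
theorem D33800 : act 4 n16332 = n33800 := rfl
def n33801 : Q := act 6 n16332
theorem D33801 : act 6 n16332 = n33801 := rfl
def n33802 : Q := act 1 n16333
theorem D33802 : act 1 n16333 = n33802 := rfl
theorem F53035 : act 1 n33802 = n16417 := d15_1 D33802 (iv7 F42644) F42636
theorem F53036 : act 7 n33802 = n16405 := d15_2 (iv0 F42199) D33802 F25896
theorem F53037 : act 4 n33802 = n17549 := d17_9 (iv1 D17549) F21723 (iv1 D13038) (iv5 D6201) (iv4 F9300) D12603 D26415 (iv5 F42162) D33802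
theorem F53038 : act 5 n33151 = n33802 := d17_3 (iv1 F20988) D15991 (iv1 F52376) F53037 (iv5 F43461) F28982 (iv5 D8404) F9660 (iv4 F20985)
theorem F53039 : act 6 n33151 = n29680 := d21_3 (iv5 F42169) (iv1 F53035) (iv5 F53038) (iv1 D29680) (iv6 D14101) (iv5 D6703) (iv1 F4983) D5987 (iv6 F20983) D26414
theorem F53040 : act 2 n16420 = n33802 := d4_3 F53036 F25896 D16420
theorem F53041 : act 6 n16404 = n33802 := d14_5 F53036 (iv6 D16405) (iv7 D7609) D7608 D16404
theorem F53042 : act 4 n26946 = n16404 := d10_3 F53041 F53037 (iv6 F43460)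
theorem F53043 : act 5 n16631 = n16404 := d21_2 (iv5 F12032) D16631 F53041 (iv1 D33802) (iv6 D16333) D16332 D33798 F53030 (iv6 D16676) (iv1 D7755)
theorem F53044 : act 0 n16404 = n26666 := d21_4 D15991 (iv1 F52376) F53038 (iv6 F53041) (iv6 F42734) (iv5 F42330) (iv1 F42333) F25601 (iv6 F20986) (iv1 F20988)
theorem F53045 : act 1 n16404 = n26643 := d15_1 (iv0 F53044) F42699 (iv2 F42735)
theorem E5514 : n16382 = n12738 := (c15_4 D26666 (iv0 F53044) (iv7 D16404) (iv2 F25881))
theorem E5515 : n26652 = n7608 := (((iv2 F42719)).symm.trans (sb E5514 F25881))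
theorem E5516 : n7604 = n6023 := ((((iv6 D12738)).symm.trans (sb E5514 (iv6 D16382)))).symm
theorem F53046 : act 2 n7608 = n12738 := (sb E5515 F42719)
theorem E5517 : n12734 = n3454 := ((((iv6 D7608)).symm.trans (sb E5515 (iv6 D26652)))).symm
theorem E5520 : n16379 = n12735 := (((D12735).symm.trans (sb E5516 D16379))).symm
theorem E5521 : n16380 = n8916 := (((F41667).symm.trans (sb E5516 D16380))).symm
theorem E5522 : n16381 = n12737 := (((D12737).symm.trans (sb E5516 D16381))).symm
theorem E5523 : n12739 = n3455 := ((D12739).symm.trans (sb E5516 (iv7 F11836)))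
theorem F53047 : act 2 n3454 = n6023 := (sb E5517 (iv2 D12734))
theorem E5526 : n26650 = n7605 := (((D7605).symm.trans (sb E5517 D26650))).symm
theorem E5527 : n19036 = n7606 := (((D7606).symm.trans (sb E5517 (iv4 F41669)))).symm
theorem E5528 : n26651 = n7607 := (((D7607).symm.trans (sb E5517 D26651))).symm
theorem E5529 : n7609 = n6024 := ((D7609).symm.trans (sb E5517 (iv7 F21146)))
theorem E5530 : n26659 = n7610 := ((D26659).symm.trans (sb E5520 F25876))
theorem E5531 : n19041 = n7611 := ((D19041).symm.trans (sb E5521 F25878))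
theorem E5532 : n26664 = n7612 := ((D26664).symm.trans (sb E5522 F25880))
theorem F53048 : act 7 n3455 = n6023 := (sb E5523 (iv7 D12739))
theorem E5534 : n16389 = n12740 := ((D16389).symm.trans (sb E5526 F42716))
theorem F53049 : act 2 n7606 = n8916 := (sb E5527 (iv2 D19036))
theorem E5535 : n16395 = n8917 := ((D16395).symm.trans (sb E5527 (iv7 F30543)))
theorem F53050 : act 2 n7607 = n12737 := (sb E5528 F42717)
theorem E5536 : n16400 = n12742 := ((D16400).symm.trans (sb E5528 F42718))
theorem F53051 : act 2 n6024 = n3455 := (sb E5529 F11837)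
theorem E5537 : n16405 = n12743 := (((D12743).symm.trans (sb E5529 D16405))).symm
theorem F53052 : act 7 n6024 = n3454 := (sb E5529 (iv7 D7609))
theorem F53053 : act 7 n7610 = n12735 := (sb E5530 (iv7 D26659))
theorem F53054 : act 7 n7611 = n8916 := (sb E5531 (iv7 D19041))
theorem F53055 : act 7 n7612 = n12737 := (sb E5532 (iv7 D26664))
theorem F53056 : act 7 n12740 = n7605 := (sb E5534 (iv7 D16389))
theorem F53057 : act 2 n8917 = n7611 := (sb E5535 F25887)
theorem F53058 : act 7 n8917 = n7606 := (sb E5535 (iv7 D16395))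
theorem F53059 : act 2 n12742 = n7612 := (sb E5536 F25892)
theorem F53060 : act 7 n12742 = n7607 := (sb E5536 (iv7 D16400))
theorem F53061 : act 2 n12743 = n7613 := (sb E5537 F25896)
theorem E5538 : n33802 = n26679 := (((D26679).symm.trans (sb E5537 (iv7 F53036)))).symm
theorem F53062 : act 0 n26679 = n16333 := (sb E5538 (iv1 D33802))
theorem F53063 : act 1 n26679 = n16417 := (sb E5538 F53035)
theorem F53064 : act 2 n26679 = n16420 := (sb E5538 (iv2 F53040))
theorem F53065 : act 4 n26679 = n17549 := (sb E5538 F53037)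
theorem F53066 : act 5 n26679 = n33151 := (sb E5538 (iv5 F53038))
theorem F53067 : act 6 n26679 = n16404 := (sb E5538 (iv6 F53041))
theorem F53068 : act 7 n33151 = n26678 := d13_2 D26679 F53066 (iv5 D26678)
theorem F53069 : act 2 n26678 = n16419 := d15_3 (iv0 F25901) D33151 F53068
theorem F53070 : act 7 n17549 = n19045 := d11_2 D26679 F53065 F41673
theorem F53071 : act 7 n27202 = n17816 := d13_2 F53070 (iv5 F43976) F43461
theorem F53072 : act 7 n16394 = n26946 := d14_4 F53070 (iv6 D19045) F53058 D16394 F43460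
theorem F53073 : act 2 n19045 = n16414 := d15_3 F43771 D17549 F53070
theorem F53074 : act 2 n17549 = n27088 := d15_3 F43761 (iv0 F30551) (iv7 F53070)
theorem F53075 : act 4 n27088 = n16420 := d1_2 F53065 F53074 (iv2 F53064)
theorem F53076 : act 2 n27203 = n17816 := d2_3 F43461 F53074 F43979
theorem F53077 : act 2 n17307 = n26946 := d3_3 F43460 F53074 (iv6 F43762)
theorem F53078 : act 7 n27088 = n16414 := d4_2 (iv7 F53070) F53074 (iv2 F53073)
theorem F53079 : act 7 n17815 = n27203 := d13_2 F53078 (iv5 F28952) (iv5 F43979)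
theorem F53080 : act 7 n19040 = n17307 := d14_4 F53078 (iv6 D16414) F53054 D19040 F43762
theorem F53082 : act 4 n17307 = n26667 := d11_1 F53080 (iv7 D26667) (iv4 F41670)
theorem F53083 : act 7 n17590 = n17114 := d13_2 F53080 F28592 (iv5 F30545)
theorem F53084 : act 2 n17114 = n17591 := d15_3 F28585 F28590 F53083
theorem F53085 : act 2 n17590 = n17113 := d15_3 (iv0 D17113) D17114 (iv7 F53083)
theorem F53086 : act 7 n17113 = n17591 := d4_2 (iv7 F53083) F53085 (iv2 F53084)
theorem F53087 : act 2 n26667 = n16404 := d1_1 F53082 (iv4 F53042) (iv2 F53077)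
theorem F53088 : act 6 n26667 = n16420 := d10_2 (iv6 F43762) F53082 (iv4 F53075)
theorem F53089 : act 5 n26667 = n26723 := d17_5 (iv1 D8330) (iv5 F13036) D17590 (iv5 F28592) F53082 (iv0 D26723) F21211 D12793 F42953
theorem F53090 : act 2 n26723 = n16631 := d2_1 F53089 F53043 (iv2 F53087)
theorem F53091 : act 7 n26723 = n16632 := d13_2 D26667 F53089 (iv5 F27132)
theorem F53092 : act 0 n16372 = n26667 := d17_0 F53089 (iv1 F42840) F27133 (iv4 F12758) (iv5 F28009) F28013 (iv5 F29723) (iv0 D18543) (iv4 F42347)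
theorem F53093 : act 0 n16420 = n26622 := d21_10 F42634 (iv1 D15994) (iv5 D7482) (iv6 D3417) (iv1 F4064) D6048 (iv5 F21211) D26723 (iv5 F53089) F53088
theorem F53094 : act 1 n16420 = n26677 := d15_1 (iv0 F53093) (iv7 F42744) (iv2 F42636)
theorem F53095 : act 1 n16402 = n26667 := d15_0 (iv0 F53092) (iv7 F42736) F42735
theorem F53096 : act 2 n16632 = n16403 := d15_3 F27134 F42840 F53091
theorem F53097 : act 7 n16631 = n16403 := d4_2 (iv7 F53091) F53090 (iv2 F53096)
theorem F53099 : act 2 n17854 = n17863 := d3_3 (iv6 F43980) F53076 F43768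
theorem F53100 : act 7 n17862 = n17854 := d15_2 F29026 F29030 F53099
theorem F53101 : act 7 n17853 = n17863 := d15_2 F29031 F29032 (iv2 F53099)
theorem F53102 : act 2 n17862 = n17853 := d4_3 F53101 (iv2 F53099) (iv7 F53100)
theorem F53103 : act 7 n16387 = n26673 := d8_2 F53060 (iv3 F25882) F42739
theorem F53104 : act 7 n16398 = n26675 := d11_2 F53060 D16398 (iv4 D26675)
theorem F53105 : act 2 n16415 = n26675 := d1_3 (iv4 D26675) F53059 D16415
theorem F53106 : act 2 n16416 = n26676 := d3_3 (iv6 D26676) F53059 D16416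
theorem F53107 : act 7 n31985 = n16416 := d15_2 (iv0 F42741) D31985 F53106
theorem F53108 : act 7 n31526 = n26676 := d15_2 (iv0 F25900) D31526 (iv2 F53106)
theorem F53109 : act 2 n31985 = n31526 := d4_3 F53108 (iv2 F53106) (iv7 F53107)
theorem F53110 : act 7 n16392 = n19042 := d8_2 F53058 D16392 (iv3 D19042)
theorem F53111 : act 7 n16393 = n19044 := d13_2 F53058 D16393 (iv5 D19044)
theorem F53112 : act 2 n19044 = n16413 := d15_3 F28961 (iv0 F28957) F53111
theorem F53113 : act 2 n26959 = n17333 := d3_3 F30550 F53112 (iv6 F43498)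
theorem F53114 : act 7 n19039 = n16413 := d15_2 (iv0 F30549) (iv0 F30544) (iv2 F53112)
theorem F53115 : act 2 n16393 = n19039 := d4_3 F53114 (iv2 F53112) (iv7 F53111)
theorem F53116 : act 7 n17334 = n26959 := d15_2 (iv0 D17333) D17334 F53113
theorem F53117 : act 7 n26960 = n17333 := d15_2 (iv0 D26959) D26960 (iv2 F53113)
theorem F53118 : act 2 n17334 = n26960 := d4_3 F53117 (iv2 F53113) (iv7 F53116)
theorem F53119 : act 7 n16385 = n26671 := d4_2 F53056 D16385 (iv2 D26671)
theorem F53120 : act 7 n16386 = n26672 := d11_2 F53056 D16386 (iv4 D26672)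
theorem F53121 : act 1 n16385 = n26669 := d15_0 (iv0 D26669) F53056 D16385
theorem F53122 : act 1 n26671 = n16383 := d15_0 (iv0 D16383) (iv7 F53056) D26671
theorem F53123 : act 1 n26670 = n16385 := d15_1 D26670 F53119 (iv2 D26671)
theorem F53124 : act 1 n16384 = n26671 := d15_1 D16384 (iv7 F53119) (iv2 D16385)
theorem F53125 : act 7 n26657 = n16410 := d8_2 F53055 (iv3 F42720) F25897
theorem F53126 : act 7 n26662 = n16415 := d11_2 F53055 D26662 (iv4 D16415)
theorem F53127 : act 2 n16398 = n26662 := d4_3 F53126 F53105 (iv7 F53104)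
theorem F53128 : act 7 n19037 = n16412 := d8_2 F53054 D19037 (iv3 D16412)
theorem F53129 : act 7 n26655 = n16408 := d4_2 F53053 D26655 (iv2 D16408)
theorem F53130 : act 7 n26656 = n16409 := d11_2 F53053 D26656 (iv4 D16409)
theorem F53131 : act 1 n26655 = n16406 := d15_0 (iv0 D16406) F53053 D26655
theorem F53132 : act 1 n16408 = n26653 := d15_0 (iv0 D26653) (iv7 F53053) D16408
theorem F53133 : act 1 n16407 = n26655 := d15_1 D16407 F53129 (iv2 D16408)
theorem F53134 : act 1 n26654 = n16408 := d15_1 D26654 (iv7 F53129) (iv2 D26655)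
theorem F53135 : act 3 n16408 = n26671 := d0_4 (iv3 D12740) F53051 D7610 D16408 (iv2 D26671)
theorem F53136 : act 3 n16385 = n26655 := d8_3 F53129 F53135 (iv7 F53119)
theorem F53137 : act 2 n26663 = n16399 := d3_3 (iv6 D16399) F53050 D26663
def n33803 : Q := act 0 n16335
theorem D33803 : act 0 n16335 = n33803 := rfl
def n33804 : Q := act 1 n16335
theorem D33804 : act 1 n16335 = n33804 := rfl
def n33805 : Q := act 2 n16335
theorem D33805 : act 2 n16335 = n33805 := rfl
def n33806 : Q := act 4 n16335
theorem D33806 : act 4 n16335 = n33806 := rfl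
theorem F53138 : act 3 n33806 = n18610 := d5_1 D33806 (iv4 D18610) (iv3 D8738) F42185 D16335
def n33807 : Q := act 5 n16335
theorem D33807 : act 5 n16335 = n33807 := rfl
theorem F53139 : act 3 n33807 = n16337 := d6_1 D33807 (iv5 D16337) D16335
def n33808 : Q := act 6 n16335
theorem D33808 : act 6 n16335 = n33808 := rfl
theorem F53140 : act 3 n33808 = n16338 := d7_1 D33808 (iv6 D16338) D16335
def n33809 : Q := act 4 n16337
theorem D33809 : act 4 n16337 = n33809 := rfl
def n33810 : Q := act 6 n16337
theorem D33810 : act 6 n16337 = n33810 := rfl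
theorem F53141 : act 0 n32063 = n33810 := d21_4 (iv5 F20648) (iv1 F20650) (iv5 F24731) D32063 (iv6 D33810) (iv5 D16337) (iv1 D7592) D7593 F11829 D7944
def n33811 : Q := act 5 n16338
theorem D33811 : act 5 n16338 = n33811 := rfl
theorem F53142 : act 0 n33811 = n16803 := d17_2 (iv1 F42186) D33811 (iv5 D16803) (iv4 F28979) (iv5 F28051) (iv0 F28554) (iv5 D17564) (iv0 F30419) F28969
theorem F53143 : act 1 n33811 = n16799 := d17_6 D3559 D7849 D16828 F27582 (iv4 F42188) D33811 (iv5 D16799) (iv0 D7842) F5582
def n33812 : Q := act 3 n16339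
theorem D33812 : act 3 n16339 = n33812 := rfl
def n33813 : Q := act 4 n16339
theorem D33813 : act 4 n16339 = n33813 := rfl
def n33814 : Q := act 5 n16339
theorem D33814 : act 5 n16339 = n33814 := rfl
theorem F53144 : act 2 n33814 = n33314 := d2_1 D33814 F52550 F42665
theorem F53145 : act 6 n33814 = n32306 := d12_2 (iv6 F50675) D33814 (iv5 F51222) F51223 D32054
theorem F53146 : act 7 n33814 = n26467 := d13_2 (iv7 F42666) D33814 F42656
theorem F53147 : act 4 n33814 = n18620 := d17_4 (iv1 D7592) D7593 D16339 D33814 (iv5 D18620) (iv0 D8742) (iv5 D3909) D3908 F42185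
theorem F53148 : act 1 n33814 = n26742 := d17_8 F43750 (iv5 D17569) (iv1 F21584) F21581 (iv4 F21122) (iv5 F42661) F42667 D33814 F42958
theorem E5539 : n33813 = n32543 := ((c18_3 (iv1 D15410) D15411 D32543 (iv4 D33813) D33814 F53147 (iv0 F43165) (iv4 F51921) F52074 F25322)).symm
theorem F53149 : act 4 n32543 = n16339 := (sb E5539 (iv4 D33813))
theorem F53150 : act 1 n33313 = n33814 := d15_1 D33313 F53146 F42323
def n33815 : Q := act 3 n16340
theorem D33815 : act 3 n16340 = n33815 := rfl
theorem F53151 : act 5 n33815 = n33308 := d6_2 F25852 D33815 F52540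
def n33816 : Q := act 6 n16340
theorem D33816 : act 6 n16340 = n33816 := rfl
theorem F53152 : act 5 n33816 = n33311 := d12_1 D33816 (iv6 D33311) (iv5 D16085) D16086 F25852
def n33817 : Q := act 0 n16341
theorem D33817 : act 0 n16341 = n33817 := rfl
theorem F53153 : act 4 n33817 = n26270 := d18_3 (iv1 D16340) D16341 D33817 (iv5 F52077) F52076 (iv0 F43750) (iv4 F42958) F52548 F25852
theorem F53154 : act 2 n32538 = n33817 := d1_3 F53153 F41810 D32538
theorem F53155 : act 7 n32541 = n33817 := d11_0 F53153 F41809 D32541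
def n33818 : Q := act 1 n16341
theorem D33818 : act 1 n16341 = n33818 := rfl
theorem F53156 : act 7 n33818 = n32538 := d15_2 (iv0 D33817) D33818 F53154
theorem F53157 : act 4 n33818 = n26271 := d18_7 (iv1 F30467) (iv4 D8249) (iv1 D3711) (iv4 F5430) D7593 D16341 D33818 F41727 F24967
theorem F53158 : act 2 n32541 = n33818 := d1_3 F53157 (iv2 F41748) D32541
def n33819 : Q := act 3 n16341
theorem D33819 : act 3 n16341 = n33819 := rfl
theorem F53159 : act 6 n33819 = n17023 := d7_2 (iv6 F25853) D33819 (iv3 D17023)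
def n33820 : Q := act 5 n16341
theorem D33820 : act 5 n16341 = n33820 := rfl
def n33821 : Q := act 7 n16341
theorem D33821 : act 7 n16341 = n33821 := rfl
theorem F53160 : act 4 n33821 = n16342 := d11_1 D33821 (iv7 D16342) D16341
theorem F53161 : act 1 n32541 = n33821 := d15_1 (iv0 F51613) (iv7 D33821) (iv2 F42658)
theorem F53162 : act 1 n33821 = n32538 := d15_1 F53161 (iv7 F53156) (iv2 F53158)
def n33822 : Q := act 6 n16342
theorem D33822 : act 6 n16342 = n33822 := rfl
theorem F53163 : act 7 n33822 = n17026 := d14_2 D16342 D33822 (iv6 D17026) (iv7 D7947) (iv6 F11829)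
def n33823 : Q := act 3 n16353
theorem D33823 : act 3 n16353 = n33823 := rfl
theorem F53164 : act 2 n33823 = n17162 := d0_1 D33823 (iv3 D17162) F12854 (iv3 F11832) (iv2 F25857)
def n33824 : Q := act 5 n16353
theorem D33824 : act 5 n16353 = n33824 := rfl
theorem F53165 : act 2 n33824 = n16357 := d2_1 D33824 (iv5 D16357) (iv2 F25857)
theorem F53166 : act 7 n33824 = n18284 := d13_2 F42608 D33824 (iv5 F52453)
theorem F53167 : act 1 n33824 = n18285 := d17_6 D7503 (iv5 F26854) (iv1 F9438) (iv5 F11831) D16353 D33824 (iv5 F29486) (iv0 D16060) (iv4 D7505)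
theorem F53168 : act 1 n18241 = n33824 := d15_1 F42625 F53166 F52454
def n33825 : Q := act 6 n16353
theorem D33825 : act 6 n16353 = n33825 := rfl
theorem F53169 : act 2 n33825 = n16358 := d3_1 D33825 (iv6 D16358) (iv2 F25857)
theorem F53170 : act 4 n33825 = n16354 := d10_1 D33825 (iv6 D16354) D16353
def n33826 : Q := act 0 n16354
theorem D33826 : act 0 n16354 = n33826 := rfl
def n33827 : Q := act 1 n16354
theorem D33827 : act 1 n16354 = n33827 := rfl
theorem F53171 : act 1 n33827 = n16362 := d15_1 D33827 (iv7 D16362) (iv2 F25858)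
theorem F53172 : act 3 n33827 = n16374 := d20_5 F41941 (iv1 F9493) (iv4 F11835) (iv3 F25868) (iv1 F53171) (iv4 F51765) (iv1 D32691) F25105 F11660 D7347
theorem F53173 : act 5 n33150 = n33827 := d6_0 F53172 (iv5 F25871) (iv3 F52375)
theorem E5540 : n33146 = n26484 := ((c21_4 (iv5 D6013) F26615 D12644 D26484 (iv1 D33146) D33150 F53173 (iv1 D33827) (iv5 F26655) (iv6 D8750) (iv1 F9341))).symm
theorem F53174 : act 0 n26484 = n15984 := (sb E5540 (iv1 D33146))
def n33828 : Q := act 7 n16354
theorem D33828 : act 7 n16354 = n33828 := rfl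
theorem F53175 : act 2 n33828 = n16362 := d4_1 D33828 (iv7 D16362) (iv2 F25858)
theorem F53176 : act 5 n33828 = n18641 := d13_1 D33828 (iv7 D18641) F26655
theorem F53177 : act 1 n16362 = n33826 := d15_0 (iv0 D33826) D33828 F53175
theorem F53178 : act 1 n16360 = n33828 := d15_1 D16360 (iv7 D33828) F25858
theorem F53179 : act 1 n33828 = n16359 := d15_0 (iv0 D16359) D16362 (iv2 F53175)
def n33829 : Q := act 3 n16355
theorem D33829 : act 3 n16355 = n33829 := rfl
theorem F53180 : act 2 n33829 = n18203 := d0_1 D33829 F29373 (iv2 F27480) F42615 F42620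
theorem F53181 : act 4 n33829 = n18319 := d5_2 F52451 D33829 (iv3 F46076) (iv4 F46074) (iv3 F52448)
theorem F53182 : act 5 n33829 = n18202 := d6_2 F52496 D33829 (iv3 F52500)
def n33830 : Q := act 6 n16355
theorem D33830 : act 6 n16355 = n33830 := rfl
def n33831 : Q := act 6 n16356
theorem D33831 : act 6 n16356 = n33831 := rfl
theorem F53183 : act 3 n33831 = n18163 := d7_1 D33831 (iv6 D18163) F25859
theorem F53184 : act 4 n33831 = n32472 := d10_1 D33831 (iv6 D32472) F25860
def n33832 : Q := act 0 n16357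
theorem D33832 : act 0 n16357 = n33832 := rfl
theorem F53185 : act 5 n33832 = n26388 := d17_3 (iv1 D16356) D16357 D33832 (iv4 F51847) F51848 (iv0 F40394) (iv5 F37315) (iv0 F51512) F25860
theorem F53186 : act 2 n18241 = n33832 := d15_3 (iv0 D33832) (iv0 F25863) (iv7 F29422)
theorem F53187 : act 1 n18284 = n33832 := d15_0 (iv0 D33832) (iv7 F42624) (iv2 F52454)
theorem F53188 : act 7 n33832 = n18285 := d15_2 D18284 F53187 (iv2 D18285)
theorem F53189 : act 3 n33832 = n18320 := d0_2 D18241 F53186 (iv2 D18320) (iv3 D8635) (iv2 F13517)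
def n33833 : Q := act 4 n16357
theorem D33833 : act 4 n16357 = n33833 := rfl
theorem F53190 : act 0 n33833 = n28615 := d18_2 F25863 D33833 F46187 F29544 (iv4 D17410) F26756 D12595 (iv0 F29484) (iv5 D18286)
def n33834 : Q := act 6 n16357
theorem D33834 : act 6 n16357 = n33834 := rfl
theorem F53191 : act 3 n33834 = n17199 := d7_1 D33834 (iv6 D17199) (iv3 F25862)
def n33835 : Q := act 0 n16358
theorem D33835 : act 0 n16358 = n33835 := rfl
def n33836 : Q := act 1 n16358
theorem D33836 : act 1 n16358 = n33836 := rfl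
def n33837 : Q := act 5 n16358
theorem D33837 : act 5 n16358 = n33837 := rfl
theorem F53192 : act 3 n33837 = n17202 := d6_1 D33837 (iv5 D17202) (iv3 F25864)
def n33838 : Q := act 7 n16358
theorem D33838 : act 7 n16358 = n33838 := rfl
theorem F53193 : act 3 n33838 = n17203 := d8_1 D33838 (iv7 D17203) (iv3 F25864)
theorem F53194 : act 4 n33838 = n16362 := d11_1 D33838 (iv7 D16362) (iv4 F25865)
def n33839 : Q := act 2 n16359
theorem D33839 : act 2 n16359 = n33839 := rfl
theorem F53195 : act 7 n16360 = n33839 := d15_2 (iv0 D16359) D16360 (iv2 D33839)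
def n33840 : Q := act 3 n16359
theorem D33840 : act 3 n16359 = n33840 := rfl
def n33841 : Q := act 4 n16359
theorem D33841 : act 4 n16359 = n33841 := rfl
def n33842 : Q := act 5 n16359
theorem D33842 : act 5 n16359 = n33842 := rfl
def n33843 : Q := act 6 n16359
theorem D33843 : act 6 n16359 = n33843 := rfl
def n33844 : Q := act 7 n16359
theorem D33844 : act 7 n16359 = n33844 := rfl
theorem F53196 : act 2 n33844 = n16360 := d4_1 D33844 F53195 (iv2 D33839)
def n33845 : Q := act 3 n16360
theorem D33845 : act 3 n16360 = n33845 := rfl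
def n33846 : Q := act 4 n16360
theorem D33846 : act 4 n16360 = n33846 := rfl
def n33847 : Q := act 5 n16360
theorem D33847 : act 5 n16360 = n33847 := rfl
theorem F53197 : act 6 n26523 = n33847 := d21_5 (iv5 D2533) D2530 D6004 D12662 D26523 (iv5 D33847) (iv1 D16360) (iv5 F27023) (iv6 D12705) (iv1 D6015)
def n33848 : Q := act 6 n16360
theorem D33848 : act 6 n16360 = n33848 := rfl
def n33849 : Q := act 0 n16364
theorem D33849 : act 0 n16364 = n33849 := rfl
def n33851 : Q := act 2 n16364
theorem D33851 : act 2 n16364 = n33851 := rfl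
def n33852 : Q := act 4 n16364
theorem D33852 : act 4 n16364 = n33852 := rfl
theorem F53198 : act 3 n33852 = n18516 := d5_1 D33852 (iv4 D18516) (iv3 D8699) F42342 D16364
def n33853 : Q := act 5 n16364
theorem D33853 : act 5 n16364 = n33853 := rfl
theorem F53199 : act 3 n33853 = n16366 := d6_1 D33853 (iv5 D16366) D16364
def n33854 : Q := act 6 n16364
theorem D33854 : act 6 n16364 = n33854 := rfl
theorem F53200 : act 3 n33854 = n16367 := d7_1 D33854 (iv6 D16367) D16364
def n33855 : Q := act 0 n16366
theorem D33855 : act 0 n16366 = n33855 := rfl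
theorem F53201 : act 5 n33855 = n16804 := d17_3 D7600 D16366 D33855 F28980 (iv5 F28231) (iv0 D17287) (iv5 D8100) (iv0 D3650) (iv4 F5432)
theorem F53202 : act 1 n16371 = n33855 := d15_0 (iv0 D33855) (iv7 F42696) F42695
theorem F53203 : act 1 n16804 = n26408 := d17_8 F29760 D16849 F28001 (iv5 D8706) F42346 D16371 F53202 F53201 F42178
theorem F53204 : act 0 n26646 = n32695 := d18_2 (iv1 D26645) D26646 (iv4 D32695) D32696 F51770 (iv0 F30523) (iv4 F28980) F53203 F42702
def n33856 : Q := act 1 n16366
theorem D33856 : act 1 n16366 = n33856 := rfl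
theorem F53205 : act 1 n33856 = n16371 := d15_1 D33856 (iv7 F42693) F42692
def n33857 : Q := act 4 n16366
theorem D33857 : act 4 n16366 = n33857 := rfl
def n33858 : Q := act 6 n16366
theorem D33858 : act 6 n16366 = n33858 := rfl
def n33859 : Q := act 0 n16369
theorem D33859 : act 0 n16369 = n33859 := rfl
def n33860 : Q := act 1 n16369
theorem D33860 : act 1 n16369 = n33860 := rfl
def n33861 : Q := act 2 n16369
theorem D33861 : act 2 n16369 = n33861 := rfl
def n33862 : Q := act 4 n16369
theorem D33862 : act 4 n16369 = n33862 := rfl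
theorem F53206 : act 3 n33862 = n18535 := d5_1 D33862 (iv4 D18535) (iv3 D8704) F42346 D16369
def n33863 : Q := act 5 n16369
theorem D33863 : act 5 n16369 = n33863 := rfl
theorem F53207 : act 3 n33863 = n16371 := d6_1 D33863 (iv5 D16371) D16369
def n33864 : Q := act 6 n16369
theorem D33864 : act 6 n16369 = n33864 := rfl
theorem F53208 : act 3 n33864 = n16372 := d7_1 D33864 (iv6 D16372) D16369
def n33865 : Q := act 4 n16371
theorem D33865 : act 4 n16371 = n33865 := rfl
def n33866 : Q := act 6 n16371
theorem D33866 : act 6 n16371 = n33866 := rfl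
def n33867 : Q := act 5 n16372
theorem D33867 : act 5 n16372 = n33867 := rfl
theorem F53209 : act 0 n33867 = n16675 := d17_2 (iv1 F42700) D33867 (iv5 D16675) F28975 D17111 (iv0 F30430) (iv5 D17309) (iv0 F28958) F25886
theorem F53210 : act 1 n33867 = n16670 := d17_6 D7983 D17064 F29724 (iv5 D18545) (iv4 F42347) D33867 (iv5 D16670) (iv0 D7754) (iv4 F5649)
def n33868 : Q := act 3 n16373
theorem D33868 : act 3 n16373 = n33868 := rfl
def n33869 : Q := act 4 n16373
theorem D33869 : act 4 n16373 = n33869 := rfl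
def n33870 : Q := act 5 n16373
theorem D33870 : act 5 n16373 = n33870 := rfl
theorem F53211 : act 2 n33870 = n33154 := d2_1 D33870 F52378 F42711
theorem F53212 : act 7 n33870 = n26408 := d13_2 (iv7 F42712) D33870 F42702
theorem F53213 : act 4 n33870 = n18550 := d17_4 (iv1 D7601) D7602 D16373 D33870 (iv5 D18550) (iv0 D8708) (iv5 D3900) D3899 F42346
theorem F53214 : act 1 n33870 = n26811 := d17_8 F43462 (iv5 D17314) (iv1 F21404) F21401 (iv4 F21141) (iv5 F42707) F42713 D33870 F43091
theorem E5541 : n33869 = n32690 := ((c18_3 (iv1 D15574) (iv4 F25105) D32690 (iv4 D33869) D33870 F53213 (iv0 F30018) (iv4 F43237) F51969 (iv5 F26498))).symm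
theorem F53215 : act 4 n32690 = n16373 := (sb E5541 (iv4 D33869))
theorem F53216 : act 6 n33870 = n33163 := d21_3 D7602 D16373 D33870 (iv1 F52386) (iv6 D16671) D16670 (iv1 F53210) (iv5 D33867) (iv6 D16372) (iv1 D7601)
theorem F53217 : act 0 n33870 = n32307 := d21_4 D13271 (iv1 F44889) (iv5 F52385) (iv6 F53216) (iv6 D32307) (iv5 D15228) (iv1 F20717) F20714 F9359 (iv1 F9803)
def n33871 : Q := act 6 n16373
theorem D33871 : act 6 n16373 = n33871 := rfl
def n33872 : Q := act 6 n16374
theorem D33872 : act 6 n16374 = n33872 := rfl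
theorem F53218 : act 5 n33872 = n33153 := d12_1 D33872 (iv6 D33153) (iv5 D15986) D15987 F25871
def n33873 : Q := act 0 n16375
theorem D33873 : act 0 n16375 = n33873 := rfl
theorem F53219 : act 4 n33873 = n26316 := d18_3 (iv1 D16374) D16375 D33873 (iv5 F51972) F51971 (iv0 F43462) (iv4 F43091) F51339 F25871
theorem F53220 : act 2 n32695 = n33873 := d1_3 F53219 F41967 D32695
theorem F53221 : act 7 n32699 = n33873 := d11_0 F53219 F41966 D32699
def n33874 : Q := act 1 n16375
theorem D33874 : act 1 n16375 = n33874 := rfl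
theorem F53222 : act 7 n33874 = n32695 := d15_2 (iv0 D33873) D33874 F53220
theorem F53223 : act 4 n33874 = n26317 := d18_7 (iv1 F41761) (iv4 D8104) (iv1 D3651) (iv4 F5432) D7602 D16375 D33874 F41932 F26499
theorem E5542 : n26639 = n26572 := ((c20_5 (iv4 F53223) (iv1 D33874) (iv4 D16375) (iv3 F27022) D26572 (iv3 D26639) F30354 (iv1 F9777) (iv4 F11664) (iv3 F25108) (iv1 F41932))).symm
theorem F53224 : act 3 n26572 = n12730 := (sb E5542 (iv3 D26639))
theorem F53225 : act 7 n26572 = n16369 := (sb E5542 F42691)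
theorem E5543 : n33861 = n26573 := (c15_4 F42560 F42565 F53225 D33861)
theorem F53226 : act 2 n26573 = n16369 := (sb E5543 (iv2 D33861))
theorem F53227 : act 2 n32699 = n33874 := d1_3 F53223 F41934 D32699
def n33875 : Q := act 3 n16375
theorem D33875 : act 3 n16375 = n33875 := rfl
theorem F53228 : act 6 n33875 = n17421 := d7_2 (iv6 F25872) D33875 (iv3 D17421)
def n33876 : Q := act 5 n16375
theorem D33876 : act 5 n16375 = n33876 := rfl
def n33877 : Q := act 7 n16375
theorem D33877 : act 7 n16375 = n33877 := rfl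
theorem F53229 : act 4 n33877 = n16376 := d11_1 D33877 (iv7 D16376) D16375
theorem F53230 : act 1 n32699 = n33877 := d15_1 (iv0 F51772) (iv7 D33877) (iv2 F42704)
theorem F53231 : act 1 n33877 = n32695 := d15_1 F53230 (iv7 F53222) (iv2 F53227)
theorem E5544 : n18640 = n16369 := (c20_5 D32695 (iv1 F53231) F53229 (iv3 F42562) (iv1 F42566) (iv3 D16369) (iv4 F42346) (iv1 D3899) (iv4 F5371) (iv3 F11660) D15573)
theorem E5545 : n33859 = n8750 := ((D33859).symm.trans (sb E5544 (iv1 D18640)))
theorem E5546 : n33860 = n26574 := ((D33860).symm.trans (sb E5544 F42566))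
theorem F53232 : act 1 n8750 = n16369 := (sb E5545 (iv0 D33859))
theorem F53233 : act 0 n26574 = n16369 := (sb E5546 (iv1 D33860))
theorem F53234 : act 7 n18639 = n26573 := d15_2 (iv0 F53233) F42567 F53226
theorem F53235 : act 2 n26572 = n18639 := d4_3 F53234 F53226 (iv7 F53225)
theorem F53236 : act 3 n18639 = n33851 := d0_2 (iv3 F53224) F53235 (iv2 D33851) (iv3 D16364) (iv2 F42341)
theorem F53237 : act 6 n26391 = n33863 := d21_5 (iv5 D12589) (iv1 D5982) D5984 D12596 D26391 (iv5 D33863) (iv1 F53232) F26655 (iv6 D16354) (iv1 F26954)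
theorem F53238 : act 3 n33866 = n26391 := d7_3 F53237 F53207 D33866
def n33878 : Q := act 6 n16376
theorem D33878 : act 6 n16376 = n33878 := rfl
theorem F53239 : act 3 n33878 = n18648 := d7_1 D33878 (iv6 F42564) F42562
theorem F53240 : act 7 n33878 = n17422 := d14_2 D16376 D33878 (iv6 D17422) (iv7 D8174) (iv6 F11834)
def n33879 : Q := act 2 n16383
theorem D33879 : act 2 n16383 = n33879 := rfl
theorem F53241 : act 7 n16384 = n33879 := d15_2 (iv0 D16383) D16384 (iv2 D33879)
def n33880 : Q := act 3 n16383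
theorem D33880 : act 3 n16383 = n33880 := rfl
def n33881 : Q := act 4 n16383
theorem D33881 : act 4 n16383 = n33881 := rfl
def n33882 : Q := act 5 n16383
theorem D33882 : act 5 n16383 = n33882 := rfl
def n33883 : Q := act 6 n16383
theorem D33883 : act 6 n16383 = n33883 := rfl
def n33884 : Q := act 7 n16383
theorem D33884 : act 7 n16383 = n33884 := rfl
theorem F53242 : act 2 n33884 = n16384 := d4_1 D33884 F53241 (iv2 D33879)
def n33885 : Q := act 3 n16384
theorem D33885 : act 3 n16384 = n33885 := rfl
def n33886 : Q := act 4 n16384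
theorem D33886 : act 4 n16384 = n33886 := rfl
def n33887 : Q := act 5 n16384
theorem D33887 : act 5 n16384 = n33887 := rfl
def n33888 : Q := act 6 n16384
theorem D33888 : act 6 n16384 = n33888 := rfl
def n33889 : Q := act 4 n16385
theorem D33889 : act 4 n16385 = n33889 := rfl
theorem F53243 : act 2 n33889 = n16386 := d1_1 D33889 (iv4 D16386) D16385
def n33890 : Q := act 5 n16385
theorem D33890 : act 5 n16385 = n33890 := rfl
theorem F53244 : act 2 n33890 = n16387 := d2_1 D33890 (iv5 D16387) D16385
def n33891 : Q := act 6 n16385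
theorem D33891 : act 6 n16385 = n33891 := rfl
theorem F53245 : act 2 n33891 = n16388 := d3_1 D33891 (iv6 D16388) D16385
def n33892 : Q := act 0 n16386
theorem D33892 : act 0 n16386 = n33892 := rfl
def n33893 : Q := act 1 n16386
theorem D33893 : act 1 n16386 = n33893 := rfl
def n33894 : Q := act 3 n16386
theorem D33894 : act 3 n16386 = n33894 := rfl
theorem F53246 : act 4 n33894 = n16392 := d5_2 D16386 D33894 (iv3 D16392) (iv4 D7606) D7605
def n33895 : Q := act 5 n16386
theorem D33895 : act 5 n16386 = n33895 := rfl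
def n33896 : Q := act 6 n16386
theorem D33896 : act 6 n16386 = n33896 := rfl
theorem F53247 : act 4 n33896 = n16388 := d10_1 D33896 (iv6 D16388) D16386
def n33897 : Q := act 0 n16387
theorem D33897 : act 0 n16387 = n33897 := rfl
def n33898 : Q := act 1 n16387
theorem D33898 : act 1 n16387 = n33898 := rfl
def n33899 : Q := act 4 n16387
theorem D33899 : act 4 n16387 = n33899 := rfl
def n33900 : Q := act 6 n16387
theorem D33900 : act 6 n16387 = n33900 := rfl
theorem F53248 : act 3 n33900 = n16399 := d7_1 D33900 (iv6 D16399) (iv3 F25882)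
def n33901 : Q := act 0 n16388
theorem D33901 : act 0 n16388 = n33901 := rfl
def n33902 : Q := act 1 n16388
theorem D33902 : act 1 n16388 = n33902 := rfl
def n33903 : Q := act 5 n16388
theorem D33903 : act 5 n16388 = n33903 := rfl
theorem F53249 : act 3 n33903 = n16403 := d6_1 D33903 (iv5 D16403) (iv3 F25883)
def n33904 : Q := act 7 n16388
theorem D33904 : act 7 n16388 = n33904 := rfl
theorem F53250 : act 3 n33904 = n16404 := d8_1 D33904 (iv7 D16404) (iv3 F25883)
def n33905 : Q := act 0 n16392
theorem D33905 : act 0 n16392 = n33905 := rfl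
def n33906 : Q := act 1 n16392
theorem D33906 : act 1 n16392 = n33906 := rfl
def n33907 : Q := act 2 n16392
theorem D33907 : act 2 n16392 = n33907 := rfl
def n33908 : Q := act 5 n16392
theorem D33908 : act 5 n16392 = n33908 := rfl
theorem F53251 : act 3 n33908 = n16393 := d6_1 D33908 (iv5 D16393) D16392
def n33909 : Q := act 6 n16392
theorem D33909 : act 6 n16392 = n33909 := rfl
theorem F53252 : act 3 n33909 = n16394 := d7_1 D33909 (iv6 D16394) D16392
def n33910 : Q := act 1 n16393
theorem D33910 : act 1 n16393 = n33910 := rfl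
theorem F53253 : act 1 n33910 = n16413 := d15_1 D33910 (iv7 F53114) (iv2 F53115)
theorem F53254 : act 7 n33910 = n17290 := d15_2 (iv0 F28957) D33910 (iv2 F28839)
theorem F53255 : act 5 n27154 = n33910 := d21_0 (iv1 D33910) (iv5 D16393) D16394 F28958 (iv6 D8106) D8105 (iv1 F28234) (iv5 F43988) (iv6 F43987) (iv1 F43903)
theorem F53256 : act 6 n33910 = n17601 := d12_2 (iv6 F43901) F53255 (iv5 F43793) (iv6 D27099) (iv5 F28830)
def n33911 : Q := act 4 n16393
theorem D33911 : act 4 n16393 = n33911 := rfl
def n33912 : Q := act 6 n16393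
theorem D33912 : act 6 n16393 = n33912 := rfl
theorem F53257 : act 0 n33912 = n17570 := d21_4 (iv5 D8095) (iv1 F28953) D16393 D33912 (iv6 D17570) D17569 (iv1 F28827) (iv5 F43754) F43755 (iv1 D17265)
def n33913 : Q := act 3 n16396
theorem D33913 : act 3 n16396 = n33913 := rfl
theorem F53258 : act 5 n33913 = n33320 := d6_2 (iv5 F25890) D33913 F52554
def n33914 : Q := act 4 n16396
theorem D33914 : act 4 n16396 = n33914 := rfl
def n33915 : Q := act 6 n16396
theorem D33915 : act 6 n16396 = n33915 := rfl
theorem F53259 : act 5 n33915 = n32236 := d12_1 D33915 F51174 (iv5 D16090) D16091 (iv5 F25890)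
def n33916 : Q := act 3 n16397
theorem D33916 : act 3 n16397 = n33916 := rfl
def n33917 : Q := act 4 n16397
theorem D33917 : act 4 n16397 = n33917 := rfl
def n33918 : Q := act 5 n16397
theorem D33918 : act 5 n16397 = n33918 := rfl
theorem F53260 : act 2 n33918 = n32306 := d2_1 D33918 (iv5 F51222) (iv2 F42728)
theorem F53261 : act 7 n33918 = n26470 := d13_2 (iv7 F42725) D33918 (iv5 F42723)
theorem F53262 : act 4 n33918 = n26834 := d17_4 (iv1 F9361) D7612 (iv1 F25891) D33918 F45034 F45032 (iv5 D13304) F9820 (iv4 F9358)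
theorem F53263 : act 1 n33918 = n26245 := d17_8 (iv1 F43903) F53255 (iv1 D33910) (iv5 D16393) (iv4 D7606) D7607 D16397 D33918 (iv4 F41674)
theorem E5547 : n32051 = n26174 := (c21_4 D26245 (iv1 F53263) (iv5 D33918) (iv6 F51226) (iv1 D26174) (iv6 D12413) (iv5 D5906) (iv1 D2496) D2498 D5916 D12442)
theorem F53264 : act 2 n26174 = n15121 := (sb E5547 F50674)
theorem F53265 : act 6 n26174 = n16397 := (sb E5547 F51226)
theorem F53266 : act 7 n26174 = n15120 := (sb E5547 (iv7 D32051))
theorem F53267 : act 6 n33314 = n33918 := d21_5 D33867 F53209 (iv5 D16675) D16676 F52551 (iv5 D33918) (iv1 D16397) (iv5 D7607) D7608 (iv1 F42700)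
theorem F53268 : act 0 n33918 = n26250 := d21_10 (iv5 D26250) (iv1 D12443) F9170 (iv6 D2537) D2535 D6020 D12723 D26625 (iv5 F52550) F53267
theorem E5548 : n32046 = n26173 := (c15_4 (iv0 D26173) D26174 F53266 D32046)
theorem F53269 : act 2 n26173 = n15120 := (sb E5548 (iv2 D32046))
theorem F53270 : act 7 n26173 = n15121 := (sb E5548 (iv7 F50673))
def n33919 : Q := act 0 n16398
theorem D33919 : act 0 n16398 = n33919 := rfl
theorem F53271 : act 4 n33919 = n28678 := d18_3 (iv1 D16397) D16398 D33919 F46224 F28835 (iv0 F30417) F41666 (iv0 F53268) (iv5 D33918)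
theorem F53272 : act 1 n16415 = n33919 := d15_0 (iv0 D33919) F53104 (iv2 F53105)
def n33920 : Q := act 1 n16398
theorem D33920 : act 1 n16398 = n33920 := rfl
theorem F53273 : act 1 n33920 = n16415 := d15_1 D33920 (iv7 F53126) (iv2 F53127)
theorem F53274 : act 4 n33920 = n28679 := d18_7 (iv1 D6495) (iv4 F5673) (iv1 F28953) (iv4 D7606) D7607 D16398 D33920 F46228 (iv5 D13673)
theorem F53275 : act 6 n31908 = n33920 := d10_0 F53274 F52090 D31908
def n33921 : Q := act 3 n16398
theorem D33921 : act 3 n16398 = n33921 := rfl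
def n33922 : Q := act 5 n16398
theorem D33922 : act 5 n16398 = n33922 := rfl
theorem F53276 : act 1 n33922 = n28477 := d17_6 (iv1 D7216) F5308 D3454 D7607 D16398 D33922 (iv5 D28477) F28981 (iv4 D15232)
def n33923 : Q := act 6 n16398
theorem D33923 : act 6 n16398 = n33923 := rfl
theorem F53277 : act 4 n33923 = n16399 := d10_1 D33923 (iv6 D16399) D16398
def n33924 : Q := act 1 n16399
theorem D33924 : act 1 n16399 = n33924 := rfl
def n33925 : Q := act 5 n16399
theorem D33925 : act 5 n16399 = n33925 := rfl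
theorem F53278 : act 6 n33925 = n16403 := d12_2 D16399 D33925 (iv5 D16403) (iv6 D7608) D7607
theorem F53279 : act 5 n32260 = n33924 := d21_0 (iv1 D33924) D33925 F53278 F25895 (iv6 D12775) (iv5 D6042) F8092 D11439 (iv6 F24824) D32260
def n33926 : Q := act 7 n16399
theorem D33926 : act 7 n16399 = n33926 := rfl
theorem F53280 : act 6 n33926 = n31526 := d14_1 D33926 F53108 (iv6 D26676) F53060 D16399
def n33927 : Q := act 3 n16402
theorem D33927 : act 3 n16402 = n33927 := rfl
def n33928 : Q := act 5 n16402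
theorem D33928 : act 5 n16402 = n33928 := rfl
theorem F53281 : act 0 n33928 = n16670 := d17_2 (iv1 F53095) D33928 (iv5 D16670) F28972 D17106 (iv0 F30533) (iv5 F28782) (iv0 F28785) F53082
theorem F53282 : act 1 n33928 = n16675 := d17_6 (iv1 F12754) D17068 F29897 F29896 (iv4 F29128) D33928 (iv5 D16675) F21234 F21231
def n33929 : Q := act 4 n16403
theorem D33929 : act 4 n16403 = n33929 := rfl
theorem F53283 : act 0 n33929 = n24318 := d18_2 (iv1 F27134) D33929 F38103 F18714 F11566 D8330 (iv4 F42953) F21229 (iv5 F27133)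
def n33930 : Q := act 2 n16406
theorem D33930 : act 2 n16406 = n33930 := rfl
theorem F53284 : act 7 n16407 = n33930 := d15_2 (iv0 D16406) D16407 (iv2 D33930)
def n33931 : Q := act 3 n16406
theorem D33931 : act 3 n16406 = n33931 := rfl
def n33932 : Q := act 4 n16406
theorem D33932 : act 4 n16406 = n33932 := rfl
def n33933 : Q := act 5 n16406
theorem D33933 : act 5 n16406 = n33933 := rfl
def n33935 : Q := act 7 n16406
theorem D33935 : act 7 n16406 = n33935 := rfl
theorem F53285 : act 2 n33935 = n16407 := d4_1 D33935 F53284 (iv2 D33930)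
def n33936 : Q := act 3 n16407
theorem D33936 : act 3 n16407 = n33936 := rfl
def n33937 : Q := act 4 n16407
theorem D33937 : act 4 n16407 = n33937 := rfl
def n33938 : Q := act 5 n16407
theorem D33938 : act 5 n16407 = n33938 := rfl
def n33939 : Q := act 6 n16407
theorem D33939 : act 6 n16407 = n33939 := rfl
def n33940 : Q := act 4 n16408
theorem D33940 : act 4 n16408 = n33940 := rfl
theorem F53286 : act 2 n33940 = n16409 := d1_1 D33940 (iv4 D16409) D16408
def n33941 : Q := act 5 n16408
theorem D33941 : act 5 n16408 = n33941 := rfl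
theorem F53287 : act 2 n33941 = n16410 := d2_1 D33941 (iv5 D16410) D16408
def n33942 : Q := act 6 n16408
theorem D33942 : act 6 n16408 = n33942 := rfl
theorem F53288 : act 2 n33942 = n16411 := d3_1 D33942 (iv6 D16411) D16408
def n33943 : Q := act 0 n16409
theorem D33943 : act 0 n16409 = n33943 := rfl
def n33944 : Q := act 1 n16409
theorem D33944 : act 1 n16409 = n33944 := rfl
def n33945 : Q := act 3 n16409
theorem D33945 : act 3 n16409 = n33945 := rfl
theorem F53289 : act 4 n33945 = n16412 := d5_2 D16409 D33945 (iv3 D16412) (iv4 D7611) D7610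
def n33946 : Q := act 5 n16409
theorem D33946 : act 5 n16409 = n33946 := rfl
def n33947 : Q := act 6 n16409
theorem D33947 : act 6 n16409 = n33947 := rfl
theorem F53290 : act 4 n33947 = n16411 := d10_1 D33947 (iv6 D16411) D16409
def n33948 : Q := act 0 n16410
theorem D33948 : act 0 n16410 = n33948 := rfl
def n33949 : Q := act 1 n16410
theorem D33949 : act 1 n16410 = n33949 := rfl
def n33950 : Q := act 4 n16410
theorem D33950 : act 4 n16410 = n33950 := rfl
def n33951 : Q := act 6 n16410
theorem D33951 : act 6 n16410 = n33951 := rfl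
theorem F53291 : act 3 n33951 = n16416 := d7_1 D33951 (iv6 D16416) (iv3 F25897)
def n33952 : Q := act 0 n16411
theorem D33952 : act 0 n16411 = n33952 := rfl
def n33953 : Q := act 1 n16411
theorem D33953 : act 1 n16411 = n33953 := rfl
def n33954 : Q := act 5 n16411
theorem D33954 : act 5 n16411 = n33954 := rfl
theorem F53292 : act 3 n33954 = n16419 := d6_1 D33954 (iv5 D16419) (iv3 F25898)
def n33955 : Q := act 7 n16411
theorem D33955 : act 7 n16411 = n33955 := rfl
theorem F53293 : act 3 n33955 = n16420 := d8_1 D33955 (iv7 D16420) (iv3 F25898)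
def n33956 : Q := act 0 n16412
theorem D33956 : act 0 n16412 = n33956 := rfl
def n33957 : Q := act 1 n16412
theorem D33957 : act 1 n16412 = n33957 := rfl
def n33958 : Q := act 2 n16412
theorem D33958 : act 2 n16412 = n33958 := rfl
def n33959 : Q := act 5 n16412
theorem D33959 : act 5 n16412 = n33959 := rfl
theorem F53294 : act 3 n33959 = n16413 := d6_1 D33959 (iv5 D16413) D16412
def n33960 : Q := act 6 n16412
theorem D33960 : act 6 n16412 = n33960 := rfl
theorem F53295 : act 3 n33960 = n16414 := d7_1 D33960 (iv6 D16414) D16412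
def n33961 : Q := act 4 n16413
theorem D33961 : act 4 n16413 = n33961 := rfl
def n33962 : Q := act 3 n16415
theorem D33962 : act 3 n16415 = n33962 := rfl
def n33963 : Q := act 5 n16415
theorem D33963 : act 5 n16415 = n33963 := rfl
theorem F53296 : act 0 n33963 = n28477 := d17_2 (iv1 F53272) D33963 (iv5 D28477) F22738 F10529 D6495 D13673 F46225 (iv4 F53271)
def n33964 : Q := act 6 n16415
theorem D33964 : act 6 n16415 = n33964 := rfl
theorem F53297 : act 4 n33964 = n16416 := d10_1 D33964 (iv6 D16416) D16415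
theorem F53298 : act 0 n30763 = n33964 := d21_4 (iv5 D6990) (iv1 F11228) D14574 D30763 (iv6 D33964) D33963 F53296 (iv5 D28477) (iv6 D13574) F11254
def n33965 : Q := act 5 n16416
theorem D33965 : act 5 n16416 = n33965 := rfl
theorem F53299 : act 6 n33965 = n16419 := d12_2 D16416 D33965 (iv5 D16419) (iv6 D7613) D7612
def n33966 : Q := act 3 n16417
theorem D33966 : act 3 n16417 = n33966 := rfl
def n33967 : Q := act 4 n16419
theorem D33967 : act 4 n16419 = n33967 := rfl
def n33968 : Q := act 7 n16419
theorem D33968 : act 7 n16419 = n33968 := rfl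
theorem F53300 : act 2 n33968 = n33151 := d4_1 D33968 F53068 F53069
theorem F53301 : act 5 n33968 = n16420 := d13_1 D33968 (iv7 D16420) D16419
theorem F53302 : act 1 n26407 = n33968 := d15_1 (iv0 F42749) (iv7 D33968) (iv2 F53069)
theorem F53303 : act 1 n33968 = n26412 := d15_1 F53302 F42196 F42194
theorem F53304 : act 6 n33968 = n29155 := d21_3 (iv5 F42742) (iv1 F53094) (iv5 F53301) (iv1 D29155) (iv6 D13876) (iv5 D6598) F4892 D3418 (iv6 F11731) D15993
theorem F53305 : act 2 n29155 = n29680 := d3_1 F53304 (iv6 F53039) (iv2 F53300)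
theorem F53306 : act 7 n29679 = n29155 := d15_2 F47706 F47711 F53305
theorem F53307 : act 7 n29154 = n29680 := d15_2 F47712 F47713 (iv2 F53305)
theorem F53308 : act 2 n29679 = n29154 := d4_3 F53307 (iv2 F53305) (iv7 F53306)
def n33969 : Q := act 5 n16424
theorem D33969 : act 5 n16424 = n33969 := rfl
theorem F53309 : act 3 n33969 = n25747 := d6_1 D33969 (iv5 D25747) (iv3 F25902)
def n33970 : Q := act 0 n16425
theorem D33970 : act 0 n16425 = n33970 := rfl
def n33971 : Q := act 1 n16425
theorem D33971 : act 1 n16425 = n33971 := rfl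
def n33972 : Q := act 4 n16425
theorem D33972 : act 4 n16425 = n33972 := rfl
theorem F53310 : act 0 n32940 = n33972 := d20_7 (iv4 F52059) (iv1 D32879) (iv4 D15832) F11707 D7439 D15862 D32940 (iv4 D33972) F25903 D16426
theorem E5549 : n32938 = n23896 := ((c18_10 (iv1 D32938) D32940 F53310 (iv4 D33972) (iv5 D16425) D16424 (iv0 F27013) (iv4 D15851) F50900 D23896)).symm
theorem F53311 : act 0 n23896 = n15862 := (sb E5549 (iv1 D32938))
def n33973 : Q := act 6 n16425
theorem D33973 : act 6 n16425 = n33973 := rfl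
theorem F53312 : act 3 n33973 = n16429 := d7_1 D33973 (iv6 D16429) (iv3 F25903)
def n33974 : Q := act 6 n16426
theorem D33974 : act 6 n16426 = n33974 := rfl
theorem F53313 : act 2 n33974 = n32653 := d3_1 D33974 F51716 F25906
theorem F53314 : act 5 n33974 = n26291 := d12_1 D33974 (iv6 D26291) (iv5 D12491) D12492 (iv5 F25904)
def n33975 : Q := act 3 n16427
theorem D33975 : act 3 n16427 = n33975 := rfl
theorem F53315 : act 5 n33975 = n31692 := d6_2 (iv5 F25909) D33975 F49973
theorem F53316 : act 7 n33975 = n32648 := d8_2 (iv7 F25908) D33975 F51711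
def n33976 : Q := act 1 n16428
theorem D33976 : act 1 n16428 = n33976 := rfl
theorem F53317 : act 1 n33976 = n16436 := d15_1 D33976 (iv7 F42755) F42754
theorem F53318 : act 7 n33976 = n32876 := d15_2 F51647 D33976 F52048
theorem F53319 : act 5 n33976 = n32873 := d17_7 (iv1 F42750) F42752 F25942 F22850 D16443 F25919 D33976 F52044 (iv4 D26685)
theorem F53320 : act 4 n33976 = n26696 := d17_9 (iv1 D26696) (iv5 D12755) (iv1 F12444) (iv5 F27655) (iv4 F46272) (iv5 D28704) (iv0 F25920) F25919 D33976
theorem F53321 : act 2 n32873 = n33976 := d1_3 F53320 (iv2 F42795) D32873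
def n33977 : Q := act 3 n16428
theorem D33977 : act 3 n16428 = n33977 := rfl
def n33978 : Q := act 6 n16428
theorem D33978 : act 6 n16428 = n33978 := rfl
theorem F53322 : act 4 n33978 = n16429 := d10_1 D33978 (iv6 D16429) D16428
def n33979 : Q := act 0 n16429
theorem D33979 : act 0 n16429 = n33979 := rfl
def n33980 : Q := act 1 n16429
theorem D33980 : act 1 n16429 = n33980 := rfl
def n33981 : Q := act 7 n16429
theorem D33981 : act 7 n16429 = n33981 := rfl
def n33982 : Q := act 3 n16436
theorem D33982 : act 3 n16436 = n33982 := rfl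
def n33983 : Q := act 6 n16436
theorem D33983 : act 6 n16436 = n33983 := rfl
theorem F53323 : act 4 n33983 = n16437 := d10_1 D33983 (iv6 D16437) D16436
def n33984 : Q := act 0 n16437
theorem D33984 : act 0 n16437 = n33984 := rfl
def n33985 : Q := act 1 n16437
theorem D33985 : act 1 n16437 = n33985 := rfl
def n33986 : Q := act 7 n16437
theorem D33986 : act 7 n16437 = n33986 := rfl
def n33987 : Q := act 2 n16439
theorem D33987 : act 2 n16439 = n33987 := rfl
def n33988 : Q := act 4 n16439
theorem D33988 : act 4 n16439 = n33988 := rfl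
theorem F53324 : act 0 n32920 = n33988 := d20_7 (iv4 F25923) (iv1 F25924) (iv4 F25977) F26697 F20524 (iv3 F25327) D32920 (iv4 D33988) (iv3 D16439) (iv1 F20723)
def n33989 : Q := act 6 n16439
theorem D33989 : act 6 n16439 = n33989 := rfl
theorem F53325 : act 3 n33989 = n16441 := d7_1 D33989 (iv6 D16441) D16439
def n33990 : Q := act 3 n16440
theorem D33990 : act 3 n16440 = n33990 := rfl
theorem F53326 : act 5 n33990 = n33982 := d6_2 (iv5 F25917) D33990 (iv3 D33982)
def n33991 : Q := act 6 n16440
theorem D33991 : act 6 n16440 = n33991 := rfl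
theorem F53327 : act 4 n33991 = n16441 := d10_1 D33991 (iv6 D16441) D16440
def n33992 : Q := act 0 n16441
theorem D33992 : act 0 n16441 = n33992 := rfl
def n33993 : Q := act 1 n16441
theorem D33993 : act 1 n16441 = n33993 := rfl
def n33994 : Q := act 7 n16441
theorem D33994 : act 7 n16441 = n33994 := rfl
def n33995 : Q := act 4 n16442
theorem D33995 : act 4 n16442 = n33995 := rfl
def n33996 : Q := act 6 n16442
theorem D33996 : act 6 n16442 = n33996 := rfl
theorem F53328 : act 3 n33996 = n16444 := d7_1 D33996 (iv6 D16444) D16442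
def n33997 : Q := act 3 n16443
theorem D33997 : act 3 n16443 = n33997 := rfl
theorem F53329 : act 5 n33997 = n33977 := d6_2 (iv5 F25919) D33997 (iv3 D33977)
def n33998 : Q := act 6 n16443
theorem D33998 : act 6 n16443 = n33998 := rfl
theorem F53330 : act 4 n33998 = n16444 := d10_1 D33998 (iv6 D16444) D16443
def n33999 : Q := act 0 n16444
theorem D33999 : act 0 n16444 = n33999 := rfl
def n34000 : Q := act 1 n16444
theorem D34000 : act 1 n16444 = n34000 := rfl
def n34001 : Q := act 7 n16444
theorem D34001 : act 7 n16444 = n34001 := rfl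
def n34002 : Q := act 3 n16445
theorem D34002 : act 3 n16445 = n34002 := rfl
theorem F53331 : act 5 n34002 = n32880 := d6_2 F26521 D34002 (iv3 D32880)
def n34003 : Q := act 6 n16445
theorem D34003 : act 6 n16445 = n34003 := rfl
def n34004 : Q := act 3 n16446
theorem D34004 : act 3 n16446 = n34004 := rfl
def n34005 : Q := act 6 n16446
theorem D34005 : act 6 n16446 = n34005 := rfl
def n34006 : Q := act 0 n16447
theorem D34006 : act 0 n16447 = n34006 := rfl
def n34007 : Q := act 1 n16447
theorem D34007 : act 1 n16447 = n34007 := rfl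
def n34008 : Q := act 2 n16447
theorem D34008 : act 2 n16447 = n34008 := rfl
def n34009 : Q := act 5 n16447
theorem D34009 : act 5 n16447 = n34009 := rfl
theorem F53332 : act 3 n34009 = n16448 := d6_1 D34009 (iv5 D16448) D16447
theorem F53333 : act 7 n34009 = n26695 := d13_2 F51355 D34009 (iv5 F51354)
def n34010 : Q := act 6 n16448
theorem D34010 : act 6 n16448 = n34010 := rfl
theorem F53334 : act 2 n34010 = n32338 := d3_1 D34010 F51353 (iv2 F25921)
theorem F53335 : act 4 n34010 = n26255 := d10_1 D34010 F41687 (iv4 F25923)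
def n34011 : Q := act 4 n16452
theorem D34011 : act 4 n16452 = n34011 := rfl
def n34012 : Q := act 6 n16452
theorem D34012 : act 6 n16452 = n34012 := rfl
theorem F53336 : act 3 n34012 = n16456 := d7_1 D34012 (iv6 D16456) (iv3 F25927)
def n34013 : Q := act 3 n16455
theorem D34013 : act 3 n16455 = n34013 := rfl
theorem F53337 : act 5 n34013 = n34004 := d6_2 (iv5 F25978) D34013 (iv3 D34004)
def n34014 : Q := act 6 n16455
theorem D34014 : act 6 n16455 = n34014 := rfl
theorem F53338 : act 4 n34014 = n16456 := d10_1 D34014 (iv6 D16456) D16455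
def n34015 : Q := act 0 n16456
theorem D34015 : act 0 n16456 = n34015 := rfl
def n34016 : Q := act 1 n16456
theorem D34016 : act 1 n16456 = n34016 := rfl
def n34017 : Q := act 7 n16456
theorem D34017 : act 7 n16456 = n34017 := rfl
def n34018 : Q := act 4 n16457
theorem D34018 : act 4 n16457 = n34018 := rfl
theorem F53339 : act 6 n34018 = n25463 := d10_2 (iv6 F25935) D34018 (iv4 D25463)
theorem F53340 : act 7 n34018 = n16947 := d11_2 (iv7 F25936) D34018 F27790
theorem F53341 : act 0 n34018 = n32355 := d18_2 (iv1 F25938) D34018 F51379 (iv5 D16889) F27619 F27617 F20065 (iv0 F12412) (iv5 F23472)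
theorem F53342 : act 0 n29609 = n34018 := d20_1 (iv4 F47547) (iv4 D34018) (iv3 D16457) (iv1 F11846) F26375 (iv4 F26366) F11700 (iv4 F26286) (iv3 F27697) F27698
def n34019 : Q := act 3 n16459
theorem D34019 : act 3 n16459 = n34019 := rfl
theorem F53343 : act 4 n34019 = n31692 := d5_2 (iv4 F25944) D34019 F49973 F24543 (iv3 F12713)
theorem F53344 : act 6 n34019 = n26061 := d7_2 (iv6 F25945) D34019 (iv3 D26061)
theorem F53345 : act 7 n34019 = n17040 := d8_2 (iv7 F25948) D34019 F27935
def n34020 : Q := act 5 n16460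
theorem D34020 : act 5 n16460 = n34020 := rfl
theorem F53346 : act 2 n34020 = n31660 := d2_1 D34020 F49951 F26688
theorem F53347 : act 3 n34020 = n16461 := d6_1 D34020 (iv5 D16461) D16460
theorem F53348 : act 7 n34020 = n28701 := d13_2 (iv7 F26687) D34020 F46269
theorem F53349 : act 0 n34020 = n26340 := d21_1 D34020 (iv5 D26340) F41364 (iv1 F20626) D26127 (iv5 F51588) (iv1 F51589) (iv5 D15388) F50633 (iv1 F26693)
theorem F53350 : act 0 n26328 = n34020 := d21_1 D26328 (iv5 D34020) F25950 (iv1 F50436) (iv6 D7261) D7260 F24909 (iv5 D5968) D5969 (iv1 F27201)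
def n34021 : Q := act 6 n16461
theorem D34021 : act 6 n16461 = n34021 := rfl
theorem F53351 : act 2 n34021 = n28700 := d3_1 D34021 (iv6 D28700) (iv2 F25951)
theorem F53352 : act 4 n34021 = n34003 := d10_1 D34021 (iv6 D34003) (iv4 F25955)
theorem F53353 : act 5 n34021 = n29179 := d12_1 D34021 (iv6 D29179) F23155 (iv6 F11848) D16461
def n34022 : Q := act 6 n16475
theorem D34022 : act 6 n16475 = n34022 := rfl
theorem F53354 : act 2 n34022 = n28702 := d3_1 D34022 (iv6 D28702) (iv2 F25973)
theorem F53355 : act 3 n34022 = n26059 := d7_1 D34022 F41204 (iv3 F26697)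
theorem F53356 : act 4 n34022 = n34005 := d10_1 D34022 (iv6 D34005) (iv4 F25977)
theorem F53357 : act 5 n34022 = n26056 := d12_1 D34022 (iv6 D26056) (iv5 D12350) (iv6 F26594) D16475
def n34023 : Q := act 6 n16477
theorem D34023 : act 6 n16477 = n34023 := rfl
theorem F53358 : act 2 n34023 = n32445 := d3_1 D34023 (iv6 D32445) F42882
theorem F53359 : act 3 n34023 = n16479 := d7_1 D34023 (iv6 D16479) D16477
theorem F53360 : act 4 n34023 = n32341 := d10_1 D34023 (iv6 D32341) (iv4 F25982)
theorem F53361 : act 7 n34023 = n32435 := d14_2 (iv7 F42888) D34023 (iv6 D32435) (iv7 F42915) F50914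
def n34024 : Q := act 6 n16478
theorem D34024 : act 6 n16478 = n34024 := rfl
theorem F53362 : act 2 n34024 = n32380 := d3_1 D34024 (iv6 D32380) F42911
theorem F53363 : act 3 n34024 = n32435 := d7_1 D34024 (iv6 D32435) (iv3 F25990)
theorem F53364 : act 4 n34024 = n16479 := d10_1 D34024 (iv6 D16479) D16478
theorem F53365 : act 7 n34024 = n16479 := d14_2 (iv7 F42914) D34024 (iv6 D16479) (iv7 F42890) (iv6 F50848)
theorem F53366 : act 1 n32382 = n34024 := d15_1 D32382 F53365 F42943
def n34025 : Q := act 0 n16479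
theorem D34025 : act 0 n16479 = n34025 := rfl
def n34026 : Q := act 1 n16479
theorem D34026 : act 1 n16479 = n34026 := rfl
def n34027 : Q := act 5 n16479
theorem D34027 : act 5 n16479 = n34027 := rfl
theorem F53370 : act 2 n34027 = n32383 := d2_1 D34027 (iv5 D32383) (iv2 F42943)
theorem F53371 : act 6 n34027 = n28620 := d12_2 D16479 D34027 (iv5 D28620) (iv6 D13647) (iv5 F25821)
def n34028 : Q := act 0 n16485
theorem D34028 : act 0 n16485 = n34028 := rfl
theorem F53372 : act 4 n34028 = n23940 := d18_3 (iv1 F22442) D16485 D34028 (iv5 F37972) (iv4 F39792) (iv0 F39797) F23925 F22471 F10367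
theorem F53373 : act 1 n24615 = n34028 := d15_0 (iv0 D34028) (iv7 F39284) F39283
theorem F53374 : act 7 n28098 = n34028 := d11_0 F53372 F37364 D28098
def n34029 : Q := act 1 n16485
theorem D34029 : act 1 n16485 = n34029 := rfl
theorem F53375 : act 1 n34029 = n24615 := d15_1 D34029 F38616 F26002
theorem F53376 : act 4 n34029 = n28097 := d18_7 F19725 (iv4 D11865) F22446 F8813 D7646 D16485 D34029 F45401 (iv5 D25192)
theorem F53377 : act 2 n28098 = n34029 := d1_3 F53376 (iv2 D28097) D28098
def n34030 : Q := act 3 n16485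
theorem D34030 : act 3 n16485 = n34030 := rfl
theorem F53378 : act 6 n34030 = n30199 := d7_2 (iv6 F26001) D34030 (iv3 D30199)
def n34031 : Q := act 5 n16485
theorem D34031 : act 5 n16485 = n34031 := rfl
theorem F53379 : act 4 n34031 = n32096 := d16_2 D16485 D34031 (iv5 F51037) F45495 (iv5 D24614) (iv4 D11652) D11653 (iv7 F22573) F11874
theorem F53380 : act 3 n32079 = n34031 := d5_5 F53379 (iv3 D32096) (iv4 D15148) (iv3 F24750) D32079
theorem F53381 : act 5 n34030 = n32079 := d6_0 F53380 (iv5 D34031) D34030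
def n34032 : Q := act 0 n16486
theorem D34032 : act 0 n16486 = n34032 := rfl
theorem F53382 : act 2 n34028 = n34032 := d15_3 (iv0 D34032) (iv0 F45403) F53374
theorem F53383 : act 1 n25039 = n34032 := d15_0 (iv0 D34032) (iv7 F38616) (iv2 F39283)
theorem F53384 : act 7 n34032 = n34029 := d15_2 (iv0 F45404) F53383 (iv2 F53377)
def n34033 : Q := act 3 n16486
theorem D34033 : act 3 n16486 = n34033 := rfl
theorem F53385 : act 6 n34033 = n30202 := d7_2 (iv6 F26003) D34033 (iv3 D30202)
def n34034 : Q := act 5 n16486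
theorem D34034 : act 5 n16486 = n34034 := rfl
theorem F53386 : act 2 n34034 = n34031 := d2_1 D34034 (iv5 D34031) (iv2 F26002)
def n34035 : Q := act 4 n16488
theorem D34035 : act 4 n16488 = n34035 := rfl
theorem F53387 : act 2 n34035 = n16496 := d1_1 D34035 (iv4 D16496) (iv2 F26056)
theorem F53388 : act 6 n34035 = n30442 := d10_2 (iv6 F26058) D34035 (iv4 D30442)
theorem F53389 : act 7 n34035 = n16502 := d11_2 (iv7 F26059) D34035 (iv4 D16502)
def n34036 : Q := act 4 n16489
theorem D34036 : act 4 n16489 = n34036 := rfl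
theorem F53390 : act 2 n34036 = n16502 := d1_1 D34036 (iv4 D16502) (iv2 F26061)
theorem F53391 : act 7 n34036 = n16496 := d11_2 (iv7 F26062) D34036 (iv4 D16496)
def n34037 : Q := act 6 n16489
theorem D34037 : act 6 n16489 = n34037 := rfl
theorem F53392 : act 2 n34037 = n16503 := d3_1 D34037 (iv6 D16503) (iv2 F26061)
theorem F53393 : act 5 n34037 = n29536 := d12_1 D34037 (iv6 D29536) (iv5 F23860) F23862 D16489
theorem F53394 : act 0 n25803 = n34037 := d21_4 (iv5 F19040) F19659 (iv5 F20314) D25803 (iv6 D34037) (iv5 D16489) (iv1 D7653) D7654 F11885 F19042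
def n34038 : Q := act 4 n16490
theorem D34038 : act 4 n16490 = n34038 := rfl
theorem F53395 : act 2 n34038 = n16505 := d1_1 D34038 (iv4 D16505) F26065
theorem F53396 : act 7 n34038 = n16508 := d11_2 (iv7 F26066) D34038 (iv4 D16508)
theorem F53397 : act 1 n34038 = n25319 := d18_6 F38727 (iv4 F23810) F23989 F23988 (iv5 F26064) D34038 (iv4 D25319) D25318 (iv5 F39980)
theorem F53398 : act 1 n30336 = n34038 := d15_1 D30336 F53396 F26102
def n34039 : Q := act 6 n16490
theorem D34039 : act 6 n16490 = n34039 := rfl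
theorem F53399 : act 2 n34039 = n16506 := d3_1 D34039 (iv6 D16506) F26065
theorem F53400 : act 3 n34039 = n24126 := d7_1 D34039 (iv6 D24126) (iv3 F37497)
theorem F53401 : act 5 n34039 = n25047 := d12_1 D34039 (iv6 D25047) F22585 (iv6 F23852) (iv5 F26064)
def n34040 : Q := act 0 n16491
theorem D34040 : act 0 n16491 = n34040 := rfl
theorem F53402 : act 4 n34040 = n24257 := d18_3 F11886 D16491 D34040 (iv5 F46502) F46505 (iv0 F38866) (iv4 F22525) F22556 D6884
theorem F53403 : act 2 n16510 = n34040 := d1_3 F53402 F39984 F45716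
theorem F53404 : act 7 n16511 = n34040 := d11_0 F53402 F39982 F39983
theorem F53405 : act 1 n16514 = n34040 := d18_6 F19231 F18741 (iv1 F18739) F8121 (iv5 F11903) (iv4 F26107) F53402 F45712 (iv5 D24936)
def n34041 : Q := act 1 n16491
theorem D34041 : act 1 n16491 = n34041 := rfl
theorem F53406 : act 1 n34041 = n16514 := d15_1 D34041 (iv7 D16514) (iv2 F26068)
theorem F53407 : act 7 n34041 = n16510 := d15_2 (iv0 D34040) D34041 F53403
theorem F53408 : act 4 n34041 = n28232 := d18_7 F23689 F23686 (iv1 D11462) F8117 D7654 D16491 D34041 F45708 F39987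
theorem F53409 : act 2 n16511 = n34041 := d1_3 F53408 F45705 F39983
def n34042 : Q := act 3 n16491
theorem D34042 : act 3 n16491 = n34042 := rfl
theorem F53410 : act 4 n34042 = n30142 := d5_2 D16491 D34042 (iv3 D30142) (iv4 D14306) (iv3 F11884)
theorem F53411 : act 6 n34042 = n25792 := d7_2 (iv6 F26069) D34042 (iv3 D25792)
def n34043 : Q := act 5 n16491
theorem D34043 : act 5 n16491 = n34043 := rfl
theorem F53412 : act 2 n34043 = n16513 := d2_1 D34043 (iv5 D16513) (iv2 F26068)
def n34044 : Q := act 7 n16491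
theorem D34044 : act 7 n16491 = n34044 := rfl
theorem F53413 : act 2 n34044 = n16514 := d4_1 D34044 (iv7 D16514) (iv2 F26068)
theorem F53414 : act 4 n34044 = n16492 := d11_1 D34044 (iv7 D16492) D16491
theorem F53415 : act 1 n16511 = n34044 := d15_1 D16511 (iv7 D34044) F26068
theorem F53416 : act 1 n34044 = n16510 := d15_1 F53415 (iv7 F53407) (iv2 F53409)
def n34045 : Q := act 6 n16492
theorem D34045 : act 6 n16492 = n34045 := rfl
theorem F53417 : act 2 n34045 = n16515 := d3_1 D34045 (iv6 D16515) (iv2 F26070)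
theorem F53418 : act 3 n34045 = n30145 := d7_1 D34045 (iv6 D30145) (iv3 F26071)
theorem F53419 : act 5 n34045 = n34045 := d12_1 D34045 (iv6 D34045) F26072 F11889 (iv5 F26072)
theorem F53420 : act 7 n34045 = n25795 := d14_2 D16492 D34045 (iv6 D25795) (iv7 D12248) (iv6 F11885)
theorem F53421 : act 1 n25859 = n34045 := d15_1 D25859 F53420 F40767
theorem F53422 : act 1 n34045 = n25858 := d15_0 (iv0 D25858) (iv7 F26110) (iv2 F53417)
def n34046 : Q := act 4 n16493
theorem D34046 : act 4 n16493 = n34046 := rfl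
theorem F53423 : act 0 n34046 = n29417 := d18_2 F46625 D34046 (iv4 D29417) (iv5 D13991) F10796 (iv0 F22557) (iv4 F11129) D14366 (iv5 F46623)
def n34047 : Q := act 6 n16493
theorem D34047 : act 6 n16493 = n34047 := rfl
theorem F53424 : act 3 n34047 = n16497 := d7_1 D34047 (iv6 D16497) (iv3 F26075)
theorem F53425 : act 5 n34047 = n30172 := d12_1 D34047 (iv6 D30172) (iv5 F24105) F24104 D16493
def n34048 : Q := act 4 n16494
theorem D34048 : act 4 n16494 = n34048 := rfl
theorem F53426 : act 2 n34048 = n34046 := d1_1 D34048 (iv4 D34046) (iv2 F26076)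
def n34049 : Q := act 6 n16494
theorem D34049 : act 6 n16494 = n34049 := rfl
theorem F53427 : act 2 n34049 = n34047 := d3_1 D34049 (iv6 D34047) (iv2 F26076)
def n34050 : Q := act 0 n16496
theorem D34050 : act 0 n16496 = n34050 := rfl
theorem F53428 : act 4 n34050 = n29321 := d18_3 F24033 D16496 D34050 (iv5 D29321) (iv4 F23810) (iv0 F23811) F11140 D6883 D14392
theorem F53429 : act 1 n16502 = n34050 := d15_0 (iv0 D34050) (iv7 F53391) F53390
def n34051 : Q := act 1 n16496
theorem D34051 : act 1 n16496 = n34051 := rfl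
theorem F53430 : act 1 n34051 = n16502 := d15_1 D34051 (iv7 F53389) F53387
def n34052 : Q := act 3 n16496
theorem D34052 : act 3 n16496 = n34052 := rfl
def n34053 : Q := act 5 n16496
theorem D34053 : act 5 n16496 = n34053 := rfl
def n34054 : Q := act 6 n16496
theorem D34054 : act 6 n16496 = n34054 := rfl
theorem F53431 : act 2 n34054 = n30442 := d3_1 D34054 (iv6 F53388) F53387
theorem F53432 : act 4 n34054 = n16497 := d10_1 D34054 (iv6 D16497) D16496
def n34055 : Q := act 0 n16497
theorem D34055 : act 0 n16497 = n34055 := rfl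
theorem F53433 : act 6 n34055 = n25809 := d21_5 (iv5 D3473) D3471 D7659 D16497 D34055 F48493 (iv1 D30155) (iv5 F26104) (iv6 D16509) (iv1 D7667)
def n34056 : Q := act 1 n16497
theorem D34056 : act 1 n16497 = n34056 := rfl
theorem F53434 : act 1 n34056 = n30443 := d15_1 D34056 (iv7 D30443) (iv2 F26081)
def n34057 : Q := act 7 n16497
theorem D34057 : act 7 n16497 = n34057 := rfl
theorem F53435 : act 2 n34057 = n30443 := d4_1 D34057 (iv7 D30443) (iv2 F26081)
theorem F53436 : act 5 n34057 = n30178 := d13_1 D34057 (iv7 D30178) (iv5 F26082)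
theorem F53437 : act 1 n30443 = n34055 := d15_0 (iv0 D34055) D34057 F53435
theorem F53438 : act 1 n30441 = n34057 := d15_1 D30441 (iv7 D34057) F26081
theorem F53439 : act 1 n34057 = n30440 := d15_0 (iv0 D30440) D30443 (iv2 F53435)
def n34058 : Q := act 0 n16498
theorem D34058 : act 0 n16498 = n34058 := rfl
theorem F53440 : act 5 n34058 = n30278 := d17_3 (iv1 F19524) D16498 D34058 F48677 (iv5 F38191) (iv0 D24365) (iv5 D11486) F19502 F9845
theorem F53441 : act 2 n24111 = n34058 := d15_3 (iv0 D34058) (iv0 F46401) F46400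
theorem F53442 : act 1 n23988 = n34058 := d15_0 (iv0 D34058) F26085 (iv2 F37475)
theorem F53443 : act 7 n34058 = n24110 := d15_2 F46402 F53442 (iv2 F46398)
theorem F53444 : act 3 n29586 = n34058 := d8_3 F53443 F46614 F47481
theorem F53445 : act 6 n34058 = n24165 := d21_3 D24125 (iv1 F48675) (iv5 F53440) (iv1 D24165) (iv6 D11350) (iv5 D5239) (iv1 D2149) D2150 (iv6 F7797) D11331
theorem F53446 : act 2 n24165 = n25243 := d3_1 F53445 F39785 F53441
theorem F53447 : act 3 n24165 = n30352 := d7_1 F53445 (iv6 F48782) F53444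
theorem F53448 : act 7 n25242 = n24165 := d4_0 F53446 (iv7 F49329) F49330
theorem E5550 : n30878 = n24164 := ((c15_2 F39789 F39790 F49329 (iv2 F53446))).symm
theorem F53449 : act 2 n24164 = n25242 := (sb E5550 F49330)
theorem F53450 : act 3 n24164 = n14622 := (sb E5550 (iv3 D30878))
theorem F53451 : act 7 n24164 = n25243 := (sb E5550 F49329)
def n34059 : Q := act 4 n16498
theorem D34059 : act 4 n16498 = n34059 := rfl
theorem F53452 : act 2 n34059 = n24119 := d1_1 D34059 (iv4 D24119) (iv2 F26083)
theorem F53453 : act 7 n34059 = n24112 := d11_2 (iv7 F26085) D34059 (iv4 D24112)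
theorem F53454 : act 0 n34059 = n31409 := d18_2 F46401 D34059 (iv4 D31409) (iv5 D14805) D14804 F48686 F48683 F37805 D28761
theorem F53455 : act 1 n34059 = n31405 := d18_6 (iv1 F19457) (iv4 F18287) (iv1 F18290) (iv4 F19520) D16498 D34059 (iv4 D31405) (iv0 F24454) (iv5 D7697)
def n34060 : Q := act 6 n16498
theorem D34060 : act 6 n16498 = n34060 := rfl
theorem F53456 : act 2 n34060 = n24120 := d3_1 D34060 (iv6 D24120) (iv2 F26083)
theorem F53457 : act 3 n34060 = n16503 := d7_1 D34060 (iv6 D16503) (iv3 F26084)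
theorem F53458 : act 0 n24143 = n34060 := d21_4 F18292 (iv1 F19769) F19767 D24143 (iv6 D34060) (iv5 D16498) F19523 D11245 F18285 D11247
def n34061 : Q := act 4 n16500
theorem D34061 : act 4 n16500 = n34061 := rfl
theorem F53459 : act 7 n34061 = n34046 := d11_2 (iv7 F26091) D34061 (iv4 D34046)
def n34062 : Q := act 6 n16500
theorem D34062 : act 6 n16500 = n34062 := rfl
theorem F53460 : act 3 n34062 = n34037 := d7_1 D34062 (iv6 D34037) (iv3 F26090)
def n34063 : Q := act 3 n16502
theorem D34063 : act 3 n16502 = n34063 := rfl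
def n34064 : Q := act 5 n16502
theorem D34064 : act 5 n16502 = n34064 := rfl
def n34065 : Q := act 6 n16502
theorem D34065 : act 6 n16502 = n34065 := rfl
theorem F53461 : act 4 n34065 = n16503 := d10_1 D34065 (iv6 D16503) D16502
def n34066 : Q := act 0 n16503
theorem D34066 : act 0 n16503 = n34066 := rfl
theorem F53462 : act 6 n34066 = n30724 := d21_5 F26072 (iv1 F11891) D7664 D16503 D34066 F49192 (iv1 F39437) F38624 (iv6 D16506) (iv1 F26074)
theorem F53463 : act 3 n16533 = n34066 := d7_3 F53462 F49191 (iv6 F26157)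
theorem F53464 : act 5 n29866 = n34066 := d12_5 F53462 F49192 F39436 (iv5 F48233) F48234
theorem F53465 : act 7 n25803 = n34066 := d14_0 F53462 (iv7 D30724) (iv6 D14560) (iv7 F20313) D25803
def n34067 : Q := act 1 n16503
theorem D34067 : act 1 n16503 = n34067 := rfl
theorem F53466 : act 6 n24135 = n34067 := d21_3 F19655 (iv1 F39411) F39408 (iv1 D34067) (iv6 D16503) (iv5 D7664) (iv1 D3472) D3473 F5452 D5816
theorem F53467 : act 5 n25769 = n34067 := d21_6 (iv5 D6584) F22493 D3077 (iv6 F8920) D12235 D25769 (iv1 D34067) (iv5 F46719) (iv6 D29076) (iv1 D13842)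
theorem F53468 : act 2 n34067 = n25803 := d2_1 F53467 F40790 (iv2 F40715)
theorem F53469 : act 3 n34067 = n30083 := d6_1 F53467 (iv5 D30083) (iv3 F40716)
def n34068 : Q := act 7 n16503
theorem D34068 : act 7 n16503 = n34068 := rfl
theorem F53470 : act 6 n34068 = n30443 := d14_1 D34068 (iv7 D30443) (iv6 F26058) F26059 D16503
theorem F53471 : act 1 n25803 = n34068 := d15_1 (iv0 F53394) (iv7 D34068) (iv2 F53392)
def n34069 : Q := act 4 n16504
theorem D34069 : act 4 n16504 = n34069 := rfl
theorem F53472 : act 2 n34069 = n24353 := d1_1 D34069 F39090 (iv2 F39087)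
theorem F53473 : act 7 n34069 = n24354 := d11_2 (iv7 F26095) D34069 (iv4 F38170)
theorem F53474 : act 0 n34069 = n24357 := d18_2 F26096 D34069 F38173 F18753 F8121 F11890 (iv4 F11894) (iv0 F11895) D12039
theorem F53475 : act 1 n34069 = n24330 := d18_6 (iv1 F22628) (iv4 F22525) D14293 (iv4 F23988) (iv5 F26094) D34069 (iv4 D24330) (iv0 F22630) (iv5 D13483)
def n34070 : Q := act 6 n16504
theorem D34070 : act 6 n16504 = n34070 := rfl
theorem F53476 : act 3 n34070 = n16506 := d7_1 D34070 (iv6 D16506) D16504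
def n34071 : Q := act 0 n16505
theorem D34071 : act 0 n16505 = n34071 := rfl
theorem F53477 : act 4 n34071 = n25320 := d18_3 D7666 D16505 D34071 F39987 (iv4 F19933) (iv0 F19939) (iv4 D7658) (iv0 D3471) D3473
theorem F53478 : act 1 n16508 = n34071 := d15_0 (iv0 D34071) F26097 (iv2 F26102)
theorem F53479 : act 7 n25319 = n34071 := d11_0 F53477 (iv7 D25320) D25319
theorem F53480 : act 2 n34071 = n30336 := d15_3 F53398 F53397 F53479
def n34072 : Q := act 1 n16505
theorem D34072 : act 1 n16505 = n34072 := rfl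
theorem F53481 : act 1 n34072 = n16508 := d15_1 D34072 (iv7 F53396) F53395
theorem F53482 : act 7 n34072 = n30336 := d15_2 (iv0 D34071) D34072 (iv2 F53480)
theorem F53483 : act 4 n34072 = n24936 := d18_7 F45604 F45603 (iv1 F24024) F24022 (iv5 F22547) D16505 D34072 (iv0 F45707) (iv5 D28232)
theorem F53484 : act 2 n25319 = n34072 := d1_3 F53483 F39083 D25319
theorem F53485 : act 6 n25823 = n34072 := d10_0 F53483 F39085 F40814
def n34073 : Q := act 3 n16505
theorem D34073 : act 3 n16505 = n34073 := rfl
theorem F53486 : act 7 n34073 = n30337 := d8_2 (iv7 F26097) D34073 (iv3 D30337)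
def n34074 : Q := act 5 n16505
theorem D34074 : act 5 n16505 = n34074 := rfl
theorem F53487 : act 7 n34074 = n30338 := d13_2 (iv7 F26097) D34074 (iv5 D30338)
def n34075 : Q := act 6 n16505
theorem D34075 : act 6 n16505 = n34075 := rfl
theorem F53488 : act 4 n34075 = n16506 := d10_1 D34075 (iv6 D16506) D16505
def n34076 : Q := act 0 n16506
theorem D34076 : act 0 n16506 = n34076 := rfl
theorem F53489 : act 6 n34076 = n30438 := d21_5 (iv5 D13846) (iv1 F23854) (iv5 F22547) D16506 D34076 (iv5 D30438) (iv1 D14454) D14455 (iv6 F26058) F26060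
def n34077 : Q := act 1 n16506
theorem D34077 : act 1 n16506 = n34077 := rfl
def n34078 : Q := act 7 n16506
theorem D34078 : act 7 n16506 = n34078 := rfl
theorem F53490 : act 6 n34078 = n30334 := d14_1 D34078 (iv7 D30334) F24030 F22548 D16506
def n34079 : Q := act 6 n16507
theorem D34079 : act 6 n16507 = n34079 := rfl
theorem F53491 : act 2 n34079 = n24128 := d3_1 D34079 (iv6 D24128) (iv2 F26098)
theorem F53492 : act 3 n34079 = n16509 := d7_1 D34079 (iv6 D16509) D16507
theorem F53493 : act 5 n34079 = n30147 := d12_1 D34079 (iv6 D30147) (iv5 D14308) D14309 (iv5 F26099)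
def n34080 : Q := act 3 n16508
theorem D34080 : act 3 n16508 = n34080 := rfl
def n34081 : Q := act 5 n16508
theorem D34081 : act 5 n16508 = n34081 := rfl
theorem F53494 : act 2 n34081 = n30338 := d2_1 D34081 (iv5 D30338) (iv2 F26102)
def n34082 : Q := act 6 n16508
theorem D34082 : act 6 n16508 = n34082 := rfl
theorem F53495 : act 2 n34082 = n30333 := d3_1 D34082 F48757 (iv2 F26102)
theorem F53496 : act 4 n34082 = n16509 := d10_1 D34082 (iv6 D16509) D16508
def n34083 : Q := act 0 n16509
theorem D34083 : act 0 n16509 = n34083 := rfl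
def n34084 : Q := act 1 n16509
theorem D34084 : act 1 n16509 = n34084 := rfl
theorem F53497 : act 1 n34084 = n30334 := d15_1 D34084 (iv7 D30334) (iv2 F26103)
theorem F53498 : act 5 n30405 = n34084 := d21_6 (iv5 D11663) (iv1 F22597) (iv5 D6903) D6904 D14441 D30405 (iv1 D34084) F26104 (iv6 D14312) F22436
def n34085 : Q := act 7 n16509
theorem D34085 : act 7 n16509 = n34085 := rfl
theorem F53499 : act 2 n34085 = n30334 := d4_1 D34085 (iv7 D30334) (iv2 F26103)
theorem F53500 : act 5 n34085 = n30156 := d13_1 D34085 (iv7 D30156) (iv5 F26104)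
theorem F53501 : act 1 n30334 = n34083 := d15_0 (iv0 D34083) D34085 F53499
theorem F53502 : act 1 n30332 = n34085 := d15_1 D30332 (iv7 D34085) F26103
theorem F53503 : act 5 n30243 = n34083 := d21_0 (iv1 F53501) F48758 (iv6 F48516) (iv1 F48517) F47040 F47038 (iv1 D24138) F18509 D14353 D30243
theorem F53504 : act 1 n34085 = n30331 := d15_0 (iv0 D30331) D30334 (iv2 F53499)
def n34086 : Q := act 3 n16510
theorem D34086 : act 3 n16510 = n34086 := rfl
def n34087 : Q := act 5 n16510
theorem D34087 : act 5 n16510 = n34087 := rfl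
def n34088 : Q := act 6 n16510
theorem D34088 : act 6 n16510 = n34088 := rfl
def n34089 : Q := act 3 n16511
theorem D34089 : act 3 n16511 = n34089 := rfl
def n34090 : Q := act 5 n16511
theorem D34090 : act 5 n16511 = n34090 := rfl
def n34091 : Q := act 6 n16511
theorem D34091 : act 6 n16511 = n34091 := rfl
def n34092 : Q := act 0 n16512
theorem D34092 : act 0 n16512 = n34092 := rfl
def n34093 : Q := act 1 n16512
theorem D34093 : act 1 n16512 = n34093 := rfl
def n34094 : Q := act 2 n16512
theorem D34094 : act 2 n16512 = n34094 := rfl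
theorem F53505 : act 4 n34094 = n16559 := d1_2 (iv4 F26105) D34094 (iv2 D16559)
theorem F53506 : act 6 n34094 = n25849 := d3_2 (iv6 F26106) D34094 (iv2 D25849)
def n34095 : Q := act 5 n16512
theorem D34095 : act 5 n16512 = n34095 := rfl
theorem F53507 : act 3 n34095 = n16513 := d6_1 D34095 (iv5 D16513) D16512
def n34096 : Q := act 7 n16512
theorem D34096 : act 7 n16512 = n34096 := rfl
theorem F53508 : act 3 n34096 = n16514 := d8_1 D34096 (iv7 D16514) D16512
theorem F53509 : act 4 n34096 = n16561 := d11_1 D34096 (iv7 D16561) (iv4 F26105)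
def n34097 : Q := act 0 n16513
theorem D34097 : act 0 n16513 = n34097 := rfl
def n34098 : Q := act 1 n16513
theorem D34098 : act 1 n16513 = n34098 := rfl
def n34099 : Q := act 4 n16513
theorem D34099 : act 4 n16513 = n34099 := rfl
def n34100 : Q := act 6 n16513
theorem D34100 : act 6 n16513 = n34100 := rfl
theorem F53510 : act 5 n34100 = n25855 := d12_1 D34100 (iv6 D25855) (iv5 D12271) (iv6 F11901) D16513
def n34101 : Q := act 7 n16513
theorem D34101 : act 7 n16513 = n34101 := rfl
theorem F53511 : act 5 n34101 = n16514 := d13_1 D34101 (iv7 D16514) D16513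
def n34102 : Q := act 6 n16514
theorem D34102 : act 6 n16514 = n34102 := rfl
theorem F53512 : act 4 n34102 = n16515 := d10_1 D34102 (iv6 D16515) (iv4 F26107)
theorem F53513 : act 7 n34102 = n25857 := d14_2 D16514 D34102 (iv6 D25857) (iv7 D12272) (iv6 F11901)
def n34103 : Q := act 0 n16515
theorem D34103 : act 0 n16515 = n34103 := rfl
theorem F53514 : act 1 n25795 = n34103 := d15_0 (iv0 D34103) F26110 (iv2 F40767)
def n34104 : Q := act 1 n16515
theorem D34104 : act 1 n16515 = n34104 := rfl
theorem F53515 : act 1 n34104 = n25795 := d15_1 D34104 (iv7 F53420) F53417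
def n34105 : Q := act 0 n16516
theorem D34105 : act 0 n16516 = n34105 := rfl
theorem F53516 : act 4 n34105 = n29932 := d18_3 (iv1 F24212) D16516 D34105 F48115 F38920 F19295 F10173 D6955 D14557
theorem F53517 : act 1 n24442 = n34105 := d15_0 (iv0 D34105) F26111 (iv2 F38338)
def n34106 : Q := act 1 n16516
theorem D34106 : act 1 n16516 = n34106 := rfl
theorem F53518 : act 1 n34106 = n24442 := d15_1 D34106 F38339 F38299
theorem F53519 : act 4 n34106 = n29933 := d18_7 (iv1 D6768) F4786 D3055 F10313 D7673 D16516 D34106 F48117 (iv5 D14218)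
def n34107 : Q := act 3 n16516
theorem D34107 : act 3 n16516 = n34107 := rfl
theorem F53520 : act 4 n34107 = n16519 := d5_2 D16516 D34107 (iv3 D16519) (iv4 D7675) (iv3 F11912)
theorem F53521 : act 7 n34107 = n30550 := d8_2 (iv7 F26111) D34107 (iv3 D30550)
def n34108 : Q := act 5 n16516
theorem D34108 : act 5 n16516 = n34108 := rfl
theorem F53522 : act 7 n34108 = n30551 := d13_2 (iv7 F26111) D34108 (iv5 D30551)
theorem F53523 : act 4 n34108 = n29963 := d16_2 D16516 D34108 (iv5 D29963) (iv4 D14229) (iv5 D6775) F19494 D11545 F19500 F19550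
theorem F53524 : act 1 n34108 = n29945 := d17_6 (iv1 D11548) (iv5 D5378) F19491 D7673 D16516 D34108 (iv5 D29945) (iv0 F38355) (iv4 D24446)
def n34109 : Q := act 6 n16516
theorem D34109 : act 6 n16516 = n34109 := rfl
theorem F53525 : act 4 n34109 = n16517 := d10_1 D34109 (iv6 D16517) D16516
def n34110 : Q := act 0 n16517
theorem D34110 : act 0 n16517 = n34110 := rfl
theorem F53526 : act 6 n34110 = n25869 := d21_5 (iv5 D5378) F19491 D7673 D16517 D34110 F49123 (iv1 D30669) (iv5 F38357) (iv6 D24447) (iv1 D11548)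
def n34111 : Q := act 1 n16517
theorem D34111 : act 1 n16517 = n34111 := rfl
def n34112 : Q := act 7 n16517
theorem D34112 : act 7 n16517 = n34112 := rfl
theorem F53527 : act 3 n34112 = n16524 := d8_1 D34112 (iv7 D16524) (iv3 F26112)
theorem F53528 : act 5 n34112 = n25953 := d13_1 D34112 (iv7 D25953) (iv5 F26113)
theorem F53529 : act 6 n34112 = n30554 := d14_1 D34112 (iv7 D30554) (iv6 D14494) (iv7 F11913) D16517
def n34113 : Q := act 3 n16518
theorem D34113 : act 3 n16518 = n34113 := rfl
theorem F53530 : act 6 n34113 = n30917 := d7_2 F47795 D34113 (iv3 D30917)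
theorem F53531 : act 7 n34113 = n29431 := d8_2 (iv7 F26115) D34113 (iv3 D29431)
def n34114 : Q := act 0 n16519
theorem D34114 : act 0 n16519 = n34114 := rfl
theorem F53532 : act 1 n30557 = n34114 := d15_0 (iv0 D34114) F26118 D30557
def n34115 : Q := act 1 n16519
theorem D34115 : act 1 n16519 = n34115 := rfl
def n34116 : Q := act 2 n16519
theorem D34116 : act 2 n16519 = n34116 := rfl
theorem F53533 : act 3 n34116 = n30532 := d0_2 D16519 D34116 (iv2 D30532) (iv3 D14486) (iv2 F11919)
theorem F53534 : act 7 n34116 = n30557 := d4_2 (iv7 F26118) D34116 (iv2 D30557)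
theorem F53535 : act 1 n34116 = n30555 := d15_0 (iv0 D30555) (iv7 F26118) D34116
theorem F53536 : act 1 n34115 = n30557 := d15_1 D34115 (iv7 F53534) (iv2 D34116)
theorem F53537 : act 1 n30556 = n34116 := d15_1 D30556 F53534 (iv2 D30557)
def n34117 : Q := act 5 n16519
theorem D34117 : act 5 n16519 = n34117 := rfl
theorem F53538 : act 3 n34117 = n16520 := d6_1 D34117 (iv5 D16520) D16519
theorem F53539 : act 7 n34117 = n30558 := d13_2 (iv7 F26118) D34117 (iv5 D30558)
def n34118 : Q := act 6 n16519
theorem D34118 : act 6 n16519 = n34118 := rfl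
def n34119 : Q := act 6 n16520
theorem D34119 : act 6 n16520 = n34119 := rfl
theorem F53541 : act 2 n34119 = n30535 := d3_1 D34119 (iv6 D30535) (iv2 F26119)
theorem F53542 : act 4 n34119 = n16628 := d10_1 D34119 (iv6 D16628) (iv4 F26121)
def n34120 : Q := act 0 n16521
theorem D34120 : act 0 n16521 = n34120 := rfl
def n34121 : Q := act 1 n16521
theorem D34121 : act 1 n16521 = n34121 := rfl
theorem F53543 : act 1 n34121 = n30539 := d15_1 D34121 (iv7 D30539) (iv2 F26124)
def n34122 : Q := act 5 n16521
theorem D34122 : act 5 n16521 = n34122 := rfl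
theorem F53545 : act 1 n34122 = n31103 := d17_6 (iv1 F20446) (iv5 F23518) (iv1 D12316) (iv5 F11922) (iv4 F26125) D34122 (iv5 D31103) F41034 F41031
theorem E5551 : n31104 = n30578 := ((c21_5 D28883 F46524 (iv5 D14504) D14505 D30578 (iv6 D31104) D31103 (iv1 F53545) (iv5 D34122) (iv6 D16521) (iv1 F23021))).symm
theorem F53546 : act 6 n30578 = n14702 := (sb E5551 (iv6 D31104))
def n34123 : Q := act 7 n16521
theorem D34123 : act 7 n16521 = n34123 := rfl
theorem F53547 : act 2 n34123 = n30539 := d4_1 D34123 (iv7 D30539) (iv2 F26124)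
theorem F53548 : act 4 n34123 = n16524 := d11_1 D34123 (iv7 D16524) (iv4 F26125)
theorem F53549 : act 6 n34123 = n30563 := d14_1 D34123 (iv7 D30563) (iv6 D14498) (iv7 F11920) D16521
theorem F53550 : act 1 n30539 = n34120 := d15_0 (iv0 D34120) D34123 F53547
theorem F53551 : act 1 n30537 = n34123 := d15_1 D30537 (iv7 D34123) F26124
theorem F53552 : act 1 n34123 = n30536 := d15_0 (iv0 D30536) D30539 (iv2 F53547)
def n34124 : Q := act 3 n16522
theorem D34124 : act 3 n16522 = n34124 := rfl
theorem F53553 : act 6 n34124 = n25885 := d7_2 (iv6 F26126) D34124 (iv3 D25885)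
theorem F53554 : act 7 n34124 = n30544 := d8_2 (iv7 F48956) D34124 (iv3 D30544)
def n34125 : Q := act 4 n16522
theorem D34125 : act 4 n16522 = n34125 := rfl
theorem F53555 : act 2 n34125 = n30542 := d1_1 D34125 (iv4 D30542) (iv2 F48955)
theorem F53556 : act 6 n34125 = n25886 := d10_2 (iv6 F26126) D34125 (iv4 D25886)
theorem F53557 : act 7 n34125 = n30545 := d11_2 (iv7 F48956) D34125 (iv4 D30545)
def n34126 : Q := act 3 n16523
theorem D34126 : act 3 n16523 = n34126 := rfl
theorem F53558 : act 5 n34126 = n34124 := d6_2 F26128 D34126 (iv3 D34124)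
def n34127 : Q := act 4 n16523
theorem D34127 : act 4 n16523 = n34127 := rfl
theorem F53560 : act 2 n34127 = n30545 := d1_1 D34127 (iv4 D30545) (iv2 F48957)
theorem F53561 : act 7 n34127 = n30542 := d11_2 (iv7 F48958) D34127 (iv4 D30542)
def n34128 : Q := act 4 n16525
theorem D34128 : act 4 n16525 = n34128 := rfl
theorem F53562 : act 7 n34128 = n29304 := d11_2 (iv7 F26137) D34128 (iv4 D29304)
theorem F53563 : act 0 n34128 = n29041 := d18_2 F48135 D34128 (iv4 D29041) F23082 (iv4 F24307) (iv0 F24310) (iv4 F40229) F40233 D29940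
theorem F53564 : act 1 n34128 = n29801 := d18_6 (iv1 F10989) F10985 (iv1 F10315) D7677 D16525 D34128 (iv4 D29801) (iv0 D14162) (iv5 D6739)
theorem F53565 : act 5 n29854 = n34128 := d17_7 (iv1 F23681) (iv5 D6744) (iv1 D3031) D3032 D6748 D14183 D29854 F53564 (iv4 D29801)
def n34129 : Q := act 6 n16525
theorem D34129 : act 6 n16525 = n34129 := rfl
theorem F53566 : act 3 n34129 = n24034 := d7_1 D34129 (iv6 D24034) (iv3 F26136)
def n34130 : Q := act 5 n16526
theorem D34130 : act 5 n16526 = n34130 := rfl
theorem F53567 : act 2 n34130 = n29932 := d2_1 D34130 F48115 F38919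
theorem F53568 : act 3 n34130 = n24035 := d6_1 D34130 (iv5 D24035) (iv3 F26138)
theorem F53569 : act 7 n34130 = n29933 := d13_2 F38725 D34130 (iv5 F48118)
theorem F53570 : act 0 n34130 = n24341 := d17_2 (iv1 F38946) D34130 (iv5 D24341) (iv4 F19530) D24436 F46365 F46364 F38293 (iv4 F38942)
theorem F53571 : act 1 n34130 = n28733 := d17_6 D6761 D14208 F23722 F23076 (iv4 F26139) D34130 (iv5 D28733) (iv0 F22950) F11006
theorem F53572 : act 4 n34130 = n30549 := d18_5 (iv1 D14538) (iv4 F19258) F24185 (iv4 F26139) D34130 F48968 (iv4 D24420) F24139 (iv5 F24201)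
theorem F53573 : act 2 n30549 = n34105 := d1_1 F53572 F53516 (iv2 F53567)
theorem F53574 : act 7 n30549 = n34106 := d11_2 (iv7 F53569) F53572 F53519
theorem F53575 : act 2 n34106 = n30548 := d15_3 (iv0 D30548) D30549 F53574
theorem F53576 : act 7 n34105 = n30548 := d4_2 (iv7 F53574) F53573 (iv2 F53575)
def n34131 : Q := act 4 n16527
theorem D34131 : act 4 n16527 = n34131 := rfl
theorem F53577 : act 2 n34131 = n30518 := d1_1 D34131 (iv4 D30518) F26141
theorem F53578 : act 7 n34131 = n30516 := d11_2 (iv7 F26143) D34131 (iv4 D30516)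
theorem F53579 : act 0 n34131 = n29798 := d18_2 D16527 D34131 (iv4 D29798) (iv5 D14160) (iv4 D6738) (iv0 D3030) (iv4 F3665) (iv0 F10314) D7678
theorem F53580 : act 0 n29815 = n34131 := d20_7 D25300 (iv1 F46988) (iv4 D29329) (iv3 F46973) (iv1 F47982) F47980 D29815 (iv4 D34131) (iv3 F26144) (iv1 F23455)
def n34132 : Q := act 0 n16528
theorem D34132 : act 0 n16528 = n34132 := rfl
theorem F53581 : act 1 n24926 = n34132 := d15_0 (iv0 D34132) F26145 (iv2 F39071)
def n34133 : Q := act 1 n16528
theorem D34133 : act 1 n16528 = n34133 := rfl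
theorem F53582 : act 1 n34133 = n24926 := d15_1 D34133 (iv7 F39096) F39095
theorem F53583 : act 4 n34133 = n31404 := d18_7 (iv1 F23643) F19168 (iv1 F19480) (iv4 D7677) D7678 D16528 D34133 F49668 (iv5 D29780)
theorem F53584 : act 2 n30519 = n34133 := d1_3 F53583 F49664 (iv4 F48912)
theorem F53585 : act 7 n30520 = n34133 := d11_0 F53583 F49666 (iv4 F48915)
theorem F53586 : act 2 n30520 = n34132 := d15_3 (iv0 D34132) D34133 (iv7 F53585)
theorem F53587 : act 7 n34132 = n30519 := d4_2 (iv7 F53585) F53586 F53584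
def n34134 : Q := act 3 n16528
theorem D34134 : act 3 n16528 = n34134 := rfl
theorem F53588 : act 4 n34134 = n16530 := d5_2 D16528 D34134 (iv3 D16530) (iv4 D7680) (iv3 F11925)
theorem F53589 : act 7 n34134 = n30521 := d8_2 (iv7 F26145) D34134 (iv3 D30521)
def n34135 : Q := act 5 n16528
theorem D34135 : act 5 n16528 = n34135 := rfl
theorem F53590 : act 7 n34135 = n30522 := d13_2 (iv7 F26145) D34135 (iv5 D30522)
def n34136 : Q := act 6 n16528
theorem D34136 : act 6 n16528 = n34136 := rfl
theorem F53591 : act 4 n34136 = n16529 := d10_1 D34136 (iv6 D16529) D16528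
def n34137 : Q := act 0 n16529
theorem D34137 : act 0 n16529 = n34137 := rfl
theorem F53592 : act 2 n30684 = n34137 := d15_3 (iv0 D34137) (iv0 F26147) D30684
theorem F53593 : act 7 n34137 = n25896 := d4_2 D30684 F53592 F40920
theorem F53594 : act 1 n30684 = n24941 := d15_0 (iv0 F40922) (iv7 F53593) (iv2 F53592)
theorem F53595 : act 5 n29833 = n34137 := d13_3 F53593 F40921 D29833
theorem F53596 : act 6 n30677 = n34137 := d14_5 F53593 (iv6 D25896) F20391 D14541 D30677
theorem F53597 : act 1 n30683 = n34137 := d15_1 D30683 F53593 F40920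
def n34138 : Q := act 7 n16529
theorem D34138 : act 7 n16529 = n34138 := rfl
theorem F53598 : act 2 n34138 = n30683 := d4_1 D34138 F49135 F39097
theorem F53599 : act 3 n34138 = n16534 := d8_1 D34138 (iv7 D16534) (iv3 F26146)
theorem F53600 : act 6 n34138 = n30526 := d14_1 D34138 (iv7 D30526) (iv6 D14483) (iv7 F11926) D16529
theorem F53601 : act 1 n25896 = n34138 := d15_1 (iv0 F40922) (iv7 D34138) (iv2 F39097)
theorem F53602 : act 1 n34138 = n30684 := d15_1 F53601 (iv7 D30684) (iv2 F40920)
def n34139 : Q := act 0 n16530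
theorem D34139 : act 0 n16530 = n34139 := rfl
theorem F53603 : act 1 n30532 = n34139 := d15_0 (iv0 D34139) F26148 D30532
def n34140 : Q := act 1 n16530
theorem D34140 : act 1 n16530 = n34140 := rfl
def n34141 : Q := act 2 n16530
theorem D34141 : act 2 n16530 = n34141 := rfl
theorem F53604 : act 3 n34141 = n30557 := d0_2 D16530 D34141 (iv2 D30557) (iv3 D14496) (iv2 F11928)
theorem F53605 : act 7 n34141 = n30532 := d4_2 (iv7 F26148) D34141 (iv2 D30532)
theorem F53606 : act 1 n34141 = n30530 := d15_0 (iv0 D30530) (iv7 F26148) D34141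
theorem F53607 : act 1 n34140 = n30532 := d15_1 D34140 (iv7 F53605) (iv2 D34141)
theorem F53608 : act 1 n30531 = n34141 := d15_1 D30531 F53605 (iv2 D30532)
def n34142 : Q := act 5 n16530
theorem D34142 : act 5 n16530 = n34142 := rfl
theorem F53609 : act 3 n34142 = n16531 := d6_1 D34142 (iv5 D16531) D16530
theorem F53610 : act 7 n34142 = n30533 := d13_2 (iv7 F26148) D34142 (iv5 D30533)
def n34143 : Q := act 6 n16530
theorem D34143 : act 6 n16530 = n34143 := rfl
theorem F53611 : act 3 n34143 = n16532 := d7_1 D34143 (iv6 D16532) D16530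
def n34144 : Q := act 6 n16531
theorem D34144 : act 6 n16531 = n34144 := rfl
theorem F53612 : act 2 n34144 = n30560 := d3_1 D34144 (iv6 D30560) (iv2 F26149)
theorem F53613 : act 4 n34144 = n16626 := d10_1 D34144 (iv6 D16626) (iv4 F26150)
def n34145 : Q := act 5 n16532
theorem D34145 : act 5 n16532 = n34145 := rfl
theorem F53614 : act 2 n34145 = n30562 := d2_1 D34145 (iv5 D30562) (iv2 F26154)
def n34146 : Q := act 4 n16533
theorem D34146 : act 4 n16533 = n34146 := rfl
theorem F53615 : act 2 n34146 = n30564 := d1_1 D34146 (iv4 D30564) F26159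
theorem F53616 : act 6 n34146 = n30734 := d10_2 (iv6 F26157) D34146 F49198
theorem F53617 : act 7 n34146 = n25873 := d11_2 (iv7 F26160) D34146 F40873
theorem F53618 : act 1 n34146 = n16587 := d18_6 D14005 D29452 F49207 F46586 (iv5 F26158) D34146 F27062 (iv0 F11984) F11314
theorem F53619 : act 1 n30745 = n34146 := d15_1 D30745 F53617 F40872
theorem F53620 : act 1 n30564 = n24369 := d15_0 (iv0 F40874) (iv7 F53617) F53615
theorem E5552 : n28943 = n28904 := ((c18_2 D13772 D28904 (iv1 F47293) F47289 (iv5 F24145) D30564 F53620 F38205 (iv0 F20490) F20489)).symm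
theorem F53621 : act 0 n28904 = n29489 := (sb E5552 (iv1 F47293))
theorem F53622 : act 1 n28904 = n13786 := (sb E5552 (iv0 D28943))
theorem E5553 : n28944 = n28907 := (c15_2 F53622 D28944 (iv7 F47211) F47209)
theorem F53623 : act 0 n28907 = n13786 := (sb E5553 (iv1 D28944))
theorem F53624 : act 1 n28907 = n29489 := (sb E5553 F47292)
theorem F53625 : act 0 n30690 = n34136 := d20_7 D34146 (iv1 F53619) (iv4 F49204) D31445 (iv1 F49765) (iv3 F50020) F50021 F53591 F26146 D16533
def n34147 : Q := act 0 n16535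
theorem D34147 : act 0 n16535 = n34147 := rfl
theorem F53626 : act 4 n34147 = n29919 := d18_3 (iv1 F19432) D16535 D34147 F48072 F23716 F11022 F10313 (iv0 F19491) D5378
theorem F53627 : act 2 n29946 = n34147 := d15_3 (iv0 D34147) (iv0 F26167) D29946
theorem F53628 : act 1 n24446 = n34147 := d15_0 (iv0 D34147) F26166 (iv2 F38353)
theorem F53629 : act 7 n34147 = n29918 := d15_2 (iv0 F38355) F53628 F48067
theorem F53630 : act 5 n29997 = n34147 := d16_7 (iv4 D14222) (iv5 D6769) F4786 D3057 D6779 D14241 D29997 F53629 F48067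
theorem F53631 : act 0 n34108 = n29997 := d17_2 (iv1 D34106) D34108 F53630 F53626 F48072 F23719 D14215 D29933 (iv4 F53519)
def n34148 : Q := act 3 n16535
theorem D34148 : act 3 n16535 = n34148 := rfl
theorem F53632 : act 4 n34148 = n16537 := d5_2 D16535 D34148 (iv3 D16537) (iv4 D7683) D7682
theorem F53633 : act 7 n34148 = n30590 := d8_2 (iv7 F26166) D34148 (iv3 D30590)
def n34149 : Q := act 5 n16535
theorem D34149 : act 5 n16535 = n34149 := rfl
theorem F53634 : act 7 n34149 = n30591 := d13_2 (iv7 F26166) D34149 (iv5 D30591)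
theorem F53635 : act 4 n34149 = n29979 := d16_2 D16535 D34149 (iv5 D29979) (iv4 D14236) (iv5 F19259) F19258 F19424 (iv7 F19444) (iv2 F19558)
def n34150 : Q := act 6 n16535
theorem D34150 : act 6 n16535 = n34150 := rfl
theorem F53636 : act 4 n34150 = n16536 := d10_1 D34150 (iv6 D16536) D16535
def n34151 : Q := act 0 n16536
theorem D34151 : act 0 n16536 = n34151 := rfl
def n34152 : Q := act 1 n16536
theorem D34152 : act 1 n16536 = n34152 := rfl
def n34153 : Q := act 7 n16536
theorem D34153 : act 7 n16536 = n34153 := rfl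
theorem F53637 : act 3 n34153 = n16542 := d8_1 D34153 (iv7 D16542) (iv3 F26168)
theorem F53638 : act 5 n34153 = n25106 := d13_1 D34153 F39457 F38448
theorem F53639 : act 6 n34153 = n30595 := d14_1 D34153 (iv7 D30595) (iv6 D14510) (iv7 F11933) D16536
def n34154 : Q := act 0 n16537
theorem D34154 : act 0 n16537 = n34154 := rfl
theorem F53640 : act 1 n30598 = n34154 := d15_0 (iv0 D34154) F26169 D30598
def n34155 : Q := act 1 n16537
theorem D34155 : act 1 n16537 = n34155 := rfl
def n34156 : Q := act 2 n16537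
theorem D34156 : act 2 n16537 = n34156 := rfl
theorem F53641 : act 3 n34156 = n30574 := d0_2 D16537 D34156 (iv2 D30574) (iv3 D14503) (iv2 F11934)
theorem F53642 : act 7 n34156 = n30598 := d4_2 (iv7 F26169) D34156 (iv2 D30598)
theorem F53643 : act 1 n34156 = n30596 := d15_0 (iv0 D30596) (iv7 F26169) D34156
theorem F53644 : act 1 n34155 = n30598 := d15_1 D34155 (iv7 F53642) (iv2 D34156)
theorem F53645 : act 1 n30597 = n34156 := d15_1 D30597 F53642 (iv2 D30598)
def n34157 : Q := act 5 n16537
theorem D34157 : act 5 n16537 = n34157 := rfl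
theorem F53646 : act 3 n34157 = n16538 := d6_1 D34157 (iv5 D16538) D16537
theorem F53647 : act 7 n34157 = n30599 := d13_2 (iv7 F26169) D34157 (iv5 D30599)
def n34158 : Q := act 6 n16537
theorem D34158 : act 6 n16537 = n34158 := rfl
theorem F53648 : act 3 n34158 = n16539 := d7_1 D34158 (iv6 D16539) D16537
def n34159 : Q := act 6 n16538
theorem D34159 : act 6 n16538 = n34159 := rfl
theorem F53649 : act 2 n34159 = n30577 := d3_1 D34159 (iv6 D30577) (iv2 F26170)
theorem F53650 : act 4 n34159 = n16606 := d10_1 D34159 (iv6 D16606) (iv4 F26172)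
def n34160 : Q := act 0 n16539
theorem D34160 : act 0 n16539 = n34160 := rfl
def n34161 : Q := act 1 n16539
theorem D34161 : act 1 n16539 = n34161 := rfl
theorem F53651 : act 1 n34161 = n30581 := d15_1 D34161 (iv7 D30581) (iv2 F26173)
theorem F53652 : act 4 n34161 = n24373 := d18_7 (iv1 F19852) (iv4 F39902) (iv1 F39904) F38604 F18980 (iv4 F26174) D34161 F38211 F38040
def n34162 : Q := act 5 n16539
theorem D34162 : act 5 n16539 = n34162 := rfl
theorem F53653 : act 2 n34162 = n30580 := d2_1 D34162 (iv5 D30580) (iv2 F26173)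
theorem F53654 : act 0 n34162 = n31423 := d17_2 (iv1 D34161) D34162 (iv5 D31423) F24477 F11309 (iv0 F19087) F19086 D24373 (iv4 F53652)
def n34163 : Q := act 7 n16539
theorem D34163 : act 7 n16539 = n34163 := rfl
theorem F53655 : act 2 n34163 = n30581 := d4_1 D34163 (iv7 D30581) (iv2 F26173)
theorem F53656 : act 4 n34163 = n16542 := d11_1 D34163 (iv7 D16542) (iv4 F26174)
theorem F53658 : act 1 n30581 = n34160 := d15_0 (iv0 D34160) D34163 F53655
theorem F53659 : act 1 n30579 = n34163 := d15_1 D30579 (iv7 D34163) F26173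
theorem F53660 : act 4 n34160 = n24372 := d18_7 F19087 (iv4 F19111) (iv1 F39461) (iv4 D24639) (iv5 F24152) (iv4 F48996) F53658 (iv0 D24372) (iv5 F19086)
theorem F53661 : act 1 n34163 = n30578 := d15_0 (iv0 D30578) D30581 (iv2 F53655)
theorem F53662 : act 4 n30578 = n24270 := d18_7 F19750 (iv4 F19842) (iv1 F39462) (iv4 D25107) (iv5 F26179) (iv4 F53656) F53661 (iv0 D24270) (iv5 F19749)
theorem E5554 : n28325 = n14702 := (c10_4 (iv6 F53546) F53662 F38039 D28325)
theorem E5555 : n31102 = n13516 := ((D31102).symm.trans (sb E5554 (iv4 D28325)))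
theorem F53663 : act 4 n13516 = n14702 := (sb E5555 (iv4 D31102))
theorem F53664 : act 4 n31100 = n28323 := d1_2 F53663 (iv2 F49481) F45834
theorem F53665 : act 4 n31095 = n28319 := d11_3 (iv7 F45829) F53663 F49480
theorem F53666 : act 4 n30537 = n16571 := d18_7 (iv1 F37150) F53663 (iv1 D14702) F11274 (iv5 F11199) (iv4 F24135) D30537 F38189 F38186
theorem F53667 : act 4 n25961 = n23823 := d18_3 (iv1 F20445) (iv4 F24374) (iv1 F41028) F37145 F53663 F41034 F41031 F20447 (iv5 F26134)
theorem F53669 : act 6 n34160 = n25961 := d10_0 F53667 (iv6 F38209) (iv4 F53660)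
theorem F53670 : act 4 n24363 = n34121 := d18_1 (iv1 F38183) (iv1 D34121) F26125 F11922 (iv4 F20441) D25961 F53667 F37144 (iv5 F26242)
theorem F53671 : act 2 n34121 = n30537 := d1_1 F53670 F53666 F49820
theorem E5556 : n34120 = n31490 := (c18_3 (iv1 D16523) (iv4 F26125) D34120 F49789 F38184 F53670 F53543 F48938 F26132 F26128)
theorem F53672 : act 0 n31490 = n30539 := (sb E5556 (iv1 F53550))
theorem F53673 : act 1 n31490 = n16521 := (sb E5556 (iv0 D34120))
theorem F53674 : act 4 n25960 = n23822 := d18_7 F24491 (iv4 F49789) F53672 F48938 F24138 (iv4 F24374) F41033 (iv0 D23822) (iv5 F18763)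
theorem F53675 : act 7 n31490 = n30537 := d15_2 F53543 (iv0 F53672) (iv2 F53671)
theorem F53676 : act 2 n31490 = n30536 := d15_3 (iv0 D30536) D30537 (iv7 F53675)
theorem F53677 : act 4 n30536 = n16570 := d1_2 (iv4 F49789) F53676 F49818
theorem E5557 : n30790 = n14833 := (c3_4 D31490 F53676 F49232 D30790)
theorem E5558 : n26041 = n14582 := (((iv2 F49816)).symm.trans (sb E5557 (iv2 D30790)))
theorem E5559 : n26044 = n14583 := (((iv7 F49811)).symm.trans (sb E5557 (iv7 F49230)))
theorem E5560 : n30792 = n12341 := ((D30792).symm.trans (sb E5558 (iv4 D26041)))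
theorem E5562 : n30796 = n12342 := ((D30796).symm.trans (sb E5559 (iv4 D26044)))
theorem F53679 : act 7 n14583 = n14833 := (sb E5559 F49811)
theorem F53680 : act 4 n12341 = n14582 := (sb E5560 (iv4 D30792))
theorem F53683 : act 4 n12342 = n14583 := (sb E5562 (iv4 D30796))
theorem F53685 : act 4 n30798 = n26045 := d10_3 (iv6 D26045) F53683 D30798
theorem F53686 : act 5 n30799 = n31506 := d17_3 (iv1 D14583) D14584 D30799 (iv4 D31506) F38050 (iv0 D24273) F18669 D12342 F53683
theorem E5563 : n31011 = n30603 := ((c18_7 (iv1 F20494) F53683 (iv1 D14583) F11233 (iv5 F11205) (iv4 F24156) D30603 F49432 F38042 F24495)).symm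
theorem F53687 : act 4 n30603 = n24274 := (sb E5563 F49432)
theorem F53688 : act 6 n30603 = n14670 := (sb E5563 (iv6 D31011))
theorem F53689 : act 0 n30604 = n30797 := d17_2 (iv1 D30603) D30604 (iv5 D30797) (iv4 F53683) (iv5 F20495) (iv0 D12341) (iv5 F18669) D24274 (iv4 F53687)
theorem F53690 : act 2 n31501 = n30798 := d1_3 F53685 F49807 (iv4 F49798)
theorem E5564 : n28321 = n14701 := (c18_2 D13515 D28321 (iv1 F41035) F41031 (iv5 F26130) (iv4 F53548) F53552 F53677 (iv0 D16570) F11972)
theorem E5565 : n31097 = n13515 := ((D31097).symm.trans (sb E5564 (iv4 D28321)))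
theorem F53697 : act 4 n13515 = n14701 := (sb E5565 (iv4 D31097))
theorem F53698 : act 4 n31099 = n28322 := d10_3 (iv6 D28322) F53697 D31099
theorem F53699 : act 1 n31098 = n34122 := d17_6 (iv1 D24363) F18763 D23822 (iv5 F37151) F53697 D31098 (iv5 D34122) D34121 (iv4 F53670)
def n34164 : Q := act 3 n16540
theorem D34164 : act 3 n16540 = n34164 := rfl
theorem F53700 : act 6 n34164 = n25969 := d7_2 (iv6 F26175) D34164 (iv3 D25969)
theorem F53701 : act 7 n34164 = n30587 := d8_2 (iv7 F49016) D34164 (iv3 D30587)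
def n34165 : Q := act 4 n16540
theorem D34165 : act 4 n16540 = n34165 := rfl
theorem F53702 : act 2 n34165 = n30584 := d1_1 D34165 (iv4 D30584) (iv2 F49015)
theorem F53703 : act 6 n34165 = n25970 := d10_2 (iv6 F26175) D34165 (iv4 D25970)
theorem F53704 : act 7 n34165 = n30588 := d11_2 (iv7 F49016) D34165 (iv4 D30588)
theorem F53705 : act 0 n34165 = n30622 := d18_2 D16540 D34165 F49089 F38213 (iv4 F38856) (iv0 D24635) F19004 (iv0 F18981) F18980
theorem E5566 : n30620 = n30584 := ((c15_4 (iv0 D30620) (iv0 F49004) (iv7 F53704) F53702)).symm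
theorem F53706 : act 1 n30584 = n14519 := (sb E5566 (iv0 D30620))
def n34166 : Q := act 5 n16540
theorem D34166 : act 5 n16540 = n34166 := rfl
theorem F53707 : act 2 n34166 = n30585 := d2_1 D34166 (iv5 D30585) (iv2 F49015)
theorem F53708 : act 6 n34166 = n30585 := d12_2 (iv6 F26175) D34166 (iv5 D30585) F24151 (iv5 F23518)
theorem F53709 : act 7 n34166 = n24741 := d13_2 (iv7 F49016) D34166 F38715
theorem F53710 : act 0 n34166 = n24694 := d21_1 D34166 F38681 F47613 (iv1 D29096) F23122 (iv5 D6588) (iv1 F5473) (iv5 F5465) D7684 D16540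
theorem F53711 : act 0 n24671 = n34166 := d21_10 (iv5 D34166) F26176 F24152 (iv6 F24326) (iv1 F39340) F39541 (iv5 F41039) F41040 F24413 D24671
def n34167 : Q := act 3 n16541
theorem D34167 : act 3 n16541 = n34167 := rfl
theorem F53712 : act 7 n34167 = n30583 := d8_2 (iv7 F49018) D34167 (iv3 D30583)
def n34168 : Q := act 4 n16541
theorem D34168 : act 4 n16541 = n34168 := rfl
theorem F53713 : act 2 n34168 = n30588 := d1_1 D34168 (iv4 D30588) (iv2 F49017)
theorem F53714 : act 7 n34168 = n30584 := d11_2 (iv7 F49018) D34168 (iv4 D30584)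
theorem F53715 : act 0 n34168 = n16553 := d18_2 (iv1 F26177) D34168 F26209 (iv5 F19749) (iv4 F38606) F39455 F39453 F19673 (iv5 F24152)
theorem F53716 : act 1 n34168 = n30622 := d15_1 (iv0 F53715) (iv7 D30622) (iv2 F26208)
theorem F53717 : act 1 n34165 = n16553 := d15_0 (iv0 F53715) F53714 (iv2 F53702)
def n34169 : Q := act 6 n16541
theorem D34169 : act 6 n16541 = n34169 := rfl
theorem F53718 : act 2 n34169 = n30589 := d3_1 D34169 (iv6 D30589) (iv2 F49017)
theorem F53719 : act 5 n34169 = n25062 := d12_1 D34169 (iv6 F39628) (iv5 D25189) D25190 F39630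
theorem F53720 : act 7 n34169 = n25967 := d14_2 (iv7 F49018) D34169 (iv6 D25967) (iv7 F49014) (iv6 F24151)
theorem F53721 : act 0 n34169 = n25129 := d21_4 (iv5 F38681) F39632 F39630 D34169 (iv6 F48014) (iv5 D29869) (iv1 F23776) (iv5 F24145) (iv6 F38640) (iv1 F38642)
theorem F53722 : act 0 n25133 = n34169 := d21_4 (iv5 F48946) F48948 (iv5 D26027) (iv6 F39505) (iv6 D34169) (iv5 F39630) F39631 F38665 F24412 F39633
def n34170 : Q := act 0 n16543
theorem D34170 : act 0 n16543 = n34170 := rfl
theorem F53723 : act 4 n34170 = n24844 := d18_3 (iv1 F19249) D16543 D34170 (iv5 D24844) F19136 (iv0 F19479) (iv4 D7677) F10315 (iv5 F19248)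
theorem F53724 : act 1 n24928 = n34170 := d15_0 (iv0 D34170) F26183 (iv2 F39075)
theorem F53725 : act 2 n24865 = n34170 := d1_3 F53723 F38894 D24865
theorem F53726 : act 6 n24861 = n34170 := d10_0 F53723 F38896 D24861
theorem F53727 : act 7 n30565 = n34170 := d11_0 F53723 (iv7 F47949) (iv4 F48986)
def n34171 : Q := act 1 n16543
theorem D34171 : act 1 n16543 = n34171 := rfl
theorem F53728 : act 1 n34171 = n24928 := d15_1 D34171 (iv7 F39111) F39110
theorem F53729 : act 7 n34171 = n24865 := d15_2 (iv0 D34170) D34171 F53725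
theorem F53730 : act 4 n24866 = n34171 := d20_6 D3486 D7688 F11946 D11423 (iv1 F22152) (iv3 F38971) (iv1 D34171) (iv4 D16543) (iv3 D7685) (iv1 D3485)
theorem F53731 : act 2 n34171 = n30565 := d1_1 F53730 F48986 F47947
def n34172 : Q := act 3 n16543
theorem D34172 : act 3 n16543 = n34172 := rfl
theorem F53732 : act 4 n34172 = n16545 := d5_2 D16543 D34172 (iv3 D16545) (iv4 D7686) D7685
theorem F53733 : act 7 n34172 = n30566 := d8_2 (iv7 F26183) D34172 (iv3 D30566)
def n34173 : Q := act 5 n16543
theorem D34173 : act 5 n16543 = n34173 := rfl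
theorem F53734 : act 7 n34173 = n30567 := d13_2 (iv7 F26183) D34173 (iv5 D30567)
theorem F53735 : act 4 n34173 = n29843 := d16_6 (iv4 F37590) F37588 F20009 (iv5 F11938) D16543 D34173 (iv5 D29843) (iv7 F47921) (iv2 F47923)
def n34174 : Q := act 6 n16543
theorem D34174 : act 6 n16543 = n34174 := rfl
theorem F53736 : act 4 n34174 = n16544 := d10_1 D34174 (iv6 D16544) D16543
def n34175 : Q := act 0 n16544
theorem D34175 : act 0 n16544 = n34175 := rfl
def n34176 : Q := act 1 n16544
theorem D34176 : act 1 n16544 = n34176 := rfl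
def n34177 : Q := act 7 n16544
theorem D34177 : act 7 n16544 = n34177 := rfl
theorem F53737 : act 3 n34177 = n16550 := d8_1 D34177 (iv7 D16550) (iv3 F26184)
theorem F53738 : act 5 n34177 = n25871 := d13_1 D34177 (iv7 D25871) (iv5 F26185)
theorem F53739 : act 6 n34177 = n30571 := d14_1 D34177 (iv7 D30571) (iv6 D14502) (iv7 F11939) D16544
def n34178 : Q := act 0 n16545
theorem D34178 : act 0 n16545 = n34178 := rfl
theorem F53740 : act 1 n30574 = n34178 := d15_0 (iv0 D34178) F26186 D30574
def n34179 : Q := act 1 n16545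
theorem D34179 : act 1 n16545 = n34179 := rfl
def n34180 : Q := act 2 n16545
theorem D34180 : act 2 n16545 = n34180 := rfl
theorem F53741 : act 3 n34180 = n30598 := d0_2 D16545 D34180 (iv2 D30598) (iv3 D14511) (iv2 F11941)
theorem F53742 : act 7 n34180 = n30574 := d4_2 (iv7 F26186) D34180 (iv2 D30574)
theorem F53743 : act 1 n34180 = n30572 := d15_0 (iv0 D30572) (iv7 F26186) D34180
theorem F53744 : act 1 n34179 = n30574 := d15_1 D34179 (iv7 F53742) (iv2 D34180)
theorem F53745 : act 1 n30573 = n34180 := d15_1 D30573 F53742 (iv2 D30574)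
def n34181 : Q := act 5 n16545
theorem D34181 : act 5 n16545 = n34181 := rfl
theorem F53746 : act 3 n34181 = n16546 := d6_1 D34181 (iv5 D16546) D16545
theorem F53747 : act 7 n34181 = n30575 := d13_2 (iv7 F26186) D34181 (iv5 D30575)
def n34182 : Q := act 6 n16545
theorem D34182 : act 6 n16545 = n34182 := rfl
def n34183 : Q := act 6 n16546
theorem D34183 : act 6 n16546 = n34183 := rfl
theorem F53749 : act 2 n34183 = n30601 := d3_1 D34183 (iv6 D30601) (iv2 F26187)
theorem F53750 : act 4 n34183 = n16602 := d10_1 D34183 (iv6 D16602) (iv4 F26188)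
def n34184 : Q := act 0 n16547
theorem D34184 : act 0 n16547 = n34184 := rfl
def n34186 : Q := act 7 n16547
theorem D34186 : act 7 n16547 = n34186 := rfl
theorem F53754 : act 2 n34186 = n30605 := d4_1 D34186 (iv7 D30605) (iv2 F26190)
theorem F53755 : act 4 n34186 = n16550 := d11_1 D34186 (iv7 D16550) (iv4 F26191)
theorem E5567 : n34184 = n31506 := ((c15_1 (iv0 F49836) (iv0 D34184) D34186 F53754)).symm
theorem F53757 : act 1 n31506 = n16547 := (sb E5567 (iv0 D34184))
theorem F53758 : act 1 n30603 = n34186 := d15_1 D30603 (iv7 D34186) F26190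
theorem F53759 : act 4 n30602 = n24273 := d18_3 (iv1 D14515) (iv4 F24156) D30602 (iv5 F38050) D31506 F53757 F26191 D16549 (iv5 F26194)
theorem F53760 : act 1 n34186 = n30602 := d18_6 D12341 F53680 (iv1 F40893) F40889 (iv5 F26198) (iv4 F53755) F53759 (iv0 D24273) F18669
def n34187 : Q := act 3 n16548
theorem D34187 : act 3 n16548 = n34187 := rfl
theorem F53762 : act 7 n34187 = n30611 := d8_2 (iv7 F49063) D34187 (iv3 D30611)
def n34188 : Q := act 4 n16548
theorem D34188 : act 4 n16548 = n34188 := rfl
theorem F53763 : act 2 n34188 = n30608 := d1_1 D34188 (iv4 D30608) (iv2 F49062)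
theorem F53764 : act 7 n34188 = n30612 := d11_2 (iv7 F49063) D34188 (iv4 D30612)
def n34189 : Q := act 6 n16548
theorem D34189 : act 6 n16548 = n34189 := rfl
theorem F53765 : act 2 n34189 = n30609 := d3_1 D34189 (iv6 D30609) (iv2 F49062)
theorem F53766 : act 5 n34189 = n29550 := d12_1 D34189 (iv6 F49049) (iv5 F49046) (iv6 D30609) F26202
theorem F53767 : act 7 n34189 = n25945 := d14_2 (iv7 F49063) D34189 (iv6 D25945) (iv7 F49059) (iv6 F26195)
theorem F53768 : act 0 n34189 = n26024 := d21_4 (iv5 F11205) D14514 F26202 D34189 (iv6 D26024) D26023 F48949 F48946 (iv6 D14592) (iv1 D6969)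
theorem F53769 : act 0 n30011 = n34189 := d21_4 (iv5 D11680) D11678 D24667 (iv6 F48208) (iv6 D34189) (iv5 F26202) F26203 F26198 F20373 (iv1 F19018)
def n34190 : Q := act 3 n16549
theorem D34190 : act 3 n16549 = n34190 := rfl
theorem F53770 : act 5 n34190 = n30611 := d6_2 F26194 D34190 (iv3 D30611)
theorem F53771 : act 6 n34190 = n25938 := d7_2 F26196 D34190 (iv3 D25938)
theorem F53772 : act 7 n34190 = n30607 := d8_2 (iv7 F49061) D34190 (iv3 D30607)
def n34191 : Q := act 4 n16549
theorem D34191 : act 4 n16549 = n34191 := rfl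
theorem F53773 : act 2 n34191 = n30612 := d1_1 D34191 (iv4 D30612) (iv2 F49060)
theorem F53774 : act 6 n34191 = n25939 := d10_2 F26196 D34191 (iv4 D25939)
theorem F53775 : act 7 n34191 = n30608 := d11_2 (iv7 F49061) D34191 (iv4 D30608)
theorem F53776 : act 5 n34191 = n31472 := d21_6 D14562 F24223 (iv5 D12319) D12320 (iv1 F47164) (iv6 F53774) (iv1 D31472) (iv5 D14829) (iv6 D7064) (iv1 F11221)
theorem F53777 : act 0 n30633 = n34191 := d17_0 F53776 (iv1 D31472) (iv5 D14829) F11315 D7067 D14840 (iv5 F38043) F38042 (iv4 F49094)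
theorem F53778 : act 1 n30633 = n34188 := d15_1 (iv0 F53777) F53764 (iv2 F53773)
theorem F53779 : act 1 n16556 = n34191 := d15_0 (iv0 F53777) (iv7 D30633) (iv2 F26214)
theorem F53780 : act 1 n34188 = n16556 := d15_0 F53779 F53775 (iv2 F53763)
theorem E5568 : n26036 = n25889 := ((c18_2 (iv1 F20370) D25889 (iv1 D26036) F20493 (iv5 F18669) (iv4 F26215) F53779 (iv4 D34191) F26192 F24157)).symm
theorem F53781 : act 0 n25889 = n12340 := (sb E5568 (iv1 D26036))
theorem F53782 : act 1 n25889 = n14830 := (sb E5568 F41156)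
theorem E5569 : n26035 = n25886 := (c15_2 F53782 F41161 (iv7 F48960) F48964)
theorem F53783 : act 0 n25886 = n14830 := (sb E5569 (iv1 F41161))
theorem F53784 : act 1 n25886 = n12340 := (sb E5569 (iv0 D26035))
theorem E5570 : n30630 = n30608 := (c18_3 (iv1 D14840) (iv4 F24161) D30630 (iv4 D30608) F26202 D34188 F53780 F26215 D24274 F38043)
theorem F53785 : act 1 n30608 = n14522 := (sb E5570 (iv0 D30630))
theorem E5571 : n30631 = n30612 := (c15_2 F53785 D30631 (iv7 F53764) F53763)
theorem F53786 : act 0 n30612 = n14522 := (sb E5571 (iv1 D30631))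
theorem E5572 : n31468 = n6969 := (c18_8 (iv1 F26201) D30612 F53786 F24161 (iv5 D7067) (iv4 F11315) D14828 D31468 F20375 (iv5 F26198))
theorem E5573 : n14828 = n14591 := (((D14591).symm.trans (sb E5572 (iv4 D31468)))).symm
theorem E5574 : n31463 = n6968 := ((((iv5 F11234)).symm.trans (sb E5572 F49776))).symm
theorem E5575 : n30808 = n7064 := (((iv1 F49237)).symm.trans (sb E5573 (iv1 D14828)))
theorem E5576 : n30807 = n26038 := ((F49236).symm.trans (sb E5573 F41162))
theorem E5582 : n14827 = n14588 := (((D14588).symm.trans (sb E5574 (iv4 D31463)))).symm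
theorem F53788 : act 1 n7064 = n14591 := (sb E5575 F49237)
theorem F53789 : act 0 n26038 = n14591 := (sb E5576 (iv1 F49236))
theorem F53790 : act 0 n14588 = n26038 := (sb E5582 (iv1 F41163))
theorem F53791 : act 1 n14588 = n7064 := (sb E5582 (iv0 D14827))
theorem E5585 : n31465 = n30542 := ((((iv6 F48942)).symm.trans (sb E5582 D31465))).symm
theorem F53793 : act 1 n30542 = n24362 := (sb E5585 (iv0 F49774))
theorem F53795 : act 1 n24362 = n30545 := d15_1 F53793 (iv7 F53557) F53555
theorem E5586 : n31115 = n7025 := (c18_3 (iv1 F20446) D14712 (iv1 F49486) (iv4 F18122) (iv5 F18763) (iv4 F38182) F53795 (iv4 D30545) F26133 F26130)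
theorem E5587 : n14733 = n14707 := ((D14733).symm.trans (sb E5586 (iv1 D31115)))
theorem E5588 : n14734 = n14712 := ((D14734).symm.trans (sb E5586 F49486))
theorem E5589 : n31114 = n25991 := ((D31114).symm.trans (sb E5587 (iv1 F41084)))
theorem F53796 : act 1 n14707 = n7025 := (sb E5587 (iv0 D14733))
theorem F53797 : act 0 n14712 = n7025 := (sb E5588 (iv1 D14734))
theorem F53798 : act 0 n25991 = n14712 := (sb E5589 (iv1 F49485))
theorem F53799 : act 1 n25991 = n14707 := (sb E5589 (iv0 D31114))
theorem E5600 : n25989 = n25970 := ((c18_6 (iv1 F37149) (iv4 F41080) F53798 (iv4 D14712) (iv5 F23518) D25970 F41077 (iv4 F37147) F37152 F37151)).symm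
theorem F53800 : act 0 n25970 = n12323 := (sb E5600 (iv1 D25989))
theorem F53801 : act 1 n25970 = n14736 := (sb E5600 F41077)
theorem E5601 : n25988 = n25966 := (c15_2 F53801 F41082 F49032 (iv2 F49034))
theorem F53802 : act 0 n25966 = n14736 := (sb E5601 (iv1 F41082))
theorem F53803 : act 1 n25966 = n12323 := (sb E5601 (iv0 D25988))
theorem F53804 : act 1 n16569 = n34127 := d18_6 (iv1 F20442) D25970 F53800 F20459 (iv5 F11972) (iv4 F26239) (iv4 D34127) F26127 F24138
theorem F53805 : act 1 n34125 = n16569 := d15_0 F53804 F53561 (iv2 F53555)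
theorem F53806 : act 5 n31200 = n30545 := d17_3 F53797 D14735 D31200 (iv4 D30545) (iv5 F24137) (iv0 D14489) F11199 D7018 D14712
theorem F53807 : act 5 n34188 = n31471 := d17_5 (iv1 D6969) (iv5 F11205) D14514 F26202 D34188 (iv0 D31471) (iv5 D14829) F53788 (iv4 D14591)
def n34192 : Q := act 0 n16551
theorem D34192 : act 0 n16551 = n34192 := rfl
theorem F53808 : act 1 n30625 = n34192 := d15_0 (iv0 D34192) F26204 D30625
def n34193 : Q := act 1 n16551
theorem D34193 : act 1 n16551 = n34193 := rfl
def n34194 : Q := act 2 n16551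
theorem D34194 : act 2 n16551 = n34194 := rfl
theorem F53809 : act 3 n34194 = n30615 := d0_2 D16551 D34194 (iv2 D30615) (iv3 D14517) F11947
theorem F53810 : act 7 n34194 = n30625 := d4_2 (iv7 F26204) D34194 (iv2 D30625)
theorem F53811 : act 1 n34194 = n30623 := d15_0 (iv0 D30623) (iv7 F26204) D34194
theorem F53812 : act 1 n34193 = n30625 := d15_1 D34193 (iv7 F53810) (iv2 D34194)
theorem F53813 : act 1 n30624 = n34194 := d15_1 D30624 F53810 (iv2 D30625)
def n34195 : Q := act 4 n16551
theorem D34195 : act 4 n16551 = n34195 := rfl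
theorem F53814 : act 3 n34195 = n24129 := d5_1 D34195 F37808 (iv3 D11423) (iv4 F11946) D16551
theorem F53815 : act 7 n34195 = n30626 := d11_2 (iv7 F26204) D34195 (iv4 D30626)
def n34196 : Q := act 5 n16551
theorem D34196 : act 5 n16551 = n34196 := rfl
theorem F53816 : act 3 n34196 = n16552 := d6_1 D34196 (iv5 D16552) D16551
theorem F53817 : act 7 n34196 = n30627 := d13_2 (iv7 F26204) D34196 (iv5 D30627)
def n34197 : Q := act 6 n16551
theorem D34197 : act 6 n16551 = n34197 := rfl
theorem F53818 : act 3 n34197 = n16553 := d7_1 D34197 (iv6 D16553) D16551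
def n34198 : Q := act 6 n16552
theorem D34198 : act 6 n16552 = n34198 := rfl
theorem F53819 : act 2 n34198 = n30619 := d3_1 D34198 (iv6 D30619) (iv2 F26205)
theorem F53820 : act 4 n34198 = n16595 := d10_1 D34198 (iv6 D16595) (iv4 F26207)
def n34199 : Q := act 5 n16553
theorem D34199 : act 5 n16553 = n34199 := rfl
theorem F53821 : act 2 n34199 = n30621 := d2_1 D34199 (iv5 D30621) (iv2 F26208)
def n34200 : Q := act 7 n16553
theorem D34200 : act 7 n16553 = n34200 := rfl
theorem F53823 : act 4 n34200 = n24272 := d11_1 D34200 (iv7 D24272) (iv4 F26209)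
theorem F53825 : act 1 n30588 = n34200 := d15_1 (iv0 F49004) (iv7 D34200) F26208
theorem F53826 : act 1 n34200 = n30584 := d15_1 F53825 (iv7 F53714) F53713
def n34201 : Q := act 0 n16554
theorem D34201 : act 0 n16554 = n34201 := rfl
theorem F53827 : act 1 n30615 = n34201 := d15_0 (iv0 D34201) F26210 D30615
def n34202 : Q := act 1 n16554
theorem D34202 : act 1 n16554 = n34202 := rfl
def n34203 : Q := act 2 n16554
theorem D34203 : act 2 n16554 = n34203 := rfl
theorem F53828 : act 3 n34203 = n30625 := d0_2 D16554 D34203 (iv2 D30625) (iv3 D14520) F11953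
theorem F53829 : act 7 n34203 = n30615 := d4_2 (iv7 F26210) D34203 (iv2 D30615)
theorem F53830 : act 1 n34203 = n30613 := d15_0 (iv0 D30613) (iv7 F26210) D34203
theorem F53831 : act 1 n34202 = n30615 := d15_1 D34202 (iv7 F53829) (iv2 D34203)
theorem F53832 : act 1 n30614 = n34203 := d15_1 D30614 F53829 (iv2 D30615)
def n34204 : Q := act 4 n16554
theorem D34204 : act 4 n16554 = n34204 := rfl
theorem F53833 : act 3 n34204 = n24211 := d5_1 D34204 (iv4 D24211) F18562 (iv4 F11952) D16554
theorem F53834 : act 7 n34204 = n30616 := d11_2 (iv7 F26210) D34204 (iv4 D30616)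
def n34205 : Q := act 5 n16554
theorem D34205 : act 5 n16554 = n34205 := rfl
theorem F53835 : act 3 n34205 = n16555 := d6_1 D34205 (iv5 D16555) D16554
theorem F53836 : act 7 n34205 = n30617 := d13_2 (iv7 F26210) D34205 (iv5 D30617)
def n34206 : Q := act 6 n16554
theorem D34206 : act 6 n16554 = n34206 := rfl
theorem F53837 : act 3 n34206 = n16556 := d7_1 D34206 (iv6 D16556) D16554
def n34207 : Q := act 6 n16555
theorem D34207 : act 6 n16555 = n34207 := rfl
theorem F53838 : act 2 n34207 = n30629 := d3_1 D34207 (iv6 D30629) (iv2 F26211)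
theorem F53839 : act 4 n34207 = n16594 := d10_1 D34207 (iv6 D16594) (iv4 F26212)
def n34208 : Q := act 5 n16556
theorem D34208 : act 5 n16556 = n34208 := rfl
def n34209 : Q := act 7 n16556
theorem D34209 : act 7 n16556 = n34209 := rfl
theorem F53842 : act 4 n34209 = n24275 := d11_1 D34209 (iv7 D24275) (iv4 F26215)
theorem F53843 : act 6 n34209 = n30622 := d14_1 D34209 (iv7 D30622) (iv6 D14519) (iv7 F11951) D16556
theorem F53844 : act 1 n30612 = n34209 := d15_1 (iv0 F53786) (iv7 D34209) F26214
theorem F53845 : act 1 n34209 = n30608 := d15_1 F53844 (iv7 F53775) F53773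
def n34210 : Q := act 0 n16557
theorem D34210 : act 0 n16557 = n34210 := rfl
theorem F53846 : act 2 n16561 = n34210 := d15_3 (iv0 D34210) (iv0 D16557) D16561
theorem F53847 : act 3 n34210 = n30634 := d0_2 (iv3 F26219) F53846 (iv2 F49095) F24164 (iv2 F11956)
theorem F53848 : act 7 n34210 = n16559 := d4_2 D16561 F53846 (iv2 D16559)
theorem F53849 : act 1 n16558 = n34210 := d15_1 D16558 F53848 (iv2 D16559)
def n34211 : Q := act 2 n16557
theorem D34211 : act 2 n16557 = n34211 := rfl
theorem F53850 : act 7 n16558 = n34211 := d15_2 (iv0 D16557) D16558 (iv2 D34211)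
def n34212 : Q := act 3 n16557
theorem D34212 : act 3 n16557 = n34212 := rfl
def n34213 : Q := act 4 n16557
theorem D34213 : act 4 n16557 = n34213 := rfl
def n34214 : Q := act 5 n16557
theorem D34214 : act 5 n16557 = n34214 := rfl
def n34215 : Q := act 6 n16557
theorem D34215 : act 6 n16557 = n34215 := rfl
def n34216 : Q := act 7 n16557
theorem D34216 : act 7 n16557 = n34216 := rfl
theorem F53851 : act 2 n34216 = n16558 := d4_1 D34216 F53850 (iv2 D34211)
def n34217 : Q := act 3 n16558
theorem D34217 : act 3 n16558 = n34217 := rfl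
def n34218 : Q := act 4 n16558
theorem D34218 : act 4 n16558 = n34218 := rfl
def n34219 : Q := act 5 n16558
theorem D34219 : act 5 n16558 = n34219 := rfl
def n34220 : Q := act 6 n16558
theorem D34220 : act 6 n16558 = n34220 := rfl
def n34221 : Q := act 0 n16559
theorem D34221 : act 0 n16559 = n34221 := rfl
theorem F53852 : act 1 n16561 = n34221 := d15_0 (iv0 D34221) (iv7 F53848) (iv2 F53846)
def n34222 : Q := act 1 n16559
theorem D34222 : act 1 n16559 = n34222 := rfl
theorem F53853 : act 1 n34222 = n16561 := d15_1 D34222 (iv7 D16561) D16559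
def n34223 : Q := act 5 n16559
theorem D34223 : act 5 n16559 = n34223 := rfl
theorem F53854 : act 2 n34223 = n16560 := d2_1 D34223 (iv5 D16560) D16559
theorem F53855 : act 3 n34223 = n30647 := d6_1 D34223 (iv5 D30647) (iv3 F26216)
def n34224 : Q := act 0 n16560
theorem D34224 : act 0 n16560 = n34224 := rfl
def n34225 : Q := act 1 n16560
theorem D34225 : act 1 n16560 = n34225 := rfl
def n34226 : Q := act 4 n16560
theorem D34226 : act 4 n16560 = n34226 := rfl
def n34227 : Q := act 6 n16560
theorem D34227 : act 6 n16560 = n34227 := rfl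
theorem F53856 : act 3 n34227 = n16564 := d7_1 D34227 (iv6 D16564) (iv3 F26218)
theorem F53857 : act 5 n34227 = n26009 := d12_1 D34227 (iv6 D26009) (iv5 D12327) (iv6 F11954) D16560
def n34228 : Q := act 6 n16561
theorem D34228 : act 6 n16561 = n34228 := rfl
theorem F53858 : act 3 n34228 = n16565 := d7_1 D34228 (iv6 D16565) (iv3 F26219)
theorem F53859 : act 7 n34228 = n26010 := d14_2 D16561 D34228 (iv6 D26010) (iv7 D12328) (iv6 F11954)
def n34229 : Q := act 6 n16562
theorem D34229 : act 6 n16562 = n34229 := rfl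
theorem F53860 : act 2 n34229 = n30654 := d3_1 D34229 (iv6 D30654) F26223
theorem F53861 : act 4 n34229 = n16590 := d10_1 D34229 (iv6 D16590) (iv4 F26221)
def n34230 : Q := act 3 n16563
theorem D34230 : act 3 n16563 = n34230 := rfl
theorem F53862 : act 5 n34230 = n16586 := d6_2 (iv5 F26227) D34230 (iv3 D16586)
theorem F53863 : act 7 n34230 = n30653 := d8_2 (iv7 F26226) D34230 (iv3 D30653)
def n34231 : Q := act 6 n16563
theorem D34231 : act 6 n16563 = n34231 := rfl
theorem F53864 : act 2 n34231 = n29734 := d3_1 D34231 (iv6 D29734) F26542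
theorem F53865 : act 4 n34231 = n16579 := d10_1 D34231 (iv6 D16579) (iv4 F26228)
def n34232 : Q := act 0 n16564
theorem D34232 : act 0 n16564 = n34232 := rfl
def n34233 : Q := act 1 n16564
theorem D34233 : act 1 n16564 = n34233 := rfl
theorem F53866 : act 1 n34233 = n30657 := d15_1 D34233 (iv7 D30657) (iv2 F26230)
def n34234 : Q := act 7 n16564
theorem D34234 : act 7 n16564 = n34234 := rfl
theorem F53867 : act 2 n34234 = n30657 := d4_1 D34234 (iv7 D30657) (iv2 F26230)
theorem F53868 : act 5 n34234 = n26017 := d13_1 D34234 (iv7 D26017) (iv5 F26231)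
theorem F53869 : act 1 n30657 = n34232 := d15_0 (iv0 D34232) D34234 F53867
theorem F53870 : act 1 n30656 = n34234 := d15_1 D30656 (iv7 D34234) F26230
theorem F53871 : act 1 n34234 = n30655 := d15_0 (iv0 D30655) D30657 (iv2 F53867)
def n34235 : Q := act 5 n16565
theorem D34235 : act 5 n16565 = n34235 := rfl
theorem F53872 : act 2 n34235 = n30658 := d2_1 D34235 (iv5 D30658) (iv2 F26232)
theorem F53873 : act 7 n34235 = n26020 := d13_2 (iv7 F26234) D34235 (iv5 D26020)
theorem F53874 : act 1 n31320 = n34235 := d15_1 D31320 F53873 F41122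
theorem F53875 : act 1 n34235 = n31319 := d15_0 (iv0 D31319) (iv7 F49110) (iv2 F53872)
def n34236 : Q := act 0 n16566
theorem D34236 : act 0 n16566 = n34236 := rfl
theorem F53876 : act 4 n34236 = n24110 := d18_3 (iv1 F24463) D16566 D34236 F37776 (iv4 D14801) (iv0 D7053) F5176 D7054 D14805
theorem F53877 : act 1 n27931 = n34236 := d15_0 (iv0 D34236) (iv7 F38200) (iv2 F45114)
def n34237 : Q := act 1 n16566
theorem D34237 : act 1 n16566 = n34237 := rfl
theorem F53878 : act 1 n34237 = n27931 := d15_1 D34237 F45115 F39025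
theorem F53879 : act 4 n34237 = n24111 := d18_7 (iv1 D5232) (iv4 F4253) F19458 F5480 D7697 D16566 D34237 F37778 (iv5 D11329)
theorem F53880 : act 6 n31734 = n34237 := d10_0 F53879 (iv6 F39785) F50038
def n34238 : Q := act 3 n16566
theorem D34238 : act 3 n16566 = n34238 := rfl
theorem F53881 : act 4 n34238 = n16568 := d5_2 D16566 D34238 (iv3 D16568) (iv4 D7699) (iv3 F11967)
def n34239 : Q := act 5 n16566
theorem D34239 : act 5 n16566 = n34239 := rfl
theorem F53882 : act 1 n34239 = n24132 := d17_6 (iv1 D13323) (iv5 D6319) F19458 D7697 D16566 D34239 (iv5 D24132) D24130 F37810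
def n34240 : Q := act 6 n16566
theorem D34240 : act 6 n16566 = n34240 := rfl
theorem F53883 : act 4 n34240 = n16567 := d10_1 D34240 (iv6 D16567) D16566
def n34241 : Q := act 0 n16567
theorem D34241 : act 0 n16567 = n34241 := rfl
theorem F53884 : act 6 n34241 = n24205 := d21_5 (iv5 D6319) F19458 D7697 D16567 D34241 F49622 (iv1 D31357) (iv5 F45121) (iv6 D27933) (iv1 D13323)
def n34242 : Q := act 1 n16567
theorem D34242 : act 1 n16567 = n34242 := rfl
def n34243 : Q := act 7 n16567
theorem D34243 : act 7 n16567 = n34243 := rfl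
theorem F53885 : act 3 n34243 = n16572 := d8_1 D34243 (iv7 D16572) (iv3 F26237)
theorem F53886 : act 5 n34243 = n28318 := d13_1 D34243 (iv7 D28318) (iv5 F26238)
theorem F53887 : act 6 n34243 = n31445 := d14_1 D34243 F49764 (iv6 D24367) F18772 D16567
def n34244 : Q := act 0 n16568
theorem D34244 : act 0 n16568 = n34244 := rfl
def n34245 : Q := act 1 n16568
theorem D34245 : act 1 n16568 = n34245 := rfl
def n34246 : Q := act 2 n16568
theorem D34246 : act 2 n16568 = n34246 := rfl
def n34247 : Q := act 6 n16568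
theorem D34247 : act 6 n16568 = n34247 := rfl
theorem F53888 : act 3 n34247 = n16569 := d7_1 D34247 (iv6 D16569) D16568
def n34248 : Q := act 5 n16569
theorem D34248 : act 5 n16569 = n34248 := rfl
theorem F53890 : act 1 n34248 = n31124 := d17_6 (iv1 F37144) F37145 (iv1 D13516) (iv5 F11972) (iv4 F26239) D34248 (iv5 D31124) (iv0 F53798) F41080
def n34249 : Q := act 7 n16569
theorem D34249 : act 7 n16569 = n34249 := rfl
theorem F53891 : act 4 n34249 = n16572 := d11_1 D34249 (iv7 D16572) (iv4 F26239)
theorem F53892 : act 6 n34249 = n30745 := d14_1 D34249 F49203 (iv6 D24369) F18776 D16569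
theorem F53893 : act 1 n30545 = n34249 := d15_1 F53795 (iv7 D34249) (iv2 F38181)
theorem F53894 : act 1 n34249 = n30542 := d15_1 F53893 (iv7 F53561) F53560
def n34250 : Q := act 3 n16570
theorem D34250 : act 3 n16570 = n34250 := rfl
theorem F53895 : act 6 n34250 = n26040 := d7_2 (iv6 F26240) D34250 (iv3 D26040)
def n34251 : Q := act 3 n16571
theorem D34251 : act 3 n16571 = n34251 := rfl
theorem F53896 : act 5 n34251 = n34250 := d6_2 F26241 D34251 (iv3 D34250)
theorem F53897 : act 7 n34251 = n31484 := d8_2 (iv7 F49821) D34251 F49785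
def n34252 : Q := act 6 n16571
theorem D34252 : act 6 n16571 = n34252 := rfl
theorem F53898 : act 2 n34252 = n31503 := d3_1 D34252 F49803 (iv2 F49820)
theorem F53899 : act 5 n34252 = n26045 := d12_1 D34252 (iv6 D26045) (iv5 F20495) (iv6 F26240) F26241
theorem F53900 : act 7 n34252 = n26045 := d14_2 (iv7 F49821) D34252 (iv6 D26045) (iv7 F49814) D14834
theorem F53901 : act 0 n34252 = n31427 := d21_10 F49714 (iv1 D23831) F18127 (iv6 D11169) (iv1 F7605) D6427 (iv5 F11972) D16570 F26241 D34252
theorem F53902 : act 0 n31502 = n34252 := d21_4 (iv5 F47362) F47361 (iv5 F47165) (iv6 F49801) (iv6 D34252) (iv5 F26241) (iv1 F38190) F38186 F37148 (iv1 F37136)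
def n34253 : Q := act 2 n16573
theorem D34253 : act 2 n16573 = n34253 := rfl
theorem F53903 : act 3 n34253 = n29728 := d0_2 D16573 D34253 (iv2 D29728) (iv3 D14119) (iv2 F26534)
theorem F53904 : act 4 n34253 = n29117 := d1_2 (iv4 F26244) D34253 (iv2 D29117)
theorem F53905 : act 7 n34253 = n29717 := d4_2 (iv7 F26245) D34253 F47759
theorem F53906 : act 1 n34253 = n29709 := d15_0 (iv0 F47749) (iv7 F26245) D34253
theorem F53907 : act 1 n29684 = n34253 := d15_1 (iv0 F47722) F53905 F47759
def n34254 : Q := act 0 n16579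
theorem D34254 : act 0 n16579 = n34254 := rfl
theorem F53908 : act 6 n34254 = n31820 := d21_5 (iv5 D13893) (iv1 F10702) D7703 D16579 D34254 (iv5 D31820) (iv1 D14974) D14975 F24621 (iv1 F23161)
def n34255 : Q := act 1 n16579
theorem D34255 : act 1 n16579 = n34255 := rfl
theorem F53909 : act 1 n34255 = n29737 := d15_1 D34255 (iv7 D29737) F26912
def n34256 : Q := act 7 n16579
theorem D34256 : act 7 n16579 = n34256 := rfl
theorem F53910 : act 2 n34256 = n29737 := d4_1 D34256 (iv7 D29737) F26912
theorem F53911 : act 1 n29737 = n34254 := d15_0 (iv0 D34254) D34256 F53910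
theorem F53912 : act 1 n29736 = n34256 := d15_1 D29736 (iv7 D34256) (iv2 F26912)
theorem F53913 : act 1 n34256 = n29735 := d15_0 (iv0 D29735) D29737 (iv2 F53910)
def n34257 : Q := act 3 n16584
theorem D34257 : act 3 n16584 = n34257 := rfl
theorem F53914 : act 4 n34257 = n16586 := d5_2 D16584 D34257 (iv3 D16586) (iv4 D7708) (iv3 F11981)
def n34258 : Q := act 5 n16584
theorem D34258 : act 5 n16584 = n34258 := rfl
theorem F53915 : act 4 n34258 = n25313 := d16_2 D16584 D34258 F39977 (iv4 D23922) (iv5 D11201) (iv4 F10074) D12009 (iv7 F19885) F19884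
theorem F53916 : act 0 n34258 = n25358 := d17_2 F46620 D34258 (iv5 D25358) (iv4 D12043) (iv5 D5705) (iv0 F10062) D12026 F23051 D28994
def n34259 : Q := act 6 n16584
theorem D34259 : act 6 n16584 = n34259 := rfl
theorem F53917 : act 4 n34259 = n16585 := d10_1 D34259 (iv6 D16585) D16584
def n34260 : Q := act 0 n16585
theorem D34260 : act 0 n16585 = n34260 := rfl
theorem F53918 : act 2 n31372 = n34260 := d15_3 (iv0 D34260) (iv0 F27061) D31372
theorem F53919 : act 7 n34260 = n26068 := d4_2 D31372 F53918 F41227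
theorem F53920 : act 1 n31372 = n25322 := d15_0 (iv0 F41229) (iv7 F53919) (iv2 F53918)
theorem F53921 : act 5 n28777 = n34260 := d13_3 F53919 F41228 D28777
theorem F53922 : act 6 n31365 = n34260 := d14_5 F53919 (iv6 D26068) F22182 D14787 D31365
theorem F53923 : act 1 n31371 = n34260 := d15_1 D31371 F53919 F41227
def n34261 : Q := act 7 n16585
theorem D34261 : act 7 n16585 = n34261 := rfl
theorem F53924 : act 2 n34261 = n31371 := d4_1 D34261 F49638 F39990
theorem F53925 : act 3 n34261 = n16589 := d8_1 D34261 (iv7 D16589) (iv3 F27060)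
theorem F53926 : act 1 n26068 = n34261 := d15_1 (iv0 F41229) (iv7 D34261) (iv2 F39990)
theorem F53927 : act 1 n34261 = n31372 := d15_1 F53926 (iv7 D31372) (iv2 F41227)
def n34262 : Q := act 0 n16586
theorem D34262 : act 0 n16586 = n34262 := rfl
def n34263 : Q := act 1 n16586
theorem D34263 : act 1 n16586 = n34263 := rfl
def n34264 : Q := act 2 n16586
theorem D34264 : act 2 n16586 = n34264 := rfl
def n34265 : Q := act 6 n16586
theorem D34265 : act 6 n16586 = n34265 := rfl
theorem F53928 : act 3 n34265 = n16587 := d7_1 D34265 (iv6 D16587) D16586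
def n34266 : Q := act 5 n16587
theorem D34266 : act 5 n16587 = n34266 := rfl
def n34267 : Q := act 7 n16587
theorem D34267 : act 7 n16587 = n34267 := rfl
theorem F53929 : act 2 n34267 = n30745 := d4_1 D34267 F49203 F38204
theorem F53930 : act 4 n34267 = n16589 := d11_1 D34267 (iv7 D16589) (iv4 F27062)
theorem F53931 : act 1 n25873 = n34267 := d15_1 (iv0 F40874) (iv7 D34267) (iv2 F38204)
theorem F53932 : act 1 n34267 = n30564 := d15_1 F53931 F48985 (iv2 F40872)
def n34268 : Q := act 3 n16588
theorem D34268 : act 3 n16588 = n34268 := rfl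
theorem F53933 : act 5 n34268 = n28890 := d6_2 (iv5 F27065) D34268 F46531
theorem F53934 : act 6 n34268 = n31416 := d7_2 (iv6 F27064) D34268 F49689
theorem F53935 : act 7 n34268 = n26030 := d8_2 (iv7 F27067) D34268 F41147
theorem F53936 : act 0 n24256 = n34268 := d21_4 F38016 (iv1 F18657) D11417 D24256 F53934 F49690 (iv1 F39842) F39840 (iv6 D24259) (iv1 F38018)
def n34269 : Q := act 0 n16590
theorem D34269 : act 0 n16590 = n34269 := rfl
def n34270 : Q := act 1 n16590
theorem D34270 : act 1 n16590 = n34270 := rfl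
def n34271 : Q := act 7 n16590
theorem D34271 : act 7 n16590 = n34271 := rfl
theorem F53937 : act 3 n34271 = n29769 := d8_1 D34271 F47882 (iv3 F27072)
theorem F53938 : act 6 n34271 = n29737 := d14_1 D34271 (iv7 D29737) (iv6 D14134) (iv7 F26546) D16590
def n34272 : Q := act 3 n16591
theorem D34272 : act 3 n16591 = n34272 := rfl
theorem F53939 : act 6 n34272 = n26099 := d7_2 (iv6 F50433) D34272 (iv3 D26099)
theorem F53940 : act 7 n34272 = n26293 := d8_2 (iv7 F50434) D34272 F41871
def n34273 : Q := act 4 n16591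
theorem D34273 : act 4 n16591 = n34273 := rfl
theorem F53941 : act 2 n34273 = n31599 := d1_1 D34273 F49924 (iv2 F50480)
theorem F53942 : act 6 n34273 = n26100 := d10_2 (iv6 F50433) D34273 (iv4 D26100)
theorem F53943 : act 7 n34273 = n26295 := d11_2 (iv7 F50434) D34273 F41879
theorem F53944 : act 0 n34273 = n29104 := d20_1 D34273 F46757 (iv3 D16613) (iv1 D7725) (iv3 D3508) (iv4 D1548) D1546 D3502 D7712 D16591
theorem F53945 : act 3 n34273 = n28367 := d20_9 F47449 (iv1 D24231) F18633 (iv3 D5332) (iv1 F5508) D7712 F11992 D16591 D34273 F50547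
theorem F53946 : act 0 n32455 = n34273 := d20_10 (iv4 D34273) (iv1 F27073) F23436 (iv3 D14044) F10858 D13445 F22375 D13853 (iv4 F49988) (iv3 F51534)
theorem F53947 : act 0 n34272 = n24305 := d20_10 (iv4 F46652) (iv1 F46653) F43272 F26733 (iv1 F23445) D29575 (iv4 F51531) F53946 (iv4 D34273) D34272
theorem F53948 : act 5 n33135 = n34273 := d6_0 F53945 (iv5 F50540) D33135
theorem F53949 : act 0 n33411 = n33135 := d21_7 F50965 (iv1 F51049) (iv5 D32107) F41334 F11792 D16134 D33411 F53948 F53942 F49918
theorem E5602 : n33410 = n29225 := (c17_9 F50575 D13907 D29250 (iv5 F50432) D34273 (iv5 F53948) (iv0 F53949) (iv5 D33411) D33410 F46882)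
theorem E5603 : n33118 = n16134 := (((iv1 F52334)).symm.trans (sb E5602 (iv1 D33410)))
theorem E5604 : n33364 = n29144 := (((F50578).symm.trans (sb E5602 F52668))).symm
theorem E5605 : n33409 = n15970 := ((D33409).symm.trans (sb E5603 (iv1 D33118)))
theorem F53950 : act 1 n16134 = n29225 := (sb E5603 F52334)
theorem E5606 : n29116 = n7536 := (((F25673).symm.trans (sb E5603 (iv3 F52335)))).symm
theorem E5607 : n29222 = n16108 := (((F25674).symm.trans (sb E5603 F52336))).symm
theorem F53951 : act 2 n29144 = n33412 := (sb E5604 (iv2 F52672))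
theorem E5608 : n16116 = n13872 := ((((iv3 D29144)).symm.trans (sb E5604 F52597))).symm
theorem E5609 : n33412 = n29221 := ((((iv4 F46874)).symm.trans (sb E5604 (iv4 F52674)))).symm
theorem F53952 : act 6 n29144 = n16193 := (sb E5604 F52598)
theorem F53953 : act 7 n29144 = n16108 := (sb E5604 (iv7 D33364))
theorem F53954 : act 1 n15970 = n16134 := (sb E5605 (iv0 D33409))
theorem E5610 : n16140 = n13858 := ((D16140).symm.trans (sb E5606 (iv1 D29116)))
theorem E5611 : n26397 = n16141 := (((D16141).symm.trans (sb E5606 F46767))).symm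
theorem E5612 : n13871 = n3436 := (((F11773).symm.trans (sb E5606 (iv4 F46764)))).symm
theorem E5613 : n33361 = n13897 := ((D33361).symm.trans (sb E5607 (iv1 D29222)))
theorem E5614 : n33362 = n13902 := ((D33362).symm.trans (sb E5607 F46878))
theorem E5615 : n14087 = n7525 := (((F25623).symm.trans (sb E5607 (iv3 F46879)))).symm
theorem E5616 : n7544 = n6597 := ((((iv1 D13872)).symm.trans (sb E5608 (iv1 F25634)))).symm
theorem E5617 : n14088 = n7543 := ((F23540).symm.trans (sb E5608 F25635))
theorem E5618 : n29143 = n7546 := (((iv2 F46813)).symm.trans (sb E5608 F25631))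
theorem E5619 : n29115 = n16126 := (((iv4 F46761)).symm.trans (sb E5608 (iv4 F25639)))
theorem E5620 : n29145 = n29109 := ((D29145).symm.trans (sb E5608 F50975))
theorem E5621 : n29146 = n7561 := ((D29146).symm.trans (sb E5608 F25632))
theorem E5622 : n29139 = n7525 := ((F46809).symm.trans (sb E5608 (iv7 D16116)))
theorem F53955 : act 2 n29221 = n29144 := (sb E5609 (iv2 F53951))
theorem E5623 : n29152 = n16143 := (((iv3 F46875)).symm.trans (sb E5609 F52673))
theorem F53956 : act 6 n29221 = n32211 := (sb E5609 F52675)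
theorem F53957 : act 7 n29221 = n16134 := (sb E5609 (iv7 D33412))
theorem F53958 : act 1 n13858 = n7536 := (sb E5610 (iv0 D16140))
theorem E5624 : n29117 = n16123 := ((D29117).symm.trans (sb E5610 (iv2 F52770)))
theorem E5627 : n33425 = n29118 := (((D29118).symm.trans (sb E5610 D33425))).symm
theorem E5628 : n15166 = n15056 := ((((iv6 F24687)).symm.trans (sb E5610 F52698))).symm
theorem E5629 : n16124 = n13875 := (((F23143).symm.trans (sb E5610 F52769))).symm
theorem E5630 : n33426 = n12598 := ((D33426).symm.trans (sb E5611 (iv3 D26397)))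
theorem E5631 : n33427 = n29717 := ((D33427).symm.trans (sb E5611 (iv4 F47761)))
theorem E5632 : n16114 = n13873 := ((F52796).symm.trans (sb E5611 F42149))
theorem E5633 : n29140 = n7530 := ((((iv3 F11768)).symm.trans (sb E5612 D29140))).symm
theorem F53959 : act 1 n13897 = n16108 := (sb E5613 (iv0 D33361))
theorem F53960 : act 0 n13902 = n16108 := (sb E5614 (iv1 D33362))
theorem E5636 : n16113 = n6697 := ((D16113).symm.trans (sb E5615 (iv1 D14087)))
theorem F53961 : act 7 n7525 = n29649 := (sb E5615 F47650)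
theorem F53962 : act 0 n6597 = n3436 := (sb E5616 (iv1 D7544))
theorem E5641 : n13613 = n6708 := ((((iv4 F10936)).symm.trans (sb E5616 (iv4 F50981)))).symm
theorem E5642 : n16174 = n13874 := (((D13874).symm.trans (sb E5616 D16174))).symm
theorem F53963 : act 0 n7543 = n13872 := (sb E5617 (iv1 F23540))
theorem E5643 : n16167 = n12664 := ((D16167).symm.trans (sb E5617 (iv3 F26678)))
theorem E5644 : n13880 = n13612 := ((((iv4 F50976)).symm.trans (sb E5617 F23536))).symm
theorem F53964 : act 2 n7546 = n13872 := (sb E5618 F46813)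
theorem F53965 : act 1 n16126 = n13858 := (sb E5619 (iv0 D29115))
theorem E5647 : n14086 = n7546 := (((F25638).symm.trans (sb E5619 (iv3 F46763)))).symm
theorem F53966 : act 4 n16126 = n13872 := (sb E5619 F46761)
theorem F53967 : act 5 n29109 = n13872 := (sb E5620 (iv5 D29145))
theorem F53968 : act 6 n7561 = n13872 := (sb E5621 (iv6 D29146))
theorem E5648 : n29649 = n13872 := ((F53961).symm.trans (sb E5622 (iv7 F46809)))
theorem F53969 : act 3 n16143 = n29221 := (sb E5623 F46875)
theorem F53970 : act 2 n16123 = n13858 := (sb E5624 (iv2 D29117))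
theorem E5649 : n33391 = n26385 := ((D33391).symm.trans (sb E5624 F46765))
theorem E5650 : n34253 = n33392 := (((D33392).symm.trans (sb E5624 (iv4 F53904)))).symm
theorem E5651 : n32104 = n31922 := (((iv6 F52803)).symm.trans (sb E5624 (iv6 F50234)))
theorem F53971 : act 0 n29118 = n16610 := (sb E5627 F52697)
theorem F53972 : act 1 n29118 = n16614 := (sb E5627 (iv0 F52700))
theorem F53973 : act 2 n29118 = n33393 := (sb E5627 (iv2 F52776))
theorem E5656 : n33398 = n29153 := ((((iv7 F46819)).symm.trans (sb E5627 (iv7 F52779)))).symm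
theorem E5657 : n31920 = n15163 := ((D31920).symm.trans (sb E5628 (iv1 F50994)))
theorem E5658 : n31921 = n7199 := ((D31921).symm.trans (sb E5628 (iv0 D15166)))
theorem E5660 : n32105 = n14090 := (((F24688).symm.trans (sb E5628 (iv7 F52790)))).symm
theorem F53974 : act 1 n13875 = n16143 := (sb E5629 F25688)
theorem F53975 : act 2 n13875 = n16141 := (sb E5629 (iv2 F52766))
theorem F53976 : act 3 n12598 = n16141 := (sb E5630 (iv3 D33426))
theorem F53977 : act 4 n29717 = n16141 := (sb E5631 (iv4 D33427))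
theorem E5662 : n28510 = n14112 := ((((iv6 D29717)).symm.trans (sb E5631 (iv6 F52794)))).symm
theorem F53978 : act 0 n13873 = n7525 := (sb E5632 (iv1 D16114))
theorem E5663 : n33378 = n29147 := (((D29147).symm.trans (sb E5632 D33378))).symm
theorem F53979 : act 6 n13873 = n16141 := (sb E5632 (iv6 F52796))
theorem F53980 : act 7 n13873 = n7543 := (sb E5632 (iv7 F52783))
theorem F53981 : act 1 n7530 = n13875 := (sb E5633 (iv0 F46811))
theorem F53982 : act 1 n6697 = n7525 := (sb E5636 (iv0 D16113))
theorem F53983 : act 2 n6697 = n7543 := (sb E5636 (iv2 F52782))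
theorem E5665 : n28509 = n6600 := (((F10910).symm.trans (sb E5636 F50845))).symm
theorem E5666 : n33375 = n14089 := (((D14089).symm.trans (sb E5636 D33375))).symm
theorem E5672 : n14110 = n6479 := ((D14110).symm.trans (sb E5641 (iv1 D13613)))
theorem E5673 : n28512 = n14111 := (((D14111).symm.trans (sb E5641 F46069))).symm
theorem E5676 : n29572 = n29148 := (((D29148).symm.trans (sb E5642 (iv1 F52763)))).symm
theorem E5677 : n29576 = n29149 := (((D29149).symm.trans (sb E5642 F52764))).symm
theorem F53984 : act 3 n12664 = n7543 := (sb E5643 (iv3 D16167))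
theorem E5684 : n33483 = n26529 := (((D26529).symm.trans (sb E5643 D33483))).symm
theorem E5685 : n32130 = n26197 := ((((iv6 F41587)).symm.trans (sb E5643 (iv6 F51075)))).symm
theorem E5686 : n23881 = n14105 := (((iv3 F50977)).symm.trans (sb E5644 (iv3 F23574)))
theorem E5687 : n29169 = n28548 := (((D28548).symm.trans (sb E5644 D29169))).symm
theorem E5688 : n29170 = n28549 := (((D28549).symm.trans (sb E5644 D29170))).symm
theorem F53985 : act 0 n7546 = n13873 := (sb E5647 (iv1 F23534))
theorem F53986 : act 1 n7546 = n6697 := (sb E5647 (iv0 D14086))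
theorem F53987 : act 7 n13872 = n7525 := (sb E5648 (iv7 F53961))
theorem F53988 : act 3 n26385 = n16123 := (sb E5649 (iv3 D33391))
theorem F53989 : act 0 n33392 = n29684 := (sb E5650 (iv1 F53907))
theorem F53990 : act 1 n33392 = n29709 := (sb E5650 F53906)
theorem F53991 : act 2 n33392 = n16573 := (sb E5650 (iv2 D34253))
theorem F53992 : act 3 n33392 = n29728 := (sb E5650 F53903)
theorem F53993 : act 7 n33392 = n29717 := (sb E5650 F53905)
theorem E5691 : n29662 = n15169 := (((iv1 F50238)).symm.trans (sb E5651 (iv1 F51044)))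
theorem E5692 : n29661 = n15155 := ((F50236).symm.trans (sb E5651 (iv0 D32104)))
theorem F53994 : act 6 n31922 = n16123 := (sb E5651 F52803)
theorem F53995 : act 7 n31922 = n15167 := (sb E5651 F52804)
theorem F53996 : act 2 n29153 = n33428 := (sb E5656 (iv2 F52780))
theorem F53997 : act 1 n15163 = n15056 := (sb E5657 (iv0 D31920))
theorem E5693 : n32642 = n32116 := (((D32116).symm.trans (sb E5657 F51707))).symm
theorem F53998 : act 0 n7199 = n15056 := (sb E5658 (iv1 D31921))
theorem F53999 : act 2 n14090 = n15167 := (sb E5660 F52789)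
theorem E5694 : n13879 = n13594 := (((iv1 F23591)).symm.trans (sb E5662 (iv1 D28510)))
theorem E5695 : n13878 = n13615 := ((F23589).symm.trans (sb E5662 F46064))
theorem F54000 : act 7 n14112 = n13612 := (sb E5662 F52795)
theorem E5696 : n29658 = n29105 := (((iv1 F47661)).symm.trans (sb E5663 (iv1 F52800)))
theorem E5697 : n29657 = n29101 := ((F47660).symm.trans (sb E5663 (iv0 F52798)))
theorem F54001 : act 7 n29147 = n16169 := (sb E5663 F52801)
theorem F54002 : act 2 n6600 = n13612 := (sb E5665 F52785)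
theorem F54003 : act 2 n14089 = n16169 := (sb E5666 F52787)
theorem F54004 : act 1 n6479 = n6708 := (sb E5672 (iv0 D14110))
theorem E5698 : n29707 = n13594 := ((((iv2 F22780)).symm.trans (sb E5672 D29707))).symm
theorem E5699 : n29708 = n13599 := ((((iv3 F22782)).symm.trans (sb E5672 D29708))).symm
theorem E5700 : n29709 = n13605 := ((((iv4 F22787)).symm.trans (sb E5672 D29709))).symm
theorem F54005 : act 1 n14111 = n13612 := (sb E5673 F46070)
theorem E5704 : n29747 = n29714 := (((D29714).symm.trans (sb E5673 F50883))).symm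
theorem E5705 : n29715 = n13630 := ((D29715).symm.trans (sb E5673 F46067))
theorem F54007 : act 2 n29148 = n29105 := (sb E5676 (iv2 F49997))
theorem F54008 : act 5 n29148 = n14048 := (sb E5676 (iv5 D29572))
theorem F54009 : act 7 n29148 = n29101 := (sb E5676 (iv7 F49996))
theorem F54010 : act 1 n29149 = n16169 := (sb E5677 (iv0 F50985))
theorem F54011 : act 2 n29149 = n29101 := (sb E5677 (iv2 F50007))
theorem F54012 : act 5 n29149 = n14049 := (sb E5677 (iv5 D29576))
theorem F54013 : act 7 n29149 = n29105 := (sb E5677 F50006)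
theorem F54014 : act 3 n26529 = n16169 := (sb E5684 F52807)
theorem F54015 : act 3 n26197 = n15167 := (sb E5685 (iv3 D32130))
theorem E5706 : n13886 = n11187 := ((F23576).symm.trans (sb E5686 (iv0 D23881)))
theorem F54016 : act 3 n14105 = n13612 := (sb E5686 F50977)
theorem F54017 : act 0 n28548 = n29719 := (sb E5687 (iv1 F47764))
theorem F54018 : act 1 n28548 = n29718 := (sb E5687 F47763)
theorem F54019 : act 2 n28548 = n13881 := (sb E5687 F46830)
theorem F54020 : act 3 n28548 = n29694 := (sb E5687 (iv3 F47724))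
theorem F54021 : act 7 n28548 = n29716 := (sb E5687 (iv7 F47756))
theorem F54022 : act 2 n28549 = n13882 := (sb E5688 F46831)
theorem F54023 : act 3 n28549 = n29695 := (sb E5688 (iv3 F47729))
theorem F54024 : act 0 n15169 = n14090 := (sb E5691 (iv1 D29662))
theorem F54025 : act 1 n15169 = n31922 := (sb E5691 F50238)
theorem F54026 : act 0 n15155 = n31922 := (sb E5692 (iv1 F50236))
theorem F54027 : act 1 n15155 = n14090 := (sb E5692 (iv0 D29661))
theorem E5707 : n32132 = n15455 := ((F51080).symm.trans (sb E5693 (iv0 D32642)))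
theorem F54028 : act 4 n32116 = n25538 := (sb E5693 F51705)
theorem F54029 : act 0 n13594 = n6600 := (sb E5694 (iv1 D13879))
theorem F54030 : act 1 n13594 = n14112 := (sb E5694 F23591)
theorem E5709 : n29165 = n28506 := ((((iv3 F46060)).symm.trans (sb E5694 D29165))).symm
theorem E5710 : n29166 = n23870 := (((F37257).symm.trans (sb E5694 D29166))).symm
theorem F54031 : act 7 n13594 = n29159 := (sb E5694 F46826)
theorem F54032 : act 0 n13615 = n14112 := (sb E5695 (iv1 F23589))
theorem F54033 : act 1 n13615 = n6600 := (sb E5695 (iv0 D13878))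
theorem F54034 : act 2 n13615 = n29159 := (sb E5695 D29159)
theorem E5713 : n29160 = n28520 := ((((iv3 F46084)).symm.trans (sb E5695 D29160))).symm
theorem E5714 : n29161 = n28530 := ((((iv4 F46099)).symm.trans (sb E5695 D29161))).symm
theorem F54035 : act 0 n29105 = n14089 := (sb E5696 (iv1 D29658))
theorem F54036 : act 1 n29105 = n29147 := (sb E5696 F47661)
theorem F54037 : act 0 n29101 = n29147 := (sb E5697 (iv1 F47660))
theorem F54038 : act 1 n29101 = n14089 := (sb E5697 (iv0 D29657))
theorem E5717 : n29159 = n14111 := ((F54031).symm.trans (sb E5698 (iv7 F47746)))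
theorem E5718 : n29210 = n28517 := (((D28517).symm.trans (sb E5699 (iv1 F50570)))).symm
theorem E5719 : n29122 = n25662 := ((((iv4 F40570)).symm.trans (sb E5699 F47747))).symm
theorem E5720 : n33392 = n28527 := (((D28527).symm.trans (sb E5700 (iv1 F53990)))).symm
theorem E5721 : n28528 = n14114 := ((D28528).symm.trans (sb E5700 (iv0 F47749)))
theorem E5722 : n29215 = n28523 := ((((iv3 F46091)).symm.trans (sb E5700 F47748))).symm
theorem F54039 : act 0 n29714 = n14138 := (sb E5704 (iv1 D29747))
theorem F54040 : act 1 n29714 = n28555 := (sb E5704 (iv0 F50873))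
theorem F54041 : act 2 n29714 = n28558 := (sb E5704 (iv2 F50882))
theorem F54042 : act 7 n29714 = n28511 := (sb E5704 F50881)
theorem F54043 : act 6 n13630 = n14111 := (sb E5705 (iv6 D29715))
theorem F54044 : act 0 n11187 = n14105 := (sb E5706 (iv1 F23576))
theorem E5723 : n23882 = n6603 := ((D23882).symm.trans (sb E5706 (iv0 D13886)))
theorem E5724 : n29183 = n16881 := ((((iv2 F37239)).symm.trans (sb E5706 D29183))).symm
theorem E5728 : n29187 = n23884 := (((D23884).symm.trans (sb E5706 D29187))).symm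
theorem F54045 : act 0 n15455 = n32116 := (sb E5707 (iv1 F51080))
theorem E5729 : n32643 = n15168 := ((D32643).symm.trans (sb E5707 (iv0 D32132)))
theorem E5730 : n16647 = n7301 := ((((iv5 D15455)).symm.trans (sb E5707 F51081))).symm
theorem F54046 : act 0 n28506 = n29728 := (sb E5709 (iv1 F47779))
theorem F54047 : act 1 n28506 = n13891 := (sb E5709 (iv0 F46846))
theorem F54048 : act 0 n23870 = n16573 := (sb E5710 F46845)
theorem F54049 : act 1 n23870 = n29717 := (sb E5710 (iv0 F52222))
theorem F54050 : act 0 n28520 = n13901 := (sb E5713 F46901)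
theorem F54051 : act 4 n28520 = n29668 := (sb E5713 F47676)
theorem F54052 : act 0 n28530 = n29717 := (sb E5714 F47762)
theorem F54053 : act 1 n28530 = n16573 := (sb E5714 (iv0 F46827))
theorem F54054 : act 2 n14111 = n13615 := (sb E5717 (iv2 F54034))
theorem F54055 : act 7 n14111 = n13594 := (sb E5717 (iv7 F54031))
theorem F54056 : act 3 n28517 = n13895 := (sb E5718 (iv3 D29210))
theorem F54057 : act 4 n28517 = n26510 := (sb E5718 F50571)
theorem F54058 : act 7 n28517 = n13901 := (sb E5718 F46863)
theorem F54059 : act 0 n25662 = n13860 := (sb E5719 (iv1 D29122))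
theorem F54060 : act 1 n25662 = n29669 := (sb E5719 F47682)
theorem F54061 : act 0 n28527 = n29684 := (sb E5720 F53989)
theorem F54062 : act 2 n28527 = n16573 := (sb E5720 F53991)
theorem F54063 : act 3 n28527 = n29728 := (sb E5720 F53992)
theorem F54064 : act 4 n28527 = n16123 := (sb E5720 (iv4 D33392))
theorem F54065 : act 7 n28527 = n29717 := (sb E5720 F53993)
theorem F54066 : act 0 n14114 = n13605 := (sb E5721 (iv1 D28528))
theorem F54067 : act 0 n28523 = n13896 := (sb E5722 (iv1 D29215))
theorem F54068 : act 0 n6603 = n11187 := (sb E5723 (iv1 D23882))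
theorem F54069 : act 7 n16881 = n13887 := (sb E5724 (iv7 F46840))
theorem F54070 : act 2 n23884 = n13887 := (sb E5728 F46841)
theorem F54071 : act 0 n15168 = n15455 := (sb E5729 (iv1 D32643))
theorem E5731 : n15452 = n7740 := ((D15452).symm.trans (sb E5730 (iv1 D16647)))
theorem E5732 : n16645 = n15453 := (((D15453).symm.trans (sb E5730 F51013))).symm
theorem E5733 : n26283 = n16646 := (((D16646).symm.trans (sb E5731 (iv1 F41838)))).symm
theorem F54072 : act 1 n7740 = n7301 := (sb E5731 (iv0 D15452))
theorem E5734 : n32634 = n16640 := ((((iv2 F27145)).symm.trans (sb E5731 D32634))).symm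
theorem E5735 : n26281 = n16642 := ((((iv3 F27148)).symm.trans (sb E5731 (iv3 F41832)))).symm
theorem E5736 : n23977 = n16648 := (((D16648).symm.trans (sb E5731 F37455))).symm
theorem E5738 : n32636 = n16642 := ((((iv7 F51012)).symm.trans (sb E5731 D32636))).symm
theorem F54073 : act 4 n15453 = n7740 := (sb E5732 F27284)
theorem E5739 : n32639 = n7738 := ((D32639).symm.trans (sb E5732 (iv6 D16645)))
theorem F54074 : act 0 n16646 = n15453 := (sb E5733 (iv1 F41840))
theorem F54075 : act 2 n16646 = n12487 := (sb E5733 (iv2 D26283))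
theorem F54076 : act 3 n16646 = n12849 := (sb E5733 F41835)
theorem F54077 : act 4 n16646 = n15415 := (sb E5733 F41836)
theorem F54078 : act 7 n16646 = n15454 := (sb E5733 F41837)
theorem F54079 : act 7 n16640 = n15453 := (sb E5734 (iv7 F51691))
theorem F54080 : act 0 n16642 = n15454 := (sb E5735 (iv1 F41833))
theorem F54081 : act 1 n16642 = n12487 := (sb E5735 (iv0 D26281))
theorem E5740 : n26282 = n16640 := ((((iv4 F27187)).symm.trans (sb E5735 F41834))).symm
theorem F54082 : act 4 n16648 = n11236 := (sb E5736 (iv4 D23977))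
theorem F54083 : act 2 n16642 = n15453 := (sb E5738 F51692)
theorem F54084 : act 6 n7738 = n15453 := (sb E5739 (iv6 D32639))
theorem F54085 : act 0 n16640 = n12487 := (sb E5740 (iv1 D26282))
theorem F54086 : act 1 n16640 = n15454 := (sb E5740 F41839)
theorem E5741 : n32509 = n32440 := ((((iv3 F51507)).symm.trans (sb E5740 F51587))).symm
theorem F54087 : act 0 n32440 = n15387 := (sb E5741 (iv1 F51586))
theorem F54088 : act 1 n32440 = n15387 := (sb E5741 (iv0 D32509))
theorem F54089 : act 4 n32440 = n32637 := (sb E5741 (iv4 F51694))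
theorem F54090 : act 6 n32637 = n16644 := d10_2 D32440 F54089 F27279
theorem F54091 : act 2 n32440 = n32637 := d3_3 F54090 F27278 D32440
theorem F54092 : act 7 n32440 = n32637 := d14_0 F54090 F27280 F50730 (iv7 F27154) D32440
theorem E5742 : n33743 = n33293 := (c21_2 D16299 D33743 (iv5 F52529) (iv6 D32641) (iv1 F54086) (iv6 D16640) (iv5 F27160) (iv1 D6293) F4233 D3449 D7583)
theorem F54093 : act 0 n33293 = n16304 := (sb E5742 (iv1 F52983))
theorem F54094 : act 1 n33293 = n16299 := (sb E5742 (iv0 D33743))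
theorem E5743 : n33975 = n33744 := ((c15_2 F54094 D33744 F53316 (iv2 F52528))).symm
theorem F54095 : act 3 n33744 = n16427 := (sb E5743 (iv3 D33975))
theorem F54096 : act 5 n33744 = n31692 := (sb E5743 F53315)
theorem F54097 : act 7 n33744 = n32648 := (sb E5743 F53316)
theorem E5744 : n31689 = n31531 := (c21_5 D16304 (iv1 F52984) F54096 (iv6 D31692) D31689 (iv6 D31531) (iv5 F50821) (iv1 F24737) (iv5 D15126) D15127 (iv1 F24740))
theorem F54098 : act 1 n31531 = n14900 := (sb E5744 (iv0 D31689))
theorem E5745 : n33754 = n32647 := ((F52993).symm.trans (sb E5744 F51710))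
theorem F54099 : act 4 n32647 = n31531 := (sb E5745 (iv4 F52993))
theorem F54100 : act 5 n32647 = n16307 := (sb E5745 (iv5 D33754))
theorem F54101 : act 6 n32647 = n31529 := (sb E5745 F52992)
theorem F54102 : act 7 n32647 = n29106 := (sb E5745 F52991)
theorem F54103 : act 0 n29106 = n31692 := d21_10 (iv5 F54096) (iv1 D33744) (iv5 D16299) (iv6 F50789) (iv1 F25683) (iv6 F53979) D29147 (iv1 F54036) (iv5 D29105) D29106
theorem E5746 : n33555 = n14900 := (c21_5 D33428 F52765 (iv5 D16614) D16615 F52855 D31692 (iv5 F54096) (iv1 D33744) (iv5 D16299) (iv6 F50789) (iv1 F25683))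
theorem E5747 : n31690 = n16615 := ((D31690).symm.trans (sb E5746 (iv0 F52855)))
theorem E5748 : n16217 = n16096 := ((((iv5 F25602)).symm.trans (sb E5746 (iv5 D33555)))).symm
theorem F54104 : act 0 n16615 = n14900 := (sb E5747 (iv1 D31690))
theorem E5749 : n32646 = n29573 := ((((iv4 F47459)).symm.trans (sb E5747 (iv4 F51709)))).symm
theorem E5750 : n33332 = n32970 := ((D33332).symm.trans (sb E5748 (iv1 F52141)))
theorem E5751 : n33333 = n7560 := ((D33333).symm.trans (sb E5748 (iv0 D16217)))
theorem E5752 : n33552 = n33334 := (((D33334).symm.trans (sb E5748 D33552))).symm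
theorem E5756 : n33557 = n26477 := ((((iv7 F42360)).symm.trans (sb E5748 D33557))).symm
theorem F54105 : act 1 n29573 = n15456 := (sb E5749 (iv0 D32646))
theorem F54106 : act 1 n32970 = n16096 := (sb E5750 (iv0 D33332))
theorem F54107 : act 0 n7560 = n16096 := (sb E5751 (iv1 D33333))
theorem F54108 : act 7 n33334 = n16218 := (sb E5752 (iv7 F52854))
theorem F54109 : act 2 n26477 = n16218 := (sb E5756 F52856)
theorem E5757 : n33558 = n26551 := (c0_3 D26477 F54109 D33558 F43286 (iv3 D16098) F21044)
theorem F54110 : act 3 n26551 = n16218 := (sb E5757 (iv3 D33558))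
theorem F54111 : act 2 n33560 = n26063 := d2_3 (iv5 F42359) F54109 D33560
theorem F54112 : act 3 n26857 = n33560 := d0_0 F54111 (iv3 D26063) F20528 D14899 (iv2 F43284)
theorem F54113 : act 4 n31677 = n33560 := d1_0 F54111 F41216 D31677
theorem F54114 : act 7 n31691 = n33560 := d4_0 F54111 F41218 D31691
theorem E5758 : n28597 = n26361 := ((c17_6 (iv1 D7559) D7560 F54107 F25602 (iv4 F41210) (iv5 F42055) (iv0 D28597) (iv5 D13629) D13628 (iv4 F50839))).symm
theorem F54115 : act 1 n26361 = n13629 := (sb E5758 (iv0 D28597))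
theorem F54116 : act 0 n33745 = n32950 := d20_7 D7441 D15868 F25337 D16096 (iv1 F54106) F52138 D33745 (iv4 D32950) (iv3 D15865) (iv1 D7440)
theorem F54117 : act 1 n33747 = n32950 := d15_0 (iv0 F54116) F52985 (iv2 F52986)
theorem E5759 : n32948 = n28600 := (c18_9 (iv1 F50863) (iv4 F20959) F50782 F50778 D16304 D33747 F54117 (iv4 D32950) D32948 F46161)
theorem F54118 : act 0 n28600 = n15865 := (sb E5759 (iv1 D32948))
theorem E5760 : n33502 = n26477 := ((c17_6 (iv1 F50860) (iv5 F46161) F54118 F25333 (iv4 F41216) (iv5 F42359) F52817 F25766 F50787 (iv4 F42030))).symm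
theorem F54119 : act 0 n26477 = n16183 := (sb E5760 (iv1 D33502))
theorem F54120 : act 1 n26477 = n16220 := (sb E5760 F52817)
theorem E5761 : n32550 = n16478 := (c21_6 (iv5 F46161) F54118 F25333 F24533 D15413 D32550 F25989 (iv1 F46087) (iv5 D28521) (iv6 F42031) (iv1 F50860))
theorem E5762 : n34024 = n15413 := ((D34024).symm.trans (sb E5761 (iv6 D32550)))
theorem E5763 : n32382 = n17038 := ((((iv1 F27927)).symm.trans (sb E5762 (iv1 F53366)))).symm
theorem E5765 : n32548 = n32380 := ((D32548).symm.trans (sb E5762 F53362))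
theorem E5766 : n32505 = n32435 := ((F51584).symm.trans (sb E5762 F53363))
theorem E5767 : n17036 = n16479 := ((F41841).symm.trans (sb E5762 F53364))
theorem F54121 : act 6 n15413 = n16478 := (sb E5762 (iv6 D34024))
theorem E5768 : n32551 = n16479 := ((D32551).symm.trans (sb E5762 F53365))
theorem E5769 : n15414 = n15286 := (((iv1 F27929)).symm.trans (sb E5763 (iv1 D32382)))
theorem F54122 : act 2 n32380 = n15413 := (sb E5765 (iv2 D32548))
theorem F54123 : act 0 n32435 = n15386 := (sb E5766 (iv1 D32505))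
theorem F54124 : act 3 n32435 = n15413 := (sb E5766 (iv3 F51584))
theorem E5770 : n34025 = n15415 := ((D34025).symm.trans (sb E5767 (iv1 F27923)))
theorem E5771 : n34026 = n7962 := ((D34026).symm.trans (sb E5767 (iv0 D17036)))
theorem F54125 : act 4 n16479 = n15413 := (sb E5767 (iv4 F41841))
theorem F54126 : act 7 n16479 = n15413 := (sb E5768 (iv7 D32551))
theorem F54127 : act 0 n15286 = n7277 := (sb E5769 (iv1 D15414))
theorem F54128 : act 1 n15286 = n17038 := (sb E5769 F27929)
theorem E5772 : n32379 = n17029 := (((iv3 F51430)).symm.trans (sb E5769 (iv3 F27931)))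
theorem E5773 : n32380 = n17037 := (((iv4 F51433)).symm.trans (sb E5769 F27930))
theorem F54129 : act 1 n15415 = n16479 := (sb E5770 (iv0 D34025))
theorem F54130 : act 0 n7962 = n16479 := (sb E5771 (iv1 D34026))
theorem F54131 : act 3 n17029 = n15286 := (sb E5772 F51430)
theorem F54132 : act 6 n17029 = n15283 := (sb E5772 (iv6 D32379))
theorem F54133 : act 7 n17029 = n15307 := (sb E5772 F51431)
theorem F54134 : act 2 n17037 = n15413 := (sb E5773 F54122)
theorem E5776 : n15420 = n15307 := (((iv3 F27932)).symm.trans (sb E5773 F51432))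
theorem F54135 : act 4 n17037 = n15286 := (sb E5773 F51433)
theorem F54136 : act 6 n17037 = n15284 := (sb E5773 (iv6 D32380))
theorem F54137 : act 7 n17037 = n15286 := (sb E5773 F51434)
theorem E5777 : n32407 = n17031 := ((D32407).symm.trans (sb E5776 (iv1 F27910)))
theorem E5778 : n32408 = n7280 := ((D32408).symm.trans (sb E5776 (iv0 D15420)))
theorem E5779 : n32565 = n16968 := (((F42939).symm.trans (sb E5776 D32565))).symm
theorem F54138 : act 3 n15307 = n17037 := (sb E5776 F27932)
theorem E5780 : n32566 = n32406 := ((((iv4 F51456)).symm.trans (sb E5776 D32566))).symm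
theorem E5783 : n32569 = n17029 := ((((iv7 F54133)).symm.trans (sb E5776 D32569))).symm
theorem F54139 : act 1 n17031 = n15307 := (sb E5777 (iv0 D32407))
theorem F54140 : act 0 n7280 = n15307 := (sb E5778 (iv1 D32408))
theorem F54141 : act 7 n16968 = n15421 := (sb E5779 (iv7 F51630))
theorem F54142 : act 0 n32406 = n17010 := (sb E5780 F51631)
theorem F54143 : act 1 n32406 = n17005 := (sb E5780 (iv0 F51632))
theorem F54144 : act 5 n32406 = n22068 := (sb E5780 (iv5 F51633))
theorem F54145 : act 2 n17029 = n15421 := (sb E5783 F51634)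
theorem E5784 : n32947 = n28562 := ((c15_4 (iv0 D32947) (iv0 F54118) (iv7 D28600) (iv2 F46125))).symm
theorem F54146 : act 1 n28562 = n15865 := (sb E5784 (iv0 D32947))
theorem E5785 : n31676 = n31554 := ((c21_10 (iv5 F25333) (iv1 F54146) (iv5 D28562) (iv6 D13616) (iv1 F37246) (iv6 F10525) D13566 D28445 F50964 D31554 (iv1 D31676))).symm
theorem F54147 : act 0 n31554 = n14893 := (sb E5785 (iv1 D31676))
theorem F54148 : act 5 n32555 = n28444 := d21_8 D13566 D28445 F50964 D31554 F54147 F24533 D15416 D32555 (iv6 D28444) (iv1 D13565)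
theorem F54149 : act 2 n24395 = n31675 := d15_3 (iv0 D31675) (iv0 F54147) (iv7 F50952)
theorem F54150 : act 6 n31675 = n24391 := d3_2 D24395 F54149 F38242
theorem E5786 : n32504 = n32445 := (c0_3 (iv3 F54131) F54145 (iv3 F51697) (iv2 F53358) F53359 F42943)
theorem F54151 : act 1 n32445 = n15386 := (sb E5786 (iv0 D32504))
theorem F54152 : act 3 n32445 = n15421 := (sb E5786 F51697)
theorem E5787 : n32573 = n17428 := (c3_3 (iv6 F54132) F54145 D32573 (iv2 F42941))
theorem F54153 : act 6 n17428 = n15421 := (sb E5787 (iv6 D32573))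
theorem E5788 : n17030 = n16968 := (c15_2 (iv0 D17029) D17030 F54141 (iv2 F54145))
theorem F54154 : act 0 n16968 = n7957 := (sb E5788 (iv1 D17030))
theorem F54155 : act 1 n16968 = n15422 := (sb E5788 F27911)
theorem F54156 : act 6 n32571 = n16978 := d10_2 F54153 D32571 (iv4 F28421)
theorem F54157 : act 0 n16945 = n26703 := d20_1 (iv4 F27786) (iv4 F51508) F54152 (iv1 D15421) (iv3 D7280) F10673 (iv1 D2565) (iv4 F4081) (iv3 F9444) (iv1 F27043)
theorem F54158 : act 0 n26703 = n26855 := d20_7 F54073 D16646 F54077 (iv3 F27908) (iv1 F27912) (iv3 F54152) F51508 (iv4 D26855) (iv3 F54076) F54074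
theorem E5789 : n32619 = n32341 := ((c20_7 F9448 (iv1 F4087) D3606 D7962 F54130 (iv3 F53359) F53360 (iv1 D32619) F24988 (iv3 D7292) F10680)).symm
theorem F54159 : act 0 n32341 = n15441 := (sb E5789 (iv1 D32619))
theorem E5790 : n32949 = n28598 := (c21_7 D2887 D6488 (iv5 F25821) D16479 (iv1 F54129) (iv6 F49957) (iv5 F52121) (iv1 D28598) (iv5 D13629) (iv6 D6484) (iv1 D2885))
theorem F54160 : act 2 n28598 = n15865 := (sb E5790 (iv2 D32949))
theorem F54161 : act 5 n28598 = n31677 := (sb E5790 F52121)
theorem F54162 : act 0 n32554 = n28435 := d21_1 D32554 (iv5 D28435) (iv6 D13563) (iv1 D6455) F4469 D2887 D6488 (iv5 F25821) D16479 (iv1 F54129)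
theorem F54163 : act 7 n32549 = n34027 := d13_2 F54126 D32549 (iv5 D34027)
theorem F54164 : act 0 n34023 = n32469 := d20_4 F20798 D15413 (iv4 F54125) (iv3 F53359) (iv3 D32469) (iv4 F27872) F51696 (iv4 F54089) F51507 F54085
theorem E5791 : n32591 = n32549 := (c21_8 D32665 F51745 (iv5 D23869) D23870 F54048 (iv6 F28411) F28410 D32591 (iv5 D32549) F54121 F26768)
theorem F54165 : act 1 n32549 = n15429 := (sb E5791 (iv0 D32591))
theorem E5792 : n28433 = n17425 := (c21_11 F28410 (iv1 F54165) (iv5 D32549) F54121 F26768 (iv6 F41186) (iv5 F50764) (iv1 F45962) (iv5 D13562) D13563 D28433)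
theorem F54166 : act 1 n17425 = n13563 := (sb E5792 (iv0 D28433))
theorem F54167 : act 0 n23972 = n25538 := d17_0 (iv5 D25538) D25535 (iv5 F51649) (iv4 D32594) (iv5 F28410) F54166 D28435 (iv0 F54162) F51624
theorem F54168 : act 3 n29702 = n28430 := d20_5 F20682 (iv1 F12938) (iv4 F10935) (iv3 F23583) D29702 F45971 (iv1 F54166) F28409 (iv3 D15056) (iv1 F20685)
theorem F54169 : act 0 n31707 = n24389 := d21_7 (iv5 F50764) (iv1 F45962) (iv5 D13562) D13563 (iv1 F54166) F28411 (iv5 F50011) (iv5 D24389) F50948 (iv1 F41188)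
theorem F54170 : act 5 n24388 = n29171 := d17_5 F54048 (iv5 F50011) F54169 (iv5 D24389) D24388 (iv0 D29171) (iv5 D13881) (iv0 F54029) F37257
theorem E5793 : n29176 = n28430 := ((c21_4 D32386 F51440 (iv5 D28429) D28430 (iv1 D29176) (iv6 D13882) D13881 D29171 (iv5 F54170) (iv6 F50951) F49885)).symm
theorem F54171 : act 0 n28430 = n13882 := (sb E5793 (iv1 D29176))
theorem F54172 : act 0 n26276 = n34027 := d17_2 F54171 (iv5 F41816) (iv5 D34027) F54125 D32549 F54165 (iv5 F28410) F54166 (iv4 F45971)
theorem E5794 : n31915 = n28428 := (c20_5 F9153 F9552 (iv4 F11479) D15053 D31915 F45970 (iv4 F45971) F54171 (iv4 F23544) F23543 (iv1 F11515))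
theorem F54173 : act 0 n28428 = n29695 := (sb E5794 (iv1 F50217))
theorem F54174 : act 1 n28428 = n15053 := (sb E5794 (iv0 D31915))
theorem E5795 : n29175 = n28423 := ((c15_4 (iv0 D29175) (iv0 F54171) F51007 (iv2 F45963))).symm
theorem F54175 : act 1 n28423 = n13882 := (sb E5795 (iv0 D29175))
theorem F54176 : act 1 n32593 = n34027 := d15_0 (iv0 F54172) F41817 D32593
theorem F54177 : act 4 n23976 = n32593 := d18_7 (iv1 F54129) (iv4 F54077) F54074 F54073 D16648 F54082 D23976 F54176 (iv5 D34027)
theorem F54178 : act 2 n32594 = n23976 := d1_3 F54177 (iv2 D32593) D32594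
theorem F54179 : act 5 n23976 = n16913 := d2_2 (iv5 F51649) F54178 (iv2 F42935)
theorem F54180 : act 6 n23849 = n29702 := d7_0 F54168 (iv6 D28430) F37182
theorem F54181 : act 7 n28428 = n29702 := d8_0 F54168 F51007 (iv3 F45970)
theorem E5796 : n28549 = n28434 := (c20_7 (iv4 F52296) F52298 (iv4 F41494) F41493 (iv1 F41584) F54015 F50987 (iv1 D28434) (iv4 F45971) (iv3 F54168) (iv1 F50220))
theorem F54182 : act 2 n28434 = n13882 := (sb E5796 F54022)
theorem F54183 : act 3 n28434 = n29695 := (sb E5796 F54023)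
theorem F54184 : act 4 n28434 = n15167 := (sb E5796 (iv4 F50987))
theorem F54185 : act 6 n28434 = n13612 := (sb E5796 (iv6 D28549))
theorem F54186 : act 5 n28168 = n29718 := d21_0 (iv1 F54018) (iv5 D28548) (iv6 F54185) (iv1 D28434) (iv6 D13563) D13562 (iv1 F50761) (iv5 D14861) (iv6 F22378) D28168
theorem F54187 : act 1 n17039 = n28435 := d17_6 (iv1 D15167) D15168 F54071 (iv5 D15455) (iv4 F12701) D17039 (iv5 D28435) D28434 F54184
theorem F54188 : act 1 n32134 = n23968 := d18_6 (iv1 F54166) F28409 (iv1 F53997) F24769 D15168 D32134 F37445 F54187 (iv5 D28435)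
theorem F54189 : act 2 n16915 = n32134 := d15_3 F54188 (iv0 F51706) F40372
theorem F54190 : act 1 n23972 = n32134 := d15_0 F54188 (iv7 F51620) (iv2 F51622)
theorem F54191 : act 3 n32134 = n17401 := d0_2 (iv3 F27724) F54189 (iv2 F40379) F40380 F20079
theorem F54192 : act 4 n32106 = n16915 := d1_0 F54189 (iv4 D32134) (iv2 F51046)
theorem F54193 : act 5 n32134 = n16914 := d2_2 D16915 F54189 (iv2 D16914)
theorem F54194 : act 0 n16915 = n32557 := d20_7 D15054 (iv1 F24997) (iv4 D15457) (iv3 F24995) F54045 F51067 F54192 (iv4 D32557) F24968 F11582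
theorem F54195 : act 0 n26284 = n32106 := d20_7 (iv4 F8896) (iv1 F12913) F12911 (iv3 F24840) (iv1 F40568) (iv3 F40572) (iv4 F41849) F54192 F27724 F12497
theorem F54196 : act 1 n32135 = n32640 := d17_6 F54085 D26284 F54195 (iv5 D32106) F50993 (iv5 F51079) (iv5 D32640) (iv0 F54080) (iv4 F27187)
theorem F54197 : act 1 n26284 = n32135 := d15_1 (iv0 F54195) (iv7 D32135) (iv2 F51046)
theorem F54198 : act 1 n32640 = n32106 := d15_0 (iv0 F54195) F41843 (iv2 F51699)
theorem F54199 : act 0 n32641 = n29106 := d21_4 D32106 (iv1 F54198) (iv5 D32640) D32641 (iv6 D29106) D29105 F54035 (iv5 D14089) D14090 (iv1 F54027)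
theorem F54200 : act 2 n29702 = n31916 := d15_3 F50221 (iv0 F54173) F54181
theorem F54201 : act 2 n28428 = n29703 := d15_3 F50222 F50220 (iv7 F54181)
theorem F54202 : act 6 n29703 = n28425 := d3_2 D28428 F54201 (iv2 D28425)
theorem F54203 : act 7 n29703 = n31916 := d4_2 (iv7 F54181) F54201 (iv2 F54200)
theorem E5797 : n33501 = n33334 := (c15_2 F54120 F52816 F54108 (iv2 F54109))
theorem F54204 : act 0 n33334 = n16220 := (sb E5797 (iv1 F52816))
theorem F54205 : act 1 n33334 = n16183 := (sb E5797 (iv0 D33501))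
theorem E5798 : n33526 = n32648 := ((c21_1 D32648 (iv1 D33526) (iv5 D16198) (iv6 D7555) (iv1 F11771) (iv6 F26817) D32086 (iv1 F51110) F51109 (iv6 F54101) (iv1 D32647))).symm
theorem F54206 : act 0 n32648 = n16198 := (sb E5798 (iv1 D33526))
theorem F54207 : act 1 n32648 = n32212 := (sb E5798 F52846)
theorem F54208 : act 7 n33525 = n33293 := d15_2 F54207 F52845 F52528
theorem F54209 : act 2 n33744 = n33525 := d4_3 F54208 F52528 (iv7 F54097)
theorem F54210 : act 3 n33212 = n33525 := d8_3 F54208 (iv3 D33293) (iv7 F52527)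
theorem F54211 : act 0 n32638 = n17019 := d21_7 (iv5 F25703) F50801 (iv5 D29107) (iv6 F26737) (iv1 F26767) F54084 D32638 F27876 (iv6 D14090) (iv1 F53986)
theorem E5799 : n33620 = n23978 := ((c10_3 (iv6 F27285) F54082 D23978 (iv4 D33620))).symm
theorem F54212 : act 4 n23978 = n16253 := (sb E5799 (iv4 D33620))
theorem F54213 : act 7 n32640 = n32133 := d13_2 F54078 D32640 (iv5 F51077)
theorem F54214 : act 2 n32133 = n26284 := d4_1 F54213 F41843 (iv2 F51699)
theorem F54215 : act 3 n32133 = n26856 := d8_1 F54213 (iv7 F50670) (iv3 F51700)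
theorem E5800 : n29278 = n29190 := ((c2_3 (iv5 F50943) F54070 D29190 (iv2 F50942))).symm
theorem F54216 : act 0 n29190 = n13915 := (sb E5800 (iv1 D29278))
theorem F54217 : act 1 n29190 = n29740 := (sb E5800 F47817)
theorem F54218 : act 2 n29190 = n29738 := (sb E5800 (iv2 F50942))
theorem F54219 : act 7 n29190 = n29739 := (sb E5800 F50941)
theorem E5801 : n29191 = n23897 := (c3_3 F50891 F54070 D29191 (iv2 F50890))
theorem F54220 : act 6 n23897 = n13887 := (sb E5801 (iv6 D29191))
theorem F54221 : act 1 n28557 = n16621 := d18_6 (iv1 F53974) (iv4 F23595) F54066 F22787 D13614 D28557 (iv4 D16621) D16620 (iv5 F50805)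
theorem F54222 : act 5 n24300 = n29719 := d21_0 (iv1 D29719) (iv5 D14113) D14114 F54066 (iv6 D13605) D13604 D28524 F46092 (iv6 F45530) (iv1 F45549)
theorem F54223 : act 7 n29684 = n23870 := d15_2 (iv0 F54066) (iv0 F47722) F37258
theorem F54224 : act 2 n28530 = n29684 := d4_3 F54223 F37258 D28530
theorem E5802 : n23884 = n14103 := (c8_3 F54223 F37215 D23884 D29684)
theorem E5803 : n29683 = n13887 := ((D29683).symm.trans (sb E5802 F54070))
theorem E5804 : n29738 = n29686 := (((D29686).symm.trans (sb E5802 F50943))).symm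
theorem E5805 : n29687 = n15848 := ((D29687).symm.trans (sb E5802 (iv6 F50891)))
theorem E5806 : n29688 = n11187 := ((D29688).symm.trans (sb E5802 (iv7 D23884)))
theorem F54225 : act 2 n13887 = n14103 := (sb E5803 (iv2 D29683))
theorem E5807 : n16881 = n14104 := (((iv7 F54069)).symm.trans (sb E5803 (iv7 F47714)))
theorem F54226 : act 0 n29686 = n29279 := (sb E5804 (iv1 F47811))
theorem F54227 : act 1 n29686 = n14136 := (sb E5804 (iv0 D29738))
theorem F54228 : act 2 n29686 = n29190 := (sb E5804 (iv2 F54218))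
theorem F54229 : act 7 n29686 = n23883 := (sb E5804 F50940)
theorem F54230 : act 6 n15848 = n14103 := (sb E5805 (iv6 D29687))
theorem F54231 : act 7 n11187 = n14103 := (sb E5806 (iv7 D29688))
theorem F54232 : act 2 n14104 = n11187 := (sb E5807 F37239)
theorem E5808 : n29739 = n29691 := (((D29691).symm.trans (sb E5807 (iv5 F50938)))).symm
theorem E5809 : n29692 = n7866 := ((D29692).symm.trans (sb E5807 (iv6 D16881)))
theorem F54233 : act 7 n14104 = n13887 := (sb E5807 F54069)
theorem F54234 : act 0 n29691 = n14136 := (sb E5808 (iv1 D29739))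
theorem F54235 : act 1 n29691 = n29279 := (sb E5808 F47816)
theorem F54236 : act 2 n29691 = n23883 := (sb E5808 (iv2 F50939))
theorem F54237 : act 7 n29691 = n29190 := (sb E5808 (iv7 F54219))
theorem F54238 : act 6 n7866 = n14104 := (sb E5809 (iv6 D29692))
theorem F54239 : act 6 n28470 = n29684 := d14_5 F54223 (iv6 D23870) F37242 D13624 (iv7 F50868)
theorem F54240 : act 5 n29684 = n24400 := d21_6 F25821 (iv1 F22770) (iv5 D13587) D13588 (iv1 F45993) F54239 (iv1 D24400) (iv5 D11503) F8172 D7640
theorem F54241 : act 3 n24400 = n29686 := d6_1 F54240 (iv5 D29686) D29684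
theorem F54242 : act 6 n29689 = n16878 := d7_2 F54238 D29689 (iv3 D16878)
theorem F54243 : act 6 n29690 = n16879 := d10_2 F54238 D29690 (iv4 D16879)
theorem E5810 : n32601 = n32409 := (c21_8 (iv5 F25192) (iv1 F25196) F43051 F54238 (iv1 D14104) D14108 (iv5 F24979) D32601 (iv5 D32409) (iv6 D15307) (iv1 F12539))
theorem F54244 : act 1 n32409 = n15432 := (sb E5810 (iv0 D32601))
theorem F54245 : act 2 n23876 = n29690 := d3_3 F54243 F37235 D23876
theorem F54246 : act 3 n23969 = n29690 := d7_3 F54243 (iv3 F27646) D23969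
theorem F54247 : act 0 n25333 = n23969 := d20_4 F23548 (iv1 F18183) (iv4 F19912) D25333 F54246 (iv4 D29690) (iv1 D14104) D14106 F23579 (iv1 F23546)
theorem F54248 : act 2 n28523 = n29689 := d3_3 F54242 F27639 D28523
theorem F54249 : act 4 n33178 = n29689 := d10_3 F54242 F27640 D33178
theorem F54250 : act 0 n29671 = n33178 := d20_1 (iv4 F47688) F54249 (iv3 D29689) (iv1 D14104) (iv3 D6705) (iv4 F7729) (iv1 F4393) (iv4 F9303) (iv3 F20979) F27011
theorem F54251 : act 0 n33178 = n33068 := d20_7 F25686 F53985 (iv4 F23587) F23586 (iv1 F23577) D29689 (iv4 F54249) F52292 F53988 (iv1 F25689)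
theorem F54252 : act 0 n29220 = n29689 := d20_10 (iv4 F54249) F54251 F52292 F53988 (iv1 F25689) F53969 F46874 (iv1 F50578) F46882 (iv3 F46873)
theorem F54253 : act 1 n29216 = n29689 := d15_0 (iv0 F54252) (iv7 D29220) D29216
theorem F54254 : act 7 n29188 = n29689 := d8_2 F54233 D29188 (iv3 D29689)
theorem F54255 : act 7 n29189 = n29690 := d11_2 F54233 D29189 (iv4 D29690)
theorem F54256 : act 7 n29685 = n23876 := d11_2 F54231 D29685 F37282
theorem F54257 : act 2 n29189 = n29685 := d4_3 F54256 F54245 (iv7 F54255)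
theorem F54258 : act 1 n29690 = n33129 := d15_0 (iv0 F52363) F54256 F54245
theorem F54259 : act 6 n29685 = n32914 := d10_2 F54230 D29685 (iv4 D32914)
theorem E5811 : n32602 = n32572 := ((c21_7 D29686 F54226 F46928 F45543 (iv1 F28419) F54153 D32572 (iv1 D32602) F24979 (iv6 D14108) D14103)).symm
theorem F54260 : act 0 n32572 = n15432 := (sb E5811 (iv1 D32602))
theorem F54261 : act 3 n29719 = n24302 := d6_1 F54222 (iv5 D24302) D24300
theorem E5812 : n32399 = n24300 := ((c21_3 D28548 F54017 (iv5 F54222) (iv6 D32399) (iv1 D15294) (iv6 D7240) D7239 F25733 (iv5 D6478) D6479 D13612)).symm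
theorem F54262 : act 6 n24300 = n15294 := (sb E5812 (iv6 D32399))
theorem E5813 : n32396 = n24303 := (c7_2 F54262 D32396 (iv6 D24303) D24300)
theorem F54263 : act 3 n24303 = n15294 := (sb E5813 (iv3 D32396))
theorem E5814 : n32397 = n26051 := (c10_2 F54262 D32397 F50887 F38244)
theorem F54264 : act 4 n26051 = n15294 := (sb E5814 (iv4 D32397))
theorem F54265 : act 5 n32400 = n28442 := d17_3 (iv1 D15294) D15295 D32400 (iv4 D28442) D28443 F51009 F24632 D26051 F54264
theorem E5815 : n32398 = n32179 := (c18_5 (iv1 F41176) F41173 (iv1 F41189) F54264 D32398 (iv4 D32179) F50687 (iv4 D32064) F24737 F50821)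
theorem F54266 : act 5 n32179 = n15294 := (sb E5815 (iv5 D32398))
theorem E5816 : n25287 = n24303 := ((c20_4 F41173 (iv1 F41189) F54264 (iv3 F54263) (iv1 F39933) (iv3 F41184) F41185 (iv1 F41177) (iv4 F41170) (iv3 F41171) (iv1 F41176))).symm
theorem F54267 : act 0 n24303 = n14865 := (sb E5816 (iv1 F39933))
theorem F54268 : act 1 n24303 = n12008 := (sb E5816 (iv0 D25287))
theorem E5817 : n29121 = n25679 := (c15_2 F54060 F47681 (iv7 D25679) (iv2 F40569))
theorem F54269 : act 0 n25679 = n29669 := (sb E5817 (iv1 F47681))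
theorem F54270 : act 1 n25679 = n13860 := (sb E5817 (iv0 D29121))
theorem F54271 : act 7 n28506 = n29713 := d8_2 F54055 (iv3 F46060) (iv3 D29713)
theorem F54272 : act 6 n29713 = n16883 := d14_1 F54271 F50865 (iv6 D13622) (iv7 F22775) D28506
theorem F54273 : act 2 n29713 = n29201 := d15_3 F47780 (iv0 F54046) F54271
theorem F54274 : act 2 n28506 = n29727 := d15_3 (iv0 F47777) F47753 (iv7 F54271)
theorem E5818 : n29234 = n25670 := (c0_3 (iv3 F46060) F54274 (iv3 F47776) F40587 F22782 (iv2 F22780))
theorem F54275 : act 1 n25670 = n13901 := (sb E5818 (iv0 D29234))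
theorem F54276 : act 3 n25670 = n29727 := (sb E5818 F47776)
theorem E5819 : n29667 = n12198 := (((F40588).symm.trans (sb E5818 F47675))).symm
theorem E5820 : n26528 = n25676 := (((D25676).symm.trans (sb E5819 (iv1 F47674)))).symm
theorem E5821 : n25677 = n14093 := ((D25677).symm.trans (sb E5819 (iv0 D29667)))
theorem F54277 : act 0 n25676 = n29668 := (sb E5820 F47677)
theorem F54278 : act 2 n25676 = n13860 := (sb E5820 F42469)
theorem F54279 : act 3 n25676 = n29693 := (sb E5820 (iv3 F47718))
theorem F54280 : act 4 n25676 = n12664 := (sb E5820 (iv4 D26528))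
theorem F54281 : act 7 n25676 = n29669 := (sb E5820 (iv7 F47680))
theorem F54282 : act 0 n14093 = n12198 := (sb E5821 (iv1 D25677))
theorem F54283 : act 6 n29727 = n25668 := d3_2 D28506 F54274 F40579
theorem F54284 : act 7 n29727 = n29201 := d4_2 (iv7 F54271) F54274 (iv2 F54273)
theorem E5822 : n33122 = n33000 := ((c10_3 F54283 F40580 D33000 (iv4 F52352))).symm
theorem F54285 : act 0 n33000 = n15971 := (sb E5822 (iv1 D33122))
theorem F54286 : act 1 n33000 = n15976 := (sb E5822 F52351)
theorem F54287 : act 4 n33000 = n29727 := (sb E5822 (iv4 F52352))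
theorem F54288 : act 5 n28171 = n29698 := d21_0 (iv1 F47736) (iv5 D29193) D29194 F47777 F54283 (iv5 F51731) (iv1 D32657) (iv5 D15521) (iv6 F26480) D28171
theorem F54289 : act 0 n29730 = n24302 := d21_1 D29730 (iv5 D24302) D24303 F54267 F27755 (iv5 F46147) (iv1 F51729) F51731 (iv6 F54283) (iv1 D29727)
theorem E5823 : n31916 = n23847 := ((c21_4 D31572 (iv1 F50328) (iv5 D23846) D23847 (iv1 D31916) F26911 D29730 F54289 (iv5 D24302) D24303 F54267)).symm
theorem F54290 : act 0 n23847 = n15053 := (sb E5823 (iv1 D31916))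
theorem F54291 : act 1 n23847 = n29695 := (sb E5823 F50221)
theorem F54292 : act 2 n23847 = n29702 := (sb E5823 (iv2 F54200))
theorem F54293 : act 7 n23847 = n29703 := (sb E5823 (iv7 F54203))
theorem E5824 : n23849 = n23843 := (c3_3 D23847 F54292 (iv6 F54180) F37179)
theorem F54294 : act 0 n23843 = n11177 := (sb E5824 (iv1 D23849))
theorem F54295 : act 1 n23843 = n11179 := (sb E5824 F37181)
theorem F54296 : act 3 n23843 = n13561 := (sb E5824 (iv3 F37182))
theorem F54297 : act 6 n23843 = n29702 := (sb E5824 F54180)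
theorem E5825 : n28400 = n23842 := (c14_5 D23843 F54297 (iv7 F54181) (iv6 D28428) (iv7 F45940) (iv6 D23842))
theorem E5826 : n13564 = n13554 := ((F50929).symm.trans (sb E5825 (iv3 D28400)))
theorem F54298 : act 7 n23842 = n13560 := (sb E5825 F45940)
theorem E5827 : n28398 = n6458 := ((D28398).symm.trans (sb E5826 (iv1 F22728)))
theorem E5828 : n28399 = n6456 := ((D28399).symm.trans (sb E5826 (iv0 D13564)))
theorem F54299 : act 3 n13554 = n23842 := (sb E5826 (iv3 F50929))
theorem E5830 : n28401 = n23839 := ((D28401).symm.trans (sb E5826 (iv4 F37178)))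
theorem E5831 : n28439 = n28402 := (((D28402).symm.trans (sb E5826 D28439))).symm
theorem E5833 : n13565 = n13559 := (((iv1 F22729)).symm.trans (sb E5827 (iv1 F45938)))
theorem F54300 : act 1 n6458 = n13554 := (sb E5827 (iv0 D28398))
theorem F54301 : act 0 n6456 = n13554 := (sb E5828 (iv1 D28399))
theorem F54302 : act 2 n23839 = n13556 := (sb E5830 F45941)
theorem F54303 : act 4 n23839 = n13554 := (sb E5830 (iv4 D28401))
theorem F54304 : act 6 n23839 = n13554 := (sb E5830 F50768)
theorem F54305 : act 7 n23839 = n13561 := (sb E5830 F45942)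
theorem F54306 : act 0 n28402 = n14997 := (sb E5831 F50944)
theorem F54307 : act 1 n28402 = n31555 := (sb E5831 F50945)
theorem F54308 : act 0 n13559 = n6456 := (sb E5833 (iv1 D13565))
theorem F54309 : act 1 n13559 = n6458 := (sb E5833 F22729)
theorem E5834 : n28408 = n25512 := (((iv3 F45950)).symm.trans (sb E5833 (iv3 F40344)))
theorem E5835 : n28442 = n28413 := ((((iv4 F45957)).symm.trans (sb E5833 D28442))).symm
theorem E5836 : n28443 = n28418 := ((((iv5 F45961)).symm.trans (sb E5833 D28443))).symm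
theorem E5837 : n28444 = n28423 := (((D28423).symm.trans (sb E5833 D28444))).symm
theorem F54310 : act 3 n25512 = n13559 := (sb E5834 F45950)
theorem F54311 : act 7 n25512 = n13555 := (sb E5834 (iv7 D28408))
theorem F54312 : act 0 n28413 = n32085 := (sb E5835 F50723)
theorem F54313 : act 1 n28413 = n15005 := (sb E5835 (iv0 F45974))
theorem F54314 : act 5 n28413 = n32400 := (sb E5835 (iv5 F54265))
theorem F54315 : act 0 n28418 = n31555 := (sb E5836 F51008)
theorem F54316 : act 1 n28418 = n14997 := (sb E5836 F51009)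
theorem F54317 : act 5 n28423 = n32555 := (sb E5837 (iv5 F54148))
theorem F54318 : act 2 n32555 = n28435 := d2_1 F54317 (iv5 D28435) (iv2 F45963)
theorem F54319 : act 7 n32556 = n28435 := d15_2 (iv0 D32555) D32556 (iv2 F54318)
theorem F54320 : act 5 n28430 = n32556 := d13_3 F54319 (iv5 D28435) (iv7 F51007)
theorem F54321 : act 5 n24393 = n29172 := d21_0 (iv1 D29172) (iv5 D13881) D13882 (iv1 F54175) (iv6 D28423) (iv5 F45961) F54315 (iv5 D31555) (iv6 F45535) (iv1 F50880)
theorem F54322 : act 2 n32400 = n28429 := d2_1 F54314 (iv5 D28429) (iv2 F45956)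
theorem F54323 : act 7 n32400 = n28411 := d13_2 D28413 F54314 (iv5 D28411)
theorem F54324 : act 7 n32401 = n28429 := d15_2 (iv0 D32400) D32401 (iv2 F54322)
theorem F54325 : act 2 n28411 = n32401 := d4_3 F54324 (iv2 F54322) F54323
theorem E5838 : n25515 = n25505 := (c11_2 F54311 (iv4 F40345) (iv7 F40341) D25512)
theorem F54326 : act 0 n25505 = n12130 := (sb E5838 (iv1 F40346))
theorem F54327 : act 1 n25505 = n12128 := (sb E5838 (iv0 D25515))
theorem F54328 : act 4 n25505 = n13555 := (sb E5838 F40345)
theorem E5839 : n28405 = n25507 := (c15_4 (iv0 F40342) (iv0 F45975) F54311 D28405)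
theorem F54329 : act 2 n25507 = n13555 := (sb E5839 (iv2 D28405))
theorem E5840 : n25516 = n25510 := (c15_2 F54327 D25516 (iv7 D25510) D25505)
theorem F54330 : act 0 n25510 = n12128 := (sb E5840 (iv1 D25516))
theorem F54331 : act 1 n25510 = n12130 := (sb E5840 F40347)
theorem E5841 : n31884 = n28425 := ((c15_4 F50273 (iv0 F50927) F54298 D28425)).symm
theorem F54332 : act 0 n28425 = n15007 := (sb E5841 (iv1 D31884))
theorem F54333 : act 1 n28425 = n31942 := (sb E5841 F50273)
theorem E5842 : n23848 = n23838 := (c15_2 F54295 F37180 (iv7 F37177) (iv2 F37179))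
theorem F54334 : act 0 n23838 = n11179 := (sb E5842 (iv1 F37180))
theorem F54335 : act 1 n23838 = n11177 := (sb E5842 (iv0 D23848))
theorem F54336 : act 5 n23838 = n31577 := (sb E5842 F50937)
theorem F54337 : act 2 n31577 = n23841 := d2_1 F54336 (iv5 D23841) D23838
theorem F54338 : act 7 n31577 = n23846 := d13_2 F37177 F54336 (iv5 D23846)
theorem F54339 : act 2 n23846 = n31576 := d15_3 (iv0 D31576) D31577 F54338
theorem F54340 : act 7 n23841 = n31576 := d4_2 (iv7 F54338) F54337 (iv2 F54339)
theorem F54341 : act 3 n31576 = n28429 := d8_1 F54340 (iv7 F54324) (iv3 F51451)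
theorem F54342 : act 5 n31576 = n23843 := d13_1 F54340 (iv7 D23843) D23841
theorem F54343 : act 5 n28172 = n29699 := d21_0 (iv1 D29699) (iv5 D14107) D14108 D29702 (iv6 F54297) (iv5 F54342) (iv1 F50166) F50164 (iv6 F45528) (iv1 F45546)
theorem F54344 : act 5 n24392 = n29197 := d21_0 (iv1 F47727) (iv5 D29694) D29695 (iv1 F54291) (iv6 D23847) D23846 F50327 F24635 (iv6 F22374) (iv1 F50885)
theorem F54345 : act 3 n29197 = n24394 := d6_1 F54344 (iv5 D24394) D24392
theorem F54346 : act 7 n29668 = n25662 := d15_2 (iv0 F54282) D29668 F40569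
theorem F54347 : act 2 n25679 = n29668 := d4_3 F54346 F40569 D25679
theorem F54348 : act 6 n25690 = n29668 := d14_5 F54346 (iv6 D25662) (iv7 F20197) D12203 D25690
theorem F54349 : act 5 n28164 = n29198 := d21_0 (iv1 D29198) (iv5 D13890) D13891 (iv1 F54047) (iv6 D28506) D28505 (iv1 F51723) (iv5 D32656) (iv6 F45543) (iv1 F45547)
theorem F54350 : act 6 n28164 = n16971 := d21_3 D29694 (iv1 F47726) (iv5 F54349) (iv1 D16971) (iv6 D7923) (iv5 F11678) F43060 (iv5 D11186) D11187 F54044
theorem F54351 : act 0 n16972 = n28427 := d21_1 D16972 (iv5 D28427) D28428 F54173 (iv6 D29695) D29694 (iv1 F47726) (iv5 F54349) F54350 (iv1 D16971)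
theorem F54352 : act 0 n32109 = n29224 := d20_10 F46880 (iv1 F46891) F41392 F41391 (iv1 F20640) (iv3 F23148) (iv4 F23544) (iv1 F54027) F50993 (iv3 F51056)
theorem F54353 : act 1 n32109 = n29224 := d15_1 (iv0 F54352) (iv7 F52343) F52340
theorem E5843 : n33120 = n32112 := (c20_1 (iv4 F52342) (iv1 F51062) (iv4 F51057) F51056 F54024 F23543 F10915 F4726 (iv4 F9133) (iv3 F20631) D26131)
theorem F54354 : act 2 n32112 = n29224 := (sb E5843 F52340)
theorem F54355 : act 3 n32112 = n15973 := (sb E5843 F52341)
theorem F54356 : act 4 n32112 = n26131 := (sb E5843 F52342)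
theorem F54357 : act 6 n32112 = n15970 := (sb E5843 (iv6 D33120))
theorem F54358 : act 7 n32112 = n29224 := (sb E5843 F52343)
theorem F54359 : act 0 n17019 = n16648 := d21_1 (iv5 F27876) (iv5 D16648) (iv6 D7740) D7735 D16635 (iv5 F50661) (iv1 F51030) F51028 F50748 F54024
theorem F54360 : act 4 n23975 = n26276 := d18_3 F54359 F54082 D23975 F41816 (iv4 F23544) (iv0 F54024) (iv4 F50993) F54027 (iv5 F27876)
theorem F54361 : act 7 n32594 = n23975 := d11_0 F54360 F41817 D32594
theorem F54362 : act 5 n16912 = n23975 := d19_1 D16912 F54360 (iv3 D26276) (iv1 D12484) (iv5 D5933) F3965 (iv3 F3956) D5922 (iv5 F26275) (iv4 D2709) F2339 D2116 F3444 F2639 (iv3 F2638) F2640 (iv5 F2748) D3577 D7892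
theorem F54363 : act 2 n33484 = n29659 := d1_3 (iv4 D29659) F54003 D33484
theorem F54364 : act 2 n33485 = n29660 := d3_3 (iv6 D29660) F54003 D33485
theorem F54365 : act 2 n32131 = n17019 := d2_3 F27876 F53999 D32131
theorem F54366 : act 3 n33428 = n26399 := d0_2 (iv3 F46818) F53996 (iv2 F47702) F47703 F23569
theorem F54367 : act 0 n24394 = n31707 := d17_2 (iv1 F38240) D24394 F50011 F26244 D29118 F53972 (iv5 D16614) F27099 (iv4 F38238)
def n34274 : Q := act 4 n16593
theorem D34274 : act 4 n16593 = n34274 := rfl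
theorem F54368 : act 7 n34274 = n31705 := d11_2 (iv7 F27076) D34274 (iv4 D31705)
def n34275 : Q := act 6 n16593
theorem D34275 : act 6 n16593 = n34275 := rfl
theorem F54370 : act 5 n34275 = n26107 := d12_1 D34275 (iv6 D26107) (iv5 D12372) (iv6 F11993) D16593
def n34276 : Q := act 0 n16594
theorem D34276 : act 0 n16594 = n34276 := rfl
def n34277 : Q := act 1 n16594
theorem D34277 : act 1 n16594 = n34277 := rfl
theorem F54371 : act 1 n34277 = n31824 := d15_1 D34277 (iv7 D31824) (iv2 F27077)
def n34278 : Q := act 7 n16594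
theorem D34278 : act 7 n16594 = n34278 := rfl
theorem F54372 : act 2 n34278 = n31824 := d4_1 D34278 (iv7 D31824) (iv2 F27077)
theorem F54373 : act 5 n34278 = n26110 := d13_1 D34278 (iv7 D26110) (iv5 F27078)
theorem F54374 : act 6 n34278 = n31711 := d14_1 D34278 (iv7 D31711) (iv6 D14907) (iv7 F11996) D16594
theorem F54375 : act 1 n31824 = n34276 := d15_0 (iv0 D34276) D34278 F54372
theorem F54376 : act 1 n31823 = n34278 := d15_1 D31823 (iv7 D34278) F27077
theorem F54377 : act 1 n34278 = n31822 := d15_0 (iv0 D31822) D31824 (iv2 F54372)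
def n34279 : Q := act 0 n16595
theorem D34279 : act 0 n16595 = n34279 := rfl
def n34280 : Q := act 1 n16595
theorem D34280 : act 1 n16595 = n34280 := rfl
theorem F54378 : act 1 n34280 = n31711 := d15_1 D34280 (iv7 D31711) (iv2 F27079)
def n34281 : Q := act 5 n16595
theorem D34281 : act 5 n16595 = n34281 := rfl
theorem F54379 : act 2 n34281 = n31685 := d2_1 D34281 F49964 (iv2 F27079)
theorem F54380 : act 3 n34281 = n28700 := d6_1 D34281 (iv5 F46695) F46694
theorem F54381 : act 6 n34281 = n16596 := d12_2 D16595 D34281 (iv5 D16596) (iv6 D7718) D7717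
def n34282 : Q := act 7 n16595
theorem D34282 : act 7 n16595 = n34282 := rfl
theorem F54382 : act 2 n34282 = n31711 := d4_1 D34282 (iv7 D31711) (iv2 F27079)
theorem F54383 : act 6 n34282 = n31824 := d14_1 D34282 (iv7 D31824) F24621 (iv7 F12010) D16595
theorem F54384 : act 1 n31711 = n34279 := d15_0 (iv0 D34279) D34282 F54382
theorem F54385 : act 1 n31710 = n34282 := d15_1 D31710 (iv7 D34282) F27079
theorem F54386 : act 1 n34282 = n31709 := d15_0 (iv0 D31709) D31711 (iv2 F54382)
def n34283 : Q := act 4 n16596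
theorem D34283 : act 4 n16596 = n34283 := rfl
theorem F54388 : act 5 n34283 = n31684 := d9_2 D16596 D34283 F49961 F24538 F11337 (iv5 D3236) (iv4 F5028) D7088 D14896 (iv5 F41213) (iv4 D26062) (iv5 D12354) F9078 (iv5 F5510) (iv4 F12012)
theorem F54391 : act 1 n34283 = n26371 := d18_6 F11593 (iv4 D7092) F5513 (iv4 F12012) D16596 D34283 (iv4 D26371) (iv0 F22690) (iv5 D13537)
def n34284 : Q := act 4 n16597
theorem D34284 : act 4 n16597 = n34284 := rfl
theorem F54392 : act 7 n34284 = n27000 := d11_2 (iv7 F50504) D34284 F43605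
def n34285 : Q := act 5 n16597
theorem D34285 : act 5 n16597 = n34285 := rfl
theorem F54393 : act 7 n34285 = n27003 := d13_2 (iv7 F50504) D34285 (iv5 D27003)
theorem F54394 : act 0 n16625 = n34285 := d21_1 (iv5 F27117) (iv5 D34285) F50503 (iv1 F43632) F50523 (iv5 F52354) (iv1 F52357) (iv5 D15977) (iv6 F50592) F50586
def n34286 : Q := act 4 n16599
theorem D34286 : act 4 n16599 = n34286 := rfl
theorem F54395 : act 2 n34286 = n16600 := d1_1 D34286 (iv4 D16600) D16599
theorem F54396 : act 0 n34286 = n25302 := d20_1 D34286 F39959 (iv3 D13444) (iv1 F10859) D14044 F23436 (iv1 F50436) (iv4 F24935) F24934 F50542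
theorem F54397 : act 0 n26986 = n34286 := d20_1 F45542 (iv4 D34286) F27085 (iv1 F23522) (iv3 F23442) (iv4 F45534) (iv1 F50880) (iv4 D24393) D24392 F50884
def n34287 : Q := act 5 n16599
theorem D34287 : act 5 n16599 = n34287 := rfl
theorem F54398 : act 2 n34287 = n16601 := d2_1 D34287 (iv5 D16601) D16599
theorem F54399 : act 3 n34287 = n29129 := d6_1 D34287 F46796 (iv3 F27085)
theorem F54400 : act 0 n34287 = n33130 := d21_1 D34287 (iv5 D33130) F50592 (iv1 D7477) (iv6 D3416) D3415 D7472 (iv5 F35185) D12929 F50542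
def n34288 : Q := act 0 n16600
theorem D34288 : act 0 n16600 = n34288 := rfl
theorem F54401 : act 3 n34288 = n29016 := d20_5 (iv4 D5216) D5214 D11294 (iv3 F27086) D34288 F46654 (iv1 F26825) D16603 F27090 (iv1 D11298)
theorem F54402 : act 4 n34288 = n28165 := d20_8 (iv4 D24393) (iv1 D11501) F8171 (iv3 D3508) D3506 D7719 D16600 D34288 (iv3 F45533) (iv1 F50880)
theorem F54403 : act 2 n25302 = n34288 := d15_3 (iv0 D34288) (iv0 F27761) (iv7 F39961)
theorem F54404 : act 7 n34288 = n26986 := d4_2 (iv7 F39961) F54403 F43565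
def n34289 : Q := act 5 n16600
theorem D34289 : act 5 n16600 = n34289 := rfl
theorem F54405 : act 3 n34289 = n24060 := d6_1 D34289 (iv5 D24060) (iv3 F27086)
def n34290 : Q := act 0 n16601
theorem D34290 : act 0 n16601 = n34290 := rfl
theorem F54406 : act 5 n34290 = n24286 := d21_2 D16601 D34290 F50580 (iv1 D15933) (iv6 D7467) D7466 (iv1 F27841) (iv5 D7937) D7938 F50509
theorem F54407 : act 2 n33130 = n34290 := d2_3 F54406 (iv2 F50588) D33130
def n34291 : Q := act 1 n16601
theorem D34291 : act 1 n16601 = n34291 := rfl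
theorem F54408 : act 7 n34291 = n33130 := d15_2 (iv0 D34290) D34291 F54407
theorem F54409 : act 5 n24287 = n34291 := d21_0 (iv1 D34291) (iv5 D16601) (iv6 F18135) D23834 F50468 (iv5 F42391) (iv1 D26491) (iv5 D12650) D12651 (iv1 F38071)
theorem F54410 : act 3 n34291 = n33043 := d6_1 F54409 (iv5 D33043) F50595
theorem F54411 : act 1 n34289 = n29696 := d17_6 (iv1 F38071) F54409 (iv1 D34291) (iv5 D16601) D16600 D34289 (iv5 D29696) (iv0 F42389) F42388
def n34292 : Q := act 4 n16601
theorem D34292 : act 4 n16601 = n34292 := rfl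
theorem F54412 : act 1 n34292 = n29700 := d18_6 (iv1 D28172) (iv4 F27760) F27761 (iv4 D16600) D16601 D34292 (iv4 D29700) D29699 (iv5 F54343)
def n34293 : Q := act 6 n16601
theorem D34293 : act 6 n16601 = n34293 := rfl
theorem F54413 : act 3 n34293 = n16602 := d7_1 D34293 (iv6 D16602) (iv3 F27087)
theorem F54414 : act 5 n34293 = n26230 := d12_1 D34293 (iv6 D26230) F20705 F18135 D16601
def n34294 : Q := act 0 n16602
theorem D34294 : act 0 n16602 = n34294 := rfl
def n34295 : Q := act 1 n16602
theorem D34295 : act 1 n16602 = n34295 := rfl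
theorem F54415 : act 1 n34295 = n32262 := d15_1 D34295 (iv7 D32262) (iv2 F27088)
def n34296 : Q := act 7 n16602
theorem D34296 : act 7 n16602 = n34296 := rfl
theorem F54416 : act 2 n34296 = n32262 := d4_1 D34296 (iv7 D32262) (iv2 F27088)
theorem F54417 : act 5 n34296 = n26233 := d13_1 D34296 (iv7 D26233) (iv5 F27089)
theorem F54418 : act 1 n32262 = n34294 := d15_0 (iv0 D34294) D34296 F54416
theorem F54420 : act 1 n34296 = n32260 := d15_0 (iv0 D32260) D32262 (iv2 F54416)
def n34297 : Q := act 0 n16603
theorem D34297 : act 0 n16603 = n34297 := rfl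
theorem F54421 : act 1 n29641 = n34297 := d15_0 (iv0 D34297) (iv7 F37552) (iv2 F47620)
def n34298 : Q := act 1 n16603
theorem D34298 : act 1 n16603 = n34298 := rfl
theorem F54422 : act 1 n34298 = n29641 := d15_1 D34298 F47622 F46700
theorem F54423 : act 4 n34272 = n34298 := d20_6 (iv4 D1548) D1546 D3502 D7712 D16591 D34272 (iv1 D34298) (iv4 D16603) (iv3 D7721) (iv1 D3507)
theorem F54424 : act 7 n34298 = n25547 := d11_2 (iv7 F53940) F54423 (iv4 F41872)
theorem E5844 : n34297 = n17387 := ((c15_4 (iv0 D34297) D34298 F54424 F40397)).symm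
theorem F54425 : act 0 n17387 = n29641 := (sb E5844 (iv1 F54421))
theorem F54426 : act 1 n17387 = n16603 := (sb E5844 (iv0 D34297))
def n34299 : Q := act 5 n16603
theorem D34299 : act 5 n16603 = n34299 := rfl
theorem F54427 : act 3 n34299 = n24066 := d6_1 D34299 (iv5 D24066) (iv3 F27090)
def n34300 : Q := act 6 n16603
theorem D34300 : act 6 n16603 = n34300 := rfl
theorem F54428 : act 3 n34300 = n24067 := d7_1 D34300 (iv6 D24067) (iv3 F27090)
theorem F54429 : act 4 n34300 = n16605 := d10_1 D34300 (iv6 D16605) D16603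
theorem F54430 : act 7 n34300 = n25458 := d14_2 F37552 D34300 (iv6 D25458) (iv7 F22705) (iv6 F37551)
def n34301 : Q := act 4 n16604
theorem D34301 : act 4 n16604 = n34301 := rfl
def n34302 : Q := act 6 n16604
theorem D34302 : act 6 n16604 = n34302 := rfl
theorem F54431 : act 3 n34302 = n16606 := d7_1 D34302 (iv6 D16606) (iv3 F27091)
def n34303 : Q := act 5 n16605
theorem D34303 : act 5 n16605 = n34303 := rfl
theorem F54432 : act 2 n34303 = n26605 := d2_1 D34303 (iv5 F46705) F46704
theorem F54433 : act 3 n34303 = n16607 := d6_1 D34303 (iv5 D16607) (iv3 F27092)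
theorem F54434 : act 7 n34303 = n26606 := d13_2 F37161 D34303 (iv5 F42604)
theorem F54435 : act 0 n34303 = n26218 := d21_1 D34303 (iv5 D26218) (iv6 D12435) (iv1 F26927) D26192 (iv5 F51676) (iv1 F51678) (iv5 F50671) (iv6 F52532) (iv1 F52534)
theorem F54436 : act 0 n26481 = n34303 := d21_1 D26481 (iv5 D34303) (iv6 D16605) F26824 F26505 D8159 F26755 (iv5 D7497) D7498 (iv1 F27017)
def n34304 : Q := act 0 n16606
theorem D34304 : act 0 n16606 = n34304 := rfl
def n34305 : Q := act 1 n16606
theorem D34305 : act 1 n16606 = n34305 := rfl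
def n34306 : Q := act 5 n16606
theorem D34306 : act 5 n16606 = n34306 := rfl
theorem F54437 : act 2 n34306 = n32978 := d2_1 D34306 F52155 F38089
theorem F54438 : act 6 n34306 = n16607 := d12_2 D16606 D34306 (iv5 D16607) (iv6 D7723) D7722
def n34307 : Q := act 7 n16606
theorem D34307 : act 7 n16606 = n34307 := rfl
theorem F54439 : act 6 n34307 = n32262 := d14_1 D34307 (iv7 D32262) F24824 F18703 D16606
def n34308 : Q := act 5 n16609
theorem D34308 : act 5 n16609 = n34308 := rfl
theorem F54440 : act 2 n34308 = n16610 := d2_1 D34308 (iv5 D16610) D16609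
theorem F54441 : act 6 n34308 = n32170 := d12_2 (iv6 F50819) D34308 (iv5 D32170) (iv6 D15185) F50818
theorem F54442 : act 7 n34308 = n16614 := d13_2 F27100 D34308 (iv5 D16614)
theorem F54443 : act 1 n34308 = n33393 := d17_6 (iv1 F53982) D14089 (iv1 F54038) (iv5 D29101) (iv4 F49988) D34308 (iv5 D33393) (iv0 D16123) (iv4 F11818)
theorem F54444 : act 0 n34308 = n29153 := d21_1 D34308 (iv5 D29153) (iv6 D13875) F53962 (iv6 D3436) D3435 D7538 (iv5 F25728) (iv6 F12018) (iv1 F49987)
def n34309 : Q := act 4 n16610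
theorem D34309 : act 4 n16610 = n34309 := rfl
theorem F54445 : act 0 n34309 = n29720 := d18_2 F53971 D34309 (iv4 D29720) (iv5 D14113) F10936 D13872 (iv4 F53966) F53965 D29118
def n34310 : Q := act 6 n16610
theorem D34310 : act 6 n16610 = n34310 := rfl
theorem F54446 : act 2 n34310 = n32170 := d3_1 D34310 (iv6 F54441) F54440
theorem F54447 : act 5 n34310 = n32141 := d12_1 D34310 (iv6 D32141) (iv5 F27101) (iv6 D16611) D16610
def n34311 : Q := act 7 n16610
theorem D34311 : act 7 n16610 = n34311 := rfl
theorem F54448 : act 2 n34311 = n16614 := d4_1 D34311 (iv7 F54442) F54440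
theorem F54449 : act 3 n34311 = n29148 := d8_1 D34311 F54009 F46751
theorem F54450 : act 5 n34311 = n16612 := d13_1 D34311 (iv7 D16612) D16610
theorem F54451 : act 1 n33393 = n34311 := d15_1 F54443 (iv7 D34311) (iv2 F54440)
theorem F54452 : act 1 n34311 = n29153 := d15_1 F54451 F46819 F53973
def n34312 : Q := act 6 n16612
theorem D34312 : act 6 n16612 = n34312 := rfl
theorem F54453 : act 2 n34312 = n16615 := d3_1 D34312 (iv6 D16615) (iv2 F27102)
theorem F54454 : act 3 n34312 = n29573 := d7_1 D34312 (iv6 D29573) (iv3 F49994)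
theorem F54455 : act 4 n34312 = n29106 := d10_1 D34312 (iv6 D29106) (iv4 F49995)
theorem F54456 : act 7 n34312 = n31531 := d14_2 D16612 D34312 (iv6 D31531) F50820 (iv6 D16611)
theorem F54457 : act 5 n34312 = n32972 := d21_6 (iv5 F51028) (iv1 F51029) F50367 (iv6 D16624) (iv1 F49993) D34312 (iv1 F52145) (iv5 D16215) (iv6 F50797) F26977
theorem F54458 : act 0 n34312 = n31691 := d21_10 (iv5 F52573) F54204 F25766 F53968 (iv1 D13872) D13875 D29153 (iv1 F54452) F54450 D34312
theorem F54459 : act 0 n26063 = n34312 := d21_4 (iv5 F51079) (iv1 F54197) (iv5 D26284) (iv6 F41217) (iv6 D34312) (iv5 F54450) (iv1 F54451) (iv5 D33393) (iv6 F53994) (iv1 F54025)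
def n34313 : Q := act 5 n16613
theorem D34313 : act 5 n16613 = n34313 := rfl
theorem F54460 : act 3 n34313 = n16614 := d6_1 D34313 (iv5 D16614) D16613
theorem F54461 : act 0 n34313 = n33119 := d17_2 F50487 D34313 (iv5 D33119) F50573 D29212 F50564 (iv5 D14905) F50481 (iv4 F49924)
def n34314 : Q := act 6 n16613
theorem D34314 : act 6 n16613 = n34314 := rfl
theorem F54462 : act 3 n34314 = n16615 := d7_1 D34314 (iv6 D16615) D16613
def n34315 : Q := act 4 n16614
theorem D34315 : act 4 n16614 = n34315 := rfl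
theorem F54463 : act 1 n34315 = n29720 := d18_6 F45548 F22377 D14048 F26821 D16614 D34315 (iv4 D29720) D29719 (iv5 F54222)
def n34316 : Q := act 6 n16614
theorem D34316 : act 6 n16614 = n34316 := rfl
def n34317 : Q := act 5 n16615
theorem D34317 : act 5 n16615 = n34317 := rfl
theorem F54464 : act 2 n34317 = n32972 := d2_1 D34317 (iv5 F54457) F54453
theorem F54465 : act 1 n34317 = n32971 := d17_6 (iv1 D7584) D7585 D16306 (iv5 F50773) F47459 D34317 (iv5 D32971) F50781 F50778
theorem F54466 : act 0 n34317 = n26374 := d21_1 D34317 (iv5 D26374) (iv6 F26808) (iv1 F24759) D15163 D32116 (iv1 F51076) (iv5 F51077) (iv6 F52857) F52859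
theorem F54467 : act 7 n32973 = n34317 := d15_2 (iv0 D32972) D32973 F54464
def n34318 : Q := act 7 n16615
theorem D34318 : act 7 n16615 = n34318 := rfl
theorem F54468 : act 2 n34318 = n31531 := d4_1 D34318 (iv7 F54456) F54453
theorem F54469 : act 5 n34318 = n32973 := d13_1 D34318 F54467 (iv5 D34317)
theorem F54470 : act 6 n34318 = n26047 := d14_1 D34318 F50958 (iv6 F50819) (iv7 F27100) D16615
theorem F54471 : act 1 n26063 = n34318 := d15_1 (iv0 F54459) (iv7 D34318) (iv2 F54453)
theorem F54472 : act 1 n34318 = n31691 := d15_1 F54471 F54114 F54111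
def n34319 : Q := act 4 n16618
theorem D34319 : act 4 n16618 = n34319 := rfl
theorem F54473 : act 2 n34319 = n16621 := d1_1 D34319 (iv4 D16621) (iv2 F27109)
def n34320 : Q := act 3 n16620
theorem D34320 : act 3 n16620 = n34320 := rfl
theorem F54474 : act 5 n34320 = n29221 := d6_2 F50805 D34320 (iv3 F53969)
theorem F54475 : act 7 n34320 = n33411 := d8_2 (iv7 F50804) D34320 F52670
def n34321 : Q := act 4 n16620
theorem D34321 : act 4 n16620 = n34321 := rfl
theorem F54476 : act 7 n34321 = n33429 := d11_2 (iv7 F50804) D34321 (iv4 D33429)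
theorem F54477 : act 1 n34321 = n29272 := d18_6 F54029 (iv4 F10910) (iv1 F53986) (iv4 F25686) F50805 D34321 (iv4 D29272) (iv0 F50846) (iv5 D28511)
def n34322 : Q := act 6 n16620
theorem D34322 : act 6 n16620 = n34322 := rfl
def n34323 : Q := act 1 n16621
theorem D34323 : act 1 n16621 = n34323 := rfl
theorem F54478 : act 4 n34323 = n29714 := d18_7 (iv1 F50880) (iv4 D24393) (iv1 D11501) F8171 D7727 D16621 D34323 F54040 F50876
def n34324 : Q := act 3 n16621
theorem D34324 : act 3 n16621 = n34324 := rfl
theorem F54479 : act 4 n34324 = n16629 := d5_2 D16621 D34324 (iv3 D16629) (iv4 D7731) (iv3 F12019)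
theorem F54480 : act 7 n30650 = n34324 := d11_0 F54479 F27130 D30650
def n34325 : Q := act 5 n16621
theorem D34325 : act 5 n16621 = n34325 := rfl
def n34326 : Q := act 6 n16621
theorem D34326 : act 6 n16621 = n34326 := rfl
theorem F54481 : act 4 n34326 = n16622 := d10_1 D34326 (iv6 D16622) D16621
def n34327 : Q := act 7 n16621
theorem D34327 : act 7 n16621 = n34327 := rfl
theorem F54482 : act 3 n34327 = n30650 := d8_1 D34327 F54480 (iv3 D34324)
theorem F54483 : act 4 n34327 = n16623 := d11_1 D34327 (iv7 D16623) D16621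
def n34328 : Q := act 0 n16622
theorem D34328 : act 0 n16622 = n34328 := rfl
def n34329 : Q := act 1 n16622
theorem D34329 : act 1 n16622 = n34329 := rfl
theorem F54484 : act 5 n33579 = n34329 := d21_6 F11779 F11798 D3444 D7565 D16224 D33579 (iv1 D34329) F27111 (iv6 D7752) F25746
def n34330 : Q := act 7 n16622
theorem D34330 : act 7 n16622 = n34330 := rfl
theorem F54485 : act 3 n34330 = n16633 := d8_1 D34330 (iv7 D16633) (iv3 F27110)
theorem F54486 : act 5 n34330 = n16663 := d13_1 D34330 (iv7 D16663) (iv5 F27111)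
theorem F54487 : act 1 n33725 = n34330 := d15_1 (iv0 F52977) (iv7 D34330) (iv2 F52718)
def n34331 : Q := act 6 n16623
theorem D34331 : act 6 n16623 = n34331 := rfl
theorem F54488 : act 3 n34331 = n16634 := d7_1 D34331 (iv6 D16634) (iv3 F27112)
def n34332 : Q := act 4 n16625
theorem D34332 : act 4 n16625 = n34332 := rfl
theorem F54489 : act 1 n34332 = n29280 := d18_6 (iv1 D13887) D13889 F37052 F37051 (iv5 F27117) D34332 (iv4 D29280) (iv0 F54216) (iv5 D29190)
def n34333 : Q := act 6 n16625
theorem D34333 : act 6 n16625 = n34333 := rfl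
theorem F54490 : act 3 n34333 = n16626 := d7_1 D34333 (iv6 D16626) D16625
def n34334 : Q := act 0 n16626
theorem D34334 : act 0 n16626 = n34334 := rfl
theorem F54491 : act 6 n34334 = n32258 := d21_5 (iv5 D13877) (iv1 F10698) (iv5 F12021) D16626 D34334 (iv5 D32258) (iv1 D15214) D15215 F24824 (iv1 F23146)
def n34335 : Q := act 1 n16626
theorem D34335 : act 1 n16626 = n34335 := rfl
def n34336 : Q := act 5 n16626
theorem D34336 : act 5 n16626 = n34336 := rfl
theorem F54492 : act 2 n34336 = n32726 := d2_1 D34336 F51807 F38066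
theorem F54493 : act 6 n34336 = n24384 := d12_2 D16626 D34336 (iv5 D24384) (iv6 D11498) (iv5 F12021)
theorem F54494 : act 0 n34336 = n33866 := d21_4 (iv5 F20806) F20807 D24384 (iv6 F54493) (iv6 D33866) (iv5 D16371) (iv1 D7601) D7602 F11834 D8171
def n34337 : Q := act 7 n16626
theorem D34337 : act 7 n16626 = n34337 := rfl
def n34338 : Q := act 4 n16627
theorem D34338 : act 4 n16627 = n34338 := rfl
def n34339 : Q := act 6 n16627
theorem D34339 : act 6 n16627 = n34339 := rfl
theorem F54495 : act 3 n34339 = n16628 := d7_1 D34339 (iv6 D16628) D16627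
def n34340 : Q := act 0 n16628
theorem D34340 : act 0 n16628 = n34340 := rfl
def n34341 : Q := act 1 n16628
theorem D34341 : act 1 n16628 = n34341 := rfl
def n34342 : Q := act 7 n16628
theorem D34342 : act 7 n16628 = n34342 := rfl
def n34343 : Q := act 0 n16629
theorem D34343 : act 0 n16629 = n34343 := rfl
theorem F54496 : act 1 n30647 = n34343 := d15_0 (iv0 D34343) F27130 (iv2 F49102)
def n34344 : Q := act 1 n16629
theorem D34344 : act 1 n16629 = n34344 := rfl
def n34345 : Q := act 2 n16629
theorem D34345 : act 2 n16629 = n34345 := rfl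
theorem F54497 : act 5 n34345 = n30634 := d2_2 (iv5 F27129) D34345 (iv2 F49095)
theorem F54498 : act 7 n34345 = n30647 := d4_2 (iv7 F27130) D34345 F49102
theorem F54499 : act 1 n34345 = n30648 := d15_0 (iv0 D30648) (iv7 F27130) D34345
theorem F54500 : act 1 n34344 = n30647 := d15_1 D34344 (iv7 F54498) (iv2 D34345)
theorem F54501 : act 1 n30649 = n34345 := d15_1 D30649 F54498 F49102
def n34346 : Q := act 6 n16629
theorem D34346 : act 6 n16629 = n34346 := rfl
theorem F54502 : act 3 n34346 = n16630 := d7_1 D34346 (iv6 D16630) D16629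
def n34347 : Q := act 0 n16630
theorem D34347 : act 0 n16630 = n34347 := rfl
def n34348 : Q := act 1 n16630
theorem D34348 : act 1 n16630 = n34348 := rfl
theorem F54503 : act 4 n34348 = n24320 := d18_7 (iv1 F25188) F43174 (iv1 D7984) F5649 (iv5 F12032) (iv4 F27131) D34348 F38272 F38270
def n34349 : Q := act 5 n16630
theorem D34349 : act 5 n16630 = n34349 := rfl
theorem F54504 : act 6 n34349 = n30658 := d12_2 D16630 D34349 (iv5 D30658) (iv6 D14531) (iv5 F12030)
def n34350 : Q := act 7 n16630
theorem D34350 : act 7 n16630 = n34350 := rfl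
theorem F54505 : act 4 n34350 = n16633 := d11_1 D34350 (iv7 D16633) (iv4 F27131)
theorem F54506 : act 6 n34350 = n30657 := d14_1 D34350 (iv7 D30657) (iv6 D14530) F12031 D16630
def n34351 : Q := act 3 n16631
theorem D34351 : act 3 n16631 = n34351 := rfl
theorem F54507 : act 5 n34351 = n33904 := d6_2 (iv5 F53043) D34351 F53250
theorem F54508 : act 7 n34351 = n33903 := d8_2 (iv7 F53097) D34351 F53249
def n34352 : Q := act 4 n16631
theorem D34352 : act 4 n16631 = n34352 := rfl
theorem F54509 : act 7 n34352 = n33929 := d11_2 (iv7 F53097) D34352 (iv4 D33929)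
theorem F54510 : act 1 n34352 = n24407 := d18_6 F51919 F41951 D26946 F53042 (iv5 F53043) D34352 F38265 D24409 (iv5 F38267)
def n34353 : Q := act 6 n16631
theorem D34353 : act 6 n16631 = n34353 := rfl
theorem F54511 : act 5 n34353 = n29680 := d12_1 D34353 (iv6 F53039) (iv5 F53066) F53067 (iv5 F53043)
def n34354 : Q := act 3 n16632
theorem D34354 : act 3 n16632 = n34354 := rfl
theorem F54512 : act 5 n34354 = n26658 := d6_2 F27132 D34354 F42721
def n34355 : Q := act 4 n16632
theorem D34355 : act 4 n16632 = n34355 := rfl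
theorem F54513 : act 2 n34355 = n33929 := d1_1 D34355 (iv4 D33929) (iv2 F53096)
theorem F54514 : act 0 n34355 = n24407 := d18_2 (iv1 F42841) D34355 F38265 F18821 F11677 D8004 (iv4 F28975) F21234 (iv5 F42839)
def n34356 : Q := act 6 n16632
theorem D34356 : act 6 n16632 = n34356 := rfl
theorem F54515 : act 2 n34356 = n33925 := d3_1 D34356 F53278 (iv2 F53096)
theorem F54516 : act 5 n34356 = n26663 := d12_1 D34356 (iv6 D26663) (iv5 D12737) D12738 F27132
def n34357 : Q := act 6 n16633
theorem D34357 : act 6 n16633 = n34357 := rfl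
theorem F54517 : act 4 n34357 = n30657 := d10_1 D34357 (iv6 F54506) F54505
theorem F54518 : act 7 n34357 = n16634 := d14_2 D16633 D34357 (iv6 D16634) (iv7 D7733) D7732
def n34358 : Q := act 0 n16634
theorem D34358 : act 0 n16634 = n34358 := rfl
def n34359 : Q := act 1 n16634
theorem D34359 : act 1 n16634 = n34359 := rfl
def n34360 : Q := act 5 n16640
theorem D34360 : act 5 n16640 = n34360 := rfl
theorem F54519 : act 2 n34360 = n16648 := d2_1 D34360 (iv5 D16648) (iv2 F27145)
theorem F54520 : act 6 n34360 = n27771 := d12_2 D16640 D34360 (iv5 D27771) (iv6 D13257) F27160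
theorem F54521 : act 7 n34360 = n32638 := d13_2 (iv7 F54079) D34360 (iv5 D32638)
theorem F54522 : act 4 n34360 = n23974 := d17_4 (iv1 F54198) (iv5 D32640) (iv1 F54086) D34360 (iv5 D23974) (iv0 F37297) (iv5 F51621) (iv0 F54194) (iv4 F54192)
theorem E5845 : n32592 = n32383 := (c18_9 F54127 (iv4 F20798) (iv1 F54081) (iv4 F27187) D34360 F54522 F51664 (iv4 D32594) D32592 (iv5 D32383))
theorem F54523 : act 0 n32383 = n15429 := (sb E5845 (iv1 D32592))
theorem F54524 : act 0 n34360 = n26862 := d21_1 D34360 F43300 F24687 (iv1 F53965) F50789 D16299 (iv1 F54094) (iv5 F52529) (iv6 D32641) (iv1 F54086)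
theorem F54525 : act 0 n32131 = n34360 := d21_1 D32131 (iv5 D34360) (iv6 D16640) (iv1 F27157) D7753 D16666 (iv1 F50989) (iv5 D15162) D15163 F50990
def n34361 : Q := act 5 n16642
theorem D34361 : act 5 n16642 = n34361 := rfl
theorem F54526 : act 2 n34361 = n32638 := d2_1 D34361 (iv5 D32638) (iv2 F54083)
theorem F54527 : act 3 n34361 = n16648 := d6_1 D34361 (iv5 D16648) (iv3 F27148)
theorem F54528 : act 6 n34361 = n33591 := d12_2 D16642 D34361 (iv5 D33591) (iv6 D16238) (iv5 F25817)
theorem F54529 : act 7 n34361 = n16648 := d13_2 (iv7 F51012) D34361 (iv5 D16648)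
theorem F54530 : act 4 n34361 = n23979 := d16_4 (iv4 F54522) (iv5 D34360) F27187 D34361 F37458 F18269 (iv5 F37458) (iv7 D23979) (iv2 F37453)
theorem F54531 : act 1 n34361 = n26862 := d17_6 F50990 D32131 F54525 (iv5 D34360) F27187 D34361 F43300 (iv0 F53998) (iv4 F24769)
theorem F54532 : act 0 n34361 = n32131 := d21_1 D34361 (iv5 D32131) F50988 F53963 (iv6 F53968) (iv5 F25766) (iv1 F54120) F42359 F41217 (iv1 F54081)
def n34362 : Q := act 0 n16648
theorem D34362 : act 0 n16648 = n34362 := rfl
theorem F54533 : act 5 n34362 = n31922 := d21_2 D16648 D34362 F53994 (iv1 F25689) (iv6 F50806) D32212 (iv1 F54207) (iv5 D32648) (iv6 D15456) (iv1 F54072)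
theorem F54534 : act 2 n26862 = n34362 := d15_3 (iv0 D34362) (iv0 F54359) (iv7 F43301)
theorem F54535 : act 1 n32638 = n34362 := d15_0 (iv0 D34362) (iv7 F54529) F54526
theorem F54536 : act 7 n34362 = n32131 := d15_2 (iv0 F54211) F54535 F54365
theorem F54537 : act 3 n34362 = n26859 := d0_2 D26862 F54534 F43293 (iv3 D17017) F21305
def n34363 : Q := act 3 n16657
theorem D34363 : act 3 n16657 = n34363 := rfl
def n34364 : Q := act 6 n16657
theorem D34364 : act 6 n16657 = n34364 := rfl
def n34365 : Q := act 3 n16658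
theorem D34365 : act 3 n16658 = n34365 := rfl
def n34366 : Q := act 6 n16658
theorem D34366 : act 6 n16658 = n34366 := rfl
def n34367 : Q := act 4 n16659
theorem D34367 : act 4 n16659 = n34367 := rfl
theorem F54538 : act 2 n34367 = n32387 := d1_1 D34367 (iv4 F52712) F52711
theorem F54539 : act 5 n34367 = n32384 := d9_2 D16659 D34367 (iv4 D32384) (iv5 D15287) (iv4 F12044) (iv5 F21274) (iv4 F43040) (iv5 F52932) F52933 (iv5 D32788) (iv4 D15696) F11674 F5440 D3515 D7751
theorem F54540 : act 0 n34367 = n28636 := d17_0 (iv5 D28636) (iv1 D13654) D13655 (iv4 F44440) (iv5 D27544) F21945 D16271 (iv0 F43058) D34367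
theorem F54541 : act 1 n34367 = n28633 := d18_6 F51751 (iv4 D16111) F25747 D7751 D16659 D34367 F46198 F52893 F52892
def n34368 : Q := act 6 n16659
theorem D34368 : act 6 n16659 = n34368 := rfl
def n34369 : Q := act 0 n16660
theorem D34369 : act 0 n16660 = n34369 := rfl
def n34370 : Q := act 1 n16660
theorem D34370 : act 1 n16660 = n34370 := rfl
def n34371 : Q := act 5 n16660
theorem D34371 : act 5 n16660 = n34371 := rfl
def n34372 : Q := act 7 n16660
theorem D34372 : act 7 n16660 = n34372 := rfl
theorem F54542 : act 4 n34372 = n16663 := d11_1 D34372 (iv7 D16663) (iv4 F27292)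
def n34373 : Q := act 2 n16661
theorem D34373 : act 2 n16661 = n34373 := rfl
theorem F54543 : act 7 n16662 = n34373 := d15_2 (iv0 D16661) D16662 (iv2 D34373)
def n34374 : Q := act 3 n16661
theorem D34374 : act 3 n16661 = n34374 := rfl
def n34375 : Q := act 4 n16661
theorem D34375 : act 4 n16661 = n34375 := rfl
def n34376 : Q := act 5 n16661
theorem D34376 : act 5 n16661 = n34376 := rfl
def n34377 : Q := act 6 n16661
theorem D34377 : act 6 n16661 = n34377 := rfl
def n34378 : Q := act 7 n16661
theorem D34378 : act 7 n16661 = n34378 := rfl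
theorem F54544 : act 2 n34378 = n16662 := d4_1 D34378 F54543 (iv2 D34373)
def n34379 : Q := act 3 n16662
theorem D34379 : act 3 n16662 = n34379 := rfl
def n34380 : Q := act 4 n16662
theorem D34380 : act 4 n16662 = n34380 := rfl
def n34381 : Q := act 5 n16662
theorem D34381 : act 5 n16662 = n34381 := rfl
def n34382 : Q := act 6 n16662
theorem D34382 : act 6 n16662 = n34382 := rfl
def n34383 : Q := act 6 n16664
theorem D34383 : act 6 n16664 = n34383 := rfl
theorem F54545 : act 2 n34383 = n32647 := d3_1 D34383 F54101 (iv2 F50961)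
theorem F54546 : act 3 n34383 = n31531 := d7_1 D34383 (iv6 D31531) F41171
theorem F54547 : act 4 n34383 = n34318 := d10_1 D34383 F54470 (iv4 F41170)
theorem F54548 : act 7 n34383 = n29573 := d14_2 F50960 D34383 (iv6 D29573) F49991 D29102
theorem F54549 : act 0 n34383 = n32641 := d21_4 D31893 (iv1 F50955) (iv5 F50823) D34383 (iv6 D32641) D32640 (iv1 F54196) F51079 (iv6 F50748) (iv1 F26798)
theorem F54550 : act 5 n34383 = n32213 := d21_6 D3440 F25724 F9420 D7753 D16664 D34383 (iv1 F51157) (iv5 D16106) (iv6 D7519) (iv1 F5419)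
theorem F54551 : act 0 n31692 = n34383 := d21_4 D7560 F54107 F25602 D31692 (iv6 D34383) F50823 F50954 (iv5 D32012) F50797 (iv1 D7559)
def n34384 : Q := act 5 n16665
theorem D34384 : act 5 n16665 = n34384 := rfl
theorem F54552 : act 2 n34384 = n32139 := d2_1 D34384 F51089 (iv2 F50813)
theorem F54553 : act 3 n34384 = n32162 := d6_1 D34384 F51125 (iv3 F49917)
theorem F54554 : act 7 n34384 = n32150 := d13_2 (iv7 F50962) D34384 F51109
theorem F54555 : act 1 n34384 = n32012 := d17_6 (iv1 F24778) (iv5 F11529) (iv1 F24803) (iv5 F27101) (iv4 F50814) D34384 (iv5 D32012) F26978 F24780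
theorem F54556 : act 0 n34384 = n31893 := d21_1 D34384 (iv5 D31893) F26811 (iv1 D7527) D7530 D16125 D33400 F52637 (iv6 F45907) (iv1 F45909)
def n34385 : Q := act 4 n16666
theorem D34385 : act 4 n16666 = n34385 := rfl
def n34386 : Q := act 0 n16668
theorem D34386 : act 0 n16668 = n34386 := rfl
def n34387 : Q := act 1 n16668
theorem D34387 : act 1 n16668 = n34387 := rfl
def n34388 : Q := act 2 n16668
theorem D34388 : act 2 n16668 = n34388 := rfl
def n34389 : Q := act 4 n16668
theorem D34389 : act 4 n16668 = n34389 := rfl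
def n34390 : Q := act 5 n16668
theorem D34390 : act 5 n16668 = n34390 := rfl
theorem F54557 : act 3 n34390 = n16670 := d6_1 D34390 (iv5 D16670) D16668
def n34391 : Q := act 6 n16668
theorem D34391 : act 6 n16668 = n34391 := rfl
theorem F54558 : act 3 n34391 = n16671 := d7_1 D34391 (iv6 D16671) D16668
theorem F54559 : act 5 n18707 = n34391 := d6_0 F54558 F27296 D18707
def n34392 : Q := act 4 n16670
theorem D34392 : act 4 n16670 = n34392 := rfl
def n34393 : Q := act 6 n16670
theorem D34393 : act 6 n16670 = n34393 := rfl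
theorem F54560 : act 5 n34393 = n18709 := d12_1 D34393 (iv6 D18709) (iv5 F27296) (iv6 D16671) D16670
def n34394 : Q := act 0 n16673
theorem D34394 : act 0 n16673 = n34394 := rfl
def n34395 : Q := act 1 n16673
theorem D34395 : act 1 n16673 = n34395 := rfl
def n34396 : Q := act 2 n16673
theorem D34396 : act 2 n16673 = n34396 := rfl
def n34397 : Q := act 4 n16673
theorem D34397 : act 4 n16673 = n34397 := rfl
def n34398 : Q := act 5 n16673
theorem D34398 : act 5 n16673 = n34398 := rfl
theorem F54561 : act 3 n34398 = n16675 := d6_1 D34398 (iv5 D16675) D16673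
def n34399 : Q := act 6 n16673
theorem D34399 : act 6 n16673 = n34399 := rfl
theorem F54562 : act 3 n34399 = n16676 := d7_1 D34399 (iv6 D16676) D16673
def n34400 : Q := act 4 n16675
theorem D34400 : act 4 n16675 = n34400 := rfl
def n34401 : Q := act 6 n16675
theorem D34401 : act 6 n16675 = n34401 := rfl
theorem F54563 : act 0 n29648 = n34401 := d21_4 F12021 (iv1 F10909) D14085 D29648 (iv6 D34401) (iv5 D16675) (iv1 D7755) (iv5 F12032) (iv6 D7732) D7729
def n34402 : Q := act 5 n16677
theorem D34402 : act 5 n16677 = n34402 := rfl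
theorem F54564 : act 2 n34402 = n26203 := d2_1 D34402 (iv5 F50654) (iv2 F50652)
theorem F54565 : act 3 n34402 = n16678 := d6_1 D34402 (iv5 D16678) D16677
theorem F54566 : act 7 n34402 = n32371 := d13_2 (iv7 F27298) D34402 (iv5 D32371)
theorem F54567 : act 0 n34402 = n31972 := d21_1 D34402 (iv5 D31972) (iv6 F42260) (iv1 D26437) (iv6 D12618) D12617 (iv1 F21008) (iv5 F35189) D12934 (iv1 F50525)
def n34403 : Q := act 6 n16677
theorem D34403 : act 6 n16677 = n34403 := rfl
theorem F54568 : act 3 n34403 = n16679 := d7_1 D34403 (iv6 D16679) D16677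
theorem F54569 : act 7 n34403 = n28707 := d14_2 (iv7 F27298) D34403 F46285 F23439 (iv6 F24858)
theorem F54570 : act 5 n34403 = n33015 := d21_6 D12617 (iv1 F21008) (iv5 F35189) D12934 (iv1 F50525) D34403 (iv1 D33015) (iv5 D15911) (iv6 D7459) (iv1 F9310)
theorem E5846 : n33015 = n26690 := (c6_1 F54570 (iv3 D26690) (iv5 F27307) (iv3 F54568))
theorem F54571 : act 0 n26690 = n15911 := (sb E5846 (iv1 D33015))
theorem F54572 : act 5 n26690 = n34403 := (sb E5846 (iv5 F54570))
theorem E5847 : n33987 = n33014 := (c15_4 (iv0 D33014) (iv0 F54571) F42777 D33987)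
theorem F54573 : act 2 n33014 = n16439 := (sb E5847 (iv2 D33987))
def n34404 : Q := act 4 n16678
theorem D34404 : act 4 n16678 = n34404 := rfl
theorem F54574 : act 2 n34404 = n32004 := d1_1 D34404 F50371 (iv2 F27299)
theorem F54575 : act 7 n34404 = n32372 := d11_2 (iv7 F27300) D34404 (iv4 D32372)
theorem F54576 : act 5 n34404 = n26151 := d16_1 D34404 (iv4 D26151) (iv5 D12405) F9148 F9433 (iv4 F12558) D16681 F27316 (iv2 F27299)
def n34405 : Q := act 6 n16678
theorem D34405 : act 6 n16678 = n34405 := rfl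
theorem F54577 : act 2 n34405 = n32369 := d3_1 D34405 (iv6 D32369) (iv2 F27299)
theorem F54578 : act 5 n34405 = n26692 := d12_1 D34405 (iv6 D26692) (iv5 F27307) (iv6 D16679) D16678
def n34406 : Q := act 4 n16680
theorem D34406 : act 4 n16680 = n34406 := rfl
theorem F54579 : act 2 n34406 = n31521 := d1_1 D34406 (iv4 D31521) (iv2 F27313)
theorem F54580 : act 3 n34406 = n16960 := d5_1 D34406 (iv4 D16960) F12522 (iv4 F12558) D16680
theorem F54581 : act 6 n34406 = n29570 := d10_2 (iv6 F27309) D34406 (iv4 D29570)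
theorem F54582 : act 7 n34406 = n31522 := d11_2 (iv7 F27310) D34406 (iv4 D31522)
def n34407 : Q := act 4 n16681
theorem D34407 : act 4 n16681 = n34407 := rfl
theorem F54583 : act 2 n34407 = n32372 := d1_1 D34407 (iv4 D32372) (iv2 F27315)
theorem F54584 : act 5 n34407 = n32005 := d9_2 D16681 D34407 F50374 F24715 F11509 F10516 F12562 D16678 D34404 F54576 (iv4 D26151) (iv5 D12405) F9148 F9433 (iv4 F12558)
theorem F54585 : act 7 n34407 = n32004 := d11_2 (iv7 F27316) D34407 F50371
def n34408 : Q := act 6 n16681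
theorem D34408 : act 6 n16681 = n34408 := rfl
theorem F54586 : act 2 n34408 = n32373 := d3_1 D34408 (iv6 D32373) (iv2 F27315)
theorem F54587 : act 3 n34408 = n26207 := d7_1 D34408 (iv6 D26207) (iv3 F41536)
theorem F54588 : act 5 n34408 = n29133 := d12_1 D34408 (iv6 D29133) F23133 F12560 D16681
def n34409 : Q := act 3 n16682
theorem D34409 : act 3 n16682 = n34409 := rfl
def n34410 : Q := act 4 n16683
theorem D34410 : act 4 n16683 = n34410 := rfl
theorem F54589 : act 2 n34410 = n26055 := d1_1 D34410 (iv4 D26055) (iv2 F27320)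
theorem F54590 : act 5 n34410 = n26113 := d9_2 D16683 D34410 (iv4 D26113) (iv5 D12381) F26453 F5532 (iv4 F26570) D7126 D14968 D31807 F50111 F24643 F11458 F5538 D7760
theorem F54591 : act 7 n34410 = n31797 := d11_2 (iv7 F27322) D34410 (iv4 D31797)
theorem F54592 : act 0 n34410 = n31806 := d18_2 (iv1 F27324) D34410 F50108 (iv5 D15016) (iv4 D7144) (iv0 D3290) (iv4 F5225) D7139 (iv5 F26681)
theorem F54593 : act 1 n34410 = n31805 := d18_6 (iv1 D7758) F5528 D3519 D7760 D16683 D34410 F50107 (iv0 F27317) (iv5 D16681)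
def n34411 : Q := act 6 n16683
theorem D34411 : act 6 n16683 = n34411 := rfl
theorem F54594 : act 2 n34411 = n26056 := d3_1 D34411 (iv6 D26056) (iv2 F27320)
theorem F54595 : act 3 n34411 = n31626 := d7_1 D34411 (iv6 D31626) (iv3 F27321)
theorem F54596 : act 5 n34411 = n28702 := d12_1 D34411 (iv6 D28702) (iv5 F22829) F21192 D16683
def n34412 : Q := act 0 n16684
theorem D34412 : act 0 n16684 = n34412 := rfl
def n34413 : Q := act 1 n16684
theorem D34413 : act 1 n16684 = n34413 := rfl
theorem F54597 : act 1 n34413 = n25653 := d15_1 D34413 (iv7 D25653) (iv2 F27325)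
def n34414 : Q := act 5 n16684
theorem D34414 : act 5 n16684 = n34414 := rfl
theorem F54598 : act 2 n34414 = n25652 := d2_1 D34414 (iv5 D25652) (iv2 F27325)
theorem F54599 : act 6 n34414 = n16685 := d12_2 D16684 D34414 (iv5 D16685) (iv6 D7763) D7762
def n34415 : Q := act 7 n16684
theorem D34415 : act 7 n16684 = n34415 := rfl
theorem F54600 : act 2 n34415 = n25653 := d4_1 D34415 (iv7 D25653) (iv2 F27325)
theorem F54601 : act 6 n34415 = n25627 := d14_1 D34415 (iv7 D25627) (iv6 D12182) (iv7 F12066) D16684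
theorem F54602 : act 1 n25653 = n34412 := d15_0 (iv0 D34412) D34415 F54600
theorem F54603 : act 1 n25651 = n34415 := d15_1 D25651 (iv7 D34415) F27325
theorem F54604 : act 1 n34415 = n25650 := d15_0 (iv0 D25650) D25653 (iv2 F54600)
def n34416 : Q := act 0 n16685
theorem D34416 : act 0 n16685 = n34416 := rfl
theorem F54605 : act 5 n34416 = n28501 := d17_3 F12078 D16685 D34416 (iv4 D28501) (iv5 D13586) (iv0 D6465) F4479 (iv0 F12610) D7452
theorem F54606 : act 2 n25654 = n34416 := d15_3 (iv0 D34416) (iv0 F49969) F49968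
theorem F54607 : act 7 n34416 = n25655 := d4_2 F49968 F54606 (iv2 F49967)
theorem F54608 : act 1 n25657 = n34416 := d15_1 F49970 F54607 (iv2 F49967)
def n34417 : Q := act 4 n16685
theorem D34417 : act 4 n16685 = n34417 := rfl
theorem F54609 : act 2 n34417 = n25656 := d1_1 D34417 (iv4 D25656) (iv2 F27326)
def n34418 : Q := act 7 n16685
theorem D34418 : act 7 n16685 = n34418 := rfl
theorem F54610 : act 2 n34418 = n25657 := d4_1 D34418 (iv7 D25657) (iv2 F27326)
theorem F54611 : act 5 n34418 = n16686 := d13_1 D34418 (iv7 D16686) D16685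
theorem F54612 : act 1 n25655 = n34418 := d15_1 D25655 (iv7 D34418) F27326
theorem F54613 : act 1 n34418 = n25654 := d15_1 F54612 (iv7 F49968) F49967
def n34419 : Q := act 4 n16689
theorem D34419 : act 4 n16689 = n34419 := rfl
theorem F54614 : act 7 n34419 = n17894 := d11_2 (iv7 F27344) D34419 (iv4 D17894)
def n34420 : Q := act 4 n16691
theorem D34420 : act 4 n16691 = n34420 := rfl
theorem F54615 : act 2 n34420 = n16697 := d1_1 D34420 (iv4 D16697) (iv2 F27351)
theorem F54616 : act 1 n34420 = n21169 := d18_6 (iv1 F33409) (iv4 D19116) (iv1 D8963) (iv4 F12249) D16691 D34420 (iv4 D21169) D21168 F33413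
def n34421 : Q := act 5 n16693
theorem D34421 : act 5 n16693 = n34421 := rfl
theorem F54617 : act 2 n34421 = n26918 := d2_1 D34421 (iv5 D26918) F27361
theorem F54618 : act 3 n34421 = n16694 := d6_1 D34421 (iv5 D16694) D16693
theorem F54619 : act 7 n34421 = n26921 := d13_2 (iv7 F27359) D34421 (iv5 D26921)
theorem F54620 : act 0 n34421 = n16728 := d21_1 D34421 (iv5 D16728) (iv6 D7815) F12102 (iv6 F16759) D8343 (iv1 F28428) (iv5 D17430) D17431 F28433
theorem F54621 : act 1 n18465 = n26921 := d15_1 F43410 (iv7 F54619) F54617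
theorem F54622 : act 4 n34421 = n27072 := d20_6 D12904 (iv1 F22114) (iv4 D13309) (iv3 F17962) F27362 (iv3 F54618) (iv1 D27072) (iv4 D12969) F9577 (iv1 F9506)
def n34422 : Q := act 4 n16694
theorem D34422 : act 4 n16694 = n34422 := rfl
def n34423 : Q := act 6 n16694
theorem D34423 : act 6 n16694 = n34423 := rfl
theorem F54623 : act 5 n34423 = n21601 := d12_1 D34423 (iv6 D21601) (iv5 D10315) (iv6 F16874) D16694
def n34424 : Q := act 5 n16695
theorem D34424 : act 5 n16695 = n34424 := rfl
theorem F54624 : act 3 n34424 = n16696 := d6_1 D34424 (iv5 D16696) D16695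
theorem F54625 : act 0 n34424 = n19836 := d17_2 F27365 D34424 (iv5 D19836) (iv4 D9334) D9335 F17547 (iv5 D4325) D4323 D9591
theorem F54626 : act 1 n34424 = n19055 := d17_6 D10244 D21468 F33742 (iv5 D19482) (iv4 F27363) D34424 (iv5 D19055) (iv0 F16936) F14040
def n34425 : Q := act 4 n16696
theorem D34425 : act 4 n16696 = n34425 := rfl
def n34426 : Q := act 6 n16696
theorem D34426 : act 6 n16696 = n34426 := rfl
theorem F54627 : act 5 n34426 = n34426 := d12_1 D34426 (iv6 D34426) (iv5 D16696) F14717 D16696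
def n34427 : Q := act 0 n16697
theorem D34427 : act 0 n16697 = n34427 := rfl
theorem F54628 : act 4 n34427 = n19114 := d18_3 F16327 D16697 D34427 (iv5 D19114) F13932 F7291 (iv4 F5866) (iv0 F16846) D10299
theorem F54629 : act 7 n21169 = n34427 := d11_0 F54628 F30707 D21169
def n34428 : Q := act 3 n16697
theorem D34428 : act 3 n16697 = n34428 := rfl
theorem F54630 : act 4 n34428 = n16698 := d5_2 D16697 D34428 (iv3 D16698) (iv4 D7782) (iv3 F12250)
def n34429 : Q := act 5 n16697
theorem D34429 : act 5 n16697 = n34429 := rfl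
def n34430 : Q := act 0 n16698
theorem D34430 : act 0 n16698 = n34430 := rfl
def n34431 : Q := act 1 n16698
theorem D34431 : act 1 n16698 = n34431 := rfl
def n34432 : Q := act 2 n16698
theorem D34432 : act 2 n16698 = n34432 := rfl
def n34433 : Q := act 6 n16699
theorem D34433 : act 6 n16699 = n34433 := rfl
theorem F54631 : act 2 n34433 = n17622 := d3_1 D34433 (iv6 D17622) (iv2 F27372)
theorem F54632 : act 3 n34433 = n27325 := d7_1 D34433 (iv6 D27325) (iv3 F27373)
theorem F54633 : act 4 n34433 = n27257 := d10_1 D34433 (iv6 D27257) (iv4 F27377)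
theorem F54634 : act 5 n34433 = n17985 := d12_1 D34433 (iv6 D17985) (iv5 D8476) (iv6 F16984) D16699
def n34434 : Q := act 5 n16700
theorem D34434 : act 5 n16700 = n34434 := rfl
theorem F54635 : act 3 n34434 = n16701 := d6_1 D34434 (iv5 D16701) (iv3 F27378)
theorem F54636 : act 7 n34434 = n17994 := d13_2 (iv7 F27379) D34434 (iv5 D17994)
theorem F54637 : act 0 n16718 = n34434 := d21_7 D17075 F28019 (iv5 D8546) (iv6 F17002) (iv1 D7804) D7806 D16718 (iv5 D34434) (iv6 D16700) F12813
def n34435 : Q := act 4 n16701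
theorem D34435 : act 4 n16701 = n34435 := rfl
theorem F54638 : act 7 n34435 = n18004 := d11_2 (iv7 F27380) D34435 (iv4 D18004)
def n34436 : Q := act 4 n16702
theorem D34436 : act 4 n16702 = n34436 := rfl
theorem F54639 : act 2 n34436 = n16707 := d1_1 D34436 (iv4 D16707) (iv2 F27382)
def n34437 : Q := act 5 n16703
theorem D34437 : act 5 n16703 = n34437 := rfl
theorem F54640 : act 2 n34437 = n17140 := d2_1 D34437 (iv5 D17140) (iv2 F27383)
theorem F54641 : act 7 n34437 = n27226 := d13_2 (iv7 F27385) D34437 (iv5 D27226)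
def n34438 : Q := act 4 n16704
theorem D34438 : act 4 n16704 = n34438 := rfl
theorem F54642 : act 2 n34438 = n34435 := d1_1 D34438 (iv4 D34435) (iv2 F27389)
theorem F54643 : act 7 n34438 = n27232 := d11_2 (iv7 F27390) D34438 (iv4 D27232)
def n34439 : Q := act 4 n16705
theorem D34439 : act 4 n16705 = n34439 := rfl
def n34440 : Q := act 6 n16705
theorem D34440 : act 6 n16705 = n34440 := rfl
theorem F54644 : act 5 n34440 = n34440 := d12_1 D34440 (iv6 D34440) F28188 F28183 (iv5 F28188)
def n34441 : Q := act 3 n16706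
theorem D34441 : act 3 n16706 = n34441 := rfl
theorem F54645 : act 5 n34441 = n16716 := d6_2 F27392 D34441 (iv3 F28176)
def n34442 : Q := act 4 n16706
theorem D34442 : act 4 n16706 = n34442 := rfl
def n34443 : Q := act 6 n16706
theorem D34443 : act 6 n16706 = n34443 := rfl
theorem F54646 : act 5 n34443 = n18061 := d12_1 D34443 (iv6 D18061) (iv5 D8523) D8524 F27392
def n34444 : Q := act 0 n16707
theorem D34444 : act 0 n16707 = n34444 := rfl
def n34445 : Q := act 1 n16707
theorem D34445 : act 1 n16707 = n34445 := rfl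
theorem F54647 : act 4 n17220 = n34445 := d20_6 D8141 (iv1 F21433) F21430 (iv3 F21569) (iv1 F21571) (iv3 F28168) (iv1 D34445) (iv4 D16707) F12258 (iv1 F5691)
def n34446 : Q := act 3 n16707
theorem D34446 : act 3 n16707 = n34446 := rfl
theorem F54648 : act 4 n34446 = n16708 := d5_2 D16707 D34446 (iv3 D16708) (iv4 D7795) (iv3 F12258)
def n34447 : Q := act 5 n16707
theorem D34447 : act 5 n16707 = n34447 := rfl
def n34448 : Q := act 0 n16708
theorem D34448 : act 0 n16708 = n34448 := rfl
def n34449 : Q := act 1 n16708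
theorem D34449 : act 1 n16708 = n34449 := rfl
def n34450 : Q := act 2 n16708
theorem D34450 : act 2 n16708 = n34450 := rfl
def n34451 : Q := act 3 n16709
theorem D34451 : act 3 n16709 = n34451 := rfl
theorem F54649 : act 5 n34451 = n19629 := d6_2 (iv5 F27394) D34451 (iv3 D19629)
theorem F54650 : act 7 n34451 = n16731 := d8_2 (iv7 F27395) D34451 (iv3 D16731)
def n34452 : Q := act 6 n16709
theorem D34452 : act 6 n16709 = n34452 := rfl
theorem F54651 : act 2 n34452 = n16773 := d3_1 D34452 (iv6 D16773) (iv2 F27393)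
theorem F54652 : act 4 n34452 = n16710 := d10_1 D34452 (iv6 D16710) D16709
def n34453 : Q := act 0 n16710
theorem D34453 : act 0 n16710 = n34453 := rfl
theorem F54653 : act 6 n34453 = n16782 := d21_5 F7229 D3537 D7796 D16710 D34453 (iv5 D16782) (iv1 D7833) F5575 (iv6 D1684) D1681
theorem F54654 : act 0 n34453 = n16784 := d21_4 (iv5 F27467) (iv1 F27469) D16782 (iv6 F54653) (iv6 D16784) F12387 (iv1 F13527) (iv5 F13579) (iv6 D8669) (iv1 F13531)
def n34454 : Q := act 1 n16710
theorem D34454 : act 1 n16710 = n34454 := rfl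
theorem F54655 : act 1 n34454 = n16784 := d15_1 D34454 F27546 (iv2 F27398)
def n34455 : Q := act 5 n16710
theorem D34455 : act 5 n16710 = n34455 := rfl
theorem F54656 : act 2 n34455 = n16787 := d2_1 D34455 (iv5 D16787) (iv2 F27398)
theorem F54657 : act 6 n34455 = n16711 := d12_2 D16710 D34455 (iv5 D16711) (iv6 D7797) D7796
def n34456 : Q := act 7 n16710
theorem D34456 : act 7 n16710 = n34456 := rfl
theorem F54658 : act 2 n34456 = n16784 := d4_1 D34456 F27546 (iv2 F27398)
theorem F54659 : act 6 n34456 = n16736 := d14_1 D34456 (iv7 D16736) (iv6 D7819) (iv7 F12260) D16710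
theorem F54660 : act 1 n16786 = n34456 := d15_1 D16786 (iv7 D34456) F27398
theorem F54661 : act 1 n34456 = n16785 := d15_0 (iv0 D16785) (iv7 F27546) (iv2 F54658)
def n34457 : Q := act 4 n16711
theorem D34457 : act 4 n16711 = n34457 := rfl
theorem F54662 : act 2 n34457 = n16790 := d1_1 D34457 (iv4 D16790) (iv2 F27399)
theorem F54663 : act 7 n34457 = n18128 := d11_2 (iv7 F27400) D34457 (iv4 D18128)
theorem F54664 : act 5 n34457 = n22978 := d16_1 D34457 (iv4 D22978) (iv5 D10846) (iv4 D4945) (iv5 D2034) (iv4 F2866) D3892 (iv7 F12394) (iv2 F27399)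
theorem F54665 : act 0 n34457 = n18473 := d18_2 (iv1 F27401) D34457 F32316 (iv5 D20361) (iv4 D9646) F17457 F13604 (iv0 D7809) D7811
theorem F54666 : act 1 n34457 = n18472 := d18_6 (iv1 F14285) (iv4 D4938) (iv1 F6023) (iv4 F12264) D16711 D34457 F29655 (iv0 F28509) (iv5 D17509)
def n34458 : Q := act 5 n16712
theorem D34458 : act 5 n16712 = n34458 := rfl
theorem F54667 : act 3 n34458 = n16713 := d6_1 D34458 (iv5 D16713) (iv3 F27403)
theorem F54668 : act 7 n34458 = n18469 := d13_2 F28326 D34458 F29652
theorem F54669 : act 0 n34458 = n17505 := d17_2 (iv1 F27431) D34458 (iv5 D17505) (iv4 D8232) D8233 F16985 (iv5 D6108) D6107 D12881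
theorem F54670 : act 0 n17510 = n34458 := d21_7 (iv5 F13478) (iv1 F27496) F27494 F13161 (iv1 F13159) (iv6 F16804) D17510 (iv5 D34458) (iv6 D16712) F12308
def n34459 : Q := act 4 n16713
theorem D34459 : act 4 n16713 = n34459 := rfl
theorem F54671 : act 2 n34459 = n16724 := d1_1 D34459 (iv4 D16724) (iv2 F27404)
theorem F54672 : act 7 n34459 = n18470 := d11_2 (iv7 F27405) D34459 (iv4 D18470)
def n34460 : Q := act 4 n16714
theorem D34460 : act 4 n16714 = n34460 := rfl
theorem F54673 : act 2 n34460 = n18021 := d1_1 D34460 (iv4 D18021) (iv2 F27408)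
theorem F54675 : act 0 n34460 = n17603 := d18_2 F27413 D34460 (iv4 D17603) (iv5 D8269) D8268 (iv0 F13054) (iv4 F13098) F13101 D8548
theorem F54676 : act 1 n34460 = n17606 := d18_6 (iv1 F9467) F12340 (iv1 F13790) F13786 D16714 D34460 (iv4 D17606) F13309 (iv5 D7994)
def n34461 : Q := act 6 n16714
theorem D34461 : act 6 n16714 = n34461 := rfl
theorem F54677 : act 2 n34461 = n18022 := d3_1 D34461 (iv6 D18022) (iv2 F27408)
theorem F54679 : act 5 n34461 = n18130 := d12_1 D34461 (iv6 D18130) (iv5 D8546) (iv6 F17002) D16714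
def n34462 : Q := act 5 n16715
theorem D34462 : act 5 n16715 = n34462 := rfl
theorem F54680 : act 2 n34462 = n16718 := d2_1 D34462 (iv5 D16718) (iv2 F27414)
theorem F54681 : act 1 n34462 = n17994 := d17_6 (iv1 D8262) D8264 D17594 F28600 (iv4 F27415) D34462 (iv5 D17994) F28026 F27549
def n34463 : Q := act 5 n16717
theorem D34463 : act 5 n16717 = n34463 := rfl
def n34464 : Q := act 1 n16718
theorem D34464 : act 1 n16718 = n34464 := rfl
theorem F54682 : act 5 n34464 = n17611 := d17_7 (iv1 F13041) D17593 F28598 (iv5 D17083) F12775 D16718 D34464 F28644 (iv4 D17098)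
theorem F54683 : act 2 n17994 = n34464 := d2_3 F54682 F28639 D17994
theorem F54684 : act 3 n17613 = n34464 := d6_3 F54682 F28640 D17613
def n34465 : Q := act 4 n16718
theorem D34465 : act 4 n16718 = n34465 := rfl
theorem F54685 : act 0 n34465 = n17102 := d18_2 (iv1 D34464) D34465 (iv4 D17102) (iv5 D8002) F5657 D8001 (iv4 F13587) (iv0 F28643) (iv5 F54682)
def n34466 : Q := act 7 n16718
theorem D34466 : act 7 n16718 = n34466 := rfl
theorem F54686 : act 3 n34466 = n16725 := d8_1 D34466 (iv7 D16725) (iv3 F27416)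
theorem F54687 : act 5 n34466 = n16719 := d13_1 D34466 (iv7 D16719) D16718
theorem F54688 : act 1 n17994 = n34466 := d15_1 F54681 (iv7 D34466) (iv2 F54680)
def n34467 : Q := act 4 n16723
theorem D34467 : act 4 n16723 = n34467 := rfl
theorem F54689 : act 2 n34467 = n20335 := d1_1 D34467 (iv4 D20335) (iv2 F27440)
theorem F54690 : act 0 n34467 = n19516 := d18_2 F27554 D34467 (iv4 D19516) (iv5 D9188) F6057 (iv0 F7113) (iv4 F5808) F12390 D16789
def n34468 : Q := act 6 n16723
theorem D34468 : act 6 n16723 = n34468 := rfl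
theorem F54691 : act 2 n34468 = n20336 := d3_1 D34468 (iv6 D20336) (iv2 F27440)
theorem F54692 : act 5 n34468 = n18225 := d12_1 D34468 (iv6 D18225) (iv5 D8601) (iv6 F13507) D16723
def n34469 : Q := act 0 n16724
theorem D34469 : act 0 n16724 = n34469 := rfl
theorem F54693 : act 4 n34469 = n17440 := d18_3 F12347 D16724 D34469 (iv5 D17440) (iv4 F15126) (iv0 F15127) (iv4 D8680) (iv0 D3890) D3892
theorem F54694 : act 1 n18470 = n34469 := d18_6 F17024 (iv4 F27424) (iv1 F27432) F17543 F17497 D18470 F54693 (iv0 F31150) (iv5 D19476)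
def n34470 : Q := act 3 n16724
theorem D34470 : act 3 n16724 = n34470 := rfl
def n34471 : Q := act 5 n16724
theorem D34471 : act 5 n16724 = n34471 := rfl
theorem F54695 : act 4 n34471 = n22970 := d16_2 D16724 D34471 (iv5 D22970) (iv4 F31646) F31644 F17543 F17497 (iv7 F27405) F27404
def n34472 : Q := act 7 n16724
theorem D34472 : act 7 n16724 = n34472 := rfl
theorem F54696 : act 2 n34472 = n18470 := d4_1 D34472 (iv7 F54672) F54671
theorem F54697 : act 4 n34472 = n16725 := d11_1 D34472 (iv7 D16725) D16724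
def n34473 : Q := act 6 n16725
theorem D34473 : act 6 n16725 = n34473 := rfl
theorem F54698 : act 2 n34473 = n18471 := d3_1 D34473 (iv6 D18471) (iv2 F27442)
def n34474 : Q := act 5 n16726
theorem D34474 : act 5 n16726 = n34474 := rfl
theorem F54700 : act 0 n34474 = n26921 := d17_2 F27449 D34474 (iv5 D26921) (iv4 D12881) D12882 (iv0 F21390) (iv5 D8210) (iv0 F16793) (iv4 F21596)
theorem F54701 : act 0 n26918 = n34474 := d21_1 D26918 (iv5 D34474) (iv6 D16726) (iv1 F12349) F16741 D10285 (iv1 F21592) F13510 D16712 F27430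
def n34475 : Q := act 5 n16727
theorem D34475 : act 5 n16727 = n34475 := rfl
theorem F54702 : act 2 n34475 = n26748 := d2_1 D34475 (iv5 D26748) (iv2 F27450)
theorem F54703 : act 3 n34475 = n19409 := d6_1 D34475 (iv5 D19409) (iv3 F27451)
theorem F54704 : act 0 n34475 = n17233 := d17_2 F27454 D34475 (iv5 D17233) (iv4 D8081) D8082 F21674 (iv5 D12950) F16975 (iv4 F13102)
theorem F54705 : act 1 n34475 = n17224 := d17_6 F28433 D34421 F54620 (iv5 D16728) (iv4 F27452) D34475 (iv5 D17224) (iv0 F28309) (iv4 F28432)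
def n34476 : Q := act 0 n16728
theorem D34476 : act 0 n16728 = n34476 := rfl
theorem F54706 : act 5 n34476 = n26877 := d17_3 (iv1 F15244) D16728 D34476 (iv4 D26877) (iv5 F21352) (iv0 D8238) (iv5 D3708) D3707 D8235
theorem F54707 : act 2 n26921 = n34476 := d15_3 (iv0 D34476) (iv0 F54620) F54619
theorem F54708 : act 7 n34476 = n26918 := d4_2 F54619 F54707 (iv2 F54617)
theorem F54709 : act 4 n27071 = n34476 := d18_3 (iv1 D12968) D12969 D27071 F54706 (iv4 D26877) F21347 F9486 F12859 (iv5 F21567)
def n34477 : Q := act 4 n16728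
theorem D34477 : act 4 n16728 = n34477 := rfl
theorem F54710 : act 0 n34477 = n17234 := d18_2 F54620 D34477 (iv4 D17234) (iv5 D8082) D8081 F28169 (iv4 F28324) (iv0 F30729) D34421
def n34478 : Q := act 0 n16730
theorem D34478 : act 0 n16730 = n34478 := rfl
theorem F54712 : act 4 n34478 = n20116 := d18_3 F27441 D16730 D34478 (iv5 D20116) (iv4 D9491) D9489 F17543 F17495 D16723
def n34479 : Q := act 1 n16730
theorem D34479 : act 1 n16730 = n34479 := rfl
theorem F54713 : act 4 n34479 = n17515 := d18_7 (iv1 F14286) F16801 F16786 F12358 D7817 D16730 D34479 (iv0 F28518) (iv5 D10837)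
def n34480 : Q := act 3 n16730
theorem D34480 : act 3 n16730 = n34480 := rfl
def n34481 : Q := act 5 n16730
theorem D34481 : act 5 n16730 = n34481 := rfl
def n34482 : Q := act 0 n16731
theorem D34482 : act 0 n16731 = n34482 := rfl
def n34483 : Q := act 1 n16731
theorem D34483 : act 1 n16731 = n34483 := rfl
def n34484 : Q := act 2 n16731
theorem D34484 : act 2 n16731 = n34484 := rfl
theorem F54714 : act 3 n34484 = n16764 := d0_2 D16731 D34484 (iv2 D16764) (iv3 D7828) (iv2 F12359)
def n34485 : Q := act 5 n16731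
theorem D34485 : act 5 n16731 = n34485 := rfl
theorem F54715 : act 3 n34485 = n16732 := d6_1 D34485 (iv5 D16732) D16731
theorem F54716 : act 7 n34485 = n19629 := d13_2 F54650 D34485 (iv5 F54649)
def n34486 : Q := act 6 n16731
theorem D34486 : act 6 n16731 = n34486 := rfl
theorem F54717 : act 3 n34486 = n16733 := d7_1 D34486 (iv6 D16733) D16731
def n34487 : Q := act 6 n16732
theorem D34487 : act 6 n16732 = n34487 := rfl
theorem F54718 : act 2 n34487 = n16767 := d3_1 D34487 (iv6 D16767) (iv2 F27460)
theorem F54719 : act 4 n34487 = n19635 := d10_1 D34487 (iv6 D19635) (iv4 F27462)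
def n34488 : Q := act 0 n16733
theorem D34488 : act 0 n16733 = n34488 := rfl
def n34489 : Q := act 1 n16733
theorem D34489 : act 1 n16733 = n34489 := rfl
theorem F54720 : act 1 n34489 = n16772 := d15_1 D34489 (iv7 D16772) (iv2 F27463)
def n34490 : Q := act 5 n16733
theorem D34490 : act 5 n16733 = n34490 := rfl
theorem F54721 : act 2 n34490 = n16771 := d2_1 D34490 (iv5 D16771) (iv2 F27463)
def n34491 : Q := act 7 n16733
theorem D34491 : act 7 n16733 = n34491 := rfl
theorem F54722 : act 2 n34491 = n16772 := d4_1 D34491 (iv7 D16772) (iv2 F27463)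
theorem F54723 : act 4 n34491 = n16736 := d11_1 D34491 (iv7 D16736) (iv4 F27464)
theorem F54724 : act 1 n16772 = n34488 := d15_0 (iv0 D34488) D34491 F54722
theorem F54725 : act 1 n16770 = n34491 := d15_1 D16770 (iv7 D34491) F27463
theorem F54726 : act 1 n34491 = n16769 := d15_0 (iv0 D16769) D16772 (iv2 F54722)
def n34492 : Q := act 2 n16734
theorem D34492 : act 2 n16734 = n34492 := rfl
theorem F54727 : act 7 n16735 = n34492 := d15_2 (iv0 D16734) D16735 (iv2 D34492)
def n34493 : Q := act 3 n16734
theorem D34493 : act 3 n16734 = n34493 := rfl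
def n34494 : Q := act 4 n16734
theorem D34494 : act 4 n16734 = n34494 := rfl
def n34495 : Q := act 5 n16734
theorem D34495 : act 5 n16734 = n34495 := rfl
def n34496 : Q := act 6 n16734
theorem D34496 : act 6 n16734 = n34496 := rfl
theorem F54728 : act 5 n34496 = n18460 := d21_6 F12297 F12292 D3550 D7819 D16734 D34496 (iv1 D18460) (iv5 D8678) (iv6 D3889) (iv1 F5841)
def n34497 : Q := act 7 n16734
theorem D34497 : act 7 n16734 = n34497 := rfl
theorem F54729 : act 2 n34497 = n16735 := d4_1 D34497 F54727 (iv2 D34492)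
def n34498 : Q := act 3 n16735
theorem D34498 : act 3 n16735 = n34498 := rfl
def n34499 : Q := act 4 n16735
theorem D34499 : act 4 n16735 = n34499 := rfl
def n34500 : Q := act 5 n16735
theorem D34500 : act 5 n16735 = n34500 := rfl
theorem F54730 : act 6 n34500 = n16785 := d21_3 (iv5 F12387) (iv1 F27465) D34500 (iv1 F54661) F54659 F27467 (iv1 F13530) D8673 (iv6 F13581) (iv1 F13529)
def n34501 : Q := act 6 n16735
theorem D34501 : act 6 n16735 = n34501 := rfl
def n34502 : Q := act 6 n16737
theorem D34502 : act 6 n16737 = n34502 := rfl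
theorem F54731 : act 2 n34502 = n16739 := d3_1 D34502 (iv6 D16739) D16737
theorem F54732 : act 3 n34502 = n18179 := d7_1 D34502 (iv6 D18179) (iv3 F27471)
def n34503 : Q := act 3 n16738
theorem D34503 : act 3 n16738 = n34503 := rfl
theorem F54733 : act 4 n34503 = n16740 := d5_2 D16738 D34503 (iv3 D16740) (iv4 D7821) D7820
theorem F54734 : act 7 n34503 = n18134 := d8_2 (iv7 F27476) D34503 (iv3 D18134)
def n34504 : Q := act 5 n16738
theorem D34504 : act 5 n16738 = n34504 := rfl
theorem F54735 : act 7 n34504 = n18135 := d13_2 (iv7 F27476) D34504 (iv5 D18135)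
theorem F54736 : act 0 n34504 = n18890 := d17_2 F28731 D34504 (iv5 D18890) (iv4 D8848) (iv5 D3942) D3940 (iv5 F13317) F13130 D17662
def n34505 : Q := act 6 n16738
theorem D34505 : act 6 n16738 = n34505 := rfl
theorem F54737 : act 4 n34505 = n16739 := d10_1 D34505 (iv6 D16739) D16738
def n34506 : Q := act 0 n16739
theorem D34506 : act 0 n16739 = n34506 := rfl
def n34507 : Q := act 1 n16739
theorem D34507 : act 1 n16739 = n34507 := rfl
def n34508 : Q := act 5 n16739
theorem D34508 : act 5 n16739 = n34508 := rfl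
theorem F54738 : act 3 n34508 = n16745 := d6_1 D34508 (iv5 D16745) (iv3 F27478)
theorem F54739 : act 6 n34508 = n18140 := d12_2 D16739 D34508 (iv5 D18140) (iv6 D8553) (iv5 F12364)
def n34509 : Q := act 7 n16739
theorem D34509 : act 7 n16739 = n34509 := rfl
theorem F54740 : act 3 n34509 = n16746 := d8_1 D34509 (iv7 D16746) (iv3 F27478)
theorem F54741 : act 6 n34509 = n18139 := d14_1 D34509 (iv7 D18139) (iv6 D8552) (iv7 F12365) D16739
def n34510 : Q := act 6 n16740
theorem D34510 : act 6 n16740 = n34510 := rfl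
theorem F54742 : act 3 n34510 = n16742 := d7_1 D34510 (iv6 D16742) D16740
def n34511 : Q := act 6 n16741
theorem D34511 : act 6 n16741 = n34511 := rfl
theorem F54743 : act 2 n34511 = n18205 := d3_1 D34511 (iv6 D18205) (iv2 F27480)
theorem F54744 : act 4 n34511 = n19615 := d10_1 D34511 (iv6 D19615) (iv4 F27482)
def n34512 : Q := act 0 n16742
theorem D34512 : act 0 n16742 = n34512 := rfl
def n34513 : Q := act 1 n16742
theorem D34513 : act 1 n16742 = n34513 := rfl
theorem F54745 : act 1 n34513 = n18209 := d15_1 D34513 (iv7 D18209) (iv2 F27483)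
def n34514 : Q := act 5 n16742
theorem D34514 : act 5 n16742 = n34514 := rfl
theorem F54746 : act 2 n34514 = n18208 := d2_1 D34514 (iv5 D18208) (iv2 F27483)
def n34515 : Q := act 7 n16742
theorem D34515 : act 7 n16742 = n34515 := rfl
theorem F54747 : act 2 n34515 = n18209 := d4_1 D34515 (iv7 D18209) (iv2 F27483)
theorem F54748 : act 4 n34515 = n16746 := d11_1 D34515 (iv7 D16746) (iv4 F27484)
theorem F54749 : act 6 n34515 = n18167 := d14_1 D34515 (iv7 D18167) (iv6 D8566) (iv7 F12367) D16742
theorem F54750 : act 1 n18209 = n34512 := d15_0 (iv0 D34512) D34515 F54747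
theorem F54751 : act 1 n18207 = n34515 := d15_1 D18207 (iv7 D34515) F27483
theorem F54752 : act 1 n34515 = n18206 := d15_0 (iv0 D18206) D18209 (iv2 F54747)
def n34517 : Q := act 3 n16743
theorem D34517 : act 3 n16743 = n34517 := rfl
def n34518 : Q := act 4 n16743
theorem D34518 : act 4 n16743 = n34518 := rfl
def n34519 : Q := act 5 n16743
theorem D34519 : act 5 n16743 = n34519 := rfl
def n34520 : Q := act 6 n16743
theorem D34520 : act 6 n16743 = n34520 := rfl
def n34523 : Q := act 4 n16744
theorem D34523 : act 4 n16744 = n34523 := rfl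
def n34524 : Q := act 5 n16744
theorem D34524 : act 5 n16744 = n34524 := rfl
theorem F54755 : act 6 n18220 = n34524 := d21_5 (iv5 D8601) (iv1 D3854) D3855 (iv6 F13500) D18220 (iv5 D34524) (iv1 D16744) D16745 F27487 (iv1 F13508)
def n34525 : Q := act 6 n16744
theorem D34525 : act 6 n16744 = n34525 := rfl
theorem F54756 : act 5 n34525 = n18432 := d21_6 (iv5 D18171) (iv1 F27515) F27511 F27512 (iv1 F27485) D34525 (iv1 D18432) F13579 D18269 (iv1 F29636)
def n34526 : Q := act 0 n16745
theorem D34526 : act 0 n16745 = n34526 := rfl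
theorem F54757 : act 6 n34526 = n18218 := d21_5 (iv5 D8428) (iv1 F17439) D8570 (iv6 F27487) D34526 (iv5 D18218) (iv1 D8590) D8591 F13500 (iv1 F17442)
def n34527 : Q := act 1 n16745
theorem D34527 : act 1 n16745 = n34527 := rfl
theorem F54758 : act 1 n34527 = n18223 := d15_1 D34527 (iv7 D18223) (iv2 F27486)
theorem F54759 : act 5 n18332 = n34527 := d21_6 (iv5 D7796) (iv1 F5567) (iv5 F7110) D3879 D8638 D18332 (iv1 D34527) (iv5 D16745) (iv6 D7822) (iv1 F12261)
def n34528 : Q := act 4 n16745
theorem D34528 : act 4 n16745 = n34528 := rfl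
theorem F54760 : act 2 n34528 = n18222 := d1_1 D34528 (iv4 D18222) (iv2 F27486)
def n34529 : Q := act 7 n16745
theorem D34529 : act 7 n16745 = n34529 := rfl
theorem F54762 : act 2 n34529 = n18223 := d4_1 D34529 (iv7 D18223) (iv2 F27486)
theorem F54763 : act 5 n34529 = n16746 := d13_1 D34529 (iv7 D16746) D16745
theorem F54765 : act 1 n18223 = n34526 := d15_0 (iv0 D34526) D34529 F54762
theorem F54766 : act 1 n18221 = n34529 := d15_1 D18221 (iv7 D34529) F27486
theorem F54767 : act 0 n18220 = n34529 := d21_10 F54763 (iv1 F27491) D18218 (iv6 F54757) (iv1 F54765) F29381 F29380 (iv1 F27485) D34524 (iv6 F54755)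
def n34530 : Q := act 6 n16747
theorem D34530 : act 6 n16747 = n34530 := rfl
theorem F54768 : act 2 n34530 = n16749 := d3_1 D34530 (iv6 D16749) D16747
theorem F54769 : act 3 n34530 = n18131 := d7_1 D34530 (iv6 D18131) (iv3 F27493)
theorem F54770 : act 5 n34530 = n34530 := d12_1 D34530 (iv6 D34530) F27494 F13161 (iv5 F27494)
def n34531 : Q := act 3 n16748
theorem D34531 : act 3 n16748 = n34531 := rfl
theorem F54771 : act 4 n34531 = n16750 := d5_2 D16748 D34531 (iv3 D16750) (iv4 D7824) D7823
theorem F54772 : act 7 n34531 = n18184 := d8_2 (iv7 F27498) D34531 (iv3 D18184)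
def n34532 : Q := act 5 n16748
theorem D34532 : act 5 n16748 = n34532 := rfl
theorem F54773 : act 2 n34532 = n22100 := d2_1 D34532 F34578 (iv2 F28665)
theorem F54775 : act 4 n34532 = n27363 := d16_2 D16748 D34532 (iv5 D27363) (iv4 D13109) (iv5 D6240) F6465 D8571 (iv7 F27495) (iv2 D16747)
theorem F54776 : act 0 n34532 = n22101 := d17_2 (iv1 F27500) D34532 F34581 (iv4 D12955) F13342 F4184 D3733 F13326 D8033
theorem F54777 : act 1 n34532 = n16759 := d17_6 (iv1 F16295) (iv5 D10285) F6757 (iv5 F12369) D16748 D34532 (iv5 F27525) (iv0 F29508) (iv4 D18309)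
def n34533 : Q := act 6 n16748
theorem D34533 : act 6 n16748 = n34533 := rfl
theorem F54778 : act 4 n34533 = n16749 := d10_1 D34533 (iv6 D16749) D16748
def n34534 : Q := act 0 n16749
theorem D34534 : act 0 n16749 = n34534 := rfl
def n34535 : Q := act 1 n16749
theorem D34535 : act 1 n16749 = n34535 := rfl
def n34536 : Q := act 7 n16749
theorem D34536 : act 7 n16749 = n34536 := rfl
theorem F54779 : act 3 n34536 = n16755 := d8_1 D34536 (iv7 D16755) (iv3 F27501)
theorem F54780 : act 5 n34536 = n34536 := d13_1 D34536 (iv7 D34536) F27502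
theorem F54781 : act 6 n34536 = n18190 := d14_1 D34536 (iv7 D18190) (iv6 D8577) (iv7 F12370) D16749
def n34537 : Q := act 0 n16750
theorem D34537 : act 0 n16750 = n34537 := rfl
theorem F54782 : act 1 n18202 = n34537 := d15_0 (iv0 D34537) F27503 D18202
def n34538 : Q := act 1 n16750
theorem D34538 : act 1 n16750 = n34538 := rfl
def n34539 : Q := act 2 n16750
theorem D34539 : act 2 n16750 = n34539 := rfl
theorem F54783 : act 3 n34539 = n18159 := d0_2 D16750 D34539 (iv2 D18159) (iv3 D8564) (iv2 F12371)
theorem F54784 : act 7 n34539 = n18202 := d4_2 (iv7 F27503) D34539 (iv2 D18202)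
theorem F54785 : act 1 n34539 = n18200 := d15_0 (iv0 D18200) (iv7 F27503) D34539
theorem F54786 : act 1 n34538 = n18202 := d15_1 D34538 (iv7 F54784) (iv2 D34539)
theorem F54787 : act 1 n18201 = n34539 := d15_1 D18201 F54784 (iv2 D18202)
def n34540 : Q := act 5 n16750
theorem D34540 : act 5 n16750 = n34540 := rfl
theorem F54788 : act 3 n34540 = n16751 := d6_1 D34540 (iv5 D16751) D16750
theorem F54789 : act 7 n34540 = n18203 := d13_2 (iv7 F27503) D34540 (iv5 D18203)
theorem F54790 : act 4 n18318 = n34540 := d20_8 F34407 (iv1 D10492) F13563 (iv3 F13562) (iv1 F13543) D18311 F29511 D18318 F54788 (iv1 F34409)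
def n34541 : Q := act 6 n16750
theorem D34541 : act 6 n16750 = n34541 := rfl
theorem F54791 : act 3 n34541 = n16752 := d7_1 D34541 (iv6 D16752) D16750
def n34542 : Q := act 6 n16751
theorem D34542 : act 6 n16751 = n34542 := rfl
theorem F54792 : act 2 n34542 = n18163 := d3_1 D34542 (iv6 D18163) (iv2 F27504)
theorem F54793 : act 4 n34542 = n19605 := d10_1 D34542 (iv6 D19605) (iv4 F27505)
def n34543 : Q := act 0 n16752
theorem D34543 : act 0 n16752 = n34543 := rfl
def n34544 : Q := act 1 n16752
theorem D34544 : act 1 n16752 = n34544 := rfl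
theorem F54794 : act 1 n34544 = n18167 := d15_1 D34544 (iv7 D18167) (iv2 F27507)
def n34545 : Q := act 5 n16752
theorem D34545 : act 5 n16752 = n34545 := rfl
theorem F54795 : act 2 n34545 = n18166 := d2_1 D34545 (iv5 D18166) (iv2 F27507)
def n34546 : Q := act 7 n16752
theorem D34546 : act 7 n16752 = n34546 := rfl
theorem F54796 : act 2 n34546 = n18167 := d4_1 D34546 (iv7 D18167) (iv2 F27507)
theorem F54797 : act 4 n34546 = n16755 := d11_1 D34546 (iv7 D16755) (iv4 F27508)
theorem F54798 : act 6 n34546 = n18209 := d14_1 D34546 (iv7 D18209) (iv6 D8588) (iv7 F12372) D16752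
theorem F54799 : act 1 n18167 = n34543 := d15_0 (iv0 D34543) D34546 F54796
theorem F54800 : act 1 n18165 = n34546 := d15_1 D18165 (iv7 D34546) F27507
theorem F54801 : act 1 n34546 = n18164 := d15_0 (iv0 D18164) D18167 (iv2 F54796)
def n34547 : Q := act 2 n16753
theorem D34547 : act 2 n16753 = n34547 := rfl
theorem F54802 : act 7 n16754 = n34547 := d15_2 (iv0 D16753) D16754 (iv2 D34547)
def n34549 : Q := act 4 n16753
theorem D34549 : act 4 n16753 = n34549 := rfl
def n34550 : Q := act 6 n16753
theorem D34550 : act 6 n16753 = n34550 := rfl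
def n34551 : Q := act 7 n16753
theorem D34551 : act 7 n16753 = n34551 := rfl
theorem F54803 : act 2 n34551 = n16754 := d4_1 D34551 F54802 (iv2 D34547)
def n34552 : Q := act 3 n16754
theorem D34552 : act 3 n16754 = n34552 := rfl
def n34553 : Q := act 4 n16754
theorem D34553 : act 4 n16754 = n34553 := rfl
def n34554 : Q := act 6 n16754
theorem D34554 : act 6 n16754 = n34554 := rfl
def n34555 : Q := act 0 n16756
theorem D34555 : act 0 n16756 = n34555 := rfl
theorem F54804 : act 1 n21953 = n34555 := d15_0 (iv0 D34555) F27516 D21953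
def n34556 : Q := act 1 n16756
theorem D34556 : act 1 n16756 = n34556 := rfl
def n34557 : Q := act 2 n16756
theorem D34557 : act 2 n16756 = n34557 := rfl
theorem F54805 : act 3 n34557 = n22101 := d0_2 D16756 D34557 (iv2 D22101) (iv3 D10534) F12376
theorem F54806 : act 7 n34557 = n21953 := d4_2 (iv7 F27516) D34557 (iv2 D21953)
theorem F54807 : act 1 n34557 = n21951 := d15_0 (iv0 D21951) (iv7 F27516) D34557
theorem F54808 : act 1 n34556 = n21953 := d15_1 D34556 (iv7 F54806) (iv2 D34557)
theorem F54809 : act 5 n27036 = n34557 := d13_3 F54806 F34459 (iv7 F43691)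
theorem F54810 : act 1 n21952 = n34557 := d15_1 D21952 F54806 (iv2 D21953)
def n34558 : Q := act 4 n16756
theorem D34558 : act 4 n16756 = n34558 := rfl
theorem F54811 : act 3 n34558 = n18015 := d5_1 D34558 F29189 F16671 (iv4 F12375) D16756
theorem F54812 : act 7 n34558 = n21932 := d11_2 (iv7 F27516) D34558 F34428
theorem F54813 : act 2 n34558 = n22601 := d15_3 F51875 (iv0 F51874) (iv7 F54812)
theorem F54814 : act 4 n22601 = n34557 := d1_2 D34558 F54813 (iv2 D34557)
theorem F54815 : act 0 n22292 = n34558 := d20_4 (iv4 F29328) (iv1 F29405) F29403 (iv3 F34790) F54811 F29189 (iv1 F16673) F17201 F17198 D10657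
theorem F54816 : act 0 n34558 = n22597 := d20_4 (iv4 F27377) F27375 (iv4 F29189) (iv3 F54811) F35136 (iv4 D15358) F24909 D12559 F20916 D13057
def n34559 : Q := act 5 n16756
theorem D34559 : act 5 n16756 = n34559 := rfl
theorem F54817 : act 2 n34559 = n27036 := d2_1 D34559 F54809 (iv2 D34557)
theorem F54818 : act 3 n34559 = n16757 := d6_1 D34559 (iv5 D16757) D16756
theorem F54819 : act 7 n34559 = n18379 := d13_2 (iv7 F27516) D34559 F29554
def n34560 : Q := act 6 n16756
theorem D34560 : act 6 n16756 = n34560 := rfl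
theorem F54820 : act 3 n34560 = n16758 := d7_1 D34560 (iv6 D16758) D16756
def n34561 : Q := act 6 n16757
theorem D34561 : act 6 n16757 = n34561 := rfl
theorem F54821 : act 2 n34561 = n18381 := d3_1 D34561 (iv6 D18381) (iv2 F27517)
theorem F54822 : act 4 n34561 = n19586 := d10_1 D34561 (iv6 D19586) (iv4 F27519)
def n34562 : Q := act 0 n16758
theorem D34562 : act 0 n16758 = n34562 := rfl
def n34563 : Q := act 1 n16758
theorem D34563 : act 1 n16758 = n34563 := rfl
theorem F54823 : act 1 n34563 = n22106 := d15_1 D34563 (iv7 D22106) (iv2 F27522)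
def n34564 : Q := act 5 n16758
theorem D34564 : act 5 n16758 = n34564 := rfl
theorem F54824 : act 2 n34564 = n22105 := d2_1 D34564 (iv5 D22105) (iv2 F27522)
def n34565 : Q := act 7 n16758
theorem D34565 : act 7 n16758 = n34565 := rfl
theorem F54825 : act 2 n34565 = n22106 := d4_1 D34565 (iv7 D22106) (iv2 F27522)
theorem F54826 : act 4 n34565 = n21969 := d11_1 D34565 F34465 (iv4 F27523)
theorem F54827 : act 6 n34565 = n21958 := d14_1 D34565 (iv7 D21958) (iv6 D10476) F12377 D16758
theorem F54828 : act 1 n22106 = n34562 := d15_0 (iv0 D34562) D34565 F54825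
theorem F54830 : act 1 n34565 = n22103 := d15_0 (iv0 D22103) D22106 (iv2 F54825)
def n34566 : Q := act 1 n16759
theorem D34566 : act 1 n16759 = n34566 := rfl
theorem F54831 : act 1 n34566 = n22101 := d15_1 D34566 F34582 F28150
theorem F54832 : act 7 n34566 = n22100 := d15_2 F54777 D34566 (iv2 F54773)
theorem F54833 : act 5 n34566 = n17145 := d17_7 F13328 (iv5 D2604) D2601 (iv5 F13345) D12952 F27525 D34566 F28092 (iv4 D8044)
theorem F54834 : act 2 n18185 = n34566 := d2_3 F54833 (iv2 F28094) D18185
def n34567 : Q := act 6 n16759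
theorem D34567 : act 6 n16759 = n34567 := rfl
theorem F54835 : act 3 n34567 = n16761 := d7_1 D34567 (iv6 D16761) D16759
def n34568 : Q := act 6 n16760
theorem D34568 : act 6 n16760 = n34568 := rfl
theorem F54836 : act 2 n34568 = n18380 := d3_1 D34568 (iv6 D18380) (iv2 F27526)
theorem F54837 : act 3 n34568 = n27031 := d7_1 D34568 (iv6 D27031) (iv3 F27527)
theorem F54838 : act 4 n34568 = n19555 := d10_1 D34568 (iv6 D19555) (iv4 F27528)
def n34569 : Q := act 0 n16761
theorem D34569 : act 0 n16761 = n34569 := rfl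
def n34570 : Q := act 1 n16761
theorem D34570 : act 1 n16761 = n34570 := rfl
def n34571 : Q := act 5 n16761
theorem D34571 : act 5 n16761 = n34571 := rfl
theorem F54840 : act 2 n34571 = n21957 := d2_1 D34571 (iv5 D21957) (iv2 F27532)
def n34572 : Q := act 7 n16761
theorem D34572 : act 7 n16761 = n34572 := rfl
theorem F54841 : act 2 n34572 = n21958 := d4_1 D34572 (iv7 D21958) (iv2 F27532)
theorem F54842 : act 4 n34572 = n21879 := d11_1 D34572 (iv7 D21879) (iv4 F27533)
theorem F54843 : act 6 n34572 = n22106 := d14_1 D34572 (iv7 D22106) (iv6 D10535) (iv7 F12378) D16761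
theorem F54844 : act 1 n21958 = n34569 := d15_0 (iv0 D34569) D34572 F54841
theorem F54845 : act 1 n21956 = n34572 := d15_1 D21956 (iv7 D34572) F27532
theorem F54846 : act 1 n34572 = n21955 := d15_0 (iv0 D21955) D21958 (iv2 F54841)
def n34573 : Q := act 3 n16762
theorem D34573 : act 3 n16762 = n34573 := rfl
def n34574 : Q := act 6 n16762
theorem D34574 : act 6 n16762 = n34574 := rfl
def n34575 : Q := act 3 n16763
theorem D34575 : act 3 n16763 = n34575 := rfl
theorem F54847 : act 5 n34575 = n26378 := d6_2 F42578 D34575 F42579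
theorem F54848 : act 7 n34575 = n33184 := d8_2 F42855 D34575 F52410
theorem F54849 : act 2 n33194 = n34575 := d2_3 F54847 F42103 D33194
def n34576 : Q := act 6 n16763
theorem D34576 : act 6 n16763 = n34576 := rfl
def n34577 : Q := act 5 n16764
theorem D34577 : act 5 n16764 = n34577 := rfl
theorem F54850 : act 2 n34577 = n16765 := d2_1 D34577 (iv5 D16765) D16764
theorem F54851 : act 0 n34577 = n26583 := d17_2 (iv1 F42851) D34577 (iv5 D26583) D26582 F42572 F41897 (iv5 F46079) F51521 F51519
theorem F54852 : act 1 n34577 = n26578 := d17_6 D6014 (iv5 F27027) (iv1 F11549) (iv5 F12395) (iv4 F27534) D34577 (iv5 D26578) (iv0 D12706) (iv4 D6016)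
def n34578 : Q := act 6 n16764
theorem D34578 : act 6 n16764 = n34578 := rfl
theorem F54853 : act 2 n34578 = n16766 := d3_1 D34578 (iv6 D16766) D16764
theorem F54854 : act 4 n34578 = n16791 := d10_1 D34578 (iv6 D16791) (iv4 F27534)
def n34579 : Q := act 4 n16765
theorem D34579 : act 4 n16765 = n34579 := rfl
theorem F54855 : act 0 n34579 = n17911 := d18_2 F29542 D34579 F29914 (iv5 D18637) (iv4 D8748) (iv0 D3911) (iv4 F5846) D8651 D18367
def n34580 : Q := act 6 n16765
theorem D34580 : act 6 n16765 = n34580 := rfl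
theorem F54856 : act 3 n34580 = n16767 := d7_1 D34580 (iv6 D16767) (iv3 F27535)
def n34581 : Q := act 0 n16766
theorem D34581 : act 0 n16766 = n34581 := rfl
def n34582 : Q := act 1 n16766
theorem D34582 : act 1 n16766 = n34582 := rfl
def n34583 : Q := act 5 n16766
theorem D34583 : act 5 n16766 = n34583 := rfl
theorem F54857 : act 3 n34583 = n16771 := d6_1 D34583 (iv5 D16771) (iv3 F27536)
def n34584 : Q := act 7 n16766
theorem D34584 : act 7 n16766 = n34584 := rfl
theorem F54858 : act 3 n34584 = n16772 := d8_1 D34584 (iv7 D16772) (iv3 F27536)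
theorem F54859 : act 4 n34584 = n16795 := d11_1 D34584 (iv7 D16795) (iv4 F27537)
def n34585 : Q := act 0 n16767
theorem D34585 : act 0 n16767 = n34585 := rfl
def n34586 : Q := act 1 n16767
theorem D34586 : act 1 n16767 = n34586 := rfl
def n34587 : Q := act 5 n16767
theorem D34587 : act 5 n16767 = n34587 := rfl
theorem F54860 : act 6 n34587 = n16771 := d12_2 D16767 D34587 (iv5 D16771) (iv6 D7830) D7829
def n34588 : Q := act 7 n16767
theorem D34588 : act 7 n16767 = n34588 := rfl
def n34589 : Q := act 6 n16768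
theorem D34589 : act 6 n16768 = n34589 := rfl
theorem F54861 : act 2 n34589 = n19630 := d3_1 D34589 (iv6 D19630) (iv2 F27538)
theorem F54862 : act 4 n34589 = n19526 := d10_1 D34589 (iv6 D19526) (iv4 F27539)
def n34590 : Q := act 2 n16769
theorem D34590 : act 2 n16769 = n34590 := rfl
theorem F54863 : act 7 n16770 = n34590 := d15_2 (iv0 D16769) D16770 (iv2 D34590)
def n34591 : Q := act 3 n16769
theorem D34591 : act 3 n16769 = n34591 := rfl
def n34592 : Q := act 4 n16769
theorem D34592 : act 4 n16769 = n34592 := rfl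
def n34593 : Q := act 5 n16769
theorem D34593 : act 5 n16769 = n34593 := rfl
def n34594 : Q := act 6 n16769
theorem D34594 : act 6 n16769 = n34594 := rfl
def n34595 : Q := act 7 n16769
theorem D34595 : act 7 n16769 = n34595 := rfl
theorem F54864 : act 2 n34595 = n16770 := d4_1 D34595 F54863 (iv2 D34590)
def n34596 : Q := act 3 n16770
theorem D34596 : act 3 n16770 = n34596 := rfl
def n34597 : Q := act 4 n16770
theorem D34597 : act 4 n16770 = n34597 := rfl
def n34598 : Q := act 5 n16770
theorem D34598 : act 5 n16770 = n34598 := rfl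
def n34599 : Q := act 6 n16770
theorem D34599 : act 6 n16770 = n34599 := rfl
def n34600 : Q := act 0 n16771
theorem D34600 : act 0 n16771 = n34600 := rfl
def n34601 : Q := act 1 n16771
theorem D34601 : act 1 n16771 = n34601 := rfl
def n34602 : Q := act 4 n16771
theorem D34602 : act 4 n16771 = n34602 := rfl
def n34603 : Q := act 7 n16771
theorem D34603 : act 7 n16771 = n34603 := rfl
theorem F54865 : act 5 n34603 = n16772 := d13_1 D34603 (iv7 D16772) D16771
def n34604 : Q := act 6 n16772
theorem D34604 : act 6 n16772 = n34604 := rfl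
theorem F54866 : act 4 n34604 = n16784 := d10_1 D34604 (iv6 D16784) (iv4 F27541)
theorem F54867 : act 7 n34604 = n16773 := d14_2 D16772 D34604 (iv6 D16773) (iv7 D7831) D7830
def n34605 : Q := act 0 n16773
theorem D34605 : act 0 n16773 = n34605 := rfl
def n34606 : Q := act 1 n16773
theorem D34606 : act 1 n16773 = n34606 := rfl
def n34607 : Q := act 5 n16773
theorem D34607 : act 5 n16773 = n34607 := rfl
def n34610 : Q := act 3 n16774
theorem D34610 : act 3 n16774 = n34610 := rfl
theorem F54870 : act 7 n34610 = n16780 := d8_2 F27543 D34610 (iv3 D16780)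
def n34611 : Q := act 4 n16774
theorem D34611 : act 4 n16774 = n34611 := rfl
theorem F54871 : act 2 n34611 = n16776 := d1_1 D34611 (iv4 D16776) D16774
theorem F54872 : act 7 n34611 = n16781 := d11_2 F27543 D34611 (iv4 D16781)
def n34612 : Q := act 5 n16774
theorem D34612 : act 5 n16774 = n34612 := rfl
theorem F54873 : act 2 n34612 = n16777 := d2_1 D34612 (iv5 D16777) D16774
theorem F54874 : act 7 n34612 = n16782 := d13_2 F27543 D34612 (iv5 D16782)
def n34613 : Q := act 6 n16774
theorem D34613 : act 6 n16774 = n34613 := rfl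
theorem F54875 : act 2 n34613 = n16778 := d3_1 D34613 (iv6 D16778) D16774
def n34614 : Q := act 0 n16775
theorem D34614 : act 0 n16775 = n34614 := rfl
def n34615 : Q := act 1 n16775
theorem D34615 : act 1 n16775 = n34615 := rfl
def n34616 : Q := act 2 n16775
theorem D34616 : act 2 n16775 = n34616 := rfl
def n34617 : Q := act 4 n16775
theorem D34617 : act 4 n16775 = n34617 := rfl
def n34618 : Q := act 5 n16775
theorem D34618 : act 5 n16775 = n34618 := rfl
theorem F54876 : act 3 n34618 = n16777 := d6_1 D34618 (iv5 D16777) D16775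
def n34619 : Q := act 6 n16775
theorem D34619 : act 6 n16775 = n34619 := rfl
theorem F54877 : act 3 n34619 = n16778 := d7_1 D34619 (iv6 D16778) D16775
def n34620 : Q := act 7 n16775
theorem D34620 : act 7 n16775 = n34620 := rfl
def n34621 : Q := act 0 n16776
theorem D34621 : act 0 n16776 = n34621 := rfl
def n34622 : Q := act 1 n16776
theorem D34622 : act 1 n16776 = n34622 := rfl
theorem F54879 : act 1 n34622 = n16781 := d15_1 D34622 (iv7 F54872) F54871
def n34623 : Q := act 3 n16776
theorem D34623 : act 3 n16776 = n34623 := rfl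
def n34624 : Q := act 5 n16776
theorem D34624 : act 5 n16776 = n34624 := rfl
def n34625 : Q := act 6 n16776
theorem D34625 : act 6 n16776 = n34625 := rfl
theorem F54880 : act 4 n34625 = n16778 := d10_1 D34625 (iv6 D16778) D16776
def n34626 : Q := act 7 n16776
theorem D34626 : act 7 n16776 = n34626 := rfl
theorem F54881 : act 2 n34626 = n16781 := d4_1 D34626 (iv7 F54872) F54871
theorem F54883 : act 1 n16781 = n34621 := d15_0 (iv0 D34621) D34626 F54881
def n34627 : Q := act 0 n16777
theorem D34627 : act 0 n16777 = n34627 := rfl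
theorem F54884 : act 5 n34627 = n18337 := d21_2 D16777 D34627 (iv6 D18337) (iv1 D8639) (iv6 D3879) F7110 (iv1 D1563) D1565 D3554 D7832
def n34628 : Q := act 1 n16777
theorem D34628 : act 1 n16777 = n34628 := rfl
theorem F54885 : act 1 n34628 = n16782 := d15_1 D34628 (iv7 F54874) F54873
def n34629 : Q := act 4 n16777
theorem D34629 : act 4 n16777 = n34629 := rfl
def n34630 : Q := act 6 n16777
theorem D34630 : act 6 n16777 = n34630 := rfl
theorem F54886 : act 0 n34630 = n18172 := d21_4 (iv5 F5575) D7832 D16777 D34630 (iv6 D18172) D18171 F29611 (iv5 D18447) (iv6 D8674) (iv1 D3887)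
def n34631 : Q := act 7 n16777
theorem D34631 : act 7 n16777 = n34631 := rfl
theorem F54887 : act 2 n34631 = n16782 := d4_1 D34631 (iv7 F54874) F54873
theorem F54889 : act 1 n16782 = n34627 := d15_0 (iv0 D34627) D34631 F54887
def n34632 : Q := act 0 n16778
theorem D34632 : act 0 n16778 = n34632 := rfl
def n34633 : Q := act 1 n16778
theorem D34633 : act 1 n16778 = n34633 := rfl
def n34634 : Q := act 5 n16778
theorem D34634 : act 5 n16778 = n34634 := rfl
theorem F54890 : act 0 n34634 = n18126 := d21_7 F7110 (iv1 D1563) D1565 D3554 D7832 D16778 D34634 (iv5 D18126) (iv6 D8544) (iv1 F5805)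
theorem F54891 : act 0 n18448 = n34634 := d21_7 F27467 (iv1 F13530) D8673 (iv6 F13581) (iv1 F13529) D8675 D18448 (iv5 D34634) (iv6 D16778) (iv1 F27470)
def n34635 : Q := act 7 n16778
theorem D34635 : act 7 n16778 = n34635 := rfl
def n34636 : Q := act 6 n16779
theorem D34636 : act 6 n16779 = n34636 := rfl
theorem F54892 : act 2 n34636 = n16783 := d3_1 D34636 (iv6 D16783) (iv2 F27544)
def n34637 : Q := act 0 n16780
theorem D34637 : act 0 n16780 = n34637 := rfl
def n34638 : Q := act 1 n16780
theorem D34638 : act 1 n16780 = n34638 := rfl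
def n34639 : Q := act 2 n16780
theorem D34639 : act 2 n16780 = n34639 := rfl
def n34640 : Q := act 4 n16780
theorem D34640 : act 4 n16780 = n34640 := rfl
def n34641 : Q := act 5 n16780
theorem D34641 : act 5 n16780 = n34641 := rfl
theorem F54893 : act 3 n34641 = n16782 := d6_1 D34641 (iv5 D16782) D16780
def n34642 : Q := act 6 n16780
theorem D34642 : act 6 n16780 = n34642 := rfl
theorem F54894 : act 3 n34642 = n16783 := d7_1 D34642 (iv6 D16783) D16780
def n34643 : Q := act 3 n16781
theorem D34643 : act 3 n16781 = n34643 := rfl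
def n34644 : Q := act 5 n16781
theorem D34644 : act 5 n16781 = n34644 := rfl
def n34645 : Q := act 6 n16781
theorem D34645 : act 6 n16781 = n34645 := rfl
theorem F54895 : act 4 n34645 = n16783 := d10_1 D34645 (iv6 D16783) D16781
def n34646 : Q := act 4 n16782
theorem D34646 : act 4 n16782 = n34646 := rfl
def n34647 : Q := act 0 n16783
theorem D34647 : act 0 n16783 = n34647 := rfl
def n34648 : Q := act 1 n16783
theorem D34648 : act 1 n16783 = n34648 := rfl
def n34649 : Q := act 5 n16783
theorem D34649 : act 5 n16783 = n34649 := rfl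
theorem F54896 : act 0 n18298 = n34649 := d21_1 D18298 (iv5 D34649) (iv6 D16783) (iv1 D7833) (iv6 D3554) (iv5 D1565) D1562 (iv5 F7229) D3874 D8627
def n34650 : Q := act 7 n16783
theorem D34650 : act 7 n16783 = n34650 := rfl
def n34651 : Q := act 5 n16784
theorem D34651 : act 5 n16784 = n34651 := rfl
theorem F54897 : act 3 n34651 = n16851 := d6_1 D34651 (iv5 D16851) (iv3 F27545)
theorem F54898 : act 6 n34651 = n18448 := d12_2 D16784 D34651 (iv5 D18448) (iv6 D8675) (iv5 F12387)
theorem F54899 : act 7 n34651 = n16787 := d13_2 (iv7 F27546) D34651 (iv5 D16787)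
def n34652 : Q := act 2 n16785
theorem D34652 : act 2 n16785 = n34652 := rfl
theorem F54900 : act 7 n16786 = n34652 := d15_2 (iv0 D16785) D16786 (iv2 D34652)
def n34653 : Q := act 3 n16785
theorem D34653 : act 3 n16785 = n34653 := rfl
def n34654 : Q := act 4 n16785
theorem D34654 : act 4 n16785 = n34654 := rfl
def n34655 : Q := act 5 n16785
theorem D34655 : act 5 n16785 = n34655 := rfl
def n34656 : Q := act 7 n16785
theorem D34656 : act 7 n16785 = n34656 := rfl
def n34657 : Q := act 3 n16786
theorem D34657 : act 3 n16786 = n34657 := rfl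
def n34658 : Q := act 4 n16786
theorem D34658 : act 4 n16786 = n34658 := rfl
def n34659 : Q := act 5 n16786
theorem D34659 : act 5 n16786 = n34659 := rfl
def n34660 : Q := act 6 n16786
theorem D34660 : act 6 n16786 = n34660 := rfl
def n34661 : Q := act 0 n16787
theorem D34661 : act 0 n16787 = n34661 := rfl
def n34662 : Q := act 1 n16787
theorem D34662 : act 1 n16787 = n34662 := rfl
def n34663 : Q := act 4 n16787
theorem D34663 : act 4 n16787 = n34663 := rfl
theorem F54902 : act 6 n34663 = n16790 := d10_2 (iv6 F27548) D34663 (iv4 D16790)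
def n34664 : Q := act 5 n16788
theorem D34664 : act 5 n16788 = n34664 := rfl
theorem F54903 : act 3 n34664 = n16789 := d6_1 D34664 (iv5 D16789) D16788
theorem F54904 : act 7 n34664 = n18462 := d13_2 (iv7 F27551) D34664 (iv5 D18462)
theorem F54905 : act 1 n34664 = n34463 := d17_6 (iv1 F21416) D26962 F43509 (iv5 F28268) (iv4 F27549) D34664 (iv5 D34463) F28261 (iv4 D17326)
theorem F54906 : act 0 n34664 = n34441 := d21_1 D34664 F54645 F28179 F28615 (iv6 D17602) (iv5 F27472) (iv1 F27475) F13306 D17141 (iv1 F28086)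
def n34665 : Q := act 4 n16789
theorem D34665 : act 4 n16789 = n34665 := rfl
theorem F54907 : act 2 n34665 = n18467 := d1_1 D34665 (iv4 D18467) (iv2 F27552)
theorem F54908 : act 7 n34665 = n18464 := d11_2 (iv7 F27553) D34665 (iv4 D18464)
theorem F54909 : act 0 n34665 = n34479 := d18_2 (iv1 F27555) D34665 F54713 F28516 (iv4 F27424) (iv0 D16720) F12346 F17500 D8140
theorem F54910 : act 1 n34665 = n34478 := d18_6 F14284 F14283 D9697 F15130 D16789 D34665 F54712 F31936 (iv5 D10833)
def n34666 : Q := act 6 n16789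
theorem D34666 : act 6 n16789 = n34666 := rfl
theorem F54911 : act 2 n34666 = n18468 := d3_1 D34666 (iv6 D18468) (iv2 F27552)
theorem F54912 : act 5 n34666 = n34473 := d12_1 D34666 (iv6 D34473) F27443 F12392 D16789
def n34667 : Q := act 0 n16790
theorem D34667 : act 0 n16790 = n34667 := rfl
theorem F54913 : act 4 n34667 = n19500 := d18_3 F27406 D16790 D34667 F31225 F14313 F17448 (iv4 F6232) (iv0 F17488) D16713
theorem F54914 : act 1 n18128 = n34667 := d15_0 (iv0 D34667) F27556 (iv2 F29297)
theorem F54915 : act 2 n18473 = n34667 := d1_3 F54913 (iv2 F32311) (iv4 F32316)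
theorem F54916 : act 7 n18472 = n34667 := d11_0 F54913 (iv7 D19500) (iv4 F29655)
def n34668 : Q := act 1 n16790
theorem D34668 : act 1 n16790 = n34668 := rfl
theorem F54917 : act 1 n34668 = n18128 := d15_1 D34668 (iv7 F54663) F54662
theorem F54918 : act 7 n34668 = n18473 := d15_2 (iv0 D34667) D34668 F54915
theorem F54919 : act 4 n34668 = n19476 := d18_7 (iv1 F16821) F6057 (iv1 F7112) (iv4 F5579) D7837 D16790 D34668 F31149 (iv5 D10458)
theorem F54920 : act 2 n18472 = n34668 := d1_3 F54919 F31147 (iv4 F29655)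
def n34669 : Q := act 3 n16790
theorem D34669 : act 3 n16790 = n34669 := rfl
theorem F54921 : act 4 n34669 = n16864 := d5_2 D16790 D34669 (iv3 D16864) (iv4 D7860) (iv3 F12393)
theorem F54922 : act 7 n34669 = n18474 := d8_2 (iv7 F27556) D34669 (iv3 D18474)
def n34670 : Q := act 5 n16790
theorem D34670 : act 5 n16790 = n34670 := rfl
theorem F54923 : act 2 n34670 = n22978 := d2_1 D34670 (iv5 F54664) F54662
theorem F54924 : act 7 n34670 = n18475 := d13_2 (iv7 F27556) D34670 (iv5 D18475)
theorem F54925 : act 4 n34670 = n21876 := d16_2 D16790 D34670 (iv5 D21876) (iv4 D10433) (iv5 D4725) (iv4 F5808) D8545 (iv7 F27400) F27399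
def n34671 : Q := act 0 n16791
theorem D34671 : act 0 n16791 = n34671 := rfl
def n34672 : Q := act 1 n16791
theorem D34672 : act 1 n16791 = n34672 := rfl
theorem F54926 : act 1 n34672 = n16795 := d15_1 D34672 (iv7 D16795) (iv2 F27557)
def n34673 : Q := act 7 n16791
theorem D34673 : act 7 n16791 = n34673 := rfl
theorem F54927 : act 2 n34673 = n16795 := d4_1 D34673 (iv7 D16795) (iv2 F27557)
theorem F54928 : act 1 n16795 = n34671 := d15_0 (iv0 D34671) D34673 F54927
theorem F54929 : act 1 n16793 = n34673 := d15_1 D16793 (iv7 D34673) F27557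
theorem F54930 : act 1 n34673 = n16792 := d15_0 (iv0 D16792) D16795 (iv2 F54927)
def n34674 : Q := act 2 n16792
theorem D34674 : act 2 n16792 = n34674 := rfl
theorem F54931 : act 7 n16793 = n34674 := d15_2 (iv0 D16792) D16793 (iv2 D34674)
def n34675 : Q := act 3 n16792
theorem D34675 : act 3 n16792 = n34675 := rfl
def n34676 : Q := act 4 n16792
theorem D34676 : act 4 n16792 = n34676 := rfl
def n34677 : Q := act 5 n16792
theorem D34677 : act 5 n16792 = n34677 := rfl
def n34678 : Q := act 6 n16792
theorem D34678 : act 6 n16792 = n34678 := rfl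
def n34679 : Q := act 7 n16792
theorem D34679 : act 7 n16792 = n34679 := rfl
theorem F54932 : act 2 n34679 = n16793 := d4_1 D34679 F54931 (iv2 D34674)
def n34680 : Q := act 3 n16793
theorem D34680 : act 3 n16793 = n34680 := rfl
def n34681 : Q := act 4 n16793
theorem D34681 : act 4 n16793 = n34681 := rfl
def n34682 : Q := act 5 n16793
theorem D34682 : act 5 n16793 = n34682 := rfl
def n34683 : Q := act 6 n16793
theorem D34683 : act 6 n16793 = n34683 := rfl
def n34684 : Q := act 0 n16794
theorem D34684 : act 0 n16794 = n34684 := rfl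
def n34685 : Q := act 1 n16794
theorem D34685 : act 1 n16794 = n34685 := rfl
def n34686 : Q := act 4 n16794
theorem D34686 : act 4 n16794 = n34686 := rfl
theorem F54933 : act 6 n34686 = n32368 := d10_2 (iv6 F27559) D34686 (iv4 D32368)
def n34687 : Q := act 7 n16794
theorem D34687 : act 7 n16794 = n34687 := rfl
theorem F54934 : act 3 n34687 = n16808 := d8_1 D34687 (iv7 D16808) (iv3 F27558)
theorem F54935 : act 5 n34687 = n16795 := d13_1 D34687 (iv7 D16795) D16794
def n34688 : Q := act 0 n16797
theorem D34688 : act 0 n16797 = n34688 := rfl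
def n34689 : Q := act 1 n16797
theorem D34689 : act 1 n16797 = n34689 := rfl
def n34690 : Q := act 2 n16797
theorem D34690 : act 2 n16797 = n34690 := rfl
def n34691 : Q := act 4 n16797
theorem D34691 : act 4 n16797 = n34691 := rfl
def n34692 : Q := act 5 n16797
theorem D34692 : act 5 n16797 = n34692 := rfl
theorem F54936 : act 3 n34692 = n16799 := d6_1 D34692 (iv5 D16799) D16797
def n34693 : Q := act 1 n16799
theorem D34693 : act 1 n16799 = n34693 := rfl
theorem F54937 : act 1 n34693 = n16803 := d15_1 D34693 F51335 F51333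
theorem F54938 : act 5 n34693 = n18685 := d17_7 (iv1 F30450) (iv5 F30454) F30456 (iv5 D17132) F28964 D16799 D34693 F44899 F44896
def n34694 : Q := act 4 n16799
theorem D34694 : act 4 n16799 = n34694 := rfl
theorem F54939 : act 5 n34694 = n18708 := d16_1 D34694 (iv4 D18708) (iv5 F27296) (iv4 F28971) F28051 F28979 D16803 F51335 F51333
def n34695 : Q := act 0 n16801
theorem D34695 : act 0 n16801 = n34695 := rfl
def n34696 : Q := act 1 n16801
theorem D34696 : act 1 n16801 = n34696 := rfl
def n34697 : Q := act 2 n16801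
theorem D34697 : act 2 n16801 = n34697 := rfl
def n34698 : Q := act 4 n16801
theorem D34698 : act 4 n16801 = n34698 := rfl
def n34699 : Q := act 5 n16801
theorem D34699 : act 5 n16801 = n34699 := rfl
theorem F54940 : act 3 n34699 = n16803 := d6_1 D34699 (iv5 D16803) D16801
def n34700 : Q := act 6 n16801
theorem D34700 : act 6 n16801 = n34700 := rfl
theorem F54941 : act 3 n34700 = n16804 := d7_1 D34700 (iv6 D16804) D16801
def n34701 : Q := act 4 n16803
theorem D34701 : act 4 n16803 = n34701 := rfl
theorem F54942 : act 5 n34701 = n18703 := d9_2 D16803 D34701 (iv4 D18703) D18704 F29965 (iv5 D17132) F28964 D16799 D34694 F54939 (iv4 D18708) (iv5 F27296) (iv4 F28971) F28051 F28979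
def n34702 : Q := act 6 n16803
theorem D34702 : act 6 n16803 = n34702 := rfl
theorem F54943 : act 0 n31894 = n34702 := d21_4 F24859 (iv1 F20666) D15018 D31894 (iv6 D34702) (iv5 D16803) (iv1 D7843) D7844 F12397 D15271
def n34703 : Q := act 3 n16805
theorem D34703 : act 3 n16805 = n34703 := rfl
def n34704 : Q := act 4 n16805
theorem D34704 : act 4 n16805 = n34704 := rfl
theorem F54944 : act 5 n34704 = n18695 := d16_1 D34704 (iv4 D18695) (iv5 D8769) F28977 D8913 (iv4 F29957) F27563 (iv7 F43093) (iv2 F43092)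
theorem F54945 : act 1 n34704 = n32808 := d18_6 (iv1 F41778) F41780 F30508 (iv4 F30425) F30426 D34704 (iv4 D32808) (iv0 F30059) (iv5 D18761)
def n34705 : Q := act 6 n16805
theorem D34705 : act 6 n16805 = n34705 := rfl
def n34706 : Q := act 3 n16806
theorem D34706 : act 3 n16806 = n34706 := rfl
theorem F54946 : act 5 n34706 = n27796 := d6_2 F27563 D34706 F44883
def n34707 : Q := act 4 n16806
theorem D34707 : act 4 n16806 = n34707 := rfl
theorem F54947 : act 5 n34707 = n18681 := d9_2 F27563 D34707 (iv4 D18681) (iv5 D8764) F28967 D8908 (iv4 F30425) F30426 D34704 F54944 (iv4 D18695) (iv5 D8769) F28977 D8913 (iv4 F29957)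
theorem F54948 : act 0 n34707 = n32808 := d18_2 (iv1 F43102) D34707 (iv4 D32808) (iv5 D15708) F11681 D8015 F28979 F21287 (iv5 F43101)
def n34708 : Q := act 6 n16806
theorem D34708 : act 6 n16806 = n34708 := rfl
theorem F54949 : act 5 n34708 = n27800 := d12_1 D34708 (iv6 D27800) (iv5 D13266) D13267 F27563
def n34709 : Q := act 0 n16807
theorem D34709 : act 0 n16807 = n34709 := rfl
theorem F54950 : act 5 n34709 = n18803 := d17_3 (iv1 F44937) F44935 D34709 (iv4 D18803) (iv5 D8810) F13668 D18743 F46252 F46251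
theorem F54951 : act 4 n34709 = n18771 := d18_3 (iv1 D16806) D16807 D34709 (iv5 D18771) (iv4 D8796) D8795 D18766 F30010 F27563
theorem F54952 : act 1 n18713 = n34709 := d15_0 (iv0 D34709) (iv7 F44932) F44930
def n34710 : Q := act 1 n16807
theorem D34710 : act 1 n16807 = n34710 := rfl
theorem F54953 : act 1 n34710 = n18713 := d15_1 D34710 F43098 F43095
theorem F54954 : act 4 n34710 = n18810 := d18_7 (iv1 F30052) (iv4 D7853) (iv1 D3560) (iv4 F5582) D7844 D16807 D34710 F51952 F51951
theorem F54955 : act 5 n18757 = n34710 := d9_0 F54954 (iv5 D18810) (iv4 D8812) (iv5 D3927) D3926 D8810 D18803 (iv5 F54950) F54951 (iv5 D18771) (iv4 D8796) (iv5 D3922) D3921 D8791 D18757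
def n34711 : Q := act 3 n16807
theorem D34711 : act 3 n16807 = n34711 := rfl
theorem F54956 : act 6 n34711 = n32376 := d7_2 (iv6 F27564) D34711 (iv3 D32376)
def n34712 : Q := act 6 n16808
theorem D34712 : act 6 n16808 = n34712 := rfl
theorem F54957 : act 7 n34712 = n32378 := d14_2 D16808 D34712 (iv6 D32378) (iv7 D15273) (iv6 F12397)
def n34713 : Q := act 2 n16815
theorem D34713 : act 2 n16815 = n34713 := rfl
theorem F54958 : act 7 n16816 = n34713 := d15_2 (iv0 D16815) D16816 (iv2 D34713)
def n34714 : Q := act 3 n16815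
theorem D34714 : act 3 n16815 = n34714 := rfl
def n34715 : Q := act 4 n16815
theorem D34715 : act 4 n16815 = n34715 := rfl
def n34716 : Q := act 5 n16815
theorem D34716 : act 5 n16815 = n34716 := rfl
def n34717 : Q := act 6 n16815
theorem D34717 : act 6 n16815 = n34717 := rfl
def n34718 : Q := act 7 n16815
theorem D34718 : act 7 n16815 = n34718 := rfl
theorem F54959 : act 2 n34718 = n16816 := d4_1 D34718 F54958 (iv2 D34713)
def n34719 : Q := act 3 n16816
theorem D34719 : act 3 n16816 = n34719 := rfl
def n34720 : Q := act 4 n16816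
theorem D34720 : act 4 n16816 = n34720 := rfl
def n34721 : Q := act 5 n16816
theorem D34721 : act 5 n16816 = n34721 := rfl
def n34723 : Q := act 4 n16817
theorem D34723 : act 4 n16817 = n34723 := rfl
theorem F54960 : act 2 n34723 = n16818 := d1_1 D34723 (iv4 D16818) D16817
def n34724 : Q := act 5 n16817
theorem D34724 : act 5 n16817 = n34724 := rfl
theorem F54961 : act 2 n34724 = n16819 := d2_1 D34724 (iv5 D16819) D16817
def n34725 : Q := act 6 n16817
theorem D34725 : act 6 n16817 = n34725 := rfl
theorem F54962 : act 2 n34725 = n16820 := d3_1 D34725 (iv6 D16820) D16817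
def n34726 : Q := act 0 n16818
theorem D34726 : act 0 n16818 = n34726 := rfl
def n34727 : Q := act 1 n16818
theorem D34727 : act 1 n16818 = n34727 := rfl
def n34728 : Q := act 3 n16818
theorem D34728 : act 3 n16818 = n34728 := rfl
theorem F54963 : act 4 n34728 = n16824 := d5_2 D16818 D34728 (iv3 D16824) (iv4 D7848) D7847
def n34729 : Q := act 5 n16818
theorem D34729 : act 5 n16818 = n34729 := rfl
def n34730 : Q := act 6 n16818
theorem D34730 : act 6 n16818 = n34730 := rfl
theorem F54964 : act 4 n34730 = n16820 := d10_1 D34730 (iv6 D16820) D16818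
def n34731 : Q := act 0 n16819
theorem D34731 : act 0 n16819 = n34731 := rfl
def n34732 : Q := act 1 n16819
theorem D34732 : act 1 n16819 = n34732 := rfl
def n34733 : Q := act 4 n16819
theorem D34733 : act 4 n16819 = n34733 := rfl
def n34734 : Q := act 6 n16819
theorem D34734 : act 6 n16819 = n34734 := rfl
theorem F54965 : act 3 n34734 = n16831 := d7_1 D34734 (iv6 D16831) (iv3 F27574)
def n34735 : Q := act 0 n16820
theorem D34735 : act 0 n16820 = n34735 := rfl
def n34736 : Q := act 1 n16820
theorem D34736 : act 1 n16820 = n34736 := rfl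
def n34737 : Q := act 7 n16820
theorem D34737 : act 7 n16820 = n34737 := rfl
theorem F54966 : act 3 n34737 = n16835 := d8_1 D34737 (iv7 D16835) (iv3 F27575)
theorem F54967 : act 5 n34737 = n18852 := d13_1 D34737 (iv7 F45060) F45059
def n34738 : Q := act 0 n16824
theorem D34738 : act 0 n16824 = n34738 := rfl
def n34739 : Q := act 1 n16824
theorem D34739 : act 1 n16824 = n34739 := rfl
def n34740 : Q := act 2 n16824
theorem D34740 : act 2 n16824 = n34740 := rfl
def n34741 : Q := act 5 n16824
theorem D34741 : act 5 n16824 = n34741 := rfl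
theorem F54968 : act 3 n34741 = n16825 := d6_1 D34741 (iv5 D16825) D16824
def n34742 : Q := act 6 n16824
theorem D34742 : act 6 n16824 = n34742 := rfl
theorem F54969 : act 3 n34742 = n16826 := d7_1 D34742 (iv6 D16826) D16824
def n34743 : Q := act 1 n16825
theorem D34743 : act 1 n16825 = n34743 := rfl
theorem F54970 : act 1 n34743 = n16844 := d15_1 D34743 (iv7 F43181) (iv2 F43205)
theorem F54971 : act 5 n34743 = n18760 := d17_7 (iv1 F13678) (iv5 F21794) F29710 (iv5 D7849) D7848 D16825 D34743 F29992 (iv4 D13286)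
theorem F54972 : act 6 n31810 = n34743 := d12_0 F54971 F46242 F46240 D29295 F50114
def n34744 : Q := act 4 n16825
theorem D34744 : act 4 n16825 = n34744 := rfl
theorem F54973 : act 5 n34744 = n18711 := d16_1 D34744 F46263 (iv5 F46261) (iv4 D16846) (iv5 D7854) D7853 D16844 (iv7 F43181) (iv2 F43205)
def n34745 : Q := act 6 n16825
theorem D34745 : act 6 n16825 = n34745 := rfl
theorem F54974 : act 0 n34745 = n31876 := d21_10 (iv5 D31876) (iv1 D15002) D15003 F24639 F11561 (iv6 F24881) (iv5 D15299) F30054 D16825 D34745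
def n34746 : Q := act 3 n16828
theorem D34746 : act 3 n16828 = n34746 := rfl
theorem F54975 : act 5 n34746 = n18612 := d6_2 (iv5 F27582) D34746 F29837
theorem F54976 : act 7 n34746 = n18099 := d8_2 (iv7 F29734) D34746 F29274
def n34747 : Q := act 3 n16830
theorem D34747 : act 3 n16830 = n34747 := rfl
def n34748 : Q := act 3 n16834
theorem D34748 : act 3 n16834 = n34748 := rfl
theorem F54977 : act 7 n34748 = n17979 := d8_2 (iv7 F29846) D34748 F29146
def n34749 : Q := act 2 n16837
theorem D34749 : act 2 n16837 = n34749 := rfl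
theorem F54978 : act 7 n16838 = n34749 := d15_2 (iv0 D16837) D16838 (iv2 D34749)
def n34750 : Q := act 3 n16837
theorem D34750 : act 3 n16837 = n34750 := rfl
def n34751 : Q := act 4 n16837
theorem D34751 : act 4 n16837 = n34751 := rfl
def n34752 : Q := act 5 n16837
theorem D34752 : act 5 n16837 = n34752 := rfl
def n34754 : Q := act 7 n16837
theorem D34754 : act 7 n16837 = n34754 := rfl
theorem F54979 : act 2 n34754 = n16838 := d4_1 D34754 F54978 (iv2 D34749)
def n34755 : Q := act 3 n16838
theorem D34755 : act 3 n16838 = n34755 := rfl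
def n34756 : Q := act 4 n16838
theorem D34756 : act 4 n16838 = n34756 := rfl
def n34757 : Q := act 5 n16838
theorem D34757 : act 5 n16838 = n34757 := rfl
def n34758 : Q := act 6 n16838
theorem D34758 : act 6 n16838 = n34758 := rfl
def n34759 : Q := act 4 n16839
theorem D34759 : act 4 n16839 = n34759 := rfl
theorem F54980 : act 2 n34759 = n16840 := d1_1 D34759 (iv4 D16840) D16839
def n34760 : Q := act 5 n16839
theorem D34760 : act 5 n16839 = n34760 := rfl
theorem F54981 : act 2 n34760 = n16841 := d2_1 D34760 (iv5 D16841) D16839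
def n34761 : Q := act 6 n16839
theorem D34761 : act 6 n16839 = n34761 := rfl
theorem F54982 : act 2 n34761 = n16842 := d3_1 D34761 (iv6 D16842) D16839
def n34762 : Q := act 0 n16840
theorem D34762 : act 0 n16840 = n34762 := rfl
def n34763 : Q := act 1 n16840
theorem D34763 : act 1 n16840 = n34763 := rfl
def n34764 : Q := act 3 n16840
theorem D34764 : act 3 n16840 = n34764 := rfl
theorem F54983 : act 4 n34764 = n16843 := d5_2 D16840 D34764 (iv3 D16843) (iv4 D7853) D7852
def n34765 : Q := act 5 n16840
theorem D34765 : act 5 n16840 = n34765 := rfl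
def n34766 : Q := act 6 n16840
theorem D34766 : act 6 n16840 = n34766 := rfl
theorem F54984 : act 4 n34766 = n16842 := d10_1 D34766 (iv6 D16842) D16840
def n34767 : Q := act 0 n16841
theorem D34767 : act 0 n16841 = n34767 := rfl
def n34768 : Q := act 1 n16841
theorem D34768 : act 1 n16841 = n34768 := rfl
def n34769 : Q := act 4 n16841
theorem D34769 : act 4 n16841 = n34769 := rfl
def n34770 : Q := act 0 n16842
theorem D34770 : act 0 n16842 = n34770 := rfl
def n34771 : Q := act 1 n16842
theorem D34771 : act 1 n16842 = n34771 := rfl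
def n34772 : Q := act 5 n16842
theorem D34772 : act 5 n16842 = n34772 := rfl
theorem F54985 : act 3 n34772 = n16849 := d6_1 D34772 (iv5 D16849) (iv3 F27590)
def n34773 : Q := act 7 n16842
theorem D34773 : act 7 n16842 = n34773 := rfl
theorem F54986 : act 3 n34773 = n16850 := d8_1 D34773 (iv7 D16850) (iv3 F27590)
def n34774 : Q := act 0 n16843
theorem D34774 : act 0 n16843 = n34774 := rfl
def n34775 : Q := act 1 n16843
theorem D34775 : act 1 n16843 = n34775 := rfl
def n34776 : Q := act 2 n16843
theorem D34776 : act 2 n16843 = n34776 := rfl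
def n34777 : Q := act 5 n16843
theorem D34777 : act 5 n16843 = n34777 := rfl
theorem F54987 : act 3 n34777 = n16844 := d6_1 D34777 (iv5 D16844) D16843
def n34778 : Q := act 6 n16843
theorem D34778 : act 6 n16843 = n34778 := rfl
theorem F54988 : act 3 n34778 = n16845 := d7_1 D34778 (iv6 D16845) D16843
def n34779 : Q := act 4 n16844
theorem D34779 : act 4 n16844 = n34779 := rfl
theorem F54989 : act 5 n34779 = n18710 := d9_2 D16844 D34779 (iv4 F46251) F46250 (iv4 D16830) (iv5 D7849) D7848 D16825 D34744 F54973 F46263 (iv5 F46261) (iv4 D16846) (iv5 D7854) D7853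
def n34780 : Q := act 6 n16844
theorem D34780 : act 6 n16844 = n34780 := rfl
theorem F54990 : act 0 n31801 = n34780 := d21_4 (iv5 D7156) (iv1 F26525) (iv5 F26681) D31801 (iv6 D34780) (iv5 D16844) (iv1 F30055) D15299 F24881 F26589
def n34781 : Q := act 3 n16846
theorem D34781 : act 3 n16846 = n34781 := rfl
theorem F54991 : act 6 n34781 = n32429 := d7_2 F43129 D34781 (iv3 D32429)
def n34782 : Q := act 3 n16847
theorem D34782 : act 3 n16847 = n34782 := rfl
theorem F54992 : act 5 n34782 = n27696 := d6_2 (iv5 F27592) D34782 (iv3 D27696)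
theorem F54993 : act 7 n34782 = n18077 := d8_2 (iv7 F29759) D34782 F29258
def n34783 : Q := act 4 n16849
theorem D34783 : act 4 n16849 = n34783 := rfl
theorem F54994 : act 0 n34783 = n26944 := d18_2 F27593 D34783 (iv4 D26944) (iv5 D12892) F41950 F20848 F20845 F9779 D8701
theorem F54995 : act 1 n34783 = n26937 := d18_6 (iv1 D17821) (iv4 F28948) (iv1 F51778) F27591 D16849 D34783 (iv4 D26937) D26936 (iv5 F43438)
def n34784 : Q := act 4 n16851
theorem D34784 : act 4 n16851 = n34784 := rfl
theorem F54996 : act 6 n34784 = n18813 := d10_2 (iv6 F27594) D34784 (iv4 D18813)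
theorem F54997 : act 7 n34784 = n16863 := d11_2 (iv7 F27595) D34784 (iv4 D16863)
def n34785 : Q := act 0 n16853
theorem D34785 : act 0 n16853 = n34785 := rfl
def n34786 : Q := act 1 n16853
theorem D34786 : act 1 n16853 = n34786 := rfl
def n34787 : Q := act 2 n16853
theorem D34787 : act 2 n16853 = n34787 := rfl
def n34788 : Q := act 4 n16853
theorem D34788 : act 4 n16853 = n34788 := rfl
def n34789 : Q := act 5 n16853
theorem D34789 : act 5 n16853 = n34789 := rfl
theorem F54998 : act 3 n34789 = n16855 := d6_1 D34789 (iv5 D16855) D16853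
def n34790 : Q := act 4 n16855
theorem D34790 : act 4 n16855 = n34790 := rfl
def n34791 : Q := act 0 n16857
theorem D34791 : act 0 n16857 = n34791 := rfl
def n34792 : Q := act 1 n16857
theorem D34792 : act 1 n16857 = n34792 := rfl
def n34793 : Q := act 2 n16857
theorem D34793 : act 2 n16857 = n34793 := rfl
def n34794 : Q := act 4 n16857
theorem D34794 : act 4 n16857 = n34794 := rfl
def n34795 : Q := act 5 n16857
theorem D34795 : act 5 n16857 = n34795 := rfl
theorem F54999 : act 3 n34795 = n16859 := d6_1 D34795 (iv5 D16859) D16857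
def n34796 : Q := act 6 n16857
theorem D34796 : act 6 n16857 = n34796 := rfl
theorem F55000 : act 3 n34796 = n16860 := d7_1 D34796 (iv6 D16860) D16857
def n34797 : Q := act 4 n16859
theorem D34797 : act 4 n16859 = n34797 := rfl
def n34798 : Q := act 3 n16861
theorem D34798 : act 3 n16861 = n34798 := rfl
def n34799 : Q := act 4 n16861
theorem D34799 : act 4 n16861 = n34799 := rfl
theorem F55001 : act 1 n34799 = n17115 := d18_6 (iv1 F30547) (iv4 F41951) F46235 F46233 F29723 D34799 (iv4 D17115) D17114 (iv5 F30545)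
def n34800 : Q := act 6 n16861
theorem D34800 : act 6 n16861 = n34800 := rfl
theorem F55002 : act 5 n34800 = n17880 := d12_1 D34800 (iv6 F44762) (iv5 F44761) (iv6 F44759) F29723
theorem F55003 : act 0 n34800 = n27698 := d21_4 (iv5 D18545) D18543 F29723 D34800 (iv6 D27698) (iv5 F22016) F29760 D16849 (iv6 F28000) F29724
theorem F55004 : act 0 n18604 = n34800 := d21_4 (iv5 D3909) D3907 D8735 D18604 (iv6 D34800) (iv5 F29723) (iv1 F29883) (iv5 F29896) (iv6 D18624) (iv1 D8743)
def n34801 : Q := act 3 n16862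
theorem D34801 : act 3 n16862 = n34801 := rfl
theorem F55005 : act 5 n34801 = n27891 := d6_2 F27598 D34801 F45031
def n34802 : Q := act 4 n16862
theorem D34802 : act 4 n16862 = n34802 := rfl
theorem F55006 : act 0 n34802 = n17115 := d18_2 (iv1 F28012) D34802 (iv4 D17115) (iv5 D8005) (iv4 F11677) D15699 F43178 F12760 (iv5 F28009)
def n34803 : Q := act 6 n16862
theorem D34803 : act 6 n16862 = n34803 := rfl
theorem F55007 : act 5 n34803 = n27894 := d12_1 D34803 (iv6 D27894) (iv5 D13299) D13300 F27598
def n34804 : Q := act 0 n16863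
theorem D34804 : act 0 n16863 = n34804 := rfl
theorem F55008 : act 4 n34804 = n17590 := d18_3 (iv1 D16862) D16863 D34804 (iv5 F28592) F53082 (iv0 F53092) F42347 (iv0 F29882) F27598
def n34805 : Q := act 1 n16863
theorem D34805 : act 1 n16863 = n34805 := rfl
theorem F55009 : act 4 n34805 = n17591 := d18_7 (iv1 F13146) (iv4 F42953) (iv1 D12793) F9412 D7859 D16863 D34805 F28585 F28054
def n34806 : Q := act 3 n16863
theorem D34806 : act 3 n16863 = n34806 := rfl
theorem F55010 : act 6 n34806 = n16864 := d7_2 (iv6 F27599) D34806 (iv3 D16864)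
def n34807 : Q := act 5 n16863
theorem D34807 : act 5 n16863 = n34807 := rfl
theorem F55011 : act 6 n34807 = n27910 := d12_2 (iv6 F27599) D34807 (iv5 D27910) F22109 (iv5 F12404)
def n34808 : Q := act 0 n16864
theorem D34808 : act 0 n16864 = n34808 := rfl
theorem F55012 : act 1 n18884 = n34808 := d15_0 (iv0 D34808) F27601 D18884
def n34809 : Q := act 1 n16864
theorem D34809 : act 1 n16864 = n34809 := rfl
def n34810 : Q := act 2 n16864
theorem D34810 : act 2 n16864 = n34810 := rfl
theorem F55013 : act 5 n34810 = n27922 := d2_2 (iv5 F27600) D34810 (iv2 D27922)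
theorem F55014 : act 7 n34810 = n18884 := d4_2 (iv7 F27601) D34810 (iv2 D18884)
theorem F55015 : act 1 n34810 = n18882 := d15_0 (iv0 D18882) (iv7 F27601) D34810
theorem F55016 : act 1 n34809 = n18884 := d15_1 D34809 (iv7 F55014) (iv2 D34810)
theorem F55017 : act 1 n18883 = n34810 := d15_1 D18883 F55014 (iv2 D18884)
def n34811 : Q := act 5 n16867
theorem D34811 : act 5 n16867 = n34811 := rfl
theorem F55018 : act 3 n34811 = n16870 := d6_1 D34811 (iv5 D16870) (iv3 F27610)
def n34812 : Q := act 3 n16868
theorem D34812 : act 3 n16868 = n34812 := rfl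
theorem F55019 : act 6 n34812 = n24058 := d7_2 F27614 D34812 (iv3 D24058)
theorem F55020 : act 7 n34812 = n25748 := d8_2 F27615 D34812 (iv3 D25748)
def n34813 : Q := act 5 n16868
theorem D34813 : act 5 n16868 = n34813 := rfl
theorem F55021 : act 2 n34813 = n25747 := d2_1 D34813 (iv5 D25747) F27613
theorem F55022 : act 7 n34813 = n25749 := d13_2 F27615 D34813 (iv5 D25749)
def n34814 : Q := act 5 n16869
theorem D34814 : act 5 n16869 = n34814 := rfl
theorem F55023 : act 2 n34814 = n25749 := d2_1 D34814 (iv5 D25749) (iv2 F27620)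
theorem F55024 : act 7 n34814 = n25747 := d13_2 (iv7 F27618) D34814 (iv5 D25747)
def n34815 : Q := act 0 n16870
theorem D34815 : act 0 n16870 = n34815 := rfl
theorem F55025 : act 5 n34815 = n29609 := d17_3 (iv1 D16869) D16870 D34815 F47547 (iv5 D16896) (iv0 D7878) F5606 F12469 F27619
theorem F55026 : act 2 n25751 = n34815 := d2_3 F55025 F47546 F46282
theorem F55027 : act 1 n25534 = n34815 := d17_6 F23474 F23472 F12412 F8857 (iv4 F20065) D25534 F55025 (iv0 F47548) F43319
theorem F55028 : act 7 n25752 = n34815 := d15_2 (iv0 D25751) D25752 (iv2 F55026)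
def n34816 : Q := act 1 n16870
theorem D34816 : act 1 n16870 = n34816 := rfl
theorem F55029 : act 1 n34816 = n25534 := d15_1 D34816 F40361 (iv2 F27621)
theorem F55030 : act 7 n34816 = n25751 := d15_2 (iv0 D34815) D34816 F55026
theorem F55031 : act 5 n34816 = n32355 := d17_7 (iv1 F25937) (iv5 D13685) (iv1 F12413) F5591 (iv4 F12409) D16870 D34816 (iv0 F53341) (iv4 D34018)
theorem F55032 : act 2 n25752 = n34816 := d4_3 F55030 F55026 (iv7 F55028)
def n34817 : Q := act 4 n16870
theorem D34817 : act 4 n16870 = n34817 := rfl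
theorem F55033 : act 2 n34817 = n25753 := d1_1 D34817 (iv4 D25753) (iv2 F27621)
def n34818 : Q := act 7 n16870
theorem D34818 : act 7 n16870 = n34818 := rfl
theorem F55034 : act 2 n34818 = n25534 := d4_1 D34818 F40361 (iv2 F27621)
theorem F55035 : act 5 n34818 = n16871 := d13_1 D34818 (iv7 D16871) D16870
theorem F55036 : act 1 n25752 = n34818 := d15_1 D25752 (iv7 D34818) F27621
theorem F55037 : act 1 n34818 = n25751 := d15_1 F55036 (iv7 F55030) (iv2 F55032)
def n34819 : Q := act 3 n16872
theorem D34819 : act 3 n16872 = n34819 := rfl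
theorem F55038 : act 4 n34819 = n34812 := d5_2 D16872 D34819 (iv3 D34812) F27612 (iv3 F12468)
theorem F55039 : act 6 n34819 = n24835 := d7_2 (iv6 F27628) D34819 (iv3 D24835)
theorem F55040 : act 7 n34819 = n25758 := d8_2 (iv7 F27629) D34819 (iv3 D25758)
def n34820 : Q := act 5 n16872
theorem D34820 : act 5 n16872 = n34820 := rfl
theorem F55041 : act 2 n34820 = n25755 := d2_1 D34820 (iv5 D25755) (iv2 F27627)
theorem F55042 : act 7 n34820 = n25759 := d13_2 (iv7 F27629) D34820 (iv5 D25759)
def n34821 : Q := act 5 n16874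
theorem D34821 : act 5 n16874 = n34821 := rfl
theorem F55043 : act 2 n34821 = n23890 := d2_1 D34821 (iv5 D23890) F37271
theorem F55044 : act 3 n34821 = n28566 := d6_1 D34821 (iv5 D28566) (iv3 F27632)
theorem F55045 : act 7 n34821 = n23875 := d13_2 F37272 D34821 (iv5 D23875)
theorem F55046 : act 1 n34821 = n33226 := d17_6 (iv1 D7247) D7250 D15318 F43048 D16874 D34821 F52459 (iv0 F40393) (iv4 D15310)
def n34822 : Q := act 6 n16874
theorem D34822 : act 6 n16874 = n34822 := rfl
theorem F55047 : act 2 n34822 = n23891 := d3_1 D34822 (iv6 D23891) F37271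
theorem F55048 : act 3 n34822 = n28567 := d7_1 D34822 (iv6 D28567) (iv3 F27632)
theorem F55049 : act 4 n34822 = n16876 := d10_1 D34822 (iv6 D16876) D16874
theorem F55050 : act 7 n34822 = n32914 := d14_2 F37272 D34822 (iv6 F54259) F54256 (iv6 D23876)
theorem F55051 : act 0 n31927 = n34822 := d20_1 (iv4 F50248) F55049 F27636 (iv1 F50825) F10561 F4491 D2892 F12422 D7615 (iv1 F43610)
theorem F55052 : act 0 n34822 = n26427 := d20_1 (iv4 F55049) F42235 (iv3 F42227) (iv1 F42262) F21026 F9323 (iv1 F5550) (iv4 F12656) D12571 (iv1 F50829)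
def n34823 : Q := act 5 n16876
theorem D34823 : act 5 n16876 = n34823 := rfl
theorem F55053 : act 2 n34823 = n23896 := d2_1 D34823 (iv5 D23896) F37274
theorem F55054 : act 3 n34823 = n28578 := d6_1 D34823 (iv5 D28578) (iv3 F27636)
theorem F55055 : act 7 n34823 = n32915 := d13_2 (iv7 F50889) D34823 (iv5 D32915)
theorem F55056 : act 0 n26363 = n34823 := d21_7 D11193 (iv1 F18158) F30276 D16968 F54154 D17033 (iv5 F42058) (iv5 D34823) (iv6 D16876) (iv1 F12432)
theorem F55057 : act 1 n32939 = n34823 := d15_0 (iv0 F55056) F42059 D32939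
def n34824 : Q := act 5 n16879
theorem D34824 : act 5 n16879 = n34824 := rfl
theorem F55058 : act 2 n34824 = n23875 := d2_1 D34824 (iv5 D23875) (iv2 F37235)
theorem F55059 : act 3 n34824 = n23968 := d6_1 D34824 (iv5 D23968) F27646
theorem F55060 : act 7 n34824 = n23890 := d13_2 (iv7 F37236) D34824 (iv5 D23890)
theorem F55061 : act 0 n34824 = n33226 := d17_2 F27647 D34824 F52459 F40390 D27013 F43646 (iv5 D26486) F26665 D15916
def n34825 : Q := act 0 n16882
theorem D34825 : act 0 n16882 = n34825 := rfl
theorem F55062 : act 6 n34825 = n29201 := d21_5 (iv5 F30279) (iv1 F18160) F13868 D16882 D34825 F46854 (iv1 D24313) (iv5 D11446) F8100 D7246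
theorem F55063 : act 2 n16883 = n34825 := d15_3 (iv0 D34825) F50933 (iv7 F50865)
theorem F55064 : act 7 n34825 = n16884 := d4_2 (iv7 F50865) F55063 F51727
theorem F55065 : act 1 n16886 = n34825 := d15_1 (iv0 F50934) F55064 F51727
def n34826 : Q := act 5 n16882
theorem D34826 : act 5 n16882 = n34826 := rfl
theorem F55066 : act 2 n34826 = n16885 := d2_1 D34826 (iv5 D16885) (iv2 F27648)
theorem F55067 : act 3 n34826 = n28504 := d6_1 D34826 (iv5 D28504) (iv3 F27649)
def n34827 : Q := act 7 n16882
theorem D34827 : act 7 n16882 = n34827 := rfl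
theorem F55068 : act 2 n34827 = n16886 := d4_1 D34827 (iv7 D16886) (iv2 F27648)
theorem F55069 : act 3 n34827 = n28397 := d8_1 D34827 F45935 (iv3 F27649)
theorem F55070 : act 4 n34827 = n33284 := d11_1 D34827 F52513 (iv4 F42291)
theorem F55071 : act 6 n34827 = n23837 := d14_1 D34827 F37175 F18139 (iv7 F12434) D16882
theorem F55072 : act 1 n16884 = n34827 := d15_1 D16884 (iv7 D34827) F27648
theorem F55073 : act 1 n34827 = n16883 := d15_1 F55072 F50865 (iv2 F51727)
def n34828 : Q := act 4 n16883
theorem D34828 : act 4 n16883 = n34828 := rfl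
theorem F55074 : act 3 n34828 = n32914 := d5_1 D34828 (iv4 D32914) (iv3 F45996) F50867 (iv3 F50864)
theorem F55075 : act 6 n34828 = n33121 := d10_2 F54272 D34828 F52348
theorem F55076 : act 7 n34828 = n28567 := d11_2 (iv7 F50865) D34828 F46146
theorem F55077 : act 0 n34828 = n26459 := d20_1 D34828 (iv4 D26459) (iv3 F42230) (iv1 F41479) (iv3 D12746) (iv4 F12027) (iv1 D3569) (iv4 F5594) (iv3 F12438) D16883
theorem F55078 : act 0 n26457 = n34828 := d20_10 (iv4 D34828) (iv1 F55073) F55070 (iv3 D33284) (iv1 F50919) F40602 (iv4 F40608) F50888 (iv4 F25579) (iv3 F42316)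
def n34829 : Q := act 5 n16883
theorem D34829 : act 5 n16883 = n34829 := rfl
theorem F55079 : act 3 n34829 = n28600 := d6_1 D34829 F46161 (iv3 F50864)
theorem F55080 : act 7 n34829 = n28573 := d13_2 (iv7 F50865) D34829 (iv5 D28573)
def n34830 : Q := act 3 n16884
theorem D34830 : act 3 n16884 = n34830 := rfl
theorem F55081 : act 2 n34830 = n25684 := d0_1 D34830 F40607 F22795 (iv3 F22799) (iv2 F51727)
theorem F55082 : act 6 n34830 = n25671 := d7_2 (iv6 F51728) D34830 F40590
theorem F55083 : act 4 n34830 = n25680 := d20_6 F50788 (iv1 F24741) (iv4 F45934) (iv3 F55069) (iv1 F55072) D34830 F50920 F25510 (iv3 F26595) (iv1 F50787)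
theorem F55084 : act 0 n26338 = n34830 := d20_10 F55083 F50920 F25510 (iv3 F26595) (iv1 F50787) (iv3 F25742) (iv4 F51150) F51152 F51000 D26338
theorem F55085 : act 1 n32741 = n34830 := d15_0 (iv0 F55084) F42005 (iv2 F51826)
def n34831 : Q := act 4 n16884
theorem D34831 : act 4 n16884 = n34831 := rfl
theorem F55086 : act 2 n34831 = n28567 := d1_1 D34831 F46146 (iv2 F51727)
theorem F55087 : act 6 n34831 = n23970 := d10_2 (iv6 F51728) D34831 (iv4 F37448)
theorem F55088 : act 0 n34831 = n26457 := d20_1 D34831 (iv4 D26457) F27210 (iv1 F51004) F25742 F50788 (iv1 F24741) (iv4 F45934) (iv3 F55069) (iv1 F55072)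
theorem F55089 : act 0 n26459 = n34831 := d20_1 D26459 (iv4 D34831) D34830 (iv1 F55085) F52472 (iv4 D33238) (iv1 F42597) (iv4 D26603) (iv3 F42266) (iv1 F42268)
theorem F55090 : act 3 n23973 = n34831 := d7_3 F55087 (iv3 D23970) D23973
theorem F55091 : act 0 n23973 = n28493 := d20_4 (iv4 F55070) (iv1 F55072) D34831 (iv3 F55090) (iv3 D28493) F22742 F18258 (iv4 F27328) (iv3 F42297) F52514
def n34832 : Q := act 5 n16884
theorem D34832 : act 5 n16884 = n34832 := rfl
theorem F55092 : act 2 n34832 = n28573 := d2_1 D34832 (iv5 D28573) (iv2 F51727)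
def n34833 : Q := act 0 n16885
theorem D34833 : act 0 n16885 = n34833 := rfl
def n34834 : Q := act 1 n16885
theorem D34834 : act 1 n16885 = n34834 := rfl
def n34835 : Q := act 4 n16885
theorem D34835 : act 4 n16885 = n34835 := rfl
def n34836 : Q := act 7 n16885
theorem D34836 : act 7 n16885 = n34836 := rfl
theorem F55093 : act 3 n34836 = n16888 := d8_1 D34836 (iv7 D16888) (iv3 F27650)
theorem F55094 : act 5 n34836 = n16886 := d13_1 D34836 (iv7 D16886) D16885
def n34837 : Q := act 3 n16887
theorem D34837 : act 3 n16887 = n34837 := rfl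
def n34838 : Q := act 6 n16888
theorem D34838 : act 6 n16888 = n34838 := rfl
theorem F55095 : act 2 n34838 = n28487 := d3_1 D34838 F46007 (iv2 F27654)
theorem F55096 : act 5 n34838 = n23861 := d12_1 D34838 (iv6 D23861) F18149 (iv6 F12442) (iv5 F27655)
def n34839 : Q := act 5 n16890
theorem D34839 : act 5 n16890 = n34839 := rfl
theorem F55097 : act 2 n34839 = n23932 := d2_1 D34839 (iv5 D23932) (iv2 F27663)
theorem F55098 : act 7 n34839 = n23934 := d13_2 (iv7 F27661) D34839 (iv5 D23934)
theorem F55099 : act 0 n34839 = n25542 := d17_2 (iv1 F27665) D34839 (iv5 D25542) F26344 D12924 (iv0 F21484) (iv5 F18406) F26280 F22296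
theorem F55100 : act 1 n34839 = n25580 := d17_6 (iv1 F8886) D8180 F12953 (iv5 F18626) F27662 D34839 (iv5 D25580) F20114 F12920
def n34840 : Q := act 4 n16892
theorem D34840 : act 4 n16892 = n34840 := rfl
theorem F55101 : act 3 n34840 = n23935 := d5_1 D34840 (iv4 D23935) F18210 (iv4 F12463) (iv3 F27671)
theorem F55102 : act 7 n34840 = n23935 := d11_2 (iv7 F27672) D34840 (iv4 D23935)
theorem F55103 : act 5 n34840 = n21441 := d16_1 D34840 F33682 F32550 F20150 F26789 F22296 (iv5 F28367) (iv7 F40470) (iv2 F40472)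
theorem F55104 : act 1 n34840 = n21249 := d18_6 F37048 F37047 F26279 (iv4 F12460) D16892 D34840 (iv4 F43589) (iv0 F51674) (iv5 D32622)
def n34841 : Q := act 6 n16892
theorem D34841 : act 6 n16892 = n34841 := rfl
theorem F55105 : act 3 n34841 = n16893 := d7_1 D34841 (iv6 D16893) (iv3 F27671)
def n34842 : Q := act 0 n16893
theorem D34842 : act 0 n16893 = n34842 := rfl
def n34843 : Q := act 1 n16893
theorem D34843 : act 1 n16893 = n34843 := rfl
def n34844 : Q := act 5 n16893
theorem D34844 : act 5 n16893 = n34844 := rfl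
theorem F55106 : act 6 n34844 = n16894 := d12_2 D16893 D34844 (iv5 D16894) (iv6 D7877) D7876
def n34845 : Q := act 7 n16893
theorem D34845 : act 7 n16893 = n34845 := rfl
theorem F55107 : act 4 n34845 = n23939 := d11_1 D34845 (iv7 D23939) (iv4 F27674)
theorem F55108 : act 6 n34845 = n23939 := d14_1 D34845 (iv7 D23939) (iv6 D11216) (iv7 F12462) D16893
def n34846 : Q := act 0 n16894
theorem D34846 : act 0 n16894 = n34846 := rfl
theorem F55109 : act 5 n34846 = n25757 := d17_3 F20225 D16894 D34846 (iv4 D25757) (iv5 D12225) (iv0 D5791) F3815 D5792 D12226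
def n34847 : Q := act 1 n16894
theorem D34847 : act 1 n16894 = n34847 := rfl
theorem F55110 : act 5 n25760 = n34847 := d21_6 D6463 (iv1 F20073) (iv5 D12138) D12139 (iv1 F27820) (iv6 F40686) (iv1 D34847) (iv5 D16894) (iv6 D7877) F5604
def n34848 : Q := act 4 n16894
theorem D34848 : act 4 n16894 = n34848 := rfl
def n34849 : Q := act 7 n16894
theorem D34849 : act 7 n16894 = n34849 := rfl
theorem F55111 : act 3 n34849 = n28495 := d8_1 D34849 F46028 F40513
theorem F55112 : act 5 n34849 = n16895 := d13_1 D34849 (iv7 D16895) D16894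
def n34850 : Q := act 2 n16897
theorem D34850 : act 2 n16897 = n34850 := rfl
theorem F55113 : act 7 n16898 = n34850 := d15_2 (iv0 D16897) D16898 (iv2 D34850)
def n34851 : Q := act 3 n16897
theorem D34851 : act 3 n16897 = n34851 := rfl
theorem F55114 : act 4 n34851 = n23961 := d20_6 F8865 (iv1 F4125) D3573 D7880 D16897 D34851 (iv1 D23961) F18240 (iv3 D5763) (iv1 F8863)
theorem F55115 : act 0 n20532 = n34851 := d20_10 F55114 (iv1 D23961) F18240 (iv3 D5763) (iv1 F8863) D12140 F26344 (iv1 F18256) F25137 (iv3 F32635)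
theorem F55116 : act 0 n34851 = n32414 := d20_1 (iv4 F55114) F51465 F40453 F24929 F24928 (iv4 D12927) (iv1 F9532) (iv4 F12507) (iv3 F27683) (iv1 F37426)
def n34852 : Q := act 4 n16897
theorem D34852 : act 4 n16897 = n34852 := rfl
theorem F55117 : act 0 n34852 = n23963 := d20_1 D34852 F37429 F20107 (iv1 F26342) (iv3 D12140) F8865 (iv1 F4125) D3573 D7880 D16897
theorem F55118 : act 0 n20022 = n34852 := d20_10 (iv4 D34852) (iv1 F37425) F37423 F20105 (iv1 F20088) D25546 F40390 (iv1 F26784) F27726 (iv3 F31857)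
def n34853 : Q := act 5 n16897
theorem D34853 : act 5 n16897 = n34853 := rfl
def n34854 : Q := act 6 n16897
theorem D34854 : act 6 n16897 = n34854 := rfl
def n34855 : Q := act 7 n16897
theorem D34855 : act 7 n16897 = n34855 := rfl
theorem F55119 : act 2 n34855 = n16898 := d4_1 D34855 F55113 (iv2 D34850)
def n34856 : Q := act 3 n16898
theorem D34856 : act 3 n16898 = n34856 := rfl
def n34857 : Q := act 4 n16898
theorem D34857 : act 4 n16898 = n34857 := rfl
theorem F55120 : act 0 n34857 = n20022 := d20_1 D34857 F31858 F31855 (iv1 F27856) (iv3 D16979) (iv4 D7931) (iv1 F9535) (iv4 F21469) (iv3 F37422) (iv1 F37427)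
theorem F55121 : act 3 n34857 = n23960 := d20_3 (iv4 F37423) (iv1 F37427) D34857 (iv1 F37421) F27683 F12507 (iv1 F9536) D12932 (iv3 F37002) (iv1 F37003)
theorem F55122 : act 0 n32340 = n34856 := d20_4 F27853 D26299 F41888 D32340 (iv3 D34856) D34857 F55120 F31858 F31855 (iv1 F27856)
theorem F55123 : act 0 n23963 = n34857 := d20_10 (iv4 D34857) (iv1 D16898) (iv4 F18053) (iv3 D11125) F7563 D7886 F12487 (iv1 F26346) (iv4 F18243) (iv3 F37428)
def n34858 : Q := act 6 n16898
theorem D34858 : act 6 n16898 = n34858 := rfl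
def n34859 : Q := act 5 n16899
theorem D34859 : act 5 n16899 = n34859 := rfl
theorem F55124 : act 2 n34859 = n16900 := d2_1 D34859 (iv5 D16900) D16899
theorem F55125 : act 3 n34859 = n16929 := d6_1 D34859 (iv5 D16929) (iv3 F27683)
theorem F55126 : act 6 n34859 = n20779 := d12_2 (iv6 F27684) D34859 (iv5 D20779) (iv6 D9874) (iv5 F15219)
theorem F55127 : act 7 n34859 = n25718 := d13_2 F37424 D34859 F40634
theorem F55128 : act 1 n25717 = n34859 := d15_1 D25717 F55127 (iv2 D25718)
theorem F55129 : act 1 n34859 = n25633 := d15_0 F41850 (iv7 F27686) (iv2 F55124)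
theorem E5848 : n25634 = n25500 := ((c21_5 (iv5 D9398) (iv1 F6336) D9741 F27048 D25500 (iv6 D25634) D25633 (iv1 F55129) (iv5 D34859) F27684 (iv1 F15220))).symm
theorem F55130 : act 6 n25500 = n12185 := (sb E5848 (iv6 D25634))
def n34860 : Q := act 0 n16900
theorem D34860 : act 0 n16900 = n34860 := rfl
theorem F55131 : act 1 n25718 = n34860 := d15_0 (iv0 D34860) F27686 D25718
def n34861 : Q := act 1 n16900
theorem D34861 : act 1 n16900 = n34861 := rfl
theorem F55132 : act 1 n34861 = n25718 := d15_1 D34861 (iv7 F55127) F55124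
def n34862 : Q := act 4 n16900
theorem D34862 : act 4 n16900 = n34862 := rfl
theorem F55133 : act 3 n34862 = n17393 := d5_1 D34862 (iv4 D17393) F12916 (iv4 F12476) (iv3 F27685)
theorem F55134 : act 7 n34862 = n25719 := d11_2 (iv7 F27686) D34862 (iv4 D25719)
def n34863 : Q := act 0 n16901
theorem D34863 : act 0 n16901 = n34863 := rfl
def n34864 : Q := act 1 n16901
theorem D34864 : act 1 n16901 = n34864 := rfl
theorem F55135 : act 1 n34864 = n16942 := d15_1 D34864 (iv7 D16942) (iv2 F27687)
def n34865 : Q := act 7 n16901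
theorem D34865 : act 7 n16901 = n34865 := rfl
theorem F55136 : act 2 n34865 = n16942 := d4_1 D34865 (iv7 D16942) (iv2 F27687)
theorem F55137 : act 4 n34865 = n17400 := d11_1 D34865 (iv7 D17400) (iv4 F27688)
theorem F55138 : act 6 n34865 = n25724 := d14_1 D34865 (iv7 D25724) (iv6 D12214) (iv7 F12475) D16901
theorem F55139 : act 1 n16942 = n34863 := d15_0 (iv0 D34863) D34865 F55136
theorem F55140 : act 1 n16940 = n34865 := d15_1 D16940 (iv7 D34865) F27687
theorem F55141 : act 1 n34865 = n16939 := d15_0 (iv0 D16939) D16942 (iv2 F55136)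
def n34866 : Q := act 4 n16904
theorem D34866 : act 4 n16904 = n34866 := rfl
theorem F55142 : act 5 n34866 = n21247 := d16_1 D34866 F33474 (iv5 F45916) F45917 F37386 (iv4 F18250) D17401 (iv7 F40468) F40467
theorem F55143 : act 1 n34866 = n21175 := d18_8 D21172 F33418 F31792 (iv4 F17724) (iv5 F34132) (iv4 F37357) F37358 D34866 (iv5 D21175)
def n34867 : Q := act 6 n16904
theorem D34867 : act 6 n16904 = n34867 := rfl
theorem F55144 : act 3 n34867 = n16905 := d7_1 D34867 (iv6 D16905) (iv3 F27700)
def n34868 : Q := act 0 n16905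
theorem D34868 : act 0 n16905 = n34868 := rfl
def n34869 : Q := act 1 n16905
theorem D34869 : act 1 n16905 = n34869 := rfl
def n34870 : Q := act 5 n16905
theorem D34870 : act 5 n16905 = n34870 := rfl
theorem F55145 : act 6 n34870 = n16906 := d12_2 D16905 D34870 (iv5 D16906) (iv6 D7888) D7887
def n34871 : Q := act 7 n16905
theorem D34871 : act 7 n16905 = n34871 := rfl
def n34872 : Q := act 0 n16906
theorem D34872 : act 0 n16906 = n34872 := rfl
theorem F55146 : act 5 n34872 = n25487 := d17_3 F24851 D16906 D34872 F40300 F20043 (iv0 D7223) F5315 D7224 D15251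
theorem F55147 : act 3 n26193 = n34872 := d6_3 F55146 F40299 D26193
theorem F55148 : act 7 n25486 = n34872 := d13_0 F55146 (iv7 D25487) D25486
def n34873 : Q := act 1 n16906
theorem D34873 : act 1 n16906 = n34873 := rfl
theorem F55149 : act 5 n34873 = n23740 := d17_7 (iv1 D13548) F12491 (iv1 D7890) F5612 (iv4 F12490) D16906 D34873 (iv0 F37704) F37346
theorem F55150 : act 2 n25486 = n34873 := d2_3 F55149 F36962 D25486
def n34874 : Q := act 4 n16906
theorem D34874 : act 4 n16906 = n34874 := rfl
def n34875 : Q := act 7 n16906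
theorem D34875 : act 7 n16906 = n34875 := rfl
theorem F55151 : act 3 n34875 = n25483 := d8_1 D34875 F40290 F40243
theorem F55152 : act 5 n34875 = n16907 := d13_1 D34875 (iv7 D16907) D16906
theorem F55153 : act 1 n25486 = n34875 := d15_1 F40378 (iv7 D34875) (iv2 F40377)
def n34876 : Q := act 3 n16908
theorem D34876 : act 3 n16908 = n34876 := rfl
theorem F55154 : act 7 n34876 = n32356 := d8_2 (iv7 F27705) D34876 (iv3 D32356)
def n34877 : Q := act 5 n16908
theorem D34877 : act 5 n16908 = n34877 := rfl
theorem F55155 : act 2 n34877 = n32354 := d2_1 D34877 (iv5 D32354) (iv2 F27704)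
theorem F55156 : act 7 n34877 = n32357 := d13_2 (iv7 F27705) D34877 (iv5 D32357)
theorem F55157 : act 0 n34877 = n31891 := d17_2 F27707 D34877 (iv5 D31891) (iv4 D15014) F20039 (iv0 F27813) (iv5 D16959) (iv0 D7917) (iv4 F12505)
def n34878 : Q := act 6 n16908
theorem D34878 : act 6 n16908 = n34878 := rfl
theorem F55158 : act 2 n34878 = n32355 := d3_1 D34878 (iv6 D32355) (iv2 F27704)
theorem F55159 : act 4 n34878 = n16910 := d10_1 D34878 (iv6 D16910) D16908
theorem F55160 : act 7 n34878 = n29609 := d14_2 (iv7 F27705) D34878 (iv6 D29609) F23482 (iv6 F24846)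
theorem F55161 : act 5 n34878 = n25752 := d21_6 D7762 (iv1 F12503) (iv5 D7895) D7896 F27707 D34878 (iv1 D25752) (iv5 D12223) (iv6 D5790) (iv1 F5542)
theorem F55162 : act 1 n16947 = n34878 := d15_1 F46283 F55160 F47546
def n34879 : Q := act 4 n16909
theorem D34879 : act 4 n16909 = n34879 := rfl
theorem F55163 : act 2 n34879 = n25499 := d1_1 D34879 F40330 (iv2 F27708)
theorem F55164 : act 3 n34879 = n20016 := d5_1 D34879 F31846 (iv3 F37345) (iv4 F37343) F27810
theorem F55165 : act 6 n34879 = n20014 := d10_2 F37397 D34879 (iv4 F37395)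
theorem F55166 : act 7 n34879 = n23743 := d11_2 (iv7 F27709) D34879 F36969
theorem F55167 : act 0 n34879 = n25489 := d18_2 F27711 D34879 (iv4 D25489) (iv5 F20039) D15014 (iv0 F36970) F36969 F26923 (iv5 F26388)
theorem F55168 : act 1 n34879 = n25488 := d18_6 (iv1 D7918) (iv4 F12505) F27707 (iv4 D16908) D16909 D34879 (iv4 D25488) (iv0 D12113) F12521
def n34880 : Q := act 5 n16911
theorem D34880 : act 5 n16911 = n34880 := rfl
theorem F55169 : act 2 n34880 = n32357 := d2_1 D34880 (iv5 D32357) (iv2 F27717)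
theorem F55170 : act 7 n34880 = n32354 := d13_2 (iv7 F27719) D34880 (iv5 D32354)
theorem F55171 : act 1 n34880 = n31891 := d17_6 F27343 F27340 (iv1 D13548) F12491 D16911 D34880 (iv5 D31891) (iv0 F36970) F36969
def n34881 : Q := act 4 n16912
theorem D34881 : act 4 n16912 = n34881 := rfl
theorem F55172 : act 2 n34881 = n26702 := d1_1 D34881 F42809 (iv2 F42934)
theorem F55173 : act 3 n34881 = n17407 := d5_1 D34881 F28375 (iv3 D16965) D16966 (iv3 F27823)
theorem F55174 : act 0 n34856 = n34881 := d20_10 (iv4 D34881) (iv1 F40369) F40367 F40366 (iv1 D12161) (iv3 F20107) (iv4 F37429) F55123 (iv4 D34857) D34856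
def n34882 : Q := act 6 n16912
theorem D34882 : act 6 n16912 = n34882 := rfl
def n34883 : Q := act 1 n16915
theorem D34883 : act 1 n16915 = n34883 := rfl
theorem F55175 : act 7 n34883 = n23972 := d15_2 (iv0 F54194) D34883 F51622
theorem F55176 : act 2 n23968 = n34883 := d4_3 F55175 F51622 F51620
theorem F55177 : act 5 n23966 = n34883 := d13_3 F55175 (iv5 D23972) (iv7 F37439)
theorem F55178 : act 3 n34883 = n32999 := d6_1 F55177 (iv5 D32999) (iv3 F37438)
def n34884 : Q := act 6 n16915
theorem D34884 : act 6 n16915 = n34884 := rfl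
theorem F55179 : act 3 n34884 = n16916 := d7_1 D34884 (iv6 D16916) (iv3 F27724)
def n34885 : Q := act 0 n16916
theorem D34885 : act 0 n16916 = n34885 := rfl
def n34886 : Q := act 1 n16916
theorem D34886 : act 1 n16916 = n34886 := rfl
def n34887 : Q := act 7 n16916
theorem D34887 : act 7 n16916 = n34887 := rfl
def n34888 : Q := act 5 n16918
theorem D34888 : act 5 n16918 = n34888 := rfl
theorem F55180 : act 2 n34888 = n16919 := d2_1 D34888 (iv5 D16919) D16918
theorem F55181 : act 3 n34888 = n32342 := d6_1 D34888 (iv5 D32342) (iv3 F27729)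
theorem F55182 : act 7 n34888 = n32411 := d13_2 (iv7 F27731) D34888 (iv5 D32411)
theorem F55183 : act 0 n34888 = n26488 := d17_2 (iv1 F27732) D34888 (iv5 D26488) (iv4 D12649) D12650 D26491 F42391 F26661 F27040
theorem F55184 : act 1 n34888 = n32415 := d17_6 D7865 (iv5 F43048) (iv1 F25194) F25192 (iv4 F27730) D34888 F51468 (iv0 D16865) F12406
def n34889 : Q := act 6 n16918
theorem D34889 : act 6 n16918 = n34889 := rfl
theorem F55185 : act 2 n34889 = n16920 := d3_1 D34889 (iv6 D16920) D16918
theorem F55186 : act 3 n34889 = n32343 := d7_1 D34889 (iv6 D32343) (iv3 F27729)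
theorem F55187 : act 4 n34889 = n16969 := d10_1 D34889 (iv6 D16969) (iv4 F27730)
theorem F55188 : act 5 n31947 = n34889 := d21_2 D15074 D31947 (iv6 D34889) (iv1 F27733) F26660 D26987 (iv1 F43573) (iv5 D15941) (iv6 F26625) (iv1 D15073)
theorem F55189 : act 0 n23833 = n34889 := d21_4 D29696 (iv1 F54411) (iv5 D34289) (iv6 F37163) (iv6 D34889) D34888 F55183 (iv5 D26488) D26489 F42389
theorem F55190 : act 1 n28360 = n34889 := d15_0 (iv0 F55189) F37164 D28360
theorem F55191 : act 7 n28359 = n34889 := d8_0 F55186 (iv7 F51365) (iv3 F45911)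
def n34890 : Q := act 4 n16919
theorem D34890 : act 4 n16919 = n34890 := rfl
theorem F55192 : act 3 n34890 = n26706 := d5_1 D34890 (iv4 D26706) F21196 (iv4 F12502) (iv3 F27738)
theorem F55193 : act 7 n34890 = n32416 := d11_2 (iv7 F27739) D34890 (iv4 D32416)
def n34891 : Q := act 6 n16919
theorem D34891 : act 6 n16919 = n34891 := rfl
theorem F55195 : act 3 n34891 = n16921 := d7_1 D34891 (iv6 D16921) (iv3 F27738)
def n34892 : Q := act 1 n16920
theorem D34892 : act 1 n16920 = n34892 := rfl
theorem F55196 : act 1 n34892 = n28359 := d15_1 D34892 F55191 F55185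
theorem F55197 : act 7 n34892 = n28360 := d15_2 (iv0 F27742) D34892 (iv2 D28360)
theorem F55198 : act 4 n23836 = n34892 := d20_0 (iv1 D34892) F27741 F12542 (iv1 F12555) F26593 F11333 (iv1 F20566) D26100 (iv3 F41285) (iv1 F37170)
theorem F55199 : act 2 n34892 = n23833 := d1_1 F55198 F37162 D23836
theorem F55200 : act 6 n34892 = n34286 := d10_2 (iv6 F37168) F55198 (iv4 D34286)
def n34893 : Q := act 5 n16920
theorem D34893 : act 5 n16920 = n34893 := rfl
theorem F55201 : act 2 n34893 = n31947 := d2_1 D34893 F55188 F55185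
theorem F55202 : act 3 n34893 = n16922 := d6_1 D34893 (iv5 D16922) (iv3 F27740)
theorem F55203 : act 0 n34893 = n26163 := d17_2 (iv1 D34892) D34893 (iv5 D26163) (iv4 D12410) D12411 D26166 F50532 F37172 F55198
theorem F55204 : act 0 n31939 = n34893 := d21_1 D31939 (iv5 D34893) (iv6 D16920) (iv1 F26704) (iv6 D12920) D12919 (iv1 F42274) (iv5 D26440) F41497 (iv1 F41496)
theorem F55205 : act 7 n31948 = n34893 := d15_2 (iv0 D31947) D31948 F55201
def n34894 : Q := act 7 n16920
theorem D34894 : act 7 n16920 = n34894 := rfl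
theorem F55206 : act 2 n34894 = n28359 := d4_1 D34894 F55191 F55185
theorem F55207 : act 3 n34894 = n16923 := d8_1 D34894 (iv7 D16923) (iv3 F27740)
theorem F55208 : act 4 n34894 = n16973 := d11_1 D34894 (iv7 D16973) (iv4 F27741)
theorem F55209 : act 5 n34894 = n31948 := d13_1 D34894 F55205 (iv5 D34893)
theorem F55210 : act 6 n34894 = n24234 := d14_1 D34894 (iv7 D24234) F18634 (iv7 F12500) D16920
theorem F55211 : act 1 n23833 = n34894 := d15_1 (iv0 F55189) (iv7 D34894) (iv2 F55185)
theorem F55212 : act 1 n34894 = n28360 := d15_1 F55211 (iv7 F55197) F55199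
def n34895 : Q := act 0 n16921
theorem D34895 : act 0 n16921 = n34895 := rfl
def n34896 : Q := act 1 n16921
theorem D34896 : act 1 n16921 = n34896 := rfl
theorem F55213 : act 1 n34896 = n32353 := d15_1 D34896 (iv7 D32353) (iv2 F27743)
def n34897 : Q := act 5 n16921
theorem D34897 : act 5 n16921 = n34897 := rfl
theorem F55214 : act 2 n34897 = n32352 := d2_1 D34897 (iv5 D32352) (iv2 F27743)
theorem F55215 : act 6 n34897 = n16922 := d12_2 D16921 D34897 (iv5 D16922) (iv6 D7896) D7895
def n34898 : Q := act 7 n16921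
theorem D34898 : act 7 n16921 = n34898 := rfl
theorem F55216 : act 2 n34898 = n32353 := d4_1 D34898 (iv7 D32353) (iv2 F27743)
theorem F55217 : act 4 n34898 = n26710 := d11_1 D34898 (iv7 D26710) (iv4 F27744)
theorem F55218 : act 1 n32353 = n34895 := d15_0 (iv0 D34895) D34898 F55216
theorem F55219 : act 1 n32351 = n34898 := d15_1 D32351 (iv7 D34898) F27743
theorem F55220 : act 1 n34898 = n32350 := d15_0 (iv0 D32350) D32353 (iv2 F55216)
def n34899 : Q := act 0 n16922
theorem D34899 : act 0 n16922 = n34899 := rfl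
theorem F55221 : act 5 n34899 = n34879 := d17_3 F27720 D16922 D34899 (iv4 D34879) (iv5 D16909) (iv0 D7889) F5612 D7890 D16911
theorem F55222 : act 2 n32358 = n34899 := d15_3 (iv0 D34899) (iv0 F40329) F51384
theorem F55223 : act 7 n34899 = n32359 := d4_2 F51384 F55222 (iv2 F51386)
theorem F55224 : act 1 n32361 = n34899 := d15_1 F51388 F55223 (iv2 F51386)
def n34900 : Q := act 4 n16922
theorem D34900 : act 4 n16922 = n34900 := rfl
theorem F55225 : act 2 n34900 = n32360 := d1_1 D34900 (iv4 D32360) (iv2 F27745)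
def n34901 : Q := act 7 n16922
theorem D34901 : act 7 n16922 = n34901 := rfl
theorem F55226 : act 2 n34901 = n32361 := d4_1 D34901 (iv7 D32361) (iv2 F27745)
theorem F55227 : act 3 n34901 = n31948 := d8_1 D34901 F55205 F55202
theorem F55228 : act 5 n34901 = n16923 := d13_1 D34901 (iv7 D16923) D16922
theorem F55229 : act 1 n32359 = n34901 := d15_1 D32359 (iv7 D34901) F27745
theorem F55230 : act 1 n34901 = n32358 := d15_1 F55229 (iv7 F51384) F51386
def n34902 : Q := act 6 n16925
theorem D34902 : act 6 n16925 = n34902 := rfl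
theorem F55231 : act 2 n34902 = n33060 := d3_1 D34902 (iv6 D33060) (iv2 F35192)
def n34903 : Q := act 0 n16926
theorem D34903 : act 0 n16926 = n34903 := rfl
theorem F55232 : act 4 n34903 = n16984 := d20_2 (iv4 F27758) D34903 (iv3 F50653) (iv1 F41180) (iv3 F41172) F41173 (iv1 F41189) F54264 (iv3 F54263) F54267
theorem F55233 : act 2 n31573 = n34903 := d15_3 (iv0 D34903) (iv0 F51408) F51407
theorem F55234 : act 7 n34903 = n31574 := d4_2 F51407 F55233 (iv2 F51404)
theorem F55235 : act 1 n25248 = n34903 := d15_1 (iv0 F51409) F55234 (iv2 F51404)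
def n34904 : Q := act 5 n16926
theorem D34904 : act 5 n16926 = n34904 := rfl
theorem F55236 : act 2 n34904 = n31575 := d2_1 D34904 (iv5 D31575) (iv2 F27757)
theorem F55237 : act 1 n34904 = n31952 := d17_6 D11175 D23841 F50925 (iv5 D31572) (iv4 F27758) D34904 (iv5 D31952) (iv0 F27006) F18046
def n34905 : Q := act 7 n16926
theorem D34905 : act 7 n16926 = n34905 := rfl
theorem F55238 : act 2 n34905 = n25248 := d4_1 D34905 F39802 (iv2 F27757)
theorem F55239 : act 3 n34905 = n31516 := d8_1 D34905 F49853 F28382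
theorem F55240 : act 4 n34905 = n25289 := d11_1 D34905 F39935 (iv4 F27758)
theorem F55241 : act 6 n34905 = n34288 := d14_1 D34905 F54404 (iv6 D26986) (iv7 F26712) D16926
theorem F55242 : act 1 n31574 = n34905 := d15_1 D31574 (iv7 D34905) F27757
theorem F55243 : act 1 n34905 = n31573 := d15_1 F55242 (iv7 F51407) F51404
def n34906 : Q := act 4 n16927
theorem D34906 : act 4 n16927 = n34906 := rfl
theorem F55244 : act 2 n34906 = n33057 := d1_1 D34906 (iv4 D33057) (iv2 F35195)
theorem F55245 : act 7 n34906 = n33059 := d11_2 (iv7 F35194) D34906 (iv4 D33059)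
def n34907 : Q := act 6 n16927
theorem D34907 : act 6 n16927 = n34907 := rfl
theorem F55246 : act 2 n34907 = n33058 := d3_1 D34907 (iv6 D33058) (iv2 F35195)
def n34908 : Q := act 1 n16928
theorem D34908 : act 1 n16928 = n34908 := rfl
theorem F55247 : act 1 n34908 = n34288 := d15_1 D34908 F54404 F43565
theorem F55248 : act 7 n34908 = n34286 := d15_2 (iv0 F27761) D34908 F54395
theorem F55249 : act 4 n16996 = n34908 := d20_0 (iv1 D34908) F27760 (iv3 D13447) (iv1 F10641) D13829 F23098 F50485 (iv4 F49924) F50489 (iv1 F50505)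
theorem F55250 : act 2 n34908 = n24015 := d1_1 F55249 F37545 (iv2 F50506)
def n34909 : Q := act 5 n16928
theorem D34909 : act 5 n16928 = n34909 := rfl
theorem F55251 : act 3 n34909 = n25330 := d6_1 D34909 (iv5 D25330) (iv3 F27759)
def n34910 : Q := act 4 n16929
theorem D34910 : act 4 n16929 = n34910 := rfl
theorem F55252 : act 2 n34910 = n16933 := d1_1 D34910 (iv4 D16933) (iv2 F27762)
theorem F55253 : act 5 n34910 = n27458 := d9_2 D16929 D34910 (iv4 F44377) (iv5 D26633) (iv4 D12728) F9352 (iv4 F9522) D12919 D26988 (iv5 F44376) (iv4 F52997) (iv5 D33761) (iv4 D16319) F11826 (iv4 F12507)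
theorem F55254 : act 0 n34910 = n27342 := d17_0 (iv5 D27342) D27339 F44240 (iv4 D26443) (iv5 D12621) D12620 D26442 F42285 D34910
def n34911 : Q := act 6 n16929
theorem D34911 : act 6 n16929 = n34911 := rfl
theorem F55255 : act 2 n34911 = n16934 := d3_1 D34911 (iv6 D16934) (iv2 F27762)
theorem F55256 : act 3 n34911 = n20779 := d7_1 D34911 (iv6 F55126) F55125
theorem F55257 : act 5 n34911 = n20776 := d12_1 D34911 (iv6 D20776) F27767 (iv6 D16930) D16929
def n34912 : Q := act 1 n16930
theorem D34912 : act 1 n16930 = n34912 := rfl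
theorem F55258 : act 1 n34912 = n16938 := d15_1 D34912 (iv7 D16938) (iv2 F27763)
theorem F55259 : act 7 n34912 = n16935 := d15_2 (iv0 F27766) D34912 (iv2 F27772)
theorem F55260 : act 5 n34912 = n20517 := d17_7 (iv1 F34695) (iv5 F34697) (iv1 F35072) (iv5 F35076) (iv4 F31348) F27767 D34912 F32605 (iv4 F31830)
theorem F55261 : act 4 n34912 = n17031 := d17_9 (iv1 F27912) D32572 F54260 F24979 (iv4 F47733) (iv5 F47734) (iv0 D20774) F27767 D34912
theorem F55262 : act 3 n26855 = n34912 := d20_3 F31853 (iv1 F26779) D26855 (iv1 D34912) F27764 (iv4 F15221) (iv1 F32400) F32403 (iv3 F40413) F40415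
theorem F55263 : act 2 n34912 = n16936 := d0_1 F55262 (iv3 F27769) (iv2 F12513) D15441 (iv2 F43281)
def n34913 : Q := act 5 n16933
theorem D34913 : act 5 n16933 = n34913 := rfl
theorem F55264 : act 2 n34913 = n27458 := d2_1 D34913 (iv5 F55253) F55252
theorem F55265 : act 3 n34913 = n33596 := d6_1 D34913 F52889 F40456
theorem F55266 : act 7 n34913 = n27457 := d13_2 F43574 D34913 F44376
theorem F55267 : act 0 n27416 = n34913 := d19_0 (iv5 D34913) (iv4 D16933) F12508 (iv1 F8909) F8907 (iv4 D3564) F2732 F1609 F1535 (iv4 D716) F1055 (iv1 F703) (iv5 F1032) D858 D1588 D3609 (iv5 F14007) D13128 D27416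
theorem F55268 : act 1 n27459 = n34913 := d15_0 (iv0 F55267) F44315 D27459
theorem F55269 : act 1 n33772 = n27459 := d15_0 F55268 F55266 (iv2 F53015)
def n34914 : Q := act 6 n16933
theorem D34914 : act 6 n16933 = n34914 := rfl
theorem F55270 : act 4 n34914 = n16934 := d10_1 D34914 (iv6 D16934) D16933
def n34915 : Q := act 0 n16934
theorem D34915 : act 0 n16934 = n34915 := rfl
def n34916 : Q := act 1 n16934
theorem D34916 : act 1 n16934 = n34916 := rfl
def n34917 : Q := act 5 n16934
theorem D34917 : act 5 n16934 = n34917 := rfl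
theorem F55271 : act 2 n34917 = n20776 := d2_1 D34917 (iv5 F55257) F55255
theorem F55272 : act 3 n34917 = n16941 := d6_1 D34917 (iv5 D16941) (iv3 F27768)
theorem F55273 : act 6 n34917 = n16937 := d12_2 D16934 D34917 (iv5 D16937) (iv6 D7901) D7900
theorem F55274 : act 4 n22127 = n34917 := d10_3 F55273 (iv4 F31352) D22127
def n34918 : Q := act 7 n16934
theorem D34918 : act 7 n16934 = n34918 := rfl
theorem F55275 : act 3 n34918 = n16942 := d8_1 D34918 (iv7 D16942) (iv3 F27768)
def n34919 : Q := act 3 n16935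
theorem D34919 : act 3 n16935 = n34919 := rfl
theorem F55276 : act 2 n34919 = n16945 := d0_1 D34919 (iv3 D16945) (iv2 F21323) (iv3 F24973) F27772
theorem F55277 : act 4 n34919 = n26287 := d5_2 (iv4 F27773) D34919 F41852 (iv4 F27925) F27924
theorem F55278 : act 7 n34919 = n26855 := d8_2 F55259 D34919 F55262
theorem F55279 : act 1 n32341 = n34919 := d15_1 (iv0 F54159) F55278 F43281
theorem F55280 : act 1 n34919 = n32618 := d15_0 (iv0 D32618) (iv7 F27787) (iv2 F55276)
theorem F55281 : act 7 n32618 = n26703 := d15_2 F55279 F55280 (iv2 F51358)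
theorem F55282 : act 6 n17407 = n32618 := d14_5 F55281 (iv6 D26703) (iv7 F42878) (iv6 F50915) (iv7 F43257)
def n34920 : Q := act 6 n16935
theorem D34920 : act 6 n16935 = n34920 := rfl
theorem F55283 : act 2 n34920 = n32576 := d3_1 D34920 (iv6 D32576) F27772
theorem F55284 : act 4 n34920 = n32575 := d10_1 D34920 (iv6 D32575) (iv4 F27773)
theorem F55285 : act 0 n28361 = n34920 := d21_4 D31946 (iv1 F50545) F40357 D28361 (iv6 D34920) F32535 (iv1 D20002) D20005 F41485 F41484
def n34921 : Q := act 6 n16936
theorem D34921 : act 6 n16936 = n34921 := rfl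
theorem F55286 : act 3 n34921 = n16944 := d7_1 D34921 (iv6 D16944) F27769
theorem F55287 : act 4 n34921 = n17033 := d10_1 D34921 (iv6 D17033) F27770
theorem F55288 : act 7 n31681 = n34921 := d11_0 F55287 (iv7 F27916) D31681
def n34922 : Q := act 2 n16939
theorem D34922 : act 2 n16939 = n34922 := rfl
theorem F55289 : act 7 n16940 = n34922 := d15_2 (iv0 D16939) D16940 (iv2 D34922)
def n34923 : Q := act 3 n16939
theorem D34923 : act 3 n16939 = n34923 := rfl
def n34924 : Q := act 4 n16939
theorem D34924 : act 4 n16939 = n34924 := rfl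
def n34925 : Q := act 5 n16939
theorem D34925 : act 5 n16939 = n34925 := rfl
def n34926 : Q := act 6 n16939
theorem D34926 : act 6 n16939 = n34926 := rfl
def n34927 : Q := act 7 n16939
theorem D34927 : act 7 n16939 = n34927 := rfl
theorem F55290 : act 2 n34927 = n16940 := d4_1 D34927 F55289 (iv2 D34922)
def n34928 : Q := act 3 n16940
theorem D34928 : act 3 n16940 = n34928 := rfl
def n34929 : Q := act 4 n16940
theorem D34929 : act 4 n16940 = n34929 := rfl
def n34930 : Q := act 5 n16940
theorem D34930 : act 5 n16940 = n34930 := rfl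
def n34931 : Q := act 6 n16940
theorem D34931 : act 6 n16940 = n34931 := rfl
def n34932 : Q := act 0 n16941
theorem D34932 : act 0 n16941 = n34932 := rfl
def n34933 : Q := act 1 n16941
theorem D34933 : act 1 n16941 = n34933 := rfl
def n34934 : Q := act 4 n16941
theorem D34934 : act 4 n16941 = n34934 := rfl
theorem F55291 : act 2 n34934 = n21250 := d1_1 D34934 F33479 F33110
theorem F55292 : act 6 n34934 = n16950 := d10_2 (iv6 F27780) D34934 (iv4 D16950)
def n34935 : Q := act 7 n16941
theorem D34935 : act 7 n16941 = n34935 := rfl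
theorem F55293 : act 5 n34935 = n16942 := d13_1 D34935 (iv7 D16942) D16941
def n34936 : Q := act 6 n16943
theorem D34936 : act 6 n16943 = n34936 := rfl
theorem F55294 : act 2 n34936 = n32621 := d3_1 D34936 (iv6 D32621) (iv2 F27781)
def n34937 : Q := act 1 n16945
theorem D34937 : act 1 n16945 = n34937 := rfl
theorem F55295 : act 1 n34937 = n26855 := d15_1 D34937 (iv7 F55278) F55276
theorem F55296 : act 7 n34937 = n32341 := d15_2 (iv0 F54157) D34937 F51358
theorem F55297 : act 4 n32435 = n34937 := d20_6 F4081 D2564 (iv4 F10684) D7277 D15413 (iv3 F54124) (iv1 D34937) F27786 (iv3 D12490) F10657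
theorem F55298 : act 3 n34937 = n32341 := d5_1 F55297 (iv4 F53360) F53359 F54125 (iv3 F54124)
theorem F55299 : act 6 n34937 = n26849 := d10_2 D32435 F55297 (iv4 F43260)
theorem F55300 : act 2 n32618 = n34937 := d3_3 F55299 F43262 F55282
theorem F55301 : act 0 n32506 = n34023 := d20_1 F51583 F53360 (iv3 F55298) (iv1 D34937) (iv3 D16945) (iv4 F12595) (iv1 D5761) (iv4 F8872) (iv3 F20092) D25553
def n34938 : Q := act 5 n16945
theorem D34938 : act 5 n16945 = n34938 := rfl
theorem F55302 : act 3 n34938 = n16946 := d6_1 D34938 (iv5 D16946) D16945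
theorem F55303 : act 7 n34938 = n32620 := d13_2 (iv7 F27787) D34938 (iv5 D32620)
def n34939 : Q := act 6 n16945
theorem D34939 : act 6 n16945 = n34939 := rfl
theorem F55304 : act 3 n34939 = n16947 := d7_1 D34939 (iv6 D16947) D16945
theorem F55305 : act 4 n34939 = n26289 := d10_1 D34939 (iv6 D26289) (iv4 F27786)
def n34940 : Q := act 6 n16946
theorem D34940 : act 6 n16946 = n34940 := rfl
def n34941 : Q := act 5 n16947
theorem D34941 : act 5 n16947 = n34941 := rfl
theorem F55306 : act 0 n34941 = n34814 := d17_2 (iv1 F55162) D34941 (iv5 D34814) (iv4 F27619) D16889 (iv0 F27803) (iv5 D16957) F27716 (iv4 F55159)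
theorem F55307 : act 1 n34941 = n34813 := d17_6 D7863 (iv5 F23472) (iv1 F25938) F25934 (iv4 F27790) D34941 (iv5 D34813) (iv0 D16868) F12409
def n34942 : Q := act 6 n16948
theorem D34942 : act 6 n16948 = n34942 := rfl
def n34943 : Q := act 3 n16949
theorem D34943 : act 3 n16949 = n34943 := rfl
theorem F55308 : act 5 n34943 = n29124 := d6_2 F27792 D34943 F46785
theorem F55309 : act 4 n34943 = n21975 := d20_6 F14575 (iv1 F7293) F7295 D9875 (iv1 F27791) D34943 (iv1 D21975) F16692 (iv3 D9377) (iv1 F14574)
def n34944 : Q := act 6 n16949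
theorem D34944 : act 6 n16949 = n34944 := rfl
theorem F55310 : act 5 n34944 = n29128 := d12_1 D34944 (iv6 D29128) (iv5 D13861) D13862 F27792
def n34945 : Q := act 5 n16950
theorem D34945 : act 5 n16950 = n34945 := rfl
theorem F55311 : act 2 n34945 = n21249 := d2_1 D34945 (iv5 D21249) (iv2 F27793)
theorem F55312 : act 4 n34945 = n32732 := d9_1 D34945 (iv5 D32732) (iv4 F25137) F18253 (iv4 F27691) F27692 (iv4 F16425) D21614 F34024 (iv5 D12922) F9528 F4137 (iv4 F5618) D7905 D16950
theorem F55313 : act 1 n34945 = n23935 := d17_6 F27789 (iv5 D16946) (iv1 D7904) D7905 D16950 D34945 F37361 (iv0 D21172) F15950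
def n34946 : Q := act 6 n16951
theorem D34946 : act 6 n16951 = n34946 := rfl
theorem F55314 : act 2 n34946 = n20781 := d3_1 D34946 (iv6 D20781) (iv2 F27794)
def n34947 : Q := act 6 n16952
theorem D34947 : act 6 n16952 = n34947 := rfl
def n34948 : Q := act 0 n16954
theorem D34948 : act 0 n16954 = n34948 := rfl
theorem F55315 : act 1 n16954 = n34948 := d15_0 (iv0 D34948) (iv7 F40432) F40430
def n34949 : Q := act 5 n16954
theorem D34949 : act 5 n16954 = n34949 := rfl
theorem F55316 : act 3 n34949 = n16955 := d6_1 D34949 (iv5 D16955) D16954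
def n34950 : Q := act 6 n16954
theorem D34950 : act 6 n16954 = n34950 := rfl
theorem F55317 : act 3 n34950 = n16956 := d7_1 D34950 (iv6 D16956) D16954
theorem F55318 : act 4 n34950 = n34950 := d10_1 D34950 (iv6 D34950) F27799
def n34951 : Q := act 6 n16955
theorem D34951 : act 6 n16955 = n34951 := rfl
def n34952 : Q := act 5 n16956
theorem D34952 : act 5 n16956 = n34952 := rfl
theorem F55319 : act 0 n34952 = n25759 := d17_2 F46292 D34952 (iv5 D25759) (iv4 D12226) D12227 F40680 F40677 F23475 D28709
theorem F55320 : act 1 n34952 = n25755 := d17_6 D7878 D16896 F27804 (iv5 D16957) (iv4 F27800) D34952 (iv5 D25755) (iv0 F20221) F12465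
def n34953 : Q := act 7 n16956
theorem D34953 : act 7 n16956 = n34953 := rfl
theorem F55321 : act 4 n34953 = n16957 := d11_1 D34953 F27805 (iv4 F27800)
theorem F55322 : act 6 n34953 = n28363 := d14_1 D34953 F45860 F40251 (iv7 F20152) D16956
theorem F55323 : act 1 n25760 = n34953 := d15_1 (iv0 F40687) (iv7 D34953) (iv2 F40433)
theorem F55324 : act 1 n34953 = n25757 := d15_1 F55323 (iv7 F46291) F46289
def n34954 : Q := act 3 n16958
theorem D34954 : act 3 n16958 = n34954 := rfl
theorem F55325 : act 4 n34954 = n34876 := d5_2 D16958 D34954 (iv3 D34876) (iv4 D16908) F21295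
theorem F55326 : act 7 n34954 = n32363 := d8_2 (iv7 F27807) D34954 (iv3 D32363)
def n34955 : Q := act 5 n16958
theorem D34955 : act 5 n16958 = n34955 := rfl
theorem F55327 : act 2 n34955 = n32362 := d2_1 D34955 (iv5 D32362) (iv2 F27806)
theorem F55328 : act 7 n34955 = n32364 := d13_2 (iv7 F27807) D34955 (iv5 D32364)
def n34956 : Q := act 5 n16960
theorem D34956 : act 5 n16960 = n34956 := rfl
theorem F55329 : act 2 n34956 = n32364 := d2_1 D34956 (iv5 D32364) (iv2 F27815)
theorem F55330 : act 7 n34956 = n32362 := d13_2 (iv7 F27817) D34956 (iv5 D32362)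
def n34957 : Q := act 5 n16962
theorem D34957 : act 5 n16962 = n34957 := rfl
theorem F55331 : act 2 n34957 = n32410 := d2_1 D34957 (iv5 D32410) F42931
theorem F55332 : act 3 n34957 = n33001 := d6_1 D34957 F52177 (iv3 F27851)
theorem F55333 : act 7 n34957 = n32405 := d13_2 F42933 D34957 (iv5 D32405)
theorem F55334 : act 0 n34957 = n33017 := d17_2 F28350 D34957 (iv5 D33017) (iv4 D15916) D15917 F41472 (iv5 F26652) F26649 (iv4 F28347)
theorem F55335 : act 1 n34957 = n33219 := d17_6 (iv1 D7866) (iv5 F5922) D8897 (iv5 F25996) D16962 D34957 (iv5 D33219) (iv0 F27645) (iv4 D16879)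
def n34958 : Q := act 6 n16965
theorem D34958 : act 6 n16965 = n34958 := rfl
theorem F55336 : act 2 n34958 = n32435 := d3_1 D34958 (iv6 D32435) F42912
theorem F55337 : act 3 n34958 = n16968 := d7_1 D34958 (iv6 D16968) D16965
theorem F55338 : act 4 n34958 = n32618 := d10_1 D34958 (iv6 F55282) F28375
theorem F55339 : act 7 n34958 = n32445 := d14_2 F42917 D34958 (iv6 D32445) F42875 F50913
theorem F55340 : act 1 n32506 = n34958 := d15_1 (iv0 F55301) F55339 (iv2 F53358)
theorem F55341 : act 1 n34958 = n32469 := d15_1 F55340 F51554 D32506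
def n34959 : Q := act 5 n16966
theorem D34959 : act 5 n16966 = n34959 := rfl
theorem F55342 : act 2 n34959 = n32405 := d2_1 D34959 (iv5 D32405) (iv2 F42932)
theorem F55343 : act 3 n34959 = n23975 := d6_1 D34959 (iv5 F54362) F27823
theorem F55344 : act 7 n34959 = n32410 := d13_2 (iv7 F42929) D34959 (iv5 D32410)
theorem F55345 : act 0 n34959 = n33219 := d17_2 F28352 D34959 (iv5 D33219) F25577 F29902 F42534 F42531 F27243 D16988
theorem F55346 : act 1 n34959 = n33017 := d17_6 (iv1 F12432) D11193 (iv1 F18158) F30276 D16966 D34959 (iv5 D33017) (iv0 F27633) (iv4 D16874)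
def n34960 : Q := act 6 n16966
theorem D34960 : act 6 n16966 = n34960 := rfl
theorem F55347 : act 2 n34960 = n32406 := d3_1 D34960 (iv6 D32406) (iv2 F42932)
theorem F55348 : act 3 n34960 = n34882 := d7_1 D34960 (iv6 D34882) F27823
theorem F55349 : act 4 n34960 = n16968 := d10_1 D34960 (iv6 D16968) D16966
theorem F55350 : act 7 n34960 = n32571 := d14_2 (iv7 F42929) D34960 F54156 (iv7 F43597) F50910
theorem F55351 : act 0 n22483 = n34960 := d20_10 F55349 F54154 F27770 (iv3 F27769) (iv1 F27695) F27690 (iv4 F15227) D20396 F32395 (iv3 F35034)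
theorem E5849 : n34948 = n34882 := (c20_5 F27691 (iv1 F12485) D7914 D16954 D34948 (iv3 F55348) F55349 F54154 F27770 (iv3 F27769) (iv1 F27695))
theorem F55352 : act 0 n34882 = n16954 := (sb E5849 (iv1 F55315))
theorem F55353 : act 1 n34882 = n16954 := (sb E5849 (iv0 D34948))
def n34961 : Q := act 5 n16968
theorem D34961 : act 5 n16968 = n34961 := rfl
theorem F55354 : act 2 n34961 = n32409 := d2_1 D34961 (iv5 D32409) F42939
theorem F55355 : act 7 n34961 = n32572 := d13_2 (iv7 F54141) D34961 (iv5 D32572)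
theorem F55356 : act 0 n34961 = n26274 := d17_2 (iv1 F54155) D34961 F41813 D31918 (iv5 F50227) (iv0 D20918) (iv5 F31848) F31856 F27773
theorem F55357 : act 0 n32603 = n34961 := d21_1 (iv5 F51654) (iv5 D34961) (iv6 D16968) (iv1 D7921) D7923 D16972 F54351 (iv5 D28427) D28428 F54173
def n34962 : Q := act 0 n16969
theorem D34962 : act 0 n16969 = n34962 := rfl
def n34963 : Q := act 1 n16969
theorem D34963 : act 1 n16969 = n34963 := rfl
theorem F55358 : act 1 n34963 = n16973 := d15_1 D34963 (iv7 D16973) (iv2 F27824)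
theorem F55359 : act 3 n26051 = n34963 := d20_3 (iv4 F50086) (iv1 F50091) (iv4 F54264) (iv1 D34963) F27825 (iv4 F27138) (iv1 F49874) (iv4 D31529) F41171 (iv1 F45910)
theorem F55360 : act 6 n28171 = n34963 := d21_3 D14107 D29698 (iv5 F54288) (iv1 D34963) (iv6 D16969) (iv5 F25192) (iv1 F25196) F43051 F54238 (iv1 D14104)
theorem F55361 : act 5 n34963 = n28455 := d6_2 (iv5 F50886) F55359 (iv3 D28455)
def n34964 : Q := act 5 n16969
theorem D34964 : act 5 n16969 = n34964 := rfl
theorem F55362 : act 2 n34964 = n16972 := d2_1 D34964 (iv5 D16972) (iv2 F27824)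
theorem F55363 : act 3 n34964 = n32386 := d6_1 D34964 (iv5 D32386) (iv3 F27825)
theorem F55364 : act 4 n34964 = n31963 := d18_5 (iv1 D23835) (iv4 F37162) F55189 F55187 D34964 (iv0 D31963) (iv4 D15078) D15077 (iv5 F50553)
def n34965 : Q := act 7 n16969
theorem D34965 : act 7 n16969 = n34965 := rfl
theorem F55365 : act 2 n34965 = n16973 := d4_1 D34965 (iv7 D16973) (iv2 F27824)
theorem F55366 : act 3 n34965 = n31793 := d8_1 D34965 F50088 (iv3 F27825)
theorem F55367 : act 4 n34965 = n28359 := d11_1 D34965 F55191 F55187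
theorem F55368 : act 6 n34965 = n24298 := d14_1 D34965 F38091 F18711 (iv7 F12538) D16969
theorem F55369 : act 1 n16973 = n34962 := d15_0 (iv0 D34962) D34965 F55365
theorem F55370 : act 1 n16971 = n34965 := d15_1 D16971 (iv7 D34965) F27824
theorem F55371 : act 0 n16970 = n34965 := d20_10 F55367 (iv1 F55196) (iv4 F55198) F37167 (iv1 F26896) (iv3 F27137) F27138 (iv1 F50151) (iv4 D31552) (iv3 F50152)
def n34966 : Q := act 2 n16970
theorem D34966 : act 2 n16970 = n34966 := rfl
theorem F55372 : act 7 n16971 = n34966 := d15_2 (iv0 D16970) D16971 (iv2 D34966)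
def n34967 : Q := act 4 n16970
theorem D34967 : act 4 n16970 = n34967 := rfl
theorem F55373 : act 3 n34967 = n31564 := d5_1 D34967 (iv4 D31564) (iv3 F49888) (iv4 D31552) (iv3 F50152)
def n34968 : Q := act 5 n16970
theorem D34968 : act 5 n16970 = n34968 := rfl
theorem F55374 : act 3 n34968 = n28445 := d6_1 D34968 F50964 (iv3 F50152)
def n34969 : Q := act 6 n16970
theorem D34969 : act 6 n16970 = n34969 := rfl
theorem F55375 : act 3 n34969 = n31554 := d7_1 D34969 (iv6 D31554) (iv3 F50152)
def n34970 : Q := act 7 n16970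
theorem D34970 : act 7 n16970 = n34970 := rfl
theorem F55376 : act 2 n34970 = n16971 := d4_1 D34970 F55372 (iv2 D34966)
theorem F55377 : act 3 n34970 = n31545 := d8_1 D34970 (iv7 F49884) (iv3 F50152)
def n34971 : Q := act 3 n16971
theorem D34971 : act 3 n16971 = n34971 := rfl
theorem F55378 : act 2 n34971 = n31546 := d0_1 D34971 (iv3 D31546) D31545 (iv3 F55377) F55376
theorem F55379 : act 4 n34971 = n31514 := d20_6 (iv4 F41170) (iv1 F45910) (iv4 F50086) (iv3 F55366) (iv1 F55370) D34971 (iv1 F49850) F28383 F26727 (iv1 F41177)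
def n34972 : Q := act 4 n16971
theorem D34972 : act 4 n16971 = n34972 := rfl
def n34973 : Q := act 5 n16971
theorem D34973 : act 5 n16971 = n34973 := rfl
theorem F55380 : act 0 n34973 = n31799 := d18_0 F51167 (iv1 D32219) (iv4 D15202) F11532 (iv4 F22679) (iv0 F27742) F27741 D16971 D34973
def n34974 : Q := act 1 n16972
theorem D34974 : act 1 n16972 = n34974 := rfl
def n34975 : Q := act 4 n16972
theorem D34975 : act 4 n16972 = n34975 := rfl
theorem F55381 : act 2 n34975 = n31963 := d1_1 D34975 (iv4 F55364) F55362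
theorem F55382 : act 7 n34975 = n31964 := d11_2 F50187 D34975 (iv4 F50319)
theorem F55383 : act 1 n34975 = n31940 := d18_6 (iv1 F37170) F55198 (iv1 D34892) F27741 D16972 D34975 (iv4 D31940) F41512 F50546
theorem F55384 : act 0 n34975 = n26167 := d20_7 (iv4 F24227) F24228 F20456 (iv3 F20591) F26567 (iv3 F27826) D34975 (iv4 D26167) F20676 (iv1 F11326)
def n34976 : Q := act 3 n16974
theorem D34976 : act 3 n16974 = n34976 := rfl
def n34977 : Q := act 6 n16975
theorem D34977 : act 6 n16975 = n34977 := rfl
theorem F55385 : act 2 n34977 = n32441 := d3_1 D34977 (iv6 D32441) (iv2 F27831)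
theorem F55386 : act 3 n34977 = n16983 := d7_1 D34977 (iv6 D16983) (iv3 F27832)
theorem F55387 : act 4 n34977 = n32770 := d10_1 D34977 (iv6 D32770) F27836
def n34978 : Q := act 0 n16976
theorem D34978 : act 0 n16976 = n34978 := rfl
theorem F55388 : act 4 n34978 = n31596 := d20_2 (iv4 F50411) D34978 (iv3 F49921) (iv1 D26047) (iv3 D12344) (iv4 D5869) F3855 D2483 D5886 D12369
theorem F55389 : act 2 n31596 = n34978 := d15_3 (iv0 D34978) F50410 F50959
theorem F55390 : act 1 n26100 = n34978 := d15_0 (iv0 D34978) F50459 (iv2 F50478)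
theorem F55391 : act 7 n34978 = n31595 := d15_2 (iv0 F49918) F55390 (iv2 F50963)
theorem F55392 : act 0 n26099 = n34971 := d20_10 F55379 (iv1 F49850) F28383 F26727 (iv1 F41177) F49921 (iv4 F55388) (iv1 F55390) (iv4 D26100) D26099
theorem F55393 : act 3 n31529 = n34978 := d20_9 (iv4 D26100) (iv1 D12370) F9100 (iv3 D5886) (iv1 F9069) D12346 F20506 D14853 D31529 (iv1 F55390)
theorem F55394 : act 0 n31569 = n16981 := d20_1 D31569 F27857 (iv3 F27847) D34978 (iv3 F55393) (iv4 D31529) (iv1 F41176) F41173 (iv3 F39934) (iv1 F39938)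
theorem E5850 : n31589 = n31568 := (c20_5 F55388 (iv1 D31596) (iv4 D14871) D14870 D31589 (iv3 D31568) D31569 F55394 F27857 (iv3 F27847) D34978)
theorem F55395 : act 1 n31568 = n14870 := (sb E5850 (iv0 D31589))
theorem F55396 : act 1 n31613 = n34971 := d15_0 (iv0 F55392) F50477 D31613
def n34979 : Q := act 5 n16976
theorem D34979 : act 5 n16976 = n34979 := rfl
theorem F55397 : act 2 n34979 = n31617 := d2_1 D34979 (iv5 D31617) (iv2 F50458)
theorem F55398 : act 3 n34979 = n16986 := d6_1 D34979 (iv5 D16986) (iv3 F27847)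
theorem F55399 : act 7 n34979 = n31598 := d13_2 (iv7 F50459) D34979 (iv5 D31598)
theorem F55400 : act 0 n34979 = n32108 := d17_2 (iv1 F50410) D34979 (iv5 D32108) F24791 D15160 F51054 (iv5 D31617) (iv0 F49919) F49916
theorem F55401 : act 1 n34979 = n32067 := d17_6 (iv1 D7131) D7133 D14989 F50412 (iv4 F50411) D34979 (iv5 D32067) F24797 (iv4 D14984)
theorem F55402 : act 4 n34979 = n31846 := d18_5 (iv1 D12370) F9100 D12369 (iv4 F50411) D34979 (iv0 D31846) (iv4 D14991) D14990 F50419
def n34980 : Q := act 5 n16979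
theorem D34980 : act 5 n16979 = n34980 := rfl
theorem F55403 : act 2 n34980 = n26506 := d2_1 D34980 F42426 F40446
theorem F55404 : act 3 n34980 = n16980 := d6_1 D34980 (iv5 D16980) D16979
theorem F55405 : act 7 n34980 = n26505 := d13_2 (iv7 F27854) D34980 F42431
theorem F55406 : act 0 n34980 = n26482 := d17_2 (iv1 F27856) D34980 (iv5 D26482) (iv4 D12643) D12644 F27128 F12395 F11549 D12779
theorem F55407 : act 1 n34980 = n26509 := d17_6 (iv1 F40578) D25683 (iv1 F40605) (iv5 F27264) (iv4 F27853) D34980 F42429 F40501 (iv4 F40574)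
def n34981 : Q := act 0 n16980
theorem D34981 : act 0 n16980 = n34981 := rfl
theorem F55408 : act 5 n34981 = n23874 := d17_3 (iv1 D16978) D16980 D34981 F37275 D28505 F51725 (iv5 F26882) D17428 F28421
theorem F55409 : act 1 n16991 = n34981 := d15_0 (iv0 D34981) (iv7 F43603) F43601
theorem F55410 : act 2 n32999 = n34981 := d2_3 F55408 F37281 D32999
theorem F55411 : act 3 n23875 = n34981 := d6_3 F55408 (iv3 D23874) D23875
theorem F55412 : act 7 n28566 = n34981 := d13_0 F55408 F37276 D28566
def n34982 : Q := act 1 n16980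
theorem D34982 : act 1 n16980 = n34982 := rfl
theorem F55413 : act 1 n34982 = n16991 := d15_1 D34982 (iv7 F43629) F43628
theorem F55414 : act 7 n34982 = n32999 := d15_2 (iv0 D34981) D34982 F55410
theorem F55415 : act 5 n34982 = n23970 := d17_7 (iv1 D5990) D5993 (iv1 F27839) (iv5 D7932) D7931 D16980 D34982 F37450 (iv4 D12613)
theorem F55416 : act 2 n28566 = n34982 := d2_3 F55415 F37446 D28566
theorem F55417 : act 3 n23972 = n34982 := d6_3 F55415 (iv3 D23970) D23972
def n34983 : Q := act 4 n16980
theorem D34983 : act 4 n16980 = n34983 := rfl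
theorem F55418 : act 2 n34983 = n27460 := d1_1 D34983 F44379 F43628
theorem F55419 : act 7 n34983 = n33061 := d11_2 F43603 D34983 F52281
theorem F55420 : act 5 n34983 = n27459 := d17_5 (iv1 F52179) F52180 (iv1 D16978) D16980 D34983 F55268 (iv5 D34913) (iv0 F52198) (iv4 D33020)
theorem F55421 : act 0 n34983 = n33030 := d17_0 F52214 (iv1 D27340) D27342 F44243 (iv5 D26426) (iv0 F37277) (iv5 F55408) (iv0 D34981) D34983
theorem F55422 : act 1 n34983 = n26443 := d18_6 (iv1 D7898) F5616 D3591 D7931 D16980 D34983 (iv4 D26443) F27842 (iv5 D16927)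
def n34984 : Q := act 6 n16980
theorem D34984 : act 6 n16980 = n34984 := rfl
def n34985 : Q := act 5 n16981
theorem D34985 : act 5 n16981 = n34985 := rfl
theorem F55423 : act 3 n34985 = n32025 := d6_1 D34985 F50400 F50406
def n34986 : Q := act 7 n16981
theorem D34986 : act 7 n16981 = n34986 := rfl
theorem F55424 : act 3 n34986 = n28385 := d8_1 D34986 F50624 F50406
theorem F55425 : act 4 n34986 = n16987 := d11_1 D34986 (iv7 D16987) (iv4 F27857)
theorem F55426 : act 6 n34986 = n34284 := d14_1 D34986 F54392 (iv6 D27000) (iv7 F27252) D16981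
def n34987 : Q := act 0 n16982
theorem D34987 : act 0 n16982 = n34987 := rfl
theorem F55427 : act 4 n34987 = n28505 := d18_3 (iv1 F27839) D16982 D34987 (iv5 D28505) (iv4 F37275) (iv0 F37278) (iv4 D12608) (iv0 D5989) D5993
theorem F55428 : act 1 n16993 = n34987 := d15_0 (iv0 D34987) (iv7 F35203) (iv2 F35204)
theorem F55429 : act 2 n33075 = n34987 := d1_3 F55427 (iv2 F51733) (iv4 F52302)
theorem F55430 : act 7 n28569 = n34987 := d11_0 F55427 F46059 D28569
def n34988 : Q := act 1 n16982
theorem D34988 : act 1 n16982 = n34988 := rfl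
theorem F55431 : act 1 n34988 = n16993 := d15_1 D34988 F35200 (iv2 F35201)
theorem F55432 : act 7 n34988 = n33075 := d15_2 (iv0 D34987) D34988 F55429
theorem F55433 : act 4 n34988 = n28564 := d18_7 (iv1 F28419) F28421 (iv1 D16978) (iv4 D7931) D7932 D16982 D34988 F51726 (iv5 D32656)
theorem F55434 : act 2 n28569 = n34988 := d1_3 F55433 F46130 D28569
def n34989 : Q := act 6 n16982
theorem D34989 : act 6 n16982 = n34989 := rfl
theorem F55435 : act 2 n34989 = n33085 := d3_1 D34989 (iv6 D33085) (iv2 F35201)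
theorem F55436 : act 4 n34989 = n16983 := d10_1 D34989 (iv6 D16983) D16982
def n34990 : Q := act 0 n16983
theorem D34990 : act 0 n16983 = n34990 := rfl
def n34991 : Q := act 1 n16983
theorem D34991 : act 1 n16983 = n34991 := rfl
theorem F55437 : act 1 n34991 = n33089 := d15_1 D34991 (iv7 D33089) (iv2 F35202)
def n34992 : Q := act 5 n16983
theorem D34992 : act 5 n16983 = n34992 := rfl
theorem F55438 : act 2 n34992 = n33088 := d2_1 D34992 (iv5 D33088) (iv2 F35202)
theorem F55439 : act 6 n34992 = n16986 := d12_2 D16983 D34992 (iv5 D16986) (iv6 D7933) D7932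
def n34993 : Q := act 7 n16983
theorem D34993 : act 7 n16983 = n34993 := rfl
theorem F55440 : act 2 n34993 = n33089 := d4_1 D34993 (iv7 D33089) (iv2 F35202)
theorem F55441 : act 6 n34993 = n33080 := d14_1 D34993 (iv7 D33080) (iv6 D15955) (iv7 F35186) D16983
theorem F55442 : act 1 n33089 = n34990 := d15_0 (iv0 D34990) D34993 F55440
theorem F55443 : act 1 n33087 = n34993 := d15_1 D33087 (iv7 D34993) F35202
theorem F55444 : act 1 n34993 = n33086 := d15_0 (iv0 D33086) D33089 (iv2 F55440)
def n34994 : Q := act 6 n16984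
theorem D34994 : act 6 n16984 = n34994 := rfl
theorem F55445 : act 2 n34994 = n34403 := d3_1 D34994 (iv6 D34403) F50652
def n34995 : Q := act 0 n16986
theorem D34995 : act 0 n16986 = n34995 := rfl
theorem F55446 : act 2 n31974 = n34995 := d15_3 (iv0 D34995) (iv0 F41343) D31974
theorem F55447 : act 3 n34995 = n26191 := d0_2 (iv3 F50329) F55446 F41570 F26898 (iv2 F24860)
theorem F55448 : act 5 n34995 = n26183 := d2_2 (iv5 F50330) F55446 F41556
theorem F55449 : act 7 n34995 = n26182 := d4_2 D31974 F55446 F41554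
theorem F55450 : act 1 n31959 = n34995 := d15_1 F50316 F55449 F41554
def n34996 : Q := act 4 n16986
theorem D34996 : act 4 n16986 = n34996 := rfl
def n34997 : Q := act 7 n16986
theorem D34997 : act 7 n16986 = n34997 := rfl
theorem F55451 : act 2 n34997 = n31959 := d4_1 D34997 F50314 F43633
theorem F55452 : act 3 n34997 = n31598 := d8_1 D34997 (iv7 F55399) F55398
theorem F55453 : act 5 n34997 = n16987 := d13_1 D34997 (iv7 D16987) D16986
theorem F55454 : act 1 n26182 = n34997 := d15_1 (iv0 F43635) (iv7 D34997) (iv2 F43633)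
theorem F55455 : act 1 n34997 = n31974 := d15_1 F55454 (iv7 D31974) (iv2 F41554)
def n34998 : Q := act 5 n16988
theorem D34998 : act 5 n16988 = n34998 := rfl
theorem F55456 : act 2 n34998 = n33226 := d2_1 D34998 F52459 F40392
theorem F55457 : act 0 n34998 = n23890 := d17_2 F27858 D34998 (iv5 D23890) (iv4 D11190) D11191 F43062 (iv5 D15314) F12536 D16962
theorem F55458 : act 1 n34998 = n23875 := d17_6 (iv1 D12647) D12650 (iv1 F43645) (iv5 D16989) D16988 D34998 (iv5 D23875) D23873 (iv4 F37225)
def n34999 : Q := act 6 n16988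
theorem D34999 : act 6 n16988 = n34999 := rfl
theorem F55459 : act 4 n34999 = n16990 := d10_1 D34999 (iv6 D16990) D16988
def n35000 : Q := act 4 n16989
theorem D35000 : act 4 n16989 = n35000 := rfl
theorem F55460 : act 7 n35000 = n33081 := d11_2 (iv7 F35199) D35000 (iv4 D33081)
theorem F55461 : act 0 n35000 = n23892 := d18_2 (iv1 F43645) D35000 (iv4 D23892) (iv5 D11191) D11190 F37273 F37220 F25572 D12650
theorem F55462 : act 1 n35000 = n23879 := d18_6 D7920 D16962 F27858 (iv4 D16988) D16989 D35000 (iv4 D23879) (iv0 F43060) F11678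
def n35001 : Q := act 6 n16989
theorem D35001 : act 6 n16989 = n35001 := rfl
theorem F55463 : act 3 n35001 = n16994 := d7_1 D35001 (iv6 D16994) (iv3 F27859)
theorem F55464 : act 5 n35001 = n33139 := d12_1 D35001 (iv6 D33139) (iv5 F30295) (iv6 D16990) D16989
def n35002 : Q := act 4 n16991
theorem D35002 : act 4 n16991 = n35002 := rfl
theorem F55465 : act 2 n35002 = n33061 := d1_1 D35002 F52281 F43601
theorem F55466 : act 7 n35002 = n27460 := d11_2 F43629 D35002 F44379
theorem F55467 : act 5 n35002 = n27416 := d16_1 D35002 F44314 F30269 (iv4 D16982) (iv5 D7932) D7931 D16980 (iv7 F43603) F43601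
theorem F55468 : act 0 n35002 = n26443 := d18_2 (iv1 F55409) D35002 (iv4 D26443) (iv5 D12621) (iv4 D5992) D5990 D12613 (iv0 F37277) (iv5 F55408)
theorem F55469 : act 1 n35002 = n33030 := d18_6 (iv1 F21471) F21469 (iv1 F9537) D7936 D16991 D35002 (iv4 D33030) F27843 (iv5 D16925)
theorem F55470 : act 3 n35002 = n27417 := d19_3 (iv1 F27850) D16991 D35002 F44318 (iv5 D27334) F21862 F12849 F13328 (iv5 D2604) F2275 (iv3 D878) F1070 D912 D1719 D3968 D8897 (iv5 F25996) D16962 F27851
theorem F55471 : act 0 n23762 = n25564 := d20_4 F12502 (iv1 F12067) (iv4 F18066) (iv3 F37033) F40444 D35002 F55468 (iv4 D26443) F21016 (iv1 F12503)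
theorem F55472 : act 1 n23762 = n25567 := d15_1 (iv0 F55471) (iv7 F46140) (iv2 F46141)
theorem F55473 : act 1 n25599 = n25564 := d15_0 (iv0 F55471) F37034 (iv2 F40503)
theorem F55474 : act 1 n25567 = n25599 := d15_0 F55473 F46138 F46139
theorem E5851 : n25335 = n22072 := (c21_5 D25567 (iv1 F55472) (iv5 D23762) (iv6 F19914) D25335 (iv6 D22072) (iv5 D10512) F7308 D9702 D20428 (iv1 F32467))
theorem F55475 : act 1 n22072 = n12031 := (sb E5851 (iv0 D25335))
theorem F55476 : act 3 n22072 = n33042 := (sb E5851 F52242)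
theorem F55477 : act 7 n22072 = n33131 := (sb E5851 (iv7 F52365))
theorem F55478 : act 6 n33042 = n22070 := d7_2 D22072 F55476 F34542
theorem F55479 : act 2 n22070 = n33124 := d3_1 F55478 (iv6 D33124) (iv2 F52240)
theorem E5852 : n33044 = n26170 := ((c10_2 F55478 F41516 (iv6 D33044) D33042)).symm
theorem F55480 : act 2 n26170 = n15973 := (sb E5852 F52246)
theorem F55481 : act 5 n26170 = n17014 := (sb E5852 F52247)
theorem F55482 : act 6 n26170 = n15932 := (sb E5852 (iv6 D33044))
theorem F55483 : act 5 n33124 = n22069 := d2_2 D22070 F55479 (iv2 D22069)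
def n35003 : Q := act 6 n16991
theorem D35003 : act 6 n16991 = n35003 := rfl
def n35004 : Q := act 0 n16992
theorem D35004 : act 0 n16992 = n35004 := rfl
def n35005 : Q := act 1 n16992
theorem D35005 : act 1 n16992 = n35005 := rfl
theorem F55484 : act 1 n35005 = n34284 := d15_1 D35005 F54392 F43604
theorem F55485 : act 4 n24392 = n35005 := d20_0 (iv1 D35005) F27861 (iv3 F27860) F47451 (iv3 D13834) F10645 F8309 D6391 D13444 (iv1 F50885)
def n35006 : Q := act 5 n16992
theorem D35006 : act 5 n16992 = n35006 := rfl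
def n35007 : Q := act 7 n16992
theorem D35007 : act 7 n16992 = n35007 := rfl
theorem F55486 : act 2 n35007 = n34284 := d4_1 D35007 F54392 F43604
theorem F55487 : act 4 n35007 = n16998 := d11_1 D35007 (iv7 D16998) (iv4 F27861)
theorem F55488 : act 1 n34284 = n35004 := d15_0 (iv0 D35004) D35007 F55486
theorem F55489 : act 4 n28164 = n35004 := d20_0 (iv1 F55488) (iv4 D34284) (iv3 F50489) F50487 (iv3 D16613) (iv4 F26821) (iv1 F23441) (iv4 F45529) (iv3 F45541) (iv1 F45547)
theorem F55490 : act 3 n32451 = n28164 := d20_5 (iv4 F46757) F50648 F24935 (iv3 F24932) D32451 F55489 (iv1 F55488) (iv4 D34284) (iv3 F50489) F50487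
theorem F55491 : act 6 n34971 = n32451 := d7_0 F55490 F54350 D34971
theorem F55492 : act 4 n24836 = n32451 := d20_2 (iv4 F19127) D24836 F55490 (iv1 D28164) (iv3 D13444) (iv4 D6391) F8164 (iv4 F10642) (iv3 F26822) (iv1 D12770)
theorem F55493 : act 6 n31514 = n24836 := d10_0 F55492 (iv6 F55491) F55379
theorem F55494 : act 2 n32451 = n24387 := d3_1 F55491 (iv6 F50950) (iv2 F55378)
theorem F55495 : act 7 n32452 = n24387 := d15_2 (iv0 D32451) D32452 (iv2 F55494)
theorem E5853 : n24397 = n24391 := ((c8_3 F55495 (iv3 D24387) D24391 F51526)).symm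
theorem F55496 : act 0 n24391 = n11502 := (sb E5853 (iv1 D24397))
theorem F55497 : act 1 n24391 = n11504 := (sb E5853 F38246)
theorem F55498 : act 3 n24391 = n32452 := (sb E5853 F51526)
theorem F55499 : act 4 n24391 = n28168 := (sb E5853 (iv4 F45531))
theorem F55500 : act 2 n28168 = n24393 := d1_1 F55499 (iv4 D24393) (iv2 F38242)
theorem F55501 : act 7 n28168 = n24388 := d11_2 D24391 F55499 (iv4 D24388)
theorem F55502 : act 7 n29171 = n29718 := d13_2 F55501 F54170 (iv5 F54186)
theorem F55503 : act 2 n24388 = n24300 := d15_3 F45549 F45532 F55501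
theorem F55504 : act 7 n24393 = n24300 := d4_2 (iv7 F55501) F55500 (iv2 F55503)
theorem E5854 : n24310 = n24304 := ((c8_3 F55504 (iv3 D24300) D24304 (iv3 F38243))).symm
theorem F55505 : act 0 n24304 = n11445 := (sb E5854 (iv1 D24310))
theorem F55506 : act 1 n24304 = n11447 := (sb E5854 F38096)
theorem F55507 : act 3 n24304 = n24393 := (sb E5854 (iv3 F38243))
theorem E5855 : n24396 = n24386 := (c11_2 F55504 (iv4 F38244) (iv7 F38241) D24393)
theorem F55508 : act 0 n24386 = n11504 := (sb E5855 (iv1 F38245))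
theorem F55509 : act 1 n24386 = n11502 := (sb E5855 (iv0 D24396))
theorem F55510 : act 3 n24386 = n28171 := (sb E5855 F45550)
theorem F55511 : act 4 n24386 = n24300 := (sb E5855 F38244)
theorem E5856 : n31545 = n26051 := (((iv6 F50949)).symm.trans (sb E5855 (iv6 F50887)))
theorem F55512 : act 2 n26051 = n14858 := (sb E5856 (iv2 D31545))
theorem E5857 : n34970 = n34963 := (((F55359).symm.trans (sb E5856 (iv3 F55377)))).symm
theorem F55513 : act 6 n26051 = n24386 := (sb E5856 F50949)
theorem F55514 : act 7 n26051 = n14859 := (sb E5856 (iv7 F49884))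
theorem F55515 : act 2 n34963 = n16971 := (sb E5857 F55376)
theorem F55516 : act 7 n34963 = n16970 := (sb E5857 (iv7 D34970))
theorem F55517 : act 7 n29719 = n29172 := d13_2 F55504 F54222 (iv5 F54321)
theorem F55518 : act 2 n29172 = n29718 := d15_3 (iv0 D29718) D29719 F55517
theorem F55519 : act 2 n29719 = n29171 := d4_1 (iv7 F55517) F55502 (iv2 F55518)
theorem F55520 : act 7 n34968 = n28455 := d13_2 F55516 D34968 (iv5 F55361)
theorem E5858 : n34966 = n34962 := (c15_4 (iv0 D34962) D34963 F55516 D34966)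
theorem F55521 : act 2 n34962 = n16970 := (sb E5858 (iv2 D34966))
theorem F55522 : act 7 n34962 = n16971 := (sb E5858 (iv7 F55372))
theorem E5859 : n28449 = n28445 := (c8_3 F55520 (iv3 D28455) F45982 (iv3 F55374))
theorem F55523 : act 2 n28445 = n13567 := (sb E5859 (iv2 D28449))
theorem F55524 : act 7 n28445 = n13568 := (sb E5859 (iv7 F45982))
theorem E5860 : n28454 = n28446 := (c15_4 F45977 F45976 F55524 (iv2 F45983))
theorem F55525 : act 2 n28446 = n13568 := (sb E5860 F45983)
theorem F55526 : act 7 n28446 = n13567 := (sb E5860 (iv7 D28454))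
theorem E5861 : n31550 = n26050 := ((c13_2 F55526 (iv5 F50824) (iv7 D31550) F50947)).symm
theorem F55527 : act 2 n26050 = n14859 := (sb E5861 F49887)
theorem F55528 : act 7 n26050 = n14858 := (sb E5861 (iv7 D31550))
theorem E5862 : n32395 = n31547 := ((c11_2 F55528 D31547 (iv7 D32395) F41183)).symm
theorem F55529 : act 2 n31547 = n15294 := (sb E5862 F51449)
theorem F55530 : act 7 n31547 = n15293 := (sb E5862 (iv7 D32395))
theorem E5863 : n32393 = n31552 := (c15_4 F50151 (iv0 F49885) F55530 D32393)
theorem F55531 : act 2 n31552 = n15293 := (sb E5863 (iv2 D32393))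
theorem F55532 : act 7 n31552 = n15294 := (sb E5863 (iv7 F51448))
theorem E5864 : n31567 = n24303 := ((c8_2 F55532 (iv3 F54263) (iv7 D31567) (iv3 F49888))).symm
theorem F55533 : act 2 n24303 = n14864 := (sb E5864 F49897)
theorem F55534 : act 7 n24303 = n14863 := (sb E5864 (iv7 D31567))
theorem E5865 : n31563 = n25288 := (c15_4 F39937 (iv0 F54267) F55534 D31563)
theorem F55535 : act 2 n25288 = n14863 := (sb E5865 (iv2 D31563))
theorem F55536 : act 7 n25288 = n14864 := (sb E5865 (iv7 F49896))
theorem E5866 : n24309 = n24299 := (c3_3 D24303 F55533 (iv6 F50936) (iv2 D24299))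
theorem F55537 : act 0 n24299 = n11447 := (sb E5866 (iv1 F38095))
theorem F55538 : act 1 n24299 = n11445 := (sb E5866 (iv0 D24309))
theorem F55539 : act 6 n24299 = n14864 := (sb E5866 F50936)
theorem F55540 : act 2 n34973 = n28455 := d2_3 (iv5 F55361) F55515 D34973
theorem F55541 : act 2 n28164 = n28171 := d3_3 F55360 F55515 (iv6 F54350)
theorem F55542 : act 2 n29698 = n29198 := d2_3 (iv5 F54349) F55541 F54288
theorem F55543 : act 7 n28172 = n28164 := d15_2 (iv0 D28171) D28172 F55541
theorem F55544 : act 7 n24392 = n28171 := d15_2 F45547 (iv0 F50884) (iv2 F55541)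
theorem F55545 : act 2 n28172 = n24392 := d4_3 F55544 (iv2 F55541) (iv7 F55543)
theorem F55546 : act 7 n29698 = n29197 := d13_2 F55544 F54288 (iv5 F54344)
theorem F55547 : act 2 n29197 = n29699 := d15_3 F47737 F47736 F55546
theorem F55548 : act 7 n29198 = n29699 := d4_2 (iv7 F55546) F55542 (iv2 F55547)
theorem F55549 : act 6 n35004 = n34972 := d10_2 (iv6 F54350) F55489 (iv4 D34972)
def n35008 : Q := act 3 n16993
theorem D35008 : act 3 n16993 = n35008 := rfl
theorem F55550 : act 7 n35008 = n33083 := d8_2 (iv7 F35200) D35008 (iv3 D33083)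
def n35009 : Q := act 5 n16993
theorem D35009 : act 5 n16993 = n35009 := rfl
theorem F55551 : act 2 n35009 = n27447 := d2_1 D35009 F44364 (iv2 F35204)
theorem F55552 : act 4 n35009 = n27459 := d9_1 D35009 (iv5 F55420) (iv4 D34983) (iv5 D16980) (iv4 D7931) D7932 D16982 (iv5 F30269) (iv4 F44314) (iv5 F55467) (iv4 D35002) (iv5 D16991) (iv4 D7936) D7937 D16993
theorem F55553 : act 7 n35009 = n33084 := d13_2 (iv7 F35200) D35009 (iv5 D33084)
def n35010 : Q := act 6 n16993
theorem D35010 : act 6 n16993 = n35010 := rfl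
theorem F55554 : act 2 n35010 = n33076 := d3_1 D35010 (iv6 D33076) (iv2 F35204)
theorem F55555 : act 4 n35010 = n16994 := d10_1 D35010 (iv6 D16994) D16993
def n35011 : Q := act 0 n16994
theorem D35011 : act 0 n16994 = n35011 := rfl
def n35012 : Q := act 1 n16994
theorem D35012 : act 1 n16994 = n35012 := rfl
theorem F55556 : act 1 n35012 = n33080 := d15_1 D35012 (iv7 D33080) F35205
def n35013 : Q := act 5 n16994
theorem D35013 : act 5 n16994 = n35013 := rfl
theorem F55557 : act 2 n35013 = n33079 := d2_1 D35013 (iv5 D33079) F35205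
theorem F55558 : act 3 n35013 = n33139 := d6_1 D35013 (iv5 F55464) F55463
theorem F55559 : act 6 n35013 = n16997 := d12_2 D16994 D35013 (iv5 D16997) (iv6 D7938) D7937
def n35014 : Q := act 7 n16994
theorem D35014 : act 7 n16994 = n35014 := rfl
theorem F55560 : act 2 n35014 = n33080 := d4_1 D35014 (iv7 D33080) F35205
theorem F55561 : act 6 n35014 = n33089 := d14_1 D35014 (iv7 D33089) (iv6 D15960) F35188 D16994
theorem F55562 : act 1 n33080 = n35011 := d15_0 (iv0 D35011) D35014 F55560
theorem F55563 : act 1 n33078 = n35014 := d15_1 D33078 (iv7 D35014) (iv2 F35205)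
theorem F55564 : act 1 n35014 = n33077 := d15_0 (iv0 D33077) D33080 (iv2 F55560)
def n35015 : Q := act 5 n16996
theorem D35015 : act 5 n16996 = n35015 := rfl
theorem F55565 : act 2 n35015 = n24295 := d2_1 D35015 (iv5 D24295) (iv2 F50506)
theorem F55566 : act 3 n35015 = n29065 := d6_1 D35015 (iv5 D29065) (iv3 F50507)
theorem F55567 : act 7 n35015 = n34287 := d13_2 (iv7 F50508) D35015 (iv5 D34287)
theorem F55568 : act 1 n34291 = n35015 := d15_1 D34291 F55567 F54398
theorem F55569 : act 1 n24295 = n33130 := d15_0 (iv0 F54400) (iv7 F55567) F55565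
theorem F55570 : act 1 n35015 = n34290 := d15_0 (iv0 D34290) (iv7 F38086) (iv2 F55565)
def n35016 : Q := act 6 n16996
theorem D35016 : act 6 n16996 = n35016 := rfl
theorem F55571 : act 2 n35016 = n24296 := d3_1 D35016 (iv6 D24296) (iv2 F50506)
theorem F55572 : act 3 n35016 = n29066 := d7_1 D35016 (iv6 D29066) (iv3 F50507)
theorem F55573 : act 7 n35016 = n28373 := d14_2 (iv7 F50508) D35016 (iv6 D28373) (iv7 F37169) F37168
theorem F55574 : act 1 n28375 = n35016 := d15_1 D28375 F55573 F45866
theorem F55575 : act 1 n35016 = n28374 := d15_0 (iv0 D28374) (iv7 F38088) (iv2 F55571)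
def n35017 : Q := act 1 n16997
theorem D35017 : act 1 n16997 = n35017 := rfl
theorem F55576 : act 1 n35017 = n34285 := d15_1 D35017 F54393 F43607
theorem F55577 : act 7 n35017 = n26495 := d15_2 (iv0 F29904) D35017 F42397
theorem F55578 : act 5 n24288 = n35017 := d21_6 (iv5 F5429) F30291 (iv5 D7458) D7459 D15909 (iv6 F38069) (iv1 D35017) (iv5 D16997) (iv6 D7938) (iv1 D3592)
theorem F55579 : act 2 n35017 = n24289 := d2_1 F55578 (iv5 D24289) D24288
theorem F55580 : act 3 n35017 = n26532 := d6_1 F55578 F42476 (iv3 F38068)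
theorem F55581 : act 5 n17013 = n26169 := d21_8 F55578 (iv1 D35017) (iv5 D16997) (iv6 D7938) (iv1 D3592) D3594 D7942 D17013 (iv6 F46895) (iv1 F38230)
theorem F55582 : act 7 n33128 = n17013 := d13_0 F55581 (iv7 F50593) D33128
def n35018 : Q := act 4 n16997
theorem D35018 : act 4 n16997 = n35018 := rfl
def n35019 : Q := act 7 n16997
theorem D35019 : act 7 n16997 = n35019 := rfl
theorem F55583 : act 2 n35019 = n34285 := d4_1 D35019 F54393 F43607
theorem F55584 : act 3 n35019 = n33047 := d8_1 D35019 (iv7 F52257) F30296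
theorem F55585 : act 5 n35019 = n16998 := d13_1 D35019 (iv7 D16998) D16997
theorem F55586 : act 1 n24289 = n35019 := d15_1 F43609 (iv7 D35019) (iv2 F43607)
theorem F55587 : act 1 n35019 = n26495 := d15_1 F55586 (iv7 F55577) F55579
def n35020 : Q := act 5 n16999
theorem D35020 : act 5 n16999 = n35020 := rfl
theorem F55588 : act 2 n35020 = n17006 := d2_1 D35020 (iv5 D17006) (iv2 F35038)
theorem F55589 : act 3 n35020 = n17011 := d6_1 D35020 (iv5 D17011) (iv3 F35039)
theorem F55590 : act 7 n35020 = n17011 := d13_2 (iv7 F35041) D35020 (iv5 D17011)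
theorem F55591 : act 0 n35020 = n26171 := d17_2 D16999 D35020 (iv5 D26171) (iv4 F41510) (iv5 F41511) F32599 F32598 (iv0 F27766) F27765
theorem F55592 : act 1 n17006 = n32626 := d15_0 (iv0 F51683) (iv7 F55590) F55588
def n35021 : Q := act 6 n16999
theorem D35021 : act 6 n16999 = n35021 := rfl
theorem F55593 : act 2 n35021 = n17007 := d3_1 D35021 (iv6 D17007) (iv2 F35038)
theorem F55594 : act 3 n35021 = n17012 := d7_1 D35021 (iv6 D17012) (iv3 F35039)
theorem F55595 : act 5 n35021 = n26462 := d21_6 D12609 F27274 F11826 D7939 D16999 D35021 (iv1 D26462) (iv5 D12629) (iv6 D5994) D5989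
theorem F55596 : act 0 n28373 = n35021 := d21_4 D26153 F50511 F24819 D28373 (iv6 D35021) D35020 F55591 (iv5 D26171) (iv6 D12412) D12407
theorem F55597 : act 1 n24296 = n35021 := d15_0 (iv0 F55596) (iv7 F55573) F55571
def n35022 : Q := act 4 n17000
theorem D35022 : act 4 n17000 = n35022 := rfl
theorem F55598 : act 2 n35022 = n17010 := d1_1 D35022 (iv4 D17010) (iv2 F35042)
theorem F55599 : act 3 n35022 = n32507 := d5_1 D35022 (iv4 D32507) (iv3 D15386) D15387 F27863
theorem F55600 : act 7 n35022 = n17005 := d11_2 (iv7 F35043) D35022 (iv4 D17005)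
theorem F55601 : act 0 n34960 = n35022 := d20_1 (iv4 F55349) (iv4 D35022) (iv3 F27863) (iv1 F54088) F51507 F27187 F54080 (iv4 F27925) F27924 (iv1 F54155)
def n35023 : Q := act 5 n17000
theorem D35023 : act 5 n17000 = n35023 := rfl
theorem F55602 : act 2 n35023 = n17011 := d2_1 D35023 (iv5 D17011) (iv2 F35042)
theorem F55603 : act 3 n35023 = n32510 := d6_1 D35023 (iv5 D32510) F27863
theorem F55604 : act 7 n35023 = n17006 := d13_2 (iv7 F35043) D35023 (iv5 D17006)
theorem F55605 : act 1 n35023 = n26171 := d15_0 (iv0 F55591) F55590 (iv2 F55602)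
def n35024 : Q := act 6 n17000
theorem D35024 : act 6 n17000 = n35024 := rfl
theorem F55606 : act 2 n35024 = n17012 := d3_1 D35024 (iv6 D17012) (iv2 F35042)
theorem F55607 : act 3 n35024 = n31649 := d7_1 D35024 F50637 F27863
theorem F55608 : act 5 n33970 = n35024 := d21_2 D16425 D33970 (iv6 D35024) (iv1 D17000) (iv6 D7939) (iv5 F11826) (iv1 F27277) (iv5 D12614) D12615 F43611
theorem F55609 : act 0 n34403 = n35024 := d20_4 F25944 F12715 (iv4 F27304) (iv3 F54568) F55607 (iv4 D31649) (iv1 F26693) F25949 (iv3 D16460) D16459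
def n35025 : Q := act 0 n17001
theorem D35025 : act 0 n17001 = n35025 := rfl
theorem F55610 : act 2 n17013 = n35025 := d15_3 (iv0 D35025) (iv0 F52360) F55582
theorem F55611 : act 7 n35025 = n17014 := d4_2 F55582 F55610 (iv2 F52359)
theorem F55612 : act 1 n17016 = n35025 := d15_1 (iv0 F52361) F55611 (iv2 F52359)
def n35026 : Q := act 4 n17001
theorem D35026 : act 4 n17001 = n35026 := rfl
theorem F55613 : act 2 n35026 = n17015 := d1_1 D35026 (iv4 D17015) (iv2 F27864)
theorem F55614 : act 0 n35026 = n32604 := d18_2 F52360 D35026 (iv4 D32604) F24979 (iv4 F47733) (iv0 F47735) (iv4 F41494) (iv0 F52345) D33128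
def n35027 : Q := act 7 n17001
theorem D35027 : act 7 n17001 = n35027 := rfl
theorem F55615 : act 2 n35027 = n17016 := d4_1 D35027 (iv7 D17016) (iv2 F27864)
theorem F55616 : act 3 n35027 = n26727 := d8_1 D35027 (iv7 F43279) F43278
theorem F55617 : act 5 n35027 = n17002 := d13_1 D35027 (iv7 D17002) D17001
theorem F55618 : act 1 n17014 = n35027 := d15_1 D17014 (iv7 D35027) F27864
theorem F55619 : act 1 n35027 = n17013 := d15_1 F55618 (iv7 F55582) F52359
def n35028 : Q := act 5 n17004
theorem D35028 : act 5 n17004 = n35028 := rfl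
theorem F55620 : act 2 n35028 = n32510 := d2_1 D35028 (iv5 D32510) F35047
theorem F55621 : act 3 n35028 = n17006 := d6_1 D35028 (iv5 D17006) D17004
theorem F55622 : act 7 n35028 = n32510 := d13_2 (iv7 F35044) D35028 (iv5 D32510)
theorem F55623 : act 1 n35028 = n32113 := d17_6 (iv1 F41400) D26132 F51558 (iv5 D32470) (iv4 F27872) D35028 (iv5 D32113) F51062 F54356
theorem F55624 : act 0 n35028 = n32113 := d21_1 D35028 (iv5 D32113) (iv6 D15161) D15156 F41334 D16184 (iv1 F44830) F44828 (iv6 F54090) F51695
def n35029 : Q := act 6 n17004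
theorem D35029 : act 6 n17004 = n35029 := rfl
theorem F55625 : act 2 n35029 = n31649 := d3_1 D35029 F50637 F35047
theorem F55626 : act 3 n35029 = n17007 := d7_1 D35029 (iv6 D17007) D17004
theorem F55627 : act 4 n35029 = n31627 := d10_1 D35029 F50642 (iv4 F27872)
theorem F55628 : act 0 n35029 = n34314 := d21_4 D32113 (iv1 F55623) (iv5 D35028) D35029 (iv6 D34314) D34313 F54461 (iv5 D33119) (iv6 F54357) (iv1 F51062)
theorem F55629 : act 5 n35029 = n33516 := d21_6 D16184 (iv1 F44830) F44828 (iv6 F54090) F51695 D35029 (iv1 D33516) (iv5 D16192) (iv6 D7553) D7548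
theorem F55630 : act 7 n31654 = n35029 := d11_0 F55627 F50643 D31654
theorem E5867 : n28374 = n17007 := (c20_5 F20521 (iv1 D6441) (iv4 F10498) (iv3 F22689) D28374 (iv3 F55626) F55627 (iv1 F49940) F24530 F24529 (iv1 F20519))
theorem F55631 : act 0 n17007 = n35016 := (sb E5867 (iv1 F55575))
theorem F55632 : act 1 n17007 = n13536 := (sb E5867 (iv0 D28374))
theorem F55633 : act 7 n28375 = n35021 := d15_2 F55632 D28375 F55593
def n35030 : Q := act 6 n17005
theorem D35030 : act 6 n17005 = n35030 := rfl
theorem F55634 : act 4 n35030 = n17007 := d10_1 D35030 (iv6 D17007) D17005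
def n35031 : Q := act 0 n17006
theorem D35031 : act 0 n17006 = n35031 := rfl
theorem F55635 : act 5 n35031 = n26160 := d17_3 D7940 D17006 D35031 F41494 (iv5 D20005) D20002 (iv5 F32535) (iv0 D16935) F12510
theorem F55636 : act 2 n26171 = n35031 := d15_3 (iv0 D35031) F55592 F51682
theorem F55637 : act 1 n17011 = n35031 := d15_0 (iv0 D35031) (iv7 F55604) F55602
theorem F55638 : act 0 n17012 = n28707 := d21_4 (iv5 F55635) (iv1 F55637) (iv5 D17011) D17012 F46285 (iv5 F46805) F52346 (iv5 D15972) D15973 F52345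
theorem F55639 : act 3 n35031 = n32019 := d0_2 (iv3 F41517) F55636 F50385 F24728 (iv2 F20680)
def n35032 : Q := act 4 n17006
theorem D35032 : act 4 n17006 = n35032 := rfl
def n35033 : Q := act 6 n17006
theorem D35033 : act 6 n17006 = n35033 := rfl
def n35034 : Q := act 5 n17007
theorem D35034 : act 5 n17007 = n35034 := rfl
theorem F55640 : act 2 n35034 = n26462 := d2_1 D35034 (iv5 F55595) F55593
theorem F55641 : act 3 n35034 = n33516 := d6_1 D35034 (iv5 F55629) F55626
theorem F55642 : act 0 n35034 = n26438 := d21_1 D35034 (iv5 D26438) (iv6 D12618) (iv1 F9312) F41341 D15067 F50538 F11532 D13536 (iv1 F55632)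
theorem F55643 : act 0 n26464 = n35034 := d21_1 (iv5 F42319) (iv5 D35034) (iv6 D17007) (iv1 F27870) F27867 (iv5 F27028) (iv1 F42225) (iv5 D26424) D26425 (iv1 F42262)
def n35035 : Q := act 7 n17007
theorem D35035 : act 7 n17007 = n35035 := rfl
theorem F55644 : act 2 n35035 = n28375 := d4_1 D35035 F55633 F55593
theorem F55645 : act 3 n35035 = n31654 := d8_1 D35035 F55630 F55626
theorem F55646 : act 1 n28373 = n35035 := d15_1 (iv0 F55596) (iv7 D35035) (iv2 F55593)
theorem F55647 : act 1 n35035 = n24296 := d15_1 F55646 F38088 (iv2 F45866)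
def n35036 : Q := act 6 n17010
theorem D35036 : act 6 n17010 = n35036 := rfl
theorem F55648 : act 4 n35036 = n17012 := d10_1 D35036 (iv6 D17012) D17010
def n35037 : Q := act 4 n17011
theorem D35037 : act 4 n17011 = n35037 := rfl
theorem F55649 : act 3 n35037 = n27463 := d19_3 (iv1 F27869) D17011 D35037 (iv1 D27463) (iv5 D13143) (iv4 D6255) D6254 (iv1 F16317) (iv5 D10293) F6762 (iv3 D4451) (iv1 F6551) D4811 (iv4 F14575) D19866 F31710 D19907 F31853 (iv3 F27866)
theorem F55650 : act 0 n35037 = n33631 := d20_4 F44339 F44301 (iv4 F44389) (iv3 F55649) F52919 (iv4 F46198) (iv1 F54541) (iv4 D34367) (iv3 F27975) (iv1 F44342)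
def n35038 : Q := act 6 n17011
theorem D35038 : act 6 n17011 = n35038 := rfl
def n35039 : Q := act 1 n17012
theorem D35039 : act 1 n17012 = n35039 := rfl
def n35040 : Q := act 5 n17012
theorem D35040 : act 5 n17012 = n35040 := rfl
theorem F55651 : act 2 n35040 = n33970 := d2_1 D35040 F55608 F55606
theorem F55652 : act 3 n35040 = n26462 := d6_1 D35040 (iv5 F55595) F55594
theorem F55653 : act 0 n35040 = n26684 := d21_7 D26485 F42378 F27028 (iv6 F27867) (iv1 F27869) D17012 D35040 (iv5 D26684) F42220 (iv1 F42218)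
theorem F55654 : act 0 n33013 = n35040 := d21_1 D33013 (iv5 D35040) (iv6 D17012) (iv1 D7941) (iv6 D3594) (iv5 F5429) F30291 (iv5 D7458) D7459 D15909
theorem F55655 : act 7 n33971 = n35040 := d15_2 (iv0 D33970) D33971 F55651
def n35041 : Q := act 7 n17012
theorem D35041 : act 7 n17012 = n35041 := rfl
theorem F55656 : act 3 n35041 = n28375 := d8_1 D35041 F55633 F55594
theorem F55657 : act 5 n35041 = n33971 := d13_1 D35041 F55655 (iv5 D35040)
theorem F55658 : act 6 n35041 = n28375 := d14_1 D35041 F55633 (iv6 D35021) F35041 D17012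
theorem F55659 : act 1 n34403 = n35041 := d15_1 (iv0 F55609) (iv7 D35041) (iv2 F55606)
def n35042 : Q := act 3 n17013
theorem D35042 : act 3 n17013 = n35042 := rfl
theorem F55660 : act 5 n35042 = n29224 := d6_2 (iv5 F55581) D35042 (iv3 F46893)
def n35043 : Q := act 4 n17013
theorem D35043 : act 4 n17013 = n35043 := rfl
theorem F55661 : act 5 n35043 = n22133 := d16_1 D35043 (iv4 D22133) (iv5 D10552) (iv4 F16710) D22070 F41516 F55481 (iv7 F55611) (iv2 F55610)
def n35044 : Q := act 6 n17013
theorem D35044 : act 6 n17013 = n35044 := rfl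
def n35045 : Q := act 3 n17014
theorem D35045 : act 3 n17014 = n35045 := rfl
def n35046 : Q := act 4 n17014
theorem D35046 : act 4 n17014 = n35046 := rfl
def n35047 : Q := act 6 n17014
theorem D35047 : act 6 n17014 = n35047 := rfl
def n35048 : Q := act 0 n17015
theorem D35048 : act 0 n17015 = n35048 := rfl
def n35049 : Q := act 1 n17015
theorem D35049 : act 1 n17015 = n35049 := rfl
theorem F55662 : act 4 n35049 = n26274 := d18_7 F54154 F27770 (iv1 D16936) F12510 D7942 D17015 D35049 (iv0 F55356) (iv5 D34961)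
theorem F55663 : act 7 n32604 = n35049 := d11_0 F55662 F41814 D32604
theorem F55664 : act 2 n32604 = n35048 := d15_3 (iv0 D35048) D35049 (iv7 F55663)
theorem F55665 : act 4 n35048 = n32603 := d1_2 D32604 F55664 (iv2 D32603)
def n35050 : Q := act 3 n17015
theorem D35050 : act 3 n17015 = n35050 := rfl
theorem F55666 : act 4 n35050 = n17023 := d5_2 D17015 D35050 (iv3 D17023) (iv4 D7946) (iv3 F12574)
def n35051 : Q := act 5 n17015
theorem D35051 : act 5 n17015 = n35051 := rfl
theorem F55667 : act 4 n35051 = n22128 := d16_2 D17015 D35051 (iv5 D22128) (iv4 F17031) (iv5 F31848) (iv4 F31850) (iv5 F55617) (iv7 D35027) F27864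
def n35052 : Q := act 7 n17015
theorem D35052 : act 7 n17015 = n35052 := rfl
theorem F55668 : act 4 n35052 = n17016 := d11_1 D35052 (iv7 D17016) D17015
theorem F55669 : act 0 n32604 = n35052 := d18_2 F54260 D32604 F55668 F27875 (iv4 F27777) (iv0 F27779) (iv4 D15423) D15421 D32572
def n35053 : Q := act 6 n17016
theorem D35053 : act 6 n17016 = n35053 := rfl
theorem F55670 : act 3 n35053 = n17026 := d7_1 D35053 (iv6 D17026) (iv3 F27874)
def n35054 : Q := act 4 n17017
theorem D35054 : act 4 n17017 = n35054 := rfl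
def n35055 : Q := act 6 n17017
theorem D35055 : act 6 n17017 = n35055 := rfl
theorem F55671 : act 3 n35055 = n17018 := d7_1 D35055 (iv6 D17018) D17017
def n35056 : Q := act 0 n17018
theorem D35056 : act 0 n17018 = n35056 := rfl
def n35057 : Q := act 1 n17018
theorem D35057 : act 1 n17018 = n35057 := rfl
def n35058 : Q := act 7 n17018
theorem D35058 : act 7 n17018 = n35058 := rfl
def n35059 : Q := act 4 n17019
theorem D35059 : act 4 n17019 = n35059 := rfl
theorem F55672 : act 3 n35059 = n25692 := d5_1 D35059 F51661 (iv3 D32613) F24983 D17019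
theorem F55673 : act 7 n35059 = n25696 := d11_2 F43301 D35059 (iv4 F43299)
theorem F55674 : act 5 n35059 = n32340 := d16_7 (iv4 D34881) F54362 F54360 F41816 (iv4 F23544) (iv5 F27876) D35059 F51357 (iv2 F55172)
def n35060 : Q := act 6 n17019
theorem D35060 : act 6 n17019 = n35060 := rfl
theorem F55675 : act 3 n35060 = n17020 := d7_1 D35060 (iv6 D17020) D17019
theorem F55676 : act 5 n35060 = n29660 := d12_1 D35060 (iv6 D29660) (iv5 D14089) D14090 (iv5 F27876)
def n35061 : Q := act 0 n17020
theorem D35061 : act 0 n17020 = n35061 := rfl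
def n35062 : Q := act 1 n17020
theorem D35062 : act 1 n17020 = n35062 := rfl
def n35063 : Q := act 7 n17020
theorem D35063 : act 7 n17020 = n35063 := rfl
theorem F55677 : act 5 n35063 = n29665 := d13_1 D35063 (iv7 D29665) (iv5 F27877)
def n35064 : Q := act 3 n17021
theorem D35064 : act 3 n17021 = n35064 := rfl
theorem F55678 : act 5 n35064 = n32668 := d6_2 F27881 D35064 (iv3 D32668)
theorem F55679 : act 7 n35064 = n32606 := d8_2 F27880 D35064 (iv3 D32606)
def n35065 : Q := act 6 n17021
theorem D35065 : act 6 n17021 = n35065 := rfl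
theorem F55680 : act 2 n35065 = n32597 := d3_1 D35065 (iv6 D32597) F27879
theorem F55681 : act 4 n35065 = n26275 := d10_1 D35065 (iv6 D26275) (iv4 F27878)
def n35066 : Q := act 3 n17022
theorem D35066 : act 3 n17022 = n35066 := rfl
theorem F55682 : act 4 n35066 = n34959 := d5_2 (iv4 F27883) D35066 F55343 F54360 (iv3 D26276)
theorem F55683 : act 5 n35066 = n32660 := d6_2 F27885 D35066 (iv3 D32660)
theorem F55684 : act 7 n35066 = n32596 := d8_2 (iv7 F27882) D35066 (iv3 D32596)
theorem F55685 : act 0 n35066 = n25705 := d20_4 F24986 (iv1 F20789) (iv4 F27883) D35066 (iv3 D25705) (iv4 D12209) D12207 D25697 F41823 (iv1 F41822)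
def n35067 : Q := act 6 n17022
theorem D35067 : act 6 n17022 = n35067 := rfl
theorem F55686 : act 2 n35067 = n32607 := d3_1 D35067 (iv6 D32607) F27884
theorem F55687 : act 4 n35067 = n26277 := d10_1 D35067 (iv6 D26277) (iv4 F27883)
def n35068 : Q := act 0 n17023
theorem D35068 : act 0 n17023 = n35068 := rfl
def n35069 : Q := act 1 n17023
theorem D35069 : act 1 n17023 = n35069 := rfl
def n35070 : Q := act 2 n17023
theorem D35070 : act 2 n17023 = n35070 := rfl
def n35071 : Q := act 5 n17023
theorem D35071 : act 5 n17023 = n35071 := rfl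
theorem F55688 : act 3 n35071 = n17024 := d6_1 D35071 (iv5 D17024) D17023
theorem F55689 : act 4 n18642 = n35071 := d5_0 F55688 F27886 F26584 D8753 D18642
theorem F55690 : act 7 n17421 = n35071 := d8_0 F55688 F27887 D17421
def n35072 : Q := act 7 n17023
theorem D35072 : act 7 n17023 = n35072 := rfl
theorem F55691 : act 3 n35072 = n17025 := d8_1 D35072 (iv7 D17025) D17023
theorem F55692 : act 5 n35072 = n17421 := d13_1 D35072 F55690 (iv5 D35071)
def n35073 : Q := act 6 n17024
theorem D35073 : act 6 n17024 = n35073 := rfl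
theorem F55693 : act 4 n35073 = n17422 := d10_1 D35073 (iv6 D17422) (iv4 F27886)
def n35074 : Q := act 6 n17025
theorem D35074 : act 6 n17025 = n35074 := rfl
theorem F55694 : act 4 n35074 = n17026 := d10_1 D35074 (iv6 D17026) (iv4 F27890)
def n35075 : Q := act 0 n17026
theorem D35075 : act 0 n17026 = n35075 := rfl
def n35076 : Q := act 1 n17026
theorem D35076 : act 1 n17026 = n35076 := rfl
def n35077 : Q := act 4 n17029
theorem D35077 : act 4 n17029 = n35077 := rfl
theorem F55695 : act 2 n35077 = n32571 := d1_1 D35077 (iv4 D32571) (iv2 F54145)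
theorem F55696 : act 3 n35077 = n32406 := d5_1 D35077 F51456 F54138 F54135 (iv3 F54131)
theorem F55697 : act 6 n35077 = n26997 := d10_2 (iv6 F54132) D35077 F43591
theorem F55698 : act 7 n35077 = n32406 := d11_2 (iv7 F54133) D35077 F51456
theorem F55699 : act 0 n35077 = n22483 := d20_1 D35077 (iv4 F35040) F35039 (iv1 D7941) F5629 F2760 D1585 D3601 D7957 D17029
theorem F55700 : act 0 n35022 = n35077 := d20_10 (iv4 D35077) (iv1 F27907) (iv4 F27773) D34919 (iv1 F55279) (iv3 F55298) (iv4 F55297) F54123 D32507 (iv3 F55599)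
def n35078 : Q := act 5 n17029
theorem D35078 : act 5 n17029 = n35078 := rfl
theorem F55701 : act 2 n35078 = n32572 := d2_1 D35078 (iv5 D32572) (iv2 F54145)
theorem F55702 : act 3 n35078 = n32383 := d6_1 D35078 (iv5 D32383) (iv3 F54131)
theorem F55703 : act 7 n35078 = n32409 := d13_2 (iv7 F54133) D35078 (iv5 D32409)
theorem F55704 : act 0 n35078 = n32603 := d21_7 D29190 F54216 F23176 F26480 (iv1 F26706) (iv6 F54132) D35078 F51654 (iv6 D29695) (iv1 F23578)
theorem F55705 : act 0 n26274 = n35078 := d21_1 (iv5 F41813) (iv5 D35078) F54132 (iv1 F27756) (iv6 F27755) D31572 (iv1 F50328) (iv5 D23846) D23847 F54290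
def n35079 : Q := act 5 n17031
theorem D35079 : act 5 n17031 = n35079 := rfl
theorem F55706 : act 2 n35079 = n17032 := d2_1 D35079 (iv5 D17032) D17031
theorem F55707 : act 3 n35079 = n32554 := d6_1 D35079 (iv5 D32554) (iv3 F27908)
theorem F55708 : act 7 n35079 = n32574 := d13_2 (iv7 F27909) D35079 (iv5 D32574)
theorem F55709 : act 1 n32578 = n35079 := d15_1 D32578 F55708 F51638
theorem F55710 : act 5 n32578 = n23847 := d21_2 D35079 (iv1 F55709) (iv6 D23847) (iv1 D11176) F7632 D5124 D11194 F30279 D15307 (iv1 F54139)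
theorem F55711 : act 4 n32578 = n33631 := d19_2 (iv1 F54291) (iv5 F55710) F52919 (iv1 F52896) F52898 F52599 (iv3 F51721) (iv1 F51726) (iv5 D28564) F37448 (iv3 D23970) (iv1 D11234) D11236 (iv4 F54082) (iv3 F54527) F54532 (iv5 D32131) (iv4 F54184) F54183
theorem F55712 : act 6 n32581 = n24392 := d21_5 (iv5 F55710) (iv1 D32578) (iv5 D15424) D15425 D32581 F54344 (iv1 F47727) (iv5 D29694) D29695 (iv1 F54291)
theorem F55713 : act 3 n24395 = n32581 := d7_3 F55712 (iv3 D24392) D24395
theorem F55714 : act 7 n34969 = n32581 := d14_0 F55712 F55544 F55360 F55516 D34969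
theorem F55715 : act 5 n34833 = n32581 := d21_2 D16885 D34833 F55712 F50884 F45543 D32656 (iv1 F51726) (iv5 D28564) (iv6 F51728) (iv1 D16884)
theorem F55716 : act 0 n33631 = n35032 := d18_2 (iv1 F55709) F55711 (iv4 D35032) (iv5 D17006) D17005 F51636 (iv4 D32571) F27912 D35079
theorem F55717 : act 1 n35079 = n32577 := d15_0 (iv0 D32577) (iv7 F27914) (iv2 F55706)
theorem F55718 : act 5 n32577 = n28428 := d17_7 F50226 (iv5 F41511) (iv1 F32605) (iv5 F55260) F55261 D35079 F55717 F54174 D31918
theorem F55719 : act 3 n28435 = n32577 := d6_3 F55718 F45970 D28435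
def n35080 : Q := act 6 n17031
theorem D35080 : act 6 n17031 = n35080 := rfl
theorem F55720 : act 2 n35080 = n17033 := d3_1 D35080 (iv6 D17033) D17031
theorem F55721 : act 3 n35080 = n31677 := d7_1 D35080 F49957 (iv3 F27908)
theorem F55722 : act 7 n31680 = n35080 := d4_0 F55720 (iv7 F27916) D31680
theorem F55723 : act 1 n35080 = n31678 := d15_0 (iv0 D31678) F27916 (iv2 F55720)
theorem F55724 : act 1 n31679 = n35080 := d15_1 D31679 (iv7 F55722) (iv2 D31680)
def n35081 : Q := act 0 n17032
theorem D35081 : act 0 n17032 = n35081 := rfl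
theorem F55725 : act 5 n35081 = n29702 := d21_2 D17032 D35081 (iv6 F54297) F54294 F18139 D11193 (iv1 F18158) F30276 D16968 F54154
theorem F55726 : act 1 n32574 = n35081 := d15_0 (iv0 D35081) F27914 (iv2 F51638)
theorem F55727 : act 2 n32578 = n35081 := d2_3 F55725 (iv2 F54292) (iv5 F55710)
theorem F55728 : act 3 n32556 = n35081 := d6_3 F55725 F54168 F54320
theorem F55729 : act 7 n32577 = n35081 := d13_0 F55725 (iv7 F54181) (iv5 F55718)
def n35082 : Q := act 1 n17032
theorem D35082 : act 1 n17032 = n35082 := rfl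
theorem F55730 : act 1 n35082 = n32574 := d15_1 D35082 (iv7 F55708) F55706
theorem F55731 : act 7 n35082 = n32578 := d15_2 (iv0 D35081) D35082 F55727
theorem F55732 : act 5 n35082 = n29703 := d17_7 F52298 (iv5 D20005) D20001 F31825 (iv4 F27770) D17032 D35082 F50222 (iv4 F52296)
theorem F55733 : act 2 n32577 = n35082 := d2_3 F55732 (iv2 F54201) (iv5 F55718)
def n35083 : Q := act 4 n17032
theorem D35083 : act 4 n17032 = n35083 := rfl
theorem F55734 : act 7 n35083 = n32579 := d11_2 (iv7 F27914) D35083 (iv4 D32579)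
def n35084 : Q := act 6 n17032
theorem D35084 : act 6 n17032 = n35084 := rfl
theorem F55735 : act 3 n35084 = n17035 := d7_1 D35084 (iv6 D17035) (iv3 F27913)
def n35085 : Q := act 0 n17033
theorem D35085 : act 0 n17033 = n35085 := rfl
theorem F55736 : act 1 n31680 = n35085 := d15_0 (iv0 D35085) (iv7 F27916) D31680
def n35086 : Q := act 1 n17033
theorem D35086 : act 1 n17033 = n35086 := rfl
theorem F55737 : act 1 n35086 = n31680 := d15_1 D35086 F55722 F55720
def n35087 : Q := act 3 n17034
theorem D35087 : act 3 n17034 = n35087 := rfl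
theorem F55738 : act 5 n35087 = n32681 := d6_2 (iv5 F27919) D35087 (iv3 D32681)
theorem F55739 : act 7 n35087 = n32584 := d8_2 (iv7 F27918) D35087 (iv3 D32584)
def n35088 : Q := act 6 n17034
theorem D35088 : act 6 n17034 = n35088 := rfl
theorem F55740 : act 2 n35088 = n32561 := d3_1 D35088 (iv6 D32561) (iv2 F27917)
theorem F55741 : act 4 n35088 = n17035 := d10_1 D35088 (iv6 D17035) D17034
def n35089 : Q := act 0 n17035
theorem D35089 : act 0 n17035 = n35089 := rfl
def n35090 : Q := act 1 n17035
theorem D35090 : act 1 n17035 = n35090 := rfl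
theorem F55742 : act 1 n35090 = n32564 := d15_1 D35090 (iv7 D32564) (iv2 F27922)
def n35091 : Q := act 7 n17035
theorem D35091 : act 7 n17035 = n35091 := rfl
theorem F55743 : act 2 n35091 = n32564 := d4_1 D35091 (iv7 D32564) (iv2 F27922)
theorem F55744 : act 6 n35091 = n32589 := d14_1 D35091 (iv7 D32589) (iv6 D15427) (iv7 F12684) D17035
theorem F55745 : act 1 n32564 = n35089 := d15_0 (iv0 D35089) D35091 F55743
theorem F55746 : act 1 n32563 = n35091 := d15_1 D32563 (iv7 D35091) F27922
theorem F55747 : act 1 n35091 = n32562 := d15_0 (iv0 D32562) D32564 (iv2 F55743)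
def n35092 : Q := act 5 n17037
theorem D35092 : act 5 n17037 = n35092 := rfl
theorem F55748 : act 2 n35092 = n32549 := d2_1 D35092 (iv5 D32549) (iv2 F54134)
theorem F55749 : act 3 n35092 = n32409 := d6_1 D35092 (iv5 D32409) F54138
theorem F55750 : act 7 n35092 = n32383 := d13_2 (iv7 F54137) D35092 (iv5 D32383)
theorem F55751 : act 0 n35092 = n26276 := d17_2 (iv1 F27928) D35092 F41816 (iv4 F23544) (iv5 F27876) (iv0 F54211) (iv5 D32638) (iv0 F54074) F54077
theorem F55752 : act 1 n35092 = n32593 := d17_8 (iv1 D23976) (iv5 D11236) D11233 D23968 F37445 (iv5 D17039) D17037 D35092 (iv4 F54177)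
def n35093 : Q := act 5 n17038
theorem D35093 : act 5 n17038 = n35093 := rfl
theorem F55753 : act 2 n35093 = n17039 := d2_1 D35093 (iv5 D17039) D17038
theorem F55754 : act 3 n35093 = n32574 := d6_1 D35093 (iv5 D32574) (iv3 F27924)
theorem F55755 : act 7 n35093 = n32554 := d13_2 (iv7 F27926) D35093 (iv5 D32554)
theorem F55756 : act 4 n35093 = n34883 := d16_2 (iv4 F27925) D35093 (iv5 F55177) F37442 D25665 (iv4 F41849) (iv5 D26284) F20799 D15454
theorem F55757 : act 0 n35093 = n32556 := d17_2 (iv1 F27927) D35093 (iv5 F54320) F45971 D28435 (iv0 F54162) (iv5 D32554) F54129 F54125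
theorem F55758 : act 1 n35093 = n32555 := d17_6 (iv1 F54027) D32106 (iv1 F54198) (iv5 D32640) (iv4 F27925) D35093 (iv5 F54317) F54175 (iv4 F23544)
def n35094 : Q := act 6 n17038
theorem D35094 : act 6 n17038 = n35094 := rfl
theorem F55759 : act 2 n35094 = n17040 := d3_1 D35094 (iv6 D17040) D17038
theorem F55760 : act 3 n35094 = n32575 := d7_1 D35094 (iv6 D32575) (iv3 F27924)
theorem F55761 : act 4 n35094 = n32641 := d10_1 D35094 (iv6 D32641) (iv4 F27925)
def n35095 : Q := act 0 n17039
theorem D35095 : act 0 n17039 = n35095 := rfl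
theorem F55762 : act 2 n32556 = n35095 := d15_3 (iv0 D35095) F54187 (iv7 F54319)
theorem F55763 : act 1 n32554 = n35095 := d15_0 (iv0 D35095) F27934 (iv2 F51619)
theorem F55764 : act 7 n35095 = n32555 := d15_2 (iv0 F54162) F55763 F54318
def n35096 : Q := act 6 n17039
theorem D35096 : act 6 n17039 = n35096 := rfl
theorem F55765 : act 3 n35096 = n17042 := d7_1 D35096 (iv6 D17042) (iv3 F27933)
def n35097 : Q := act 0 n17040
theorem D35097 : act 0 n17040 = n35097 := rfl
theorem F55766 : act 6 n35097 = n28168 := d21_5 D28435 (iv1 F54187) (iv5 D17039) D17040 D35097 F54186 (iv1 F54018) (iv5 D28548) (iv6 F54185) (iv1 D28434)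
theorem F55767 : act 4 n31675 = n35097 := d10_3 F55766 (iv4 F55499) (iv6 F54150)
theorem F55768 : act 7 n32394 = n35097 := d14_0 F55766 F55501 (iv6 F50951) F55530 D32394
theorem F55769 : act 5 n28669 = n35097 := d21_2 D13664 D28669 F55766 (iv1 F45532) F45530 (iv5 F46092) (iv1 F46094) (iv5 D13623) D13624 (iv1 F50825)
def n35098 : Q := act 1 n17040
theorem D35098 : act 1 n17040 = n35098 := rfl
def n35099 : Q := act 3 n17041
theorem D35099 : act 3 n17041 = n35099 := rfl
theorem F55770 : act 4 n35099 = n34824 := d5_2 D17041 D35099 F55059 F37445 F27933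
theorem F55771 : act 5 n35099 = n32675 := d6_2 (iv5 F27938) D35099 (iv3 D32675)
theorem F55772 : act 7 n35099 = n32560 := d8_2 (iv7 F27939) D35099 (iv3 D32560)
theorem F55773 : act 0 n35099 = n32416 := d20_4 (iv4 F26906) F20635 D17041 D35099 F51471 (iv4 D32344) (iv1 F40568) D25673 F41848 F41847
def n35100 : Q := act 6 n17041
theorem D35100 : act 6 n17041 = n35100 := rfl
theorem F55774 : act 2 n35100 = n32585 := d3_1 D35100 (iv6 D32585) (iv2 F27937)
theorem F55775 : act 4 n35100 = n17042 := d10_1 D35100 (iv6 D17042) D17041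
def n35101 : Q := act 0 n17042
theorem D35101 : act 0 n17042 = n35101 := rfl
def n35102 : Q := act 1 n17042
theorem D35102 : act 1 n17042 = n35102 := rfl
theorem F55776 : act 1 n35102 = n32589 := d15_1 D35102 (iv7 D32589) (iv2 F27941)
def n35103 : Q := act 7 n17042
theorem D35103 : act 7 n17042 = n35103 := rfl
theorem F55777 : act 2 n35103 = n32589 := d4_1 D35103 (iv7 D32589) (iv2 F27941)
theorem F55778 : act 6 n35103 = n32564 := d14_1 D35103 (iv7 D32564) (iv6 D15419) (iv7 F12704) D17042
theorem F55779 : act 1 n32589 = n35101 := d15_0 (iv0 D35101) D35103 F55777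
theorem F55780 : act 1 n32587 = n35103 := d15_1 D32587 (iv7 D35103) F27941
theorem F55781 : act 1 n35103 = n32586 := d15_0 (iv0 D32586) D32589 (iv2 F55777)
def n35104 : Q := act 6 n17043
theorem D35104 : act 6 n17043 = n35104 := rfl
theorem F55782 : act 2 n35104 = n26749 := d3_1 D35104 (iv6 D26749) (iv2 F27942)
theorem F55783 : act 3 n35104 = n21157 := d7_1 D35104 (iv6 D21157) (iv3 F27943)
theorem F55784 : act 4 n35104 = n27428 := d10_1 D35104 (iv6 D27428) (iv4 F27946)
def n35105 : Q := act 5 n17044
theorem D35105 : act 5 n17044 = n35105 := rfl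
theorem F55785 : act 3 n35105 = n17047 := d6_1 D35105 (iv5 D17047) (iv3 F27951)
theorem F55786 : act 7 n35105 = n27644 := d13_2 F43536 D35105 F44567
theorem F55787 : act 0 n35105 = n17144 := d17_2 (iv1 F28310) D35105 (iv5 D17144) F12840 D8037 F17009 (iv5 D3646) D3645 D8081
theorem F55788 : act 0 n27064 = n35105 := d21_7 D8029 (iv1 F14044) (iv5 D9005) F7187 F9635 (iv6 F21564) D27064 (iv5 D35105) (iv6 D17044) (iv1 F12724)
def n35106 : Q := act 6 n17045
theorem D35106 : act 6 n17045 = n35106 := rfl
theorem F55789 : act 2 n35106 = n26744 := d3_1 D35106 (iv6 D26744) (iv2 F27952)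
theorem F55790 : act 3 n35106 = n18887 := d7_1 D35106 (iv6 D18887) (iv3 F27953)
theorem F55791 : act 4 n35106 = n27425 := d10_1 D35106 (iv6 D27425) (iv4 F27956)
def n35107 : Q := act 5 n17046
theorem D35107 : act 5 n17046 = n35107 := rfl
theorem F55792 : act 2 n35107 = n26746 := d2_1 D35107 (iv5 D26746) (iv2 F27957)
theorem F55793 : act 3 n35107 = n17594 := d6_1 D35107 F28600 (iv3 F27958)
theorem F55794 : act 1 n35107 = n27324 := d17_6 (iv1 F12748) D13088 F27963 (iv5 D17047) (iv4 F27959) D35107 (iv5 D27324) (iv0 F27986) (iv4 D17057)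
theorem F55795 : act 0 n35107 = n27020 := d21_7 D17043 (iv1 F28141) F28139 F16987 F12845 D17046 D35107 (iv5 D27020) (iv6 D12945) (iv1 F12847)
def n35108 : Q := act 4 n17047
theorem D35108 : act 4 n17047 = n35108 := rfl
theorem F55796 : act 2 n35108 = n26747 := d1_1 D35108 (iv4 D26747) (iv2 F27960)
theorem F55797 : act 7 n35108 = n27645 := d11_2 (iv7 F27961) D35108 (iv4 D27645)
def n35109 : Q := act 3 n17048
theorem D35109 : act 3 n17048 = n35109 := rfl
theorem F55798 : act 2 n35109 = n33430 := d0_1 D35109 (iv3 D33430) (iv2 F25736) (iv3 F12745) (iv2 F27964)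
theorem F55799 : act 4 n35109 = n34451 := d5_2 D17048 D35109 (iv3 D34451) (iv4 D16709) (iv3 F12733)
theorem F55800 : act 7 n35109 = n26752 := d8_2 (iv7 F27965) D35109 (iv3 D26752)
def n35110 : Q := act 6 n17048
theorem D35110 : act 6 n17048 = n35110 := rfl
theorem F55801 : act 2 n35110 = n17052 := d3_1 D35110 (iv6 D17052) (iv2 F27964)
theorem F55802 : act 4 n35110 = n17049 := d10_1 D35110 (iv6 D17049) D17048
def n35111 : Q := act 0 n17049
theorem D35111 : act 0 n17049 = n35111 := rfl
theorem F55803 : act 6 n35111 = n26798 := d21_5 (iv5 F14026) (iv1 F5640) D7974 D17049 D35111 (iv5 D26798) (iv1 D12816) F9419 (iv6 D2632) D2629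
theorem F55804 : act 0 n35111 = n17056 := d21_4 (iv5 F42988) (iv1 F42990) D26798 (iv6 F55803) F27982 F21271 (iv1 F21911) (iv5 F21968) (iv6 D13186) (iv1 F21916)
def n35112 : Q := act 1 n17049
theorem D35112 : act 1 n17049 = n35112 := rfl
theorem F55805 : act 1 n35112 = n17056 := d15_1 D35112 (iv7 D17056) (iv2 F27968)
def n35113 : Q := act 5 n17049
theorem D35113 : act 5 n17049 = n35113 := rfl
theorem F55806 : act 2 n35113 = n17055 := d2_1 D35113 (iv5 D17055) (iv2 F27968)
theorem F55807 : act 3 n35113 = n34455 := d6_1 D35113 (iv5 D34455) (iv3 F27969)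
theorem F55808 : act 6 n35113 = n17050 := d12_2 D17049 D35113 (iv5 D17050) (iv6 D7975) D7974
def n35114 : Q := act 7 n17049
theorem D35114 : act 7 n17049 = n35114 := rfl
theorem F55809 : act 2 n35114 = n17056 := d4_1 D35114 (iv7 D17056) (iv2 F27968)
theorem F55810 : act 3 n35114 = n34456 := d8_1 D35114 (iv7 D34456) (iv3 F27969)
theorem F55811 : act 6 n35114 = n26757 := d14_1 D35114 (iv7 D26757) (iv6 D12804) (iv7 F12734) D17049
theorem F55812 : act 1 n17054 = n35114 := d15_1 D17054 (iv7 D35114) F27968
theorem F55813 : act 1 n35114 = n17053 := d15_0 (iv0 D17053) D17056 (iv2 F55809)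
def n35115 : Q := act 4 n17050
theorem D35115 : act 4 n17050 = n35115 := rfl
theorem F55814 : act 2 n35115 = n17060 := d1_1 D35115 (iv4 D17060) (iv2 F27970)
theorem F55815 : act 7 n35115 = n27314 := d11_2 (iv7 F27972) D35115 (iv4 D27314)
theorem F55816 : act 1 n35115 = n27647 := d18_6 (iv1 F27388) (iv4 D13196) (iv1 F12742) F12739 D17050 D35115 F44571 F42974 F28191
theorem F55817 : act 1 n27648 = n35115 := d15_1 D27648 F55815 F44195
def n35116 : Q := act 6 n17051
theorem D35116 : act 6 n17051 = n35116 := rfl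
theorem F55818 : act 3 n35116 = n34368 := d7_1 D35116 (iv6 D34368) (iv3 F27975)
def n35117 : Q := act 0 n17052
theorem D35117 : act 0 n17052 = n35117 := rfl
def n35118 : Q := act 1 n17052
theorem D35118 : act 1 n17052 = n35118 := rfl
def n35119 : Q := act 5 n17052
theorem D35119 : act 5 n17052 = n35119 := rfl
theorem F55819 : act 3 n35119 = n34371 := d6_1 D35119 (iv5 D34371) (iv3 F27977)
def n35120 : Q := act 7 n17052
theorem D35120 : act 7 n17052 = n35120 := rfl
theorem F55820 : act 3 n35120 = n34372 := d8_1 D35120 (iv7 D34372) (iv3 F27977)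
theorem F55821 : act 4 n35120 = n17056 := d11_1 D35120 (iv7 D17056) (iv4 F27978)
theorem F55822 : act 6 n35120 = n26789 := d14_1 D35120 (iv7 D26789) (iv6 D12814) (iv7 F12746) D17052
def n35121 : Q := act 2 n17053
theorem D35121 : act 2 n17053 = n35121 := rfl
theorem F55823 : act 7 n17054 = n35121 := d15_2 (iv0 D17053) D17054 (iv2 D35121)
def n35122 : Q := act 3 n17053
theorem D35122 : act 3 n17053 = n35122 := rfl
def n35123 : Q := act 4 n17053
theorem D35123 : act 4 n17053 = n35123 := rfl
def n35124 : Q := act 5 n17053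
theorem D35124 : act 5 n17053 = n35124 := rfl
def n35125 : Q := act 6 n17053
theorem D35125 : act 6 n17053 = n35125 := rfl
theorem F55824 : act 5 n35125 = n26756 := d21_6 F14010 (iv1 D3610) D3612 D7979 D17053 D35125 (iv1 D26756) F21254 (iv6 D6252) D6249
def n35126 : Q := act 7 n17053
theorem D35126 : act 7 n17053 = n35126 := rfl
theorem F55825 : act 2 n35126 = n17054 := d4_1 D35126 F55823 (iv2 D35121)
def n35127 : Q := act 3 n17054
theorem D35127 : act 3 n17054 = n35127 := rfl
def n35128 : Q := act 4 n17054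
theorem D35128 : act 4 n17054 = n35128 := rfl
def n35129 : Q := act 5 n17054
theorem D35129 : act 5 n17054 = n35129 := rfl
def n35130 : Q := act 6 n17054
theorem D35130 : act 6 n17054 = n35130 := rfl
def n35131 : Q := act 0 n17055
theorem D35131 : act 0 n17055 = n35131 := rfl
def n35132 : Q := act 1 n17055
theorem D35132 : act 1 n17055 = n35132 := rfl
def n35133 : Q := act 4 n17055
theorem D35133 : act 4 n17055 = n35133 := rfl
theorem F55826 : act 6 n35133 = n17060 := d10_2 (iv6 F27980) D35133 (iv4 D17060)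
def n35134 : Q := act 7 n17055
theorem D35134 : act 7 n17055 = n35134 := rfl
theorem F55827 : act 3 n35134 = n17073 := d8_1 D35134 (iv7 D17073) (iv3 F27979)
theorem F55828 : act 5 n35134 = n17056 := d13_1 D35134 (iv7 D17056) D17055
theorem F55829 : act 6 n35134 = n27624 := d14_1 D35134 F44552 F21974 (iv7 F12751) (iv6 F27980)
def n35135 : Q := act 5 n17057
theorem D35135 : act 5 n17057 = n35135 := rfl
theorem F55830 : act 2 n35135 = n27641 := d2_1 D35135 (iv5 D27641) (iv2 F27983)
theorem F55831 : act 3 n35135 = n21477 := d6_1 D35135 (iv5 D21477) (iv3 F27984)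
theorem F55832 : act 7 n35135 = n27638 := d13_2 (iv7 F27985) D35135 (iv5 D27638)
theorem F55833 : act 1 n35135 = n17231 := d17_6 (iv1 D12909) D12911 (iv1 F27990) (iv5 D17058) D17057 D35135 (iv5 D17231) D17228 F28313
def n35136 : Q := act 4 n17058
theorem D35136 : act 4 n17058 = n35136 := rfl
theorem F55834 : act 2 n35136 = n27642 := d1_1 D35136 (iv4 D27642) (iv2 F27988)
theorem F55835 : act 7 n35136 = n27639 := d11_2 (iv7 F27989) D35136 (iv4 D27639)
def n35137 : Q := act 6 n17058
theorem D35137 : act 6 n17058 = n35137 := rfl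
theorem F55836 : act 2 n35137 = n27643 := d3_1 D35137 (iv6 D27643) (iv2 F27988)
def n35138 : Q := act 4 n17059
theorem D35138 : act 4 n17059 = n35138 := rfl
theorem F55837 : act 2 n35138 = n27645 := d1_1 D35138 (iv4 D27645) F27992
theorem F55838 : act 7 n35138 = n26747 := d11_2 (iv7 F27994) D35138 (iv4 D26747)
def n35139 : Q := act 6 n17059
theorem D35139 : act 6 n17059 = n35139 := rfl
theorem F55839 : act 2 n35139 = n27646 := d3_1 D35139 (iv6 D27646) F27992
theorem F55840 : act 5 n35139 = n35137 := d12_1 D35139 (iv6 D35137) (iv5 D17058) F17535 (iv5 F27991)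
def n35140 : Q := act 0 n17060
theorem D35140 : act 0 n17060 = n35140 := rfl
theorem F55841 : act 1 n27314 = n35140 := d15_0 (iv0 D35140) F27995 (iv2 F44195)
def n35141 : Q := act 1 n17060
theorem D35141 : act 1 n17060 = n35141 := rfl
theorem F55842 : act 1 n35141 = n27314 := d15_1 D35141 (iv7 F55815) F55814
theorem F55843 : act 4 n35141 = n35107 := d18_7 F21840 F21250 F14031 F5646 D7982 D17060 D35141 F55794 (iv5 D27324)
theorem F55844 : act 2 n27647 = n35141 := d1_3 F55843 F55792 (iv4 F44571)
theorem F55845 : act 7 n35140 = n27647 := d15_2 F55842 F55841 F55844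
theorem F55846 : act 7 n27648 = n35141 := d15_2 (iv0 D27647) D27648 (iv2 F55844)
theorem F55847 : act 2 n35140 = n27648 := d4_3 F55846 (iv2 F55844) (iv7 F55845)
def n35142 : Q := act 3 n17060
theorem D35142 : act 3 n17060 = n35142 := rfl
theorem F55848 : act 4 n35142 = n17074 := d5_2 D17060 D35142 (iv3 D17074) (iv4 D7987) (iv3 F12750)
theorem F55849 : act 7 n35142 = n27649 := d8_2 (iv7 F27995) D35142 (iv3 D27649)
def n35143 : Q := act 5 n17060
theorem D35143 : act 5 n17060 = n35143 := rfl
theorem F55850 : act 7 n35143 = n27650 := d13_2 (iv7 F27995) D35143 (iv5 D27650)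
def n35144 : Q := act 0 n17062
theorem D35144 : act 0 n17062 = n35144 := rfl
theorem F55851 : act 1 n34793 = n35144 := d15_0 (iv0 D35144) F43169 D34793
def n35145 : Q := act 1 n17062
theorem D35145 : act 1 n17062 = n35145 := rfl
def n35146 : Q := act 2 n17062
theorem D35146 : act 2 n17062 = n35146 := rfl
theorem F55852 : act 3 n35146 = n34787 := d0_2 D17062 D35146 (iv2 D34787) (iv3 D16853) (iv2 F43158)
theorem F55853 : act 6 n35146 = n34760 := d3_2 (iv6 F27998) D35146 F54981
theorem F55854 : act 7 n35146 = n34793 := d4_2 (iv7 F43169) D35146 (iv2 D34793)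
theorem F55855 : act 1 n35146 = n34791 := d15_0 (iv0 D34791) (iv7 F43169) D35146
theorem F55856 : act 1 n35145 = n34793 := d15_1 D35145 (iv7 F55854) (iv2 D35146)
theorem F55857 : act 1 n34792 = n35146 := d15_1 D34792 F55854 (iv2 D34793)
def n35147 : Q := act 4 n17062
theorem D35147 : act 4 n17062 = n35147 := rfl
theorem F55858 : act 6 n35147 = n34769 := d10_2 (iv6 F27998) D35147 (iv4 D34769)
theorem F55859 : act 7 n35147 = n34794 := d11_2 (iv7 F43169) D35147 (iv4 D34794)
def n35148 : Q := act 5 n17062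
theorem D35148 : act 5 n17062 = n35148 := rfl
theorem F55860 : act 3 n35148 = n17064 := d6_1 D35148 (iv5 D17064) D17062
theorem F55861 : act 6 n35148 = n34772 := d12_2 (iv6 F27998) D35148 (iv5 D34772) (iv6 D16842) D16841
theorem F55862 : act 7 n35148 = n34795 := d13_2 (iv7 F43169) D35148 (iv5 D34795)
def n35149 : Q := act 4 n17064
theorem D35149 : act 4 n17064 = n35149 := rfl
theorem F55863 : act 2 n35149 = n34790 := d1_1 D35149 (iv4 D34790) (iv2 F43191)
theorem F55864 : act 6 n35149 = n34783 := d10_2 (iv6 F28000) D35149 (iv4 D34783)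
theorem F55865 : act 7 n35149 = n34797 := d11_2 (iv7 F43171) D35149 (iv4 D34797)
def n35151 : Q := act 1 n17066
theorem D35151 : act 1 n17066 = n35151 := rfl
def n35152 : Q := act 2 n17066
theorem D35152 : act 2 n17066 = n35152 := rfl
theorem F55867 : act 3 n35152 = n34793 := d0_2 D17066 D35152 (iv2 D34793) (iv3 D16857) F43163
theorem F55868 : act 7 n35152 = n34787 := d4_2 F43189 D35152 (iv2 D34787)
theorem F55869 : act 1 n35152 = n34785 := d15_0 (iv0 D34785) F43189 D35152
theorem F55870 : act 1 n35151 = n34787 := d15_1 D35151 (iv7 F55868) (iv2 D35152)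
def n35153 : Q := act 4 n17066
theorem D35153 : act 4 n17066 = n35153 := rfl
theorem F55872 : act 7 n35153 = n34788 := d11_2 F43189 D35153 (iv4 D34788)
def n35154 : Q := act 5 n17066
theorem D35154 : act 5 n17066 = n35154 := rfl
theorem F55873 : act 3 n35154 = n17068 := d6_1 D35154 (iv5 D17068) D17066
theorem F55874 : act 7 n35154 = n34789 := d13_2 F43189 D35154 (iv5 D34789)
def n35155 : Q := act 6 n17066
theorem D35155 : act 6 n17066 = n35155 := rfl
theorem F55875 : act 3 n35155 = n17069 := d7_1 D35155 (iv6 D17069) D17066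
theorem F55876 : act 7 n35155 = n34734 := d14_2 F43189 D35155 (iv6 D34734) (iv7 F43230) (iv6 F43231)
def n35156 : Q := act 4 n17068
theorem D35156 : act 4 n17068 = n35156 := rfl
theorem F55877 : act 2 n35156 = n34797 := d1_1 D35156 (iv4 D34797) F43172
theorem F55878 : act 7 n35156 = n34790 := d11_2 F43190 D35156 (iv4 D34790)
def n35157 : Q := act 3 n17070
theorem D35157 : act 3 n17070 = n35157 := rfl
theorem F55879 : act 7 n35157 = n34801 := d8_2 (iv7 F44667) D35157 (iv3 D34801)
def n35158 : Q := act 4 n17070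
theorem D35158 : act 4 n17070 = n35158 := rfl
theorem F55880 : act 2 n35158 = n34799 := d1_1 D35158 (iv4 D34799) F44671
theorem F55881 : act 7 n35158 = n34802 := d11_2 (iv7 F44667) D35158 (iv4 D34802)
def n35159 : Q := act 6 n17070
theorem D35159 : act 6 n17070 = n35159 := rfl
theorem F55883 : act 5 n35159 = n17875 := d12_1 D35159 (iv6 F30021) (iv5 F30020) (iv6 F44643) F44644
theorem F55884 : act 0 n35159 = n18553 := d21_4 (iv5 D27695) D27694 F44644 D35159 (iv6 D18553) (iv5 F13621) (iv1 F30019) D26846 F43245 F44695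
def n35160 : Q := act 3 n17071
theorem D35160 : act 3 n17071 = n35160 := rfl
theorem F55886 : act 5 n35160 = n18825 := d6_2 F28005 D35160 F30081
theorem F55887 : act 7 n35160 = n34798 := d8_2 (iv7 F44670) D35160 (iv3 D34798)
def n35161 : Q := act 4 n17071
theorem D35161 : act 4 n17071 = n35161 := rfl
theorem F55888 : act 2 n35161 = n34802 := d1_1 D35161 (iv4 D34802) (iv2 F44672)
theorem F55889 : act 7 n35161 = n34799 := d11_2 (iv7 F44670) D35161 (iv4 D34799)
theorem F55890 : act 0 n35161 = n17589 := d18_2 (iv1 F28004) D35161 F28584 F13036 (iv4 F11566) D15323 F43174 F12754 D16851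
theorem F55891 : act 1 n35158 = n17589 := d15_0 (iv0 F55890) F55889 (iv2 F55880)
def n35162 : Q := act 6 n17071
theorem D35162 : act 6 n17071 = n35162 := rfl
theorem F55892 : act 2 n35162 = n34803 := d3_1 D35162 (iv6 D34803) (iv2 F44672)
theorem F55893 : act 5 n35162 = n18835 := d12_1 D35162 (iv6 D18835) (iv5 D8820) D8821 F28005
def n35163 : Q := act 0 n17072
theorem D35163 : act 0 n17072 = n35163 := rfl
theorem F55894 : act 4 n35163 = n17113 := d18_3 (iv1 D17071) D17072 D35163 (iv5 F43458) F53042 F53045 F42698 F29879 F28005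
theorem F55895 : act 2 n34804 = n35163 := d1_3 F55894 (iv2 F53085) (iv4 F55008)
theorem F55896 : act 7 n34805 = n35163 := d11_0 F55894 F53086 (iv4 F55009)
def n35164 : Q := act 1 n17072
theorem D35164 : act 1 n17072 = n35164 := rfl
theorem F55898 : act 1 n35164 = n34784 := d15_1 D35164 F54997 (iv2 F28006)
theorem F55899 : act 7 n35164 = n34804 := d15_2 (iv0 D35163) D35164 F55895
theorem F55900 : act 4 n35164 = n17114 := d18_7 (iv1 F13150) (iv4 F28975) (iv1 D7755) (iv4 F5649) D7985 D17072 D35164 F28591 F28588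
theorem F55901 : act 2 n34805 = n35164 := d1_3 F55900 F53084 (iv4 F55009)
def n35165 : Q := act 3 n17072
theorem D35165 : act 3 n17072 = n35165 := rfl
theorem F55902 : act 6 n35165 = n17074 := d7_2 (iv6 F28007) D35165 (iv3 D17074)
def n35166 : Q := act 5 n17072
theorem D35166 : act 5 n17072 = n35166 := rfl
theorem F55903 : act 2 n35166 = n34807 := d2_1 D35166 (iv5 D34807) (iv2 F28006)
theorem F55904 : act 6 n35166 = n18862 := d12_2 (iv6 F28007) D35166 (iv5 D18862) F13720 (iv5 F12764)
def n35167 : Q := act 7 n17072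
theorem D35167 : act 7 n17072 = n35167 := rfl
theorem F55905 : act 2 n35167 = n34784 := d4_1 D35167 F54997 (iv2 F28006)
theorem F55906 : act 4 n35167 = n17073 := d11_1 D35167 (iv7 D17073) D17072
theorem F55907 : act 6 n35167 = n27885 := d14_1 D35167 F45019 F22109 (iv7 F12763) (iv6 F28007)
theorem F55908 : act 1 n34805 = n35167 := d15_1 D34805 (iv7 D35167) F28006
theorem F55909 : act 1 n35167 = n34804 := d15_1 F55908 (iv7 F55899) (iv2 F55901)
def n35168 : Q := act 0 n17074
theorem D35168 : act 0 n17074 = n35168 := rfl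
theorem F55910 : act 1 n27922 = n35168 := d15_0 (iv0 D35168) F28015 D27922
def n35169 : Q := act 1 n17074
theorem D35169 : act 1 n17074 = n35169 := rfl
def n35170 : Q := act 2 n17074
theorem D35170 : act 2 n17074 = n35170 := rfl
theorem F55911 : act 3 n35170 = n34810 := d0_2 D17074 D35170 (iv2 D34810) (iv3 D16864) (iv2 F12762)
theorem F55912 : act 5 n35170 = n18884 := d2_2 (iv5 F28014) D35170 (iv2 D18884)
theorem F55913 : act 7 n35170 = n27922 := d4_2 (iv7 F28015) D35170 (iv2 D27922)
theorem F55914 : act 1 n35170 = n27920 := d15_0 (iv0 D27920) (iv7 F28015) D35170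
theorem F55915 : act 1 n35169 = n27922 := d15_1 D35169 (iv7 F55913) (iv2 D35170)
theorem F55916 : act 1 n27921 = n35170 := d15_1 D27921 F55913 (iv2 D27922)
def n35171 : Q := act 6 n17075
theorem D35171 : act 6 n17075 = n35171 := rfl
theorem F55917 : act 2 n35171 = n18240 := d3_1 D35171 (iv6 D18240) (iv2 F28016)
theorem F55918 : act 3 n35171 = n18310 := d7_1 D35171 (iv6 D18310) (iv3 F28017)
def n35172 : Q := act 5 n17076
theorem D35172 : act 5 n17076 = n35172 := rfl
theorem F55919 : act 2 n35172 = n18462 := d2_1 D35172 (iv5 D18462) (iv2 F28022)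
theorem F55921 : act 1 n35172 = n34441 := d17_6 F17607 D8114 F28027 (iv5 D17079) (iv4 F28024) D35172 F54645 (iv0 D16716) (iv4 F12775)
theorem F55922 : act 0 n35172 = n34463 := d21_1 D35172 (iv5 D34463) F28132 (iv1 D16717) (iv6 D7806) F7230 (iv1 F28021) (iv5 D8486) D8487 F28025
def n35173 : Q := act 1 n17077
theorem D35173 : act 1 n17077 = n35173 := rfl
theorem F55923 : act 1 n35173 = n17081 := d15_1 D35173 (iv7 F30139) F30138
theorem F55924 : act 7 n35173 = n18129 := d15_2 F44051 D35173 (iv2 F44048)
theorem F55925 : act 4 n35173 = n17610 := d18_7 (iv1 F12839) F12811 F12813 (iv4 D7988) D7989 D17077 D35173 F28638 F13532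
theorem F55926 : act 2 n17992 = n35173 := d1_3 F55925 F28634 D17992
def n35174 : Q := act 5 n17077
theorem D35174 : act 5 n17077 = n35174 := rfl
theorem F55927 : act 4 n35174 = n18274 := d16_2 D17077 D35174 (iv5 D18274) (iv4 D8620) (iv5 F7230) F5653 D7992 F13763 (iv2 F13762)
def n35175 : Q := act 6 n17077
theorem D35175 : act 6 n17077 = n35175 := rfl
theorem F55928 : act 4 n35175 = n17078 := d10_1 D35175 (iv6 D17078) D17077
def n35176 : Q := act 0 n17078
theorem D35176 : act 0 n17078 = n35176 := rfl
def n35177 : Q := act 1 n17078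
theorem D35177 : act 1 n17078 = n35177 := rfl
def n35178 : Q := act 5 n17078
theorem D35178 : act 5 n17078 = n35178 := rfl
theorem F55929 : act 6 n35178 = n17079 := d12_2 D17078 D35178 (iv5 D17079) (iv6 D7990) D7989
def n35179 : Q := act 7 n17078
theorem D35179 : act 7 n17078 = n35179 := rfl
def n35180 : Q := act 4 n17079
theorem D35180 : act 4 n17079 = n35180 := rfl
def n35181 : Q := act 3 n17081
theorem D35181 : act 3 n17081 = n35181 := rfl
def n35182 : Q := act 5 n17081
theorem D35182 : act 5 n17081 = n35182 := rfl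
def n35183 : Q := act 6 n17081
theorem D35183 : act 6 n17081 = n35183 := rfl
theorem F55930 : act 4 n35183 = n17082 := d10_1 D35183 (iv6 D17082) D17081
def n35184 : Q := act 0 n17082
theorem D35184 : act 0 n17082 = n35184 := rfl
def n35185 : Q := act 1 n17082
theorem D35185 : act 1 n17082 = n35185 := rfl
def n35186 : Q := act 5 n17082
theorem D35186 : act 5 n17082 = n35186 := rfl
theorem F55931 : act 6 n35186 = n17083 := d12_2 D17082 D35186 (iv5 D17083) (iv6 D7993) D7992
def n35187 : Q := act 7 n17082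
theorem D35187 : act 7 n17082 = n35187 := rfl
def n35188 : Q := act 4 n17083
theorem D35188 : act 4 n17083 = n35188 := rfl
def n35189 : Q := act 3 n17084
theorem D35189 : act 3 n17084 = n35189 := rfl
def n35190 : Q := act 5 n17084
theorem D35190 : act 5 n17084 = n35190 := rfl
theorem F55932 : act 2 n35190 = n17092 := d2_1 D35190 (iv5 D17092) (iv2 F28033)
theorem F55933 : act 4 n35190 = n17665 := d16_2 D17084 D35190 (iv5 D17665) (iv4 D8321) F5739 F4089 (iv5 F5739) F5740 (iv2 F12776)
def n35191 : Q := act 6 n17084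
theorem D35191 : act 6 n17084 = n35191 := rfl
theorem F55934 : act 2 n35191 = n17093 := d3_1 D35191 (iv6 D17093) (iv2 F28033)
theorem F55935 : act 4 n35191 = n17085 := d10_1 D35191 (iv6 D17085) D17084
def n35192 : Q := act 0 n17085
theorem D35192 : act 0 n17085 = n35192 := rfl
def n35193 : Q := act 1 n17085
theorem D35193 : act 1 n17085 = n35193 := rfl
theorem F55936 : act 1 n35193 = n17097 := d15_1 D35193 (iv7 D17097) (iv2 F28035)
def n35194 : Q := act 5 n17085
theorem D35194 : act 5 n17085 = n35194 := rfl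
theorem F55937 : act 2 n35194 = n17096 := d2_1 D35194 (iv5 D17096) (iv2 F28035)
theorem F55938 : act 6 n35194 = n17086 := d12_2 D17085 D35194 (iv5 D17086) (iv6 D7995) D7994
def n35195 : Q := act 7 n17085
theorem D35195 : act 7 n17085 = n35195 := rfl
theorem F55939 : act 2 n35195 = n17097 := d4_1 D35195 (iv7 D17097) (iv2 F28035)
theorem F55940 : act 1 n17097 = n35192 := d15_0 (iv0 D35192) D35195 F55939
theorem F55941 : act 1 n17095 = n35195 := d15_1 D17095 (iv7 D35195) F28035
theorem F55942 : act 1 n35195 = n17094 := d15_0 (iv0 D17094) D17097 (iv2 F55939)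
def n35196 : Q := act 4 n17086
theorem D35196 : act 4 n17086 = n35196 := rfl
theorem F55943 : act 2 n35196 = n17102 := d1_1 D35196 (iv4 D17102) (iv2 F28036)
def n35197 : Q := act 3 n17087
theorem D35197 : act 3 n17087 = n35197 := rfl
theorem F55944 : act 4 n35197 = n26776 := d5_2 D17087 D35197 (iv3 D26776) (iv4 F21820) F21817
def n35198 : Q := act 5 n17087
theorem D35198 : act 5 n17087 = n35198 := rfl
theorem F55945 : act 4 n35198 = n34504 := d16_2 D17087 D35198 (iv5 D34504) (iv4 D16738) F12364 F6434 (iv5 F13317) (iv7 F13314) (iv2 F13311)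
def n35199 : Q := act 6 n17087
theorem D35199 : act 6 n17087 = n35199 := rfl
theorem F55946 : act 4 n35199 = n17088 := d10_1 D35199 (iv6 D17088) D17087
def n35200 : Q := act 0 n17088
theorem D35200 : act 0 n17088 = n35200 := rfl
def n35201 : Q := act 1 n17088
theorem D35201 : act 1 n17088 = n35201 := rfl
def n35202 : Q := act 7 n17088
theorem D35202 : act 7 n17088 = n35202 := rfl
def n35203 : Q := act 3 n17089
theorem D35203 : act 3 n17089 = n35203 := rfl
def n35204 : Q := act 5 n17089
theorem D35204 : act 5 n17089 = n35204 := rfl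
def n35205 : Q := act 6 n17089
theorem D35205 : act 6 n17089 = n35205 := rfl
theorem F55948 : act 4 n35205 = n17090 := d10_1 D35205 (iv6 D17090) D17089
def n35207 : Q := act 1 n17090
theorem D35207 : act 1 n17090 = n35207 := rfl
def n35208 : Q := act 5 n17090
theorem D35208 : act 5 n17090 = n35208 := rfl
theorem F55949 : act 6 n35208 = n17856 := d12_2 D17090 D35208 (iv5 D17856) F17477 (iv5 F13317)
def n35209 : Q := act 7 n17090
theorem D35209 : act 7 n17090 = n35209 := rfl
def n35210 : Q := act 3 n17091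
theorem D35210 : act 3 n17091 = n35210 := rfl
def n35211 : Q := act 5 n17091
theorem D35211 : act 5 n17091 = n35211 := rfl
theorem F55950 : act 2 n35211 = n18135 := d2_1 D35211 (iv5 D18135) F28039
theorem F55951 : act 4 n35211 = n35204 := d9_1 D35211 (iv5 D35204) (iv4 D17089) F13317 (iv4 F6434) (iv5 F12364) D16738 D34504 (iv4 F55945) (iv5 D35198) (iv4 D17087) (iv5 F13310) F6451 D8548 (iv4 F28038)
theorem F55952 : act 1 n35211 = n18890 := d17_6 (iv1 F21749) (iv5 D13047) F9670 D8548 (iv4 F28038) D35211 (iv5 D18890) (iv0 F29419) (iv4 D18239)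
def n35212 : Q := act 6 n17091
theorem D35212 : act 6 n17091 = n35212 := rfl
theorem F55953 : act 2 n35212 = n18136 := d3_1 D35212 (iv6 D18136) F28039
theorem F55954 : act 4 n35212 = n18131 := d10_1 D35212 (iv6 D18131) (iv4 F28038)
def n35213 : Q := act 0 n17092
theorem D35213 : act 0 n17092 = n35213 := rfl
theorem F55955 : act 5 n35213 = n17247 := d17_3 F27477 D17092 D35213 F28199 (iv5 D17075) (iv0 F12813) (iv5 F21770) F21773 D16738
theorem F55956 : act 4 n35182 = n35213 := d9_15 F55955 F28199 (iv5 D17075) (iv4 D7988) D7989 D17077 D35174 F55927 (iv5 D18274) (iv4 D8620) (iv5 F7230) F5653 D7992 D17081 D35182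
def n35214 : Q := act 4 n17092
theorem D35214 : act 4 n17092 = n35214 := rfl
theorem F55957 : act 2 n35214 = n17665 := d1_1 D35214 (iv4 F55933) F55932
theorem F55958 : act 7 n35214 = n35190 := d11_2 F28739 D35214 F55933
theorem F55959 : act 5 n35214 = n17662 := d16_3 D7998 D17092 D35214 (iv4 D17662) F13126 F9463 (iv5 F13126) F13127 F12776
theorem F55960 : act 0 n35214 = n18274 := d18_2 F29473 D35214 (iv4 F55927) (iv5 D35174) (iv4 D17077) F13768 D8091 (iv0 F13533) D18274
theorem F55961 : act 1 n35214 = n35213 := d18_8 (iv1 F29468) F29470 F13756 D17081 D35182 F55956 (iv0 D35213) D35214 F55955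
def n35215 : Q := act 6 n17092
theorem D35215 : act 6 n17092 = n35215 := rfl
def n35216 : Q := act 0 n17093
theorem D35216 : act 0 n17093 = n35216 := rfl
def n35217 : Q := act 1 n17093
theorem D35217 : act 1 n17093 = n35217 := rfl
def n35218 : Q := act 5 n17093
theorem D35218 : act 5 n17093 = n35218 := rfl
def n35219 : Q := act 7 n17093
theorem D35219 : act 7 n17093 = n35219 := rfl
theorem F55962 : act 4 n35219 = n17097 := d11_1 D35219 (iv7 D17097) (iv4 F28040)
def n35220 : Q := act 2 n17094
theorem D35220 : act 2 n17094 = n35220 := rfl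
theorem F55963 : act 7 n17095 = n35220 := d15_2 (iv0 D17094) D17095 (iv2 D35220)
def n35221 : Q := act 3 n17094
theorem D35221 : act 3 n17094 = n35221 := rfl
def n35222 : Q := act 4 n17094
theorem D35222 : act 4 n17094 = n35222 := rfl
def n35223 : Q := act 5 n17094
theorem D35223 : act 5 n17094 = n35223 := rfl
def n35224 : Q := act 6 n17094
theorem D35224 : act 6 n17094 = n35224 := rfl
def n35225 : Q := act 7 n17094
theorem D35225 : act 7 n17094 = n35225 := rfl
theorem F55964 : act 2 n35225 = n17095 := d4_1 D35225 F55963 (iv2 D35220)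
def n35226 : Q := act 3 n17095
theorem D35226 : act 3 n17095 = n35226 := rfl
def n35227 : Q := act 4 n17095
theorem D35227 : act 4 n17095 = n35227 := rfl
def n35228 : Q := act 5 n17095
theorem D35228 : act 5 n17095 = n35228 := rfl
def n35229 : Q := act 6 n17095
theorem D35229 : act 6 n17095 = n35229 := rfl
def n35230 : Q := act 0 n17096
theorem D35230 : act 0 n17096 = n35230 := rfl
def n35231 : Q := act 1 n17096
theorem D35231 : act 1 n17096 = n35231 := rfl
def n35232 : Q := act 4 n17096
theorem D35232 : act 4 n17096 = n35232 := rfl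
theorem F55965 : act 6 n35232 = n17102 := d10_2 (iv6 F28042) D35232 (iv4 D17102)
def n35233 : Q := act 7 n17096
theorem D35233 : act 7 n17096 = n35233 := rfl
theorem F55966 : act 3 n35233 = n17116 := d8_1 D35233 (iv7 D17116) (iv3 F28041)
theorem F55967 : act 5 n35233 = n17097 := d13_1 D35233 (iv7 D17097) D17096
def n35234 : Q := act 5 n17098
theorem D35234 : act 5 n17098 = n35234 := rfl
theorem F55968 : act 2 n35234 = n34664 := d2_1 D35234 (iv5 D34664) (iv2 F28044)
theorem F55969 : act 7 n35234 = n35172 := d13_2 (iv7 F28045) D35234 (iv5 D35172)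
def n35235 : Q := act 4 n17099
theorem D35235 : act 4 n17099 = n35235 := rfl
theorem F55970 : act 7 n35235 = n35180 := d11_2 (iv7 F28046) D35235 (iv4 D35180)
def n35236 : Q := act 6 n17099
theorem D35236 : act 6 n17099 = n35236 := rfl
def n35237 : Q := act 4 n17100
theorem D35237 : act 4 n17100 = n35237 := rfl
theorem F55971 : act 2 n35237 = n35180 := d1_1 D35237 (iv4 D35180) (iv2 F28047)
def n35238 : Q := act 6 n17100
theorem D35238 : act 6 n17100 = n35238 := rfl
theorem F55972 : act 2 n35238 = n35178 := d3_1 D35238 F55929 (iv2 F28047)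
theorem F55973 : act 5 n35238 = n18889 := d12_1 D35238 (iv6 D18889) F13761 (iv6 F13588) D17100
def n35239 : Q := act 3 n17101
theorem D35239 : act 3 n17101 = n35239 := rfl
theorem F55974 : act 5 n35239 = n17228 := d6_2 (iv5 F28049) D35239 F28312
theorem F55975 : act 7 n35239 = n35107 := d8_2 (iv7 F28603) D35239 F55793
theorem F55976 : act 4 n35239 = n27648 := d20_6 D8860 F13801 (iv4 D8007) (iv3 F12780) D17101 D35239 (iv1 D27648) (iv4 D13202) F9762 (iv1 F5899)
theorem F55977 : act 1 n17236 = n35239 := d15_1 F42974 F55975 F55792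
def n35240 : Q := act 4 n17101
theorem D35240 : act 4 n17101 = n35240 := rfl
def n35241 : Q := act 6 n17101
theorem D35241 : act 6 n17101 = n35241 := rfl
theorem F55978 : act 5 n35241 = n35236 := d12_1 D35241 (iv6 D35236) (iv5 D17099) F21420 (iv5 F28049)
def n35242 : Q := act 0 n17102
theorem D35242 : act 0 n17102 = n35242 := rfl
def n35243 : Q := act 3 n17102
theorem D35243 : act 3 n17102 = n35243 := rfl
theorem F55979 : act 4 n35243 = n17117 := d5_2 D17102 D35243 (iv3 D17117) (iv4 D8007) (iv3 F12780)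
def n35244 : Q := act 5 n17102
theorem D35244 : act 5 n17102 = n35244 := rfl
def n35245 : Q := act 0 n17104
theorem D35245 : act 0 n17104 = n35245 := rfl
def n35246 : Q := act 1 n17104
theorem D35246 : act 1 n17104 = n35246 := rfl
def n35247 : Q := act 2 n17104
theorem D35247 : act 2 n17104 = n35247 := rfl
def n35248 : Q := act 4 n17104
theorem D35248 : act 4 n17104 = n35248 := rfl
theorem F55980 : act 3 n35248 = n34389 := d5_1 D35248 (iv4 D34389) (iv3 D16668) F28972 D17104
def n35249 : Q := act 5 n17104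
theorem D35249 : act 5 n17104 = n35249 := rfl
theorem F55981 : act 3 n35249 = n17106 := d6_1 D35249 (iv5 D17106) D17104
def n35250 : Q := act 6 n17104
theorem D35250 : act 6 n17104 = n35250 := rfl
theorem F55982 : act 3 n35250 = n17107 := d7_1 D35250 (iv6 D17107) D17104
theorem F55983 : act 5 n17135 = n35250 := d6_0 F55982 F28051 D17135
def n35251 : Q := act 4 n17106
theorem D35251 : act 4 n17106 = n35251 := rfl
def n35253 : Q := act 1 n17109
theorem D35253 : act 1 n17109 = n35253 := rfl
def n35254 : Q := act 2 n17109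
theorem D35254 : act 2 n17109 = n35254 := rfl
def n35255 : Q := act 4 n17109
theorem D35255 : act 4 n17109 = n35255 := rfl
theorem F55984 : act 3 n35255 = n34397 := d5_1 D35255 (iv4 D34397) (iv3 D16673) F28975 D17109
def n35256 : Q := act 5 n17109
theorem D35256 : act 5 n17109 = n35256 := rfl
theorem F55985 : act 3 n35256 = n17111 := d6_1 D35256 (iv5 D17111) D17109
def n35257 : Q := act 6 n17109
theorem D35257 : act 6 n17109 = n35257 := rfl
theorem F55986 : act 3 n35257 = n17112 := d7_1 D35257 (iv6 D17112) D17109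
def n35258 : Q := act 4 n17111
theorem D35258 : act 4 n17111 = n35258 := rfl
def n35259 : Q := act 3 n17113
theorem D35259 : act 3 n17113 = n35259 := rfl
def n35260 : Q := act 6 n17113
theorem D35260 : act 6 n17113 = n35260 := rfl
theorem F55987 : act 5 n35260 = n17854 := d12_1 D35260 (iv6 F43768) F43461 (iv6 F43460) F43458
theorem F55988 : act 0 n35260 = n17318 := d21_4 (iv5 D26947) D26946 F43458 D35260 (iv6 D17318) (iv5 F13190) (iv1 F43463) (iv5 F43434) F43435 F43467
def n35261 : Q := act 3 n17114
theorem D35261 : act 3 n17114 = n35261 := rfl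
def n35262 : Q := act 6 n17114
theorem D35262 : act 6 n17114 = n35262 := rfl
def n35263 : Q := act 3 n17115
theorem D35263 : act 3 n17115 = n35263 := rfl
theorem F55990 : act 6 n35263 = n17117 := d7_2 (iv6 F28053) D35263 (iv3 D17117)
def n35264 : Q := act 5 n17115
theorem D35264 : act 5 n17115 = n35264 := rfl
def n35265 : Q := act 7 n17115
theorem D35265 : act 7 n17115 = n35265 := rfl
theorem F55991 : act 4 n35265 = n17116 := d11_1 D35265 (iv7 D17116) D17115
theorem F55992 : act 1 n35161 = n35265 := d15_1 (iv0 F55890) (iv7 D35265) (iv2 F28583)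
theorem F55993 : act 1 n35265 = n35158 := d15_1 F55992 F55881 (iv2 F55888)
def n35266 : Q := act 0 n17117
theorem D35266 : act 0 n17117 = n35266 := rfl
def n35267 : Q := act 1 n17117
theorem D35267 : act 1 n17117 = n35267 := rfl
def n35268 : Q := act 2 n17117
theorem D35268 : act 2 n17117 = n35268 := rfl
def n35269 : Q := act 4 n17118
theorem D35269 : act 4 n17118 = n35269 := rfl
def n35270 : Q := act 5 n17119
theorem D35270 : act 5 n17119 = n35270 := rfl
theorem F55994 : act 2 n35270 = n22946 := d2_1 D35270 (iv5 D22946) (iv2 F28056)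
theorem F55995 : act 3 n35270 = n17120 := d6_1 D35270 (iv5 D17120) (iv3 F28057)
theorem F55996 : act 0 n17220 = n35270 := d21_1 D17220 (iv5 D35270) (iv6 D17119) F12973 F16984 D8476 (iv1 F21736) (iv5 D9163) D9164 F21533
def n35271 : Q := act 4 n17120
theorem D35271 : act 4 n17120 = n35271 := rfl
def n35272 : Q := act 3 n17121
theorem D35272 : act 3 n17121 = n35272 := rfl
def n35273 : Q := act 6 n17121
theorem D35273 : act 6 n17121 = n35273 := rfl
theorem F55997 : act 2 n35273 = n17125 := d3_1 D35273 (iv6 D17125) (iv2 F28064)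
theorem F55998 : act 4 n35273 = n17122 := d10_1 D35273 (iv6 D17122) D17121
def n35274 : Q := act 0 n17122
theorem D35274 : act 0 n17122 = n35274 := rfl
def n35275 : Q := act 1 n17122
theorem D35275 : act 1 n17122 = n35275 := rfl
theorem F55999 : act 1 n35275 = n17128 := d15_1 D35275 (iv7 D17128) (iv2 F28067)
theorem F56000 : act 3 n35275 = n34597 := d20_5 D7848 F30053 F25204 (iv3 F28073) (iv1 F55999) (iv4 D34597) (iv1 D16770) F12382 F5574 D3559
def n35276 : Q := act 7 n17122
theorem D35276 : act 7 n17122 = n35276 := rfl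
theorem F56001 : act 2 n35276 = n17128 := d4_1 D35276 (iv7 D17128) (iv2 F28067)
theorem F56002 : act 5 n35276 = n18935 := d13_1 D35276 (iv7 D18935) (iv5 F28068)
theorem F56003 : act 1 n17128 = n35274 := d15_0 (iv0 D35274) D35276 F56001
theorem F56004 : act 1 n17127 = n35276 := d15_1 D17127 (iv7 D35276) F28067
theorem F56005 : act 1 n35276 = n17126 := d15_0 (iv0 D17126) D17128 (iv2 F56001)
def n35277 : Q := act 3 n17123
theorem D35277 : act 3 n17123 = n35277 := rfl
theorem F56006 : act 7 n35277 = n19163 := d8_2 (iv7 F28071) D35277 (iv3 D19163)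
def n35278 : Q := act 6 n17123
theorem D35278 : act 6 n17123 = n35278 := rfl
theorem F56007 : act 2 n35278 = n19215 := d3_1 D35278 (iv6 D19215) F28070
theorem F56008 : act 4 n35278 = n19168 := d10_1 D35278 (iv6 D19168) (iv4 F28069)
def n35279 : Q := act 6 n17124
theorem D35279 : act 6 n17124 = n35279 := rfl
def n35280 : Q := act 0 n17125
theorem D35280 : act 0 n17125 = n35280 := rfl
def n35281 : Q := act 1 n17125
theorem D35281 : act 1 n17125 = n35281 := rfl
def n35282 : Q := act 5 n17125
theorem D35282 : act 5 n17125 = n35282 := rfl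
def n35283 : Q := act 7 n17125
theorem D35283 : act 7 n17125 = n35283 := rfl
theorem F56009 : act 4 n35283 = n17128 := d11_1 D35283 (iv7 D17128) (iv4 F28072)
def n35284 : Q := act 2 n17126
theorem D35284 : act 2 n17126 = n35284 := rfl
theorem F56010 : act 7 n17127 = n35284 := d15_2 (iv0 D17126) D17127 (iv2 D35284)
def n35285 : Q := act 3 n17126
theorem D35285 : act 3 n17126 = n35285 := rfl
theorem F56011 : act 4 n35285 = n34488 := d20_6 D12833 F30439 F11681 (iv3 F12787) D17126 D35285 (iv1 F54724) F27541 F12386 (iv1 F9424)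
def n35286 : Q := act 4 n17126
theorem D35286 : act 4 n17126 = n35286 := rfl
def n35287 : Q := act 5 n17126
theorem D35287 : act 5 n17126 = n35287 := rfl
def n35288 : Q := act 6 n17126
theorem D35288 : act 6 n17126 = n35288 := rfl
def n35289 : Q := act 7 n17126
theorem D35289 : act 7 n17126 = n35289 := rfl
theorem F56012 : act 2 n35289 = n17127 := d4_1 D35289 F56010 (iv2 D35284)
def n35290 : Q := act 3 n17127
theorem D35290 : act 3 n17127 = n35290 := rfl
def n35291 : Q := act 4 n17127
theorem D35291 : act 4 n17127 = n35291 := rfl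
def n35292 : Q := act 5 n17127
theorem D35292 : act 5 n17127 = n35292 := rfl
def n35293 : Q := act 6 n17127
theorem D35293 : act 6 n17127 = n35293 := rfl
def n35294 : Q := act 0 n17130
theorem D35294 : act 0 n17130 = n35294 := rfl
def n35295 : Q := act 1 n17130
theorem D35295 : act 1 n17130 = n35295 := rfl
def n35296 : Q := act 2 n17130
theorem D35296 : act 2 n17130 = n35296 := rfl
def n35297 : Q := act 4 n17130
theorem D35297 : act 4 n17130 = n35297 := rfl
theorem F56013 : act 3 n35297 = n34691 := d5_1 D35297 (iv4 D34691) (iv3 D16797) (iv4 F28964) D17130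
def n35298 : Q := act 5 n17130
theorem D35298 : act 5 n17130 = n35298 := rfl
theorem F56014 : act 3 n35298 = n17132 := d6_1 D35298 (iv5 D17132) D17130
def n35299 : Q := act 6 n17130
theorem D35299 : act 6 n17130 = n35299 := rfl
theorem F56015 : act 3 n35299 = n17133 := d7_1 D35299 (iv6 D17133) D17130
def n35300 : Q := act 0 n17135
theorem D35300 : act 0 n17135 = n35300 := rfl
def n35301 : Q := act 1 n17135
theorem D35301 : act 1 n17135 = n35301 := rfl
def n35302 : Q := act 2 n17135
theorem D35302 : act 2 n17135 = n35302 := rfl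
def n35303 : Q := act 4 n17135
theorem D35303 : act 4 n17135 = n35303 := rfl
theorem F56016 : act 3 n35303 = n34698 := d5_1 D35303 (iv4 D34698) (iv3 D16801) (iv4 F28979) D17135
def n35304 : Q := act 6 n17135
theorem D35304 : act 6 n17135 = n35304 := rfl
theorem F56017 : act 3 n35304 = n17137 := d7_1 D35304 (iv6 D17137) D17135
def n35305 : Q := act 0 n17138
theorem D35305 : act 0 n17138 = n35305 := rfl
def n35306 : Q := act 1 n17138
theorem D35306 : act 1 n17138 = n35306 := rfl
def n35307 : Q := act 5 n17138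
theorem D35307 : act 5 n17138 = n35307 := rfl
theorem F56018 : act 3 n35307 = n17149 := d6_1 D35307 (iv5 D17149) (iv3 F28077)
theorem F56019 : act 6 n35307 = n17140 := d12_2 D17138 D35307 (iv5 D17140) (iv6 D8026) D8025
def n35308 : Q := act 7 n17138
theorem D35308 : act 7 n17138 = n35308 := rfl
theorem F56020 : act 3 n35308 = n17150 := d8_1 D35308 (iv7 D17150) (iv3 F28077)
def n35309 : Q := act 5 n17139
theorem D35309 : act 5 n17139 = n35309 := rfl
theorem F56021 : act 3 n35309 = n18989 := d6_1 D35309 (iv5 D18989) (iv3 F28078)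
theorem F56022 : act 7 n35309 = n35270 := d13_2 (iv7 F28080) D35309 (iv5 D35270)
def n35310 : Q := act 0 n17140
theorem D35310 : act 0 n17140 = n35310 := rfl
theorem F56023 : act 5 n35310 = n17218 := d21_2 D17140 D35310 F31205 (iv1 F28079) (iv6 D13043) D13042 (iv1 F30252) F30250 (iv6 F17374) F17375
theorem F56024 : act 1 n27226 = n35310 := d15_0 (iv0 D35310) (iv7 F28633) (iv2 F44034)
theorem F56025 : act 3 n17337 = n35310 := d6_3 F56023 F31204 D17337
def n35311 : Q := act 4 n17140
theorem D35311 : act 4 n17140 = n35311 := rfl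
theorem F56026 : act 0 n35311 = n18873 := d18_2 F31208 D35311 (iv4 D18873) F13740 F12898 (iv0 F21532) F21531 (iv0 F21533) D19491
def n35312 : Q := act 5 n17141
theorem D35312 : act 5 n17141 = n35312 := rfl
theorem F56027 : act 2 n35312 = n34434 := d2_1 D35312 (iv5 D34434) (iv2 F28082)
theorem F56028 : act 3 n35312 = n17144 := d6_1 D35312 (iv5 D17144) (iv3 F28083)
theorem F56029 : act 7 n35312 = n34464 := d13_2 F28642 D35312 F54682
theorem F56030 : act 0 n35312 = n34466 := d17_2 F28085 D35312 F54687 (iv4 F27418) F28606 F28604 (iv5 D17086) (iv0 F13769) (iv4 F28024)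
theorem F56031 : act 1 n35312 = n34462 := d17_6 (iv1 D16717) D16718 F54637 (iv5 D34434) (iv4 F28084) D35312 (iv5 D34462) F30163 F30160
def n35313 : Q := act 0 n17142
theorem D35313 : act 0 n17142 = n35313 := rfl
def n35314 : Q := act 1 n17142
theorem D35314 : act 1 n17142 = n35314 := rfl
def n35315 : Q := act 5 n17142
theorem D35315 : act 5 n17142 = n35315 := rfl
theorem F56032 : act 6 n35315 = n17144 := d12_2 D17142 D35315 (iv5 D17144) (iv6 D8030) D8029
def n35316 : Q := act 7 n17142
theorem D35316 : act 7 n17142 = n35316 := rfl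
def n35317 : Q := act 5 n17143
theorem D35317 : act 5 n17143 = n35317 := rfl
theorem F56033 : act 2 n35317 = n27640 := d2_1 D35317 (iv5 D27640) F28089
theorem F56034 : act 3 n35317 = n19836 := d6_1 D35317 (iv5 D19836) (iv3 F28088)
theorem F56035 : act 7 n35317 = n34475 := d13_2 (iv7 F28091) D35317 (iv5 D34475)
def n35318 : Q := act 0 n17144
theorem D35318 : act 0 n17144 = n35318 := rfl
theorem F56037 : act 5 n35318 = n17221 := d17_3 F21641 D17144 D35318 (iv4 F28324) (iv5 F29652) (iv0 F29653) (iv5 D17442) (iv0 F27448) F27447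
theorem F56038 : act 2 n27644 = n35318 := d15_3 (iv0 D35318) (iv0 F55787) F55786
theorem F56039 : act 1 n27064 = n35318 := d15_0 (iv0 D35318) (iv7 F28645) (iv2 F43717)
theorem F56040 : act 3 n35318 = n20248 := d0_2 D27644 F56038 (iv2 F32165) F32166 (iv2 F27992)
def n35319 : Q := act 3 n17145
theorem D35319 : act 3 n17145 = n35319 := rfl
theorem F56041 : act 0 n35319 = n33253 := d20_4 F13429 (iv1 F13419) (iv4 F28093) D35319 (iv3 D33253) (iv4 D16057) (iv1 D7504) D7505 F11749 D8311
def n35320 : Q := act 6 n17145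
theorem D35320 : act 6 n17145 = n35320 := rfl
theorem F56042 : act 2 n35320 = n18186 := d3_1 D35320 (iv6 D18186) F28094
theorem F56043 : act 4 n35320 = n18179 := d10_1 D35320 (iv6 D18179) (iv4 F28093)
def n35321 : Q := act 0 n17146
theorem D35321 : act 0 n17146 = n35321 := rfl
def n35322 : Q := act 1 n17146
theorem D35322 : act 1 n17146 = n35322 := rfl
def n35323 : Q := act 5 n17146
theorem D35323 : act 5 n17146 = n35323 := rfl
def n35324 : Q := act 7 n17146
theorem D35324 : act 7 n17146 = n35324 := rfl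
theorem F56044 : act 4 n35324 = n17150 := d11_1 D35324 (iv7 D17150) (iv4 F28095)
def n35325 : Q := act 2 n17147
theorem D35325 : act 2 n17147 = n35325 := rfl
def n35326 : Q := act 3 n17147
theorem D35326 : act 3 n17147 = n35326 := rfl
def n35327 : Q := act 4 n17147
theorem D35327 : act 4 n17147 = n35327 := rfl
def n35328 : Q := act 5 n17147
theorem D35328 : act 5 n17147 = n35328 := rfl
def n35329 : Q := act 6 n17147
theorem D35329 : act 6 n17147 = n35329 := rfl
theorem F56046 : act 5 n35329 = n17160 := d21_6 (iv5 D1599) D1596 D3631 D8034 D17147 D35329 (iv1 D17160) (iv5 F17008) (iv6 D8065) (iv1 D3641)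
def n35330 : Q := act 7 n17147
theorem D35330 : act 7 n17147 = n35330 := rfl
def n35333 : Q := act 5 n17148
theorem D35333 : act 5 n17148 = n35333 := rfl
def n35335 : Q := act 0 n17149
theorem D35335 : act 0 n17149 = n35335 := rfl
def n35336 : Q := act 1 n17149
theorem D35336 : act 1 n17149 = n35336 := rfl
def n35337 : Q := act 4 n17149
theorem D35337 : act 4 n17149 = n35337 := rfl
theorem F56048 : act 6 n35337 = n17153 := d10_2 (iv6 F28096) D35337 (iv4 D17153)
def n35338 : Q := act 7 n17149
theorem D35338 : act 7 n17149 = n35338 := rfl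
theorem F56049 : act 5 n35338 = n17150 := d13_1 D35338 (iv7 D17150) D17149
def n35339 : Q := act 4 n17151
theorem D35339 : act 4 n17151 = n35339 := rfl
theorem F56050 : act 2 n35339 = n27075 := d1_1 D35339 F43734 (iv2 F28097)
theorem F56052 : act 0 n35339 = n27072 := d18_2 F28100 D35339 (iv4 F54622) (iv5 D34421) F27360 (iv0 F16911) F9479 D8053 F21677
def n35340 : Q := act 6 n17151
theorem D35340 : act 6 n17151 = n35340 := rfl
theorem F56054 : act 2 n35340 = n27076 := d3_1 D35340 (iv6 D27076) (iv2 F28097)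
def n35341 : Q := act 4 n17152
theorem D35341 : act 4 n17152 = n35341 := rfl
theorem F56055 : act 2 n35341 = n17243 := d1_1 D35341 F28195 F28102
theorem F56056 : act 7 n35341 = n17173 := d11_2 (iv7 F28104) D35341 (iv4 D17173)
theorem F56057 : act 0 n35341 = n17240 := d18_2 D17152 D35341 (iv4 F28512) (iv5 D17510) (iv4 D8235) F12993 (iv4 F13352) (iv0 D8035) D8037
theorem F56058 : act 1 n35341 = n17239 := d18_6 F27430 (iv4 D12879) (iv1 F21362) F21359 (iv5 F28101) D35341 (iv4 F28497) (iv0 F54669) (iv5 D34458)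
def n35342 : Q := act 6 n17152
theorem D35342 : act 6 n17152 = n35342 := rfl
theorem F56059 : act 2 n35342 = n17244 := d3_1 D35342 (iv6 D17244) F28102
theorem F56060 : act 5 n35342 = n35340 := d12_1 D35342 (iv6 D35340) (iv5 D17151) F13353 (iv5 F28101)
def n35343 : Q := act 0 n17153
theorem D35343 : act 0 n17153 = n35343 := rfl
theorem F56061 : act 4 n35343 = n18469 := d18_3 (iv1 F17009) D17153 D35343 F29652 F28324 (iv0 D17221) (iv4 D8076) (iv0 D3644) D3646
theorem F56062 : act 1 n17237 = n35343 := d15_0 (iv0 D35343) (iv7 F28647) F28646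
def n35344 : Q := act 1 n17153
theorem D35344 : act 1 n17153 = n35344 := rfl
theorem F56063 : act 1 n35344 = n17237 := d15_1 D35344 (iv7 F43662) F43661
def n35345 : Q := act 3 n17153
theorem D35345 : act 3 n17153 = n35345 := rfl
def n35346 : Q := act 5 n17153
theorem D35346 : act 5 n17153 = n35346 := rfl
def n35347 : Q := act 0 n17154
theorem D35347 : act 0 n17154 = n35347 := rfl
def n35348 : Q := act 1 n17154
theorem D35348 : act 1 n17154 = n35348 := rfl
def n35349 : Q := act 7 n17154
theorem D35349 : act 7 n17154 = n35349 := rfl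
theorem F56064 : act 3 n35349 = n17161 := d8_1 D35349 (iv7 D17161) (iv3 F28105)
def n35350 : Q := act 0 n17155
theorem D35350 : act 0 n17155 = n35350 := rfl
def n35351 : Q := act 1 n17155
theorem D35351 : act 1 n17155 = n35351 := rfl
def n35352 : Q := act 7 n17155
theorem D35352 : act 7 n17155 = n35352 := rfl
def n35353 : Q := act 0 n17156
theorem D35353 : act 0 n17156 = n35353 := rfl
def n35354 : Q := act 1 n17156
theorem D35354 : act 1 n17156 = n35354 := rfl
theorem F56066 : act 5 n35354 = n21951 := d17_7 F51874 F51872 (iv1 F34789) D22595 (iv4 F35134) (iv5 F29530) D35354 (iv0 D21951) (iv4 F34428)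
theorem F56067 : act 3 n33247 = n35354 := d20_3 (iv4 F51847) (iv1 F51851) (iv4 F52485) (iv1 D35354) (iv3 D17156) (iv4 D8044) F13328 D6194 (iv3 F20975) D26388
theorem F56068 : act 4 n34363 = n35354 := d20_6 (iv4 D6244) (iv1 F14022) D7978 F12745 D16657 D34363 (iv1 D35354) (iv4 F44236) (iv3 D27333) (iv1 F21863)
def n35355 : Q := act 6 n17156
theorem D35355 : act 6 n17156 = n35355 := rfl
theorem F56069 : act 3 n35355 = n17158 := d7_1 D35355 (iv6 D17158) D17156
def n35356 : Q := act 6 n17157
theorem D35356 : act 6 n17157 = n35356 := rfl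
def n35357 : Q := act 0 n17158
theorem D35357 : act 0 n17158 = n35357 := rfl
def n35358 : Q := act 1 n17158
theorem D35358 : act 1 n17158 = n35358 := rfl
def n35359 : Q := act 5 n17158
theorem D35359 : act 5 n17158 = n35359 := rfl
def n35360 : Q := act 7 n17158
theorem D35360 : act 7 n17158 = n35360 := rfl
theorem F56070 : act 4 n35360 = n17161 := d11_1 D35360 (iv7 D17161) (iv4 F28107)
def n35364 : Q := act 5 n17159
theorem D35364 : act 5 n17159 = n35364 := rfl
def n35365 : Q := act 6 n17159
theorem D35365 : act 6 n17159 = n35365 := rfl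
def n35367 : Q := act 3 n17160
theorem D35367 : act 3 n17160 = n35367 := rfl
def n35368 : Q := act 4 n17160
theorem D35368 : act 4 n17160 = n35368 := rfl
def n35369 : Q := act 6 n17160
theorem D35369 : act 6 n17160 = n35369 := rfl
def n35370 : Q := act 0 n17162
theorem D35370 : act 0 n17162 = n35370 := rfl
def n35371 : Q := act 1 n17162
theorem D35371 : act 1 n17162 = n35371 := rfl
def n35372 : Q := act 5 n17162
theorem D35372 : act 5 n17162 = n35372 := rfl
theorem F56073 : act 3 n35372 = n17163 := d6_1 D35372 (iv5 D17163) D17162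
def n35373 : Q := act 6 n17162
theorem D35373 : act 6 n17162 = n35373 := rfl
theorem F56074 : act 3 n35373 = n17164 := d7_1 D35373 (iv6 D17164) D17162
def n35374 : Q := act 6 n17163
theorem D35374 : act 6 n17163 = n35374 := rfl
theorem F56075 : act 2 n35374 = n17199 := d3_1 D35374 (iv6 D17199) (iv2 F28108)
theorem F56076 : act 4 n35374 = n17483 := d10_1 D35374 (iv6 D17483) (iv4 F28109)
def n35375 : Q := act 0 n17164
theorem D35375 : act 0 n17164 = n35375 := rfl
def n35376 : Q := act 1 n17164
theorem D35376 : act 1 n17164 = n35376 := rfl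
theorem F56077 : act 1 n35376 = n17203 := d15_1 D35376 (iv7 D17203) (iv2 F28110)
def n35377 : Q := act 5 n17164
theorem D35377 : act 5 n17164 = n35377 := rfl
theorem F56078 : act 2 n35377 = n17202 := d2_1 D35377 (iv5 D17202) (iv2 F28110)
def n35378 : Q := act 7 n17164
theorem D35378 : act 7 n17164 = n35378 := rfl
theorem F56079 : act 2 n35378 = n17203 := d4_1 D35378 (iv7 D17203) (iv2 F28110)
theorem F56080 : act 4 n35378 = n17168 := d11_1 D35378 (iv7 D17168) (iv4 F28111)
theorem F56081 : act 1 n17203 = n35375 := d15_0 (iv0 D35375) D35378 F56079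
theorem F56082 : act 1 n17201 = n35378 := d15_1 D17201 (iv7 D35378) F28110
theorem F56083 : act 4 n18494 = n35375 := d20_6 F41950 (iv1 D7348) F5371 (iv3 F5853) D8694 D18494 (iv1 F56081) F28160 F12867 (iv1 F9488)
theorem F56084 : act 1 n35378 = n17200 := d15_0 (iv0 D17200) D17203 (iv2 F56079)
def n35379 : Q := act 2 n17165
theorem D35379 : act 2 n17165 = n35379 := rfl
theorem F56085 : act 7 n17166 = n35379 := d15_2 (iv0 D17165) D17166 (iv2 D35379)
def n35380 : Q := act 3 n17165
theorem D35380 : act 3 n17165 = n35380 := rfl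
def n35381 : Q := act 4 n17165
theorem D35381 : act 4 n17165 = n35381 := rfl
def n35382 : Q := act 5 n17165
theorem D35382 : act 5 n17165 = n35382 := rfl
def n35383 : Q := act 7 n17165
theorem D35383 : act 7 n17165 = n35383 := rfl
def n35384 : Q := act 3 n17166
theorem D35384 : act 3 n17166 = n35384 := rfl
theorem F56087 : act 4 n35384 = n27662 := d20_6 (iv4 F30354) (iv1 F21143) F11835 (iv3 F12867) (iv1 F28112) D35384 (iv1 D27662) F22008 F9771 D6281
def n35385 : Q := act 4 n17166
theorem D35385 : act 4 n17166 = n35385 := rfl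
def n35386 : Q := act 5 n17166
theorem D35386 : act 5 n17166 = n35386 := rfl
def n35387 : Q := act 6 n17166
theorem D35387 : act 6 n17166 = n35387 := rfl
def n35388 : Q := act 0 n17167
theorem D35388 : act 0 n17167 = n35388 := rfl
theorem F56088 : act 6 n35388 = n27058 := d21_5 (iv5 F21677) (iv1 D8053) D8054 (iv6 F28114) D35388 (iv5 D27058) (iv1 D12962) D12963 F21558 D12967
def n35389 : Q := act 1 n17167
theorem D35389 : act 1 n17167 = n35389 := rfl
theorem F56089 : act 1 n35389 = n17217 := d15_1 D35389 (iv7 D17217) (iv2 F28113)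
theorem F56090 : act 5 n27176 = n35389 := d21_6 F13342 (iv1 D2602) D2604 D6195 D13017 D27176 (iv1 D35389) (iv5 D17167) (iv6 D8051) (iv1 F9574)
def n35390 : Q := act 4 n17167
theorem D35390 : act 4 n17167 = n35390 := rfl
theorem F56091 : act 2 n35390 = n17216 := d1_1 D35390 (iv4 D17216) (iv2 F28113)
theorem F56092 : act 6 n35390 = n17173 := d10_2 (iv6 F28114) D35390 (iv4 D17173)
def n35391 : Q := act 7 n17167
theorem D35391 : act 7 n17167 = n35391 := rfl
theorem F56093 : act 2 n35391 = n17217 := d4_1 D35391 (iv7 D17217) (iv2 F28113)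
theorem F56094 : act 5 n35391 = n17168 := d13_1 D35391 (iv7 D17168) D17167
theorem F56095 : act 1 n17217 = n35388 := d15_0 (iv0 D35388) D35391 F56093
theorem F56096 : act 1 n17215 = n35391 := d15_1 D17215 (iv7 D35391) F28113
theorem F56097 : act 1 n35391 = n17214 := d15_0 (iv0 D17214) D17217 (iv2 F56093)
def n35392 : Q := act 5 n17170
theorem D35392 : act 5 n17170 = n35392 := rfl
theorem F56098 : act 2 n35392 = n17224 := d2_1 D35392 (iv5 D17224) (iv2 F28121)
theorem F56099 : act 3 n35392 = n18056 := d6_1 D35392 (iv5 D18056) F28124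
theorem F56100 : act 7 n35392 = n17233 := d13_2 (iv7 F28123) D35392 (iv5 D17233)
theorem F56101 : act 0 n35392 = n26748 := d17_2 F30565 D35392 (iv5 D26748) (iv4 F27447) D34474 (iv0 F54701) (iv5 D26918) (iv0 F27430) (iv4 F30563)
theorem F56102 : act 1 n35392 = n35317 := d17_6 D8035 D17151 F28099 F21567 D17170 D35392 (iv5 D35317) (iv0 D17143) F12840
theorem F56103 : act 4 n17519 = n35392 := d18_7 (iv1 F28090) (iv4 D12966) (iv1 D6158) F4158 D3708 D8240 D17519 F56102 (iv5 D35317)
def n35393 : Q := act 5 n17172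
theorem D35393 : act 5 n17172 = n35393 := rfl
theorem F56104 : act 2 n35393 = n17233 := d2_1 D35393 (iv5 D17233) (iv2 F28128)
theorem F56105 : act 3 n35393 = n34463 := d6_1 D35393 (iv5 D34463) (iv3 F28131)
theorem F56106 : act 7 n35393 = n17224 := d13_2 (iv7 F28130) D35393 (iv5 D17224)
theorem F56107 : act 0 n35393 = n35317 := d17_2 F43537 D35393 (iv5 D35317) F28087 D18465 F54621 (iv5 D26921) F43407 (iv4 F43534)
theorem F56108 : act 1 n35393 = n26748 := d17_6 (iv1 D6158) D6159 D12967 (iv5 F21677) D17172 D35393 (iv5 D26748) F21642 (iv4 D12966)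
theorem F56109 : act 4 n35393 = n17518 := d18_5 (iv1 F21353) F9486 (iv1 F12856) D17172 D35393 (iv0 D17518) (iv4 D8240) D8239 (iv5 F13427)
def n35394 : Q := act 0 n17173
theorem D35394 : act 0 n17173 = n35394 := rfl
theorem F56110 : act 4 n35394 = n17442 := d18_3 F13430 D17173 D35394 (iv5 D17442) F12982 F12990 (iv4 F9572) F16975 D8286
theorem F56111 : act 1 n17243 = n35394 := d15_0 (iv0 D35394) (iv7 F56056) F56055
theorem F56112 : act 2 n17239 = n35394 := d1_3 F56110 (iv2 F28496) F28497
theorem F56113 : act 7 n17240 = n35394 := d11_0 F56110 (iv7 F28511) F28512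
def n35395 : Q := act 1 n17173
theorem D35395 : act 1 n17173 = n35395 := rfl
theorem F56114 : act 1 n35395 = n17243 := d15_1 D35395 (iv7 D17243) (iv2 F28133)
theorem F56116 : act 4 n35395 = n27113 := d18_7 F43344 (iv4 D26877) (iv1 D12864) F9479 D8054 D17173 D35395 F43833 F29652
theorem F56117 : act 2 n17240 = n35395 := d1_3 F56116 F43830 F28512
def n35396 : Q := act 3 n17173
theorem D35396 : act 3 n17173 = n35396 := rfl
def n35397 : Q := act 5 n17173
theorem D35397 : act 5 n17173 = n35397 := rfl
theorem F56118 : act 2 n35397 = n17242 := d2_1 D35397 (iv5 D17242) (iv2 F28133)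
def n35398 : Q := act 0 n17174
theorem D35398 : act 0 n17174 = n35398 := rfl
def n35399 : Q := act 1 n17174
theorem D35399 : act 1 n17174 = n35399 := rfl
def n35400 : Q := act 5 n17174
theorem D35400 : act 5 n17174 = n35400 := rfl
theorem F56119 : act 3 n35400 = n17179 := d6_1 D35400 (iv5 D17179) (iv3 F28134)
theorem F56120 : act 6 n35400 = n17609 := d12_2 D17174 D35400 (iv5 D17609) (iv6 D8276) (iv5 F13442)
def n35401 : Q := act 7 n17174
theorem D35401 : act 7 n17174 = n35401 := rfl
theorem F56121 : act 3 n35401 = n17180 := d8_1 D35401 (iv7 D17180) (iv3 F28134)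
def n35402 : Q := act 3 n17175
theorem D35402 : act 3 n17175 = n35402 := rfl
def n35403 : Q := act 6 n17175
theorem D35403 : act 6 n17175 = n35403 := rfl
def n35404 : Q := act 0 n17176
theorem D35404 : act 0 n17176 = n35404 := rfl
def n35405 : Q := act 1 n17176
theorem D35405 : act 1 n17176 = n35405 := rfl
def n35406 : Q := act 5 n17176
theorem D35406 : act 5 n17176 = n35406 := rfl
def n35407 : Q := act 7 n17176
theorem D35407 : act 7 n17176 = n35407 := rfl
theorem F56122 : act 4 n35407 = n17180 := d11_1 D35407 (iv7 D17180) (iv4 F28136)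
def n35408 : Q := act 2 n17177
theorem D35408 : act 2 n17177 = n35408 := rfl
theorem F56123 : act 7 n17178 = n35408 := d15_2 (iv0 D17177) D17178 (iv2 D35408)
def n35410 : Q := act 4 n17177
theorem D35410 : act 4 n17177 = n35410 := rfl
def n35411 : Q := act 5 n17177
theorem D35411 : act 5 n17177 = n35411 := rfl
def n35412 : Q := act 6 n17177
theorem D35412 : act 6 n17177 = n35412 := rfl
def n35413 : Q := act 7 n17177
theorem D35413 : act 7 n17177 = n35413 := rfl
theorem F56124 : act 2 n35413 = n17178 := d4_1 D35413 F56123 (iv2 D35408)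
def n35415 : Q := act 4 n17178
theorem D35415 : act 4 n17178 = n35415 := rfl
def n35416 : Q := act 5 n17178
theorem D35416 : act 5 n17178 = n35416 := rfl
def n35417 : Q := act 6 n17178
theorem D35417 : act 6 n17178 = n35417 := rfl
def n35418 : Q := act 0 n17179
theorem D35418 : act 0 n17179 = n35418 := rfl
def n35419 : Q := act 1 n17179
theorem D35419 : act 1 n17179 = n35419 := rfl
theorem F56125 : act 5 n35365 = n35419 := d21_6 (iv5 D6151) (iv1 F4154) D3636 D8045 D17159 D35365 (iv1 D35419) (iv5 D17179) (iv6 D8060) (iv1 F9569)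
def n35420 : Q := act 4 n17179
theorem D35420 : act 4 n17179 = n35420 := rfl
theorem F56126 : act 6 n35420 = n17614 := d10_2 (iv6 F28137) D35420 (iv4 D17614)
def n35421 : Q := act 7 n17179
theorem D35421 : act 7 n17179 = n35421 := rfl
theorem F56127 : act 5 n35421 = n17180 := d13_1 D35421 (iv7 D17180) D17179
theorem F56128 : act 6 n35421 = n35338 := d14_1 D35421 (iv7 D35338) F28096 (iv7 F17010) (iv6 F28137)
def n35422 : Q := act 6 n17181
theorem D35422 : act 6 n17181 = n35422 := rfl
theorem F56129 : act 2 n35422 = n17183 := d3_1 D35422 (iv6 D17183) D17181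
theorem F56130 : act 3 n35422 = n17985 := d7_1 D35422 (iv6 D17985) (iv3 F28138)
theorem F56131 : act 4 n35422 = n27456 := d10_1 D35422 (iv6 D27456) F28143
theorem F56132 : act 5 n35422 = n27325 := d12_1 D35422 (iv6 D27325) F21843 (iv6 F16987) (iv5 F28139)
def n35423 : Q := act 3 n17182
theorem D35423 : act 3 n17182 = n35423 := rfl
theorem F56133 : act 4 n35423 = n17184 := d5_2 D17182 D35423 (iv3 D17184) (iv4 D8063) D8062
theorem F56134 : act 7 n35423 = n27453 := d8_2 (iv7 F28145) D35423 (iv3 D27453)
theorem F56135 : act 0 n33655 = n17184 := d20_7 (iv4 D13126) (iv1 F9748) (iv4 F9759) F9758 D7576 D16269 D33655 (iv4 F56133) (iv3 D35423) F28146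
theorem F56136 : act 1 n33655 = n34559 := d15_1 (iv0 F56135) F54819 F29553
def n35424 : Q := act 5 n17182
theorem D35424 : act 5 n17182 = n35424 := rfl
theorem F56137 : act 2 n35424 = n27345 := d2_1 D35424 F44248 (iv2 F28144)
theorem F56138 : act 7 n35424 = n27344 := d13_2 (iv7 F28145) D35424 F44245
theorem F56139 : act 4 n35424 = n27344 := d16_2 D17182 D35424 F44245 F21922 F21542 (iv4 F9723) D13093 (iv7 F28140) (iv2 D17181)
theorem F56140 : act 0 n35424 = n26768 := d17_2 (iv1 F28147) D35424 (iv5 D26768) (iv4 D12808) F14013 F6467 D2628 D6250 D13128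
theorem F56141 : act 1 n35424 = n26760 := d17_6 (iv1 F21845) (iv5 D6242) (iv1 F9717) (iv5 F13438) D17182 D35424 (iv5 D26760) D26758 F42994
def n35425 : Q := act 6 n17182
theorem D35425 : act 6 n17182 = n35425 := rfl
theorem F56142 : act 2 n35425 = n27456 := d3_1 D35425 (iv6 D27456) (iv2 F28144)
theorem F56143 : act 4 n35425 = n17183 := d10_1 D35425 (iv6 D17183) D17182
def n35426 : Q := act 0 n17183
theorem D35426 : act 0 n17183 = n35426 := rfl
def n35427 : Q := act 1 n17183
theorem D35427 : act 1 n17183 = n35427 := rfl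
def n35428 : Q := act 7 n17183
theorem D35428 : act 7 n17183 = n35428 := rfl
theorem F56144 : act 3 n35428 = n17189 := d8_1 D35428 (iv7 D17189) (iv3 F28148)
theorem F56145 : act 5 n35428 = n35349 := d13_1 D35428 (iv7 D35349) (iv5 F28149)
def n35429 : Q := act 0 n17184
theorem D35429 : act 0 n17184 = n35429 := rfl
theorem F56146 : act 1 n34559 = n35429 := d15_0 (iv0 D35429) (iv7 F43691) (iv2 F54817)
def n35430 : Q := act 6 n17184
theorem D35430 : act 6 n17184 = n35430 := rfl
theorem F56147 : act 3 n35430 = n17186 := d7_1 D35430 (iv6 D17186) D17184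
def n35431 : Q := act 6 n17185
theorem D35431 : act 6 n17185 = n35431 := rfl
theorem F56148 : act 2 n35431 = n34567 := d3_1 D35431 (iv6 D34567) (iv2 F28150)
def n35432 : Q := act 0 n17186
theorem D35432 : act 0 n17186 = n35432 := rfl
def n35433 : Q := act 1 n17186
theorem D35433 : act 1 n17186 = n35433 := rfl
def n35434 : Q := act 5 n17186
theorem D35434 : act 5 n17186 = n35434 := rfl
def n35435 : Q := act 7 n17186
theorem D35435 : act 7 n17186 = n35435 := rfl
theorem F56149 : act 4 n35435 = n17189 := d11_1 D35435 (iv7 D17189) (iv4 F28151)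
def n35436 : Q := act 2 n17187
theorem D35436 : act 2 n17187 = n35436 := rfl
theorem F56150 : act 7 n17188 = n35436 := d15_2 (iv0 D17187) D17188 (iv2 D35436)
def n35439 : Q := act 5 n17187
theorem D35439 : act 5 n17187 = n35439 := rfl
def n35440 : Q := act 6 n17187
theorem D35440 : act 6 n17187 = n35440 := rfl
theorem F56151 : act 5 n35440 = n27033 := d21_6 (iv5 D6190) (iv1 F4185) F13439 D8065 D17187 D35440 (iv1 D27033) F21541 (iv6 D8305) (iv1 F9641)
def n35441 : Q := act 7 n17187
theorem D35441 : act 7 n17187 = n35441 := rfl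
theorem F56152 : act 2 n35441 = n17188 := d4_1 D35441 F56150 (iv2 D35436)
def n35442 : Q := act 3 n17188
theorem D35442 : act 3 n17188 = n35442 := rfl
def n35443 : Q := act 4 n17188
theorem D35443 : act 4 n17188 = n35443 := rfl
def n35444 : Q := act 5 n17188
theorem D35444 : act 5 n17188 = n35444 := rfl
theorem F56153 : act 6 n27032 = n35444 := d21_5 (iv5 D2604) D2601 (iv5 F13345) D12953 D27032 (iv5 D35444) (iv1 D17188) F17008 (iv6 D8045) F13328
def n35445 : Q := act 6 n17188
theorem D35445 : act 6 n17188 = n35445 := rfl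
def n35446 : Q := act 0 n17190
theorem D35446 : act 0 n17190 = n35446 := rfl
theorem F56154 : act 5 n35446 = n18282 := d19_1 D35446 (iv4 F33657) (iv3 D21431) F16148 (iv5 F17730) (iv4 D10912) F7398 (iv1 F16456) (iv5 D10341) (iv4 F14102) F14103 (iv1 D9001) (iv5 D4030) (iv4 F6424) D3818 F9598 D12987 F21591 D17190
theorem F56155 : act 3 n35446 = n18162 := d20_5 (iv4 D18230) (iv1 F21590) F21591 D17190 D35446 (iv4 F31307) (iv1 D19554) (iv4 F27528) F27527 (iv1 F29398)
def n35447 : Q := act 1 n17190
theorem D35447 : act 1 n17190 = n35447 := rfl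
def n35448 : Q := act 2 n17190
theorem D35448 : act 2 n17190 = n35448 := rfl
def n35449 : Q := act 4 n17190
theorem D35449 : act 4 n17190 = n35449 := rfl
theorem F56156 : act 3 n35449 = n19157 := d5_1 D35449 (iv4 D19157) (iv3 F21588) F21591 D17190
def n35450 : Q := act 5 n17190
theorem D35450 : act 5 n17190 = n35450 := rfl
theorem F56157 : act 3 n35450 = n17191 := d6_1 D35450 (iv5 D17191) D17190
theorem F56158 : act 0 n35450 = n18155 := d20_4 F54775 F44255 F43371 (iv3 F56157) (iv3 D18155) (iv4 F14280) F14278 F12379 D16759 (iv1 F54777)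
def n35451 : Q := act 6 n17190
theorem D35451 : act 6 n17190 = n35451 := rfl
theorem F56159 : act 3 n35451 = n17192 := d7_1 D35451 (iv6 D17192) D17190
def n35452 : Q := act 6 n17191
theorem D35452 : act 6 n17191 = n35452 := rfl
def n35453 : Q := act 0 n17192
theorem D35453 : act 0 n17192 = n35453 := rfl
def n35454 : Q := act 1 n17192
theorem D35454 : act 1 n17192 = n35454 := rfl
def n35455 : Q := act 5 n17192
theorem D35455 : act 5 n17192 = n35455 := rfl
def n35456 : Q := act 7 n17192
theorem D35456 : act 7 n17192 = n35456 := rfl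
def n35457 : Q := act 0 n17193
theorem D35457 : act 0 n17193 = n35457 := rfl
theorem F56160 : act 5 n35457 = n18635 := d19_1 D35457 F29909 (iv3 D15374) (iv1 D7265) (iv5 D3339) F2589 (iv3 D1475) D1473 D3332 F5320 D3738 (iv1 F13316) (iv5 D8269) D8268 F13051 F6758 D10285 (iv4 F16296) D17193
def n35458 : Q := act 1 n17193
theorem D35458 : act 1 n17193 = n35458 := rfl
theorem F56161 : act 5 n35458 = n18636 := d17_7 (iv1 D3912) (iv5 F4032) (iv1 F26641) (iv5 F21075) (iv4 F42465) F42466 D35458 F29911 (iv4 D8753)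
def n35459 : Q := act 6 n17193
theorem D35459 : act 6 n17193 = n35459 := rfl
theorem F56162 : act 3 n35459 = n17195 := d7_1 D35459 (iv6 D17195) D17193
def n35460 : Q := act 6 n17194
theorem D35460 : act 6 n17194 = n35460 := rfl
def n35461 : Q := act 0 n17195
theorem D35461 : act 0 n17195 = n35461 := rfl
def n35462 : Q := act 1 n17195
theorem D35462 : act 1 n17195 = n35462 := rfl
def n35463 : Q := act 5 n17195
theorem D35463 : act 5 n17195 = n35463 := rfl
def n35464 : Q := act 7 n17195
theorem D35464 : act 7 n17195 = n35464 := rfl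
def n35465 : Q := act 3 n17196
theorem D35465 : act 3 n17196 = n35465 := rfl
theorem F56163 : act 2 n35465 = n18642 := d0_1 D35465 (iv3 D18642) F27031 F28720 F28715
theorem F56164 : act 5 n35465 = n27164 := d6_2 (iv5 F28155) D35465 (iv3 D27164)
def n35466 : Q := act 6 n17196
theorem D35466 : act 6 n17196 = n35466 := rfl
def n35467 : Q := act 6 n17197
theorem D35467 : act 6 n17197 = n35467 := rfl
theorem F56165 : act 3 n35467 = n18638 := d7_1 D35467 (iv6 D18638) F28157
def n35468 : Q := act 3 n17198
theorem D35468 : act 3 n17198 = n35468 := rfl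
theorem F56166 : act 5 n35468 = n17451 := d6_2 (iv5 F28159) D35468 (iv3 D17451)
def n35470 : Q := act 0 n17199
theorem D35470 : act 0 n17199 = n35470 := rfl
def n35471 : Q := act 1 n17199
theorem D35471 : act 1 n17199 = n35471 := rfl
def n35472 : Q := act 5 n17199
theorem D35472 : act 5 n17199 = n35472 := rfl
theorem F56169 : act 6 n35472 = n17202 := d12_2 D17199 D35472 (iv5 D17202) (iv6 D8069) D8068
def n35473 : Q := act 7 n17199
theorem D35473 : act 7 n17199 = n35473 := rfl
def n35474 : Q := act 2 n17200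
theorem D35474 : act 2 n17200 = n35474 := rfl
theorem F56170 : act 7 n17201 = n35474 := d15_2 (iv0 D17200) D17201 (iv2 D35474)
def n35475 : Q := act 3 n17200
theorem D35475 : act 3 n17200 = n35475 := rfl
def n35476 : Q := act 4 n17200
theorem D35476 : act 4 n17200 = n35476 := rfl
def n35477 : Q := act 5 n17200
theorem D35477 : act 5 n17200 = n35477 := rfl
def n35478 : Q := act 6 n17200
theorem D35478 : act 6 n17200 = n35478 := rfl
def n35479 : Q := act 7 n17200
theorem D35479 : act 7 n17200 = n35479 := rfl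
theorem F56171 : act 2 n35479 = n17201 := d4_1 D35479 F56170 (iv2 D35474)
def n35480 : Q := act 3 n17201
theorem D35480 : act 3 n17201 = n35480 := rfl
def n35481 : Q := act 4 n17201
theorem D35481 : act 4 n17201 = n35481 := rfl
theorem F56172 : act 3 n18479 = n35481 := d20_5 D8099 (iv1 F41758) F11664 (iv3 F13617) (iv1 F29660) (iv4 D35481) (iv1 D17201) F12864 F5669 D3650
def n35482 : Q := act 5 n17201
theorem D35482 : act 5 n17201 = n35482 := rfl
def n35483 : Q := act 6 n17201
theorem D35483 : act 6 n17201 = n35483 := rfl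
def n35484 : Q := act 0 n17202
theorem D35484 : act 0 n17202 = n35484 := rfl
def n35485 : Q := act 1 n17202
theorem D35485 : act 1 n17202 = n35485 := rfl
def n35486 : Q := act 4 n17202
theorem D35486 : act 4 n17202 = n35486 := rfl
def n35487 : Q := act 7 n17202
theorem D35487 : act 7 n17202 = n35487 := rfl
theorem F56173 : act 5 n35487 = n17203 := d13_1 D35487 (iv7 D17203) D17202
def n35490 : Q := act 3 n17204
theorem D35490 : act 3 n17204 = n35490 := rfl
theorem F56176 : act 7 n35490 = n17210 := d8_2 F28161 D35490 (iv3 D17210)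
def n35491 : Q := act 4 n17204
theorem D35491 : act 4 n17204 = n35491 := rfl
theorem F56177 : act 2 n35491 = n17206 := d1_1 D35491 (iv4 D17206) D17204
theorem F56178 : act 7 n35491 = n17211 := d11_2 F28161 D35491 (iv4 D17211)
def n35492 : Q := act 5 n17204
theorem D35492 : act 5 n17204 = n35492 := rfl
theorem F56179 : act 2 n35492 = n17207 := d2_1 D35492 (iv5 D17207) D17204
theorem F56180 : act 7 n35492 = n17212 := d13_2 F28161 D35492 (iv5 D17212)
def n35493 : Q := act 6 n17204
theorem D35493 : act 6 n17204 = n35493 := rfl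
theorem F56181 : act 2 n35493 = n17208 := d3_1 D35493 (iv6 D17208) D17204
def n35494 : Q := act 0 n17205
theorem D35494 : act 0 n17205 = n35494 := rfl
def n35495 : Q := act 1 n17205
theorem D35495 : act 1 n17205 = n35495 := rfl
def n35496 : Q := act 2 n17205
theorem D35496 : act 2 n17205 = n35496 := rfl
def n35497 : Q := act 4 n17205
theorem D35497 : act 4 n17205 = n35497 := rfl
theorem F56182 : act 0 n35497 = n27664 := d20_7 F42346 (iv1 D7601) F5432 (iv3 F5669) D8070 D17205 D35497 F44603 F22011 (iv1 F9778)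
theorem F56183 : act 0 n27652 = n35497 := d20_7 (iv4 F56080) (iv1 F56082) D35481 (iv3 F56172) (iv1 D18479) (iv3 F21992) (iv4 F44577) (iv4 D35497) (iv3 D17205) (iv1 F28118)
def n35498 : Q := act 5 n17205
theorem D35498 : act 5 n17205 = n35498 := rfl
theorem F56184 : act 3 n35498 = n17207 := d6_1 D35498 (iv5 D17207) D17205
def n35499 : Q := act 6 n17205
theorem D35499 : act 6 n17205 = n35499 := rfl
theorem F56185 : act 3 n35499 = n17208 := d7_1 D35499 (iv6 D17208) D17205
def n35500 : Q := act 7 n17205
theorem D35500 : act 7 n17205 = n35500 := rfl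
theorem F56186 : act 3 n35500 = n17209 := d8_1 D35500 (iv7 D17209) D17205
def n35501 : Q := act 0 n17206
theorem D35501 : act 0 n17206 = n35501 := rfl
def n35502 : Q := act 1 n17206
theorem D35502 : act 1 n17206 = n35502 := rfl
theorem F56187 : act 1 n35502 = n17211 := d15_1 D35502 (iv7 F56178) F56177
def n35503 : Q := act 3 n17206
theorem D35503 : act 3 n17206 = n35503 := rfl
def n35504 : Q := act 5 n17206
theorem D35504 : act 5 n17206 = n35504 := rfl
def n35505 : Q := act 6 n17206
theorem D35505 : act 6 n17206 = n35505 := rfl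
theorem F56188 : act 4 n35505 = n17208 := d10_1 D35505 (iv6 D17208) D17206
def n35506 : Q := act 7 n17206
theorem D35506 : act 7 n17206 = n35506 := rfl
theorem F56189 : act 2 n35506 = n17211 := d4_1 D35506 (iv7 F56178) F56177
theorem F56190 : act 4 n35506 = n17209 := d11_1 D35506 (iv7 D17209) D17206
theorem F56191 : act 1 n17211 = n35501 := d15_0 (iv0 D35501) D35506 F56189
def n35507 : Q := act 0 n17207
theorem D35507 : act 0 n17207 = n35507 := rfl
theorem F56192 : act 5 n35507 = n35369 := d21_2 D17207 D35507 (iv6 D35369) (iv1 D17160) (iv6 D8045) (iv5 D3636) (iv1 D1597) D1599 D3643 D8070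
theorem F56193 : act 6 n35328 = n35507 := d12_0 F56192 (iv6 D35369) (iv5 F56046) (iv6 D35329) D35328
theorem F56194 : act 0 n35507 = n17212 := d21_10 (iv5 D17212) (iv1 D8071) D8072 F12866 (iv1 F17009) (iv6 F28096) (iv5 D17149) D17147 D35328 F56193
def n35508 : Q := act 1 n17207
theorem D35508 : act 1 n17207 = n35508 := rfl
def n35509 : Q := act 4 n17207
theorem D35509 : act 4 n17207 = n35509 := rfl
def n35510 : Q := act 6 n17207
theorem D35510 : act 6 n17207 = n35510 := rfl
def n35511 : Q := act 7 n17207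
theorem D35511 : act 7 n17207 = n35511 := rfl
theorem F56196 : act 2 n35511 = n17212 := d4_1 D35511 (iv7 F56180) F56179
theorem F56197 : act 5 n35511 = n17209 := d13_1 D35511 (iv7 D17209) D17207
def n35512 : Q := act 0 n17208
theorem D35512 : act 0 n17208 = n35512 := rfl
def n35513 : Q := act 1 n17208
theorem D35513 : act 1 n17208 = n35513 := rfl
theorem F56198 : act 6 n35439 = n35513 := d21_3 (iv5 F17008) D17187 D35439 (iv1 D35513) (iv6 D17208) D17207 D35507 F56192 (iv6 D35369) (iv1 D17160)
def n35514 : Q := act 7 n17208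
theorem D35514 : act 7 n17208 = n35514 := rfl
def n35515 : Q := act 6 n17209
theorem D35515 : act 6 n17209 = n35515 := rfl
theorem F56199 : act 2 n35515 = n17213 := d3_1 D35515 (iv6 D17213) (iv2 F28162)
def n35516 : Q := act 0 n17210
theorem D35516 : act 0 n17210 = n35516 := rfl
def n35517 : Q := act 1 n17210
theorem D35517 : act 1 n17210 = n35517 := rfl
def n35518 : Q := act 2 n17210
theorem D35518 : act 2 n17210 = n35518 := rfl
def n35519 : Q := act 4 n17210
theorem D35519 : act 4 n17210 = n35519 := rfl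
def n35520 : Q := act 5 n17210
theorem D35520 : act 5 n17210 = n35520 := rfl
theorem F56200 : act 3 n35520 = n17212 := d6_1 D35520 (iv5 D17212) D17210
def n35521 : Q := act 6 n17210
theorem D35521 : act 6 n17210 = n35521 := rfl
theorem F56201 : act 3 n35521 = n17213 := d7_1 D35521 (iv6 D17213) D17210
def n35522 : Q := act 3 n17211
theorem D35522 : act 3 n17211 = n35522 := rfl
def n35523 : Q := act 5 n17211
theorem D35523 : act 5 n17211 = n35523 := rfl
def n35524 : Q := act 6 n17211
theorem D35524 : act 6 n17211 = n35524 := rfl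
theorem F56202 : act 4 n35524 = n17213 := d10_1 D35524 (iv6 D17213) D17211
def n35525 : Q := act 4 n17212
theorem D35525 : act 4 n17212 = n35525 := rfl
def n35526 : Q := act 6 n17212
theorem D35526 : act 6 n17212 = n35526 := rfl
theorem F56203 : act 0 n35340 = n35526 := d21_4 (iv5 D8037) D8035 D17151 D35340 (iv6 D35526) (iv5 D17212) (iv1 D8071) D8072 F12866 (iv1 F17009)
def n35527 : Q := act 0 n17213
theorem D35527 : act 0 n17213 = n35527 := rfl
def n35528 : Q := act 1 n17213
theorem D35528 : act 1 n17213 = n35528 := rfl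
def n35529 : Q := act 5 n17213
theorem D35529 : act 5 n17213 = n35529 := rfl
theorem F56204 : act 0 n35328 = n35529 := d21_1 D35328 (iv5 D35529) (iv6 D17213) (iv1 D8071) (iv6 D3643) (iv5 D1599) D1596 D3631 D8034 D17147
def n35530 : Q := act 7 n17213
theorem D35530 : act 7 n17213 = n35530 := rfl
def n35531 : Q := act 2 n17214
theorem D35531 : act 2 n17214 = n35531 := rfl
theorem F56205 : act 7 n17215 = n35531 := d15_2 (iv0 D17214) D17215 (iv2 D35531)
def n35532 : Q := act 3 n17214
theorem D35532 : act 3 n17214 = n35532 := rfl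
def n35533 : Q := act 4 n17214
theorem D35533 : act 4 n17214 = n35533 := rfl
def n35534 : Q := act 5 n17214
theorem D35534 : act 5 n17214 = n35534 := rfl
def n35535 : Q := act 6 n17214
theorem D35535 : act 6 n17214 = n35535 := rfl
theorem F56206 : act 5 n35535 = n27026 := d21_6 (iv5 D8082) (iv1 D3645) D3646 (iv6 F12866) D17214 D35535 (iv1 D27026) D27027 F43670 (iv1 F21674)
def n35536 : Q := act 7 n17214
theorem D35536 : act 7 n17214 = n35536 := rfl
theorem F56207 : act 2 n35536 = n17215 := d4_1 D35536 F56205 (iv2 D35531)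
def n35537 : Q := act 3 n17215
theorem D35537 : act 3 n17215 = n35537 := rfl
def n35538 : Q := act 4 n17215
theorem D35538 : act 4 n17215 = n35538 := rfl
def n35539 : Q := act 5 n17215
theorem D35539 : act 5 n17215 = n35539 := rfl
theorem F56208 : act 6 n35539 = n27159 := d21_3 (iv5 F56094) (iv1 F56096) D35539 (iv1 F43922) F21665 F13123 (iv1 F28654) (iv5 F28655) (iv6 D17208) (iv1 F28118)
def n35540 : Q := act 6 n17215
theorem D35540 : act 6 n17215 = n35540 := rfl
def n35541 : Q := act 0 n17216
theorem D35541 : act 0 n17216 = n35541 := rfl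
def n35542 : Q := act 1 n17216
theorem D35542 : act 1 n17216 = n35542 := rfl
def n35543 : Q := act 3 n17216
theorem D35543 : act 3 n17216 = n35543 := rfl
theorem F56209 : act 4 n35543 = n17321 := d5_2 D17216 D35543 (iv3 D17321) (iv4 D8109) (iv3 F12865)
theorem F56210 : act 6 n35543 = n17241 := d7_2 (iv6 F28163) D35543 (iv3 D17241)
def n35544 : Q := act 5 n17216
theorem D35544 : act 5 n17216 = n35544 := rfl
def n35545 : Q := act 7 n17216
theorem D35545 : act 7 n17216 = n35545 := rfl
theorem F56211 : act 4 n35545 = n17217 := d11_1 D35545 (iv7 D17217) D17216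
def n35546 : Q := act 6 n17217
theorem D35546 : act 6 n17217 = n35546 := rfl
theorem F56212 : act 3 n35546 = n17324 := d7_1 D35546 (iv6 D17324) (iv3 F28164)
theorem F56213 : act 7 n35546 = n17244 := d14_2 D17217 D35546 (iv6 D17244) (iv7 D8087) (iv6 F12866)
def n35547 : Q := act 5 n17219
theorem D35547 : act 5 n17219 = n35547 := rfl
theorem F56214 : act 2 n35547 = n17220 := d2_1 D35547 (iv5 D17220) D17219
theorem F56215 : act 0 n35547 = n22946 := d17_2 (iv1 F31170) D35547 (iv5 D22946) (iv4 F28058) D35270 (iv0 F55996) (iv5 D17220) (iv0 F21533) (iv4 F31167)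
theorem F56216 : act 1 n35547 = n35309 := d17_6 F13348 D8836 F29224 (iv5 D18056) (iv4 F28166) D35547 (iv5 D35309) (iv0 D17139) F12805
theorem F56217 : act 1 n35309 = n27065 := d15_1 F56216 F43722 (iv2 F56214)
def n35548 : Q := act 1 n17220
theorem D35548 : act 1 n17220 = n35548 := rfl
theorem F56218 : act 7 n35548 = n22946 := d15_2 (iv0 F55996) D35548 (iv2 F55994)
theorem F56219 : act 5 n35548 = n17608 := d17_7 (iv1 F16991) D18002 F29161 (iv5 F27392) F21531 D17220 D35548 F28627 (iv4 D16703)
theorem F56220 : act 2 n35309 = n35548 := d2_3 F56219 F28631 D35309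
theorem F56221 : act 3 n19711 = n35548 := d6_3 F56219 (iv3 F28630) D19711
def n35549 : Q := act 6 n17220
theorem D35549 : act 6 n17220 = n35549 := rfl
theorem F56222 : act 3 n35549 = n17226 := d7_1 D35549 (iv6 D17226) (iv3 F28168)
def n35550 : Q := act 5 n17223
theorem D35550 : act 5 n17223 = n35550 := rfl
theorem F56223 : act 2 n35550 = n34441 := d2_1 D35550 F54645 F28178
theorem F56225 : act 7 n35550 = n34463 := d13_2 (iv7 F28173) D35550 (iv5 D34463)
theorem F56226 : act 0 n35550 = n18462 := d17_2 F28177 D35550 (iv5 D18462) F13587 D17100 (iv0 F28264) (iv5 D17327) (iv0 F27422) (iv4 F27415)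
theorem F56227 : act 1 n35550 = n35234 := d17_6 (iv1 F28086) D34664 F54906 F54645 F28175 D35550 (iv5 D35234) (iv0 F28061) (iv4 F28084)
theorem F56228 : act 0 n18140 = n18058 := d21_1 D18140 (iv5 D18058) (iv6 F28179) (iv1 F28262) F28259 D35234 (iv1 F56227) (iv5 D35550) (iv6 F29226) (iv1 F29229)
def n35551 : Q := act 4 n17224
theorem D35551 : act 4 n17224 = n35551 := rfl
theorem F56229 : act 2 n35551 = n17519 := d1_1 D35551 F56103 F56098
theorem F56230 : act 7 n35551 = n17518 := d11_2 F56106 D35551 (iv4 F56109)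
theorem F56232 : act 1 n35551 = n17522 := d18_6 (iv1 D6107) F4102 D3644 D8076 D17224 D35551 F28520 F21391 (iv5 D12882)
def n35552 : Q := act 6 n17224
theorem D35552 : act 6 n17224 = n35552 := rfl
def n35553 : Q := act 1 n17225
theorem D35553 : act 1 n17225 = n35553 := rfl
theorem F56233 : act 1 n35553 = n17234 := d15_1 D35553 (iv7 F43731) F43730
def n35554 : Q := act 3 n17225
theorem D35554 : act 3 n17225 = n35554 := rfl
def n35555 : Q := act 5 n17225
theorem D35555 : act 5 n17225 = n35555 := rfl
def n35556 : Q := act 6 n17225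
theorem D35556 : act 6 n17225 = n35556 := rfl
theorem F56234 : act 4 n35556 = n17226 := d10_1 D35556 (iv6 D17226) D17225
def n35557 : Q := act 0 n17226
theorem D35557 : act 0 n17226 = n35557 := rfl
def n35558 : Q := act 1 n17226
theorem D35558 : act 1 n17226 = n35558 := rfl
def n35559 : Q := act 7 n17226
theorem D35559 : act 7 n17226 = n35559 := rfl
def n35560 : Q := act 5 n17229
theorem D35560 : act 5 n17229 = n35560 := rfl
theorem F56235 : act 2 n35560 = n17231 := d2_1 D35560 (iv5 D17231) D17229
theorem F56236 : act 0 n35560 = n27641 := d17_2 (iv1 F30570) D35560 (iv5 D27641) (iv4 D13199) D13200 (iv0 F43542) (iv5 D26978) F21445 D17365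
theorem F56237 : act 1 n35560 = n27638 := d17_6 F21840 D26750 F42979 (iv5 D17231) (iv4 F30571) D35560 (iv5 D27638) F27388 (iv4 F21839)
def n35561 : Q := act 4 n17231
theorem D35561 : act 4 n17231 = n35561 := rfl
theorem F56238 : act 0 n35561 = n27642 := d18_2 F42979 D35561 (iv4 D27642) (iv5 D13200) D13199 F42964 F42961 (iv0 F21835) D26750
theorem F56239 : act 1 n35561 = n27639 := d18_6 D8131 D17365 (iv1 F30570) F30571 D17231 D35561 (iv4 D27639) (iv0 F21979) (iv5 D8134)
def n35562 : Q := act 6 n17231
theorem D35562 : act 6 n17231 = n35562 := rfl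
theorem F56240 : act 3 n35562 = n17235 := d7_1 D35562 (iv6 D17235) (iv3 F28182)
theorem F56241 : act 5 n35562 = n35562 := d12_1 D35562 (iv6 D35562) (iv5 D17231) F21701 D17231
def n35563 : Q := act 4 n17233
theorem D35563 : act 4 n17233 = n35563 := rfl
theorem F56242 : act 2 n35563 = n17518 := d1_1 D35563 (iv4 F56109) F56104
theorem F56243 : act 7 n35563 = n17519 := d11_2 F56100 D35563 F56103
theorem F56244 : act 0 n35563 = n17522 := d18_2 F54704 D35563 F28520 F13020 (iv4 F9579) (iv0 F13432) (iv4 F21515) (iv0 F27453) D34475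
theorem F56245 : act 1 n35563 = n17457 := d18_6 (iv1 F21362) F21359 (iv1 F12860) D8081 D17233 D35563 (iv4 D17457) (iv0 F21385) (iv5 D12880)
def n35564 : Q := act 6 n17233
theorem D35564 : act 6 n17233 = n35564 := rfl
theorem F56246 : act 3 n35564 = n34440 := d7_1 D35564 (iv6 D34440) (iv3 F28189)
def n35565 : Q := act 3 n17234
theorem D35565 : act 3 n17234 = n35565 := rfl
def n35566 : Q := act 5 n17234
theorem D35566 : act 5 n17234 = n35566 := rfl
def n35567 : Q := act 6 n17234
theorem D35567 : act 6 n17234 = n35567 := rfl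
theorem F56248 : act 4 n35567 = n17235 := d10_1 D35567 (iv6 D17235) D17234
def n35568 : Q := act 0 n17235
theorem D35568 : act 0 n17235 = n35568 := rfl
theorem F56249 : act 6 n35568 = n35333 := d21_5 F28101 (iv1 F12860) D8082 D17235 D35568 (iv5 D35333) (iv1 D17148) D17149 F28096 D17152
def n35569 : Q := act 1 n17235
theorem D35569 : act 1 n17235 = n35569 := rfl
def n35570 : Q := act 7 n17235
theorem D35570 : act 7 n17235 = n35570 := rfl
def n35571 : Q := act 4 n17236
theorem D35571 : act 4 n17236 = n35571 := rfl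
theorem F56251 : act 0 n35571 = n35108 := d18_2 (iv1 F55977) D35571 (iv4 D35108) (iv5 D17047) (iv4 F27959) (iv0 F30569) F30571 D17228 (iv5 F55974)
theorem F56252 : act 1 n35571 = n35138 := d18_6 D7980 D17057 F27986 F21839 (iv5 F28191) D35571 (iv4 D35138) (iv0 D17059) (iv5 D7982)
def n35572 : Q := act 6 n17236
theorem D35572 : act 6 n17236 = n35572 := rfl
theorem F56253 : act 3 n35572 = n17238 := d7_1 D35572 (iv6 D17238) D17236
theorem F56254 : act 5 n35572 = n27035 := d12_1 D35572 (iv6 D27035) F21542 (iv6 F21561) (iv5 F28191)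
def n35573 : Q := act 3 n17237
theorem D35573 : act 3 n17237 = n35573 := rfl
def n35574 : Q := act 5 n17237
theorem D35574 : act 5 n17237 = n35574 := rfl
def n35575 : Q := act 6 n17237
theorem D35575 : act 6 n17237 = n35575 := rfl
theorem F56255 : act 2 n35575 = n35420 := d3_1 D35575 F56126 F28646
theorem F56256 : act 4 n35575 = n17238 := d10_1 D35575 (iv6 D17238) D17237
def n35576 : Q := act 0 n17238
theorem D35576 : act 0 n17238 = n35576 := rfl
def n35577 : Q := act 1 n17238
theorem D35577 : act 1 n17238 = n35577 := rfl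
theorem F56257 : act 1 n35577 = n35421 := d15_1 D35577 (iv7 D35421) (iv2 F28192)
def n35578 : Q := act 7 n17238
theorem D35578 : act 7 n17238 = n35578 := rfl
theorem F56258 : act 2 n35578 = n35421 := d4_1 D35578 (iv7 D35421) (iv2 F28192)
theorem F56259 : act 5 n35578 = n27040 := d13_1 D35578 (iv7 D27040) (iv5 F28193)
theorem F56260 : act 1 n35421 = n35576 := d15_0 (iv0 D35576) D35578 F56258
theorem F56261 : act 1 n35419 = n35578 := d15_1 D35419 (iv7 D35578) F28192
theorem F56262 : act 1 n35578 = n35418 := d15_0 (iv0 D35418) D35421 (iv2 F56258)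
def n35579 : Q := act 3 n17239
theorem D35579 : act 3 n17239 = n35579 := rfl
def n35580 : Q := act 5 n17239
theorem D35580 : act 5 n17239 = n35580 := rfl
theorem F56263 : act 1 n35580 = n27074 := d17_6 F54620 (iv5 D16728) F15243 D17505 F28497 D35580 (iv5 D27074) D27072 (iv4 F54622)
def n35581 : Q := act 6 n17239
theorem D35581 : act 6 n17239 = n35581 := rfl
def n35582 : Q := act 3 n17240
theorem D35582 : act 3 n17240 = n35582 := rfl
def n35583 : Q := act 5 n17240
theorem D35583 : act 5 n17240 = n35583 := rfl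
theorem F56264 : act 0 n35583 = n27074 := d17_2 F56057 D35583 (iv5 D27074) (iv4 D12969) (iv5 D6159) D6158 F16972 F28103 D35341
def n35584 : Q := act 6 n17240
theorem D35584 : act 6 n17240 = n35584 := rfl
def n35585 : Q := act 0 n17241
theorem D35585 : act 0 n17241 = n35585 := rfl
def n35586 : Q := act 1 n17241
theorem D35586 : act 1 n17241 = n35586 := rfl
def n35587 : Q := act 2 n17241
theorem D35587 : act 2 n17241 = n35587 := rfl
theorem F56265 : act 4 n35587 = n17357 := d1_2 (iv4 F28194) D35587 (iv2 D17357)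
def n35588 : Q := act 5 n17241
theorem D35588 : act 5 n17241 = n35588 := rfl
theorem F56266 : act 3 n35588 = n17242 := d6_1 D35588 (iv5 D17242) D17241
def n35589 : Q := act 7 n17241
theorem D35589 : act 7 n17241 = n35589 := rfl
theorem F56267 : act 3 n35589 = n17243 := d8_1 D35589 (iv7 D17243) D17241
theorem F56268 : act 4 n35589 = n17359 := d11_1 D35589 (iv7 D17359) (iv4 F28194)
def n35590 : Q := act 0 n17242
theorem D35590 : act 0 n17242 = n35590 := rfl
def n35591 : Q := act 1 n17242
theorem D35591 : act 1 n17242 = n35591 := rfl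
def n35592 : Q := act 4 n17242
theorem D35592 : act 4 n17242 = n35592 := rfl
def n35594 : Q := act 7 n17242
theorem D35594 : act 7 n17242 = n35594 := rfl
theorem F56269 : act 5 n35594 = n17243 := d13_1 D35594 (iv7 D17243) D17242
def n35595 : Q := act 6 n17243
theorem D35595 : act 6 n17243 = n35595 := rfl
theorem F56270 : act 4 n35595 = n17244 := d10_1 D35595 (iv6 D17244) (iv4 F28195)
def n35596 : Q := act 0 n17244
theorem D35596 : act 0 n17244 = n35596 := rfl
def n35597 : Q := act 1 n17244
theorem D35597 : act 1 n17244 = n35597 := rfl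
def n35598 : Q := act 3 n17245
theorem D35598 : act 3 n17245 = n35598 := rfl
theorem F56271 : act 2 n35598 = n28607 := d0_1 D35598 (iv3 D28607) F22805 (iv3 F12873) (iv2 F28197)
def n35599 : Q := act 5 n17245
theorem D35599 : act 5 n17245 = n35599 := rfl
theorem F56272 : act 2 n35599 = n17248 := d2_1 D35599 (iv5 D17248) (iv2 F28197)
theorem F56273 : act 4 n35599 = n18890 := d16_2 D17245 D35599 (iv5 D18890) (iv4 D8848) (iv5 D3942) F2888 D3942 F5884 D8090
theorem F56274 : act 0 n35599 = n34504 := d17_2 F29465 D35599 (iv5 D34504) (iv4 D16738) F12364 (iv0 F13100) D17610 F28638 D18270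
theorem F56275 : act 1 n35599 = n35211 := d17_6 D7996 (iv5 F13310) (iv1 F5875) (iv5 F12872) D17245 D35599 (iv5 D35211) (iv0 D17091) (iv4 D7998)
def n35600 : Q := act 6 n17245
theorem D35600 : act 6 n17245 = n35600 := rfl
theorem F56276 : act 2 n35600 = n17249 := d3_1 D35600 (iv6 D17249) (iv2 F28197)
theorem F56277 : act 4 n35600 = n17246 := d10_1 D35600 (iv6 D17246) D17245
def n35601 : Q := act 0 n17246
theorem D35601 : act 0 n17246 = n35601 := rfl
def n35602 : Q := act 1 n17246
theorem D35602 : act 1 n17246 = n35602 := rfl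
theorem F56278 : act 1 n35602 = n17253 := d15_1 D35602 (iv7 D17253) (iv2 F28198)
def n35603 : Q := act 5 n17246
theorem D35603 : act 5 n17246 = n35603 := rfl
theorem F56279 : act 2 n35603 = n17252 := d2_1 D35603 (iv5 D17252) (iv2 F28198)
theorem F56280 : act 6 n35603 = n17593 := d12_2 D17246 D35603 (iv5 D17593) F13039 (iv5 F12872)
def n35604 : Q := act 7 n17246
theorem D35604 : act 7 n17246 = n35604 := rfl
theorem F56281 : act 2 n35604 = n17253 := d4_1 D35604 (iv7 D17253) (iv2 F28198)
theorem F56282 : act 1 n17253 = n35601 := d15_0 (iv0 D35601) D35604 F56281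
theorem F56283 : act 1 n17251 = n35604 := d15_1 D17251 (iv7 D35604) F28198
theorem F56284 : act 1 n35604 = n17250 := d15_0 (iv0 D17250) D17253 (iv2 F56281)
def n35605 : Q := act 3 n17247
theorem D35605 : act 3 n17247 = n35605 := rfl
def n35606 : Q := act 6 n17247
theorem D35606 : act 6 n17247 = n35606 := rfl
theorem F56285 : act 4 n35606 = n35171 := d10_1 D35606 (iv6 D35171) (iv4 F28199)
def n35607 : Q := act 0 n17248
theorem D35607 : act 0 n17248 = n35607 := rfl
theorem F56286 : act 5 n35607 = n17664 := d17_3 F13533 D17248 D35607 F28735 F27472 (iv0 F13054) D8486 F28021 D8620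
theorem F56287 : act 2 n34504 = n35607 := d15_3 (iv0 D35607) (iv0 F29304) (iv7 F54735)
theorem F56288 : act 7 n35607 = n35211 := d4_2 (iv7 F54735) F56287 F55950
def n35608 : Q := act 4 n17248
theorem D35608 : act 4 n17248 = n35608 := rfl
theorem F56289 : act 2 n35608 = n18890 := d1_1 D35608 (iv4 F56273) F56272
theorem F56290 : act 7 n35608 = n35599 := d11_2 F30143 D35608 F56273
theorem F56291 : act 5 n35608 = n18272 := d16_3 D8091 D17248 D35608 F29470 (iv5 D8845) F5878 D8845 F13755 (iv2 D8090)
theorem F56292 : act 0 n35608 = n18135 := d17_0 (iv5 D18135) F13305 D17665 (iv4 F55933) (iv5 D35190) F28737 (iv5 F56286) (iv0 D35607) D35608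
theorem F56293 : act 1 n35608 = n35607 := d15_1 (iv0 F56292) F56288 F55950
def n35609 : Q := act 6 n17248
theorem D35609 : act 6 n17248 = n35609 := rfl
theorem F56294 : act 3 n35609 = n28640 := d7_1 D35609 (iv6 D28640) (iv3 F28200)
def n35610 : Q := act 0 n17249
theorem D35610 : act 0 n17249 = n35610 := rfl
def n35611 : Q := act 1 n17249
theorem D35611 : act 1 n17249 = n35611 := rfl
def n35612 : Q := act 5 n17249
theorem D35612 : act 5 n17249 = n35612 := rfl
theorem F56295 : act 3 n35612 = n28644 := d6_1 D35612 (iv5 D28644) (iv3 F28201)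
def n35613 : Q := act 7 n17249
theorem D35613 : act 7 n17249 = n35613 := rfl
theorem F56296 : act 3 n35613 = n28645 := d8_1 D35613 (iv7 D28645) (iv3 F28201)
theorem F56297 : act 4 n35613 = n17253 := d11_1 D35613 (iv7 D17253) (iv4 F28202)
def n35614 : Q := act 2 n17250
theorem D35614 : act 2 n17250 = n35614 := rfl
theorem F56298 : act 7 n17251 = n35614 := d15_2 (iv0 D17250) D17251 (iv2 D35614)
def n35615 : Q := act 3 n17250
theorem D35615 : act 3 n17250 = n35615 := rfl
def n35616 : Q := act 4 n17250
theorem D35616 : act 4 n17250 = n35616 := rfl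
def n35617 : Q := act 5 n17250
theorem D35617 : act 5 n17250 = n35617 := rfl
def n35618 : Q := act 6 n17250
theorem D35618 : act 6 n17250 = n35618 := rfl
def n35619 : Q := act 7 n17250
theorem D35619 : act 7 n17250 = n35619 := rfl
theorem F56299 : act 2 n35619 = n17251 := d4_1 D35619 F56298 (iv2 D35614)
def n35620 : Q := act 3 n17251
theorem D35620 : act 3 n17251 = n35620 := rfl
def n35621 : Q := act 4 n17251
theorem D35621 : act 4 n17251 = n35621 := rfl
def n35622 : Q := act 5 n17251
theorem D35622 : act 5 n17251 = n35622 := rfl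
def n35623 : Q := act 6 n17251
theorem D35623 : act 6 n17251 = n35623 := rfl
def n35624 : Q := act 0 n17252
theorem D35624 : act 0 n17252 = n35624 := rfl
def n35625 : Q := act 1 n17252
theorem D35625 : act 1 n17252 = n35625 := rfl
def n35626 : Q := act 4 n17252
theorem D35626 : act 4 n17252 = n35626 := rfl
theorem F56300 : act 6 n35626 = n17596 := d10_2 (iv6 F28204) D35626 (iv4 D17596)
def n35627 : Q := act 7 n17252
theorem D35627 : act 7 n17252 = n35627 := rfl
theorem F56301 : act 3 n35627 = n17267 := d8_1 D35627 (iv7 D17267) (iv3 F28203)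
theorem F56302 : act 5 n35627 = n17253 := d13_1 D35627 (iv7 D17253) D17252
theorem F56303 : act 6 n35627 = n35233 := d14_1 D35627 (iv7 D35233) F28042 (iv7 F13045) (iv6 F28204)
def n35628 : Q := act 3 n17264
theorem D35628 : act 3 n17264 = n35628 := rfl
def n35629 : Q := act 6 n17264
theorem D35629 : act 6 n17264 = n35629 := rfl
theorem F56304 : act 5 n35629 = n17345 := d12_1 D35629 (iv6 F43439) (iv5 F43438) (iv6 F43896) F43897
def n35630 : Q := act 3 n17265
theorem D35630 : act 3 n17265 = n35630 := rfl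
theorem F56305 : act 5 n35630 = n35299 := d6_2 F28208 D35630 F56015
def n35631 : Q := act 3 n17266
theorem D35631 : act 3 n17266 = n35631 := rfl
theorem F56306 : act 6 n35631 = n17597 := d7_2 (iv6 F28209) D35631 (iv3 D17597)
def n35632 : Q := act 5 n17266
theorem D35632 : act 5 n17266 = n35632 := rfl
def n35633 : Q := act 7 n17266
theorem D35633 : act 7 n17266 = n35633 := rfl
theorem F56307 : act 4 n35633 = n17267 := d11_1 D35633 (iv7 D17267) D17266
theorem F56308 : act 6 n35633 = n35265 := d14_1 D35633 (iv7 D35265) F28053 (iv7 F13047) (iv6 F28209)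
theorem F56309 : act 1 n27906 = n35633 := d15_1 (iv0 F45063) (iv7 D35633) (iv2 F28284)
theorem F56310 : act 1 n35633 = n27903 := d15_1 F56309 F45055 (iv2 F45061)
def n35634 : Q := act 2 n17274
theorem D35634 : act 2 n17274 = n35634 := rfl
theorem F56311 : act 7 n17275 = n35634 := d15_2 (iv0 D17274) D17275 (iv2 D35634)
def n35635 : Q := act 3 n17274
theorem D35635 : act 3 n17274 = n35635 := rfl
def n35636 : Q := act 4 n17274
theorem D35636 : act 4 n17274 = n35636 := rfl
def n35637 : Q := act 5 n17274
theorem D35637 : act 5 n17274 = n35637 := rfl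
def n35638 : Q := act 6 n17274
theorem D35638 : act 6 n17274 = n35638 := rfl
def n35639 : Q := act 7 n17274
theorem D35639 : act 7 n17274 = n35639 := rfl
theorem F56312 : act 2 n35639 = n17275 := d4_1 D35639 F56311 (iv2 D35634)
def n35640 : Q := act 3 n17275
theorem D35640 : act 3 n17275 = n35640 := rfl
def n35641 : Q := act 4 n17275
theorem D35641 : act 4 n17275 = n35641 := rfl
def n35642 : Q := act 5 n17275
theorem D35642 : act 5 n17275 = n35642 := rfl
def n35644 : Q := act 4 n17276
theorem D35644 : act 4 n17276 = n35644 := rfl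
theorem F56313 : act 2 n35644 = n17277 := d1_1 D35644 (iv4 D17277) D17276
def n35645 : Q := act 5 n17276
theorem D35645 : act 5 n17276 = n35645 := rfl
theorem F56314 : act 2 n35645 = n17278 := d2_1 D35645 (iv5 D17278) D17276
def n35646 : Q := act 6 n17276
theorem D35646 : act 6 n17276 = n35646 := rfl
theorem F56315 : act 2 n35646 = n17279 := d3_1 D35646 (iv6 D17279) D17276
theorem F56316 : act 5 n27150 = n35646 := d2_0 F56315 (iv5 F28224) D27150
def n35647 : Q := act 0 n17277
theorem D35647 : act 0 n17277 = n35647 := rfl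
def n35648 : Q := act 1 n17277
theorem D35648 : act 1 n17277 = n35648 := rfl
def n35649 : Q := act 3 n17277
theorem D35649 : act 3 n17277 = n35649 := rfl
theorem F56317 : act 4 n35649 = n17283 := d5_2 D17277 D35649 (iv3 D17283) (iv4 D8099) D8098
theorem F56318 : act 7 n35649 = n32714 := d8_2 F43448 D35649 F51780
def n35650 : Q := act 5 n17277
theorem D35650 : act 5 n17277 = n35650 := rfl
def n35651 : Q := act 6 n17277
theorem D35651 : act 6 n17277 = n35651 := rfl
theorem F56319 : act 4 n35651 = n17279 := d10_1 D35651 (iv6 D17279) D17277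
def n35652 : Q := act 0 n17278
theorem D35652 : act 0 n17278 = n35652 := rfl
def n35653 : Q := act 1 n17278
theorem D35653 : act 1 n17278 = n35653 := rfl
def n35654 : Q := act 4 n17278
theorem D35654 : act 4 n17278 = n35654 := rfl
def n35655 : Q := act 6 n17278
theorem D35655 : act 6 n17278 = n35655 := rfl
theorem F56320 : act 3 n35655 = n17290 := d7_1 D35655 (iv6 D17290) (iv3 F28222)
theorem F56321 : act 5 n35655 = n27152 := d12_1 D35655 (iv6 D27152) F28224 (iv6 D17279) D17278
def n35656 : Q := act 0 n17279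
theorem D35656 : act 0 n17279 = n35656 := rfl
def n35657 : Q := act 1 n17279
theorem D35657 : act 1 n17279 = n35657 := rfl
def n35658 : Q := act 0 n17283
theorem D35658 : act 0 n17283 = n35658 := rfl
def n35659 : Q := act 1 n17283
theorem D35659 : act 1 n17283 = n35659 := rfl
def n35660 : Q := act 2 n17283
theorem D35660 : act 2 n17283 = n35660 := rfl
theorem F56323 : act 3 n35660 = n32703 := d0_2 D17283 D35660 (iv2 D32703) (iv3 D15592) (iv2 F41942)
theorem F56324 : act 7 n35660 = n32713 := d4_2 (iv7 F41960) D35660 (iv2 D32713)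
theorem F56325 : act 1 n35660 = n32711 := d15_0 (iv0 D32711) (iv7 F41960) D35660
theorem F56326 : act 1 n35659 = n32713 := d15_1 D35659 (iv7 F56324) (iv2 D35660)
theorem F56327 : act 1 n32712 = n35660 := d15_1 D32712 F56324 (iv2 D32713)
def n35661 : Q := act 5 n17283
theorem D35661 : act 5 n17283 = n35661 := rfl
theorem F56328 : act 3 n35661 = n17284 := d6_1 D35661 (iv5 D17284) D17283
theorem F56329 : act 7 n35661 = n32715 := d13_2 (iv7 F41960) D35661 (iv5 D32715)
def n35662 : Q := act 6 n17283
theorem D35662 : act 6 n17283 = n35662 := rfl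
theorem F56330 : act 3 n35662 = n17285 := d7_1 D35662 (iv6 D17285) D17283
theorem F56331 : act 5 n32905 = n35662 := d6_0 F56330 (iv5 F41739) D32905
def n35663 : Q := act 0 n17284
theorem D35663 : act 0 n17284 = n35663 := rfl
theorem F56332 : act 5 n35663 = n26844 := d17_3 F41759 D17284 D35663 F43237 D26846 (iv0 F43246) (iv5 D13216) (iv0 D6281) (iv4 F9233)
theorem F56333 : act 1 n17303 = n35663 := d15_0 (iv0 D35663) F41961 (iv2 F41962)
theorem F56334 : act 2 n32707 = n35663 := d2_3 F56332 F43236 (iv5 F51776)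
theorem F56335 : act 7 n32708 = n35663 := d15_2 (iv0 D32707) D32708 (iv2 F56334)
def n35664 : Q := act 1 n17284
theorem D35664 : act 1 n17284 = n35664 := rfl
theorem F56336 : act 1 n35664 = n17303 := d15_1 D35664 (iv7 F41964) (iv2 F41965)
theorem F56337 : act 7 n35664 = n32707 := d15_2 (iv0 D35663) D35664 F56334
theorem F56338 : act 5 n35664 = n32821 := d17_7 (iv1 F43986) F43988 (iv1 D17288) (iv5 D8100) D8099 D17284 D35664 F51966 F51770
theorem F56339 : act 6 n35664 = n32671 := d21_3 D32696 (iv1 F51966) (iv5 F56338) (iv1 D32671) (iv6 D15548) (iv5 D7335) (iv1 D3368) D3370 D7342 D15573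
theorem F56340 : act 2 n32708 = n35664 := d4_3 F56337 F56334 (iv7 F56335)
def n35665 : Q := act 4 n17284
theorem D35665 : act 4 n17284 = n35665 := rfl
theorem F56341 : act 2 n35665 = n32709 := d1_1 D35665 (iv4 D32709) (iv2 F41965)
theorem F56342 : act 7 n35665 = n32717 := d11_2 (iv7 F41961) D35665 (iv4 D32717)
def n35666 : Q := act 6 n17284
theorem D35666 : act 6 n17284 = n35666 := rfl
theorem F56343 : act 2 n35666 = n32710 := d3_1 D35666 (iv6 D32710) (iv2 F41965)
theorem F56344 : act 5 n35666 = n32907 := d12_1 D35666 (iv6 D32907) F41739 (iv6 D17285) D17284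
def n35667 : Q := act 3 n17287
theorem D35667 : act 3 n17287 = n35667 := rfl
theorem F56345 : act 5 n35667 = n35304 := d6_2 (iv5 F28231) D35667 F56017
theorem F56346 : act 6 n35667 = n35249 := d7_2 F28232 D35667 F55981
def n35668 : Q := act 4 n17287
theorem D35668 : act 4 n17287 = n35668 := rfl
theorem F56347 : act 6 n35668 = n35251 := d10_2 F28232 D35668 (iv4 D35251)
theorem F56348 : act 0 n35668 = n18541 := d18_2 D17287 D35668 (iv4 D18541) (iv5 D8706) F42346 F21144 F21141 F9495 D8100
theorem F56349 : act 1 n35668 = n18527 := d18_6 (iv1 F43252) (iv4 F42178) (iv1 F53203) F28980 (iv5 F28231) D35668 (iv4 D18527) D18526 (iv5 F43250)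
def n35669 : Q := act 3 n17288
theorem D35669 : act 3 n17288 = n35669 := rfl
def n35670 : Q := act 4 n17288
theorem D35670 : act 4 n17288 = n35670 := rfl
theorem F56350 : act 0 n35670 = n18527 := d18_2 (iv1 F28234) D35670 (iv4 D18527) (iv5 D8701) F42342 (iv0 D7600) F5432 D3651 D8105
theorem F56351 : act 1 n35670 = n18541 := d15_1 (iv0 F56350) (iv7 F44626) F44625
def n35671 : Q := act 0 n17289
theorem D35671 : act 0 n17289 = n35671 := rfl
theorem F56352 : act 4 n35671 = n26846 := d18_3 (iv1 D17288) D17289 D35671 (iv5 D26846) (iv4 F43237) F51969 F30462 D27206 F43988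
theorem F56353 : act 1 n17305 = n35671 := d15_0 (iv0 D35671) (iv7 F43453) F43452
theorem F56354 : act 2 n34783 = n35671 := d1_3 F56352 F43244 D34783
theorem F56355 : act 6 n34790 = n35671 := d10_0 F56352 F43245 D34790
def n35672 : Q := act 1 n17289
theorem D35672 : act 1 n17289 = n35672 := rfl
theorem F56356 : act 1 n35672 = n17305 := d15_1 D35672 (iv7 F43441) F43440
theorem F56357 : act 7 n35672 = n34783 := d15_2 (iv0 D35671) D35672 F56354
theorem F56358 : act 4 n35672 = n27684 := d18_7 (iv1 D6282) (iv4 F9233) F41759 (iv4 D8099) D8100 D17289 D35672 F44620 (iv5 D13220)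
def n35673 : Q := act 3 n17289
theorem D35673 : act 3 n17289 = n35673 := rfl
def n35674 : Q := act 5 n17289
theorem D35674 : act 5 n17289 = n35674 := rfl
theorem F56359 : act 1 n35674 = n27700 := d17_6 (iv1 D8108) (iv5 D3652) D3650 D8100 D17289 D35674 (iv5 D27700) F41762 (iv4 D17317)
def n35675 : Q := act 6 n17289
theorem D35675 : act 6 n17289 = n35675 := rfl
theorem F56360 : act 4 n35675 = n17290 := d10_1 D35675 (iv6 D17290) D17289
theorem F56361 : act 0 n27893 = n35675 := d18_2 (iv1 D27892) D27893 F56360 F28235 F41757 (iv0 F51205) F43118 D26834 F45034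
theorem F56362 : act 1 n27901 = n35675 := d18_6 (iv1 F13880) F12876 (iv1 F18165) F37327 D13304 D27901 F56360 (iv0 F30544) (iv5 D19039)
def n35676 : Q := act 3 n17293
theorem D35676 : act 3 n17293 = n35676 := rfl
theorem F56363 : act 6 n35676 = n19023 := d7_2 F28239 D35676 F30366
def n35677 : Q := act 2 n17296
theorem D35677 : act 2 n17296 = n35677 := rfl
theorem F56364 : act 7 n17297 = n35677 := d15_2 (iv0 D17296) D17297 (iv2 D35677)
def n35678 : Q := act 3 n17296
theorem D35678 : act 3 n17296 = n35678 := rfl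
def n35679 : Q := act 4 n17296
theorem D35679 : act 4 n17296 = n35679 := rfl
def n35680 : Q := act 5 n17296
theorem D35680 : act 5 n17296 = n35680 := rfl
def n35682 : Q := act 7 n17296
theorem D35682 : act 7 n17296 = n35682 := rfl
theorem F56365 : act 2 n35682 = n17297 := d4_1 D35682 F56364 (iv2 D35677)
def n35683 : Q := act 3 n17297
theorem D35683 : act 3 n17297 = n35683 := rfl
def n35684 : Q := act 4 n17297
theorem D35684 : act 4 n17297 = n35684 := rfl
def n35685 : Q := act 5 n17297
theorem D35685 : act 5 n17297 = n35685 := rfl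
def n35686 : Q := act 6 n17297
theorem D35686 : act 6 n17297 = n35686 := rfl
def n35687 : Q := act 4 n17298
theorem D35687 : act 4 n17298 = n35687 := rfl
theorem F56366 : act 2 n35687 = n17299 := d1_1 D35687 (iv4 D17299) D17298
def n35688 : Q := act 5 n17298
theorem D35688 : act 5 n17298 = n35688 := rfl
theorem F56367 : act 2 n35688 = n17300 := d2_1 D35688 (iv5 D17300) D17298
def n35689 : Q := act 6 n17298
theorem D35689 : act 6 n17298 = n35689 := rfl
theorem F56368 : act 2 n35689 = n17301 := d3_1 D35689 (iv6 D17301) D17298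
def n35690 : Q := act 0 n17299
theorem D35690 : act 0 n17299 = n35690 := rfl
def n35691 : Q := act 1 n17299
theorem D35691 : act 1 n17299 = n35691 := rfl
def n35692 : Q := act 3 n17299
theorem D35692 : act 3 n17299 = n35692 := rfl
theorem F56369 : act 4 n35692 = n17302 := d5_2 D17299 D35692 (iv3 D17302) (iv4 D8104) D8103
theorem F56370 : act 7 n35692 = n32704 := d8_2 F43431 D35692 F51773
def n35693 : Q := act 5 n17299
theorem D35693 : act 5 n17299 = n35693 := rfl
def n35694 : Q := act 6 n17299
theorem D35694 : act 6 n17299 = n35694 := rfl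
theorem F56371 : act 4 n35694 = n17301 := d10_1 D35694 (iv6 D17301) D17299
def n35695 : Q := act 0 n17300
theorem D35695 : act 0 n17300 = n35695 := rfl
def n35696 : Q := act 1 n17300
theorem D35696 : act 1 n17300 = n35696 := rfl
def n35697 : Q := act 4 n17300
theorem D35697 : act 4 n17300 = n35697 := rfl
def n35698 : Q := act 6 n17300
theorem D35698 : act 6 n17300 = n35698 := rfl
theorem F56372 : act 3 n35698 = n17306 := d7_1 D35698 (iv6 D17306) (iv3 F28244)
def n35699 : Q := act 0 n17301
theorem D35699 : act 0 n17301 = n35699 := rfl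
def n35700 : Q := act 1 n17301
theorem D35700 : act 1 n17301 = n35700 := rfl
def n35701 : Q := act 5 n17301
theorem D35701 : act 5 n17301 = n35701 := rfl
theorem F56373 : act 3 n35701 = n17309 := d6_1 D35701 (iv5 D17309) (iv3 F28245)
def n35702 : Q := act 7 n17301
theorem D35702 : act 7 n17301 = n35702 := rfl
theorem F56374 : act 3 n35702 = n17310 := d8_1 D35702 (iv7 D17310) (iv3 F28245)
theorem F56375 : act 6 n35702 = n27144 := d14_1 D35702 F43877 (iv6 F28833) F28803 D17301
def n35703 : Q := act 0 n17302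
theorem D35703 : act 0 n17302 = n35703 := rfl
theorem F56376 : act 1 n32703 = n35703 := d15_0 (iv0 D35703) (iv7 F41963) D32703
def n35704 : Q := act 1 n17302
theorem D35704 : act 1 n17302 = n35704 := rfl
def n35705 : Q := act 2 n17302
theorem D35705 : act 2 n17302 = n35705 := rfl
theorem F56377 : act 3 n35705 = n32713 := d0_2 D17302 D35705 (iv2 D32713) (iv3 D15597) F41948
theorem F56378 : act 7 n35705 = n32703 := d4_2 F41963 D35705 (iv2 D32703)
theorem F56379 : act 1 n35705 = n32701 := d15_0 (iv0 D32701) F41963 D35705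
theorem F56380 : act 1 n35704 = n32703 := d15_1 D35704 (iv7 F56378) (iv2 D35705)
theorem F56381 : act 1 n32702 = n35705 := d15_1 D32702 F56378 (iv2 D32703)
def n35706 : Q := act 5 n17302
theorem D35706 : act 5 n17302 = n35706 := rfl
theorem F56382 : act 3 n35706 = n17303 := d6_1 D35706 (iv5 D17303) D17302
theorem F56383 : act 7 n35706 = n32705 := d13_2 F41963 D35706 (iv5 D32705)
def n35707 : Q := act 6 n17302
theorem D35707 : act 6 n17302 = n35707 := rfl
theorem F56384 : act 3 n35707 = n17304 := d7_1 D35707 (iv6 D17304) D17302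
def n35708 : Q := act 4 n17303
theorem D35708 : act 4 n17303 = n35708 := rfl
theorem F56385 : act 2 n35708 = n32717 := d1_1 D35708 (iv4 D32717) (iv2 F41962)
theorem F56386 : act 7 n35708 = n32709 := d11_2 F41964 D35708 (iv4 D32709)
def n35709 : Q := act 0 n17304
theorem D35709 : act 0 n17304 = n35709 := rfl
theorem F56387 : act 5 n35709 = n24319 := d17_1 D35709 (iv1 F38273) F38270 F25185 (iv5 F28054) F28590 (iv5 F28592) (iv0 D17307) (iv4 F28246)
theorem F56388 : act 4 n35709 = n27694 := d18_3 F28958 (iv4 F28246) D35709 F44644 D35158 F55891 F28584 D17591 (iv5 F28960)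
theorem F56389 : act 6 n35709 = n28696 := d21_5 (iv5 F56332) (iv1 F56333) (iv5 D17303) D17304 D35709 (iv5 F51963) (iv1 D32817) (iv5 D15713) D15714 (iv1 F51969)
theorem F56390 : act 2 n28684 = n35709 := d15_3 (iv0 D35709) F46232 D28684
theorem F56391 : act 7 n35709 = n23917 := d4_2 D28684 F56390 (iv2 F44673)
theorem F56392 : act 1 n28683 = n35709 := d15_1 D28683 F56391 (iv2 F44673)
theorem F56393 : act 4 n34347 = n24319 := d18_3 (iv1 D16632) (iv4 F27131) D34347 (iv5 F56387) F56388 (iv0 D27694) (iv4 F42698) F42737 F27132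
def n35710 : Q := act 5 n17304
theorem D35710 : act 5 n17304 = n35710 := rfl
theorem F56394 : act 2 n35710 = n32720 := d2_1 D35710 (iv5 D32720) (iv2 F41959)
theorem F56395 : act 0 n35710 = n32796 := d17_2 (iv1 F46232) D35710 (iv5 D32796) F43178 D16859 (iv0 F44694) (iv5 D27695) F29879 (iv4 F43122)
theorem F56396 : act 1 n35710 = n32794 := d17_6 D8003 D17106 F28248 (iv5 D17309) (iv4 F28246) D35710 (iv5 D32794) (iv0 D15698) F11677
def n35711 : Q := act 7 n17304
theorem D35711 : act 7 n17304 = n35711 := rfl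
theorem F56398 : act 4 n35711 = n17310 := d11_1 D35711 (iv7 D17310) (iv4 F28246)
theorem F56399 : act 6 n35711 = n27146 := d14_1 D35711 F43881 (iv6 D15595) (iv7 F41947) D17304
theorem F56400 : act 1 n23917 = n35711 := d15_1 (iv0 F51919) (iv7 D35711) F41959
theorem F56401 : act 1 n35711 = n28684 := d15_1 F56400 (iv7 D28684) F44673
def n35712 : Q := act 3 n17305
theorem D35712 : act 3 n17305 = n35712 := rfl
def n35713 : Q := act 5 n17305
theorem D35713 : act 5 n17305 = n35713 := rfl
theorem F56402 : act 0 n35713 = n27700 := d17_2 (iv1 F56353) D35713 (iv5 D27700) (iv4 D13224) (iv5 D6283) D6282 D13220 F43247 (iv4 F56352)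
def n35714 : Q := act 6 n17305
theorem D35714 : act 6 n17305 = n35714 := rfl
theorem F56403 : act 4 n35714 = n17306 := d10_1 D35714 (iv6 D17306) D17305
theorem F56404 : act 0 n27912 = n35714 := d21_4 (iv5 F12889) (iv1 F13802) (iv5 F22112) D27912 (iv6 D35714) D35713 F56402 (iv5 D27700) F22018 F13801
def n35715 : Q := act 5 n17306
theorem D35715 : act 5 n17306 = n35715 := rfl
theorem F56405 : act 6 n35715 = n17309 := d12_2 D17306 D35715 (iv5 D17309) (iv6 D8106) D8105
theorem F56406 : act 7 n35715 = n17570 := d13_2 F43824 D35715 F43825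
def n35716 : Q := act 3 n17307
theorem D35716 : act 3 n17307 = n35716 := rfl
def n35717 : Q := act 4 n17309
theorem D35717 : act 4 n17309 = n35717 := rfl
theorem F56407 : act 0 n35717 = n34797 := d18_2 F28248 D35717 (iv4 D34797) (iv5 D16859) (iv4 F43178) F25183 F24900 F13151 D17106
theorem F56408 : act 1 n35717 = n34790 := d18_6 F29726 (iv4 F43122) (iv1 F46232) F28246 D17309 D35717 (iv4 D34790) (iv0 F44788) F44787
def n35718 : Q := act 0 n17312
theorem D35718 : act 0 n17312 = n35718 := rfl
def n35719 : Q := act 1 n17312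
theorem D35719 : act 1 n17312 = n35719 := rfl
def n35720 : Q := act 2 n17312
theorem D35720 : act 2 n17312 = n35720 := rfl
def n35721 : Q := act 4 n17312
theorem D35721 : act 4 n17312 = n35721 := rfl
def n35722 : Q := act 5 n17312
theorem D35722 : act 5 n17312 = n35722 := rfl
theorem F56409 : act 3 n35722 = n17314 := d6_1 D35722 (iv5 D17314) D17312
theorem F56410 : act 7 n35722 = n27201 := d13_2 F43469 D35722 (iv5 F43975)
def n35723 : Q := act 3 n17313
theorem D35723 : act 3 n17313 = n35723 := rfl
def n35724 : Q := act 5 n17313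
theorem D35724 : act 5 n17313 = n35724 := rfl
def n35725 : Q := act 0 n17316
theorem D35725 : act 0 n17316 = n35725 := rfl
def n35726 : Q := act 1 n17316
theorem D35726 : act 1 n17316 = n35726 := rfl
def n35727 : Q := act 2 n17316
theorem D35727 : act 2 n17316 = n35727 := rfl
def n35728 : Q := act 4 n17316
theorem D35728 : act 4 n17316 = n35728 := rfl
def n35729 : Q := act 6 n17316
theorem D35729 : act 6 n17316 = n35729 := rfl
theorem F56411 : act 3 n35729 = n17318 := d7_1 D35729 (iv6 D17318) D17316
def n35730 : Q := act 3 n17317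
theorem D35730 : act 3 n17317 = n35730 := rfl
def n35731 : Q := act 5 n17317
theorem D35731 : act 5 n17317 = n35731 := rfl
def n35732 : Q := act 6 n17317
theorem D35732 : act 6 n17317 = n35732 := rfl
theorem F56412 : act 4 n35732 = n17318 := d10_1 D35732 (iv6 D17318) D17317
def n35733 : Q := act 0 n17318
theorem D35733 : act 0 n17318 = n35733 := rfl
theorem F56413 : act 5 n35733 = n17853 := d21_0 (iv1 F29032) F29028 (iv6 F43522) (iv1 F43524) (iv6 F43439) (iv5 F43438) (iv1 D17821) F13190 D17318 D35733
theorem F56414 : act 1 n27086 = n35733 := d15_0 (iv0 D35733) (iv7 F28544) (iv2 F43758)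
def n35734 : Q := act 3 n17319
theorem D35734 : act 3 n17319 = n35734 := rfl
def n35735 : Q := act 5 n17319
theorem D35735 : act 5 n17319 = n35735 := rfl
def n35736 : Q := act 3 n17320
theorem D35736 : act 3 n17320 = n35736 := rfl
def n35737 : Q := act 5 n17320
theorem D35737 : act 5 n17320 = n35737 := rfl
def n35738 : Q := act 6 n17320
theorem D35738 : act 6 n17320 = n35738 := rfl
theorem F56415 : act 4 n35738 = n18553 := d10_1 D35738 (iv6 D18553) (iv4 F42349)
def n35739 : Q := act 0 n17321
theorem D35739 : act 0 n17321 = n35739 := rfl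
def n35740 : Q := act 1 n17321
theorem D35740 : act 1 n17321 = n35740 := rfl
def n35741 : Q := act 2 n17321
theorem D35741 : act 2 n17321 = n35741 := rfl
theorem F56416 : act 6 n35741 = n17357 := d3_2 (iv6 F28252) D35741 (iv2 D17357)
def n35742 : Q := act 5 n17321
theorem D35742 : act 5 n17321 = n35742 := rfl
theorem F56417 : act 3 n35742 = n17322 := d6_1 D35742 (iv5 D17322) D17321
def n35743 : Q := act 7 n17321
theorem D35743 : act 7 n17321 = n35743 := rfl
theorem F56418 : act 3 n35743 = n17323 := d8_1 D35743 (iv7 D17323) D17321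
def n35744 : Q := act 0 n17322
theorem D35744 : act 0 n17322 = n35744 := rfl
theorem F56419 : act 5 n35744 = n18527 := d17_3 (iv1 D17320) D17322 D35744 (iv4 D18527) (iv5 D8701) (iv0 D3898) D3900 D8709 (iv4 F42349)
def n35745 : Q := act 1 n17322
theorem D35745 : act 1 n17322 = n35745 := rfl
theorem F56420 : act 5 n35745 = n18541 := d17_7 F28233 (iv5 D8105) (iv1 D3651) D3652 D8109 D17322 D35745 (iv0 F56348) (iv4 D35668)
def n35746 : Q := act 4 n17322
theorem D35746 : act 4 n17322 = n35746 := rfl
def n35747 : Q := act 6 n17322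
theorem D35747 : act 6 n17322 = n35747 := rfl
theorem F56421 : act 5 n35747 = n17360 := d12_1 D35747 (iv6 D17360) (iv5 D8127) (iv6 F12880) D17322
def n35748 : Q := act 7 n17322
theorem D35748 : act 7 n17322 = n35748 := rfl
theorem F56422 : act 5 n35748 = n17323 := d13_1 D35748 (iv7 D17323) D17322
def n35749 : Q := act 6 n17323
theorem D35749 : act 6 n17323 = n35749 := rfl
theorem F56423 : act 4 n35749 = n17324 := d10_1 D35749 (iv6 D17324) (iv4 F28253)
theorem F56424 : act 7 n35749 = n17361 := d14_2 D17323 D35749 (iv6 D17361) (iv7 D8128) (iv6 F12880)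
def n35750 : Q := act 5 n17326
theorem D35750 : act 5 n17326 = n35750 := rfl
theorem F56425 : act 2 n35750 = n34466 := d2_1 D35750 F54687 (iv2 F28258)
theorem F56426 : act 7 n35750 = n34462 := d13_2 (iv7 F28260) D35750 (iv5 D34462)
theorem F56427 : act 0 n35750 = n34464 := d17_2 (iv1 F28262) D35750 F54682 F28641 D17994 F54688 F54687 (iv0 F28174) (iv4 F28175)
theorem F56428 : act 1 n35750 = n34434 := d17_6 (iv1 D8001) D8002 D17101 F28049 D17326 D35750 (iv5 D34434) F28062 F13587
theorem F56429 : act 4 n35750 = n35242 := d18_5 F17607 F5675 D8111 D17326 D35750 (iv0 D35242) (iv4 D17102) (iv0 F28032) (iv5 D17083)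
def n35751 : Q := act 4 n17327
theorem D35751 : act 4 n17327 = n35751 := rfl
theorem F56430 : act 2 n35751 = n17329 := d1_1 D35751 (iv4 D17329) (iv2 F28263)
def n35752 : Q := act 6 n17327
theorem D35752 : act 6 n17327 = n35752 := rfl
theorem F56431 : act 2 n35752 = n17330 := d3_1 D35752 (iv6 D17330) (iv2 F28263)
def n35753 : Q := act 4 n17328
theorem D35753 : act 4 n17328 = n35753 := rfl
theorem F56432 : act 2 n35753 = n35235 := d1_1 D35753 (iv4 D35235) (iv2 F28269)
theorem F56433 : act 7 n35753 = n35237 := d11_2 (iv7 F28267) D35753 (iv4 D35237)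
def n35754 : Q := act 6 n17328
theorem D35754 : act 6 n17328 = n35754 := rfl
theorem F56434 : act 2 n35754 = n35236 := d3_1 D35754 (iv6 D35236) (iv2 F28269)
def n35755 : Q := act 0 n17329
theorem D35755 : act 0 n17329 = n35755 := rfl
theorem F56435 : act 4 n35755 = n35172 := d18_3 (iv1 D17328) D17329 D35755 (iv5 D35172) F28024 F13770 F5720 D8262 F28268
def n35756 : Q := act 1 n17329
theorem D35756 : act 1 n17329 = n35756 := rfl
theorem F56436 : act 4 n35756 = n34664 := d18_7 (iv1 D16717) (iv4 F12775) F17607 F5675 D8114 D17329 D35756 F54905 (iv5 D34463)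
def n35757 : Q := act 3 n17329
theorem D35757 : act 3 n17329 = n35757 := rfl
theorem F56437 : act 4 n35757 = n17331 := d5_2 D17329 D35757 (iv3 D17331) (iv4 D8115) (iv3 F12883)
def n35758 : Q := act 5 n17329
theorem D35758 : act 5 n17329 = n35758 := rfl
def n35759 : Q := act 6 n17329
theorem D35759 : act 6 n17329 = n35759 := rfl
theorem F56438 : act 4 n35759 = n17330 := d10_1 D35759 (iv6 D17330) D17329
def n35760 : Q := act 0 n17330
theorem D35760 : act 0 n17330 = n35760 := rfl
def n35761 : Q := act 1 n17330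
theorem D35761 : act 1 n17330 = n35761 := rfl
def n35762 : Q := act 7 n17330
theorem D35762 : act 7 n17330 = n35762 := rfl
theorem F56439 : act 3 n35762 = n17335 := d8_1 D35762 (iv7 D17335) (iv3 F28270)
def n35763 : Q := act 0 n17331
theorem D35763 : act 0 n17331 = n35763 := rfl
def n35764 : Q := act 1 n17331
theorem D35764 : act 1 n17331 = n35764 := rfl
def n35765 : Q := act 2 n17331
theorem D35765 : act 2 n17331 = n35765 := rfl
def n35766 : Q := act 6 n17331
theorem D35766 : act 6 n17331 = n35766 := rfl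
theorem F56440 : act 3 n35766 = n17332 := d7_1 D35766 (iv6 D17332) D17331
def n35767 : Q := act 0 n17332
theorem D35767 : act 0 n17332 = n35767 := rfl
def n35768 : Q := act 1 n17332
theorem D35768 : act 1 n17332 = n35768 := rfl
def n35769 : Q := act 5 n17332
theorem D35769 : act 5 n17332 = n35769 := rfl
def n35770 : Q := act 7 n17332
theorem D35770 : act 7 n17332 = n35770 := rfl
theorem F56441 : act 4 n35770 = n17335 := d11_1 D35770 (iv7 D17335) (iv4 F28271)
def n35771 : Q := act 3 n17333
theorem D35771 : act 3 n17333 = n35771 := rfl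
def n35772 : Q := act 4 n17333
theorem D35772 : act 4 n17333 = n35772 := rfl
def n35773 : Q := act 5 n17333
theorem D35773 : act 5 n17333 = n35773 := rfl
theorem F56442 : act 6 n35773 = n27202 := d12_2 (iv6 F30550) D35773 F43976 (iv6 D19045) D19044
theorem F56443 : act 0 n35773 = n17818 := d21_1 D35773 F28983 (iv6 D17318) (iv1 D8108) F5674 (iv5 D1605) D1603 D3655 D8116 D17333
def n35774 : Q := act 3 n17334
theorem D35774 : act 3 n17334 = n35774 := rfl
def n35775 : Q := act 4 n17334
theorem D35775 : act 4 n17334 = n35775 := rfl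
def n35776 : Q := act 5 n17334
theorem D35776 : act 5 n17334 = n35776 := rfl
theorem F56445 : act 0 n17818 = n35776 := d21_10 (iv5 D35776) (iv1 D17334) (iv5 F13218) (iv6 D8421) F5768 (iv6 F5757) (iv5 D3765) D3763 D8399 D17818
theorem F56446 : act 6 n17853 = n35776 := d21_5 (iv5 D1647) D1645 D3768 D8415 D17853 (iv5 D35776) (iv1 D17334) (iv5 F13218) (iv6 D8421) F5768
theorem F56447 : act 0 n35776 = n17842 := d21_4 F28983 D35733 F56413 F56446 (iv6 D17842) (iv5 F21574) (iv1 F43766) (iv5 F43976) (iv6 F56442) F56443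
def n35777 : Q := act 6 n17334
theorem D35777 : act 6 n17334 = n35777 := rfl
theorem F56448 : act 0 n17570 = n35777 := d21_4 F43748 F43750 (iv5 D17569) D17570 (iv6 D35777) D35776 F56447 (iv5 F43759) (iv6 D27086) D27083
def n35778 : Q := act 4 n17337
theorem D35778 : act 4 n17337 = n35778 := rfl
def n35779 : Q := act 6 n17337
theorem D35779 : act 6 n17337 = n35779 := rfl
def n35780 : Q := act 4 n17338
theorem D35780 : act 4 n17338 = n35780 := rfl
theorem F56449 : act 2 n35780 = n17340 := d1_1 D35780 (iv4 D17340) (iv2 F28274)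
def n35781 : Q := act 6 n17338
theorem D35781 : act 6 n17338 = n35781 := rfl
theorem F56450 : act 2 n35781 = n17341 := d3_1 D35781 (iv6 D17341) (iv2 F28274)
theorem F56451 : act 5 n35781 = n35781 := d12_1 D35781 (iv6 D35781) (iv5 D17338) F12885 D17338
def n35782 : Q := act 4 n17339
theorem D35782 : act 4 n17339 = n35782 := rfl
def n35783 : Q := act 6 n17339
theorem D35783 : act 6 n17339 = n35783 := rfl
theorem F56452 : act 3 n35783 = n22954 := d7_1 D35783 (iv6 D22954) (iv3 F30318)
def n35784 : Q := act 0 n17340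
theorem D35784 : act 0 n17340 = n35784 := rfl
theorem F56453 : act 4 n35784 = n19836 := d18_3 F28063 D17340 D35784 (iv5 D19836) (iv4 D9334) (iv0 D4219) (iv4 F5714) (iv0 F12783) D17120
def n35785 : Q := act 1 n17340
theorem D35785 : act 1 n17340 = n35785 := rfl
theorem F56454 : act 4 n19055 = n35785 := d20_6 (iv4 F21430) F21432 (iv4 D8135) (iv3 F12902) F21979 (iv3 F30582) (iv1 D35785) (iv4 D17340) F12886 (iv1 F9593)
def n35786 : Q := act 3 n17340
theorem D35786 : act 3 n17340 = n35786 := rfl
theorem F56455 : act 4 n35786 = n17342 := d5_2 D17340 D35786 (iv3 D17342) (iv4 D8121) (iv3 F12886)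
def n35787 : Q := act 5 n17340
theorem D35787 : act 5 n17340 = n35787 := rfl
def n35788 : Q := act 6 n17340
theorem D35788 : act 6 n17340 = n35788 := rfl
theorem F56456 : act 4 n35788 = n17341 := d10_1 D35788 (iv6 D17341) D17340
def n35789 : Q := act 0 n17341
theorem D35789 : act 0 n17341 = n35789 := rfl
def n35790 : Q := act 1 n17341
theorem D35790 : act 1 n17341 = n35790 := rfl
def n35791 : Q := act 7 n17341
theorem D35791 : act 7 n17341 = n35791 := rfl
theorem F56457 : act 3 n35791 = n17346 := d8_1 D35791 (iv7 D17346) (iv3 F28275)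
theorem F56458 : act 5 n35791 = n35791 := d13_1 D35791 (iv7 D35791) F28276
def n35792 : Q := act 0 n17342
theorem D35792 : act 0 n17342 = n35792 := rfl
def n35793 : Q := act 1 n17342
theorem D35793 : act 1 n17342 = n35793 := rfl
def n35794 : Q := act 2 n17342
theorem D35794 : act 2 n17342 = n35794 := rfl
def n35795 : Q := act 6 n17342
theorem D35795 : act 6 n17342 = n35795 := rfl
theorem F56459 : act 3 n35795 = n17343 := d7_1 D35795 (iv6 D17343) D17342
def n35796 : Q := act 0 n17343
theorem D35796 : act 0 n17343 = n35796 := rfl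
def n35797 : Q := act 1 n17343
theorem D35797 : act 1 n17343 = n35797 := rfl
def n35798 : Q := act 5 n17343
theorem D35798 : act 5 n17343 = n35798 := rfl
def n35799 : Q := act 7 n17343
theorem D35799 : act 7 n17343 = n35799 := rfl
theorem F56460 : act 4 n35799 = n17346 := d11_1 D35799 (iv7 D17346) (iv4 F28277)
def n35800 : Q := act 3 n17344
theorem D35800 : act 3 n17344 = n35800 := rfl
theorem F56461 : act 6 n35800 = n35256 := d7_2 (iv6 F28278) D35800 F55985
def n35801 : Q := act 4 n17344
theorem D35801 : act 4 n17344 = n35801 := rfl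
theorem F56462 : act 6 n35801 = n35258 := d10_2 (iv6 F28278) D35801 (iv4 D35258)
def n35802 : Q := act 5 n17344
theorem D35802 : act 5 n17344 = n35802 := rfl
theorem F56463 : act 6 n35802 = n17543 := d12_2 (iv6 F28278) D35802 F28538 (iv6 D17112) D17111
def n35803 : Q := act 3 n17345
theorem D35803 : act 3 n17345 = n35803 := rfl
def n35804 : Q := act 4 n17345
theorem D35804 : act 4 n17345 = n35804 := rfl
def n35805 : Q := act 4 n17347
theorem D35805 : act 4 n17347 = n35805 := rfl
theorem F56464 : act 2 n35805 = n17348 := d1_1 D35805 (iv4 D17348) D17347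
def n35806 : Q := act 6 n17347
theorem D35806 : act 6 n17347 = n35806 := rfl
theorem F56465 : act 2 n35806 = n17349 := d3_1 D35806 (iv6 D17349) D17347
theorem F56466 : act 3 n35806 = n35603 := d7_1 D35806 F56280 F28596
theorem F56467 : act 5 n35806 = n18907 := d12_1 D35806 (iv6 D18907) (iv5 D8864) D8865 (iv5 F28280)
def n35807 : Q := act 0 n17348
theorem D35807 : act 0 n17348 = n35807 := rfl
theorem F56468 : act 4 n35807 = n19051 := d18_3 F28273 D17348 D35807 (iv5 D19051) F13897 (iv0 F17521) (iv4 F5677) D8118 D17337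
def n35808 : Q := act 1 n17348
theorem D35808 : act 1 n17348 = n35808 := rfl
theorem F56469 : act 4 n20277 = n35808 := d20_6 D3659 (iv1 F12765) (iv4 D7987) (iv3 F12750) D17059 (iv3 F32166) (iv1 D35808) (iv4 D17348) (iv3 D8123) (iv1 D3658)
def n35809 : Q := act 3 n17348
theorem D35809 : act 3 n17348 = n35809 := rfl
theorem F56470 : act 4 n35809 = n17350 := d5_2 D17348 D35809 (iv3 D17350) (iv4 D8124) D8123
def n35810 : Q := act 5 n17348
theorem D35810 : act 5 n17348 = n35810 := rfl
def n35811 : Q := act 6 n17348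
theorem D35811 : act 6 n17348 = n35811 := rfl
theorem F56471 : act 4 n35811 = n17349 := d10_1 D35811 (iv6 D17349) D17348
def n35812 : Q := act 0 n17349
theorem D35812 : act 0 n17349 = n35812 := rfl
def n35813 : Q := act 1 n17349
theorem D35813 : act 1 n17349 = n35813 := rfl
def n35814 : Q := act 7 n17349
theorem D35814 : act 7 n17349 = n35814 := rfl
theorem F56472 : act 3 n35814 = n17354 := d8_1 D35814 (iv7 D17354) (iv3 F28281)
theorem F56473 : act 5 n35814 = n18985 := d13_1 D35814 F30308 (iv5 F28282)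
def n35815 : Q := act 0 n17350
theorem D35815 : act 0 n17350 = n35815 := rfl
def n35816 : Q := act 1 n17350
theorem D35816 : act 1 n17350 = n35816 := rfl
def n35817 : Q := act 2 n17350
theorem D35817 : act 2 n17350 = n35817 := rfl
theorem F56474 : act 5 n35817 = n35268 := d2_2 (iv5 F28283) D35817 (iv2 D35268)
def n35818 : Q := act 6 n17350
theorem D35818 : act 6 n17350 = n35818 := rfl
theorem F56475 : act 3 n35818 = n17351 := d7_1 D35818 (iv6 D17351) D17350
def n35819 : Q := act 5 n17351
theorem D35819 : act 5 n17351 = n35819 := rfl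
theorem F56476 : act 2 n35819 = n35632 := d2_1 D35819 (iv5 D35632) (iv2 F28284)
theorem F56477 : act 6 n35819 = n35264 := d12_2 D17351 D35819 (iv5 D35264) F28053 (iv5 F12889)
def n35820 : Q := act 7 n17351
theorem D35820 : act 7 n17351 = n35820 := rfl
theorem F56478 : act 2 n35820 = n35633 := d4_1 D35820 (iv7 D35633) (iv2 F28284)
theorem F56479 : act 4 n35820 = n17354 := d11_1 D35820 (iv7 D17354) (iv4 F28285)
theorem F56480 : act 1 n18857 = n35820 := d15_1 F43126 (iv7 D35820) F28284
theorem F56481 : act 1 n35820 = n18853 := d15_1 F56480 (iv7 F45062) F45061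
def n35821 : Q := act 3 n17352
theorem D35821 : act 3 n17352 = n35821 := rfl
theorem F56482 : act 7 n35821 = n35630 := d8_2 F51265 D35821 (iv3 D35630)
def n35822 : Q := act 6 n17352
theorem D35822 : act 6 n17352 = n35822 := rfl
theorem F56483 : act 2 n35822 = n35629 := d3_1 D35822 (iv6 D35629) F51268
theorem F56484 : act 5 n35822 = n26968 := d12_1 D35822 (iv6 F43989) (iv5 F43988) (iv6 F43987) F28838
theorem F56485 : act 7 n35822 = n35802 := d14_2 F51265 D35822 F56463 F51279 F43755
def n35823 : Q := act 3 n17353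
theorem D35823 : act 3 n17353 = n35823 := rfl
theorem F56486 : act 7 n35823 = n35628 := d8_2 (iv7 F51270) D35823 (iv3 D35628)
def n35824 : Q := act 0 n17355
theorem D35824 : act 0 n17355 = n35824 := rfl
theorem F56487 : act 2 n17359 = n35824 := d15_3 (iv0 D35824) (iv0 D17355) D17359
theorem F56488 : act 5 n35824 = n17600 := d2_2 (iv5 F28295) F56487 (iv2 D17600)
theorem F56489 : act 7 n35824 = n17357 := d4_2 D17359 F56487 (iv2 D17357)
theorem F56490 : act 1 n17356 = n35824 := d15_1 D17356 F56489 (iv2 D17357)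
def n35825 : Q := act 2 n17355
theorem D35825 : act 2 n17355 = n35825 := rfl
theorem F56491 : act 7 n17356 = n35825 := d15_2 (iv0 D17355) D17356 (iv2 D35825)
def n35826 : Q := act 3 n17355
theorem D35826 : act 3 n17355 = n35826 := rfl
def n35827 : Q := act 4 n17355
theorem D35827 : act 4 n17355 = n35827 := rfl
def n35828 : Q := act 5 n17355
theorem D35828 : act 5 n17355 = n35828 := rfl
def n35829 : Q := act 6 n17355
theorem D35829 : act 6 n17355 = n35829 := rfl
def n35830 : Q := act 7 n17355
theorem D35830 : act 7 n17355 = n35830 := rfl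
theorem F56492 : act 2 n35830 = n17356 := d4_1 D35830 F56491 (iv2 D35825)
def n35831 : Q := act 3 n17356
theorem D35831 : act 3 n17356 = n35831 := rfl
def n35832 : Q := act 4 n17356
theorem D35832 : act 4 n17356 = n35832 := rfl
def n35833 : Q := act 5 n17356
theorem D35833 : act 5 n17356 = n35833 := rfl
def n35834 : Q := act 6 n17356
theorem D35834 : act 6 n17356 = n35834 := rfl
def n35835 : Q := act 0 n17357
theorem D35835 : act 0 n17357 = n35835 := rfl
theorem F56493 : act 1 n17359 = n35835 := d15_0 (iv0 D35835) (iv7 F56489) (iv2 F56487)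
def n35836 : Q := act 1 n17357
theorem D35836 : act 1 n17357 = n35836 := rfl
theorem F56494 : act 1 n35836 = n17359 := d15_1 D35836 (iv7 D17359) D17357
def n35837 : Q := act 5 n17357
theorem D35837 : act 5 n17357 = n35837 := rfl
theorem F56495 : act 2 n35837 = n17358 := d2_1 D35837 (iv5 D17358) D17357
theorem F56496 : act 7 n35837 = n17600 := d13_2 F56489 D35837 (iv5 F56488)
theorem F56497 : act 1 n17599 = n35837 := d15_1 D17599 F56496 (iv2 D17600)
theorem F56498 : act 1 n35837 = n17598 := d15_0 (iv0 D17598) F28293 (iv2 F56495)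
def n35838 : Q := act 0 n17358
theorem D35838 : act 0 n17358 = n35838 := rfl
theorem F56499 : act 1 n17600 = n35838 := d15_0 (iv0 D35838) (iv7 F28293) D17600
def n35839 : Q := act 1 n17358
theorem D35839 : act 1 n17358 = n35839 := rfl
theorem F56500 : act 1 n35839 = n17600 := d15_1 D35839 (iv7 F56496) F56495
def n35840 : Q := act 4 n17358
theorem D35840 : act 4 n17358 = n35840 := rfl
theorem F56501 : act 3 n35840 = n17522 := d5_1 D35840 F28520 F13019 (iv4 F12892) (iv3 F28292)
theorem F56502 : act 7 n35840 = n17520 := d11_2 F28293 D35840 F28519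
def n35841 : Q := act 6 n17358
theorem D35841 : act 6 n17358 = n35841 := rfl
theorem F56503 : act 3 n35841 = n17360 := d7_1 D35841 (iv6 D17360) (iv3 F28292)
def n35842 : Q := act 6 n17359
theorem D35842 : act 6 n17359 = n35842 := rfl
theorem F56504 : act 3 n35842 = n17361 := d7_1 D35842 (iv6 D17361) (iv3 F28294)
def n35843 : Q := act 0 n17360
theorem D35843 : act 0 n17360 = n35843 := rfl
theorem F56505 : act 6 n35843 = n18541 := d21_5 F12764 F5874 D8127 D17360 D35843 (iv5 F56420) (iv1 D35745) (iv5 D17322) F12880 (iv1 F12765)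
theorem F56506 : act 4 n18542 = n35843 := d10_3 F56505 (iv4 D18541) D18542
def n35844 : Q := act 1 n17360
theorem D35844 : act 1 n17360 = n35844 := rfl
def n35845 : Q := act 7 n17360
theorem D35845 : act 7 n17360 = n35845 := rfl
theorem F56507 : act 4 n35845 = n17580 := d11_1 D35845 F28559 (iv4 F28296)
theorem F56508 : act 6 n35845 = n17579 := d14_1 D35845 (iv7 D17579) F13024 (iv7 F12893) D17360
def n35846 : Q := act 0 n17361
theorem D35846 : act 0 n17361 = n35846 := rfl
def n35847 : Q := act 1 n17361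
theorem D35847 : act 1 n17361 = n35847 := rfl
def n35848 : Q := act 5 n17361
theorem D35848 : act 5 n17361 = n35848 := rfl
theorem F56509 : act 6 n35848 = n17578 := d12_2 D17361 D35848 (iv5 D17578) F13024 (iv5 F12895)
def n35849 : Q := act 2 n17362
theorem D35849 : act 2 n17362 = n35849 := rfl
theorem F56510 : act 7 n17363 = n35849 := d15_2 (iv0 D17362) D17363 (iv2 D35849)
def n35850 : Q := act 3 n17362
theorem D35850 : act 3 n17362 = n35850 := rfl
def n35851 : Q := act 4 n17362
theorem D35851 : act 4 n17362 = n35851 := rfl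
def n35852 : Q := act 5 n17362
theorem D35852 : act 5 n17362 = n35852 := rfl
def n35853 : Q := act 6 n17362
theorem D35853 : act 6 n17362 = n35853 := rfl
theorem F56512 : act 5 n35853 = n26976 := d21_6 (iv5 D6114) F4108 (iv5 F5681) D8129 D17362 D35853 (iv1 D26976) F21435 (iv6 D8267) (iv1 F9499)
def n35854 : Q := act 7 n17362
theorem D35854 : act 7 n17362 = n35854 := rfl
theorem F56513 : act 2 n35854 = n17363 := d4_1 D35854 F56510 (iv2 D35849)
def n35855 : Q := act 3 n17363
theorem D35855 : act 3 n17363 = n35855 := rfl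
def n35856 : Q := act 4 n17363
theorem D35856 : act 4 n17363 = n35856 := rfl
def n35857 : Q := act 5 n17363
theorem D35857 : act 5 n17363 = n35857 := rfl
theorem F56514 : act 6 n35857 = n26975 := d21_3 (iv5 F43490) (iv1 F43492) D35857 (iv1 F43531) (iv6 D17324) F12881 (iv1 F9488) D12892 D26945 F43455
def n35858 : Q := act 6 n17363
theorem D35858 : act 6 n17363 = n35858 := rfl
def n35859 : Q := act 5 n17365
theorem D35859 : act 5 n17365 = n35859 := rfl
theorem F56515 : act 2 n35859 = n35239 := d2_1 D35859 F55974 F28311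
theorem F56516 : act 3 n35859 = n21479 := d6_1 D35859 F33768 F30721
theorem F56517 : act 7 n35859 = n26746 := d13_2 (iv7 F28306) D35859 (iv5 D26746)
theorem F56518 : act 0 n35859 = n27324 := d17_2 F30566 D35859 (iv5 D27324) F21839 (iv5 F28191) F55977 F55974 F42970 F42967
theorem F56519 : act 1 n35859 = n27020 := d17_6 F14031 D7982 D17059 F27991 D17365 D35859 (iv5 D27020) (iv0 F21835) F21250
theorem F56520 : act 4 n35859 = n35140 := d18_5 F21439 F5687 D8131 D17365 D35859 (iv0 D35140) (iv4 D17060) (iv0 F27962) (iv5 D17047)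
def n35860 : Q := act 4 n17366
theorem D35860 : act 4 n17366 = n35860 := rfl
theorem F56521 : act 2 n35860 = n17367 := d1_1 D35860 (iv4 D17367) (iv2 F28317)
def n35861 : Q := act 6 n17366
theorem D35861 : act 6 n17366 = n35861 := rfl
theorem F56522 : act 2 n35861 = n17368 := d3_1 D35861 (iv6 D17368) (iv2 F28317)
theorem F56524 : act 5 n35861 = n27403 := d12_1 D35861 (iv6 D27403) (iv5 D13123) F17469 D17366
def n35862 : Q := act 0 n17367
theorem D35862 : act 0 n17367 = n35862 := rfl
theorem F56525 : act 4 n35862 = n27638 := d18_3 F21984 D17367 D35862 (iv5 D27638) (iv4 D13196) (iv0 D6273) F4226 D6274 D13200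
def n35863 : Q := act 1 n17367
theorem D35863 : act 1 n17367 = n35863 := rfl
theorem F56526 : act 4 n35863 = n27641 := d18_7 F30569 F27959 F21439 F5687 D8134 D17367 D35863 (iv0 F56236) (iv5 D35560)
def n35864 : Q := act 3 n17367
theorem D35864 : act 3 n17367 = n35864 := rfl
theorem F56527 : act 4 n35864 = n17369 := d5_2 D17367 D35864 (iv3 D17369) (iv4 D8135) (iv3 F12902)
def n35865 : Q := act 5 n17367
theorem D35865 : act 5 n17367 = n35865 := rfl
def n35866 : Q := act 6 n17367
theorem D35866 : act 6 n17367 = n35866 := rfl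
theorem F56528 : act 4 n35866 = n17368 := d10_1 D35866 (iv6 D17368) D17367
def n35867 : Q := act 0 n17368
theorem D35867 : act 0 n17368 = n35867 := rfl
def n35868 : Q := act 1 n17368
theorem D35868 : act 1 n17368 = n35868 := rfl
def n35869 : Q := act 7 n17368
theorem D35869 : act 7 n17368 = n35869 := rfl
def n35870 : Q := act 0 n17369
theorem D35870 : act 0 n17369 = n35870 := rfl
def n35871 : Q := act 1 n17369
theorem D35871 : act 1 n17369 = n35871 := rfl
def n35872 : Q := act 2 n17369
theorem D35872 : act 2 n17369 = n35872 := rfl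
def n35873 : Q := act 6 n17369
theorem D35873 : act 6 n17369 = n35873 := rfl
theorem F56530 : act 3 n35873 = n17370 := d7_1 D35873 (iv6 D17370) D17369
def n35874 : Q := act 0 n17370
theorem D35874 : act 0 n17370 = n35874 := rfl
def n35875 : Q := act 1 n17370
theorem D35875 : act 1 n17370 = n35875 := rfl
def n35876 : Q := act 5 n17370
theorem D35876 : act 5 n17370 = n35876 := rfl
def n35877 : Q := act 7 n17370
theorem D35877 : act 7 n17370 = n35877 := rfl
theorem F56531 : act 4 n35877 = n17373 := d11_1 D35877 (iv7 D17373) (iv4 F28322)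
def n35878 : Q := act 3 n17371
theorem D35878 : act 3 n17371 = n35878 := rfl
theorem F56532 : act 6 n35878 = n18843 := d7_2 (iv6 F28323) D35878 F30094
def n35879 : Q := act 4 n17371
theorem D35879 : act 4 n17371 = n35879 := rfl
theorem F56533 : act 6 n35879 = n18848 := d10_2 (iv6 F28323) D35879 (iv4 D18848)
def n35880 : Q := act 5 n17371
theorem D35880 : act 5 n17371 = n35880 := rfl
theorem F56534 : act 6 n35880 = n18849 := d12_2 (iv6 F28323) D35880 (iv5 D18849) (iv6 D8826) D8825
def n35881 : Q := act 3 n17372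
theorem D35881 : act 3 n17372 = n35881 := rfl
def n35882 : Q := act 4 n17372
theorem D35882 : act 4 n17372 = n35882 := rfl
def n35883 : Q := act 5 n17372
theorem D35883 : act 5 n17372 = n35883 := rfl
theorem F56537 : act 0 n18088 = n35883 := d21_10 (iv5 D35883) (iv1 D17372) (iv5 F13243) (iv6 D8434) F5781 (iv6 F5801) (iv5 D3811) D3809 D8531 D18088
theorem F56538 : act 6 n17874 = n35883 := d21_5 (iv5 D1666) (iv1 F3092) D3773 D8429 D17874 (iv5 D35883) (iv1 D17372) (iv5 F13243) (iv6 D8434) F5781
theorem F56539 : act 1 n18113 = n35883 := d15_0 (iv0 F56537) (iv7 F44166) F44164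
def n35884 : Q := act 6 n17372
theorem D35884 : act 6 n17372 = n35884 := rfl
theorem F56540 : act 7 n35884 = n18835 := d14_2 (iv7 F44687) D35884 (iv6 D18835) (iv7 F44654) (iv6 F32275)
theorem F56541 : act 0 n18621 = n35884 := d21_4 F44743 F43165 (iv5 D18620) D18621 (iv6 D35884) D35883 (iv1 F56539) (iv5 F44755) (iv6 D27736) D27733
def n35885 : Q := act 4 n17375
theorem D35885 : act 4 n17375 = n35885 := rfl
theorem F56542 : act 2 n35885 = n17376 := d1_1 D35885 (iv4 D17376) (iv2 F28327)
theorem F56543 : act 7 n35885 = n34467 := d11_2 (iv7 F28328) D35885 (iv4 D34467)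
theorem F56544 : act 0 n35885 = n22953 := d18_2 (iv1 F28329) D35885 (iv4 D22953) (iv5 D10837) (iv4 D4941) F6022 (iv4 F12264) (iv0 F12266) D8681
theorem F56545 : act 1 n35885 = n22947 := d18_6 (iv1 F17566) F14313 (iv1 F17462) (iv4 F12904) D17375 D35885 (iv4 D22947) F28517 F28516
def n35886 : Q := act 6 n17375
theorem D35886 : act 6 n17375 = n35886 := rfl
theorem F56546 : act 2 n35886 = n17377 := d3_1 D35886 (iv6 D17377) (iv2 F28327)
theorem F56547 : act 5 n35886 = n35886 := d12_1 D35886 (iv6 D35886) (iv5 D17375) F12905 D17375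
def n35887 : Q := act 0 n17376
theorem D35887 : act 0 n17376 = n35887 := rfl
theorem F56548 : act 4 n35887 = n19711 := d18_3 (iv1 F17606) D17376 D35887 (iv5 D19711) (iv4 D9251) (iv0 D4182) (iv4 F5579) (iv0 F7216) D7817
theorem F56549 : act 2 n22953 = n35887 := d15_3 (iv0 D35887) (iv0 F31251) (iv7 F36012)
theorem F56550 : act 1 n34467 = n35887 := d15_0 (iv0 D35887) (iv7 F32268) (iv2 F54689)
theorem F56551 : act 7 n35887 = n22947 := d15_2 (iv0 F54690) F56550 F36002
def n35888 : Q := act 3 n17376
theorem D35888 : act 3 n17376 = n35888 := rfl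
theorem F56552 : act 4 n35888 = n17378 := d5_2 D17376 D35888 (iv3 D17378) (iv4 D8141) (iv3 F12906)
def n35889 : Q := act 5 n17376
theorem D35889 : act 5 n17376 = n35889 := rfl
def n35890 : Q := act 6 n17376
theorem D35890 : act 6 n17376 = n35890 := rfl
theorem F56553 : act 4 n35890 = n17377 := d10_1 D35890 (iv6 D17377) D17376
def n35891 : Q := act 0 n17377
theorem D35891 : act 0 n17377 = n35891 := rfl
def n35892 : Q := act 1 n17377
theorem D35892 : act 1 n17377 = n35892 := rfl
def n35893 : Q := act 7 n17377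
theorem D35893 : act 7 n17377 = n35893 := rfl
theorem F56554 : act 3 n35893 = n17382 := d8_1 D35893 (iv7 D17382) (iv3 F28331)
theorem F56555 : act 5 n35893 = n35893 := d13_1 D35893 (iv7 D35893) F28332
def n35894 : Q := act 0 n17378
theorem D35894 : act 0 n17378 = n35894 := rfl
def n35895 : Q := act 1 n17378
theorem D35895 : act 1 n17378 = n35895 := rfl
def n35896 : Q := act 2 n17378
theorem D35896 : act 2 n17378 = n35896 := rfl
def n35897 : Q := act 6 n17378
theorem D35897 : act 6 n17378 = n35897 := rfl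
theorem F56556 : act 3 n35897 = n17379 := d7_1 D35897 (iv6 D17379) D17378
def n35898 : Q := act 0 n17379
theorem D35898 : act 0 n17379 = n35898 := rfl
def n35899 : Q := act 1 n17379
theorem D35899 : act 1 n17379 = n35899 := rfl
def n35900 : Q := act 5 n17379
theorem D35900 : act 5 n17379 = n35900 := rfl
def n35901 : Q := act 7 n17379
theorem D35901 : act 7 n17379 = n35901 := rfl
theorem F56557 : act 4 n35901 = n17382 := d11_1 D35901 (iv7 D17382) (iv4 F28333)
def n35902 : Q := act 3 n17380
theorem D35902 : act 3 n17380 = n35902 := rfl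
theorem F56558 : act 6 n35902 = n35154 := d7_2 (iv6 F28334) D35902 F55873
def n35903 : Q := act 4 n17380
theorem D35903 : act 4 n17380 = n35903 := rfl
theorem F56559 : act 6 n35903 = n35156 := d10_2 (iv6 F28334) D35903 (iv4 D35156)
def n35904 : Q := act 5 n17380
theorem D35904 : act 5 n17380 = n35904 := rfl
theorem F56560 : act 6 n35904 = n18601 := d12_2 (iv6 F28334) D35904 F29830 (iv6 D17069) D17068
theorem F56561 : act 7 n35904 = n18854 := d13_2 F43555 D35904 F43557
def n35905 : Q := act 3 n17381
theorem D35905 : act 3 n17381 = n35905 := rfl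
def n35906 : Q := act 4 n17381
theorem D35906 : act 4 n17381 = n35906 := rfl
theorem F56562 : act 6 n35906 = n35672 := d10_2 F44624 D35906 F56358
def n35907 : Q := act 0 n17383
theorem D35907 : act 0 n17383 = n35907 := rfl
def n35908 : Q := act 1 n17383
theorem D35908 : act 1 n17383 = n35908 := rfl
theorem F56563 : act 1 n35908 = n26710 := d15_1 D35908 (iv7 D26710) (iv2 F28336)
def n35909 : Q := act 7 n17383
theorem D35909 : act 7 n17383 = n35909 := rfl
theorem F56564 : act 2 n35909 = n26710 := d4_1 D35909 (iv7 D26710) (iv2 F28336)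
theorem F56565 : act 4 n35909 = n32353 := d11_1 D35909 (iv7 D32353) (iv4 F28337)
theorem F56566 : act 6 n35909 = n34898 := d14_1 D35909 (iv7 D34898) (iv6 D16921) (iv7 F12910) D17383
theorem F56567 : act 1 n26710 = n35907 := d15_0 (iv0 D35907) D35909 F56564
theorem F56568 : act 1 n26709 = n35909 := d15_1 D26709 (iv7 D35909) F28336
theorem F56569 : act 1 n35909 = n26708 := d15_0 (iv0 D26708) D26710 (iv2 F56564)
def n35910 : Q := act 5 n17384
theorem D35910 : act 5 n17384 = n35910 := rfl
theorem F56570 : act 3 n35910 = n17386 := d6_1 D35910 (iv5 D17386) D17384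
theorem F56571 : act 7 n35910 = n33223 := d13_2 F40385 D35910 F52458
def n35911 : Q := act 6 n17384
theorem D35911 : act 6 n17384 = n35911 := rfl
theorem F56572 : act 3 n35911 = n17387 := d7_1 D35911 (iv6 D17387) D17384
def n35912 : Q := act 6 n17385
theorem D35912 : act 6 n17385 = n35912 := rfl
theorem F56573 : act 2 n35912 = n26293 := d3_1 D35912 (iv6 D26293) (iv2 F28338)
theorem F56574 : act 3 n35912 = n32447 := d7_1 D35912 (iv6 D32447) F28341
theorem F56575 : act 4 n35912 = n17387 := d10_1 D35912 (iv6 D17387) D17385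
theorem F56576 : act 0 n32447 = n24387 := d20_4 D16603 (iv1 F54426) (iv4 F56575) F56574 (iv3 D24387) D24388 (iv1 F45537) F45534 F23442 (iv1 F26825)
theorem F56577 : act 1 n35912 = n24305 := d15_0 (iv0 F53947) F53940 (iv2 F56573)
theorem F56578 : act 0 n35911 = n29008 := d20_4 F46652 (iv1 F56577) F56575 (iv3 F56572) (iv3 D29008) (iv4 D13807) (iv1 D6567) D6568 D13810 D29014
def n35913 : Q := act 4 n17386
theorem D35913 : act 4 n17386 = n35913 := rfl
theorem F56579 : act 2 n35913 = n33227 := d1_1 D35913 (iv4 D33227) (iv2 F28344)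
theorem F56580 : act 7 n35913 = n33224 := d11_2 F28357 D35913 (iv4 D33224)
theorem F56581 : act 5 n35913 = n18273 := d16_1 D35913 F29472 D18286 (iv4 F29483) (iv5 D15334) F12914 D17389 F28353 (iv2 F28344)
theorem F56582 : act 3 n35913 = n18274 := d19_3 D8144 D17386 D35913 F29473 (iv5 D17092) (iv4 D7998) F5655 F2772 (iv5 D1217) (iv4 D725) F1073 (iv1 F713) F710 (iv4 F681) (iv3 F1302) (iv1 F1305) D868 D1614 D3667
def n35914 : Q := act 6 n17386
theorem D35914 : act 6 n17386 = n35914 := rfl
theorem F56583 : act 2 n35914 = n33228 := d3_1 D35914 (iv6 D33228) (iv2 F28344)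
def n35915 : Q := act 5 n17387
theorem D35915 : act 5 n17387 = n35915 := rfl
theorem F56584 : act 0 n35915 = n26512 := d17_2 (iv1 F54426) D35915 (iv5 D26512) F21070 D12666 (iv0 F27036) (iv5 D14082) (iv0 F26824) D16603
def n35916 : Q := act 7 n17387
theorem D35916 : act 7 n17387 = n35916 := rfl
theorem F56585 : act 2 n35916 = n34298 := d4_1 D35916 F54424 F40397
theorem F56586 : act 1 n29064 = n35916 := d15_1 (iv0 F50516) (iv7 D35916) (iv2 F40397)
theorem F56587 : act 1 n35916 = n24018 := d15_1 F56586 F37552 (iv2 F46700)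
def n35917 : Q := act 5 n17388
theorem D35917 : act 5 n17388 = n35917 := rfl
theorem F56588 : act 3 n35917 = n17389 := d6_1 D35917 (iv5 D17389) D17388
theorem F56589 : act 7 n35917 = n33226 := d13_2 F40391 D35917 F52459
theorem F56590 : act 0 n35917 = n23875 := d17_2 F28348 D35917 (iv5 D23875) (iv4 D11185) D11186 (iv0 F43060) F11678 D7921 D16966
theorem F56591 : act 1 n35917 = n23890 := d17_6 D26423 (iv5 F51794) F51796 F42391 (iv4 F28347) D35917 (iv5 D23890) F37273 F37220
def n35918 : Q := act 6 n17388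
theorem D35918 : act 6 n17388 = n35918 := rfl
theorem F56592 : act 2 n35918 = n28370 := d3_1 D35918 F50534 F43622
theorem F56593 : act 3 n35918 = n17390 := d7_1 D35918 (iv6 D17390) D17388
theorem F56594 : act 4 n35918 = n23834 := d10_1 D35918 F50468 (iv4 F28347)
theorem F56595 : act 7 n28365 = n35918 := d11_0 F56594 F50530 D28365
theorem F56596 : act 0 n34972 = n35918 := d20_1 D34972 F56594 F37165 (iv1 F49920) (iv3 F49921) (iv4 F41170) (iv1 F45910) (iv4 F50086) (iv3 F55366) (iv1 F55370)
theorem F56597 : act 0 n35918 = n34967 := d20_1 (iv4 F56594) (iv4 D34967) F50152 (iv1 D14859) (iv3 D7076) (iv4 F5178) F4383 D5112 D11173 D23834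
def n35919 : Q := act 4 n17389
theorem D35919 : act 4 n17389 = n35919 := rfl
theorem F56598 : act 2 n35919 = n33224 := d1_1 D35919 (iv4 D33224) (iv2 F28355)
theorem F56599 : act 7 n35919 = n33227 := d11_2 (iv7 F28353) D35919 (iv4 D33227)
def n35920 : Q := act 6 n17389
theorem D35920 : act 6 n17389 = n35920 := rfl
theorem F56600 : act 2 n35920 = n33225 := d3_1 D35920 (iv6 D33225) (iv2 F28355)
def n35921 : Q := act 5 n17390
theorem D35921 : act 5 n17390 = n35921 := rfl
theorem F56601 : act 0 n35921 = n26193 := d17_2 (iv1 F50463) D35921 (iv5 D26193) (iv4 D12424) D12425 F41572 (iv5 D17416) F26729 D31521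
theorem F56602 : act 1 n35921 = n26187 := d17_6 (iv1 D28404) D28406 F50916 (iv5 D31615) (iv4 F50464) D35921 (iv5 D26187) D26185 (iv4 F50395)
def n35922 : Q := act 7 n17390
theorem D35922 : act 7 n17390 = n35922 := rfl
theorem F56603 : act 3 n35922 = n28365 := d8_1 D35922 F56595 F56593
theorem F56604 : act 4 n35922 = n26099 := d11_1 D35922 F50477 (iv4 F50464)
theorem F56605 : act 6 n35922 = n34298 := d14_1 D35922 F54424 (iv6 D25547) (iv7 F27258) D17390
theorem F56606 : act 0 n35922 = n34406 := d20_7 F5528 D3519 D7760 F26593 (iv1 F20566) D26099 (iv4 F56604) (iv4 D34406) (iv3 D16680) (iv1 D7758)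
theorem F56607 : act 1 n25545 = n34406 := d15_0 (iv0 F56606) (iv7 D35922) (iv2 F40389)
def n35923 : Q := act 4 n17391
theorem D35923 : act 4 n17391 = n35923 := rfl
theorem F56608 : act 2 n35923 = n17393 := d1_1 D35923 (iv4 D17393) (iv2 F28360)
def n35924 : Q := act 6 n17391
theorem D35924 : act 6 n17391 = n35924 := rfl
theorem F56609 : act 2 n35924 = n17394 := d3_1 D35924 (iv6 D17394) (iv2 F28360)
def n35925 : Q := act 5 n17393
theorem D35925 : act 5 n17393 = n35925 := rfl
theorem F56610 : act 4 n35925 = n18284 := d16_2 D17393 D35925 (iv5 F52453) (iv4 D26608) F21110 (iv4 F20085) D25548 F40399 F28360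
theorem F56611 : act 0 n28615 = n35925 := d19_0 (iv5 D35925) (iv4 D17393) F12916 (iv1 F7691) (iv5 D5168) (iv4 D2125) F1953 F2399 F2398 (iv4 F1555) F1554 F1051 D832 D1527 D3466 D7640 F25821 D13645 D28615
def n35926 : Q := act 6 n17393
theorem D35926 : act 6 n17393 = n35926 := rfl
theorem F56612 : act 4 n35926 = n17394 := d10_1 D35926 (iv6 D17394) D17393
def n35927 : Q := act 0 n17394
theorem D35927 : act 0 n17394 = n35927 := rfl
def n35928 : Q := act 1 n17394
theorem D35928 : act 1 n17394 = n35928 := rfl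
def n35929 : Q := act 5 n17394
theorem D35929 : act 5 n17394 = n35929 := rfl
theorem F56613 : act 3 n35929 = n17399 := d6_1 D35929 (iv5 D17399) (iv3 F28361)
theorem F56614 : act 6 n35929 = n17396 := d12_2 D17394 D35929 (iv5 D17396) (iv6 D8148) D8147
def n35930 : Q := act 7 n17394
theorem D35930 : act 7 n17394 = n35930 := rfl
theorem F56615 : act 3 n35930 = n17400 := d8_1 D35930 (iv7 D17400) (iv3 F28361)
def n35931 : Q := act 5 n17395
theorem D35931 : act 5 n17395 = n35931 := rfl
theorem F56616 : act 2 n35931 = n26505 := d2_1 D35931 F42431 F28363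
theorem F56617 : act 3 n35931 = n25602 := d6_1 D35931 (iv5 F46142) F37009
theorem F56618 : act 7 n35931 = n26506 := d13_2 F40447 D35931 F42426
theorem F56619 : act 0 n35931 = n26509 := d17_2 D17395 D35931 F42429 F21072 (iv5 F21075) F27126 (iv5 D6047) F26770 (iv4 F12918)
theorem F56620 : act 1 n35931 = n26482 := d17_6 F20198 D25669 (iv1 F51513) (iv5 D32446) (iv4 F28362) D35931 (iv5 D26482) F26616 (iv4 D15666)
def n35932 : Q := act 6 n17395
theorem D35932 : act 6 n17395 = n35932 := rfl
theorem F56621 : act 2 n35932 = n32448 := d3_1 D35932 (iv6 D32448) F28363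
theorem F56622 : act 4 n35932 = n32447 := d10_1 D35932 (iv6 D32447) (iv4 F28362)
def n35933 : Q := act 2 n17397
theorem D35933 : act 2 n17397 = n35933 := rfl
theorem F56623 : act 7 n17398 = n35933 := d15_2 (iv0 D17397) D17398 (iv2 D35933)
def n35934 : Q := act 3 n17397
theorem D35934 : act 3 n17397 = n35934 := rfl
def n35935 : Q := act 4 n17397
theorem D35935 : act 4 n17397 = n35935 := rfl
def n35936 : Q := act 5 n17397
theorem D35936 : act 5 n17397 = n35936 := rfl
def n35937 : Q := act 6 n17397
theorem D35937 : act 6 n17397 = n35937 := rfl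
def n35938 : Q := act 7 n17397
theorem D35938 : act 7 n17397 = n35938 := rfl
theorem F56624 : act 2 n35938 = n17398 := d4_1 D35938 F56623 (iv2 D35933)
def n35939 : Q := act 3 n17398
theorem D35939 : act 3 n17398 = n35939 := rfl
def n35940 : Q := act 4 n17398
theorem D35940 : act 4 n17398 = n35940 := rfl
def n35941 : Q := act 5 n17398
theorem D35941 : act 5 n17398 = n35941 := rfl
def n35942 : Q := act 6 n17398
theorem D35942 : act 6 n17398 = n35942 := rfl
def n35943 : Q := act 0 n17399
theorem D35943 : act 0 n17399 = n35943 := rfl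
def n35944 : Q := act 1 n17399
theorem D35944 : act 1 n17399 = n35944 := rfl
def n35945 : Q := act 4 n17399
theorem D35945 : act 4 n17399 = n35945 := rfl
theorem F56625 : act 6 n35945 = n17403 := d10_2 (iv6 F28366) D35945 (iv4 D17403)
theorem F56626 : act 3 n21670 = n35945 := d7_3 F56625 F28370 D21670
def n35946 : Q := act 7 n17399
theorem D35946 : act 7 n17399 = n35946 := rfl
theorem F56627 : act 5 n35946 = n17400 := d13_1 D35946 (iv7 D17400) D17399
def n35947 : Q := act 4 n17401
theorem D35947 : act 4 n17401 = n35947 := rfl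
theorem F56628 : act 5 n35947 = n21248 := d9_2 D17401 D35947 F33475 (iv5 F40016) F40015 F26353 (iv4 F12487) D16904 D34866 F55142 F33474 (iv5 F45916) F45917 F37386 (iv4 F18250)
theorem F56629 : act 0 n35947 = n21175 := d17_0 (iv5 D21175) D21172 (iv5 F37361) (iv4 D23935) (iv5 D11215) D11213 D23934 F37360 D35947
def n35948 : Q := act 6 n17401
theorem D35948 : act 6 n17401 = n35948 := rfl
def n35949 : Q := act 4 n17402
theorem D35949 : act 4 n17402 = n35949 := rfl
theorem F56630 : act 2 n35949 = n23935 := d1_1 D35949 (iv4 D23935) F28368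
theorem F56631 : act 5 n35949 = n21442 := d9_2 (iv5 F28367) D35949 (iv4 F33688) F32544 F20094 (iv5 F26271) (iv4 F12460) D16892 D34840 F55103 F33682 F32550 F20150 F26789 F22296
theorem F56632 : act 0 n35949 = n21249 := d17_0 (iv5 D21249) D21247 (iv5 F55142) (iv4 D34866) (iv5 D16904) F26350 (iv5 F40476) F40478 D35949
def n35950 : Q := act 6 n17402
theorem D35950 : act 6 n17402 = n35950 := rfl
theorem F56633 : act 2 n35950 = n23936 := d3_1 D35950 (iv6 D23936) F28368
def n35951 : Q := act 0 n17403
theorem D35951 : act 0 n17403 = n35951 := rfl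
theorem F56634 : act 5 n35951 = n23005 := d17_3 (iv1 D21667) (iv5 F28369) D35951 F36066 (iv5 D16946) F27694 F27692 F27796 (iv4 F34100)
theorem F56635 : act 4 n35951 = n26994 := d18_1 D35951 (iv1 F51813) (iv4 F55312) (iv5 D34945) (iv4 D16950) D16949 (iv4 F34095) (iv0 D21666) (iv5 F28369)
def n35952 : Q := act 1 n17403
theorem D35952 : act 1 n17403 = n35952 := rfl
theorem F56636 : act 5 n35952 = n23006 := d17_7 (iv1 F32552) F32550 (iv1 F27899) (iv5 F27900) (iv4 F16458) (iv5 F28369) D35952 F36274 F36271
theorem F56637 : act 4 n35952 = n26995 := d18_7 (iv1 D15637) (iv4 D7361) F10054 (iv4 F5697) D8152 D17403 D35952 (iv0 F51812) (iv5 D32732)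
def n35953 : Q := act 6 n17404
theorem D35953 : act 6 n17404 = n35953 := rfl
def n35954 : Q := act 4 n17405
theorem D35954 : act 4 n17405 = n35954 := rfl
theorem F56638 : act 5 n35954 = n21666 := d9_2 D17405 D35954 F34095 (iv5 F27792) F23130 F10693 D7361 D15639 D32735 F51820 F34100 (iv5 F28374) (iv4 D17406) (iv5 D8155) D8154
theorem F56639 : act 1 n35954 = n21677 := d18_6 F26349 F5697 D3670 D8154 D17405 D35954 (iv4 F37357) F37358 (iv5 D16904)
def n35955 : Q := act 6 n17405
theorem D35955 : act 6 n17405 = n35955 := rfl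
theorem F56640 : act 3 n35955 = n34907 := d7_1 D35955 (iv6 D34907) (iv3 F28373)
def n35956 : Q := act 0 n17409
theorem D35956 : act 0 n17409 = n35956 := rfl
theorem F56641 : act 5 n35956 = n23886 := d17_3 (iv1 D17408) D17409 D35956 (iv4 D23886) D23887 F51497 F27214 D26292 F41867
theorem F56642 : act 1 n17412 = n35956 := d15_0 (iv0 D35956) (iv7 F43265) F43263
theorem F56643 : act 2 n25681 = n35956 := d2_3 F56641 F37290 D25681
theorem F56644 : act 7 n33177 = n35956 := d13_0 F56641 F37291 D33177
def n35957 : Q := act 1 n17409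
theorem D35957 : act 1 n17409 = n35957 := rfl
theorem F56645 : act 1 n35957 = n17412 := d15_1 D35957 (iv7 F43269) F43267
theorem F56646 : act 7 n35957 = n25681 := d15_2 (iv0 D35956) D35957 F56643
theorem F56647 : act 5 n35957 = n25660 := d17_7 (iv1 D5982) D5984 (iv1 F26756) (iv5 D8159) D8158 D17409 D35957 (iv0 F40564) (iv4 D12588)
theorem F56648 : act 2 n33177 = n35957 := d2_3 F56647 F40560 D33177
theorem F56649 : act 3 n25661 = n35957 := d6_3 F56647 (iv3 D25660) D25661
def n35958 : Q := act 4 n17409
theorem D35958 : act 4 n17409 = n35958 := rfl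
theorem F56650 : act 2 n35958 = n33230 := d1_1 D35958 F52461 F43267
theorem F56651 : act 7 n35958 = n33229 := d11_2 F43265 D35958 F52460
theorem F56652 : act 0 n35958 = n33201 := d18_2 (iv1 D35957) D35958 (iv4 D33201) (iv5 D16026) (iv4 D7496) F9290 D12583 (iv0 F40563) (iv5 F56647)
theorem F56653 : act 1 n35958 = n25588 := d18_6 (iv1 D8145) F5696 D3673 D8158 D17409 D35958 (iv4 D25588) (iv0 F28354) (iv5 D17389)
def n35959 : Q := act 6 n17409
theorem D35959 : act 6 n17409 = n35959 := rfl
def n35960 : Q := act 0 n17410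
theorem D35960 : act 0 n17410 = n35960 := rfl
theorem F56654 : act 4 n35960 = n23887 := d18_3 (iv1 F26756) D17410 D35960 (iv5 D23887) D23886 (iv0 F37293) (iv4 D12583) (iv0 D5981) D5984
theorem F56655 : act 1 n17414 = n35960 := d15_0 (iv0 D35960) F28379 (iv2 F28384)
theorem F56656 : act 2 n33247 = n35960 := d1_3 F56654 (iv2 F51503) (iv4 F52485)
theorem F56657 : act 7 n33246 = n35960 := d11_0 F56654 (iv7 F51479) (iv4 F52482)
def n35961 : Q := act 1 n17410
theorem D35961 : act 1 n17410 = n35961 := rfl
theorem F56658 : act 1 n35961 = n17414 := d15_1 D35961 F28385 (iv2 F28378)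
theorem F56659 : act 7 n35961 = n33247 := d15_2 (iv0 D35960) D35961 F56656
theorem F56660 : act 4 n35961 = n28522 := d18_7 (iv1 F41865) F41867 (iv1 D17408) (iv4 D8158) D8159 D17410 D35961 F51498 (iv5 D32436)
theorem F56661 : act 2 n33246 = n35961 := d1_3 F56660 (iv2 F51477) (iv4 F52482)
def n35962 : Q := act 6 n17410
theorem D35962 : act 6 n17410 = n35962 := rfl
theorem F56662 : act 2 n35962 = n33255 := d3_1 D35962 (iv6 D33255) (iv2 F28378)
theorem F56663 : act 4 n35962 = n17411 := d10_1 D35962 (iv6 D17411) D17410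
def n35963 : Q := act 0 n17411
theorem D35963 : act 0 n17411 = n35963 := rfl
def n35964 : Q := act 1 n17411
theorem D35964 : act 1 n17411 = n35964 := rfl
def n35965 : Q := act 7 n17411
theorem D35965 : act 7 n17411 = n35965 := rfl
theorem F56665 : act 2 n35965 = n33259 := d4_1 D35965 (iv7 D33259) (iv2 F28380)
theorem F56666 : act 6 n35965 = n33251 := d14_1 D35965 (iv7 D33251) (iv6 D16054) (iv7 F26855) D17411
theorem F56667 : act 1 n33259 = n35963 := d15_0 (iv0 D35963) D35965 F56665
theorem F56668 : act 1 n33257 = n35965 := d15_1 D33257 (iv7 D35965) F28380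
theorem F56669 : act 1 n35965 = n33256 := d15_0 (iv0 D33256) D33259 (iv2 F56665)
def n35966 : Q := act 4 n17412
theorem D35966 : act 4 n17412 = n35966 := rfl
theorem F56670 : act 2 n35966 = n33229 := d1_1 D35966 F52460 F43263
theorem F56671 : act 3 n35966 = n28616 := d5_1 D35966 F46188 (iv3 F52945) F52947 (iv3 F28381)
theorem F56672 : act 7 n35966 = n33230 := d11_2 F43269 D35966 F52461
theorem F56673 : act 5 n35966 = n28615 := d16_1 D35966 F46187 F29544 (iv4 D17410) (iv5 D8159) D8158 D17409 (iv7 F43265) F43263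
theorem F56674 : act 0 n35966 = n25588 := d18_2 (iv1 F56642) D35966 (iv4 D25588) (iv5 D12168) F8891 D5982 D12588 (iv0 F37292) (iv5 F56641)
theorem F56675 : act 1 n35966 = n33201 := d18_6 (iv1 F20087) F20085 (iv1 F9443) D8163 D17412 D35966 (iv4 D33201) (iv0 F28345) (iv5 D17386)
def n35967 : Q := act 6 n17412
theorem D35967 : act 6 n17412 = n35967 := rfl
theorem F56676 : act 3 n35967 = n34902 := d7_1 D35967 (iv6 D34902) (iv3 F28381)
def n35968 : Q := act 5 n17413
theorem D35968 : act 5 n17413 = n35968 := rfl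
theorem F56677 : act 3 n35968 = n34904 := d6_1 D35968 (iv5 D34904) (iv3 F28382)
theorem F56678 : act 1 n35968 = n25508 := d17_6 D5908 D12420 F28388 (iv5 D17416) (iv4 F28383) D35968 (iv5 D25508) (iv0 D12126) F8853
theorem E5868 : n32007 = n25509 := (c21_5 F41869 F41870 (iv5 D16006) (iv6 F26972) D32007 (iv6 D25509) D25508 (iv1 F56678) (iv5 D35968) (iv6 D17413) (iv1 F28377))
theorem F56679 : act 0 n25509 = n15102 := (sb E5868 (iv1 F50377))
theorem F56680 : act 1 n25509 = n15097 := (sb E5868 (iv0 D32007))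
def n35969 : Q := act 3 n17414
theorem D35969 : act 3 n17414 = n35969 := rfl
theorem F56681 : act 7 n35969 = n33253 := d8_2 (iv7 F28385) D35969 (iv3 D33253)
def n35970 : Q := act 5 n17414
theorem D35970 : act 5 n17414 = n35970 := rfl
theorem F56682 : act 2 n35970 = n26581 := d2_1 D35970 F42864 (iv2 F28384)
theorem F56683 : act 7 n35970 = n33254 := d13_2 (iv7 F28385) D35970 (iv5 D33254)
def n35971 : Q := act 6 n17414
theorem D35971 : act 6 n17414 = n35971 := rfl
theorem F56684 : act 2 n35971 = n33248 := d3_1 D35971 (iv6 D33248) (iv2 F28384)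
theorem F56685 : act 4 n35971 = n17415 := d10_1 D35971 (iv6 D17415) D17414
def n35972 : Q := act 0 n17415
theorem D35972 : act 0 n17415 = n35972 := rfl
def n35973 : Q := act 1 n17415
theorem D35973 : act 1 n17415 = n35973 := rfl
theorem F56686 : act 1 n35973 = n33251 := d15_1 D35973 (iv7 D33251) (iv2 F28386)
def n35974 : Q := act 5 n17415
theorem D35974 : act 5 n17415 = n35974 := rfl
theorem F56687 : act 2 n35974 = n31976 := d2_1 D35974 F50333 (iv2 F28386)
theorem F56688 : act 3 n35974 = n32093 := d6_1 D35974 (iv5 F52685) F52684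
theorem F56689 : act 6 n35974 = n17416 := d12_2 D17415 D35974 (iv5 D17416) (iv6 D8165) D8164
def n35975 : Q := act 7 n17415
theorem D35975 : act 7 n17415 = n35975 := rfl
theorem F56690 : act 2 n35975 = n33251 := d4_1 D35975 (iv7 D33251) (iv2 F28386)
theorem F56691 : act 6 n35975 = n33259 := d14_1 D35975 (iv7 D33259) (iv6 D16059) F26857 D17415
theorem F56692 : act 1 n33251 = n35972 := d15_0 (iv0 D35972) D35975 F56690
theorem F56694 : act 1 n35975 = n33249 := d15_0 (iv0 D33249) D33251 (iv2 F56690)
def n35976 : Q := act 4 n17416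
theorem D35976 : act 4 n17416 = n35976 := rfl
theorem F56695 : act 2 n35976 = n31975 := d1_1 D35976 (iv4 D31975) (iv2 F28387)
def n35977 : Q := act 0 n17417
theorem D35977 : act 0 n17417 = n35977 := rfl
def n35978 : Q := act 1 n17417
theorem D35978 : act 1 n17417 = n35978 := rfl
def n35979 : Q := act 7 n17417
theorem D35979 : act 7 n17417 = n35979 := rfl
def n35980 : Q := act 0 n17418
theorem D35980 : act 0 n17418 = n35980 := rfl
def n35981 : Q := act 1 n17418
theorem D35981 : act 1 n17418 = n35981 := rfl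
def n35982 : Q := act 7 n17418
theorem D35982 : act 7 n17418 = n35982 := rfl
def n35983 : Q := act 3 n17419
theorem D35983 : act 3 n17419 = n35983 := rfl
theorem F56696 : act 5 n35983 = n32584 := d6_2 (iv5 F28391) D35983 (iv3 D32584)
theorem F56697 : act 7 n35983 = n32681 := d8_2 F28394 D35983 (iv3 D32681)
theorem F56698 : act 0 n27518 = n35983 := d20_4 (iv4 D10212) D10210 (iv4 F29062) (iv3 F44416) (iv3 D35983) F28392 (iv1 D12472) D12473 F20770 (iv1 F16149)
def n35984 : Q := act 6 n17419
theorem D35984 : act 6 n17419 = n35984 := rfl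
theorem F56699 : act 2 n35984 = n32676 := d3_1 D35984 (iv6 D32676) F28393
theorem F56700 : act 4 n35984 = n26261 := d10_1 D35984 (iv6 D26261) (iv4 F28392)
def n35985 : Q := act 3 n17420
theorem D35985 : act 3 n17420 = n35985 := rfl
theorem F56701 : act 5 n35985 = n32560 := d6_2 F28398 D35985 (iv3 D32560)
theorem F56702 : act 7 n35985 = n32675 := d8_2 (iv7 F28395) D35985 (iv3 D32675)
def n35986 : Q := act 6 n17420
theorem D35986 : act 6 n17420 = n35986 := rfl
theorem F56703 : act 2 n35986 = n32682 := d3_1 D35986 (iv6 D32682) F28397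
theorem F56704 : act 4 n35986 = n26259 := d10_1 D35986 (iv6 D26259) (iv4 F28396)
def n35987 : Q := act 0 n17421
theorem D35987 : act 0 n17421 = n35987 := rfl
def n35988 : Q := act 1 n17421
theorem D35988 : act 1 n17421 = n35988 := rfl
def n35989 : Q := act 2 n17421
theorem D35989 : act 2 n17421 = n35989 := rfl
def n35990 : Q := act 0 n17422
theorem D35990 : act 0 n17422 = n35990 := rfl
def n35991 : Q := act 1 n17422
theorem D35991 : act 1 n17422 = n35991 := rfl
def n35992 : Q := act 4 n17424
theorem D35992 : act 4 n17424 = n35992 := rfl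
theorem F56705 : act 2 n35992 = n20014 := d1_1 D35992 (iv4 F37395) F37393
theorem F56706 : act 6 n35992 = n25499 := d10_2 (iv6 F28406) D35992 F40330
theorem F56707 : act 7 n35992 = n23745 := d11_2 (iv7 F28407) D35992 F36974
theorem F56708 : act 5 n35992 = n20013 := d17_5 (iv1 F12485) D7915 F26281 (iv5 F28405) D35992 F31839 (iv5 D16946) F27694 F27691
theorem F56709 : act 0 n35992 = n17427 := d17_0 F33105 (iv1 D20927) (iv5 F26938) F12480 (iv5 F7685) F26346 (iv5 F26353) (iv0 F28408) D35992
theorem F56710 : act 1 n35992 = n25495 := d18_6 F20102 D25562 (iv1 F45395) (iv4 D28091) (iv5 F28405) D35992 (iv4 D25495) (iv0 D12119) (iv5 F18626)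
def n35993 : Q := act 0 n17425
theorem D35993 : act 0 n17425 = n35993 := rfl
theorem F56711 : act 5 n35993 = n35095 := d17_1 D35993 (iv1 F55763) (iv5 D32554) (iv4 F54077) F51077 F51076 (iv5 D32116) F53997 (iv4 F28409)
theorem F56712 : act 0 n31677 = n24395 := d21_4 F56711 (iv1 F55763) (iv5 D32554) (iv6 F49957) (iv6 D24395) D24394 F54367 F50011 (iv6 F28411) D35993
theorem F56713 : act 2 n28430 = n35993 := d15_3 (iv0 D35993) F54166 (iv7 F51007)
theorem F56714 : act 1 n28434 = n35993 := d15_0 (iv0 D35993) F28412 (iv2 F54182)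
theorem F56715 : act 7 n35993 = n28423 := d15_2 D28434 F56714 F45963
theorem F56716 : act 4 n28423 = n35993 := d20_0 (iv1 F56714) F54184 (iv3 F54015) (iv1 D26197) F26899 F11513 (iv1 F10522) (iv4 F10699) (iv3 F23148) (iv1 F54175)
theorem F56717 : act 6 n28413 = n35993 := d21_3 D15295 D32400 (iv5 F54314) (iv1 F56714) F54185 D28548 F54017 (iv5 F54222) F54262 (iv1 D15294)
theorem F56718 : act 5 n24395 = n32929 := d21_0 (iv1 D32929) (iv5 D15859) (iv6 F24640) (iv1 F54313) F56717 F56711 (iv1 F55763) (iv5 D32554) (iv6 F49957) F56712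
theorem F56719 : act 3 n32929 = n34833 := d6_1 F56718 F55715 (iv3 F55713)
def n35994 : Q := act 2 n17425
theorem D35994 : act 2 n17425 = n35994 := rfl
theorem F56720 : act 3 n35994 = n31917 := d0_2 D17425 D35994 (iv2 D31917) (iv3 D15053) (iv2 F12940)
theorem F56721 : act 4 n35994 = n31922 := d1_2 (iv4 F28409) D35994 (iv2 D31922)
theorem F56722 : act 5 n35994 = n32593 := d2_2 (iv5 F28410) D35994 (iv2 D32593)
theorem F56723 : act 6 n35994 = n28527 := d3_2 (iv6 F28411) D35994 F54062
theorem F56724 : act 7 n35994 = n28434 := d4_2 (iv7 F28412) D35994 F54182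
theorem F56725 : act 1 n35994 = n28423 := d15_0 F54175 (iv7 F28412) D35994
theorem F56726 : act 1 n28430 = n35994 := d15_0 F56725 (iv7 F56715) (iv2 F56713)
def n35995 : Q := act 0 n17426
theorem D35995 : act 0 n17426 = n35995 := rfl
theorem F56727 : act 5 n35995 = n24008 := d17_3 (iv1 F21480) D17426 D35995 F37537 F18338 (iv0 F22373) F26353 (iv0 F26347) (iv4 F21478)
theorem F56728 : act 1 n25584 = n35995 := d15_0 (iv0 D35995) F28414 (iv2 F40479)
theorem F56729 : act 2 n32733 = n35995 := d2_3 F56727 F37536 (iv5 F51814)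
theorem F56730 : act 7 n32734 = n35995 := d13_0 F56727 (iv7 F40670) (iv5 F51819)
def n35996 : Q := act 1 n17426
theorem D35996 : act 1 n17426 = n35996 := rfl
theorem F56731 : act 1 n35996 = n25584 := d15_1 D35996 F40481 (iv2 F28413)
theorem F56732 : act 7 n35996 = n32733 := d15_2 (iv0 D35995) D35996 F56729
theorem F56733 : act 5 n35996 = n28091 := d17_7 (iv1 F22848) F22845 (iv1 F22720) (iv5 D8180) D8179 D17426 D35996 F45395 (iv4 D25562)
theorem F56734 : act 2 n32734 = n35996 := d2_3 F56733 F45390 (iv5 F51819)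
theorem F56735 : act 3 n32415 = n35996 := d6_3 F56733 F45391 (iv5 F51468)
theorem F56736 : act 4 n21175 = n35996 := d16_2 (iv4 F15950) D21175 F56733 (iv4 D28091) (iv5 F28405) D35992 F56708 (iv7 F32623) (iv2 D20526)
def n35997 : Q := act 4 n17426
theorem D35997 : act 4 n17426 = n35997 := rfl
theorem F56737 : act 2 n35997 = n32735 := d1_1 D35997 (iv4 D32735) (iv2 F28413)
theorem F56738 : act 7 n35997 = n35954 := d11_2 (iv7 F28414) D35997 (iv4 D35954)
theorem F56739 : act 5 n35997 = n21306 := d16_1 D35997 F34056 (iv5 F40323) (iv4 D25495) F20047 D12164 D25584 F40481 (iv2 F28413)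
theorem F56740 : act 1 n35997 = n21318 := d18_6 F26341 F12920 (iv1 F8886) D8179 D17426 D35997 (iv4 F42488) F42490 (iv5 D25542)
def n35998 : Q := act 6 n17426
theorem D35998 : act 6 n17426 = n35998 := rfl
theorem F56741 : act 2 n35998 = n32736 := d3_1 D35998 (iv6 D32736) (iv2 F28413)
theorem F56742 : act 3 n35998 = n33060 := d7_1 D35998 (iv6 D33060) (iv3 F35193)
def n35999 : Q := act 5 n17428
theorem D35999 : act 5 n17428 = n35999 := rfl
theorem F56743 : act 2 n35999 = n28601 := d2_1 D35999 F46162 F42941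
theorem F56744 : act 3 n35999 = n26577 := d6_1 D35999 F42569 F28420
theorem F56745 : act 7 n35999 = n28622 := d13_2 F50857 D35999 (iv5 F50856)
theorem F56746 : act 0 n35999 = n26258 := d17_2 (iv1 F28419) D35999 F41697 F21015 D26442 F42285 (iv5 D16929) F21466 F26714
theorem F56747 : act 1 n35999 = n28563 := d17_6 (iv1 F25379) D15919 (iv1 F52179) F52180 (iv4 F28421) D35999 (iv5 D28563) (iv0 D13617) D13620
theorem F56748 : act 4 n35999 = n33006 := d18_5 (iv1 F9537) D7936 (iv1 F27852) (iv4 F28421) D35999 F52184 (iv4 D15921) F30293 F21129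
theorem F56749 : act 4 n34961 = n33529 := d19_14 (iv1 F56747) (iv5 D35999) F28421 F40364 (iv1 D25536) D25538 (iv4 F54028) F51067 (iv1 F54198) (iv5 D32640) (iv4 F27925) F27924 (iv1 F54155) D34961 F52847 (iv1 F52738) F52739 (iv4 F52658) F52654
theorem F56750 : act 0 n32583 = n28573 := d21_7 D28563 (iv1 F56747) (iv5 D35999) F54153 (iv1 D15421) D15425 D32583 (iv5 D28573) (iv6 D13622) D13617
def n36000 : Q := act 0 n17429
theorem D36000 : act 0 n17429 = n36000 := rfl
def n36001 : Q := act 1 n17429
theorem D36001 : act 1 n17429 = n36001 := rfl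
def n36002 : Q := act 7 n17429
theorem D36002 : act 7 n17429 = n36002 := rfl
theorem F56751 : act 3 n36002 = n17439 := d8_1 D36002 (iv7 D17439) (iv3 F28422)
theorem F56752 : act 5 n36002 = n21210 := d13_1 D36002 (iv7 D21210) (iv5 F28423)
def n36003 : Q := act 6 n17430
theorem D36003 : act 6 n17430 = n36003 := rfl
theorem F56753 : act 2 n36003 = n18231 := d3_1 D36003 (iv6 D18231) (iv2 F28424)
theorem F56754 : act 3 n36003 = n18271 := d7_1 D36003 (iv6 D18271) (iv3 F28425)
theorem F56755 : act 4 n36003 = n35403 := d10_1 D36003 (iv6 D35403) (iv4 F28429)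
def n36004 : Q := act 5 n17431
theorem D36004 : act 5 n17431 = n36004 := rfl
theorem F56756 : act 2 n36004 = n34458 := d2_1 D36004 (iv5 D34458) (iv2 F28430)
theorem F56757 : act 3 n36004 = n34462 := d6_1 D36004 (iv5 D34462) (iv3 F28431)
theorem F56758 : act 0 n36004 = n17442 := d17_2 F43343 D36004 (iv5 D17442) F12982 D8204 (iv0 F21356) (iv5 D12865) D12864 D26877
theorem F56759 : act 1 n36004 = n27113 := d17_6 (iv1 F28090) D27064 F55788 (iv5 D35105) (iv4 F28432) D36004 (iv5 D27113) (iv0 F21598) (iv4 F28087)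
theorem F56760 : act 4 n36004 = n35344 := d18_5 (iv1 F12860) D8081 (iv1 F28310) (iv4 F28432) D36004 F56063 (iv4 D17237) F28103 F28101
def n36005 : Q := act 0 n17432
theorem D36005 : act 0 n17432 = n36005 := rfl
def n36006 : Q := act 1 n17432
theorem D36006 : act 1 n17432 = n36006 := rfl
def n36007 : Q := act 7 n17432
theorem D36007 : act 7 n17432 = n36007 := rfl
def n36008 : Q := act 3 n17433
theorem D36008 : act 3 n17433 = n36008 := rfl
theorem F56761 : act 4 n36008 = n19163 := d5_2 (iv4 F28435) D36008 (iv3 D19163) (iv4 D9007) (iv3 F14041)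
theorem F56762 : act 0 n36008 = n33083 := d20_4 F13318 (iv1 F14044) (iv4 F28435) D36008 (iv3 D33083) (iv4 D15958) (iv1 D7473) D7474 F11727 D8376
def n36009 : Q := act 5 n17433
theorem D36009 : act 5 n17433 = n36009 := rfl
theorem F56763 : act 4 n36009 = n34566 := d9_1 D36009 F54833 F28093 (iv5 D8571) (iv4 F6465) D6240 D13109 D27363 (iv4 F54775) (iv5 D34532) (iv4 D16748) F12369 F6430 D9005 (iv4 F28435)
theorem F56764 : act 0 n36009 = n26881 := d17_2 (iv1 F28434) D36009 (iv5 D26881) (iv4 D12867) F13446 (iv0 D2596) D2599 F13413 D8201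
theorem F56765 : act 1 n36009 = n26888 := d17_6 (iv1 F21630) (iv5 D13008) F9630 D9005 (iv4 F28435) D36009 (iv5 D26888) (iv0 F21931) (iv4 D13150)
def n36010 : Q := act 6 n17433
theorem D36010 : act 6 n17433 = n36010 := rfl
theorem F56766 : act 4 n36010 = n19160 := d10_1 D36010 (iv6 D19160) (iv4 F28435)
def n36011 : Q := act 1 n17434
theorem D36011 : act 1 n17434 = n36011 := rfl
theorem F56767 : act 5 n36011 = n32412 := d17_7 (iv1 F43646) (iv5 D27013) (iv1 F26784) (iv5 F27028) F30271 (iv5 F30273) D36011 F51930 F51929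
theorem F56768 : act 2 n32424 = n36011 := d2_3 F56767 F51461 D32424
def n36012 : Q := act 2 n17434
theorem D36012 : act 2 n17434 = n36012 := rfl
theorem F56769 : act 5 n36012 = n23908 := d2_2 (iv5 F30273) D36012 (iv2 F37316)
theorem F56770 : act 1 n36012 = n32424 := d15_0 F51484 F28867 D36012
def n36013 : Q := act 6 n17434
theorem D36013 : act 6 n17434 = n36013 := rfl
theorem F56771 : act 3 n36013 = n17436 := d7_1 D36013 (iv6 D17436) D17434
def n36014 : Q := act 0 n17435
theorem D36014 : act 0 n17435 = n36014 := rfl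
theorem F56772 : act 5 n36014 = n17459 := d17_1 D36014 (iv1 F28458) D17469 (iv4 F43702) (iv5 D27042) (iv0 D12957) D12959 (iv0 F28718) F28716
theorem F56773 : act 4 n36014 = n18312 := d18_1 D36014 F29512 (iv4 F28896) (iv5 D17762) F13318 F13359 D13109 F21873 D17435
theorem F56774 : act 1 n17444 = n36014 := d15_0 (iv0 D36014) (iv7 F28869) F28868
theorem F56775 : act 7 n27485 = n36014 := d13_0 F56772 (iv7 F28459) D27485
def n36015 : Q := act 1 n17435
theorem D36015 : act 1 n17435 = n36015 := rfl
theorem F56776 : act 1 n36015 = n17444 := d15_1 D36015 (iv7 F28885) F28883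
theorem F56777 : act 5 n36015 = n17460 := d17_7 (iv1 D3703) (iv5 D1624) D1621 D3693 D8192 D17435 D36015 F28460 (iv4 D8219)
theorem F56778 : act 4 n36015 = n18353 := d17_9 (iv1 D18353) F13555 (iv1 F27500) D34532 F54775 (iv5 D27363) F21873 D17435 D36015
theorem F56779 : act 2 n27485 = n36015 := d16_9 F56778 F29536 (iv4 F28429) (iv5 D17430) F12964 (iv5 F21895) (iv4 F28457) (iv5 F56772) (iv7 F56775)
def n36016 : Q := act 6 n17435
theorem D36016 : act 6 n17435 = n36016 := rfl
def n36017 : Q := act 0 n17436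
theorem D36017 : act 0 n17436 = n36017 := rfl
def n36018 : Q := act 1 n17436
theorem D36018 : act 1 n17436 = n36018 := rfl
def n36019 : Q := act 5 n17436
theorem D36019 : act 5 n17436 = n36019 := rfl
def n36020 : Q := act 7 n17436
theorem D36020 : act 7 n17436 = n36020 := rfl
theorem F56780 : act 4 n36020 = n17439 := d11_1 D36020 (iv7 D17439) (iv4 F28436)
def n36022 : Q := act 3 n17437
theorem D36022 : act 3 n17437 = n36022 := rfl
def n36023 : Q := act 4 n17437
theorem D36023 : act 4 n17437 = n36023 := rfl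
def n36024 : Q := act 5 n17437
theorem D36024 : act 5 n17437 = n36024 := rfl
def n36025 : Q := act 6 n17437
theorem D36025 : act 6 n17437 = n36025 := rfl
def n36027 : Q := act 3 n17438
theorem D36027 : act 3 n17438 = n36027 := rfl
def n36029 : Q := act 5 n17438
theorem D36029 : act 5 n17438 = n36029 := rfl
theorem F56783 : act 6 n17446 = n36029 := d21_5 (iv5 D6100) (iv1 F4098) D3698 D8202 D17446 (iv5 D36029) (iv1 D17438) F17022 (iv6 D8216) (iv1 F9476)
def n36031 : Q := act 0 n17441
theorem D36031 : act 0 n17441 = n36031 := rfl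
def n36032 : Q := act 1 n17441
theorem D36032 : act 1 n17441 = n36032 := rfl
def n36033 : Q := act 5 n17441
theorem D36033 : act 5 n17441 = n36033 := rfl
theorem F56784 : act 3 n36033 = n21565 := d6_1 D36033 (iv5 D21565) (iv3 F28438)
theorem F56785 : act 6 n36033 = n17442 := d12_2 D17441 D36033 (iv5 D17442) (iv6 D8200) D8199
def n36034 : Q := act 7 n17441
theorem D36034 : act 7 n17441 = n36034 := rfl
theorem F56786 : act 3 n36034 = n21566 := d8_1 D36034 (iv7 D21566) (iv3 F28438)
def n36035 : Q := act 0 n17443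
theorem D36035 : act 0 n17443 = n36035 := rfl
def n36036 : Q := act 1 n17443
theorem D36036 : act 1 n17443 = n36036 := rfl
theorem F56787 : act 3 n33075 = n36036 := d20_3 (iv4 F46148) (iv1 F51729) (iv4 F52302) (iv1 D36036) (iv3 D17443) (iv4 D8201) (iv1 F13413) D6175 (iv3 F21022) D26449
theorem F56788 : act 4 n34573 = n36036 := d20_6 (iv4 D7824) (iv1 D3552) D3553 D7828 D16762 D34573 (iv1 D36036) (iv4 F34451) (iv3 D21945) F16684
def n36037 : Q := act 2 n17443
theorem D36037 : act 2 n17443 = n36037 := rfl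
def n36038 : Q := act 5 n17443
theorem D36038 : act 5 n17443 = n36038 := rfl
theorem F56789 : act 3 n36038 = n17444 := d6_1 D36038 (iv5 D17444) D17443
def n36039 : Q := act 6 n17443
theorem D36039 : act 6 n17443 = n36039 := rfl
theorem F56790 : act 3 n36039 = n17445 := d7_1 D36039 (iv6 D17445) D17443
def n36040 : Q := act 6 n17444
theorem D36040 : act 6 n17444 = n36040 := rfl
def n36041 : Q := act 0 n17445
theorem D36041 : act 0 n17445 = n36041 := rfl
def n36042 : Q := act 1 n17445
theorem D36042 : act 1 n17445 = n36042 := rfl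
def n36043 : Q := act 5 n17445
theorem D36043 : act 5 n17445 = n36043 := rfl
def n36044 : Q := act 7 n17445
theorem D36044 : act 7 n17445 = n36044 := rfl
theorem F56791 : act 4 n36044 = n17449 := d11_1 D36044 (iv7 D17449) (iv4 F28440)
def n36050 : Q := act 3 n17447
theorem D36050 : act 3 n17447 = n36050 := rfl
def n36051 : Q := act 4 n17447
theorem D36051 : act 4 n17447 = n36051 := rfl
def n36052 : Q := act 5 n17447
theorem D36052 : act 5 n17447 = n36052 := rfl
def n36053 : Q := act 6 n17447
theorem D36053 : act 6 n17447 = n36053 := rfl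
def n36054 : Q := act 0 n17448
theorem D36054 : act 0 n17448 = n36054 := rfl
def n36055 : Q := act 1 n17448
theorem D36055 : act 1 n17448 = n36055 := rfl
def n36056 : Q := act 4 n17448
theorem D36056 : act 4 n17448 = n36056 := rfl
theorem F56794 : act 6 n36056 = n17450 := d10_2 (iv6 F28441) D36056 (iv4 D17450)
def n36057 : Q := act 7 n17448
theorem D36057 : act 7 n17448 = n36057 := rfl
theorem F56795 : act 5 n36057 = n17449 := d13_1 D36057 (iv7 D17449) D17448
def n36058 : Q := act 0 n17450
theorem D36058 : act 0 n17450 = n36058 := rfl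
theorem F56796 : act 4 n36058 = n35318 := d18_3 F21356 D17450 D36058 F56037 (iv4 F28324) (iv0 F30729) F27360 (iv0 F16911) D12865
theorem F56797 : act 1 n27114 = n36058 := d15_0 (iv0 D36058) (iv7 F28513) (iv2 F43834)
def n36059 : Q := act 1 n17450
theorem D36059 : act 1 n17450 = n36059 := rfl
theorem F56798 : act 1 n36059 = n27114 := d15_1 D36059 F43835 F28503
theorem F56799 : act 4 n36059 = n35105 := d18_7 (iv1 F21642) (iv4 F27447) F27448 F12982 D8204 D17450 D36059 (iv0 F55788) (iv5 D27064)
def n36060 : Q := act 3 n17450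
theorem D36060 : act 3 n17450 = n36060 := rfl
def n36061 : Q := act 5 n17450
theorem D36061 : act 5 n17450 = n36061 := rfl
def n36062 : Q := act 0 n17451
theorem D36062 : act 0 n17451 = n36062 := rfl
def n36063 : Q := act 1 n17451
theorem D36063 : act 1 n17451 = n36063 := rfl
def n36065 : Q := act 0 n17452
theorem D36065 : act 0 n17452 = n36065 := rfl
def n36066 : Q := act 1 n17452
theorem D36066 : act 1 n17452 = n36066 := rfl
theorem F56801 : act 1 n36066 = n17487 := d15_1 D36066 (iv7 D17487) (iv2 F28442)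
def n36067 : Q := act 5 n17452
theorem D36067 : act 5 n17452 = n36067 := rfl
theorem F56802 : act 2 n36067 = n17486 := d2_1 D36067 (iv5 D17486) (iv2 F28442)
def n36068 : Q := act 7 n17452
theorem D36068 : act 7 n17452 = n36068 := rfl
theorem F56803 : act 2 n36068 = n17487 := d4_1 D36068 (iv7 D17487) (iv2 F28442)
theorem F56804 : act 4 n36068 = n17456 := d11_1 D36068 (iv7 D17456) (iv4 F28443)
theorem F56805 : act 1 n17487 = n36065 := d15_0 (iv0 D36065) D36068 F56803
theorem F56806 : act 1 n17485 = n36068 := d15_1 D17485 (iv7 D36068) F28442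
theorem F56807 : act 4 n18577 = n36065 := d20_6 F41776 (iv1 D7273) F5331 (iv3 F5856) D8728 D18577 (iv1 F56805) F28478 F13000 (iv1 F9581)
theorem F56808 : act 1 n36068 = n17484 := d15_0 (iv0 D17484) D17487 (iv2 F56803)
def n36069 : Q := act 2 n17453
theorem D36069 : act 2 n17453 = n36069 := rfl
theorem F56809 : act 7 n17454 = n36069 := d15_2 (iv0 D17453) D17454 (iv2 D36069)
def n36070 : Q := act 3 n17453
theorem D36070 : act 3 n17453 = n36070 := rfl
def n36071 : Q := act 4 n17453
theorem D36071 : act 4 n17453 = n36071 := rfl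
def n36072 : Q := act 5 n17453
theorem D36072 : act 5 n17453 = n36072 := rfl
def n36073 : Q := act 6 n17453
theorem D36073 : act 6 n17453 = n36073 := rfl
theorem F56810 : act 5 n36073 = n17783 := d21_6 (iv5 F13324) (iv1 F4092) D3700 D8207 D17453 D36073 (iv1 D17783) (iv5 D8382) (iv6 D3759) D3756
def n36075 : Q := act 3 n17454
theorem D36075 : act 3 n17454 = n36075 := rfl
theorem F56812 : act 4 n36075 = n27710 := d20_6 (iv4 F42637) (iv1 F21124) F11830 (iv3 F13000) (iv1 F28444) D36075 (iv1 D27710) F22034 F9786 D6288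
def n36076 : Q := act 4 n17454
theorem D36076 : act 4 n17454 = n36076 := rfl
def n36077 : Q := act 5 n17454
theorem D36077 : act 5 n17454 = n36077 := rfl
theorem F56813 : act 6 n26913 = n36077 := d21_5 (iv5 D12882) (iv1 D6107) D6108 (iv6 F21379) D26913 (iv5 D36077) (iv1 D17454) D17455 F28446 F21390
def n36078 : Q := act 6 n17454
theorem D36078 : act 6 n17454 = n36078 := rfl
def n36079 : Q := act 0 n17455
theorem D36079 : act 0 n17455 = n36079 := rfl
def n36080 : Q := act 1 n17455
theorem D36080 : act 1 n17455 = n36080 := rfl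
theorem F56814 : act 1 n36080 = n17501 := d15_1 D36080 (iv7 D17501) (iv2 F28445)
theorem F56815 : act 5 n27134 = n36080 := d21_6 F13450 (iv1 D2597) D2599 D6176 D12996 D27134 (iv1 D36080) (iv5 D17455) (iv6 D8207) (iv1 F9481)
def n36081 : Q := act 4 n17455
theorem D36081 : act 4 n17455 = n36081 := rfl
theorem F56816 : act 2 n36081 = n17500 := d1_1 D36081 (iv4 D17500) (iv2 F28445)
theorem F56817 : act 6 n36081 = n17457 := d10_2 (iv6 F28446) D36081 (iv4 D17457)
def n36082 : Q := act 7 n17455
theorem D36082 : act 7 n17455 = n36082 := rfl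
theorem F56818 : act 2 n36082 = n17501 := d4_1 D36082 (iv7 D17501) (iv2 F28445)
theorem F56819 : act 5 n36082 = n17456 := d13_1 D36082 (iv7 D17456) D17455
theorem F56820 : act 1 n17501 = n36079 := d15_0 (iv0 D36079) D36082 F56818
theorem F56821 : act 1 n17499 = n36082 := d15_1 D17499 (iv7 D36082) F28445
theorem F56822 : act 1 n36082 = n17498 := d15_0 (iv0 D17498) D17501 (iv2 F56818)
def n36083 : Q := act 3 n17457
theorem D36083 : act 3 n17457 = n36083 := rfl
def n36084 : Q := act 5 n17457
theorem D36084 : act 5 n17457 = n36084 := rfl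
theorem F56823 : act 2 n36084 = n17521 := d2_1 D36084 (iv5 D17521) (iv2 F28451)
def n36085 : Q := act 7 n17457
theorem D36085 : act 7 n17457 = n36085 := rfl
theorem F56824 : act 2 n36085 = n17522 := d4_1 D36085 (iv7 D17522) (iv2 F28451)
theorem F56825 : act 4 n36085 = n17458 := d11_1 D36085 (iv7 D17458) D17457
theorem F56826 : act 1 n17519 = n36085 := d15_1 D17519 (iv7 D36085) F28451
theorem F56827 : act 1 n36085 = n17518 := d15_1 F56826 (iv7 F56230) F56229
def n36086 : Q := act 6 n17458
theorem D36086 : act 6 n17458 = n36086 := rfl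
theorem F56828 : act 2 n36086 = n17523 := d3_1 D36086 (iv6 D17523) (iv2 F28452)
theorem F56829 : act 3 n36086 = n35340 := d7_1 D36086 (iv6 D35340) (iv3 F28453)
def n36087 : Q := act 3 n17459
theorem D36087 : act 3 n17459 = n36087 := rfl
theorem F56830 : act 4 n36087 = n27409 := d5_2 (iv4 F28457) D36087 (iv3 D27409) (iv4 D13126) D13125
theorem F56831 : act 7 n36087 = n27484 := d8_2 F28459 D36087 (iv3 D27484)
def n36088 : Q := act 6 n17459
theorem D36088 : act 6 n17459 = n36088 := rfl
theorem F56832 : act 4 n36088 = n27408 := d10_1 D36088 (iv6 D27408) (iv4 F28457)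
def n36089 : Q := act 3 n17460
theorem D36089 : act 3 n17460 = n36089 := rfl
def n36090 : Q := act 6 n17460
theorem D36090 : act 6 n17460 = n36090 := rfl
theorem F56834 : act 4 n36090 = n27483 := d10_1 D36090 (iv6 D27483) (iv4 F28461)
def n36091 : Q := act 1 n17461
theorem D36091 : act 1 n17461 = n36091 := rfl
theorem F56835 : act 5 n36091 = n23898 := d17_7 F42379 (iv5 D26485) (iv1 D12647) D12650 D26492 F42458 D36091 F37303 F30275
theorem F56836 : act 2 n23909 = n36091 := d2_3 F56835 F37300 D23909
def n36092 : Q := act 2 n17461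
theorem D36092 : act 2 n17461 = n36092 := rfl
theorem F56837 : act 5 n36092 = n32800 := d2_2 F42458 D36092 (iv2 F51931)
theorem F56838 : act 1 n36092 = n23909 := d15_0 (iv0 F43352) F43351 D36092
def n36093 : Q := act 6 n17461
theorem D36093 : act 6 n17461 = n36093 := rfl
theorem F56839 : act 3 n36093 = n17463 := d7_1 D36093 (iv6 D17463) D17461
def n36094 : Q := act 0 n17462
theorem D36094 : act 0 n17462 = n36094 := rfl
theorem F56840 : act 5 n36094 = n17746 := d17_1 D36094 (iv1 F28860) D17756 F28884 F28155 (iv0 D13013) D13015 (iv0 F42451) F42455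
theorem F56841 : act 4 n36094 = n18185 := d18_1 D36094 F29353 (iv4 F43385) (iv5 D26894) F21372 F21897 (iv4 F28457) (iv0 D17459) D17462
theorem F56842 : act 1 n17469 = n36094 := d15_0 (iv0 D36094) (iv7 F43354) F43353
theorem F56843 : act 2 n36009 = n36094 := d1_3 F56841 F54834 (iv4 F56763)
def n36095 : Q := act 1 n17462
theorem D36095 : act 1 n17462 = n36095 := rfl
theorem F56845 : act 1 n36095 = n17469 := d15_1 D36095 (iv7 F43372) F43370
theorem F56846 : act 7 n36095 = n36009 := d15_2 (iv0 D36094) D36095 F56843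
theorem F56847 : act 5 n36095 = n17747 := d17_7 (iv1 D3757) (iv5 D1642) D1639 F13334 D8214 D17462 D36095 F28863 (iv4 D8373)
theorem F56848 : act 4 n36095 = n22100 := d17_9 (iv1 D22100) F16732 (iv1 F13543) D18312 (iv4 F56773) F56772 (iv0 D17459) D17462 D36095
def n36096 : Q := act 6 n17462
theorem D36096 : act 6 n17462 = n36096 := rfl
def n36097 : Q := act 0 n17463
theorem D36097 : act 0 n17463 = n36097 := rfl
def n36098 : Q := act 1 n17463
theorem D36098 : act 1 n17463 = n36098 := rfl
def n36099 : Q := act 5 n17463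
theorem D36099 : act 5 n17463 = n36099 := rfl
def n36100 : Q := act 7 n17463
theorem D36100 : act 7 n17463 = n36100 := rfl
theorem F56850 : act 4 n36100 = n17466 := d11_1 D36100 (iv7 D17466) (iv4 F28463)
def n36101 : Q := act 2 n17464
theorem D36101 : act 2 n17464 = n36101 := rfl
theorem F56851 : act 7 n17465 = n36101 := d15_2 (iv0 D17464) D17465 (iv2 D36101)
def n36102 : Q := act 3 n17464
theorem D36102 : act 3 n17464 = n36102 := rfl
def n36103 : Q := act 4 n17464
theorem D36103 : act 4 n17464 = n36103 := rfl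
def n36104 : Q := act 5 n17464
theorem D36104 : act 5 n17464 = n36104 := rfl
def n36105 : Q := act 6 n17464
theorem D36105 : act 6 n17464 = n36105 := rfl
theorem F56852 : act 5 n36105 = n26891 := d21_6 (iv5 D1642) D1639 F13334 D8216 D17464 D36105 (iv1 D26891) F21371 (iv6 D8375) (iv1 D3757)
def n36109 : Q := act 5 n17465
theorem D36109 : act 5 n17465 = n36109 := rfl
theorem F56854 : act 6 n26890 = n36109 := d21_5 (iv5 D3754) (iv1 F4173) (iv5 F13450) D12870 D26890 (iv5 D36109) (iv1 D17465) (iv5 F17022) (iv6 D8193) F13415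
def n36111 : Q := act 0 n17467
theorem D36111 : act 0 n17467 = n36111 := rfl
def n36112 : Q := act 1 n17467
theorem D36112 : act 1 n17467 = n36112 := rfl
theorem F56855 : act 1 n36112 = n21923 := d15_1 D36112 (iv7 D21923) (iv2 F28465)
def n36113 : Q := act 5 n17467
theorem D36113 : act 5 n17467 = n36113 := rfl
theorem F56856 : act 2 n36113 = n21922 := d2_1 D36113 (iv5 D21922) (iv2 F28465)
theorem F56857 : act 3 n36113 = n17473 := d6_1 D36113 (iv5 D17473) (iv3 F28466)
theorem F56858 : act 6 n36113 = n17509 := d12_2 D17467 D36113 (iv5 D17509) F16802 (iv5 F13338)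
def n36114 : Q := act 7 n17467
theorem D36114 : act 7 n17467 = n36114 := rfl
theorem F56859 : act 2 n36114 = n21923 := d4_1 D36114 (iv7 D21923) (iv2 F28465)
theorem F56860 : act 3 n36114 = n17474 := d8_1 D36114 (iv7 D17474) (iv3 F28466)
theorem F56861 : act 6 n36114 = n21930 := d14_1 D36114 (iv7 D21930) (iv6 D10461) (iv7 F13339) D17467
theorem F56862 : act 1 n21923 = n36111 := d15_0 (iv0 D36111) D36114 F56859
theorem F56863 : act 1 n21921 = n36114 := d15_1 D21921 (iv7 D36114) F28465
theorem F56864 : act 1 n36114 = n21920 := d15_0 (iv0 D21920) D21923 (iv2 F56859)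
def n36115 : Q := act 0 n17468
theorem D36115 : act 0 n17468 = n36115 := rfl
def n36116 : Q := act 1 n17468
theorem D36116 : act 1 n17468 = n36116 := rfl
theorem F56865 : act 4 n18361 = n36116 := d20_6 (iv4 D3877) (iv1 D1682) D1683 D3882 D8650 D18361 (iv1 D36116) (iv4 F29478) (iv3 D18280) (iv1 F13537)
def n36117 : Q := act 2 n17468
theorem D36117 : act 2 n17468 = n36117 := rfl
def n36118 : Q := act 5 n17468
theorem D36118 : act 5 n17468 = n36118 := rfl
theorem F56866 : act 3 n36118 = n17469 := d6_1 D36118 (iv5 D17469) D17468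
def n36119 : Q := act 6 n17468
theorem D36119 : act 6 n17468 = n36119 := rfl
theorem F56867 : act 3 n36119 = n17470 := d7_1 D36119 (iv6 D17470) D17468
def n36120 : Q := act 6 n17469
theorem D36120 : act 6 n17469 = n36120 := rfl
def n36121 : Q := act 0 n17470
theorem D36121 : act 0 n17470 = n36121 := rfl
def n36122 : Q := act 1 n17470
theorem D36122 : act 1 n17470 = n36122 := rfl
def n36123 : Q := act 5 n17470
theorem D36123 : act 5 n17470 = n36123 := rfl
def n36124 : Q := act 7 n17470
theorem D36124 : act 7 n17470 = n36124 := rfl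
theorem F56868 : act 4 n36124 = n17474 := d11_1 D36124 (iv7 D17474) (iv4 F28467)
def n36128 : Q := act 5 n17471
theorem D36128 : act 5 n17471 = n36128 := rfl
def n36129 : Q := act 6 n17471
theorem D36129 : act 6 n17471 = n36129 := rfl
def n36132 : Q := act 4 n17472
theorem D36132 : act 4 n17472 = n36132 := rfl
def n36133 : Q := act 5 n17472
theorem D36133 : act 5 n17472 = n36133 := rfl
def n36134 : Q := act 6 n17472
theorem D36134 : act 6 n17472 = n36134 := rfl
def n36135 : Q := act 0 n17473
theorem D36135 : act 0 n17473 = n36135 := rfl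
def n36136 : Q := act 1 n17473
theorem D36136 : act 1 n17473 = n36136 := rfl
theorem F56871 : act 5 n36025 = n36136 := d21_6 (iv5 D1624) D1621 D3693 D8193 D17437 D36025 (iv1 D36136) (iv5 D17473) (iv6 D8221) (iv1 D3703)
def n36137 : Q := act 4 n17473
theorem D36137 : act 4 n17473 = n36137 := rfl
theorem F56872 : act 6 n36137 = n17511 := d10_2 (iv6 F28468) D36137 (iv4 D17511)
def n36138 : Q := act 7 n17473
theorem D36138 : act 7 n17473 = n36138 := rfl
theorem F56873 : act 5 n36138 = n17474 := d13_1 D36138 (iv7 D17474) D17473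
theorem F56874 : act 6 n36138 = n36057 := d14_1 D36138 (iv7 D36057) F28441 (iv7 F13014) (iv6 F28468)
def n36139 : Q := act 0 n17475
theorem D36139 : act 0 n17475 = n36139 := rfl
def n36140 : Q := act 1 n17475
theorem D36140 : act 1 n17475 = n36140 := rfl
def n36141 : Q := act 2 n17475
theorem D36141 : act 2 n17475 = n36141 := rfl
theorem F56875 : act 3 n36141 = n18918 := d0_2 D17475 D36141 (iv2 F34393) F34394 (iv2 F21632)
theorem F56876 : act 5 n18917 = n36141 := d6_0 F56875 (iv5 D18918) D18917
def n36142 : Q := act 4 n17475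
theorem D36142 : act 4 n17475 = n36142 := rfl
theorem F56877 : act 3 n36142 = n18129 := d5_1 D36142 (iv4 D18129) (iv3 F21628) F21631 D17475
theorem F56878 : act 0 n36142 = n28625 := d20_4 F28199 F28019 D18129 (iv3 F56877) (iv3 D28625) (iv4 D13650) (iv1 D6489) D6490 (iv3 F12873) D17247
def n36143 : Q := act 5 n17475
theorem D36143 : act 5 n17475 = n36143 := rfl
theorem F56879 : act 2 n36143 = n18917 := d2_1 D36143 F56876 (iv2 D36141)
theorem F56880 : act 3 n36143 = n17476 := d6_1 D36143 (iv5 D17476) D17475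
def n36144 : Q := act 6 n17475
theorem D36144 : act 6 n17475 = n36144 := rfl
theorem F56881 : act 3 n36144 = n17477 := d7_1 D36144 (iv6 D17477) D17475
def n36145 : Q := act 6 n17476
theorem D36145 : act 6 n17476 = n36145 := rfl
def n36148 : Q := act 5 n17477
theorem D36148 : act 5 n17477 = n36148 := rfl
def n36149 : Q := act 7 n17477
theorem D36149 : act 7 n17477 = n36149 := rfl
def n36150 : Q := act 0 n17478
theorem D36150 : act 0 n17478 = n36150 := rfl
theorem F56882 : act 5 n36150 = n18937 := d17_1 D36150 (iv1 F30239) D18949 F30261 (iv5 D9081) (iv0 D4083) D4085 D9087 (iv4 F28470)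
theorem F56883 : act 4 n36150 = n21203 := d18_1 D36150 F33443 (iv4 F35272) F35271 F28069 F16384 (iv4 F30185) (iv0 D18908) F28471
theorem F56884 : act 1 n18918 = n36150 := d15_0 (iv0 D36150) (iv7 F34396) F34393
def n36151 : Q := act 1 n17478
theorem D36151 : act 1 n17478 = n36151 := rfl
theorem F56885 : act 1 n36151 = n18918 := d15_1 D36151 (iv7 F34364) F34363
theorem F56886 : act 5 n36151 = n18938 := d17_7 (iv1 D3963) (iv5 D1717) D1714 D3955 D8866 F28471 D36151 F30241 (iv4 D8883)
theorem F56887 : act 4 n36151 = n23316 := d18_7 (iv1 F30597) F30599 F14260 D9198 (iv5 F14358) (iv4 F28470) D36151 F36429 (iv5 D19073)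
def n36152 : Q := act 6 n17478
theorem D36152 : act 6 n17478 = n36152 := rfl
theorem F56888 : act 3 n36152 = n17480 := d7_1 D36152 (iv6 D17480) D17478
theorem F56889 : act 4 n36152 = n19352 := d10_1 D36152 (iv6 D19352) (iv4 F28470)
def n36153 : Q := act 6 n17479
theorem D36153 : act 6 n17479 = n36153 := rfl
theorem F56890 : act 3 n36153 = n18910 := d7_1 D36153 (iv6 D18910) (iv3 F28472)
theorem F56891 : act 4 n36153 = n34567 := d10_1 D36153 (iv6 D34567) (iv4 F28473)
def n36154 : Q := act 0 n17480
theorem D36154 : act 0 n17480 = n36154 := rfl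
def n36156 : Q := act 5 n17480
theorem D36156 : act 5 n17480 = n36156 := rfl
def n36157 : Q := act 7 n17480
theorem D36157 : act 7 n17480 = n36157 := rfl
def n36158 : Q := act 3 n17481
theorem D36158 : act 3 n17481 = n36158 := rfl
theorem F56892 : act 2 n36158 = n18948 := d0_1 D36158 (iv3 D18948) (iv2 F30216) F30217 F28901
theorem F56893 : act 5 n36158 = n27121 := d6_2 (iv5 F28475) D36158 (iv3 D27121)
def n36159 : Q := act 6 n17481
theorem D36159 : act 6 n17481 = n36159 := rfl
def n36160 : Q := act 6 n17482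
theorem D36160 : act 6 n17482 = n36160 := rfl
theorem F56894 : act 3 n36160 = n18940 := d7_1 D36160 (iv6 D18940) F28477
def n36161 : Q := act 0 n17483
theorem D36161 : act 0 n17483 = n36161 := rfl
def n36162 : Q := act 1 n17483
theorem D36162 : act 1 n17483 = n36162 := rfl
def n36163 : Q := act 5 n17483
theorem D36163 : act 5 n17483 = n36163 := rfl
def n36164 : Q := act 7 n17483
theorem D36164 : act 7 n17483 = n36164 := rfl
def n36165 : Q := act 2 n17484
theorem D36165 : act 2 n17484 = n36165 := rfl
theorem F56896 : act 7 n17485 = n36165 := d15_2 (iv0 D17484) D17485 (iv2 D36165)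
def n36166 : Q := act 3 n17484
theorem D36166 : act 3 n17484 = n36166 := rfl
def n36167 : Q := act 4 n17484
theorem D36167 : act 4 n17484 = n36167 := rfl
def n36168 : Q := act 5 n17484
theorem D36168 : act 5 n17484 = n36168 := rfl
def n36169 : Q := act 6 n17484
theorem D36169 : act 6 n17484 = n36169 := rfl
def n36170 : Q := act 7 n17484
theorem D36170 : act 7 n17484 = n36170 := rfl
theorem F56897 : act 2 n36170 = n17485 := d4_1 D36170 F56896 (iv2 D36165)
def n36171 : Q := act 3 n17485
theorem D36171 : act 3 n17485 = n36171 := rfl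
def n36172 : Q := act 4 n17485
theorem D36172 : act 4 n17485 = n36172 := rfl
theorem F56898 : act 3 n18564 = n36172 := d20_5 D8244 (iv1 F30464) F11579 (iv3 F13635) (iv1 F29802) (iv4 D36172) (iv1 D17485) F12997 F5710 D3710
def n36173 : Q := act 5 n17485
theorem D36173 : act 5 n17485 = n36173 := rfl
def n36174 : Q := act 6 n17485
theorem D36174 : act 6 n17485 = n36174 := rfl
def n36175 : Q := act 0 n17486
theorem D36175 : act 0 n17486 = n36175 := rfl
def n36176 : Q := act 1 n17486
theorem D36176 : act 1 n17486 = n36176 := rfl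
def n36178 : Q := act 7 n17486
theorem D36178 : act 7 n17486 = n36178 := rfl
theorem F56899 : act 5 n36178 = n17487 := d13_1 D36178 (iv7 D17487) D17486
def n36180 : Q := act 1 n17488
theorem D36180 : act 1 n17488 = n36180 := rfl
theorem F56901 : act 1 n36180 = n17493 := d15_1 D36180 (iv7 D17493) D17488
def n36181 : Q := act 3 n17488
theorem D36181 : act 3 n17488 = n36181 := rfl
theorem F56902 : act 7 n36181 = n17494 := d8_2 F28479 D36181 (iv3 D17494)
def n36182 : Q := act 4 n17488
theorem D36182 : act 4 n17488 = n36182 := rfl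
theorem F56903 : act 2 n36182 = n17490 := d1_1 D36182 (iv4 D17490) D17488
theorem F56904 : act 7 n36182 = n17495 := d11_2 F28479 D36182 (iv4 D17495)
def n36183 : Q := act 5 n17488
theorem D36183 : act 5 n17488 = n36183 := rfl
theorem F56905 : act 2 n36183 = n17491 := d2_1 D36183 (iv5 D17491) D17488
theorem F56906 : act 7 n36183 = n17496 := d13_2 F28479 D36183 (iv5 D17496)
def n36184 : Q := act 6 n17488
theorem D36184 : act 6 n17488 = n36184 := rfl
theorem F56907 : act 2 n36184 = n17492 := d3_1 D36184 (iv6 D17492) D17488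
def n36185 : Q := act 0 n17489
theorem D36185 : act 0 n17489 = n36185 := rfl
def n36186 : Q := act 1 n17489
theorem D36186 : act 1 n17489 = n36186 := rfl
def n36187 : Q := act 2 n17489
theorem D36187 : act 2 n17489 = n36187 := rfl
def n36188 : Q := act 4 n17489
theorem D36188 : act 4 n17489 = n36188 := rfl
theorem F56908 : act 0 n36188 = n27712 := d20_7 F42185 (iv1 D7592) F5430 (iv3 F5710) D8226 D17489 D36188 F44725 F22037 (iv1 F9793)
theorem F56909 : act 0 n27703 = n36188 := d20_7 (iv4 F56804) (iv1 F56806) D36172 (iv3 F56898) (iv1 D18564) (iv3 F22030) (iv4 F44711) (iv4 D36188) (iv3 D17489) (iv1 F28450)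
def n36189 : Q := act 5 n17489
theorem D36189 : act 5 n17489 = n36189 := rfl
theorem F56910 : act 3 n36189 = n17491 := d6_1 D36189 (iv5 D17491) D17489
def n36190 : Q := act 6 n17489
theorem D36190 : act 6 n17489 = n36190 := rfl
theorem F56911 : act 3 n36190 = n17492 := d7_1 D36190 (iv6 D17492) D17489
def n36191 : Q := act 7 n17489
theorem D36191 : act 7 n17489 = n36191 := rfl
theorem F56912 : act 3 n36191 = n17493 := d8_1 D36191 (iv7 D17493) D17489
def n36192 : Q := act 0 n17490
theorem D36192 : act 0 n17490 = n36192 := rfl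
def n36193 : Q := act 1 n17490
theorem D36193 : act 1 n17490 = n36193 := rfl
theorem F56913 : act 1 n36193 = n17495 := d15_1 D36193 (iv7 F56904) F56903
def n36194 : Q := act 3 n17490
theorem D36194 : act 3 n17490 = n36194 := rfl
def n36195 : Q := act 5 n17490
theorem D36195 : act 5 n17490 = n36195 := rfl
def n36196 : Q := act 6 n17490
theorem D36196 : act 6 n17490 = n36196 := rfl
theorem F56914 : act 4 n36196 = n17492 := d10_1 D36196 (iv6 D17492) D17490
def n36197 : Q := act 7 n17490
theorem D36197 : act 7 n17490 = n36197 := rfl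
theorem F56915 : act 2 n36197 = n17495 := d4_1 D36197 (iv7 F56904) F56903
theorem F56916 : act 4 n36197 = n17493 := d11_1 D36197 (iv7 D17493) D17490
theorem F56917 : act 1 n17495 = n36192 := d15_0 (iv0 D36192) D36197 F56915
def n36198 : Q := act 0 n17491
theorem D36198 : act 0 n17491 = n36198 := rfl
theorem F56918 : act 5 n36198 = n36053 := d21_2 D17491 D36198 (iv6 D36053) (iv1 D17447) (iv6 D8202) (iv5 D3698) (iv1 D1622) D1624 D3705 D8226
def n36199 : Q := act 1 n17491
theorem D36199 : act 1 n17491 = n36199 := rfl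
theorem F56919 : act 1 n36199 = n17496 := d15_1 D36199 (iv7 F56906) F56905
def n36200 : Q := act 4 n17491
theorem D36200 : act 4 n17491 = n36200 := rfl
def n36201 : Q := act 6 n17491
theorem D36201 : act 6 n17491 = n36201 := rfl
def n36202 : Q := act 7 n17491
theorem D36202 : act 7 n17491 = n36202 := rfl
theorem F56920 : act 2 n36202 = n17496 := d4_1 D36202 (iv7 F56906) F56905
theorem F56921 : act 5 n36202 = n17493 := d13_1 D36202 (iv7 D17493) D17491
theorem F56922 : act 1 n17496 = n36198 := d15_0 (iv0 D36198) D36202 F56920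
def n36204 : Q := act 1 n17492
theorem D36204 : act 1 n17492 = n36204 := rfl
def n36205 : Q := act 5 n17492
theorem D36205 : act 5 n17492 = n36205 := rfl
theorem F56923 : act 0 n36205 = n17742 := d21_7 (iv5 D3698) (iv1 D1622) D1624 D3705 D8226 D17492 D36205 (iv5 D17742) (iv6 D8364) F13414
theorem F56924 : act 1 n36205 = n17785 := d15_1 (iv0 F56923) (iv7 D17785) (iv2 F28850)
def n36206 : Q := act 7 n17492
theorem D36206 : act 7 n17492 = n36206 := rfl
def n36207 : Q := act 6 n17493
theorem D36207 : act 6 n17493 = n36207 := rfl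
theorem F56925 : act 2 n36207 = n17497 := d3_1 D36207 (iv6 D17497) (iv2 F28480)
def n36208 : Q := act 0 n17494
theorem D36208 : act 0 n17494 = n36208 := rfl
def n36209 : Q := act 1 n17494
theorem D36209 : act 1 n17494 = n36209 := rfl
def n36210 : Q := act 2 n17494
theorem D36210 : act 2 n17494 = n36210 := rfl
def n36211 : Q := act 4 n17494
theorem D36211 : act 4 n17494 = n36211 := rfl
def n36212 : Q := act 5 n17494
theorem D36212 : act 5 n17494 = n36212 := rfl
theorem F56926 : act 3 n36212 = n17496 := d6_1 D36212 (iv5 D17496) D17494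
def n36213 : Q := act 6 n17494
theorem D36213 : act 6 n17494 = n36213 := rfl
theorem F56927 : act 3 n36213 = n17497 := d7_1 D36213 (iv6 D17497) D17494
def n36214 : Q := act 3 n17495
theorem D36214 : act 3 n17495 = n36214 := rfl
def n36216 : Q := act 6 n17495
theorem D36216 : act 6 n17495 = n36216 := rfl
theorem F56928 : act 4 n36216 = n17497 := d10_1 D36216 (iv6 D17497) D17495
def n36217 : Q := act 4 n17496
theorem D36217 : act 4 n17496 = n36217 := rfl
def n36218 : Q := act 6 n17496
theorem D36218 : act 6 n17496 = n36218 := rfl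
theorem F56929 : act 0 n26875 = n36218 := d21_4 F21352 (iv1 D12864) D12865 (iv6 F43332) (iv6 D36218) (iv5 D17496) (iv1 D8227) D8228 F12999 D8238
def n36219 : Q := act 0 n17497
theorem D36219 : act 0 n17497 = n36219 := rfl
theorem F56930 : act 5 n36219 = n26890 := d21_0 (iv1 F43380) F28464 (iv6 F28875) (iv1 F28877) D36053 (iv5 F56918) (iv1 F56922) (iv5 D17496) D17497 D36219
def n36220 : Q := act 1 n17497
theorem D36220 : act 1 n17497 = n36220 := rfl
def n36221 : Q := act 5 n17497
theorem D36221 : act 5 n17497 = n36221 := rfl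
theorem F56931 : act 0 n36024 = n36221 := d21_1 D36024 (iv5 D36221) (iv6 D17497) (iv1 D8227) (iv6 D3705) (iv5 D1624) D1621 D3693 D8193 D17437
def n36222 : Q := act 7 n17497
theorem D36222 : act 7 n17497 = n36222 := rfl
def n36223 : Q := act 2 n17498
theorem D36223 : act 2 n17498 = n36223 := rfl
theorem F56932 : act 7 n17499 = n36223 := d15_2 (iv0 D17498) D17499 (iv2 D36223)
def n36224 : Q := act 3 n17498
theorem D36224 : act 3 n17498 = n36224 := rfl
def n36225 : Q := act 4 n17498
theorem D36225 : act 4 n17498 = n36225 := rfl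
def n36226 : Q := act 5 n17498
theorem D36226 : act 5 n17498 = n36226 := rfl
def n36227 : Q := act 6 n17498
theorem D36227 : act 6 n17498 = n36227 := rfl
def n36228 : Q := act 7 n17498
theorem D36228 : act 7 n17498 = n36228 := rfl
theorem F56933 : act 2 n36228 = n17499 := d4_1 D36228 F56932 (iv2 D36223)
def n36229 : Q := act 3 n17499
theorem D36229 : act 3 n17499 = n36229 := rfl
def n36230 : Q := act 4 n17499
theorem D36230 : act 4 n17499 = n36230 := rfl
def n36231 : Q := act 5 n17499
theorem D36231 : act 5 n17499 = n36231 := rfl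
theorem F56934 : act 6 n36231 = n27118 := d21_3 (iv5 F56819) (iv1 F56821) D36231 (iv1 F43851) F21623 (iv5 F28912) (iv1 F56924) (iv5 D36205) (iv6 D17492) (iv1 F28450)
def n36232 : Q := act 6 n17499
theorem D36232 : act 6 n17499 = n36232 := rfl
def n36233 : Q := act 0 n17500
theorem D36233 : act 0 n17500 = n36233 := rfl
def n36234 : Q := act 1 n17500
theorem D36234 : act 1 n17500 = n36234 := rfl
def n36235 : Q := act 3 n17500
theorem D36235 : act 3 n17500 = n36235 := rfl
theorem F56935 : act 4 n36235 = n17577 := d5_2 D17500 D36235 (iv3 D17577) (iv4 D8254) (iv3 F12998)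
theorem F56936 : act 6 n36235 = n17520 := d7_2 (iv6 F28481) D36235 (iv3 D17520)
def n36236 : Q := act 5 n17500
theorem D36236 : act 5 n17500 = n36236 := rfl
def n36237 : Q := act 7 n17500
theorem D36237 : act 7 n17500 = n36237 := rfl
theorem F56937 : act 4 n36237 = n17501 := d11_1 D36237 (iv7 D17501) D17500
def n36238 : Q := act 6 n17501
theorem D36238 : act 6 n17501 = n36238 := rfl
theorem F56938 : act 3 n36238 = n17580 := d7_1 D36238 (iv6 D17580) (iv3 F28482)
theorem F56939 : act 7 n36238 = n17523 := d14_2 D17501 D36238 (iv6 D17523) (iv7 D8241) (iv6 F12999)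
def n36239 : Q := act 4 n17502
theorem D36239 : act 4 n17502 = n36239 := rfl
theorem F56940 : act 2 n36239 = n34427 := d1_1 D36239 F54628 F30706
theorem F56941 : act 7 n36239 = n21480 := d11_2 (iv7 F28485) D36239 (iv4 D21480)
theorem F56942 : act 0 n36239 = n27914 := d18_2 (iv1 F33411) D36239 (iv4 D27914) F22116 F12252 F16882 (iv4 F16520) F30744 (iv5 F33410)
theorem F56943 : act 1 n36239 = n34420 := d18_6 D8439 F16811 F7085 (iv4 F13002) D17502 D36239 (iv4 D34420) F27352 (iv5 D8441)
def n36240 : Q := act 6 n17502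
theorem D36240 : act 6 n17502 = n36240 := rfl
theorem F56944 : act 3 n36240 = n17508 := d7_1 D36240 (iv6 D17508) (iv3 F28484)
theorem F56945 : act 5 n36240 = n17745 := d12_1 D36240 (iv6 D17745) F13325 F13003 D17502
def n36241 : Q := act 5 n17503
theorem D36241 : act 5 n17503 = n36241 := rfl
theorem F56946 : act 2 n36241 = n18465 := d2_1 D36241 (iv5 D18465) F28487
theorem F56947 : act 3 n36241 = n35234 := d6_1 D36241 (iv5 D35234) F28490
theorem F56949 : act 0 n36241 = n34421 := d17_2 D17503 D36241 (iv5 D34421) F27360 F13427 F28455 F28454 F12994 D8232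
theorem F56951 : act 4 n36241 = n35553 := d18_5 (iv1 F13433) (iv4 F21515) (iv1 F27456) (iv4 F28486) D36241 F56233 (iv4 D17234) F21674 (iv5 D12950)
def n36242 : Q := act 5 n17504
theorem D36242 : act 5 n17504 = n36242 := rfl
theorem F56952 : act 3 n36242 = n17505 := d6_1 D36242 (iv5 D17505) D17504
theorem F56953 : act 7 n36242 = n19159 := d13_2 (iv7 F28493) D36242 (iv5 D19159)
theorem F56954 : act 0 n36242 = n20277 := d17_2 F28495 D36242 (iv5 D20277) (iv4 D9591) (iv5 F17522) (iv0 F14529) (iv5 D9333) F6123 D9104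
theorem F56955 : act 1 n36242 = n19051 := d17_6 (iv1 D9157) D9158 F30751 (iv5 D19136) (iv4 F28491) D36242 (iv5 D19051) F27369 F27363
def n36243 : Q := act 0 n17505
theorem D36243 : act 0 n17505 = n36243 := rfl
theorem F56956 : act 5 n36243 = n26917 := d17_3 F15243 D17505 D36243 (iv4 F43534) (iv5 F44567) (iv0 F44569) (iv5 D27021) (iv0 F27453) F27452
theorem F56957 : act 2 n18469 = n36243 := d15_3 (iv0 D36243) (iv0 F54669) F54668
theorem F56958 : act 1 n17510 = n36243 := d15_0 (iv0 D36243) (iv7 F43832) F43830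
theorem F56959 : act 7 n36243 = n36004 := d15_2 (iv0 F54670) F56958 F56756
theorem F56960 : act 3 n35750 = n36243 := d20_9 F28512 (iv1 D17240) (iv4 D8086) F5670 (iv1 F5658) (iv3 F12780) D17102 D35242 (iv4 F56429) (iv1 F56958)
def n36244 : Q := act 6 n17505
theorem D36244 : act 6 n17505 = n36244 := rfl
theorem F56961 : act 2 n36244 = n36033 := d3_1 D36244 F56785 (iv2 F28496)
theorem F56962 : act 4 n36244 = n35581 := d10_1 D36244 (iv6 D35581) (iv4 F28497)
theorem F56963 : act 5 n36244 = n18183 := d12_1 D36244 (iv6 D18183) F13478 (iv6 F13010) D17505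
def n36245 : Q := act 4 n17506
theorem D36245 : act 4 n17506 = n36245 := rfl
theorem F56964 : act 2 n36245 = n26928 := d1_1 D36245 F43422 F28499
theorem F56965 : act 7 n36245 = n26878 := d11_2 (iv7 F28501) D36245 (iv4 D26878)
theorem F56966 : act 5 n36245 = n35592 := d16_1 D36245 (iv4 D35592) (iv5 D17242) (iv4 D8086) (iv5 D3646) (iv4 F4102) D6108 D12884 F28499
theorem F56967 : act 0 n36245 = n26925 := d18_2 D17506 D36245 (iv4 F43720) (iv5 D27064) (iv4 D12966) F13355 F13352 F12994 D8233
theorem F56968 : act 1 n36245 = n26924 := d18_6 F28309 (iv4 D8076) (iv1 F12861) (iv4 F21359) (iv5 F28498) D36245 F43420 (iv0 F55787) (iv5 D35105)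
def n36246 : Q := act 6 n17506
theorem D36246 : act 6 n17506 = n36246 := rfl
theorem F56969 : act 2 n36246 = n26929 := d3_1 D36246 (iv6 D26929) F28499
theorem F56970 : act 3 n36246 = n35342 := d7_1 D36246 (iv6 D35342) F28502
theorem F56971 : act 5 n36246 = n36086 := d12_1 D36246 (iv6 D36086) F28454 (iv6 F21360) (iv5 F28498)
def n36247 : Q := act 0 n17507
theorem D36247 : act 0 n17507 = n36247 := rfl
theorem F56972 : act 4 n36247 = n27644 := d18_3 (iv1 F16985) D17507 D36247 F44567 F43534 (iv0 D26917) (iv4 D12879) (iv0 D6106) D6108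
theorem F56973 : act 1 n17511 = n36247 := d15_0 (iv0 D36247) (iv7 F43835) F43834
theorem F56974 : act 2 n36058 = n36247 := d1_3 F56972 F56038 (iv4 F56796)
theorem F56975 : act 7 n36059 = n36247 := d11_0 F56972 (iv7 F55786) (iv4 F56799)
def n36248 : Q := act 1 n17507
theorem D36248 : act 1 n17507 = n36248 := rfl
theorem F56976 : act 1 n36248 = n17511 := d15_1 D36248 F28513 (iv2 F28503)
theorem F56977 : act 7 n36248 = n36058 := d15_2 (iv0 D36247) D36248 F56974
def n36249 : Q := act 3 n17507
theorem D36249 : act 3 n17507 = n36249 := rfl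
def n36250 : Q := act 5 n17507
theorem D36250 : act 5 n17507 = n36250 := rfl
theorem F56979 : act 2 n36250 = n36061 := d2_1 D36250 (iv5 D36061) (iv2 F28503)
theorem F56980 : act 4 n36250 = n35583 := d16_2 D17507 D36250 (iv5 D35583) (iv4 F28512) (iv5 D17510) (iv4 D8235) D8236 F13014 (iv2 F13011)
def n36251 : Q := act 6 n17507
theorem D36251 : act 6 n17507 = n36251 := rfl
theorem F56981 : act 2 n36251 = n36056 := d3_1 D36251 F56794 (iv2 F28503)
theorem F56982 : act 4 n36251 = n17508 := d10_1 D36251 (iv6 D17508) D17507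
def n36252 : Q := act 0 n17508
theorem D36252 : act 0 n17508 = n36252 := rfl
def n36253 : Q := act 1 n17508
theorem D36253 : act 1 n17508 = n36253 := rfl
theorem F56983 : act 1 n36253 = n36057 := d15_1 D36253 (iv7 D36057) (iv2 F28504)
theorem F56984 : act 5 n36129 = n36253 := d21_6 (iv5 D6172) (iv1 F4174) F13340 D8221 D17471 D36129 (iv1 D36253) F28505 (iv6 D8370) (iv1 F9613)
def n36254 : Q := act 7 n17508
theorem D36254 : act 7 n17508 = n36254 := rfl
theorem F56985 : act 2 n36254 = n36057 := d4_1 D36254 (iv7 D36057) (iv2 F28504)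
theorem F56986 : act 5 n36254 = n17753 := d13_1 D36254 (iv7 D17753) (iv5 F28505)
theorem F56987 : act 1 n36057 = n36252 := d15_0 (iv0 D36252) D36254 F56985
theorem F56988 : act 1 n36055 = n36254 := d15_1 D36055 (iv7 D36254) F28504
theorem F56989 : act 1 n36254 = n36054 := d15_0 (iv0 D36054) D36057 (iv2 F56985)
def n36255 : Q := act 4 n17509
theorem D36255 : act 4 n17509 = n36255 := rfl
theorem F56990 : act 2 n36255 = n21924 := d1_1 D36255 (iv4 D21924) (iv2 F28506)
theorem F56991 : act 7 n36255 = n34469 := d11_2 (iv7 F28508) D36255 F54693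
theorem F56992 : act 0 n36255 = n34459 := d18_2 F32315 D36255 (iv4 D34459) (iv5 D16713) (iv4 F13884) F27429 (iv4 F17591) F17589 D20361
theorem F56993 : act 1 n36255 = n34472 := d18_6 D7836 (iv4 F15130) (iv1 F16787) (iv4 F16801) D17509 D36255 F54697 F27445 (iv5 D7837)
def n36256 : Q := act 6 n17510
theorem D36256 : act 6 n17510 = n36256 := rfl
theorem F56994 : act 3 n36256 = n17891 := d7_1 D36256 F29065 (iv3 F28510)
theorem F56995 : act 4 n36256 = n35584 := d10_1 D36256 (iv6 D35584) (iv4 F28512)
theorem F56996 : act 5 n36256 = n17737 := d12_1 D36256 (iv6 D17737) (iv5 D8355) (iv6 F16804) D17510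
def n36257 : Q := act 3 n17511
theorem D36257 : act 3 n17511 = n36257 := rfl
theorem F56997 : act 7 n36257 = n36060 := d8_2 (iv7 F28513) D36257 (iv3 D36060)
def n36258 : Q := act 5 n17511
theorem D36258 : act 5 n17511 = n36258 := rfl
theorem F56998 : act 4 n36258 = n35580 := d9_1 D36258 (iv5 D35580) (iv4 F28497) (iv5 D17505) (iv4 D8232) D8233 D17507 D36250 F56980 (iv5 D35583) (iv4 F28512) (iv5 D17510) (iv4 D8235) D8236 D17511
theorem F56999 : act 7 n36258 = n36061 := d13_2 (iv7 F28513) D36258 (iv5 D36061)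
def n36259 : Q := act 2 n17512
theorem D36259 : act 2 n17512 = n36259 := rfl
theorem F57000 : act 3 n36259 = n20116 := d0_2 D17512 D36259 F31933 F31222 F21388
theorem F57001 : act 5 n36259 = n19116 := d2_2 (iv5 F28514) D36259 F30709
theorem F57002 : act 7 n36259 = n19120 := d4_2 F34203 D36259 (iv2 F34201)
theorem F57003 : act 1 n36259 = n21476 := d15_0 (iv0 F34204) F34203 D36259
theorem F57004 : act 1 n21477 = n36259 := d15_0 F57003 F33758 (iv2 F33759)
def n36260 : Q := act 4 n17512
theorem D36260 : act 4 n17512 = n36260 := rfl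
theorem F57005 : act 0 n36260 = n23669 := d18_2 F33399 D36260 (iv4 D23669) (iv5 D11084) (iv4 D5067) (iv0 F7509) (iv4 F13002) F16753 D21164
def n36261 : Q := act 6 n17512
theorem D36261 : act 6 n17512 = n36261 := rfl
theorem F57006 : act 3 n36261 = n17514 := d7_1 D36261 (iv6 D17514) D17512
theorem F57007 : act 5 n36261 = n36261 := d12_1 D36261 (iv6 D36261) F28514 F14747 (iv5 F28514)
def n36262 : Q := act 0 n17513
theorem D36262 : act 0 n17513 = n36262 := rfl
theorem F57008 : act 4 n36262 = n27640 := d18_3 D8238 D17513 D36262 (iv5 D27640) (iv4 F28486) (iv0 D17503) (iv4 D8232) (iv0 D3706) D3708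
theorem F57009 : act 1 n17516 = n36262 := d15_0 (iv0 D36262) (iv7 F43412) F43411
def n36263 : Q := act 1 n17513
theorem D36263 : act 1 n17513 = n36263 := rfl
theorem F57011 : act 4 n36263 = n34475 := d18_7 D17221 (iv4 F28324) F43344 (iv4 D26877) (iv5 F21352) D17513 D36263 F54705 (iv5 D17224)
def n36264 : Q := act 3 n17513
theorem D36264 : act 3 n17513 = n36264 := rfl
def n36265 : Q := act 5 n17513
theorem D36265 : act 5 n17513 = n36265 := rfl
def n36266 : Q := act 6 n17513
theorem D36266 : act 6 n17513 = n36266 := rfl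
theorem F57012 : act 4 n36266 = n17514 := d10_1 D36266 (iv6 D17514) D17513
def n36267 : Q := act 0 n17514
theorem D36267 : act 0 n17514 = n36267 := rfl
theorem F57013 : act 6 n36267 = n36052 := d21_5 F21393 (iv1 F21347) (iv5 F21352) D17514 D36267 (iv5 D36052) (iv1 D17447) D17448 F28441 F21394
def n36268 : Q := act 1 n17514
theorem D36268 : act 1 n17514 = n36268 := rfl
def n36269 : Q := act 7 n17514
theorem D36269 : act 7 n17514 = n36269 := rfl
def n36270 : Q := act 6 n17515
theorem D36270 : act 6 n17515 = n36270 := rfl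
theorem F57016 : act 5 n36270 = n22121 := d12_1 D36270 (iv6 D22121) (iv5 D10543) D10544 (iv5 F28516)
def n36271 : Q := act 3 n17516
theorem D36271 : act 3 n17516 = n36271 := rfl
def n36273 : Q := act 6 n17516
theorem D36273 : act 6 n17516 = n36273 := rfl
theorem F57017 : act 4 n36273 = n17517 := d10_1 D36273 (iv6 D17517) D17516
def n36274 : Q := act 0 n17517
theorem D36274 : act 0 n17517 = n36274 := rfl
def n36275 : Q := act 1 n17517
theorem D36275 : act 1 n17517 = n36275 := rfl
def n36276 : Q := act 7 n17517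
theorem D36276 : act 7 n17517 = n36276 := rfl
def n36277 : Q := act 3 n17518
theorem D36277 : act 3 n17518 = n36277 := rfl
def n36278 : Q := act 5 n17518
theorem D36278 : act 5 n17518 = n36278 := rfl
def n36279 : Q := act 6 n17518
theorem D36279 : act 6 n17518 = n36279 := rfl
def n36280 : Q := act 3 n17519
theorem D36280 : act 3 n17519 = n36280 := rfl
def n36281 : Q := act 5 n17519
theorem D36281 : act 5 n17519 = n36281 := rfl
def n36282 : Q := act 6 n17519
theorem D36282 : act 6 n17519 = n36282 := rfl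
def n36283 : Q := act 0 n17520
theorem D36283 : act 0 n17520 = n36283 := rfl
def n36284 : Q := act 1 n17520
theorem D36284 : act 1 n17520 = n36284 := rfl
def n36285 : Q := act 2 n17520
theorem D36285 : act 2 n17520 = n36285 := rfl
theorem F57018 : act 4 n36285 = n17600 := d1_2 (iv4 F28519) D36285 (iv2 D17600)
def n36286 : Q := act 5 n17520
theorem D36286 : act 5 n17520 = n36286 := rfl
def n36287 : Q := act 0 n17521
theorem D36287 : act 0 n17521 = n36287 := rfl
theorem F57020 : act 5 n36287 = n26924 := d17_3 (iv1 D17519) D17521 D36287 F43420 (iv5 D17144) (iv0 F21641) D26748 (iv0 F56101) (iv4 F56103)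
theorem F57021 : act 4 n35574 = n36287 := d16_2 D17237 D35574 F57020 F43420 (iv5 D17144) F12840 D8037 (iv7 F17010) (iv2 F13361)
def n36288 : Q := act 1 n17521
theorem D36288 : act 1 n17521 = n36288 := rfl
theorem F57022 : act 5 n36288 = n26925 := d17_7 (iv1 F28500) (iv5 D8236) (iv1 D3707) D3708 D8240 D17521 D36288 (iv0 F56967) (iv4 D36245)
theorem F57023 : act 4 n35346 = n36288 := d9_15 F57022 (iv4 F43720) (iv5 D27064) (iv4 D12966) F16972 D17237 D35574 F57021 F57020 F43420 (iv5 D17144) F12840 D8037 D17153 D35346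
def n36289 : Q := act 4 n17521
theorem D36289 : act 4 n17521 = n36289 := rfl
theorem F57024 : act 5 n36289 = n35339 := d16_3 D8240 D17521 D36289 (iv4 D35339) (iv5 D17151) F13352 (iv5 F28454) (iv7 D17458) F12991
def n36290 : Q := act 6 n17521
theorem D36290 : act 6 n17521 = n36290 := rfl
def n36291 : Q := act 7 n17521
theorem D36291 : act 7 n17521 = n36291 := rfl
theorem F57027 : act 5 n36291 = n17522 := d13_1 D36291 (iv7 D17522) D17521
def n36292 : Q := act 6 n17522
theorem D36292 : act 6 n17522 = n36292 := rfl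
theorem F57028 : act 4 n36292 = n17523 := d10_1 D36292 (iv6 D17523) (iv4 F28520)
def n36293 : Q := act 0 n17523
theorem D36293 : act 0 n17523 = n36293 := rfl
def n36294 : Q := act 1 n17523
theorem D36294 : act 1 n17523 = n36294 := rfl
def n36295 : Q := act 2 n17530
theorem D36295 : act 2 n17530 = n36295 := rfl
def n36296 : Q := act 3 n17530
theorem D36296 : act 3 n17530 = n36296 := rfl
def n36297 : Q := act 4 n17530
theorem D36297 : act 4 n17530 = n36297 := rfl
def n36298 : Q := act 5 n17530
theorem D36298 : act 5 n17530 = n36298 := rfl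
def n36299 : Q := act 6 n17530
theorem D36299 : act 6 n17530 = n36299 := rfl
def n36300 : Q := act 7 n17530
theorem D36300 : act 7 n17530 = n36300 := rfl
def n36305 : Q := act 4 n17532
theorem D36305 : act 4 n17532 = n36305 := rfl
theorem F57031 : act 2 n36305 = n17533 := d1_1 D36305 (iv4 D17533) D17532
def n36306 : Q := act 5 n17532
theorem D36306 : act 5 n17532 = n36306 := rfl
theorem F57032 : act 2 n36306 = n17534 := d2_1 D36306 (iv5 D17534) D17532
def n36307 : Q := act 6 n17532
theorem D36307 : act 6 n17532 = n36307 := rfl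
theorem F57033 : act 2 n36307 = n17535 := d3_1 D36307 (iv6 D17535) D17532
def n36308 : Q := act 0 n17533
theorem D36308 : act 0 n17533 = n36308 := rfl
def n36309 : Q := act 1 n17533
theorem D36309 : act 1 n17533 = n36309 := rfl
def n36310 : Q := act 3 n17533
theorem D36310 : act 3 n17533 = n36310 := rfl
theorem F57034 : act 4 n36310 = n17539 := d5_2 D17533 D36310 (iv3 D17539) (iv4 D8244) D8243
theorem F57035 : act 7 n36310 = n32531 := d8_2 F43778 D36310 F51605
def n36311 : Q := act 5 n17533
theorem D36311 : act 5 n17533 = n36311 := rfl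
def n36312 : Q := act 6 n17533
theorem D36312 : act 6 n17533 = n36312 := rfl
theorem F57036 : act 4 n36312 = n17535 := d10_1 D36312 (iv6 D17535) D17533
def n36313 : Q := act 0 n17534
theorem D36313 : act 0 n17534 = n36313 := rfl
def n36314 : Q := act 1 n17534
theorem D36314 : act 1 n17534 = n36314 := rfl
def n36315 : Q := act 4 n17534
theorem D36315 : act 4 n17534 = n36315 := rfl
def n36316 : Q := act 6 n17534
theorem D36316 : act 6 n17534 = n36316 := rfl
theorem F57037 : act 3 n36316 = n17546 := d7_1 D36316 (iv6 D17546) (iv3 F28530)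
theorem F57038 : act 7 n36316 = n35729 := d14_2 F43780 D36316 (iv6 D35729) (iv7 F43468) F43781
def n36317 : Q := act 0 n17535
theorem D36317 : act 0 n17535 = n36317 := rfl
def n36318 : Q := act 1 n17535
theorem D36318 : act 1 n17535 = n36318 := rfl
def n36319 : Q := act 7 n17535
theorem D36319 : act 7 n17535 = n36319 := rfl
theorem F57039 : act 3 n36319 = n17550 := d8_1 D36319 (iv7 D17550) (iv3 F28531)
theorem F57040 : act 5 n36319 = n17836 := d13_1 D36319 (iv7 F44007) F44006
def n36320 : Q := act 0 n17539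
theorem D36320 : act 0 n17539 = n36320 := rfl
theorem F57041 : act 1 n32530 = n36320 := d15_0 (iv0 D36320) F41789 D32530
def n36322 : Q := act 2 n17539
theorem D36322 : act 2 n17539 = n36322 := rfl
theorem F57042 : act 3 n36322 = n32520 := d0_2 D17539 D36322 (iv2 D32520) (iv3 D15400) (iv2 F41772)
theorem F57043 : act 7 n36322 = n32530 := d4_2 (iv7 F41789) D36322 (iv2 D32530)
theorem F57044 : act 1 n36322 = n32528 := d15_0 (iv0 D32528) (iv7 F41789) D36322
theorem F57046 : act 1 n32529 = n36322 := d15_1 D32529 F57043 (iv2 D32530)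
def n36323 : Q := act 5 n17539
theorem D36323 : act 5 n17539 = n36323 := rfl
theorem F57047 : act 3 n36323 = n17540 := d6_1 D36323 (iv5 D17540) D17539
theorem F57048 : act 7 n36323 = n32532 := d13_2 (iv7 F41789) D36323 (iv5 D32532)
def n36324 : Q := act 6 n17539
theorem D36324 : act 6 n17539 = n36324 := rfl
theorem F57049 : act 3 n36324 = n17541 := d7_1 D36324 (iv6 D17541) D17539
theorem F57050 : act 5 n29296 = n36324 := d6_0 F57049 (iv5 F30463) D29296
def n36325 : Q := act 0 n17540
theorem D36325 : act 0 n17540 = n36325 := rfl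
theorem F57051 : act 5 n36325 = n32797 := d17_3 F30465 D17540 D36325 F51921 (iv5 F44743) (iv0 D27733) (iv5 D13237) (iv0 D6288) (iv4 F9204)
theorem F57052 : act 1 n17559 = n36325 := d15_0 (iv0 D36325) F41790 (iv2 F41791)
theorem F57053 : act 2 n32524 = n36325 := d2_3 F57051 F51920 (iv5 F51600)
theorem F57054 : act 7 n32525 = n36325 := d15_2 (iv0 D32524) D32525 (iv2 F57053)
def n36326 : Q := act 1 n17540
theorem D36326 : act 1 n17540 = n36326 := rfl
theorem F57055 : act 1 n36326 = n17559 := d15_1 D36326 (iv7 F41793) (iv2 F41794)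
theorem F57056 : act 7 n36326 = n32524 := d15_2 (iv0 D36325) D36326 F57053
theorem F57057 : act 5 n36326 = n32891 := d17_7 (iv1 F43885) (iv5 F43886) (iv1 D17544) (iv5 D8245) D8244 D17540 D36326 F52070 F51612
theorem F57058 : act 6 n36326 = n32587 := d21_3 D32539 (iv1 F52070) (iv5 F57057) (iv1 D32587) (iv6 D15427) (iv5 D7281) (iv1 D3343) D3344 (iv6 F11578) D15409
theorem F57059 : act 2 n32525 = n36326 := d4_3 F57056 F57053 (iv7 F57054)
def n36327 : Q := act 4 n17540
theorem D36327 : act 4 n17540 = n36327 := rfl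
theorem F57060 : act 2 n36327 = n32526 := d1_1 D36327 (iv4 D32526) (iv2 F41794)
theorem F57061 : act 7 n36327 = n32534 := d11_2 (iv7 F41790) D36327 (iv4 D32534)
def n36328 : Q := act 6 n17540
theorem D36328 : act 6 n17540 = n36328 := rfl
theorem F57062 : act 2 n36328 = n32527 := d3_1 D36328 (iv6 D32527) (iv2 F41794)
theorem F57063 : act 5 n36328 = n29298 := d12_1 D36328 (iv6 D29298) F30463 (iv6 D17541) D17540
def n36329 : Q := act 1 n17541
theorem D36329 : act 1 n17541 = n36329 := rfl
theorem F57064 : act 1 n36329 = n28693 := d15_1 D36329 (iv7 F46243) F41795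
theorem F57066 : act 4 n36329 = n27737 := d17_9 (iv1 D27737) F22040 (iv1 D8539) (iv5 D3811) (iv4 F5387) (iv5 F10710) D13920 F30463 D36329
theorem F57067 : act 6 n28684 = n36329 := d21_3 (iv5 F18821) D24408 (iv5 F46234) (iv1 D36329) (iv6 D17541) D17540 D36325 F57051 (iv6 D32797) (iv1 D15699)
theorem F57068 : act 2 n36329 = n28696 := d3_1 F57067 (iv6 F56389) (iv2 F56390)
def n36330 : Q := act 3 n17543
theorem D36330 : act 3 n17543 = n36330 := rfl
theorem F57069 : act 5 n36330 = n35257 := d6_2 (iv5 F28538) D36330 F55986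
def n36331 : Q := act 4 n17543
theorem D36331 : act 4 n17543 = n36331 := rfl
theorem F57070 : act 0 n36331 = n18616 := d18_2 D17543 D36331 (iv4 D18616) (iv5 D8740) F42185 F21125 F21122 F9588 D8245
theorem F57071 : act 1 n36331 = n18603 := d18_6 F43136 (iv4 F42324) (iv1 F53032) (iv4 F28976) (iv5 F28538) D36331 (iv4 D18603) D18602 F43137
def n36332 : Q := act 3 n17544
theorem D36332 : act 3 n17544 = n36332 := rfl
theorem F57072 : act 6 n36332 = n35823 := d7_2 (iv6 F43464) D36332 (iv3 D35823)
def n36333 : Q := act 4 n17544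
theorem D36333 : act 4 n17544 = n36333 := rfl
theorem F57073 : act 6 n36333 = n18860 := d10_2 (iv6 F43464) D36333 (iv4 F41676)
theorem F57074 : act 0 n36333 = n18603 := d18_2 (iv1 F28539) D36333 (iv4 D18603) (iv5 D8735) F42181 (iv0 D7591) F5430 D3711 D8250
theorem F57075 : act 1 n36333 = n18616 := d15_1 (iv0 F57074) (iv7 F44753) F44752
def n36334 : Q := act 0 n17545
theorem D36334 : act 0 n17545 = n36334 := rfl
theorem F57076 : act 4 n36334 = n27733 := d18_3 (iv1 D17544) D17545 D36334 F44743 (iv4 F51921) F52074 F41746 D27147 (iv5 F43886)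
theorem F57077 : act 1 n17561 = n36334 := d15_0 (iv0 D36334) (iv7 F43785) F43783
def n36335 : Q := act 1 n17545
theorem D36335 : act 1 n17545 = n36335 := rfl
theorem F57078 : act 1 n36335 = n17561 := d15_1 D36335 (iv7 F43757) F43756
theorem F57079 : act 4 n36335 = n27734 := d18_7 (iv1 D6289) (iv4 F9204) F30465 (iv4 D8244) D8245 D17545 D36335 F44747 (iv5 D13242)
theorem F57080 : act 6 n27906 = n36335 := d10_0 F57079 F44751 D27906
def n36336 : Q := act 3 n17545
theorem D36336 : act 3 n17545 = n36336 := rfl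
def n36337 : Q := act 5 n17545
theorem D36337 : act 5 n17545 = n36337 := rfl
theorem F57081 : act 1 n36337 = n27749 := d17_6 (iv1 D8253) (iv5 D3712) D3710 D8245 D17545 D36337 (iv5 D27749) F30468 (iv4 D17573)
def n36338 : Q := act 6 n17545
theorem D36338 : act 6 n17545 = n36338 := rfl
theorem F57082 : act 4 n36338 = n17546 := d10_1 D36338 (iv6 D17546) D17545
theorem F57083 : act 7 n36338 = n35732 := d14_2 F43785 D36338 (iv6 D35732) (iv7 F41957) (iv6 F43784)
def n36339 : Q := act 0 n17546
theorem D36339 : act 0 n17546 = n36339 := rfl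
theorem F57084 : act 6 n36339 = n17590 := d21_5 (iv5 D3712) D3710 D8245 D17546 D36339 (iv5 F28592) F28785 F28782 (iv6 D17574) (iv1 D8253)
theorem F57085 : act 5 n36339 = n17863 := d21_8 (iv5 D13030) (iv1 F9659) (iv5 F13193) F13194 (iv1 F21722) D27216 F44009 D36339 (iv6 F43980) (iv1 D27203)
theorem F57086 : act 1 n26950 = n36339 := d15_0 (iv0 D36339) F28544 (iv2 F43470)
theorem F57087 : act 2 n35260 = n36339 := d2_3 F57085 (iv2 F53099) (iv5 F55987)
theorem F57088 : act 7 n35733 = n36339 := d13_0 F57085 (iv7 F53101) (iv5 F56413)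
def n36340 : Q := act 1 n17546
theorem D36340 : act 1 n17546 = n36340 := rfl
theorem F57090 : act 7 n36340 = n35260 := d15_2 (iv0 D36339) D36340 F57087
theorem F57091 : act 5 n17862 = n36340 := d21_0 (iv1 D36340) (iv5 F44009) (iv6 D27216) (iv1 D13038) F9656 (iv5 D2607) (iv1 F2825) D3770 D8421 D17862
def n36341 : Q := act 3 n17549
theorem D36341 : act 3 n17549 = n36341 := rfl
def n36342 : Q := act 2 n17552
theorem D36342 : act 2 n17552 = n36342 := rfl
theorem F57093 : act 7 n17553 = n36342 := d15_2 (iv0 D17552) D17553 (iv2 D36342)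
def n36343 : Q := act 3 n17552
theorem D36343 : act 3 n17552 = n36343 := rfl
def n36347 : Q := act 7 n17552
theorem D36347 : act 7 n17552 = n36347 := rfl
theorem F57094 : act 2 n36347 = n17553 := d4_1 D36347 F57093 (iv2 D36342)
def n36348 : Q := act 3 n17553
theorem D36348 : act 3 n17553 = n36348 := rfl
def n36349 : Q := act 4 n17553
theorem D36349 : act 4 n17553 = n36349 := rfl
def n36350 : Q := act 5 n17553
theorem D36350 : act 5 n17553 = n36350 := rfl
def n36351 : Q := act 6 n17553
theorem D36351 : act 6 n17553 = n36351 := rfl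
def n36352 : Q := act 4 n17554
theorem D36352 : act 4 n17554 = n36352 := rfl
theorem F57095 : act 2 n36352 = n17555 := d1_1 D36352 (iv4 D17555) D17554
def n36353 : Q := act 5 n17554
theorem D36353 : act 5 n17554 = n36353 := rfl
theorem F57096 : act 2 n36353 = n17556 := d2_1 D36353 (iv5 D17556) D17554
theorem F57097 : act 6 n35720 = n36353 := d3_0 F57096 (iv6 F28547) D35720
def n36354 : Q := act 6 n17554
theorem D36354 : act 6 n17554 = n36354 := rfl
theorem F57098 : act 2 n36354 = n17557 := d3_1 D36354 (iv6 D17557) D17554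
def n36355 : Q := act 0 n17555
theorem D36355 : act 0 n17555 = n36355 := rfl
def n36356 : Q := act 1 n17555
theorem D36356 : act 1 n17555 = n36356 := rfl
def n36357 : Q := act 3 n17555
theorem D36357 : act 3 n17555 = n36357 := rfl
theorem F57099 : act 4 n36357 = n17558 := d5_2 D17555 D36357 (iv3 D17558) (iv4 D8249) D8248
theorem F57100 : act 7 n36357 = n32521 := d8_2 F43743 D36357 F51596
def n36358 : Q := act 5 n17555
theorem D36358 : act 5 n17555 = n36358 := rfl
def n36359 : Q := act 6 n17555
theorem D36359 : act 6 n17555 = n36359 := rfl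
theorem F57101 : act 4 n36359 = n17557 := d10_1 D36359 (iv6 D17557) D17555
def n36360 : Q := act 0 n17556
theorem D36360 : act 0 n17556 = n36360 := rfl
def n36361 : Q := act 1 n17556
theorem D36361 : act 1 n17556 = n36361 := rfl
def n36362 : Q := act 4 n17556
theorem D36362 : act 4 n17556 = n36362 := rfl
theorem F57102 : act 6 n36362 = n35721 := d10_2 F28547 D36362 (iv4 D35721)
def n36363 : Q := act 0 n17557
theorem D36363 : act 0 n17557 = n36363 := rfl
def n36364 : Q := act 1 n17557
theorem D36364 : act 1 n17557 = n36364 := rfl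
def n36365 : Q := act 5 n17557
theorem D36365 : act 5 n17557 = n36365 := rfl
theorem F57103 : act 3 n36365 = n17564 := d6_1 D36365 (iv5 D17564) (iv3 F28548)
theorem F57104 : act 6 n36365 = n35722 := d12_2 D17557 D36365 (iv5 D35722) F28547 (iv5 D17556)
theorem F57105 : act 7 n17829 = n36365 := d14_0 F57104 F56410 (iv6 D27201) F30489 D17829
def n36366 : Q := act 7 n17557
theorem D36366 : act 7 n17557 = n36366 := rfl
theorem F57106 : act 3 n36366 = n17565 := d8_1 D36366 (iv7 D17565) (iv3 F28548)
theorem F57107 : act 5 n36366 = n17829 := d13_1 D36366 F57105 (iv5 D36365)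
def n36367 : Q := act 0 n17558
theorem D36367 : act 0 n17558 = n36367 := rfl
theorem F57108 : act 1 n32520 = n36367 := d15_0 (iv0 D36367) (iv7 F41792) D32520
def n36368 : Q := act 1 n17558
theorem D36368 : act 1 n17558 = n36368 := rfl
def n36369 : Q := act 2 n17558
theorem D36369 : act 2 n17558 = n36369 := rfl
theorem F57109 : act 3 n36369 = n32530 := d0_2 D17558 D36369 (iv2 D32530) (iv3 D15405) F41774
theorem F57110 : act 7 n36369 = n32520 := d4_2 F41792 D36369 (iv2 D32520)
theorem F57111 : act 1 n36369 = n32518 := d15_0 (iv0 D32518) F41792 D36369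
theorem F57112 : act 1 n36368 = n32520 := d15_1 D36368 (iv7 F57110) (iv2 D36369)
theorem F57113 : act 1 n32519 = n36369 := d15_1 D32519 F57110 (iv2 D32520)
def n36370 : Q := act 5 n17558
theorem D36370 : act 5 n17558 = n36370 := rfl
theorem F57114 : act 3 n36370 = n17559 := d6_1 D36370 (iv5 D17559) D17558
theorem F57115 : act 7 n36370 = n32522 := d13_2 F41792 D36370 (iv5 D32522)
def n36371 : Q := act 6 n17558
theorem D36371 : act 6 n17558 = n36371 := rfl
theorem F57116 : act 3 n36371 = n17560 := d7_1 D36371 (iv6 D17560) D17558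
def n36372 : Q := act 4 n17559
theorem D36372 : act 4 n17559 = n36372 := rfl
theorem F57117 : act 2 n36372 = n32534 := d1_1 D36372 (iv4 D32534) (iv2 F41791)
theorem F57118 : act 7 n36372 = n32526 := d11_2 F41793 D36372 (iv4 D32526)
def n36373 : Q := act 6 n17559
theorem D36373 : act 6 n17559 = n36373 := rfl
theorem F57119 : act 2 n36373 = n32535 := d3_1 D36373 (iv6 D32535) (iv2 F41791)
theorem F57120 : act 0 n32559 = n36373 := d21_4 F20785 (iv1 F20641) (iv5 F24971) D32559 (iv6 D36373) (iv5 D17559) F30466 D12481 F20778 D12483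
def n36374 : Q := act 5 n17560
theorem D36374 : act 5 n17560 = n36374 := rfl
theorem F57121 : act 2 n36374 = n32536 := d2_1 D36374 (iv5 D32536) F41779
theorem F57122 : act 7 n36374 = n34743 := d13_2 F30431 D36374 F54971
theorem F57123 : act 0 n36374 = n26843 := d17_2 (iv1 F30421) D36374 (iv5 D26843) (iv4 D12833) D12834 F30017 (iv5 D18767) F13670 D8812
theorem F57124 : act 1 n36374 = n26829 := d17_6 D8014 D17132 F28553 (iv5 D17564) (iv4 F28549) D36374 (iv5 D26829) F30449 F11681
def n36375 : Q := act 3 n17561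
theorem D36375 : act 3 n17561 = n36375 := rfl
theorem F57125 : act 6 n36375 = n35723 := d7_2 (iv6 F28550) D36375 (iv3 D35723)
def n36376 : Q := act 5 n17561
theorem D36376 : act 5 n17561 = n36376 := rfl
theorem F57126 : act 0 n36376 = n27749 := d17_2 (iv1 F57077) D36376 (iv5 D27749) (iv4 D13246) (iv5 D6290) D6289 D13242 F44744 (iv4 F57076)
def n36377 : Q := act 3 n17562
theorem D36377 : act 3 n17562 = n36377 := rfl
theorem F57127 : act 5 n36377 = n18896 := d6_2 (iv5 F28551) D36377 (iv3 D18896)
theorem F57128 : act 7 n36377 = n19034 := d8_2 (iv7 F30396) D36377 F30540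
def n36378 : Q := act 4 n17564
theorem D36378 : act 4 n17564 = n36378 := rfl
theorem F57129 : act 2 n36378 = n32831 := d1_1 D36378 F51978 F43786
theorem F57130 : act 6 n36378 = n32822 := d10_2 (iv6 F28552) D36378 F51971
theorem F57131 : act 7 n36378 = n17832 := d11_2 (iv7 F28940) D36378 F28996
theorem F57132 : act 5 n36378 = n18756 := d17_5 (iv1 F13776) (iv5 F13873) F30419 D17564 D36378 F29990 (iv5 D8810) F13668 (iv4 F30050)
theorem F57133 : act 0 n36378 = n26845 := d17_0 F43242 (iv1 D19012) (iv5 D8903) F5923 (iv5 F5662) D8015 (iv5 F28051) (iv0 F28554) D36378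
theorem F57134 : act 1 n36378 = n26832 := d18_6 (iv1 F13675) D8812 (iv1 F30421) F28549 D17564 D36378 (iv4 D26832) (iv0 F29270) (iv5 F13669)
theorem F57135 : act 6 n18756 = n32869 := d21_3 (iv5 F43133) (iv1 F57134) F57132 (iv1 D32869) F25315 (iv5 D7424) (iv1 F26425) D7869 (iv6 F13870) D19011
def n36379 : Q := act 0 n17567
theorem D36379 : act 0 n17567 = n36379 := rfl
def n36381 : Q := act 2 n17567
theorem D36381 : act 2 n17567 = n36381 := rfl
def n36382 : Q := act 4 n17567
theorem D36382 : act 4 n17567 = n36382 := rfl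
def n36383 : Q := act 5 n17567
theorem D36383 : act 5 n17567 = n36383 := rfl
theorem F57136 : act 3 n36383 = n17569 := d6_1 D36383 (iv5 D17569) D17567
theorem F57137 : act 7 n36383 = n27145 := d13_2 F43794 D36383 (iv5 F43879)
def n36384 : Q := act 6 n17567
theorem D36384 : act 6 n17567 = n36384 := rfl
theorem F57138 : act 3 n36384 = n17570 := d7_1 D36384 (iv6 D17570) D17567
def n36385 : Q := act 3 n17568
theorem D36385 : act 3 n17568 = n36385 := rfl
def n36386 : Q := act 5 n17568
theorem D36386 : act 5 n17568 = n36386 := rfl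
def n36387 : Q := act 6 n17568
theorem D36387 : act 6 n17568 = n36387 := rfl
theorem F57139 : act 4 n36387 = n17570 := d10_1 D36387 (iv6 D17570) D17568
def n36389 : Q := act 1 n17572
theorem D36389 : act 1 n17572 = n36389 := rfl
def n36390 : Q := act 2 n17572
theorem D36390 : act 2 n17572 = n36390 := rfl
def n36391 : Q := act 4 n17572
theorem D36391 : act 4 n17572 = n36391 := rfl
def n36392 : Q := act 6 n17572
theorem D36392 : act 6 n17572 = n36392 := rfl
theorem F57140 : act 3 n36392 = n17574 := d7_1 D36392 (iv6 D17574) D17572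
def n36393 : Q := act 3 n17573
theorem D36393 : act 3 n17573 = n36393 := rfl
def n36394 : Q := act 5 n17573
theorem D36394 : act 5 n17573 = n36394 := rfl
def n36395 : Q := act 6 n17573
theorem D36395 : act 6 n17573 = n36395 := rfl
theorem F57141 : act 4 n36395 = n17574 := d10_1 D36395 (iv6 D17574) D17573
theorem F57142 : act 0 n34797 = n36395 := d18_2 F44694 D34797 F57141 (iv5 F28782) (iv4 F46229) F56392 F56388 (iv0 D27694) D27695
theorem F57143 : act 1 n34790 = n36395 := d18_6 (iv1 D8004) (iv4 F11677) D15698 F38268 D16855 D34790 F57141 (iv0 F28784) (iv5 D17111)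
def n36396 : Q := act 3 n17575
theorem D36396 : act 3 n17575 = n36396 := rfl
def n36397 : Q := act 5 n17575
theorem D36397 : act 5 n17575 = n36397 := rfl
def n36398 : Q := act 6 n17575
theorem D36398 : act 6 n17575 = n36398 := rfl
theorem F57144 : act 4 n36398 = n18621 := d10_1 D36398 (iv6 D18621) (iv4 F43808)
def n36399 : Q := act 3 n17576
theorem D36399 : act 3 n17576 = n36399 := rfl
def n36400 : Q := act 5 n17576
theorem D36400 : act 5 n17576 = n36400 := rfl
def n36401 : Q := act 6 n17576
theorem D36401 : act 6 n17576 = n36401 := rfl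
theorem F57145 : act 4 n36401 = n18624 := d10_1 D36401 (iv6 D18624) (iv4 F42190)
theorem F57146 : act 0 n35258 = n36401 := d18_2 F30430 D35258 F57145 F29896 (iv4 F29128) F53095 (iv4 F53082) (iv0 D17307) D17309
theorem F57147 : act 1 n35251 = n36401 := d18_6 (iv1 D7984) F5649 D7754 F28972 D17106 D35251 F57145 (iv0 F29897) (iv5 D17068)
def n36402 : Q := act 0 n17577
theorem D36402 : act 0 n17577 = n36402 := rfl
def n36403 : Q := act 1 n17577
theorem D36403 : act 1 n17577 = n36403 := rfl
def n36404 : Q := act 2 n17577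
theorem D36404 : act 2 n17577 = n36404 := rfl
theorem F57148 : act 6 n36404 = n17600 := d3_2 (iv6 F28557) D36404 (iv2 D17600)
def n36405 : Q := act 5 n17577
theorem D36405 : act 5 n17577 = n36405 := rfl
theorem F57149 : act 3 n36405 = n17578 := d6_1 D36405 (iv5 D17578) D17577
def n36406 : Q := act 7 n17577
theorem D36406 : act 7 n17577 = n36406 := rfl
theorem F57150 : act 3 n36406 = n17579 := d8_1 D36406 (iv7 D17579) D17577
def n36407 : Q := act 0 n17578
theorem D36407 : act 0 n17578 = n36407 := rfl
theorem F57151 : act 5 n36407 = n18603 := d17_3 (iv1 D17576) D17578 D36407 (iv4 D18603) (iv5 D8735) (iv0 D3907) D3909 D8743 (iv4 F42190)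
def n36408 : Q := act 1 n17578
theorem D36408 : act 1 n17578 = n36408 := rfl
theorem F57152 : act 5 n36408 = n18616 := d17_7 (iv1 F28542) (iv5 D8250) (iv1 D3711) D3712 D8254 D17578 D36408 (iv0 F57070) (iv4 D36331)
def n36409 : Q := act 4 n17578
theorem D36409 : act 4 n17578 = n36409 := rfl
def n36410 : Q := act 7 n17578
theorem D36410 : act 7 n17578 = n36410 := rfl
theorem F57153 : act 5 n36410 = n17579 := d13_1 D36410 (iv7 D17579) D17578
def n36411 : Q := act 5 n17581
theorem D36411 : act 5 n17581 = n36411 := rfl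
theorem F57154 : act 2 n36411 = n19710 := d2_1 D36411 (iv5 D19710) (iv2 F28560)
theorem F57155 : act 3 n36411 = n19864 := d6_1 D36411 (iv5 D19864) (iv3 F28561)
theorem F57156 : act 7 n36411 = n21468 := d13_2 (iv7 F28562) D36411 (iv5 D21468)
theorem F57157 : act 1 n36411 = n19124 := d17_6 (iv1 D8118) D8120 D17339 F30319 D17581 D36411 (iv5 D19124) F17586 F17491
theorem F57158 : act 4 n36411 = n20280 := d18_5 F7024 (iv4 F5714) D8256 D17581 D36411 (iv0 D20280) (iv4 D9597) (iv0 F17548) (iv5 D8930)
theorem F57159 : act 0 n36411 = n20105 := d21_1 D36411 (iv5 D20105) (iv6 F16917) (iv1 F17403) (iv6 D4754) (iv5 F7137) (iv1 F12151) (iv5 F6931) D8988 F28564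
def n36412 : Q := act 4 n17583
theorem D36412 : act 4 n17583 = n36412 := rfl
theorem F57160 : act 2 n36412 = n17586 := d1_1 D36412 (iv4 D17586) (iv2 F28566)
theorem F57161 : act 7 n36412 = n35805 := d11_2 (iv7 F28568) D36412 (iv4 D35805)
theorem F57162 : act 0 n36412 = n35808 := d18_2 (iv1 F28569) D36412 (iv4 F56469) (iv5 D20277) (iv4 D9591) F6213 D9570 (iv0 F17514) D17118
theorem F57163 : act 1 n36412 = n35807 := d18_6 (iv1 F16926) (iv4 D9104) (iv1 F6123) (iv4 F13028) D17583 D36412 F56468 (iv0 F33909) (iv5 D21550)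
def n36413 : Q := act 6 n17583
theorem D36413 : act 6 n17583 = n36413 := rfl
theorem F57164 : act 2 n36413 = n17587 := d3_1 D36413 (iv6 D17587) (iv2 F28566)
theorem F57165 : act 3 n36413 = n35194 := d7_1 D36413 F55938 (iv3 F28567)
theorem F57166 : act 5 n36413 = n17681 := d12_1 D36413 (iv6 D17681) F13140 (iv6 F13029) D17583
def n36414 : Q := act 4 n17584
theorem D36414 : act 4 n17584 = n36414 := rfl
theorem F57167 : act 2 n36414 = n35778 := d1_1 D36414 (iv4 D35778) F28573
theorem F57168 : act 7 n36414 = n35269 := d11_2 F28574 D36414 (iv4 D35269)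
def n36415 : Q := act 6 n17584
theorem D36415 : act 6 n17584 = n36415 := rfl
theorem F57169 : act 2 n36415 = n35779 := d3_1 D36415 (iv6 D35779) F28573
theorem F57170 : act 5 n36415 = n35783 := d12_1 D36415 (iv6 D35783) F30319 F17559 (iv5 F28571)
def n36416 : Q := act 3 n17585
theorem D36416 : act 3 n17585 = n36416 := rfl
theorem F57171 : act 2 n36416 = n19491 := d0_1 D36416 F31207 (iv2 F31147) F31148 F28578
theorem F57172 : act 5 n36416 = n19481 := d6_2 (iv5 F28577) D36416 F31166
theorem F57173 : act 7 n36416 = n35310 := d8_2 (iv7 F28576) D36416 (iv3 F56025)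
theorem F57174 : act 0 n17609 = n36416 := d17_2 (iv1 D17608) D17609 F57172 F31167 D19491 (iv0 F44035) (iv5 D27226) F28079 F28629
theorem F57175 : act 1 n34437 = n36416 := d17_6 (iv1 D8858) D8859 F27391 (iv5 D16704) D16703 D34437 F57172 (iv0 F31169) F28127
def n36417 : Q := act 4 n17585
theorem D36417 : act 4 n17585 = n36417 := rfl
theorem F57176 : act 2 n36417 = n35269 := d1_1 D36417 (iv4 D35269) F28578
theorem F57177 : act 7 n36417 = n35778 := d11_2 (iv7 F28576) D36417 (iv4 D35778)
def n36418 : Q := act 6 n17585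
theorem D36418 : act 6 n17585 = n36418 := rfl
theorem F57178 : act 2 n36418 = n18943 := d3_1 D36418 F30248 F28578
theorem F57179 : act 5 n36418 = n18927 := d12_1 D36418 (iv6 D18927) F13834 D9155 (iv5 F28577)
def n36419 : Q := act 0 n17586
theorem D36419 : act 0 n17586 = n36419 := rfl
theorem F57180 : act 4 n36419 = n20248 := d18_3 (iv1 D17585) D17586 D36419 (iv5 D20248) (iv4 D9562) (iv0 D4315) D4318 (iv0 F17517) (iv5 F28577)
theorem F57181 : act 1 n35805 = n36419 := d15_0 (iv0 D36419) F28579 (iv2 F56464)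
theorem F57182 : act 2 n35808 = n36419 := d1_3 F57180 (iv2 F32165) F56469
theorem F57183 : act 7 n35807 = n36419 := d11_0 F57180 F32111 (iv4 F56468)
def n36420 : Q := act 1 n17586
theorem D36420 : act 1 n17586 = n36420 := rfl
theorem F57184 : act 1 n36420 = n35805 := d15_1 D36420 (iv7 F57161) F57160
theorem F57185 : act 7 n36420 = n35808 := d15_2 (iv0 D36419) D36420 F57182
theorem F57186 : act 4 n36420 = n19833 := d18_7 F16936 F13903 F7024 (iv4 F5714) D8258 D17586 D36420 F31632 (iv5 D19159)
theorem F57187 : act 2 n35807 = n36420 := d1_3 F57186 F31630 (iv4 F56468)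
def n36421 : Q := act 3 n17586
theorem D36421 : act 3 n17586 = n36421 := rfl
theorem F57188 : act 4 n36421 = n17588 := d5_2 D17586 D36421 (iv3 D17588) (iv4 D8259) (iv3 F13030)
theorem F57189 : act 7 n36421 = n35809 := d8_2 (iv7 F28579) D36421 (iv3 D35809)
def n36422 : Q := act 5 n17586
theorem D36422 : act 5 n17586 = n36422 := rfl
theorem F57190 : act 7 n36422 = n35810 := d13_2 (iv7 F28579) D36422 (iv5 D35810)
def n36423 : Q := act 6 n17586
theorem D36423 : act 6 n17586 = n36423 := rfl
theorem F57191 : act 4 n36423 = n17587 := d10_1 D36423 (iv6 D17587) D17586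
def n36424 : Q := act 0 n17587
theorem D36424 : act 0 n17587 = n36424 := rfl
def n36425 : Q := act 1 n17587
theorem D36425 : act 1 n17587 = n36425 := rfl
def n36426 : Q := act 7 n17587
theorem D36426 : act 7 n17587 = n36426 := rfl
theorem F57192 : act 3 n36426 = n17592 := d8_1 D36426 (iv7 D17592) (iv3 F28580)
theorem F57193 : act 5 n36426 = n17686 := d13_1 D36426 (iv7 D17686) (iv5 F28581)
theorem F57194 : act 6 n36426 = n35814 := d14_1 D36426 (iv7 D35814) (iv6 D17349) (iv7 F13031) D17587
def n36427 : Q := act 0 n17588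
theorem D36427 : act 0 n17588 = n36427 := rfl
theorem F57195 : act 1 n35817 = n36427 := d15_0 (iv0 D36427) F28582 D35817
def n36428 : Q := act 1 n17588
theorem D36428 : act 1 n17588 = n36428 := rfl
def n36429 : Q := act 2 n17588
theorem D36429 : act 2 n17588 = n36429 := rfl
theorem F57196 : act 3 n36429 = n35268 := d0_2 D17588 D36429 (iv2 D35268) (iv3 D17117) (iv2 F13032)
theorem F57197 : act 7 n36429 = n35817 := d4_2 (iv7 F28582) D36429 (iv2 D35817)
theorem F57198 : act 1 n36429 = n35815 := d15_0 (iv0 D35815) (iv7 F28582) D36429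
theorem F57199 : act 1 n36428 = n35817 := d15_1 D36428 (iv7 F57197) (iv2 D36429)
theorem F57200 : act 1 n35816 = n36429 := d15_1 D35816 F57197 (iv2 D35817)
def n36430 : Q := act 6 n17588
theorem D36430 : act 6 n17588 = n36430 := rfl
theorem F57201 : act 3 n36430 = n17589 := d7_1 D36430 (iv6 D17589) D17588
def n36431 : Q := act 5 n17589
theorem D36431 : act 5 n17589 = n36431 := rfl
theorem F57202 : act 2 n36431 = n35264 := d2_1 D36431 (iv5 D35264) (iv2 F28583)
theorem F57203 : act 6 n36431 = n35632 := d12_2 D17589 D36431 (iv5 D35632) F28209 F13048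
def n36432 : Q := act 7 n17589
theorem D36432 : act 7 n17589 = n36432 := rfl
theorem F57204 : act 2 n36432 = n35265 := d4_1 D36432 (iv7 D35265) (iv2 F28583)
theorem F57205 : act 4 n36432 = n17592 := d11_1 D36432 (iv7 D17592) (iv4 F28584)
theorem F57206 : act 6 n36432 = n35820 := d14_1 D36432 (iv7 D35820) (iv6 D17351) (iv7 F13033) D17589
theorem F57207 : act 1 n34802 = n36432 := d15_1 (iv0 F55006) (iv7 D36432) F28583
theorem F57208 : act 1 n36432 = n34799 := d15_1 F57207 (iv7 F55889) F55888
def n36433 : Q := act 3 n17590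
theorem D36433 : act 3 n17590 = n36433 := rfl
theorem F57210 : act 7 n36433 = n35261 := d8_2 (iv7 F53083) D36433 (iv3 D35261)
def n36434 : Q := act 3 n17591
theorem D36434 : act 3 n17591 = n36434 := rfl
theorem F57211 : act 5 n36434 = n33909 := d6_2 F28960 D36434 F53252
theorem F57212 : act 7 n36434 = n35259 := d8_2 F53086 D36434 (iv3 D35259)
def n36435 : Q := act 6 n17591
theorem D36435 : act 6 n17591 = n36435 := rfl
theorem F57213 : act 2 n36435 = n35262 := d3_1 D36435 (iv6 D35262) F53084
theorem F57214 : act 5 n36435 = n33912 := d12_1 D36435 (iv6 D33912) (iv5 D16393) D16394 F28960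
theorem F57215 : act 0 n35853 = n36435 := d21_1 (iv5 F56512) F57214 (iv6 D33912) F28957 F28840 (iv5 D12888) (iv1 F9493) (iv5 F12881) D17324 (iv1 F43532)
def n36436 : Q := act 4 n17593
theorem D36436 : act 4 n17593 = n36436 := rfl
theorem F57216 : act 2 n36436 = n17596 := d1_1 D36436 (iv4 D17596) (iv2 F28595)
theorem F57217 : act 7 n36436 = n35196 := d11_2 (iv7 F28597) D36436 (iv4 D35196)
theorem F57218 : act 0 n36436 = n34465 := d18_2 F28599 D36436 (iv4 D34465) (iv5 D16718) (iv4 F12775) F21418 F21413 F21416 (iv5 F28049)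
theorem F57219 : act 1 n36436 = n35242 := d18_6 F28061 (iv4 D17098) (iv1 F13041) F13038 D17593 D36436 (iv4 F56429) F56428 (iv5 D34434)
def n36437 : Q := act 4 n17594
theorem D36437 : act 4 n17594 = n36437 := rfl
theorem F57220 : act 2 n36437 = n35188 := d1_1 D36437 (iv4 D35188) F28602
theorem F57221 : act 7 n36437 = n35240 := d11_2 F28603 D36437 (iv4 D35240)
def n36438 : Q := act 6 n17594
theorem D36438 : act 6 n17594 = n36438 := rfl
theorem F57222 : act 2 n36438 = n35186 := d3_1 D36438 F55931 F28602
theorem F57223 : act 5 n36438 = n18887 := d12_1 D36438 (iv6 D18887) (iv5 F13764) D12861 (iv5 F28600)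
def n36439 : Q := act 4 n17595
theorem D36439 : act 4 n17595 = n36439 := rfl
theorem F57224 : act 2 n36439 = n35240 := d1_1 D36439 (iv4 D35240) (iv2 F28607)
theorem F57225 : act 7 n36439 = n35188 := d11_2 (iv7 F28605) D36439 (iv4 D35188)
def n36440 : Q := act 6 n17595
theorem D36440 : act 6 n17595 = n36440 := rfl
theorem F57226 : act 2 n36440 = n35241 := d3_1 D36440 (iv6 D35241) (iv2 F28607)
theorem F57227 : act 5 n36440 = n35754 := d12_1 D36440 (iv6 D35754) (iv5 F28268) (iv6 F27421) F28606
def n36441 : Q := act 0 n17596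
theorem D36441 : act 0 n17596 = n36441 := rfl
theorem F57228 : act 4 n36441 = n34462 := d18_3 (iv1 D17595) D17596 D36441 (iv5 D34462) F27415 F27423 F9500 D12901 F28606
theorem F57229 : act 1 n35196 = n36441 := d15_0 (iv0 D36441) F28608 (iv2 F55943)
theorem F57230 : act 2 n34465 = n36441 := d1_3 F57228 F54680 D34465
theorem F57231 : act 7 n35242 = n36441 := d11_0 F57228 (iv7 F56426) F56429
def n36442 : Q := act 1 n17596
theorem D36442 : act 1 n17596 = n36442 := rfl
theorem F57232 : act 1 n36442 = n35196 := d15_1 D36442 (iv7 F57217) F57216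
theorem F57233 : act 7 n36442 = n34465 := d15_2 (iv0 D36441) D36442 F57230
theorem F57234 : act 4 n36442 = n34466 := d18_7 (iv1 F28086) F27549 (iv1 D8262) F5720 D8264 D17596 D36442 (iv0 F56030) (iv5 D35312)
theorem F57235 : act 2 n35242 = n36442 := d1_3 F57234 (iv2 F56425) F56429
def n36443 : Q := act 3 n17596
theorem D36443 : act 3 n17596 = n36443 := rfl
theorem F57236 : act 4 n36443 = n17597 := d5_2 D17596 D36443 (iv3 D17597) (iv4 D8265) (iv3 F13044)
theorem F57237 : act 7 n36443 = n35243 := d8_2 (iv7 F28608) D36443 (iv3 D35243)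
def n36444 : Q := act 5 n17596
theorem D36444 : act 5 n17596 = n36444 := rfl
theorem F57238 : act 7 n36444 = n35244 := d13_2 (iv7 F28608) D36444 (iv5 D35244)
def n36445 : Q := act 0 n17597
theorem D36445 : act 0 n17597 = n36445 := rfl
theorem F57239 : act 1 n35268 = n36445 := d15_0 (iv0 D36445) F28610 D35268
def n36446 : Q := act 1 n17597
theorem D36446 : act 1 n17597 = n36446 := rfl
def n36447 : Q := act 2 n17597
theorem D36447 : act 2 n17597 = n36447 := rfl
theorem F57240 : act 3 n36447 = n35817 := d0_2 D17597 D36447 (iv2 D35817) (iv3 D17350) (iv2 F13046)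
theorem F57241 : act 5 n36447 = n36429 := d2_2 (iv5 F28609) D36447 (iv2 D36429)
theorem F57242 : act 7 n36447 = n35268 := d4_2 (iv7 F28610) D36447 (iv2 D35268)
theorem F57243 : act 1 n36447 = n35266 := d15_0 (iv0 D35266) (iv7 F28610) D36447
theorem F57244 : act 1 n36446 = n35268 := d15_1 D36446 (iv7 F57242) (iv2 D36447)
theorem F57245 : act 1 n35267 = n36447 := d15_1 D35267 F57242 (iv2 D35268)
def n36448 : Q := act 2 n17598
theorem D36448 : act 2 n17598 = n36448 := rfl
theorem F57246 : act 7 n17599 = n36448 := d15_2 (iv0 D17598) D17599 (iv2 D36448)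
def n36449 : Q := act 3 n17598
theorem D36449 : act 3 n17598 = n36449 := rfl
def n36450 : Q := act 4 n17598
theorem D36450 : act 4 n17598 = n36450 := rfl
def n36451 : Q := act 5 n17598
theorem D36451 : act 5 n17598 = n36451 := rfl
def n36452 : Q := act 6 n17598
theorem D36452 : act 6 n17598 = n36452 := rfl
def n36453 : Q := act 7 n17598
theorem D36453 : act 7 n17598 = n36453 := rfl
theorem F57247 : act 2 n36453 = n17599 := d4_1 D36453 F57246 (iv2 D36448)
def n36454 : Q := act 3 n17599
theorem D36454 : act 3 n17599 = n36454 := rfl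
def n36455 : Q := act 4 n17599
theorem D36455 : act 4 n17599 = n36455 := rfl
def n36456 : Q := act 5 n17599
theorem D36456 : act 5 n17599 = n36456 := rfl
def n36457 : Q := act 6 n17599
theorem D36457 : act 6 n17599 = n36457 := rfl
def n36458 : Q := act 3 n17601
theorem D36458 : act 3 n17601 = n36458 := rfl
def n36459 : Q := act 4 n17601
theorem D36459 : act 4 n17601 = n36459 := rfl
def n36460 : Q := act 5 n17602
theorem D36460 : act 5 n17602 = n36460 := rfl
theorem F57248 : act 2 n36460 = n18140 := d2_1 D36460 (iv5 D18140) (iv2 F28611)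
theorem F57251 : act 1 n36460 = n18058 := d17_6 (iv1 D8417) D8419 F28622 (iv5 D17605) (iv4 F28613) D36460 (iv5 D18058) (iv0 F17624) (iv4 F17476)
def n36461 : Q := act 3 n17603
theorem D36461 : act 3 n17603 = n36461 := rfl
theorem F57252 : act 4 n36461 = n27370 := d5_2 D17603 D36461 (iv3 D27370) (iv4 D13112) (iv3 F13055)
theorem F57253 : act 7 n36461 = n35197 := d8_2 (iv7 F28617) D36461 (iv3 D35197)
def n36462 : Q := act 5 n17603
theorem D36462 : act 5 n17603 = n36462 := rfl
theorem F57254 : act 2 n36462 = n35204 := d2_1 D36462 (iv5 D35204) (iv2 F28616)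
theorem F57255 : act 7 n36462 = n35198 := d13_2 (iv7 F28617) D36462 (iv5 D35198)
theorem F57256 : act 4 n36462 = n18135 := d16_2 D17603 D36462 (iv5 D18135) (iv4 D8551) (iv5 D3825) F5729 D8271 F13314 (iv2 F13313)
def n36463 : Q := act 6 n17603
theorem D36463 : act 6 n17603 = n36463 := rfl
theorem F57257 : act 2 n36463 = n35205 := d3_1 D36463 (iv6 D35205) (iv2 F28616)
theorem F57258 : act 4 n36463 = n17604 := d10_1 D36463 (iv6 D17604) D17603
def n36464 : Q := act 0 n17604
theorem D36464 : act 0 n17604 = n36464 := rfl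
def n36465 : Q := act 1 n17604
theorem D36465 : act 1 n17604 = n36465 := rfl
def n36466 : Q := act 5 n17604
theorem D36466 : act 5 n17604 = n36466 := rfl
theorem F57260 : act 2 n36466 = n35208 := d2_1 D36466 (iv5 D35208) (iv2 F28618)
theorem F57261 : act 3 n36466 = n27374 := d6_1 D36466 (iv5 D27374) (iv3 F28619)
theorem F57262 : act 6 n36466 = n17605 := d12_2 D17604 D36466 (iv5 D17605) (iv6 D8270) D8269
def n36467 : Q := act 7 n17604
theorem D36467 : act 7 n17604 = n36467 := rfl
theorem F57263 : act 2 n36467 = n35209 := d4_1 D36467 (iv7 D35209) (iv2 F28618)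
theorem F57264 : act 3 n36467 = n27375 := d8_1 D36467 (iv7 D27375) (iv3 F28619)
theorem F57265 : act 6 n36467 = n35202 := d14_1 D36467 (iv7 D35202) (iv6 D17088) F13312 D17604
theorem F57266 : act 1 n35209 = n36464 := d15_0 (iv0 D36464) D36467 F57263
theorem F57267 : act 1 n35207 = n36467 := d15_1 D35207 (iv7 D36467) F28618
def n36469 : Q := act 3 n17606
theorem D36469 : act 3 n17606 = n36469 := rfl
theorem F57270 : act 7 n36469 = n35203 := d8_2 (iv7 F28624) D36469 (iv3 D35203)
def n36470 : Q := act 5 n17606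
theorem D36470 : act 5 n17606 = n36470 := rfl
theorem F57271 : act 2 n36470 = n35198 := d2_1 D36470 (iv5 D35198) (iv2 F28623)
theorem F57272 : act 4 n36470 = n35607 := d9_1 D36470 F56286 F28735 F27472 (iv4 D8268) D8269 D17603 D36462 F57256 (iv5 D18135) (iv4 D8551) (iv5 D3825) F5729 D8271 D17606
theorem F57273 : act 7 n36470 = n35204 := d13_2 (iv7 F28624) D36470 (iv5 D35204)
def n36471 : Q := act 6 n17606
theorem D36471 : act 6 n17606 = n36471 := rfl
theorem F57274 : act 2 n36471 = n35199 := d3_1 D36471 (iv6 D35199) (iv2 F28623)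
theorem F57275 : act 4 n36471 = n17607 := d10_1 D36471 (iv6 D17607) D17606
def n36473 : Q := act 1 n17607
theorem D36473 : act 1 n17607 = n36473 := rfl
theorem F57276 : act 1 n36473 = n35202 := d15_1 D36473 (iv7 D35202) (iv2 F28625)
def n36474 : Q := act 7 n17607
theorem D36474 : act 7 n17607 = n36474 := rfl
theorem F57279 : act 6 n36474 = n35209 := d14_1 D36474 (iv7 D35209) (iv6 D17090) (iv7 F13314) D17607
theorem F57281 : act 1 n35201 = n36474 := d15_1 D35201 (iv7 D36474) F28625
def n36475 : Q := act 1 n17609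
theorem D36475 : act 1 n17609 = n36475 := rfl
theorem F57283 : act 1 n36475 = n34437 := d15_1 D36475 F54641 F44034
theorem F57284 : act 7 n36475 = n19491 := d15_2 (iv0 F57174) D36475 (iv2 F57171)
theorem F57285 : act 5 n36475 = n19492 := d17_7 (iv1 F28302) F29164 (iv1 D18003) (iv5 D8492) (iv4 F13096) D17609 D36475 F31214 F28166
theorem F57286 : act 2 n35310 = n36475 := d2_3 F57285 F31209 (iv5 F56023)
theorem F57287 : act 3 n19500 = n36475 := d6_3 F57285 F31210 (iv5 F31225)
def n36476 : Q := act 4 n17609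
theorem D36476 : act 4 n17609 = n36476 := rfl
theorem F57288 : act 7 n36476 = n35311 := d11_2 (iv7 F28633) D36476 (iv4 D35311)
theorem F57289 : act 0 n36476 = n18902 := d18_2 (iv1 D36475) D36476 (iv4 D18902) (iv5 D8859) F5895 D8858 (iv4 F28127) F31213 (iv5 F57285)
def n36477 : Q := act 6 n17610
theorem D36477 : act 6 n17610 = n36477 := rfl
theorem F57290 : act 2 n36477 = n17993 := d3_1 D36477 (iv6 D17993) (iv2 F28634)
theorem F57291 : act 3 n36477 = n17612 := d7_1 D36477 (iv6 D17612) (iv3 F28635)
def n36478 : Q := act 0 n17612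
theorem D36478 : act 0 n17612 = n36478 := rfl
def n36479 : Q := act 1 n17612
theorem D36479 : act 1 n17612 = n36479 := rfl
def n36480 : Q := act 5 n17612
theorem D36480 : act 5 n17612 = n36480 := rfl
theorem F57292 : act 6 n36480 = n17613 := d12_2 D17612 D36480 (iv5 D17613) (iv6 D8279) D8278
def n36481 : Q := act 7 n17612
theorem D36481 : act 7 n17612 = n36481 := rfl
def n36482 : Q := act 0 n17613
theorem D36482 : act 0 n17613 = n36482 := rfl
theorem F57293 : act 5 n36482 = n19048 := d17_3 (iv1 F27455) D17613 D36482 F30563 D34458 (iv0 F54670) (iv5 D17510) F28488 F28486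
theorem F57294 : act 4 n36482 = n36248 := d18_1 D36482 (iv1 D36248) (iv4 D17507) (iv5 D8233) D8232 (iv0 F15243) (iv4 F27452) (iv0 F27454) D17613
theorem F57295 : act 2 n35105 = n36482 := d15_3 (iv0 D36482) F44568 (iv7 F55786)
theorem F57296 : act 1 n27021 = n36482 := d15_0 (iv0 D36482) F28645 (iv2 F43659)
theorem F57297 : act 7 n36482 = n35318 := d15_2 (iv0 F44569) F57296 (iv2 F56038)
theorem F57298 : act 3 n19051 = n36482 := d8_3 F57297 F56040 F32111
def n36483 : Q := act 4 n17613
theorem D36483 : act 4 n17613 = n36483 := rfl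
theorem F57299 : act 2 n36483 = n26925 := d1_1 D36483 (iv4 F43720) F43717
theorem F57300 : act 7 n36483 = n26924 := d11_2 (iv7 F28645) D36483 F43420
theorem F57301 : act 0 n36483 = n26878 := d18_2 (iv1 F44568) D36483 (iv4 D26878) (iv5 D12865) F9479 D8053 D17172 (iv0 F43537) (iv5 F44567)
theorem F57302 : act 1 n36483 = n26928 := d18_6 F12983 (iv4 F9579) F16976 (iv4 F13102) D17613 D36483 F43422 (iv0 F21394) (iv5 D8204)
def n36484 : Q := act 0 n17614
theorem D36484 : act 0 n17614 = n36484 := rfl
theorem F57303 : act 4 n36484 = n34458 := d18_3 (iv1 F13431) D17614 D36484 (iv5 D34458) (iv4 F30563) F30567 (iv4 D17172) F12856 (iv5 F12871)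
theorem F57304 : act 1 n27022 = n36484 := d15_0 (iv0 D36484) F28647 (iv2 F43661)
theorem F57305 : act 2 n35344 = n36484 := d1_3 F57303 (iv2 F56756) F56760
theorem F57306 : act 7 n35343 = n36484 := d11_0 F57303 F54668 (iv4 F56061)
def n36485 : Q := act 1 n17614
theorem D36485 : act 1 n17614 = n36485 := rfl
theorem F57307 : act 1 n36485 = n27022 := d15_1 D36485 F43662 (iv2 F28646)
theorem F57308 : act 7 n36485 = n35344 := d15_2 (iv0 D36484) D36485 F57305
theorem F57309 : act 4 n36485 = n36243 := d18_7 D17503 F28486 (iv1 F27455) F13102 D8286 D17614 D36485 (iv0 D36243) (iv5 D17505)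
theorem F57310 : act 2 n35343 = n36485 := d1_3 F57309 (iv2 F56957) (iv4 F56061)
def n36486 : Q := act 3 n17614
theorem D36486 : act 3 n17614 = n36486 := rfl
theorem F57311 : act 7 n36486 = n35345 := d8_2 (iv7 F28647) D36486 (iv3 D35345)
def n36487 : Q := act 5 n17614
theorem D36487 : act 5 n17614 = n36487 := rfl
theorem F57312 : act 2 n36487 = n35574 := d2_1 D36487 (iv5 D35574) (iv2 F28646)
theorem F57313 : act 7 n36487 = n35346 := d13_2 (iv7 F28647) D36487 (iv5 D35346)
def n36489 : Q := act 1 n17615
theorem D36489 : act 1 n17615 = n36489 := rfl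
def n36490 : Q := act 7 n17615
theorem D36490 : act 7 n17615 = n36490 := rfl
theorem F57314 : act 3 n36490 = n17991 := d8_1 D36490 (iv7 D17991) (iv3 F28648)
theorem F57315 : act 5 n36490 = n35352 := d13_1 D36490 (iv7 D35352) (iv5 F28649)
def n36491 : Q := act 0 n17616
theorem D36491 : act 0 n17616 = n36491 := rfl
def n36492 : Q := act 1 n17616
theorem D36492 : act 1 n17616 = n36492 := rfl
def n36493 : Q := act 5 n17616
theorem D36493 : act 5 n17616 = n36493 := rfl
theorem F57316 : act 3 n36493 = n17617 := d6_1 D36493 (iv5 D17617) D17616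
def n36494 : Q := act 6 n17616
theorem D36494 : act 6 n17616 = n36494 := rfl
theorem F57317 : act 3 n36494 = n17618 := d7_1 D36494 (iv6 D17618) D17616
def n36496 : Q := act 0 n17618
theorem D36496 : act 0 n17618 = n36496 := rfl
def n36497 : Q := act 1 n17618
theorem D36497 : act 1 n17618 = n36497 := rfl
theorem F57320 : act 1 n36497 = n17651 := d15_1 D36497 (iv7 D17651) (iv2 F28652)
def n36498 : Q := act 5 n17618
theorem D36498 : act 5 n17618 = n36498 := rfl
theorem F57321 : act 2 n36498 = n17650 := d2_1 D36498 (iv5 D17650) (iv2 F28652)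
def n36499 : Q := act 7 n17618
theorem D36499 : act 7 n17618 = n36499 := rfl
theorem F57322 : act 2 n36499 = n17651 := d4_1 D36499 (iv7 D17651) (iv2 F28652)
theorem F57323 : act 4 n36499 = n17621 := d11_1 D36499 (iv7 D17621) (iv4 F28653)
theorem F57324 : act 1 n17651 = n36496 := d15_0 (iv0 D36496) D36499 F57322
theorem F57325 : act 1 n17649 = n36499 := d15_1 D17649 (iv7 D36499) F28652
theorem F57326 : act 4 n17940 = n36496 := d20_6 (iv4 F41740) (iv1 D7427) F5400 (iv3 F5787) D8463 D17940 (iv1 F57324) F28725 F13122 (iv1 F9619)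
theorem F57327 : act 1 n36499 = n17648 := d15_0 (iv0 D17648) D17651 (iv2 F57322)
def n36500 : Q := act 2 n17619
theorem D36500 : act 2 n17619 = n36500 := rfl
theorem F57328 : act 7 n17620 = n36500 := d15_2 (iv0 D17619) D17620 (iv2 D36500)
theorem F57329 : act 5 n36500 = n35514 := d13_1 F57328 (iv7 D35514) F28655
def n36501 : Q := act 3 n17619
theorem D36501 : act 3 n17619 = n36501 := rfl
def n36502 : Q := act 4 n17619
theorem D36502 : act 4 n17619 = n36502 := rfl
def n36503 : Q := act 5 n17619
theorem D36503 : act 5 n17619 = n36503 := rfl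
theorem F57330 : act 2 n36503 = n35514 := d2_1 D36503 (iv5 F57329) (iv2 D36500)
theorem F57331 : act 7 n35493 = n36503 := d4_0 F57330 (iv7 D35514) (iv2 F56181)
theorem F57332 : act 1 n36503 = n35512 := d15_0 (iv0 D35512) D35514 (iv2 F57330)
theorem F57333 : act 6 n36503 = n35530 := d14_1 F57331 (iv7 D35530) (iv6 D17213) F28161 D35493
theorem F57334 : act 1 n35513 = n36503 := d15_1 D35513 (iv7 F57331) F56181
def n36504 : Q := act 6 n17619
theorem D36504 : act 6 n17619 = n36504 := rfl
theorem F57335 : act 5 n36504 = n27061 := d21_6 F13345 (iv1 F4179) D3733 D8300 D17619 D36504 (iv1 D27061) (iv5 D12963) (iv6 D6156) D6153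
def n36505 : Q := act 7 n17619
theorem D36505 : act 7 n17619 = n36505 := rfl
def n36506 : Q := act 3 n17620
theorem D36506 : act 3 n17620 = n36506 := rfl
theorem F57338 : act 5 n36506 = n35499 := d6_2 F28655 D36506 F56185
theorem F57339 : act 4 n36506 = n27260 := d20_6 (iv4 F30384) (iv1 F21034) F11754 (iv3 F13122) (iv1 F28654) D36506 (iv1 D27260) F21785 F9680 D6217
def n36507 : Q := act 4 n17620
theorem D36507 : act 4 n17620 = n36507 := rfl
def n36508 : Q := act 6 n17620
theorem D36508 : act 6 n17620 = n36508 := rfl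
theorem F57340 : act 5 n36508 = n35510 := d12_1 D36508 (iv6 D35510) (iv5 D17207) D17208 F28655
def n36509 : Q := act 0 n17622
theorem D36509 : act 0 n17622 = n36509 := rfl
def n36510 : Q := act 1 n17622
theorem D36510 : act 1 n17622 = n36510 := rfl
def n36511 : Q := act 7 n17622
theorem D36511 : act 7 n17622 = n36511 := rfl
theorem F57341 : act 3 n36511 = n17629 := d8_1 D36511 (iv7 D17629) (iv3 F28661)
theorem F57342 : act 6 n36511 = n35308 := d14_1 D36511 (iv7 D35308) (iv6 D17138) (iv7 F13456) D17622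
def n36512 : Q := act 3 n17623
theorem D36512 : act 3 n17623 = n36512 := rfl
theorem F57343 : act 4 n36512 = n35210 := d5_2 (iv4 F28664) D36512 (iv3 D35210) F28038 (iv3 F27493)
theorem F57344 : act 7 n36512 = n35319 := d8_2 (iv7 F28663) D36512 (iv3 D35319)
theorem F57345 : act 0 n36512 = n35969 := d20_4 F21652 (iv1 F27496) (iv4 F28664) D36512 (iv3 D35969) (iv4 D17414) F26760 D12595 F20975 D13013
def n36513 : Q := act 6 n17623
theorem D36513 : act 6 n17623 = n36513 := rfl
theorem F57346 : act 2 n36513 = n34533 := d3_1 D36513 (iv6 D34533) F28665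
theorem F57347 : act 4 n36513 = n34530 := d10_1 D36513 (iv6 D34530) (iv4 F28664)
def n36514 : Q := act 6 n17624
theorem D36514 : act 6 n17624 = n36514 := rfl
theorem F57348 : act 2 n36514 = n18348 := d3_1 D36514 (iv6 D18348) (iv2 F28671)
theorem F57349 : act 3 n36514 = n17626 := d7_1 D36514 (iv6 D17626) D17624
theorem F57350 : act 4 n36514 = n22262 := d10_1 D36514 (iv6 D22262) (iv4 F28666)
def n36515 : Q := act 0 n17625
theorem D36515 : act 0 n17625 = n36515 := rfl
theorem F57351 : act 5 n36515 = n18230 := d17_1 D36515 F29397 (iv5 F34581) F34580 (iv5 D17476) (iv0 D8222) D8224 D17482 (iv4 F28675)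
theorem F57352 : act 4 n36515 = n27485 := d18_1 D36515 F44401 F28884 F28155 F21652 (iv0 D8575) D8576 F13482 D17625
theorem F57353 : act 0 n35465 = n18282 := d20_4 F57352 F44401 F28884 D35465 (iv3 D18282) (iv4 F15484) F15482 F13847 (iv3 F28673) D36515
theorem F57354 : act 1 n17634 = n36515 := d15_0 (iv0 D36515) F28674 (iv2 F28696)
theorem F57355 : act 2 n18353 = n36515 := d1_3 F57352 F56779 F56778
theorem F57356 : act 7 n18312 = n36515 := d11_0 F57352 F56775 F56773
def n36516 : Q := act 1 n17625
theorem D36516 : act 1 n17625 = n36516 := rfl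
theorem F57357 : act 1 n36516 = n17634 := d15_1 D36516 F28698 (iv2 F28672)
theorem F57358 : act 7 n36516 = n18353 := d15_2 (iv0 D36515) D36516 F57355
theorem F57359 : act 5 n36516 = n18309 := d17_7 (iv1 D6154) (iv5 D2591) D2588 (iv5 F13421) D8303 D17625 D36516 F29509 (iv4 D12955)
theorem F57360 : act 2 n18312 = n36516 := d2_3 F57359 F29506 D18312
def n36517 : Q := act 6 n17625
theorem D36517 : act 6 n17625 = n36517 := rfl
theorem F57361 : act 2 n36517 = n35356 := d3_1 D36517 (iv6 D35356) (iv2 F28672)
theorem F57362 : act 3 n36517 = n18248 := d7_1 D36517 (iv6 D18248) (iv3 F28673)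
theorem F57363 : act 4 n36517 = n36160 := d10_1 D36517 (iv6 D36160) (iv4 F28675)
def n36518 : Q := act 0 n17626
theorem D36518 : act 0 n17626 = n36518 := rfl
def n36519 : Q := act 1 n17626
theorem D36519 : act 1 n17626 = n36519 := rfl
theorem F57364 : act 1 n36519 = n35360 := d15_1 D36519 (iv7 D35360) (iv2 F28676)
def n36520 : Q := act 5 n17626
theorem D36520 : act 5 n17626 = n36520 := rfl
theorem F57365 : act 2 n36520 = n35359 := d2_1 D36520 (iv5 D35359) (iv2 F28676)
def n36521 : Q := act 7 n17626
theorem D36521 : act 7 n17626 = n36521 := rfl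
theorem F57366 : act 2 n36521 = n35360 := d4_1 D36521 (iv7 D35360) (iv2 F28676)
theorem F57367 : act 4 n36521 = n17629 := d11_1 D36521 (iv7 D17629) (iv4 F28677)
theorem F57368 : act 6 n36521 = n35324 := d14_1 D36521 (iv7 D35324) (iv6 D17146) (iv7 F13457) D17626
theorem F57369 : act 1 n35360 = n36518 := d15_0 (iv0 D36518) D36521 F57366
theorem F57370 : act 1 n35358 = n36521 := d15_1 D35358 (iv7 D36521) F28676
theorem F57371 : act 1 n36521 = n35357 := d15_0 (iv0 D35357) D35360 (iv2 F57366)
def n36522 : Q := act 2 n17627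
theorem D36522 : act 2 n17627 = n36522 := rfl
theorem F57372 : act 7 n17628 = n36522 := d15_2 (iv0 D17627) D17628 (iv2 D36522)
def n36523 : Q := act 3 n17627
theorem D36523 : act 3 n17627 = n36523 := rfl
def n36524 : Q := act 4 n17627
theorem D36524 : act 4 n17627 = n36524 := rfl
def n36525 : Q := act 5 n17627
theorem D36525 : act 5 n17627 = n36525 := rfl
def n36526 : Q := act 6 n17627
theorem D36526 : act 6 n17627 = n36526 := rfl
theorem F57373 : act 5 n36526 = n35577 := d21_6 (iv5 D2591) D2588 (iv5 F13421) D8305 D17627 D36526 (iv1 D35577) F28193 (iv6 D12956) (iv1 D6154)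
def n36527 : Q := act 7 n17627
theorem D36527 : act 7 n17627 = n36527 := rfl
theorem F57374 : act 2 n36527 = n17628 := d4_1 D36527 F57372 (iv2 D36522)
def n36528 : Q := act 3 n17628
theorem D36528 : act 3 n17628 = n36528 := rfl
def n36529 : Q := act 4 n17628
theorem D36529 : act 4 n17628 = n36529 := rfl
def n36530 : Q := act 5 n17628
theorem D36530 : act 5 n17628 = n36530 := rfl
theorem F57375 : act 6 n36530 = n17636 := d21_3 F28152 (iv1 F28678) D36530 (iv1 F28706) (iv6 F28680) (iv5 F43685) (iv1 F43688) D35444 (iv6 F56153) (iv1 F43687)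
def n36531 : Q := act 6 n17628
theorem D36531 : act 6 n17628 = n36531 := rfl
def n36532 : Q := act 6 n17630
theorem D36532 : act 6 n17630 = n36532 := rfl
theorem F57376 : act 2 n36532 = n17632 := d3_1 D36532 (iv6 D17632) D17630
theorem F57377 : act 3 n36532 = n21931 := d7_1 D36532 (iv6 D21931) (iv3 F28684)
theorem F57378 : act 4 n36532 = n27338 := d10_1 D36532 (iv6 D27338) F28689
def n36533 : Q := act 3 n17631
theorem D36533 : act 3 n17631 = n36533 := rfl
theorem F57379 : act 4 n36533 = n17633 := d5_2 D17631 D36533 (iv3 D17633) (iv4 D8308) D8307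
theorem F57380 : act 7 n36533 = n27333 := d8_2 (iv7 F28691) D36533 (iv3 D27333)
def n36534 : Q := act 6 n17631
theorem D36534 : act 6 n17631 = n36534 := rfl
theorem F57381 : act 2 n36534 = n27338 := d3_1 D36534 (iv6 D27338) (iv2 F28690)
theorem F57382 : act 4 n36534 = n17632 := d10_1 D36534 (iv6 D17632) D17631
def n36535 : Q := act 0 n17632
theorem D36535 : act 0 n17632 = n36535 := rfl
def n36536 : Q := act 1 n17632
theorem D36536 : act 1 n17632 = n36536 := rfl
def n36537 : Q := act 5 n17632
theorem D36537 : act 5 n17632 = n36537 := rfl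
theorem F57383 : act 3 n36537 = n17638 := d6_1 D36537 (iv5 D17638) (iv3 F28694)
theorem F57384 : act 6 n36537 = n27020 := d12_2 D17632 D36537 (iv5 D27020) (iv6 D12945) (iv5 F13428)
def n36538 : Q := act 7 n17632
theorem D36538 : act 7 n17632 = n36538 := rfl
theorem F57385 : act 3 n36538 = n17639 := d8_1 D36538 (iv7 D17639) (iv3 F28694)
theorem F57386 : act 6 n36538 = n35349 := d14_1 D36538 (iv7 D35349) (iv6 D17154) F13452 D17632
def n36539 : Q := act 0 n17633
theorem D36539 : act 0 n17633 = n36539 := rfl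
theorem F57387 : act 1 n18346 = n36539 := d15_0 (iv0 D36539) F28695 (iv2 F29531)
def n36540 : Q := act 1 n17633
theorem D36540 : act 1 n17633 = n36540 := rfl
theorem F57388 : act 3 n35961 = n36540 := d20_3 (iv4 F51495) (iv1 F51498) (iv4 F56660) (iv1 D36540) (iv3 D17633) (iv4 D8308) (iv1 D3735) D3736 (iv3 F11749) D16060
theorem F57389 : act 7 n36540 = n35354 := d8_2 (iv7 F56659) F57388 (iv3 F56067)
theorem F57390 : act 0 n18346 = n36540 := d20_4 F29328 (iv1 F17207) (iv4 F13549) (iv3 F29532) (iv3 F57388) F56660 F46090 F25586 F29428 F29426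
theorem F57391 : act 2 n35354 = n36539 := d15_3 (iv0 D36539) D36540 F57389
theorem F57392 : act 2 n36540 = n35353 := d15_3 (iv0 D35353) D35354 (iv7 F57389)
theorem F57393 : act 7 n35353 = n36539 := d4_2 (iv7 F57389) F57392 (iv2 F57391)
def n36541 : Q := act 2 n17633
theorem D36541 : act 2 n17633 = n36541 := rfl
theorem F57394 : act 3 n36541 = n18250 := d0_2 D17633 D36541 F29442 (iv3 F13554) F13454
theorem F57395 : act 7 n36541 = n18346 := d4_2 (iv7 F28695) D36541 F29531
theorem F57396 : act 1 n36541 = n35353 := d15_0 (iv0 D35353) (iv7 F28695) D36541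
theorem F57397 : act 1 n35354 = n36541 := d15_0 F57396 F57393 (iv2 F57391)
theorem F57398 : act 5 n18249 = n36541 := d13_3 F57395 (iv5 D18346) (iv7 F29441)
theorem F57399 : act 5 n35353 = n21952 := d17_7 (iv1 D22601) (iv5 D10714) D10710 D22591 F35131 F57398 F57396 F54810 (iv4 F54814)
def n36542 : Q := act 5 n17633
theorem D36542 : act 5 n17633 = n36542 := rfl
theorem F57400 : act 2 n36542 = n18249 := d2_1 D36542 F57398 (iv2 D36541)
theorem F57401 : act 3 n36542 = n17634 := d6_1 D36542 (iv5 D17634) D17633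
theorem F57402 : act 7 n36542 = n18344 := d13_2 (iv7 F28695) D36542 (iv5 F29530)
theorem F57403 : act 1 n18343 = n36542 := d15_1 D18343 F57402 (iv2 D18344)
theorem F57404 : act 1 n36542 = n18342 := d15_0 (iv0 D18342) (iv7 F29441) (iv2 F57400)
def n36543 : Q := act 6 n17633
theorem D36543 : act 6 n17633 = n36543 := rfl
theorem F57405 : act 3 n36543 = n17635 := d7_1 D36543 (iv6 D17635) D17633
def n36544 : Q := act 6 n17634
theorem D36544 : act 6 n17634 = n36544 := rfl
theorem F57406 : act 2 n36544 = n18354 := d3_1 D36544 (iv6 D18354) (iv2 F28696)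
theorem F57407 : act 4 n36544 = n36159 := d10_1 D36544 (iv6 D36159) (iv4 F28697)
def n36545 : Q := act 0 n17635
theorem D36545 : act 0 n17635 = n36545 := rfl
def n36546 : Q := act 1 n17635
theorem D36546 : act 1 n17635 = n36546 := rfl
theorem F57408 : act 1 n36546 = n35324 := d15_1 D36546 (iv7 D35324) (iv2 F28699)
def n36547 : Q := act 5 n17635
theorem D36547 : act 5 n17635 = n36547 := rfl
theorem F57409 : act 2 n36547 = n35323 := d2_1 D36547 (iv5 D35323) (iv2 F28699)
def n36548 : Q := act 7 n17635
theorem D36548 : act 7 n17635 = n36548 := rfl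
theorem F57410 : act 2 n36548 = n35324 := d4_1 D36548 (iv7 D35324) (iv2 F28699)
theorem F57411 : act 4 n36548 = n17639 := d11_1 D36548 (iv7 D17639) (iv4 F28700)
theorem F57412 : act 6 n36548 = n35360 := d14_1 D36548 (iv7 D35360) (iv6 D17158) F13453 D17635
theorem F57413 : act 1 n35324 = n36545 := d15_0 (iv0 D36545) D36548 F57410
theorem F57414 : act 1 n35322 = n36548 := d15_1 D35322 (iv7 D36548) F28699
theorem F57415 : act 1 n36548 = n35321 := d15_0 (iv0 D35321) D35324 (iv2 F57410)
def n36549 : Q := act 2 n17636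
theorem D36549 : act 2 n17636 = n36549 := rfl
theorem F57416 : act 7 n17637 = n36549 := d15_2 (iv0 D17636) D17637 (iv2 D36549)
def n36550 : Q := act 3 n17636
theorem D36550 : act 3 n17636 = n36550 := rfl
def n36551 : Q := act 4 n17636
theorem D36551 : act 4 n17636 = n36551 := rfl
def n36552 : Q := act 5 n17636
theorem D36552 : act 5 n17636 = n36552 := rfl
def n36553 : Q := act 7 n17636
theorem D36553 : act 7 n17636 = n36553 := rfl
def n36554 : Q := act 3 n17637
theorem D36554 : act 3 n17637 = n36554 := rfl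
def n36555 : Q := act 4 n17637
theorem D36555 : act 4 n17637 = n36555 := rfl
def n36556 : Q := act 5 n17637
theorem D36556 : act 5 n17637 = n36556 := rfl
def n36557 : Q := act 6 n17637
theorem D36557 : act 6 n17637 = n36557 := rfl
def n36558 : Q := act 0 n17638
theorem D36558 : act 0 n17638 = n36558 := rfl
def n36559 : Q := act 1 n17638
theorem D36559 : act 1 n17638 = n36559 := rfl
theorem F57418 : act 1 n36559 = n35338 := d15_1 D36559 (iv7 D35338) (iv2 F28702)
theorem F57419 : act 5 n35412 = n36559 := d21_6 (iv5 D1635) D1632 F13443 D8060 D17177 D35412 (iv1 D36559) (iv5 D17638) (iv6 D8310) (iv1 D3735)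
def n36560 : Q := act 4 n17638
theorem D36560 : act 4 n17638 = n36560 := rfl
theorem F57420 : act 2 n36560 = n35337 := d1_1 D36560 (iv4 D35337) (iv2 F28702)
def n36561 : Q := act 7 n17638
theorem D36561 : act 7 n17638 = n36561 := rfl
theorem F57422 : act 2 n36561 = n35338 := d4_1 D36561 (iv7 D35338) (iv2 F28702)
theorem F57423 : act 5 n36561 = n17639 := d13_1 D36561 (iv7 D17639) D17638
theorem F57424 : act 6 n36561 = n35578 := d14_1 D36561 (iv7 D35578) (iv6 D17238) (iv7 F21517) (iv6 F28703)
theorem F57425 : act 1 n35338 = n36558 := d15_0 (iv0 D36558) D36561 F57422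
theorem F57426 : act 1 n35336 = n36561 := d15_1 D35336 (iv7 D36561) F28702
theorem F57427 : act 5 n35527 = n36558 := d21_0 (iv1 F57425) F56049 (iv6 F28680) (iv1 F28682) D35369 (iv5 F56192) F56194 (iv5 D17212) D17213 D35527
theorem F57428 : act 0 n35365 = n36508 := d21_1 (iv5 F56125) F57340 (iv6 D35510) D35507 (iv6 F56193) (iv5 D35328) (iv1 F28708) (iv5 F57423) F57424 (iv1 F56261)
theorem F57429 : act 1 n36561 = n35335 := d15_0 (iv0 D35335) D35338 (iv2 F57422)
def n36562 : Q := act 0 n17640
theorem D36562 : act 0 n17640 = n36562 := rfl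
theorem F57430 : act 5 n36562 = n18155 := d19_1 D36562 (iv4 F33962) (iv3 D21574) (iv1 F16389) (iv5 F16474) (iv4 D10348) F6787 D10173 F16011 (iv4 F13246) (iv3 F13379) F13380 F7321 (iv4 D3545) D3544 F12102 D8188 (iv4 F13429) D17640
theorem F57431 : act 3 n36562 = n18156 := d20_5 (iv4 D16748) F13417 (iv4 F13429) D17640 D36562 F29330 (iv1 D10658) (iv4 F13552) (iv3 F13554) (iv1 F27500)
def n36563 : Q := act 1 n17640
theorem D36563 : act 1 n17640 = n36563 := rfl
def n36564 : Q := act 2 n17640
theorem D36564 : act 2 n17640 = n36564 := rfl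
theorem F57432 : act 3 n36564 = n26570 := d0_2 D17640 D36564 F42556 F29912 F21659
theorem F57433 : act 5 n26569 = n36564 := d6_0 F57432 (iv5 D26570) D26569
def n36565 : Q := act 4 n17640
theorem D36565 : act 4 n17640 = n36565 := rfl
theorem F57434 : act 3 n36565 = n19161 := d5_1 D36565 (iv4 D19161) (iv3 F14064) (iv4 F13429) D17640
def n36566 : Q := act 5 n17640
theorem D36566 : act 5 n17640 = n36566 := rfl
theorem F57435 : act 2 n36566 = n26569 := d2_1 D36566 F57433 (iv2 D36564)
theorem F57436 : act 3 n36566 = n17641 := d6_1 D36566 (iv5 D17641) D17640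
theorem F57437 : act 7 n36566 = n35465 := d13_2 F43927 D36566 F56164
theorem F57438 : act 1 n21917 = n36566 := d15_1 (iv0 F34404) F57437 F56163
theorem F57439 : act 4 n35989 = n36566 := d1_0 F57435 F42553 D35989
def n36567 : Q := act 6 n17640
theorem D36567 : act 6 n17640 = n36567 := rfl
theorem F57440 : act 3 n36567 = n17642 := d7_1 D36567 (iv6 D17642) D17640
def n36568 : Q := act 6 n17641
theorem D36568 : act 6 n17641 = n36568 := rfl
theorem F57441 : act 2 n36568 = n35467 := d3_1 D36568 (iv6 D35467) (iv2 F28709)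
theorem F57442 : act 4 n36568 = n36040 := d10_1 D36568 (iv6 D36040) (iv4 F28711)
def n36569 : Q := act 0 n17642
theorem D36569 : act 0 n17642 = n36569 := rfl
def n36570 : Q := act 1 n17642
theorem D36570 : act 1 n17642 = n36570 := rfl
def n36571 : Q := act 5 n17642
theorem D36571 : act 5 n17642 = n36571 := rfl
def n36572 : Q := act 7 n17642
theorem D36572 : act 7 n17642 = n36572 := rfl
theorem F57443 : act 4 n36572 = n36007 := d11_1 D36572 (iv7 D36007) (iv4 F28714)
def n36573 : Q := act 0 n17643
theorem D36573 : act 0 n17643 = n36573 := rfl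
theorem F57444 : act 5 n36573 = n32761 := d17_3 (iv1 D26563) (iv5 F28721) D36573 (iv4 D32761) (iv5 F27264) (iv0 F26876) F25981 (iv0 F46072) F46074
theorem F57445 : act 1 n26570 = n36573 := d15_0 (iv0 D36573) (iv7 F29913) (iv2 F42556)
def n36574 : Q := act 1 n17643
theorem D36574 : act 1 n17643 = n36574 := rfl
theorem F57446 : act 1 n36574 = n26570 := d15_1 D36574 F42557 F29916
def n36575 : Q := act 6 n17643
theorem D36575 : act 6 n17643 = n36575 := rfl
theorem F57447 : act 3 n36575 = n17645 := d7_1 D36575 (iv6 D17645) D17643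
def n36576 : Q := act 6 n17644
theorem D36576 : act 6 n17644 = n36576 := rfl
theorem F57448 : act 2 n36576 = n35466 := d3_1 D36576 (iv6 D35466) (iv2 F28715)
theorem F57449 : act 3 n36576 = n26564 := d7_1 D36576 (iv6 D26564) F28720
theorem F57450 : act 4 n36576 = n36016 := d10_1 D36576 (iv6 D36016) (iv4 F28716)
def n36577 : Q := act 0 n17645
theorem D36577 : act 0 n17645 = n36577 := rfl
def n36578 : Q := act 1 n17645
theorem D36578 : act 1 n17645 = n36578 := rfl
def n36579 : Q := act 5 n17645
theorem D36579 : act 5 n17645 = n36579 := rfl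
def n36580 : Q := act 7 n17645
theorem D36580 : act 7 n17645 = n36580 := rfl
theorem F57451 : act 4 n36580 = n36034 := d11_1 D36580 (iv7 D36034) (iv4 F28722)
def n36581 : Q := act 3 n17646
theorem D36581 : act 3 n17646 = n36581 := rfl
theorem F57452 : act 5 n36581 = n17738 := d6_2 (iv5 F28724) D36581 (iv3 D17738)
def n36587 : Q := act 2 n17648
theorem D36587 : act 2 n17648 = n36587 := rfl
theorem F57456 : act 7 n17649 = n36587 := d15_2 (iv0 D17648) D17649 (iv2 D36587)
def n36588 : Q := act 3 n17648
theorem D36588 : act 3 n17648 = n36588 := rfl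
def n36589 : Q := act 4 n17648
theorem D36589 : act 4 n17648 = n36589 := rfl
def n36590 : Q := act 5 n17648
theorem D36590 : act 5 n17648 = n36590 := rfl
def n36591 : Q := act 6 n17648
theorem D36591 : act 6 n17648 = n36591 := rfl
def n36592 : Q := act 7 n17648
theorem D36592 : act 7 n17648 = n36592 := rfl
theorem F57457 : act 2 n36592 = n17649 := d4_1 D36592 F57456 (iv2 D36587)
def n36593 : Q := act 3 n17649
theorem D36593 : act 3 n17649 = n36593 := rfl
def n36594 : Q := act 4 n17649
theorem D36594 : act 4 n17649 = n36594 := rfl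
theorem F57458 : act 3 n17906 = n36594 := d20_5 D8334 F41730 F11711 (iv3 F13261) (iv1 F29075) (iv4 D36594) (iv1 D17649) F13121 F5737 D3742
def n36595 : Q := act 5 n17649
theorem D36595 : act 5 n17649 = n36595 := rfl
def n36596 : Q := act 6 n17649
theorem D36596 : act 6 n17649 = n36596 := rfl
def n36597 : Q := act 0 n17650
theorem D36597 : act 0 n17650 = n36597 := rfl
def n36598 : Q := act 1 n17650
theorem D36598 : act 1 n17650 = n36598 := rfl
def n36600 : Q := act 7 n17650
theorem D36600 : act 7 n17650 = n36600 := rfl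
theorem F57459 : act 5 n36600 = n17651 := d13_1 D36600 (iv7 D17651) D17650
def n36603 : Q := act 3 n17652
theorem D36603 : act 3 n17652 = n36603 := rfl
theorem F57462 : act 7 n36603 = n17658 := d8_2 F28726 D36603 (iv3 D17658)
def n36604 : Q := act 4 n17652
theorem D36604 : act 4 n17652 = n36604 := rfl
theorem F57463 : act 2 n36604 = n17654 := d1_1 D36604 (iv4 D17654) D17652
theorem F57464 : act 7 n36604 = n17659 := d11_2 F28726 D36604 (iv4 D17659)
def n36605 : Q := act 5 n17652
theorem D36605 : act 5 n17652 = n36605 := rfl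
theorem F57465 : act 2 n36605 = n17655 := d2_1 D36605 (iv5 D17655) D17652
theorem F57466 : act 7 n36605 = n17660 := d13_2 F28726 D36605 (iv5 D17660)
def n36606 : Q := act 6 n17652
theorem D36606 : act 6 n17652 = n36606 := rfl
theorem F57467 : act 2 n36606 = n17656 := d3_1 D36606 (iv6 D17656) D17652
def n36607 : Q := act 0 n17653
theorem D36607 : act 0 n17653 = n36607 := rfl
def n36608 : Q := act 1 n17653
theorem D36608 : act 1 n17653 = n36608 := rfl
def n36609 : Q := act 2 n17653
theorem D36609 : act 2 n17653 = n36609 := rfl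
def n36610 : Q := act 4 n17653
theorem D36610 : act 4 n17653 = n36610 := rfl
theorem F57468 : act 0 n36610 = n27262 := d20_7 F29135 (iv1 D7512) F5415 (iv3 F5737) D8315 D17653 D36610 F44110 F21786 (iv1 F9687)
theorem F57470 : act 0 n27241 = n36610 := d20_7 (iv4 F57323) (iv1 F57325) D36594 (iv3 F57458) (iv1 D17906) (iv3 F21760) (iv4 F44070) (iv4 D36610) (iv3 D17653) (iv1 F28660)
def n36611 : Q := act 5 n17653
theorem D36611 : act 5 n17653 = n36611 := rfl
theorem F57471 : act 3 n36611 = n17655 := d6_1 D36611 (iv5 D17655) D17653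
def n36612 : Q := act 6 n17653
theorem D36612 : act 6 n17653 = n36612 := rfl
theorem F57472 : act 3 n36612 = n17656 := d7_1 D36612 (iv6 D17656) D17653
def n36613 : Q := act 7 n17653
theorem D36613 : act 7 n17653 = n36613 := rfl
theorem F57473 : act 3 n36613 = n17657 := d8_1 D36613 (iv7 D17657) D17653
def n36614 : Q := act 0 n17654
theorem D36614 : act 0 n17654 = n36614 := rfl
def n36615 : Q := act 1 n17654
theorem D36615 : act 1 n17654 = n36615 := rfl
theorem F57474 : act 1 n36615 = n17659 := d15_1 D36615 (iv7 F57464) F57463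
def n36616 : Q := act 3 n17654
theorem D36616 : act 3 n17654 = n36616 := rfl
def n36617 : Q := act 5 n17654
theorem D36617 : act 5 n17654 = n36617 := rfl
def n36618 : Q := act 6 n17654
theorem D36618 : act 6 n17654 = n36618 := rfl
theorem F57475 : act 4 n36618 = n17656 := d10_1 D36618 (iv6 D17656) D17654
def n36619 : Q := act 7 n17654
theorem D36619 : act 7 n17654 = n36619 := rfl
theorem F57476 : act 2 n36619 = n17659 := d4_1 D36619 (iv7 F57464) F57463
theorem F57477 : act 4 n36619 = n17657 := d11_1 D36619 (iv7 D17657) D17654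
theorem F57478 : act 1 n17659 = n36614 := d15_0 (iv0 D36614) D36619 F57476
def n36620 : Q := act 0 n17655
theorem D36620 : act 0 n17655 = n36620 := rfl
theorem F57479 : act 5 n36620 = n35445 := d21_2 D17655 D36620 (iv6 D35445) (iv1 D17188) (iv6 D8065) (iv5 F13439) (iv1 D1633) D1635 D3737 D8315
def n36621 : Q := act 1 n17655
theorem D36621 : act 1 n17655 = n36621 := rfl
theorem F57480 : act 1 n36621 = n17660 := d15_1 D36621 (iv7 F57466) F57465
def n36622 : Q := act 4 n17655
theorem D36622 : act 4 n17655 = n36622 := rfl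
def n36623 : Q := act 6 n17655
theorem D36623 : act 6 n17655 = n36623 := rfl
theorem F57481 : act 0 n36623 = n35412 := d21_10 F57419 (iv1 D36559) (iv5 D17638) (iv6 D8310) (iv1 D3735) D3737 F5738 D8315 D17655 D36623
def n36624 : Q := act 7 n17655
theorem D36624 : act 7 n17655 = n36624 := rfl
theorem F57482 : act 2 n36624 = n17660 := d4_1 D36624 (iv7 F57466) F57465
theorem F57484 : act 1 n17660 = n36620 := d15_0 (iv0 D36620) D36624 F57482
theorem F57485 : act 6 n35379 = n36624 := d3_0 F57482 (iv6 F28728) D35379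
theorem F57486 : act 7 n36623 = n35387 := d14_4 F56085 F57485 (iv7 D36624) D36623 (iv6 D35387)
def n36625 : Q := act 0 n17656
theorem D36625 : act 0 n17656 = n36625 := rfl
def n36626 : Q := act 1 n17656
theorem D36626 : act 1 n17656 = n36626 := rfl
theorem F57487 : act 6 n35364 = n36626 := d21_3 F17008 D17159 D35364 (iv1 D36626) (iv6 D17656) D17655 D36620 F57479 (iv6 D35445) (iv1 D17188)
def n36627 : Q := act 5 n17656
theorem D36627 : act 5 n17656 = n36627 := rfl
theorem F57488 : act 0 n36627 = n27027 := d21_1 D36627 (iv5 D27027) (iv6 D12949) (iv1 F9568) D8065 F17008 D17159 D35364 F57487 (iv1 D36626)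
theorem F57489 : act 0 n27063 = n36627 := d21_7 F28657 (iv1 F28659) D17660 (iv6 F28728) (iv1 F28116) (iv6 F21560) (iv5 F43716) (iv5 D36627) (iv6 D17656) (iv1 F28660)
def n36628 : Q := act 7 n17656
theorem D36628 : act 7 n17656 = n36628 := rfl
def n36629 : Q := act 6 n17657
theorem D36629 : act 6 n17657 = n36629 := rfl
theorem F57490 : act 2 n36629 = n17661 := d3_1 D36629 (iv6 D17661) (iv2 F28727)
def n36630 : Q := act 0 n17658
theorem D36630 : act 0 n17658 = n36630 := rfl
def n36631 : Q := act 1 n17658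
theorem D36631 : act 1 n17658 = n36631 := rfl
def n36632 : Q := act 2 n17658
theorem D36632 : act 2 n17658 = n36632 := rfl
def n36633 : Q := act 4 n17658
theorem D36633 : act 4 n17658 = n36633 := rfl
def n36634 : Q := act 5 n17658
theorem D36634 : act 5 n17658 = n36634 := rfl
theorem F57491 : act 3 n36634 = n17660 := d6_1 D36634 (iv5 D17660) D17658
theorem F57492 : act 6 n35380 = n36634 := d7_0 F57491 (iv6 F28728) D35380
def n36635 : Q := act 6 n17658
theorem D36635 : act 6 n17658 = n36635 := rfl
theorem F57493 : act 3 n36635 = n17661 := d7_1 D36635 (iv6 D17661) D17658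
def n36636 : Q := act 3 n17659
theorem D36636 : act 3 n17659 = n36636 := rfl
def n36637 : Q := act 5 n17659
theorem D36637 : act 5 n17659 = n36637 := rfl
def n36638 : Q := act 6 n17659
theorem D36638 : act 6 n17659 = n36638 := rfl
theorem F57494 : act 4 n36638 = n17661 := d10_1 D36638 (iv6 D17661) D17659
def n36639 : Q := act 4 n17660
theorem D36639 : act 4 n17660 = n36639 := rfl
theorem F57495 : act 6 n36639 = n35381 := d10_2 F28728 D36639 (iv4 D35381)
def n36640 : Q := act 0 n17661
theorem D36640 : act 0 n17661 = n36640 := rfl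
theorem F57496 : act 5 n36640 = n35576 := d21_0 (iv1 F56260) F56127 (iv6 F43686) (iv1 F43688) D35445 (iv5 F57479) (iv1 F57484) (iv5 D17660) D17661 D36640
def n36641 : Q := act 1 n17661
theorem D36641 : act 1 n17661 = n36641 := rfl
def n36642 : Q := act 5 n17661
theorem D36642 : act 5 n17661 = n36642 := rfl
theorem F57497 : act 6 n36642 = n35382 := d12_2 D17661 D36642 (iv5 D35382) F28728 (iv5 D17660)
theorem F57498 : act 0 n35411 = n36642 := d21_1 D35411 (iv5 D36642) (iv6 D17661) (iv1 D8316) (iv6 D3737) (iv5 D1635) D1632 F13443 D8060 D17177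
theorem F57499 : act 0 n36642 = n35416 := d21_10 (iv5 D35416) (iv1 D17178) D17179 F28137 F13430 (iv6 F28114) (iv5 D17167) D17165 D35382 (iv6 F57497)
def n36643 : Q := act 7 n17661
theorem D36643 : act 7 n17661 = n36643 := rfl
def n36644 : Q := act 3 n17662
theorem D36644 : act 3 n17662 = n36644 := rfl
theorem F57500 : act 4 n36644 = n35272 := d5_2 D17662 D36644 (iv3 D35272) (iv4 D17121) (iv3 F13125)
theorem F57501 : act 7 n36644 = n35189 := d8_2 (iv7 F28730) D36644 (iv3 D35189)
def n36645 : Q := act 6 n17662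
theorem D36645 : act 6 n17662 = n36645 := rfl
theorem F57502 : act 2 n36645 = n17666 := d3_1 D36645 (iv6 D17666) (iv2 F28729)
theorem F57503 : act 4 n36645 = n17663 := d10_1 D36645 (iv6 D17663) D17662
theorem F57504 : act 0 n36645 = n34617 := d20_7 (iv4 F54723) (iv1 F54725) D34597 (iv3 F56000) (iv1 D35275) (iv3 F28734) (iv4 F57503) (iv4 D34617) (iv3 D16775) (iv1 F27470)
def n36646 : Q := act 0 n17663
theorem D36646 : act 0 n17663 = n36646 := rfl
def n36647 : Q := act 1 n17663
theorem D36647 : act 1 n17663 = n36647 := rfl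
theorem F57505 : act 1 n36647 = n17669 := d15_1 D36647 (iv7 D17669) (iv2 F28733)
theorem F57506 : act 5 n35224 = n36647 := d21_6 (iv5 D7992) (iv1 D3617) D3619 D7999 D17094 D35224 (iv1 D36647) (iv5 F30132) (iv6 D18885) F13756
def n36648 : Q := act 7 n17663
theorem D36648 : act 7 n17663 = n36648 := rfl
theorem F57507 : act 2 n36648 = n17669 := d4_1 D36648 (iv7 D17669) (iv2 F28733)
theorem F57508 : act 3 n36648 = n35276 := d8_1 D36648 (iv7 D35276) (iv3 F28734)
theorem F57509 : act 6 n36648 = n35195 := d14_1 D36648 (iv7 D35195) (iv6 D17085) (iv7 F13127) D17663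
theorem F57510 : act 1 n17669 = n36646 := d15_0 (iv0 D36646) D36648 F57507
theorem F57511 : act 1 n17668 = n36648 := d15_1 D17668 (iv7 D36648) F28733
theorem F57512 : act 1 n36648 = n17667 := d15_0 (iv0 D17667) D17669 (iv2 F57507)
def n36649 : Q := act 3 n17664
theorem D36649 : act 3 n17664 = n36649 := rfl
theorem F57513 : act 4 n36649 = n35319 := d5_2 (iv4 F28735) D36649 (iv3 D35319) F28093 (iv3 F27471)
theorem F57514 : act 7 n36649 = n35210 := d8_2 (iv7 F28738) D36649 (iv3 D35210)
def n36650 : Q := act 6 n17664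
theorem D36650 : act 6 n17664 = n36650 := rfl
theorem F57516 : act 4 n36650 = n34502 := d10_1 D36650 (iv6 D34502) (iv4 F28735)
def n36651 : Q := act 0 n17665
theorem D36651 : act 0 n17665 = n36651 := rfl
theorem F57517 : act 5 n36651 = n18270 := d17_3 F13305 D17665 D36651 (iv4 D18270) F13532 F13789 F13787 F27412 D8551
theorem F57518 : act 1 n35190 = n36651 := d15_0 (iv0 D36651) F28739 (iv2 F55932)
theorem F57519 : act 2 n18274 = n36651 := d2_3 F57517 F29463 D18274
theorem F57520 : act 7 n35213 = n36651 := d13_0 F57517 F29464 (iv5 F55955)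
def n36652 : Q := act 1 n17665
theorem D36652 : act 1 n17665 = n36652 := rfl
theorem F57521 : act 1 n36652 = n35190 := d15_1 D36652 (iv7 F55958) F55957
theorem F57522 : act 7 n36652 = n18274 := d15_2 (iv0 D36651) D36652 F57519
theorem F57523 : act 5 n36652 = n18239 := d17_7 (iv1 F13760) F13761 (iv1 D6089) (iv5 F5739) D8321 D17665 D36652 F29420 (iv4 D17245)
theorem F57524 : act 3 n33224 = n36652 := d19_19 (iv1 D36652) (iv5 D17665) (iv4 D8321) (iv3 D3738) (iv1 F2813) (iv5 D879) (iv4 D560) (iv3 F1067) (iv1 D424) (iv5 D232) (iv4 F360) (iv3 F673) D692 D1138 D2410 D5757 D12142 (iv5 F28356) D33224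
theorem F57525 : act 2 n35213 = n36652 := d2_3 F57523 F29417 (iv5 F55955)
def n36653 : Q := act 6 n17665
theorem D36653 : act 6 n17665 = n36653 := rfl
def n36654 : Q := act 0 n17666
theorem D36654 : act 0 n17666 = n36654 := rfl
def n36655 : Q := act 1 n17666
theorem D36655 : act 1 n17666 = n36655 := rfl
theorem F57526 : act 4 n34498 = n36655 := d20_6 (iv4 F29955) (iv1 F21286) F12398 (iv3 F12386) (iv1 F27465) D34498 (iv1 D36655) F28740 F13132 D8323
def n36656 : Q := act 5 n17666
theorem D36656 : act 5 n17666 = n36656 := rfl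
def n36657 : Q := act 7 n17666
theorem D36657 : act 7 n17666 = n36657 := rfl
theorem F57527 : act 4 n36657 = n17669 := d11_1 D36657 (iv7 D17669) (iv4 F28740)
theorem F57528 : act 6 n36657 = n35219 := d14_1 D36657 (iv7 D35219) (iv6 D17093) (iv7 F13131) D17666
theorem F57529 : act 0 n34617 = n36657 := d20_7 F28979 (iv1 D7843) F5582 (iv3 F5574) D7832 D16775 D34617 F57527 F28741 (iv1 F13137)
def n36658 : Q := act 2 n17667
theorem D36658 : act 2 n17667 = n36658 := rfl
theorem F57530 : act 7 n17668 = n36658 := d15_2 (iv0 D17667) D17668 (iv2 D36658)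
def n36659 : Q := act 3 n17667
theorem D36659 : act 3 n17667 = n36659 := rfl
def n36660 : Q := act 4 n17667
theorem D36660 : act 4 n17667 = n36660 := rfl
def n36661 : Q := act 5 n17667
theorem D36661 : act 5 n17667 = n36661 := rfl
def n36662 : Q := act 6 n17667
theorem D36662 : act 6 n17667 = n36662 := rfl
def n36663 : Q := act 7 n17667
theorem D36663 : act 7 n17667 = n36663 := rfl
theorem F57531 : act 2 n36663 = n17668 := d4_1 D36663 F57530 (iv2 D36658)
def n36664 : Q := act 3 n17668
theorem D36664 : act 3 n17668 = n36664 := rfl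
def n36665 : Q := act 4 n17668
theorem D36665 : act 4 n17668 = n36665 := rfl
def n36666 : Q := act 5 n17668
theorem D36666 : act 5 n17668 = n36666 := rfl
theorem F57532 : act 6 n35192 = n36666 := d21_5 (iv5 F13764) (iv1 F9461) D7994 D17085 D35192 (iv5 D36666) (iv1 D17668) (iv5 F13775) (iv6 D8849) D8846
def n36667 : Q := act 6 n17668
theorem D36667 : act 6 n17668 = n36667 := rfl
def n36668 : Q := act 0 n17671
theorem D36668 : act 0 n17671 = n36668 := rfl
theorem F57533 : act 1 n35302 = n36668 := d15_0 (iv0 D36668) (iv7 F51338) D35302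
def n36669 : Q := act 1 n17671
theorem D36669 : act 1 n17671 = n36669 := rfl
def n36670 : Q := act 2 n17671
theorem D36670 : act 2 n17671 = n36670 := rfl
theorem F57534 : act 3 n36670 = n35296 := d0_2 D17671 D36670 (iv2 D35296) (iv3 D17130) F51242
theorem F57535 : act 7 n36670 = n35302 := d4_2 F51338 D36670 (iv2 D35302)
theorem F57536 : act 1 n36670 = n35300 := d15_0 (iv0 D35300) F51338 D36670
def n36671 : Q := act 4 n17671
theorem D36671 : act 4 n17671 = n36671 := rfl
theorem F57539 : act 7 n36671 = n35303 := d11_2 F51338 D36671 (iv4 D35303)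
def n36672 : Q := act 5 n17671
theorem D36672 : act 5 n17671 = n36672 := rfl
theorem F57540 : act 3 n36672 = n17673 := d6_1 D36672 (iv5 D17673) D17671
theorem F57541 : act 7 n36672 = n35250 := d13_2 F51338 D36672 (iv5 F55983)
def n36673 : Q := act 6 n17671
theorem D36673 : act 6 n17671 = n36673 := rfl
theorem F57542 : act 3 n36673 = n17674 := d7_1 D36673 (iv6 D17674) D17671
theorem F57543 : act 5 n35823 = n36673 := d6_0 F57542 F28744 D35823
def n36674 : Q := act 0 n17676
theorem D36674 : act 0 n17676 = n36674 := rfl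
theorem F57544 : act 1 n35296 = n36674 := d15_0 (iv0 D36674) F51337 D35296
def n36676 : Q := act 2 n17676
theorem D36676 : act 2 n17676 = n36676 := rfl
theorem F57545 : act 3 n36676 = n35302 := d0_2 D17676 D36676 (iv2 D35302) (iv3 D17135) (iv2 F51239)
theorem F57547 : act 1 n36676 = n35294 := d15_0 (iv0 D35294) (iv7 F51337) D36676
def n36677 : Q := act 4 n17676
theorem D36677 : act 4 n17676 = n36677 := rfl
theorem F57550 : act 7 n36677 = n35297 := d11_2 (iv7 F51337) D36677 (iv4 D35297)
def n36678 : Q := act 5 n17676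
theorem D36678 : act 5 n17676 = n36678 := rfl
theorem F57551 : act 3 n36678 = n17678 := d6_1 D36678 (iv5 D17678) D17676
theorem F57552 : act 7 n36678 = n35298 := d13_2 (iv7 F51337) D36678 (iv5 D35298)
theorem F57553 : act 6 n17688 = n36678 := d7_0 F57551 F28746 D17688
def n36679 : Q := act 6 n17676
theorem D36679 : act 6 n17676 = n36679 := rfl
theorem F57554 : act 3 n36679 = n17679 := d7_1 D36679 (iv6 D17679) D17676
def n36680 : Q := act 3 n17680
theorem D36680 : act 3 n17680 = n36680 := rfl
theorem F57555 : act 4 n36680 = n35189 := d5_2 D17680 D36680 (iv3 D35189) (iv4 D17084) (iv3 F13139)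
theorem F57556 : act 7 n36680 = n35272 := d8_2 (iv7 F28748) D36680 (iv3 D35272)
def n36681 : Q := act 6 n17680
theorem D36681 : act 6 n17680 = n36681 := rfl
theorem F57557 : act 2 n36681 = n17683 := d3_1 D36681 (iv6 D17683) (iv2 F28747)
theorem F57558 : act 4 n36681 = n17681 := d10_1 D36681 (iv6 D17681) D17680
def n36682 : Q := act 0 n17681
theorem D36682 : act 0 n17681 = n36682 := rfl
theorem F57559 : act 6 n36682 = n35292 := d21_5 F7337 F6117 (iv5 F13140) D17681 D36682 (iv5 D35292) (iv1 D17127) F12788 (iv6 D3965) D3962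
theorem F57560 : act 0 n36682 = n17686 := d21_4 (iv5 F56002) (iv1 F56004) D35292 (iv6 F57559) F28756 F28074 (iv1 F30229) (iv5 F30304) (iv6 D18979) (iv1 F30234)
def n36683 : Q := act 1 n17681
theorem D36683 : act 1 n17681 = n36683 := rfl
theorem F57561 : act 1 n36683 = n17686 := d15_1 D36683 (iv7 D17686) (iv2 F28751)
def n36684 : Q := act 7 n17681
theorem D36684 : act 7 n17681 = n36684 := rfl
theorem F57562 : act 2 n36684 = n17686 := d4_1 D36684 (iv7 D17686) (iv2 F28751)
theorem F57563 : act 3 n36684 = n35195 := d8_1 D36684 (iv7 D35195) (iv3 F28752)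
theorem F57564 : act 6 n36684 = n35276 := d14_1 D36684 (iv7 D35276) (iv6 D17122) (iv7 F13141) D17681
theorem F57565 : act 1 n17685 = n36684 := d15_1 D17685 (iv7 D36684) F28751
theorem F57566 : act 1 n36684 = n17684 := d15_0 (iv0 D17684) D17686 (iv2 F57562)
def n36685 : Q := act 6 n17682
theorem D36685 : act 6 n17682 = n36685 := rfl
def n36686 : Q := act 0 n17683
theorem D36686 : act 0 n17683 = n36686 := rfl
def n36687 : Q := act 1 n17683
theorem D36687 : act 1 n17683 = n36687 := rfl
def n36688 : Q := act 5 n17683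
theorem D36688 : act 5 n17683 = n36688 := rfl
def n36689 : Q := act 7 n17683
theorem D36689 : act 7 n17683 = n36689 := rfl
theorem F57567 : act 4 n36689 = n17686 := d11_1 D36689 (iv7 D17686) (iv4 F28754)
theorem F57568 : act 6 n36689 = n35283 := d14_1 D36689 (iv7 D35283) (iv6 D17125) (iv7 F13144) D17683
def n36690 : Q := act 2 n17684
theorem D36690 : act 2 n17684 = n36690 := rfl
theorem F57569 : act 7 n17685 = n36690 := d15_2 (iv0 D17684) D17685 (iv2 D36690)
def n36691 : Q := act 3 n17684
theorem D36691 : act 3 n17684 = n36691 := rfl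
def n36692 : Q := act 4 n17684
theorem D36692 : act 4 n17684 = n36692 := rfl
def n36693 : Q := act 5 n17684
theorem D36693 : act 5 n17684 = n36693 := rfl
def n36694 : Q := act 6 n17684
theorem D36694 : act 6 n17684 = n36694 := rfl
theorem F57570 : act 5 n36694 = n35275 := d21_6 F13834 F6032 (iv5 F5742) D8328 D17684 D36694 (iv1 D35275) F28068 (iv6 D8878) D8875
def n36695 : Q := act 7 n17684
theorem D36695 : act 7 n17684 = n36695 := rfl
theorem F57571 : act 2 n36695 = n17685 := d4_1 D36695 F57569 (iv2 D36690)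
def n36696 : Q := act 3 n17685
theorem D36696 : act 3 n17685 = n36696 := rfl
def n36697 : Q := act 4 n17685
theorem D36697 : act 4 n17685 = n36697 := rfl
def n36698 : Q := act 5 n17685
theorem D36698 : act 5 n17685 = n36698 := rfl
def n36699 : Q := act 6 n17685
theorem D36699 : act 6 n17685 = n36699 := rfl
def n36700 : Q := act 0 n17688
theorem D36700 : act 0 n17688 = n36700 := rfl
theorem F57572 : act 1 n35254 = n36700 := d15_0 (iv0 D36700) (iv7 F51329) D35254
def n36702 : Q := act 2 n17688
theorem D36702 : act 2 n17688 = n36702 := rfl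
theorem F57573 : act 3 n36702 = n35247 := d0_2 D17688 D36702 (iv2 D35247) (iv3 D17104) F51288
theorem F57574 : act 7 n36702 = n35254 := d4_2 F51329 D36702 (iv2 D35254)
theorem F57577 : act 1 n35253 = n36702 := d15_1 D35253 F57574 (iv2 D35254)
def n36703 : Q := act 4 n17688
theorem D36703 : act 4 n17688 = n36703 := rfl
theorem F57578 : act 7 n36703 = n35255 := d11_2 F51329 D36703 (iv4 D35255)
def n36704 : Q := act 5 n17688
theorem D36704 : act 5 n17688 = n36704 := rfl
theorem F57579 : act 3 n36704 = n17690 := d6_1 D36704 (iv5 D17690) D17688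
theorem F57580 : act 7 n36704 = n35256 := d13_2 F51329 D36704 (iv5 D35256)
def n36705 : Q := act 4 n17690
theorem D36705 : act 4 n17690 = n36705 := rfl
theorem F57581 : act 2 n36705 = n35251 := d1_1 D36705 (iv4 D35251) F51322
theorem F57582 : act 7 n36705 = n35258 := d11_2 F51325 D36705 (iv4 D35258)
def n36706 : Q := act 0 n17692
theorem D36706 : act 0 n17692 = n36706 := rfl
theorem F57583 : act 1 n35247 = n36706 := d15_0 (iv0 D36706) F51319 D35247
def n36707 : Q := act 1 n17692
theorem D36707 : act 1 n17692 = n36707 := rfl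
def n36708 : Q := act 2 n17692
theorem D36708 : act 2 n17692 = n36708 := rfl
theorem F57584 : act 3 n36708 = n35254 := d0_2 D17692 D36708 (iv2 D35254) (iv3 D17109) (iv2 F51285)
theorem F57585 : act 7 n36708 = n35247 := d4_2 (iv7 F51319) D36708 (iv2 D35247)
theorem F57586 : act 1 n36708 = n35245 := d15_0 (iv0 D35245) (iv7 F51319) D36708
theorem F57587 : act 1 n36707 = n35247 := d15_1 D36707 (iv7 F57585) (iv2 D36708)
def n36709 : Q := act 4 n17692
theorem D36709 : act 4 n17692 = n36709 := rfl
theorem F57589 : act 7 n36709 = n35248 := d11_2 (iv7 F51319) D36709 (iv4 D35248)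
def n36710 : Q := act 5 n17692
theorem D36710 : act 5 n17692 = n36710 := rfl
theorem F57590 : act 3 n36710 = n17694 := d6_1 D36710 (iv5 D17694) D17692
theorem F57591 : act 7 n36710 = n35249 := d13_2 (iv7 F51319) D36710 (iv5 D35249)
def n36711 : Q := act 6 n17692
theorem D36711 : act 6 n17692 = n36711 := rfl
theorem F57592 : act 3 n36711 = n17695 := d7_1 D36711 (iv6 D17695) D17692
def n36712 : Q := act 4 n17694
theorem D36712 : act 4 n17694 = n36712 := rfl
theorem F57593 : act 2 n36712 = n35258 := d1_1 D36712 (iv4 D35258) (iv2 F51323)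
theorem F57594 : act 7 n36712 = n35251 := d11_2 (iv7 F51320) D36712 (iv4 D35251)
def n36714 : Q := act 3 n17702
theorem D36714 : act 3 n17702 = n36714 := rfl
def n36715 : Q := act 4 n17702
theorem D36715 : act 4 n17702 = n36715 := rfl
def n36716 : Q := act 5 n17702
theorem D36716 : act 5 n17702 = n36716 := rfl
def n36717 : Q := act 6 n17702
theorem D36717 : act 6 n17702 = n36717 := rfl
def n36723 : Q := act 4 n17704
theorem D36723 : act 4 n17704 = n36723 := rfl
theorem F57597 : act 2 n36723 = n17705 := d1_1 D36723 (iv4 D17705) D17704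
def n36724 : Q := act 5 n17704
theorem D36724 : act 5 n17704 = n36724 := rfl
theorem F57598 : act 2 n36724 = n17706 := d2_1 D36724 (iv5 D17706) D17704
theorem F57599 : act 7 n36724 = n35646 := d13_2 F43890 D36724 (iv5 F56316)
theorem F57600 : act 1 n35657 = n36724 := d15_1 D35657 F57599 F56315
theorem F57601 : act 1 n36724 = n35656 := d15_0 (iv0 D35656) (iv7 F28822) (iv2 F57598)
def n36725 : Q := act 6 n17704
theorem D36725 : act 6 n17704 = n36725 := rfl
theorem F57602 : act 2 n36725 = n17707 := d3_1 D36725 (iv6 D17707) D17704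
theorem F57603 : act 5 n36390 = n36725 := d2_0 F57602 (iv5 F28771) D36390
def n36726 : Q := act 0 n17705
theorem D36726 : act 0 n17705 = n36726 := rfl
def n36727 : Q := act 1 n17705
theorem D36727 : act 1 n17705 = n36727 := rfl
def n36728 : Q := act 3 n17705
theorem D36728 : act 3 n17705 = n36728 := rfl
theorem F57604 : act 4 n36728 = n17711 := d5_2 D17705 D36728 (iv3 D17711) (iv4 D8334) D8333
theorem F57605 : act 7 n36728 = n32896 := d8_2 F43894 D36728 F52079
def n36729 : Q := act 5 n17705
theorem D36729 : act 5 n17705 = n36729 := rfl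
def n36730 : Q := act 6 n17705
theorem D36730 : act 6 n17705 = n36730 := rfl
theorem F57606 : act 4 n36730 = n17707 := d10_1 D36730 (iv6 D17707) D17705
def n36731 : Q := act 0 n17706
theorem D36731 : act 0 n17706 = n36731 := rfl
theorem F57607 : act 1 n35646 = n36731 := d15_0 (iv0 D36731) F28822 (iv2 F56315)
def n36732 : Q := act 1 n17706
theorem D36732 : act 1 n17706 = n36732 := rfl
theorem F57608 : act 1 n36732 = n35646 := d15_1 D36732 (iv7 F57599) F57598
def n36733 : Q := act 4 n17706
theorem D36733 : act 4 n17706 = n36733 := rfl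
theorem F57609 : act 7 n36733 = n35651 := d11_2 (iv7 F28822) D36733 F56319
def n36734 : Q := act 6 n17706
theorem D36734 : act 6 n17706 = n36734 := rfl
theorem F57610 : act 3 n36734 = n17718 := d7_1 D36734 (iv6 D17718) (iv3 F28769)
theorem F57611 : act 5 n36734 = n36392 := d12_1 D36734 (iv6 D36392) F28771 (iv6 D17707) D17706
theorem F57612 : act 7 n36734 = n26943 := d14_2 (iv7 F28822) D36734 (iv6 D26943) F28814 D17279
def n36735 : Q := act 0 n17707
theorem D36735 : act 0 n17707 = n36735 := rfl
def n36736 : Q := act 1 n17707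
theorem D36736 : act 1 n17707 = n36736 := rfl
def n36737 : Q := act 7 n17707
theorem D36737 : act 7 n17707 = n36737 := rfl
theorem F57613 : act 3 n36737 = n17721 := d8_1 D36737 (iv7 D17721) (iv3 F28770)
theorem F57614 : act 5 n36737 = n27098 := d13_1 D36737 F43791 F28771
def n36738 : Q := act 0 n17711
theorem D36738 : act 0 n17711 = n36738 := rfl
theorem F57615 : act 1 n32895 = n36738 := d15_0 (iv0 D36738) (iv7 F41752) D32895
def n36739 : Q := act 1 n17711
theorem D36739 : act 1 n17711 = n36739 := rfl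
def n36740 : Q := act 2 n17711
theorem D36740 : act 2 n17711 = n36740 := rfl
theorem F57616 : act 3 n36740 = n32883 := d0_2 D17711 D36740 (iv2 D32883) (iv3 D15835) F41743
theorem F57617 : act 7 n36740 = n32895 := d4_2 F41752 D36740 (iv2 D32895)
theorem F57618 : act 1 n36740 = n32893 := d15_0 (iv0 D32893) F41752 D36740
theorem F57619 : act 1 n36739 = n32895 := d15_1 D36739 (iv7 F57617) (iv2 D36740)
theorem F57620 : act 1 n32894 = n36740 := d15_1 D32894 F57617 (iv2 D32895)
def n36741 : Q := act 5 n17711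
theorem D36741 : act 5 n17711 = n36741 := rfl
theorem F57621 : act 3 n36741 = n17712 := d6_1 D36741 (iv5 D17712) D17711
theorem F57622 : act 7 n36741 = n32897 := d13_2 F41752 D36741 (iv5 D32897)
def n36742 : Q := act 6 n17711
theorem D36742 : act 6 n17711 = n36742 := rfl
theorem F57623 : act 3 n36742 = n17713 := d7_1 D36742 (iv6 D17713) D17711
def n36743 : Q := act 1 n17712
theorem D36743 : act 1 n17712 = n36743 := rfl
theorem F57624 : act 1 n36743 = n17729 := d15_1 D36743 F41750 (iv2 F41751)
theorem F57625 : act 7 n36743 = n18807 := d15_2 F45017 D36743 (iv2 F45015)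
theorem F57626 : act 5 n36743 = n18808 := d17_7 (iv1 F28238) (iv5 F30398) (iv1 D17716) (iv5 D8335) D8334 D17712 D36743 (iv0 F43883) (iv4 D27146)
theorem F57627 : act 2 n32887 = n36743 := d2_3 F57626 F30061 (iv5 F52068)
theorem F57628 : act 6 n36743 = n32935 := d21_3 (iv5 F43882) F43883 (iv5 F57626) (iv1 D32935) (iv6 D15861) (iv5 D7437) (iv1 D3401) D3402 (iv6 F11710) D15844
def n36744 : Q := act 4 n17712
theorem D36744 : act 4 n17712 = n36744 := rfl
theorem F57629 : act 2 n36744 = n32888 := d1_1 D36744 (iv4 D32888) (iv2 F41751)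
theorem F57630 : act 7 n36744 = n32899 := d11_2 F41753 D36744 (iv4 D32899)
theorem F57631 : act 5 n36744 = n33327 := d16_1 D36744 F52560 F42020 F41946 (iv5 D8340) D8339 D17729 F41750 (iv2 F41751)
def n36745 : Q := act 6 n17712
theorem D36745 : act 6 n17712 = n36745 := rfl
theorem F57632 : act 2 n36745 = n32889 := d3_1 D36745 (iv6 D32889) (iv2 F41751)
def n36746 : Q := act 1 n17713
theorem D36746 : act 1 n17713 = n36746 := rfl
theorem F57633 : act 1 n36746 = n32892 := d15_1 D36746 (iv7 D32892) (iv2 F41747)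
theorem F57634 : act 7 n36746 = n32797 := d15_2 F51602 D36746 F51920
theorem F57635 : act 4 n36746 = n26833 := d17_9 F43136 F22044 (iv1 D13245) (iv5 D6290) (iv4 F9204) D12481 D26271 (iv5 F41728) D36746
theorem F57636 : act 6 n26832 = n36746 := d21_3 D8903 D19011 (iv5 F43133) (iv1 D36746) (iv6 D17713) D17712 (iv1 F45017) (iv5 D27884) (iv6 D13294) (iv1 F30437)
theorem F57637 : act 2 n36746 = n32891 := d3_1 F57636 (iv6 F52072) F43208
theorem F57638 : act 5 n36746 = n32525 := d21_6 (iv5 F51958) (iv1 F51959) (iv5 D15718) D15719 (iv1 F43134) F57636 (iv1 D32525) (iv5 D15402) D15403 (iv1 F46249)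
theorem F57639 : act 6 n32525 = n35102 := d21_3 (iv5 F52077) (iv1 F57633) F57638 (iv1 D35102) (iv6 D17042) (iv5 D7963) F10667 D5933 (iv6 F20778) D26270
theorem F57640 : act 2 n35102 = n32587 := d3_1 F57639 (iv6 F57058) (iv2 F57059)
theorem F57641 : act 7 n32586 = n35102 := d15_2 F55780 F55781 F57640
theorem F57642 : act 7 n35101 = n32587 := d15_2 F55776 F55779 (iv2 F57640)
theorem F57643 : act 2 n32586 = n35101 := d4_3 F57642 (iv2 F57640) (iv7 F57641)
def n36747 : Q := act 3 n17715
theorem D36747 : act 3 n17715 = n36747 := rfl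
theorem F57644 : act 5 n36747 = n19035 := d6_2 (iv5 F28778) D36747 F30542
theorem F57645 : act 6 n36747 = n36377 := d7_2 F28779 D36747 (iv3 D36377)
theorem F57646 : act 7 n36747 = n19035 := d8_2 (iv7 F30343) D36747 F30542
def n36748 : Q := act 3 n17716
theorem D36748 : act 3 n17716 = n36748 := rfl
theorem F57647 : act 5 n36748 = n35676 := d6_2 (iv5 F30398) D36748 (iv3 D35676)
theorem F57648 : act 6 n36748 = n18898 := d7_2 (iv6 F30399) D36748 (iv3 D18898)
theorem F57649 : act 7 n36748 = n35676 := d8_2 F30382 D36748 (iv3 D35676)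
def n36749 : Q := act 3 n17717
theorem D36749 : act 3 n17717 = n36749 := rfl
theorem F57650 : act 7 n36749 = n35662 := d8_2 F28826 D36749 F56330
def n36750 : Q := act 3 n17720
theorem D36750 : act 3 n17720 = n36750 := rfl
theorem F57651 : act 6 n36750 = n35298 := d7_2 F28828 D36750 F56014
theorem F57652 : act 7 n36750 = n35257 := d8_2 (iv7 F51281) D36750 F55986
def n36751 : Q := act 2 n17722
theorem D36751 : act 2 n17722 = n36751 := rfl
theorem F57653 : act 7 n17723 = n36751 := d15_2 (iv0 D17722) D17723 (iv2 D36751)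
def n36752 : Q := act 3 n17722
theorem D36752 : act 3 n17722 = n36752 := rfl
def n36754 : Q := act 5 n17722
theorem D36754 : act 5 n17722 = n36754 := rfl
def n36756 : Q := act 7 n17722
theorem D36756 : act 7 n17722 = n36756 := rfl
theorem F57654 : act 2 n36756 = n17723 := d4_1 D36756 F57653 (iv2 D36751)
def n36757 : Q := act 3 n17723
theorem D36757 : act 3 n17723 = n36757 := rfl
def n36758 : Q := act 4 n17723
theorem D36758 : act 4 n17723 = n36758 := rfl
def n36759 : Q := act 5 n17723
theorem D36759 : act 5 n17723 = n36759 := rfl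
def n36760 : Q := act 6 n17723
theorem D36760 : act 6 n17723 = n36760 := rfl
def n36761 : Q := act 4 n17724
theorem D36761 : act 4 n17724 = n36761 := rfl
theorem F57655 : act 2 n36761 = n17725 := d1_1 D36761 (iv4 D17725) D17724
def n36762 : Q := act 5 n17724
theorem D36762 : act 5 n17724 = n36762 := rfl
theorem F57656 : act 2 n36762 = n17726 := d2_1 D36762 (iv5 D17726) D17724
theorem F57657 : act 3 n36762 = n35646 := d6_1 D36762 (iv5 F56316) F43889
theorem F57658 : act 6 n26932 = n36762 := d7_0 F57657 (iv6 D35646) (iv3 F43426)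
def n36763 : Q := act 6 n17724
theorem D36763 : act 6 n17724 = n36763 := rfl
theorem F57659 : act 2 n36763 = n17727 := d3_1 D36763 (iv6 D17727) D17724
def n36764 : Q := act 0 n17725
theorem D36764 : act 0 n17725 = n36764 := rfl
def n36765 : Q := act 1 n17725
theorem D36765 : act 1 n17725 = n36765 := rfl
def n36766 : Q := act 3 n17725
theorem D36766 : act 3 n17725 = n36766 := rfl
theorem F57660 : act 4 n36766 = n17728 := d5_2 D17725 D36766 (iv3 D17728) (iv4 D8339) D8338
theorem F57661 : act 7 n36766 = n32884 := d8_2 F43875 D36766 F52062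
def n36767 : Q := act 5 n17725
theorem D36767 : act 5 n17725 = n36767 := rfl
def n36768 : Q := act 6 n17725
theorem D36768 : act 6 n17725 = n36768 := rfl
theorem F57662 : act 4 n36768 = n17727 := d10_1 D36768 (iv6 D17727) D17725
def n36769 : Q := act 0 n17726
theorem D36769 : act 0 n17726 = n36769 := rfl
def n36770 : Q := act 1 n17726
theorem D36770 : act 1 n17726 = n36770 := rfl
def n36771 : Q := act 4 n17726
theorem D36771 : act 4 n17726 = n36771 := rfl
theorem F57663 : act 6 n36771 = n26933 := d10_2 F28833 D36771 (iv4 D26933)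
def n36772 : Q := act 0 n17727
theorem D36772 : act 0 n17727 = n36772 := rfl
def n36773 : Q := act 1 n17727
theorem D36773 : act 1 n17727 = n36773 := rfl
def n36774 : Q := act 5 n17727
theorem D36774 : act 5 n17727 = n36774 := rfl
theorem F57664 : act 3 n36774 = n17734 := d6_1 D36774 (iv5 D17734) (iv3 F28834)
theorem F57665 : act 6 n36774 = n26934 := d12_2 D17727 D36774 (iv5 D26934) F28833 (iv5 D17726)
def n36775 : Q := act 7 n17727
theorem D36775 : act 7 n17727 = n36775 := rfl
theorem F57666 : act 3 n36775 = n17735 := d8_1 D36775 (iv7 D17735) (iv3 F28834)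
theorem F57667 : act 6 n36775 = n36383 := d14_1 D36775 F57137 (iv6 D27145) F28792 D17727
def n36776 : Q := act 0 n17728
theorem D36776 : act 0 n17728 = n36776 := rfl
theorem F57668 : act 1 n32883 = n36776 := d15_0 (iv0 D36776) F41749 D32883
def n36777 : Q := act 1 n17728
theorem D36777 : act 1 n17728 = n36777 := rfl
def n36778 : Q := act 2 n17728
theorem D36778 : act 2 n17728 = n36778 := rfl
theorem F57669 : act 3 n36778 = n32895 := d0_2 D17728 D36778 (iv2 D32895) (iv3 D15840) (iv2 F41741)
theorem F57670 : act 7 n36778 = n32883 := d4_2 (iv7 F41749) D36778 (iv2 D32883)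
theorem F57671 : act 1 n36778 = n32881 := d15_0 (iv0 D32881) (iv7 F41749) D36778
theorem F57672 : act 1 n36777 = n32883 := d15_1 D36777 (iv7 F57670) (iv2 D36778)
def n36779 : Q := act 5 n17728
theorem D36779 : act 5 n17728 = n36779 := rfl
theorem F57674 : act 3 n36779 = n17729 := d6_1 D36779 (iv5 D17729) D17728
theorem F57675 : act 7 n36779 = n32885 := d13_2 (iv7 F41749) D36779 (iv5 D32885)
def n36780 : Q := act 6 n17728
theorem D36780 : act 6 n17728 = n36780 := rfl
theorem F57676 : act 3 n36780 = n17730 := d7_1 D36780 (iv6 D17730) D17728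
def n36781 : Q := act 4 n17729
theorem D36781 : act 4 n17729 = n36781 := rfl
theorem F57677 : act 2 n36781 = n32899 := d1_1 D36781 (iv4 D32899) (iv2 F41754)
theorem F57678 : act 5 n36781 = n33326 := d9_2 D17729 D36781 F52556 F42014 (iv4 D17717) (iv5 D8335) D8334 D17712 D36744 F57631 F52560 F42020 F41946 (iv5 D8340) D8339
theorem F57679 : act 7 n36781 = n32888 := d11_2 (iv7 F41750) D36781 (iv4 D32888)
def n36782 : Q := act 6 n17729
theorem D36782 : act 6 n17729 = n36782 := rfl
theorem F57680 : act 2 n36782 = n31671 := d3_1 D36782 F49954 (iv2 F41754)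
theorem F57681 : act 0 n26059 = n36782 := d21_4 F20943 (iv1 D12353) D12354 (iv6 F41204) (iv6 D36782) (iv5 D17729) (iv1 F41732) D12567 F20927 D12573
theorem F57682 : act 7 n31672 = n36782 := d15_2 (iv0 D31671) D31672 F57680
def n36783 : Q := act 0 n17730
theorem D36783 : act 0 n17730 = n36783 := rfl
theorem F57683 : act 5 n36783 = n23858 := d17_1 D36783 (iv1 F37198) F22739 (iv4 F12876) (iv5 F28210) F28289 (iv5 F28838) (iv0 D17732) (iv4 F28835)
theorem F57684 : act 4 n36783 = n26835 := d18_3 F30417 (iv4 F28835) D36783 F43217 D27903 F45064 F28285 D17353 (iv5 F28744)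
theorem F57685 : act 6 n36783 = n32821 := d21_5 D27884 F45016 (iv5 D17729) D17730 D36783 (iv5 F56338) (iv1 D35664) (iv5 D17284) D17285 (iv1 F41735)
theorem F57686 : act 2 n28480 = n36783 := d15_3 (iv0 D36783) F46226 (iv7 F46003)
theorem F57687 : act 7 n36783 = n26830 := d4_2 (iv7 F46003) F57686 (iv2 F43196)
theorem F57688 : act 1 n32901 = n36783 := d15_1 F52089 F57687 (iv2 F43196)
def n36784 : Q := act 7 n17730
theorem D36784 : act 7 n17730 = n36784 := rfl
theorem F57689 : act 2 n36784 = n32901 := d4_1 D36784 (iv7 D32901) F41756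
theorem F57690 : act 4 n36784 = n17735 := d11_1 D36784 (iv7 D17735) (iv4 F28835)
theorem F57691 : act 6 n36784 = n32892 := d14_1 D36784 (iv7 D32892) (iv6 D15838) F41744 D17730
theorem F57692 : act 1 n26830 = n36784 := d15_1 (iv0 F51205) (iv7 D36784) (iv2 F41756)
theorem F57693 : act 1 n36784 = n28480 := d15_1 F57692 F46003 F43196
def n36785 : Q := act 3 n17732
theorem D36785 : act 3 n17732 = n36785 := rfl
theorem F57694 : act 5 n36785 = n35821 := d6_2 (iv5 F28838) D36785 (iv3 D35821)
theorem F57695 : act 7 n36785 = n35299 := d8_2 (iv7 F51264) D36785 F56015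
def n36786 : Q := act 4 n17734
theorem D36786 : act 4 n17734 = n36786 := rfl
theorem F57696 : act 2 n36786 = n35675 := d1_1 D36786 F56360 (iv2 F28839)
theorem F57697 : act 6 n36786 = n26937 := d10_2 (iv6 F28840) D36786 (iv4 D26937)
theorem F57698 : act 0 n36786 = n18848 := d18_2 F28957 D36786 (iv4 D18848) (iv5 D8825) F43124 F18170 F18167 F28956 D16393
theorem F57699 : act 1 n36786 = n18834 := d18_6 (iv1 D16834) (iv4 F27578) (iv1 F46226) F28835 D17734 D36786 (iv4 D18834) D18833 (iv5 F30090)
def n36787 : Q := act 7 n17734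
theorem D36787 : act 7 n17734 = n36787 := rfl
theorem F57700 : act 2 n36787 = n33910 := d4_1 D36787 F53254 (iv2 F28839)
theorem F57701 : act 5 n36787 = n17735 := d13_1 D36787 (iv7 D17735) D17734
theorem F57702 : act 6 n36787 = n27111 := d14_1 D36787 F43824 (iv6 D17306) (iv7 F28807) (iv6 F28840)
theorem F57703 : act 1 n19039 = n36787 := d15_1 (iv0 F30544) (iv7 D36787) F28839
theorem F57704 : act 1 n36787 = n19044 := d15_1 F57703 (iv7 F53111) F53115
def n36788 : Q := act 0 n17736
theorem D36788 : act 0 n17736 = n36788 := rfl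
def n36789 : Q := act 1 n17736
theorem D36789 : act 1 n17736 = n36789 := rfl
def n36790 : Q := act 7 n17736
theorem D36790 : act 7 n17736 = n36790 := rfl
theorem F57705 : act 5 n36790 = n36007 := d13_1 D36790 (iv7 D36007) (iv5 F28845)
def n36791 : Q := act 0 n17737
theorem D36791 : act 0 n17737 = n36791 := rfl
def n36792 : Q := act 1 n17737
theorem D36792 : act 1 n17737 = n36792 := rfl
def n36793 : Q := act 7 n17737
theorem D36793 : act 7 n17737 = n36793 := rfl
theorem F57706 : act 3 n36793 = n17892 := d8_1 D36793 (iv7 D17892) (iv3 F28846)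
def n36794 : Q := act 0 n17738
theorem D36794 : act 0 n17738 = n36794 := rfl
def n36795 : Q := act 1 n17738
theorem D36795 : act 1 n17738 = n36795 := rfl
def n36797 : Q := act 0 n17739
theorem D36797 : act 0 n17739 = n36797 := rfl
def n36798 : Q := act 1 n17739
theorem D36798 : act 1 n17739 = n36798 := rfl
theorem F57708 : act 1 n36798 = n17771 := d15_1 D36798 (iv7 D17771) (iv2 F28847)
def n36799 : Q := act 5 n17739
theorem D36799 : act 5 n17739 = n36799 := rfl
theorem F57709 : act 2 n36799 = n17770 := d2_1 D36799 (iv5 D17770) (iv2 F28847)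
def n36800 : Q := act 7 n17739
theorem D36800 : act 7 n17739 = n36800 := rfl
theorem F57710 : act 2 n36800 = n17771 := d4_1 D36800 (iv7 D17771) (iv2 F28847)
theorem F57711 : act 4 n36800 = n17743 := d11_1 D36800 (iv7 D17743) (iv4 F28848)
theorem F57712 : act 1 n17771 = n36797 := d15_0 (iv0 D36797) D36800 F57710
theorem F57713 : act 1 n17769 = n36800 := d15_1 D17769 (iv7 D36800) F28847
theorem F57714 : act 4 n18039 = n36797 := d20_6 F30457 (iv1 D7384) F5387 (iv3 F5796) D8511 D18039 (iv1 F57712) F28907 F13182 (iv1 F9654)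
theorem F57715 : act 1 n36800 = n17768 := d15_0 (iv0 D17768) D17771 (iv2 F57710)
def n36802 : Q := act 3 n17740
theorem D36802 : act 3 n17740 = n36802 := rfl
def n36803 : Q := act 4 n17740
theorem D36803 : act 4 n17740 = n36803 := rfl
def n36804 : Q := act 5 n17740
theorem D36804 : act 5 n17740 = n36804 := rfl
def n36805 : Q := act 6 n17740
theorem D36805 : act 6 n17740 = n36805 := rfl
theorem F57717 : act 5 n36805 = n26914 := d21_6 F13446 (iv1 F4167) D3754 D8364 D17740 D36805 (iv1 D26914) (iv5 D12877) (iv6 D6105) D6102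
def n36807 : Q := act 3 n17741
theorem D36807 : act 3 n17741 = n36807 := rfl
theorem F57719 : act 4 n36807 = n21583 := d20_6 F42177 (iv1 F20987) F11732 (iv3 F13182) (iv1 F28849) D36807 (iv1 D21583) F16401 F6775 D6220
def n36808 : Q := act 4 n17741
theorem D36808 : act 4 n17741 = n36808 := rfl
def n36809 : Q := act 5 n17741
theorem D36809 : act 5 n17741 = n36809 := rfl
theorem F57720 : act 6 n17782 = n36809 := d21_5 (iv5 D8391) (iv1 D3761) D3762 (iv6 F13181) D17782 (iv5 D36809) (iv1 D17741) D17742 F28851 (iv1 F16910)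
def n36810 : Q := act 6 n17741
theorem D36810 : act 6 n17741 = n36810 := rfl
def n36811 : Q := act 0 n17742
theorem D36811 : act 0 n17742 = n36811 := rfl
theorem F57721 : act 6 n36811 = n17780 := d21_5 (iv5 D8386) (iv1 F5753) D8365 (iv6 F28851) D36811 (iv5 D17780) (iv1 D8381) D8382 F13181 (iv1 F16908)
def n36812 : Q := act 4 n17742
theorem D36812 : act 4 n17742 = n36812 := rfl
theorem F57722 : act 2 n36812 = n17784 := d1_1 D36812 (iv4 D17784) (iv2 F28850)
def n36813 : Q := act 7 n17742
theorem D36813 : act 7 n17742 = n36813 := rfl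
theorem F57724 : act 2 n36813 = n17785 := d4_1 D36813 (iv7 D17785) (iv2 F28850)
theorem F57725 : act 5 n36813 = n17743 := d13_1 D36813 (iv7 D17743) D17742
theorem F57726 : act 6 n36813 = n36813 := d14_1 D36813 (iv7 D36813) F28851 F13176 (iv6 F28851)
theorem F57727 : act 1 n17785 = n36811 := d15_0 (iv0 D36811) D36813 F57724
theorem F57728 : act 1 n17783 = n36813 := d15_1 D17783 (iv7 D36813) F28850
theorem F57729 : act 0 n17782 = n36813 := d21_10 F57725 (iv1 F28854) D17780 (iv6 F57721) (iv1 F57727) F28913 F28912 (iv1 F28849) D36809 (iv6 F57720)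
def n36816 : Q := act 0 n17745
theorem D36816 : act 0 n17745 = n36816 := rfl
def n36817 : Q := act 1 n17745
theorem D36817 : act 1 n17745 = n36817 := rfl
def n36818 : Q := act 7 n17745
theorem D36818 : act 7 n17745 = n36818 := rfl
theorem F57734 : act 3 n36818 = n17753 := d8_1 D36818 (iv7 D17753) (iv3 F28858)
theorem F57735 : act 6 n36818 = n36002 := d14_1 D36818 (iv7 D36002) (iv6 D17429) F13362 D17745
def n36819 : Q := act 3 n17746
theorem D36819 : act 3 n17746 = n36819 := rfl
theorem F57736 : act 4 n36819 = n26767 := d5_2 (iv4 F28859) D36819 (iv3 D26767) (iv4 D12808) D12807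
theorem F57737 : act 7 n36819 = n27362 := d8_2 F28862 D36819 (iv3 D27362)
def n36820 : Q := act 6 n17746
theorem D36820 : act 6 n17746 = n36820 := rfl
theorem F57739 : act 4 n36820 = n26766 := d10_1 D36820 (iv6 D26766) (iv4 F28859)
def n36821 : Q := act 3 n17747
theorem D36821 : act 3 n17747 = n36821 := rfl
theorem F57740 : act 4 n36821 = n35277 := d5_2 (iv4 F28865) D36821 (iv3 D35277) F28069 F14060
theorem F57741 : act 7 n36821 = n36008 := d8_2 (iv7 F28864) D36821 (iv3 D36008)
theorem F57742 : act 0 n36821 = n35008 := d20_4 F21611 F21510 (iv4 F28865) D36821 (iv3 D35008) (iv4 D16993) F27840 D12625 F21022 D12992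
def n36822 : Q := act 6 n17747
theorem D36822 : act 6 n17747 = n36822 := rfl
theorem F57744 : act 4 n36822 = n18181 := d10_1 D36822 (iv6 D18181) (iv4 F28865)
def n36823 : Q := act 1 n17748
theorem D36823 : act 1 n17748 = n36823 := rfl
theorem F57746 : act 5 n36823 = n32798 := d17_7 F51796 F42391 (iv1 F26649) F26652 D18633 (iv5 F29907) D36823 F51926 F51797
theorem F57747 : act 2 n32802 = n36823 := d2_3 F57746 F51923 D32802
def n36824 : Q := act 2 n17748
theorem D36824 : act 2 n17748 = n36824 := rfl
theorem F57749 : act 3 n36824 = n36037 := d0_2 D17748 D36824 (iv2 D36037) (iv3 D17443) F13364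
theorem F57750 : act 5 n36824 = n18961 := d2_2 (iv5 F29907) D36824 (iv2 F30274)
theorem F57751 : act 7 n36824 = n36012 := d4_2 (iv7 F28867) D36824 (iv2 D36012)
theorem F57752 : act 1 n36824 = n32802 := d15_0 F51941 (iv7 F28867) D36824
theorem F57753 : act 1 n36011 = n36824 := d15_0 F57752 F51940 F56768
def n36825 : Q := act 6 n17748
theorem D36825 : act 6 n17748 = n36825 := rfl
theorem F57754 : act 3 n36825 = n17750 := d7_1 D36825 (iv6 D17750) D17748
def n36826 : Q := act 1 n17749
theorem D36826 : act 1 n17749 = n36826 := rfl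
theorem F57755 : act 1 n36826 = n17756 := d15_1 D36826 F28885 (iv2 F28868)
theorem F57756 : act 7 n36826 = n36015 := d15_2 F44402 D36826 (iv2 F56779)
theorem F57757 : act 5 n36826 = n26879 := d17_7 (iv1 D6103) (iv5 D2571) D2568 F13324 D8368 D17749 D36826 F43346 (iv4 D12869)
theorem F57758 : act 4 n36826 = n36516 := d17_9 (iv1 D36516) (iv5 D17625) (iv1 F13482) D18185 (iv4 F56841) F56840 (iv0 D17746) D17749 D36826
theorem F57759 : act 2 n36014 = n36826 := d1_3 F57758 (iv2 F57360) (iv4 F56773)
def n36827 : Q := act 6 n17749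
theorem D36827 : act 6 n17749 = n36827 := rfl
theorem F57760 : act 2 n36827 = n36040 := d3_1 D36827 (iv6 D36040) (iv2 F28868)
theorem F57761 : act 4 n36827 = n35467 := d10_1 D36827 (iv6 D35467) (iv4 F28870)
def n36828 : Q := act 0 n17750
theorem D36828 : act 0 n17750 = n36828 := rfl
def n36829 : Q := act 1 n17750
theorem D36829 : act 1 n17750 = n36829 := rfl
theorem F57762 : act 1 n36829 = n36044 := d15_1 D36829 (iv7 D36044) (iv2 F28871)
def n36830 : Q := act 5 n17750
theorem D36830 : act 5 n17750 = n36830 := rfl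
theorem F57763 : act 2 n36830 = n36043 := d2_1 D36830 (iv5 D36043) (iv2 F28871)
def n36831 : Q := act 7 n17750
theorem D36831 : act 7 n17750 = n36831 := rfl
theorem F57764 : act 2 n36831 = n36044 := d4_1 D36831 (iv7 D36044) (iv2 F28871)
theorem F57765 : act 4 n36831 = n17753 := d11_1 D36831 (iv7 D17753) (iv4 F28872)
theorem F57767 : act 1 n36044 = n36828 := d15_0 (iv0 D36828) D36831 F57764
theorem F57768 : act 1 n36042 = n36831 := d15_1 D36042 (iv7 D36831) F28871
theorem F57769 : act 1 n36831 = n36041 := d15_0 (iv0 D36041) D36044 (iv2 F57764)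
def n36832 : Q := act 2 n17751
theorem D36832 : act 2 n17751 = n36832 := rfl
def n36833 : Q := act 3 n17751
theorem D36833 : act 3 n17751 = n36833 := rfl
def n36834 : Q := act 4 n17751
theorem D36834 : act 4 n17751 = n36834 := rfl
def n36835 : Q := act 5 n17751
theorem D36835 : act 5 n17751 = n36835 := rfl
def n36836 : Q := act 6 n17751
theorem D36836 : act 6 n17751 = n36836 := rfl
theorem F57771 : act 5 n36836 = n17759 := d21_6 (iv5 D2571) D2568 F13324 D8370 D17751 D36836 (iv1 D17759) (iv5 F21371) (iv6 D12870) (iv1 D6103)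
def n36837 : Q := act 7 n17751
theorem D36837 : act 7 n17751 = n36837 := rfl
def n36842 : Q := act 0 n17754
theorem D36842 : act 0 n17754 = n36842 := rfl
def n36843 : Q := act 1 n17754
theorem D36843 : act 1 n17754 = n36843 := rfl
theorem F57773 : act 1 n36843 = n21944 := d15_1 D36843 (iv7 D21944) (iv2 F28879)
def n36844 : Q := act 7 n17754
theorem D36844 : act 7 n17754 = n36844 := rfl
theorem F57774 : act 2 n36844 = n21944 := d4_1 D36844 (iv7 D21944) (iv2 F28879)
theorem F57775 : act 3 n36844 = n17760 := d8_1 D36844 (iv7 D17760) (iv3 F28880)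
theorem F57776 : act 5 n36844 = n21930 := d13_1 D36844 (iv7 D21930) (iv5 F28881)
theorem F57777 : act 6 n36844 = n21950 := d14_1 D36844 (iv7 D21950) (iv6 D10474) (iv7 F13366) D17754
theorem F57778 : act 1 n21944 = n36842 := d15_0 (iv0 D36842) D36844 F57774
theorem F57779 : act 1 n21943 = n36844 := d15_1 D21943 (iv7 D36844) F28879
theorem F57780 : act 1 n36844 = n21942 := d15_0 (iv0 D21942) D21944 (iv2 F57774)
def n36845 : Q := act 0 n17755
theorem D36845 : act 0 n17755 = n36845 := rfl
theorem F57781 : act 1 n36037 = n36845 := d15_0 (iv0 D36845) F28882 D36037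
def n36846 : Q := act 1 n17755
theorem D36846 : act 1 n17755 = n36846 := rfl
theorem F57782 : act 3 n34988 = n36846 := d20_3 (iv4 F51724) (iv1 F51726) (iv4 F55433) (iv1 D36846) (iv3 D17755) (iv4 D8373) (iv1 D3757) D3758 (iv3 F11727) D15961
theorem F57783 : act 7 n36846 = n36036 := d8_2 (iv7 F55432) F57782 (iv3 F56787)
theorem F57784 : act 2 n36036 = n36845 := d15_3 (iv0 D36845) D36846 F57783
theorem F57785 : act 2 n36846 = n36035 := d15_3 (iv0 D36035) D36036 (iv7 F57783)
theorem F57786 : act 7 n36035 = n36845 := d4_2 (iv7 F57783) F57785 (iv2 F57784)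
theorem F57787 : act 1 n36846 = n36037 := d15_0 F57781 (iv7 F57786) (iv2 F57785)
def n36847 : Q := act 2 n17755
theorem D36847 : act 2 n17755 = n36847 := rfl
theorem F57788 : act 3 n36847 = n36012 := d0_2 D17755 D36847 (iv2 D36012) (iv3 D17434) F13368
theorem F57789 : act 7 n36847 = n36037 := d4_2 (iv7 F28882) D36847 (iv2 D36037)
theorem F57790 : act 1 n36847 = n36035 := d15_0 (iv0 D36035) (iv7 F28882) D36847
theorem F57791 : act 1 n36036 = n36847 := d15_0 F57790 F57786 (iv2 F57784)
def n36848 : Q := act 5 n17755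
theorem D36848 : act 5 n17755 = n36848 := rfl
theorem F57792 : act 3 n36848 = n17756 := d6_1 D36848 (iv5 D17756) D17755
theorem F57793 : act 7 n36848 = n36038 := d13_2 (iv7 F28882) D36848 (iv5 D36038)
def n36849 : Q := act 6 n17755
theorem D36849 : act 6 n17755 = n36849 := rfl
theorem F57794 : act 3 n36849 = n17757 := d7_1 D36849 (iv6 D17757) D17755
def n36850 : Q := act 6 n17756
theorem D36850 : act 6 n17756 = n36850 := rfl
theorem F57795 : act 2 n36850 = n36016 := d3_1 D36850 (iv6 D36016) (iv2 F28883)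
theorem F57796 : act 4 n36850 = n35466 := d10_1 D36850 (iv6 D35466) (iv4 F28884)
def n36851 : Q := act 0 n17757
theorem D36851 : act 0 n17757 = n36851 := rfl
def n36852 : Q := act 1 n17757
theorem D36852 : act 1 n17757 = n36852 := rfl
theorem F57797 : act 1 n36852 = n36020 := d15_1 D36852 (iv7 D36020) (iv2 F28886)
def n36853 : Q := act 5 n17757
theorem D36853 : act 5 n17757 = n36853 := rfl
def n36854 : Q := act 7 n17757
theorem D36854 : act 7 n17757 = n36854 := rfl
theorem F57799 : act 2 n36854 = n36020 := d4_1 D36854 (iv7 D36020) (iv2 F28886)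
theorem F57800 : act 4 n36854 = n17760 := d11_1 D36854 (iv7 D17760) (iv4 F28887)
theorem F57802 : act 1 n36020 = n36851 := d15_0 (iv0 D36851) D36854 F57799
theorem F57803 : act 1 n36018 = n36854 := d15_1 D36018 (iv7 D36854) F28886
theorem F57804 : act 1 n36854 = n36017 := d15_0 (iv0 D36017) D36020 (iv2 F57799)
def n36856 : Q := act 3 n17758
theorem D36856 : act 3 n17758 = n36856 := rfl
def n36858 : Q := act 5 n17758
theorem D36858 : act 5 n17758 = n36858 := rfl
def n36861 : Q := act 3 n17759
theorem D36861 : act 3 n17759 = n36861 := rfl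
def n36862 : Q := act 4 n17759
theorem D36862 : act 4 n17759 = n36862 := rfl
def n36863 : Q := act 6 n17759
theorem D36863 : act 6 n17759 = n36863 := rfl
def n36864 : Q := act 0 n17761
theorem D36864 : act 0 n17761 = n36864 := rfl
def n36865 : Q := act 1 n17761
theorem D36865 : act 1 n17761 = n36865 := rfl
def n36866 : Q := act 2 n17761
theorem D36866 : act 2 n17761 = n36866 := rfl
theorem F57807 : act 3 n36866 = n22677 := d0_2 D17761 D36866 F35238 F30244 (iv2 F21618)
def n36867 : Q := act 4 n17761
theorem D36867 : act 4 n17761 = n36867 := rfl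
theorem F57808 : act 3 n36867 = n18132 := d5_1 D36867 (iv4 D18132) (iv3 F13307) (iv4 F13318) D17761
theorem F57809 : act 0 n36867 = n28580 := d20_4 F28735 (iv1 F27475) D18132 (iv3 F57808) (iv3 D28580) (iv4 D13625) (iv1 F25734) D15291 F24876 D17664
def n36868 : Q := act 5 n17761
theorem D36868 : act 5 n17761 = n36868 := rfl
theorem F57810 : act 3 n36868 = n17762 := d6_1 D36868 (iv5 D17762) D17761
theorem F57811 : act 7 n36868 = n36158 := d13_2 F43854 D36868 F56893
def n36869 : Q := act 6 n17761
theorem D36869 : act 6 n17761 = n36869 := rfl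
theorem F57812 : act 3 n36869 = n17763 := d7_1 D36869 (iv6 D17763) D17761
def n36870 : Q := act 6 n17762
theorem D36870 : act 6 n17762 = n36870 := rfl
theorem F57813 : act 2 n36870 = n36160 := d3_1 D36870 (iv6 D36160) (iv2 F28894)
theorem F57814 : act 4 n36870 = n35356 := d10_1 D36870 (iv6 D35356) (iv4 F28896)
def n36872 : Q := act 1 n17763
theorem D36872 : act 1 n17763 = n36872 := rfl
def n36874 : Q := act 7 n17763
theorem D36874 : act 7 n17763 = n36874 := rfl
theorem F57815 : act 4 n36874 = n35316 := d11_1 D36874 (iv7 D35316) (iv4 F28899)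
def n36875 : Q := act 0 n17764
theorem D36875 : act 0 n17764 = n36875 := rfl
theorem F57816 : act 5 n36875 = n18908 := d17_1 D36875 (iv1 F30186) D18918 F30202 F14417 (iv0 D9224) D9226 (iv0 F17188) (iv4 F28900)
theorem F57817 : act 4 n36875 = n19277 := d18_1 D36875 (iv1 F30938) (iv4 F30264) (iv5 D18956) (iv4 F13896) F13895 D17895 (iv0 F30220) F30219
def n36876 : Q := act 1 n17764
theorem D36876 : act 1 n17764 = n36876 := rfl
theorem F57819 : act 1 n36876 = n22677 := d15_1 D36876 F35240 F30260
theorem F57820 : act 5 n36876 = n18909 := d17_7 (iv1 F7183) F5742 F6055 (iv5 F13840) D18928 F30219 D36876 F30188 (iv4 D8870)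
theorem F57821 : act 4 n36876 = n19278 := d18_7 (iv1 F14144) (iv4 F14145) F7048 D4876 D10643 (iv4 F28900) D36876 F30941 (iv5 D9074)
def n36877 : Q := act 6 n17764
theorem D36877 : act 6 n17764 = n36877 := rfl
theorem F57822 : act 3 n36877 = n17766 := d7_1 D36877 (iv6 D17766) D17764
theorem F57823 : act 4 n36877 = n22358 := d10_1 D36877 (iv6 D22358) (iv4 F28900)
def n36878 : Q := act 6 n17765
theorem D36878 : act 6 n17765 = n36878 := rfl
theorem F57824 : act 2 n36878 = n36159 := d3_1 D36878 (iv6 D36159) (iv2 F28901)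
theorem F57825 : act 4 n36878 = n18354 := d10_1 D36878 (iv6 D18354) (iv4 F28902)
def n36879 : Q := act 0 n17766
theorem D36879 : act 0 n17766 = n36879 := rfl
def n36881 : Q := act 5 n17766
theorem D36881 : act 5 n17766 = n36881 := rfl
def n36882 : Q := act 7 n17766
theorem D36882 : act 7 n17766 = n36882 := rfl
theorem F57826 : act 4 n36882 = n35352 := d11_1 D36882 (iv7 D35352) (iv4 F28906)
def n36887 : Q := act 2 n17768
theorem D36887 : act 2 n17768 = n36887 := rfl
theorem F57828 : act 7 n17769 = n36887 := d15_2 (iv0 D17768) D17769 (iv2 D36887)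
def n36888 : Q := act 3 n17768
theorem D36888 : act 3 n17768 = n36888 := rfl
def n36889 : Q := act 4 n17768
theorem D36889 : act 4 n17768 = n36889 := rfl
def n36890 : Q := act 5 n17768
theorem D36890 : act 5 n17768 = n36890 := rfl
def n36891 : Q := act 6 n17768
theorem D36891 : act 6 n17768 = n36891 := rfl
def n36892 : Q := act 7 n17768
theorem D36892 : act 7 n17768 = n36892 := rfl
theorem F57829 : act 2 n36892 = n17769 := d4_1 D36892 F57828 (iv2 D36887)
def n36893 : Q := act 3 n17769
theorem D36893 : act 3 n17769 = n36893 := rfl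
def n36894 : Q := act 4 n17769
theorem D36894 : act 4 n17769 = n36894 := rfl
theorem F57830 : act 3 n18009 = n36894 := d20_5 D8398 (iv1 F41801) F11682 (iv3 F13283) (iv1 F29173) (iv4 D36894) (iv1 D17769) F13179 F5752 D3763
def n36895 : Q := act 5 n17769
theorem D36895 : act 5 n17769 = n36895 := rfl
def n36896 : Q := act 6 n17769
theorem D36896 : act 6 n17769 = n36896 := rfl
def n36897 : Q := act 0 n17770
theorem D36897 : act 0 n17770 = n36897 := rfl
def n36898 : Q := act 1 n17770
theorem D36898 : act 1 n17770 = n36898 := rfl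
def n36900 : Q := act 7 n17770
theorem D36900 : act 7 n17770 = n36900 := rfl
theorem F57831 : act 5 n36900 = n17771 := d13_1 D36900 (iv7 D17771) D17770
def n36902 : Q := act 1 n17772
theorem D36902 : act 1 n17772 = n36902 := rfl
theorem F57833 : act 1 n36902 = n17777 := d15_1 D36902 (iv7 D17777) D17772
def n36903 : Q := act 3 n17772
theorem D36903 : act 3 n17772 = n36903 := rfl
theorem F57834 : act 7 n36903 = n17778 := d8_2 F28908 D36903 (iv3 D17778)
def n36904 : Q := act 4 n17772
theorem D36904 : act 4 n17772 = n36904 := rfl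
theorem F57835 : act 2 n36904 = n17774 := d1_1 D36904 (iv4 D17774) D17772
theorem F57836 : act 7 n36904 = n17779 := d11_2 F28908 D36904 (iv4 D17779)
def n36905 : Q := act 5 n17772
theorem D36905 : act 5 n17772 = n36905 := rfl
theorem F57837 : act 2 n36905 = n17775 := d2_1 D36905 (iv5 D17775) D17772
theorem F57838 : act 7 n36905 = n17780 := d13_2 F28908 D36905 (iv5 D17780)
def n36906 : Q := act 6 n17772
theorem D36906 : act 6 n17772 = n36906 := rfl
theorem F57839 : act 2 n36906 = n17776 := d3_1 D36906 (iv6 D17776) D17772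
def n36907 : Q := act 0 n17773
theorem D36907 : act 0 n17773 = n36907 := rfl
def n36908 : Q := act 1 n17773
theorem D36908 : act 1 n17773 = n36908 := rfl
def n36909 : Q := act 2 n17773
theorem D36909 : act 2 n17773 = n36909 := rfl
def n36910 : Q := act 4 n17773
theorem D36910 : act 4 n17773 = n36910 := rfl
theorem F57840 : act 0 n36910 = n21585 := d20_7 F29944 (iv1 D7481) F5408 (iv3 F5752) D8380 D17773 D36910 F33983 F16404 (iv1 F9695)
theorem F57841 : act 0 n21514 = n36910 := d20_7 (iv4 F57711) (iv1 F57713) D36894 (iv3 F57830) (iv1 D18009) (iv3 F16266) (iv4 F33837) (iv4 D36910) (iv3 D17773) (iv1 F28855)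
def n36911 : Q := act 5 n17773
theorem D36911 : act 5 n17773 = n36911 := rfl
theorem F57842 : act 3 n36911 = n17775 := d6_1 D36911 (iv5 D17775) D17773
def n36912 : Q := act 6 n17773
theorem D36912 : act 6 n17773 = n36912 := rfl
theorem F57843 : act 3 n36912 = n17776 := d7_1 D36912 (iv6 D17776) D17773
def n36913 : Q := act 7 n17773
theorem D36913 : act 7 n17773 = n36913 := rfl
theorem F57844 : act 3 n36913 = n17777 := d8_1 D36913 (iv7 D17777) D17773
def n36914 : Q := act 0 n17774
theorem D36914 : act 0 n17774 = n36914 := rfl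
def n36915 : Q := act 1 n17774
theorem D36915 : act 1 n17774 = n36915 := rfl
theorem F57845 : act 1 n36915 = n17779 := d15_1 D36915 (iv7 F57836) F57835
def n36916 : Q := act 3 n17774
theorem D36916 : act 3 n17774 = n36916 := rfl
def n36917 : Q := act 5 n17774
theorem D36917 : act 5 n17774 = n36917 := rfl
def n36918 : Q := act 6 n17774
theorem D36918 : act 6 n17774 = n36918 := rfl
theorem F57846 : act 4 n36918 = n17776 := d10_1 D36918 (iv6 D17776) D17774
def n36919 : Q := act 7 n17774
theorem D36919 : act 7 n17774 = n36919 := rfl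
theorem F57847 : act 2 n36919 = n17779 := d4_1 D36919 (iv7 F57836) F57835
theorem F57848 : act 4 n36919 = n17777 := d11_1 D36919 (iv7 D17777) D17774
theorem F57849 : act 1 n17779 = n36914 := d15_0 (iv0 D36914) D36919 F57847
def n36920 : Q := act 0 n17775
theorem D36920 : act 0 n17775 = n36920 := rfl
theorem F57850 : act 5 n36920 = n36134 := d21_2 D17775 D36920 (iv6 D36134) (iv1 D17472) (iv6 D8221) (iv5 F13340) (iv1 D1640) D1642 D3759 D8380
def n36921 : Q := act 1 n17775
theorem D36921 : act 1 n17775 = n36921 := rfl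
theorem F57851 : act 1 n36921 = n17780 := d15_1 D36921 (iv7 F57838) F57837
def n36922 : Q := act 4 n17775
theorem D36922 : act 4 n17775 = n36922 := rfl
def n36923 : Q := act 6 n17775
theorem D36923 : act 6 n17775 = n36923 := rfl
def n36924 : Q := act 7 n17775
theorem D36924 : act 7 n17775 = n36924 := rfl
theorem F57852 : act 2 n36924 = n17780 := d4_1 D36924 (iv7 F57838) F57837
theorem F57853 : act 5 n36924 = n17777 := d13_1 D36924 (iv7 D17777) D17775
theorem F57854 : act 1 n17780 = n36920 := d15_0 (iv0 D36920) D36924 F57852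
theorem F57855 : act 0 n17781 = n36858 := d21_10 (iv5 D36858) (iv1 F28891) (iv5 F28464) (iv6 F43364) (iv1 F43366) D36134 (iv5 F57850) (iv1 F57854) (iv5 D17780) D17781
def n36925 : Q := act 0 n17776
theorem D36925 : act 0 n17776 = n36925 := rfl
def n36926 : Q := act 1 n17776
theorem D36926 : act 1 n17776 = n36926 := rfl
def n36927 : Q := act 5 n17776
theorem D36927 : act 5 n17776 = n36927 := rfl
theorem F57856 : act 0 n36927 = n26875 := d21_7 (iv5 F13340) (iv1 D1640) D1642 D3759 D8380 D17776 D36927 (iv5 D26875) (iv6 D12863) (iv1 F9475)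
theorem F57857 : act 0 n26916 = n36927 := d21_1 (iv5 F43404) (iv5 D36927) (iv6 D17776) (iv1 F28855) (iv6 F43850) F43849 (iv1 F43852) D27138 (iv6 F43868) (iv1 F43336)
def n36928 : Q := act 7 n17776
theorem D36928 : act 7 n17776 = n36928 := rfl
def n36929 : Q := act 6 n17777
theorem D36929 : act 6 n17777 = n36929 := rfl
theorem F57858 : act 2 n36929 = n17781 := d3_1 D36929 (iv6 D17781) (iv2 F28909)
def n36930 : Q := act 0 n17778
theorem D36930 : act 0 n17778 = n36930 := rfl
def n36931 : Q := act 1 n17778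
theorem D36931 : act 1 n17778 = n36931 := rfl
def n36932 : Q := act 2 n17778
theorem D36932 : act 2 n17778 = n36932 := rfl
def n36933 : Q := act 4 n17778
theorem D36933 : act 4 n17778 = n36933 := rfl
def n36934 : Q := act 5 n17778
theorem D36934 : act 5 n17778 = n36934 := rfl
def n36935 : Q := act 6 n17778
theorem D36935 : act 6 n17778 = n36935 := rfl
def n36936 : Q := act 3 n17779
theorem D36936 : act 3 n17779 = n36936 := rfl
def n36937 : Q := act 5 n17779
theorem D36937 : act 5 n17779 = n36937 := rfl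
def n36938 : Q := act 6 n17779
theorem D36938 : act 6 n17779 = n36938 := rfl
theorem F57861 : act 4 n36938 = n17781 := d10_1 D36938 (iv6 D17781) D17779
def n36939 : Q := act 4 n17780
theorem D36939 : act 4 n17780 = n36939 := rfl
def n36940 : Q := act 1 n17781
theorem D36940 : act 1 n17781 = n36940 := rfl
def n36941 : Q := act 5 n17781
theorem D36941 : act 5 n17781 = n36941 := rfl
theorem F57862 : act 0 n36104 = n36941 := d21_1 D36104 (iv5 D36941) (iv6 D17781) (iv1 D8381) (iv6 D3759) (iv5 D1642) D1639 F13334 D8216 D17464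
def n36942 : Q := act 7 n17781
theorem D36942 : act 7 n17781 = n36942 := rfl
def n36943 : Q := act 2 n17782
theorem D36943 : act 2 n17782 = n36943 := rfl
theorem F57863 : act 7 n17783 = n36943 := d15_2 (iv0 D17782) D17783 (iv2 D36943)
def n36944 : Q := act 3 n17782
theorem D36944 : act 3 n17782 = n36944 := rfl
def n36945 : Q := act 4 n17782
theorem D36945 : act 4 n17782 = n36945 := rfl
def n36946 : Q := act 5 n17782
theorem D36946 : act 5 n17782 = n36946 := rfl
def n36947 : Q := act 7 n17782
theorem D36947 : act 7 n17782 = n36947 := rfl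
theorem F57864 : act 2 n36947 = n17783 := d4_1 D36947 F57863 (iv2 D36943)
def n36948 : Q := act 3 n17783
theorem D36948 : act 3 n17783 = n36948 := rfl
def n36949 : Q := act 4 n17783
theorem D36949 : act 4 n17783 = n36949 := rfl
def n36950 : Q := act 6 n17783
theorem D36950 : act 6 n17783 = n36950 := rfl
def n36951 : Q := act 0 n17784
theorem D36951 : act 0 n17784 = n36951 := rfl
def n36952 : Q := act 1 n17784
theorem D36952 : act 1 n17784 = n36952 := rfl
def n36955 : Q := act 7 n17784
theorem D36955 : act 7 n17784 = n36955 := rfl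
theorem F57867 : act 4 n36955 = n17785 := d11_1 D36955 (iv7 D17785) D17784
def n36956 : Q := act 6 n17786
theorem D36956 : act 6 n17786 = n36956 := rfl
def n36957 : Q := act 1 n17787
theorem D36957 : act 1 n17787 = n36957 := rfl
theorem F57869 : act 1 n36957 = n17790 := d15_1 D36957 F28922 F28921
theorem F57870 : act 4 n36957 = n18182 := d18_7 F21706 F13476 (iv1 F17601) (iv4 D8385) D8386 D17787 D36957 (iv0 F43942) (iv5 D27186)
def n36960 : Q := act 6 n17787
theorem D36960 : act 6 n17787 = n36960 := rfl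
theorem F57875 : act 4 n36960 = n17788 := d10_1 D36960 (iv6 D17788) D17787
def n36961 : Q := act 0 n17788
theorem D36961 : act 0 n17788 = n36961 := rfl
def n36962 : Q := act 1 n17788
theorem D36962 : act 1 n17788 = n36962 := rfl
def n36963 : Q := act 7 n17788
theorem D36963 : act 7 n17788 = n36963 := rfl
def n36964 : Q := act 6 n17789
theorem D36964 : act 6 n17789 = n36964 := rfl
theorem F57877 : act 2 n36964 = n36956 := d3_1 D36964 (iv6 D36956) (iv2 F28917)
theorem F57878 : act 3 n36964 = n21601 := d7_1 D36964 (iv6 D21601) (iv3 F28918)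
def n36965 : Q := act 3 n17790
theorem D36965 : act 3 n17790 = n36965 := rfl
def n36967 : Q := act 6 n17790
theorem D36967 : act 6 n17790 = n36967 := rfl
theorem F57882 : act 2 n36967 = n36960 := d3_1 D36967 (iv6 D36960) (iv2 F28921)
theorem F57883 : act 4 n36967 = n17791 := d10_1 D36967 (iv6 D17791) D17790
def n36968 : Q := act 0 n17791
theorem D36968 : act 0 n17791 = n36968 := rfl
def n36969 : Q := act 1 n17791
theorem D36969 : act 1 n17791 = n36969 := rfl
theorem F57884 : act 1 n36969 = n36963 := d15_1 D36969 (iv7 D36963) (iv2 F28923)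
def n36970 : Q := act 7 n17791
theorem D36970 : act 7 n17791 = n36970 := rfl
theorem F57885 : act 2 n36970 = n36963 := d4_1 D36970 (iv7 D36963) (iv2 F28923)
theorem F57886 : act 5 n36970 = n36276 := d13_1 D36970 (iv7 D36276) (iv5 F28924)
theorem F57888 : act 1 n36963 = n36968 := d15_0 (iv0 D36968) D36970 F57885
theorem F57889 : act 1 n36962 = n36970 := d15_1 D36962 (iv7 D36970) F28923
theorem F57890 : act 1 n36970 = n36961 := d15_0 (iv0 D36961) D36963 (iv2 F57885)
def n36972 : Q := act 5 n17792
theorem D36972 : act 5 n17792 = n36972 := rfl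
theorem F57894 : act 1 n36972 = n17795 := d17_6 F29215 (iv5 D13111) F21707 D27186 F43944 D36972 (iv5 D17795) D17793 (iv4 F29214)
def n36973 : Q := act 6 n17792
theorem D36973 : act 6 n17792 = n36973 := rfl
def n36976 : Q := act 6 n17793
theorem D36976 : act 6 n17793 = n36976 := rfl
theorem F57900 : act 2 n36976 = n36973 := d3_1 D36976 (iv6 D36973) (iv2 F29217)
def n36977 : Q := act 0 n17794
theorem D36977 : act 0 n17794 = n36977 := rfl
def n36978 : Q := act 1 n17794
theorem D36978 : act 1 n17794 = n36978 := rfl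
def n36984 : Q := act 3 n17802
theorem D36984 : act 3 n17802 = n36984 := rfl
def n36985 : Q := act 4 n17802
theorem D36985 : act 4 n17802 = n36985 := rfl
def n36986 : Q := act 5 n17802
theorem D36986 : act 5 n17802 = n36986 := rfl
def n36987 : Q := act 6 n17802
theorem D36987 : act 6 n17802 = n36987 := rfl
def n36988 : Q := act 7 n17802
theorem D36988 : act 7 n17802 = n36988 := rfl
def n36993 : Q := act 4 n17804
theorem D36993 : act 4 n17804 = n36993 := rfl
theorem F57912 : act 2 n36993 = n17805 := d1_1 D36993 (iv4 D17805) D17804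
def n36994 : Q := act 5 n17804
theorem D36994 : act 5 n17804 = n36994 := rfl
theorem F57913 : act 2 n36994 = n17806 := d2_1 D36994 (iv5 D17806) D17804
def n36995 : Q := act 6 n17804
theorem D36995 : act 6 n17804 = n36995 := rfl
theorem F57914 : act 2 n36995 = n17807 := d3_1 D36995 (iv6 D17807) D17804
theorem F57915 : act 5 n35727 = n36995 := d2_0 F57914 (iv5 F28945) D35727
def n36996 : Q := act 0 n17805
theorem D36996 : act 0 n17805 = n36996 := rfl
def n36997 : Q := act 1 n17805
theorem D36997 : act 1 n17805 = n36997 := rfl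
def n36998 : Q := act 3 n17805
theorem D36998 : act 3 n17805 = n36998 := rfl
theorem F57916 : act 4 n36998 = n17811 := d5_2 D17805 D36998 (iv3 D17811) (iv4 D8398) D8397
theorem F57917 : act 7 n36998 = n32826 := d8_2 F43996 D36998 F51974
def n36999 : Q := act 5 n17805
theorem D36999 : act 5 n17805 = n36999 := rfl
def n37000 : Q := act 6 n17805
theorem D37000 : act 6 n17805 = n37000 := rfl
theorem F57918 : act 4 n37000 = n17807 := d10_1 D37000 (iv6 D17807) D17805
def n37001 : Q := act 0 n17806
theorem D37001 : act 0 n17806 = n37001 := rfl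
def n37002 : Q := act 1 n17806
theorem D37002 : act 1 n17806 = n37002 := rfl
def n37004 : Q := act 6 n17806
theorem D37004 : act 6 n17806 = n37004 := rfl
theorem F57919 : act 3 n37004 = n17818 := d7_1 D37004 (iv6 D17818) (iv3 F28943)
theorem F57920 : act 5 n37004 = n35729 := d12_1 D37004 (iv6 D35729) F28945 (iv6 D17807) D17806
def n37005 : Q := act 0 n17807
theorem D37005 : act 0 n17807 = n37005 := rfl
def n37006 : Q := act 1 n17807
theorem D37006 : act 1 n17807 = n37006 := rfl
def n37007 : Q := act 7 n17807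
theorem D37007 : act 7 n17807 = n37007 := rfl
theorem F57921 : act 3 n37007 = n17822 := d8_1 D37007 (iv7 D17822) (iv3 F28944)
theorem F57922 : act 5 n37007 = n26948 := d13_1 D37007 F43468 F28945
def n37008 : Q := act 0 n17811
theorem D37008 : act 0 n17811 = n37008 := rfl
theorem F57923 : act 1 n32825 = n37008 := d15_0 (iv0 D37008) (iv7 F30529) D32825
def n37009 : Q := act 1 n17811
theorem D37009 : act 1 n17811 = n37009 := rfl
def n37010 : Q := act 2 n17811
theorem D37010 : act 2 n17811 = n37010 := rfl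
theorem F57924 : act 3 n37010 = n32812 := d0_2 D17811 D37010 (iv2 D32812) (iv3 D15711) F30490
theorem F57925 : act 7 n37010 = n32825 := d4_2 F30529 D37010 (iv2 D32825)
theorem F57926 : act 1 n37010 = n32823 := d15_0 (iv0 D32823) F30529 D37010
theorem F57927 : act 1 n37009 = n32825 := d15_1 D37009 (iv7 F57925) (iv2 D37010)
theorem F57928 : act 1 n32824 = n37010 := d15_1 D32824 F57925 (iv2 D32825)
def n37011 : Q := act 5 n17811
theorem D37011 : act 5 n17811 = n37011 := rfl
theorem F57929 : act 3 n37011 = n17812 := d6_1 D37011 (iv5 D17812) D17811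
theorem F57930 : act 7 n37011 = n32827 := d13_2 F30529 D37011 (iv5 D32827)
def n37012 : Q := act 6 n17811
theorem D37012 : act 6 n17811 = n37012 := rfl
theorem F57931 : act 3 n37012 = n17813 := d7_1 D37012 (iv6 D17813) D17811
def n37013 : Q := act 1 n17812
theorem D37013 : act 1 n17812 = n37013 := rfl
theorem F57933 : act 7 n37013 = n32816 := d15_2 F46244 D37013 (iv2 F51960)
theorem F57934 : act 5 n37013 = n36329 := d17_7 (iv1 F43767) (iv5 F43461) (iv1 D17816) (iv5 D8399) D8398 D17812 D37013 F57064 F46241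
theorem F57935 : act 2 n32817 = n37013 := d2_3 F57934 F57068 (iv5 F51963)
theorem F57936 : act 6 n37013 = n29204 := d21_3 (iv5 F46240) (iv1 F57064) (iv5 F57934) (iv1 D29204) (iv6 D13892) (iv5 D6604) (iv1 D2955) D2957 D6614 D13919
theorem F57937 : act 2 n29204 = n29724 := d3_1 F57936 (iv6 F51964) F57935
theorem F57938 : act 7 n29723 = n29204 := d15_2 F47768 F47773 F57937
theorem F57939 : act 7 n29203 = n29724 := d15_2 F47774 F47775 (iv2 F57937)
theorem F57940 : act 2 n29723 = n29203 := d4_3 F57939 (iv2 F57937) (iv7 F57938)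
def n37014 : Q := act 4 n17812
theorem D37014 : act 4 n17812 = n37014 := rfl
theorem F57943 : act 0 n37014 = n33967 := d18_2 (iv1 D37013) D37014 (iv4 D33967) (iv5 D16419) (iv4 F25899) F43771 (iv4 F28534) D36329 (iv5 F57934)
def n37015 : Q := act 6 n17812
theorem D37015 : act 6 n17812 = n37015 := rfl
theorem F57944 : act 2 n37015 = n32819 := d3_1 D37015 (iv6 D32819) (iv2 F30528)
def n37016 : Q := act 1 n17813
theorem D37016 : act 1 n17813 = n37016 := rfl
theorem F57945 : act 1 n37016 = n32822 := d15_1 D37016 (iv7 D32822) (iv2 F30525)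
theorem F57946 : act 7 n37016 = n26844 := d15_2 F51778 D37016 F43236
theorem F57947 : act 4 n37016 = n26847 := d17_9 (iv1 F43252) F22016 (iv1 D13223) (iv5 D6283) (iv4 F9233) D12515 D26317 (iv5 F41933) D37016
theorem F57948 : act 6 n28480 = n37016 := d21_3 (iv5 F10529) D13575 D28480 (iv1 D37016) (iv6 D17813) D17812 (iv1 F46244) (iv5 D28695) (iv6 D13674) (iv1 D6495)
theorem F57949 : act 2 n37016 = n32821 := d3_1 F57948 (iv6 F57685) (iv2 F57686)
theorem F57950 : act 5 n37016 = n32708 := d21_6 D18807 (iv1 F41755) (iv5 D15842) D15843 (iv1 F46005) F57948 (iv1 D32708) (iv5 D15594) D15595 F41943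
theorem F57951 : act 6 n32841 = n32708 := d12_4 (iv6 F57948) (iv5 D28480) D28481 F51999 (iv5 F57950)
theorem F57952 : act 2 n32671 = n32841 := d3_3 F57951 F56340 F56339
theorem F57953 : act 7 n32840 = n32671 := d15_2 F51998 F52003 F57952
theorem F57954 : act 7 n32670 = n32841 := d15_2 F52004 F52005 (iv2 F57952)
theorem F57955 : act 2 n32840 = n32670 := d4_3 F57954 (iv2 F57952) (iv7 F57953)
def n37017 : Q := act 3 n17815
theorem D37017 : act 3 n17815 = n37017 := rfl
theorem F57956 : act 5 n37017 = n33960 := d6_2 (iv5 F28952) D37017 F53295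
def n37018 : Q := act 4 n17815
theorem D37018 : act 4 n17815 = n37018 := rfl
theorem F57957 : act 0 n37018 = n18103 := d18_2 D17815 D37018 (iv4 D18103) (iv5 D8536) F29944 F20988 F20985 F9661 D8399
def n37019 : Q := act 6 n17815
theorem D37019 : act 6 n17815 = n37019 := rfl
theorem F57960 : act 5 n37019 = n26959 := d12_1 D37019 F43498 (iv5 D16413) D16414 (iv5 F28952)
theorem F57962 : act 0 n37019 = n27205 := d21_4 (iv5 F21723) (iv1 F43771) (iv5 F28952) D37019 (iv6 D27205) (iv5 D13030) (iv1 F9659) (iv5 F13193) F13194 (iv1 F21722)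
def n37020 : Q := act 3 n17816
theorem D37020 : act 3 n17816 = n37020 := rfl
theorem F57964 : act 5 n37020 = n36341 := d6_2 (iv5 F43461) D37020 (iv3 D36341)
def n37021 : Q := act 4 n17816
theorem D37021 : act 4 n17816 = n37021 := rfl
theorem F57966 : act 1 n37021 = n18103 := d18_6 F30001 F42171 (iv1 F53063) F53065 (iv5 F43461) D37021 (iv4 D18103) F29269 F29265
def n37022 : Q := act 0 n17817
theorem D37022 : act 0 n17817 = n37022 := rfl
theorem F57967 : act 4 n37022 = n18849 := d18_3 (iv1 D17816) D17817 D37022 (iv5 D18849) (iv4 F43125) (iv0 F46246) F28534 D17549 (iv5 F43461)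
theorem F57968 : act 1 n17833 = n37022 := d15_0 (iv0 D37022) (iv7 F44003) F44001
def n37023 : Q := act 1 n17817
theorem D37023 : act 1 n17817 = n37023 := rfl
theorem F57969 : act 1 n37023 = n17833 := d15_1 D37023 (iv7 F43982) F43981
theorem F57970 : act 4 n37023 = n27289 := d18_7 (iv1 D6221) (iv4 F9266) F41802 (iv4 D8398) D8399 D17817 D37023 F44140 (iv5 D13079)
def n37026 : Q := act 6 n17817
theorem D37026 : act 6 n17817 = n37026 := rfl
theorem F57972 : act 4 n37026 = n17818 := d10_1 D37026 (iv6 D17818) D17817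
def n37027 : Q := act 3 n17821
theorem D37027 : act 3 n17821 = n37027 := rfl
theorem F57973 : act 7 n37027 = n35304 := d8_2 F51233 D37027 F56017
def n37029 : Q := act 3 n17824
theorem D37029 : act 3 n17824 = n37029 := rfl
def n37030 : Q := act 4 n17824
theorem D37030 : act 4 n17824 = n37030 := rfl
def n37034 : Q := act 3 n17825
theorem D37034 : act 3 n17825 = n37034 := rfl
def n37035 : Q := act 4 n17825
theorem D37035 : act 4 n17825 = n37035 := rfl
def n37036 : Q := act 5 n17825
theorem D37036 : act 5 n17825 = n37036 := rfl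
def n37037 : Q := act 6 n17825
theorem D37037 : act 6 n17825 = n37037 := rfl
def n37038 : Q := act 4 n17826
theorem D37038 : act 4 n17826 = n37038 := rfl
theorem F57976 : act 2 n37038 = n17827 := d1_1 D37038 (iv4 D17827) D17826
def n37039 : Q := act 5 n17826
theorem D37039 : act 5 n17826 = n37039 := rfl
theorem F57977 : act 2 n37039 = n17828 := d2_1 D37039 (iv5 D17828) D17826
def n37040 : Q := act 6 n17826
theorem D37040 : act 6 n17826 = n37040 := rfl
theorem F57978 : act 2 n37040 = n17829 := d3_1 D37040 (iv6 D17829) D17826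
def n37041 : Q := act 0 n17827
theorem D37041 : act 0 n17827 = n37041 := rfl
def n37042 : Q := act 1 n17827
theorem D37042 : act 1 n17827 = n37042 := rfl
def n37043 : Q := act 3 n17827
theorem D37043 : act 3 n17827 = n37043 := rfl
theorem F57979 : act 4 n37043 = n17830 := d5_2 D17827 D37043 (iv3 D17830) (iv4 D8403) D8402
theorem F57980 : act 7 n37043 = n32813 := d8_2 F43971 D37043 F51954
def n37044 : Q := act 5 n17827
theorem D37044 : act 5 n17827 = n37044 := rfl
def n37045 : Q := act 6 n17827
theorem D37045 : act 6 n17827 = n37045 := rfl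
theorem F57981 : act 4 n37045 = n17829 := d10_1 D37045 (iv6 D17829) D17827
def n37046 : Q := act 0 n17828
theorem D37046 : act 0 n17828 = n37046 := rfl
def n37047 : Q := act 1 n17828
theorem D37047 : act 1 n17828 = n37047 := rfl
def n37048 : Q := act 4 n17828
theorem D37048 : act 4 n17828 = n37048 := rfl
def n37049 : Q := act 0 n17829
theorem D37049 : act 0 n17829 = n37049 := rfl
def n37050 : Q := act 1 n17829
theorem D37050 : act 1 n17829 = n37050 := rfl
def n37051 : Q := act 0 n17830
theorem D37051 : act 0 n17830 = n37051 := rfl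
theorem F57982 : act 1 n32812 = n37051 := d15_0 (iv0 D37051) F30526 D32812
def n37052 : Q := act 1 n17830
theorem D37052 : act 1 n17830 = n37052 := rfl
def n37053 : Q := act 2 n17830
theorem D37053 : act 2 n17830 = n37053 := rfl
theorem F57983 : act 3 n37053 = n32825 := d0_2 D17830 D37053 (iv2 D32825) (iv3 D15716) (iv2 F30487)
theorem F57984 : act 7 n37053 = n32812 := d4_2 (iv7 F30526) D37053 (iv2 D32812)
theorem F57985 : act 1 n37053 = n32810 := d15_0 (iv0 D32810) (iv7 F30526) D37053
theorem F57986 : act 1 n37052 = n32812 := d15_1 D37052 (iv7 F57984) (iv2 D37053)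
theorem F57987 : act 1 n32811 = n37053 := d15_1 D32811 F57984 (iv2 D32812)
def n37054 : Q := act 5 n17830
theorem D37054 : act 5 n17830 = n37054 := rfl
theorem F57988 : act 3 n37054 = n17831 := d6_1 D37054 (iv5 D17831) D17830
theorem F57989 : act 7 n37054 = n32814 := d13_2 (iv7 F30526) D37054 (iv5 D32814)
def n37055 : Q := act 6 n17830
theorem D37055 : act 6 n17830 = n37055 := rfl
theorem F57990 : act 3 n37055 = n17832 := d7_1 D37055 (iv6 D17832) D17830
def n37056 : Q := act 4 n17831
theorem D37056 : act 4 n17831 = n37056 := rfl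
theorem F57991 : act 2 n37056 = n32829 := d1_1 D37056 (iv4 D32829) (iv2 F30531)
theorem F57992 : act 7 n37056 = n32818 := d11_2 (iv7 F30527) D37056 (iv4 D32818)
theorem F57993 : act 1 n37056 = n33967 := d18_6 (iv1 F20989) F20985 (iv1 F9660) D8403 D17831 D37056 (iv4 D33967) (iv0 F25901) (iv5 D15986)
def n37057 : Q := act 6 n17831
theorem D37057 : act 6 n17831 = n37057 := rfl
theorem F57994 : act 2 n37057 = n32830 := d3_1 D37057 (iv6 D32830) (iv2 F30531)
theorem F57995 : act 0 n29179 = n37057 := d21_4 F10948 (iv1 F10859) (iv5 F23155) D29179 (iv6 D37057) (iv5 D17831) F41803 (iv5 F10960) (iv6 D6719) D6716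
def n37059 : Q := act 5 n17833
theorem D37059 : act 5 n17833 = n37059 := rfl
theorem F57996 : act 0 n37059 = n27303 := d17_2 (iv1 F57968) D37059 (iv5 D27303) (iv4 D13083) (iv5 D6222) D6221 D13079 (iv0 F30097) (iv4 F57967)
def n37060 : Q := act 0 n17836
theorem D37060 : act 0 n17836 = n37060 := rfl
def n37061 : Q := act 1 n17836
theorem D37061 : act 1 n17836 = n37061 := rfl
def n37062 : Q := act 2 n17836
theorem D37062 : act 2 n17836 = n37062 := rfl
def n37063 : Q := act 4 n17836
theorem D37063 : act 4 n17836 = n37063 := rfl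
def n37065 : Q := act 5 n17837
theorem D37065 : act 5 n17837 = n37065 := rfl
def n37066 : Q := act 0 n17840
theorem D37066 : act 0 n17840 = n37066 := rfl
def n37067 : Q := act 1 n17840
theorem D37067 : act 1 n17840 = n37067 := rfl
def n37068 : Q := act 2 n17840
theorem D37068 : act 2 n17840 = n37068 := rfl
def n37069 : Q := act 4 n17840
theorem D37069 : act 4 n17840 = n37069 := rfl
def n37070 : Q := act 6 n17840
theorem D37070 : act 6 n17840 = n37070 := rfl
def n37072 : Q := act 5 n17841
theorem D37072 : act 5 n17841 = n37072 := rfl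
def n37073 : Q := act 6 n17841
theorem D37073 : act 6 n17841 = n37073 := rfl
def n37074 : Q := act 3 n17843
theorem D37074 : act 3 n17843 = n37074 := rfl
def n37075 : Q := act 5 n17843
theorem D37075 : act 5 n17843 = n37075 := rfl
def n37077 : Q := act 5 n17844
theorem D37077 : act 5 n17844 = n37077 := rfl
def n37084 : Q := act 0 n17846
theorem D37084 : act 0 n17846 = n37084 := rfl
theorem F58004 : act 5 n37084 = n18087 := d17_3 (iv1 D17844) D17846 D37084 (iv4 D18087) (iv5 D8531) (iv0 D3809) D3811 D8539 (iv4 F29947)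
def n37085 : Q := act 1 n17846
theorem D37085 : act 1 n17846 = n37085 := rfl
theorem F58005 : act 5 n37085 = n18103 := d17_7 (iv1 F28986) (iv5 D8404) (iv1 D3764) D3765 D8408 D17846 D37085 (iv0 F57957) (iv4 D37018)
def n37086 : Q := act 4 n17846
theorem D37086 : act 4 n17846 = n37086 := rfl
def n37087 : Q := act 7 n17846
theorem D37087 : act 7 n17846 = n37087 := rfl
theorem F58006 : act 5 n37087 = n17847 := d13_1 D37087 (iv7 D17847) D17846
def n37088 : Q := act 4 n17848
theorem D37088 : act 4 n17848 = n37088 := rfl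
theorem F58009 : act 0 n37088 = n19223 := d18_2 (iv1 F29004) D37088 (iv4 D19223) (iv5 D9036) F5991 D4060 (iv4 F17480) F17404 D10533
def n37089 : Q := act 6 n17848
theorem D37089 : act 6 n17848 = n37089 := rfl
theorem F58010 : act 2 n37089 = n17850 := d3_1 D37089 (iv6 D17850) (iv2 F29002)
def n37090 : Q := act 0 n17849
theorem D37090 : act 0 n17849 = n37090 := rfl
theorem F58011 : act 4 n37090 = n19169 := d18_3 (iv1 F17599) D17849 D37090 (iv5 D19169) F14068 (iv0 F17464) (iv4 F5758) (iv0 F17411) D8874
theorem F58012 : act 2 n19223 = n37090 := d15_3 (iv0 D37090) (iv0 F30887) F30886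
def n37091 : Q := act 3 n17849
theorem D37091 : act 3 n17849 = n37091 := rfl
theorem F58015 : act 4 n37091 = n17851 := d5_2 D17849 D37091 (iv3 D17851) (iv4 D8414) (iv3 F13199)
theorem F58016 : act 7 n37091 = n37091 := d8_2 F29006 D37091 (iv3 D37091)
def n37092 : Q := act 5 n17849
theorem D37092 : act 5 n17849 = n37092 := rfl
def n37094 : Q := act 0 n17850
theorem D37094 : act 0 n17850 = n37094 := rfl
def n37095 : Q := act 1 n17850
theorem D37095 : act 1 n17850 = n37095 := rfl
def n37096 : Q := act 7 n17850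
theorem D37096 : act 7 n17850 = n37096 := rfl
theorem F58019 : act 3 n37096 = n17855 := d8_1 D37096 (iv7 D17855) (iv3 F29007)
theorem F58020 : act 6 n37096 = n37096 := d14_1 D37096 (iv7 D37096) (iv6 D17850) F13200 D17850
def n37097 : Q := act 0 n17851
theorem D37097 : act 0 n17851 = n37097 := rfl
def n37098 : Q := act 1 n17851
theorem D37098 : act 1 n17851 = n37098 := rfl
def n37099 : Q := act 2 n17851
theorem D37099 : act 2 n17851 = n37099 := rfl
theorem F58021 : act 7 n37099 = n37099 := d4_2 F29008 D37099 (iv2 D37099)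
theorem F58022 : act 1 n37099 = n37097 := d15_0 (iv0 D37097) F29008 D37099
theorem F58023 : act 1 n37098 = n37099 := d15_1 D37098 F58021 (iv2 D37099)
def n37101 : Q := act 0 n17852
theorem D37101 : act 0 n17852 = n37101 := rfl
def n37102 : Q := act 1 n17852
theorem D37102 : act 1 n17852 = n37102 := rfl
def n37104 : Q := act 7 n17852
theorem D37104 : act 7 n17852 = n37104 := rfl
theorem F58025 : act 4 n37104 = n17855 := d11_1 D37104 (iv7 D17855) (iv4 F29009)
def n37105 : Q := act 3 n17853
theorem D37105 : act 3 n17853 = n37105 := rfl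
def n37106 : Q := act 4 n17853
theorem D37106 : act 4 n17853 = n37106 := rfl
def n37107 : Q := act 3 n17854
theorem D37107 : act 3 n17854 = n37107 := rfl
theorem F58027 : act 6 n37107 = n37020 := d7_2 F43768 D37107 (iv3 D37020)
def n37108 : Q := act 4 n17854
theorem D37108 : act 4 n17854 = n37108 := rfl
def n37110 : Q := act 4 n17857
theorem D37110 : act 4 n17857 = n37110 := rfl
theorem F58031 : act 2 n37110 = n17858 := d1_1 D37110 (iv4 D17858) (iv2 F29014)
def n37111 : Q := act 6 n17857
theorem D37111 : act 6 n17857 = n37111 := rfl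
theorem F58033 : act 2 n37111 = n17859 := d3_1 D37111 (iv6 D17859) (iv2 F29014)
theorem F58035 : act 5 n37111 = n35752 := d12_1 D37111 (iv6 D35752) (iv5 D17327) (iv6 F13206) D17857
def n37112 : Q := act 0 n17858
theorem D37112 : act 0 n17858 = n37112 := rfl
theorem F58036 : act 4 n37112 = n36460 := d18_3 F29013 D17858 D37112 (iv5 D36460) F28613 F17603 F5763 D8417 D17856
theorem F58037 : act 1 n37110 = n37112 := d15_0 (iv0 D37112) F29019 (iv2 F58031)
def n37113 : Q := act 1 n17858
theorem D37113 : act 1 n17858 = n37113 := rfl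
theorem F58040 : act 4 n18140 = n37113 := d20_6 D3771 D8422 F13219 (iv3 F13232) F17441 (iv3 F29308) (iv1 D37113) (iv4 D17858) F13210 F5768
def n37114 : Q := act 3 n17858
theorem D37114 : act 3 n17858 = n37114 := rfl
theorem F58043 : act 4 n37114 = n17860 := d5_2 D17858 D37114 (iv3 D17860) (iv4 D8420) (iv3 F13210)
theorem F58044 : act 7 n37114 = n37114 := d8_2 F29019 D37114 (iv3 D37114)
def n37117 : Q := act 0 n17859
theorem D37117 : act 0 n17859 = n37117 := rfl
def n37118 : Q := act 1 n17859
theorem D37118 : act 1 n17859 = n37118 := rfl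
def n37119 : Q := act 7 n17859
theorem D37119 : act 7 n17859 = n37119 := rfl
theorem F58047 : act 3 n37119 = n17864 := d8_1 D37119 (iv7 D17864) (iv3 F29020)
def n37120 : Q := act 0 n17860
theorem D37120 : act 0 n17860 = n37120 := rfl
def n37121 : Q := act 1 n17860
theorem D37121 : act 1 n17860 = n37121 := rfl
def n37122 : Q := act 2 n17860
theorem D37122 : act 2 n17860 = n37122 := rfl
theorem F58050 : act 3 n37122 = n37099 := d0_2 D17860 D37122 (iv2 D37099) (iv3 D17851) (iv2 F13212)
theorem F58051 : act 5 n37122 = n37099 := d2_2 (iv5 F29022) D37122 (iv2 D37099)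
theorem F58052 : act 7 n37122 = n37122 := d4_2 F29023 D37122 (iv2 D37122)
theorem F58053 : act 1 n37122 = n37120 := d15_0 (iv0 D37120) F29023 D37122
theorem F58054 : act 1 n37121 = n37122 := d15_1 D37121 F58052 (iv2 D37122)
def n37124 : Q := act 0 n17861
theorem D37124 : act 0 n17861 = n37124 := rfl
def n37125 : Q := act 1 n17861
theorem D37125 : act 1 n17861 = n37125 := rfl
theorem F58056 : act 1 n37125 = n37104 := d15_1 D37125 (iv7 D37104) (iv2 F29024)
def n37127 : Q := act 7 n17861
theorem D37127 : act 7 n17861 = n37127 := rfl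
theorem F58059 : act 2 n37127 = n37104 := d4_1 D37127 (iv7 D37104) (iv2 F29024)
theorem F58060 : act 4 n37127 = n17864 := d11_1 D37127 (iv7 D17864) (iv4 F29025)
theorem F58062 : act 1 n37104 = n37124 := d15_0 (iv0 D37124) D37127 F58059
theorem F58063 : act 1 n37102 = n37127 := d15_1 D37102 (iv7 D37127) F29024
theorem F58064 : act 1 n37127 = n37101 := d15_0 (iv0 D37101) D37104 (iv2 F58059)
def n37128 : Q := act 3 n17862
theorem D37128 : act 3 n17862 = n37128 := rfl
theorem F58065 : act 7 n37128 = n37107 := d8_2 (iv7 F53100) D37128 (iv3 D37107)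
def n37129 : Q := act 4 n17862
theorem D37129 : act 4 n17862 = n37129 := rfl
theorem F58066 : act 2 n37129 = n37106 := d1_1 D37129 (iv4 D37106) (iv2 F53102)
def n37130 : Q := act 6 n17862
theorem D37130 : act 6 n17862 = n37130 := rfl
theorem F58071 : act 5 n37130 = n26960 := d21_6 (iv5 D2607) (iv1 F2825) D3770 D8421 D17862 D37130 (iv1 D26960) F21410 (iv6 D8415) F5761
theorem F58072 : act 0 n27205 = n37130 := d21_4 (iv5 D6201) D6199 D13030 D27205 (iv6 D37130) F57091 (iv1 D36340) (iv5 F44009) (iv6 D27216) (iv1 D13038)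
def n37131 : Q := act 3 n17863
theorem D37131 : act 3 n17863 = n37131 := rfl
theorem F58073 : act 7 n37131 = n37105 := d8_2 F53101 D37131 (iv3 D37105)
def n37132 : Q := act 4 n17863
theorem D37132 : act 4 n17863 = n37132 := rfl
theorem F58074 : act 2 n37132 = n37108 := d1_1 D37132 (iv4 D37108) F53099
theorem F58075 : act 7 n37132 = n37106 := d11_2 F53101 D37132 (iv4 D37106)
def n37133 : Q := act 0 n17865
theorem D37133 : act 0 n17865 = n37133 := rfl
def n37134 : Q := act 1 n17865
theorem D37134 : act 1 n17865 = n37134 := rfl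
def n37135 : Q := act 2 n17865
theorem D37135 : act 2 n17865 = n37135 := rfl
theorem F58076 : act 7 n37135 = n37135 := d4_2 F29033 D37135 (iv2 D37135)
theorem F58078 : act 1 n37134 = n37135 := d15_1 D37134 F58076 (iv2 D37135)
def n37136 : Q := act 4 n17865
theorem D37136 : act 4 n17865 = n37136 := rfl
theorem F58079 : act 3 n37136 = n17872 := d5_1 D37136 (iv4 D17872) F13232 (iv4 F13219) D17865
theorem F58080 : act 7 n37136 = n37136 := d11_2 F29033 D37136 (iv4 D37136)
def n37138 : Q := act 0 n17866
theorem D37138 : act 0 n17866 = n37138 := rfl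
def n37139 : Q := act 1 n17866
theorem D37139 : act 1 n17866 = n37139 := rfl
def n37141 : Q := act 7 n17866
theorem D37141 : act 7 n17866 = n37141 := rfl
theorem F58082 : act 4 n37141 = n17876 := d11_1 D37141 (iv7 D17876) (iv4 F29034)
def n37142 : Q := act 0 n17867
theorem D37142 : act 0 n17867 = n37142 := rfl
def n37143 : Q := act 1 n17867
theorem D37143 : act 1 n17867 = n37143 := rfl
def n37144 : Q := act 2 n17867
theorem D37144 : act 2 n17867 = n37144 := rfl
theorem F58084 : act 3 n37144 = n37135 := d0_2 D17867 D37144 (iv2 D37135) (iv3 D17865) F13225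
theorem F58085 : act 5 n37144 = n37135 := d2_2 (iv5 F29035) D37144 (iv2 D37135)
theorem F58086 : act 7 n37144 = n37144 := d4_2 F29036 D37144 (iv2 D37144)
theorem F58088 : act 1 n37143 = n37144 := d15_1 D37143 F58086 (iv2 D37144)
def n37145 : Q := act 4 n17867
theorem D37145 : act 4 n17867 = n37145 := rfl
theorem F58089 : act 3 n37145 = n17877 := d5_1 D37145 (iv4 D17877) F13240 (iv4 F13224) D17867
theorem F58090 : act 7 n37145 = n37145 := d11_2 F29036 D37145 (iv4 D37145)
def n37147 : Q := act 0 n17868
theorem D37147 : act 0 n17868 = n37147 := rfl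
def n37148 : Q := act 1 n17868
theorem D37148 : act 1 n17868 = n37148 := rfl
theorem F58092 : act 1 n37148 = n37141 := d15_1 D37148 (iv7 D37141) (iv2 F29037)
def n37150 : Q := act 7 n17868
theorem D37150 : act 7 n17868 = n37150 := rfl
theorem F58095 : act 2 n37150 = n37141 := d4_1 D37150 (iv7 D37141) (iv2 F29037)
theorem F58096 : act 4 n37150 = n17881 := d11_1 D37150 (iv7 D17881) (iv4 F29038)
theorem F58098 : act 1 n37141 = n37147 := d15_0 (iv0 D37147) D37150 F58095
theorem F58099 : act 1 n37139 = n37150 := d15_1 D37139 (iv7 D37150) F29037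
theorem F58100 : act 1 n37150 = n37138 := d15_0 (iv0 D37138) D37141 (iv2 F58095)
def n37151 : Q := act 2 n17869
theorem D37151 : act 2 n17869 = n37151 := rfl
theorem F58101 : act 7 n17870 = n37151 := d15_2 (iv0 D17869) D17870 (iv2 D37151)
def n37152 : Q := act 3 n17869
theorem D37152 : act 3 n17869 = n37152 := rfl
def n37153 : Q := act 4 n17869
theorem D37153 : act 4 n17869 = n37153 := rfl
def n37154 : Q := act 5 n17869
theorem D37154 : act 5 n17869 = n37154 := rfl
def n37156 : Q := act 7 n17869
theorem D37156 : act 7 n17869 = n37156 := rfl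
theorem F58102 : act 2 n37156 = n17870 := d4_1 D37156 F58101 (iv2 D37151)
def n37157 : Q := act 3 n17870
theorem D37157 : act 3 n17870 = n37157 := rfl
def n37158 : Q := act 4 n17870
theorem D37158 : act 4 n17870 = n37158 := rfl
def n37159 : Q := act 5 n17870
theorem D37159 : act 5 n17870 = n37159 := rfl
def n37161 : Q := act 5 n17872
theorem D37161 : act 5 n17872 = n37161 := rfl
theorem F58104 : act 4 n37161 = n22212 := d16_2 D17872 D37161 (iv5 D22212) (iv4 D10594) (iv5 D4844) (iv4 F13605) D8601 F17077 (iv2 F17443)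
theorem F58106 : act 1 n37161 = n22124 := d17_6 F13506 (iv5 D3855) F17440 D8428 D17872 D37161 (iv5 D22124) (iv0 F29384) (iv4 D18224)
def n37162 : Q := act 6 n17872
theorem D37162 : act 6 n17872 = n37162 := rfl
theorem F58107 : act 4 n37162 = n17873 := d10_1 D37162 (iv6 D17873) D17872
def n37163 : Q := act 0 n17873
theorem D37163 : act 0 n17873 = n37163 := rfl
def n37164 : Q := act 1 n17873
theorem D37164 : act 1 n17873 = n37164 := rfl
def n37165 : Q := act 7 n17873
theorem D37165 : act 7 n17873 = n37165 := rfl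
theorem F58108 : act 3 n37165 = n17876 := d8_1 D37165 (iv7 D17876) (iv3 F29044)
def n37166 : Q := act 3 n17874
theorem D37166 : act 3 n17874 = n37166 := rfl
def n37167 : Q := act 4 n17874
theorem D37167 : act 4 n17874 = n37167 := rfl
def n37168 : Q := act 5 n17874
theorem D37168 : act 5 n17874 = n37168 := rfl
theorem F58110 : act 7 n37168 = n34800 := d13_2 (iv7 F44764) D37168 F55002
theorem F58112 : act 0 n18553 = n37168 := d21_10 (iv5 D37168) (iv1 F29055) F29051 (iv6 F43562) (iv1 F43563) (iv6 F44624) (iv5 F44622) F43192 F13621 D18553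
def n37169 : Q := act 3 n17875
theorem D37169 : act 3 n17875 = n37169 := rfl
def n37170 : Q := act 4 n17875
theorem D37170 : act 4 n17875 = n37170 := rfl
def n37171 : Q := act 0 n17877
theorem D37171 : act 0 n17877 = n37171 := rfl
theorem F58113 : act 4 n37171 = n27332 := d18_3 (iv1 F21871) D17877 D37171 (iv5 D27332) F21858 (iv0 F17470) F5776 (iv0 F17510) D6248
theorem F58115 : act 1 n27402 = n37171 := d15_0 (iv0 D37171) F29046 (iv2 F44283)
def n37172 : Q := act 5 n17877
theorem D37172 : act 5 n17877 = n37172 := rfl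
def n37174 : Q := act 0 n17878
theorem D37174 : act 0 n17878 = n37174 := rfl
def n37175 : Q := act 1 n17878
theorem D37175 : act 1 n17878 = n37175 := rfl
def n37176 : Q := act 7 n17878
theorem D37176 : act 7 n17878 = n37176 := rfl
theorem F58119 : act 3 n37176 = n17881 := d8_1 D37176 (iv7 D17881) (iv3 F29047)
theorem F58120 : act 5 n37176 = n35869 := d13_1 D37176 (iv7 D35869) (iv5 F29048)
def n37177 : Q := act 3 n17879
theorem D37177 : act 3 n17879 = n37177 := rfl
theorem F58122 : act 7 n37177 = n37169 := d8_2 (iv7 F44765) D37177 (iv3 D37169)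
def n37178 : Q := act 4 n17879
theorem D37178 : act 4 n17879 = n37178 := rfl
theorem F58123 : act 2 n37178 = n37167 := d1_1 D37178 (iv4 D37167) F44766
theorem F58124 : act 7 n37178 = n37170 := d11_2 (iv7 F44765) D37178 (iv4 D37170)
def n37179 : Q := act 5 n17879
theorem D37179 : act 5 n17879 = n37179 := rfl
theorem F58126 : act 7 n37179 = n35159 := d13_2 (iv7 F44765) D37179 F55883
theorem F58127 : act 0 n37179 = n18604 := d21_1 D37179 (iv5 F44165) (iv6 D27301) (iv1 D13082) F9691 (iv5 D2614) (iv1 F3101) D3775 D8434 D17879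
theorem F58128 : act 0 n27698 = n37179 := d21_10 (iv5 D37179) (iv1 F29053) (iv5 F32278) F32279 (iv1 F43554) (iv6 F43556) (iv5 F43250) (iv1 F43252) F22016 D27698
def n37180 : Q := act 6 n17879
theorem D37180 : act 6 n17879 = n37180 := rfl
theorem F58131 : act 5 n37180 = n20340 := d21_6 (iv5 D2614) (iv1 F3101) D3775 D8434 D17879 D37180 (iv1 D20340) F14994 (iv6 D8429) F5774
theorem F58132 : act 0 n37180 = n27301 := d21_10 F44165 F55004 F55002 (iv6 F44762) (iv1 D27289) D27291 (iv5 F44700) F58128 (iv5 D37179) D37180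
theorem F58133 : act 0 n27291 = n37180 := d21_4 (iv5 D6222) D6220 D13074 D27291 (iv6 D37180) D37179 F58127 (iv5 F44165) (iv6 D27301) (iv1 D13082)
def n37181 : Q := act 3 n17880
theorem D37181 : act 3 n17880 = n37181 := rfl
theorem F58134 : act 7 n37181 = n37166 := d8_2 F44764 D37181 (iv3 D37166)
def n37182 : Q := act 4 n17880
theorem D37182 : act 4 n17880 = n37182 := rfl
theorem F58137 : act 7 n37182 = n37167 := d11_2 F44764 D37182 (iv4 D37167)
def n37183 : Q := act 0 n17882
theorem D37183 : act 0 n17882 = n37183 := rfl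
def n37184 : Q := act 1 n17882
theorem D37184 : act 1 n17882 = n37184 := rfl
theorem F58138 : act 1 n37184 = n19951 := d15_1 D37184 (iv7 D19951) (iv2 F29056)
def n37185 : Q := act 5 n17882
theorem D37185 : act 5 n17882 = n37185 := rfl
theorem F58139 : act 2 n37185 = n19950 := d2_1 D37185 (iv5 D19950) (iv2 F29056)
theorem F58140 : act 6 n37185 = n17883 := d12_2 D17882 D37185 (iv5 D17883) (iv6 D8436) D8435
def n37186 : Q := act 7 n17882
theorem D37186 : act 7 n17882 = n37186 := rfl
theorem F58141 : act 2 n37186 = n19951 := d4_1 D37186 (iv7 D19951) (iv2 F29056)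
theorem F58142 : act 4 n37186 = n23004 := d11_1 D37186 (iv7 D23004) (iv4 F29057)
theorem F58143 : act 6 n37186 = n23523 := d14_1 D37186 F36641 (iv6 D19198) F14081 D17882
theorem F58144 : act 1 n19951 = n37183 := d15_0 (iv0 D37183) D37186 F58141
theorem F58145 : act 1 n19949 = n37186 := d15_1 D19949 (iv7 D37186) F29056
theorem F58146 : act 1 n37186 = n19948 := d15_0 (iv0 D19948) D19951 (iv2 F58141)
def n37187 : Q := act 3 n17884
theorem D37187 : act 3 n17884 = n37187 := rfl
def n37188 : Q := act 5 n17884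
theorem D37188 : act 5 n17884 = n37188 := rfl
theorem F58147 : act 4 n37188 = n21251 := d16_2 (iv4 F29059) D37188 F33480 F16159 F7421 (iv4 F13950) (iv5 F16137) (iv7 F16140) F16144
theorem F58148 : act 0 n37188 = n21569 := d17_2 D17884 D37188 (iv5 D21569) (iv4 D10304) (iv5 F7302) F5907 (iv5 F9781) F9783 D8437
theorem F58149 : act 1 n37188 = n21561 := d17_6 F14097 F13325 (iv1 F13955) (iv5 F16143) (iv4 F29059) D37188 (iv5 D21561) (iv0 F30843) (iv4 D19201)
def n37189 : Q := act 6 n17884
theorem D37189 : act 6 n17884 = n37189 := rfl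
theorem F58150 : act 4 n37189 = n21430 := d10_1 D37189 (iv6 D21430) (iv4 F29059)
def n37190 : Q := act 5 n17885
theorem D37190 : act 5 n17885 = n37190 := rfl
theorem F58151 : act 4 n37190 = n21252 := d9_1 D37190 F33486 F16165 F14148 F13957 (iv5 F16143) (iv4 F29059) D37188 F58147 F33480 F16159 F7421 (iv4 F13950) (iv5 F16137) (iv4 F29062)
theorem F58152 : act 0 n37190 = n21561 := d17_2 (iv1 F29061) D37190 (iv5 D21561) (iv4 D10301) (iv5 F7298) (iv0 D3526) (iv5 F2867) (iv0 F7083) D8445
theorem F58153 : act 1 n37190 = n21569 := d17_6 F15940 (iv5 D8981) D8979 (iv5 F16137) (iv4 F29062) D37190 (iv5 D21569) (iv0 F33385) (iv4 D21154)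
def n37191 : Q := act 6 n17885
theorem D37191 : act 6 n17885 = n37191 := rfl
theorem F58154 : act 4 n37191 = n21429 := d10_1 D37191 (iv6 D21429) (iv4 F29062)
def n37192 : Q := act 2 n17886
theorem D37192 : act 2 n17886 = n37192 := rfl
def n37193 : Q := act 6 n17886
theorem D37193 : act 6 n17886 = n37193 := rfl
theorem F58155 : act 3 n37193 = n17888 := d7_1 D37193 (iv6 D17888) D17886
def n37194 : Q := act 0 n17887
theorem D37194 : act 0 n17887 = n37194 := rfl
theorem F58156 : act 5 n37194 = n17909 := d17_1 D37194 (iv1 F29084) D17920 F29092 (iv5 D10168) (iv0 D4620) D4622 D10174 (iv4 F29063)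
theorem F58157 : act 4 n37194 = n21446 := d18_1 D37194 (iv1 F33701) (iv4 F33661) (iv5 D21432) (iv4 D10212) D10211 (iv4 F29059) (iv0 D17884) D17887
theorem F58158 : act 1 n17898 = n37194 := d15_0 (iv0 D37194) (iv7 F33894) F33893
def n37195 : Q := act 1 n17887
theorem D37195 : act 1 n17887 = n37195 := rfl
theorem F58159 : act 1 n37195 = n17898 := d15_1 D37195 (iv7 F33914) F33912
theorem F58160 : act 5 n37195 = n17910 := d17_7 (iv1 D3786) (iv5 D1655) D1652 D3778 D8437 D17887 D37195 F29085 (iv4 D8457)
theorem F58161 : act 4 n37195 = n21447 := d17_9 (iv1 D21447) (iv5 D10221) D10218 (iv5 F33480) (iv4 F58147) (iv5 D37188) (iv0 D17884) D17887 D37195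
def n37196 : Q := act 6 n17887
theorem D37196 : act 6 n17887 = n37196 := rfl
theorem F58162 : act 4 n37196 = n21319 := d10_1 D37196 (iv6 D21319) (iv4 F29063)
def n37197 : Q := act 0 n17888
theorem D37197 : act 0 n17888 = n37197 := rfl
def n37198 : Q := act 1 n17888
theorem D37198 : act 1 n17888 = n37198 := rfl
def n37199 : Q := act 5 n17888
theorem D37199 : act 5 n17888 = n37199 := rfl
def n37200 : Q := act 7 n17888
theorem D37200 : act 7 n17888 = n37200 := rfl
theorem F58163 : act 4 n37200 = n17892 := d11_1 D37200 (iv7 D17892) (iv4 F29064)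
def n37201 : Q := act 2 n17889
theorem D37201 : act 2 n17889 = n37201 := rfl
theorem F58164 : act 7 n17890 = n37201 := d15_2 (iv0 D17889) D17890 (iv2 D37201)
def n37202 : Q := act 3 n17889
theorem D37202 : act 3 n17889 = n37202 := rfl
def n37203 : Q := act 4 n17889
theorem D37203 : act 4 n17889 = n37203 := rfl
def n37204 : Q := act 5 n17889
theorem D37204 : act 5 n17889 = n37204 := rfl
def n37205 : Q := act 6 n17889
theorem D37205 : act 6 n17889 = n37205 := rfl
def n37206 : Q := act 7 n17889
theorem D37206 : act 7 n17889 = n37206 := rfl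
theorem F58165 : act 2 n37206 = n17890 := d4_1 D37206 F58164 (iv2 D37201)
def n37209 : Q := act 5 n17890
theorem D37209 : act 5 n17890 = n37209 := rfl
def n37210 : Q := act 6 n17890
theorem D37210 : act 6 n17890 = n37210 := rfl
def n37211 : Q := act 0 n17891
theorem D37211 : act 0 n17891 = n37211 := rfl
def n37212 : Q := act 1 n17891
theorem D37212 : act 1 n17891 = n37212 := rfl
def n37213 : Q := act 4 n17891
theorem D37213 : act 4 n17891 = n37213 := rfl
theorem F58166 : act 6 n37213 = n17894 := d10_2 (iv6 F29065) D37213 (iv4 D17894)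
def n37214 : Q := act 7 n17891
theorem D37214 : act 7 n17891 = n37214 := rfl
theorem F58167 : act 5 n37214 = n17892 := d13_1 D37214 (iv7 D17892) D17891
def n37215 : Q := act 4 n17893
theorem D37215 : act 4 n17893 = n37215 := rfl
theorem F58168 : act 2 n37215 = n18865 := d1_1 D37215 (iv4 D18865) (iv2 F29066)
theorem F58169 : act 0 n37215 = n36260 := d18_2 (iv1 F29068) D37215 (iv4 D36260) F28514 (iv4 D8973) F13944 (iv4 F27354) F27357 D16694
def n37216 : Q := act 0 n17894
theorem D37216 : act 0 n17894 = n37216 := rfl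
theorem F58170 : act 4 n37216 = n21478 := d18_3 F22118 D17894 D37216 F33761 F28029 D19849 (iv4 F31669) F27346 (iv5 F22116)
def n37217 : Q := act 1 n17894
theorem D37217 : act 1 n17894 = n37217 := rfl
theorem F58171 : act 4 n37217 = n21479 := d18_7 F16746 F16928 (iv1 F16924) F13249 D8441 D17894 D37217 F33766 (iv5 D19114)
def n37218 : Q := act 3 n17894
theorem D37218 : act 3 n17894 = n37218 := rfl
theorem F58172 : act 4 n37218 = n35582 := d5_2 D17894 D37218 (iv3 D35582) (iv4 F28512) F28510
def n37219 : Q := act 5 n17894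
theorem D37219 : act 5 n17894 = n37219 := rfl
def n37220 : Q := act 3 n17895
theorem D37220 : act 3 n17895 = n37220 := rfl
theorem F58173 : act 4 n37220 = n17897 := d5_2 D17895 D37220 (iv3 D17897) (iv4 D8445) (iv3 F13250)
def n37221 : Q := act 5 n17895
theorem D37221 : act 5 n17895 = n37221 := rfl
theorem F58174 : act 2 n37221 = n36151 := d2_1 D37221 F56886 (iv2 F30243)
theorem F58175 : act 7 n37221 = n36150 := d13_2 (iv7 F30240) D37221 F56882
theorem F58176 : act 4 n37221 = n19180 := d16_2 D17895 D37221 F30822 F14140 (iv5 D4650) (iv4 F5972) D9003 (iv7 F15959) F15957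
theorem F58177 : act 0 n37221 = n21888 := d17_2 F30220 D37221 (iv5 D21888) (iv4 D10442) (iv5 D4743) (iv0 F3281) D3961 D8876 D18928
theorem F58178 : act 1 n37221 = n21901 := d17_6 (iv1 F14062) (iv5 D4055) (iv1 F6472) D8443 D17895 D37221 F34395 (iv0 F30790) (iv4 D19161)
def n37222 : Q := act 6 n17895
theorem D37222 : act 6 n17895 = n37222 := rfl
theorem F58179 : act 4 n37222 = n17896 := d10_1 D37222 (iv6 D17896) D17895
def n37223 : Q := act 0 n17896
theorem D37223 : act 0 n17896 = n37223 := rfl
def n37224 : Q := act 1 n17896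
theorem D37224 : act 1 n17896 = n37224 := rfl
def n37225 : Q := act 7 n17896
theorem D37225 : act 7 n17896 = n37225 := rfl
def n37226 : Q := act 0 n17897
theorem D37226 : act 0 n17897 = n37226 := rfl
theorem F58181 : act 3 n37226 = n35989 := d20_5 (iv4 D13226) (iv1 F9784) D8445 D17897 D37226 F57439 (iv1 F57438) F34402 (iv3 D18482) (iv1 F22028)
theorem F58182 : act 4 n37226 = n36038 := d20_8 F56778 (iv1 D18353) (iv4 F28902) (iv3 F30217) F30220 D37220 F58173 D37226 F56789 (iv1 F56776)
theorem F58183 : act 2 n27017 = n37226 := d0_5 F58181 (iv2 D35989) (iv3 D17421) (iv2 F21503) D27017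
def n37227 : Q := act 1 n17897
theorem D37227 : act 1 n17897 = n37227 := rfl
theorem F58184 : act 7 n37227 = n27017 := d15_2 (iv0 D37226) D37227 F58183
theorem F58185 : act 3 n26866 = n37227 := d20_3 F26494 (iv1 F21507) (iv4 F43306) (iv1 D37227) (iv3 D17897) (iv4 D8445) F7083 D3896 (iv3 F11659) D15569
theorem F58186 : act 5 n37227 = n26865 := d6_2 D26866 F58185 (iv3 D26865)
def n37228 : Q := act 2 n17897
theorem D37228 : act 2 n17897 = n37228 := rfl
def n37229 : Q := act 5 n17897
theorem D37229 : act 5 n17897 = n37229 := rfl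
theorem F58187 : act 3 n37229 = n17898 := d6_1 D37229 (iv5 D17898) D17897
def n37230 : Q := act 6 n17897
theorem D37230 : act 6 n17897 = n37230 := rfl
theorem F58188 : act 3 n37230 = n17899 := d7_1 D37230 (iv6 D17899) D17897
def n37231 : Q := act 6 n17898
theorem D37231 : act 6 n17898 = n37231 := rfl
def n37232 : Q := act 0 n17899
theorem D37232 : act 0 n17899 = n37232 := rfl
def n37233 : Q := act 1 n17899
theorem D37233 : act 1 n17899 = n37233 := rfl
def n37234 : Q := act 5 n17899
theorem D37234 : act 5 n17899 = n37234 := rfl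
def n37235 : Q := act 7 n17899
theorem D37235 : act 7 n17899 = n37235 := rfl
theorem F58190 : act 4 n37235 = n17902 := d11_1 D37235 (iv7 D17902) (iv4 F29072)
def n37239 : Q := act 5 n17900
theorem D37239 : act 5 n17900 = n37239 := rfl
def n37244 : Q := act 5 n17901
theorem D37244 : act 5 n17901 = n37244 := rfl
theorem F58194 : act 6 n21546 = n37244 := d21_5 (iv5 D1939) D1937 D4666 D10288 D21546 (iv5 D37244) (iv1 D17901) (iv5 F17011) (iv6 D10305) (iv1 D4672)
def n37245 : Q := act 6 n17901
theorem D37245 : act 6 n17901 = n37245 := rfl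
def n37246 : Q := act 0 n17903
theorem D37246 : act 0 n17903 = n37246 := rfl
def n37247 : Q := act 1 n17903
theorem D37247 : act 1 n17903 = n37247 := rfl
def n37248 : Q := act 6 n17903
theorem D37248 : act 6 n17903 = n37248 := rfl
theorem F58195 : act 3 n37248 = n17904 := d7_1 D37248 (iv6 D17904) D17903
def n37249 : Q := act 0 n17904
theorem D37249 : act 0 n17904 = n37249 := rfl
theorem F58196 : act 4 n37249 = n27131 := d20_2 (iv4 F29074) D37249 (iv3 D27131) (iv1 F43853) F43848 (iv4 F57323) (iv1 F57325) D36594 (iv3 F57458) (iv1 D17906)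
theorem F58197 : act 0 n37249 = n17938 := d20_7 (iv4 F30387) (iv1 D12632) F9319 (iv3 F9617) D12996 D27131 (iv4 F58196) F29108 F13261 (iv1 F9682)
def n37250 : Q := act 1 n17904
theorem D37250 : act 1 n17904 = n37250 := rfl
theorem F58198 : act 1 n37250 = n17938 := d15_1 D37250 (iv7 D17938) (iv2 F29073)
def n37251 : Q := act 5 n17904
theorem D37251 : act 5 n17904 = n37251 := rfl
theorem F58199 : act 2 n37251 = n17937 := d2_1 D37251 (iv5 D17937) (iv2 F29073)
def n37252 : Q := act 7 n17904
theorem D37252 : act 7 n17904 = n37252 := rfl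
theorem F58200 : act 2 n37252 = n17938 := d4_1 D37252 (iv7 D17938) (iv2 F29073)
theorem F58201 : act 4 n37252 = n17907 := d11_1 D37252 (iv7 D17907) (iv4 F29074)
theorem F58202 : act 1 n17936 = n37252 := d15_1 D17936 (iv7 D37252) F29073
theorem F58203 : act 1 n37252 = n17935 := d15_0 (iv0 D17935) D17938 (iv2 F58200)
def n37253 : Q := act 2 n17905
theorem D37253 : act 2 n17905 = n37253 := rfl
theorem F58204 : act 7 n17906 = n37253 := d15_2 (iv0 D17905) D17906 (iv2 D37253)
def n37254 : Q := act 3 n17905
theorem D37254 : act 3 n17905 = n37254 := rfl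
def n37255 : Q := act 4 n17905
theorem D37255 : act 4 n17905 = n37255 := rfl
def n37256 : Q := act 5 n17905
theorem D37256 : act 5 n17905 = n37256 := rfl
def n37257 : Q := act 6 n17905
theorem D37257 : act 6 n17905 = n37257 := rfl
theorem F58205 : act 5 n37257 = n27724 := d21_6 (iv5 D4666) (iv1 F3238) D3784 D8452 D17905 D37257 (iv1 D27724) (iv5 D13232) (iv6 D6287) (iv1 F7270)
def n37258 : Q := act 7 n17905
theorem D37258 : act 7 n17905 = n37258 := rfl
theorem F58206 : act 2 n37258 = n17906 := d4_1 D37258 F58204 (iv2 D37253)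
def n37259 : Q := act 4 n17906
theorem D37259 : act 4 n17906 = n37259 := rfl
def n37260 : Q := act 6 n17906
theorem D37260 : act 6 n17906 = n37260 := rfl
def n37261 : Q := act 0 n17908
theorem D37261 : act 0 n17908 = n37261 := rfl
def n37262 : Q := act 1 n17908
theorem D37262 : act 1 n17908 = n37262 := rfl
def n37263 : Q := act 7 n17908
theorem D37263 : act 7 n17908 = n37263 := rfl
theorem F58210 : act 6 n37263 = n36034 := d14_1 D37263 (iv7 D36034) (iv6 D17441) (iv7 F13257) D17908
def n37264 : Q := act 3 n17909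
theorem D37264 : act 3 n17909 = n37264 := rfl
theorem F58214 : act 4 n37264 = n35203 := d5_2 (iv4 F29083) D37264 (iv3 D35203) (iv4 D17089) (iv3 F16129)
def n37265 : Q := act 6 n17909
theorem D37265 : act 6 n17909 = n37265 := rfl
theorem F58215 : act 4 n37265 = n21427 := d10_1 D37265 (iv6 D21427) (iv4 F29083)
def n37266 : Q := act 3 n17910
theorem D37266 : act 3 n17910 = n37266 := rfl
theorem F58216 : act 4 n37266 = n27326 := d5_2 (iv4 F29086) D37266 (iv3 D27326) (iv4 D13096) (iv3 F16124)
theorem F58217 : act 0 n37266 = n32668 := d20_4 F16388 (iv1 F16127) (iv4 F29086) D37266 (iv3 D32668) (iv4 D15547) (iv1 F26533) (iv4 F16396) (iv3 D10308) D10306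
def n37267 : Q := act 6 n17910
theorem D37267 : act 6 n17910 = n37267 := rfl
theorem F58218 : act 4 n37267 = n21426 := d10_1 D37267 (iv6 D21426) (iv4 F29086)
def n37268 : Q := act 0 n17911
theorem D37268 : act 0 n17911 = n37268 := rfl
theorem F58219 : act 5 n37268 = n32344 := d19_1 D37268 (iv4 D32344) F24840 F11540 (iv5 D5776) F3810 (iv3 D1308) F1611 (iv5 D850) F1003 F865 (iv1 F868) D588 D908 D1710 D3949 F6929 D8454 D17911
def n37269 : Q := act 2 n17911
theorem D37269 : act 2 n17911 = n37269 := rfl
theorem F58220 : act 4 n37269 = n26570 := d1_2 (iv4 F29914) D37269 F42556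
theorem F58221 : act 5 n25703 = n37269 := d9_0 F58220 (iv5 D26570) (iv4 D12703) F27018 (iv4 F12918) D17396 F40618 F40620 F33931 F28721 (iv4 D12698) (iv5 F27027) D12779 D26726 F42847
def n37270 : Q := act 5 n17911
theorem D37270 : act 5 n17911 = n37270 := rfl
theorem F58222 : act 2 n37270 = n25703 := d2_1 D37270 F58221 (iv2 D37269)
theorem F58223 : act 3 n37270 = n17912 := d6_1 D37270 (iv5 D17912) D17911
theorem F58224 : act 7 n37270 = n25704 := d13_2 F33932 D37270 F40620
theorem F58225 : act 4 n37270 = n32366 := d16_2 (iv4 F29914) D37270 (iv5 D32366) (iv4 D15259) F25987 D8753 D18643 (iv7 F42557) F42556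
theorem F58226 : act 1 n37270 = n25693 := d17_8 D25691 F40610 (iv1 D15241) D15243 D32344 (iv5 F58219) (iv0 D37268) D37270 (iv4 D25693)
theorem F58227 : act 1 n25708 = n37270 := d18_6 (iv1 F26616) (iv4 D12643) (iv1 F26614) (iv4 F8904) (iv5 F20207) (iv4 F40628) F58225 (iv0 F51834) (iv5 D32747)
def n37271 : Q := act 6 n17911
theorem D37271 : act 6 n17911 = n37271 := rfl
theorem F58228 : act 3 n37271 = n17913 := d7_1 D37271 (iv6 D17913) D17911
def n37272 : Q := act 0 n17912
theorem D37272 : act 0 n17912 = n37272 := rfl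
theorem F58229 : act 5 n37272 = n21158 := d17_1 D37272 F33395 D21552 F33913 F16465 (iv0 D4971) D4973 (iv0 F16009) (iv4 F29087)
theorem F58230 : act 4 n37272 = n19300 := d18_1 D37272 F30954 (iv4 F29671) F29670 F16388 (iv0 F16131) (iv4 F29083) (iv0 D17909) D17912
theorem F58231 : act 1 n17920 = n37272 := d15_0 (iv0 D37272) (iv7 F33934) F33933
theorem F58232 : act 2 n37190 = n37272 := d1_3 F58230 F33487 (iv4 F58151)
theorem F58233 : act 7 n37188 = n37272 := d11_0 F58230 F33483 (iv4 F58147)
def n37273 : Q := act 1 n17912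
theorem D37273 : act 1 n17912 = n37273 := rfl
theorem F58234 : act 1 n37273 = n17920 := d15_1 D37273 (iv7 F33952) F33950
theorem F58235 : act 7 n37273 = n37190 := d15_2 (iv0 D37272) D37273 F58232
theorem F58236 : act 5 n37273 = n21156 := d17_7 (iv1 F7268) F4230 D3949 F6929 D8454 D17912 D37273 F33392 (iv4 D10295)
theorem F58237 : act 4 n37273 = n21170 := d17_9 F33415 (iv5 D10326) D10323 (iv5 F33700) (iv4 F58157) F58156 (iv0 D17909) D17912 D37273
theorem F58238 : act 2 n37188 = n37273 := d1_3 F58237 F33482 (iv4 F58147)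
theorem F58239 : act 0 n22599 = n21640 := d20_4 (iv4 F29092) (iv1 F58234) F58237 (iv3 F35138) F34061 (iv4 F29671) (iv1 F29672) (iv4 D10858) (iv3 F7398) (iv1 F16007)
def n37274 : Q := act 6 n17912
theorem D37274 : act 6 n17912 = n37274 := rfl
theorem F58240 : act 4 n37274 = n21311 := d10_1 D37274 (iv6 D21311) (iv4 F29087)
def n37275 : Q := act 0 n17913
theorem D37275 : act 0 n17913 = n37275 := rfl
def n37276 : Q := act 1 n17913
theorem D37276 : act 1 n17913 = n37276 := rfl
def n37277 : Q := act 5 n17913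
theorem D37277 : act 5 n17913 = n37277 := rfl
def n37278 : Q := act 7 n17913
theorem D37278 : act 7 n17913 = n37278 := rfl
def n37282 : Q := act 5 n17914
theorem D37282 : act 5 n17914 = n37282 := rfl
def n37283 : Q := act 6 n17914
theorem D37283 : act 6 n17914 = n37283 := rfl
def n37287 : Q := act 5 n17915
theorem D37287 : act 5 n17915 = n37287 := rfl
theorem F58244 : act 6 n37287 = n17922 := d21_3 (iv5 F33957) (iv1 F33960) D37287 (iv1 F33945) F33942 (iv5 F33900) (iv1 F33903) D37244 (iv6 F58194) (iv1 F33902)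
def n37289 : Q := act 3 n17917
theorem D37289 : act 3 n17917 = n37289 := rfl
theorem F58245 : act 4 n37289 = n17919 := d5_2 D17917 D37289 (iv3 D17919) (iv4 D8457) D8456
def n37290 : Q := act 5 n17917
theorem D37290 : act 5 n17917 = n37290 := rfl
theorem F58246 : act 2 n37290 = n36876 := d2_1 D37290 F57820 (iv2 F30190)
theorem F58248 : act 4 n37290 = n19171 := d16_2 D17917 D37290 (iv5 D19171) F14070 (iv5 F7301) (iv4 F12970) (iv5 F14063) (iv7 F21822) (iv2 F21824)
theorem F58249 : act 0 n37290 = n18949 := d17_2 (iv1 F29090) D37290 (iv5 D18949) (iv4 D8883) (iv5 F7027) (iv0 F6116) (iv5 F13140) F13142 D10531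
theorem F58250 : act 1 n37290 = n18939 := d17_6 F15960 (iv5 F14037) F13808 F13805 D17917 D37290 (iv5 D18939) D18938 F30242
def n37291 : Q := act 6 n17917
theorem D37291 : act 6 n17917 = n37291 := rfl
theorem F58251 : act 4 n37291 = n17918 := d10_1 D37291 (iv6 D17918) D17917
def n37292 : Q := act 0 n17918
theorem D37292 : act 0 n17918 = n37292 := rfl
def n37293 : Q := act 1 n17918
theorem D37293 : act 1 n17918 = n37293 := rfl
def n37294 : Q := act 5 n17918
theorem D37294 : act 5 n17918 = n37294 := rfl
theorem F58252 : act 3 n37294 = n17924 := d6_1 D37294 (iv5 D17924) (iv3 F29091)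
def n37295 : Q := act 7 n17918
theorem D37295 : act 7 n17918 = n37295 := rfl
theorem F58253 : act 3 n37295 = n17925 := d8_1 D37295 (iv7 D17925) (iv3 F29091)
def n37296 : Q := act 0 n17919
theorem D37296 : act 0 n17919 = n37296 := rfl
theorem F58254 : act 4 n37296 = n36118 := d20_8 F56848 (iv1 D22100) (iv4 F34558) (iv3 D22093) (iv1 F29090) D37289 F58245 D37296 F56866 (iv1 F56845)
def n37297 : Q := act 1 n17919
theorem D37297 : act 1 n17919 = n37297 := rfl
theorem F58255 : act 3 n32659 = n37297 := d20_3 F26745 (iv1 F38235) (iv4 F51739) (iv1 D37297) (iv3 D17919) (iv4 D8457) (iv1 D3786) D3787 (iv3 F11705) D15812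
def n37298 : Q := act 2 n17919
theorem D37298 : act 2 n17919 = n37298 := rfl
def n37299 : Q := act 5 n17919
theorem D37299 : act 5 n17919 = n37299 := rfl
theorem F58256 : act 3 n37299 = n17920 := d6_1 D37299 (iv5 D17920) D17919
def n37300 : Q := act 6 n17919
theorem D37300 : act 6 n17919 = n37300 := rfl
theorem F58257 : act 3 n37300 = n17921 := d7_1 D37300 (iv6 D17921) D17919
def n37301 : Q := act 6 n17920
theorem D37301 : act 6 n17920 = n37301 := rfl
def n37302 : Q := act 0 n17921
theorem D37302 : act 0 n17921 = n37302 := rfl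
def n37303 : Q := act 1 n17921
theorem D37303 : act 1 n17921 = n37303 := rfl
def n37304 : Q := act 5 n17921
theorem D37304 : act 5 n17921 = n37304 := rfl
def n37305 : Q := act 7 n17921
theorem D37305 : act 7 n17921 = n37305 := rfl
theorem F58259 : act 4 n37305 = n17925 := d11_1 D37305 (iv7 D17925) (iv4 F29093)
def n37306 : Q := act 2 n17922
theorem D37306 : act 2 n17922 = n37306 := rfl
theorem F58260 : act 7 n17923 = n37306 := d15_2 (iv0 D17922) D17923 (iv2 D37306)
def n37311 : Q := act 3 n17923
theorem D37311 : act 3 n17923 = n37311 := rfl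
def n37312 : Q := act 4 n17923
theorem D37312 : act 4 n17923 = n37312 := rfl
def n37313 : Q := act 5 n17923
theorem D37313 : act 5 n17923 = n37313 := rfl
def n37314 : Q := act 6 n17923
theorem D37314 : act 6 n17923 = n37314 := rfl
def n37315 : Q := act 0 n17924
theorem D37315 : act 0 n17924 = n37315 := rfl
def n37316 : Q := act 1 n17924
theorem D37316 : act 1 n17924 = n37316 := rfl
theorem F58262 : act 5 n37205 = n37316 := d21_6 (iv5 D1655) D1652 D3778 D8438 D17889 D37205 (iv1 D37316) (iv5 D17924) (iv6 D8458) (iv1 D3786)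
def n37317 : Q := act 4 n17924
theorem D37317 : act 4 n17924 = n37317 := rfl
def n37318 : Q := act 7 n17924
theorem D37318 : act 7 n17924 = n37318 := rfl
theorem F58263 : act 5 n37318 = n17925 := d13_1 D37318 (iv7 D17925) D17924
def n37319 : Q := act 0 n17926
theorem D37319 : act 0 n17926 = n37319 := rfl
def n37320 : Q := act 1 n17926
theorem D37320 : act 1 n17926 = n37320 := rfl
def n37321 : Q := act 2 n17926
theorem D37321 : act 2 n17926 = n37321 := rfl
def n37322 : Q := act 5 n17926
theorem D37322 : act 5 n17926 = n37322 := rfl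
theorem F58264 : act 3 n37322 = n17927 := d6_1 D37322 (iv5 D17927) D17926
def n37323 : Q := act 6 n17926
theorem D37323 : act 6 n17926 = n37323 := rfl
theorem F58265 : act 3 n37323 = n17928 := d7_1 D37323 (iv6 D17928) D17926
def n37324 : Q := act 6 n17927
theorem D37324 : act 6 n17927 = n37324 := rfl
theorem F58266 : act 4 n37324 = n21278 := d10_1 D37324 (iv6 D21278) (iv4 F29094)
def n37325 : Q := act 0 n17928
theorem D37325 : act 0 n17928 = n37325 := rfl
def n37326 : Q := act 1 n17928
theorem D37326 : act 1 n17928 = n37326 := rfl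
def n37327 : Q := act 5 n17928
theorem D37327 : act 5 n17928 = n37327 := rfl
def n37328 : Q := act 7 n17928
theorem D37328 : act 7 n17928 = n37328 := rfl
def n37329 : Q := act 0 n17929
theorem D37329 : act 0 n17929 = n37329 := rfl
def n37330 : Q := act 1 n17929
theorem D37330 : act 1 n17929 = n37330 := rfl
def n37331 : Q := act 2 n17929
theorem D37331 : act 2 n17929 = n37331 := rfl
theorem F58267 : act 4 n37331 = n36824 := d1_2 (iv4 F29097) D37331 (iv2 D36824)
def n37332 : Q := act 5 n17929
theorem D37332 : act 5 n17929 = n37332 := rfl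
theorem F58268 : act 3 n37332 = n17930 := d6_1 D37332 (iv5 D17930) D17929
theorem F58269 : act 4 n37332 = n23777 := d16_2 (iv4 F29097) D37332 F40646 (iv4 F27040) (iv5 F42531) F42530 (iv5 F56769) (iv7 F57751) (iv2 D36824)
def n37333 : Q := act 6 n17929
theorem D37333 : act 6 n17929 = n37333 := rfl
theorem F58270 : act 3 n37333 = n17931 := d7_1 D37333 (iv6 D17931) D17929
theorem F58271 : act 4 n37333 = n36825 := d10_1 D37333 (iv6 D36825) (iv4 F29097)
def n37334 : Q := act 6 n17930
theorem D37334 : act 6 n17930 = n37334 := rfl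
theorem F58272 : act 4 n37334 = n21253 := d10_1 D37334 (iv6 D21253) (iv4 F29098)
def n37335 : Q := act 0 n17931
theorem D37335 : act 0 n17931 = n37335 := rfl
def n37336 : Q := act 1 n17931
theorem D37336 : act 1 n17931 = n37336 := rfl
def n37337 : Q := act 5 n17931
theorem D37337 : act 5 n17931 = n37337 := rfl
def n37338 : Q := act 7 n17931
theorem D37338 : act 7 n17931 = n37338 := rfl
theorem F58273 : act 4 n37338 = n36818 := d11_1 D37338 (iv7 D36818) (iv4 F29101)
def n37339 : Q := act 3 n17932
theorem D37339 : act 3 n17932 = n37339 := rfl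
theorem F58274 : act 5 n37339 = n18482 := d6_2 (iv5 F29102) D37339 (iv3 D18482)
def n37340 : Q := act 6 n17932
theorem D37340 : act 6 n17932 = n37340 := rfl
theorem F58275 : act 4 n37340 = n21215 := d10_1 D37340 (iv6 D21215) (iv4 F29103)
def n37341 : Q := act 3 n17933
theorem D37341 : act 3 n17933 = n37341 := rfl
theorem F58276 : act 4 n37341 = n32415 := d5_2 F29107 D37341 F56735 (iv4 F56736) F33421
theorem F58277 : act 5 n37341 = n18484 := d6_2 (iv5 F29106) D37341 (iv3 D18484)
def n37342 : Q := act 6 n17933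
theorem D37342 : act 6 n17933 = n37342 := rfl
theorem F58278 : act 4 n37342 = n21178 := d10_1 D37342 (iv6 D21178) F29107
def n37343 : Q := act 0 n17934
theorem D37343 : act 0 n17934 = n37343 := rfl
def n37344 : Q := act 1 n17934
theorem D37344 : act 1 n17934 = n37344 := rfl
def n37345 : Q := act 5 n17934
theorem D37345 : act 5 n17934 = n37345 := rfl
theorem F58279 : act 6 n37345 = n17937 := d12_2 D17934 D37345 (iv5 D17937) (iv6 D8462) D8461
def n37346 : Q := act 7 n17934
theorem D37346 : act 7 n17934 = n37346 := rfl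
def n37347 : Q := act 2 n17935
theorem D37347 : act 2 n17935 = n37347 := rfl
theorem F58280 : act 7 n17936 = n37347 := d15_2 (iv0 D17935) D17936 (iv2 D37347)
def n37348 : Q := act 3 n17935
theorem D37348 : act 3 n17935 = n37348 := rfl
def n37349 : Q := act 4 n17935
theorem D37349 : act 4 n17935 = n37349 := rfl
def n37350 : Q := act 5 n17935
theorem D37350 : act 5 n17935 = n37350 := rfl
def n37351 : Q := act 6 n17935
theorem D37351 : act 6 n17935 = n37351 := rfl
def n37352 : Q := act 7 n17935
theorem D37352 : act 7 n17935 = n37352 := rfl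
theorem F58281 : act 2 n37352 = n17936 := d4_1 D37352 F58280 (iv2 D37347)
def n37353 : Q := act 3 n17936
theorem D37353 : act 3 n17936 = n37353 := rfl
def n37354 : Q := act 4 n17936
theorem D37354 : act 4 n17936 = n37354 := rfl
theorem F58282 : act 3 n37354 = n27119 := d20_3 (iv4 F58201) (iv1 F58202) D37354 (iv1 D27119) F21609 (iv4 F28653) D36496 (iv4 F57326) (iv3 D17940) (iv1 F29080)
def n37355 : Q := act 5 n17936
theorem D37355 : act 5 n17936 = n37355 := rfl
def n37356 : Q := act 6 n17936
theorem D37356 : act 6 n17936 = n37356 := rfl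
def n37357 : Q := act 0 n17937
theorem D37357 : act 0 n17937 = n37357 := rfl
def n37358 : Q := act 1 n17937
theorem D37358 : act 1 n17937 = n37358 := rfl
def n37359 : Q := act 4 n17937
theorem D37359 : act 4 n17937 = n37359 := rfl
def n37360 : Q := act 7 n17937
theorem D37360 : act 7 n17937 = n37360 := rfl
theorem F58283 : act 5 n37360 = n17938 := d13_1 D37360 (iv7 D17938) D17937
def n37363 : Q := act 3 n17939
theorem D37363 : act 3 n17939 = n37363 := rfl
theorem F58286 : act 7 n37363 = n17945 := d8_2 F29109 D37363 (iv3 D17945)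
def n37364 : Q := act 4 n17939
theorem D37364 : act 4 n17939 = n37364 := rfl
theorem F58287 : act 2 n37364 = n17941 := d1_1 D37364 (iv4 D17941) D17939
theorem F58288 : act 7 n37364 = n17946 := d11_2 F29109 D37364 (iv4 D17946)
def n37365 : Q := act 5 n17939
theorem D37365 : act 5 n17939 = n37365 := rfl
theorem F58289 : act 2 n37365 = n17942 := d2_1 D37365 (iv5 D17942) D17939
theorem F58290 : act 7 n37365 = n17947 := d13_2 F29109 D37365 (iv5 D17947)
def n37366 : Q := act 6 n17939
theorem D37366 : act 6 n17939 = n37366 := rfl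
theorem F58291 : act 2 n37366 = n17943 := d3_1 D37366 (iv6 D17943) D17939
def n37367 : Q := act 0 n17940
theorem D37367 : act 0 n17940 = n37367 := rfl
def n37368 : Q := act 1 n17940
theorem D37368 : act 1 n17940 = n37368 := rfl
def n37369 : Q := act 2 n17940
theorem D37369 : act 2 n17940 = n37369 := rfl
def n37370 : Q := act 5 n17940
theorem D37370 : act 5 n17940 = n37370 := rfl
theorem F58293 : act 3 n37370 = n17942 := d6_1 D37370 (iv5 D17942) D17940
def n37371 : Q := act 6 n17940
theorem D37371 : act 6 n17940 = n37371 := rfl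
theorem F58294 : act 3 n37371 = n17943 := d7_1 D37371 (iv6 D17943) D17940
def n37372 : Q := act 7 n17940
theorem D37372 : act 7 n17940 = n37372 := rfl
theorem F58295 : act 3 n37372 = n17944 := d8_1 D37372 (iv7 D17944) D17940
def n37373 : Q := act 0 n17941
theorem D37373 : act 0 n17941 = n37373 := rfl
def n37374 : Q := act 1 n17941
theorem D37374 : act 1 n17941 = n37374 := rfl
theorem F58296 : act 1 n37374 = n17946 := d15_1 D37374 (iv7 F58288) F58287
def n37375 : Q := act 3 n17941
theorem D37375 : act 3 n17941 = n37375 := rfl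
def n37376 : Q := act 5 n17941
theorem D37376 : act 5 n17941 = n37376 := rfl
def n37377 : Q := act 6 n17941
theorem D37377 : act 6 n17941 = n37377 := rfl
theorem F58297 : act 4 n37377 = n17943 := d10_1 D37377 (iv6 D17943) D17941
def n37378 : Q := act 7 n17941
theorem D37378 : act 7 n17941 = n37378 := rfl
theorem F58298 : act 2 n37378 = n17946 := d4_1 D37378 (iv7 F58288) F58287
theorem F58299 : act 4 n37378 = n17944 := d11_1 D37378 (iv7 D17944) D17941
theorem F58300 : act 1 n17946 = n37373 := d15_0 (iv0 D37373) D37378 F58298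
def n37379 : Q := act 0 n17942
theorem D37379 : act 0 n17942 = n37379 := rfl
theorem F58301 : act 5 n37379 = n37245 := d21_2 D17942 D37379 (iv6 D37245) (iv1 D17901) (iv6 D8446) (iv5 D3782) (iv1 D1653) D1655 D3788 D8463
def n37380 : Q := act 1 n17942
theorem D37380 : act 1 n17942 = n37380 := rfl
theorem F58302 : act 1 n37380 = n17947 := d15_1 D37380 (iv7 F58290) F58289
def n37381 : Q := act 4 n17942
theorem D37381 : act 4 n17942 = n37381 := rfl
def n37382 : Q := act 6 n17942
theorem D37382 : act 6 n17942 = n37382 := rfl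
theorem F58303 : act 0 n37382 = n37205 := d21_10 F58262 (iv1 D37316) (iv5 D17924) (iv6 D8458) (iv1 D3786) D3788 F5788 D8463 D17942 D37382
def n37383 : Q := act 7 n17942
theorem D37383 : act 7 n17942 = n37383 := rfl
theorem F58304 : act 2 n37383 = n17947 := d4_1 D37383 (iv7 F58290) F58289
theorem F58306 : act 1 n17947 = n37379 := d15_0 (iv0 D37379) D37383 F58304
def n37384 : Q := act 0 n17943
theorem D37384 : act 0 n17943 = n37384 := rfl
def n37385 : Q := act 1 n17943
theorem D37385 : act 1 n17943 = n37385 := rfl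
def n37386 : Q := act 5 n17943
theorem D37386 : act 5 n17943 = n37386 := rfl
theorem F58307 : act 0 n37386 = n27706 := d21_7 (iv5 D3782) (iv1 D1653) D1655 D3788 D8463 D17943 D37386 (iv5 D27706) (iv6 D13227) (iv1 F9784)
theorem F58308 : act 0 n27726 = n37386 := d21_7 F29077 (iv1 F29079) D17947 (iv6 F29659) (iv1 F29664) (iv6 F22038) (iv5 F44731) (iv5 D37386) (iv6 D17943) (iv1 F29080)
def n37387 : Q := act 7 n17943
theorem D37387 : act 7 n17943 = n37387 := rfl
def n37388 : Q := act 6 n17944
theorem D37388 : act 6 n17944 = n37388 := rfl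
theorem F58309 : act 2 n37388 = n17948 := d3_1 D37388 (iv6 D17948) (iv2 F29110)
def n37389 : Q := act 0 n17945
theorem D37389 : act 0 n17945 = n37389 := rfl
def n37390 : Q := act 1 n17945
theorem D37390 : act 1 n17945 = n37390 := rfl
def n37391 : Q := act 2 n17945
theorem D37391 : act 2 n17945 = n37391 := rfl
def n37392 : Q := act 4 n17945
theorem D37392 : act 4 n17945 = n37392 := rfl
def n37393 : Q := act 5 n17945
theorem D37393 : act 5 n17945 = n37393 := rfl
theorem F58310 : act 3 n37393 = n17947 := d6_1 D37393 (iv5 D17947) D17945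
def n37394 : Q := act 6 n17945
theorem D37394 : act 6 n17945 = n37394 := rfl
theorem F58311 : act 3 n37394 = n17948 := d7_1 D37394 (iv6 D17948) D17945
def n37395 : Q := act 3 n17946
theorem D37395 : act 3 n17946 = n37395 := rfl
def n37396 : Q := act 5 n17946
theorem D37396 : act 5 n17946 = n37396 := rfl
def n37397 : Q := act 6 n17946
theorem D37397 : act 6 n17946 = n37397 := rfl
theorem F58312 : act 4 n37397 = n17948 := d10_1 D37397 (iv6 D17948) D17946
def n37398 : Q := act 4 n17947
theorem D37398 : act 4 n17947 = n37398 := rfl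
def n37399 : Q := act 0 n17948
theorem D37399 : act 0 n17948 = n37399 := rfl
def n37400 : Q := act 1 n17948
theorem D37400 : act 1 n17948 = n37400 := rfl
def n37401 : Q := act 5 n17948
theorem D37401 : act 5 n17948 = n37401 := rfl
theorem F58313 : act 0 n37204 = n37401 := d21_1 D37204 (iv5 D37401) (iv6 D17948) (iv1 D8464) (iv6 D3788) (iv5 D1655) D1652 D3778 D8438 D17889
def n37402 : Q := act 7 n17948
theorem D37402 : act 7 n17948 = n37402 := rfl
def n37404 : Q := act 3 n17955
theorem D37404 : act 3 n17955 = n37404 := rfl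
theorem F58315 : act 4 n37404 = n36765 := d20_6 (iv4 F5415) D7511 (iv4 F29132) D8467 D17955 D37404 (iv1 D36765) (iv4 D17725) (iv3 D8338) (iv1 D3743)
def n37405 : Q := act 4 n17955
theorem D37405 : act 4 n17955 = n37405 := rfl
theorem F58316 : act 0 n37405 = n36633 := d20_1 D37405 (iv4 D36633) (iv3 D17658) (iv1 D8316) F5737 (iv4 F5415) D7511 (iv4 F29132) D8467 D17955
def n37406 : Q := act 5 n17955
theorem D37406 : act 5 n17955 = n37406 := rfl
def n37413 : Q := act 4 n17957
theorem D37413 : act 4 n17957 = n37413 := rfl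
theorem F58318 : act 2 n37413 = n17958 := d1_1 D37413 (iv4 D17958) D17957
def n37414 : Q := act 5 n17957
theorem D37414 : act 5 n17957 = n37414 := rfl
theorem F58319 : act 2 n37414 = n17959 := d2_1 D37414 (iv5 D17959) D17957
def n37415 : Q := act 6 n17957
theorem D37415 : act 6 n17957 = n37415 := rfl
theorem F58320 : act 2 n37415 = n17960 := d3_1 D37415 (iv6 D17960) D17957
def n37416 : Q := act 0 n17958
theorem D37416 : act 0 n17958 = n37416 := rfl
def n37417 : Q := act 1 n17958
theorem D37417 : act 1 n17958 = n37417 := rfl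
def n37418 : Q := act 5 n17958
theorem D37418 : act 5 n17958 = n37418 := rfl
def n37419 : Q := act 6 n17958
theorem D37419 : act 6 n17958 = n37419 := rfl
theorem F58321 : act 4 n37419 = n17960 := d10_1 D37419 (iv6 D17960) D17958
def n37420 : Q := act 0 n17959
theorem D37420 : act 0 n17959 = n37420 := rfl
def n37421 : Q := act 1 n17959
theorem D37421 : act 1 n17959 = n37421 := rfl
def n37422 : Q := act 4 n17959
theorem D37422 : act 4 n17959 = n37422 := rfl
def n37423 : Q := act 6 n17959
theorem D37423 : act 6 n17959 = n37423 := rfl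
theorem F58322 : act 3 n37423 = n17969 := d7_1 D37423 (iv6 D17969) (iv3 F29119)
theorem F58323 : act 7 n37423 = n27691 := d14_2 F29893 D37423 (iv6 D27691) F29874 D18518
def n37424 : Q := act 0 n17960
theorem D37424 : act 0 n17960 = n37424 := rfl
def n37425 : Q := act 1 n17960
theorem D37425 : act 1 n17960 = n37425 := rfl
def n37426 : Q := act 7 n17960
theorem D37426 : act 7 n17960 = n37426 := rfl
theorem F58324 : act 3 n37426 = n17972 := d8_1 D37426 (iv7 D17972) (iv3 F29120)
theorem F58325 : act 5 n37426 = n27744 := d13_1 D37426 F44780 F29895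
def n37427 : Q := act 3 n17968
theorem D37427 : act 3 n17968 = n37427 := rfl
theorem F58326 : act 5 n37427 = n33322 := d6_2 F29130 D37427 (iv3 D33322)
theorem F58327 : act 6 n37427 = n33927 := d7_2 (iv6 F29129) D37427 (iv3 D33927)
theorem F58328 : act 7 n37427 = n33854 := d8_2 F42340 D37427 F53200
def n37428 : Q := act 2 n17974
theorem D37428 : act 2 n17974 = n37428 := rfl
theorem F58329 : act 7 n17975 = n37428 := d15_2 (iv0 D17974) D17975 (iv2 D37428)
def n37429 : Q := act 3 n17974
theorem D37429 : act 3 n17974 = n37429 := rfl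
theorem F58330 : act 4 n37429 = n36727 := d20_6 (iv4 F21032) (iv1 F21035) (iv4 F29135) D8472 D17974 D37429 (iv1 D36727) (iv4 D17705) (iv3 D8333) (iv1 F9625)
def n37431 : Q := act 5 n17974
theorem D37431 : act 5 n17974 = n37431 := rfl
def n37434 : Q := act 3 n17975
theorem D37434 : act 3 n17975 = n37434 := rfl
theorem F58332 : act 4 n36614 = n37434 := d20_2 D17654 D36614 (iv3 D37434) (iv1 D17975) (iv3 D8472) F29135 (iv1 D7512) F5415 (iv3 F5737) D8315
theorem F58333 : act 5 n37434 = n37434 := d18_4 D8315 D17654 D36614 F58332 (iv4 F58332) (iv0 D36614) (iv4 D17654) (iv0 D8315) F5738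
theorem F58334 : act 5 n17975 = n17975 := d6_2 F58333 (iv3 D37434) D37434
theorem F58336 : act 5 n37428 = n37428 := d13_3 (iv7 F58329) F58334 F58329
theorem E5869 : n37431 = n17974 := (c2_3 F58336 (iv2 D37428) D37431 D37428)
theorem F58337 : act 5 n17974 = n17974 := (sb E5869 (iv5 D37431))
theorem F58338 : act 5 n37429 = n37429 := d6_2 F58337 D37429 (iv3 D37429)
def n37437 : Q := act 4 n17976
theorem D37437 : act 4 n17976 = n37437 := rfl
theorem F58339 : act 2 n37437 = n17977 := d1_1 D37437 (iv4 D17977) D17976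
def n37438 : Q := act 5 n17976
theorem D37438 : act 5 n17976 = n37438 := rfl
theorem F58340 : act 2 n37438 = n17978 := d2_1 D37438 (iv5 D17978) D17976
theorem F58341 : act 6 n27681 = n37438 := d3_0 F58340 (iv6 F29145) D27681
def n37440 : Q := act 0 n17977
theorem D37440 : act 0 n17977 = n37440 := rfl
def n37441 : Q := act 1 n17977
theorem D37441 : act 1 n17977 = n37441 := rfl
def n37442 : Q := act 5 n17977
theorem D37442 : act 5 n17977 = n37442 := rfl
def n37443 : Q := act 6 n17977
theorem D37443 : act 6 n17977 = n37443 := rfl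
theorem F58343 : act 4 n37443 = n17979 := d10_1 D37443 (iv6 D17979) D17977
def n37444 : Q := act 0 n17978
theorem D37444 : act 0 n17978 = n37444 := rfl
def n37445 : Q := act 1 n17978
theorem D37445 : act 1 n17978 = n37445 := rfl
def n37446 : Q := act 4 n17978
theorem D37446 : act 4 n17978 = n37446 := rfl
theorem F58344 : act 6 n37446 = n27682 := d10_2 F29145 D37446 (iv4 D27682)
def n37447 : Q := act 0 n17979
theorem D37447 : act 0 n17979 = n37447 := rfl
def n37448 : Q := act 1 n17979
theorem D37448 : act 1 n17979 = n37448 := rfl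
def n37449 : Q := act 5 n17979
theorem D37449 : act 5 n17979 = n37449 := rfl
theorem F58345 : act 3 n37449 = n17983 := d6_1 D37449 (iv5 D17983) (iv3 F29146)
theorem F58346 : act 6 n37449 = n27683 := d12_2 D17979 D37449 (iv5 D27683) F29145 (iv5 D17978)
def n37450 : Q := act 3 n17980
theorem D37450 : act 3 n17980 = n37450 := rfl
theorem F58347 : act 5 n37450 = n33324 := d6_2 F30352 D37450 (iv3 D33324)
theorem F58348 : act 6 n37450 = n26572 := d7_2 F30355 D37450 F53224
def n37451 : Q := act 4 n17983
theorem D37451 : act 4 n17983 = n37451 := rfl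
theorem F58349 : act 6 n37451 = n27685 := d10_2 (iv6 F29149) D37451 (iv4 D27685)
theorem F58350 : act 0 n37451 = n33961 := d18_2 (iv1 F29150) D37451 (iv4 D33961) (iv5 D16413) (iv4 D7611) F9361 F9358 F9819 D13299
theorem F58351 : act 1 n37451 = n33911 := d18_6 (iv1 F43902) F41666 F41668 F29136 D17983 D37451 (iv4 D33911) D33910 (iv5 F53255)
def n37452 : Q := act 0 n17985
theorem D37452 : act 0 n17985 = n37452 := rfl
def n37453 : Q := act 1 n17985
theorem D37453 : act 1 n17985 = n37453 := rfl
def n37454 : Q := act 7 n17985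
theorem D37454 : act 7 n17985 = n37454 := rfl
def n37455 : Q := act 3 n17986
theorem D37455 : act 3 n17986 = n37455 := rfl
def n37456 : Q := act 6 n17986
theorem D37456 : act 6 n17986 = n37456 := rfl
def n37457 : Q := act 6 n17987
theorem D37457 : act 6 n17987 = n37457 := rfl
def n37458 : Q := act 0 n17988
theorem D37458 : act 0 n17988 = n37458 := rfl
def n37459 : Q := act 1 n17988
theorem D37459 : act 1 n17988 = n37459 := rfl
def n37460 : Q := act 5 n17988
theorem D37460 : act 5 n17988 = n37460 := rfl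
def n37461 : Q := act 7 n17988
theorem D37461 : act 7 n17988 = n37461 := rfl
theorem F58352 : act 4 n37461 = n17991 := d11_1 D37461 (iv7 D17991) (iv4 F29154)
def n37465 : Q := act 5 n17989
theorem D37465 : act 5 n17989 = n37465 := rfl
def n37466 : Q := act 6 n17989
theorem D37466 : act 6 n17989 = n37466 := rfl
theorem F58354 : act 5 n37466 = n27238 := d21_6 (iv5 D1660) D1657 D3794 D8481 D17989 D37466 (iv1 D27238) F21753 (iv6 D8506) (iv1 D3803)
def n37472 : Q := act 3 n17992
theorem D37472 : act 3 n17992 = n37472 := rfl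
theorem F58357 : act 4 n37472 = n17995 := d5_2 D17992 D37472 (iv3 D17995) (iv4 D8488) (iv3 F13269)
def n37473 : Q := act 5 n17992
theorem D37473 : act 5 n17992 = n37473 := rfl
theorem F58358 : act 0 n37473 = n35204 := d17_2 F30135 D37473 (iv5 D35204) (iv4 D17089) F13317 F5881 (iv5 F12872) F13759 D18886
theorem F58359 : act 1 n37473 = n35198 := d17_6 (iv1 D8550) (iv5 D3825) (iv1 F6873) D8486 D17992 D37473 (iv5 D35198) (iv0 F29300) (iv4 D18132)
def n37474 : Q := act 6 n17992
theorem D37474 : act 6 n17992 = n37474 := rfl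
theorem F58360 : act 4 n37474 = n17993 := d10_1 D37474 (iv6 D17993) D17992
def n37475 : Q := act 0 n17993
theorem D37475 : act 0 n17993 = n37475 := rfl
def n37476 : Q := act 1 n17993
theorem D37476 : act 1 n17993 = n37476 := rfl
def n37477 : Q := act 5 n17993
theorem D37477 : act 5 n17993 = n37477 := rfl
theorem F58361 : act 3 n37477 = n18000 := d6_1 D37477 (iv5 D18000) (iv3 F29155)
theorem F58362 : act 6 n37477 = n17994 := d12_2 D17993 D37477 (iv5 D17994) (iv6 D8487) D8486
def n37478 : Q := act 7 n17993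
theorem D37478 : act 7 n17993 = n37478 := rfl
theorem F58363 : act 3 n37478 = n18001 := d8_1 D37478 (iv7 D18001) (iv3 F29155)
def n37479 : Q := act 4 n17994
theorem D37479 : act 4 n17994 = n37479 := rfl
theorem F58364 : act 0 n37479 = n35188 := d18_2 (iv1 F54688) D37479 (iv4 D35188) (iv5 D17083) F12775 D16717 (iv4 F30160) F30164 (iv5 F54687)
theorem F58365 : act 1 n37479 = n35240 := d18_6 D8000 D17098 (iv1 F28644) F28641 D17994 D37479 (iv4 D35240) (iv0 D17101) (iv5 D8002)
def n37480 : Q := act 0 n17995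
theorem D37480 : act 0 n17995 = n37480 := rfl
theorem F58366 : act 1 n19350 = n37480 := d15_0 (iv0 D37480) (iv7 F44056) F44055
def n37481 : Q := act 1 n17995
theorem D37481 : act 1 n17995 = n37481 := rfl
theorem F58367 : act 1 n37481 = n19350 := d15_1 D37481 (iv7 F35262) F35260
theorem F58368 : act 3 n33622 = n37481 := d20_3 (iv4 F25153) (iv1 F27188) D33622 (iv1 D37481) (iv3 D17995) (iv4 D8488) (iv1 F14291) D3905 (iv3 F11573) D15377
theorem F58369 : act 5 n37481 = n19329 := d6_2 (iv5 F52906) F58368 F34769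
def n37482 : Q := act 5 n17995
theorem D37482 : act 5 n17995 = n37482 := rfl
theorem F58370 : act 2 n37482 = n19078 := d2_1 D37482 (iv5 F35261) F35260
theorem F58371 : act 3 n37482 = n17996 := d6_1 D37482 (iv5 D17996) D17995
theorem F58372 : act 4 n20424 = n37482 := d5_0 F58371 F29202 F29204 (iv4 F34541) F34540
def n37483 : Q := act 6 n17995
theorem D37483 : act 6 n17995 = n37483 := rfl
theorem F58373 : act 3 n37483 = n17997 := d7_1 D37483 (iv6 D17997) D17995
def n37484 : Q := act 6 n17996
theorem D37484 : act 6 n17996 = n37484 := rfl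
def n37485 : Q := act 0 n17997
theorem D37485 : act 0 n17997 = n37485 := rfl
def n37486 : Q := act 1 n17997
theorem D37486 : act 1 n17997 = n37486 := rfl
def n37487 : Q := act 5 n17997
theorem D37487 : act 5 n17997 = n37487 := rfl
def n37488 : Q := act 7 n17997
theorem D37488 : act 7 n17997 = n37488 := rfl
theorem F58374 : act 4 n37488 = n18001 := d11_1 D37488 (iv7 D18001) (iv4 F29157)
def n37492 : Q := act 5 n17998
theorem D37492 : act 5 n17998 = n37492 := rfl
def n37493 : Q := act 6 n17998
theorem D37493 : act 6 n17998 = n37493 := rfl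
def n37495 : Q := act 3 n17999
theorem D37495 : act 3 n17999 = n37495 := rfl
def n37496 : Q := act 4 n17999
theorem D37496 : act 4 n17999 = n37496 := rfl
def n37497 : Q := act 5 n17999
theorem D37497 : act 5 n17999 = n37497 := rfl
def n37498 : Q := act 6 n17999
theorem D37498 : act 6 n17999 = n37498 := rfl
def n37499 : Q := act 0 n18000
theorem D37499 : act 0 n18000 = n37499 := rfl
def n37500 : Q := act 1 n18000
theorem D37500 : act 1 n18000 = n37500 := rfl
def n37501 : Q := act 4 n18000
theorem D37501 : act 4 n18000 = n37501 := rfl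
theorem F58377 : act 6 n37501 = n18004 := d10_2 (iv6 F29158) D37501 (iv4 D18004)
def n37502 : Q := act 7 n18000
theorem D37502 : act 7 n18000 = n37502 := rfl
theorem F58378 : act 5 n37502 = n18001 := d13_1 D37502 (iv7 D18001) D18000
def n37503 : Q := act 4 n18002
theorem D37503 : act 4 n18002 = n37503 := rfl
theorem F58379 : act 2 n37503 = n18868 := d1_1 D37503 (iv4 D18868) (iv2 F29159)
theorem F58380 : act 7 n37503 = n34436 := d11_2 (iv7 F29160) D37503 (iv4 D34436)
theorem F58381 : act 0 n37503 = n34445 := d18_2 (iv1 F29162) D37503 (iv4 F54647) (iv5 D17220) (iv4 F21531) (iv0 F17007) F13794 (iv0 F28185) (iv5 F28188)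
theorem F58382 : act 1 n37503 = n34444 := d15_0 (iv0 D34444) (iv7 F30112) (iv2 F58379)
def n37504 : Q := act 6 n18002
theorem D37504 : act 6 n18002 = n37504 := rfl
theorem F58383 : act 2 n37504 = n18869 := d3_1 D37504 (iv6 D18869) (iv2 F29159)
def n37505 : Q := act 4 n18003
theorem D37505 : act 4 n18003 = n37505 := rfl
theorem F58384 : act 2 n37505 = n18873 := d1_1 D37505 (iv4 D18873) (iv2 F29165)
theorem F58385 : act 0 n37505 = n36476 := d18_2 (iv1 F29163) D37505 (iv4 D36476) (iv5 D17609) F13096 D8491 F13798 F16991 D16704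
def n37506 : Q := act 6 n18003
theorem D37506 : act 6 n18003 = n37506 := rfl
theorem F58386 : act 2 n37506 = n18874 := d3_1 D37506 (iv6 D18874) (iv2 F29165)
theorem F58387 : act 5 n37506 = n37504 := d12_1 D37506 (iv6 D37504) (iv5 D18002) (iv6 F28300) F29164
def n37507 : Q := act 0 n18004
theorem D37507 : act 0 n18004 = n37507 := rfl
theorem F58388 : act 4 n37507 = n19491 := d18_3 (iv1 D18003) D18004 D37507 (iv5 D19491) (iv4 F31167) (iv0 F31169) F28127 F28303 F29164
theorem F58389 : act 1 n34438 = n37507 := d15_0 (iv0 D37507) (iv7 F54638) (iv2 F54642)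
def n37508 : Q := act 1 n18004
theorem D37508 : act 1 n18004 = n37508 := rfl
theorem F58390 : act 1 n37508 = n34438 := d15_1 D37508 F54643 F44047
theorem F58391 : act 4 n37508 = n35310 := d18_7 D17139 F28629 (iv1 D17608) F13096 D8492 D18004 D37508 (iv0 D35310) (iv5 D17140)
def n37509 : Q := act 3 n18004
theorem D37509 : act 3 n18004 = n37509 := rfl
def n37510 : Q := act 5 n18004
theorem D37510 : act 5 n18004 = n37510 := rfl
def n37511 : Q := act 0 n18005
theorem D37511 : act 0 n18005 = n37511 := rfl
def n37512 : Q := act 1 n18005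
theorem D37512 : act 1 n18005 = n37512 := rfl
def n37513 : Q := act 5 n18005
theorem D37513 : act 5 n18005 = n37513 := rfl
theorem F58392 : act 3 n37513 = n18006 := d6_1 D37513 (iv5 D18006) D18005
theorem F58393 : act 7 n37513 = n21993 := d13_2 F44068 D37513 (iv5 F44067)
def n37514 : Q := act 6 n18005
theorem D37514 : act 6 n18005 = n37514 := rfl
theorem F58394 : act 3 n37514 = n18007 := d7_1 D37514 (iv6 D18007) D18005
def n37515 : Q := act 6 n18006
theorem D37515 : act 6 n18006 = n37515 := rfl
theorem F58395 : act 2 n37515 = n18033 := d3_1 D37515 (iv6 D18033) (iv2 F29166)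
theorem F58396 : act 4 n37515 = n27258 := d10_1 D37515 (iv6 D27258) (iv4 F29168)
def n37516 : Q := act 0 n18007
theorem D37516 : act 0 n18007 = n37516 := rfl
theorem F58397 : act 4 n37516 = n27173 := d20_2 (iv4 F29172) D37516 (iv3 D27173) (iv1 F43924) F43920 (iv4 F57711) (iv1 F57713) D36894 (iv3 F57830) (iv1 D18009)
theorem F58398 : act 0 n37516 = n18037 := d20_7 (iv4 F42172) (iv1 D12602) F9300 (iv3 F9649) D13017 D27173 (iv4 F58397) F29205 F13283 (iv1 F9689)
def n37517 : Q := act 1 n18007
theorem D37517 : act 1 n18007 = n37517 := rfl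
theorem F58399 : act 1 n37517 = n18037 := d15_1 D37517 (iv7 D18037) (iv2 F29171)
def n37518 : Q := act 5 n18007
theorem D37518 : act 5 n18007 = n37518 := rfl
theorem F58400 : act 2 n37518 = n18036 := d2_1 D37518 (iv5 D18036) (iv2 F29171)
def n37519 : Q := act 7 n18007
theorem D37519 : act 7 n18007 = n37519 := rfl
theorem F58401 : act 2 n37519 = n18037 := d4_1 D37519 (iv7 D18037) (iv2 F29171)
theorem F58402 : act 4 n37519 = n18011 := d11_1 D37519 (iv7 D18011) (iv4 F29172)
theorem F58403 : act 1 n18035 = n37519 := d15_1 D18035 (iv7 D37519) F29171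
theorem F58404 : act 1 n37519 = n18034 := d15_0 (iv0 D18034) D18037 (iv2 F58401)
def n37520 : Q := act 2 n18008
theorem D37520 : act 2 n18008 = n37520 := rfl
theorem F58405 : act 7 n18009 = n37520 := d15_2 (iv0 D18008) D18009 (iv2 D37520)
def n37521 : Q := act 3 n18008
theorem D37521 : act 3 n18008 = n37521 := rfl
def n37522 : Q := act 4 n18008
theorem D37522 : act 4 n18008 = n37522 := rfl
def n37523 : Q := act 5 n18008
theorem D37523 : act 5 n18008 = n37523 := rfl
def n37524 : Q := act 6 n18008
theorem D37524 : act 6 n18008 = n37524 := rfl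
theorem F58406 : act 5 n37524 = n27676 := d21_6 (iv5 D6206) (iv1 F4194) D3800 D8495 D18008 D37524 (iv1 D27676) (iv5 D13211) (iv6 D6280) (iv1 F14054)
def n37525 : Q := act 7 n18008
theorem D37525 : act 7 n18008 = n37525 := rfl
theorem F58407 : act 2 n37525 = n18009 := d4_1 D37525 F58405 (iv2 D37520)
def n37526 : Q := act 4 n18009
theorem D37526 : act 4 n18009 = n37526 := rfl
def n37527 : Q := act 5 n18009
theorem D37527 : act 5 n18009 = n37527 := rfl
theorem F58408 : act 6 n18048 = n37527 := d21_5 (iv5 D8523) (iv1 D3807) D3808 (iv6 F13282) D18048 (iv5 D37527) (iv1 D18009) D18010 F29175 (iv1 F17006)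
def n37528 : Q := act 6 n18009
theorem D37528 : act 6 n18009 = n37528 := rfl
def n37529 : Q := act 0 n18010
theorem D37529 : act 0 n18010 = n37529 := rfl
theorem F58409 : act 6 n37529 = n18046 := d21_5 (iv5 D8518) (iv1 F5797) D8496 (iv6 F29175) D37529 (iv5 D18046) (iv1 D8512) D8513 F13282 (iv1 F17000)
def n37530 : Q := act 1 n18010
theorem D37530 : act 1 n18010 = n37530 := rfl
theorem F58410 : act 1 n37530 = n18051 := d15_1 D37530 (iv7 D18051) (iv2 F29174)
theorem F58411 : act 5 n18580 = n37530 := d21_6 F14051 (iv1 D3533) (iv5 F2868) D3906 D8728 D18580 (iv1 D37530) (iv5 D18010) (iv6 D8495) (iv1 F9678)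
def n37531 : Q := act 4 n18010
theorem D37531 : act 4 n18010 = n37531 := rfl
theorem F58412 : act 2 n37531 = n18050 := d1_1 D37531 (iv4 D18050) (iv2 F29174)
def n37532 : Q := act 7 n18010
theorem D37532 : act 7 n18010 = n37532 := rfl
theorem F58414 : act 2 n37532 = n18051 := d4_1 D37532 (iv7 D18051) (iv2 F29174)
theorem F58415 : act 5 n37532 = n18011 := d13_1 D37532 (iv7 D18011) D18010
theorem F58417 : act 1 n18051 = n37529 := d15_0 (iv0 D37529) D37532 F58414
theorem F58418 : act 1 n18049 = n37532 := d15_1 D18049 (iv7 D37532) F29174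
theorem F58419 : act 0 n18048 = n37532 := d21_10 F58415 (iv1 F29178) D18046 (iv6 F58409) (iv1 F58417) F29211 F29210 (iv1 F29173) D37527 (iv6 F58408)
def n37535 : Q := act 0 n18013
theorem D37535 : act 0 n18013 = n37535 := rfl
def n37536 : Q := act 1 n18013
theorem D37536 : act 1 n18013 = n37536 := rfl
def n37537 : Q := act 5 n18013
theorem D37537 : act 5 n18013 = n37537 := rfl
theorem F58425 : act 2 n37537 = n35315 := d2_1 D37537 (iv5 D35315) (iv2 F29182)
theorem F58426 : act 3 n37537 = n18019 := d6_1 D37537 (iv5 D18019) (iv3 F29183)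
theorem F58427 : act 6 n37537 = n27021 := d12_2 D18013 D37537 (iv5 D27021) (iv6 D12946) (iv5 F13466)
def n37538 : Q := act 7 n18013
theorem D37538 : act 7 n18013 = n37538 := rfl
theorem F58428 : act 2 n37538 = n35316 := d4_1 D37538 (iv7 D35316) (iv2 F29182)
theorem F58429 : act 3 n37538 = n18020 := d8_1 D37538 (iv7 D18020) (iv3 F29183)
theorem F58430 : act 6 n37538 = n35352 := d14_1 D37538 (iv7 D35352) (iv6 D17155) F13468 D18013
theorem F58433 : act 1 n37538 = n35313 := d15_0 (iv0 D35313) D35316 (iv2 F58428)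
def n37539 : Q := act 3 n18014
theorem D37539 : act 3 n18014 = n37539 := rfl
theorem F58434 : act 4 n37539 = n21887 := d5_2 (iv4 F29184) D37539 (iv3 D21887) (iv4 D10442) (iv3 F16628)
def n37540 : Q := act 6 n18014
theorem D37540 : act 6 n18014 = n37540 := rfl
theorem F58435 : act 2 n37540 = n21934 := d3_1 D37540 (iv6 D21934) F29186
theorem F58436 : act 4 n37540 = n21886 := d10_1 D37540 (iv6 D21886) (iv4 F29184)
def n37541 : Q := act 6 n18015
theorem D37541 : act 6 n18015 = n37541 := rfl
theorem F58437 : act 4 n37541 = n21938 := d10_1 D37541 (iv6 D21938) (iv4 F29189)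
def n37542 : Q := act 0 n18016
theorem D37542 : act 0 n18016 = n37542 := rfl
def n37543 : Q := act 1 n18016
theorem D37543 : act 1 n18016 = n37543 := rfl
def n37544 : Q := act 5 n18016
theorem D37544 : act 5 n18016 = n37544 := rfl
def n37545 : Q := act 7 n18016
theorem D37545 : act 7 n18016 = n37545 := rfl
theorem F58438 : act 4 n37545 = n18020 := d11_1 D37545 (iv7 D18020) (iv4 F29190)
def n37546 : Q := act 2 n18017
theorem D37546 : act 2 n18017 = n37546 := rfl
theorem F58439 : act 7 n18018 = n37546 := d15_2 (iv0 D18017) D18018 (iv2 D37546)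
def n37547 : Q := act 3 n18017
theorem D37547 : act 3 n18017 = n37547 := rfl
def n37548 : Q := act 4 n18017
theorem D37548 : act 4 n18017 = n37548 := rfl
def n37549 : Q := act 5 n18017
theorem D37549 : act 5 n18017 = n37549 := rfl
def n37550 : Q := act 6 n18017
theorem D37550 : act 6 n18017 = n37550 := rfl
theorem F58440 : act 5 n37550 = n18027 := d21_6 F4227 D3944 F13465 D8501 D18017 D37550 (iv1 D18027) (iv5 F21753) (iv6 D13049) F14055
def n37551 : Q := act 7 n18017
theorem D37551 : act 7 n18017 = n37551 := rfl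
theorem F58441 : act 2 n37551 = n18018 := d4_1 D37551 F58439 (iv2 D37546)
def n37556 : Q := act 0 n18019
theorem D37556 : act 0 n18019 = n37556 := rfl
def n37557 : Q := act 1 n18019
theorem D37557 : act 1 n18019 = n37557 := rfl
theorem F58442 : act 5 n37493 = n37557 := d21_6 (iv5 D6212) (iv1 F4201) D3798 D8489 D17998 D37493 (iv1 D37557) (iv5 D18019) (iv6 D8501) (iv1 F9676)
def n37558 : Q := act 4 n18019
theorem D37558 : act 4 n18019 = n37558 := rfl
theorem F58443 : act 6 n37558 = n34438 := d10_2 (iv6 F29191) D37558 (iv4 D34438)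
def n37559 : Q := act 7 n18019
theorem D37559 : act 7 n18019 = n37559 := rfl
theorem F58444 : act 5 n37559 = n18020 := d13_1 D37559 (iv7 D18020) D18019
def n37560 : Q := act 3 n18021
theorem D37560 : act 3 n18021 = n37560 := rfl
theorem F58445 : act 4 n37560 = n18023 := d5_2 D18021 D37560 (iv3 D18023) (iv4 D8504) D8503
def n37561 : Q := act 5 n18021
theorem D37561 : act 5 n18021 = n37561 := rfl
theorem F58446 : act 0 n37561 = n35182 := d17_2 (iv1 F29193) D37561 (iv5 D35182) (iv4 D17081) (iv5 D7992) (iv0 F9468) (iv5 F13126) F13128 D17087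
theorem F58447 : act 1 n37561 = n35174 := d17_6 F28637 F13515 (iv1 F13790) F13787 D18021 D37561 (iv5 D35174) D35173 F55925
def n37562 : Q := act 6 n18021
theorem D37562 : act 6 n18021 = n37562 := rfl
theorem F58448 : act 4 n37562 = n18022 := d10_1 D37562 (iv6 D18022) D18021
def n37563 : Q := act 0 n18022
theorem D37563 : act 0 n18022 = n37563 := rfl
def n37564 : Q := act 1 n18022
theorem D37564 : act 1 n18022 = n37564 := rfl
def n37565 : Q := act 7 n18022
theorem D37565 : act 7 n18022 = n37565 := rfl
def n37566 : Q := act 0 n18023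
theorem D37566 : act 0 n18023 = n37566 := rfl
theorem F58450 : act 1 n22675 = n37566 := d15_0 (iv0 D37566) (iv7 F44097) F44095
def n37567 : Q := act 1 n18023
theorem D37567 : act 1 n18023 = n37567 := rfl
theorem F58451 : act 1 n37567 = n22675 := d15_1 D37567 F35236 F30973
theorem F58452 : act 3 n22645 = n37567 := d20_3 (iv4 F41874) F41876 (iv4 F35213) (iv1 D37567) (iv3 D18023) (iv4 D8504) (iv1 D3803) D3804 (iv3 F11672) D15686
def n37568 : Q := act 6 n18023
theorem D37568 : act 6 n18023 = n37568 := rfl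
theorem F58453 : act 3 n37568 = n18025 := d7_1 D37568 (iv6 D18025) D18023
def n37569 : Q := act 6 n18024
theorem D37569 : act 6 n18024 = n37569 := rfl
theorem F58454 : act 2 n37569 = n22357 := d3_1 D37569 (iv6 D22357) (iv2 F29195)
theorem F58455 : act 4 n37569 = n22394 := d10_1 D37569 (iv6 D22394) (iv4 F29196)
def n37570 : Q := act 0 n18025
theorem D37570 : act 0 n18025 = n37570 := rfl
def n37571 : Q := act 1 n18025
theorem D37571 : act 1 n18025 = n37571 := rfl
def n37572 : Q := act 5 n18025
theorem D37572 : act 5 n18025 = n37572 := rfl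
def n37573 : Q := act 7 n18025
theorem D37573 : act 7 n18025 = n37573 := rfl
theorem F58456 : act 4 n37573 = n18028 := d11_1 D37573 (iv7 D18028) (iv4 F29197)
def n37577 : Q := act 5 n18026
theorem D37577 : act 5 n18026 = n37577 := rfl
def n37578 : Q := act 6 n18026
theorem D37578 : act 6 n18026 = n37578 := rfl
def n37582 : Q := act 6 n18027
theorem D37582 : act 6 n18027 = n37582 := rfl
def n37583 : Q := act 6 n18029
theorem D37583 : act 6 n18029 = n37583 := rfl
theorem F58459 : act 3 n37583 = n18030 := d7_1 D37583 (iv6 D18030) D18029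
def n37584 : Q := act 0 n18030
theorem D37584 : act 0 n18030 = n37584 := rfl
def n37585 : Q := act 1 n18030
theorem D37585 : act 1 n18030 = n37585 := rfl
def n37586 : Q := act 5 n18030
theorem D37586 : act 5 n18030 = n37586 := rfl
def n37587 : Q := act 7 n18030
theorem D37587 : act 7 n18030 = n37587 := rfl
def n37588 : Q := act 0 n18031
theorem D37588 : act 0 n18031 = n37588 := rfl
def n37589 : Q := act 1 n18031
theorem D37589 : act 1 n18031 = n37589 := rfl
def n37590 : Q := act 5 n18031
theorem D37590 : act 5 n18031 = n37590 := rfl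
def n37591 : Q := act 7 n18031
theorem D37591 : act 7 n18031 = n37591 := rfl
theorem F58460 : act 4 n37591 = n36511 := d11_1 D37591 (iv7 D36511) (iv4 F29198)
def n37592 : Q := act 6 n18032
theorem D37592 : act 6 n18032 = n37592 := rfl
theorem F58461 : act 2 n37592 = n19552 := d3_1 D37592 (iv6 D19552) F29200
theorem F58462 : act 3 n37592 = n22130 := d7_1 D37592 (iv6 D22130) (iv3 F29204)
theorem F58463 : act 4 n37592 = n37484 := d10_1 D37592 (iv6 D37484) F29202
def n37593 : Q := act 0 n18033
theorem D37593 : act 0 n18033 = n37593 := rfl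
def n37594 : Q := act 1 n18033
theorem D37594 : act 1 n18033 = n37594 := rfl
def n37595 : Q := act 5 n18033
theorem D37595 : act 5 n18033 = n37595 := rfl
theorem F58464 : act 6 n37595 = n18036 := d12_2 D18033 D37595 (iv5 D18036) (iv6 D8510) D8509
def n37596 : Q := act 7 n18033
theorem D37596 : act 7 n18033 = n37596 := rfl
def n37597 : Q := act 2 n18034
theorem D37597 : act 2 n18034 = n37597 := rfl
theorem F58465 : act 7 n18035 = n37597 := d15_2 (iv0 D18034) D18035 (iv2 D37597)
def n37598 : Q := act 3 n18034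
theorem D37598 : act 3 n18034 = n37598 := rfl
def n37599 : Q := act 4 n18034
theorem D37599 : act 4 n18034 = n37599 := rfl
def n37600 : Q := act 5 n18034
theorem D37600 : act 5 n18034 = n37600 := rfl
def n37601 : Q := act 6 n18034
theorem D37601 : act 6 n18034 = n37601 := rfl
def n37602 : Q := act 7 n18034
theorem D37602 : act 7 n18034 = n37602 := rfl
theorem F58466 : act 2 n37602 = n18035 := d4_1 D37602 F58465 (iv2 D37597)
def n37603 : Q := act 3 n18035
theorem D37603 : act 3 n18035 = n37603 := rfl
def n37604 : Q := act 4 n18035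
theorem D37604 : act 4 n18035 = n37604 := rfl
theorem F58467 : act 3 n37604 = n27160 := d20_3 (iv4 F58402) (iv1 F58403) D37604 (iv1 D27160) F21648 (iv4 F28848) D36797 (iv4 F57714) (iv3 D18039) (iv1 F29179)
def n37605 : Q := act 5 n18035
theorem D37605 : act 5 n18035 = n37605 := rfl
def n37606 : Q := act 6 n18035
theorem D37606 : act 6 n18035 = n37606 := rfl
def n37607 : Q := act 0 n18036
theorem D37607 : act 0 n18036 = n37607 := rfl
def n37608 : Q := act 1 n18036
theorem D37608 : act 1 n18036 = n37608 := rfl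
def n37610 : Q := act 7 n18036
theorem D37610 : act 7 n18036 = n37610 := rfl
def n37612 : Q := act 1 n18038
theorem D37612 : act 1 n18038 = n37612 := rfl
theorem F58470 : act 1 n37612 = n18043 := d15_1 D37612 (iv7 D18043) D18038
def n37613 : Q := act 3 n18038
theorem D37613 : act 3 n18038 = n37613 := rfl
theorem F58471 : act 7 n37613 = n18044 := d8_2 F29206 D37613 (iv3 D18044)
def n37614 : Q := act 4 n18038
theorem D37614 : act 4 n18038 = n37614 := rfl
theorem F58472 : act 2 n37614 = n18040 := d1_1 D37614 (iv4 D18040) D18038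
theorem F58473 : act 7 n37614 = n18045 := d11_2 F29206 D37614 (iv4 D18045)
def n37615 : Q := act 5 n18038
theorem D37615 : act 5 n18038 = n37615 := rfl
theorem F58474 : act 2 n37615 = n18041 := d2_1 D37615 (iv5 D18041) D18038
theorem F58475 : act 7 n37615 = n18046 := d13_2 F29206 D37615 (iv5 D18046)
def n37616 : Q := act 6 n18038
theorem D37616 : act 6 n18038 = n37616 := rfl
theorem F58476 : act 2 n37616 = n18042 := d3_1 D37616 (iv6 D18042) D18038
def n37617 : Q := act 0 n18039
theorem D37617 : act 0 n18039 = n37617 := rfl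
def n37618 : Q := act 1 n18039
theorem D37618 : act 1 n18039 = n37618 := rfl
def n37619 : Q := act 2 n18039
theorem D37619 : act 2 n18039 = n37619 := rfl
def n37620 : Q := act 5 n18039
theorem D37620 : act 5 n18039 = n37620 := rfl
def n37621 : Q := act 6 n18039
theorem D37621 : act 6 n18039 = n37621 := rfl
theorem F58478 : act 3 n37621 = n18042 := d7_1 D37621 (iv6 D18042) D18039
def n37622 : Q := act 7 n18039
theorem D37622 : act 7 n18039 = n37622 := rfl
theorem F58479 : act 3 n37622 = n18043 := d8_1 D37622 (iv7 D18043) D18039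
def n37623 : Q := act 0 n18040
theorem D37623 : act 0 n18040 = n37623 := rfl
def n37624 : Q := act 1 n18040
theorem D37624 : act 1 n18040 = n37624 := rfl
theorem F58480 : act 1 n37624 = n18045 := d15_1 D37624 (iv7 F58473) F58472
def n37625 : Q := act 3 n18040
theorem D37625 : act 3 n18040 = n37625 := rfl
def n37626 : Q := act 5 n18040
theorem D37626 : act 5 n18040 = n37626 := rfl
def n37627 : Q := act 6 n18040
theorem D37627 : act 6 n18040 = n37627 := rfl
theorem F58481 : act 4 n37627 = n18042 := d10_1 D37627 (iv6 D18042) D18040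
def n37628 : Q := act 7 n18040
theorem D37628 : act 7 n18040 = n37628 := rfl
theorem F58482 : act 2 n37628 = n18045 := d4_1 D37628 (iv7 F58473) F58472
theorem F58483 : act 4 n37628 = n18043 := d11_1 D37628 (iv7 D18043) D18040
theorem F58484 : act 1 n18045 = n37623 := d15_0 (iv0 D37623) D37628 F58482
def n37629 : Q := act 0 n18041
theorem D37629 : act 0 n18041 = n37629 := rfl
theorem F58485 : act 5 n37629 = n37498 := d21_2 D18041 D37629 (iv6 D37498) (iv1 D17999) (iv6 D8489) (iv5 D3798) (iv1 D1658) D1660 D3805 D8511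
def n37630 : Q := act 1 n18041
theorem D37630 : act 1 n18041 = n37630 := rfl
theorem F58486 : act 1 n37630 = n18046 := d15_1 D37630 (iv7 F58475) F58474
def n37631 : Q := act 4 n18041
theorem D37631 : act 4 n18041 = n37631 := rfl
def n37632 : Q := act 6 n18041
theorem D37632 : act 6 n18041 = n37632 := rfl
def n37633 : Q := act 7 n18041
theorem D37633 : act 7 n18041 = n37633 := rfl
theorem F58487 : act 2 n37633 = n18046 := d4_1 D37633 (iv7 F58475) F58474
theorem F58488 : act 5 n37633 = n18043 := d13_1 D37633 (iv7 D18043) D18041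
theorem F58489 : act 1 n18046 = n37629 := d15_0 (iv0 D37629) D37633 F58487
theorem F58490 : act 0 n18047 = n37577 := d21_10 (iv5 D37577) (iv1 F44088) F44084 (iv6 F44043) (iv1 F44045) D37498 (iv5 F58485) (iv1 F58489) (iv5 D18046) D18047
def n37634 : Q := act 0 n18042
theorem D37634 : act 0 n18042 = n37634 := rfl
def n37635 : Q := act 1 n18042
theorem D37635 : act 1 n18042 = n37635 := rfl
def n37636 : Q := act 5 n18042
theorem D37636 : act 5 n18042 = n37636 := rfl
theorem F58491 : act 0 n37636 = n27655 := d21_7 (iv5 D3798) (iv1 D1658) D1660 D3805 D8511 D18042 D37636 (iv5 D27655) (iv6 D13204) F14292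
theorem F58492 : act 0 n27678 = n37636 := d21_1 (iv5 F44610) (iv5 D37636) (iv6 D18042) (iv1 F29179) (iv6 F44075) F44074 (iv1 F44077) D27271 (iv6 F44578) (iv1 F44586)
def n37637 : Q := act 7 n18042
theorem D37637 : act 7 n18042 = n37637 := rfl
def n37638 : Q := act 6 n18043
theorem D37638 : act 6 n18043 = n37638 := rfl
theorem F58493 : act 2 n37638 = n18047 := d3_1 D37638 (iv6 D18047) (iv2 F29207)
def n37639 : Q := act 0 n18044
theorem D37639 : act 0 n18044 = n37639 := rfl
def n37640 : Q := act 1 n18044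
theorem D37640 : act 1 n18044 = n37640 := rfl
def n37641 : Q := act 2 n18044
theorem D37641 : act 2 n18044 = n37641 := rfl
def n37642 : Q := act 4 n18044
theorem D37642 : act 4 n18044 = n37642 := rfl
def n37643 : Q := act 5 n18044
theorem D37643 : act 5 n18044 = n37643 := rfl
theorem F58494 : act 3 n37643 = n18046 := d6_1 D37643 (iv5 D18046) D18044
def n37644 : Q := act 6 n18044
theorem D37644 : act 6 n18044 = n37644 := rfl
theorem F58495 : act 3 n37644 = n18047 := d7_1 D37644 (iv6 D18047) D18044
def n37645 : Q := act 3 n18045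
theorem D37645 : act 3 n18045 = n37645 := rfl
def n37646 : Q := act 5 n18045
theorem D37646 : act 5 n18045 = n37646 := rfl
def n37647 : Q := act 6 n18045
theorem D37647 : act 6 n18045 = n37647 := rfl
theorem F58496 : act 4 n37647 = n18047 := d10_1 D37647 (iv6 D18047) D18045
def n37648 : Q := act 4 n18046
theorem D37648 : act 4 n18046 = n37648 := rfl
def n37649 : Q := act 1 n18047
theorem D37649 : act 1 n18047 = n37649 := rfl
def n37650 : Q := act 5 n18047
theorem D37650 : act 5 n18047 = n37650 := rfl
theorem F58497 : act 0 n37465 = n37650 := d21_1 D37465 (iv5 D37650) (iv6 D18047) (iv1 D8512) (iv6 D3805) (iv5 D1660) D1657 D3794 D8481 D17989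
def n37651 : Q := act 7 n18047
theorem D37651 : act 7 n18047 = n37651 := rfl
def n37652 : Q := act 2 n18048
theorem D37652 : act 2 n18048 = n37652 := rfl
theorem F58498 : act 7 n18049 = n37652 := d15_2 (iv0 D18048) D18049 (iv2 D37652)
def n37653 : Q := act 3 n18048
theorem D37653 : act 3 n18048 = n37653 := rfl
def n37654 : Q := act 4 n18048
theorem D37654 : act 4 n18048 = n37654 := rfl
def n37655 : Q := act 5 n18048
theorem D37655 : act 5 n18048 = n37655 := rfl
def n37656 : Q := act 7 n18048
theorem D37656 : act 7 n18048 = n37656 := rfl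
theorem F58499 : act 2 n37656 = n18049 := d4_1 D37656 F58498 (iv2 D37652)
def n37657 : Q := act 3 n18049
theorem D37657 : act 3 n18049 = n37657 := rfl
def n37658 : Q := act 4 n18049
theorem D37658 : act 4 n18049 = n37658 := rfl
def n37659 : Q := act 5 n18049
theorem D37659 : act 5 n18049 = n37659 := rfl
theorem F58500 : act 6 n37659 = n18563 := d21_3 (iv5 F58415) (iv1 F58418) D37659 (iv1 F29806) (iv6 F22012) (iv5 F44610) F58492 (iv5 D37636) (iv6 D18042) (iv1 F29179)
def n37660 : Q := act 6 n18049
theorem D37660 : act 6 n18049 = n37660 := rfl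
def n37661 : Q := act 0 n18050
theorem D37661 : act 0 n18050 = n37661 := rfl
def n37662 : Q := act 1 n18050
theorem D37662 : act 1 n18050 = n37662 := rfl
def n37665 : Q := act 7 n18050
theorem D37665 : act 7 n18050 = n37665 := rfl
theorem F58503 : act 4 n37665 = n18051 := d11_1 D37665 (iv7 D18051) D18050
def n37666 : Q := act 6 n18052
theorem D37666 : act 6 n18052 = n37666 := rfl
theorem F58505 : act 3 n37666 = n18055 := d7_1 D37666 (iv6 D18055) (iv3 F29212)
theorem F58506 : act 4 n37666 = n36976 := d10_1 D37666 (iv6 D36976) (iv4 F29214)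
def n37667 : Q := act 6 n18053
theorem D37667 : act 6 n18053 = n37667 := rfl
def n37668 : Q := act 0 n18054
theorem D37668 : act 0 n18054 = n37668 := rfl
theorem F58507 : act 4 n37668 = n18916 := d18_3 (iv1 F17000) D18054 D37668 (iv5 D18916) (iv4 F16676) (iv0 F17611) (iv4 D8517) (iv0 D3806) D3808
theorem F58509 : act 7 n37668 = n37668 := d11_0 F58507 F30199 (iv4 F58507)
def n37669 : Q := act 1 n18054
theorem D37669 : act 1 n18054 = n37669 := rfl
theorem F58511 : act 4 n37669 = n21939 := d18_7 F17611 F16676 F17613 (iv4 D8517) D8518 D18054 D37669 F34446 (iv5 D18053)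
theorem F58512 : act 2 n37668 = n37669 := d1_3 F58511 F34442 (iv4 F58507)
theorem F58513 : act 7 n37669 = n37669 := d11_0 F58511 F34444 (iv4 F58511)
def n37672 : Q := act 6 n18054
theorem D37672 : act 6 n18054 = n37672 := rfl
theorem F58517 : act 4 n37672 = n18055 := d10_1 D37672 (iv6 D18055) D18054
def n37673 : Q := act 0 n18055
theorem D37673 : act 0 n18055 = n37673 := rfl
def n37674 : Q := act 1 n18055
theorem D37674 : act 1 n18055 = n37674 := rfl
def n37675 : Q := act 5 n18055
theorem D37675 : act 5 n18055 = n37675 := rfl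
theorem F58518 : act 2 n37675 = n34443 := d2_1 D37675 F54646 F29238
theorem F58519 : act 6 n37675 = n18056 := d12_2 D18055 D37675 (iv5 D18056) (iv6 D8519) D8518
def n37676 : Q := act 7 n18055
theorem D37676 : act 7 n18055 = n37676 := rfl
def n37677 : Q := act 4 n18056
theorem D37677 : act 4 n18056 = n37677 := rfl
theorem F58521 : act 2 n37677 = n34442 := d1_1 D37677 (iv4 D34442) (iv2 F29221)
theorem F58522 : act 7 n37677 = n34439 := d11_2 (iv7 F29222) D37677 (iv4 D34439)
def n37678 : Q := act 5 n18057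
theorem D37678 : act 5 n18057 = n37678 := rfl
theorem F58524 : act 3 n37678 = n27186 := d6_1 D37678 (iv5 D27186) (iv3 F29225)
theorem F58526 : act 0 n37678 = n18140 := d17_2 (iv1 F29228) D37678 (iv5 D18140) (iv4 F17476) D17856 (iv0 F29017) (iv5 D17857) (iv0 F17602) (iv4 F28613)
theorem F58527 : act 1 n37678 = n36460 := d17_6 (iv1 F29229) D18140 F56228 (iv5 D18058) F29230 D37678 (iv5 D36460) (iv0 F28615) F29230
def n37680 : Q := act 6 n18058
theorem D37680 : act 6 n18058 = n37680 := rfl
theorem F58531 : act 3 n37680 = n18061 := d7_1 D37680 (iv6 D18061) (iv3 F29231)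
def n37681 : Q := act 6 n18059
theorem D37681 : act 6 n18059 = n37681 := rfl
theorem F58532 : act 2 n37681 = n37667 := d3_1 D37681 (iv6 D37667) (iv2 F29233)
theorem F58533 : act 3 n37681 = n27188 := d7_1 D37681 (iv6 D27188) (iv3 F29234)
theorem F58534 : act 5 n37681 = n35549 := d12_1 D37681 (iv6 D35549) (iv5 D17220) F21530 D18059
def n37684 : Q := act 6 n18060
theorem D37684 : act 6 n18060 = n37684 := rfl
theorem F58538 : act 2 n37684 = n37672 := d3_1 D37684 (iv6 D37672) (iv2 F29236)
theorem F58539 : act 4 n37684 = n18061 := d10_1 D37684 (iv6 D18061) D18060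
def n37685 : Q := act 0 n18061
theorem D37685 : act 0 n18061 = n37685 := rfl
def n37686 : Q := act 1 n18061
theorem D37686 : act 1 n18061 = n37686 := rfl
theorem F58540 : act 1 n37686 = n37676 := d15_1 D37686 (iv7 D37676) (iv2 F29238)
def n37687 : Q := act 7 n18061
theorem D37687 : act 7 n18061 = n37687 := rfl
theorem F58541 : act 2 n37687 = n37676 := d4_1 D37687 (iv7 D37676) (iv2 F29238)
theorem F58543 : act 1 n37676 = n37685 := d15_0 (iv0 D37685) D37687 F58541
theorem F58544 : act 1 n37674 = n37687 := d15_1 D37674 (iv7 D37687) F29238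
theorem F58545 : act 1 n37687 = n37673 := d15_0 (iv0 D37673) D37676 (iv2 F58541)
def n37690 : Q := act 6 n18062
theorem D37690 : act 6 n18062 = n37690 := rfl
theorem F58551 : act 4 n37690 = n37667 := d10_1 D37690 (iv6 D37667) (iv4 F29239)
def n37693 : Q := act 6 n18063
theorem D37693 : act 6 n18063 = n37693 := rfl
theorem F58558 : act 2 n37693 = n37690 := d3_1 D37693 (iv6 D37690) (iv2 F29244)
theorem F58559 : act 4 n37693 = n37681 := d10_1 D37693 (iv6 D37681) F29243
def n37694 : Q := act 0 n18064
theorem D37694 : act 0 n18064 = n37694 := rfl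
def n37695 : Q := act 1 n18064
theorem D37695 : act 1 n18064 = n37695 := rfl
theorem F58560 : act 4 n37152 = n37695 := d20_6 (iv4 D8420) F5768 D3771 D8424 D17869 D37152 (iv1 D37695) F29246 (iv3 D8542) (iv1 F13216)
def n37696 : Q := act 2 n18064
theorem D37696 : act 2 n18064 = n37696 := rfl
theorem F58561 : act 4 n37696 = n18121 := d1_2 (iv4 F29246) D37696 (iv2 D18121)
theorem F58562 : act 7 n37696 = n37696 := d4_2 F29247 D37696 (iv2 D37696)
theorem F58563 : act 1 n37696 = n37694 := d15_0 (iv0 D37694) F29247 D37696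
theorem F58564 : act 1 n37695 = n37696 := d15_1 D37695 F58562 (iv2 D37696)
def n37697 : Q := act 5 n18064
theorem D37697 : act 5 n18064 = n37697 := rfl
def n37700 : Q := act 3 n18072
theorem D37700 : act 3 n18072 = n37700 := rfl
theorem F58568 : act 4 n37700 = n37042 := d20_6 (iv4 F5408) D7480 (iv4 F29940) D8529 D18072 D37700 (iv1 D37042) (iv4 D17827) (iv3 D8402) (iv1 D3764)
def n37701 : Q := act 4 n18072
theorem D37701 : act 4 n18072 = n37701 := rfl
theorem F58569 : act 0 n37701 = n36933 := d20_1 D37701 (iv4 D36933) (iv3 D17778) (iv1 D8381) F5752 (iv4 F5408) D7480 (iv4 F29940) D8529 D18072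
def n37709 : Q := act 4 n18074
theorem D37709 : act 4 n18074 = n37709 := rfl
theorem F58571 : act 2 n37709 = n18075 := d1_1 D37709 (iv4 D18075) D18074
def n37710 : Q := act 5 n18074
theorem D37710 : act 5 n18074 = n37710 := rfl
theorem F58572 : act 2 n37710 = n18076 := d2_1 D37710 (iv5 D18076) D18074
def n37711 : Q := act 6 n18074
theorem D37711 : act 6 n18074 = n37711 := rfl
theorem F58573 : act 2 n37711 = n18077 := d3_1 D37711 (iv6 D18077) D18074
def n37712 : Q := act 0 n18075
theorem D37712 : act 0 n18075 = n37712 := rfl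
def n37713 : Q := act 1 n18075
theorem D37713 : act 1 n18075 = n37713 := rfl
def n37714 : Q := act 5 n18075
theorem D37714 : act 5 n18075 = n37714 := rfl
def n37715 : Q := act 6 n18075
theorem D37715 : act 6 n18075 = n37715 := rfl
theorem F58574 : act 4 n37715 = n18077 := d10_1 D37715 (iv6 D18077) D18075
def n37716 : Q := act 0 n18076
theorem D37716 : act 0 n18076 = n37716 := rfl
def n37717 : Q := act 1 n18076
theorem D37717 : act 1 n18076 = n37717 := rfl
def n37718 : Q := act 4 n18076
theorem D37718 : act 4 n18076 = n37718 := rfl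
def n37719 : Q := act 6 n18076
theorem D37719 : act 6 n18076 = n37719 := rfl
theorem F58575 : act 3 n37719 = n18088 := d7_1 D37719 (iv6 D18088) (iv3 F29257)
def n37720 : Q := act 0 n18077
theorem D37720 : act 0 n18077 = n37720 := rfl
def n37721 : Q := act 1 n18077
theorem D37721 : act 1 n18077 = n37721 := rfl
def n37722 : Q := act 3 n18085
theorem D37722 : act 3 n18085 = n37722 := rfl
theorem F58576 : act 5 n37722 = n27900 := d6_2 (iv5 F29265) D37722 F45050
def n37723 : Q := act 4 n18085
theorem D37723 : act 4 n18085 = n37723 := rfl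
theorem F58579 : act 0 n37723 = n27213 := d18_2 D18085 D37723 (iv4 D27213) (iv5 D13035) F30457 F20901 F20898 F9696 D8531
theorem F58580 : act 1 n37723 = n27204 := d18_6 (iv1 D27088) F41796 (iv1 F46249) F37332 (iv5 F29265) D37723 (iv4 D27204) D27203 (iv5 F43979)
def n37724 : Q := act 6 n18085
theorem D37724 : act 6 n18085 = n37724 := rfl
theorem F58581 : act 2 n37724 = n35880 := d3_1 D37724 F56534 F44689
theorem F58582 : act 5 n37724 = n20339 := d12_1 D37724 F32275 (iv5 D13304) D13305 (iv5 F29265)
theorem F58585 : act 0 n27301 = n37724 := d21_4 (iv5 F30020) (iv1 D18606) F21797 D27301 (iv6 D37724) F29265 F30001 F29999 F21795 (iv1 F29266)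
def n37725 : Q := act 3 n18086
theorem D37725 : act 3 n18086 = n37725 := rfl
theorem F58586 : act 6 n37725 = n37169 := d7_2 (iv6 F30021) D37725 (iv3 D37169)
def n37726 : Q := act 4 n18086
theorem D37726 : act 4 n18086 = n37726 := rfl
theorem F58591 : act 1 n37726 = n27213 := d18_6 F30551 (iv4 F47869) F47872 F46247 F30020 D37726 (iv4 D27213) F43977 F43976
def n37727 : Q := act 3 n18087
theorem D37727 : act 3 n18087 = n37727 := rfl
def n37730 : Q := act 3 n18094
theorem D37730 : act 3 n18094 = n37730 := rfl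
theorem F58594 : act 4 n37730 = n36997 := d20_6 (iv4 F20985) (iv1 F20988) (iv4 F29944) D8534 D18094 D37730 (iv1 D36997) (iv4 D17805) (iv3 D8397) (iv1 F9661)
def n37735 : Q := act 3 n18095
theorem D37735 : act 3 n18095 = n37735 := rfl
theorem F58596 : act 4 n36914 = n37735 := d20_2 D17774 D36914 (iv3 D37735) (iv1 D18095) (iv3 D8534) F29944 (iv1 D7481) F5408 (iv3 F5752) D8380
def n37739 : Q := act 4 n18096
theorem D37739 : act 4 n18096 = n37739 := rfl
theorem F58597 : act 2 n37739 = n18097 := d1_1 D37739 (iv4 D18097) D18096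
def n37740 : Q := act 5 n18096
theorem D37740 : act 5 n18096 = n37740 := rfl
theorem F58598 : act 2 n37740 = n18098 := d2_1 D37740 (iv5 D18098) D18096
def n37741 : Q := act 6 n18096
theorem D37741 : act 6 n18096 = n37741 := rfl
theorem F58599 : act 2 n37741 = n18099 := d3_1 D37741 (iv6 D18099) D18096
def n37742 : Q := act 0 n18097
theorem D37742 : act 0 n18097 = n37742 := rfl
def n37743 : Q := act 1 n18097
theorem D37743 : act 1 n18097 = n37743 := rfl
def n37744 : Q := act 5 n18097
theorem D37744 : act 5 n18097 = n37744 := rfl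
def n37745 : Q := act 6 n18097
theorem D37745 : act 6 n18097 = n37745 := rfl
theorem F58600 : act 4 n37745 = n18099 := d10_1 D37745 (iv6 D18099) D18097
def n37746 : Q := act 0 n18098
theorem D37746 : act 0 n18098 = n37746 := rfl
def n37747 : Q := act 1 n18098
theorem D37747 : act 1 n18098 = n37747 := rfl
def n37749 : Q := act 0 n18099
theorem D37749 : act 0 n18099 = n37749 := rfl
def n37750 : Q := act 1 n18099
theorem D37750 : act 1 n18099 = n37750 := rfl
def n37752 : Q := act 0 n18107
theorem D37752 : act 0 n18107 = n37752 := rfl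
def n37753 : Q := act 1 n18107
theorem D37753 : act 1 n18107 = n37753 := rfl
def n37754 : Q := act 2 n18107
theorem D37754 : act 2 n18107 = n37754 := rfl
def n37755 : Q := act 4 n18107
theorem D37755 : act 4 n18107 = n37755 := rfl
def n37756 : Q := act 5 n18107
theorem D37756 : act 5 n18107 = n37756 := rfl
theorem F58601 : act 3 n37756 = n18109 := d6_1 D37756 (iv5 D18109) D18107
theorem F58602 : act 6 n37756 = n18773 := d12_2 (iv6 F44154) D37756 F44156 (iv6 D27297) D27296
def n37757 : Q := act 0 n18111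
theorem D37757 : act 0 n18111 = n37757 := rfl
def n37758 : Q := act 1 n18111
theorem D37758 : act 1 n18111 = n37758 := rfl
def n37759 : Q := act 2 n18111
theorem D37759 : act 2 n18111 = n37759 := rfl
def n37760 : Q := act 4 n18111
theorem D37760 : act 4 n18111 = n37760 := rfl
def n37761 : Q := act 6 n18111
theorem D37761 : act 6 n18111 = n37761 := rfl
theorem F58604 : act 3 n37761 = n18113 := d7_1 D37761 (iv6 D18113) D18111
def n37763 : Q := act 5 n18114
theorem D37763 : act 5 n18114 = n37763 := rfl
theorem F58607 : act 2 n37763 = n37065 := d2_1 D37763 (iv5 D37065) F30534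
theorem F58608 : act 7 n37763 = n37072 := d13_2 F30537 D37763 (iv5 D37072)
def n37765 : Q := act 5 n18115
theorem D37765 : act 5 n18115 = n37765 := rfl
def n37766 : Q := act 6 n18115
theorem D37766 : act 6 n18115 = n37766 := rfl
theorem F58612 : act 2 n37766 = n37073 := d3_1 D37766 (iv6 D37073) (iv2 F30538)
theorem F58613 : act 4 n37766 = n27216 := d10_1 D37766 (iv6 D27216) (iv4 F30460)
def n37770 : Q := act 5 n18116
theorem D37770 : act 5 n18116 = n37770 := rfl
theorem F58616 : act 3 n37770 = n18117 := d6_1 D37770 (iv5 D18117) D18116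
def n37773 : Q := act 1 n18117
theorem D37773 : act 1 n18117 = n37773 := rfl
theorem F58623 : act 5 n37773 = n27213 := d17_7 (iv1 F29269) (iv5 D8536) (iv1 D3810) D3811 D8540 D18117 D37773 (iv0 F58579) (iv4 D37723)
def n37774 : Q := act 4 n18117
theorem D37774 : act 4 n18117 = n37774 := rfl
theorem F58625 : act 5 n37774 = n29761 := d16_3 D8540 D18117 D37774 F47860 F23626 F20898 (iv5 F21801) (iv7 D13084) F9690
theorem F58626 : act 7 n29760 = n37774 := d13_0 F58625 (iv7 D29761) D29760
def n37775 : Q := act 7 n18117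
theorem D37775 : act 7 n18117 = n37775 := rfl
theorem F58627 : act 4 n37775 = n29760 := d11_1 D37775 F58626 (iv4 D37774)
theorem F58628 : act 5 n37775 = n18118 := d13_1 D37775 (iv7 D18118) D18117
def n37776 : Q := act 2 n18119
theorem D37776 : act 2 n18119 = n37776 := rfl
theorem F58631 : act 7 n18120 = n37776 := d15_2 (iv0 D18119) D18120 (iv2 D37776)
def n37777 : Q := act 3 n18119
theorem D37777 : act 3 n18119 = n37777 := rfl
def n37778 : Q := act 4 n18119
theorem D37778 : act 4 n18119 = n37778 := rfl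
def n37779 : Q := act 5 n18119
theorem D37779 : act 5 n18119 = n37779 := rfl
def n37781 : Q := act 7 n18119
theorem D37781 : act 7 n18119 = n37781 := rfl
theorem F58632 : act 2 n37781 = n18120 := d4_1 D37781 F58631 (iv2 D37776)
def n37782 : Q := act 3 n18120
theorem D37782 : act 3 n18120 = n37782 := rfl
def n37783 : Q := act 4 n18120
theorem D37783 : act 4 n18120 = n37783 := rfl
def n37784 : Q := act 5 n18120
theorem D37784 : act 5 n18120 = n37784 := rfl
def n37786 : Q := act 0 n18122
theorem D37786 : act 0 n18122 = n37786 := rfl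
theorem F58633 : act 1 n18254 = n37786 := d15_0 (iv0 D37786) F29286 D18254
def n37787 : Q := act 1 n18122
theorem D37787 : act 1 n18122 = n37787 := rfl
theorem F58634 : act 1 n37787 = n18254 := d15_1 D37787 (iv7 F42511) F42509
def n37788 : Q := act 6 n18122
theorem D37788 : act 6 n18122 = n37788 := rfl
theorem F58635 : act 3 n37788 = n18123 := d7_1 D37788 (iv6 D18123) D18122
def n37789 : Q := act 0 n18123
theorem D37789 : act 0 n18123 = n37789 := rfl
def n37790 : Q := act 1 n18123
theorem D37790 : act 1 n18123 = n37790 := rfl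
theorem F58636 : act 1 n37790 = n18403 := d15_1 D37790 F29569 (iv2 F29287)
def n37791 : Q := act 5 n18123
theorem D37791 : act 5 n18123 = n37791 := rfl
theorem F58637 : act 2 n37791 = n18406 := d2_1 D37791 (iv5 D18406) (iv2 F29287)
theorem F58638 : act 6 n37791 = n22732 := d12_2 D18123 D37791 (iv5 D22732) (iv6 D10752) (iv5 F13299)
def n37792 : Q := act 7 n18123
theorem D37792 : act 7 n18123 = n37792 := rfl
theorem F58639 : act 2 n37792 = n18403 := d4_1 D37792 F29569 (iv2 F29287)
theorem F58640 : act 4 n37792 = n18127 := d11_1 D37792 (iv7 D18127) (iv4 F29288)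
theorem F58641 : act 6 n37792 = n18261 := d14_1 D37792 (iv7 D18261) (iv6 D8613) (iv7 F13298) D18123
theorem F58642 : act 1 n18403 = n37789 := d15_0 (iv0 D37789) D37792 F58639
theorem F58643 : act 1 n18405 = n37792 := d15_1 D18405 (iv7 D37792) F29287
theorem F58644 : act 1 n37792 = n18404 := d15_0 (iv0 D18404) (iv7 F29569) (iv2 F58639)
def n37793 : Q := act 2 n18124
theorem D37793 : act 2 n18124 = n37793 := rfl
theorem F58645 : act 7 n18125 = n37793 := d15_2 (iv0 D18124) D18125 (iv2 D37793)
def n37794 : Q := act 3 n18124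
theorem D37794 : act 3 n18124 = n37794 := rfl
def n37795 : Q := act 4 n18124
theorem D37795 : act 4 n18124 = n37795 := rfl
def n37796 : Q := act 5 n18124
theorem D37796 : act 5 n18124 = n37796 := rfl
def n37797 : Q := act 6 n18124
theorem D37797 : act 6 n18124 = n37797 := rfl
theorem F58646 : act 5 n37797 = n34662 := d21_6 (iv5 D1671) D1667 D3814 D8544 D18124 D37797 (iv1 D34662) (iv5 D16787) (iv6 D7835) F6938
def n37798 : Q := act 7 n18124
theorem D37798 : act 7 n18124 = n37798 := rfl
def n37799 : Q := act 3 n18125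
theorem D37799 : act 3 n18125 = n37799 := rfl
theorem F58648 : act 4 n37799 = n35611 := d20_6 (iv4 D7606) (iv1 F9362) F9358 (iv3 F13582) (iv1 F29289) D37799 (iv1 D35611) F28202 F12874 (iv1 F28953)
def n37800 : Q := act 4 n18125
theorem D37800 : act 4 n18125 = n37800 := rfl
def n37801 : Q := act 5 n18125
theorem D37801 : act 5 n18125 = n37801 := rfl
def n37802 : Q := act 6 n18125
theorem D37802 : act 6 n18125 = n37802 := rfl
def n37803 : Q := act 0 n18126
theorem D37803 : act 0 n18126 = n37803 := rfl
def n37804 : Q := act 4 n18126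
theorem D37804 : act 4 n18126 = n37804 := rfl
theorem F58649 : act 2 n37804 = n18461 := d1_1 D37804 (iv4 D18461) (iv2 F29290)
theorem F58650 : act 6 n37804 = n18128 := d10_2 (iv6 F29291) D37804 (iv4 D18128)
def n37805 : Q := act 7 n18126
theorem D37805 : act 7 n18126 = n37805 := rfl
theorem F58651 : act 2 n37805 = n18448 := d4_1 D37805 F29638 (iv2 F29290)
theorem F58652 : act 5 n37805 = n18127 := d13_1 D37805 (iv7 D18127) D18126
theorem F58653 : act 1 n18448 = n37803 := d15_0 (iv0 D37803) D37805 F58651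
theorem F58654 : act 1 n18460 = n37805 := d15_1 D18460 (iv7 D37805) F29290
theorem F58655 : act 1 n37805 = n18459 := d15_0 (iv0 D18459) (iv7 F29638) (iv2 F58651)
def n37806 : Q := act 3 n18128
theorem D37806 : act 3 n18128 = n37806 := rfl
def n37807 : Q := act 5 n18128
theorem D37807 : act 5 n18128 = n37807 := rfl
theorem F58656 : act 2 n37807 = n18475 := d2_1 D37807 (iv5 D18475) (iv2 F29297)
theorem F58657 : act 4 n37807 = n19717 := d9_1 D37807 (iv5 D19717) (iv4 D9253) (iv5 D4184) (iv4 F5579) D7837 D16790 D34670 F54925 (iv5 D21876) (iv4 D10433) (iv5 D4725) (iv4 F5808) D8545 D18128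
theorem F58658 : act 7 n37807 = n22978 := d13_2 F54663 D37807 (iv5 F54664)
def n37808 : Q := act 5 n18129
theorem D37808 : act 5 n18129 = n37808 := rfl
theorem F58659 : act 0 n37808 = n35198 := d17_2 F30140 D37808 (iv5 D35198) (iv4 D17087) (iv5 F13310) (iv0 D3939) D3942 D8847 D18888
theorem F58660 : act 1 n37808 = n35204 := d17_6 (iv1 F27474) F27472 F13053 D8546 D18129 D37808 (iv5 D35204) (iv0 F29192) (iv4 D18021)
def n37809 : Q := act 6 n18129
theorem D37809 : act 6 n18129 = n37809 := rfl
theorem F58661 : act 4 n37809 = n18130 := d10_1 D37809 (iv6 D18130) D18129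
def n37810 : Q := act 0 n18130
theorem D37810 : act 0 n18130 = n37810 := rfl
def n37811 : Q := act 1 n18130
theorem D37811 : act 1 n18130 = n37811 := rfl
def n37812 : Q := act 7 n18130
theorem D37812 : act 7 n18130 = n37812 := rfl
def n37813 : Q := act 0 n18131
theorem D37813 : act 0 n18131 = n37813 := rfl
def n37814 : Q := act 1 n18131
theorem D37814 : act 1 n18131 = n37814 := rfl
theorem F58662 : act 1 n37814 = n18139 := d15_1 D37814 (iv7 D18139) (iv2 F29298)
def n37815 : Q := act 7 n18131
theorem D37815 : act 7 n18131 = n37815 := rfl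
theorem F58663 : act 2 n37815 = n18139 := d4_1 D37815 (iv7 D18139) (iv2 F29298)
theorem F58664 : act 5 n37815 = n37815 := d13_1 D37815 (iv7 D37815) F29299
theorem F58665 : act 1 n18139 = n37813 := d15_0 (iv0 D37813) D37815 F58663
theorem F58666 : act 1 n18138 = n37815 := d15_1 D18138 (iv7 D37815) F29298
theorem F58667 : act 1 n37815 = n18137 := d15_0 (iv0 D18137) D18139 (iv2 F58663)
def n37816 : Q := act 5 n18132
theorem D37816 : act 5 n18132 = n37816 := rfl
theorem F58668 : act 0 n37816 = n35174 := d17_2 (iv1 F29301) D37816 (iv5 D35174) (iv4 D17077) (iv5 D7989) (iv0 D3616) D3619 D7997 D17089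
theorem F58669 : act 1 n37816 = n35182 := d17_6 F21748 F13532 (iv1 F12839) (iv5 F13306) D18132 D37816 (iv5 D35182) (iv0 F44050) (iv4 D27233)
def n37817 : Q := act 6 n18132
theorem D37817 : act 6 n18132 = n37817 := rfl
theorem F58670 : act 4 n37817 = n18133 := d10_1 D37817 (iv6 D18133) D18132
def n37818 : Q := act 0 n18133
theorem D37818 : act 0 n18133 = n37818 := rfl
def n37819 : Q := act 1 n18133
theorem D37819 : act 1 n18133 = n37819 := rfl
def n37820 : Q := act 5 n18133
theorem D37820 : act 5 n18133 = n37820 := rfl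
theorem F58671 : act 3 n37820 = n35315 := d6_1 D37820 (iv5 D35315) (iv3 F29302)
theorem F58672 : act 6 n37820 = n35312 := d12_2 D18133 D37820 (iv5 D35312) (iv6 D17141) (iv5 F13306)
def n37821 : Q := act 7 n18133
theorem D37821 : act 7 n18133 = n37821 := rfl
theorem F58673 : act 3 n37821 = n35316 := d8_1 D37821 (iv7 D35316) (iv3 F29302)
def n37822 : Q := act 0 n18134
theorem D37822 : act 0 n18134 = n37822 := rfl
def n37823 : Q := act 1 n18134
theorem D37823 : act 1 n18134 = n37823 := rfl
def n37824 : Q := act 2 n18134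
theorem D37824 : act 2 n18134 = n37824 := rfl
theorem F58674 : act 4 n37824 = n18159 := d1_2 (iv4 F29303) D37824 (iv2 D18159)
def n37825 : Q := act 6 n18134
theorem D37825 : act 6 n18134 = n37825 := rfl
theorem F58675 : act 3 n37825 = n18136 := d7_1 D37825 (iv6 D18136) D18134
theorem F58676 : act 4 n37825 = n18160 := d10_1 D37825 (iv6 D18160) (iv4 F29303)
def n37826 : Q := act 6 n18135
theorem D37826 : act 6 n18135 = n37826 := rfl
def n37827 : Q := act 0 n18136
theorem D37827 : act 0 n18136 = n37827 := rfl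
def n37828 : Q := act 1 n18136
theorem D37828 : act 1 n18136 = n37828 := rfl
def n37829 : Q := act 5 n18136
theorem D37829 : act 5 n18136 = n37829 := rfl
def n37830 : Q := act 7 n18136
theorem D37830 : act 7 n18136 = n37830 := rfl
theorem F58677 : act 4 n37830 = n18139 := d11_1 D37830 (iv7 D18139) (iv4 F29305)
def n37831 : Q := act 2 n18137
theorem D37831 : act 2 n18137 = n37831 := rfl
theorem F58678 : act 7 n18138 = n37831 := d15_2 (iv0 D18137) D18138 (iv2 D37831)
def n37832 : Q := act 3 n18137
theorem D37832 : act 3 n18137 = n37832 := rfl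
def n37833 : Q := act 4 n18137
theorem D37833 : act 4 n18137 = n37833 := rfl
def n37834 : Q := act 5 n18137
theorem D37834 : act 5 n18137 = n37834 := rfl
def n37835 : Q := act 6 n18137
theorem D37835 : act 6 n18137 = n37835 := rfl
def n37836 : Q := act 7 n18137
theorem D37836 : act 7 n18137 = n37836 := rfl
theorem F58679 : act 2 n37836 = n18138 := d4_1 D37836 F58678 (iv2 D37831)
def n37837 : Q := act 3 n18138
theorem D37837 : act 3 n18138 = n37837 := rfl
def n37838 : Q := act 4 n18138
theorem D37838 : act 4 n18138 = n37838 := rfl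
def n37839 : Q := act 5 n18138
theorem D37839 : act 5 n18138 = n37839 := rfl
def n37840 : Q := act 6 n18138
theorem D37840 : act 6 n18138 = n37840 := rfl
def n37841 : Q := act 0 n18141
theorem D37841 : act 0 n18141 = n37841 := rfl
def n37842 : Q := act 1 n18141
theorem D37842 : act 1 n18141 = n37842 := rfl
theorem F58680 : act 1 n37842 = n20496 := d15_1 D37842 (iv7 D20496) (iv2 F29310)
def n37843 : Q := act 5 n18141
theorem D37843 : act 5 n18141 = n37843 := rfl
theorem F58681 : act 2 n37843 = n20129 := d2_1 D37843 F31961 (iv2 F29310)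
theorem F58682 : act 3 n37843 = n37185 := d6_1 D37843 (iv5 D37185) (iv3 F29311)
theorem F58683 : act 6 n37843 = n18142 := d12_2 D18141 D37843 (iv5 D18142) (iv6 D8555) D8554
def n37844 : Q := act 7 n18141
theorem D37844 : act 7 n18141 = n37844 := rfl
theorem F58684 : act 2 n37844 = n20496 := d4_1 D37844 (iv7 D20496) (iv2 F29310)
theorem F58685 : act 3 n37844 = n37186 := d8_1 D37844 (iv7 D37186) (iv3 F29311)
theorem F58686 : act 6 n37844 = n22758 := d14_1 D37844 F35829 (iv6 D19152) F13990 D18141
theorem F58687 : act 1 n20496 = n37841 := d15_0 (iv0 D37841) D37844 F58684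
theorem F58688 : act 1 n20495 = n37844 := d15_1 D20495 (iv7 D37844) F29310
theorem F58689 : act 1 n37844 = n20494 := d15_0 (iv0 D20494) D20496 (iv2 F58684)
def n37845 : Q := act 0 n18143
theorem D37845 : act 0 n18143 = n37845 := rfl
def n37846 : Q := act 1 n18143
theorem D37846 : act 1 n18143 = n37846 := rfl
def n37847 : Q := act 7 n18143
theorem D37847 : act 7 n18143 = n37847 := rfl
theorem F58690 : act 3 n37847 = n18149 := d8_1 D37847 (iv7 D18149) (iv3 F29314)
theorem F58691 : act 5 n37847 = n37847 := d13_1 D37847 (iv7 D37847) F29315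
def n37848 : Q := act 1 n18144
theorem D37848 : act 1 n18144 = n37848 := rfl
theorem F58692 : act 1 n37848 = n19901 := d15_1 D37848 (iv7 D19901) (iv2 F29316)
theorem F58693 : act 4 n19528 = n37848 := d18_7 (iv1 F34835) (iv4 D22327) (iv1 D10630) F7032 (iv5 F6067) (iv4 F14340) D19528 F58692 (iv5 F35621)
theorem F58694 : act 3 n37848 = n20383 := d20_3 (iv4 F14430) (iv1 F31262) F58693 (iv1 D20383) F15047 (iv4 F15077) D20399 F35864 (iv3 D19532) (iv1 F14345)
def n37849 : Q := act 7 n18144
theorem D37849 : act 7 n18144 = n37849 := rfl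
theorem F58695 : act 2 n37849 = n19901 := d4_1 D37849 (iv7 D19901) (iv2 F29316)
theorem F58696 : act 5 n37849 = n22758 := d13_1 D37849 F35829 F30771
theorem F58697 : act 1 n19900 = n37849 := d15_1 D19900 (iv7 D37849) F29316
theorem E5870 : n19900 = n19643 := ((c18_8 (iv1 F35307) (iv4 D10765) (iv1 D4919) F3318 (iv5 F3037) (iv4 F6072) D9232 D19643 F58697 F58696)).symm
theorem F58698 : act 0 n19643 = n9367 := (sb E5870 (iv1 D19900))
theorem F58699 : act 1 n19643 = n37849 := (sb E5870 F58697)
theorem F58700 : act 5 n22770 = n19646 := d17_5 F58698 F17013 F35827 D22761 (iv4 F35337) (iv0 D19646) (iv5 D9233) D9232 D19643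
theorem F58701 : act 7 n19646 = n22769 := d13_2 D22770 F58700 (iv5 D22769)
theorem F58702 : act 1 n37849 = n19638 := d15_0 F35826 D19901 (iv2 F58695)
def n37850 : Q := act 0 n18145
theorem D37850 : act 0 n18145 = n37850 := rfl
theorem F58703 : act 5 n37850 = n34558 := d19_1 D37850 (iv4 D34558) (iv3 D16756) (iv1 F27397) F27394 (iv4 D9228) (iv3 F14422) (iv1 F17261) (iv5 D10736) (iv4 F16197) F16198 (iv1 F7244) (iv5 D4466) (iv4 D1869) D1868 F6379 D3831 D8558 D18145
theorem F58704 : act 3 n37850 = n21898 := d20_5 F14360 F12195 D8558 D18145 D37850 (iv4 F34434) F34435 F31278 (iv3 D9202) D9200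
theorem F58705 : act 1 n19601 = n37850 := d15_0 (iv0 D37850) F29318 D19601
theorem F58706 : act 7 n19599 = n37850 := d8_0 F58704 (iv7 F34433) F34432
def n37851 : Q := act 1 n18145
theorem D37851 : act 1 n18145 = n37851 := rfl
def n37852 : Q := act 2 n18145
theorem D37852 : act 2 n18145 = n37852 := rfl
theorem F58707 : act 3 n37852 = n19612 := d0_2 D18145 D37852 (iv2 D19612) (iv3 D9221) (iv2 F13391)
theorem F58708 : act 4 n37852 = n21638 := d1_2 F33470 D37852 (iv2 F34052)
theorem F58709 : act 5 n37852 = n22712 := d2_2 (iv5 F29317) D37852 (iv2 D22712)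
theorem F58710 : act 7 n37852 = n19601 := d4_2 (iv7 F29318) D37852 (iv2 D19601)
theorem F58711 : act 1 n37852 = n19599 := d15_0 (iv0 D19599) (iv7 F29318) D37852
theorem F58712 : act 1 n37851 = n19601 := d15_1 D37851 (iv7 F58710) (iv2 D37852)
theorem F58713 : act 2 n19599 = n37851 := d15_3 F58712 F58705 (iv7 F58706)
theorem F58714 : act 7 n19600 = n37851 := d15_2 (iv0 D19599) D19600 (iv2 F58713)
theorem F58715 : act 2 n37850 = n19600 := d4_3 F58714 (iv2 F58713) F58706
theorem F58716 : act 5 n19600 = n22601 := d2_2 (iv5 F58703) F58715 (iv2 F54813)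
theorem F58717 : act 1 n19600 = n37852 := d15_0 F58711 F58706 F58715
def n37853 : Q := act 6 n18145
theorem D37853 : act 6 n18145 = n37853 := rfl
theorem F58718 : act 3 n37853 = n18146 := d7_1 D37853 (iv6 D18146) D18145
def n37854 : Q := act 0 n18146
theorem D37854 : act 0 n18146 = n37854 := rfl
def n37855 : Q := act 1 n18146
theorem D37855 : act 1 n18146 = n37855 := rfl
theorem F58719 : act 1 n37855 = n19619 := d15_1 D37855 (iv7 D19619) (iv2 F29319)
def n37856 : Q := act 5 n18146
theorem D37856 : act 5 n18146 = n37856 := rfl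
theorem F58720 : act 2 n37856 = n19618 := d2_1 D37856 (iv5 D19618) (iv2 F29319)
theorem F58721 : act 6 n37856 = n22717 := d12_2 D18146 D37856 (iv5 D22717) (iv6 D10748) (iv5 F13392)
def n37857 : Q := act 7 n18146
theorem D37857 : act 7 n18146 = n37857 := rfl
theorem F58722 : act 2 n37857 = n19619 := d4_1 D37857 (iv7 D19619) (iv2 F29319)
theorem F58723 : act 4 n37857 = n18149 := d11_1 D37857 (iv7 D18149) (iv4 F29320)
theorem F58724 : act 6 n37857 = n19609 := d14_1 D37857 (iv7 D19609) (iv6 D9220) (iv7 F13400) D18146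
theorem F58725 : act 1 n19619 = n37854 := d15_0 (iv0 D37854) D37857 F58722
theorem F58727 : act 1 n37857 = n19616 := d15_0 (iv0 D19616) D19619 (iv2 F58722)
def n37859 : Q := act 3 n18147
theorem D37859 : act 3 n18147 = n37859 := rfl
def n37860 : Q := act 4 n18147
theorem D37860 : act 4 n18147 = n37860 := rfl
def n37861 : Q := act 5 n18147
theorem D37861 : act 5 n18147 = n37861 := rfl
def n37862 : Q := act 6 n18147
theorem D37862 : act 6 n18147 = n37862 := rfl
def n37866 : Q := act 5 n18148
theorem D37866 : act 5 n18148 = n37866 := rfl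
theorem F58730 : act 6 n19266 = n37866 := d21_5 F13388 (iv1 F12194) F7007 D9060 D19266 (iv5 D37866) (iv1 D18148) F13395 (iv6 D8559) D8557
def n37868 : Q := act 6 n18149
theorem D37868 : act 6 n18149 = n37868 := rfl
theorem F58731 : act 2 n37868 = n18197 := d3_1 D37868 (iv6 F30778) F30775
theorem F58732 : act 4 n37868 = n19609 := d10_1 D37868 (iv6 F58724) F58723
theorem F58733 : act 7 n37868 = n18150 := d14_2 D18149 D37868 (iv6 D18150) (iv7 D8560) D8559
theorem F58734 : act 1 n18195 = n37868 := d15_1 D18195 F58733 F29322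
theorem F58735 : act 1 n37868 = n18194 := d15_0 (iv0 D18194) D18197 (iv2 F58731)
def n37869 : Q := act 0 n18150
theorem D37869 : act 0 n18150 = n37869 := rfl
theorem F58736 : act 1 n18197 = n37869 := d15_0 (iv0 D37869) (iv7 F58733) F58731
def n37870 : Q := act 1 n18150
theorem D37870 : act 1 n18150 = n37870 := rfl
theorem F58737 : act 1 n37870 = n18197 := d15_1 D37870 (iv7 D18197) (iv2 F29322)
def n37871 : Q := act 5 n18150
theorem D37871 : act 5 n18150 = n37871 := rfl
theorem F58738 : act 2 n37871 = n18196 := d2_1 D37871 (iv5 D18196) (iv2 F29322)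
theorem F58739 : act 6 n37871 = n18151 := d12_2 D18150 D37871 (iv5 D18151) (iv6 D8561) (iv5 F13397)
def n37872 : Q := act 0 n18152
theorem D37872 : act 0 n18152 = n37872 := rfl
def n37873 : Q := act 1 n18152
theorem D37873 : act 1 n18152 = n37873 := rfl
def n37874 : Q := act 2 n18152
theorem D37874 : act 2 n18152 = n37874 := rfl
theorem F58740 : act 4 n37874 = n36847 := d1_2 (iv4 F29327) D37874 (iv2 D36847)
def n37875 : Q := act 5 n18152
theorem D37875 : act 5 n18152 = n37875 := rfl
theorem F58741 : act 3 n37875 = n18153 := d6_1 D37875 (iv5 D18153) D18152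
def n37876 : Q := act 6 n18152
theorem D37876 : act 6 n18152 = n37876 := rfl
theorem F58742 : act 3 n37876 = n18154 := d7_1 D37876 (iv6 D18154) D18152
theorem F58743 : act 4 n37876 = n36849 := d10_1 D37876 (iv6 D36849) (iv4 F29327)
def n37877 : Q := act 6 n18153
theorem D37877 : act 6 n18153 = n37877 := rfl
theorem F58744 : act 4 n37877 = n22401 := d10_1 D37877 (iv6 D22401) (iv4 F29328)
def n37878 : Q := act 0 n18154
theorem D37878 : act 0 n18154 = n37878 := rfl
def n37879 : Q := act 1 n18154
theorem D37879 : act 1 n18154 = n37879 := rfl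
def n37880 : Q := act 5 n18154
theorem D37880 : act 5 n18154 = n37880 := rfl
def n37881 : Q := act 7 n18154
theorem D37881 : act 7 n18154 = n37881 := rfl
theorem F58745 : act 4 n37881 = n36844 := d11_1 D37881 (iv7 D36844) (iv4 F29329)
def n37882 : Q := act 2 n18155
theorem D37882 : act 2 n18155 = n37882 := rfl
def n37883 : Q := act 6 n18155
theorem D37883 : act 6 n18155 = n37883 := rfl
theorem F58746 : act 3 n37883 = n18157 := d7_1 D37883 (iv6 D18157) D18155
def n37884 : Q := act 6 n18156
theorem D37884 : act 6 n18156 = n37884 := rfl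
theorem F58747 : act 4 n37884 = n22403 := d10_1 D37884 (iv6 D22403) (iv4 F29330)
def n37885 : Q := act 0 n18157
theorem D37885 : act 0 n18157 = n37885 := rfl
def n37886 : Q := act 1 n18157
theorem D37886 : act 1 n18157 = n37886 := rfl
def n37887 : Q := act 5 n18157
theorem D37887 : act 5 n18157 = n37887 := rfl
def n37888 : Q := act 7 n18157
theorem D37888 : act 7 n18157 = n37888 := rfl
def n37889 : Q := act 3 n18158
theorem D37889 : act 3 n18158 = n37889 := rfl
def n37890 : Q := act 6 n18158
theorem D37890 : act 6 n18158 = n37890 := rfl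
def n37891 : Q := act 6 n18159
theorem D37891 : act 6 n18159 = n37891 := rfl
theorem F58748 : act 2 n37891 = n18160 := d3_1 D37891 (iv6 D18160) D18159
def n37892 : Q := act 0 n18160
theorem D37892 : act 0 n18160 = n37892 := rfl
def n37893 : Q := act 1 n18160
theorem D37893 : act 1 n18160 = n37893 := rfl
def n37894 : Q := act 5 n18160
theorem D37894 : act 5 n18160 = n37894 := rfl
theorem F58749 : act 3 n37894 = n18166 := d6_1 D37894 (iv5 D18166) (iv3 F29331)
def n37895 : Q := act 7 n18160
theorem D37895 : act 7 n18160 = n37895 := rfl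
theorem F58750 : act 3 n37895 = n18167 := d8_1 D37895 (iv7 D18167) (iv3 F29331)
def n37896 : Q := act 3 n18161
theorem D37896 : act 3 n18161 = n37896 := rfl
theorem F58751 : act 5 n37896 = n18280 := d6_2 (iv5 F29332) D37896 (iv3 D18280)
def n37897 : Q := act 6 n18161
theorem D37897 : act 6 n18161 = n37897 := rfl
def n37898 : Q := act 6 n18162
theorem D37898 : act 6 n18162 = n37898 := rfl
def n37899 : Q := act 0 n18163
theorem D37899 : act 0 n18163 = n37899 := rfl
def n37900 : Q := act 1 n18163
theorem D37900 : act 1 n18163 = n37900 := rfl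
def n37901 : Q := act 5 n18163
theorem D37901 : act 5 n18163 = n37901 := rfl
theorem F58752 : act 6 n37901 = n18166 := d12_2 D18163 D37901 (iv5 D18166) (iv6 D8566) D8565
def n37902 : Q := act 7 n18163
theorem D37902 : act 7 n18163 = n37902 := rfl
theorem F58753 : act 4 n37902 = n22725 := d11_1 D37902 (iv7 D22725) (iv4 F29336)
def n37903 : Q := act 2 n18164
theorem D37903 : act 2 n18164 = n37903 := rfl
theorem F58754 : act 7 n18165 = n37903 := d15_2 (iv0 D18164) D18165 (iv2 D37903)
def n37904 : Q := act 3 n18164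
theorem D37904 : act 3 n18164 = n37904 := rfl
def n37905 : Q := act 4 n18164
theorem D37905 : act 4 n18164 = n37905 := rfl
def n37906 : Q := act 5 n18164
theorem D37906 : act 5 n18164 = n37906 := rfl
def n37907 : Q := act 6 n18164
theorem D37907 : act 6 n18164 = n37907 := rfl
def n37908 : Q := act 7 n18164
theorem D37908 : act 7 n18164 = n37908 := rfl
def n37909 : Q := act 3 n18165
theorem D37909 : act 3 n18165 = n37909 := rfl
def n37910 : Q := act 4 n18165
theorem D37910 : act 4 n18165 = n37910 := rfl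
def n37911 : Q := act 5 n18165
theorem D37911 : act 5 n18165 = n37911 := rfl
def n37912 : Q := act 6 n18165
theorem D37912 : act 6 n18165 = n37912 := rfl
def n37913 : Q := act 0 n18166
theorem D37913 : act 0 n18166 = n37913 := rfl
def n37914 : Q := act 1 n18166
theorem D37914 : act 1 n18166 = n37914 := rfl
def n37915 : Q := act 4 n18166
theorem D37915 : act 4 n18166 = n37915 := rfl
def n37916 : Q := act 7 n18166
theorem D37916 : act 7 n18166 = n37916 := rfl
theorem F58756 : act 5 n37916 = n18167 := d13_1 D37916 (iv7 D18167) D18166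
def n37920 : Q := act 4 n18168
theorem D37920 : act 4 n18168 = n37920 := rfl
theorem F58760 : act 2 n37920 = n18170 := d1_1 D37920 (iv4 D18170) D18168
theorem F58761 : act 7 n37920 = n18175 := d11_2 F29338 D37920 (iv4 D18175)
def n37921 : Q := act 5 n18168
theorem D37921 : act 5 n18168 = n37921 := rfl
theorem F58762 : act 2 n37921 = n18171 := d2_1 D37921 (iv5 D18171) D18168
theorem F58763 : act 7 n37921 = n18176 := d13_2 F29338 D37921 (iv5 D18176)
def n37922 : Q := act 6 n18168
theorem D37922 : act 6 n18168 = n37922 := rfl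
theorem F58764 : act 2 n37922 = n18172 := d3_1 D37922 (iv6 D18172) D18168
def n37929 : Q := act 7 n18169
theorem D37929 : act 7 n18169 = n37929 := rfl
theorem F58767 : act 3 n37929 = n18173 := d8_1 D37929 (iv7 D18173) D18169
def n37930 : Q := act 0 n18170
theorem D37930 : act 0 n18170 = n37930 := rfl
def n37931 : Q := act 1 n18170
theorem D37931 : act 1 n18170 = n37931 := rfl
theorem F58768 : act 1 n37931 = n18175 := d15_1 D37931 (iv7 F58761) F58760
def n37932 : Q := act 3 n18170
theorem D37932 : act 3 n18170 = n37932 := rfl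
def n37933 : Q := act 5 n18170
theorem D37933 : act 5 n18170 = n37933 := rfl
def n37934 : Q := act 6 n18170
theorem D37934 : act 6 n18170 = n37934 := rfl
theorem F58769 : act 4 n37934 = n18172 := d10_1 D37934 (iv6 D18172) D18170
def n37935 : Q := act 7 n18170
theorem D37935 : act 7 n18170 = n37935 := rfl
theorem F58770 : act 2 n37935 = n18175 := d4_1 D37935 (iv7 F58761) F58760
theorem F58771 : act 4 n37935 = n18173 := d11_1 D37935 (iv7 D18173) D18170
theorem F58772 : act 1 n18175 = n37930 := d15_0 (iv0 D37930) D37935 F58770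
def n37936 : Q := act 4 n18171
theorem D37936 : act 4 n18171 = n37936 := rfl
def n37937 : Q := act 6 n18171
theorem D37937 : act 6 n18171 = n37937 := rfl
theorem F58773 : act 0 n37937 = n37797 := d21_10 F58646 (iv1 D34662) (iv5 D16787) (iv6 D7835) F6938 D3837 F7215 D8567 D18171 D37937
def n37938 : Q := act 7 n18171
theorem D37938 : act 7 n18171 = n37938 := rfl
theorem F58774 : act 2 n37938 = n18176 := d4_1 D37938 (iv7 F58763) F58762
theorem F58775 : act 5 n37938 = n18173 := d13_1 D37938 (iv7 D18173) D18171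
def n37939 : Q := act 0 n18172
theorem D37939 : act 0 n18172 = n37939 := rfl
def n37940 : Q := act 7 n18172
theorem D37940 : act 7 n18172 = n37940 := rfl
def n37941 : Q := act 6 n18173
theorem D37941 : act 6 n18173 = n37941 := rfl
theorem F58776 : act 2 n37941 = n18177 := d3_1 D37941 (iv6 D18177) (iv2 F29339)
def n37946 : Q := act 5 n18174
theorem D37946 : act 5 n18174 = n37946 := rfl
theorem F58777 : act 3 n37946 = n18176 := d6_1 D37946 (iv5 D18176) D18174
def n37947 : Q := act 6 n18174
theorem D37947 : act 6 n18174 = n37947 := rfl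
theorem F58778 : act 3 n37947 = n18177 := d7_1 D37947 (iv6 D18177) D18174
def n37949 : Q := act 5 n18175
theorem D37949 : act 5 n18175 = n37949 := rfl
def n37950 : Q := act 6 n18175
theorem D37950 : act 6 n18175 = n37950 := rfl
theorem F58779 : act 4 n37950 = n18177 := d10_1 D37950 (iv6 D18177) D18175
def n37951 : Q := act 4 n18176
theorem D37951 : act 4 n18176 = n37951 := rfl
def n37952 : Q := act 0 n18177
theorem D37952 : act 0 n18177 = n37952 := rfl
theorem F58780 : act 5 n37952 = n18459 := d21_0 (iv1 F58655) F58652 F29293 (iv1 F13530) D8674 D18447 F29613 (iv5 D18176) D18177 D37952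
def n37953 : Q := act 1 n18177
theorem D37953 : act 1 n18177 = n37953 := rfl
def n37954 : Q := act 5 n18177
theorem D37954 : act 5 n18177 = n37954 := rfl
theorem F58781 : act 0 n37796 = n37954 := d21_1 D37796 (iv5 D37954) (iv6 D18177) (iv1 D8568) (iv6 D3837) (iv5 D1671) D1667 D3814 D8544 D18124
def n37955 : Q := act 7 n18177
theorem D37955 : act 7 n18177 = n37955 := rfl
def n37956 : Q := act 3 n18178
theorem D37956 : act 3 n18178 = n37956 := rfl
def n37957 : Q := act 5 n18178
theorem D37957 : act 5 n18178 = n37957 := rfl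
def n37958 : Q := act 0 n18179
theorem D37958 : act 0 n18179 = n37958 := rfl
def n37959 : Q := act 1 n18179
theorem D37959 : act 1 n18179 = n37959 := rfl
theorem F58785 : act 1 n37959 = n18190 := d15_1 D37959 (iv7 D18190) (iv2 F29342)
def n37960 : Q := act 5 n18179
theorem D37960 : act 5 n18179 = n37960 := rfl
theorem F58786 : act 2 n37960 = n18189 := d2_1 D37960 (iv5 D18189) (iv2 F29342)
theorem F58787 : act 6 n37960 = n18180 := d12_2 D18179 D37960 (iv5 D18180) (iv6 D8572) D8571
def n37961 : Q := act 7 n18179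
theorem D37961 : act 7 n18179 = n37961 := rfl
theorem F58788 : act 2 n37961 = n18190 := d4_1 D37961 (iv7 D18190) (iv2 F29342)
theorem F58789 : act 1 n18190 = n37958 := d15_0 (iv0 D37958) D37961 F58788
theorem F58790 : act 1 n18188 = n37961 := d15_1 D18188 (iv7 D37961) F29342
theorem F58791 : act 1 n37961 = n18187 := d15_0 (iv0 D18187) D18190 (iv2 F58788)
def n37962 : Q := act 4 n18180
theorem D37962 : act 4 n18180 = n37962 := rfl
theorem F58792 : act 2 n37962 = n18191 := d1_1 D37962 (iv4 D18191) (iv2 F29343)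
theorem F58793 : act 7 n37962 = n37962 := d11_2 F29344 D37962 (iv4 D37962)
def n37963 : Q := act 0 n18181
theorem D37963 : act 0 n18181 = n37963 := rfl
def n37964 : Q := act 1 n18181
theorem D37964 : act 1 n18181 = n37964 := rfl
theorem F58796 : act 1 n37964 = n27368 := d15_1 D37964 (iv7 D27368) (iv2 F29347)
def n37965 : Q := act 5 n18181
theorem D37965 : act 5 n18181 = n37965 := rfl
theorem F58797 : act 2 n37965 = n27367 := d2_1 D37965 (iv5 D27367) (iv2 F29347)
theorem F58798 : act 6 n37965 = n18182 := d12_2 D18181 D37965 (iv5 D18182) (iv6 D8574) D8573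
def n37966 : Q := act 7 n18181
theorem D37966 : act 7 n18181 = n37966 := rfl
theorem F58799 : act 2 n37966 = n27368 := d4_1 D37966 (iv7 D27368) (iv2 F29347)
theorem F58800 : act 1 n27368 = n37963 := d15_0 (iv0 D37963) D37966 F58799
theorem F58801 : act 1 n27366 = n37966 := d15_1 D27366 (iv7 D37966) F29347
theorem F58802 : act 1 n37966 = n27365 := d15_0 (iv0 D27365) D27368 (iv2 F58799)
def n37967 : Q := act 0 n18183
theorem D37967 : act 0 n18183 = n37967 := rfl
def n37968 : Q := act 1 n18183
theorem D37968 : act 1 n18183 = n37968 := rfl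
theorem F58803 : act 1 n37968 = n36034 := d15_1 D37968 (iv7 D36034) (iv2 F29351)
def n37969 : Q := act 7 n18183
theorem D37969 : act 7 n18183 = n37969 := rfl
theorem F58804 : act 2 n37969 = n36034 := d4_1 D37969 (iv7 D36034) (iv2 F29351)
theorem F58805 : act 6 n37969 = n36007 := d14_1 D37969 (iv7 D36007) (iv6 D17432) F13480 D18183
theorem F58806 : act 1 n36034 = n37967 := d15_0 (iv0 D37967) D37969 F58804
theorem F58807 : act 1 n36032 = n37969 := d15_1 D36032 (iv7 D37969) F29351
theorem F58808 : act 1 n37969 = n36031 := d15_0 (iv0 D36031) D36034 (iv2 F58804)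
def n37970 : Q := act 0 n18184
theorem D37970 : act 0 n18184 = n37970 := rfl
def n37971 : Q := act 1 n18184
theorem D37971 : act 1 n18184 = n37971 := rfl
def n37972 : Q := act 2 n18184
theorem D37972 : act 2 n18184 = n37972 := rfl
theorem F58809 : act 4 n37972 = n18202 := d1_2 (iv4 F29352) D37972 (iv2 D18202)
def n37973 : Q := act 5 n18184
theorem D37973 : act 5 n18184 = n37973 := rfl
theorem F58810 : act 3 n37973 = n18185 := d6_1 D37973 (iv5 D18185) D18184
def n37974 : Q := act 6 n18184
theorem D37974 : act 6 n18184 = n37974 := rfl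
theorem F58811 : act 3 n37974 = n18186 := d7_1 D37974 (iv6 D18186) D18184
theorem F58812 : act 4 n37974 = n18204 := d10_1 D37974 (iv6 D18204) (iv4 F29352)
def n37975 : Q := act 6 n18185
theorem D37975 : act 6 n18185 = n37975 := rfl
def n37976 : Q := act 0 n18186
theorem D37976 : act 0 n18186 = n37976 := rfl
def n37977 : Q := act 1 n18186
theorem D37977 : act 1 n18186 = n37977 := rfl
def n37978 : Q := act 5 n18186
theorem D37978 : act 5 n18186 = n37978 := rfl
def n37979 : Q := act 7 n18186
theorem D37979 : act 7 n18186 = n37979 := rfl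
theorem F58813 : act 4 n37979 = n18190 := d11_1 D37979 (iv7 D18190) (iv4 F29355)
def n37980 : Q := act 2 n18187
theorem D37980 : act 2 n18187 = n37980 := rfl
theorem F58814 : act 7 n18188 = n37980 := d15_2 (iv0 D18187) D18188 (iv2 D37980)
def n37981 : Q := act 3 n18187
theorem D37981 : act 3 n18187 = n37981 := rfl
def n37982 : Q := act 4 n18187
theorem D37982 : act 4 n18187 = n37982 := rfl
def n37983 : Q := act 5 n18187
theorem D37983 : act 5 n18187 = n37983 := rfl
def n37984 : Q := act 6 n18187
theorem D37984 : act 6 n18187 = n37984 := rfl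
def n37985 : Q := act 7 n18187
theorem D37985 : act 7 n18187 = n37985 := rfl
theorem F58815 : act 2 n37985 = n18188 := d4_1 D37985 F58814 (iv2 D37980)
def n37986 : Q := act 3 n18188
theorem D37986 : act 3 n18188 = n37986 := rfl
def n37987 : Q := act 4 n18188
theorem D37987 : act 4 n18188 = n37987 := rfl
def n37988 : Q := act 5 n18188
theorem D37988 : act 5 n18188 = n37988 := rfl
def n37989 : Q := act 6 n18188
theorem D37989 : act 6 n18188 = n37989 := rfl
def n37990 : Q := act 0 n18189
theorem D37990 : act 0 n18189 = n37990 := rfl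
def n37991 : Q := act 1 n18189
theorem D37991 : act 1 n18189 = n37991 := rfl
def n37992 : Q := act 4 n18189
theorem D37992 : act 4 n18189 = n37992 := rfl
def n37993 : Q := act 7 n18189
theorem D37993 : act 7 n18189 = n37993 := rfl
theorem F58817 : act 3 n37993 = n18223 := d8_1 D37993 (iv7 D18223) (iv3 F29356)
theorem F58818 : act 5 n37993 = n18190 := d13_1 D37993 (iv7 D18190) D18189
def n37994 : Q := act 3 n18191
theorem D37994 : act 3 n18191 = n37994 := rfl
theorem F58820 : act 4 n37994 = n18228 := d5_2 D18191 D37994 (iv3 D18228) (iv4 D8602) (iv3 F13487)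
def n37996 : Q := act 1 n18192
theorem D37996 : act 1 n18192 = n37996 := rfl
theorem F58823 : act 7 n37996 = n19611 := d15_2 F52830 D37996 (iv2 F52826)
theorem F58824 : act 5 n37996 = n32756 := d17_7 (iv1 D7376) (iv5 D3384) D3381 (iv5 F17284) F17283 (iv5 F29360) D37996 F51853 (iv4 D15683)
theorem F58825 : act 4 n37996 = n19611 := d17_9 (iv1 D19611) D19613 (iv1 F44837) F44835 F34759 F25811 (iv0 F25812) (iv5 F29360) D37996
theorem F58826 : act 2 n19610 = n37996 := d1_3 F58825 (iv2 F52826) F52828
theorem F58827 : act 0 n19612 = n37996 := d18_0 F58825 (iv1 D19611) F14407 D19178 (iv4 F30819) F44831 (iv4 F44832) F35165 F31380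
def n37997 : Q := act 2 n18192
theorem D37997 : act 2 n18192 = n37997 := rfl
theorem F58828 : act 3 n37997 = n19601 := d0_2 D18192 D37997 (iv2 D19601) (iv3 D9218) (iv2 F13489)
theorem F58829 : act 5 n37997 = n22720 := d2_2 (iv5 F29360) D37997 (iv2 D22720)
theorem F58830 : act 7 n37997 = n19612 := d4_2 (iv7 F29361) D37997 (iv2 D19612)
theorem F58831 : act 1 n37997 = n19610 := d15_0 (iv0 D19610) (iv7 F29361) D37997
theorem F58832 : act 1 n19611 = n37997 := d15_0 F58831 (iv7 F52827) F52826
def n37998 : Q := act 6 n18192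
theorem D37998 : act 6 n18192 = n37998 := rfl
theorem F58833 : act 3 n37998 = n18193 := d7_1 D37998 (iv6 D18193) D18192
def n37999 : Q := act 5 n18193
theorem D37999 : act 5 n18193 = n37999 := rfl
theorem F58834 : act 2 n37999 = n19608 := d2_1 D37999 (iv5 D19608) (iv2 F29362)
theorem F58835 : act 6 n37999 = n22724 := d12_2 D18193 D37999 (iv5 D22724) (iv6 D10750) F13493
def n38000 : Q := act 7 n18193
theorem D38000 : act 7 n18193 = n38000 := rfl
theorem F58836 : act 2 n38000 = n19609 := d4_1 D38000 (iv7 D19609) (iv2 F29362)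
theorem F58837 : act 4 n38000 = n18197 := d11_1 D38000 (iv7 D18197) (iv4 F29363)
theorem F58838 : act 6 n38000 = n19619 := d14_1 D38000 (iv7 D19619) (iv6 D9223) (iv7 F13490) D18193
theorem F58839 : act 1 n19607 = n38000 := d15_1 D19607 (iv7 D38000) F29362
theorem F58840 : act 1 n38000 = n19606 := d15_0 (iv0 D19606) D19609 (iv2 F58836)
def n38001 : Q := act 2 n18194
theorem D38001 : act 2 n18194 = n38001 := rfl
theorem F58841 : act 7 n18195 = n38001 := d15_2 (iv0 D18194) D18195 (iv2 D38001)
def n38002 : Q := act 3 n18194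
theorem D38002 : act 3 n18194 = n38002 := rfl
def n38003 : Q := act 4 n18194
theorem D38003 : act 4 n18194 = n38003 := rfl
def n38004 : Q := act 5 n18194
theorem D38004 : act 5 n18194 = n38004 := rfl
def n38005 : Q := act 6 n18194
theorem D38005 : act 6 n18194 = n38005 := rfl
def n38006 : Q := act 7 n18194
theorem D38006 : act 7 n18194 = n38006 := rfl
theorem F58842 : act 2 n38006 = n18195 := d4_1 D38006 F58841 (iv2 D38001)
def n38007 : Q := act 3 n18195
theorem D38007 : act 3 n18195 = n38007 := rfl
def n38008 : Q := act 4 n18195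
theorem D38008 : act 4 n18195 = n38008 := rfl
def n38009 : Q := act 5 n18195
theorem D38009 : act 5 n18195 = n38009 := rfl
def n38010 : Q := act 6 n18195
theorem D38010 : act 6 n18195 = n38010 := rfl
def n38011 : Q := act 0 n18196
theorem D38011 : act 0 n18196 = n38011 := rfl
def n38012 : Q := act 1 n18196
theorem D38012 : act 1 n18196 = n38012 := rfl
def n38013 : Q := act 4 n18196
theorem D38013 : act 4 n18196 = n38013 := rfl
def n38014 : Q := act 7 n18196
theorem D38014 : act 7 n18196 = n38014 := rfl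
theorem F58845 : act 5 n38014 = n18197 := d13_1 D38014 (iv7 D18197) D18196
theorem F58846 : act 6 n38014 = n38014 := d14_1 D38014 (iv7 D38014) F29364 F13497 (iv6 F29364)
def n38015 : Q := act 6 n18198
theorem D38015 : act 6 n18198 = n38015 := rfl
theorem F58847 : act 2 n38015 = n21015 := d3_1 D38015 (iv6 D21015) (iv2 F29365)
theorem F58848 : act 4 n38015 = n22219 := d10_1 D38015 (iv6 D22219) (iv4 F29369)
def n38016 : Q := act 3 n18199
theorem D38016 : act 3 n18199 = n38016 := rfl
def n38017 : Q := act 5 n18199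
theorem D38017 : act 5 n18199 = n38017 := rfl
theorem F58851 : act 4 n38017 = n37957 := d16_2 D18199 D38017 (iv5 D37957) (iv4 D18178) (iv5 D8570) (iv4 F13402) D18151 F29325 F29324
theorem F58852 : act 0 n38017 = n21146 := d17_2 (iv1 F29372) D38017 (iv5 D21146) (iv4 D10077) (iv5 D4584) F17406 D1996 (iv0 F6975) D10594
def n38018 : Q := act 2 n18200
theorem D38018 : act 2 n18200 = n38018 := rfl
theorem F58854 : act 7 n18201 = n38018 := d15_2 (iv0 D18200) D18201 (iv2 D38018)
def n38019 : Q := act 5 n18200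
theorem D38019 : act 5 n18200 = n38019 := rfl
def n38020 : Q := act 6 n18200
theorem D38020 : act 6 n18200 = n38020 := rfl
def n38021 : Q := act 7 n18200
theorem D38021 : act 7 n18200 = n38021 := rfl
theorem F58855 : act 2 n38021 = n18201 := d4_1 D38021 F58854 (iv2 D38018)
def n38022 : Q := act 5 n18201
theorem D38022 : act 5 n18201 = n38022 := rfl
def n38023 : Q := act 6 n18201
theorem D38023 : act 6 n18201 = n38023 := rfl
def n38024 : Q := act 6 n18202
theorem D38024 : act 6 n18202 = n38024 := rfl
theorem F58856 : act 2 n38024 = n18204 := d3_1 D38024 (iv6 D18204) D18202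
def n38025 : Q := act 0 n18203
theorem D38025 : act 0 n18203 = n38025 := rfl
theorem F58857 : act 5 n38025 = n18318 := d19_1 D38025 F54790 F54788 (iv1 F34409) (iv5 D21918) (iv4 D10454) F6864 D10083 F15942 (iv4 F12959) (iv3 D3980) (iv1 D1724) D1726 D3987 (iv3 F6073) (iv1 F13394) F13392 (iv4 F13498) (iv3 F29373)
def n38026 : Q := act 1 n18203
theorem D38026 : act 1 n18203 = n38026 := rfl
def n38027 : Q := act 4 n18203
theorem D38027 : act 4 n18203 = n38027 := rfl
theorem F58858 : act 2 n38027 = n18319 := d1_1 D38027 (iv4 F53181) F53180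
theorem F58859 : act 3 n38027 = n22713 := d5_1 D38027 (iv4 D22713) (iv3 D10747) (iv4 F13498) (iv3 F29373)
theorem F58860 : act 7 n38027 = n18318 := d11_2 F54789 D38027 F54790
theorem F58861 : act 0 n18232 = n38027 := d20_4 (iv4 D3868) D3866 D8604 D18232 F58859 (iv4 D22713) F35132 F35131 (iv3 D18249) (iv1 D8610)
theorem F58862 : act 1 n18320 = n38027 := d15_0 (iv0 F58861) F29400 D18320
def n38028 : Q := act 6 n18203
theorem D38028 : act 6 n18203 = n38028 := rfl
theorem F58863 : act 3 n38028 = n18205 := d7_1 D38028 (iv6 D18205) (iv3 F29373)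
def n38029 : Q := act 0 n18204
theorem D38029 : act 0 n18204 = n38029 := rfl
def n38030 : Q := act 1 n18204
theorem D38030 : act 1 n18204 = n38030 := rfl
def n38031 : Q := act 5 n18204
theorem D38031 : act 5 n18204 = n38031 := rfl
theorem F58864 : act 3 n38031 = n18208 := d6_1 D38031 (iv5 D18208) (iv3 F29374)
def n38032 : Q := act 7 n18204
theorem D38032 : act 7 n18204 = n38032 := rfl
def n38033 : Q := act 0 n18205
theorem D38033 : act 0 n18205 = n38033 := rfl
def n38034 : Q := act 1 n18205
theorem D38034 : act 1 n18205 = n38034 := rfl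
def n38035 : Q := act 5 n18205
theorem D38035 : act 5 n18205 = n38035 := rfl
theorem F58866 : act 6 n38035 = n18208 := d12_2 D18205 D38035 (iv5 D18208) (iv6 D8588) D8587
def n38036 : Q := act 7 n18205
theorem D38036 : act 7 n18205 = n38036 := rfl
theorem F58867 : act 4 n38036 = n22718 := d11_1 D38036 (iv7 D22718) (iv4 F29375)
def n38037 : Q := act 2 n18206
theorem D38037 : act 2 n18206 = n38037 := rfl
theorem F58868 : act 7 n18207 = n38037 := d15_2 (iv0 D18206) D18207 (iv2 D38037)
def n38038 : Q := act 3 n18206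
theorem D38038 : act 3 n18206 = n38038 := rfl
def n38039 : Q := act 4 n18206
theorem D38039 : act 4 n18206 = n38039 := rfl
def n38040 : Q := act 5 n18206
theorem D38040 : act 5 n18206 = n38040 := rfl
def n38041 : Q := act 6 n18206
theorem D38041 : act 6 n18206 = n38041 := rfl
def n38042 : Q := act 7 n18206
theorem D38042 : act 7 n18206 = n38042 := rfl
theorem F58869 : act 2 n38042 = n18207 := d4_1 D38042 F58868 (iv2 D38037)
def n38043 : Q := act 3 n18207
theorem D38043 : act 3 n18207 = n38043 := rfl
def n38044 : Q := act 4 n18207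
theorem D38044 : act 4 n18207 = n38044 := rfl
def n38045 : Q := act 5 n18207
theorem D38045 : act 5 n18207 = n38045 := rfl
def n38046 : Q := act 6 n18207
theorem D38046 : act 6 n18207 = n38046 := rfl
def n38047 : Q := act 0 n18208
theorem D38047 : act 0 n18208 = n38047 := rfl
def n38048 : Q := act 1 n18208
theorem D38048 : act 1 n18208 = n38048 := rfl
def n38049 : Q := act 4 n18208
theorem D38049 : act 4 n18208 = n38049 := rfl
def n38050 : Q := act 7 n18208
theorem D38050 : act 7 n18208 = n38050 := rfl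
theorem F58870 : act 5 n38050 = n18209 := d13_1 D38050 (iv7 D18209) D18208
def n38052 : Q := act 1 n18210
theorem D38052 : act 1 n18210 = n38052 := rfl
theorem F58872 : act 1 n38052 = n18215 := d15_1 D38052 (iv7 D18215) D18210
def n38053 : Q := act 3 n18210
theorem D38053 : act 3 n18210 = n38053 := rfl
theorem F58873 : act 7 n38053 = n18216 := d8_2 F29377 D38053 (iv3 D18216)
def n38054 : Q := act 4 n18210
theorem D38054 : act 4 n18210 = n38054 := rfl
theorem F58874 : act 2 n38054 = n18212 := d1_1 D38054 (iv4 D18212) D18210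
theorem F58875 : act 7 n38054 = n18217 := d11_2 F29377 D38054 (iv4 D18217)
def n38055 : Q := act 5 n18210
theorem D38055 : act 5 n18210 = n38055 := rfl
theorem F58876 : act 2 n38055 = n18213 := d2_1 D38055 (iv5 D18213) D18210
theorem F58877 : act 7 n38055 = n18218 := d13_2 F29377 D38055 (iv5 D18218)
def n38056 : Q := act 6 n18210
theorem D38056 : act 6 n18210 = n38056 := rfl
theorem F58878 : act 2 n38056 = n18214 := d3_1 D38056 (iv6 D18214) D18210
def n38064 : Q := act 0 n18212
theorem D38064 : act 0 n18212 = n38064 := rfl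
def n38065 : Q := act 1 n18212
theorem D38065 : act 1 n18212 = n38065 := rfl
theorem F58882 : act 1 n38065 = n18217 := d15_1 D38065 (iv7 F58875) F58874
def n38067 : Q := act 5 n18212
theorem D38067 : act 5 n18212 = n38067 := rfl
def n38068 : Q := act 6 n18212
theorem D38068 : act 6 n18212 = n38068 := rfl
theorem F58883 : act 4 n38068 = n18214 := d10_1 D38068 (iv6 D18214) D18212
def n38069 : Q := act 7 n18212
theorem D38069 : act 7 n18212 = n38069 := rfl
theorem F58884 : act 2 n38069 = n18217 := d4_1 D38069 (iv7 F58875) F58874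
theorem F58885 : act 4 n38069 = n18215 := d11_1 D38069 (iv7 D18215) D18212
theorem F58886 : act 1 n18217 = n38064 := d15_0 (iv0 D38064) D38069 F58884
def n38070 : Q := act 0 n18213
theorem D38070 : act 0 n18213 = n38070 := rfl
theorem F58887 : act 5 n38070 = n37802 := d21_2 D18213 D38070 (iv6 D37802) (iv1 D18125) (iv6 D8544) (iv5 D3814) (iv1 F2856) D1676 D3852 D8589
def n38071 : Q := act 1 n18213
theorem D38071 : act 1 n18213 = n38071 := rfl
def n38073 : Q := act 6 n18213
theorem D38073 : act 6 n18213 = n38073 := rfl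
def n38074 : Q := act 7 n18213
theorem D38074 : act 7 n18213 = n38074 := rfl
theorem F58889 : act 2 n38074 = n18218 := d4_1 D38074 (iv7 F58877) F58876
theorem F58890 : act 5 n38074 = n18215 := d13_1 D38074 (iv7 D18215) D18213
theorem F58891 : act 1 n18218 = n38070 := d15_0 (iv0 D38070) D38074 F58889
theorem F58892 : act 0 n18219 = n34495 := d21_10 (iv5 D34495) (iv1 F27468) F12387 D8675 (iv1 F29289) D37802 (iv5 F58887) (iv1 F58891) (iv5 D18218) D18219
theorem E5871 : n37953 = n34496 := ((c21_4 F29589 F58892 (iv5 D34495) D34496 (iv1 D37953) (iv6 D18177) D18176 (iv1 F29616) (iv5 F29591) (iv6 D18429) D18426)).symm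
theorem F58893 : act 0 n34496 = n18177 := (sb E5871 (iv1 D37953))
def n38075 : Q := act 0 n18214
theorem D38075 : act 0 n18214 = n38075 := rfl
def n38076 : Q := act 1 n18214
theorem D38076 : act 1 n18214 = n38076 := rfl
def n38077 : Q := act 7 n18214
theorem D38077 : act 7 n18214 = n38077 := rfl
def n38078 : Q := act 6 n18215
theorem D38078 : act 6 n18215 = n38078 := rfl
theorem F58894 : act 2 n38078 = n18219 := d3_1 D38078 (iv6 D18219) (iv2 F29378)
def n38083 : Q := act 5 n18216
theorem D38083 : act 5 n18216 = n38083 := rfl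
theorem F58895 : act 3 n38083 = n18218 := d6_1 D38083 (iv5 D18218) D18216
def n38085 : Q := act 3 n18217
theorem D38085 : act 3 n18217 = n38085 := rfl
def n38086 : Q := act 5 n18217
theorem D38086 : act 5 n18217 = n38086 := rfl
def n38087 : Q := act 6 n18217
theorem D38087 : act 6 n18217 = n38087 := rfl
theorem F58897 : act 4 n38087 = n18219 := d10_1 D38087 (iv6 D18219) D18217
def n38088 : Q := act 4 n18218
theorem D38088 : act 4 n18218 = n38088 := rfl
def n38089 : Q := act 1 n18219
theorem D38089 : act 1 n18219 = n38089 := rfl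
def n38090 : Q := act 7 n18219
theorem D38090 : act 7 n18219 = n38090 := rfl
def n38091 : Q := act 2 n18220
theorem D38091 : act 2 n18220 = n38091 := rfl
theorem F58898 : act 7 n18221 = n38091 := d15_2 (iv0 D18220) D18221 (iv2 D38091)
def n38093 : Q := act 4 n18220
theorem D38093 : act 4 n18220 = n38093 := rfl
def n38094 : Q := act 5 n18220
theorem D38094 : act 5 n18220 = n38094 := rfl
theorem F58899 : act 6 n38094 = n18432 := d12_2 (iv6 F54755) D38094 (iv5 F54756) (iv6 D34525) D34524
def n38095 : Q := act 7 n18220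
theorem D38095 : act 7 n18220 = n38095 := rfl
theorem F58900 : act 2 n38095 = n18221 := d4_1 D38095 F58898 (iv2 D38091)
def n38096 : Q := act 3 n18221
theorem D38096 : act 3 n18221 = n38096 := rfl
def n38097 : Q := act 4 n18221
theorem D38097 : act 4 n18221 = n38097 := rfl
def n38098 : Q := act 5 n18221
theorem D38098 : act 5 n18221 = n38098 := rfl
theorem F58901 : act 6 n18244 = n38098 := d21_5 F5577 (iv1 F12293) (iv5 F12297) D8608 D18244 (iv5 D38098) (iv1 D18221) (iv5 D8591) (iv6 D3852) (iv1 F6939)
def n38099 : Q := act 6 n18221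
theorem D38099 : act 6 n18221 = n38099 := rfl
def n38100 : Q := act 0 n18222
theorem D38100 : act 0 n18222 = n38100 := rfl
def n38101 : Q := act 1 n18222
theorem D38101 : act 1 n18222 = n38101 := rfl
def n38102 : Q := act 3 n18222
theorem D38102 : act 3 n18222 = n38102 := rfl
theorem F58902 : act 6 n38102 = n18228 := d7_2 (iv6 F29379) D38102 (iv3 D18228)
def n38103 : Q := act 5 n18222
theorem D38103 : act 5 n18222 = n38103 := rfl
def n38104 : Q := act 7 n18222
theorem D38104 : act 7 n18222 = n38104 := rfl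
theorem F58903 : act 4 n38104 = n18223 := d11_1 D38104 (iv7 D18223) D18222
theorem F58904 : act 6 n38104 = n38104 := d14_1 D38104 (iv7 D38104) F29379 F13509 (iv6 F29379)
def n38106 : Q := act 5 n18224
theorem D38106 : act 5 n18224 = n38106 := rfl
theorem F58907 : act 4 n38106 = n21146 := d9_1 D38106 (iv5 D21146) (iv4 D10077) (iv5 D4584) (iv4 F5771) D8428 D17872 D37161 F58104 (iv5 D22212) (iv4 D10594) (iv5 D4844) (iv4 F13605) D8601 D18224
theorem F58909 : act 0 n38106 = n22124 := d17_2 F34474 D38106 (iv5 D22124) (iv4 D10548) (iv5 D4827) D4826 D10547 F17028 D21973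
theorem F58910 : act 1 n38106 = n22227 := d17_6 F17441 (iv5 D8570) (iv1 F7213) D8601 D18224 D38106 F34676 F34475 (iv4 D17872)
def n38107 : Q := act 6 n18224
theorem D38107 : act 6 n18224 = n38107 := rfl
theorem F58911 : act 2 n38107 = n37162 := d3_1 D38107 (iv6 D37162) (iv2 F29382)
theorem F58912 : act 4 n38107 = n18225 := d10_1 D38107 (iv6 D18225) D18224
def n38108 : Q := act 0 n18225
theorem D38108 : act 0 n18225 = n38108 := rfl
def n38109 : Q := act 1 n18225
theorem D38109 : act 1 n18225 = n38109 := rfl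
theorem F58913 : act 1 n38109 = n37165 := d15_1 D38109 (iv7 D37165) (iv2 F29385)
def n38110 : Q := act 7 n18225
theorem D38110 : act 7 n18225 = n38110 := rfl
theorem F58914 : act 2 n38110 = n37165 := d4_1 D38110 (iv7 D37165) (iv2 F29385)
theorem F58916 : act 1 n37165 = n38108 := d15_0 (iv0 D38108) D38110 F58914
theorem F58917 : act 1 n37164 = n38110 := d15_1 D37164 (iv7 D38110) F29385
theorem F58918 : act 1 n38110 = n37163 := d15_0 (iv0 D37163) D37165 (iv2 F58914)
def n38111 : Q := act 3 n18226
theorem D38111 : act 3 n18226 = n38111 := rfl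
theorem F58919 : act 7 n38111 = n38111 := d8_2 F29388 D38111 (iv3 D38111)
def n38113 : Q := act 6 n18226
theorem D38113 : act 6 n18226 = n38113 := rfl
theorem F58924 : act 4 n38113 = n22122 := d10_1 D38113 (iv6 D22122) (iv4 F29386)
def n38114 : Q := act 3 n18227
theorem D38114 : act 3 n18227 = n38114 := rfl
theorem F58925 : act 4 n38114 = n36965 := d5_2 (iv4 F29390) D38114 (iv3 D36965) (iv4 D17790) (iv3 F17629)
def n38116 : Q := act 6 n18227
theorem D38116 : act 6 n18227 = n38116 := rfl
theorem F58932 : act 2 n38116 = n38113 := d3_1 D38116 (iv6 D38113) F29391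
theorem F58933 : act 4 n38116 = n22121 := d10_1 D38116 (iv6 D22121) (iv4 F29390)
def n38117 : Q := act 0 n18228
theorem D38117 : act 0 n18228 = n38117 := rfl
def n38118 : Q := act 1 n18228
theorem D38118 : act 1 n18228 = n38118 := rfl
def n38119 : Q := act 2 n18228
theorem D38119 : act 2 n18228 = n38119 := rfl
def n38121 : Q := act 4 n18229
theorem D38121 : act 4 n18229 = n38121 := rfl
theorem F58940 : act 5 n38121 = n21145 := d9_2 D18229 D38121 F33369 (iv5 D18151) F13402 D8570 D18178 D37957 (iv4 F58851) (iv5 D38017) (iv4 D18199) (iv5 D8585) F5837 D3855 D8602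
def n38123 : Q := act 3 n18230
theorem D38123 : act 3 n18230 = n38123 := rfl
theorem F58944 : act 4 n38123 = n18232 := d5_2 D18230 D38123 (iv3 D18232) (iv4 D8604) D8603
theorem F58945 : act 7 n38123 = n18311 := d8_2 (iv7 F29396) D38123 (iv3 D18311)
def n38124 : Q := act 6 n18230
theorem D38124 : act 6 n18230 = n38124 := rfl
theorem F58946 : act 2 n38124 = n35403 := d3_1 D38124 (iv6 D35403) (iv2 F29395)
theorem F58947 : act 4 n38124 = n18231 := d10_1 D38124 (iv6 D18231) D18230
def n38125 : Q := act 0 n18231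
theorem D38125 : act 0 n18231 = n38125 := rfl
def n38126 : Q := act 1 n18231
theorem D38126 : act 1 n18231 = n38126 := rfl
def n38127 : Q := act 5 n18231
theorem D38127 : act 5 n18231 = n38127 := rfl
theorem F58948 : act 3 n38127 = n18237 := d6_1 D38127 (iv5 D18237) (iv3 F29399)
theorem F58949 : act 6 n38127 = n34458 := d12_2 D18231 D38127 (iv5 D34458) (iv6 D16712) (iv5 F13510)
def n38128 : Q := act 7 n18231
theorem D38128 : act 7 n18231 = n38128 := rfl
theorem F58950 : act 3 n38128 = n18238 := d8_1 D38128 (iv7 D18238) (iv3 F29399)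
theorem F58951 : act 6 n38128 = n18317 := d14_1 D38128 (iv7 D18317) (iv6 D8634) (iv7 F13511) D18231
def n38129 : Q := act 1 n18232
theorem D38129 : act 1 n18232 = n38129 := rfl
theorem F58952 : act 7 n38129 = n18319 := d15_2 (iv0 F58861) D38129 (iv2 F58858)
theorem F58953 : act 2 n18318 = n38129 := d4_3 F58952 (iv2 F58858) F58860
theorem F58954 : act 3 n18636 = n38129 := d8_3 F58952 (iv3 F46076) F42542
theorem F58955 : act 1 n38129 = n18320 := d15_0 F58862 F58860 F58953
def n38130 : Q := act 2 n18232
theorem D38130 : act 2 n18232 = n38130 := rfl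
theorem F58956 : act 3 n38130 = n18285 := d0_2 D18232 D38130 (iv2 D18285) (iv3 D8624) (iv2 F13512)
theorem F58957 : act 7 n38130 = n18320 := d4_2 (iv7 F29400) D38130 (iv2 D18320)
theorem F58958 : act 1 n38130 = n18318 := d15_0 (iv0 D18318) (iv7 F29400) D38130
theorem F58959 : act 1 n18319 = n38130 := d15_0 F58958 (iv7 F58860) F58858
theorem F58960 : act 5 n33260 = n38130 := d6_0 F58956 (iv5 F29486) D33260
def n38131 : Q := act 5 n18232
theorem D38131 : act 5 n18232 = n38131 := rfl
theorem F58961 : act 2 n38131 = n33260 := d2_1 D38131 F58960 (iv2 D38130)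
theorem F58962 : act 3 n38131 = n18233 := d6_1 D38131 (iv5 D18233) D18232
theorem F58963 : act 7 n38131 = n18321 := d13_2 (iv7 F29400) D38131 (iv5 D18321)
theorem F58964 : act 4 n38021 = n38131 := d11_3 F58963 (iv4 F29519) D38021
theorem E5872 : n38021 = n34537 := ((c20_8 F29330 (iv1 D10658) (iv4 F13552) (iv3 F13554) (iv1 F27500) D34531 F54771 D34537 F58964 F58962 F29404)).symm
theorem F58965 : act 2 n34537 = n18201 := (sb E5872 F58855)
theorem F58966 : act 4 n34537 = n38131 := (sb E5872 F58964)
theorem F58967 : act 7 n34537 = n18200 := (sb E5872 (iv7 D38021))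
theorem E5873 : n38018 = n34538 := (c15_4 F54786 F54782 F58967 D38018)
theorem F58968 : act 2 n34538 = n18200 := (sb E5873 (iv2 D38018))
theorem F58969 : act 7 n34538 = n18201 := (sb E5873 (iv7 F58854))
theorem F58970 : act 0 n38131 = n38019 := d19_4 (iv1 F7028) D10621 (iv4 F29403) (iv3 F58962) (iv5 D38019) F29519 F29518 (iv1 F29493) F29495 (iv4 D10471) (iv3 F13961) (iv1 F14098) (iv5 D9024) (iv4 D4052) (iv3 D1752) (iv1 D929) D931 D1761 (iv3 F3319)
def n38132 : Q := act 6 n18232
theorem D38132 : act 6 n18232 = n38132 := rfl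
theorem F58971 : act 3 n38132 = n18234 := d7_1 D38132 (iv6 D18234) D18232
def n38133 : Q := act 6 n18233
theorem D38133 : act 6 n18233 = n38133 := rfl
theorem F58972 : act 2 n38133 = n18290 := d3_1 D38133 (iv6 D18290) (iv2 F29401)
theorem F58973 : act 4 n38133 = n22294 := d10_1 D38133 (iv6 D22294) (iv4 F29403)
def n38134 : Q := act 0 n18234
theorem D38134 : act 0 n18234 = n38134 := rfl
def n38135 : Q := act 1 n18234
theorem D38135 : act 1 n18234 = n38135 := rfl
theorem F58974 : act 1 n38135 = n18294 := d15_1 D38135 (iv7 D18294) (iv2 F29406)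
def n38136 : Q := act 5 n18234
theorem D38136 : act 5 n18234 = n38136 := rfl
theorem F58975 : act 2 n38136 = n18293 := d2_1 D38136 (iv5 D18293) (iv2 F29406)
def n38137 : Q := act 7 n18234
theorem D38137 : act 7 n18234 = n38137 := rfl
theorem F58976 : act 2 n38137 = n18294 := d4_1 D38137 (iv7 D18294) (iv2 F29406)
theorem F58977 : act 4 n38137 = n18238 := d11_1 D38137 (iv7 D18238) (iv4 F29407)
theorem F58978 : act 6 n38137 = n18327 := d14_1 D38137 (iv7 D18327) (iv6 D8637) (iv7 F13513) D18234
theorem F58979 : act 1 n18294 = n38134 := d15_0 (iv0 D38134) D38137 F58976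
theorem F58980 : act 1 n18292 = n38137 := d15_1 D18292 (iv7 D38137) F29406
theorem F58981 : act 1 n38137 = n18291 := d15_0 (iv0 D18291) D18294 (iv2 F58976)
def n38138 : Q := act 2 n18235
theorem D38138 : act 2 n18235 = n38138 := rfl
theorem F58982 : act 6 n38138 = n37938 := d3_2 (iv6 F29408) D38138 F58774
theorem F58983 : act 7 n18236 = n38138 := d15_2 (iv0 D18235) D18236 (iv2 D38138)
def n38139 : Q := act 3 n18235
theorem D38139 : act 3 n18235 = n38139 := rfl
theorem F58984 : act 6 n38139 = n37946 := d7_2 (iv6 F29408) D38139 F58777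
def n38140 : Q := act 4 n18235
theorem D38140 : act 4 n18235 = n38140 := rfl
theorem F58985 : act 6 n38140 = n37951 := d10_2 (iv6 F29408) D38140 (iv4 D37951)
def n38141 : Q := act 5 n18235
theorem D38141 : act 5 n18235 = n38141 := rfl
theorem F58986 : act 6 n38141 = n37954 := d12_2 (iv6 F29408) D38141 (iv5 D37954) (iv6 D18177) D18176
theorem F58987 : act 0 n37954 = n37801 := d21_10 (iv5 D37801) (iv1 D18125) D18126 F29291 F27407 (iv6 F29411) (iv5 D18237) D18235 D38141 F58986
def n38142 : Q := act 7 n18235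
theorem D38142 : act 7 n18235 = n38142 := rfl
theorem F58988 : act 2 n38142 = n18236 := d4_1 D38142 F58983 (iv2 D38138)
def n38143 : Q := act 3 n18236
theorem D38143 : act 3 n18236 = n38143 := rfl
def n38144 : Q := act 4 n18236
theorem D38144 : act 4 n18236 = n38144 := rfl
def n38145 : Q := act 5 n18236
theorem D38145 : act 5 n18236 = n38145 := rfl
def n38146 : Q := act 6 n18236
theorem D38146 : act 6 n18236 = n38146 := rfl
theorem F58989 : act 7 n38146 = n37937 := d14_2 (iv7 F58983) D38146 (iv6 D37937) D37938 (iv6 F58982)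
def n38147 : Q := act 0 n18237
theorem D38147 : act 0 n18237 = n38147 := rfl
def n38148 : Q := act 1 n18237
theorem D38148 : act 1 n18237 = n38148 := rfl
theorem F58990 : act 1 n38148 = n18308 := d15_1 D38148 (iv7 D18308) (iv2 F29410)
theorem F58991 : act 5 n34520 = n38148 := d21_6 F2864 (iv1 F6433) (iv5 F7218) D7822 D16743 D34520 (iv1 D38148) (iv5 D18237) (iv6 D8605) (iv1 F5840)
def n38149 : Q := act 4 n18237
theorem D38149 : act 4 n18237 = n38149 := rfl
theorem F58992 : act 2 n38149 = n18307 := d1_1 D38149 (iv4 D18307) (iv2 F29410)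
theorem F58993 : act 6 n38149 = n34459 := d10_2 (iv6 F29411) D38149 (iv4 D34459)
def n38150 : Q := act 7 n18237
theorem D38150 : act 7 n18237 = n38150 := rfl
theorem F58994 : act 2 n38150 = n18308 := d4_1 D38150 (iv7 D18308) (iv2 F29410)
theorem F58995 : act 5 n38150 = n18238 := d13_1 D38150 (iv7 D18238) D18237
theorem F58996 : act 1 n18308 = n38147 := d15_0 (iv0 D38147) D38150 F58994
theorem F58997 : act 1 n18306 = n38150 := d15_1 D18306 (iv7 D38150) F29410
theorem F58998 : act 5 n34647 = n38147 := d21_0 (iv1 F58996) F29505 (iv6 F29436) (iv1 F29438) D18337 (iv5 F54884) (iv1 F54889) (iv5 D16782) D16783 D34647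
theorem F58999 : act 1 n38150 = n18305 := d15_0 (iv0 D18305) D18308 (iv2 F58994)
def n38151 : Q := act 3 n18239
theorem D38151 : act 3 n18239 = n38151 := rfl
theorem F59000 : act 4 n38151 = n18241 := d5_2 D18239 D38151 (iv3 D18241) (iv4 D8607) D8606
theorem F59001 : act 5 n38151 = n33224 := d6_2 F57523 D38151 F57524
theorem F59002 : act 7 n38151 = n18273 := d8_2 (iv7 F29418) D38151 (iv3 D18273)
def n38152 : Q := act 6 n18239
theorem D38152 : act 6 n18239 = n38152 := rfl
theorem F59003 : act 2 n38152 = n35606 := d3_1 D38152 (iv6 D35606) (iv2 F29417)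
theorem F59004 : act 4 n38152 = n18240 := d10_1 D38152 (iv6 D18240) D18239
def n38153 : Q := act 0 n18240
theorem D38153 : act 0 n18240 = n38153 := rfl
def n38154 : Q := act 1 n18240
theorem D38154 : act 1 n18240 = n38154 := rfl
def n38155 : Q := act 5 n18240
theorem D38155 : act 5 n18240 = n38155 := rfl

end Cfsg.Agent.Helper17.ONTC
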