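import Cfsg.Agent.Helper17.ONTC.Facts8

set_option autoImplicit false
set_option linter.all false

noncomputable section

namespace Cfsg.Agent.Helper17.ONTC

theorem F59005 : act 3 n38155 = n18246 := d6_1 D38155 (iv5 D18246) (iv3 F29421)
theorem F59006 : act 6 n38155 = n18462 := d12_2 D18240 D38155 (iv5 D18462) F13586 (iv5 F13515)
def n38156 : Q := act 7 n18240
theorem D38156 : act 7 n18240 = n38156 := rfl
theorem F59007 : act 3 n38156 = n18247 := d8_1 D38156 (iv7 D18247) (iv3 F29421)
theorem F59008 : act 6 n38156 = n18279 := d14_1 D38156 (iv7 D18279) (iv6 D8621) (iv7 F13516) D18240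
def n38157 : Q := act 6 n18241
theorem D38157 : act 6 n18241 = n38157 := rfl
theorem F59009 : act 3 n38157 = n18243 := d7_1 D38157 (iv6 D18243) D18241
def n38158 : Q := act 6 n18242
theorem D38158 : act 6 n18242 = n38158 := rfl
theorem F59010 : act 2 n38158 = n18323 := d3_1 D38158 (iv6 D18323) (iv2 F29423)
theorem F59011 : act 3 n38158 = n33262 := d7_1 D38158 (iv6 D33262) F29428
theorem F59012 : act 4 n38158 = n22284 := d10_1 D38158 (iv6 D22284) (iv4 F29424)
def n38159 : Q := act 0 n18243
theorem D38159 : act 0 n18243 = n38159 := rfl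
def n38160 : Q := act 1 n18243
theorem D38160 : act 1 n18243 = n38160 := rfl
theorem F59013 : act 1 n38160 = n18327 := d15_1 D38160 (iv7 D18327) (iv2 F29430)
def n38161 : Q := act 5 n18243
theorem D38161 : act 5 n18243 = n38161 := rfl
theorem F59014 : act 2 n38161 = n18326 := d2_1 D38161 (iv5 D18326) (iv2 F29430)
def n38162 : Q := act 7 n18243
theorem D38162 : act 7 n18243 = n38162 := rfl
theorem F59015 : act 2 n38162 = n18327 := d4_1 D38162 (iv7 D18327) (iv2 F29430)
theorem F59016 : act 4 n38162 = n18247 := d11_1 D38162 (iv7 D18247) (iv4 F29431)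
theorem F59017 : act 6 n38162 = n18294 := d14_1 D38162 (iv7 D18294) (iv6 D8626) (iv7 F13518) D18243
theorem F59018 : act 1 n18327 = n38159 := d15_0 (iv0 D38159) D38162 F59015
theorem F59019 : act 1 n18325 = n38162 := d15_1 D18325 (iv7 D38162) F29430
theorem F59020 : act 1 n38162 = n18324 := d15_0 (iv0 D18324) D18327 (iv2 F59015)
def n38163 : Q := act 2 n18244
theorem D38163 : act 2 n18244 = n38163 := rfl
theorem F59021 : act 7 n18245 = n38163 := d15_2 (iv0 D18244) D18245 (iv2 D38163)
def n38164 : Q := act 3 n18244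
theorem D38164 : act 3 n18244 = n38164 := rfl
def n38165 : Q := act 4 n18244
theorem D38165 : act 4 n18244 = n38165 := rfl
def n38166 : Q := act 5 n18244
theorem D38166 : act 5 n18244 = n38166 := rfl
def n38167 : Q := act 7 n18244
theorem D38167 : act 7 n18244 = n38167 := rfl
def n38168 : Q := act 3 n18245
theorem D38168 : act 3 n18245 = n38168 := rfl
def n38169 : Q := act 4 n18245
theorem D38169 : act 4 n18245 = n38169 := rfl
def n38170 : Q := act 5 n18245
theorem D38170 : act 5 n18245 = n38170 := rfl
theorem F59023 : act 6 n38147 = n38170 := d21_5 (iv5 D17375) (iv1 F17489) D16713 (iv6 F29411) D38147 (iv5 D38170) (iv1 D18245) D18246 F29434 (iv1 F28329)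
def n38171 : Q := act 6 n18245
theorem D38171 : act 6 n18245 = n38171 := rfl
def n38172 : Q := act 0 n18246
theorem D38172 : act 0 n18246 = n38172 := rfl
def n38173 : Q := act 1 n18246
theorem D38173 : act 1 n18246 = n38173 := rfl
theorem F59024 : act 1 n38173 = n18341 := d15_1 D38173 (iv7 D18341) (iv2 F29433)
theorem F59025 : act 5 n34550 = n38173 := d21_6 (iv5 D1680) F6429 F7170 D7825 D16753 D34550 (iv1 D38173) (iv5 D18246) (iv6 D8608) (iv1 D3867)
def n38174 : Q := act 4 n18246
theorem D38174 : act 4 n18246 = n38174 := rfl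
theorem F59026 : act 2 n38174 = n18340 := d1_1 D38174 (iv4 D18340) (iv2 F29433)
theorem F59027 : act 6 n38174 = n18464 := d10_2 (iv6 F29434) D38174 (iv4 D18464)
def n38175 : Q := act 7 n18246
theorem D38175 : act 7 n18246 = n38175 := rfl
theorem F59028 : act 2 n38175 = n18341 := d4_1 D38175 (iv7 D18341) (iv2 F29433)
theorem F59029 : act 5 n38175 = n18247 := d13_1 D38175 (iv7 D18247) D18246
theorem F59030 : act 1 n18341 = n38172 := d15_0 (iv0 D38172) D38175 F59028
theorem F59031 : act 1 n18339 = n38175 := d15_1 D18339 (iv7 D38175) F29433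
theorem F59032 : act 1 n38175 = n18338 := d15_0 (iv0 D18338) D18341 (iv2 F59028)
def n38176 : Q := act 0 n18248
theorem D38176 : act 0 n18248 = n38176 := rfl
def n38177 : Q := act 1 n18248
theorem D38177 : act 1 n18248 = n38177 := rfl
theorem F59033 : act 1 n38177 = n18352 := d15_1 D38177 (iv7 D18352) (iv2 F29440)
def n38178 : Q := act 5 n18248
theorem D38178 : act 5 n18248 = n38178 := rfl
theorem F59034 : act 2 n38178 = n18351 := d2_1 D38178 (iv5 D18351) (iv2 F29440)
def n38179 : Q := act 7 n18248
theorem D38179 : act 7 n18248 = n38179 := rfl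
theorem F59035 : act 2 n38179 = n18352 := d4_1 D38179 (iv7 D18352) (iv2 F29440)
theorem F59036 : act 6 n38179 = n18359 := d14_1 D38179 (iv7 D18359) (iv6 D8649) (iv7 F13849) D18248
theorem F59037 : act 1 n18352 = n38176 := d15_0 (iv0 D38176) D38179 F59035
def n38180 : Q := act 0 n18249
theorem D38180 : act 0 n18249 = n38180 := rfl
theorem F59040 : act 5 n38180 = n33655 := d19_1 D38180 (iv4 D33655) (iv3 D16269) (iv1 F21945) D27544 F44440 (iv3 F28200) D35607 F56286 F28735 F27471 F13412 (iv5 D8199) (iv4 D3697) D3696 (iv1 F12104) (iv5 F14311) F14310 D18249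
theorem F59041 : act 1 n18344 = n38180 := d15_0 (iv0 D38180) F29441 D18344
def n38181 : Q := act 1 n18249
theorem D38181 : act 1 n18249 = n38181 := rfl
theorem F59042 : act 1 n38181 = n18344 := d15_1 D38181 (iv7 F57402) F57400
def n38182 : Q := act 6 n18249
theorem D38182 : act 6 n18249 = n38182 := rfl
theorem F59043 : act 3 n38182 = n18251 := d7_1 D38182 (iv6 D18251) D18249
def n38183 : Q := act 6 n18250
theorem D38183 : act 6 n18250 = n38183 := rfl
theorem F59044 : act 2 n38183 = n18355 := d3_1 D38183 (iv6 D18355) (iv2 F29442)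
theorem F59045 : act 4 n38183 = n22239 := d10_1 D38183 (iv6 D22239) (iv4 F29443)
def n38184 : Q := act 0 n18251
theorem D38184 : act 0 n18251 = n38184 := rfl
def n38185 : Q := act 1 n18251
theorem D38185 : act 1 n18251 = n38185 := rfl
theorem F59046 : act 1 n38185 = n18359 := d15_1 D38185 (iv7 D18359) (iv2 F29447)
def n38186 : Q := act 5 n18251
theorem D38186 : act 5 n18251 = n38186 := rfl
theorem F59047 : act 2 n38186 = n18358 := d2_1 D38186 (iv5 D18358) (iv2 F29447)
def n38187 : Q := act 7 n18251
theorem D38187 : act 7 n18251 = n38187 := rfl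
theorem F59048 : act 2 n38187 = n18359 := d4_1 D38187 (iv7 D18359) (iv2 F29447)
theorem F59049 : act 6 n38187 = n18352 := d14_1 D38187 (iv7 D18352) (iv6 D8645) (iv7 F13852) D18251
theorem F59050 : act 1 n18359 = n38184 := d15_0 (iv0 D38184) D38187 F59048
theorem F59052 : act 1 n38187 = n18356 := d15_0 (iv0 D18356) D18359 (iv2 F59048)
def n38188 : Q := act 2 n18252
theorem D38188 : act 2 n18252 = n38188 := rfl
theorem F59053 : act 7 n18253 = n38188 := d15_2 (iv0 D18252) D18253 (iv2 D38188)
def n38189 : Q := act 3 n18252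
theorem D38189 : act 3 n18252 = n38189 := rfl
def n38190 : Q := act 4 n18252
theorem D38190 : act 4 n18252 = n38190 := rfl
def n38191 : Q := act 5 n18252
theorem D38191 : act 5 n18252 = n38191 := rfl
def n38192 : Q := act 6 n18252
theorem D38192 : act 6 n18252 = n38192 := rfl
def n38193 : Q := act 7 n18252
theorem D38193 : act 7 n18252 = n38193 := rfl
theorem F59054 : act 2 n38193 = n18253 := d4_1 D38193 F59053 (iv2 D38188)
def n38194 : Q := act 3 n18253
theorem D38194 : act 3 n18253 = n38194 := rfl
theorem F59055 : act 4 n38025 = n38194 := d19_2 D18318 (iv5 F58857) (iv3 D38194) (iv1 D18253) D18255 (iv4 F30989) (iv3 D19353) (iv1 F30287) F30288 (iv4 D9032) (iv3 F14016) (iv1 F12736) (iv5 D7974) F5638 F5637 (iv1 F5567) (iv5 F7110) D3877 D8635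
def n38195 : Q := act 4 n18253
theorem D38195 : act 4 n18253 = n38195 := rfl
def n38196 : Q := act 5 n18253
theorem D38196 : act 5 n18253 = n38196 := rfl
def n38197 : Q := act 6 n18253
theorem D38197 : act 6 n18253 = n38197 := rfl
def n38198 : Q := act 5 n18254
theorem D38198 : act 5 n18254 = n38198 := rfl
theorem F59056 : act 2 n38198 = n18255 := d2_1 D38198 (iv5 D18255) D18254
theorem F59057 : act 3 n38198 = n18369 := d6_1 D38198 (iv5 D18369) (iv3 F29448)
theorem F59058 : act 7 n38198 = n22728 := d13_2 F42511 D38198 F42513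
theorem F59059 : act 1 n22727 = n38198 := d15_1 D22727 F59058 (iv2 D22728)
theorem F59060 : act 1 n38198 = n22726 := d15_0 (iv0 D22726) (iv7 F29450) (iv2 F59056)
def n38199 : Q := act 6 n18254
theorem D38199 : act 6 n18254 = n38199 := rfl
theorem F59061 : act 2 n38199 = n18256 := d3_1 D38199 (iv6 D18256) D18254
theorem F59062 : act 3 n38199 = n18370 := d7_1 D38199 (iv6 D18370) (iv3 F29448)
def n38200 : Q := act 0 n18255
theorem D38200 : act 0 n18255 = n38200 := rfl
theorem F59063 : act 1 n22728 = n38200 := d15_0 (iv0 D38200) F29450 D22728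
def n38201 : Q := act 1 n18255
theorem D38201 : act 1 n18255 = n38201 := rfl
theorem F59064 : act 1 n38201 = n22728 := d15_1 D38201 (iv7 F59058) F59056
def n38202 : Q := act 6 n18255
theorem D38202 : act 6 n18255 = n38202 := rfl
theorem F59065 : act 3 n38202 = n18257 := d7_1 D38202 (iv6 D18257) (iv3 F29449)
def n38203 : Q := act 0 n18256
theorem D38203 : act 0 n18256 = n38203 := rfl
def n38204 : Q := act 1 n18256
theorem D38204 : act 1 n18256 = n38204 := rfl
def n38205 : Q := act 5 n18256
theorem D38205 : act 5 n18256 = n38205 := rfl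
theorem F59066 : act 3 n38205 = n18260 := d6_1 D38205 (iv5 D18260) (iv3 F29451)
def n38206 : Q := act 7 n18256
theorem D38206 : act 7 n18256 = n38206 := rfl
theorem F59067 : act 3 n38206 = n18261 := d8_1 D38206 (iv7 D18261) (iv3 F29451)
def n38207 : Q := act 0 n18257
theorem D38207 : act 0 n18257 = n38207 := rfl
def n38208 : Q := act 1 n18257
theorem D38208 : act 1 n18257 = n38208 := rfl
theorem F59068 : act 1 n38208 = n18387 := d15_1 D38208 (iv7 D18387) (iv2 F29452)
def n38209 : Q := act 5 n18257
theorem D38209 : act 5 n18257 = n38209 := rfl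
theorem F59069 : act 2 n38209 = n18386 := d2_1 D38209 (iv5 D18386) (iv2 F29452)
theorem F59070 : act 6 n38209 = n18260 := d12_2 D18257 D38209 (iv5 D18260) (iv6 D8613) D8612
def n38210 : Q := act 7 n18257
theorem D38210 : act 7 n18257 = n38210 := rfl
theorem F59071 : act 2 n38210 = n18387 := d4_1 D38210 (iv7 D18387) (iv2 F29452)
theorem F59072 : act 4 n38210 = n22748 := d11_1 D38210 F35302 (iv4 F29453)
theorem F59073 : act 6 n38210 = n22733 := d14_1 D38210 (iv7 D22733) (iv6 D10752) (iv7 F13523) D18257
theorem F59074 : act 1 n18387 = n38207 := d15_0 (iv0 D38207) D38210 F59071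
theorem F59075 : act 1 n18385 = n38210 := d15_1 D18385 (iv7 D38210) F29452
theorem F59076 : act 1 n38210 = n18384 := d15_0 (iv0 D18384) D18387 (iv2 F59071)
def n38211 : Q := act 2 n18258
theorem D38211 : act 2 n18258 = n38211 := rfl
def n38212 : Q := act 3 n18258
theorem D38212 : act 3 n18258 = n38212 := rfl
def n38213 : Q := act 5 n18258
theorem D38213 : act 5 n18258 = n38213 := rfl
def n38214 : Q := act 6 n18258
theorem D38214 : act 6 n18258 = n38214 := rfl
theorem F59078 : act 5 n38214 = n34601 := d21_6 D16757 F27520 (iv5 D8612) D8613 D18258 D38214 (iv1 D34601) (iv5 D16771) (iv6 D7830) D7826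
def n38215 : Q := act 7 n18258
theorem D38215 : act 7 n18258 = n38215 := rfl
def n38216 : Q := act 3 n18259
theorem D38216 : act 3 n18259 = n38216 := rfl
def n38217 : Q := act 4 n18259
theorem D38217 : act 4 n18259 = n38217 := rfl
def n38218 : Q := act 5 n18259
theorem D38218 : act 5 n18259 = n38218 := rfl
def n38219 : Q := act 6 n18259
theorem D38219 : act 6 n18259 = n38219 := rfl
def n38220 : Q := act 0 n18260
theorem D38220 : act 0 n18260 = n38220 := rfl
def n38221 : Q := act 1 n18260
theorem D38221 : act 1 n18260 = n38221 := rfl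
theorem F59080 : act 1 n38221 = n18402 := d15_1 D38221 (iv7 D18402) (iv2 F29455)
def n38222 : Q := act 4 n18260
theorem D38222 : act 4 n18260 = n38222 := rfl
theorem F59081 : act 2 n38222 = n18401 := d1_1 D38222 (iv4 D18401) (iv2 F29455)
def n38223 : Q := act 7 n18260
theorem D38223 : act 7 n18260 = n38223 := rfl
theorem F59082 : act 2 n38223 = n18402 := d4_1 D38223 (iv7 D18402) (iv2 F29455)
theorem F59083 : act 5 n38223 = n18261 := d13_1 D38223 (iv7 D18261) D18260
theorem F59084 : act 1 n18402 = n38220 := d15_0 (iv0 D38220) D38223 F59082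
theorem F59085 : act 1 n18400 = n38223 := d15_1 D18400 (iv7 D38223) F29455
theorem F59086 : act 1 n38223 = n18399 := d15_0 (iv0 D18399) D18402 (iv2 F59082)
def n38224 : Q := act 0 n18263
theorem D38224 : act 0 n18263 = n38224 := rfl
theorem F59087 : act 1 n18437 = n38224 := d15_0 (iv0 D38224) F29627 D18437
def n38225 : Q := act 1 n18263
theorem D38225 : act 1 n18263 = n38225 := rfl
def n38226 : Q := act 2 n18263
theorem D38226 : act 2 n18263 = n38226 := rfl
theorem F59088 : act 3 n38226 = n18415 := d0_2 D18263 D38226 (iv2 D18415) (iv3 D8666) (iv2 F29623)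
theorem F59089 : act 7 n38226 = n18437 := d4_2 (iv7 F29627) D38226 (iv2 D18437)
theorem F59090 : act 1 n38226 = n18435 := d15_0 (iv0 D18435) (iv7 F29627) D38226
theorem F59091 : act 1 n38225 = n18437 := d15_1 D38225 (iv7 F59089) (iv2 D38226)
theorem F59092 : act 1 n18436 = n38226 := d15_1 D18436 F59089 (iv2 D18437)
def n38227 : Q := act 4 n18263
theorem D38227 : act 4 n18263 = n38227 := rfl
theorem F59093 : act 7 n38227 = n18438 := d11_2 (iv7 F29627) D38227 (iv4 D18438)
def n38228 : Q := act 5 n18263
theorem D38228 : act 5 n18263 = n38228 := rfl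
theorem F59094 : act 3 n38228 = n18265 := d6_1 D38228 (iv5 D18265) D18263
theorem F59095 : act 7 n38228 = n18439 := d13_2 (iv7 F29627) D38228 (iv5 D18439)
def n38229 : Q := act 0 n18264
theorem D38229 : act 0 n18264 = n38229 := rfl
theorem F59096 : act 1 n18268 = n38229 := d15_0 (iv0 D38229) F29629 (iv2 F29620)
def n38230 : Q := act 1 n18264
theorem D38230 : act 1 n18264 = n38230 := rfl
theorem F59097 : act 1 n38230 = n18268 := d15_1 D38230 F29621 (iv2 F29628)
def n38231 : Q := act 3 n18264
theorem D38231 : act 3 n18264 = n38231 := rfl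
theorem F59098 : act 7 n38231 = n18441 := d8_2 (iv7 F29629) D38231 (iv3 D18441)
def n38232 : Q := act 5 n18264
theorem D38232 : act 5 n18264 = n38232 := rfl
theorem F59099 : act 2 n38232 = n18423 := d2_1 D38232 (iv5 D18423) (iv2 F29628)
theorem F59100 : act 7 n38232 = n18442 := d13_2 (iv7 F29629) D38232 (iv5 D18442)
def n38233 : Q := act 4 n18265
theorem D38233 : act 4 n18265 = n38233 := rfl
theorem F59101 : act 2 n38233 = n18428 := d1_1 D38233 (iv4 D18428) (iv2 F29630)
theorem F59102 : act 7 n38233 = n18444 := d11_2 (iv7 F29631) D38233 (iv4 D18444)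
def n38234 : Q := act 0 n18267
theorem D38234 : act 0 n18267 = n38234 := rfl
theorem F59103 : act 1 n18415 = n38234 := d15_0 (iv0 D38234) F29619 D18415
def n38235 : Q := act 1 n18267
theorem D38235 : act 1 n18267 = n38235 := rfl
def n38236 : Q := act 2 n18267
theorem D38236 : act 2 n18267 = n38236 := rfl
theorem F59104 : act 3 n38236 = n18437 := d0_2 D18267 D38236 (iv2 D18437) (iv3 D8671) F29618
theorem F59105 : act 7 n38236 = n18415 := d4_2 (iv7 F29619) D38236 (iv2 D18415)
theorem F59106 : act 1 n38236 = n18413 := d15_0 (iv0 D18413) (iv7 F29619) D38236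
theorem F59107 : act 1 n38235 = n18415 := d15_1 D38235 (iv7 F59105) (iv2 D38236)
theorem F59108 : act 1 n18414 = n38236 := d15_1 D18414 F59105 (iv2 D18415)
def n38237 : Q := act 4 n18267
theorem D38237 : act 4 n18267 = n38237 := rfl
theorem F59109 : act 7 n38237 = n18416 := d11_2 (iv7 F29619) D38237 (iv4 D18416)
theorem F59110 : act 0 n38237 = n18891 := d20_7 F29956 (iv1 F9809) F5859 (iv3 F5849) (iv1 F13527) D18267 D38237 F30144 F13774 D8850
def n38238 : Q := act 6 n18267
theorem D38238 : act 6 n18267 = n38238 := rfl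
theorem F59111 : act 3 n38238 = n18269 := d7_1 D38238 (iv6 D18269) D18267
def n38239 : Q := act 3 n18268
theorem D38239 : act 3 n18268 = n38239 := rfl
theorem F59112 : act 7 n38239 = n18422 := d8_2 (iv7 F29621) D38239 (iv3 D18422)
def n38240 : Q := act 5 n18268
theorem D38240 : act 5 n18268 = n38240 := rfl
theorem F59113 : act 2 n38240 = n18442 := d2_1 D38240 (iv5 D18442) (iv2 F29620)
theorem F59114 : act 7 n38240 = n18423 := d13_2 (iv7 F29621) D38240 (iv5 D18423)
def n38241 : Q := act 6 n18268
theorem D38241 : act 6 n18268 = n38241 := rfl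
theorem F59115 : act 2 n38241 = n18443 := d3_1 D38241 (iv6 D18443) (iv2 F29620)
theorem F59116 : act 4 n38241 = n18269 := d10_1 D38241 (iv6 D18269) D18268
def n38242 : Q := act 3 n18270
theorem D38242 : act 3 n18270 = n38242 := rfl
theorem F59117 : act 4 n38242 = n35402 := d5_2 D18270 D38242 (iv3 D35402) (iv4 F28429) F28425
theorem F59118 : act 7 n38242 = n35605 := d8_2 (iv7 F29464) D38242 (iv3 D35605)
def n38243 : Q := act 6 n18270
theorem D38243 : act 6 n18270 = n38243 := rfl
theorem F59119 : act 2 n38243 = n18275 := d3_1 D38243 (iv6 D18275) (iv2 F29463)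
theorem F59120 : act 4 n38243 = n18271 := d10_1 D38243 (iv6 D18271) D18270
def n38244 : Q := act 0 n18271
theorem D38244 : act 0 n18271 = n38244 := rfl
theorem F59121 : act 6 n38244 = n37839 := d21_5 (iv5 F13787) (iv1 F13789) (iv5 F13532) D18271 D38244 (iv5 D37839) (iv1 D18138) F13375 (iv6 D8552) (iv1 F27412)
def n38245 : Q := act 1 n18271
theorem D38245 : act 1 n18271 = n38245 := rfl
theorem F59122 : act 1 n38245 = n18279 := d15_1 D38245 (iv7 D18279) (iv2 F29467)
def n38246 : Q := act 5 n18271
theorem D38246 : act 5 n18271 = n38246 := rfl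
theorem F59123 : act 2 n38246 = n18278 := d2_1 D38246 (iv5 D18278) (iv2 F29467)
theorem F59124 : act 6 n38246 = n34462 := d12_2 D18271 D38246 (iv5 D34462) (iv6 D16715) (iv5 F13532)
def n38247 : Q := act 7 n18271
theorem D38247 : act 7 n18271 = n38247 := rfl
theorem F59125 : act 2 n38247 = n18279 := d4_1 D38247 (iv7 D18279) (iv2 F29467)
theorem F59126 : act 1 n18279 = n38244 := d15_0 (iv0 D38244) D38247 F59125
theorem F59127 : act 1 n18277 = n38247 := d15_1 D18277 (iv7 D38247) F29467
theorem F59128 : act 1 n38247 = n18276 := d15_0 (iv0 D18276) D18279 (iv2 F59125)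
def n38248 : Q := act 3 n18272
theorem D38248 : act 3 n18272 = n38248 := rfl
theorem F59129 : act 4 n38248 = n18931 := d5_2 (iv4 F29470) D38248 (iv3 D18931) (iv4 D8877) (iv3 F13754)
theorem F59130 : act 7 n38248 = n35598 := d8_2 (iv7 F29469) D38248 (iv3 D35598)
def n38249 : Q := act 6 n18272
theorem D38249 : act 6 n18272 = n38249 := rfl
theorem F59131 : act 2 n38249 = n18891 := d3_1 D38249 (iv6 D18891) F29471
theorem F59132 : act 4 n38249 = n18885 := d10_1 D38249 (iv6 D18885) (iv4 F29470)
theorem F59133 : act 0 n38249 = n18416 := d20_7 (iv4 F29457) (iv1 F29459) D18396 (iv3 F30230) (iv1 D18934) (iv3 F30131) (iv4 F59132) (iv4 D18416) (iv3 D8666) (iv1 F13531)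
def n38250 : Q := act 0 n18273
theorem D38250 : act 0 n18273 = n38250 := rfl
def n38251 : Q := act 1 n18273
theorem D38251 : act 1 n18273 = n38251 := rfl
def n38252 : Q := act 2 n18273
theorem D38252 : act 2 n18273 = n38252 := rfl
theorem F59134 : act 4 n38252 = n18285 := d1_2 (iv4 F29472) D38252 (iv2 D18285)
theorem F59135 : act 5 n38252 = n33227 := d2_2 F56581 D38252 (iv2 F56579)
def n38253 : Q := act 6 n18273
theorem D38253 : act 6 n18273 = n38253 := rfl
theorem F59136 : act 3 n38253 = n18275 := d7_1 D38253 (iv6 D18275) D18273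
theorem F59137 : act 4 n38253 = n18287 := d10_1 D38253 (iv6 D18287) (iv4 F29472)
def n38254 : Q := act 6 n18274
theorem D38254 : act 6 n18274 = n38254 := rfl
def n38255 : Q := act 0 n18275
theorem D38255 : act 0 n18275 = n38255 := rfl
def n38256 : Q := act 1 n18275
theorem D38256 : act 1 n18275 = n38256 := rfl
def n38257 : Q := act 5 n18275
theorem D38257 : act 5 n18275 = n38257 := rfl
def n38258 : Q := act 7 n18275
theorem D38258 : act 7 n18275 = n38258 := rfl
theorem F59138 : act 4 n38258 = n18279 := d11_1 D38258 (iv7 D18279) (iv4 F29474)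
def n38259 : Q := act 2 n18276
theorem D38259 : act 2 n18276 = n38259 := rfl
theorem F59139 : act 7 n18277 = n38259 := d15_2 (iv0 D18276) D18277 (iv2 D38259)
def n38260 : Q := act 3 n18276
theorem D38260 : act 3 n18276 = n38260 := rfl
def n38261 : Q := act 4 n18276
theorem D38261 : act 4 n18276 = n38261 := rfl
def n38262 : Q := act 5 n18276
theorem D38262 : act 5 n18276 = n38262 := rfl
def n38263 : Q := act 6 n18276
theorem D38263 : act 6 n18276 = n38263 := rfl
theorem F59140 : act 5 n38263 = n37814 := d21_6 (iv5 D16714) (iv1 D7804) F7230 D8621 D18276 D38263 (iv1 D37814) F29299 (iv6 D18131) F27413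
def n38264 : Q := act 7 n18276
theorem D38264 : act 7 n18276 = n38264 := rfl
theorem F59141 : act 2 n38264 = n18277 := d4_1 D38264 F59139 (iv2 D38259)
def n38265 : Q := act 3 n18277
theorem D38265 : act 3 n18277 = n38265 := rfl
def n38266 : Q := act 4 n18277
theorem D38266 : act 4 n18277 = n38266 := rfl
def n38267 : Q := act 5 n18277
theorem D38267 : act 5 n18277 = n38267 := rfl
def n38268 : Q := act 6 n18277
theorem D38268 : act 6 n18277 = n38268 := rfl
def n38269 : Q := act 0 n18278
theorem D38269 : act 0 n18278 = n38269 := rfl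
def n38270 : Q := act 1 n18278
theorem D38270 : act 1 n18278 = n38270 := rfl
def n38271 : Q := act 4 n18278
theorem D38271 : act 4 n18278 = n38271 := rfl
theorem F59142 : act 6 n38271 = n34465 := d10_2 (iv6 F29476) D38271 (iv4 D34465)
def n38272 : Q := act 7 n18278
theorem D38272 : act 7 n18278 = n38272 := rfl
theorem F59143 : act 3 n38272 = n18308 := d8_1 D38272 (iv7 D18308) (iv3 F29475)
theorem F59144 : act 5 n38272 = n18279 := d13_1 D38272 (iv7 D18279) D18278
def n38273 : Q := act 0 n18280
theorem D38273 : act 0 n18280 = n38273 := rfl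
def n38274 : Q := act 1 n18280
theorem D38274 : act 1 n18280 = n38274 := rfl
def n38275 : Q := act 2 n18280
theorem D38275 : act 2 n18280 = n38275 := rfl
theorem F59145 : act 4 n38275 = n36117 := d1_2 (iv4 F29478) D38275 (iv2 D36117)
def n38276 : Q := act 6 n18280
theorem D38276 : act 6 n18280 = n38276 := rfl
theorem F59146 : act 3 n38276 = n18281 := d7_1 D38276 (iv6 D18281) D18280
theorem F59147 : act 4 n38276 = n36119 := d10_1 D38276 (iv6 D36119) (iv4 F29478)
def n38277 : Q := act 0 n18281
theorem D38277 : act 0 n18281 = n38277 := rfl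
def n38278 : Q := act 1 n18281
theorem D38278 : act 1 n18281 = n38278 := rfl
def n38279 : Q := act 5 n18281
theorem D38279 : act 5 n18281 = n38279 := rfl
def n38280 : Q := act 7 n18281
theorem D38280 : act 7 n18281 = n38280 := rfl
theorem F59148 : act 4 n38280 = n36114 := d11_1 D38280 (iv7 D36114) (iv4 F29479)
def n38281 : Q := act 2 n18282
theorem D38281 : act 2 n18282 = n38281 := rfl
theorem F59149 : act 1 n38281 = n18642 := d15_0 (iv0 F34404) F34403 D38281
theorem F59150 : act 1 n36566 = n38281 := d15_0 F59149 (iv7 F42554) (iv2 F57435)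
def n38282 : Q := act 6 n18282
theorem D38282 : act 6 n18282 = n38282 := rfl
theorem F59151 : act 3 n38282 = n18283 := d7_1 D38282 (iv6 D18283) D18282
def n38283 : Q := act 0 n18283
theorem D38283 : act 0 n18283 = n38283 := rfl
def n38284 : Q := act 1 n18283
theorem D38284 : act 1 n18283 = n38284 := rfl
def n38285 : Q := act 5 n18283
theorem D38285 : act 5 n18283 = n38285 := rfl
def n38286 : Q := act 7 n18283
theorem D38286 : act 7 n18283 = n38286 := rfl
def n38287 : Q := act 3 n18284
theorem D38287 : act 3 n18284 = n38287 := rfl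
def n38288 : Q := act 6 n18284
theorem D38288 : act 6 n18284 = n38288 := rfl
def n38289 : Q := act 6 n18285
theorem D38289 : act 6 n18285 = n38289 := rfl
theorem F59152 : act 2 n38289 = n18287 := d3_1 D38289 (iv6 D18287) D18285
def n38290 : Q := act 6 n18286
theorem D38290 : act 6 n18286 = n38290 := rfl
theorem F59153 : act 2 n38290 = n33261 := d3_1 D38290 (iv6 D33261) (iv2 F29485)
theorem F59154 : act 3 n38290 = n18290 := d7_1 D38290 (iv6 D18290) (iv3 F29480)
theorem F59155 : act 4 n38290 = n32439 := d10_1 D38290 (iv6 D32439) F29483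
def n38291 : Q := act 0 n18287
theorem D38291 : act 0 n18287 = n38291 := rfl
def n38292 : Q := act 1 n18287
theorem D38292 : act 1 n18287 = n38292 := rfl
def n38293 : Q := act 5 n18287
theorem D38293 : act 5 n18287 = n38293 := rfl
theorem F59156 : act 3 n38293 = n18293 := d6_1 D38293 (iv5 D18293) (iv3 F29487)
def n38294 : Q := act 7 n18287
theorem D38294 : act 7 n18287 = n38294 := rfl
theorem F59157 : act 3 n38294 = n18294 := d8_1 D38294 (iv7 D18294) (iv3 F29487)
def n38295 : Q := act 3 n18288
theorem D38295 : act 3 n18288 = n38295 := rfl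
theorem F59158 : act 5 n38295 = n21945 := d6_2 (iv5 F29488) D38295 (iv3 D21945)
theorem F59159 : act 7 n38295 = n37875 := d8_2 F29492 D38295 F58741
def n38296 : Q := act 6 n18288
theorem D38296 : act 6 n18288 = n38296 := rfl
theorem F59160 : act 2 n38296 = n37884 := d3_1 D38296 (iv6 D37884) F29491
theorem F59161 : act 4 n38296 = n21979 := d10_1 D38296 (iv6 D21979) (iv4 F29489)
def n38297 : Q := act 3 n18289
theorem D38297 : act 3 n18289 = n38297 := rfl
theorem F59162 : act 5 n38297 = n21940 := d6_2 (iv5 F29495) D38297 (iv3 D21940)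
theorem F59163 : act 7 n38297 = n36562 := d8_2 (iv7 F29494) D38297 F57431
theorem F59164 : act 0 n27164 = n38297 := d20_4 (iv4 D8576) D8575 (iv4 F21652) D27164 (iv3 D38297) F29496 (iv1 F17137) (iv4 F28666) (iv3 D17624) (iv1 F13482)
theorem F59165 : act 1 n36564 = n38297 := d15_0 (iv0 F59164) F43927 D36564
def n38298 : Q := act 6 n18289
theorem D38298 : act 6 n18289 = n38298 := rfl
theorem F59166 : act 2 n38298 = n37877 := d3_1 D38298 (iv6 D37877) F29497
theorem F59167 : act 4 n38298 = n21988 := d10_1 D38298 (iv6 D21988) (iv4 F29496)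
def n38299 : Q := act 0 n18290
theorem D38299 : act 0 n18290 = n38299 := rfl
def n38300 : Q := act 1 n18290
theorem D38300 : act 1 n18290 = n38300 := rfl
def n38301 : Q := act 5 n18290
theorem D38301 : act 5 n18290 = n38301 := rfl
theorem F59168 : act 6 n38301 = n18293 := d12_2 D18290 D38301 (iv5 D18293) (iv6 D8626) D8625
def n38302 : Q := act 7 n18290
theorem D38302 : act 7 n18290 = n38302 := rfl
theorem F59169 : act 4 n38302 = n22658 := d11_1 D38302 (iv7 D22658) (iv4 F29498)
def n38303 : Q := act 2 n18291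
theorem D38303 : act 2 n18291 = n38303 := rfl
theorem F59170 : act 7 n18292 = n38303 := d15_2 (iv0 D18291) D18292 (iv2 D38303)
def n38304 : Q := act 3 n18291
theorem D38304 : act 3 n18291 = n38304 := rfl
def n38305 : Q := act 4 n18291
theorem D38305 : act 4 n18291 = n38305 := rfl
def n38306 : Q := act 5 n18291
theorem D38306 : act 5 n18291 = n38306 := rfl
def n38307 : Q := act 6 n18291
theorem D38307 : act 6 n18291 = n38307 := rfl
def n38308 : Q := act 7 n18291
theorem D38308 : act 7 n18291 = n38308 := rfl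
theorem F59171 : act 2 n38308 = n18292 := d4_1 D38308 F59170 (iv2 D38303)
def n38309 : Q := act 3 n18292
theorem D38309 : act 3 n18292 = n38309 := rfl
def n38310 : Q := act 4 n18292
theorem D38310 : act 4 n18292 = n38310 := rfl
def n38311 : Q := act 5 n18292
theorem D38311 : act 5 n18292 = n38311 := rfl
def n38312 : Q := act 6 n18292
theorem D38312 : act 6 n18292 = n38312 := rfl
def n38313 : Q := act 0 n18293
theorem D38313 : act 0 n18293 = n38313 := rfl
def n38314 : Q := act 1 n18293
theorem D38314 : act 1 n18293 = n38314 := rfl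
theorem F59172 : act 5 n38041 = n38314 := d21_6 (iv5 F29332) (iv1 F29333) (iv5 D8587) D8588 D18206 D38041 (iv1 D38314) (iv5 D18293) (iv6 D8626) D8622
def n38315 : Q := act 4 n18293
theorem D38315 : act 4 n18293 = n38315 := rfl
def n38316 : Q := act 7 n18293
theorem D38316 : act 7 n18293 = n38316 := rfl
theorem F59173 : act 5 n38316 = n18294 := d13_1 D38316 (iv7 D18294) D18293
def n38319 : Q := act 3 n18295
theorem D38319 : act 3 n18295 = n38319 := rfl
theorem F59176 : act 7 n38319 = n18301 := d8_2 F29500 D38319 (iv3 D18301)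
def n38320 : Q := act 4 n18295
theorem D38320 : act 4 n18295 = n38320 := rfl
theorem F59177 : act 2 n38320 = n18297 := d1_1 D38320 (iv4 D18297) D18295
theorem F59178 : act 7 n38320 = n18302 := d11_2 F29500 D38320 (iv4 D18302)
def n38321 : Q := act 5 n18295
theorem D38321 : act 5 n18295 = n38321 := rfl
theorem F59179 : act 2 n38321 = n18298 := d2_1 D38321 (iv5 D18298) D18295
theorem F59180 : act 7 n38321 = n18303 := d13_2 F29500 D38321 (iv5 D18303)
def n38322 : Q := act 6 n18295
theorem D38322 : act 6 n18295 = n38322 := rfl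
theorem F59181 : act 2 n38322 = n18299 := d3_1 D38322 (iv6 D18299) D18295
theorem F59182 : act 5 n34551 = n38322 := d2_0 F59181 F29501 (iv2 F54803)
theorem F59183 : act 7 n18445 = n38322 := d15_2 (iv0 F29592) (iv0 F29609) F59181
def n38325 : Q := act 2 n18296
theorem D38325 : act 2 n18296 = n38325 := rfl
def n38326 : Q := act 4 n18296
theorem D38326 : act 4 n18296 = n38326 := rfl
def n38327 : Q := act 5 n18296
theorem D38327 : act 5 n18296 = n38327 := rfl
def n38328 : Q := act 6 n18296
theorem D38328 : act 6 n18296 = n38328 := rfl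
theorem F59185 : act 3 n38328 = n18299 := d7_1 D38328 (iv6 D18299) D18296
theorem F59186 : act 5 n34552 = n38328 := d6_0 F59185 F29501 D34552
def n38329 : Q := act 7 n18296
theorem D38329 : act 7 n18296 = n38329 := rfl
theorem F59187 : act 3 n38329 = n18300 := d8_1 D38329 (iv7 D18300) D18296
def n38330 : Q := act 0 n18297
theorem D38330 : act 0 n18297 = n38330 := rfl
def n38331 : Q := act 1 n18297
theorem D38331 : act 1 n18297 = n38331 := rfl
theorem F59188 : act 1 n38331 = n18302 := d15_1 D38331 (iv7 F59178) F59177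
def n38332 : Q := act 3 n18297
theorem D38332 : act 3 n18297 = n38332 := rfl
def n38333 : Q := act 5 n18297
theorem D38333 : act 5 n18297 = n38333 := rfl
def n38334 : Q := act 6 n18297
theorem D38334 : act 6 n18297 = n38334 := rfl
theorem F59189 : act 4 n38334 = n18299 := d10_1 D38334 (iv6 D18299) D18297
def n38335 : Q := act 7 n18297
theorem D38335 : act 7 n18297 = n38335 := rfl
theorem F59190 : act 2 n38335 = n18302 := d4_1 D38335 (iv7 F59178) F59177
theorem F59191 : act 4 n38335 = n18300 := d11_1 D38335 (iv7 D18300) D18297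
theorem F59192 : act 1 n18302 = n38330 := d15_0 (iv0 D38330) D38335 F59190
def n38336 : Q := act 1 n18298
theorem D38336 : act 1 n18298 = n38336 := rfl
theorem F59193 : act 1 n38336 = n18303 := d15_1 D38336 (iv7 F59180) F59179
def n38337 : Q := act 4 n18298
theorem D38337 : act 4 n18298 = n38337 := rfl
def n38338 : Q := act 6 n18298
theorem D38338 : act 6 n18298 = n38338 := rfl
theorem F59194 : act 5 n38338 = n34554 := d12_1 D38338 (iv6 D34554) (iv5 F29501) (iv6 D18299) D18298
theorem F59195 : act 0 n38338 = n18457 := d21_10 (iv5 D18457) (iv1 D8677) D8678 F13585 F12347 (iv6 F13541) (iv5 D8629) D8627 D18298 D38338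
theorem F59196 : act 0 n18458 = n38094 := d21_10 (iv5 D38094) F54767 F54763 F27489 (iv1 F27509) D34554 (iv5 F59194) F59195 (iv5 D18457) D18458
theorem F59197 : act 0 n18452 = n38338 := d21_1 D18452 F59194 (iv6 D34554) (iv1 D16754) (iv6 D7825) (iv5 F7170) (iv1 F6428) (iv5 F2864) D3889 D8676
def n38339 : Q := act 7 n18298
theorem D38339 : act 7 n18298 = n38339 := rfl
theorem F59198 : act 2 n38339 = n18303 := d4_1 D38339 (iv7 F59180) F59179
theorem F59199 : act 5 n38339 = n18300 := d13_1 D38339 (iv7 D18300) D18298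
theorem F59200 : act 1 n18303 = n34649 := d15_0 (iv0 F54896) D38339 F59198
def n38340 : Q := act 7 n18299
theorem D38340 : act 7 n18299 = n38340 := rfl
def n38341 : Q := act 6 n18300
theorem D38341 : act 6 n18300 = n38341 := rfl
theorem F59203 : act 2 n38341 = n18304 := d3_1 D38341 (iv6 D18304) (iv2 F29502)
def n38346 : Q := act 5 n18301
theorem D38346 : act 5 n18301 = n38346 := rfl
theorem F59204 : act 3 n38346 = n18303 := d6_1 D38346 (iv5 D18303) D18301
def n38347 : Q := act 6 n18301
theorem D38347 : act 6 n18301 = n38347 := rfl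
theorem F59205 : act 3 n38347 = n18304 := d7_1 D38347 (iv6 D18304) D18301
def n38348 : Q := act 3 n18302
theorem D38348 : act 3 n18302 = n38348 := rfl
def n38349 : Q := act 5 n18302
theorem D38349 : act 5 n18302 = n38349 := rfl
def n38350 : Q := act 6 n18302
theorem D38350 : act 6 n18302 = n38350 := rfl
theorem F59206 : act 4 n38350 = n18304 := d10_1 D38350 (iv6 D18304) D18302
def n38351 : Q := act 4 n18303
theorem D38351 : act 4 n18303 = n38351 := rfl
def n38352 : Q := act 6 n18303
theorem D38352 : act 6 n18303 = n38352 := rfl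
theorem F59207 : act 0 n18468 = n38352 := d21_4 (iv5 D16711) (iv1 F12267) D8684 D18468 (iv6 D38352) (iv5 D18303) (iv1 D8628) D8629 F13541 (iv1 F27401)
def n38353 : Q := act 0 n18304
theorem D38353 : act 0 n18304 = n38353 := rfl
def n38354 : Q := act 1 n18304
theorem D38354 : act 1 n18304 = n38354 := rfl
def n38355 : Q := act 5 n18304
theorem D38355 : act 5 n18304 = n38355 := rfl
def n38356 : Q := act 7 n18304
theorem D38356 : act 7 n18304 = n38356 := rfl
theorem F59208 : act 6 n38356 = n18445 := d14_1 D38356 F59183 (iv6 D38322) (iv7 F29500) D18304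
theorem F59209 : act 0 n38356 = n18453 := d21_4 F12374 D16753 (iv5 F29608) (iv6 F59208) (iv6 D18453) D18452 F59197 F59194 (iv6 D34554) (iv1 D16754)
theorem F59210 : act 1 n38341 = n18453 := d15_0 (iv0 F59209) (iv7 D38356) (iv2 F59203)
def n38357 : Q := act 2 n18305
theorem D38357 : act 2 n18305 = n38357 := rfl
theorem F59211 : act 7 n18306 = n38357 := d15_2 (iv0 D18305) D18306 (iv2 D38357)
theorem F59212 : act 5 n38357 = n38077 := d13_1 F59211 (iv7 D38077) F29503
def n38358 : Q := act 3 n18305
theorem D38358 : act 3 n18305 = n38358 := rfl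
def n38359 : Q := act 4 n18305
theorem D38359 : act 4 n18305 = n38359 := rfl
def n38360 : Q := act 5 n18305
theorem D38360 : act 5 n18305 = n38360 := rfl
theorem F59213 : act 2 n38360 = n38077 := d2_1 D38360 (iv5 F59212) (iv2 D38357)
theorem F59214 : act 6 n38360 = n34627 := d12_2 (iv6 F29525) D38360 F54884 (iv6 D18337) D18336
theorem F59215 : act 7 n38056 = n38360 := d4_0 F59213 (iv7 D38077) (iv2 F58878)
theorem F59216 : act 1 n38360 = n38075 := d15_0 (iv0 D38075) D38077 (iv2 F59213)
theorem E5874 : n38090 = n34627 := ((c14_2 F59215 F59214 (iv7 D38090) (iv6 D18219) F29377 D38056)).symm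
theorem F59217 : act 7 n34627 = n18219 := (sb E5874 (iv7 D38090))
theorem F59218 : act 1 n38076 = n38360 := d15_1 D38076 (iv7 F59215) F58878
theorem F59219 : act 7 n18426 = n18337 := d13_2 F59217 (iv5 F29589) (iv5 F54884)
theorem E5875 : n38078 = n34628 := (c15_4 F54885 F54889 F59217 (iv2 F58894))
theorem F59220 : act 2 n34628 = n18219 := (sb E5875 F58894)
theorem F59221 : act 6 n34628 = n18215 := (sb E5875 (iv6 D38078))
theorem F59222 : act 2 n18337 = n18427 := d15_3 F29590 F29595 F59219
theorem F59223 : act 6 n18427 = n18333 := d3_2 D18337 F59222 F29524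
def n38361 : Q := act 7 n18305
theorem D38361 : act 7 n18305 = n38361 := rfl
theorem F59224 : act 2 n38361 = n18306 := d4_1 D38361 F59211 (iv2 D38357)
theorem F59225 : act 5 n38361 = n38056 := d13_1 D38361 F59215 (iv5 D38360)
def n38363 : Q := act 4 n18306
theorem D38363 : act 4 n18306 = n38363 := rfl
def n38364 : Q := act 6 n18306
theorem D38364 : act 6 n18306 = n38364 := rfl
theorem F59227 : act 5 n38364 = n38073 := d12_1 D38364 (iv6 D38073) (iv5 D18213) D18214 F29503
def n38365 : Q := act 0 n18307
theorem D38365 : act 0 n18307 = n38365 := rfl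
def n38366 : Q := act 1 n18307
theorem D38366 : act 1 n18307 = n38366 := rfl
def n38367 : Q := act 3 n18307
theorem D38367 : act 3 n18307 = n38367 := rfl
theorem F59228 : act 6 n38367 = n34470 := d7_2 (iv6 F29504) D38367 (iv3 D34470)
def n38368 : Q := act 5 n18307
theorem D38368 : act 5 n18307 = n38368 := rfl
def n38369 : Q := act 7 n18307
theorem D38369 : act 7 n18307 = n38369 := rfl
theorem F59229 : act 4 n38369 = n18308 := d11_1 D38369 (iv7 D18308) D18307
def n38370 : Q := act 6 n18308
theorem D38370 : act 6 n18308 = n38370 := rfl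
theorem F59230 : act 7 n38370 = n34473 := d14_2 D18308 D38370 (iv6 D34473) (iv7 D16725) (iv6 F13541)
def n38371 : Q := act 3 n18309
theorem D38371 : act 3 n18309 = n38371 := rfl
theorem F59231 : act 4 n38371 = n35605 := d5_2 D18309 D38371 (iv3 D35605) F28199 F28017
theorem F59232 : act 7 n38371 = n35402 := d8_2 (iv7 F29507) D38371 (iv3 D35402)
theorem F59233 : act 0 n38371 = n33193 := d20_4 (iv4 F21591) (iv1 F21593) D18309 D38371 (iv3 D33193) (iv4 D16020) (iv1 F27120) D7598 F11832 D8066
def n38372 : Q := act 6 n18309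
theorem D38372 : act 6 n18309 = n38372 := rfl
theorem F59234 : act 2 n38372 = n18313 := d3_1 D38372 (iv6 D18313) (iv2 F29506)
theorem F59235 : act 4 n38372 = n18310 := d10_1 D38372 (iv6 D18310) D18309
def n38373 : Q := act 0 n18310
theorem D38373 : act 0 n18310 = n38373 := rfl
def n38374 : Q := act 1 n18310
theorem D38374 : act 1 n18310 = n38374 := rfl
theorem F59236 : act 1 n38374 = n18317 := d15_1 D38374 (iv7 D18317) (iv2 F29510)
def n38375 : Q := act 5 n18310
theorem D38375 : act 5 n18310 = n38375 := rfl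
theorem F59237 : act 2 n38375 = n18316 := d2_1 D38375 (iv5 D18316) (iv2 F29510)
theorem F59238 : act 6 n38375 = n34474 := d12_2 D18310 D38375 (iv5 D34474) (iv6 D16726) (iv5 F13542)
def n38376 : Q := act 7 n18310
theorem D38376 : act 7 n18310 = n38376 := rfl
theorem F59239 : act 2 n38376 = n18317 := d4_1 D38376 (iv7 D18317) (iv2 F29510)
theorem F59240 : act 1 n18317 = n38373 := d15_0 (iv0 D38373) D38376 F59239
theorem F59241 : act 1 n18315 = n38376 := d15_1 D18315 (iv7 D38376) F29510
theorem F59242 : act 1 n38376 = n18314 := d15_0 (iv0 D18314) D18317 (iv2 F59239)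
def n38377 : Q := act 0 n18311
theorem D38377 : act 0 n18311 = n38377 := rfl
def n38378 : Q := act 1 n18311
theorem D38378 : act 1 n18311 = n38378 := rfl
def n38379 : Q := act 2 n18311
theorem D38379 : act 2 n18311 = n38379 := rfl
theorem F59243 : act 4 n38379 = n18320 := d1_2 (iv4 F29511) D38379 (iv2 D18320)
def n38380 : Q := act 5 n18311
theorem D38380 : act 5 n18311 = n38380 := rfl
theorem F59244 : act 3 n38380 = n18312 := d6_1 D38380 (iv5 D18312) D18311
def n38381 : Q := act 6 n18311
theorem D38381 : act 6 n18311 = n38381 := rfl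
theorem F59245 : act 3 n38381 = n18313 := d7_1 D38381 (iv6 D18313) D18311
theorem F59246 : act 4 n38381 = n18322 := d10_1 D38381 (iv6 D18322) (iv4 F29511)
def n38382 : Q := act 6 n18312
theorem D38382 : act 6 n18312 = n38382 := rfl
def n38383 : Q := act 0 n18313
theorem D38383 : act 0 n18313 = n38383 := rfl
def n38384 : Q := act 1 n18313
theorem D38384 : act 1 n18313 = n38384 := rfl
def n38385 : Q := act 5 n18313
theorem D38385 : act 5 n18313 = n38385 := rfl
def n38386 : Q := act 7 n18313
theorem D38386 : act 7 n18313 = n38386 := rfl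
theorem F59247 : act 4 n38386 = n18317 := d11_1 D38386 (iv7 D18317) (iv4 F29514)
def n38387 : Q := act 2 n18314
theorem D38387 : act 2 n18314 = n38387 := rfl
theorem F59248 : act 7 n18315 = n38387 := d15_2 (iv0 D18314) D18315 (iv2 D38387)
def n38388 : Q := act 3 n18314
theorem D38388 : act 3 n18314 = n38388 := rfl
def n38389 : Q := act 4 n18314
theorem D38389 : act 4 n18314 = n38389 := rfl
def n38390 : Q := act 5 n18314
theorem D38390 : act 5 n18314 = n38390 := rfl
def n38391 : Q := act 6 n18314
theorem D38391 : act 6 n18314 = n38391 := rfl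
def n38392 : Q := act 7 n18314
theorem D38392 : act 7 n18314 = n38392 := rfl
theorem F59249 : act 2 n38392 = n18315 := d4_1 D38392 F59248 (iv2 D38387)
def n38393 : Q := act 3 n18315
theorem D38393 : act 3 n18315 = n38393 := rfl
def n38394 : Q := act 4 n18315
theorem D38394 : act 4 n18315 = n38394 := rfl
def n38395 : Q := act 5 n18315
theorem D38395 : act 5 n18315 = n38395 := rfl
def n38396 : Q := act 6 n18315
theorem D38396 : act 6 n18315 = n38396 := rfl
def n38397 : Q := act 0 n18316
theorem D38397 : act 0 n18316 = n38397 := rfl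
def n38398 : Q := act 1 n18316
theorem D38398 : act 1 n18316 = n38398 := rfl
def n38399 : Q := act 4 n18316
theorem D38399 : act 4 n18316 = n38399 := rfl
theorem F59250 : act 6 n38399 = n34477 := d10_2 (iv6 F29516) D38399 (iv4 D34477)
def n38400 : Q := act 7 n18316
theorem D38400 : act 7 n18316 = n38400 := rfl
theorem F59251 : act 3 n38400 = n18341 := d8_1 D38400 (iv7 D18341) (iv3 F29515)
theorem F59252 : act 5 n38400 = n18317 := d13_1 D38400 (iv7 D18317) D18316
def n38401 : Q := act 3 n18318
theorem D38401 : act 3 n18318 = n38401 := rfl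
theorem F59253 : act 4 n38401 = n19603 := d5_2 (iv4 F54790) D38401 F31375 (iv4 F27505) (iv3 F54788)
theorem F59254 : act 7 n38401 = n22713 := d8_2 F58860 D38401 (iv3 F58859)
def n38402 : Q := act 6 n18318
theorem D38402 : act 6 n18318 = n38402 := rfl
def n38403 : Q := act 5 n18319
theorem D38403 : act 5 n18319 = n38403 := rfl
def n38404 : Q := act 6 n18319
theorem D38404 : act 6 n18319 = n38404 := rfl
def n38405 : Q := act 5 n18320
theorem D38405 : act 5 n18320 = n38405 := rfl
theorem F59255 : act 2 n38405 = n18321 := d2_1 D38405 (iv5 D18321) D18320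
theorem F59256 : act 3 n38405 = n26388 := d6_1 D38405 (iv5 F53185) F53189
theorem F59257 : act 7 n38405 = n33260 := d13_2 F58957 D38405 F58960
theorem F59258 : act 0 n38405 = n38022 := d17_2 (iv1 F58862) D38405 (iv5 D38022) (iv4 F52494) F58960 F58958 (iv5 F58857) (iv0 D38025) D38027
theorem F59259 : act 1 n38131 = n38022 := d15_0 (iv0 F59258) F59257 (iv2 F58961)
theorem F59260 : act 4 n34538 = n38405 := d11_3 F59257 F52494 (iv7 F58969)
theorem F59261 : act 1 n38405 = n38019 := d15_0 (iv0 F58970) F58963 (iv2 F59255)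
def n38406 : Q := act 6 n18320
theorem D38406 : act 6 n18320 = n38406 := rfl
theorem F59262 : act 2 n38406 = n18322 := d3_1 D38406 (iv6 D18322) D18320
def n38407 : Q := act 0 n18321
theorem D38407 : act 0 n18321 = n38407 := rfl
theorem F59263 : act 5 n38407 = n34537 := d19_1 D38407 F58966 F58962 F29404 (iv5 D18156) (iv4 F14280) F14276 (iv1 F16127) (iv5 D10207) F6688 (iv3 D4023) (iv1 F6411) (iv5 F1901) (iv4 F3316) (iv3 D2024) D2022 D4902 (iv4 F13545) (iv3 F29518)
theorem F59264 : act 1 n33260 = n38407 := d15_0 (iv0 D38407) (iv7 F58963) F58961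
theorem F59265 : act 2 n38022 = n38407 := d2_3 F59263 F58965 D38022
theorem F59266 : act 7 n38019 = n38407 := d13_0 F59263 F58967 D38019
def n38408 : Q := act 1 n18321
theorem D38408 : act 1 n18321 = n38408 := rfl
theorem F59267 : act 1 n38408 = n33260 := d15_1 D38408 (iv7 F59257) F59255
theorem F59268 : act 7 n38408 = n38022 := d15_2 (iv0 D38407) D38408 F59265
theorem F59269 : act 2 n38019 = n38408 := d4_3 F59268 F59265 (iv7 F59266)
theorem F59270 : act 5 n34538 = n38408 := d13_3 F59268 (iv5 D38022) (iv7 F58969)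
def n38409 : Q := act 6 n18321
theorem D38409 : act 6 n18321 = n38409 := rfl
theorem F59271 : act 3 n38409 = n18323 := d7_1 D38409 (iv6 D18323) (iv3 F29518)
theorem F59272 : act 4 n38409 = n38020 := d10_1 D38409 (iv6 D38020) F29519
def n38410 : Q := act 0 n18322
theorem D38410 : act 0 n18322 = n38410 := rfl
def n38411 : Q := act 1 n18322
theorem D38411 : act 1 n18322 = n38411 := rfl
def n38412 : Q := act 5 n18322
theorem D38412 : act 5 n18322 = n38412 := rfl
theorem F59273 : act 3 n38412 = n18326 := d6_1 D38412 (iv5 D18326) (iv3 F29520)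
def n38413 : Q := act 7 n18322
theorem D38413 : act 7 n18322 = n38413 := rfl
theorem F59274 : act 3 n38413 = n18327 := d8_1 D38413 (iv7 D18327) (iv3 F29520)
def n38414 : Q := act 0 n18323
theorem D38414 : act 0 n18323 = n38414 := rfl
def n38415 : Q := act 1 n18323
theorem D38415 : act 1 n18323 = n38415 := rfl
def n38416 : Q := act 5 n18323
theorem D38416 : act 5 n18323 = n38416 := rfl
theorem F59275 : act 6 n38416 = n18326 := d12_2 D18323 D38416 (iv5 D18326) (iv6 D8637) D8636
def n38417 : Q := act 7 n18323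
theorem D38417 : act 7 n18323 = n38417 := rfl
theorem F59276 : act 4 n38417 = n22617 := d11_1 D38417 (iv7 D22617) (iv4 F29521)
def n38418 : Q := act 2 n18324
theorem D38418 : act 2 n18324 = n38418 := rfl
theorem F59277 : act 7 n18325 = n38418 := d15_2 (iv0 D18324) D18325 (iv2 D38418)
def n38419 : Q := act 3 n18324
theorem D38419 : act 3 n18324 = n38419 := rfl
def n38420 : Q := act 4 n18324
theorem D38420 : act 4 n18324 = n38420 := rfl
def n38421 : Q := act 5 n18324
theorem D38421 : act 5 n18324 = n38421 := rfl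
def n38422 : Q := act 6 n18324
theorem D38422 : act 6 n18324 = n38422 := rfl
def n38423 : Q := act 7 n18324
theorem D38423 : act 7 n18324 = n38423 := rfl
theorem F59278 : act 2 n38423 = n18325 := d4_1 D38423 F59277 (iv2 D38418)
def n38424 : Q := act 3 n18325
theorem D38424 : act 3 n18325 = n38424 := rfl
def n38425 : Q := act 4 n18325
theorem D38425 : act 4 n18325 = n38425 := rfl
def n38426 : Q := act 5 n18325
theorem D38426 : act 5 n18325 = n38426 := rfl
def n38427 : Q := act 6 n18325
theorem D38427 : act 6 n18325 = n38427 := rfl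
def n38428 : Q := act 0 n18326
theorem D38428 : act 0 n18326 = n38428 := rfl
def n38429 : Q := act 1 n18326
theorem D38429 : act 1 n18326 = n38429 := rfl
theorem F59279 : act 5 n37907 = n38429 := d21_6 (iv5 F29335) (iv1 D18162) (iv5 D8565) D8566 D18164 D37907 (iv1 D38429) (iv5 D18326) (iv6 D8637) (iv1 F13538)
def n38430 : Q := act 4 n18326
theorem D38430 : act 4 n18326 = n38430 := rfl
def n38431 : Q := act 7 n18326
theorem D38431 : act 7 n18326 = n38431 := rfl
theorem F59280 : act 5 n38431 = n18327 := d13_1 D38431 (iv7 D18327) D18326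
def n38433 : Q := act 1 n18328
theorem D38433 : act 1 n18328 = n38433 := rfl
theorem F59282 : act 1 n38433 = n18333 := d15_1 D38433 (iv7 D18333) D18328
def n38434 : Q := act 3 n18328
theorem D38434 : act 3 n18328 = n38434 := rfl
theorem F59283 : act 7 n38434 = n18334 := d8_2 F29523 D38434 (iv3 D18334)
def n38435 : Q := act 4 n18328
theorem D38435 : act 4 n18328 = n38435 := rfl
theorem F59284 : act 2 n38435 = n18330 := d1_1 D38435 (iv4 D18330) D18328
theorem F59285 : act 7 n38435 = n18335 := d11_2 F29523 D38435 (iv4 D18335)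
def n38436 : Q := act 5 n18328
theorem D38436 : act 5 n18328 = n38436 := rfl
theorem F59286 : act 2 n38436 = n18331 := d2_1 D38436 (iv5 D18331) D18328
theorem F59287 : act 7 n38436 = n18336 := d13_2 F29523 D38436 (iv5 D18336)
def n38437 : Q := act 6 n18328
theorem D38437 : act 6 n18328 = n38437 := rfl
theorem F59288 : act 2 n38437 = n18332 := d3_1 D38437 (iv6 D18332) D18328
def n38442 : Q := act 5 n18329
theorem D38442 : act 5 n18329 = n38442 := rfl
theorem F59289 : act 3 n38442 = n18331 := d6_1 D38442 (iv5 D18331) D18329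
def n38444 : Q := act 7 n18329
theorem D38444 : act 7 n18329 = n38444 := rfl
theorem F59291 : act 3 n38444 = n18333 := d8_1 D38444 (iv7 D18333) D18329
def n38445 : Q := act 0 n18330
theorem D38445 : act 0 n18330 = n38445 := rfl
def n38446 : Q := act 1 n18330
theorem D38446 : act 1 n18330 = n38446 := rfl
theorem F59292 : act 1 n38446 = n18335 := d15_1 D38446 (iv7 F59285) F59284
def n38447 : Q := act 3 n18330
theorem D38447 : act 3 n18330 = n38447 := rfl
def n38448 : Q := act 5 n18330
theorem D38448 : act 5 n18330 = n38448 := rfl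
def n38449 : Q := act 6 n18330
theorem D38449 : act 6 n18330 = n38449 := rfl
theorem F59293 : act 4 n38449 = n18332 := d10_1 D38449 (iv6 D18332) D18330
def n38450 : Q := act 7 n18330
theorem D38450 : act 7 n18330 = n38450 := rfl
theorem F59294 : act 2 n38450 = n18335 := d4_1 D38450 (iv7 F59285) F59284
theorem F59295 : act 4 n38450 = n18333 := d11_1 D38450 (iv7 D18333) D18330
theorem F59296 : act 1 n18335 = n38445 := d15_0 (iv0 D38445) D38450 F59294
def n38451 : Q := act 0 n18331
theorem D38451 : act 0 n18331 = n38451 := rfl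
def n38452 : Q := act 1 n18331
theorem D38452 : act 1 n18331 = n38452 := rfl
theorem F59297 : act 1 n38452 = n18336 := d15_1 D38452 (iv7 F59287) F59286
def n38453 : Q := act 4 n18331
theorem D38453 : act 4 n18331 = n38453 := rfl
def n38454 : Q := act 6 n18331
theorem D38454 : act 6 n18331 = n38454 := rfl
def n38455 : Q := act 7 n18331
theorem D38455 : act 7 n18331 = n38455 := rfl
theorem F59298 : act 2 n38455 = n18336 := d4_1 D38455 (iv7 F59287) F59286
theorem F59299 : act 5 n38455 = n18333 := d13_1 D38455 (iv7 D18333) D18331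
theorem F59300 : act 1 n18336 = n38451 := d15_0 (iv0 D38451) D38455 F59298
theorem F59301 : act 6 n38357 = n38455 := d3_0 F59298 (iv6 F29525) D38357
def n38456 : Q := act 0 n18332
theorem D38456 : act 0 n18332 = n38456 := rfl
def n38457 : Q := act 1 n18332
theorem D38457 : act 1 n18332 = n38457 := rfl
def n38458 : Q := act 7 n18332
theorem D38458 : act 7 n18332 = n38458 := rfl
def n38459 : Q := act 0 n18334
theorem D38459 : act 0 n18334 = n38459 := rfl
def n38460 : Q := act 1 n18334
theorem D38460 : act 1 n18334 = n38460 := rfl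
def n38461 : Q := act 2 n18334
theorem D38461 : act 2 n18334 = n38461 := rfl
def n38462 : Q := act 4 n18334
theorem D38462 : act 4 n18334 = n38462 := rfl
def n38463 : Q := act 5 n18334
theorem D38463 : act 5 n18334 = n38463 := rfl
theorem F59303 : act 3 n38463 = n18336 := d6_1 D38463 (iv5 D18336) D18334
theorem F59304 : act 6 n38358 = n38463 := d7_0 F59303 (iv6 F29525) D38358
def n38464 : Q := act 6 n18334
theorem D38464 : act 6 n18334 = n38464 := rfl
theorem F59305 : act 3 n38464 = n18337 := d7_1 D38464 (iv6 D18337) D18334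
def n38465 : Q := act 3 n18335
theorem D38465 : act 3 n18335 = n38465 := rfl
def n38466 : Q := act 5 n18335
theorem D38466 : act 5 n18335 = n38466 := rfl
def n38467 : Q := act 6 n18335
theorem D38467 : act 6 n18335 = n38467 := rfl
theorem F59306 : act 4 n38467 = n18337 := d10_1 D38467 (iv6 D18337) D18335
def n38468 : Q := act 4 n18336
theorem D38468 : act 4 n18336 = n38468 := rfl
theorem F59307 : act 6 n38468 = n38359 := d10_2 F29525 D38468 (iv4 D38359)
def n38469 : Q := act 0 n18337
theorem D38469 : act 0 n18337 = n38469 := rfl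
def n38470 : Q := act 1 n18337
theorem D38470 : act 1 n18337 = n38470 := rfl
def n38471 : Q := act 2 n18338
theorem D38471 : act 2 n18338 = n38471 := rfl
theorem F59308 : act 7 n18339 = n38471 := d15_2 (iv0 D18338) D18339 (iv2 D38471)
theorem F59309 : act 5 n38471 = n37940 := d13_1 F59308 (iv7 D37940) F29526
def n38472 : Q := act 3 n18338
theorem D38472 : act 3 n18338 = n38472 := rfl
def n38473 : Q := act 4 n18338
theorem D38473 : act 4 n18338 = n38473 := rfl
def n38474 : Q := act 5 n18338
theorem D38474 : act 5 n18338 = n38474 := rfl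
theorem F59310 : act 2 n38474 = n37940 := d2_1 D38474 (iv5 F59309) (iv2 D38471)
theorem F59311 : act 6 n38474 = n34633 := d21_3 D8640 D18338 D38474 (iv1 D34633) (iv6 D16778) D16777 D34627 F54884 (iv6 D18337) (iv1 D8639)
theorem F59312 : act 7 n37922 = n38474 := d4_0 F59310 (iv7 D37940) (iv2 F58764)
theorem F59313 : act 1 n38474 = n37939 := d15_0 (iv0 D37939) D37940 (iv2 F59310)
theorem E5876 : n37955 = n34633 := ((c14_2 F59312 F59311 (iv7 D37955) (iv6 D18177) F29338 D37922)).symm
theorem F59314 : act 7 n34633 = n18177 := (sb E5876 (iv7 D37955))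
theorem F59315 : act 1 n34630 = n38474 := d15_1 (iv0 F54886) (iv7 F59312) F58764
theorem E5877 : n37941 = n34632 := (c15_4 (iv0 D34632) D34633 F59314 (iv2 F58776))
theorem F59316 : act 2 n34632 = n18177 := (sb E5877 F58776)
theorem F59317 : act 6 n34632 = n18173 := (sb E5877 (iv6 D37941))
def n38475 : Q := act 6 n18338
theorem D38475 : act 6 n18338 = n38475 := rfl
def n38476 : Q := act 7 n18338
theorem D38476 : act 7 n18338 = n38476 := rfl
theorem F59318 : act 2 n38476 = n18339 := d4_1 D38476 F59308 (iv2 D38471)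
theorem F59319 : act 5 n38476 = n37922 := d13_1 D38476 F59312 (iv5 D38474)
def n38477 : Q := act 3 n18339
theorem D38477 : act 3 n18339 = n38477 := rfl
def n38478 : Q := act 4 n18339
theorem D38478 : act 4 n18339 = n38478 := rfl
def n38479 : Q := act 6 n18339
theorem D38479 : act 6 n18339 = n38479 := rfl
theorem F59321 : act 5 n38479 = n37937 := d12_1 D38479 (iv6 D37937) (iv5 D18171) D18172 F29526
def n38480 : Q := act 0 n18340
theorem D38480 : act 0 n18340 = n38480 := rfl
def n38481 : Q := act 1 n18340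
theorem D38481 : act 1 n18340 = n38481 := rfl
def n38482 : Q := act 3 n18340
theorem D38482 : act 3 n18340 = n38482 := rfl
theorem F59322 : act 6 n38482 = n34480 := d7_2 (iv6 F29527) D38482 (iv3 D34480)
def n38483 : Q := act 5 n18340
theorem D38483 : act 5 n18340 = n38483 := rfl
def n38484 : Q := act 7 n18340
theorem D38484 : act 7 n18340 = n38484 := rfl
theorem F59323 : act 4 n38484 = n18341 := d11_1 D38484 (iv7 D18341) D18340
def n38485 : Q := act 6 n18341
theorem D38485 : act 6 n18341 = n38485 := rfl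
theorem F59324 : act 7 n38485 = n18468 := d14_2 D18341 D38485 (iv6 D18468) F13597 (iv6 F13547)
def n38486 : Q := act 2 n18342
theorem D38486 : act 2 n18342 = n38486 := rfl
theorem F59325 : act 7 n18343 = n38486 := d15_2 (iv0 D18342) D18343 (iv2 D38486)
def n38487 : Q := act 3 n18342
theorem D38487 : act 3 n18342 = n38487 := rfl
def n38488 : Q := act 4 n18342
theorem D38488 : act 4 n18342 = n38488 := rfl
def n38489 : Q := act 5 n18342
theorem D38489 : act 5 n18342 = n38489 := rfl
theorem F59326 : act 0 n38489 = n27036 := d17_2 D18342 D38489 F54809 (iv4 F54814) (iv5 F58716) F58717 F58709 F35288 (iv4 D18345)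
theorem F59327 : act 4 n38489 = n27537 := d19_2 D18342 D38489 (iv3 D27537) (iv1 F21942) D16222 (iv4 F46210) F46209 (iv1 F55952) (iv5 D35211) F28038 (iv3 F27493) (iv1 F27497) F13256 (iv4 D6097) (iv3 F12183) (iv1 D4119) D4121 F7228 D8643
theorem F59328 : act 7 n33655 = n38489 := d11_0 F59327 F44424 D33655
theorem F59329 : act 7 n18342 = n38180 := d13_2 F59328 (iv5 D38489) F59040
theorem F59330 : act 2 n38489 = n35429 := d15_3 (iv0 D35429) (iv0 F56135) F59328
theorem F59331 : act 5 n35429 = n38486 := d2_2 D38489 F59330 (iv2 D38486)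
theorem F59332 : act 2 n38180 = n18343 := d4_1 F59329 F59325 (iv2 D38486)
theorem E5878 : n38486 = n38181 := (c15_4 F59042 F59041 (iv7 F59329) D38486)
theorem F59333 : act 2 n38181 = n18342 := (sb E5878 (iv2 D38486))
theorem F59334 : act 5 n38181 = n35429 := (sb E5878 (iv5 F59331))
theorem F59335 : act 7 n38181 = n18343 := (sb E5878 (iv7 F59325))
theorem E5879 : n22711 = n22595 := (c17_9 (iv1 F59042) F59334 (iv1 F56146) (iv5 D34559) D34558 (iv5 F58703) (iv0 D37850) F29317 D22711 (iv4 F35134))
theorem F59336 : act 0 n22595 = n10747 := (sb E5879 (iv1 D22711))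
theorem F59337 : act 1 n38489 = n18379 := d15_1 (iv0 F59326) (iv7 F54819) F54817
def n38490 : Q := act 6 n18342
theorem D38490 : act 6 n18342 = n38490 := rfl
def n38491 : Q := act 3 n18343
theorem D38491 : act 3 n18343 = n38491 := rfl
def n38492 : Q := act 4 n18343
theorem D38492 : act 4 n18343 = n38492 := rfl
def n38493 : Q := act 5 n18343
theorem D38493 : act 5 n18343 = n38493 := rfl
theorem F59338 : act 2 n38493 = n33655 := d2_1 D38493 (iv5 F59040) F59332
theorem F59339 : act 7 n38493 = n35429 := d13_2 F59335 D38493 (iv5 F59334)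
theorem F59340 : act 1 n18379 = n38493 := d15_1 F59337 F59339 (iv2 F59330)
theorem F59341 : act 1 n38493 = n27036 := d15_1 F59340 F43691 (iv2 F29553)
theorem F59342 : act 4 n33654 = n38493 := d1_0 F59338 (iv4 D33655) D33654
def n38494 : Q := act 6 n18343
theorem D38494 : act 6 n18343 = n38494 := rfl
def n38495 : Q := act 6 n18344
theorem D38495 : act 6 n18344 = n38495 := rfl
theorem F59343 : act 2 n38495 = n18347 := d3_1 D38495 (iv6 D18347) D18344
theorem F59344 : act 3 n38495 = n35356 := d7_1 D38495 (iv6 D35356) (iv3 F29529)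
def n38496 : Q := act 6 n18345
theorem D38496 : act 6 n18345 = n38496 := rfl
theorem F59345 : act 4 n38496 = n18347 := d10_1 D38496 (iv6 D18347) D18345
def n38497 : Q := act 4 n18346
theorem D38497 : act 4 n18346 = n38497 := rfl
theorem F59346 : act 2 n38497 = n27333 := d1_1 D38497 F44236 (iv2 F29531)
theorem F59347 : act 3 n38497 = n22512 := d5_1 D38497 (iv4 D22512) F17231 (iv4 F13549) (iv3 F29532)
def n38498 : Q := act 6 n18346
theorem D38498 : act 6 n18346 = n38498 := rfl
theorem F59348 : act 2 n38498 = n35355 := d3_1 D38498 (iv6 D35355) (iv2 F29531)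
theorem F59349 : act 3 n38498 = n18348 := d7_1 D38498 (iv6 D18348) (iv3 F29532)
def n38499 : Q := act 0 n18347
theorem D38499 : act 0 n18347 = n38499 := rfl
def n38500 : Q := act 1 n18347
theorem D38500 : act 1 n18347 = n38500 := rfl
def n38501 : Q := act 5 n18347
theorem D38501 : act 5 n18347 = n38501 := rfl
theorem F59350 : act 3 n38501 = n18351 := d6_1 D38501 (iv5 D18351) (iv3 F29533)
def n38502 : Q := act 7 n18347
theorem D38502 : act 7 n18347 = n38502 := rfl
theorem F59351 : act 3 n38502 = n18352 := d8_1 D38502 (iv7 D18352) (iv3 F29533)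
def n38503 : Q := act 0 n18348
theorem D38503 : act 0 n18348 = n38503 := rfl
def n38504 : Q := act 1 n18348
theorem D38504 : act 1 n18348 = n38504 := rfl
def n38505 : Q := act 5 n18348
theorem D38505 : act 5 n18348 = n38505 := rfl
theorem F59352 : act 6 n38505 = n18351 := d12_2 D18348 D38505 (iv5 D18351) (iv6 D8645) D8644
def n38506 : Q := act 7 n18348
theorem D38506 : act 7 n18348 = n38506 := rfl
theorem F59353 : act 4 n38506 = n22521 := d11_1 D38506 (iv7 D22521) (iv4 F29534)
def n38510 : Q := act 5 n18349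
theorem D38510 : act 5 n18349 = n38510 := rfl
def n38511 : Q := act 6 n18349
theorem D38511 : act 6 n18349 = n38511 := rfl
def n38517 : Q := act 0 n18351
theorem D38517 : act 0 n18351 = n38517 := rfl
def n38518 : Q := act 1 n18351
theorem D38518 : act 1 n18351 = n38518 := rfl
def n38519 : Q := act 4 n18351
theorem D38519 : act 4 n18351 = n38519 := rfl
def n38520 : Q := act 7 n18351
theorem D38520 : act 7 n18351 = n38520 := rfl
theorem F59356 : act 5 n38520 = n18352 := d13_1 D38520 (iv7 D18352) D18351
def n38521 : Q := act 3 n18353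
theorem D38521 : act 3 n18353 = n38521 := rfl
theorem F59357 : act 5 n38521 = n35402 := d6_2 (iv5 F29536) D38521 (iv3 D35402)
theorem F59358 : act 0 n18361 = n38521 := d20_4 F42536 (iv1 F41922) (iv4 D18362) D18361 (iv3 D38521) (iv4 F56778) (iv1 D36015) (iv4 F28716) (iv3 F28720) D26562
def n38522 : Q := act 6 n18353
theorem D38522 : act 6 n18353 = n38522 := rfl
def n38523 : Q := act 0 n18354
theorem D38523 : act 0 n18354 = n38523 := rfl
def n38524 : Q := act 1 n18354
theorem D38524 : act 1 n18354 = n38524 := rfl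
def n38525 : Q := act 5 n18354
theorem D38525 : act 5 n18354 = n38525 := rfl
theorem F59359 : act 3 n38525 = n18358 := d6_1 D38525 (iv5 D18358) (iv3 F29537)
theorem F59360 : act 6 n38525 = n35323 := d12_2 D18354 D38525 (iv5 D35323) (iv6 D17146) (iv5 F13555)
def n38526 : Q := act 7 n18354
theorem D38526 : act 7 n18354 = n38526 := rfl
theorem F59361 : act 3 n38526 = n18359 := d8_1 D38526 (iv7 D18359) (iv3 F29537)
def n38527 : Q := act 0 n18355
theorem D38527 : act 0 n18355 = n38527 := rfl
def n38528 : Q := act 1 n18355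
theorem D38528 : act 1 n18355 = n38528 := rfl
def n38529 : Q := act 5 n18355
theorem D38529 : act 5 n18355 = n38529 := rfl
theorem F59362 : act 3 n38529 = n35323 := d6_1 D38529 (iv5 D35323) (iv3 F29538)
theorem F59363 : act 6 n38529 = n18358 := d12_2 D18355 D38529 (iv5 D18358) (iv6 D8649) D8648
def n38530 : Q := act 7 n18355
theorem D38530 : act 7 n18355 = n38530 := rfl
theorem F59364 : act 3 n38530 = n35324 := d8_1 D38530 (iv7 D35324) (iv3 F29538)
theorem F59365 : act 4 n38530 = n22407 := d11_1 D38530 (iv7 D22407) (iv4 F29539)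
def n38535 : Q := act 6 n18356
theorem D38535 : act 6 n18356 = n38535 := rfl
def n38541 : Q := act 0 n18358
theorem D38541 : act 0 n18358 = n38541 := rfl
def n38542 : Q := act 1 n18358
theorem D38542 : act 1 n18358 = n38542 := rfl
def n38543 : Q := act 4 n18358
theorem D38543 : act 4 n18358 = n38543 := rfl
def n38544 : Q := act 7 n18358
theorem D38544 : act 7 n18358 = n38544 := rfl
theorem F59368 : act 5 n38544 = n18359 := d13_1 D38544 (iv7 D18359) D18358
def n38545 : Q := act 1 n18361
theorem D38545 : act 1 n18361 = n38545 := rfl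
def n38546 : Q := act 2 n18361
theorem D38546 : act 2 n18361 = n38546 := rfl
theorem F59369 : act 3 n38546 = n35970 := d0_2 D18361 D38546 F56682 (iv3 D26581) (iv2 F42866)
theorem F59370 : act 5 n35969 = n38546 := d6_0 F59369 (iv5 D35970) D35969
def n38547 : Q := act 5 n18361
theorem D38547 : act 5 n18361 = n38547 := rfl
theorem F59371 : act 2 n38547 = n35969 := d2_1 D38547 F59370 (iv2 D38546)
theorem F59372 : act 3 n38547 = n18363 := d6_1 D38547 (iv5 D18363) D18361
def n38548 : Q := act 6 n18361
theorem D38548 : act 6 n18361 = n38548 := rfl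
theorem F59373 : act 3 n38548 = n18364 := d7_1 D38548 (iv6 D18364) D18361
def n38549 : Q := act 6 n18362
theorem D38549 : act 6 n18362 = n38549 := rfl
theorem F59374 : act 4 n38549 = n18364 := d10_1 D38549 (iv6 D18364) D18362
def n38550 : Q := act 0 n18363
theorem D38550 : act 0 n18363 = n38550 := rfl
theorem F59375 : act 5 n38550 = n26515 := d17_3 D8650 D18363 D38550 (iv4 D26515) F26964 F11547 F25983 (iv0 D3911) (iv4 F5846)
theorem F59376 : act 2 n26730 = n38550 := d15_3 (iv0 D38550) (iv0 F41892) (iv7 F42860)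
theorem F59377 : act 1 n18367 = n38550 := d15_0 (iv0 D38550) F42872 (iv2 F42870)
theorem F59378 : act 7 n38550 = n34577 := d15_2 (iv0 F29542) F59377 F54850
theorem F59379 : act 4 n38550 = n37268 := d18_7 (iv1 F58227) F40628 (iv1 F40611) F51661 (iv5 F52024) F52023 F59377 (iv0 D37268) D37270
def n38551 : Q := act 4 n18363
theorem D38551 : act 4 n18363 = n38551 := rfl
theorem F59380 : act 2 n38551 = n32737 := d1_1 D38551 F51822 F42871
def n38552 : Q := act 6 n18363
theorem D38552 : act 6 n18363 = n38552 := rfl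
def n38553 : Q := act 0 n18364
theorem D38553 : act 0 n18364 = n38553 := rfl
def n38554 : Q := act 1 n18364
theorem D38554 : act 1 n18364 = n38554 := rfl
def n38555 : Q := act 5 n18364
theorem D38555 : act 5 n18364 = n38555 := rfl
def n38556 : Q := act 7 n18364
theorem D38556 : act 7 n18364 = n38556 := rfl
def n38557 : Q := act 0 n18366
theorem D38557 : act 0 n18366 = n38557 := rfl
theorem F59381 : act 5 n38557 = n33182 := d17_3 (iv1 D35961) (iv5 F29544) D38557 F52407 F30326 (iv0 F28349) (iv5 F27214) (iv0 F46090) (iv4 F56660)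
theorem F59382 : act 1 n35970 = n38557 := d15_0 (iv0 D38557) (iv7 F42945) (iv2 F56682)
def n38558 : Q := act 1 n18366
theorem D38558 : act 1 n18366 = n38558 := rfl
theorem F59383 : act 1 n38558 = n35970 := d15_1 D38558 F56683 F52490
theorem F59384 : act 5 n38558 = n33183 := d17_7 (iv1 F27120) F5431 D3673 D8159 D17410 (iv5 F29544) D38558 F52409 (iv4 D16020)
def n38559 : Q := act 6 n18366
theorem D38559 : act 6 n18366 = n38559 := rfl
theorem F59385 : act 3 n38559 = n18368 := d7_1 D38559 (iv6 D18368) D18366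
def n38560 : Q := act 6 n18367
theorem D38560 : act 6 n18367 = n38560 := rfl
theorem F59386 : act 3 n38560 = n35962 := d7_1 D38560 (iv6 D35962) F29543
def n38561 : Q := act 0 n18368
theorem D38561 : act 0 n18368 = n38561 := rfl
def n38562 : Q := act 1 n18368
theorem D38562 : act 1 n18368 = n38562 := rfl
def n38563 : Q := act 5 n18368
theorem D38563 : act 5 n18368 = n38563 := rfl
def n38564 : Q := act 7 n18368
theorem D38564 : act 7 n18368 = n38564 := rfl
def n38565 : Q := act 6 n18369
theorem D38565 : act 6 n18369 = n38565 := rfl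
theorem F59387 : act 2 n38565 = n18374 := d3_1 D38565 (iv6 D18374) (iv2 F29545)
def n38566 : Q := act 0 n18370
theorem D38566 : act 0 n18370 = n38566 := rfl
def n38567 : Q := act 1 n18370
theorem D38567 : act 1 n18370 = n38567 := rfl
theorem F59388 : act 1 n38567 = n18378 := d15_1 D38567 (iv7 D18378) (iv2 F29546)
def n38568 : Q := act 5 n18370
theorem D38568 : act 5 n18370 = n38568 := rfl
theorem F59389 : act 2 n38568 = n18377 := d2_1 D38568 (iv5 D18377) (iv2 F29546)
def n38569 : Q := act 7 n18370
theorem D38569 : act 7 n18370 = n38569 := rfl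
theorem F59390 : act 2 n38569 = n18378 := d4_1 D38569 (iv7 D18378) (iv2 F29546)
theorem F59391 : act 4 n38569 = n18652 := d11_1 D38569 (iv7 D18652) (iv4 F29547)
theorem F59392 : act 1 n18378 = n38566 := d15_0 (iv0 D38566) D38569 F59390
theorem F59393 : act 1 n18376 = n38569 := d15_1 D18376 (iv7 D38569) F29546
theorem F59394 : act 1 n38569 = n18375 := d15_0 (iv0 D18375) D18378 (iv2 F59390)
def n38570 : Q := act 3 n18371
theorem D38570 : act 3 n18371 = n38570 := rfl
theorem F59395 : act 2 n38570 = n33193 := d0_1 D38570 (iv3 D33193) (iv2 F42103) F42579 F42582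
def n38571 : Q := act 4 n18371
theorem D38571 : act 4 n18371 = n38571 := rfl
theorem F59396 : act 2 n38571 = n32688 := d1_1 D38571 F51762 F42582
def n38572 : Q := act 6 n18371
theorem D38572 : act 6 n18371 = n38572 := rfl
def n38573 : Q := act 4 n18372
theorem D38573 : act 4 n18372 = n38573 := rfl
theorem F59397 : act 3 n38573 = n26263 := d5_1 D38573 F41713 F26435 D16010 F29548
theorem F59398 : act 7 n38573 = n32688 := d11_2 F42580 D38573 F51762
theorem F59399 : act 5 n38573 = n32649 := d16_1 D38573 F51712 F40597 (iv4 F40591) (iv5 F51518) F51519 F42850 F42583 (iv2 F42581)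
def n38574 : Q := act 6 n18372
theorem D38574 : act 6 n18372 = n38574 := rfl
theorem F59400 : act 3 n38574 = n33185 := d7_1 D38574 (iv6 D33185) F29548
def n38575 : Q := act 1 n18373
theorem D38575 : act 1 n18373 = n38575 := rfl
def n38576 : Q := act 3 n18373
theorem D38576 : act 3 n18373 = n38576 := rfl
theorem F59401 : act 4 n38576 = n18382 := d5_2 D18373 D38576 (iv3 D18382) (iv4 D8657) (iv3 F13557)
theorem F59402 : act 7 n38576 = n22313 := d8_2 F42585 D38576 (iv3 F42584)
def n38577 : Q := act 6 n18373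
theorem D38577 : act 6 n18373 = n38577 := rfl
theorem F59403 : act 4 n38577 = n18374 := d10_1 D38577 (iv6 D18374) D18373
def n38578 : Q := act 0 n18374
theorem D38578 : act 0 n18374 = n38578 := rfl
def n38579 : Q := act 1 n18374
theorem D38579 : act 1 n18374 = n38579 := rfl
def n38580 : Q := act 5 n18374
theorem D38580 : act 5 n18374 = n38580 := rfl
theorem F59404 : act 3 n38580 = n18386 := d6_1 D38580 (iv5 D18386) (iv3 F29549)
theorem F59405 : act 6 n38580 = n18377 := d12_2 D18374 D38580 (iv5 D18377) (iv6 D8654) D8653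
def n38581 : Q := act 7 n18374
theorem D38581 : act 7 n18374 = n38581 := rfl
theorem F59406 : act 3 n38581 = n18387 := d8_1 D38581 (iv7 D18387) (iv3 F29549)
def n38582 : Q := act 2 n18375
theorem D38582 : act 2 n18375 = n38582 := rfl
theorem F59407 : act 7 n18376 = n38582 := d15_2 (iv0 D18375) D18376 (iv2 D38582)
def n38583 : Q := act 3 n18375
theorem D38583 : act 3 n18375 = n38583 := rfl
def n38584 : Q := act 4 n18375
theorem D38584 : act 4 n18375 = n38584 := rfl
def n38585 : Q := act 5 n18375
theorem D38585 : act 5 n18375 = n38585 := rfl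
def n38586 : Q := act 6 n18375
theorem D38586 : act 6 n18375 = n38586 := rfl
def n38587 : Q := act 7 n18375
theorem D38587 : act 7 n18375 = n38587 := rfl
theorem F59408 : act 2 n38587 = n18376 := d4_1 D38587 F59407 (iv2 D38582)
def n38588 : Q := act 3 n18376
theorem D38588 : act 3 n18376 = n38588 := rfl
def n38589 : Q := act 4 n18376
theorem D38589 : act 4 n18376 = n38589 := rfl
def n38590 : Q := act 5 n18376
theorem D38590 : act 5 n18376 = n38590 := rfl
def n38591 : Q := act 6 n18376
theorem D38591 : act 6 n18376 = n38591 := rfl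
def n38592 : Q := act 0 n18377
theorem D38592 : act 0 n18377 = n38592 := rfl
def n38593 : Q := act 1 n18377
theorem D38593 : act 1 n18377 = n38593 := rfl
def n38594 : Q := act 4 n18377
theorem D38594 : act 4 n18377 = n38594 := rfl
def n38595 : Q := act 7 n18377
theorem D38595 : act 7 n18377 = n38595 := rfl
theorem F59409 : act 3 n38595 = n18402 := d8_1 D38595 (iv7 D18402) (iv3 F29550)
theorem F59410 : act 5 n38595 = n18378 := d13_1 D38595 (iv7 D18378) D18377
def n38596 : Q := act 4 n18379
theorem D38596 : act 4 n18379 = n38596 := rfl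
theorem F59411 : act 2 n38596 = n35423 := d1_1 D38596 F56133 (iv2 F29553)
theorem F59412 : act 3 n38596 = n22133 := d5_1 D38596 (iv4 D22133) F17032 (iv4 F13569) D18379
theorem F59413 : act 0 n27766 = n22133 := d20_4 (iv4 D7564) (iv1 F9800) D13255 D27766 (iv3 F59412) (iv4 D38596) (iv1 F59337) F59327 (iv3 D27537) (iv1 F21942)
theorem F59414 : act 1 n33630 = n22133 := d15_0 (iv0 F59413) F44847 D33630
def n38597 : Q := act 6 n18379
theorem D38597 : act 6 n18379 = n38597 := rfl
theorem F59415 : act 2 n38597 = n35430 := d3_1 D38597 (iv6 D35430) (iv2 F29553)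
theorem F59416 : act 3 n38597 = n18380 := d7_1 D38597 (iv6 D18380) D18379
def n38598 : Q := act 0 n18380
theorem D38598 : act 0 n18380 = n38598 := rfl
def n38599 : Q := act 1 n18380
theorem D38599 : act 1 n18380 = n38599 := rfl
def n38600 : Q := act 5 n18380
theorem D38600 : act 5 n18380 = n38600 := rfl
theorem F59417 : act 6 n38600 = n21957 := d12_2 D18380 D38600 (iv5 D21957) (iv6 D10476) F13570
def n38601 : Q := act 7 n18380
theorem D38601 : act 7 n18380 = n38601 := rfl
theorem F59418 : act 4 n38601 = n22142 := d11_1 D38601 (iv7 D22142) (iv4 F29555)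
def n38602 : Q := act 0 n18381
theorem D38602 : act 0 n18381 = n38602 := rfl
def n38603 : Q := act 1 n18381
theorem D38603 : act 1 n18381 = n38603 := rfl
def n38604 : Q := act 5 n18381
theorem D38604 : act 5 n18381 = n38604 := rfl
theorem F59419 : act 3 n38604 = n35406 := d6_1 D38604 (iv5 D35406) (iv3 F29556)
theorem F59420 : act 6 n38604 = n22105 := d12_2 D18381 D38604 (iv5 D22105) (iv6 D10535) (iv5 F13561)
def n38605 : Q := act 7 n18381
theorem D38605 : act 7 n18381 = n38605 := rfl
theorem F59421 : act 3 n38605 = n35407 := d8_1 D38605 (iv7 D35407) (iv3 F29556)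
theorem F59422 : act 4 n38605 = n22007 := d11_1 D38605 (iv7 D22007) (iv4 F29557)
def n38606 : Q := act 0 n18382
theorem D38606 : act 0 n18382 = n38606 := rfl
theorem F59423 : act 1 n22309 = n38606 := d15_0 (iv0 D38606) F29559 (iv2 F34804)
def n38607 : Q := act 1 n18382
theorem D38607 : act 1 n18382 = n38607 := rfl
theorem F59424 : act 1 n38607 = n22309 := d15_1 D38607 F34806 F30908
def n38608 : Q := act 6 n18382
theorem D38608 : act 6 n18382 = n38608 := rfl
theorem F59425 : act 3 n38608 = n18383 := d7_1 D38608 (iv6 D18383) D18382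
def n38609 : Q := act 0 n18383
theorem D38609 : act 0 n18383 = n38609 := rfl
def n38610 : Q := act 1 n18383
theorem D38610 : act 1 n18383 = n38610 := rfl
theorem F59426 : act 1 n38610 = n22748 := d15_1 D38610 F35302 (iv2 F29560)
def n38611 : Q := act 5 n18383
theorem D38611 : act 5 n18383 = n38611 := rfl
theorem F59427 : act 2 n38611 = n22751 := d2_1 D38611 (iv5 D22751) (iv2 F29560)
theorem F59428 : act 6 n38611 = n21860 := d12_2 D18383 D38611 (iv5 D21860) (iv6 D10428) (iv5 F13565)
def n38612 : Q := act 7 n18383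
theorem D38612 : act 7 n18383 = n38612 := rfl
theorem F59429 : act 2 n38612 = n22748 := d4_1 D38612 F35302 (iv2 F29560)
theorem F59430 : act 4 n38612 = n18387 := d11_1 D38612 (iv7 D18387) (iv4 F29561)
theorem F59431 : act 6 n38612 = n22322 := d14_1 D38612 (iv7 D22322) (iv6 D10628) (iv7 F13567) D18383
theorem F59432 : act 1 n22748 = n38609 := d15_0 (iv0 D38609) D38612 F59429
theorem F59433 : act 1 n22750 = n38612 := d15_1 D22750 (iv7 D38612) F29560
theorem F59434 : act 1 n38612 = n22749 := d15_0 (iv0 D22749) (iv7 F35302) (iv2 F59429)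
def n38613 : Q := act 2 n18384
theorem D38613 : act 2 n18384 = n38613 := rfl
theorem F59435 : act 7 n18385 = n38613 := d15_2 (iv0 D18384) D18385 (iv2 D38613)
def n38614 : Q := act 3 n18384
theorem D38614 : act 3 n18384 = n38614 := rfl
def n38615 : Q := act 4 n18384
theorem D38615 : act 4 n18384 = n38615 := rfl
def n38616 : Q := act 5 n18384
theorem D38616 : act 5 n18384 = n38616 := rfl
def n38617 : Q := act 6 n18384
theorem D38617 : act 6 n18384 = n38617 := rfl
def n38618 : Q := act 7 n18384
theorem D38618 : act 7 n18384 = n38618 := rfl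
theorem F59436 : act 2 n38618 = n18385 := d4_1 D38618 F59435 (iv2 D38613)
def n38619 : Q := act 3 n18385
theorem D38619 : act 3 n18385 = n38619 := rfl
def n38620 : Q := act 4 n18385
theorem D38620 : act 4 n18385 = n38620 := rfl
def n38621 : Q := act 5 n18385
theorem D38621 : act 5 n18385 = n38621 := rfl
def n38622 : Q := act 6 n18385
theorem D38622 : act 6 n18385 = n38622 := rfl
def n38623 : Q := act 0 n18386
theorem D38623 : act 0 n18386 = n38623 := rfl
def n38624 : Q := act 1 n18386
theorem D38624 : act 1 n18386 = n38624 := rfl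
def n38625 : Q := act 4 n18386
theorem D38625 : act 4 n18386 = n38625 := rfl
theorem F59437 : act 6 n38625 = n18401 := d10_2 (iv6 F29562) D38625 (iv4 D18401)
def n38626 : Q := act 7 n18386
theorem D38626 : act 7 n18386 = n38626 := rfl
theorem F59438 : act 5 n38626 = n18387 := d13_1 D38626 (iv7 D18387) D18386
def n38627 : Q := act 6 n18387
theorem D38627 : act 6 n18387 = n38627 := rfl
theorem F59439 : act 2 n38627 = n22733 := d3_1 D38627 (iv6 F59073) F59071
theorem F59440 : act 4 n38627 = n22322 := d10_1 D38627 (iv6 F59431) F59430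
theorem F59441 : act 7 n38627 = n18388 := d14_2 D18387 D38627 (iv6 D18388) (iv7 D8659) D8658
theorem F59442 : act 1 n22731 = n38627 := d15_1 D22731 F59441 F29563
theorem F59443 : act 1 n38627 = n22730 := d15_0 (iv0 D22730) D22733 (iv2 F59439)
def n38628 : Q := act 0 n18388
theorem D38628 : act 0 n18388 = n38628 := rfl
theorem F59444 : act 1 n22733 = n38628 := d15_0 (iv0 D38628) (iv7 F59441) F59439
def n38629 : Q := act 1 n18388
theorem D38629 : act 1 n18388 = n38629 := rfl
theorem F59445 : act 1 n38629 = n22733 := d15_1 D38629 (iv7 D22733) (iv2 F29563)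
def n38630 : Q := act 5 n18388
theorem D38630 : act 5 n18388 = n38630 := rfl
theorem F59446 : act 2 n38630 = n22732 := d2_1 D38630 (iv5 D22732) (iv2 F29563)
theorem F59447 : act 6 n38630 = n18406 := d12_2 D18388 D38630 (iv5 D18406) (iv6 D8664) (iv5 F13575)
def n38633 : Q := act 3 n18389
theorem D38633 : act 3 n18389 = n38633 := rfl
theorem F59450 : act 7 n38633 = n18395 := d8_2 F29565 D38633 (iv3 D18395)
def n38634 : Q := act 4 n18389
theorem D38634 : act 4 n18389 = n38634 := rfl
theorem F59451 : act 2 n38634 = n18391 := d1_1 D38634 (iv4 D18391) D18389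
theorem F59452 : act 7 n38634 = n18396 := d11_2 F29565 D38634 (iv4 D18396)
def n38635 : Q := act 5 n18389
theorem D38635 : act 5 n18389 = n38635 := rfl
theorem F59453 : act 2 n38635 = n18392 := d2_1 D38635 (iv5 D18392) D18389
theorem F59454 : act 7 n38635 = n18397 := d13_2 F29565 D38635 (iv5 D18397)
def n38636 : Q := act 6 n18389
theorem D38636 : act 6 n18389 = n38636 := rfl
theorem F59455 : act 2 n38636 = n18393 := d3_1 D38636 (iv6 D18393) D18389
def n38637 : Q := act 0 n18390
theorem D38637 : act 0 n18390 = n38637 := rfl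
def n38638 : Q := act 1 n18390
theorem D38638 : act 1 n18390 = n38638 := rfl
def n38639 : Q := act 2 n18390
theorem D38639 : act 2 n18390 = n38639 := rfl
def n38640 : Q := act 4 n18390
theorem D38640 : act 4 n18390 = n38640 := rfl
def n38641 : Q := act 5 n18390
theorem D38641 : act 5 n18390 = n38641 := rfl
theorem F59456 : act 3 n38641 = n18392 := d6_1 D38641 (iv5 D18392) D18390
def n38642 : Q := act 6 n18390
theorem D38642 : act 6 n18390 = n38642 := rfl
theorem F59457 : act 3 n38642 = n18393 := d7_1 D38642 (iv6 D18393) D18390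
def n38643 : Q := act 7 n18390
theorem D38643 : act 7 n18390 = n38643 := rfl
theorem F59458 : act 3 n38643 = n18394 := d8_1 D38643 (iv7 D18394) D18390
def n38644 : Q := act 0 n18391
theorem D38644 : act 0 n18391 = n38644 := rfl
def n38645 : Q := act 1 n18391
theorem D38645 : act 1 n18391 = n38645 := rfl
theorem F59459 : act 1 n38645 = n18396 := d15_1 D38645 (iv7 F59452) F59451
def n38646 : Q := act 3 n18391
theorem D38646 : act 3 n18391 = n38646 := rfl
def n38647 : Q := act 5 n18391
theorem D38647 : act 5 n18391 = n38647 := rfl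
def n38648 : Q := act 6 n18391
theorem D38648 : act 6 n18391 = n38648 := rfl
theorem F59460 : act 4 n38648 = n18393 := d10_1 D38648 (iv6 D18393) D18391
def n38649 : Q := act 7 n18391
theorem D38649 : act 7 n18391 = n38649 := rfl
theorem F59461 : act 2 n38649 = n18396 := d4_1 D38649 (iv7 F59452) F59451
theorem F59462 : act 4 n38649 = n18394 := d11_1 D38649 (iv7 D18394) D18391
theorem F59463 : act 1 n18396 = n38644 := d15_0 (iv0 D38644) D38649 F59461
def n38650 : Q := act 0 n18392
theorem D38650 : act 0 n18392 = n38650 := rfl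
theorem F59464 : act 5 n38650 = n38087 := d17_3 D8660 D18392 D38650 F58897 (iv5 F29589) (iv0 D18426) (iv5 D8668) (iv0 D3886) (iv4 F5847)
theorem E5880 : n38065 = n10535 := (c21_5 D18392 D38650 F59464 (iv6 D38087) (iv1 F58882) (iv6 D10535) (iv5 F13561) (iv1 D8656) (iv5 D3883) D3884 D8660)
theorem E5881 : n22103 = n18212 := ((D22103).symm.trans (sb E5880 (iv1 D38065)))
theorem E5882 : n22104 = n18217 := ((D22104).symm.trans (sb E5880 F58882))
theorem E5883 : n38064 = n34565 := ((D38064).symm.trans (sb E5881 (iv1 F54830)))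
theorem F59465 : act 1 n18212 = n10535 := (sb E5881 (iv0 D22103))
theorem F59466 : act 0 n18217 = n10535 := (sb E5882 (iv1 D22104))
theorem F59467 : act 0 n34565 = n18217 := (sb E5883 (iv1 F58886))
theorem F59468 : act 1 n34565 = n18212 := (sb E5883 (iv0 D38064))
theorem F59469 : act 1 n22119 = n38097 := d18_6 (iv1 F27491) D18217 F59466 F16733 D10538 D22119 (iv4 D38097) F54766 F54763
theorem F59470 : act 5 n38068 = n38518 := d21_6 F13299 (iv1 F13560) F13561 D10535 (iv1 F59465) D38068 (iv1 D38518) (iv5 D18351) (iv6 D8645) (iv1 F13301)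
def n38651 : Q := act 1 n18392
theorem D38651 : act 1 n18392 = n38651 := rfl
theorem F59471 : act 1 n38651 = n18397 := d15_1 D38651 (iv7 F59454) F59453
def n38652 : Q := act 4 n18392
theorem D38652 : act 4 n18392 = n38652 := rfl
def n38653 : Q := act 6 n18392
theorem D38653 : act 6 n18392 = n38653 := rfl
def n38654 : Q := act 7 n18392
theorem D38654 : act 7 n18392 = n38654 := rfl
theorem F59472 : act 2 n38654 = n18397 := d4_1 D38654 (iv7 F59454) F59453
theorem F59473 : act 5 n38654 = n18394 := d13_1 D38654 (iv7 D18394) D18392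
theorem F59474 : act 1 n18397 = n38650 := d15_0 (iv0 D38650) D38654 F59472
def n38655 : Q := act 0 n18393
theorem D38655 : act 0 n18393 = n38655 := rfl
def n38656 : Q := act 1 n18393
theorem D38656 : act 1 n18393 = n38656 := rfl
def n38657 : Q := act 5 n18393
theorem D38657 : act 5 n18393 = n38657 := rfl
theorem F59475 : act 0 n38657 = n34490 := d21_7 (iv5 F13561) (iv1 D8656) (iv5 D3883) D3884 D8660 D18393 D38657 (iv5 D34490) (iv6 D16733) F12360
theorem F59476 : act 4 n38656 = n18432 := d17_9 (iv1 D18432) F13579 (iv1 D8615) (iv5 F12363) (iv4 F27464) D34490 (iv0 F59475) (iv5 D38657) D38656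
theorem F59477 : act 5 n38217 = n38648 := d18_4 (iv1 F13529) (iv4 F13576) (iv1 F29454) D38217 F59460 D38656 F59476 F29598 (iv5 D18265)
theorem F59478 : act 1 n38657 = n34603 := d15_1 (iv0 F59475) (iv7 D34603) (iv2 F54721)
def n38658 : Q := act 7 n18393
theorem D38658 : act 7 n18393 = n38658 := rfl
def n38659 : Q := act 6 n18394
theorem D38659 : act 6 n18394 = n38659 := rfl
theorem F59479 : act 2 n38659 = n18398 := d3_1 D38659 (iv6 D18398) (iv2 F29566)
def n38660 : Q := act 0 n18395
theorem D38660 : act 0 n18395 = n38660 := rfl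
def n38661 : Q := act 1 n18395
theorem D38661 : act 1 n18395 = n38661 := rfl
def n38662 : Q := act 2 n18395
theorem D38662 : act 2 n18395 = n38662 := rfl
def n38663 : Q := act 4 n18395
theorem D38663 : act 4 n18395 = n38663 := rfl
def n38664 : Q := act 5 n18395
theorem D38664 : act 5 n18395 = n38664 := rfl
theorem F59480 : act 3 n38664 = n18397 := d6_1 D38664 (iv5 D18397) D18395
def n38665 : Q := act 6 n18395
theorem D38665 : act 6 n18395 = n38665 := rfl
theorem F59481 : act 3 n38665 = n18398 := d7_1 D38665 (iv6 D18398) D18395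
def n38666 : Q := act 5 n18396
theorem D38666 : act 5 n18396 = n38666 := rfl
theorem F59482 : act 3 n38666 = n18979 := d6_1 D38666 F30304 F30230
theorem F59483 : act 6 n18976 = n38666 := d7_0 F59482 (iv6 D18979) D18976
theorem F59484 : act 4 n38666 = n38214 := d10_1 F59483 (iv6 D38214) (iv4 F30441)
def n38667 : Q := act 6 n18396
theorem D38667 : act 6 n18396 = n38667 := rfl
theorem F59485 : act 4 n38667 = n18398 := d10_1 D38667 (iv6 D18398) D18396
def n38668 : Q := act 4 n18397
theorem D38668 : act 4 n18397 = n38668 := rfl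
def n38669 : Q := act 6 n18397
theorem D38669 : act 6 n18397 = n38669 := rfl
def n38670 : Q := act 0 n18398
theorem D38670 : act 0 n18398 = n38670 := rfl
def n38671 : Q := act 1 n18398
theorem D38671 : act 1 n18398 = n38671 := rfl
def n38672 : Q := act 5 n18398
theorem D38672 : act 5 n18398 = n38672 := rfl
def n38673 : Q := act 7 n18398
theorem D38673 : act 7 n18398 = n38673 := rfl
def n38674 : Q := act 2 n18399
theorem D38674 : act 2 n18399 = n38674 := rfl
theorem F59486 : act 7 n18400 = n38674 := d15_2 (iv0 D18399) D18400 (iv2 D38674)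
def n38675 : Q := act 3 n18399
theorem D38675 : act 3 n18399 = n38675 := rfl
def n38676 : Q := act 4 n18399
theorem D38676 : act 4 n18399 = n38676 := rfl
def n38677 : Q := act 5 n18399
theorem D38677 : act 5 n18399 = n38677 := rfl
def n38678 : Q := act 6 n18399
theorem D38678 : act 6 n18399 = n38678 := rfl
def n38679 : Q := act 7 n18399
theorem D38679 : act 7 n18399 = n38679 := rfl
theorem F59487 : act 2 n38679 = n18400 := d4_1 D38679 F59486 (iv2 D38674)
def n38680 : Q := act 3 n18400
theorem D38680 : act 3 n18400 = n38680 := rfl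
def n38681 : Q := act 4 n18400
theorem D38681 : act 4 n18400 = n38681 := rfl
def n38682 : Q := act 5 n18400
theorem D38682 : act 5 n18400 = n38682 := rfl
def n38683 : Q := act 6 n18400
theorem D38683 : act 6 n18400 = n38683 := rfl
def n38684 : Q := act 0 n18401
theorem D38684 : act 0 n18401 = n38684 := rfl
def n38685 : Q := act 1 n18401
theorem D38685 : act 1 n18401 = n38685 := rfl
def n38686 : Q := act 3 n18401
theorem D38686 : act 3 n18401 = n38686 := rfl
def n38687 : Q := act 5 n18401
theorem D38687 : act 5 n18401 = n38687 := rfl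
def n38688 : Q := act 7 n18401
theorem D38688 : act 7 n18401 = n38688 := rfl
theorem F59488 : act 4 n38688 = n18402 := d11_1 D38688 (iv7 D18402) D18401
def n38689 : Q := act 6 n18402
theorem D38689 : act 6 n18402 = n38689 := rfl
def n38690 : Q := act 5 n18403
theorem D38690 : act 5 n18403 = n38690 := rfl
theorem F59489 : act 7 n38690 = n18406 := d13_2 (iv7 F29569) D38690 (iv5 D18406)
def n38691 : Q := act 2 n18404
theorem D38691 : act 2 n18404 = n38691 := rfl
theorem F59490 : act 7 n18405 = n38691 := d15_2 (iv0 D18404) D18405 (iv2 D38691)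
def n38692 : Q := act 3 n18404
theorem D38692 : act 3 n18404 = n38692 := rfl
def n38693 : Q := act 4 n18404
theorem D38693 : act 4 n18404 = n38693 := rfl
def n38694 : Q := act 5 n18404
theorem D38694 : act 5 n18404 = n38694 := rfl
def n38695 : Q := act 6 n18404
theorem D38695 : act 6 n18404 = n38695 := rfl
def n38696 : Q := act 7 n18404
theorem D38696 : act 7 n18404 = n38696 := rfl
theorem F59491 : act 2 n38696 = n18405 := d4_1 D38696 F59490 (iv2 D38691)
def n38697 : Q := act 3 n18405
theorem D38697 : act 3 n18405 = n38697 := rfl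
def n38698 : Q := act 4 n18405
theorem D38698 : act 4 n18405 = n38698 := rfl
def n38699 : Q := act 5 n18405
theorem D38699 : act 5 n18405 = n38699 := rfl
def n38700 : Q := act 6 n18405
theorem D38700 : act 6 n18405 = n38700 := rfl
def n38701 : Q := act 0 n18406
theorem D38701 : act 0 n18406 = n38701 := rfl
def n38702 : Q := act 1 n18406
theorem D38702 : act 1 n18406 = n38702 := rfl
def n38703 : Q := act 4 n18406
theorem D38703 : act 4 n18406 = n38703 := rfl
def n38704 : Q := act 2 n18413
theorem D38704 : act 2 n18413 = n38704 := rfl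
theorem F59492 : act 7 n18414 = n38704 := d15_2 (iv0 D18413) D18414 (iv2 D38704)
def n38705 : Q := act 3 n18413
theorem D38705 : act 3 n18413 = n38705 := rfl
def n38706 : Q := act 4 n18413
theorem D38706 : act 4 n18413 = n38706 := rfl
def n38707 : Q := act 5 n18413
theorem D38707 : act 5 n18413 = n38707 := rfl
def n38709 : Q := act 7 n18413
theorem D38709 : act 7 n18413 = n38709 := rfl
theorem F59493 : act 2 n38709 = n18414 := d4_1 D38709 F59492 (iv2 D38704)
def n38710 : Q := act 3 n18414
theorem D38710 : act 3 n18414 = n38710 := rfl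
def n38711 : Q := act 4 n18414
theorem D38711 : act 4 n18414 = n38711 := rfl
def n38712 : Q := act 5 n18414
theorem D38712 : act 5 n18414 = n38712 := rfl
def n38714 : Q := act 4 n18415
theorem D38714 : act 4 n18415 = n38714 := rfl
theorem F59494 : act 2 n38714 = n18416 := d1_1 D38714 (iv4 D18416) D18415
theorem F59495 : act 1 n38714 = n18891 := d15_0 (iv0 F59110) F59109 (iv2 F59494)
def n38715 : Q := act 5 n18415
theorem D38715 : act 5 n18415 = n38715 := rfl
theorem F59496 : act 2 n38715 = n18417 := d2_1 D38715 (iv5 D18417) D18415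
def n38716 : Q := act 6 n18415
theorem D38716 : act 6 n18415 = n38716 := rfl
theorem F59497 : act 2 n38716 = n18418 := d3_1 D38716 (iv6 D18418) D18415
theorem F59498 : act 5 n38236 = n38716 := d2_0 F59497 (iv5 F29582) D38236
theorem F59499 : act 7 n38715 = n38716 := d4_0 F59497 F29633 (iv2 F59496)
def n38717 : Q := act 0 n18416
theorem D38717 : act 0 n18416 = n38717 := rfl
theorem F59500 : act 4 n38717 = n18894 := d20_8 (iv4 F28977) (iv1 D3916) F2869 (iv3 F2862) D3886 D8666 D18416 D38717 F30145 (iv1 F13781)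
theorem E5884 : n38712 = n34615 := (c18_10 (iv1 D34615) D34617 F57529 F57527 (iv5 F30146) (iv4 F59500) (iv0 D38717) (iv4 D18416) D18414 D38712)
theorem F59501 : act 5 n34615 = n18414 := (sb E5884 (iv5 D38712))
theorem F59503 : act 7 n18891 = n38717 := d11_0 F59500 (iv7 D18894) (iv4 F30144)
def n38718 : Q := act 3 n18416
theorem D38718 : act 3 n18416 = n38718 := rfl
theorem F59504 : act 4 n38718 = n18422 := d5_2 D18416 D38718 (iv3 D18422) (iv4 D8667) D8666
def n38719 : Q := act 5 n18416
theorem D38719 : act 5 n18416 = n38719 := rfl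
def n38720 : Q := act 6 n18416
theorem D38720 : act 6 n18416 = n38720 := rfl
theorem F59505 : act 4 n38720 = n18418 := d10_1 D38720 (iv6 D18418) D18416
def n38721 : Q := act 0 n18417
theorem D38721 : act 0 n18417 = n38721 := rfl
theorem F59506 : act 1 n38716 = n38721 := d15_0 (iv0 D38721) (iv7 F29633) (iv2 F59497)
def n38722 : Q := act 1 n18417
theorem D38722 : act 1 n18417 = n38722 := rfl
theorem F59507 : act 1 n38722 = n38716 := d15_1 D38722 (iv7 F59499) F59496
def n38723 : Q := act 4 n18417
theorem D38723 : act 4 n18417 = n38723 := rfl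
theorem F59508 : act 7 n38723 = n38720 := d11_2 F29633 D38723 F59505
def n38724 : Q := act 6 n18417
theorem D38724 : act 6 n18417 = n38724 := rfl
theorem F59509 : act 3 n38724 = n18429 := d7_1 D38724 (iv6 D18429) (iv3 F29580)
theorem F59510 : act 5 n38724 = n38238 := d12_1 D38724 (iv6 D38238) F29582 (iv6 D18418) D18417
theorem F59511 : act 7 n38724 = n38238 := d14_2 F29633 D38724 (iv6 D38238) F29619 D18418
def n38725 : Q := act 0 n18418
theorem D38725 : act 0 n18418 = n38725 := rfl
theorem F59512 : act 1 n38715 = n38725 := d15_0 (iv0 D38725) F29633 (iv2 F59496)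
def n38726 : Q := act 1 n18418
theorem D38726 : act 1 n18418 = n38726 := rfl
theorem F59513 : act 1 n38726 = n38715 := d15_1 D38726 F59499 F59497
def n38727 : Q := act 2 n18420
theorem D38727 : act 2 n18420 = n38727 := rfl
theorem F59514 : act 7 n18421 = n38727 := d15_2 (iv0 D18420) D18421 (iv2 D38727)
def n38728 : Q := act 3 n18420
theorem D38728 : act 3 n18420 = n38728 := rfl
def n38729 : Q := act 4 n18420
theorem D38729 : act 4 n18420 = n38729 := rfl
theorem F59515 : act 3 n38729 = n19031 := d20_3 D8667 D18420 D38729 (iv1 D19031) (iv3 D8911) (iv4 F28977) (iv1 D3916) F2869 (iv3 F2862) D3886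
def n38730 : Q := act 5 n18420
theorem D38730 : act 5 n18420 = n38730 := rfl
def n38731 : Q := act 6 n18420
theorem D38731 : act 6 n18420 = n38731 := rfl
def n38732 : Q := act 7 n18420
theorem D38732 : act 7 n18420 = n38732 := rfl
theorem F59516 : act 2 n38732 = n18421 := d4_1 D38732 F59514 (iv2 D38727)
def n38736 : Q := act 6 n18421
theorem D38736 : act 6 n18421 = n38736 := rfl
def n38737 : Q := act 0 n18422
theorem D38737 : act 0 n18422 = n38737 := rfl
def n38738 : Q := act 1 n18422
theorem D38738 : act 1 n18422 = n38738 := rfl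
def n38739 : Q := act 2 n18422
theorem D38739 : act 2 n18422 = n38739 := rfl
def n38740 : Q := act 5 n18422
theorem D38740 : act 5 n18422 = n38740 := rfl
theorem F59517 : act 3 n38740 = n18423 := d6_1 D38740 (iv5 D18423) D18422
def n38741 : Q := act 6 n18422
theorem D38741 : act 6 n18422 = n38741 := rfl
theorem F59518 : act 3 n38741 = n18424 := d7_1 D38741 (iv6 D18424) D18422
def n38742 : Q := act 0 n18423
theorem D38742 : act 0 n18423 = n38742 := rfl
theorem F59519 : act 1 n18442 = n38742 := d15_0 (iv0 D38742) (iv7 F59114) F59113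
def n38743 : Q := act 1 n18423
theorem D38743 : act 1 n18423 = n38743 := rfl
theorem F59520 : act 1 n38743 = n18442 := d15_1 D38743 (iv7 F59100) F59099
def n38744 : Q := act 4 n18423
theorem D38744 : act 4 n18423 = n38744 := rfl
def n38745 : Q := act 6 n18423
theorem D38745 : act 6 n18423 = n38745 := rfl
def n38746 : Q := act 0 n18424
theorem D38746 : act 0 n18424 = n38746 := rfl
theorem F59521 : act 1 n38233 = n38746 := d15_0 (iv0 D38746) F29634 (iv2 F59101)
def n38747 : Q := act 1 n18424
theorem D38747 : act 1 n18424 = n38747 := rfl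
theorem F59522 : act 1 n38747 = n38233 := d15_1 D38747 F59102 (iv2 F29632)
def n38748 : Q := act 5 n18424
theorem D38748 : act 5 n18424 = n38748 := rfl
def n38749 : Q := act 2 n18426
theorem D38749 : act 2 n18426 = n38749 := rfl
theorem F59523 : act 5 n38749 = n34628 := d2_2 (iv5 F29589) D38749 F59220
theorem F59524 : act 7 n38749 = n18427 := d4_2 (iv7 F59219) D38749 (iv2 F59222)
theorem F59525 : act 1 n38749 = n38469 := d15_0 (iv0 D38469) (iv7 F59219) D38749
theorem F59526 : act 6 n38458 = n38749 := d14_5 F59524 F59223 (iv7 D18333) D18332 D38458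
def n38750 : Q := act 3 n18426
theorem D38750 : act 3 n18426 = n38750 := rfl
def n38751 : Q := act 4 n18426
theorem D38751 : act 4 n18426 = n38751 := rfl
theorem F59530 : act 7 n38751 = n38467 := d11_2 (iv7 F59219) D38751 F59306
theorem F59531 : act 0 n38751 = n38214 := d17_0 F59078 (iv1 D34601) (iv5 D16771) F12382 F5575 D3887 D8673 F29595 D38751
def n38752 : Q := act 6 n18426
theorem D38752 : act 6 n18426 = n38752 := rfl
theorem F59532 : act 2 n38752 = n38458 := d3_1 D38752 F59526 (iv2 D38749)
theorem F59533 : act 5 n38752 = n34526 := d12_1 D38752 F54757 (iv5 D18218) D18219 (iv5 F29589)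
theorem F59534 : act 7 n38752 = n38437 := d14_2 (iv7 F59219) D38752 (iv6 D38437) (iv7 F29523) D18337
theorem F59535 : act 0 n37802 = n38752 := d21_4 D37954 F58987 (iv5 D37801) D37802 (iv6 D38752) F29589 F58892 (iv5 D34495) D34496 F58893
theorem E5885 : n38456 = n37802 := ((c15_1 (iv0 F59535) (iv0 D38456) D38458 (iv2 F59532))).symm
theorem F59536 : act 1 n37802 = n18332 := (sb E5885 (iv0 D38456))
theorem F59537 : act 1 n38457 = n38752 := d15_1 D38457 F59534 F59288
def n38753 : Q := act 3 n18427
theorem D38753 : act 3 n18427 = n38753 := rfl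
def n38754 : Q := act 4 n18427
theorem D38754 : act 4 n18427 = n38754 := rfl
theorem F59539 : act 2 n38754 = n38467 := d1_1 D38754 F59306 F59222
theorem F59540 : act 6 n38754 = n38450 := d10_2 (iv6 F59223) D38754 F59295
theorem F59541 : act 1 n38754 = n38214 := d15_0 (iv0 F59531) F59530 (iv2 F59539)
def n38755 : Q := act 5 n18427
theorem D38755 : act 5 n18427 = n38755 := rfl
theorem F59542 : act 2 n38755 = n34627 := d2_1 D38755 F54884 F59222
theorem F59543 : act 6 n38755 = n38077 := d12_2 (iv6 F59223) D38755 (iv5 F59212) F59301 F59299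
theorem F59544 : act 7 n38755 = n34628 := d13_2 F59524 D38755 (iv5 F59523)
theorem F59545 : act 1 n38089 = n38755 := d15_1 D38089 F59544 F59220
theorem F59546 : act 1 n38755 = n34495 := d15_0 (iv0 F58892) (iv7 F59217) (iv2 F59542)
theorem E5886 : n38433 = n8608 := (c21_5 D34495 (iv1 F59546) (iv5 D38755) F59223 (iv1 F59282) (iv6 D8608) F12297 F12292 D3550 D7819 D16734)
theorem E5887 : n18328 = n18244 := (((D18244).symm.trans (sb E5886 (iv1 D38433)))).symm
theorem E5888 : n18333 = n18245 := (((D18245).symm.trans (sb E5886 F59282))).symm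
theorem E5890 : n38163 = n8638 := ((D38163).symm.trans (sb E5887 (iv2 D18328)))
theorem E5891 : n38434 = n38164 := (((D38164).symm.trans (sb E5887 D38434))).symm
theorem E5892 : n38435 = n38165 := (((D38165).symm.trans (sb E5887 D38435))).symm
theorem E5893 : n38436 = n38166 := (((D38166).symm.trans (sb E5887 D38436))).symm
theorem E5894 : n38437 = n38098 := (((F58901).symm.trans (sb E5887 D38437))).symm
theorem E5895 : n38167 = n8639 := ((D38167).symm.trans (sb E5887 (iv7 F29523)))
theorem E5896 : n38444 = n38168 := (((D38168).symm.trans (sb E5888 (iv3 F59291)))).symm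
theorem E5897 : n38450 = n38169 := (((D38169).symm.trans (sb E5888 (iv4 F59295)))).symm
theorem E5898 : n38455 = n38170 := (((D38170).symm.trans (sb E5888 (iv5 F59299)))).symm
theorem E5899 : n38171 = n18427 := ((D38171).symm.trans (sb E5888 (iv6 F59223)))
theorem F59548 : act 7 n8638 = n18245 := (sb E5890 (iv7 F59021))
theorem F59549 : act 7 n38164 = n18334 := (sb E5891 F59283)
theorem F59550 : act 2 n38165 = n18330 := (sb E5892 F59284)
theorem F59551 : act 7 n38165 = n18335 := (sb E5892 F59285)
theorem F59552 : act 2 n38166 = n18331 := (sb E5893 F59286)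
theorem F59553 : act 7 n38166 = n18336 := (sb E5893 F59287)
theorem F59555 : act 7 n38098 = n38752 := (sb E5894 (iv7 F59534))
theorem F59557 : act 7 n8639 = n18244 := (sb E5895 (iv7 D38167))
theorem F59559 : act 7 n38168 = n18329 := (sb E5896 (iv7 D38444))
theorem F59561 : act 6 n38169 = n38754 := (sb E5897 (iv6 F59540))
theorem F59562 : act 7 n38169 = n18330 := (sb E5897 (iv7 D38450))
theorem E5900 : n38357 = n38147 := ((((iv6 F59023)).symm.trans (sb E5898 (iv6 F59301)))).symm
theorem F59564 : act 7 n38170 = n18331 := (sb E5898 (iv7 D38455))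
theorem F59565 : act 6 n18427 = n18245 := (sb E5899 (iv6 D38171))
theorem E5901 : n38077 = n34647 := ((((iv5 F58998)).symm.trans (sb E5900 F59212))).symm
theorem F59567 : act 7 n38147 = n18306 := (sb E5900 (iv7 F59211))
theorem F59568 : act 2 n34647 = n38360 := (sb E5901 (iv2 F59213))
theorem F59569 : act 6 n34647 = n38755 := (sb E5901 (iv6 F59543))
theorem F59570 : act 7 n34647 = n18214 := (sb E5901 (iv7 D38077))
theorem E5902 : n18431 = n18337 := (c21_11 (iv5 F54884) (iv1 F54889) (iv5 D16782) D16783 D34647 F59569 (iv5 D38755) (iv1 D18427) (iv5 D8668) D8669 D18431)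
theorem E5903 : n38469 = n18265 := ((D38469).symm.trans (sb E5902 (iv1 F29601)))
theorem E5904 : n38470 = n8669 := ((D38470).symm.trans (sb E5902 (iv0 D18431)))
theorem E5905 : n38749 = n18432 := ((((iv1 F29598)).symm.trans (sb E5903 (iv1 F59525)))).symm
theorem F59571 : act 1 n18265 = n18337 := (sb E5903 (iv0 D38469))
theorem F59572 : act 0 n8669 = n18337 := (sb E5904 (iv1 D38470))
theorem E5906 : n34628 = n34525 := ((((iv5 F54756)).symm.trans (sb E5905 F59523))).symm
theorem F59574 : act 7 n18432 = n18427 := (sb E5905 F59524)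
theorem F59575 : act 0 n34525 = n16777 := (sb E5906 (iv1 D34628))
theorem F59576 : act 1 n34525 = n16782 := (sb E5906 F54885)
theorem E5908 : n18215 = n16744 := ((((iv6 D34525)).symm.trans (sb E5906 F59221))).symm
theorem F59578 : act 7 n34525 = n38755 := (sb E5906 (iv7 F59544))
theorem E5909 : n38052 = n7822 := ((((iv1 D16744)).symm.trans (sb E5908 (iv1 F58872)))).symm
theorem E5913 : n38069 = n34523 := (((D34523).symm.trans (sb E5908 (iv4 F58885)))).symm
theorem E5914 : n38074 = n34524 := (((D34524).symm.trans (sb E5908 (iv5 F58890)))).symm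
theorem E5916 : n18210 = n16743 := (((D16743).symm.trans (sb E5909 (iv1 D38052)))).symm
theorem F59583 : act 2 n34523 = n18217 := (sb E5913 F58884)
theorem F59584 : act 7 n34523 = n18212 := (sb E5913 (iv7 D38069))
theorem F59585 : act 2 n34524 = n18218 := (sb E5914 F58889)
theorem E5917 : n38053 = n34517 := (((D34517).symm.trans (sb E5916 D38053))).symm
theorem E5918 : n38054 = n34518 := (((D34518).symm.trans (sb E5916 D38054))).symm
theorem E5919 : n38055 = n34519 := (((D34519).symm.trans (sb E5916 D38055))).symm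
theorem E5920 : n38056 = n34520 := (((D34520).symm.trans (sb E5916 D38056))).symm
theorem F59589 : act 7 n16743 = n8590 := (sb E5916 (iv7 F29377))
theorem F59590 : act 7 n34517 = n18216 := (sb E5917 F58873)
theorem F59591 : act 2 n34518 = n18212 := (sb E5918 F58874)
theorem F59592 : act 7 n34518 = n18217 := (sb E5918 F58875)
theorem F59594 : act 7 n34519 = n18218 := (sb E5919 F58877)
theorem F59595 : act 2 n34520 = n18214 := (sb E5920 F58878)
theorem E5921 : n38361 = n38148 := (((F58991).symm.trans (sb E5920 (iv5 F59225)))).symm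
theorem F59596 : act 7 n34520 = n38360 := (sb E5920 F59215)
theorem F59597 : act 2 n38148 = n18306 := (sb E5921 F59224)
theorem F59598 : act 7 n38148 = n18305 := (sb E5921 (iv7 D38361))
theorem E5922 : n38089 = n34500 := (c21_11 (iv5 D34500) (iv1 D16735) F12363 (iv6 D3869) D3866 D8605 D18237 D38147 (iv5 F58998) F59569 (iv1 F59545))
theorem F59599 : act 0 n34500 = n18219 := (sb E5922 (iv1 D38089))
theorem F59600 : act 1 n34500 = n38755 := (sb E5922 F59545)
theorem E5923 : n38075 = n34501 := ((c21_4 D38755 (iv1 F59600) (iv5 D34500) D34501 (iv1 F59216) F59214 F54884 (iv1 F59571) (iv5 D18265) F13581 (iv1 F29590))).symm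
theorem F59601 : act 0 n34501 = n38360 := (sb E5923 (iv1 F59216))
theorem F59602 : act 1 n34501 = n18214 := (sb E5923 (iv0 D38075))
theorem F59603 : act 5 n38457 = n38071 := d21_0 (iv1 D38071) (iv5 D18213) D18214 (iv1 F59602) (iv6 D34501) D34500 F59599 (iv5 F29589) D38752 (iv1 F59537)
theorem F59604 : act 6 n38071 = n37164 := d21_3 (iv5 F59533) (iv1 F59537) F59603 (iv1 D37164) (iv6 D17873) (iv5 D8428) (iv1 F17439) D8570 (iv6 F27487) D34526
theorem E5924 : n34648 = n34520 := (c15_2 (iv0 D34647) D34648 F59596 (iv2 F59568))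
theorem F59605 : act 0 n34520 = n16783 := (sb E5924 (iv1 D34648))
theorem E5925 : n38091 = n34526 := ((c3_3 F54755 F59585 (iv6 F54757) (iv2 D38091))).symm
theorem F59606 : act 2 n34526 = n18220 := (sb E5925 (iv2 D38091))
theorem F59607 : act 7 n34526 = n18221 := (sb E5925 (iv7 F58898))
theorem E5926 : n38095 = n34527 := (c15_4 F54758 F54765 F59607 (iv2 F58900))
theorem F59608 : act 2 n34527 = n18221 := (sb E5926 F58900)
theorem F59609 : act 7 n34527 = n18220 := (sb E5926 (iv7 D38095))
theorem E5927 : n37938 = n18299 := (c21_7 (iv5 F54756) F59575 (iv5 D16777) D16778 D34632 F59317 (iv5 F58775) F29635 D18447 F29610 (iv1 F29598))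
theorem E5928 : n38322 = n18176 := (((iv2 F59181)).symm.trans (sb E5927 F58774))
theorem E5929 : n18173 = n16754 := (((F29501).symm.trans (sb E5927 F58775))).symm
theorem E5930 : n38138 = n8627 := ((((iv6 D18299)).symm.trans (sb E5927 (iv6 F58982)))).symm
theorem E5931 : n38340 = n18171 := ((D38340).symm.trans (sb E5927 (iv7 D37938)))
theorem F59611 : act 2 n18176 = n18299 := (sb E5928 F59181)
theorem E5932 : n34551 = n8568 := ((((iv5 D18176)).symm.trans (sb E5928 (iv5 F59182)))).symm
theorem E5933 : n18295 = n18235 := ((((iv6 F29408)).symm.trans (sb E5928 (iv6 D38322)))).symm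
theorem E5934 : n37921 = n18445 := (((iv7 F58763)).symm.trans (sb E5928 (iv7 F59183)))
theorem E5937 : n37929 = n34552 := (((D34552).symm.trans (sb E5929 (iv3 F58767)))).symm
theorem E5938 : n37935 = n34553 := (((D34553).symm.trans (sb E5929 (iv4 F58771)))).symm
theorem E5939 : n34632 = n34554 := (((D34554).symm.trans (sb E5929 (iv6 F59317)))).symm
theorem E5940 : n34547 = n8567 := ((F54802).symm.trans (sb E5929 (iv7 D18173)))
theorem E5941 : n18300 = n18236 := ((D18300).symm.trans (sb E5930 (iv7 F58983)))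
theorem F59612 : act 7 n18171 = n18299 := (sb E5931 (iv7 D38340))
theorem F59613 : act 2 n8568 = n16754 := (sb E5932 F54803)
theorem E5942 : n18168 = n16753 := ((F29338).symm.trans (sb E5932 (iv7 D34551)))
theorem F59614 : act 2 n18235 = n8627 := (sb E5933 (iv2 D18295))
theorem E5945 : n38319 = n38139 := (((D38139).symm.trans (sb E5933 D38319))).symm
theorem E5946 : n38320 = n38140 := (((D38140).symm.trans (sb E5933 D38320))).symm
theorem E5947 : n38321 = n38141 := (((D38141).symm.trans (sb E5933 D38321))).symm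
theorem E5948 : n38142 = n8628 := ((D38142).symm.trans (sb E5933 (iv7 F29500)))
theorem F59615 : act 2 n18445 = n18171 := (sb E5934 F58762)
theorem F59616 : act 7 n18445 = n18176 := (sb E5934 F58763)
theorem F59617 : act 7 n34552 = n18169 := (sb E5937 (iv7 D37929))
theorem F59618 : act 2 n34553 = n18175 := (sb E5938 F58770)
theorem F59619 : act 7 n34553 = n18170 := (sb E5938 (iv7 D37935))
theorem F59620 : act 1 n34554 = n16778 := (sb E5939 (iv0 D34632))
theorem F59621 : act 2 n34554 = n18177 := (sb E5939 F59316)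
theorem F59622 : act 7 n8567 = n16754 := (sb E5940 (iv7 F54802))
theorem E5949 : n38329 = n38143 := (((D38143).symm.trans (sb E5941 (iv3 F59187)))).symm
theorem E5950 : n38335 = n38144 := (((D38144).symm.trans (sb E5941 (iv4 F59191)))).symm
theorem E5951 : n38339 = n38145 := (((D38145).symm.trans (sb E5941 (iv5 F59199)))).symm
theorem E5952 : n38341 = n38146 := (((D38146).symm.trans (sb E5941 D38341))).symm
theorem F59623 : act 7 n18236 = n8627 := (sb E5941 (iv7 D18300))
theorem F59624 : act 2 n16753 = n8567 := (sb E5942 (iv2 D18168))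
theorem E5954 : n37920 = n34549 := (((D34549).symm.trans (sb E5942 D37920))).symm
theorem E5955 : n37922 = n34550 := (((D34550).symm.trans (sb E5942 D37922))).symm
theorem F59626 : act 7 n38139 = n18301 := (sb E5945 F59176)
theorem F59627 : act 2 n38140 = n18297 := (sb E5946 F59177)
theorem F59628 : act 7 n38140 = n18302 := (sb E5946 F59178)
theorem F59629 : act 2 n38141 = n18298 := (sb E5947 F59179)
theorem F59630 : act 7 n38141 = n18303 := (sb E5947 F59180)
theorem F59631 : act 2 n8628 = n18236 := (sb E5948 F58988)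
theorem F59632 : act 7 n8628 = n18235 := (sb E5948 (iv7 D38142))
theorem F59633 : act 7 n38143 = n18296 := (sb E5949 (iv7 D38329))
theorem F59634 : act 2 n38144 = n18302 := (sb E5950 F59190)
theorem F59635 : act 7 n38144 = n18297 := (sb E5950 (iv7 D38335))
theorem F59636 : act 2 n38145 = n18303 := (sb E5951 F59198)
theorem F59637 : act 7 n38145 = n18298 := (sb E5951 (iv7 D38339))
theorem F59638 : act 1 n38146 = n18453 := (sb E5952 F59210)
theorem F59639 : act 2 n38146 = n18304 := (sb E5952 F59203)
theorem F59641 : act 2 n34549 = n18170 := (sb E5954 F58760)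
theorem F59642 : act 7 n34549 = n18175 := (sb E5954 F58761)
theorem E5956 : n38476 = n38173 := (((F59025).symm.trans (sb E5955 (iv5 F59319)))).symm
theorem F59644 : act 7 n34550 = n38474 := (sb E5955 F59312)
theorem F59645 : act 2 n38173 = n18339 := (sb E5956 F59318)
theorem F59646 : act 7 n38173 = n18338 := (sb E5956 (iv7 D38476))
theorem E5957 : n38471 = n38172 := (c15_4 (iv0 D38172) D38173 F59646 D38471)
theorem F59647 : act 2 n38172 = n18338 := (sb E5957 (iv2 D38471))
theorem F59648 : act 5 n38172 = n37940 := (sb E5957 F59309)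
theorem F59649 : act 7 n38172 = n18339 := (sb E5957 (iv7 F59308))
theorem F59650 : act 2 n38356 = n37937 := d4_3 (iv7 F58989) F59639 D38356
theorem E5958 : n38354 = n37797 := (c15_1 D38354 (iv0 F58773) (iv7 F58989) F59639)
theorem F59651 : act 0 n37797 = n18304 := (sb E5958 (iv1 D38354))
theorem F59652 : act 1 n37937 = n38353 := d15_0 (iv0 D38353) D38356 F59650
theorem F59653 : act 5 n34661 = n38353 := d21_0 (iv1 F59652) (iv5 F59321) (iv6 D38479) (iv1 D18339) F13547 (iv5 D7817) F7216 D7837 (iv6 F27548) D34661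
theorem F59654 : act 2 n38338 = n37954 := d3_3 (iv6 F58986) F59629 D38338
theorem F59655 : act 2 n38334 = n37951 := d3_3 (iv6 F58985) F59627 D38334
theorem F59657 : act 7 n38334 = n37936 := d11_2 F59612 (iv4 F59189) (iv4 D37936)
theorem F59658 : act 7 n38754 = n38656 := d11_2 F59574 D38754 F59476
theorem F59659 : act 2 n38656 = n38751 := d4_1 F59658 F59530 (iv2 F59539)
theorem E5959 : n38655 = n38467 := ((c15_4 (iv0 D38655) D38656 (iv7 F59658) F59539)).symm
theorem F59660 : act 1 n38467 = n18393 := (sb E5959 (iv0 D38655))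
def n38756 : Q := act 0 n18428
theorem D38756 : act 0 n18428 = n38756 := rfl
theorem F59661 : act 1 n18444 = n38756 := d15_0 (iv0 D38756) (iv7 F29634) F29632
def n38757 : Q := act 1 n18428
theorem D38757 : act 1 n18428 = n38757 := rfl
theorem F59662 : act 1 n38757 = n18444 := d15_1 D38757 (iv7 F59102) F59101
def n38758 : Q := act 3 n18428
theorem D38758 : act 3 n18428 = n38758 := rfl
theorem F59663 : act 7 n38758 = n38741 := d8_2 F29634 D38758 F59518
def n38759 : Q := act 5 n18428
theorem D38759 : act 5 n18428 = n38759 := rfl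
theorem F59664 : act 7 n38759 = n38748 := d13_2 F29634 D38759 (iv5 D38748)
def n38760 : Q := act 6 n18428
theorem D38760 : act 6 n18428 = n38760 := rfl
theorem F59665 : act 4 n38760 = n18429 := d10_1 D38760 (iv6 D18429) D18428
theorem F59666 : act 7 n38760 = n38241 := d14_2 F29634 D38760 (iv6 D38241) F29621 D18424
def n38761 : Q := act 3 n18432
theorem D38761 : act 3 n18432 = n38761 := rfl
theorem F59667 : act 7 n38761 = n38753 := d8_2 (iv7 F59574) D38761 (iv3 D38753)
def n38762 : Q := act 2 n18435
theorem D38762 : act 2 n18435 = n38762 := rfl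
theorem F59668 : act 7 n18436 = n38762 := d15_2 (iv0 D18435) D18436 (iv2 D38762)
def n38763 : Q := act 3 n18435
theorem D38763 : act 3 n18435 = n38763 := rfl
def n38764 : Q := act 4 n18435
theorem D38764 : act 4 n18435 = n38764 := rfl
def n38765 : Q := act 5 n18435
theorem D38765 : act 5 n18435 = n38765 := rfl
def n38767 : Q := act 7 n18435
theorem D38767 : act 7 n18435 = n38767 := rfl
theorem F59669 : act 2 n38767 = n18436 := d4_1 D38767 F59668 (iv2 D38762)
def n38768 : Q := act 3 n18436
theorem D38768 : act 3 n18436 = n38768 := rfl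
def n38769 : Q := act 4 n18436
theorem D38769 : act 4 n18436 = n38769 := rfl
def n38770 : Q := act 5 n18436
theorem D38770 : act 5 n18436 = n38770 := rfl
def n38771 : Q := act 6 n18436
theorem D38771 : act 6 n18436 = n38771 := rfl
def n38772 : Q := act 4 n18437
theorem D38772 : act 4 n18437 = n38772 := rfl
theorem F59670 : act 2 n38772 = n18438 := d1_1 D38772 (iv4 D18438) D18437
def n38773 : Q := act 5 n18437
theorem D38773 : act 5 n18437 = n38773 := rfl
theorem F59671 : act 2 n38773 = n18439 := d2_1 D38773 (iv5 D18439) D18437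
theorem F59672 : act 3 n38773 = n38716 := d6_1 D38773 (iv5 F59498) F59104
theorem F59673 : act 6 n38226 = n38773 := d7_0 F59672 (iv6 D38716) (iv3 F59088)
def n38774 : Q := act 6 n18437
theorem D38774 : act 6 n18437 = n38774 := rfl
theorem F59674 : act 2 n38774 = n18440 := d3_1 D38774 (iv6 D18440) D18437
def n38775 : Q := act 0 n18438
theorem D38775 : act 0 n18438 = n38775 := rfl
def n38776 : Q := act 1 n18438
theorem D38776 : act 1 n18438 = n38776 := rfl
theorem F59675 : act 4 n19019 = n38776 := d20_0 (iv1 D38776) (iv4 D18438) (iv3 D8671) (iv1 D3887) F2862 (iv4 F2869) D3915 F28967 D8906 D19019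
def n38777 : Q := act 3 n18438
theorem D38777 : act 3 n18438 = n38777 := rfl
theorem F59676 : act 4 n38777 = n18441 := d5_2 D18438 D38777 (iv3 D18441) (iv4 D8672) D8671
def n38778 : Q := act 5 n18438
theorem D38778 : act 5 n18438 = n38778 := rfl
def n38779 : Q := act 6 n18438
theorem D38779 : act 6 n18438 = n38779 := rfl
theorem F59677 : act 4 n38779 = n18440 := d10_1 D38779 (iv6 D18440) D18438
def n38780 : Q := act 0 n18439
theorem D38780 : act 0 n18439 = n38780 := rfl
def n38781 : Q := act 1 n18439
theorem D38781 : act 1 n18439 = n38781 := rfl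
def n38782 : Q := act 4 n18439
theorem D38782 : act 4 n18439 = n38782 := rfl
theorem F59678 : act 6 n38782 = n38227 := d10_2 F29604 D38782 (iv4 D38227)
def n38783 : Q := act 0 n18440
theorem D38783 : act 0 n18440 = n38783 := rfl
def n38784 : Q := act 1 n18440
theorem D38784 : act 1 n18440 = n38784 := rfl
def n38785 : Q := act 5 n18440
theorem D38785 : act 5 n18440 = n38785 := rfl
theorem F59679 : act 3 n38785 = n18447 := d6_1 D38785 (iv5 D18447) (iv3 F29605)
theorem F59680 : act 6 n38785 = n38228 := d12_2 D18440 D38785 (iv5 D38228) F29604 (iv5 D18439)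
theorem F59681 : act 7 n18440 = n38785 := d14_0 F59680 F59095 (iv6 F29604) F29627 D18440
def n38786 : Q := act 0 n18441
theorem D38786 : act 0 n18441 = n38786 := rfl
def n38787 : Q := act 1 n18441
theorem D38787 : act 1 n18441 = n38787 := rfl
def n38788 : Q := act 2 n18441
theorem D38788 : act 2 n18441 = n38788 := rfl
def n38789 : Q := act 5 n18441
theorem D38789 : act 5 n18441 = n38789 := rfl
theorem F59682 : act 3 n38789 = n18442 := d6_1 D38789 (iv5 D18442) D18441
def n38790 : Q := act 6 n18441
theorem D38790 : act 6 n18441 = n38790 := rfl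
theorem F59683 : act 3 n38790 = n18443 := d7_1 D38790 (iv6 D18443) D18441
def n38791 : Q := act 4 n18442
theorem D38791 : act 4 n18442 = n38791 := rfl
def n38792 : Q := act 6 n18442
theorem D38792 : act 6 n18442 = n38792 := rfl
def n38793 : Q := act 0 n18443
theorem D38793 : act 0 n18443 = n38793 := rfl
def n38794 : Q := act 1 n18443
theorem D38794 : act 1 n18443 = n38794 := rfl
theorem F59684 : act 1 n38794 = n38760 := d15_1 D38794 F59666 F59115
def n38795 : Q := act 5 n18443
theorem D38795 : act 5 n18443 = n38795 := rfl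
theorem F59685 : act 1 n38795 = n37906 := d17_6 D8567 D18171 F29611 (iv5 D18447) (iv4 F29606) D38795 (iv5 D37906) (iv0 D18164) F13407
theorem E5960 : n38736 = n8623 := (c21_6 D37906 (iv1 F59685) (iv5 D38795) (iv6 D18443) (iv1 F29584) D38736 (iv5 F29335) (iv1 D18162) (iv5 D8565) D8566 D18164)
theorem E5961 : n18421 = n18283 := (((D18283).symm.trans (sb E5960 (iv6 D38736)))).symm
theorem E5962 : n38283 = n8667 := ((D38283).symm.trans (sb E5961 (iv1 D18421)))
theorem E5963 : n38284 = n8672 := ((D38284).symm.trans (sb E5961 F29584))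
theorem E5964 : n38732 = n21927 := ((((iv2 F34424)).symm.trans (sb E5961 (iv2 F59516)))).symm
theorem E5968 : n38727 = n38286 := (((D38286).symm.trans (sb E5961 F59514))).symm
theorem F59686 : act 1 n8667 = n18283 := (sb E5962 (iv0 D38283))
theorem F59687 : act 0 n8672 = n18283 := (sb E5963 (iv1 D38284))
theorem F59688 : act 7 n21927 = n18420 := (sb E5964 (iv7 D38732))
theorem F59689 : act 2 n38286 = n18420 := (sb E5968 (iv2 D38727))
theorem E5969 : n38729 = n21930 := (c11_2 F59688 D38729 (iv7 D21930) (iv4 F34425))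
theorem E5970 : n26892 = n19031 := (((iv3 F43377)).symm.trans (sb E5969 F59515))
theorem F59690 : act 4 n21930 = n18420 := (sb E5969 (iv4 D38729))
theorem E5971 : n17465 = n8911 := ((((iv1 D19031)).symm.trans (sb E5970 (iv1 F43381)))).symm
theorem F59691 : act 1 n19031 = n17464 := (sb E5970 F43382)
theorem F59692 : act 2 n19031 = n17466 := (sb E5970 F43376)
theorem F59693 : act 3 n19031 = n21930 := (sb E5970 F43377)
theorem F59694 : act 5 n19031 = n17760 := (sb E5970 F43378)
theorem F59696 : act 7 n19031 = n12870 := (sb E5970 (iv7 D26892))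
theorem E5972 : n19030 = n8216 := ((D19030).symm.trans (sb E5971 (iv1 D17465)))
theorem E5976 : n36109 = n19034 := (((D19034).symm.trans (sb E5971 D36109))).symm
theorem E5978 : n36101 = n18896 := ((((iv7 F30404)).symm.trans (sb E5971 F56851))).symm
theorem F59697 : act 1 n8216 = n8911 := (sb E5972 (iv0 D19030))
theorem E5979 : n26890 = n18896 := ((((iv6 F30541)).symm.trans (sb E5976 (iv6 F56854)))).symm
theorem F59699 : act 2 n18896 = n17464 := (sb E5978 (iv2 D36101))
theorem F59700 : act 0 n18896 = n17466 := (sb E5979 (iv1 F43380))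
theorem F59701 : act 1 n18896 = n12870 := (sb E5979 (iv0 D26890))
theorem E5980 : n36377 = n36219 := (((iv5 F57127)).symm.trans (sb E5979 (iv5 F56930)))
theorem F59702 : act 3 n36219 = n17562 := (sb E5980 (iv3 D36377))
theorem F59703 : act 5 n36219 = n18896 := (sb E5980 F57127)
theorem F59704 : act 6 n36219 = n36747 := (sb E5980 (iv6 F57645))
theorem F59705 : act 7 n36219 = n19034 := (sb E5980 F57128)
theorem E5981 : n38731 = n38280 := (c14_2 F59688 D38731 (iv7 D38280) (iv6 D18281) (iv7 F16659) D21927)
theorem F59706 : act 6 n38280 = n18420 := (sb E5981 (iv6 D38731))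
theorem F59707 : act 0 n36747 = n26907 := d21_10 F43846 (iv1 D27119) F21610 (iv6 D12991) (iv1 F9612) D8375 (iv5 F21371) (iv1 F59701) (iv5 F59703) F59704
theorem F59708 : act 2 n36104 = n36219 := d2_3 F59703 F59699 D36104
theorem F59709 : act 7 n36220 = n36104 := d15_2 (iv0 D36219) D36220 F59708
theorem F59710 : act 2 n36220 = n19034 := d4_3 (iv7 F59705) (iv2 F59708) (iv7 F59709)
theorem F59711 : act 5 n19032 = n36220 := d2_0 F59710 (iv5 D19034) D19032
theorem E5982 : n36220 = n36105 := ((c3_1 D36105 F59710 (iv6 F30541) F59699)).symm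
theorem F59712 : act 0 n36105 = n17497 := (sb E5982 (iv1 D36220))
theorem F59713 : act 2 n36105 = n19034 := (sb E5982 F59710)
theorem E5983 : n26891 = n19032 := ((F56852).symm.trans (sb E5982 (iv5 F59711)))
theorem F59714 : act 7 n36105 = n36104 := (sb E5982 F59709)
theorem F59715 : act 0 n19032 = n12870 := (sb E5983 (iv1 D26891))
theorem F59716 : act 1 n19032 = n17466 := (sb E5983 F43375)
theorem F59717 : act 5 n19032 = n36105 := (sb E5983 (iv5 F56852))
theorem F59718 : act 1 n19034 = n36941 := d15_0 (iv0 F57862) (iv7 F59714) F59713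
theorem F59719 : act 0 n19035 = n27133 := d21_10 (iv5 D27133) (iv1 F43853) F43849 F43850 (iv1 F28854) D17781 D36941 (iv1 F59718) (iv5 D19034) D19035
theorem E5984 : n38230 = n21927 := (c20_2 D18268 (iv1 F59097) F34425 (iv3 F21370) (iv1 F59701) (iv3 D18896) F29956 (iv1 F9809) F5859 (iv3 F5849) (iv1 F13527))
theorem F59721 : act 0 n21927 = n18264 := (sb E5984 (iv1 D38230))
theorem F59722 : act 1 n21927 = n18268 := (sb E5984 F59097)
theorem E5985 : n38286 = n38229 := ((c15_2 F59722 F59096 (iv7 D38286) (iv2 F34424))).symm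
theorem F59723 : act 2 n38229 = n18420 := (sb E5985 F59689)
theorem F59724 : act 7 n38229 = n18283 := (sb E5985 (iv7 D38286))
theorem E5986 : n37879 = n34499 := ((c18_2 (iv1 F27465) D34499 (iv1 D37879) F29329 F28881 (iv4 F34425) F59722 (iv4 D18268) F13527 (iv5 F12387))).symm
theorem F59725 : act 0 n34499 = n18154 := (sb E5986 (iv1 D37879))
theorem E5987 : n36856 = n8323 := (c20_6 D34499 F59725 F29329 F28880 D17758 D36856 (iv4 F29955) (iv1 F21286) F12398 (iv3 F12386) (iv1 F27465))
theorem E5988 : n17758 = n17671 := (((D17671).symm.trans (sb E5987 (iv3 D36856)))).symm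
theorem E5989 : n36668 = n17439 := ((D36668).symm.trans (sb E5988 (iv1 F28891)))
theorem E5990 : n36669 = n8375 := ((D36669).symm.trans (sb E5988 (iv0 D17758)))
theorem E5993 : n36858 = n36672 := (((D36672).symm.trans (sb E5988 D36858))).symm
theorem E5996 : n35302 = n17759 := ((((iv1 F28888)).symm.trans (sb E5989 (iv1 F57533)))).symm
theorem F59726 : act 1 n17439 = n17671 := (sb E5989 (iv0 D36668))
theorem F59727 : act 0 n8375 = n17671 := (sb E5990 (iv1 D36669))
theorem F59728 : act 1 n36672 = n17781 := (sb E5993 (iv0 F57855))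
theorem F59729 : act 2 n17759 = n17135 := (sb E5996 (iv2 D35302))
theorem E5997 : n36861 = n36676 := ((D36861).symm.trans (sb E5996 (iv3 F57545)))
theorem F59730 : act 7 n17759 = n36670 := (sb E5996 (iv7 F57535))
theorem F59731 : act 3 n36676 = n17759 := (sb E5997 (iv3 D36861))
theorem F59732 : act 2 n35303 = n36862 := d1_3 (iv4 D36862) F59729 D35303
theorem F59733 : act 2 n35250 = n36836 := d2_3 F57771 F59729 F55983
theorem F59734 : act 2 n35304 = n36863 := d3_3 (iv6 D36863) F59729 D35304
theorem E5998 : n36832 = n17104 := (c3_4 D35250 F59733 (iv6 D36836) D36832)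
theorem E5999 : n35247 = n17751 := ((D35247).symm.trans (sb E5998 (iv2 D36832)))
theorem E6001 : n36707 = n17449 := ((((iv1 F28876)).symm.trans (sb E5999 (iv1 F57587)))).symm
theorem E6002 : n36706 = n8370 := ((((iv0 D17751)).symm.trans (sb E5999 F57583))).symm
theorem F59735 : act 2 n17751 = n17104 := (sb E5999 (iv2 D35247))
theorem E6003 : n36833 = n36702 := ((D36833).symm.trans (sb E5999 (iv3 F57573)))
theorem E6004 : n36837 = n36708 := ((D36837).symm.trans (sb E5999 (iv7 F57585)))
theorem F59736 : act 0 n17449 = n17692 := (sb E6001 (iv1 D36707))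
theorem F59737 : act 1 n8370 = n17692 := (sb E6002 (iv0 D36706))
theorem F59738 : act 3 n36702 = n17751 := (sb E6003 (iv3 D36833))
theorem F59739 : act 7 n36708 = n17751 := (sb E6004 (iv7 D36837))
theorem E6009 : n37335 = n34788 := (c20_8 F12758 (iv1 F21229) F42953 D17692 (iv1 F59737) (iv3 F28858) (iv4 F29101) D37335 (iv4 D34788) (iv3 D16853) (iv1 F12761))
theorem F59740 : act 1 n34788 = n17931 := (sb E6009 (iv0 D37335))
theorem F59741 : act 2 n35248 = n36834 := d1_3 (iv4 D36834) F59735 D35248
theorem F59742 : act 2 n35249 = n36835 := d2_3 (iv5 D36835) F59735 D35249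
theorem F59743 : act 0 n35823 = n26885 := d21_7 (iv5 D3700) (iv1 F4097) F13320 D8375 F59727 D36673 (iv5 F57543) (iv5 D26885) (iv6 D12868) (iv1 F9480)
theorem F59744 : act 1 n35823 = n36138 := d15_1 (iv0 F59743) (iv7 D36138) (iv2 F43359)
theorem F59745 : act 4 n36852 = n26796 := d20_2 (iv4 F56780) (iv1 F57797) (iv3 D26796) (iv1 D12816) F9418 (iv4 F9423) D12822 F29955 D17671 (iv1 F59726)
theorem E6010 : n36842 = n34592 := (c20_11 (iv4 D34592) (iv1 F54726) F54723 (iv3 F42987) (iv1 F42990) D26796 (iv4 F59745) (iv1 D36852) F28887 (iv3 F28880) D36842)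
theorem F59746 : act 0 n34592 = n21944 := (sb E6010 (iv1 F57778))
theorem F59747 : act 1 n34592 = n17754 := (sb E6010 (iv0 D36842))
theorem E6011 : n21928 = n18391 := (c18_1 D21928 (iv4 D18391) (iv1 F29460) F29457 (iv5 F27467) (iv4 F54723) F54726 D34592 F59747 F28881)
theorem E6012 : n38645 = n10461 := ((D38645).symm.trans (sb E6011 (iv0 D21928)))
theorem F59748 : act 0 n10461 = n18391 := (sb E6012 (iv1 D38645))
theorem E6013 : n21929 = n18396 := ((D21929).symm.trans (sb E6012 F59459))
theorem F59749 : act 0 n18396 = n10461 := (sb E6013 (iv1 D21929))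
theorem F59750 : act 0 n20754 = n18976 := d21_4 F6876 F6538 D9848 D20754 F59483 (iv5 D38666) F59749 (iv5 F28881) (iv6 D17754) F13371
theorem F59751 : act 7 n38644 = n20754 := d15_2 (iv0 F59749) F59463 F32907
theorem F59752 : act 2 n21930 = n38644 := d4_3 F59751 F32907 D21930
theorem F59753 : act 3 n21436 = n38644 := d8_3 F59751 F32908 D21436
theorem F59754 : act 4 n38229 = n38644 := d11_3 F59751 F32909 (iv7 F59724)
theorem F59755 : act 5 n21944 = n38644 := d13_3 F59751 F32910 D21944
theorem F59756 : act 6 n21923 = n38644 := d14_5 F59751 (iv6 D20754) F15481 D10455 D21923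
theorem F59757 : act 1 n21930 = n18976 := d15_0 (iv0 F59750) (iv7 F59751) (iv2 F59752)
theorem E6014 : n36843 = n34597 := ((c18_8 (iv1 F59463) (iv4 D18396) (iv1 D8661) F5847 (iv5 F5575) (iv4 F12382) D16770 D34597 F57773 F59755)).symm
theorem F59758 : act 0 n34597 = n17754 := (sb E6014 (iv1 D36843))
theorem F59759 : act 1 n34597 = n21944 := (sb E6014 F57773)
theorem F59760 : act 4 n18729 = n21436 := d20_8 (iv4 D18396) (iv1 D8661) F5847 F2862 D1693 D3920 D8784 D18729 F59753 (iv1 F59463)
theorem F59761 : act 7 n21433 = n18729 := d11_0 F59760 (iv7 D21436) (iv4 F33665)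
theorem E6015 : n18730 = n18485 := ((c15_4 F44993 F44994 (iv7 F59761) F33664)).symm
theorem F59762 : act 0 n18485 = n8784 := (sb E6015 (iv1 D18730))
theorem F59763 : act 1 n18485 = n27868 := (sb E6015 F44993)
theorem E6016 : n35285 = n21942 := (c18_8 F59750 F30441 (iv1 F29458) F13576 (iv5 F12387) (iv4 F27541) F54724 (iv4 F56011) (iv0 D21942) (iv5 F32910))
theorem F59764 : act 3 n21942 = n17126 := (sb E6016 (iv3 D35285))
theorem F59765 : act 4 n21942 = n34488 := (sb E6016 F56011)
theorem E6017 : n27870 = n21433 := (c20_8 F30441 (iv1 F29458) F13576 F5849 (iv1 F4237) D6305 D13290 D27870 F33665 (iv3 F32908) F59750)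
theorem F59766 : act 0 n21433 = n18726 := (sb E6017 (iv1 F44997))
theorem F59767 : act 1 n21433 = n13290 := (sb E6017 (iv0 D27870))
theorem F59768 : act 7 n27871 = n18485 := d15_2 F59767 D27871 (iv2 F33664)
theorem F59769 : act 2 n18729 = n27871 := d4_3 F59768 (iv2 F33664) F59761
theorem F59770 : act 4 n21210 = n27871 := d11_3 F59768 F29669 D21210
theorem F59771 : act 3 n27567 = n21434 := d20_9 F59770 (iv1 D27871) (iv4 D13290) (iv3 D6305) (iv1 D2642) (iv3 F4222) (iv4 F9757) D13177 D27567 (iv1 F33669)
theorem F59772 : act 0 n36100 = n27614 := d20_7 (iv4 F9757) D13177 D27567 F59771 (iv1 F33669) F33448 (iv4 F56850) (iv4 D27614) (iv3 D13188) (iv1 D6270)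
theorem F59773 : act 1 n26889 = n27614 := d15_0 (iv0 F59772) (iv7 D36100) (iv2 F43373)
theorem F59774 : act 1 n38217 = n21930 := d17_6 (iv1 F54724) (iv5 F54865) (iv1 F59478) (iv5 D38657) (iv4 F59460) (iv5 F59477) (iv5 F57776) F57780 F59765
theorem E6018 : n37326 = n26839 := ((c20_7 F59765 (iv1 F54724) F27541 F12386 (iv1 F9424) D12832 D26839 (iv1 D37326) (iv4 F30747) F30746 D21942)).symm
theorem F59775 : act 0 n26839 = n17928 := (sb E6018 (iv1 D37326))
theorem E6019 : n27866 = n26837 := (c18_10 (iv1 D26837) D26839 F59775 (iv4 F30747) F30748 (iv4 F33665) F59767 (iv4 D13290) D13288 D27866)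
theorem F59776 : act 5 n26837 = n13288 := (sb E6019 (iv5 D27866))
theorem E6020 : n37325 = n34723 := ((c15_4 (iv0 D37325) (iv0 F59775) F43228 (iv2 F54960))).symm
theorem F59777 : act 1 n34723 = n17928 := (sb E6020 (iv0 D37325))
theorem F59778 : act 6 n34785 = n18719 := d21_5 (iv5 F59776) (iv1 D26837) D26840 (iv6 F43231) D34785 (iv5 D18719) (iv1 F22089) F29973 (iv6 D18728) (iv1 F22090)
theorem F59779 : act 1 n20754 = n38217 := d15_0 F59774 (iv7 D21930) (iv2 F32907)
theorem F59780 : act 4 n21943 = n34489 := d18_1 (iv1 F57779) (iv1 D34489) F27464 F12363 (iv4 F13526) D18259 D38217 F59774 (iv5 F57776)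
theorem E6021 : n36102 = n19021 := (c0_3 D18896 F59699 D36102 (iv2 D19021) (iv3 D8906) F30400)
theorem F59781 : act 3 n19021 = n17464 := (sb E6021 (iv3 D36102))
theorem F59782 : act 4 n36097 = n27440 := d20_2 (iv4 F28463) D36097 (iv3 D27440) (iv1 F21914) F9760 (iv4 F9807) (iv1 F9810) F28977 D8911 (iv1 F59697)
theorem F59783 : act 7 n27614 = n36097 := d11_0 F59782 F44538 D27614
theorem E6022 : n37881 = n34621 := ((c18_3 D7832 D16776 D34621 F58745 F57776 F59690 (iv0 D18420) (iv4 D8667) (iv0 D3886) (iv5 F5575))).symm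
theorem F59784 : act 4 n34621 = n36844 := (sb E6022 F58745)
theorem F59785 : act 7 n34621 = n18154 := (sb E6022 (iv7 D37881))
theorem E6023 : n34622 = n21941 := ((c15_4 F54879 F54883 F59785 (iv2 F34449))).symm
theorem F59786 : act 0 n21941 = n16776 := (sb E6023 (iv1 D34622))
theorem F59787 : act 1 n21941 = n16781 := (sb E6023 F54879)
theorem E6024 : n36027 = n8015 := (c20_6 D16776 D34621 F59784 F57775 (iv1 F28892) D36027 F28979 (iv1 D7843) F5582 (iv3 F5574) D7832)
theorem E6025 : n17438 = n17135 := (((D17135).symm.trans (sb E6024 (iv3 D36027)))).symm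
theorem E6026 : n35300 = n8193 := ((D35300).symm.trans (sb E6025 (iv1 D17438)))
theorem E6027 : n35301 = n17760 := ((D35301).symm.trans (sb E6025 F28892))
theorem E6030 : n36029 = n35250 := (((F55983).symm.trans (sb E6025 D36029))).symm
theorem E6033 : n36670 = n17437 := (((D17437).symm.trans (sb E6026 (iv1 F57536)))).symm
theorem F59788 : act 1 n8193 = n17135 := (sb E6026 (iv0 D35300))
theorem F59789 : act 0 n17760 = n17135 := (sb E6027 (iv1 D35301))
theorem E6034 : n17446 = n17104 := ((((iv6 D35250)).symm.trans (sb E6030 (iv6 F56783)))).symm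
theorem F59790 : act 2 n17437 = n17671 := (sb E6033 (iv2 D36670))
theorem E6035 : n36022 = n35296 := ((D36022).symm.trans (sb E6033 F57534))
theorem F59791 : act 7 n17437 = n17759 := (sb E6033 (iv7 F59730))
theorem E6036 : n35245 = n17753 := ((D35245).symm.trans (sb E6034 (iv1 F28878)))
theorem E6037 : n35246 = n8202 := ((D35246).symm.trans (sb E6034 (iv0 D17446)))
theorem F59792 : act 3 n35296 = n17437 := (sb E6035 (iv3 D36022))
theorem E6043 : n36708 = n17447 := ((((iv1 F28877)).symm.trans (sb E6036 (iv1 F57586)))).symm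
theorem F59793 : act 1 n17753 = n17104 := (sb E6036 (iv0 D35245))
theorem F59794 : act 0 n8202 = n17104 := (sb E6037 (iv1 D35246))
theorem F59795 : act 2 n17447 = n17692 := (sb E6043 (iv2 D36708))
theorem E6044 : n36050 = n35254 := ((D36050).symm.trans (sb E6043 F57584))
theorem F59796 : act 7 n17447 = n17751 := (sb E6043 F59739)
theorem F59797 : act 3 n35254 = n17447 := (sb E6044 (iv3 D36050))
theorem F59798 : act 7 n36834 = n36051 := d11_2 F59796 D36834 (iv4 D36051)
theorem F59799 : act 7 n36835 = n36052 := d13_2 F59796 D36835 (iv5 D36052)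
theorem F59800 : act 2 n36052 = n36710 := d4_1 F59799 F57591 F59742
theorem F59801 : act 2 n36051 = n36709 := d4_1 F59798 F57589 F59741
theorem F59802 : act 2 n36711 = n36053 := d3_3 (iv6 D36053) F59795 D36711
theorem F59803 : act 0 n37338 = n35153 := d20_7 F5649 D7754 F28972 D17104 (iv1 F59793) (iv3 F57734) (iv4 F58273) (iv4 D35153) (iv3 D17066) (iv1 D7984)
theorem F59804 : act 4 n36042 = n35127 := d20_2 (iv4 F57765) (iv1 F57768) (iv3 D35127) (iv1 D17054) F12747 F5649 D7754 F28972 D17104 (iv1 F59793)
theorem F59805 : act 1 n21575 = n35153 := d15_0 (iv0 F59803) (iv7 D37338) (iv2 F33964)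
theorem F59806 : act 7 n36862 = n36023 := d11_2 F59791 D36862 (iv4 D36023)
theorem F59807 : act 7 n36836 = n36024 := d13_2 F59791 (iv5 F57771) (iv5 D36024)
theorem F59808 : act 2 n36024 = n36672 := d4_1 F59807 F57541 F59733
theorem E6045 : n36940 = n36836 := (c15_2 F59728 D36940 F59807 F59808)
theorem F59809 : act 0 n36836 = n17781 := (sb E6045 (iv1 D36940))
theorem F59810 : act 1 n35250 = n36221 := d15_0 (iv0 F56931) (iv7 F59807) (iv2 F59733)
theorem F59811 : act 2 n36023 = n36671 := d4_1 F59806 F57539 F59732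
theorem F59812 : act 2 n36673 = n36025 := d3_3 (iv6 D36025) F59790 D36673
theorem F59813 : act 2 n36136 = n35823 := d2_3 F57543 F59812 F56871
theorem E6046 : n34727 = n21577 := ((c20_7 (iv4 F21284) (iv1 F21287) (iv4 F28979) D17135 (iv1 F59788) (iv3 F28422) (iv4 F33969) (iv1 D34727) (iv4 D16818) (iv3 D7847) (iv1 F9429))).symm
theorem F59814 : act 0 n21577 = n16818 := (sb E6046 (iv1 D34727))
theorem F59815 : act 0 n38748 = n37880 := d21_7 D8587 (iv1 F29334) F29335 D18283 (iv1 F59686) D18424 D38748 (iv5 D37880) (iv6 D18154) (iv1 F13405)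
theorem F59816 : act 5 n38742 = n38046 := d21_2 D18423 D38742 (iv6 D38046) (iv1 D18207) (iv6 D8588) D8587 (iv1 F29334) F29335 D18283 (iv1 F59686)
def n38796 : Q := act 7 n18443
theorem D38796 : act 7 n18443 = n38796 := rfl
theorem F59817 : act 2 n38796 = n38760 := d4_1 D38796 F59666 F59115
theorem F59818 : act 4 n38796 = n18447 := d11_1 D38796 (iv7 F29612) (iv4 F29606)
theorem F59819 : act 6 n38796 = n38233 := d14_1 D38796 F59102 F29607 F29629 D18443
theorem F59820 : act 1 n38760 = n38793 := d15_0 (iv0 D38793) D38796 F59817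
def n38797 : Q := act 3 n18444
theorem D38797 : act 3 n18444 = n38797 := rfl
theorem F59821 : act 6 n38797 = n38231 := d7_2 (iv6 F29607) D38797 (iv3 D38231)
def n38798 : Q := act 5 n18444
theorem D38798 : act 5 n18444 = n38798 := rfl
theorem F59822 : act 2 n38798 = n38748 := d2_1 D38798 (iv5 D38748) F29632
def n38799 : Q := act 3 n18445
theorem D38799 : act 3 n18445 = n38799 := rfl
theorem F59824 : act 7 n38799 = n37946 := d8_2 (iv7 F59616) D38799 F58777
def n38800 : Q := act 4 n18445
theorem D38800 : act 4 n18445 = n38800 := rfl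
theorem F59825 : act 2 n38800 = n37936 := d1_1 D38800 (iv4 D37936) (iv2 F59615)
theorem F59826 : act 7 n38800 = n37951 := d11_2 (iv7 F59616) D38800 (iv4 D37951)
def n38801 : Q := act 4 n18448
theorem D38801 : act 4 n18448 = n38801 := rfl
theorem F59827 : act 7 n38801 = n18461 := d11_2 (iv7 F29638) D38801 (iv4 D18461)
def n38802 : Q := act 0 n18449
theorem D38802 : act 0 n18449 = n38802 := rfl
theorem F59828 : act 1 n18454 = n38802 := d15_0 (iv0 D38802) (iv7 F29639) (iv2 F29640)
def n38804 : Q := act 3 n18449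
theorem D38804 : act 3 n18449 = n38804 := rfl
theorem F59830 : act 7 n38804 = n18455 := d8_2 F29639 D38804 (iv3 D18455)
def n38805 : Q := act 4 n18449
theorem D38805 : act 4 n18449 = n38805 := rfl
theorem F59831 : act 2 n38805 = n18451 := d1_1 D38805 (iv4 D18451) D18449
theorem F59832 : act 7 n38805 = n18456 := d11_2 F29639 D38805 (iv4 D18456)
def n38806 : Q := act 5 n18449
theorem D38806 : act 5 n18449 = n38806 := rfl
theorem F59833 : act 2 n38806 = n18452 := d2_1 D38806 (iv5 D18452) D18449
theorem F59834 : act 7 n38806 = n18457 := d13_2 F29639 D38806 (iv5 D18457)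
def n38807 : Q := act 6 n18449
theorem D38807 : act 6 n18449 = n38807 := rfl
theorem F59835 : act 2 n38807 = n18453 := d3_1 D38807 (iv6 D18453) D18449
def n38808 : Q := act 0 n18450
theorem D38808 : act 0 n18450 = n38808 := rfl
def n38809 : Q := act 1 n18450
theorem D38809 : act 1 n18450 = n38809 := rfl
def n38810 : Q := act 2 n18450
theorem D38810 : act 2 n18450 = n38810 := rfl
def n38811 : Q := act 4 n18450
theorem D38811 : act 4 n18450 = n38811 := rfl
theorem F59836 : act 0 n38811 = n35613 := d20_7 (iv4 F41672) (iv1 D6024) F4044 (iv3 F5850) D8676 D18450 D38811 F56297 F28205 (iv1 F13881)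
def n38812 : Q := act 5 n18450
theorem D38812 : act 5 n18450 = n38812 := rfl
theorem F59837 : act 3 n38812 = n18452 := d6_1 D38812 (iv5 D18452) D18450
def n38813 : Q := act 6 n18450
theorem D38813 : act 6 n18450 = n38813 := rfl
theorem F59838 : act 3 n38813 = n18453 := d7_1 D38813 (iv6 D18453) D18450
def n38814 : Q := act 7 n18450
theorem D38814 : act 7 n18450 = n38814 := rfl
theorem F59839 : act 3 n38814 = n18454 := d8_1 D38814 (iv7 D18454) D18450
def n38815 : Q := act 0 n18451
theorem D38815 : act 0 n18451 = n38815 := rfl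
def n38816 : Q := act 1 n18451
theorem D38816 : act 1 n18451 = n38816 := rfl
theorem F59840 : act 1 n38816 = n18456 := d15_1 D38816 (iv7 F59832) F59831
def n38817 : Q := act 3 n18451
theorem D38817 : act 3 n18451 = n38817 := rfl
def n38818 : Q := act 5 n18451
theorem D38818 : act 5 n18451 = n38818 := rfl
def n38819 : Q := act 6 n18451
theorem D38819 : act 6 n18451 = n38819 := rfl
theorem F59841 : act 4 n38819 = n18453 := d10_1 D38819 (iv6 D18453) D18451
def n38820 : Q := act 7 n18451
theorem D38820 : act 7 n18451 = n38820 := rfl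
theorem F59842 : act 2 n38820 = n18456 := d4_1 D38820 (iv7 F59832) F59831
theorem F59843 : act 4 n38820 = n18454 := d11_1 D38820 (iv7 D18454) D18451
theorem F59844 : act 1 n18456 = n38815 := d15_0 (iv0 D38815) D38820 F59842
def n38821 : Q := act 1 n18452
theorem D38821 : act 1 n18452 = n38821 := rfl
theorem F59845 : act 1 n38821 = n18457 := d15_1 D38821 (iv7 F59834) F59833
theorem F59846 : act 7 n38821 = n37954 := d15_2 (iv0 F59197) D38821 (iv2 F59654)
theorem F59847 : act 5 n34633 = n38821 := d13_3 F59846 (iv5 D37954) (iv7 F59314)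
def n38822 : Q := act 4 n18452
theorem D38822 : act 4 n18452 = n38822 := rfl
def n38823 : Q := act 6 n18452
theorem D38823 : act 6 n18452 = n38823 := rfl
def n38824 : Q := act 7 n18452
theorem D38824 : act 7 n18452 = n38824 := rfl
theorem F59848 : act 2 n38824 = n18457 := d4_1 D38824 (iv7 F59834) F59833
theorem F59849 : act 5 n38824 = n18454 := d13_1 D38824 (iv7 D18454) D18452
def n38825 : Q := act 5 n18453
theorem D38825 : act 5 n18453 = n38825 := rfl
theorem F59850 : act 0 n38825 = n34455 := d21_1 D38825 (iv5 D34455) (iv6 D16710) (iv1 F12262) D7825 F12374 D16753 (iv5 F29608) (iv6 F59208) F59209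
theorem F59851 : act 0 n34651 = n38825 := d21_1 D34651 (iv5 D38825) (iv6 D18453) (iv1 F29296) F29293 (iv5 F27467) (iv1 F27469) D16782 (iv6 F54653) F54654
def n38826 : Q := act 7 n18453
theorem D38826 : act 7 n18453 = n38826 := rfl
def n38827 : Q := act 6 n18454
theorem D38827 : act 6 n18454 = n38827 := rfl
theorem F59852 : act 2 n38827 = n18458 := d3_1 D38827 (iv6 D18458) (iv2 F29640)
def n38828 : Q := act 0 n18455
theorem D38828 : act 0 n18455 = n38828 := rfl
def n38829 : Q := act 1 n18455
theorem D38829 : act 1 n18455 = n38829 := rfl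
def n38830 : Q := act 2 n18455
theorem D38830 : act 2 n18455 = n38830 := rfl
def n38831 : Q := act 4 n18455
theorem D38831 : act 4 n18455 = n38831 := rfl
def n38832 : Q := act 5 n18455
theorem D38832 : act 5 n18455 = n38832 := rfl
theorem F59853 : act 3 n38832 = n18457 := d6_1 D38832 (iv5 D18457) D18455
def n38833 : Q := act 6 n18455
theorem D38833 : act 6 n18455 = n38833 := rfl
theorem F59854 : act 3 n38833 = n18458 := d7_1 D38833 (iv6 D18458) D18455
def n38834 : Q := act 3 n18456
theorem D38834 : act 3 n18456 = n38834 := rfl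
def n38835 : Q := act 5 n18456
theorem D38835 : act 5 n18456 = n38835 := rfl
def n38836 : Q := act 6 n18456
theorem D38836 : act 6 n18456 = n38836 := rfl
theorem F59855 : act 4 n38836 = n18458 := d10_1 D38836 (iv6 D18458) D18456
def n38837 : Q := act 4 n18457
theorem D38837 : act 4 n18457 = n38837 := rfl
def n38838 : Q := act 6 n18457
theorem D38838 : act 6 n18457 = n38838 := rfl
theorem F59856 : act 0 n34468 = n38838 := d21_4 (iv5 D7811) D7809 D16723 D34468 (iv6 D38838) (iv5 D18457) (iv1 D8677) D8678 F13585 F12347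
def n38839 : Q := act 5 n18458
theorem D38839 : act 5 n18458 = n38839 := rfl
theorem F59858 : act 0 n34519 = n38839 := d21_1 D34519 (iv5 D38839) (iv6 D18458) (iv1 D8677) (iv6 D3889) F2864 (iv1 F6433) (iv5 F7218) D7822 D16743
def n38840 : Q := act 7 n18458
theorem D38840 : act 7 n18458 = n38840 := rfl
def n38841 : Q := act 2 n18459
theorem D38841 : act 2 n18459 = n38841 := rfl
theorem F59859 : act 7 n18460 = n38841 := d15_2 (iv0 D18459) D18460 (iv2 D38841)
def n38842 : Q := act 3 n18459
theorem D38842 : act 3 n18459 = n38842 := rfl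
def n38843 : Q := act 4 n18459
theorem D38843 : act 4 n18459 = n38843 := rfl
def n38844 : Q := act 6 n18459
theorem D38844 : act 6 n18459 = n38844 := rfl
def n38845 : Q := act 7 n18459
theorem D38845 : act 7 n18459 = n38845 := rfl
theorem F59860 : act 2 n38845 = n18460 := d4_1 D38845 F59859 (iv2 D38841)
def n38846 : Q := act 3 n18460
theorem D38846 : act 3 n18460 = n38846 := rfl
def n38847 : Q := act 4 n18460
theorem D38847 : act 4 n18460 = n38847 := rfl
def n38848 : Q := act 6 n18460
theorem D38848 : act 6 n18460 = n38848 := rfl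
def n38849 : Q := act 0 n18461
theorem D38849 : act 0 n18461 = n38849 := rfl
def n38850 : Q := act 1 n18461
theorem D38850 : act 1 n18461 = n38850 := rfl
def n38851 : Q := act 3 n18461
theorem D38851 : act 3 n18461 = n38851 := rfl
theorem F59861 : act 4 n38851 = n18861 := d5_2 D18461 D38851 (iv3 D18861) (iv4 D8829) (iv3 F13584)
theorem F59862 : act 6 n38851 = n18474 := d7_2 (iv6 F29641) D38851 (iv3 D18474)
def n38852 : Q := act 5 n18461
theorem D38852 : act 5 n18461 = n38852 := rfl
def n38853 : Q := act 0 n18462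
theorem D38853 : act 0 n18462 = n38853 := rfl
theorem F59863 : act 5 n38853 = n18901 := d17_3 F28643 D18462 D38853 F30160 D34463 (iv0 F55922) (iv5 D35172) (iv0 F28025) (iv4 F28641)
theorem F59864 : act 2 n34463 = n38853 := d15_3 (iv0 D38853) (iv0 F56226) F56225
theorem F59865 : act 1 n35234 = n38853 := d15_0 (iv0 D38853) (iv7 F54904) (iv2 F55968)
theorem F59866 : act 7 n38853 = n34441 := d15_2 F56227 F59865 (iv2 F56223)
theorem F59867 : act 3 n18867 = n38853 := d8_3 F59866 (iv3 D34441) (iv7 F30109)
def n38854 : Q := act 4 n18462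
theorem D38854 : act 4 n18462 = n38854 := rfl
theorem F59868 : act 2 n38854 = n35755 := d1_1 D38854 F56435 F55919
theorem F59869 : act 7 n38854 = n35756 := d11_2 F54904 D38854 F56436
theorem F59870 : act 0 n38854 = n26963 := d18_2 F56226 D38854 (iv4 D26963) (iv5 D12903) F9500 D12901 F27418 (iv0 F28174) D35550
theorem F59871 : act 1 n38854 = n35751 := d18_6 (iv1 F13041) F13038 (iv1 F13043) (iv4 F13587) D18462 D38854 (iv4 D35751) (iv0 F28265) (iv5 D17099)
def n38855 : Q := act 6 n18463
theorem D38855 : act 6 n18463 = n38855 := rfl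
theorem F59873 : act 5 n38855 = n20413 := d12_1 D38855 (iv6 D20413) (iv5 D9694) (iv6 F13592) D18463
def n38856 : Q := act 0 n18464
theorem D38856 : act 0 n18464 = n38856 := rfl
theorem F59874 : act 4 n38856 = n19499 := d18_3 (iv1 F17609) D18464 D38856 (iv5 D19499) F17591 F27438 F27436 F17487 D9616
theorem F59875 : act 1 n18467 = n38856 := d15_0 (iv0 D38856) (iv7 F54908) F54907
theorem F59876 : act 2 n34478 = n38856 := d1_3 F59874 (iv2 F31933) (iv4 F54712)
theorem F59877 : act 7 n34479 = n38856 := d11_0 F59874 F31223 (iv4 F54713)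
def n38857 : Q := act 1 n18464
theorem D38857 : act 1 n18464 = n38857 := rfl
theorem F59878 : act 1 n38857 = n18467 := d15_1 D38857 F29651 (iv2 F29645)
theorem F59879 : act 7 n38857 = n34478 := d15_2 (iv0 D38856) D38857 F59876
theorem F59880 : act 4 n38857 = n19498 := d18_7 F16822 F16778 F14568 (iv4 D8680) D8681 D18464 D38857 (iv0 F31458) (iv5 D19711)
theorem F59881 : act 2 n34479 = n38857 := d1_3 F59880 F31219 (iv4 F54713)
def n38858 : Q := act 3 n18464
theorem D38858 : act 3 n18464 = n38858 := rfl
def n38859 : Q := act 5 n18464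
theorem D38859 : act 5 n18464 = n38859 := rfl
theorem F59882 : act 2 n38859 = n34481 := d2_1 D38859 (iv5 D34481) (iv2 F29645)
theorem F59883 : act 4 n38859 = n22977 := d16_2 D18464 D38859 F36031 F32284 (iv5 D18466) (iv4 D8683) D8684 F13597 (iv2 F13593)
def n38860 : Q := act 4 n18465
theorem D38860 : act 4 n18465 = n38860 := rfl
theorem F59884 : act 2 n38860 = n35553 := d1_1 D38860 (iv4 F56951) F56946
theorem F59886 : act 0 n38860 = n27069 := d18_2 (iv1 F54621) D38860 (iv4 D27069) F21567 D17170 (iv0 F30565) F30563 F27431 D26921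
theorem F59887 : act 1 n38860 = n27066 := d18_6 F13347 (iv4 F12840) D17143 F28087 D18465 D38860 (iv4 D27066) (iv0 D12967) (iv5 D6159)
def n38861 : Q := act 6 n18465
theorem D38861 : act 6 n18465 = n38861 := rfl
theorem F59888 : act 3 n38861 = n18468 := d7_1 D38861 (iv6 D18468) (iv3 F29646)
def n38862 : Q := act 6 n18466
theorem D38862 : act 6 n18466 = n38862 := rfl
theorem F59889 : act 3 n38862 = n19838 := d7_1 D38862 (iv6 D19838) (iv3 F29648)
def n38863 : Q := act 3 n18467
theorem D38863 : act 3 n18467 = n38863 := rfl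
theorem F59890 : act 7 n38863 = n34480 := d8_2 (iv7 F29651) D38863 (iv3 D34480)
def n38864 : Q := act 5 n18467
theorem D38864 : act 5 n18467 = n38864 := rfl
theorem F59891 : act 4 n38864 = n22976 := d9_1 D38864 F36030 F32283 (iv5 D18463) (iv4 D8680) D8681 D18464 D38859 F59883 F36031 F32284 (iv5 D18466) (iv4 D8683) D8684 D18467
theorem F59892 : act 7 n38864 = n34481 := d13_2 (iv7 F29651) D38864 (iv5 D34481)
def n38865 : Q := act 6 n18467
theorem D38865 : act 6 n18467 = n38865 := rfl
theorem F59893 : act 4 n38865 = n18468 := d10_1 D38865 (iv6 D18468) D18467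
def n38866 : Q := act 1 n18468
theorem D38866 : act 1 n18468 = n38866 := rfl
def n38867 : Q := act 6 n18469
theorem D38867 : act 6 n18469 = n38867 := rfl
theorem F59894 : act 3 n38867 = n18471 := d7_1 D38867 (iv6 D18471) D18469
theorem F59895 : act 5 n38867 = n38861 := d12_1 D38867 (iv6 D38861) (iv5 D18465) (iv6 F28325) (iv5 F29652)
def n38868 : Q := act 3 n18470
theorem D38868 : act 3 n18470 = n38868 := rfl
def n38869 : Q := act 5 n18470
theorem D38869 : act 5 n18470 = n38869 := rfl
theorem F59896 : act 4 n38869 = n22967 := d9_1 D38869 (iv5 D22967) (iv4 F27434) (iv5 D16721) F12346 D7811 D16724 D34471 F54695 (iv5 D22970) (iv4 F31646) F31644 F17543 F17497 D18470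
def n38870 : Q := act 6 n18470
theorem D38870 : act 6 n18470 = n38870 := rfl
theorem F59897 : act 4 n38870 = n18471 := d10_1 D38870 (iv6 D18471) D18470
def n38871 : Q := act 0 n18471
theorem D38871 : act 0 n18471 = n38871 := rfl
def n38872 : Q := act 1 n18471
theorem D38872 : act 1 n18471 = n38872 := rfl
theorem F59898 : act 1 n38872 = n38370 := d15_1 D38872 F59230 F54698
def n38873 : Q := act 7 n18471
theorem D38873 : act 7 n18471 = n38873 := rfl
theorem F59899 : act 2 n38873 = n38370 := d4_1 D38873 F59230 F54698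
theorem F59900 : act 5 n38873 = n38485 := d13_1 D38873 F59324 (iv5 F29654)
theorem F59901 : act 6 n38873 = n38150 := d14_1 D38873 (iv7 D38150) F29411 F27405 D18471
theorem F59902 : act 1 n38370 = n38871 := d15_0 (iv0 D38871) D38873 F59899
def n38874 : Q := act 3 n18472
theorem D38874 : act 3 n18472 = n38874 := rfl
def n38875 : Q := act 5 n18472
theorem D38875 : act 5 n18472 = n38875 := rfl
theorem F59903 : act 4 n38875 = n22961 := d16_2 (iv4 F29655) D38875 (iv5 D22961) (iv4 D10841) F17502 D9646 D20361 F32313 F31147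
theorem F59904 : act 1 n38875 = n35889 := d17_6 F31224 (iv5 D19499) (iv1 D9169) D9170 (iv4 F29655) D38875 (iv5 D35889) (iv0 F31251) (iv4 D19516)
def n38876 : Q := act 6 n18472
theorem D38876 : act 6 n18472 = n38876 := rfl
theorem F59905 : act 4 n38876 = n19495 := d10_1 D38876 F31215 (iv4 F29655)
def n38877 : Q := act 3 n18473
theorem D38877 : act 3 n18473 = n38877 := rfl
def n38878 : Q := act 5 n18473
theorem D38878 : act 5 n18473 = n38878 := rfl
theorem F59906 : act 4 n38878 = n19506 := d9_1 D38878 (iv5 D19506) (iv4 D9180) (iv5 D4131) (iv4 F6044) D9170 (iv4 F29655) D38875 F59903 (iv5 D22961) (iv4 D10841) F17502 D9646 D20361 (iv4 F32316)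
theorem F59907 : act 0 n38878 = n35889 := d17_2 F54665 D38878 (iv5 D35889) (iv4 D17376) (iv5 D8140) D8138 F17497 (iv0 F27402) D34457
def n38879 : Q := act 6 n18473
theorem D38879 : act 6 n18473 = n38879 := rfl
def n38880 : Q := act 0 n18474
theorem D38880 : act 0 n18474 = n38880 := rfl
def n38881 : Q := act 1 n18474
theorem D38881 : act 1 n18474 = n38881 := rfl
def n38882 : Q := act 2 n18474
theorem D38882 : act 2 n18474 = n38882 := rfl
theorem F59908 : act 4 n38882 = n18884 := d1_2 (iv4 F29656) D38882 (iv2 D18884)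
def n38883 : Q := act 5 n18474
theorem D38883 : act 5 n18474 = n38883 := rfl
theorem F59909 : act 3 n38883 = n18475 := d6_1 D38883 (iv5 D18475) D18474
def n38884 : Q := act 0 n18475
theorem D38884 : act 0 n18475 = n38884 := rfl
theorem F59910 : act 5 n38884 = n22947 := d17_3 (iv1 D18473) D18475 D38884 (iv4 D22947) (iv5 D10833) F14285 D17509 (iv0 F32315) (iv4 F32316)
theorem F59911 : act 1 n22978 = n38884 := d15_0 (iv0 D38884) (iv7 F54924) F54923
theorem F59912 : act 4 n22956 = n38884 := d16_2 D10838 D22956 F59910 (iv4 D22947) (iv5 D10833) (iv4 D4938) D4939 (iv7 F14448) F14447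
def n38885 : Q := act 1 n18475
theorem D38885 : act 1 n18475 = n38885 := rfl
theorem F59913 : act 1 n38885 = n22978 := d15_1 D38885 (iv7 F58658) F58656
theorem F59914 : act 5 n38885 = n22953 := d17_7 F28330 (iv5 D8684) (iv1 D3891) D3892 D8687 D18475 D38885 (iv0 F56544) (iv4 D35885)
theorem F59915 : act 4 n22951 = n38885 := d9_15 F59914 (iv4 D22953) (iv5 D10837) (iv4 D4941) D4942 D10838 D22956 F59912 F59910 (iv4 D22947) (iv5 D10833) (iv4 D4938) D4939 D10835 D22951
def n38886 : Q := act 4 n18475
theorem D38886 : act 4 n18475 = n38886 := rfl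
theorem F59916 : act 2 n38886 = n19717 := d1_1 D38886 (iv4 F58657) F58656
theorem F59917 : act 5 n38886 = n19474 := d9_2 D18475 D38886 (iv4 D19474) (iv5 D9146) (iv4 F12264) D16711 D34457 F54664 (iv4 D22978) (iv5 D10846) (iv4 D4945) (iv5 D2034) (iv4 F2866) D3892 D8687
theorem F59918 : act 7 n38886 = n21876 := d11_2 F54924 D38886 (iv4 F54925)
def n38887 : Q := act 6 n18475
theorem D38887 : act 6 n18475 = n38887 := rfl
def n38888 : Q := act 0 n18476
theorem D38888 : act 0 n18476 = n38888 := rfl
theorem F59921 : act 4 n38888 = n38607 := d20_0 (iv1 D38607) (iv4 F59401) (iv3 D38576) F33892 (iv3 D21543) (iv4 D10287) (iv1 F7271) D8688 D18476 D38888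
def n38889 : Q := act 1 n18476
theorem D38889 : act 1 n18476 = n38889 := rfl
theorem F59922 : act 4 n38606 = n38889 := d20_0 (iv1 D38889) (iv4 F44573) (iv3 D27651) F21989 F13629 F13563 (iv1 D8656) D8657 D18382 D38606
def n38890 : Q := act 6 n18476
theorem D38890 : act 6 n18476 = n38890 := rfl
theorem F59923 : act 3 n38890 = n18477 := d7_1 D38890 (iv6 D18477) D18476
def n38891 : Q := act 0 n18477
theorem D38891 : act 0 n18477 = n38891 := rfl
theorem F59924 : act 4 n38891 = n26904 := d20_2 (iv4 F29658) D38891 (iv3 D26904) (iv1 F43338) F43334 (iv4 F56080) (iv1 F56082) D35481 (iv3 F56172) (iv1 D18479)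
theorem F59925 : act 0 n38891 = n18492 := d20_7 (iv4 F30358) (iv1 D12731) F9355 (iv3 F9483) D12875 D26904 (iv4 F59924) F29680 F13617 (iv1 F9772)
def n38892 : Q := act 1 n18477
theorem D38892 : act 1 n18477 = n38892 := rfl
theorem F59926 : act 1 n38892 = n18492 := d15_1 D38892 (iv7 D18492) (iv2 F29657)
def n38893 : Q := act 5 n18477
theorem D38893 : act 5 n18477 = n38893 := rfl
theorem F59927 : act 2 n38893 = n18491 := d2_1 D38893 (iv5 D18491) (iv2 F29657)
def n38894 : Q := act 7 n18477
theorem D38894 : act 7 n18477 = n38894 := rfl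
theorem F59928 : act 2 n38894 = n18492 := d4_1 D38894 (iv7 D18492) (iv2 F29657)
theorem F59929 : act 4 n38894 = n18481 := d11_1 D38894 (iv7 D18481) (iv4 F29658)
theorem F59930 : act 1 n18490 = n38894 := d15_1 D18490 (iv7 D38894) F29657
theorem F59931 : act 1 n38894 = n18489 := d15_0 (iv0 D18489) D18492 (iv2 F59928)
def n38895 : Q := act 2 n18478
theorem D38895 : act 2 n18478 = n38895 := rfl
theorem F59932 : act 6 n38895 = n37383 := d3_2 (iv6 F29659) D38895 F58304
theorem F59933 : act 7 n18479 = n38895 := d15_2 (iv0 D18478) D18479 (iv2 D38895)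
def n38896 : Q := act 3 n18478
theorem D38896 : act 3 n18478 = n38896 := rfl
theorem F59934 : act 6 n38896 = n37393 := d7_2 (iv6 F29659) D38896 F58310
def n38897 : Q := act 4 n18478
theorem D38897 : act 4 n18478 = n38897 := rfl
theorem F59935 : act 6 n38897 = n37398 := d10_2 (iv6 F29659) D38897 (iv4 D37398)
def n38898 : Q := act 5 n18478
theorem D38898 : act 5 n18478 = n38898 := rfl
theorem F59936 : act 6 n38898 = n37401 := d12_2 (iv6 F29659) D38898 (iv5 D37401) (iv6 D17948) D17947
theorem F59937 : act 0 n37401 = n37209 := d21_10 (iv5 D37209) (iv1 D17890) D17891 F29065 (iv1 F27352) (iv6 F29662) (iv5 D18480) D18478 D38898 F59936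
def n38899 : Q := act 7 n18478
theorem D38899 : act 7 n18478 = n38899 := rfl
def n38900 : Q := act 4 n18479
theorem D38900 : act 4 n18479 = n38900 := rfl
def n38901 : Q := act 5 n18479
theorem D38901 : act 5 n18479 = n38901 := rfl
def n38902 : Q := act 6 n18479
theorem D38902 : act 6 n18479 = n38902 := rfl
theorem F59939 : act 7 n38902 = n37382 := d14_2 (iv7 F59933) D38902 (iv6 D37382) D37383 (iv6 F59932)
def n38903 : Q := act 0 n18480
theorem D38903 : act 0 n18480 = n38903 := rfl
theorem F59940 : act 6 n38903 = n27721 := d21_5 F30102 (iv1 D16690) D16691 (iv6 F29662) D38903 (iv5 D27721) (iv1 D13231) D13232 F22036 D18863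
def n38904 : Q := act 1 n18480
theorem D38904 : act 1 n18480 = n38904 := rfl
theorem F59941 : act 1 n38904 = n18506 := d15_1 D38904 (iv7 D18506) (iv2 F29661)
theorem F59942 : act 5 n21590 = n38904 := d21_6 (iv5 D4669) (iv1 D1938) D1939 D4674 D10311 D21590 (iv1 D38904) (iv5 D18480) (iv6 D8689) (iv1 F7272)
def n38905 : Q := act 4 n18480
theorem D38905 : act 4 n18480 = n38905 := rfl
theorem F59943 : act 2 n38905 = n18505 := d1_1 D38905 (iv4 D18505) (iv2 F29661)
theorem F59944 : act 6 n38905 = n34420 := d10_2 (iv6 F29662) D38905 (iv4 D34420)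
def n38906 : Q := act 7 n18480
theorem D38906 : act 7 n18480 = n38906 := rfl
theorem F59945 : act 2 n38906 = n18506 := d4_1 D38906 (iv7 D18506) (iv2 F29661)
theorem F59946 : act 5 n38906 = n18481 := d13_1 D38906 (iv7 D18481) D18480
theorem F59947 : act 1 n18506 = n38903 := d15_0 (iv0 D38903) D38906 F59945
theorem F59948 : act 1 n18504 = n38906 := d15_1 D18504 (iv7 D38906) F29661
theorem F59949 : act 1 n38906 = n18503 := d15_0 (iv0 D18503) D18506 (iv2 F59945)
def n38907 : Q := act 0 n18482
theorem D38907 : act 0 n18482 = n38907 := rfl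
def n38908 : Q := act 1 n18482
theorem D38908 : act 1 n18482 = n38908 := rfl
theorem F59950 : act 4 n38189 = n38908 := d20_6 (iv4 D8607) (iv1 D3867) D3868 D8611 D18252 D38189 (iv1 D38908) (iv4 F34402) (iv3 D21917) F16652
def n38909 : Q := act 2 n18482
theorem D38909 : act 2 n18482 = n38909 := rfl
def n38910 : Q := act 6 n18482
theorem D38910 : act 6 n18482 = n38910 := rfl
theorem F59951 : act 3 n38910 = n18483 := d7_1 D38910 (iv6 D18483) D18482
def n38911 : Q := act 0 n18483
theorem D38911 : act 0 n18483 = n38911 := rfl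
def n38912 : Q := act 1 n18483
theorem D38912 : act 1 n18483 = n38912 := rfl
def n38913 : Q := act 5 n18483
theorem D38913 : act 5 n18483 = n38913 := rfl
def n38914 : Q := act 7 n18483
theorem D38914 : act 7 n18483 = n38914 := rfl
theorem F59952 : act 4 n38914 = n21163 := d11_1 D38914 (iv7 D21163) (iv4 F29667)
theorem F59953 : act 6 n38914 = n18729 := d14_1 D38914 (iv7 F59761) (iv6 D21433) F16147 D18483
def n38915 : Q := act 0 n18484
theorem D38915 : act 0 n18484 = n38915 := rfl
def n38916 : Q := act 1 n18484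
theorem D38916 : act 1 n18484 = n38916 := rfl
def n38917 : Q := act 2 n18484
theorem D38917 : act 2 n18484 = n38917 := rfl
theorem F59954 : act 4 n38917 = n36092 := d1_2 (iv4 F29668) D38917 (iv2 D36092)
def n38918 : Q := act 6 n18484
theorem D38918 : act 6 n18484 = n38918 := rfl
theorem F59955 : act 3 n38918 = n18485 := d7_1 D38918 (iv6 D18485) D18484
theorem F59956 : act 4 n38918 = n36093 := d10_1 D38918 (iv6 D36093) (iv4 F29668)
def n38919 : Q := act 5 n18485
theorem D38919 : act 5 n18485 = n38919 := rfl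
def n38920 : Q := act 3 n18486
theorem D38920 : act 3 n18486 = n38920 := rfl
theorem F59957 : act 5 n38920 = n21574 := d6_2 (iv5 F29670) D38920 (iv3 D21574)
theorem F59958 : act 7 n38920 = n37322 := d8_2 F29674 D38920 F58264
def n38921 : Q := act 6 n18486
theorem D38921 : act 6 n18486 = n38921 := rfl
theorem F59959 : act 2 n38921 = n37334 := d3_1 D38921 (iv6 D37334) F29673
theorem F59960 : act 4 n38921 = n21642 := d10_1 D38921 (iv6 D21642) (iv4 F29671)
def n38922 : Q := act 3 n18487
theorem D38922 : act 3 n18487 = n38922 := rfl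
theorem F59961 : act 4 n38922 = n25725 := d5_2 F29679 D38922 F40639 (iv4 F34024) F34022
theorem F59962 : act 5 n38922 = n21576 := d6_2 (iv5 F29677) D38922 (iv3 D21576)
theorem F59963 : act 7 n38922 = n37332 := d8_2 (iv7 F29676) D38922 F58268
def n38923 : Q := act 6 n18487
theorem D38923 : act 6 n18487 = n38923 := rfl
theorem F59964 : act 2 n38923 = n37324 := d3_1 D38923 (iv6 D37324) F29678
theorem F59965 : act 4 n38923 = n21616 := d10_1 D38923 (iv6 D21616) F29679
def n38924 : Q := act 0 n18488
theorem D38924 : act 0 n18488 = n38924 := rfl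
def n38925 : Q := act 1 n18488
theorem D38925 : act 1 n18488 = n38925 := rfl
def n38926 : Q := act 5 n18488
theorem D38926 : act 5 n18488 = n38926 := rfl
theorem F59966 : act 6 n38926 = n18491 := d12_2 D18488 D38926 (iv5 D18491) (iv6 D8693) D8692
def n38927 : Q := act 7 n18488
theorem D38927 : act 7 n18488 = n38927 := rfl
def n38928 : Q := act 2 n18489
theorem D38928 : act 2 n18489 = n38928 := rfl
theorem F59967 : act 7 n18490 = n38928 := d15_2 (iv0 D18489) D18490 (iv2 D38928)
def n38929 : Q := act 3 n18489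
theorem D38929 : act 3 n18489 = n38929 := rfl
def n38930 : Q := act 4 n18489
theorem D38930 : act 4 n18489 = n38930 := rfl
def n38931 : Q := act 5 n18489
theorem D38931 : act 5 n18489 = n38931 := rfl
def n38932 : Q := act 6 n18489
theorem D38932 : act 6 n18489 = n38932 := rfl
def n38933 : Q := act 7 n18489
theorem D38933 : act 7 n18489 = n38933 := rfl
theorem F59968 : act 2 n38933 = n18490 := d4_1 D38933 F59967 (iv2 D38928)
def n38934 : Q := act 3 n18490
theorem D38934 : act 3 n18490 = n38934 := rfl
def n38935 : Q := act 4 n18490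
theorem D38935 : act 4 n18490 = n38935 := rfl
theorem F59969 : act 3 n38935 = n26874 := d20_3 (iv4 F59929) (iv1 F59930) D38935 (iv1 D26874) F21346 (iv4 F28111) D35375 (iv4 F56083) (iv3 D18494) (iv1 F29666)
def n38936 : Q := act 5 n18490
theorem D38936 : act 5 n18490 = n38936 := rfl
def n38937 : Q := act 6 n18490
theorem D38937 : act 6 n18490 = n38937 := rfl
def n38938 : Q := act 0 n18491
theorem D38938 : act 0 n18491 = n38938 := rfl
def n38939 : Q := act 1 n18491
theorem D38939 : act 1 n18491 = n38939 := rfl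
def n38940 : Q := act 4 n18491
theorem D38940 : act 4 n18491 = n38940 := rfl
def n38941 : Q := act 7 n18491
theorem D38941 : act 7 n18491 = n38941 := rfl
theorem F59970 : act 5 n38941 = n18492 := d13_1 D38941 (iv7 D18492) D18491
def n38944 : Q := act 3 n18493
theorem D38944 : act 3 n18493 = n38944 := rfl
theorem F59973 : act 7 n38944 = n18499 := d8_2 F29681 D38944 (iv3 D18499)
def n38945 : Q := act 4 n18493
theorem D38945 : act 4 n18493 = n38945 := rfl
theorem F59974 : act 2 n38945 = n18495 := d1_1 D38945 (iv4 D18495) D18493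
theorem F59975 : act 7 n38945 = n18500 := d11_2 F29681 D38945 (iv4 D18500)
def n38946 : Q := act 5 n18493
theorem D38946 : act 5 n18493 = n38946 := rfl
theorem F59976 : act 2 n38946 = n18496 := d2_1 D38946 (iv5 D18496) D18493
theorem F59977 : act 7 n38946 = n18501 := d13_2 F29681 D38946 (iv5 D18501)
def n38947 : Q := act 6 n18493
theorem D38947 : act 6 n18493 = n38947 := rfl
theorem F59978 : act 2 n38947 = n18497 := d3_1 D38947 (iv6 D18497) D18493
theorem F59979 : act 5 n37258 = n38947 := d2_0 F59978 F29682 (iv2 F58206)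
theorem F59980 : act 7 n38947 = n37256 := d13_2 D37258 F59979 (iv5 D37256)
def n38948 : Q := act 0 n18494
theorem D38948 : act 0 n18494 = n38948 := rfl
def n38949 : Q := act 1 n18494
theorem D38949 : act 1 n18494 = n38949 := rfl
def n38950 : Q := act 2 n18494
theorem D38950 : act 2 n18494 = n38950 := rfl
def n38951 : Q := act 5 n18494
theorem D38951 : act 5 n18494 = n38951 := rfl
theorem F59981 : act 3 n38951 = n18496 := d6_1 D38951 (iv5 D18496) D18494
def n38952 : Q := act 6 n18494
theorem D38952 : act 6 n18494 = n38952 := rfl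
theorem F59982 : act 3 n38952 = n18497 := d7_1 D38952 (iv6 D18497) D18494
theorem F59983 : act 5 n36594 = n38952 := d6_0 F59982 F29682 F57458
def n38953 : Q := act 7 n18494
theorem D38953 : act 7 n18494 = n38953 := rfl
theorem F59984 : act 3 n38953 = n18498 := d8_1 D38953 (iv7 D18498) D18494
def n38954 : Q := act 0 n18495
theorem D38954 : act 0 n18495 = n38954 := rfl
def n38955 : Q := act 1 n18495
theorem D38955 : act 1 n18495 = n38955 := rfl
theorem F59985 : act 1 n38955 = n18500 := d15_1 D38955 (iv7 F59975) F59974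
def n38956 : Q := act 3 n18495
theorem D38956 : act 3 n18495 = n38956 := rfl
def n38957 : Q := act 5 n18495
theorem D38957 : act 5 n18495 = n38957 := rfl
def n38958 : Q := act 6 n18495
theorem D38958 : act 6 n18495 = n38958 := rfl
theorem F59986 : act 4 n38958 = n18497 := d10_1 D38958 (iv6 D18497) D18495
def n38959 : Q := act 7 n18495
theorem D38959 : act 7 n18495 = n38959 := rfl
theorem F59987 : act 2 n38959 = n18500 := d4_1 D38959 (iv7 F59975) F59974
theorem F59988 : act 4 n38959 = n18498 := d11_1 D38959 (iv7 D18498) D18495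
theorem F59989 : act 1 n18500 = n38954 := d15_0 (iv0 D38954) D38959 F59987
def n38960 : Q := act 0 n18496
theorem D38960 : act 0 n18496 = n38960 := rfl
def n38961 : Q := act 1 n18496
theorem D38961 : act 1 n18496 = n38961 := rfl
theorem F59990 : act 1 n38961 = n18501 := d15_1 D38961 (iv7 F59977) F59976
def n38962 : Q := act 4 n18496
theorem D38962 : act 4 n18496 = n38962 := rfl
def n38963 : Q := act 6 n18496
theorem D38963 : act 6 n18496 = n38963 := rfl
theorem F59991 : act 5 n38963 = n37260 := d12_1 D38963 (iv6 D37260) (iv5 F29682) (iv6 D18497) D18496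
def n38964 : Q := act 7 n18496
theorem D38964 : act 7 n18496 = n38964 := rfl
theorem F59992 : act 2 n38964 = n18501 := d4_1 D38964 (iv7 F59977) F59976
theorem F59993 : act 5 n38964 = n18498 := d13_1 D38964 (iv7 D18498) D18496
theorem F59994 : act 1 n18501 = n38960 := d15_0 (iv0 D38960) D38964 F59992
def n38965 : Q := act 0 n18497
theorem D38965 : act 0 n18497 = n38965 := rfl
def n38966 : Q := act 1 n18497
theorem D38966 : act 1 n18497 = n38966 := rfl
theorem F59995 : act 1 n38966 = n37256 := d15_1 D38966 (iv7 F59980) F59978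
theorem F59996 : act 6 n37239 = n38966 := d21_9 F29682 (iv1 D17906) F13255 (iv6 D8452) (iv1 F6773) D10305 F17011 D17900 D37239 (iv1 D38966)
def n38967 : Q := act 7 n18497
theorem D38967 : act 7 n18497 = n38967 := rfl
theorem F59997 : act 2 n38967 = n37256 := d4_1 D38967 (iv7 F59980) F59978
theorem F59998 : act 5 n38967 = n37253 := d13_1 D38967 (iv7 F58204) (iv5 F29682)
theorem F59999 : act 1 n37256 = n38965 := d15_0 (iv0 D38965) D38967 F59997
def n38968 : Q := act 6 n18498
theorem D38968 : act 6 n18498 = n38968 := rfl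
theorem F60000 : act 2 n38968 = n18502 := d3_1 D38968 (iv6 D18502) (iv2 F29683)
def n38969 : Q := act 0 n18499
theorem D38969 : act 0 n18499 = n38969 := rfl
def n38970 : Q := act 1 n18499
theorem D38970 : act 1 n18499 = n38970 := rfl
def n38971 : Q := act 2 n18499
theorem D38971 : act 2 n18499 = n38971 := rfl
def n38972 : Q := act 4 n18499
theorem D38972 : act 4 n18499 = n38972 := rfl
def n38973 : Q := act 5 n18499
theorem D38973 : act 5 n18499 = n38973 := rfl
theorem F60001 : act 3 n38973 = n18501 := d6_1 D38973 (iv5 D18501) D18499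
def n38974 : Q := act 6 n18499
theorem D38974 : act 6 n18499 = n38974 := rfl
theorem F60002 : act 3 n38974 = n18502 := d7_1 D38974 (iv6 D18502) D18499
def n38975 : Q := act 3 n18500
theorem D38975 : act 3 n18500 = n38975 := rfl
def n38976 : Q := act 5 n18500
theorem D38976 : act 5 n18500 = n38976 := rfl
def n38977 : Q := act 6 n18500
theorem D38977 : act 6 n18500 = n38977 := rfl
theorem F60003 : act 4 n38977 = n18502 := d10_1 D38977 (iv6 D18502) D18500
def n38978 : Q := act 4 n18501
theorem D38978 : act 4 n18501 = n38978 := rfl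
def n38979 : Q := act 6 n18501
theorem D38979 : act 6 n18501 = n38979 := rfl
def n38980 : Q := act 0 n18502
theorem D38980 : act 0 n18502 = n38980 := rfl
def n38981 : Q := act 1 n18502
theorem D38981 : act 1 n18502 = n38981 := rfl
def n38982 : Q := act 5 n18502
theorem D38982 : act 5 n18502 = n38982 := rfl
def n38983 : Q := act 7 n18502
theorem D38983 : act 7 n18502 = n38983 := rfl
theorem F60004 : act 6 n38983 = n37256 := d14_1 D38983 (iv7 F59980) (iv6 D38947) (iv7 F29681) D18502
def n38984 : Q := act 2 n18503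
theorem D38984 : act 2 n18503 = n38984 := rfl
theorem F60005 : act 7 n18504 = n38984 := d15_2 (iv0 D18503) D18504 (iv2 D38984)
def n38985 : Q := act 3 n18503
theorem D38985 : act 3 n18503 = n38985 := rfl
def n38986 : Q := act 4 n18503
theorem D38986 : act 4 n18503 = n38986 := rfl
def n38987 : Q := act 5 n18503
theorem D38987 : act 5 n18503 = n38987 := rfl
def n38988 : Q := act 6 n18503
theorem D38988 : act 6 n18503 = n38988 := rfl
theorem F60006 : act 5 n38988 = n27705 := d21_6 (iv5 D16696) (iv1 D7779) D7780 (iv6 F13616) D18503 D38988 (iv1 D27705) D27706 F44715 F29069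
def n38989 : Q := act 7 n18503
theorem D38989 : act 7 n18503 = n38989 := rfl
theorem F60007 : act 2 n38989 = n18504 := d4_1 D38989 F60005 (iv2 D38984)
def n38990 : Q := act 3 n18504
theorem D38990 : act 3 n18504 = n38990 := rfl
def n38991 : Q := act 4 n18504
theorem D38991 : act 4 n18504 = n38991 := rfl
def n38992 : Q := act 5 n18504
theorem D38992 : act 5 n18504 = n38992 := rfl
theorem F60008 : act 6 n38992 = n21515 := d21_3 (iv5 F59946) (iv1 F59948) D38992 (iv1 F33845) F16405 F13262 (iv1 F29075) (iv5 F29682) (iv6 D18497) (iv1 F29666)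
def n38993 : Q := act 6 n18504
theorem D38993 : act 6 n18504 = n38993 := rfl
def n38994 : Q := act 0 n18505
theorem D38994 : act 0 n18505 = n38994 := rfl
def n38995 : Q := act 1 n18505
theorem D38995 : act 1 n18505 = n38995 := rfl
def n38996 : Q := act 3 n18505
theorem D38996 : act 3 n18505 = n38996 := rfl
theorem F60009 : act 4 n38996 = n18556 := d5_2 D18505 D38996 (iv3 D18556) (iv4 D8710) (iv3 F13615)
theorem F60010 : act 6 n38996 = n34428 := d7_2 (iv6 F29684) D38996 (iv3 D34428)
def n38997 : Q := act 5 n18505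
theorem D38997 : act 5 n18505 = n38997 := rfl
def n38998 : Q := act 7 n18505
theorem D38998 : act 7 n18505 = n38998 := rfl
theorem F60011 : act 4 n38998 = n18506 := d11_1 D38998 (iv7 D18506) D18505
def n38999 : Q := act 6 n18506
theorem D38999 : act 6 n18506 = n38999 := rfl
theorem F60012 : act 3 n38999 = n18559 := d7_1 D38999 (iv6 D18559) (iv3 F29685)
theorem F60013 : act 7 n38999 = n27915 := d14_2 D18506 D38999 (iv6 D27915) F22117 (iv6 F13616)
def n39001 : Q := act 3 n18513
theorem D39001 : act 3 n18513 = n39001 := rfl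
theorem F60015 : act 4 n39001 = n35691 := d20_6 (iv4 F5432) D7600 (iv4 F42342) D8699 D18513 D39001 (iv1 D35691) (iv4 D17299) (iv3 D8103) (iv1 D3651)
def n39002 : Q := act 4 n18513
theorem D39002 : act 4 n18513 = n39002 := rfl
theorem F60016 : act 0 n39002 = n35519 := d20_1 D39002 (iv4 D35519) (iv3 D17210) (iv1 D8071) F5669 (iv4 F5432) D7600 (iv4 F42342) D8699 D18513
def n39004 : Q := act 6 n18513
theorem D39004 : act 6 n18513 = n39004 := rfl
def n39010 : Q := act 4 n18515
theorem D39010 : act 4 n18515 = n39010 := rfl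
theorem F60018 : act 2 n39010 = n18516 := d1_1 D39010 (iv4 D18516) D18515
def n39011 : Q := act 5 n18515
theorem D39011 : act 5 n18515 = n39011 := rfl
theorem F60019 : act 2 n39011 = n18517 := d2_1 D39011 (iv5 D18517) D18515
def n39012 : Q := act 6 n18515
theorem D39012 : act 6 n18515 = n39012 := rfl
theorem F60020 : act 2 n39012 = n18518 := d3_1 D39012 (iv6 D18518) D18515
theorem F60021 : act 3 n39012 = n37438 := d7_1 D39012 (iv6 F58341) F44612
theorem F60022 : act 5 n27280 = n39012 := d6_0 F60021 (iv5 D37438) (iv3 F44123)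
theorem F60023 : act 7 n39012 = n37414 := d13_2 (iv7 F44124) F60022 (iv5 D37414)
theorem F60024 : act 1 n37421 = n39012 := d15_1 D37421 F60023 F58319
theorem F60025 : act 1 n39012 = n37420 := d15_0 (iv0 D37420) (iv7 F29893) (iv2 F60020)
def n39013 : Q := act 0 n18516
theorem D39013 : act 0 n18516 = n39013 := rfl
def n39014 : Q := act 1 n18516
theorem D39014 : act 1 n18516 = n39014 := rfl
def n39015 : Q := act 5 n18516
theorem D39015 : act 5 n18516 = n39015 := rfl
def n39016 : Q := act 6 n18516
theorem D39016 : act 6 n18516 = n39016 := rfl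
theorem F60026 : act 4 n39016 = n18518 := d10_1 D39016 (iv6 D18518) D18516
theorem F60027 : act 7 n37422 = n39016 := d11_0 F60026 F29893 D37422
def n39017 : Q := act 0 n18517
theorem D39017 : act 0 n18517 = n39017 := rfl
def n39018 : Q := act 1 n18517
theorem D39018 : act 1 n18517 = n39018 := rfl
def n39019 : Q := act 4 n18517
theorem D39019 : act 4 n18517 = n39019 := rfl
def n39020 : Q := act 6 n18517
theorem D39020 : act 6 n18517 = n39020 := rfl
theorem F60028 : act 3 n39020 = n18528 := d7_1 D39020 (iv6 D18528) (iv3 F29697)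
theorem F60029 : act 5 n39020 = n27282 := d12_1 D39020 (iv6 D27282) F29699 (iv6 D18518) D18517
def n39021 : Q := act 0 n18518
theorem D39021 : act 0 n18518 = n39021 := rfl
def n39022 : Q := act 1 n18518
theorem D39022 : act 1 n18518 = n39022 := rfl
def n39023 : Q := act 3 n18526
theorem D39023 : act 3 n18526 = n39023 := rfl
def n39024 : Q := act 4 n18526
theorem D39024 : act 4 n18526 = n39024 := rfl
theorem F60032 : act 2 n39024 = n35672 := d1_1 D39024 F56358 F44623
theorem F60033 : act 7 n39024 = n35671 := d11_2 (iv7 F43248) D39024 F56352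
theorem F60034 : act 0 n39024 = n26937 := d18_2 (iv1 F29706) D39024 (iv4 D26937) (iv5 D12888) (iv4 F41941) (iv0 D7347) F5371 D3899 D8706
theorem F60035 : act 1 n39024 = n26944 := d18_6 F43462 (iv4 F51971) (iv1 F57945) F57947 F43250 D39024 (iv4 D26944) F43436 F43434
def n39025 : Q := act 3 n18527
theorem D39025 : act 3 n18527 = n39025 := rfl
def n39026 : Q := act 6 n18527
theorem D39026 : act 6 n18527 = n39026 := rfl
theorem F60036 : act 2 n39026 = n37451 := d3_1 D39026 F58349 F44625
theorem F60037 : act 4 n39026 = n18528 := d10_1 D39026 (iv6 D18528) D18527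
def n39028 : Q := act 3 n18532
theorem D39028 : act 3 n18532 = n39028 := rfl
theorem F60039 : act 4 n39028 = n35648 := d20_6 (iv4 F21141) (iv1 F21144) (iv4 F42346) D8704 D18532 D39028 (iv1 D35648) (iv4 D17277) (iv3 D8098) (iv1 F9495)
def n39033 : Q := act 3 n18533
theorem D39033 : act 3 n18533 = n39033 := rfl
theorem F60041 : act 4 n35501 = n39033 := d20_2 D17206 D35501 (iv3 D39033) (iv1 D18533) (iv3 D8704) F42346 (iv1 D7601) F5432 (iv3 F5669) D8070
def n39036 : Q := act 6 n18533
theorem D39036 : act 6 n18533 = n39036 := rfl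
def n39037 : Q := act 4 n18534
theorem D39037 : act 4 n18534 = n39037 := rfl
def n39038 : Q := act 5 n18534
theorem D39038 : act 5 n18534 = n39038 := rfl
theorem F60043 : act 2 n39038 = n18536 := d2_1 D39038 (iv5 D18536) D18534
def n39040 : Q := act 0 n18535
theorem D39040 : act 0 n18535 = n39040 := rfl
def n39041 : Q := act 1 n18535
theorem D39041 : act 1 n18535 = n39041 := rfl
def n39042 : Q := act 5 n18535
theorem D39042 : act 5 n18535 = n39042 := rfl
def n39043 : Q := act 6 n18535
theorem D39043 : act 6 n18535 = n39043 := rfl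
def n39046 : Q := act 4 n18536
theorem D39046 : act 4 n18536 = n39046 := rfl
def n39047 : Q := act 6 n18536
theorem D39047 : act 6 n18536 = n39047 := rfl
theorem F60046 : act 3 n39047 = n18542 := d7_1 D39047 (iv6 D18542) (iv3 F29719)
def n39050 : Q := act 5 n18537
theorem D39050 : act 5 n18537 = n39050 := rfl
theorem F60047 : act 3 n39050 = n18545 := d6_1 D39050 (iv5 D18545) (iv3 F29720)
def n39051 : Q := act 7 n18537
theorem D39051 : act 7 n18537 = n39051 := rfl
theorem F60048 : act 3 n39051 = n18546 := d8_1 D39051 (iv7 D18546) (iv3 F29720)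
theorem F60049 : act 6 n39051 = n18811 := d14_1 D39051 F30068 (iv6 F29145) F29867 D18537
def n39052 : Q := act 3 n18541
theorem D39052 : act 3 n18541 = n39052 := rfl
def n39053 : Q := act 5 n18542
theorem D39053 : act 5 n18542 = n39053 := rfl
theorem F60050 : act 6 n39053 = n18545 := d12_2 D18542 D39053 (iv5 D18545) (iv6 D8707) D8706
theorem F60051 : act 7 n39053 = n18621 := d13_2 F45076 D39053 F45077
theorem F60052 : act 0 n39053 = n18835 := d21_1 D39053 (iv5 F55893) (iv6 D35162) (iv1 D17071) F12756 (iv5 D3615) (iv1 F2886) D3936 D8838 F29722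
def n39054 : Q := act 3 n18543
theorem D39054 : act 3 n18543 = n39054 := rfl
theorem F60053 : act 5 n39054 = n34798 := d6_2 (iv5 F29723) D39054 (iv3 D34798)
theorem F60054 : act 7 n39054 = n18825 := d8_2 (iv7 F44669) D39054 F30081
def n39055 : Q := act 4 n18545
theorem D39055 : act 4 n18545 = n39055 := rfl
theorem F60055 : act 0 n39055 = n35258 := d18_2 F29724 D39055 (iv4 D35258) (iv5 D17111) (iv4 F28975) F21234 F21231 (iv0 F12753) D17064
theorem F60056 : act 1 n39055 = n35251 := d18_6 (iv1 F28959) F25886 (iv1 F42700) F42347 D18545 D39055 (iv4 D35251) (iv0 F30533) (iv5 F28782)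
def n39056 : Q := act 0 n18548
theorem D39056 : act 0 n18548 = n39056 := rfl
def n39057 : Q := act 1 n18548
theorem D39057 : act 1 n18548 = n39057 := rfl
def n39058 : Q := act 2 n18548
theorem D39058 : act 2 n18548 = n39058 := rfl
def n39059 : Q := act 4 n18548
theorem D39059 : act 4 n18548 = n39059 := rfl
def n39060 : Q := act 5 n18548
theorem D39060 : act 5 n18548 = n39060 := rfl
theorem F60057 : act 3 n39060 = n18550 := d6_1 D39060 (iv5 D18550) D18548
theorem F60058 : act 6 n39060 = n34746 := d12_2 (iv6 F29836) D39060 F54975 (iv6 D18612) D18611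
theorem F60059 : act 7 n39060 = n27288 := d13_2 F44698 D39060 (iv5 F44697)
def n39063 : Q := act 2 n18551
theorem D39063 : act 2 n18551 = n39063 := rfl
theorem F60060 : act 5 n39063 = n37711 := d2_2 (iv5 F29790) D39063 F58573
def n39064 : Q := act 4 n18551
theorem D39064 : act 4 n18551 = n39064 := rfl
def n39065 : Q := act 6 n18551
theorem D39065 : act 6 n18551 = n39065 := rfl
theorem F60062 : act 5 n39065 = n37719 := d12_1 D39065 (iv6 D37719) (iv5 D18076) D18077 (iv5 F29790)
def n39066 : Q := act 3 n18554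
theorem D39066 : act 3 n18554 = n39066 := rfl
theorem F60063 : act 7 n39066 = n35730 := d8_2 (iv7 F41957) D39066 (iv3 D35730)
def n39067 : Q := act 5 n18554
theorem D39067 : act 5 n18554 = n39067 := rfl
theorem F60064 : act 2 n39067 = n35724 := d2_1 D39067 (iv5 D35724) F41955
theorem F60065 : act 7 n39067 = n35731 := d13_2 (iv7 F41957) D39067 (iv5 D35731)
def n39068 : Q := act 3 n18555
theorem D39068 : act 3 n18555 = n39068 := rfl
theorem F60066 : act 7 n39068 = n35723 := d8_2 F41954 D39068 (iv3 D35723)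
def n39069 : Q := act 5 n18555
theorem D39069 : act 5 n18555 = n39069 := rfl
theorem F60067 : act 2 n39069 = n35731 := d2_1 D39069 (iv5 D35731) F41953
theorem F60068 : act 7 n39069 = n35724 := d13_2 F41954 D39069 (iv5 D35724)
def n39070 : Q := act 6 n18555
theorem D39070 : act 6 n18555 = n39070 := rfl
theorem F60069 : act 2 n39070 = n35732 := d3_1 D39070 (iv6 D35732) F41953
theorem F60070 : act 4 n39070 = n26950 := d10_1 D39070 (iv6 D26950) (iv4 F41952)
def n39071 : Q := act 0 n18556
theorem D39071 : act 0 n18556 = n39071 := rfl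
def n39072 : Q := act 1 n18556
theorem D39072 : act 1 n18556 = n39072 := rfl
def n39073 : Q := act 2 n18556
theorem D39073 : act 2 n18556 = n39073 := rfl
theorem F60071 : act 6 n39073 = n34432 := d3_2 (iv6 F29792) D39073 (iv2 D34432)
def n39074 : Q := act 5 n18556
theorem D39074 : act 5 n18556 = n39074 := rfl
theorem F60072 : act 3 n39074 = n18557 := d6_1 D39074 (iv5 D18557) D18556
def n39075 : Q := act 7 n18556
theorem D39075 : act 7 n18556 = n39075 := rfl
theorem F60073 : act 3 n39075 = n18558 := d8_1 D39075 (iv7 D18558) D18556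
def n39076 : Q := act 0 n18557
theorem D39076 : act 0 n18557 = n39076 := rfl
theorem F60074 : act 5 n39076 = n26937 := d17_3 (iv1 D18555) D18557 D39076 (iv4 D26937) (iv5 D12888) (iv0 D6110) D6112 D12895 (iv4 F41952)
theorem F60075 : act 2 n35674 = n39076 := d2_3 F60074 F43440 D35674
theorem F60076 : act 7 n35713 = n39076 := d13_0 F60074 F43441 D35713
def n39077 : Q := act 1 n18557
theorem D39077 : act 1 n18557 = n39077 := rfl
theorem F60077 : act 7 n39077 = n35674 := d15_2 (iv0 D39076) D39077 F60075
theorem F60078 : act 5 n39077 = n26944 := d17_7 F28001 (iv5 D8706) (iv1 D3899) D3900 D8710 D18557 D39077 (iv0 F54994) (iv4 D34783)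
theorem F60079 : act 2 n35713 = n39077 := d2_3 F60078 F43452 D35713
def n39078 : Q := act 4 n18557
theorem D39078 : act 4 n18557 = n39078 := rfl
def n39079 : Q := act 6 n18557
theorem D39079 : act 6 n18557 = n39079 := rfl
theorem F60080 : act 5 n39079 = n18871 := d12_1 D39079 (iv6 D18871) F13737 (iv6 F13622) D18557
def n39080 : Q := act 7 n18557
theorem D39080 : act 7 n18557 = n39080 := rfl
theorem F60081 : act 5 n39080 = n18558 := d13_1 D39080 (iv7 D18558) D18557
theorem F60082 : act 1 n35713 = n39080 := d15_1 (iv0 F56402) (iv7 D39080) (iv2 F44702)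
theorem F60083 : act 1 n39080 = n35674 := d15_1 F60082 (iv7 F60077) (iv2 F60079)
def n39081 : Q := act 6 n18558
theorem D39081 : act 6 n18558 = n39081 := rfl
theorem F60084 : act 4 n39081 = n18559 := d10_1 D39081 (iv6 D18559) (iv4 F29793)
theorem F60085 : act 7 n39081 = n27917 := d14_2 D18558 D39081 (iv6 D27917) F22121 (iv6 F13622)
def n39082 : Q := act 0 n18560
theorem D39082 : act 0 n18560 = n39082 := rfl
theorem F60086 : act 3 n39082 = n38492 := d20_5 (iv4 D13044) F14053 D8722 D18560 D39082 (iv4 D38492) (iv1 D18343) D18345 (iv3 F31191) F31194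
def n39083 : Q := act 1 n18560
theorem D39083 : act 1 n18560 = n39083 := rfl
def n39084 : Q := act 5 n18560
theorem D39084 : act 5 n18560 = n39084 := rfl
theorem F60087 : act 3 n39084 = n18561 := d6_1 D39084 (iv5 D18561) D18560
theorem F60088 : act 7 n39084 = n22392 := d13_2 F44575 D39084 (iv5 F44574)
def n39085 : Q := act 6 n18560
theorem D39085 : act 6 n18560 = n39085 := rfl
theorem F60089 : act 3 n39085 = n18562 := d7_1 D39085 (iv6 D18562) D18560
def n39086 : Q := act 6 n18561
theorem D39086 : act 6 n18561 = n39086 := rfl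
theorem F60090 : act 2 n39086 = n18571 := d3_1 D39086 (iv6 D18571) (iv2 F29795)
theorem F60091 : act 4 n39086 = n27660 := d10_1 D39086 (iv6 D27660) (iv4 F29797)
def n39087 : Q := act 0 n18562
theorem D39087 : act 0 n18562 = n39087 := rfl
theorem F60092 : act 4 n39087 = n27051 := d20_2 (iv4 F29801) D39087 (iv3 D27051) (iv1 F43676) F43672 (iv4 F56804) (iv1 F56806) D36172 (iv3 F56898) (iv1 D18564)
theorem F60093 : act 0 n39087 = n18575 := d20_7 (iv4 F42641) (iv1 D12722) F9351 (iv3 F9576) D12961 D27051 (iv4 F60092) F29819 F13635 (iv1 F9787)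
def n39088 : Q := act 1 n18562
theorem D39088 : act 1 n18562 = n39088 := rfl
theorem F60094 : act 1 n39088 = n18575 := d15_1 D39088 (iv7 D18575) (iv2 F29800)
def n39089 : Q := act 5 n18562
theorem D39089 : act 5 n18562 = n39089 := rfl
theorem F60095 : act 2 n39089 = n18574 := d2_1 D39089 (iv5 D18574) (iv2 F29800)
def n39090 : Q := act 7 n18562
theorem D39090 : act 7 n18562 = n39090 := rfl
theorem F60096 : act 2 n39090 = n18575 := d4_1 D39090 (iv7 D18575) (iv2 F29800)
theorem F60097 : act 4 n39090 = n18566 := d11_1 D39090 (iv7 D18566) (iv4 F29801)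
theorem F60098 : act 1 n18573 = n39090 := d15_1 D18573 (iv7 D39090) F29800
theorem F60099 : act 1 n39090 = n18572 := d15_0 (iv0 D18572) D18575 (iv2 F60096)
def n39091 : Q := act 2 n18563
theorem D39091 : act 2 n18563 = n39091 := rfl
theorem F60100 : act 7 n18564 = n39091 := d15_2 (iv0 D18563) D18564 (iv2 D39091)
def n39092 : Q := act 3 n18563
theorem D39092 : act 3 n18563 = n39092 := rfl
def n39093 : Q := act 4 n18563
theorem D39093 : act 4 n18563 = n39093 := rfl
def n39094 : Q := act 5 n18563
theorem D39094 : act 5 n18563 = n39094 := rfl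
def n39095 : Q := act 7 n18563
theorem D39095 : act 7 n18563 = n39095 := rfl
theorem F60101 : act 2 n39095 = n18564 := d4_1 D39095 F60100 (iv2 D39091)
def n39096 : Q := act 4 n18564
theorem D39096 : act 4 n18564 = n39096 := rfl
def n39097 : Q := act 5 n18564
theorem D39097 : act 5 n18564 = n39097 := rfl
theorem F60102 : act 6 n27675 = n39097 := d21_5 (iv5 F30110) (iv1 D8858) D8859 (iv6 F22010) D27675 (iv5 D39097) (iv1 D18564) D18565 F29804 (iv1 F30108)
def n39098 : Q := act 6 n18564
theorem D39098 : act 6 n18564 = n39098 := rfl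
def n39099 : Q := act 0 n18565
theorem D39099 : act 0 n18565 = n39099 := rfl
def n39100 : Q := act 1 n18565
theorem D39100 : act 1 n18565 = n39100 := rfl
theorem F60103 : act 1 n39100 = n18589 := d15_1 D39100 (iv7 D18589) (iv2 F29803)
theorem F60104 : act 5 n27267 = n39100 := d21_6 (iv5 D6210) (iv1 D2609) D2611 D6216 D13060 D27267 (iv1 D39100) (iv5 D18565) (iv6 D8723) (iv1 F14056)
def n39101 : Q := act 4 n18565
theorem D39101 : act 4 n18565 = n39101 := rfl
theorem F60105 : act 2 n39101 = n18588 := d1_1 D39101 (iv4 D18588) (iv2 F29803)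
theorem F60106 : act 6 n39101 = n34436 := d10_2 (iv6 F29804) D39101 (iv4 D34436)
def n39102 : Q := act 7 n18565
theorem D39102 : act 7 n18565 = n39102 := rfl
theorem F60107 : act 2 n39102 = n18589 := d4_1 D39102 (iv7 D18589) (iv2 F29803)
theorem F60108 : act 5 n39102 = n18566 := d13_1 D39102 (iv7 D18566) D18565
theorem F60109 : act 1 n18589 = n39099 := d15_0 (iv0 D39099) D39102 F60107
theorem F60110 : act 1 n18587 = n39102 := d15_1 D18587 (iv7 D39102) F29803
theorem F60111 : act 1 n39102 = n18586 := d15_0 (iv0 D18586) D18589 (iv2 F60107)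
def n39103 : Q := act 0 n18567
theorem D39103 : act 0 n18567 = n39103 := rfl
theorem F60112 : act 5 n39103 = n20004 := d17_3 (iv1 F31346) (iv5 F29810) D39103 (iv4 D20004) D20005 (iv0 F52298) F52297 F33093 F33088
theorem F60113 : act 3 n39103 = n23316 := d20_5 (iv4 D18946) F14295 F14296 D18567 D39103 (iv4 F56887) (iv1 D36151) F28470 (iv3 F21741) (iv1 F30258)
theorem F60114 : act 1 n19584 = n39103 := d15_0 (iv0 D39103) (iv7 F44591) F44589
theorem F60115 : act 7 n22132 = n39103 := d8_0 F60113 F36427 (iv3 F44594)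
theorem F60116 : act 2 n39103 = n22131 := d15_3 (iv0 D22131) D22132 F60115
def n39104 : Q := act 1 n18567
theorem D39104 : act 1 n18567 = n39104 := rfl
theorem F60117 : act 1 n39104 = n19584 := d15_1 D39104 F31360 (iv2 F29809)
theorem F60118 : act 7 n39104 = n22131 := d15_2 (iv0 D39103) D39104 (iv2 F60116)
theorem F60119 : act 2 n22132 = n39104 := d4_3 F60118 (iv2 F60116) (iv7 F60115)
theorem F60120 : act 5 n22235 = n39104 := d13_3 F60118 F34602 (iv7 F34691)
def n39105 : Q := act 6 n18567
theorem D39105 : act 6 n18567 = n39105 := rfl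
theorem F60121 : act 2 n39105 = n22134 := d3_1 D39105 (iv6 D22134) (iv2 F29809)
theorem F60122 : act 3 n39105 = n18568 := d7_1 D39105 (iv6 D18568) D18567
def n39106 : Q := act 0 n18568
theorem D39106 : act 0 n18568 = n39106 := rfl
def n39107 : Q := act 1 n18568
theorem D39107 : act 1 n18568 = n39107 := rfl
def n39108 : Q := act 5 n18568
theorem D39108 : act 5 n18568 = n39108 := rfl
def n39109 : Q := act 7 n18568
theorem D39109 : act 7 n18568 = n39109 := rfl
theorem F60123 : act 4 n39109 = n37454 := d11_1 D39109 (iv7 D37454) (iv4 F29811)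
def n39110 : Q := act 0 n18569
theorem D39110 : act 0 n18569 = n39110 := rfl
def n39111 : Q := act 1 n18569
theorem D39111 : act 1 n18569 = n39111 := rfl
def n39112 : Q := act 5 n18569
theorem D39112 : act 5 n18569 = n39112 := rfl
theorem F60124 : act 3 n39112 = n22006 := d6_1 D39112 (iv5 D22006) (iv3 F29812)
theorem F60125 : act 6 n39112 = n21998 := d12_2 D18569 D39112 (iv5 D21998) (iv6 D10490) F13630
def n39113 : Q := act 7 n18569
theorem D39113 : act 7 n18569 = n39113 := rfl
theorem F60126 : act 3 n39113 = n22007 := d8_1 D39113 (iv7 D22007) (iv3 F29812)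
theorem F60127 : act 4 n39113 = n35401 := d11_1 D39113 (iv7 D35401) (iv4 F29813)
def n39114 : Q := act 6 n18570
theorem D39114 : act 6 n18570 = n39114 := rfl
theorem F60128 : act 2 n39114 = n22261 := d3_1 D39114 (iv6 D22261) F29815
theorem F60129 : act 3 n39114 = n22509 := d7_1 D39114 (iv6 D22509) (iv3 F29818)
def n39115 : Q := act 0 n18571
theorem D39115 : act 0 n18571 = n39115 := rfl
def n39116 : Q := act 1 n18571
theorem D39116 : act 1 n18571 = n39116 := rfl
def n39117 : Q := act 5 n18571
theorem D39117 : act 5 n18571 = n39117 := rfl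
theorem F60130 : act 6 n39117 = n18574 := d12_2 D18571 D39117 (iv5 D18574) (iv6 D8727) D8726
def n39118 : Q := act 7 n18571
theorem D39118 : act 7 n18571 = n39118 := rfl
def n39119 : Q := act 2 n18572
theorem D39119 : act 2 n18572 = n39119 := rfl
theorem F60131 : act 7 n18573 = n39119 := d15_2 (iv0 D18572) D18573 (iv2 D39119)
def n39120 : Q := act 3 n18572
theorem D39120 : act 3 n18572 = n39120 := rfl
def n39121 : Q := act 4 n18572
theorem D39121 : act 4 n18572 = n39121 := rfl
def n39122 : Q := act 5 n18572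
theorem D39122 : act 5 n18572 = n39122 := rfl
def n39123 : Q := act 6 n18572
theorem D39123 : act 6 n18572 = n39123 := rfl
def n39124 : Q := act 7 n18572
theorem D39124 : act 7 n18572 = n39124 := rfl
theorem F60132 : act 2 n39124 = n18573 := d4_1 D39124 F60131 (iv2 D39119)
def n39125 : Q := act 3 n18573
theorem D39125 : act 3 n18573 = n39125 := rfl
def n39126 : Q := act 4 n18573
theorem D39126 : act 4 n18573 = n39126 := rfl
theorem F60133 : act 3 n39126 = n27026 := d20_3 (iv4 F60097) (iv1 F60098) D39126 (iv1 D27026) F21525 (iv4 F28443) D36065 (iv4 F56807) (iv3 D18577) (iv1 F29808)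
def n39127 : Q := act 5 n18573
theorem D39127 : act 5 n18573 = n39127 := rfl
def n39128 : Q := act 6 n18573
theorem D39128 : act 6 n18573 = n39128 := rfl
def n39129 : Q := act 0 n18574
theorem D39129 : act 0 n18574 = n39129 := rfl
def n39130 : Q := act 1 n18574
theorem D39130 : act 1 n18574 = n39130 := rfl
def n39131 : Q := act 4 n18574
theorem D39131 : act 4 n18574 = n39131 := rfl
def n39132 : Q := act 7 n18574
theorem D39132 : act 7 n18574 = n39132 := rfl
theorem F60134 : act 5 n39132 = n18575 := d13_1 D39132 (iv7 D18575) D18574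
def n39134 : Q := act 1 n18576
theorem D39134 : act 1 n18576 = n39134 := rfl
theorem F60136 : act 1 n39134 = n18581 := d15_1 D39134 (iv7 D18581) D18576
def n39135 : Q := act 3 n18576
theorem D39135 : act 3 n18576 = n39135 := rfl
theorem F60137 : act 7 n39135 = n18582 := d8_2 F29820 D39135 (iv3 D18582)
def n39136 : Q := act 4 n18576
theorem D39136 : act 4 n18576 = n39136 := rfl
theorem F60138 : act 2 n39136 = n18578 := d1_1 D39136 (iv4 D18578) D18576
theorem F60139 : act 7 n39136 = n18583 := d11_2 F29820 D39136 (iv4 D18583)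
def n39137 : Q := act 5 n18576
theorem D39137 : act 5 n18576 = n39137 := rfl
theorem F60140 : act 2 n39137 = n18579 := d2_1 D39137 (iv5 D18579) D18576
theorem F60141 : act 7 n39137 = n18584 := d13_2 F29820 D39137 (iv5 D18584)
def n39138 : Q := act 6 n18576
theorem D39138 : act 6 n18576 = n39138 := rfl
theorem F60142 : act 2 n39138 = n18580 := d3_1 D39138 (iv6 D18580) D18576
def n39139 : Q := act 0 n18577
theorem D39139 : act 0 n18577 = n39139 := rfl
def n39140 : Q := act 1 n18577
theorem D39140 : act 1 n18577 = n39140 := rfl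
def n39141 : Q := act 2 n18577
theorem D39141 : act 2 n18577 = n39141 := rfl
def n39142 : Q := act 5 n18577
theorem D39142 : act 5 n18577 = n39142 := rfl
theorem F60143 : act 3 n39142 = n18579 := d6_1 D39142 (iv5 D18579) D18577
def n39143 : Q := act 6 n18577
theorem D39143 : act 6 n18577 = n39143 := rfl
theorem F60144 : act 3 n39143 = n18580 := d7_1 D39143 (iv6 D18580) D18577
def n39144 : Q := act 7 n18577
theorem D39144 : act 7 n18577 = n39144 := rfl
theorem F60145 : act 3 n39144 = n18581 := d8_1 D39144 (iv7 D18581) D18577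
def n39145 : Q := act 0 n18578
theorem D39145 : act 0 n18578 = n39145 := rfl
def n39146 : Q := act 1 n18578
theorem D39146 : act 1 n18578 = n39146 := rfl
theorem F60146 : act 1 n39146 = n18583 := d15_1 D39146 (iv7 F60139) F60138
def n39147 : Q := act 3 n18578
theorem D39147 : act 3 n18578 = n39147 := rfl
def n39148 : Q := act 5 n18578
theorem D39148 : act 5 n18578 = n39148 := rfl
def n39149 : Q := act 6 n18578
theorem D39149 : act 6 n18578 = n39149 := rfl
theorem F60147 : act 4 n39149 = n18580 := d10_1 D39149 (iv6 D18580) D18578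
def n39150 : Q := act 7 n18578
theorem D39150 : act 7 n18578 = n39150 := rfl
theorem F60148 : act 2 n39150 = n18583 := d4_1 D39150 (iv7 F60139) F60138
theorem F60149 : act 4 n39150 = n18581 := d11_1 D39150 (iv7 D18581) D18578
theorem F60150 : act 1 n18583 = n39145 := d15_0 (iv0 D39145) D39150 F60148
def n39151 : Q := act 0 n18579
theorem D39151 : act 0 n18579 = n39151 := rfl
def n39152 : Q := act 1 n18579
theorem D39152 : act 1 n18579 = n39152 := rfl
theorem F60151 : act 1 n39152 = n18584 := d15_1 D39152 (iv7 F60141) F60140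
def n39153 : Q := act 4 n18579
theorem D39153 : act 4 n18579 = n39153 := rfl
def n39154 : Q := act 6 n18579
theorem D39154 : act 6 n18579 = n39154 := rfl
def n39155 : Q := act 7 n18579
theorem D39155 : act 7 n18579 = n39155 := rfl
theorem F60152 : act 2 n39155 = n18584 := d4_1 D39155 (iv7 F60141) F60140
theorem F60153 : act 5 n39155 = n18581 := d13_1 D39155 (iv7 D18581) D18579
theorem F60154 : act 1 n18584 = n39151 := d15_0 (iv0 D39151) D39155 F60152
def n39156 : Q := act 0 n18580
theorem D39156 : act 0 n18580 = n39156 := rfl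
def n39157 : Q := act 1 n18580
theorem D39157 : act 1 n18580 = n39157 := rfl
def n39158 : Q := act 7 n18580
theorem D39158 : act 7 n18580 = n39158 := rfl
def n39159 : Q := act 6 n18581
theorem D39159 : act 6 n18581 = n39159 := rfl
theorem F60155 : act 2 n39159 = n18585 := d3_1 D39159 (iv6 D18585) (iv2 F29821)
def n39160 : Q := act 0 n18582
theorem D39160 : act 0 n18582 = n39160 := rfl
def n39161 : Q := act 1 n18582
theorem D39161 : act 1 n18582 = n39161 := rfl
def n39162 : Q := act 2 n18582
theorem D39162 : act 2 n18582 = n39162 := rfl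
def n39163 : Q := act 4 n18582
theorem D39163 : act 4 n18582 = n39163 := rfl
def n39164 : Q := act 5 n18582
theorem D39164 : act 5 n18582 = n39164 := rfl
theorem F60156 : act 3 n39164 = n18584 := d6_1 D39164 (iv5 D18584) D18582
def n39165 : Q := act 6 n18582
theorem D39165 : act 6 n18582 = n39165 := rfl
theorem F60157 : act 3 n39165 = n18585 := d7_1 D39165 (iv6 D18585) D18582
def n39166 : Q := act 3 n18583
theorem D39166 : act 3 n18583 = n39166 := rfl
def n39167 : Q := act 5 n18583
theorem D39167 : act 5 n18583 = n39167 := rfl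
def n39168 : Q := act 6 n18583
theorem D39168 : act 6 n18583 = n39168 := rfl
theorem F60158 : act 4 n39168 = n18585 := d10_1 D39168 (iv6 D18585) D18583
def n39169 : Q := act 4 n18584
theorem D39169 : act 4 n18584 = n39169 := rfl
def n39170 : Q := act 6 n18584
theorem D39170 : act 6 n18584 = n39170 := rfl
theorem F60159 : act 0 n27655 = n39170 := d21_4 F28188 F28185 D18900 (iv6 F44582) (iv6 D39170) (iv5 D18584) (iv1 D8729) D8730 F13634 D16705
def n39171 : Q := act 0 n18585
theorem D39171 : act 0 n18585 = n39171 := rfl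
def n39172 : Q := act 1 n18585
theorem D39172 : act 1 n18585 = n39172 := rfl
def n39173 : Q := act 5 n18585
theorem D39173 : act 5 n18585 = n39173 := rfl
def n39174 : Q := act 7 n18585
theorem D39174 : act 7 n18585 = n39174 := rfl
def n39175 : Q := act 2 n18586
theorem D39175 : act 2 n18586 = n39175 := rfl
theorem F60160 : act 7 n18587 = n39175 := d15_2 (iv0 D18586) D18587 (iv2 D39175)
def n39176 : Q := act 3 n18586
theorem D39176 : act 3 n18586 = n39176 := rfl
def n39177 : Q := act 4 n18586
theorem D39177 : act 4 n18586 = n39177 := rfl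
def n39178 : Q := act 5 n18586
theorem D39178 : act 5 n18586 = n39178 := rfl
def n39179 : Q := act 6 n18586
theorem D39179 : act 6 n18586 = n39179 := rfl
def n39180 : Q := act 7 n18586
theorem D39180 : act 7 n18586 = n39180 := rfl
theorem F60161 : act 2 n39180 = n18587 := d4_1 D39180 F60160 (iv2 D39175)
def n39181 : Q := act 3 n18587
theorem D39181 : act 3 n18587 = n39181 := rfl
def n39182 : Q := act 4 n18587
theorem D39182 : act 4 n18587 = n39182 := rfl
def n39183 : Q := act 5 n18587
theorem D39183 : act 5 n18587 = n39183 := rfl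
theorem F60162 : act 6 n39183 = n27242 := d21_3 (iv5 F60108) (iv1 F60110) D39183 (iv1 F44076) F21788 (iv5 F29210) (iv1 F58410) (iv5 F58411) (iv6 D18580) (iv1 F29808)
def n39184 : Q := act 6 n18587
theorem D39184 : act 6 n18587 = n39184 := rfl
def n39185 : Q := act 0 n18588
theorem D39185 : act 0 n18588 = n39185 := rfl
def n39186 : Q := act 1 n18588
theorem D39186 : act 1 n18588 = n39186 := rfl
def n39187 : Q := act 3 n18588
theorem D39187 : act 3 n18588 = n39187 := rfl
theorem F60163 : act 4 n39187 = n18627 := d5_2 D18588 D39187 (iv3 D18627) (iv4 D8744) (iv3 F13633)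
theorem F60164 : act 6 n39187 = n34446 := d7_2 (iv6 F29822) D39187 (iv3 D34446)
def n39188 : Q := act 5 n18588
theorem D39188 : act 5 n18588 = n39188 := rfl
def n39189 : Q := act 7 n18588
theorem D39189 : act 7 n18588 = n39189 := rfl
theorem F60165 : act 4 n39189 = n18589 := d11_1 D39189 (iv7 D18589) D18588
def n39190 : Q := act 6 n18589
theorem D39190 : act 6 n18589 = n39190 := rfl
theorem F60166 : act 3 n39190 = n18630 := d7_1 D39190 (iv6 D18630) (iv3 F29823)
theorem F60167 : act 7 n39190 = n18869 := d14_2 D18589 D39190 (iv6 D18869) F13735 (iv6 F13634)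
def n39192 : Q := act 3 n18590
theorem D39192 : act 3 n18590 = n39192 := rfl
theorem F60169 : act 4 n39192 = n36356 := d20_6 (iv4 F5430) D7591 (iv4 F42181) D8733 D18590 D39192 (iv1 D36356) (iv4 D17555) (iv3 D8248) (iv1 D3711)
def n39193 : Q := act 4 n18590
theorem D39193 : act 4 n18590 = n39193 := rfl
theorem F60170 : act 0 n39193 = n36211 := d20_1 D39193 (iv4 D36211) (iv3 D17494) (iv1 D8227) F5710 (iv4 F5430) D7591 (iv4 F42181) D8733 D18590
def n39201 : Q := act 4 n18592
theorem D39201 : act 4 n18592 = n39201 := rfl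
theorem F60172 : act 2 n39201 = n18593 := d1_1 D39201 (iv4 D18593) D18592
def n39202 : Q := act 5 n18592
theorem D39202 : act 5 n18592 = n39202 := rfl
theorem F60173 : act 2 n39202 = n18594 := d2_1 D39202 (iv5 D18594) D18592
def n39203 : Q := act 6 n18592
theorem D39203 : act 6 n18592 = n39203 := rfl
def n39205 : Q := act 1 n18593
theorem D39205 : act 1 n18593 = n39205 := rfl
def n39206 : Q := act 5 n18593
theorem D39206 : act 5 n18593 = n39206 := rfl
def n39207 : Q := act 6 n18593
theorem D39207 : act 6 n18593 = n39207 := rfl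
def n39210 : Q := act 4 n18594
theorem D39210 : act 4 n18594 = n39210 := rfl
def n39211 : Q := act 6 n18594
theorem D39211 : act 6 n18594 = n39211 := rfl
def n39214 : Q := act 3 n18601
theorem D39214 : act 3 n18601 = n39214 := rfl
theorem F60178 : act 5 n39214 = n35155 := d6_2 (iv5 F29830) D39214 F55875
def n39215 : Q := act 4 n18601
theorem D39215 : act 4 n18601 = n39215 := rfl
theorem F60179 : act 2 n39215 = n36334 := d1_1 D39215 F57076 (iv2 F44745)
theorem F60180 : act 7 n39215 = n36335 := d11_2 F44748 D39215 F57079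
theorem F60181 : act 0 n39215 = n27096 := d18_2 D18601 D39215 (iv4 D27096) (iv5 D12979) F41776 F20783 F20780 F9794 D8735
theorem F60182 : act 1 n39215 = n27085 := d18_6 (iv1 D17720) (iv4 F28774) (iv1 F51602) F51488 (iv5 F29830) D39215 (iv4 D27085) D27084 F43754
def n39216 : Q := act 3 n18602
theorem D39216 : act 3 n18602 = n39216 := rfl
theorem F60183 : act 6 n39216 = n18856 := d7_2 (iv6 F43138) D39216 (iv3 D18856)
def n39217 : Q := act 4 n18602
theorem D39217 : act 4 n18602 = n39217 := rfl
theorem F60184 : act 2 n39217 = n36335 := d1_1 D39217 F57079 F44750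
theorem F60185 : act 6 n39217 = n18857 := d10_2 (iv6 F43138) D39217 (iv4 D18857)
theorem F60186 : act 7 n39217 = n36334 := d11_2 (iv7 F44746) D39217 F57076
theorem F60187 : act 0 n39217 = n27085 := d18_2 (iv1 F29833) D39217 (iv4 D27085) (iv5 D12974) (iv4 F41771) (iv0 D7272) F5331 D3908 D8740
theorem F60188 : act 1 n39217 = n27096 := d18_6 F43750 (iv4 F52076) (iv1 F57633) F57635 (iv5 F43137) D39217 (iv4 D27096) F43749 F43748
def n39218 : Q := act 3 n18603
theorem D39218 : act 3 n18603 = n39218 := rfl
def n39219 : Q := act 6 n18603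
theorem D39219 : act 6 n18603 = n39219 := rfl
theorem F60189 : act 4 n39219 = n18604 := d10_1 D39219 (iv6 D18604) D18603
theorem F60190 : act 7 n39219 = n35738 := d14_2 F44779 D39219 (iv6 D35738) (iv7 F43477) (iv6 F44778)
def n39220 : Q := act 3 n18606
theorem D39220 : act 3 n18606 = n39220 := rfl
theorem F60191 : act 5 n39220 = n37725 := d6_2 (iv5 F30020) D39220 (iv3 D37725)
theorem F60192 : act 7 n39220 = n18844 := d8_2 (iv7 F44648) D39220 F30095
def n39222 : Q := act 3 n18607
theorem D39222 : act 3 n18607 = n39222 := rfl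
theorem F60194 : act 4 n39222 = n36309 := d20_6 (iv4 F21122) (iv1 F21125) (iv4 F42185) D8738 D18607 D39222 (iv1 D36309) (iv4 D17533) (iv3 D8243) (iv1 F9588)
def n39227 : Q := act 3 n18608
theorem D39227 : act 3 n18608 = n39227 := rfl
theorem F60196 : act 4 n36192 = n39227 := d20_2 D17490 D36192 (iv3 D39227) (iv1 D18608) (iv3 D8738) F42185 (iv1 D7592) F5430 (iv3 F5710) D8226
def n39231 : Q := act 4 n18609
theorem D39231 : act 4 n18609 = n39231 := rfl
theorem F60197 : act 2 n39231 = n18610 := d1_1 D39231 (iv4 D18610) D18609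
def n39232 : Q := act 5 n18609
theorem D39232 : act 5 n18609 = n39232 := rfl
theorem F60198 : act 2 n39232 = n18611 := d2_1 D39232 (iv5 D18611) D18609
theorem F60199 : act 6 n39058 = n39232 := d3_0 F60198 (iv6 F29836) D39058
def n39233 : Q := act 6 n18609
theorem D39233 : act 6 n18609 = n39233 := rfl
theorem F60200 : act 2 n39233 = n18612 := d3_1 D39233 (iv6 D18612) D18609
def n39234 : Q := act 0 n18610
theorem D39234 : act 0 n18610 = n39234 := rfl
def n39235 : Q := act 1 n18610
theorem D39235 : act 1 n18610 = n39235 := rfl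
def n39236 : Q := act 5 n18610
theorem D39236 : act 5 n18610 = n39236 := rfl
def n39237 : Q := act 6 n18610
theorem D39237 : act 6 n18610 = n39237 := rfl
theorem F60201 : act 4 n39237 = n18612 := d10_1 D39237 (iv6 D18612) D18610
def n39238 : Q := act 0 n18611
theorem D39238 : act 0 n18611 = n39238 := rfl
def n39239 : Q := act 1 n18611
theorem D39239 : act 1 n18611 = n39239 := rfl
def n39240 : Q := act 4 n18611
theorem D39240 : act 4 n18611 = n39240 := rfl
theorem F60202 : act 6 n39240 = n39059 := d10_2 F29836 D39240 (iv4 D39059)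
def n39241 : Q := act 0 n18612
theorem D39241 : act 0 n18612 = n39241 := rfl
def n39242 : Q := act 1 n18612
theorem D39242 : act 1 n18612 = n39242 := rfl
def n39243 : Q := act 3 n18616
theorem D39243 : act 3 n18616 = n39243 := rfl
theorem F60203 : act 6 n39243 = n35734 := d7_2 F43480 D39243 (iv3 D35734)
def n39246 : Q := act 2 n18618
theorem D39246 : act 2 n18618 = n39246 := rfl
def n39247 : Q := act 4 n18618
theorem D39247 : act 4 n18618 = n39247 := rfl
def n39248 : Q := act 5 n18618
theorem D39248 : act 5 n18618 = n39248 := rfl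
theorem F60204 : act 3 n39248 = n18620 := d6_1 D39248 (iv5 D18620) D18618
theorem F60205 : act 7 n39248 = n27277 := d13_2 F44785 D39248 (iv5 F44784)
def n39249 : Q := act 6 n18618
theorem D39249 : act 6 n18618 = n39249 := rfl
theorem F60207 : act 3 n39249 = n18621 := d7_1 D39249 (iv6 D18621) D18618
def n39250 : Q := act 0 n18622
theorem D39250 : act 0 n18622 = n39250 := rfl
def n39251 : Q := act 1 n18622
theorem D39251 : act 1 n18622 = n39251 := rfl
def n39252 : Q := act 2 n18622
theorem D39252 : act 2 n18622 = n39252 := rfl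
theorem F60208 : act 5 n39252 = n37415 := d2_2 (iv5 F29895) D39252 F58320
def n39253 : Q := act 4 n18622
theorem D39253 : act 4 n18622 = n39253 := rfl
def n39254 : Q := act 6 n18622
theorem D39254 : act 6 n18622 = n39254 := rfl
theorem F60209 : act 3 n39254 = n18624 := d7_1 D39254 (iv6 D18624) D18622
theorem F60210 : act 5 n39254 = n37423 := d12_1 D39254 (iv6 D37423) (iv5 D17959) D17960 (iv5 F29895)
def n39255 : Q := act 3 n18625
theorem D39255 : act 3 n18625 = n39255 := rfl
theorem F60211 : act 7 n39255 = n36393 := d8_2 (iv7 F41787) D39255 (iv3 D36393)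
def n39256 : Q := act 5 n18625
theorem D39256 : act 5 n18625 = n39256 := rfl
theorem F60212 : act 2 n39256 = n36386 := d2_1 D39256 (iv5 D36386) F41785
theorem F60213 : act 7 n39256 = n36394 := d13_2 (iv7 F41787) D39256 (iv5 D36394)
def n39257 : Q := act 6 n18625
theorem D39257 : act 6 n18625 = n39257 := rfl
theorem F60214 : act 2 n39257 = n36387 := d3_1 D39257 (iv6 D36387) F41785
theorem F60215 : act 4 n39257 = n27099 := d10_1 D39257 (iv6 D27099) (iv4 F41786)
def n39258 : Q := act 3 n18626
theorem D39258 : act 3 n18626 = n39258 := rfl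
theorem F60216 : act 7 n39258 = n36385 := d8_2 F41784 D39258 (iv3 D36385)
def n39259 : Q := act 5 n18626
theorem D39259 : act 5 n18626 = n39259 := rfl
theorem F60217 : act 2 n39259 = n36394 := d2_1 D39259 (iv5 D36394) F41783
theorem F60218 : act 7 n39259 = n36386 := d13_2 F41784 D39259 (iv5 D36386)
def n39260 : Q := act 6 n18626
theorem D39260 : act 6 n18626 = n39260 := rfl
theorem F60219 : act 2 n39260 = n36395 := d3_1 D39260 (iv6 D36395) F41783
theorem F60220 : act 4 n39260 = n27101 := d10_1 D39260 (iv6 D27101) (iv4 F41782)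
theorem F60221 : act 7 n35717 = n39260 := d11_0 F60220 (iv7 F43797) D35717
theorem F60222 : act 0 n35156 = n39260 := d18_2 F29892 D35156 F60220 F43796 (iv4 F56398) F56401 F46233 (iv0 D18543) D18545
theorem F60223 : act 1 n35149 = n39260 := d18_6 (iv1 D8330) (iv4 F11566) D15322 F43128 D17064 D35149 F60220 (iv0 F43798) (iv5 D17694)
def n39261 : Q := act 0 n18627
theorem D39261 : act 0 n18627 = n39261 := rfl
def n39262 : Q := act 1 n18627
theorem D39262 : act 1 n18627 = n39262 := rfl
def n39263 : Q := act 2 n18627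
theorem D39263 : act 2 n18627 = n39263 := rfl
theorem F60224 : act 6 n39263 = n34450 := d3_2 (iv6 F29899) D39263 (iv2 D34450)
def n39264 : Q := act 5 n18627
theorem D39264 : act 5 n18627 = n39264 := rfl
theorem F60225 : act 3 n39264 = n18628 := d6_1 D39264 (iv5 D18628) D18627
def n39265 : Q := act 7 n18627
theorem D39265 : act 7 n18627 = n39265 := rfl
theorem F60226 : act 3 n39265 = n18629 := d8_1 D39265 (iv7 D18629) D18627
def n39266 : Q := act 0 n18628
theorem D39266 : act 0 n18628 = n39266 := rfl
theorem F60227 : act 5 n39266 = n27085 := d17_3 (iv1 D18626) D18628 D39266 (iv4 D27085) (iv5 D12974) (iv0 D6161) D6163 D12982 (iv4 F41782)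
theorem F60228 : act 2 n36337 = n39266 := d2_3 F60227 F43756 D36337
theorem F60229 : act 7 n36376 = n39266 := d13_0 F60227 F43757 D36376
def n39267 : Q := act 1 n18628
theorem D39267 : act 1 n18628 = n39267 := rfl
theorem F60230 : act 7 n39267 = n36337 := d15_2 (iv0 D39266) D39267 F60228
theorem F60231 : act 5 n39267 = n27096 := d17_7 (iv1 F29831) (iv5 D8740) (iv1 D3908) D3909 D8744 D18628 D39267 (iv0 F60181) (iv4 D39215)
theorem F60232 : act 2 n36376 = n39267 := d2_3 F60231 F43783 D36376
def n39268 : Q := act 4 n18628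
theorem D39268 : act 4 n18628 = n39268 := rfl
def n39269 : Q := act 6 n18628
theorem D39269 : act 6 n18628 = n39269 := rfl
theorem F60233 : act 5 n39269 = n27917 := d12_1 D39269 (iv6 D27917) F22120 (iv6 F13640) D18628
def n39270 : Q := act 7 n18628
theorem D39270 : act 7 n18628 = n39270 := rfl
theorem F60234 : act 5 n39270 = n18629 := d13_1 D39270 (iv7 D18629) D18628
theorem F60235 : act 1 n36376 = n39270 := d15_1 (iv0 F57126) (iv7 D39270) (iv2 F44792)
theorem F60236 : act 1 n39270 = n36337 := d15_1 F60235 (iv7 F60230) (iv2 F60232)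
def n39271 : Q := act 6 n18629
theorem D39271 : act 6 n18629 = n39271 := rfl
theorem F60237 : act 4 n39271 = n18630 := d10_1 D39271 (iv6 D18630) (iv4 F29900)
theorem F60238 : act 7 n39271 = n18871 := d14_2 D18629 D39271 (iv6 D18871) F13736 (iv6 F13640)
theorem F60239 : act 0 n35714 = n39271 := d21_4 (iv5 F60081) (iv1 F60082) (iv5 D35713) D35714 (iv6 D39271) (iv5 F60234) (iv1 F60235) (iv5 D36376) F28550 F41764
def n39272 : Q := act 4 n18632
theorem D39272 : act 4 n18632 = n39272 := rfl
theorem F60240 : act 0 n39272 = n18991 := d18_2 (iv1 F42534) D39272 (iv4 D18991) (iv5 F25996) D16962 (iv0 F28350) F28347 F26661 (iv5 F42531)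
theorem F60241 : act 1 n39272 = n18995 := d18_6 (iv1 F12436) D16879 F27645 F25577 F29902 D39272 (iv4 D18995) F18158 (iv5 D11193)
def n39273 : Q := act 6 n18632
theorem D39273 : act 6 n18632 = n39273 := rfl
theorem F60242 : act 3 n39273 = n32744 := d7_1 D39273 (iv6 D32744) (iv3 F29903)
def n39274 : Q := act 6 n18633
theorem D39274 : act 6 n18633 = n39274 := rfl
theorem F60243 : act 3 n39274 = n36827 := d7_1 D39274 (iv6 D36827) (iv3 F29905)
theorem F60244 : act 4 n39274 = n18634 := d10_1 D39274 (iv6 D18634) D18633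
theorem F60245 : act 0 n39274 = n32704 := d20_7 F20845 (iv1 F9778) F42346 D16369 (iv1 F53232) (iv3 F29908) (iv4 F60244) (iv4 D32704) (iv3 D15592) (iv1 F20849)
def n39275 : Q := act 0 n18634
theorem D39275 : act 0 n18634 = n39275 := rfl
def n39276 : Q := act 1 n18634
theorem D39276 : act 1 n18634 = n39276 := rfl
theorem F60246 : act 5 n33108 = n39276 := d21_6 (iv5 D7463) (iv1 D3412) D3415 D7475 D15965 D33108 (iv1 D39276) (iv5 F42674) (iv6 D26630) (iv1 F30293)
def n39277 : Q := act 7 n18634
theorem D39277 : act 7 n18634 = n39277 := rfl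
theorem F60247 : act 3 n39277 = n18641 := d8_1 D39277 (iv7 D18641) (iv3 F29908)
def n39278 : Q := act 3 n18635
theorem D39278 : act 3 n18635 = n39278 := rfl
theorem F60248 : act 2 n39278 = n22713 := d0_1 D39278 (iv3 F58859) F58858 (iv3 F46076) (iv2 F42543)
theorem F60249 : act 4 n39278 = n22712 := d5_2 (iv4 F29909) D39278 F35287 (iv4 D15375) D15374
def n39279 : Q := act 6 n18635
theorem D39279 : act 6 n18635 = n39279 := rfl
theorem F60250 : act 4 n39279 = n32477 := d10_1 D39279 (iv6 D32477) (iv4 F29909)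
def n39280 : Q := act 4 n18636
theorem D39280 : act 4 n18636 = n39280 := rfl
theorem F60251 : act 2 n39280 = n26309 := d1_1 D39280 (iv4 F42536) F42540
theorem F60252 : act 7 n39280 = n28513 := d11_2 F42542 D39280 F46074
theorem F60253 : act 5 n39280 = n25667 := d18_4 (iv1 F9340) D8753 (iv1 F29911) D39280 F40574 F40502 (iv4 D12643) (iv0 F26615) D6013
theorem F60254 : act 1 n39280 = n26577 := d18_8 (iv1 F41896) F41894 F40448 (iv4 D15254) F25983 D8748 D18636 D39280 F42569
theorem F60255 : act 3 n32471 = n39280 := d20_5 D33018 F52193 (iv4 D18995) D18994 (iv1 F51561) (iv4 D39280) (iv1 D18636) (iv4 D8748) D8747 (iv1 F41472)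
theorem F60256 : act 0 n39280 = n26582 := d20_4 D12719 D26610 (iv4 F51559) F60255 F42573 D28604 (iv1 F52663) (iv4 D33406) F25663 F26953
def n39281 : Q := act 6 n18636
theorem D39281 : act 6 n18636 = n39281 := rfl
def n39282 : Q := act 0 n18637
theorem D39282 : act 0 n18637 = n39282 := rfl
theorem F60257 : act 5 n39282 = n26517 := d17_3 (iv1 D18636) D18637 D39282 F42448 (iv5 D15354) (iv0 F26820) (iv5 F42572) (iv0 F60256) (iv4 D39280)
theorem F60258 : act 1 n18643 = n39282 := d15_0 (iv0 D39282) F29913 (iv2 F29916)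
theorem F60259 : act 7 n36573 = n39282 := d13_0 F60257 (iv7 F51867) (iv5 F57444)
theorem F60260 : act 2 n39282 = n36574 := d15_3 F57446 F57445 F60259
def n39283 : Q := act 1 n18637
theorem D39283 : act 1 n18637 = n39283 := rfl
theorem F60261 : act 1 n39283 = n18643 := d15_1 D39283 (iv7 F42557) F42556
theorem F60262 : act 7 n39283 = n36574 := d15_2 (iv0 D39282) D39283 (iv2 F60260)
theorem F60263 : act 5 n39283 = n26518 := d17_7 (iv1 F26961) F5581 D7226 F25983 D8748 D18637 D39283 F42450 (iv4 D12678)
theorem F60264 : act 2 n36573 = n39283 := d2_3 F60263 (iv2 F51866) (iv5 F57444)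
theorem F60265 : act 3 n38022 = n39283 := d6_3 F60263 F51523 D38022
theorem F60266 : act 3 n36574 = n38408 := d8_3 F59268 F60265 F60262
def n39284 : Q := act 6 n18637
theorem D39284 : act 6 n18637 = n39284 := rfl
theorem F60267 : act 3 n39284 = n27166 := d7_1 D39284 (iv6 D27166) (iv3 F29912)
theorem F60268 : act 4 n39284 = n37271 := d10_1 D39284 (iv6 D37271) F29914
def n39285 : Q := act 0 n18638
theorem D39285 : act 0 n18638 = n39285 := rfl
def n39286 : Q := act 1 n18638
theorem D39286 : act 1 n18638 = n39286 := rfl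
def n39287 : Q := act 5 n18638
theorem D39287 : act 5 n18638 = n39287 := rfl
def n39288 : Q := act 7 n18638
theorem D39288 : act 7 n18638 = n39288 := rfl
theorem F60269 : act 4 n39288 = n18641 := d11_1 D39288 (iv7 D18641) (iv4 F29915)
def n39289 : Q := act 4 n18639
theorem D39289 : act 4 n18639 = n39289 := rfl
def n39290 : Q := act 5 n18639
theorem D39290 : act 5 n18639 = n39290 := rfl
def n39291 : Q := act 6 n18639
theorem D39291 : act 6 n18639 = n39291 := rfl
theorem F60270 : act 2 n39291 = n37450 := d3_1 D39291 F58348 F53235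
def n39292 : Q := act 5 n18642
theorem D39292 : act 5 n18642 = n39292 := rfl
theorem F60271 : act 2 n39292 = n27164 := d2_1 D39292 (iv5 F56164) F56163
theorem F60272 : act 3 n39292 = n18643 := d6_1 D39292 (iv5 D18643) D18642
theorem F60273 : act 7 n39292 = n36564 := d13_2 F42554 D39292 (iv5 F57433)
theorem F60274 : act 1 n36563 = n39292 := d15_1 D36563 F60273 (iv2 D36564)
theorem F60275 : act 1 n39292 = n36562 := d15_0 (iv0 D36562) (iv7 F43927) (iv2 F60271)
theorem F60276 : act 2 n38297 = n36563 := d15_3 F60274 F60275 (iv7 F59163)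
def n39293 : Q := act 6 n18642
theorem D39293 : act 6 n18642 = n39293 := rfl
theorem F60277 : act 3 n39293 = n18644 := d7_1 D39293 (iv6 D18644) D18642
def n39294 : Q := act 4 n18643
theorem D39294 : act 4 n18643 = n39294 := rfl
theorem F60278 : act 2 n39294 = n21560 := d1_1 D39294 F33931 (iv2 F29916)
theorem F60279 : act 7 n39294 = n37269 := d11_2 F42557 D39294 F58220
theorem F60280 : act 0 n39294 = n34579 := d18_2 (iv1 F60258) D39294 (iv4 D34579) (iv5 D16765) F12381 F26961 D12678 F42449 (iv5 F60257)
theorem F60281 : act 1 n39294 = n37268 := d18_6 (iv1 F21093) (iv4 D12694) (iv1 F9340) D8753 D18643 D39294 (iv4 F59379) (iv0 D38550) (iv5 D18363)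
theorem F60282 : act 3 n37298 = n39294 := d0_0 F60278 (iv3 D21560) F16377 D17919 D37298
def n39295 : Q := act 6 n18643
theorem D39295 : act 6 n18643 = n39295 := rfl
theorem F60283 : act 2 n39295 = n36575 := d3_1 D39295 (iv6 D36575) (iv2 F29916)
def n39296 : Q := act 0 n18644
theorem D39296 : act 0 n18644 = n39296 := rfl
def n39297 : Q := act 1 n18644
theorem D39297 : act 1 n18644 = n39297 := rfl
def n39298 : Q := act 5 n18644
theorem D39298 : act 5 n18644 = n39298 := rfl
def n39299 : Q := act 7 n18644
theorem D39299 : act 7 n18644 = n39299 := rfl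
theorem F60284 : act 4 n39299 = n18648 := d11_1 D39299 (iv7 D18648) (iv4 F29917)
def n39300 : Q := act 2 n18645
theorem D39300 : act 2 n18645 = n39300 := rfl
theorem F60285 : act 7 n18646 = n39300 := d15_2 (iv0 D18645) D18646 (iv2 D39300)
def n39301 : Q := act 3 n18645
theorem D39301 : act 3 n18645 = n39301 := rfl
def n39302 : Q := act 4 n18645
theorem D39302 : act 4 n18645 = n39302 := rfl
def n39303 : Q := act 5 n18645
theorem D39303 : act 5 n18645 = n39303 := rfl
def n39304 : Q := act 6 n18645
theorem D39304 : act 6 n18645 = n39304 := rfl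
def n39305 : Q := act 7 n18645
theorem D39305 : act 7 n18645 = n39305 := rfl
theorem F60286 : act 2 n39305 = n18646 := d4_1 D39305 F60285 (iv2 D39300)
def n39306 : Q := act 3 n18646
theorem D39306 : act 3 n18646 = n39306 := rfl
def n39307 : Q := act 4 n18646
theorem D39307 : act 4 n18646 = n39307 := rfl
def n39308 : Q := act 5 n18646
theorem D39308 : act 5 n18646 = n39308 := rfl
def n39309 : Q := act 6 n18646
theorem D39309 : act 6 n18646 = n39309 := rfl
def n39310 : Q := act 0 n18647
theorem D39310 : act 0 n18647 = n39310 := rfl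
def n39311 : Q := act 1 n18647
theorem D39311 : act 1 n18647 = n39311 := rfl
def n39312 : Q := act 4 n18647
theorem D39312 : act 4 n18647 = n39312 := rfl
def n39313 : Q := act 7 n18647
theorem D39313 : act 7 n18647 = n39313 := rfl
theorem F60287 : act 5 n39313 = n18648 := d13_1 D39313 (iv7 D18648) D18647
def n39314 : Q := act 2 n18649
theorem D39314 : act 2 n18649 = n39314 := rfl
def n39315 : Q := act 3 n18649
theorem D39315 : act 3 n18649 = n39315 := rfl
def n39316 : Q := act 4 n18649
theorem D39316 : act 4 n18649 = n39316 := rfl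
def n39317 : Q := act 5 n18649
theorem D39317 : act 5 n18649 = n39317 := rfl
def n39318 : Q := act 6 n18649
theorem D39318 : act 6 n18649 = n39318 := rfl
theorem F60289 : act 5 n39318 = n34685 := d21_6 (iv5 D6004) D6000 F9330 D8756 D18649 D39318 (iv1 D34685) (iv5 D16794) (iv6 D7841) (iv1 F26966)
def n39319 : Q := act 7 n18649
theorem D39319 : act 7 n18649 = n39319 := rfl
def n39320 : Q := act 3 n18650
theorem D39320 : act 3 n18650 = n39320 := rfl
def n39321 : Q := act 4 n18650
theorem D39321 : act 4 n18650 = n39321 := rfl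
def n39322 : Q := act 5 n18650
theorem D39322 : act 5 n18650 = n39322 := rfl
def n39323 : Q := act 6 n18650
theorem D39323 : act 6 n18650 = n39323 := rfl
def n39324 : Q := act 0 n18651
theorem D39324 : act 0 n18651 = n39324 := rfl
def n39325 : Q := act 1 n18651
theorem D39325 : act 1 n18651 = n39325 := rfl
theorem F60291 : act 1 n39325 = n18666 := d15_1 D39325 (iv7 D18666) (iv2 F29919)
def n39326 : Q := act 4 n18651
theorem D39326 : act 4 n18651 = n39326 := rfl
theorem F60292 : act 2 n39326 = n18665 := d1_1 D39326 (iv4 D18665) (iv2 F29919)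
def n39327 : Q := act 7 n18651
theorem D39327 : act 7 n18651 = n39327 := rfl
theorem F60293 : act 2 n39327 = n18666 := d4_1 D39327 (iv7 D18666) (iv2 F29919)
theorem F60294 : act 5 n39327 = n18652 := d13_1 D39327 (iv7 D18652) D18651
theorem F60295 : act 1 n18666 = n39324 := d15_0 (iv0 D39324) D39327 F60293
theorem F60296 : act 1 n18664 = n39327 := d15_1 D18664 (iv7 D39327) F29919
theorem F60297 : act 1 n39327 = n18663 := d15_0 (iv0 D18663) D18666 (iv2 F60293)
def n39328 : Q := act 0 n18653
theorem D39328 : act 0 n18653 = n39328 := rfl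
theorem F60298 : act 1 n18658 = n39328 := d15_0 (iv0 D39328) (iv7 F29924) (iv2 F29925)
def n39330 : Q := act 3 n18653
theorem D39330 : act 3 n18653 = n39330 := rfl
theorem F60300 : act 7 n39330 = n18659 := d8_2 F29924 D39330 (iv3 D18659)
def n39331 : Q := act 4 n18653
theorem D39331 : act 4 n18653 = n39331 := rfl
theorem F60301 : act 2 n39331 = n18655 := d1_1 D39331 (iv4 D18655) D18653
theorem F60302 : act 7 n39331 = n18660 := d11_2 F29924 D39331 (iv4 D18660)
def n39332 : Q := act 5 n18653
theorem D39332 : act 5 n18653 = n39332 := rfl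
theorem F60303 : act 2 n39332 = n18656 := d2_1 D39332 (iv5 D18656) D18653
theorem F60304 : act 7 n39332 = n18661 := d13_2 F29924 D39332 (iv5 D18661)
def n39333 : Q := act 6 n18653
theorem D39333 : act 6 n18653 = n39333 := rfl
theorem F60305 : act 2 n39333 = n18657 := d3_1 D39333 (iv6 D18657) D18653
def n39334 : Q := act 0 n18654
theorem D39334 : act 0 n18654 = n39334 := rfl
def n39335 : Q := act 1 n18654
theorem D39335 : act 1 n18654 = n39335 := rfl
def n39336 : Q := act 2 n18654
theorem D39336 : act 2 n18654 = n39336 := rfl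
def n39337 : Q := act 4 n18654
theorem D39337 : act 4 n18654 = n39337 := rfl
def n39338 : Q := act 5 n18654
theorem D39338 : act 5 n18654 = n39338 := rfl
theorem F60306 : act 3 n39338 = n18656 := d6_1 D39338 (iv5 D18656) D18654
def n39339 : Q := act 6 n18654
theorem D39339 : act 6 n18654 = n39339 := rfl
theorem F60307 : act 3 n39339 = n18657 := d7_1 D39339 (iv6 D18657) D18654
def n39340 : Q := act 7 n18654
theorem D39340 : act 7 n18654 = n39340 := rfl
theorem F60308 : act 3 n39340 = n18658 := d8_1 D39340 (iv7 D18658) D18654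
def n39341 : Q := act 0 n18655
theorem D39341 : act 0 n18655 = n39341 := rfl
def n39342 : Q := act 1 n18655
theorem D39342 : act 1 n18655 = n39342 := rfl
theorem F60309 : act 1 n39342 = n18660 := d15_1 D39342 (iv7 F60302) F60301
def n39343 : Q := act 3 n18655
theorem D39343 : act 3 n18655 = n39343 := rfl
def n39344 : Q := act 5 n18655
theorem D39344 : act 5 n18655 = n39344 := rfl
def n39345 : Q := act 6 n18655
theorem D39345 : act 6 n18655 = n39345 := rfl
theorem F60310 : act 4 n39345 = n18657 := d10_1 D39345 (iv6 D18657) D18655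
def n39346 : Q := act 7 n18655
theorem D39346 : act 7 n18655 = n39346 := rfl
theorem F60311 : act 2 n39346 = n18660 := d4_1 D39346 (iv7 F60302) F60301
theorem F60312 : act 4 n39346 = n18658 := d11_1 D39346 (iv7 D18658) D18655
theorem F60313 : act 1 n18660 = n39341 := d15_0 (iv0 D39341) D39346 F60311
def n39347 : Q := act 0 n18656
theorem D39347 : act 0 n18656 = n39347 := rfl
def n39348 : Q := act 1 n18656
theorem D39348 : act 1 n18656 = n39348 := rfl
theorem F60314 : act 1 n39348 = n18661 := d15_1 D39348 (iv7 F60304) F60303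
def n39349 : Q := act 4 n18656
theorem D39349 : act 4 n18656 = n39349 := rfl
def n39350 : Q := act 6 n18656
theorem D39350 : act 6 n18656 = n39350 := rfl
def n39351 : Q := act 7 n18656
theorem D39351 : act 7 n18656 = n39351 := rfl
theorem F60315 : act 2 n39351 = n18661 := d4_1 D39351 (iv7 F60304) F60303
theorem F60316 : act 5 n39351 = n18658 := d13_1 D39351 (iv7 D18658) D18656
theorem F60317 : act 1 n18661 = n39347 := d15_0 (iv0 D39347) D39351 F60315
def n39352 : Q := act 0 n18657
theorem D39352 : act 0 n18657 = n39352 := rfl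
def n39353 : Q := act 1 n18657
theorem D39353 : act 1 n18657 = n39353 := rfl
def n39354 : Q := act 5 n18657
theorem D39354 : act 5 n18657 = n39354 := rfl
theorem F60318 : act 0 n39354 = n32034 := d21_7 (iv5 D12644) (iv1 F26614) F4032 D3914 D8757 D18657 D39354 F50664 (iv6 D16791) (iv1 F27128)
theorem F60319 : act 1 n39354 = n34687 := d15_1 (iv0 F60318) (iv7 D34687) (iv2 F50663)
def n39355 : Q := act 7 n18657
theorem D39355 : act 7 n18657 = n39355 := rfl
def n39356 : Q := act 6 n18658
theorem D39356 : act 6 n18658 = n39356 := rfl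
theorem F60320 : act 2 n39356 = n18662 := d3_1 D39356 (iv6 D18662) (iv2 F29925)
def n39357 : Q := act 0 n18659
theorem D39357 : act 0 n18659 = n39357 := rfl
def n39358 : Q := act 1 n18659
theorem D39358 : act 1 n18659 = n39358 := rfl
def n39359 : Q := act 2 n18659
theorem D39359 : act 2 n18659 = n39359 := rfl
def n39360 : Q := act 4 n18659
theorem D39360 : act 4 n18659 = n39360 := rfl
def n39361 : Q := act 5 n18659
theorem D39361 : act 5 n18659 = n39361 := rfl
theorem F60321 : act 3 n39361 = n18661 := d6_1 D39361 (iv5 D18661) D18659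
def n39362 : Q := act 6 n18659
theorem D39362 : act 6 n18659 = n39362 := rfl
theorem F60322 : act 3 n39362 = n18662 := d7_1 D39362 (iv6 D18662) D18659
def n39363 : Q := act 3 n18660
theorem D39363 : act 3 n18660 = n39363 := rfl
def n39364 : Q := act 5 n18660
theorem D39364 : act 5 n18660 = n39364 := rfl
def n39365 : Q := act 6 n18660
theorem D39365 : act 6 n18660 = n39365 := rfl
theorem F60323 : act 4 n39365 = n18662 := d10_1 D39365 (iv6 D18662) D18660
def n39366 : Q := act 4 n18661
theorem D39366 : act 4 n18661 = n39366 := rfl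
def n39367 : Q := act 6 n18661
theorem D39367 : act 6 n18661 = n39367 := rfl
def n39368 : Q := act 0 n18662
theorem D39368 : act 0 n18662 = n39368 := rfl
def n39369 : Q := act 1 n18662
theorem D39369 : act 1 n18662 = n39369 := rfl
def n39370 : Q := act 5 n18662
theorem D39370 : act 5 n18662 = n39370 := rfl
def n39371 : Q := act 7 n18662
theorem D39371 : act 7 n18662 = n39371 := rfl
def n39372 : Q := act 2 n18663
theorem D39372 : act 2 n18663 = n39372 := rfl
theorem F60324 : act 7 n18664 = n39372 := d15_2 (iv0 D18663) D18664 (iv2 D39372)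
def n39373 : Q := act 3 n18663
theorem D39373 : act 3 n18663 = n39373 := rfl
def n39374 : Q := act 4 n18663
theorem D39374 : act 4 n18663 = n39374 := rfl
def n39375 : Q := act 5 n18663
theorem D39375 : act 5 n18663 = n39375 := rfl
def n39376 : Q := act 6 n18663
theorem D39376 : act 6 n18663 = n39376 := rfl
def n39377 : Q := act 7 n18663
theorem D39377 : act 7 n18663 = n39377 := rfl
theorem F60325 : act 2 n39377 = n18664 := d4_1 D39377 F60324 (iv2 D39372)
def n39378 : Q := act 3 n18664
theorem D39378 : act 3 n18664 = n39378 := rfl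
def n39379 : Q := act 4 n18664
theorem D39379 : act 4 n18664 = n39379 := rfl
def n39380 : Q := act 5 n18664
theorem D39380 : act 5 n18664 = n39380 := rfl
def n39381 : Q := act 6 n18664
theorem D39381 : act 6 n18664 = n39381 := rfl
def n39382 : Q := act 0 n18665
theorem D39382 : act 0 n18665 = n39382 := rfl
def n39383 : Q := act 1 n18665
theorem D39383 : act 1 n18665 = n39383 := rfl
def n39384 : Q := act 3 n18665
theorem D39384 : act 3 n18665 = n39384 := rfl
theorem F60326 : act 4 n39384 = n18712 := d5_2 D18665 D39384 (iv3 D18712) (iv4 D8773) (iv3 F13645)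
def n39385 : Q := act 5 n18665
theorem D39385 : act 5 n18665 = n39385 := rfl
def n39386 : Q := act 7 n18665
theorem D39386 : act 7 n18665 = n39386 := rfl
theorem F60327 : act 4 n39386 = n18666 := d11_1 D39386 (iv7 D18666) D18665
def n39387 : Q := act 6 n18666
theorem D39387 : act 6 n18666 = n39387 := rfl
theorem F60328 : act 3 n39387 = n18715 := d7_1 D39387 (iv6 D18715) (iv3 F29926)
def n39388 : Q := act 2 n18672
theorem D39388 : act 2 n18672 = n39388 := rfl
theorem F60329 : act 7 n18673 = n39388 := d15_2 (iv0 D18672) D18673 (iv2 D39388)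
def n39389 : Q := act 3 n18672
theorem D39389 : act 3 n18672 = n39389 := rfl
def n39390 : Q := act 4 n18672
theorem D39390 : act 4 n18672 = n39390 := rfl
def n39391 : Q := act 5 n18672
theorem D39391 : act 5 n18672 = n39391 := rfl
def n39392 : Q := act 6 n18672
theorem D39392 : act 6 n18672 = n39392 := rfl
def n39393 : Q := act 7 n18672
theorem D39393 : act 7 n18672 = n39393 := rfl
theorem F60330 : act 2 n39393 = n18673 := d4_1 D39393 F60329 (iv2 D39388)
def n39394 : Q := act 3 n18673
theorem D39394 : act 3 n18673 = n39394 := rfl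
def n39395 : Q := act 4 n18673
theorem D39395 : act 4 n18673 = n39395 := rfl
def n39398 : Q := act 4 n18674
theorem D39398 : act 4 n18674 = n39398 := rfl
theorem F60331 : act 2 n39398 = n18675 := d1_1 D39398 (iv4 D18675) D18674
def n39399 : Q := act 5 n18674
theorem D39399 : act 5 n18674 = n39399 := rfl
theorem F60332 : act 2 n39399 = n18676 := d2_1 D39399 (iv5 D18676) D18674
def n39400 : Q := act 6 n18674
theorem D39400 : act 6 n18674 = n39400 := rfl
theorem F60333 : act 2 n39400 = n18677 := d3_1 D39400 (iv6 D18677) D18674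
def n39401 : Q := act 0 n18675
theorem D39401 : act 0 n18675 = n39401 := rfl
def n39402 : Q := act 1 n18675
theorem D39402 : act 1 n18675 = n39402 := rfl
def n39403 : Q := act 5 n18675
theorem D39403 : act 5 n18675 = n39403 := rfl
def n39404 : Q := act 6 n18675
theorem D39404 : act 6 n18675 = n39404 := rfl
theorem F60334 : act 4 n39404 = n18677 := d10_1 D39404 (iv6 D18677) D18675
def n39405 : Q := act 0 n18676
theorem D39405 : act 0 n18676 = n39405 := rfl
def n39406 : Q := act 1 n18676
theorem D39406 : act 1 n18676 = n39406 := rfl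
def n39407 : Q := act 4 n18676
theorem D39407 : act 4 n18676 = n39407 := rfl
def n39408 : Q := act 6 n18676
theorem D39408 : act 6 n18676 = n39408 := rfl
theorem F60335 : act 3 n39408 = n18682 := d7_1 D39408 (iv6 D18682) (iv3 F29934)
def n39409 : Q := act 0 n18677
theorem D39409 : act 0 n18677 = n39409 := rfl
def n39410 : Q := act 1 n18677
theorem D39410 : act 1 n18677 = n39410 := rfl
def n39411 : Q := act 5 n18677
theorem D39411 : act 5 n18677 = n39411 := rfl
theorem F60336 : act 3 n39411 = n18686 := d6_1 D39411 (iv5 D18686) (iv3 F29935)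
theorem F60337 : act 7 n34703 = n39411 := d8_0 F60336 (iv7 F30427) D34703
def n39412 : Q := act 7 n18677
theorem D39412 : act 7 n18677 = n39412 := rfl
theorem F60338 : act 3 n39412 = n18687 := d8_1 D39412 (iv7 D18687) (iv3 F29935)
theorem F60339 : act 5 n39412 = n34703 := d13_1 D39412 F60337 (iv5 D39411)
def n39413 : Q := act 3 n18679
theorem D39413 : act 3 n18679 = n39413 := rfl
theorem F60340 : act 5 n39413 = n33160 := d6_2 F29946 D39413 F52382
def n39414 : Q := act 4 n18679
theorem D39414 : act 4 n18679 = n39414 := rfl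
theorem F60341 : act 0 n39414 = n18803 := d17_0 (iv5 F54950) (iv1 F54952) (iv5 D18713) (iv4 D8773) (iv5 D3917) D3916 D8769 F29951 D39414
theorem F60342 : act 1 n39414 = n18757 := d18_6 F57133 (iv4 D26845) F30016 (iv4 F29945) F29946 D39414 (iv4 D18757) D18756 (iv5 F57132)
def n39415 : Q := act 6 n18679
theorem D39415 : act 6 n18679 = n39415 := rfl
theorem F60343 : act 5 n39415 = n33162 := d12_1 D39415 (iv6 D33162) (iv5 D15991) D15992 F29946
def n39416 : Q := act 3 n18680
theorem D39416 : act 3 n18680 = n39416 := rfl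
def n39417 : Q := act 4 n18680
theorem D39417 : act 4 n18680 = n39417 := rfl
theorem F60344 : act 0 n39417 = n18757 := d17_0 F54955 (iv1 D34710) (iv5 F44935) F44934 F22066 F9811 D8764 D18680 D39417
theorem F60345 : act 1 n39417 = n18803 := d18_8 (iv1 F54952) (iv4 F43100) (iv1 F43102) D34707 F54947 (iv4 D18681) D18680 D39417 (iv5 F54950)
def n39418 : Q := act 5 n18680
theorem D39418 : act 5 n18680 = n39418 := rfl
theorem F60346 : act 2 n39418 = n33163 := d2_1 D39418 F52385 (iv2 F44891)
theorem F60347 : act 7 n39418 = n26413 := d13_2 (iv7 F44888) D39418 (iv5 F44884)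
theorem F60348 : act 4 n39418 = n18767 := d17_4 (iv1 F9810) D8769 (iv1 F29948) D39418 (iv5 D18767) F13670 (iv5 D3927) F4240 (iv4 F9807)
theorem F60349 : act 1 n39418 = n27815 := d17_8 F43790 (iv5 D27097) F30508 (iv5 D8908) (iv4 F28967) D8764 D18680 D39418 F44923
theorem F60350 : act 6 n18680 = n33985 := d21_3 D27815 (iv1 F60349) (iv5 D39418) (iv1 D33985) (iv6 D16437) (iv5 D7622) (iv1 D3458) D3459 (iv6 F9805) D13273
theorem F60351 : act 6 n33154 = n39418 := d21_5 D33811 F53142 (iv5 D16803) D16804 F52379 (iv5 D39418) (iv1 D18680) (iv5 D8764) D8765 (iv1 F42186)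
theorem F60352 : act 0 n39418 = n26738 := d21_10 F42955 (iv1 D13274) (iv5 D6298) (iv6 D2640) (iv1 F4038) D6022 D12732 D26644 (iv5 F52378) F60351
def n39419 : Q := act 0 n18681
theorem D39419 : act 0 n18681 = n39419 := rfl
theorem F60353 : act 4 n39419 = n27852 := d18_3 (iv1 D18680) D18681 D39419 F44975 F28996 (iv0 F43210) (iv4 F42954) (iv0 F60352) (iv5 D39418)
theorem F60354 : act 1 n18695 = n39419 := d15_0 (iv0 D39419) (iv7 F44912) F44911
def n39420 : Q := act 1 n18681
theorem D39420 : act 1 n18681 = n39420 := rfl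
theorem F60355 : act 1 n39420 = n18695 := d15_1 D39420 (iv7 F44893) F44892
theorem F60356 : act 4 n39420 = n27853 := d18_7 (iv1 F30437) F5923 D3970 (iv4 F28967) D8764 D18681 D39420 F44979 (iv5 D13293)
def n39421 : Q := act 3 n18681
theorem D39421 : act 3 n18681 = n39421 := rfl
def n39422 : Q := act 6 n18681
theorem D39422 : act 6 n18681 = n39422 := rfl
theorem F60357 : act 4 n39422 = n18682 := d10_1 D39422 (iv6 D18682) D18681
def n39423 : Q := act 0 n18682
theorem D39423 : act 0 n18682 = n39423 := rfl
def n39424 : Q := act 1 n18682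
theorem D39424 : act 1 n18682 = n39424 := rfl
def n39425 : Q := act 5 n18682
theorem D39425 : act 5 n18682 = n39425 := rfl
theorem F60358 : act 2 n39425 = n34708 := d2_1 D39425 F54949 F44894
theorem F60359 : act 6 n39425 = n18686 := d12_2 D18682 D39425 (iv5 D18686) (iv6 D8765) D8764
def n39426 : Q := act 7 n18682
theorem D39426 : act 7 n18682 = n39426 := rfl
def n39427 : Q := act 3 n18685
theorem D39427 : act 3 n18685 = n39427 := rfl
def n39428 : Q := act 4 n18686
theorem D39428 : act 4 n18686 = n39428 := rfl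
theorem F60360 : act 2 n39428 = n34707 := d1_1 D39428 (iv4 D34707) (iv2 F30422)
theorem F60361 : act 7 n39428 = n34704 := d11_2 F30427 D39428 (iv4 D34704)
theorem F60362 : act 5 n39428 = n27799 := d16_1 D39428 (iv4 D27799) (iv5 D13266) (iv4 F29956) (iv5 F28551) (iv4 F44896) F44897 F43093 (iv2 F30422)
theorem F60363 : act 0 n39428 = n32402 := d18_2 F29954 D39428 (iv4 D32402) (iv5 D15299) F11560 D8324 (iv4 F29959) F21280 (iv5 F27565)
def n39429 : Q := act 2 n18689
theorem D39429 : act 2 n18689 = n39429 := rfl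
theorem F60364 : act 7 n18690 = n39429 := d15_2 (iv0 D18689) D18690 (iv2 D39429)
def n39430 : Q := act 3 n18689
theorem D39430 : act 3 n18689 = n39430 := rfl
def n39431 : Q := act 4 n18689
theorem D39431 : act 4 n18689 = n39431 := rfl
def n39432 : Q := act 5 n18689
theorem D39432 : act 5 n18689 = n39432 := rfl
def n39434 : Q := act 7 n18689
theorem D39434 : act 7 n18689 = n39434 := rfl
theorem F60365 : act 2 n39434 = n18690 := d4_1 D39434 F60364 (iv2 D39429)
def n39435 : Q := act 3 n18690
theorem D39435 : act 3 n18690 = n39435 := rfl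
def n39436 : Q := act 4 n18690
theorem D39436 : act 4 n18690 = n39436 := rfl
def n39437 : Q := act 5 n18690
theorem D39437 : act 5 n18690 = n39437 := rfl
def n39438 : Q := act 6 n18690
theorem D39438 : act 6 n18690 = n39438 := rfl
def n39439 : Q := act 4 n18691
theorem D39439 : act 4 n18691 = n39439 := rfl
theorem F60366 : act 2 n39439 = n18692 := d1_1 D39439 (iv4 D18692) D18691
def n39440 : Q := act 5 n18691
theorem D39440 : act 5 n18691 = n39440 := rfl
theorem F60367 : act 2 n39440 = n18693 := d2_1 D39440 (iv5 D18693) D18691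
def n39441 : Q := act 6 n18691
theorem D39441 : act 6 n18691 = n39441 := rfl
theorem F60368 : act 2 n39441 = n18694 := d3_1 D39441 (iv6 D18694) D18691
def n39442 : Q := act 0 n18692
theorem D39442 : act 0 n18692 = n39442 := rfl
def n39443 : Q := act 1 n18692
theorem D39443 : act 1 n18692 = n39443 := rfl
def n39444 : Q := act 5 n18692
theorem D39444 : act 5 n18692 = n39444 := rfl
def n39445 : Q := act 6 n18692
theorem D39445 : act 6 n18692 = n39445 := rfl
theorem F60369 : act 4 n39445 = n18694 := d10_1 D39445 (iv6 D18694) D18692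
def n39446 : Q := act 0 n18693
theorem D39446 : act 0 n18693 = n39446 := rfl
def n39447 : Q := act 1 n18693
theorem D39447 : act 1 n18693 = n39447 := rfl
def n39448 : Q := act 4 n18693
theorem D39448 : act 4 n18693 = n39448 := rfl
def n39449 : Q := act 6 n18693
theorem D39449 : act 6 n18693 = n39449 := rfl
theorem F60370 : act 3 n39449 = n18696 := d7_1 D39449 (iv6 D18696) (iv3 F29961)
def n39450 : Q := act 0 n18694
theorem D39450 : act 0 n18694 = n39450 := rfl
def n39451 : Q := act 1 n18694
theorem D39451 : act 1 n18694 = n39451 := rfl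
def n39452 : Q := act 5 n18694
theorem D39452 : act 5 n18694 = n39452 := rfl
theorem F60371 : act 3 n39452 = n18699 := d6_1 D39452 (iv5 D18699) (iv3 F29962)
def n39453 : Q := act 7 n18694
theorem D39453 : act 7 n18694 = n39453 := rfl
theorem F60372 : act 3 n39453 = n18700 := d8_1 D39453 (iv7 D18700) (iv3 F29962)
def n39454 : Q := act 3 n18695
theorem D39454 : act 3 n18695 = n39454 := rfl
def n39455 : Q := act 6 n18695
theorem D39455 : act 6 n18695 = n39455 := rfl
theorem F60373 : act 4 n39455 = n18696 := d10_1 D39455 (iv6 D18696) D18695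
def n39456 : Q := act 0 n18696
theorem D39456 : act 0 n18696 = n39456 := rfl
def n39457 : Q := act 5 n18696
theorem D39457 : act 5 n18696 = n39457 := rfl
theorem F60374 : act 6 n39457 = n18699 := d12_2 D18696 D39457 (iv5 D18699) (iv6 D8770) D8769
def n39458 : Q := act 7 n18696
theorem D39458 : act 7 n18696 = n39458 := rfl
def n39459 : Q := act 3 n18697
theorem D39459 : act 3 n18697 = n39459 := rfl
theorem F60375 : act 7 n39459 = n37450 := d8_2 (iv7 F30364) D39459 (iv3 D37450)
def n39460 : Q := act 4 n18699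
theorem D39460 : act 4 n18699 = n39460 := rfl
theorem F60376 : act 0 n39460 = n36781 := d17_0 F57678 (iv1 F52566) (iv5 D33329) (iv4 D16094) (iv5 D7513) D7512 D16090 (iv0 F30361) D39460
def n39461 : Q := act 7 n18699
theorem D39461 : act 7 n18699 = n39461 := rfl
theorem F60378 : act 2 n39461 = n33309 := d4_1 D39461 F52542 F44914
theorem F60379 : act 5 n39461 = n18700 := d13_1 D39461 (iv7 D18700) D18699
theorem F60380 : act 1 n26466 = n39461 := d15_1 F44916 (iv7 D39461) (iv2 F44914)
theorem F60381 : act 1 n39461 = n26469 := d15_1 F60380 F42327 (iv2 F42321)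
theorem F60382 : act 6 n39461 = n32995 := d21_3 F29130 (iv1 F30351) (iv5 F60379) (iv1 D32995) (iv6 D15889) (iv5 D7454) F11594 D3429 (iv6 F11753) D16092
def n39462 : Q := act 0 n18702
theorem D39462 : act 0 n18702 = n39462 := rfl
def n39463 : Q := act 1 n18702
theorem D39463 : act 1 n18702 = n39463 := rfl
def n39464 : Q := act 2 n18702
theorem D39464 : act 2 n18702 = n39464 := rfl
def n39465 : Q := act 4 n18702
theorem D39465 : act 4 n18702 = n39465 := rfl
def n39466 : Q := act 5 n18702
theorem D39466 : act 5 n18702 = n39466 := rfl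
theorem F60383 : act 3 n39466 = n18704 := d6_1 D39466 (iv5 D18704) D18702
def n39467 : Q := act 6 n18702
theorem D39467 : act 6 n18702 = n39467 := rfl
theorem F60384 : act 3 n39467 = n18705 := d7_1 D39467 (iv6 D18705) D18702
def n39468 : Q := act 0 n18703
theorem D39468 : act 0 n18703 = n39468 := rfl
theorem F60385 : act 5 n39468 = n32808 := d17_1 D39468 (iv1 F54945) F54944 (iv4 D18695) (iv5 D8769) F9810 (iv5 F22066) F22069 D18703
theorem F60386 : act 4 n39468 = n27847 := d18_3 D8771 D18703 D39468 (iv5 D27847) F30433 F13782 (iv4 F28967) (iv0 D3915) D3917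
theorem F60387 : act 1 n18708 = n39468 := d15_0 (iv0 D39468) (iv7 F51311) (iv2 F51312)
theorem F60388 : act 7 n39468 = n28699 := d15_2 F30333 F60387 F46264
def n39469 : Q := act 3 n18703
theorem D39469 : act 3 n18703 = n39469 := rfl
def n39470 : Q := act 6 n18703
theorem D39470 : act 6 n18703 = n39470 := rfl
theorem F60389 : act 4 n39470 = n18705 := d10_1 D39470 (iv6 D18705) D18703
def n39471 : Q := act 0 n18705
theorem D39471 : act 0 n18705 = n39471 := rfl
def n39472 : Q := act 1 n18705
theorem D39472 : act 1 n18705 = n39472 := rfl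
def n39473 : Q := act 7 n18705
theorem D39473 : act 7 n18705 = n39473 := rfl
def n39475 : Q := act 1 n18707
theorem D39475 : act 1 n18707 = n39475 := rfl
def n39476 : Q := act 2 n18707
theorem D39476 : act 2 n18707 = n39476 := rfl
def n39477 : Q := act 4 n18707
theorem D39477 : act 4 n18707 = n39477 := rfl
def n39478 : Q := act 6 n18707
theorem D39478 : act 6 n18707 = n39478 := rfl
theorem F60390 : act 3 n39478 = n18709 := d7_1 D39478 (iv6 D18709) D18707
def n39479 : Q := act 3 n18708
theorem D39479 : act 3 n18708 = n39479 := rfl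
def n39480 : Q := act 6 n18708
theorem D39480 : act 6 n18708 = n39480 := rfl
theorem F60391 : act 4 n39480 = n18709 := d10_1 D39480 (iv6 D18709) D18708
def n39481 : Q := act 0 n18709
theorem D39481 : act 0 n18709 = n39481 := rfl
def n39482 : Q := act 1 n18709
theorem D39482 : act 1 n18709 = n39482 := rfl
def n39483 : Q := act 7 n18709
theorem D39483 : act 7 n18709 = n39483 := rfl
def n39484 : Q := act 3 n18710
theorem D39484 : act 3 n18710 = n39484 := rfl
def n39485 : Q := act 6 n18710
theorem D39485 : act 6 n18710 = n39485 := rfl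
def n39486 : Q := act 3 n18711
theorem D39486 : act 3 n18711 = n39486 := rfl
def n39487 : Q := act 6 n18711
theorem D39487 : act 6 n18711 = n39487 := rfl
def n39488 : Q := act 0 n18712
theorem D39488 : act 0 n18712 = n39488 := rfl
def n39489 : Q := act 1 n18712
theorem D39489 : act 1 n18712 = n39489 := rfl
def n39490 : Q := act 2 n18712
theorem D39490 : act 2 n18712 = n39490 := rfl
def n39491 : Q := act 5 n18712
theorem D39491 : act 5 n18712 = n39491 := rfl
theorem F60392 : act 3 n39491 = n18713 := d6_1 D39491 (iv5 D18713) D18712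
def n39492 : Q := act 7 n18712
theorem D39492 : act 7 n18712 = n39492 := rfl
theorem F60393 : act 3 n39492 = n18714 := d8_1 D39492 (iv7 D18714) D18712
def n39493 : Q := act 6 n18713
theorem D39493 : act 6 n18713 = n39493 := rfl
theorem F60394 : act 5 n39493 = n32338 := d12_1 D39493 F51353 F24833 F21163 D18713
def n39494 : Q := act 6 n18714
theorem D39494 : act 6 n18714 = n39494 := rfl
theorem F60395 : act 4 n39494 = n18715 := d10_1 D39494 (iv6 D18715) (iv4 F29967)
theorem F60396 : act 7 n39494 = n34010 := d14_2 D18714 D39494 (iv6 D34010) F25922 F21163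
def n39495 : Q := act 0 n18716
theorem D39495 : act 0 n18716 = n39495 := rfl
theorem F60397 : act 1 n18721 = n39495 := d15_0 (iv0 D39495) (iv7 F29968) (iv2 F29969)
def n39497 : Q := act 3 n18716
theorem D39497 : act 3 n18716 = n39497 := rfl
theorem F60399 : act 7 n39497 = n18722 := d8_2 F29968 D39497 (iv3 D18722)
def n39498 : Q := act 4 n18716
theorem D39498 : act 4 n18716 = n39498 := rfl
theorem F60400 : act 2 n39498 = n18718 := d1_1 D39498 (iv4 D18718) D18716
theorem F60401 : act 7 n39498 = n18723 := d11_2 F29968 D39498 (iv4 D18723)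
def n39499 : Q := act 5 n18716
theorem D39499 : act 5 n18716 = n39499 := rfl
theorem F60402 : act 2 n39499 = n18719 := d2_1 D39499 (iv5 D18719) D18716
theorem F60403 : act 7 n39499 = n18724 := d13_2 F29968 D39499 (iv5 D18724)
def n39500 : Q := act 6 n18716
theorem D39500 : act 6 n18716 = n39500 := rfl
theorem F60404 : act 2 n39500 = n18720 := d3_1 D39500 (iv6 D18720) D18716
def n39505 : Q := act 5 n18717
theorem D39505 : act 5 n18717 = n39505 := rfl
theorem F60405 : act 3 n39505 = n18719 := d6_1 D39505 (iv5 D18719) D18717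
def n39507 : Q := act 7 n18717
theorem D39507 : act 7 n18717 = n39507 := rfl
theorem F60407 : act 3 n39507 = n18721 := d8_1 D39507 (iv7 D18721) D18717
def n39508 : Q := act 0 n18718
theorem D39508 : act 0 n18718 = n39508 := rfl
def n39509 : Q := act 1 n18718
theorem D39509 : act 1 n18718 = n39509 := rfl
theorem F60408 : act 1 n39509 = n18723 := d15_1 D39509 (iv7 F60401) F60400
def n39510 : Q := act 3 n18718
theorem D39510 : act 3 n18718 = n39510 := rfl
def n39511 : Q := act 5 n18718
theorem D39511 : act 5 n18718 = n39511 := rfl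
def n39512 : Q := act 6 n18718
theorem D39512 : act 6 n18718 = n39512 := rfl
def n39513 : Q := act 7 n18718
theorem D39513 : act 7 n18718 = n39513 := rfl
theorem F60410 : act 2 n39513 = n18723 := d4_1 D39513 (iv7 F60401) F60400
theorem F60411 : act 4 n39513 = n18721 := d11_1 D39513 (iv7 D18721) D18718
theorem F60412 : act 1 n18723 = n39508 := d15_0 (iv0 D39508) D39513 F60410
def n39515 : Q := act 1 n18719
theorem D39515 : act 1 n18719 = n39515 := rfl
theorem F60413 : act 1 n39515 = n18724 := d15_1 D39515 (iv7 F60403) F60402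
def n39517 : Q := act 7 n18719
theorem D39517 : act 7 n18719 = n39517 := rfl
theorem F60415 : act 5 n39517 = n18721 := d13_1 D39517 (iv7 D18721) D18719
def n39520 : Q := act 5 n18720
theorem D39520 : act 5 n18720 = n39520 := rfl
def n39523 : Q := act 0 n18722
theorem D39523 : act 0 n18722 = n39523 := rfl
def n39524 : Q := act 1 n18722
theorem D39524 : act 1 n18722 = n39524 := rfl
def n39525 : Q := act 2 n18722
theorem D39525 : act 2 n18722 = n39525 := rfl
def n39526 : Q := act 4 n18722
theorem D39526 : act 4 n18722 = n39526 := rfl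
def n39527 : Q := act 5 n18722
theorem D39527 : act 5 n18722 = n39527 := rfl
theorem F60418 : act 3 n39527 = n18724 := d6_1 D39527 (iv5 D18724) D18722
def n39529 : Q := act 3 n18723
theorem D39529 : act 3 n18723 = n39529 := rfl
def n39530 : Q := act 5 n18723
theorem D39530 : act 5 n18723 = n39530 := rfl
def n39538 : Q := act 3 n18726
theorem D39538 : act 3 n18726 = n39538 := rfl
def n39539 : Q := act 5 n18726
theorem D39539 : act 5 n18726 = n39539 := rfl
theorem F60421 : act 2 n39539 = n18732 := d2_1 D39539 (iv5 D18732) (iv2 F29970)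
def n39540 : Q := act 6 n18726
theorem D39540 : act 6 n18726 = n39540 := rfl
theorem F60422 : act 2 n39540 = n18733 := d3_1 D39540 (iv6 D18733) (iv2 F29970)
theorem F60423 : act 4 n39540 = n18728 := d10_1 D39540 (iv6 D18728) D18726
def n39541 : Q := act 4 n18727
theorem D39541 : act 4 n18727 = n39541 := rfl
theorem F60424 : act 2 n39541 = n18736 := d1_1 D39541 (iv4 D18736) (iv2 F29971)
theorem F60425 : act 7 n39541 = n39540 := d11_2 (iv7 F29974) D39541 F60423
def n39542 : Q := act 6 n18727
theorem D39542 : act 6 n18727 = n39542 := rfl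
theorem F60426 : act 2 n39542 = n18737 := d3_1 D39542 (iv6 D18737) (iv2 F29971)
theorem F60427 : act 5 n39542 = n27869 := d12_1 D39542 (iv6 D27869) F29973 (iv6 D18728) D18727
theorem F60428 : act 7 n39542 = n27869 := d14_2 (iv7 F29974) D39542 (iv6 D27869) F22088 D18728
theorem F60429 : act 1 n27876 = n39542 := d15_1 D27876 F60428 F44995
theorem F60430 : act 1 n39542 = n27875 := d15_0 (iv0 D27875) (iv7 F29982) (iv2 F60426)
def n39543 : Q := act 3 n18729
theorem D39543 : act 3 n18729 = n39543 := rfl
def n39544 : Q := act 5 n18729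
theorem D39544 : act 5 n18729 = n39544 := rfl
def n39545 : Q := act 0 n18731
theorem D39545 : act 0 n18731 = n39545 := rfl
def n39546 : Q := act 1 n18731
theorem D39546 : act 1 n18731 = n39546 := rfl
def n39547 : Q := act 2 n18731
theorem D39547 : act 2 n18731 = n39547 := rfl
theorem F60431 : act 4 n39547 = n18752 := d1_2 (iv4 F29975) D39547 (iv2 D18752)
def n39548 : Q := act 5 n18731
theorem D39548 : act 5 n18731 = n39548 := rfl
theorem F60432 : act 3 n39548 = n18732 := d6_1 D39548 (iv5 D18732) D18731
def n39549 : Q := act 6 n18731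
theorem D39549 : act 6 n18731 = n39549 := rfl
theorem F60433 : act 3 n39549 = n18733 := d7_1 D39549 (iv6 D18733) D18731
theorem F60434 : act 4 n39549 = n18754 := d10_1 D39549 (iv6 D18754) (iv4 F29975)
def n39550 : Q := act 0 n18732
theorem D39550 : act 0 n18732 = n39550 := rfl
def n39551 : Q := act 1 n18732
theorem D39551 : act 1 n18732 = n39551 := rfl
def n39552 : Q := act 4 n18732
theorem D39552 : act 4 n18732 = n39552 := rfl
def n39554 : Q := act 0 n18733
theorem D39554 : act 0 n18733 = n39554 := rfl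
def n39555 : Q := act 1 n18733
theorem D39555 : act 1 n18733 = n39555 := rfl
theorem F60436 : act 1 n39555 = n39541 := d15_1 D39555 F60425 F60422
def n39556 : Q := act 5 n18733
theorem D39556 : act 5 n18733 = n39556 := rfl
theorem F60437 : act 0 n39556 = n37327 := d21_7 F16262 (iv1 F29105) F29106 D18485 F59762 D18733 D39556 (iv5 D37327) (iv6 D17928) (iv1 F16264)
def n39557 : Q := act 2 n18734
theorem D39557 : act 2 n18734 = n39557 := rfl
theorem F60438 : act 7 n18735 = n39557 := d15_2 (iv0 D18734) D18735 (iv2 D39557)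
def n39558 : Q := act 3 n18734
theorem D39558 : act 3 n18734 = n39558 := rfl
def n39559 : Q := act 4 n18734
theorem D39559 : act 4 n18734 = n39559 := rfl
def n39560 : Q := act 5 n18734
theorem D39560 : act 5 n18734 = n39560 := rfl
def n39561 : Q := act 6 n18734
theorem D39561 : act 6 n18734 = n39561 := rfl
def n39562 : Q := act 7 n18734
theorem D39562 : act 7 n18734 = n39562 := rfl
theorem F60439 : act 2 n39562 = n18735 := d4_1 D39562 F60438 (iv2 D39557)
def n39563 : Q := act 3 n18735
theorem D39563 : act 3 n18735 = n39563 := rfl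
def n39564 : Q := act 4 n18735
theorem D39564 : act 4 n18735 = n39564 := rfl
def n39565 : Q := act 5 n18735
theorem D39565 : act 5 n18735 = n39565 := rfl
def n39566 : Q := act 6 n18735
theorem D39566 : act 6 n18735 = n39566 := rfl
def n39567 : Q := act 0 n18736
theorem D39567 : act 0 n18736 = n39567 := rfl
theorem F60440 : act 1 n39540 = n39567 := d15_0 (iv0 D39567) F29979 (iv2 F60422)
def n39568 : Q := act 1 n18736
theorem D39568 : act 1 n18736 = n39568 := rfl
def n39569 : Q := act 3 n18736
theorem D39569 : act 3 n18736 = n39569 := rfl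
theorem F60442 : act 4 n39569 = n18770 := d5_2 D18736 D39569 (iv3 D18770) (iv4 D8796) (iv3 F13660)
theorem F60443 : act 7 n39569 = n39549 := d8_2 (iv7 F29979) D39569 F60433
def n39570 : Q := act 5 n18736
theorem D39570 : act 5 n18736 = n39570 := rfl
theorem F60444 : act 7 n39570 = n39556 := d13_2 (iv7 F29979) D39570 (iv5 D39556)
def n39571 : Q := act 6 n18736
theorem D39571 : act 6 n18736 = n39571 := rfl
theorem F60445 : act 4 n39571 = n18737 := d10_1 D39571 (iv6 D18737) D18736
theorem F60446 : act 7 n39571 = n27874 := d14_2 (iv7 F29979) D39571 (iv6 D27874) F22092 D18733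
def n39572 : Q := act 0 n18737
theorem D39572 : act 0 n18737 = n39572 := rfl
theorem F60447 : act 1 n27869 = n39572 := d15_0 (iv0 D39572) F29982 (iv2 F44995)
def n39573 : Q := act 1 n18737
theorem D39573 : act 1 n18737 = n39573 := rfl
theorem F60448 : act 1 n39573 = n27869 := d15_1 D39573 (iv7 F60428) F60426
def n39574 : Q := act 2 n18738
theorem D39574 : act 2 n18738 = n39574 := rfl
theorem F60449 : act 7 n18739 = n39574 := d15_2 (iv0 D18738) D18739 (iv2 D39574)
def n39575 : Q := act 3 n18738
theorem D39575 : act 3 n18738 = n39575 := rfl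
def n39576 : Q := act 4 n18738
theorem D39576 : act 4 n18738 = n39576 := rfl
def n39577 : Q := act 5 n18738
theorem D39577 : act 5 n18738 = n39577 := rfl
def n39578 : Q := act 6 n18738
theorem D39578 : act 6 n18738 = n39578 := rfl
def n39579 : Q := act 7 n18738
theorem D39579 : act 7 n18738 = n39579 := rfl
theorem F60450 : act 2 n39579 = n18739 := d4_1 D39579 F60449 (iv2 D39574)
def n39580 : Q := act 3 n18739
theorem D39580 : act 3 n18739 = n39580 := rfl
def n39581 : Q := act 4 n18739
theorem D39581 : act 4 n18739 = n39581 := rfl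
def n39582 : Q := act 5 n18739
theorem D39582 : act 5 n18739 = n39582 := rfl
def n39583 : Q := act 6 n18739
theorem D39583 : act 6 n18739 = n39583 := rfl
def n39584 : Q := act 0 n18741
theorem D39584 : act 0 n18741 = n39584 := rfl
theorem F60451 : act 1 n18997 = n39584 := d15_0 (iv0 D39584) (iv7 F30057) (iv2 F30327)
def n39585 : Q := act 1 n18741
theorem D39585 : act 1 n18741 = n39585 := rfl
def n39586 : Q := act 2 n18741
theorem D39586 : act 2 n18741 = n39586 := rfl
theorem F60452 : act 7 n39586 = n18997 := d4_2 F30057 D39586 F30327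
theorem F60453 : act 1 n39586 = n18998 := d15_0 (iv0 D18998) F30057 D39586
theorem F60454 : act 1 n39585 = n18997 := d15_1 D39585 (iv7 F60452) (iv2 D39586)
theorem F60455 : act 1 n18999 = n39586 := d15_1 D18999 F60452 F30327
def n39587 : Q := act 4 n18741
theorem D39587 : act 4 n18741 = n39587 := rfl
theorem F60456 : act 3 n39587 = n18973 := d5_1 D39587 F30301 F13858 F30050 D18741
theorem F60457 : act 7 n39587 = n18965 := d11_2 F30057 D39587 F30283
theorem F60458 : act 0 n39337 = n39587 := d20_7 (iv4 D3926) (iv1 D1694) (iv4 F2869) (iv3 F5858) D8757 D18654 D39337 (iv4 D39587) (iv3 D18741) (iv1 F13668)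
def n39588 : Q := act 5 n18741
theorem D39588 : act 5 n18741 = n39588 := rfl
theorem F60459 : act 3 n39588 = n18743 := d6_1 D39588 (iv5 D18743) D18741
theorem F60460 : act 7 n39588 = n19000 := d13_2 F30057 D39588 (iv5 D19000)
def n39589 : Q := act 4 n18743
theorem D39589 : act 4 n18743 = n39589 := rfl
theorem F60461 : act 2 n39589 = n39468 := d1_1 D39589 F60386 F44962
theorem F60462 : act 7 n39589 = n19013 := d11_2 F30058 D39589 (iv4 D19013)
theorem F60463 : act 5 n39589 = n32402 := d16_1 D39589 (iv4 D32402) (iv5 D15299) F11560 (iv5 F5886) (iv4 F10564) D13678 (iv7 F44963) F44962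
theorem F60464 : act 0 n39589 = n27819 := d18_2 (iv1 F46252) D39589 (iv4 D27819) (iv5 F42955) F42954 (iv0 F43789) (iv4 F51978) F51982 (iv5 F46250)
theorem F60465 : act 1 n39589 = n27814 := d18_6 D6296 (iv4 F29956) (iv1 F13780) F30050 D18743 D39589 (iv4 D27814) (iv0 D13273) (iv5 D6298)
def n39590 : Q := act 6 n18743
theorem D39590 : act 6 n18743 = n39590 := rfl
theorem F60466 : act 7 n39590 = n34838 := d14_2 F30058 D39590 (iv6 D34838) (iv7 D16888) (iv6 F13870)
def n39591 : Q := act 2 n18750
theorem D39591 : act 2 n18750 = n39591 := rfl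
theorem F60467 : act 7 n18751 = n39591 := d15_2 (iv0 D18750) D18751 (iv2 D39591)
def n39592 : Q := act 3 n18750
theorem D39592 : act 3 n18750 = n39592 := rfl
theorem F60468 : act 4 n39592 = n39443 := d20_6 F2869 D1693 D3921 D8790 D18750 D39592 (iv1 D39443) (iv4 D18692) (iv3 D8767) (iv1 D3916)
def n39593 : Q := act 4 n18750
theorem D39593 : act 4 n18750 = n39593 := rfl
theorem F60469 : act 0 n39593 = n39360 := d20_1 D39593 (iv4 D39360) (iv3 D18659) (iv1 D8758) F5858 F2869 D1693 D3921 D8790 D18750
def n39594 : Q := act 5 n18750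
theorem D39594 : act 5 n18750 = n39594 := rfl
def n39595 : Q := act 6 n18750
theorem D39595 : act 6 n18750 = n39595 := rfl
def n39596 : Q := act 7 n18750
theorem D39596 : act 7 n18750 = n39596 := rfl
theorem F60470 : act 2 n39596 = n18751 := d4_1 D39596 F60467 (iv2 D39591)
def n39597 : Q := act 3 n18751
theorem D39597 : act 3 n18751 = n39597 := rfl
def n39598 : Q := act 4 n18751
theorem D39598 : act 4 n18751 = n39598 := rfl
def n39599 : Q := act 5 n18751
theorem D39599 : act 5 n18751 = n39599 := rfl
def n39601 : Q := act 5 n18752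
theorem D39601 : act 5 n18752 = n39601 := rfl
theorem F60471 : act 2 n39601 = n18753 := d2_1 D39601 (iv5 D18753) D18752
def n39602 : Q := act 6 n18752
theorem D39602 : act 6 n18752 = n39602 := rfl
theorem F60472 : act 2 n39602 = n18754 := d3_1 D39602 (iv6 D18754) D18752
def n39603 : Q := act 0 n18753
theorem D39603 : act 0 n18753 = n39603 := rfl
def n39604 : Q := act 1 n18753
theorem D39604 : act 1 n18753 = n39604 := rfl
def n39605 : Q := act 4 n18753
theorem D39605 : act 4 n18753 = n39605 := rfl
def n39606 : Q := act 6 n18753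
theorem D39606 : act 6 n18753 = n39606 := rfl
theorem F60473 : act 3 n39606 = n18758 := d7_1 D39606 (iv6 D18758) (iv3 F29987)
def n39607 : Q := act 0 n18754
theorem D39607 : act 0 n18754 = n39607 := rfl
def n39608 : Q := act 1 n18754
theorem D39608 : act 1 n18754 = n39608 := rfl
def n39609 : Q := act 5 n18754
theorem D39609 : act 5 n18754 = n39609 := rfl
theorem F60474 : act 3 n39609 = n18761 := d6_1 D39609 (iv5 D18761) (iv3 F29988)
def n39610 : Q := act 3 n18755
theorem D39610 : act 3 n18755 = n39610 := rfl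
theorem F60475 : act 5 n39610 = n32828 := d6_2 (iv5 F30060) D39610 F51976
def n39611 : Q := act 4 n18755
theorem D39611 : act 4 n18755 = n39611 := rfl
theorem F60476 : act 2 n39611 = n39419 := d1_1 D39611 F60353 (iv2 F44977)
theorem F60477 : act 7 n39611 = n39420 := d11_2 F44980 D39611 F60356
theorem F60478 : act 0 n39611 = n27808 := d18_2 D18755 D39611 (iv4 D27808) (iv5 D13271) (iv4 F29958) F13776 F30050 (iv0 D8788) D8791
theorem F60479 : act 1 n39611 = n27799 := d18_6 (iv1 F52386) (iv4 F28971) (iv1 F30482) (iv4 F30455) (iv5 F30060) D39611 (iv4 D27799) D27798 (iv5 F52385)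
def n39612 : Q := act 6 n18755
theorem D39612 : act 6 n18755 = n39612 := rfl
theorem F60480 : act 5 n39612 = n32830 := d12_1 D39612 (iv6 D32830) (iv5 D15718) D15719 (iv5 F30060)
def n39613 : Q := act 3 n18756
theorem D39613 : act 3 n18756 = n39613 := rfl
def n39614 : Q := act 4 n18756
theorem D39614 : act 4 n18756 = n39614 := rfl
theorem F60481 : act 2 n39614 = n39420 := d1_1 D39614 F60356 (iv2 F44981)
theorem F60482 : act 7 n39614 = n39419 := d11_2 (iv7 F44978) D39614 F60353
theorem F60483 : act 0 n39614 = n27799 := d17_0 (iv5 F60362) F60363 (iv5 F60463) (iv4 D39589) (iv5 D18743) (iv0 D8788) D8791 D18756 D39614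
theorem F60484 : act 1 n39614 = n27808 := d18_6 F42202 F29965 F28553 D36378 F57132 D39614 (iv4 D27808) F44885 F44884
def n39615 : Q := act 3 n18757
theorem D39615 : act 3 n18757 = n39615 := rfl
def n39616 : Q := act 6 n18757
theorem D39616 : act 6 n18757 = n39616 := rfl
theorem F60485 : act 4 n39616 = n18758 := d10_1 D39616 (iv6 D18758) D18757
def n39617 : Q := act 0 n18758
theorem D39617 : act 0 n18758 = n39617 := rfl
def n39618 : Q := act 1 n18758
theorem D39618 : act 1 n18758 = n39618 := rfl
def n39619 : Q := act 5 n18758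
theorem D39619 : act 5 n18758 = n39619 := rfl
theorem F60486 : act 6 n39619 = n18761 := d12_2 D18758 D39619 (iv5 D18761) (iv6 D8792) D8791
def n39620 : Q := act 7 n18758
theorem D39620 : act 7 n18758 = n39620 := rfl
def n39621 : Q := act 3 n18760
theorem D39621 : act 3 n18760 = n39621 := rfl
theorem F60487 : act 7 n39621 = n36371 := d8_2 (iv7 F30431) D39621 F57116
def n39622 : Q := act 4 n18761
theorem D39622 : act 4 n18761 = n39622 := rfl
theorem F60488 : act 2 n39622 = n34710 := d1_1 D39622 F54954 F30066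
theorem F60489 : act 7 n39622 = n34709 := d11_2 F30025 D39622 F54951
theorem F60490 : act 5 n39622 = n27854 := d16_1 D39622 (iv4 D27854) (iv5 D13285) (iv4 D6302) D6303 D13286 D27857 F44987 F30066
theorem F60491 : act 0 n39622 = n26813 := d18_2 (iv1 F51454) D39622 (iv4 D26813) (iv5 D12824) F9423 D6066 D12833 F30440 (iv5 F51453)
theorem F60492 : act 1 n39622 = n27824 := d18_6 (iv1 F44899) F29953 (iv1 D8800) (iv4 F13665) D18761 D39622 F44931 F43094 (iv5 F44897)
def n39623 : Q := act 0 n18762
theorem D39623 : act 0 n18762 = n39623 := rfl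
theorem F60493 : act 1 n39233 = n39623 := d15_0 (iv0 D39623) F29994 (iv2 F60200)
def n39624 : Q := act 1 n18762
theorem D39624 : act 1 n18762 = n39624 := rfl
def n39625 : Q := act 2 n18762
theorem D39625 : act 2 n18762 = n39625 := rfl
theorem F60494 : act 5 n39625 = n37741 := d2_2 (iv5 F29993) D39625 F58599
theorem F60495 : act 7 n39625 = n39233 := d4_2 (iv7 F29994) D39625 F60200
theorem F60496 : act 1 n39625 = n39241 := d15_0 (iv0 D39241) (iv7 F29994) D39625
theorem F60498 : act 1 n39242 = n39625 := d15_1 D39242 F60495 F60200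
def n39626 : Q := act 4 n18762
theorem D39626 : act 4 n18762 = n39626 := rfl
theorem F60499 : act 7 n39626 = n39237 := d11_2 (iv7 F29994) D39626 F60201
def n39627 : Q := act 6 n18762
theorem D39627 : act 6 n18762 = n39627 := rfl
theorem F60500 : act 3 n39627 = n18764 := d7_1 D39627 (iv6 D18764) D18762
theorem F60501 : act 5 n39627 = n27299 := d12_1 D39627 F44160 (iv5 D18098) D18099 (iv5 F29993)
theorem F60502 : act 7 n39627 = n27732 := d14_2 (iv7 F29994) D39627 (iv6 D27732) (iv7 F29787) D18612
def n39628 : Q := act 3 n18763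
theorem D39628 : act 3 n18763 = n39628 := rfl
theorem F60503 : act 6 n39628 = n33966 := d7_2 F42170 D39628 (iv3 D33966)
theorem F60504 : act 7 n39628 = n33808 := d8_2 F42189 D39628 F53140
def n39629 : Q := act 5 n18763
theorem D39629 : act 5 n18763 = n39629 := rfl
theorem F60505 : act 2 n39629 = n34693 := d2_1 D39629 F54938 (iv2 F29995)
theorem F60506 : act 7 n39629 = n33811 := d13_2 F42189 D39629 (iv5 D33811)
theorem F60507 : act 0 n39629 = n26807 := d17_2 F30423 D39629 (iv5 D26807) F29955 D17673 (iv0 F28987) F28941 (iv0 F28942) (iv4 F30425)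
theorem F60508 : act 1 n39629 = n26810 := d17_6 (iv1 F9424) D12834 F30016 (iv5 F13669) D18763 D39629 (iv5 D26810) F21280 F12398
def n39630 : Q := act 0 n18765
theorem D39630 : act 0 n18765 = n39630 := rfl
def n39632 : Q := act 2 n18765
theorem D39632 : act 2 n18765 = n39632 := rfl
theorem F60509 : act 3 n39632 = n39233 := d0_2 D18765 D39632 F60200 F29837 (iv2 F29783)
def n39634 : Q := act 5 n18765
theorem D39634 : act 5 n18765 = n39634 := rfl
theorem F60512 : act 3 n39634 = n18767 := d6_1 D39634 (iv5 D18767) D18765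
theorem F60513 : act 6 n39634 = n34782 := d12_2 (iv6 F30005) D39634 F54992 F44776 (iv5 D27742)
theorem F60514 : act 7 n39634 = n27297 := d13_2 F30028 D39634 (iv5 F44156)
def n39635 : Q := act 3 n18766
theorem D39635 : act 3 n18766 = n39635 := rfl
theorem F60515 : act 6 n39635 = n26623 := d7_2 F42642 D39635 (iv3 D26623)
theorem F60516 : act 7 n39635 = n39427 := d8_2 (iv7 F30008) D39635 (iv3 D39427)
def n39636 : Q := act 5 n18766
theorem D39636 : act 5 n18766 = n39636 := rfl
theorem F60517 : act 2 n39636 = n33811 := d2_1 D39636 (iv5 D33811) F42187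
theorem F60518 : act 7 n39636 = n34693 := d13_2 (iv7 F30008) D39636 F54938
theorem F60519 : act 0 n39636 = n26810 := d17_2 (iv1 F30010) D39636 (iv5 D26810) F29959 D17678 (iv0 F43789) (iv5 D27097) F30509 (iv4 F29957)
theorem F60520 : act 1 n39636 = n26807 := d17_6 D6065 D12829 F30014 (iv5 D18767) D18766 D39636 (iv5 D26807) (iv0 D12822) F9423
def n39637 : Q := act 3 n18768
theorem D39637 : act 3 n18768 = n39637 := rfl
theorem F60521 : act 7 n39637 = n32533 := d8_2 F41781 D39637 F51607
def n39638 : Q := act 5 n18768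
theorem D39638 : act 5 n18768 = n39638 := rfl
theorem F60522 : act 2 n39638 = n34743 := d2_1 D39638 F54971 F30447
theorem F60523 : act 7 n39638 = n32536 := d13_2 F41781 D39638 (iv5 D32536)
theorem F60524 : act 0 n39638 = n26829 := d17_2 D18768 D39638 (iv5 D26829) (iv4 D12828) D12829 (iv0 F29270) (iv5 F13669) (iv0 D8794) D8796
theorem F60525 : act 1 n39638 = n26843 := d17_6 (iv1 F13137) (iv5 F28051) (iv1 F30482) F30454 F30452 D39638 (iv5 D26843) F30440 F24882
def n39639 : Q := act 0 n18770
theorem D39639 : act 0 n18770 = n39639 := rfl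
theorem F60526 : act 1 n39602 = n39639 := d15_0 (iv0 D39639) F30024 (iv2 F60472)
def n39640 : Q := act 1 n18770
theorem D39640 : act 1 n18770 = n39640 := rfl
def n39641 : Q := act 2 n18770
theorem D39641 : act 2 n18770 = n39641 := rfl
theorem F60527 : act 7 n39641 = n39602 := d4_2 (iv7 F30024) D39641 F60472
theorem F60528 : act 1 n39641 = n39607 := d15_0 (iv0 D39607) (iv7 F30024) D39641
theorem F60529 : act 1 n39640 = n39602 := d15_1 D39640 (iv7 F60527) (iv2 D39641)
theorem F60530 : act 1 n39608 = n39641 := d15_1 D39608 F60527 F60472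
def n39642 : Q := act 5 n18770
theorem D39642 : act 5 n18770 = n39642 := rfl
theorem F60531 : act 3 n39642 = n18771 := d6_1 D39642 (iv5 D18771) D18770
theorem F60532 : act 7 n39642 = n39609 := d13_2 (iv7 F30024) D39642 (iv5 D39609)
def n39643 : Q := act 6 n18770
theorem D39643 : act 6 n18770 = n39643 := rfl
theorem F60533 : act 3 n39643 = n18772 := d7_1 D39643 (iv6 D18772) D18770
theorem F60534 : act 7 n39643 = n27881 := d14_2 (iv7 F30024) D39643 (iv6 D27881) F22094 D18754
def n39644 : Q := act 6 n18771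
theorem D39644 : act 6 n18771 = n39644 := rfl
def n39647 : Q := act 2 n18773
theorem D39647 : act 2 n18773 = n39647 := rfl
theorem F60536 : act 3 n39647 = n39625 := d0_2 D18773 D39647 (iv2 D39625) (iv3 D18762) F29782
theorem F60538 : act 1 n39647 = n39630 := d15_0 (iv0 D39630) (iv7 F30028) D39647
def n39650 : Q := act 1 n18774
theorem D39650 : act 1 n18774 = n39650 := rfl
theorem F60543 : act 1 n39650 = n18779 := d15_1 D39650 (iv7 D18779) D18774
def n39651 : Q := act 3 n18774
theorem D39651 : act 3 n18774 = n39651 := rfl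
theorem F60544 : act 7 n39651 = n18780 := d8_2 F30029 D39651 (iv3 D18780)
def n39652 : Q := act 4 n18774
theorem D39652 : act 4 n18774 = n39652 := rfl
theorem F60545 : act 2 n39652 = n18776 := d1_1 D39652 (iv4 D18776) D18774
theorem F60546 : act 7 n39652 = n18781 := d11_2 F30029 D39652 (iv4 D18781)
def n39653 : Q := act 5 n18774
theorem D39653 : act 5 n18774 = n39653 := rfl
theorem F60547 : act 2 n39653 = n18777 := d2_1 D39653 (iv5 D18777) D18774
theorem F60548 : act 7 n39653 = n18782 := d13_2 F30029 D39653 (iv5 D18782)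
def n39655 : Q := act 0 n18775
theorem D39655 : act 0 n18775 = n39655 := rfl
def n39656 : Q := act 1 n18775
theorem D39656 : act 1 n18775 = n39656 := rfl
def n39657 : Q := act 2 n18775
theorem D39657 : act 2 n18775 = n39657 := rfl
def n39658 : Q := act 4 n18775
theorem D39658 : act 4 n18775 = n39658 := rfl
def n39659 : Q := act 5 n18775
theorem D39659 : act 5 n18775 = n39659 := rfl
theorem F60550 : act 3 n39659 = n18777 := d6_1 D39659 (iv5 D18777) D18775
def n39661 : Q := act 7 n18775
theorem D39661 : act 7 n18775 = n39661 := rfl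
theorem F60552 : act 3 n39661 = n18779 := d8_1 D39661 (iv7 D18779) D18775
def n39662 : Q := act 0 n18776
theorem D39662 : act 0 n18776 = n39662 := rfl
def n39663 : Q := act 1 n18776
theorem D39663 : act 1 n18776 = n39663 := rfl
theorem F60553 : act 1 n39663 = n18781 := d15_1 D39663 (iv7 F60546) F60545
def n39665 : Q := act 5 n18776
theorem D39665 : act 5 n18776 = n39665 := rfl
def n39667 : Q := act 7 n18776
theorem D39667 : act 7 n18776 = n39667 := rfl
theorem F60555 : act 2 n39667 = n18781 := d4_1 D39667 (iv7 F60546) F60545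
theorem F60556 : act 4 n39667 = n18779 := d11_1 D39667 (iv7 D18779) D18776
theorem F60557 : act 1 n18781 = n39662 := d15_0 (iv0 D39662) D39667 F60555
def n39668 : Q := act 0 n18777
theorem D39668 : act 0 n18777 = n39668 := rfl
def n39670 : Q := act 4 n18777
theorem D39670 : act 4 n18777 = n39670 := rfl
def n39672 : Q := act 7 n18777
theorem D39672 : act 7 n18777 = n39672 := rfl
theorem F60559 : act 2 n39672 = n18782 := d4_1 D39672 (iv7 F60548) F60547
theorem F60560 : act 5 n39672 = n18779 := d13_1 D39672 (iv7 D18779) D18777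
theorem F60561 : act 1 n18782 = n39668 := d15_0 (iv0 D39668) D39672 F60559
def n39677 : Q := act 6 n18779
theorem D39677 : act 6 n18779 = n39677 := rfl
theorem F60562 : act 2 n39677 = n18783 := d3_1 D39677 (iv6 D18783) (iv2 F30030)
def n39681 : Q := act 4 n18780
theorem D39681 : act 4 n18780 = n39681 := rfl
def n39682 : Q := act 5 n18780
theorem D39682 : act 5 n18780 = n39682 := rfl
theorem F60563 : act 3 n39682 = n18782 := d6_1 D39682 (iv5 D18782) D18780
def n39684 : Q := act 3 n18781
theorem D39684 : act 3 n18781 = n39684 := rfl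
def n39685 : Q := act 5 n18781
theorem D39685 : act 5 n18781 = n39685 := rfl
def n39686 : Q := act 6 n18781
theorem D39686 : act 6 n18781 = n39686 := rfl
def n39687 : Q := act 4 n18782
theorem D39687 : act 4 n18782 = n39687 := rfl
def n39688 : Q := act 6 n18782
theorem D39688 : act 6 n18782 = n39688 := rfl
def n39691 : Q := act 5 n18783
theorem D39691 : act 5 n18783 = n39691 := rfl
def n39693 : Q := act 3 n18784
theorem D39693 : act 3 n18784 = n39693 := rfl
def n39694 : Q := act 5 n18784
theorem D39694 : act 5 n18784 = n39694 := rfl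
theorem F60566 : act 2 n39694 = n18790 := d2_1 D39694 (iv5 D18790) (iv2 F30031)
def n39695 : Q := act 6 n18784
theorem D39695 : act 6 n18784 = n39695 := rfl
theorem F60567 : act 2 n39695 = n18791 := d3_1 D39695 (iv6 D18791) (iv2 F30031)
theorem F60568 : act 4 n39695 = n18786 := d10_1 D39695 (iv6 D18786) D18784
def n39696 : Q := act 4 n18785
theorem D39696 : act 4 n18785 = n39696 := rfl
theorem F60569 : act 2 n39696 = n18794 := d1_1 D39696 (iv4 D18794) (iv2 F30032)
theorem F60570 : act 6 n39696 = n27837 := d10_2 F30034 D39696 (iv4 D27837)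
def n39697 : Q := act 0 n18786
theorem D39697 : act 0 n18786 = n39697 := rfl
def n39698 : Q := act 1 n18786
theorem D39698 : act 1 n18786 = n39698 := rfl
def n39699 : Q := act 5 n18786
theorem D39699 : act 5 n18786 = n39699 := rfl
theorem F60572 : act 2 n39699 = n18797 := d2_1 D39699 (iv5 D18797) (iv2 F30035)
theorem F60573 : act 3 n39699 = n39542 := d6_1 D39699 F60427 F44996
theorem F60574 : act 6 n39699 = n27838 := d12_2 D18786 D39699 (iv5 D27838) F30034 (iv5 D18785)
theorem F60575 : act 7 n18786 = n39699 := d14_0 F60574 F44949 (iv6 F30034) F22072 D18786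
theorem F60576 : act 1 n18797 = n39697 := d15_0 (iv0 D39697) F60575 F60572
theorem F60577 : act 1 n18796 = n39699 := d15_1 D18796 (iv7 F60575) F30035
theorem F60578 : act 1 n39699 = n18795 := d15_0 (iv0 D18795) F30041 (iv2 F60572)
def n39700 : Q := act 2 n18787
theorem D39700 : act 2 n18787 = n39700 := rfl
theorem F60579 : act 7 n18788 = n39700 := d15_2 (iv0 D18787) D18788 (iv2 D39700)
def n39701 : Q := act 3 n18787
theorem D39701 : act 3 n18787 = n39701 := rfl
def n39702 : Q := act 4 n18787
theorem D39702 : act 4 n18787 = n39702 := rfl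
def n39705 : Q := act 7 n18787
theorem D39705 : act 7 n18787 = n39705 := rfl
theorem F60580 : act 2 n39705 = n18788 := d4_1 D39705 F60579 (iv2 D39700)
def n39706 : Q := act 3 n18788
theorem D39706 : act 3 n18788 = n39706 := rfl
def n39707 : Q := act 4 n18788
theorem D39707 : act 4 n18788 = n39707 := rfl
theorem F60581 : act 0 n38646 = n39707 := d20_10 (iv4 D39707) (iv1 D18788) (iv4 D8806) (iv3 D3925) (iv1 D1694) (iv3 F2862) (iv4 F5847) D8660 D18391 D38646
theorem F60582 : act 3 n19019 = n39707 := d20_5 (iv4 F2869) D3915 F28967 D8906 D19019 (iv4 D39707) (iv1 D18788) (iv4 D8806) (iv3 D3925) (iv1 D1694)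
def n39708 : Q := act 5 n18788
theorem D39708 : act 5 n18788 = n39708 := rfl
def n39709 : Q := act 6 n18788
theorem D39709 : act 6 n18788 = n39709 := rfl
def n39710 : Q := act 0 n18789
theorem D39710 : act 0 n18789 = n39710 := rfl
def n39711 : Q := act 1 n18789
theorem D39711 : act 1 n18789 = n39711 := rfl
def n39712 : Q := act 2 n18789
theorem D39712 : act 2 n18789 = n39712 := rfl
theorem F60583 : act 4 n39712 = n18800 := d1_2 (iv4 F30036) D39712 (iv2 D18800)
def n39713 : Q := act 5 n18789
theorem D39713 : act 5 n18789 = n39713 := rfl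
theorem F60584 : act 3 n39713 = n18790 := d6_1 D39713 (iv5 D18790) D18789
def n39714 : Q := act 6 n18789
theorem D39714 : act 6 n18789 = n39714 := rfl
theorem F60585 : act 3 n39714 = n18791 := d7_1 D39714 (iv6 D18791) D18789
theorem F60586 : act 4 n39714 = n18802 := d10_1 D39714 (iv6 D18802) (iv4 F30036)
def n39715 : Q := act 0 n18790
theorem D39715 : act 0 n18790 = n39715 := rfl
def n39716 : Q := act 1 n18790
theorem D39716 : act 1 n18790 = n39716 := rfl
def n39717 : Q := act 4 n18790
theorem D39717 : act 4 n18790 = n39717 := rfl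
def n39718 : Q := act 6 n18790
theorem D39718 : act 6 n18790 = n39718 := rfl
def n39719 : Q := act 0 n18791
theorem D39719 : act 0 n18791 = n39719 := rfl
def n39720 : Q := act 1 n18791
theorem D39720 : act 1 n18791 = n39720 := rfl
def n39721 : Q := act 5 n18791
theorem D39721 : act 5 n18791 = n39721 := rfl
def n39722 : Q := act 7 n18791
theorem D39722 : act 7 n18791 = n39722 := rfl
theorem F60587 : act 4 n39722 = n18797 := d11_1 D39722 (iv7 F30041) (iv4 F30037)
theorem F60588 : act 6 n39722 = n27845 := d14_1 D39722 F44959 F30038 F22076 D18791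
def n39723 : Q := act 2 n18792
theorem D39723 : act 2 n18792 = n39723 := rfl
theorem F60589 : act 7 n18793 = n39723 := d15_2 (iv0 D18792) D18793 (iv2 D39723)
def n39724 : Q := act 3 n18792
theorem D39724 : act 3 n18792 = n39724 := rfl
def n39725 : Q := act 4 n18792
theorem D39725 : act 4 n18792 = n39725 := rfl
def n39726 : Q := act 5 n18792
theorem D39726 : act 5 n18792 = n39726 := rfl
def n39727 : Q := act 6 n18792
theorem D39727 : act 6 n18792 = n39727 := rfl
def n39728 : Q := act 7 n18792
theorem D39728 : act 7 n18792 = n39728 := rfl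
def n39729 : Q := act 3 n18793
theorem D39729 : act 3 n18793 = n39729 := rfl
def n39730 : Q := act 4 n18793
theorem D39730 : act 4 n18793 = n39730 := rfl
def n39731 : Q := act 5 n18793
theorem D39731 : act 5 n18793 = n39731 := rfl
def n39732 : Q := act 6 n18793
theorem D39732 : act 6 n18793 = n39732 := rfl
def n39733 : Q := act 0 n18794
theorem D39733 : act 0 n18794 = n39733 := rfl
def n39734 : Q := act 1 n18794
theorem D39734 : act 1 n18794 = n39734 := rfl
def n39735 : Q := act 3 n18794
theorem D39735 : act 3 n18794 = n39735 := rfl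
theorem F60591 : act 4 n39735 = n18809 := d5_2 D18794 D39735 (iv3 D18809) (iv4 D8812) (iv3 F13683)
theorem F60592 : act 6 n39735 = n27841 := d7_2 (iv6 F30038) D39735 (iv3 D27841)
def n39736 : Q := act 5 n18794
theorem D39736 : act 5 n18794 = n39736 := rfl
def n39737 : Q := act 2 n18795
theorem D39737 : act 2 n18795 = n39737 := rfl
theorem F60593 : act 7 n18796 = n39737 := d15_2 (iv0 D18795) D18796 (iv2 D39737)
def n39738 : Q := act 3 n18795
theorem D39738 : act 3 n18795 = n39738 := rfl
def n39739 : Q := act 4 n18795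
theorem D39739 : act 4 n18795 = n39739 := rfl
def n39740 : Q := act 5 n18795
theorem D39740 : act 5 n18795 = n39740 := rfl
def n39741 : Q := act 6 n18795
theorem D39741 : act 6 n18795 = n39741 := rfl
def n39742 : Q := act 7 n18795
theorem D39742 : act 7 n18795 = n39742 := rfl
theorem F60594 : act 2 n39742 = n18796 := d4_1 D39742 F60593 (iv2 D39737)
def n39743 : Q := act 3 n18796
theorem D39743 : act 3 n18796 = n39743 := rfl
def n39744 : Q := act 4 n18796
theorem D39744 : act 4 n18796 = n39744 := rfl
def n39745 : Q := act 5 n18796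
theorem D39745 : act 5 n18796 = n39745 := rfl
def n39746 : Q := act 6 n18796
theorem D39746 : act 6 n18796 = n39746 := rfl
def n39747 : Q := act 2 n18798
theorem D39747 : act 2 n18798 = n39747 := rfl
theorem F60595 : act 7 n18799 = n39747 := d15_2 (iv0 D18798) D18799 (iv2 D39747)
def n39748 : Q := act 3 n18798
theorem D39748 : act 3 n18798 = n39748 := rfl
theorem F60596 : act 4 n39748 = n39402 := d20_6 F9807 (iv1 F4240) D3926 D8809 D18798 D39748 (iv1 D39402) (iv4 D18675) (iv3 D8762) (iv1 F9811)
def n39749 : Q := act 4 n18798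
theorem D39749 : act 4 n18798 = n39749 := rfl
def n39750 : Q := act 5 n18798
theorem D39750 : act 5 n18798 = n39750 := rfl
def n39752 : Q := act 7 n18798
theorem D39752 : act 7 n18798 = n39752 := rfl
theorem F60597 : act 2 n39752 = n18799 := d4_1 D39752 F60595 (iv2 D39747)
def n39753 : Q := act 3 n18799
theorem D39753 : act 3 n18799 = n39753 := rfl
theorem F60598 : act 4 n39341 = n39753 := d20_2 D18655 D39341 (iv3 D39753) (iv1 D18799) (iv3 D8809) (iv4 D3926) (iv1 D1694) (iv4 F2869) (iv3 F5858) D8757
def n39754 : Q := act 4 n18799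
theorem D39754 : act 4 n18799 = n39754 := rfl
def n39755 : Q := act 5 n18799
theorem D39755 : act 5 n18799 = n39755 := rfl
def n39756 : Q := act 6 n18799
theorem D39756 : act 6 n18799 = n39756 := rfl
def n39757 : Q := act 5 n18800
theorem D39757 : act 5 n18800 = n39757 := rfl
theorem F60599 : act 2 n39757 = n18801 := d2_1 D39757 (iv5 D18801) D18800
def n39758 : Q := act 6 n18800
theorem D39758 : act 6 n18800 = n39758 := rfl
theorem F60600 : act 2 n39758 = n18802 := d3_1 D39758 (iv6 D18802) D18800
def n39759 : Q := act 0 n18801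
theorem D39759 : act 0 n18801 = n39759 := rfl
def n39760 : Q := act 1 n18801
theorem D39760 : act 1 n18801 = n39760 := rfl
def n39761 : Q := act 4 n18801
theorem D39761 : act 4 n18801 = n39761 := rfl
def n39762 : Q := act 6 n18801
theorem D39762 : act 6 n18801 = n39762 := rfl
theorem F60601 : act 3 n39762 = n18804 := d7_1 D39762 (iv6 D18804) (iv3 F30042)
def n39763 : Q := act 0 n18802
theorem D39763 : act 0 n18802 = n39763 := rfl
def n39764 : Q := act 1 n18802
theorem D39764 : act 1 n18802 = n39764 := rfl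
def n39765 : Q := act 5 n18802
theorem D39765 : act 5 n18802 = n39765 := rfl
theorem F60602 : act 3 n39765 = n18807 := d6_1 D39765 (iv5 D18807) (iv3 F30043)
def n39766 : Q := act 7 n18802
theorem D39766 : act 7 n18802 = n39766 := rfl
theorem F60603 : act 3 n39766 = n18808 := d8_1 D39766 (iv7 D18808) (iv3 F30043)
theorem F60604 : act 6 n39766 = n27856 := d14_1 D39766 F44985 F30065 F22081 D18802
def n39767 : Q := act 3 n18803
theorem D39767 : act 3 n18803 = n39767 := rfl
def n39768 : Q := act 6 n18803
theorem D39768 : act 6 n18803 = n39768 := rfl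
theorem F60605 : act 4 n39768 = n18804 := d10_1 D39768 (iv6 D18804) D18803
def n39769 : Q := act 0 n18804
theorem D39769 : act 0 n18804 = n39769 := rfl
def n39770 : Q := act 5 n18804
theorem D39770 : act 5 n18804 = n39770 := rfl
theorem F60606 : act 6 n39770 = n18807 := d12_2 D18804 D39770 (iv5 D18807) (iv6 D8811) D8810
def n39771 : Q := act 7 n18804
theorem D39771 : act 7 n18804 = n39771 := rfl
def n39772 : Q := act 4 n18807
theorem D39772 : act 4 n18807 = n39772 := rfl
theorem F60607 : act 0 n39772 = n33321 := d17_0 F52555 F52102 (iv5 D32911) (iv4 D15846) (iv5 D7428) D7427 D15842 F41755 D39772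
theorem F60608 : act 1 n39772 = n33310 := d18_6 (iv1 F44920) F42339 F13715 (iv4 F13686) D18807 D39772 (iv4 D33310) D33309 F52543
def n39773 : Q := act 0 n18809
theorem D39773 : act 0 n18809 = n39773 := rfl
def n39774 : Q := act 1 n18809
theorem D39774 : act 1 n18809 = n39774 := rfl
def n39775 : Q := act 2 n18809
theorem D39775 : act 2 n18809 = n39775 := rfl
theorem F60609 : act 3 n39775 = n39602 := d0_2 D18809 D39775 F60472 F29988 F13712
theorem F60610 : act 6 n39775 = n27850 := d3_2 (iv6 F30065) D39775 (iv2 D27850)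
def n39776 : Q := act 5 n18809
theorem D39776 : act 5 n18809 = n39776 := rfl
theorem F60611 : act 3 n39776 = n18810 := d6_1 D39776 (iv5 D18810) D18809
def n39777 : Q := act 6 n18810
theorem D39777 : act 6 n18810 = n39777 := rfl
theorem F60612 : act 2 n39777 = n39619 := d3_1 D39777 F60486 (iv2 F30066)
theorem F60613 : act 5 n39777 = n27855 := d12_1 D39777 (iv6 D27855) (iv5 D13285) (iv6 F13687) D18810
def n39781 : Q := act 4 n18811
theorem D39781 : act 4 n18811 = n39781 := rfl
theorem F60621 : act 7 n39781 = n37446 := d11_2 (iv7 F30068) D39781 (iv4 D37446)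
def n39782 : Q := act 3 n18813
theorem D39782 : act 3 n18813 = n39782 := rfl
theorem F60622 : act 7 n39782 = n18861 := d8_2 (iv7 F30071) D39782 (iv3 D18861)
def n39784 : Q := act 3 n18820
theorem D39784 : act 3 n18820 = n39784 := rfl
def n39785 : Q := act 4 n18820
theorem D39785 : act 4 n18820 = n39785 := rfl
def n39793 : Q := act 4 n18822
theorem D39793 : act 4 n18822 = n39793 := rfl
theorem F60625 : act 2 n39793 = n18823 := d1_1 D39793 (iv4 D18823) D18822
def n39794 : Q := act 5 n18822
theorem D39794 : act 5 n18822 = n39794 := rfl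
theorem F60626 : act 2 n39794 = n18824 := d2_1 D39794 (iv5 D18824) D18822
def n39795 : Q := act 6 n18822
theorem D39795 : act 6 n18822 = n39795 := rfl
theorem F60627 : act 2 n39795 = n18825 := d3_1 D39795 (iv6 D18825) D18822
def n39796 : Q := act 0 n18823
theorem D39796 : act 0 n18823 = n39796 := rfl
def n39797 : Q := act 1 n18823
theorem D39797 : act 1 n18823 = n39797 := rfl
def n39798 : Q := act 5 n18823
theorem D39798 : act 5 n18823 = n39798 := rfl
def n39799 : Q := act 6 n18823
theorem D39799 : act 6 n18823 = n39799 := rfl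
theorem F60628 : act 4 n39799 = n18825 := d10_1 D39799 (iv6 D18825) D18823
def n39801 : Q := act 1 n18824
theorem D39801 : act 1 n18824 = n39801 := rfl
def n39802 : Q := act 4 n18824
theorem D39802 : act 4 n18824 = n39802 := rfl
def n39803 : Q := act 6 n18824
theorem D39803 : act 6 n18824 = n39803 := rfl
theorem F60629 : act 3 n39803 = n18835 := d7_1 D39803 (iv6 D18835) (iv3 F30080)
def n39804 : Q := act 0 n18825
theorem D39804 : act 0 n18825 = n39804 := rfl
def n39805 : Q := act 1 n18825
theorem D39805 : act 1 n18825 = n39805 := rfl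
def n39806 : Q := act 3 n18833
theorem D39806 : act 3 n18833 = n39806 := rfl
theorem F60630 : act 5 n39806 = n34748 := d6_2 F30090 D39806 (iv3 D34748)
theorem F60631 : act 7 n39806 = n37449 := d8_2 (iv7 F30089) D39806 F58345
def n39807 : Q := act 4 n18833
theorem D39807 : act 4 n18833 = n39807 := rfl
theorem F60632 : act 7 n39807 = n37451 := d11_2 (iv7 F30089) D39807 (iv4 D37451)
def n39808 : Q := act 1 n18834
theorem D39808 : act 1 n18834 = n39808 := rfl
theorem F60633 : act 1 n39808 = n18848 := d15_1 D39808 (iv7 F45038) F45037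
theorem F60634 : act 7 n39808 = n35675 := d15_2 F57699 D39808 (iv2 F57696)
theorem F60635 : act 4 n39808 = n33910 := d18_7 F28954 F5673 D6494 F43120 D8820 D18834 D39808 F53253 (iv5 D16413)
theorem F60636 : act 6 n36459 = n39808 := d10_0 F60635 F53256 D36459
def n39809 : Q := act 3 n18834
theorem D39809 : act 3 n18834 = n39809 := rfl
def n39810 : Q := act 5 n18834
theorem D39810 : act 5 n18834 = n39810 := rfl
theorem F60637 : act 1 n39810 = n35632 := d17_6 (iv1 D8828) (iv5 D3932) D3930 D8820 D18834 D39810 (iv5 D35632) F43126 (iv4 D18857)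
def n39811 : Q := act 6 n18834
theorem D39811 : act 6 n18834 = n39811 := rfl
theorem F60638 : act 4 n39811 = n18835 := d10_1 D39811 (iv6 D18835) D18834
def n39813 : Q := act 3 n18839
theorem D39813 : act 3 n18839 = n39813 := rfl
def n39818 : Q := act 3 n18840
theorem D39818 : act 3 n18840 = n39818 := rfl
def n39822 : Q := act 4 n18841
theorem D39822 : act 4 n18841 = n39822 := rfl
theorem F60641 : act 2 n39822 = n18842 := d1_1 D39822 (iv4 D18842) D18841
def n39823 : Q := act 5 n18841
theorem D39823 : act 5 n18841 = n39823 := rfl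
theorem F60642 : act 2 n39823 = n18843 := d2_1 D39823 (iv5 D18843) D18841
def n39824 : Q := act 6 n18841
theorem D39824 : act 6 n18841 = n39824 := rfl
theorem F60643 : act 2 n39824 = n18844 := d3_1 D39824 (iv6 D18844) D18841
def n39825 : Q := act 0 n18842
theorem D39825 : act 0 n18842 = n39825 := rfl
def n39826 : Q := act 1 n18842
theorem D39826 : act 1 n18842 = n39826 := rfl
def n39827 : Q := act 5 n18842
theorem D39827 : act 5 n18842 = n39827 := rfl
def n39828 : Q := act 6 n18842
theorem D39828 : act 6 n18842 = n39828 := rfl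
theorem F60644 : act 4 n39828 = n18844 := d10_1 D39828 (iv6 D18844) D18842
def n39829 : Q := act 0 n18843
theorem D39829 : act 0 n18843 = n39829 := rfl
def n39830 : Q := act 1 n18843
theorem D39830 : act 1 n18843 = n39830 := rfl
def n39831 : Q := act 4 n18843
theorem D39831 : act 4 n18843 = n39831 := rfl
def n39832 : Q := act 0 n18844
theorem D39832 : act 0 n18844 = n39832 := rfl
def n39833 : Q := act 1 n18844
theorem D39833 : act 1 n18844 = n39833 := rfl
def n39834 : Q := act 5 n18844
theorem D39834 : act 5 n18844 = n39834 := rfl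
theorem F60646 : act 7 n39834 = n37725 := d13_2 F60192 D39834 (iv5 F60191)
def n39835 : Q := act 3 n18848
theorem D39835 : act 3 n18848 = n39835 := rfl
def n39836 : Q := act 5 n18848
theorem D39836 : act 5 n18848 = n39836 := rfl
theorem F60647 : act 0 n39836 = n35632 := d17_2 F57698 D39836 (iv5 D35632) (iv4 D17266) (iv5 D8095) (iv0 F28954) D16413 F28961 D36786
theorem F60648 : act 0 n26958 = n35879 := d21_4 (iv5 F13737) F13738 (iv5 F21407) D26958 F56533 D39836 F60647 (iv5 D35632) F28209 F13049
def n39837 : Q := act 0 n18852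
theorem D39837 : act 0 n18852 = n39837 := rfl
def n39838 : Q := act 1 n18852
theorem D39838 : act 1 n18852 = n39838 := rfl
def n39839 : Q := act 2 n18852
theorem D39839 : act 2 n18852 = n39839 := rfl
def n39840 : Q := act 4 n18852
theorem D39840 : act 4 n18852 = n39840 := rfl
def n39841 : Q := act 6 n18852
theorem D39841 : act 6 n18852 = n39841 := rfl
theorem F60649 : act 3 n39841 = n18854 := d7_1 D39841 (iv6 D18854) D18852
def n39842 : Q := act 3 n18853
theorem D39842 : act 3 n18853 = n39842 := rfl
def n39843 : Q := act 5 n18853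
theorem D39843 : act 5 n18853 = n39843 := rfl
def n39844 : Q := act 6 n18853
theorem D39844 : act 6 n18853 = n39844 := rfl
theorem F60650 : act 4 n39844 = n18854 := d10_1 D39844 (iv6 D18854) D18853
def n39845 : Q := act 0 n18854
theorem D39845 : act 0 n18854 = n39845 := rfl
def n39846 : Q := act 1 n18854
theorem D39846 : act 1 n18854 = n39846 := rfl
def n39847 : Q := act 0 n18856
theorem D39847 : act 0 n18856 = n39847 := rfl
def n39848 : Q := act 1 n18856
theorem D39848 : act 1 n18856 = n39848 := rfl
def n39849 : Q := act 2 n18856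
theorem D39849 : act 2 n18856 = n39849 := rfl
def n39850 : Q := act 4 n18856
theorem D39850 : act 4 n18856 = n39850 := rfl
def n39851 : Q := act 3 n18857
theorem D39851 : act 3 n18857 = n39851 := rfl
def n39852 : Q := act 5 n18857
theorem D39852 : act 5 n18857 = n39852 := rfl
def n39853 : Q := act 3 n18859
theorem D39853 : act 3 n18859 = n39853 := rfl
def n39854 : Q := act 5 n18859
theorem D39854 : act 5 n18859 = n39854 := rfl
def n39855 : Q := act 6 n18859
theorem D39855 : act 6 n18859 = n39855 := rfl
theorem F60651 : act 4 n39855 = n35822 := d10_1 D39855 (iv6 D35822) (iv4 F41677)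
def n39856 : Q := act 3 n18860
theorem D39856 : act 3 n18860 = n39856 := rfl
def n39857 : Q := act 5 n18860
theorem D39857 : act 5 n18860 = n39857 := rfl
def n39858 : Q := act 0 n18861
theorem D39858 : act 0 n18861 = n39858 := rfl
def n39859 : Q := act 1 n18861
theorem D39859 : act 1 n18861 = n39859 := rfl
def n39860 : Q := act 2 n18861
theorem D39860 : act 2 n18861 = n39860 := rfl
theorem F60652 : act 6 n39860 = n18884 := d3_2 (iv6 F30101) D39860 (iv2 D18884)
def n39861 : Q := act 5 n18861
theorem D39861 : act 5 n18861 = n39861 := rfl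
theorem F60653 : act 3 n39861 = n18862 := d6_1 D39861 (iv5 D18862) D18861
def n39862 : Q := act 0 n18862
theorem D39862 : act 0 n18862 = n39862 := rfl
def n39863 : Q := act 1 n18862
theorem D39863 : act 1 n18862 = n39863 := rfl
def n39864 : Q := act 4 n18863
theorem D39864 : act 4 n18863 = n39864 := rfl
theorem F60654 : act 2 n39864 = n34425 := d1_1 D39864 (iv4 D34425) F30103
theorem F60655 : act 7 n39864 = n34422 := d11_2 F30104 D39864 (iv4 D34422)
def n39865 : Q := act 6 n18863
theorem D39865 : act 6 n18863 = n39865 := rfl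
theorem F60656 : act 2 n39865 = n34426 := d3_1 D39865 (iv6 D34426) F30103
theorem F60657 : act 5 n39865 = n39865 := d12_1 D39865 (iv6 D39865) F30102 F27349 (iv5 F30102)
def n39866 : Q := act 3 n18864
theorem D39866 : act 3 n18864 = n39866 := rfl
theorem F60658 : act 5 n39866 = n19221 := d6_2 (iv5 F30106) D39866 F30875
theorem F60659 : act 7 n39866 = n34424 := d8_2 (iv7 F30105) D39866 F54624
theorem F60660 : act 0 n19412 = n39866 := d17_2 F28494 D19412 F60658 F30876 D20105 (iv0 F57159) (iv5 D36411) (iv0 F28564) (iv4 F28491)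
theorem F60661 : act 1 n19409 = n39866 := d17_6 F17519 D4319 (iv1 F17553) (iv5 D9105) D9104 D19409 F60658 (iv0 F30877) F14520
def n39867 : Q := act 4 n18864
theorem D39867 : act 4 n18864 = n39867 := rfl
theorem F60662 : act 2 n39867 = n34422 := d1_1 D39867 (iv4 D34422) F30107
theorem F60663 : act 7 n39867 = n34425 := d11_2 (iv7 F30105) D39867 (iv4 D34425)
def n39868 : Q := act 6 n18864
theorem D39868 : act 6 n18864 = n39868 := rfl
theorem F60664 : act 2 n39868 = n34423 := d3_1 D39868 (iv6 D34423) F30107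
theorem F60665 : act 5 n39868 = n21603 := d12_1 D39868 (iv6 D21603) (iv5 D10318) (iv6 F16865) (iv5 F30106)
def n39869 : Q := act 0 n18865
theorem D39869 : act 0 n18865 = n39869 := rfl
theorem F60666 : act 4 n39869 = n36259 := d18_3 (iv1 D18864) D18865 D39869 F57001 (iv4 D19116) F13935 (iv4 F12252) (iv0 F14686) (iv5 F30106)
theorem F60667 : act 2 n36260 = n39869 := d1_3 F60666 (iv2 D36259) D36260
def n39870 : Q := act 1 n18865
theorem D39870 : act 1 n18865 = n39870 := rfl
theorem F60668 : act 7 n39870 = n36260 := d15_2 (iv0 D39869) D39870 F60667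
theorem F60669 : act 4 n39870 = n21763 := d18_7 (iv1 D10251) F6725 F16765 (iv4 F5866) D8832 D18865 D39870 F34205 (iv5 D21477)
def n39871 : Q := act 3 n18865
theorem D39871 : act 3 n18865 = n39871 := rfl
theorem F60670 : act 4 n39871 = n18866 := d5_2 D18865 D39871 (iv3 D18866) (iv4 D8833) (iv3 F13724)
def n39872 : Q := act 5 n18865
theorem D39872 : act 5 n18865 = n39872 := rfl
def n39873 : Q := act 0 n18866
theorem D39873 : act 0 n18866 = n39873 := rfl
def n39874 : Q := act 1 n18866
theorem D39874 : act 1 n18866 = n39874 := rfl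
def n39875 : Q := act 2 n18866
theorem D39875 : act 2 n18866 = n39875 := rfl
theorem F60671 : act 3 n39875 = n34450 := d0_2 D18866 D39875 (iv2 D34450) (iv3 D16708) (iv2 F13725)
def n39876 : Q := act 4 n18867
theorem D39876 : act 4 n18867 = n39876 := rfl
theorem F60672 : act 2 n39876 = n34439 := d1_1 D39876 (iv4 D34439) (iv2 F30111)
theorem F60673 : act 7 n39876 = n34442 := d11_2 (iv7 F30109) D39876 (iv4 D34442)
def n39877 : Q := act 6 n18867
theorem D39877 : act 6 n18867 = n39877 := rfl
theorem F60674 : act 2 n39877 = n34440 := d3_1 D39877 (iv6 D34440) (iv2 F30111)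
theorem F60675 : act 5 n39877 = n39877 := d12_1 D39877 (iv6 D39877) (iv5 F30110) F21698 F30110
def n39878 : Q := act 0 n18868
theorem D39878 : act 0 n18868 = n39878 := rfl
theorem F60676 : act 4 n39878 = n35547 := d18_3 (iv1 D18867) D18868 D39878 (iv5 D35547) F28166 F17001 F5895 D8858 F30110
theorem F60677 : act 1 n34436 = n39878 := d15_0 (iv0 D39878) F30112 (iv2 F54639)
theorem F60678 : act 2 n34445 = n39878 := d1_3 F60676 F56214 F54647
theorem F60679 : act 7 n34444 = n39878 := d15_2 (iv0 F58381) F58382 (iv2 F60678)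
def n39879 : Q := act 1 n18868
theorem D39879 : act 1 n18868 = n39879 := rfl
theorem F60680 : act 1 n39879 = n34436 := d15_1 D39879 (iv7 F58380) F58379
theorem F60681 : act 7 n39879 = n34445 := d15_2 (iv0 D39878) D39879 F60678
theorem F60682 : act 4 n39879 = n27065 := d18_7 F17375 F12805 F13348 F5869 D8836 D18868 D39879 (iv0 F43723) (iv5 D22946)
theorem F60683 : act 2 n34444 = n39879 := d4_3 F60681 F60678 (iv7 F60679)
def n39880 : Q := act 3 n18868
theorem D39880 : act 3 n18868 = n39880 := rfl
theorem F60684 : act 4 n39880 = n18870 := d5_2 D18868 D39880 (iv3 D18870) (iv4 D8837) (iv3 F13734)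
theorem F60685 : act 7 n39880 = n34446 := d8_2 (iv7 F30112) D39880 (iv3 D34446)
def n39881 : Q := act 5 n18868
theorem D39881 : act 5 n18868 = n39881 := rfl
theorem F60686 : act 7 n39881 = n34447 := d13_2 (iv7 F30112) D39881 (iv5 D34447)
def n39882 : Q := act 6 n18868
theorem D39882 : act 6 n18868 = n39882 := rfl
theorem F60687 : act 4 n39882 = n18869 := d10_1 D39882 (iv6 D18869) D18868
def n39883 : Q := act 0 n18869
theorem D39883 : act 0 n18869 = n39883 := rfl
def n39884 : Q := act 1 n18869
theorem D39884 : act 1 n18869 = n39884 := rfl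
def n39885 : Q := act 0 n18870
theorem D39885 : act 0 n18870 = n39885 := rfl
theorem F60688 : act 1 n34450 = n39885 := d15_0 (iv0 D39885) F30115 D34450
def n39886 : Q := act 1 n18870
theorem D39886 : act 1 n18870 = n39886 := rfl
def n39887 : Q := act 2 n18870
theorem D39887 : act 2 n18870 = n39887 := rfl
theorem F60689 : act 5 n39887 = n34432 := d2_2 (iv5 F30114) D39887 (iv2 D34432)
theorem F60690 : act 7 n39887 = n34450 := d4_2 (iv7 F30115) D39887 (iv2 D34450)
theorem F60691 : act 1 n39887 = n34448 := d15_0 (iv0 D34448) (iv7 F30115) D39887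
theorem F60692 : act 1 n39886 = n34450 := d15_1 D39886 (iv7 F60690) (iv2 D39887)
theorem F60693 : act 1 n34449 = n39887 := d15_1 D34449 F60690 (iv2 D34450)
def n39888 : Q := act 6 n18870
theorem D39888 : act 6 n18870 = n39888 := rfl
theorem F60694 : act 3 n39888 = n18871 := d7_1 D39888 (iv6 D18871) D18870
def n39889 : Q := act 0 n18871
theorem D39889 : act 0 n18871 = n39889 := rfl
theorem F60695 : act 6 n39889 = n26944 := d21_5 (iv5 F13048) F13049 (iv5 F13737) D18871 D39889 (iv5 F60078) (iv1 D39077) (iv5 D18557) F13622 (iv1 F13034)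
theorem F60696 : act 2 n35714 = n39889 := d3_3 F60695 F43452 D35714
theorem F60697 : act 4 n26945 = n39889 := d10_3 F60695 (iv4 D26944) D26945
theorem F60698 : act 7 n36459 = n39889 := d14_0 F60695 F43453 D35675 (iv7 F60634) (iv6 F60636)
theorem F60699 : act 1 n27912 = n36459 := d15_1 (iv0 F56404) F60698 (iv2 F60696)
theorem F60700 : act 1 n36459 = n39271 := d15_1 F60699 F60238 (iv2 F45073)
def n39890 : Q := act 1 n18871
theorem D39890 : act 1 n18871 = n39890 := rfl
theorem F60701 : act 7 n39890 = n35714 := d15_2 (iv0 D39889) D39890 F60696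
theorem F60702 : act 2 n36459 = n39890 := d4_3 F60701 F60696 (iv7 F60698)
theorem F60703 : act 4 n27111 = n39890 := d11_3 F60701 F56403 (iv7 F43824)
theorem F60704 : act 1 n18876 = n35856 := d18_6 (iv1 F43823) F60703 (iv1 D39890) F30116 (iv5 F13744) (iv4 F30120) (iv4 D35856) F43492 F43490
theorem F60705 : act 1 n35856 = n39081 := d15_1 F60704 F60085 F45086
def n39891 : Q := act 3 n18872
theorem D39891 : act 3 n18872 = n39891 := rfl
def n39892 : Q := act 4 n18872
theorem D39892 : act 4 n18872 = n39892 := rfl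
def n39893 : Q := act 0 n18873
theorem D39893 : act 0 n18873 = n39893 := rfl
theorem F60706 : act 4 n39893 = n27226 := d18_3 F27381 D18873 D39893 (iv5 D27226) F21738 F16996 F5869 (iv0 F13348) D16701
theorem F60707 : act 2 n36476 = n39893 := d15_3 (iv0 D39893) (iv0 F56026) (iv7 F57288)
def n39894 : Q := act 3 n18873
theorem D39894 : act 3 n18873 = n39894 := rfl
theorem F60708 : act 4 n39894 = n18875 := d5_2 D18873 D39894 (iv3 D18875) (iv4 D8840) D8839
def n39895 : Q := act 5 n18873
theorem D39895 : act 5 n18873 = n39895 := rfl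
def n39896 : Q := act 6 n18873
theorem D39896 : act 6 n18873 = n39896 := rfl
theorem F60709 : act 4 n39896 = n18874 := d10_1 D39896 (iv6 D18874) D18873
def n39897 : Q := act 0 n18874
theorem D39897 : act 0 n18874 = n39897 := rfl
def n39898 : Q := act 1 n18874
theorem D39898 : act 1 n18874 = n39898 := rfl
def n39899 : Q := act 7 n18874
theorem D39899 : act 7 n18874 = n39899 := rfl
theorem F60710 : act 3 n39899 = n18879 := d8_1 D39899 (iv7 D18879) (iv3 F30117)
theorem F60711 : act 5 n39899 = n39190 := d13_1 D39899 F60167 (iv5 F30118)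
theorem F60712 : act 6 n39899 = n27678 := d14_1 D39899 (iv7 D27678) F22010 F13796 D18874
def n39900 : Q := act 0 n18875
theorem D39900 : act 0 n18875 = n39900 := rfl
def n39901 : Q := act 1 n18875
theorem D39901 : act 1 n18875 = n39901 := rfl
def n39902 : Q := act 2 n18875
theorem D39902 : act 2 n18875 = n39902 := rfl
theorem F60713 : act 5 n39902 = n39875 := d2_2 (iv5 F30119) D39902 (iv2 D39875)
def n39903 : Q := act 6 n18875
theorem D39903 : act 6 n18875 = n39903 := rfl
theorem F60714 : act 3 n39903 = n18876 := d7_1 D39903 (iv6 D18876) D18875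
def n39904 : Q := act 0 n18876
theorem D39904 : act 0 n18876 = n39904 := rfl
def n39905 : Q := act 5 n18876
theorem D39905 : act 5 n18876 = n39905 := rfl
theorem F60715 : act 2 n39905 = n39269 := d2_1 D39905 F60233 F45086
theorem F60716 : act 6 n39905 = n27749 := d12_2 D18876 D39905 (iv5 D27749) F22046 (iv5 F13741)
def n39906 : Q := act 7 n18876
theorem D39906 : act 7 n18876 = n39906 := rfl
theorem F60717 : act 2 n39906 = n39081 := d4_1 D39906 F60085 F45086
theorem F60718 : act 4 n39906 = n18879 := d11_1 D39906 (iv7 D18879) (iv4 F30120)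
theorem F60719 : act 6 n39906 = n27701 := d14_1 D39906 (iv7 D27701) F22018 F13800 D18876
theorem F60720 : act 1 n39081 = n39904 := d15_0 (iv0 D39904) D39906 F60717
def n39907 : Q := act 2 n18877
theorem D39907 : act 2 n18877 = n39907 := rfl
theorem F60721 : act 7 n18878 = n39907 := d15_2 (iv0 D18877) D18878 (iv2 D39907)
def n39908 : Q := act 3 n18877
theorem D39908 : act 3 n18877 = n39908 := rfl
def n39909 : Q := act 4 n18877
theorem D39909 : act 4 n18877 = n39909 := rfl
def n39910 : Q := act 5 n18877
theorem D39910 : act 5 n18877 = n39910 := rfl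
theorem F60722 : act 6 n39910 = n39846 := d21_3 (iv5 F13744) D18877 D39910 (iv1 D39846) (iv6 D18854) (iv5 F43156) (iv1 F43212) F45034 F45036 (iv1 D18872)
theorem F60723 : act 0 n34803 = n39910 := d21_10 (iv5 D39910) (iv1 F30125) (iv5 F44798) (iv6 D27751) (iv1 F22050) D18624 F29896 F29127 F27598 D34803
def n39911 : Q := act 6 n18877
theorem D39911 : act 6 n18877 = n39911 := rfl
theorem F60724 : act 5 n39911 = n27919 := d21_6 (iv5 D3663) D3661 (iv5 F5873) D8841 D18877 D39911 (iv1 D27919) F22125 (iv6 D13310) F9825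
theorem F60725 : act 0 n39911 = n35162 := d21_10 F55893 F44783 F44782 (iv6 F45036) (iv1 D27892) D27894 (iv5 F55007) F60723 (iv5 D39910) D39911
def n39912 : Q := act 7 n18877
theorem D39912 : act 7 n18877 = n39912 := rfl
theorem F60726 : act 2 n39912 = n18878 := d4_1 D39912 F60721 (iv2 D39907)
def n39913 : Q := act 3 n18878
theorem D39913 : act 3 n18878 = n39913 := rfl
def n39914 : Q := act 4 n18878
theorem D39914 : act 4 n18878 = n39914 := rfl
def n39915 : Q := act 5 n18878
theorem D39915 : act 5 n18878 = n39915 := rfl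
theorem F60727 : act 0 n39915 = n34803 := d21_1 D39915 F55007 (iv6 D27894) (iv1 F29150) F29149 (iv5 D13216) (iv1 F9777) (iv5 F13623) D18559 (iv1 F30121)
theorem F60728 : act 6 n39915 = n27918 := d21_3 F44798 (iv1 F30121) D39915 (iv1 F45088) F30124 F22020 (iv1 F9778) D8706 D18542 F44800
theorem F60729 : act 6 n39845 = n18878 := d21_5 (iv5 D17983) (iv1 F43155) F43156 D18854 D39845 D39915 F60727 F55007 (iv6 D27894) (iv1 F29150)
def n39916 : Q := act 0 n18880
theorem D39916 : act 0 n18880 = n39916 := rfl
theorem F60730 : act 1 n26972 = n39916 := d15_0 (iv0 D39916) F30127 D26972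
def n39917 : Q := act 1 n18880
theorem D39917 : act 1 n18880 = n39917 := rfl
def n39918 : Q := act 2 n18880
theorem D39918 : act 2 n18880 = n39918 := rfl
theorem F60731 : act 3 n39918 = n35824 := d0_2 D18880 D39918 (iv2 F56487) F28294 F13749
theorem F60732 : act 5 n39918 = n27110 := d2_2 (iv5 F30126) D39918 (iv2 D27110)
theorem F60733 : act 7 n39918 = n26972 := d4_2 (iv7 F30127) D39918 (iv2 D26972)
theorem F60734 : act 1 n39918 = n26970 := d15_0 (iv0 D26970) (iv7 F30127) D39918
theorem F60735 : act 1 n39917 = n26972 := d15_1 D39917 (iv7 F60733) (iv2 D39918)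
theorem F60736 : act 1 n26971 = n39918 := d15_1 D26971 F60733 (iv2 D26972)
def n39919 : Q := act 4 n18880
theorem D39919 : act 4 n18880 = n39919 := rfl
theorem F60737 : act 3 n39919 = n26928 := d5_1 D39919 F43422 F21392 (iv4 F13747) D18880
theorem F60738 : act 7 n39919 = n26926 := d11_2 (iv7 F30127) D39919 F43421
def n39920 : Q := act 6 n18880
theorem D39920 : act 6 n18880 = n39920 := rfl
theorem F60739 : act 3 n39920 = n18881 := d7_1 D39920 (iv6 D18881) D18880
def n39921 : Q := act 0 n18881
theorem D39921 : act 0 n18881 = n39921 := rfl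
def n39922 : Q := act 1 n18881
theorem D39922 : act 1 n18881 = n39922 := rfl
theorem F60740 : act 1 n39922 = n35749 := d15_1 D39922 F56424 (iv2 F30128)
def n39923 : Q := act 5 n18881
theorem D39923 : act 5 n18881 = n39923 := rfl
theorem F60741 : act 2 n39923 = n35848 := d2_1 D39923 (iv5 D35848) (iv2 F30128)
theorem F60742 : act 6 n39923 = n27105 := d12_2 D18881 D39923 (iv5 D27105) F21579 (iv5 F13748)
def n39924 : Q := act 7 n18881
theorem D39924 : act 7 n18881 = n39924 := rfl
theorem F60743 : act 2 n39924 = n35749 := d4_1 D39924 F56424 (iv2 F30128)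
theorem F60744 : act 4 n39924 = n26956 := d11_1 D39924 F43491 (iv4 F30129)
theorem F60745 : act 6 n39924 = n26955 := d14_1 D39924 (iv7 D26955) F21399 (iv7 F13746) D18881
theorem F60746 : act 1 n35749 = n39921 := d15_0 (iv0 D39921) D39924 F60743
theorem F60747 : act 1 n35847 = n39924 := d15_1 D35847 (iv7 D39924) F30128
theorem F60748 : act 1 n39924 = n35846 := d15_0 (iv0 D35846) (iv7 F56424) (iv2 F60743)
def n39925 : Q := act 2 n18882
theorem D39925 : act 2 n18882 = n39925 := rfl
theorem F60749 : act 7 n18883 = n39925 := d15_2 (iv0 D18882) D18883 (iv2 D39925)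
def n39926 : Q := act 3 n18882
theorem D39926 : act 3 n18882 = n39926 := rfl
def n39927 : Q := act 4 n18882
theorem D39927 : act 4 n18882 = n39927 := rfl
def n39928 : Q := act 5 n18882
theorem D39928 : act 5 n18882 = n39928 := rfl
def n39929 : Q := act 6 n18882
theorem D39929 : act 6 n18882 = n39929 := rfl
def n39930 : Q := act 7 n18882
theorem D39930 : act 7 n18882 = n39930 := rfl
theorem F60750 : act 2 n39930 = n18883 := d4_1 D39930 F60749 (iv2 D39925)
def n39931 : Q := act 3 n18883
theorem D39931 : act 3 n18883 = n39931 := rfl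
def n39932 : Q := act 4 n18883
theorem D39932 : act 4 n18883 = n39932 := rfl
def n39933 : Q := act 5 n18883
theorem D39933 : act 5 n18883 = n39933 := rfl
def n39934 : Q := act 6 n18883
theorem D39934 : act 6 n18883 = n39934 := rfl
def n39935 : Q := act 0 n18885
theorem D39935 : act 0 n18885 = n39935 := rfl
def n39936 : Q := act 1 n18885
theorem D39936 : act 1 n18885 = n39936 := rfl
theorem F60751 : act 1 n39936 = n18894 := d15_1 D39936 (iv7 D18894) (iv2 F30130)
theorem F60752 : act 3 n27572 = n39936 := d20_3 (iv4 F44356) (iv1 F44358) D27572 (iv1 D39936) F30131 (iv4 F30228) F44490 (iv4 D27592) (iv3 D13183) (iv1 F21916)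
def n39937 : Q := act 7 n18885
theorem D39937 : act 7 n18885 = n39937 := rfl
theorem F60753 : act 2 n39937 = n18894 := d4_1 D39937 (iv7 D18894) (iv2 F30130)
theorem F60754 : act 3 n39937 = n18935 := d8_1 D39937 (iv7 D18935) (iv3 F30131)
theorem F60755 : act 5 n39937 = n36648 := d13_1 D39937 (iv7 D36648) (iv5 F30132)
theorem F60756 : act 6 n39937 = n35604 := d14_1 D39937 (iv7 D35604) (iv6 D17246) (iv7 F13755) D18885
theorem F60757 : act 1 n18894 = n39935 := d15_0 (iv0 D39935) D39937 F60753
theorem F60758 : act 1 n18893 = n39937 := d15_1 D18893 (iv7 D39937) F30130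
theorem F60759 : act 1 n39937 = n18892 := d15_0 (iv0 D18892) D18894 (iv2 F60753)
def n39938 : Q := act 3 n18886
theorem D39938 : act 3 n18886 = n39938 := rfl
theorem F60760 : act 4 n39938 = n27423 := d5_2 D18886 D39938 (iv3 D27423) (iv4 F27956) F27953
theorem F60761 : act 7 n39938 = n27529 := d8_2 (iv7 F30134) D39938 F44420
def n39939 : Q := act 5 n18886
theorem D39939 : act 5 n18886 = n39939 := rfl
theorem F60762 : act 2 n39939 = n35182 := d2_1 D39939 (iv5 D35182) (iv2 F30133)
theorem F60763 : act 7 n39939 = n35174 := d13_2 (iv7 F30134) D39939 (iv5 D35174)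
theorem F60764 : act 4 n39939 = n36652 := d16_2 D18886 D39939 F57523 (iv4 D18239) F13515 (iv4 F12340) (iv5 F13761) (iv7 F13763) (iv2 F13765)
def n39940 : Q := act 6 n18886
theorem D39940 : act 6 n18886 = n39940 := rfl
theorem F60765 : act 2 n39940 = n35183 := d3_1 D39940 (iv6 D35183) (iv2 F30133)
theorem F60766 : act 4 n39940 = n18887 := d10_1 D39940 (iv6 D18887) D18886
def n39941 : Q := act 0 n18887
theorem D39941 : act 0 n18887 = n39941 := rfl
def n39942 : Q := act 1 n18887
theorem D39942 : act 1 n18887 = n39942 := rfl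
def n39943 : Q := act 7 n18887
theorem D39943 : act 7 n18887 = n39943 := rfl
theorem F60768 : act 2 n39943 = n35187 := d4_1 D39943 (iv7 D35187) (iv2 F30137)
theorem F60769 : act 6 n39943 = n35179 := d14_1 D39943 (iv7 D35179) (iv6 D17078) (iv7 F13766) D18887
theorem F60771 : act 1 n35185 = n39943 := d15_1 D35185 (iv7 D39943) F30137
theorem F60772 : act 1 n39943 = n35184 := d15_0 (iv0 D35184) D35187 (iv2 F60768)
def n39944 : Q := act 3 n18888
theorem D39944 : act 3 n18888 = n39944 := rfl
theorem F60773 : act 4 n39944 = n37187 := d5_2 D18888 D39944 (iv3 D37187) F29059 (iv3 F16145)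
theorem F60774 : act 7 n39944 = n35181 := d8_2 (iv7 F30139) D39944 (iv3 D35181)
def n39945 : Q := act 5 n18888
theorem D39945 : act 5 n18888 = n39945 := rfl
theorem F60775 : act 2 n39945 = n35174 := d2_1 D39945 (iv5 D35174) (iv2 F30138)
theorem F60776 : act 4 n39945 = n36651 := d9_1 D39945 F57517 (iv4 D18270) F13532 (iv4 F12344) F13764 D18886 D39939 F60764 F57523 (iv4 D18239) F13515 (iv4 F12340) (iv5 F13761) D18888
theorem F60777 : act 7 n39945 = n35182 := d13_2 (iv7 F30139) D39945 (iv5 D35182)
def n39946 : Q := act 6 n18888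
theorem D39946 : act 6 n18888 = n39946 := rfl
theorem F60778 : act 2 n39946 = n35175 := d3_1 D39946 (iv6 D35175) (iv2 F30138)
theorem F60779 : act 4 n39946 = n18889 := d10_1 D39946 (iv6 D18889) D18888
def n39947 : Q := act 0 n18889
theorem D39947 : act 0 n18889 = n39947 := rfl
def n39948 : Q := act 1 n18889
theorem D39948 : act 1 n18889 = n39948 := rfl
theorem F60780 : act 1 n39948 = n35179 := d15_1 D39948 (iv7 D35179) (iv2 F30142)
def n39949 : Q := act 7 n18889
theorem D39949 : act 7 n18889 = n39949 := rfl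
theorem F60781 : act 2 n39949 = n35179 := d4_1 D39949 (iv7 D35179) (iv2 F30142)
theorem F60782 : act 6 n39949 = n35187 := d14_1 D39949 (iv7 D35187) (iv6 D17082) F13763 D18889
theorem F60783 : act 1 n35179 = n39947 := d15_0 (iv0 D39947) D39949 F60781
theorem F60784 : act 1 n35177 = n39949 := d15_1 D35177 (iv7 D39949) F30142
theorem F60785 : act 1 n39949 = n35176 := d15_0 (iv0 D35176) D35179 (iv2 F60781)
def n39950 : Q := act 6 n18890
theorem D39950 : act 6 n18890 = n39950 := rfl
def n39951 : Q := act 5 n18891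
theorem D39951 : act 5 n18891 = n39951 := rfl
def n39952 : Q := act 2 n18892
theorem D39952 : act 2 n18892 = n39952 := rfl
theorem F60786 : act 7 n18893 = n39952 := d15_2 (iv0 D18892) D18893 (iv2 D39952)
def n39953 : Q := act 3 n18892
theorem D39953 : act 3 n18892 = n39953 := rfl
theorem F60787 : act 4 n39953 = n27435 := d20_6 D3926 F30047 F10564 (iv3 F13774) D18892 D39953 (iv1 F44357) F21964 F9760 (iv1 F4240)
def n39954 : Q := act 4 n18892
theorem D39954 : act 4 n18892 = n39954 := rfl
theorem F60788 : act 0 n39954 = n39681 := d20_1 D39954 (iv4 D39681) (iv3 D18780) (iv1 D8804) (iv3 D3925) D3926 F30047 F10564 (iv3 F13774) D18892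
def n39955 : Q := act 5 n18892
theorem D39955 : act 5 n18892 = n39955 := rfl
def n39956 : Q := act 6 n18892
theorem D39956 : act 6 n18892 = n39956 := rfl
theorem F60789 : act 5 n39956 = n39936 := d21_6 F13317 (iv1 D3940) D3942 D8849 D18892 D39956 (iv1 D39936) F30132 (iv6 D17663) (iv1 F13130)
def n39957 : Q := act 7 n18892
theorem D39957 : act 7 n18892 = n39957 := rfl
theorem F60790 : act 2 n39957 = n18893 := d4_1 D39957 F60786 (iv2 D39952)
def n39958 : Q := act 3 n18893
theorem D39958 : act 3 n18893 = n39958 := rfl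
theorem F60791 : act 4 n39508 = n39958 := d20_2 D18718 D39508 (iv3 D39958) (iv1 D18893) F13774 (iv4 F10564) (iv1 F30046) (iv4 D3921) D3920 D8781
theorem E6047 : n38768 = n8781 := (c20_6 (iv4 F30144) (iv1 F59495) (iv4 D38714) (iv3 F59088) (iv1 F59092) D38768 D18718 D39508 F60791 (iv3 D39958) (iv1 D18893))
theorem E6048 : n18717 = n18436 := ((D18717).symm.trans (sb E6047 (iv3 D38768)))
theorem F60792 : act 3 n18436 = n8781 := (sb E6048 (iv3 D18717))
theorem E6053 : n39505 = n38770 := (((D38770).symm.trans (sb E6048 D39505))).symm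
theorem E6055 : n39507 = n38762 := (((F59668).symm.trans (sb E6048 D39507))).symm
theorem F60793 : act 3 n38770 = n18719 := (sb E6053 F60405)
theorem F60795 : act 3 n38762 = n18721 := (sb E6055 F60407)
theorem E6056 : n39525 = n38763 := (c0_4 F60795 F29969 D18722 D39525 (iv3 D38763) D38762)
theorem F60796 : act 2 n38763 = n18722 := (sb E6056 (iv2 D39525))
theorem F60797 : act 4 n21434 = n39509 := d20_0 (iv1 D39509) (iv4 D18718) (iv3 F60792) (iv1 D18436) (iv3 D8671) D8672 F59687 (iv4 F32909) F32908 D21434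
def n39959 : Q := act 4 n18893
theorem D39959 : act 4 n18893 = n39959 := rfl
def n39960 : Q := act 5 n18893
theorem D39960 : act 5 n18893 = n39960 := rfl
theorem F60798 : act 6 n39960 = n39935 := d21_9 F30146 (iv1 F57505) (iv5 F57506) (iv6 D35224) (iv1 F55942) (iv6 F57509) (iv5 F60755) (iv1 F60758) D39960 (iv1 F60757)
def n39961 : Q := act 6 n18893
theorem D39961 : act 6 n18893 = n39961 := rfl
def n39962 : Q := act 4 n18896
theorem D39962 : act 4 n18896 = n39962 := rfl
theorem F60799 : act 2 n39962 = n36103 := d1_1 D39962 (iv4 D36103) (iv2 F59699)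
theorem F60800 : act 3 n39962 = n27794 := d5_1 D39962 (iv4 D27794) (iv3 D13264) (iv4 F29956) D18896
theorem F60801 : act 7 n39962 = n19033 := d11_2 (iv7 F30404) D39962 (iv4 D19033)
theorem F60802 : act 0 n39658 = n39962 := d20_7 F30050 (iv1 F13668) (iv4 D3926) D3925 D8803 D18775 D39658 (iv4 D39962) (iv3 D18896) (iv1 F13780)
def n39963 : Q := act 0 n18898
theorem D39963 : act 0 n18898 = n39963 := rfl
theorem F60803 : act 1 n19021 = n39963 := d15_0 (iv0 D39963) F30397 D19021
def n39964 : Q := act 1 n18898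
theorem D39964 : act 1 n18898 = n39964 := rfl
def n39965 : Q := act 2 n18898
theorem D39965 : act 2 n18898 = n39965 := rfl
theorem F60804 : act 3 n39965 = n19032 := d0_2 D18898 D39965 (iv2 D19032) (iv3 D8911) F30393
theorem F60805 : act 7 n39965 = n19021 := d4_2 (iv7 F30397) D39965 (iv2 D19021)
theorem F60806 : act 1 n39965 = n19019 := d15_0 (iv0 D19019) (iv7 F30397) D39965
theorem F60807 : act 1 n39964 = n19021 := d15_1 D39964 (iv7 F60805) (iv2 D39965)
theorem F60808 : act 1 n19020 = n39965 := d15_1 D19020 F60805 (iv2 D19021)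
def n39966 : Q := act 4 n18898
theorem D39966 : act 4 n18898 = n39966 := rfl
theorem F60809 : act 3 n39966 = n27805 := d5_1 D39966 (iv4 D27805) (iv3 D13269) (iv4 F29958) D18898
theorem F60810 : act 7 n39966 = n19022 := d11_2 (iv7 F30397) D39966 (iv4 D19022)
def n39967 : Q := act 4 n18900
theorem D39967 : act 4 n18900 = n39967 := rfl
theorem F60812 : act 2 n39967 = n18902 := d1_1 D39967 (iv4 D18902) (iv2 F30154)
theorem F60813 : act 7 n39967 = n37505 := d11_2 (iv7 F30156) D39967 (iv4 D37505)
theorem F60814 : act 0 n39967 = n35311 := d18_2 F30158 D39967 (iv4 D35311) (iv5 D17140) F12805 F13732 F12257 (iv0 F16995) D13046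
theorem F60815 : act 1 n39967 = n39893 := d18_6 F31203 (iv4 F31199) F28185 F13794 D18900 D39967 F60706 F56024 F56023
def n39968 : Q := act 0 n18902
theorem D39968 : act 0 n18902 = n39968 := rfl
theorem F60816 : act 4 n39968 = n34437 := d18_3 F13797 D18902 D39968 (iv5 D34437) (iv4 D16703) (iv0 D7792) F5563 F16990 D8492
theorem F60817 : act 2 n35311 = n39968 := d15_3 (iv0 D39968) (iv0 F57289) F57288
theorem F60818 : act 1 n37505 = n39968 := d15_0 (iv0 D39968) F30165 (iv2 F58384)
theorem F60819 : act 7 n39968 = n39893 := d15_2 (iv0 F58385) F60818 (iv2 F60707)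
def n39969 : Q := act 3 n18902
theorem D39969 : act 3 n18902 = n39969 := rfl
theorem F60820 : act 4 n39969 = n18903 := d5_2 D18902 D39969 (iv3 D18903) (iv4 D8860) (iv3 F13795)
theorem F60821 : act 7 n39969 = n39894 := d8_2 (iv7 F30165) D39969 (iv3 D39894)
def n39970 : Q := act 5 n18902
theorem D39970 : act 5 n18902 = n39970 := rfl
theorem F60822 : act 7 n39970 = n39895 := d13_2 (iv7 F30165) D39970 (iv5 D39895)
def n39971 : Q := act 0 n18903
theorem D39971 : act 0 n18903 = n39971 := rfl
theorem F60823 : act 1 n39902 = n39971 := d15_0 (iv0 D39971) F30166 D39902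
def n39972 : Q := act 1 n18903
theorem D39972 : act 1 n18903 = n39972 := rfl
def n39973 : Q := act 2 n18903
theorem D39973 : act 2 n18903 = n39973 := rfl
theorem F60824 : act 3 n39973 = n34432 := d0_2 D18903 D39973 (iv2 D34432) (iv3 D16698) (iv2 F13799)
theorem F60825 : act 7 n39973 = n39902 := d4_2 (iv7 F30166) D39973 (iv2 D39902)
theorem F60826 : act 1 n39973 = n39900 := d15_0 (iv0 D39900) (iv7 F30166) D39973
theorem F60827 : act 1 n39972 = n39902 := d15_1 D39972 (iv7 F60825) (iv2 D39973)
theorem F60828 : act 1 n39901 = n39973 := d15_1 D39901 F60825 (iv2 D39902)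
def n39974 : Q := act 5 n18904
theorem D39974 : act 5 n18904 = n39974 := rfl
theorem F60829 : act 2 n39974 = n36242 := d2_1 D39974 (iv5 D36242) (iv2 F30167)
theorem F60830 : act 3 n39974 = n18905 := d6_1 D39974 (iv5 D18905) (iv3 F30168)
theorem F60831 : act 6 n39974 = n37294 := d12_2 D18904 D39974 (iv5 D37294) (iv6 D17918) (iv5 F13805)
theorem F60832 : act 7 n39974 = n21550 := d13_2 (iv7 F30170) D39974 (iv5 D21550)
theorem F60833 : act 0 n39974 = n20248 := d17_2 F30171 D39974 (iv5 D20248) (iv4 D9562) (iv5 F17526) (iv0 D9336) (iv5 D4221) (iv0 F7024) (iv4 F13903)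
theorem F60834 : act 1 n39974 = n19833 := d17_6 (iv1 F17587) D19479 F31700 (iv5 D19859) (iv4 F30169) D39974 (iv5 D19833) F30730 (iv4 D19123)
def n39975 : Q := act 4 n18905
theorem D39975 : act 4 n18905 = n39975 := rfl
theorem F60835 : act 2 n39975 = n34419 := d1_1 D39975 (iv4 D34419) (iv2 F30173)
theorem F60836 : act 6 n39975 = n37317 := d10_2 (iv6 F30174) D39975 (iv4 D37317)
theorem F60837 : act 7 n39975 = n21559 := d11_2 (iv7 F30175) D39975 (iv4 D21559)
theorem F60838 : act 0 n39975 = n37217 := d18_2 F30177 D39975 F58171 F33768 F30720 (iv0 D9468) D9471 (iv0 F14687) D16691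
theorem F60839 : act 1 n39975 = n37216 := d18_6 D10250 F16935 (iv1 D9344) (iv4 F13812) D18905 D39975 F58170 (iv0 D21478) (iv5 D10252)
def n39976 : Q := act 3 n18906
theorem D39976 : act 3 n18906 = n39976 := rfl
theorem F60840 : act 4 n39976 = n35598 := d5_2 D18906 D39976 (iv3 D35598) (iv4 D17245) (iv3 F13817)
theorem F60841 : act 5 n39976 = n19353 := d6_2 (iv5 F30179) D39976 (iv3 D19353)
theorem F60842 : act 7 n39976 = n18931 := d8_2 (iv7 F30180) D39976 (iv3 D18931)
def n39977 : Q := act 6 n18906
theorem D39977 : act 6 n18906 = n39977 := rfl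
theorem F60843 : act 2 n39977 = n18974 := d3_1 D39977 (iv6 D18974) (iv2 F30178)
theorem F60844 : act 4 n39977 = n18907 := d10_1 D39977 (iv6 D18907) D18906
def n39978 : Q := act 0 n18907
theorem D39978 : act 0 n18907 = n39978 := rfl
def n39979 : Q := act 1 n18907
theorem D39979 : act 1 n18907 = n39979 := rfl
theorem F60845 : act 1 n39979 = n18985 := d15_1 D39979 F30308 (iv2 F30183)
theorem F60846 : act 3 n39979 = n38698 := d20_5 (iv4 F43120) (iv1 F18171) F18167 (iv3 F30307) (iv1 F60845) (iv4 D38698) (iv1 D18405) F13577 F5850 D3930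
theorem F60847 : act 0 n35600 = n38811 := d20_7 (iv4 F58640) (iv1 F58643) D38698 (iv3 F60846) (iv1 D39979) F30184 (iv4 F56277) (iv4 D38811) (iv3 D18450) (iv1 F29296)
def n39980 : Q := act 7 n18907
theorem D39980 : act 7 n18907 = n39980 := rfl
theorem F60848 : act 2 n39980 = n18985 := d4_1 D39980 F30308 (iv2 F30183)
theorem F60849 : act 3 n39980 = n35604 := d8_1 D39980 (iv7 D35604) (iv3 F30184)
theorem F60850 : act 6 n39980 = n18935 := d14_1 D39980 (iv7 D18935) (iv6 D8878) (iv7 F13818) D18907
theorem F60851 : act 1 n18985 = n39978 := d15_0 (iv0 D39978) D39980 F60848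
theorem F60852 : act 1 n18987 = n39980 := d15_1 D18987 (iv7 D39980) F30183
theorem F60853 : act 1 n39980 = n18986 := d15_0 (iv0 D18986) (iv7 F30308) (iv2 F60848)
def n39981 : Q := act 3 n18908
theorem D39981 : act 3 n18908 = n39981 := rfl
theorem F60854 : act 4 n39981 = n21568 := d5_2 (iv4 F30185) D39981 (iv3 D21568) (iv4 D10304) D10303
theorem F60855 : act 7 n39981 = n37289 := d8_2 F30187 D39981 (iv3 D37289)
def n39982 : Q := act 6 n18908
theorem D39982 : act 6 n18908 = n39982 := rfl
theorem F60856 : act 4 n39982 = n21567 := d10_1 D39982 (iv6 D21567) (iv4 F30185)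
def n39983 : Q := act 3 n18909
theorem D39983 : act 3 n18909 = n39983 := rfl
theorem F60857 : act 4 n39983 = n27164 := d5_2 (iv4 F30189) D39983 (iv3 D27164) F21652 F21825
theorem F60858 : act 7 n39983 = n36565 := d8_2 F30789 D39983 F57434
def n39984 : Q := act 6 n18909
theorem D39984 : act 6 n18909 = n39984 := rfl
theorem F60859 : act 2 n39984 = n37291 := d3_1 D39984 (iv6 D37291) F30190
theorem F60860 : act 4 n39984 = n27316 := d10_1 D39984 (iv6 D27316) (iv4 F30189)
def n39985 : Q := act 0 n18910
theorem D39985 : act 0 n18910 = n39985 := rfl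
def n39986 : Q := act 1 n18910
theorem D39986 : act 1 n18910 = n39986 := rfl
def n39987 : Q := act 5 n18910
theorem D39987 : act 5 n18910 = n39987 := rfl
def n39988 : Q := act 7 n18910
theorem D39988 : act 7 n18910 = n39988 := rfl
theorem F60861 : act 4 n39988 = n18913 := d11_1 D39988 (iv7 D18913) (iv4 F30191)
def n39990 : Q := act 3 n18911
theorem D39990 : act 3 n18911 = n39990 := rfl
def n39991 : Q := act 4 n18911
theorem D39991 : act 4 n18911 = n39991 := rfl
def n39992 : Q := act 5 n18911
theorem D39992 : act 5 n18911 = n39992 := rfl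
def n39993 : Q := act 6 n18911
theorem D39993 : act 6 n18911 = n39993 := rfl
def n39997 : Q := act 5 n18912
theorem D39997 : act 5 n18912 = n39997 := rfl
def n39998 : Q := act 6 n18912
theorem D39998 : act 6 n18912 = n39998 := rfl
def n39999 : Q := act 3 n18914
theorem D39999 : act 3 n18914 = n39999 := rfl
theorem F60864 : act 4 n39999 = n18917 := d5_2 D18914 D39999 (iv3 D18917) (iv4 D8870) (iv3 F13828)
theorem F60865 : act 7 n39999 = n37539 := d8_2 (iv7 F30194) D39999 (iv3 D37539)
def n40000 : Q := act 5 n18914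
theorem D40000 : act 5 n18914 = n40000 := rfl
theorem F60866 : act 2 n40000 = n21898 := d2_1 D40000 F34386 (iv2 F30193)
theorem F60867 : act 4 n40000 = n21897 := d9_1 D40000 F34384 F29184 (iv5 D10441) F6850 D4759 D10467 D21933 F34434 F34386 F29189 F16672 F6871 D8868 D18914
theorem F60868 : act 7 n40000 = n21897 := d13_2 (iv7 F30194) D40000 F34384
theorem F60869 : act 0 n40000 = n21899 := d17_2 (iv1 F30196) D40000 F34389 (iv4 D13048) (iv5 D6210) F4200 D3800 F9677 D13052
theorem F60870 : act 1 n40000 = n19542 := d17_6 F14290 F13442 (iv1 F6872) D8868 D18914 D40000 F31279 (iv0 F31194) (iv4 D19488)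
def n40001 : Q := act 6 n18914
theorem D40001 : act 6 n18914 = n40001 := rfl
theorem F60871 : act 2 n40001 = n37541 := d3_1 D40001 (iv6 D37541) (iv2 F30193)
theorem F60872 : act 4 n40001 = n18915 := d10_1 D40001 (iv6 D18915) D18914
def n40002 : Q := act 0 n18915
theorem D40002 : act 0 n18915 = n40002 := rfl
def n40003 : Q := act 1 n18915
theorem D40003 : act 1 n18915 = n40003 := rfl
def n40004 : Q := act 5 n18915
theorem D40004 : act 5 n18915 = n40004 := rfl
theorem F60873 : act 3 n40004 = n18922 := d6_1 D40004 (iv5 D18922) (iv3 F30197)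
theorem F60874 : act 6 n40004 = n18916 := d12_2 D18915 D40004 (iv5 D18916) (iv6 D8869) D8868
def n40005 : Q := act 7 n18915
theorem D40005 : act 7 n18915 = n40005 := rfl
theorem F60875 : act 3 n40005 = n18923 := d8_1 D40005 (iv7 D18923) (iv3 F30197)
def n40006 : Q := act 0 n18917
theorem D40006 : act 0 n18917 = n40006 := rfl
theorem F60876 : act 4 n40006 = n19308 := d20_8 (iv4 F57821) (iv1 D36876) F28900 (iv3 F21766) (iv1 F30196) D39999 F60864 D40006 F30960 (iv1 F30941)
def n40007 : Q := act 1 n18917
theorem D40007 : act 1 n18917 = n40007 := rfl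
def n40008 : Q := act 6 n18917
theorem D40008 : act 6 n18917 = n40008 := rfl
theorem F60877 : act 3 n40008 = n18919 := d7_1 D40008 (iv6 D18919) D18917
def n40009 : Q := act 6 n18918
theorem D40009 : act 6 n18918 = n40009 := rfl
theorem F60878 : act 4 n40009 = n19351 := d10_1 D40009 (iv6 D19351) (iv4 F30202)
def n40010 : Q := act 0 n18919
theorem D40010 : act 0 n18919 = n40010 := rfl
def n40011 : Q := act 1 n18919
theorem D40011 : act 1 n18919 = n40011 := rfl
def n40012 : Q := act 5 n18919
theorem D40012 : act 5 n18919 = n40012 := rfl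
def n40013 : Q := act 7 n18919
theorem D40013 : act 7 n18919 = n40013 := rfl
theorem F60879 : act 4 n40013 = n18923 := d11_1 D40013 (iv7 D18923) (iv4 F30203)
def n40018 : Q := act 6 n18920
theorem D40018 : act 6 n18920 = n40018 := rfl
def n40021 : Q := act 4 n18921
theorem D40021 : act 4 n18921 = n40021 := rfl
def n40022 : Q := act 5 n18921
theorem D40022 : act 5 n18921 = n40022 := rfl
def n40023 : Q := act 6 n18921
theorem D40023 : act 6 n18921 = n40023 := rfl
def n40024 : Q := act 0 n18922
theorem D40024 : act 0 n18922 = n40024 := rfl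
def n40025 : Q := act 1 n18922
theorem D40025 : act 1 n18922 = n40025 := rfl
def n40026 : Q := act 4 n18922
theorem D40026 : act 4 n18922 = n40026 := rfl
def n40027 : Q := act 7 n18922
theorem D40027 : act 7 n18922 = n40027 := rfl
theorem F60883 : act 5 n40027 = n18923 := d13_1 D40027 (iv7 D18923) D18922
theorem F60884 : act 6 n40027 = n40027 := d14_1 D40027 (iv7 D40027) F30204 F13833 (iv6 F30204)
def n40028 : Q := act 0 n18924
theorem D40028 : act 0 n18924 = n40028 := rfl
theorem F60885 : act 4 n40028 = n19222 := d18_3 F29005 D18924 D40028 (iv5 D19222) F17419 (iv0 F17402) F6863 F17412 D17848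
def n40029 : Q := act 1 n18924
theorem D40029 : act 1 n18924 = n40029 := rfl
theorem F60888 : act 1 n40029 = n22099 := d15_1 D40029 F34577 F34576
theorem F60889 : act 4 n40029 = n19220 := d18_7 D9034 F17398 (iv1 F17403) F6863 D8874 D18924 D40029 F30873 (iv5 D9036)
theorem F60890 : act 2 n40028 = n40029 := d1_3 F60889 (iv2 F30880) (iv4 F60885)
def n40030 : Q := act 3 n18924
theorem D40030 : act 3 n18924 = n40030 := rfl
def n40032 : Q := act 6 n18925
theorem D40032 : act 6 n18925 = n40032 := rfl
theorem F60894 : act 2 n40032 = n19489 := d3_1 D40032 (iv6 D19489) (iv2 F30206)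
theorem F60895 : act 3 n40032 = n18927 := d7_1 D40032 (iv6 D18927) D18925
theorem F60896 : act 4 n40032 = n37456 := d10_1 D40032 (iv6 D37456) (iv4 F30209)
def n40033 : Q := act 3 n18926
theorem D40033 : act 3 n18926 = n40033 := rfl
theorem F60897 : act 2 n40033 = n36868 := d0_1 D40033 F57810 F28894 (iv3 F28477) (iv2 F30212)
theorem F60898 : act 4 n40033 = n37455 := d5_2 D18926 D40033 (iv3 D37455) (iv4 F30209) (iv3 D18925)
theorem F60899 : act 5 n40033 = n36866 := d6_2 F35239 D40033 F57807
theorem F60900 : act 7 n40033 = n18948 := d8_2 (iv7 F30213) D40033 (iv3 D18948)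
def n40034 : Q := act 6 n18926
theorem D40034 : act 6 n18926 = n40034 := rfl
theorem F60901 : act 2 n40034 = n18940 := d3_1 D40034 (iv6 D18940) (iv2 F30212)
theorem F60902 : act 4 n40034 = n18927 := d10_1 D40034 (iv6 D18927) D18926
def n40035 : Q := act 0 n18927
theorem D40035 : act 0 n18927 = n40035 := rfl
theorem F60903 : act 6 n40035 = n39997 := d21_5 (iv5 D8011) F6033 (iv5 F13834) D18927 D40035 (iv5 D39997) (iv1 D18912) F13827 (iv6 D8867) (iv1 F12785)
def n40036 : Q := act 1 n18927
theorem D40036 : act 1 n18927 = n40036 := rfl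
def n40037 : Q := act 7 n18927
theorem D40037 : act 7 n18927 = n40037 := rfl
theorem F60905 : act 2 n40037 = n18944 := d4_1 D40037 (iv7 D18944) (iv2 F30215)
theorem F60906 : act 6 n40037 = n18954 := d14_1 D40037 (iv7 D18954) (iv6 D8884) F13837 D18927
theorem F60907 : act 1 n18944 = n40035 := d15_0 (iv0 D40035) D40037 F60905
def n40038 : Q := act 6 n18928
theorem D40038 : act 6 n18928 = n40038 := rfl
theorem F60910 : act 2 n40038 = n18950 := d3_1 D40038 (iv6 D18950) (iv2 F30216)
theorem F60911 : act 3 n40038 = n36878 := d7_1 D40038 (iv6 D36878) (iv3 F30217)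
theorem F60912 : act 4 n40038 = n18929 := d10_1 D40038 (iv6 D18929) D18928
def n40039 : Q := act 0 n18929
theorem D40039 : act 0 n18929 = n40039 := rfl
def n40040 : Q := act 1 n18929
theorem D40040 : act 1 n18929 = n40040 := rfl
def n40041 : Q := act 5 n18929
theorem D40041 : act 5 n18929 = n40041 := rfl
theorem F60914 : act 2 n40041 = n18953 := d2_1 D40041 (iv5 D18953) (iv2 F30221)
theorem F60915 : act 3 n40041 = n19514 := d6_1 D40041 (iv5 D19514) (iv3 F30222)
theorem F60916 : act 6 n40041 = n18988 := d12_2 D18929 D40041 (iv5 D18988) F13861 (iv5 F13840)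
def n40042 : Q := act 7 n18929
theorem D40042 : act 7 n18929 = n40042 := rfl
theorem F60917 : act 2 n40042 = n18954 := d4_1 D40042 (iv7 D18954) (iv2 F30221)
theorem F60918 : act 3 n40042 = n19515 := d8_1 D40042 (iv7 D19515) (iv3 F30222)
theorem F60919 : act 6 n40042 = n18944 := d14_1 D40042 (iv7 D18944) (iv6 D8881) (iv7 F13839) D18929
theorem F60920 : act 1 n18954 = n40039 := d15_0 (iv0 D40039) D40042 F60917
theorem F60921 : act 1 n18952 = n40042 := d15_1 D18952 (iv7 D40042) F30221
theorem F60922 : act 1 n40042 = n18951 := d15_0 (iv0 D18951) D18954 (iv2 F60917)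
def n40043 : Q := act 3 n18930
theorem D40043 : act 3 n18930 = n40043 := rfl
theorem F60923 : act 4 n40043 = n36089 := d5_2 (iv4 F30225) D40043 (iv3 D36089) F28461 F21927
theorem F60924 : act 7 n40043 = n18955 := d8_2 (iv7 F30224) D40043 (iv3 D18955)
def n40044 : Q := act 6 n18930
theorem D40044 : act 6 n18930 = n40044 := rfl
theorem F60925 : act 2 n40044 = n18960 := d3_1 D40044 (iv6 D18960) F30226
theorem F60926 : act 4 n40044 = n19831 := d10_1 D40044 (iv6 D19831) (iv4 F30225)
def n40045 : Q := act 0 n18931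
theorem D40045 : act 0 n18931 = n40045 := rfl
def n40046 : Q := act 1 n18931
theorem D40046 : act 1 n18931 = n40046 := rfl
def n40047 : Q := act 2 n18931
theorem D40047 : act 2 n18931 = n40047 := rfl
theorem F60927 : act 3 n40047 = n18963 := d0_2 D18931 D40047 (iv2 D18963) (iv3 D8887) (iv2 F13843)
def n40048 : Q := act 6 n18931
theorem D40048 : act 6 n18931 = n40048 := rfl
theorem F60928 : act 3 n40048 = n18932 := d7_1 D40048 (iv6 D18932) D18931
def n40049 : Q := act 1 n18932
theorem D40049 : act 1 n18932 = n40049 := rfl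
theorem F60929 : act 1 n40049 = n18973 := d15_1 D40049 (iv7 D18973) (iv2 F30227)
theorem F60930 : act 7 n40049 = n18970 := d15_2 (iv0 F44490) D40049 (iv2 F44547)
theorem F60931 : act 2 n18971 = n40049 := d4_3 F60930 (iv2 F44547) F44546
def n40050 : Q := act 5 n18932
theorem D40050 : act 5 n18932 = n40050 := rfl
theorem F60932 : act 2 n40050 = n18972 := d2_1 D40050 (iv5 D18972) (iv2 F30227)
def n40051 : Q := act 7 n18932
theorem D40051 : act 7 n18932 = n40051 := rfl
theorem F60933 : act 2 n40051 = n18973 := d4_1 D40051 (iv7 D18973) (iv2 F30227)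
theorem F60934 : act 4 n40051 = n18935 := d11_1 D40051 (iv7 D18935) (iv4 F30228)
theorem F60935 : act 1 n18971 = n40051 := d15_1 D18971 (iv7 D40051) F30227
theorem F60936 : act 1 n40051 = n18970 := d15_1 F60935 (iv7 F60930) (iv2 F60931)
theorem E6057 : n39523 = n27591 := (c20_11 (iv4 F44548) (iv1 F60936) F60934 (iv3 F60754) (iv1 F60758) D39958 (iv4 F60791) (iv1 F60412) (iv4 D18723) D18722 D39523)
theorem F60937 : act 1 n27591 = n18722 := (sb E6057 (iv0 D39523))
theorem E6058 : n39524 = n27444 := (c15_2 F60937 D39524 F44530 D27591)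
theorem F60938 : act 0 n27444 = n18722 := (sb E6058 (iv1 D39524))
def n40052 : Q := act 2 n18933
theorem D40052 : act 2 n18933 = n40052 := rfl
theorem F60939 : act 7 n18934 = n40052 := d15_2 (iv0 D18933) D18934 (iv2 D40052)
theorem F60940 : act 3 n40052 = n38634 := d8_1 F60939 F59452 (iv3 F30230)
def n40053 : Q := act 3 n18933
theorem D40053 : act 3 n18933 = n40053 := rfl
theorem F60941 : act 2 n40053 = n38646 := d0_1 D40053 (iv3 D38646) (iv2 F59451) (iv3 F60940) (iv2 D40052)
theorem F60942 : act 4 n39662 = n40053 := d20_2 D18776 D39662 (iv3 D40053) (iv1 F30232) F13858 F30050 (iv1 F13668) (iv4 D3926) D3925 D8803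
def n40054 : Q := act 4 n18933
theorem D40054 : act 4 n18933 = n40054 := rfl
def n40055 : Q := act 5 n18933
theorem D40055 : act 5 n18933 = n40055 := rfl
def n40056 : Q := act 7 n18933
theorem D40056 : act 7 n18933 = n40056 := rfl
theorem F60943 : act 2 n40056 = n18934 := d4_1 D40056 F60939 (iv2 D40052)
def n40057 : Q := act 4 n18934
theorem D40057 : act 4 n18934 = n40057 := rfl
theorem F60944 : act 3 n40057 = n38663 := d5_1 D40057 (iv4 D38663) (iv3 D18395) D18396 (iv3 F30230)
theorem F60945 : act 0 n40057 = n39526 := d20_1 D40057 (iv4 D39526) (iv3 D18722) (iv1 D8782) (iv3 D3920) D3921 D8788 (iv4 F30050) (iv3 F13858) (iv1 F30229)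
def n40058 : Q := act 6 n18934
theorem D40058 : act 6 n18934 = n40058 := rfl
theorem F60946 : act 3 n40058 = n38667 := d7_1 D40058 (iv6 D38667) (iv3 F30230)
def n40059 : Q := act 0 n18936
theorem D40059 : act 0 n18936 = n40059 := rfl
theorem F60947 : act 6 n40059 = n21967 := d21_5 F6937 (iv1 F6286) (iv5 F13845) D18936 D40059 (iv5 D21967) (iv1 D10478) F7220 (iv6 D4765) D4762
def n40060 : Q := act 1 n18936
theorem D40060 : act 1 n18936 = n40060 := rfl
theorem F60948 : act 1 n40060 = n19496 := d15_1 D40060 (iv7 D19496) (iv2 F30235)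
def n40061 : Q := act 5 n18936
theorem D40061 : act 5 n18936 = n40061 := rfl
theorem F60949 : act 2 n40061 = n19495 := d2_1 D40061 (iv5 D19495) (iv2 F30235)
theorem F60950 : act 3 n40061 = n18943 := d6_1 D40061 (iv5 D18943) (iv3 F30236)
theorem F60951 : act 6 n40061 = n19476 := d12_2 D18936 D40061 (iv5 D19476) (iv6 D9148) (iv5 F13845)
def n40062 : Q := act 7 n18936
theorem D40062 : act 7 n18936 = n40062 := rfl
theorem F60952 : act 2 n40062 = n19496 := d4_1 D40062 (iv7 D19496) (iv2 F30235)
theorem F60953 : act 3 n40062 = n18944 := d8_1 D40062 (iv7 D18944) (iv3 F30236)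
theorem F60954 : act 4 n40062 = n38179 := d11_1 D40062 (iv7 D38179) (iv4 F30237)
theorem F60955 : act 6 n40062 = n19515 := d14_1 D40062 (iv7 D19515) (iv6 D9186) (iv7 F13846) D18936
theorem F60956 : act 1 n19496 = n40059 := d15_0 (iv0 D40059) D40062 F60952
theorem F60957 : act 1 n19494 = n40062 := d15_1 D19494 (iv7 D40062) F30235
theorem F60958 : act 1 n40062 = n19493 := d15_0 (iv0 D19493) D19496 (iv2 F60952)
def n40063 : Q := act 3 n18937
theorem D40063 : act 3 n18937 = n40063 := rfl
theorem F60959 : act 4 n40063 = n21551 := d5_2 (iv4 F30238) D40063 (iv3 D21551) (iv4 D10295) (iv3 F16314)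
theorem F60960 : act 7 n40063 = n37220 := d8_2 F30240 D40063 (iv3 D37220)
def n40064 : Q := act 6 n18937
theorem D40064 : act 6 n18937 = n40064 := rfl
theorem F60961 : act 4 n40064 = n21549 := d10_1 D40064 (iv6 D21549) (iv4 F30238)
def n40065 : Q := act 3 n18938
theorem D40065 : act 3 n18938 = n40065 := rfl
theorem F60962 : act 4 n40065 = n27041 := d5_2 (iv4 F30242) D40065 (iv3 D27041) F21547 (iv3 F15958)
theorem F60963 : act 7 n40065 = n35449 := d8_2 F30783 D40065 F56156
def n40066 : Q := act 6 n18938
theorem D40066 : act 6 n18938 = n40066 := rfl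
theorem F60964 : act 2 n40066 = n37222 := d3_1 D40066 (iv6 D37222) F30243
theorem F60965 : act 4 n40066 = n21201 := d10_1 D40066 (iv6 D21201) (iv4 F30242)
def n40067 : Q := act 1 n18939
theorem D40067 : act 1 n18939 = n40067 := rfl
theorem F60966 : act 1 n40067 = n18949 := d15_1 D40067 (iv7 F35240) F35238
theorem F60968 : act 5 n40067 = n19161 := d17_7 F7021 (iv5 D3626) D3623 (iv5 F7337) D8880 D18939 D40067 F30791 (iv4 D10442)
theorem F60969 : act 4 n40067 = n19173 := d17_9 F30804 (iv5 D10959) (iv1 F15968) D21203 (iv4 F56883) F56882 (iv0 D18937) D18939 D40067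
theorem F60970 : act 2 n36875 = n40067 := d1_3 F60969 F30939 (iv4 F57817)
def n40068 : Q := act 6 n18939
theorem D40068 : act 6 n18939 = n40068 := rfl
theorem F60971 : act 3 n40068 = n27123 := d7_1 D40068 (iv6 D27123) (iv3 F30244)
theorem F60972 : act 4 n40068 = n19345 := d10_1 D40068 (iv6 D19345) (iv4 F30246)
def n40069 : Q := act 0 n18940
theorem D40069 : act 0 n18940 = n40069 := rfl
def n40070 : Q := act 1 n18940
theorem D40070 : act 1 n18940 = n40070 := rfl
def n40071 : Q := act 5 n18940
theorem D40071 : act 5 n18940 = n40071 := rfl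
def n40072 : Q := act 7 n18940
theorem D40072 : act 7 n18940 = n40072 := rfl
theorem F60973 : act 4 n40072 = n18944 := d11_1 D40072 (iv7 D18944) (iv4 F30247)
def n40073 : Q := act 2 n18941
theorem D40073 : act 2 n18941 = n40073 := rfl
def n40074 : Q := act 3 n18941
theorem D40074 : act 3 n18941 = n40074 := rfl
def n40075 : Q := act 4 n18941
theorem D40075 : act 4 n18941 = n40075 := rfl
def n40076 : Q := act 5 n18941
theorem D40076 : act 5 n18941 = n40076 := rfl
def n40077 : Q := act 6 n18941
theorem D40077 : act 6 n18941 = n40077 := rfl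
theorem F60975 : act 5 n40077 = n21891 := d21_6 (iv5 D3626) D3623 (iv5 F7337) D8881 D18941 D40077 (iv1 D21891) F16633 (iv6 D10443) F7021
def n40078 : Q := act 7 n18941
theorem D40078 : act 7 n18941 = n40078 := rfl
def n40083 : Q := act 0 n18943
theorem D40083 : act 0 n18943 = n40083 := rfl
def n40084 : Q := act 1 n18943
theorem D40084 : act 1 n18943 = n40084 := rfl
theorem F60977 : act 5 n40018 = n40084 := d21_6 (iv5 D8864) (iv1 F5912) D3959 D8871 D18920 D40018 (iv1 D40084) (iv5 D18943) (iv6 D8881) (iv1 F13819)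
def n40085 : Q := act 4 n18943
theorem D40085 : act 4 n18943 = n40085 := rfl
theorem F60978 : act 6 n40085 = n35269 := d10_2 (iv6 F30248) D40085 (iv4 D35269)
def n40086 : Q := act 7 n18943
theorem D40086 : act 7 n18943 = n40086 := rfl
theorem F60979 : act 5 n40086 = n18944 := d13_1 D40086 (iv7 D18944) D18943
def n40087 : Q := act 6 n18945
theorem D40087 : act 6 n18945 = n40087 := rfl
theorem F60980 : act 2 n40087 = n18947 := d3_1 D40087 (iv6 D18947) D18945
theorem F60981 : act 3 n40087 = n19497 := d7_1 D40087 (iv6 D19497) (iv3 F30249)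
theorem F60982 : act 4 n40087 = n37457 := d10_1 D40087 (iv6 D37457) F30254
def n40088 : Q := act 3 n18946
theorem D40088 : act 3 n18946 = n40088 := rfl
theorem F60983 : act 4 n40088 = n18948 := d5_2 D18946 D40088 (iv3 D18948) (iv4 D8883) D8882
theorem F60984 : act 7 n40088 = n37455 := d8_2 (iv7 F30256) D40088 (iv3 D37455)
def n40089 : Q := act 6 n18946
theorem D40089 : act 6 n18946 = n40089 := rfl
theorem F60985 : act 2 n40089 = n37457 := d3_1 D40089 (iv6 D37457) (iv2 F30255)
theorem F60986 : act 4 n40089 = n18947 := d10_1 D40089 (iv6 D18947) D18946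
def n40090 : Q := act 0 n18947
theorem D40090 : act 0 n18947 = n40090 := rfl
def n40091 : Q := act 1 n18947
theorem D40091 : act 1 n18947 = n40091 := rfl
def n40092 : Q := act 5 n18947
theorem D40092 : act 5 n18947 = n40092 := rfl
theorem F60987 : act 3 n40092 = n18953 := d6_1 D40092 (iv5 D18953) (iv3 F30259)
theorem F60988 : act 6 n40092 = n35270 := d12_2 D18947 D40092 (iv5 D35270) (iv6 D17119) (iv5 F13854)
def n40093 : Q := act 7 n18947
theorem D40093 : act 7 n18947 = n40093 := rfl
theorem F60989 : act 3 n40093 = n18954 := d8_1 D40093 (iv7 D18954) (iv3 F30259)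
def n40094 : Q := act 0 n18948
theorem D40094 : act 0 n18948 = n40094 := rfl
theorem F60990 : act 1 n36868 = n40094 := d15_0 (iv0 D40094) (iv7 F60900) F60897
def n40095 : Q := act 1 n18948
theorem D40095 : act 1 n18948 = n40095 := rfl
theorem F60991 : act 1 n40095 = n36868 := d15_1 D40095 F57811 F56892
def n40096 : Q := act 5 n18948
theorem D40096 : act 5 n18948 = n40096 := rfl
theorem F60992 : act 2 n40096 = n27121 := d2_1 D40096 (iv5 F56893) F56892
theorem F60993 : act 3 n40096 = n18949 := d6_1 D40096 (iv5 D18949) D18948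
theorem F60994 : act 7 n40096 = n36866 := d13_2 F60900 D40096 (iv5 F60899)
theorem F60995 : act 1 n36865 = n40096 := d15_1 D36865 F60994 (iv2 D36866)
def n40097 : Q := act 6 n18948
theorem D40097 : act 6 n18948 = n40097 := rfl
theorem F60997 : act 3 n40097 = n18950 := d7_1 D40097 (iv6 D18950) D18948
def n40098 : Q := act 6 n18949
theorem D40098 : act 6 n18949 = n40098 := rfl
theorem F60998 : act 2 n40098 = n36877 := d3_1 D40098 (iv6 D36877) (iv2 F30260)
theorem F60999 : act 4 n40098 = n19336 := d10_1 D40098 (iv6 D19336) (iv4 F30261)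
def n40099 : Q := act 0 n18950
theorem D40099 : act 0 n18950 = n40099 := rfl
def n40100 : Q := act 1 n18950
theorem D40100 : act 1 n18950 = n40100 := rfl
def n40101 : Q := act 5 n18950
theorem D40101 : act 5 n18950 = n40101 := rfl
def n40102 : Q := act 7 n18950
theorem D40102 : act 7 n18950 = n40102 := rfl
theorem F61000 : act 4 n40102 = n18954 := d11_1 D40102 (iv7 D18954) (iv4 F30262)
def n40103 : Q := act 2 n18951
theorem D40103 : act 2 n18951 = n40103 := rfl
theorem F61001 : act 7 n18952 = n40103 := d15_2 (iv0 D18951) D18952 (iv2 D40103)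
def n40107 : Q := act 6 n18951
theorem D40107 : act 6 n18951 = n40107 := rfl
def n40108 : Q := act 7 n18951
theorem D40108 : act 7 n18951 = n40108 := rfl
theorem F61002 : act 2 n40108 = n18952 := d4_1 D40108 F61001 (iv2 D40103)
def n40109 : Q := act 3 n18952
theorem D40109 : act 3 n18952 = n40109 := rfl
def n40110 : Q := act 4 n18952
theorem D40110 : act 4 n18952 = n40110 := rfl
def n40111 : Q := act 5 n18952
theorem D40111 : act 5 n18952 = n40111 := rfl
theorem F61003 : act 6 n40083 = n40111 := d21_5 (iv5 D8120) (iv1 F17515) D17118 (iv6 F30248) D40083 (iv5 D40111) (iv1 D18952) D18953 F30263 F28063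
def n40112 : Q := act 6 n18952
theorem D40112 : act 6 n18952 = n40112 := rfl
def n40113 : Q := act 0 n18953
theorem D40113 : act 0 n18953 = n40113 := rfl
def n40114 : Q := act 1 n18953
theorem D40114 : act 1 n18953 = n40114 := rfl
theorem F61004 : act 5 n39993 = n40114 := d21_6 (iv5 D1717) D1714 D3955 D8867 D18911 D39993 (iv1 D40114) (iv5 D18953) (iv6 D8884) (iv1 D3963)
def n40115 : Q := act 4 n18953
theorem D40115 : act 4 n18953 = n40115 := rfl
theorem F61005 : act 6 n40115 = n35271 := d10_2 (iv6 F30263) D40115 (iv4 D35271)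
def n40116 : Q := act 7 n18953
theorem D40116 : act 7 n18953 = n40116 := rfl
theorem F61006 : act 5 n40116 = n18954 := d13_1 D40116 (iv7 D18954) D18953
def n40117 : Q := act 0 n18955
theorem D40117 : act 0 n18955 = n40117 := rfl
theorem F61007 : act 5 n40117 = n36089 := d19_1 D40117 (iv4 F60923) (iv3 D40043) (iv1 D18930) (iv5 F17276) (iv4 D10741) F7338 D4913 (iv5 F13392) (iv4 D8558) (iv3 F13386) F13387 (iv5 D4355) F5552 D7775 F12246 D8921 F13896 D18955
theorem F61008 : act 3 n40117 = n36015 := d20_5 (iv4 D17895) (iv1 F13895) F13896 D18955 D40117 F56778 (iv1 D18353) (iv4 F28902) (iv3 F30217) F30220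
def n40118 : Q := act 1 n18955
theorem D40118 : act 1 n18955 = n40118 := rfl
def n40119 : Q := act 2 n18955
theorem D40119 : act 2 n18955 = n40119 := rfl
theorem F61009 : act 3 n40119 = n35009 := d0_2 D18955 D40119 F55551 (iv3 D27447) F21917
theorem F61010 : act 5 n35008 = n40119 := d6_0 F61009 (iv5 D35009) D35008
def n40120 : Q := act 4 n18955
theorem D40120 : act 4 n18955 = n40120 := rfl
theorem F61011 : act 3 n40120 = n26879 := d5_1 D40120 F43348 F30557 F13896 D18955
theorem F61012 : act 7 n40120 = n36089 := d11_2 F60924 D40120 (iv4 F60923)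
theorem F61013 : act 0 n40120 = n33022 := d20_4 (iv4 F21631) (iv1 F30560) (iv4 F43348) (iv3 F61011) (iv3 D33022) (iv4 D15921) F30292 D7589 F11827 D8222
def n40121 : Q := act 5 n18955
theorem D40121 : act 5 n18955 = n40121 := rfl
theorem F61014 : act 2 n40121 = n35008 := d2_1 D40121 F61010 (iv2 D40119)
theorem F61015 : act 3 n40121 = n18956 := d6_1 D40121 (iv5 D18956) D18955
theorem F61016 : act 0 n40121 = n36008 := d20_4 F57817 (iv1 F30938) (iv4 F30264) (iv3 F61015) (iv3 D36008) F28435 F14043 F14045 D17764 D36875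
def n40122 : Q := act 6 n18955
theorem D40122 : act 6 n18955 = n40122 := rfl
theorem F61017 : act 3 n40122 = n18957 := d7_1 D40122 (iv6 D18957) D18955
def n40123 : Q := act 6 n18956
theorem D40123 : act 6 n18956 = n40123 := rfl
theorem F61018 : act 4 n40123 = n19310 := d10_1 D40123 (iv6 D19310) (iv4 F30264)
def n40124 : Q := act 0 n18957
theorem D40124 : act 0 n18957 = n40124 := rfl
def n40125 : Q := act 1 n18957
theorem D40125 : act 1 n18957 = n40125 := rfl
def n40126 : Q := act 5 n18957
theorem D40126 : act 5 n18957 = n40126 := rfl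
def n40127 : Q := act 7 n18957
theorem D40127 : act 7 n18957 = n40127 := rfl
def n40128 : Q := act 0 n18958
theorem D40128 : act 0 n18958 = n40128 := rfl
theorem F61019 : act 5 n40128 = n28623 := d17_1 D40128 F46193 D33023 F52203 F52183 F52182 D34913 (iv0 F55267) F44314
theorem F61020 : act 1 n35009 = n40128 := d15_0 (iv0 D40128) (iv7 F44365) (iv2 F55551)
def n40129 : Q := act 1 n18958
theorem D40129 : act 1 n18958 = n40129 := rfl
theorem F61021 : act 1 n40129 = n35009 := d15_1 D40129 F55553 F52308
theorem F61022 : act 5 n40129 = n33006 := d17_7 F30292 F5429 D3591 D7932 D16982 (iv5 F30269) D40129 F52184 (iv4 D15921)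
def n40130 : Q := act 6 n18958
theorem D40130 : act 6 n18958 = n40130 := rfl
theorem F61023 : act 3 n40130 = n18960 := d7_1 D40130 (iv6 D18960) D18958
def n40131 : Q := act 6 n18959
theorem D40131 : act 6 n18959 = n40131 := rfl
theorem F61024 : act 3 n40131 = n34989 := d7_1 D40131 (iv6 D34989) F30268
theorem F61025 : act 4 n40131 = n19279 := d10_1 D40131 (iv6 D19279) (iv4 F30266)
def n40132 : Q := act 0 n18960
theorem D40132 : act 0 n18960 = n40132 := rfl
def n40133 : Q := act 1 n18960
theorem D40133 : act 1 n18960 = n40133 := rfl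
def n40134 : Q := act 5 n18960
theorem D40134 : act 5 n18960 = n40134 := rfl
def n40135 : Q := act 7 n18960
theorem D40135 : act 7 n18960 = n40135 := rfl
def n40136 : Q := act 3 n18961
theorem D40136 : act 3 n18961 = n40136 := rfl
theorem F61026 : act 2 n40136 = n36038 := d0_1 D40136 F56789 (iv2 F28868) (iv3 F29905) F30274
theorem F61027 : act 4 n40136 = n27017 := d5_2 (iv4 F30275) D40136 (iv3 D27017) (iv4 D12942) (iv3 F21492)
theorem F61028 : act 5 n40136 = n36037 := d6_2 F57750 D40136 (iv3 F57749)
def n40137 : Q := act 6 n18961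
theorem D40137 : act 6 n18961 = n40137 := rfl
theorem F61029 : act 2 n40137 = n39274 := d3_1 D40137 (iv6 D39274) F30274
theorem F61030 : act 4 n40137 = n26637 := d10_1 D40137 F42688 (iv4 F30275)
def n40138 : Q := act 6 n18962
theorem D40138 : act 6 n18962 = n40138 := rfl
theorem F61031 : act 3 n40138 = n36016 := d7_1 D40138 (iv6 D36016) F30270
theorem F61032 : act 4 n40138 = n26561 := d10_1 D40138 (iv6 D26561) F30271
def n40139 : Q := act 5 n18963
theorem D40139 : act 5 n18963 = n40139 := rfl
theorem F61033 : act 2 n40139 = n18964 := d2_1 D40139 (iv5 D18964) D18963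
theorem F61034 : act 7 n40139 = n36091 := d13_2 F37301 D40139 F56835
theorem F61035 : act 0 n40139 = n26880 := d17_2 (iv1 F37317) D40139 (iv5 F51937) F51935 F42396 F26646 F29902 F42534 F42530
theorem F61036 : act 1 n40139 = n36092 := d17_6 F43060 (iv5 D11186) (iv1 F12435) (iv5 F13868) (iv4 F30277) D40139 F56837 (iv0 D32800) (iv4 D15704)
def n40140 : Q := act 6 n18963
theorem D40140 : act 6 n18963 = n40140 := rfl
theorem F61037 : act 2 n40140 = n18965 := d3_1 D40140 (iv6 D18965) D18963
theorem F61038 : act 4 n40140 = n18997 := d10_1 D40140 (iv6 D18997) (iv4 F30277)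
def n40141 : Q := act 0 n18964
theorem D40141 : act 0 n18964 = n40141 := rfl
theorem F61039 : act 5 n40141 = n32423 := d17_3 (iv1 D18962) D18964 D40141 F51797 F51794 (iv0 D26423) D26424 F42225 F30271
theorem F61040 : act 2 n26880 = n40141 := d15_3 (iv0 D40141) (iv0 F30281) (iv7 F43351)
theorem F61041 : act 1 n36091 = n40141 := d15_0 (iv0 D40141) (iv7 F37320) F56836
theorem F61042 : act 7 n40141 = n36092 := d15_2 D36091 F61041 (iv2 D36092)
theorem F61043 : act 3 n40141 = n36117 := d0_2 D26880 F61040 (iv2 D36117) (iv3 D17468) (iv2 F21363)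
def n40142 : Q := act 4 n18964
theorem D40142 : act 4 n18964 = n40142 := rfl
theorem F61044 : act 0 n40142 = n32675 := d18_2 F30281 D40142 (iv4 F53009) F53010 (iv4 D32418) (iv0 D15318) D15320 (iv0 F42390) F42458
def n40143 : Q := act 6 n18964
theorem D40143 : act 6 n18964 = n40143 := rfl
theorem F61045 : act 3 n40143 = n18968 := d7_1 D40143 (iv6 D18968) (iv3 F30280)
def n40144 : Q := act 0 n18965
theorem D40144 : act 0 n18965 = n40144 := rfl
def n40145 : Q := act 1 n18965
theorem D40145 : act 1 n18965 = n40145 := rfl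
theorem F61046 : act 4 n39320 = n40145 := d20_6 (iv4 D6302) (iv1 F4239) (iv4 F5859) (iv3 F13646) (iv1 F29918) D39320 (iv1 D40145) F30283 F13869 F30436
def n40146 : Q := act 5 n18965
theorem D40146 : act 5 n18965 = n40146 := rfl
theorem F61047 : act 3 n40146 = n18972 := d6_1 D40146 (iv5 D18972) (iv3 F30282)
def n40147 : Q := act 3 n18966
theorem D40147 : act 3 n18966 = n40147 := rfl
theorem F61048 : act 2 n40147 = n33022 := d0_1 D40147 (iv3 D33022) (iv2 F42211) F42212 (iv2 F35267)
theorem F61049 : act 5 n40147 = n19163 := d6_2 (iv5 F30284) D40147 (iv3 D19163)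
theorem F61050 : act 0 n40147 = n36089 := d20_4 F58176 (iv1 F30823) (iv4 F30285) D40147 (iv3 D36089) F28461 (iv1 F21930) F21375 (iv3 F34394) (iv1 F58178)
def n40148 : Q := act 6 n18966
theorem D40148 : act 6 n18966 = n40148 := rfl
theorem F61051 : act 4 n40148 = n19228 := d10_1 D40148 (iv6 D19228) (iv4 F30285)
def n40149 : Q := act 6 n18967
theorem D40149 : act 6 n18967 = n40149 := rfl
theorem F61052 : act 3 n40149 = n33007 := d7_1 D40149 (iv6 D33007) F30289
theorem F61053 : act 4 n40149 = n19182 := d10_1 D40149 (iv6 D19182) F30297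
def n40150 : Q := act 0 n18968
theorem D40150 : act 0 n18968 = n40150 := rfl
def n40151 : Q := act 1 n18968
theorem D40151 : act 1 n18968 = n40151 := rfl
def n40152 : Q := act 5 n18968
theorem D40152 : act 5 n18968 = n40152 := rfl
theorem F61054 : act 6 n40152 = n18972 := d12_2 D18968 D40152 (iv5 D18972) (iv6 D8889) D8888
def n40153 : Q := act 7 n18968
theorem D40153 : act 7 n18968 = n40153 := rfl
def n40154 : Q := act 6 n18969
theorem D40154 : act 6 n18969 = n40154 := rfl
theorem F61055 : act 2 n40154 = n19354 := d3_1 D40154 (iv6 D19354) (iv2 F30298)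
def n40155 : Q := act 3 n18970
theorem D40155 : act 3 n18970 = n40155 := rfl
def n40156 : Q := act 5 n18970
theorem D40156 : act 5 n18970 = n40156 := rfl
def n40157 : Q := act 6 n18970
theorem D40157 : act 6 n18970 = n40157 := rfl
def n40158 : Q := act 3 n18971
theorem D40158 : act 3 n18971 = n40158 := rfl
def n40159 : Q := act 5 n18971
theorem D40159 : act 5 n18971 = n40159 := rfl
def n40160 : Q := act 6 n18971
theorem D40160 : act 6 n18971 = n40160 := rfl
def n40161 : Q := act 0 n18972
theorem D40161 : act 0 n18972 = n40161 := rfl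
def n40162 : Q := act 1 n18972
theorem D40162 : act 1 n18972 = n40162 := rfl
def n40163 : Q := act 4 n18972
theorem D40163 : act 4 n18972 = n40163 := rfl
def n40164 : Q := act 7 n18972
theorem D40164 : act 7 n18972 = n40164 := rfl
theorem F61057 : act 5 n40164 = n18973 := d13_1 D40164 (iv7 D18973) D18972
def n40165 : Q := act 6 n18973
theorem D40165 : act 6 n18973 = n40165 := rfl
theorem F61058 : act 4 n40165 = n18985 := d10_1 D40165 (iv6 D18985) (iv4 F30301)
theorem F61059 : act 7 n40165 = n18974 := d14_2 D18973 D40165 (iv6 D18974) (iv7 D8890) D8889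
def n40166 : Q := act 0 n18974
theorem D40166 : act 0 n18974 = n40166 := rfl
def n40167 : Q := act 1 n18974
theorem D40167 : act 1 n18974 = n40167 := rfl
def n40168 : Q := act 5 n18974
theorem D40168 : act 5 n18974 = n40168 := rfl
def n40169 : Q := act 0 n18975
theorem D40169 : act 0 n18975 = n40169 := rfl
theorem F61060 : act 1 n18980 = n40169 := d15_0 (iv0 D40169) (iv7 F30303) (iv2 F30305)
def n40171 : Q := act 3 n18975
theorem D40171 : act 3 n18975 = n40171 := rfl
theorem F61062 : act 7 n40171 = n18981 := d8_2 F30303 D40171 (iv3 D18981)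
def n40172 : Q := act 4 n18975
theorem D40172 : act 4 n18975 = n40172 := rfl
theorem F61063 : act 2 n40172 = n18977 := d1_1 D40172 (iv4 D18977) D18975
theorem F61064 : act 7 n40172 = n18982 := d11_2 F30303 D40172 (iv4 D18982)
def n40173 : Q := act 5 n18975
theorem D40173 : act 5 n18975 = n40173 := rfl
theorem F61065 : act 2 n40173 = n18978 := d2_1 D40173 (iv5 D18978) D18975
theorem F61066 : act 7 n40173 = n18983 := d13_2 F30303 D40173 (iv5 D18983)
def n40174 : Q := act 6 n18975
theorem D40174 : act 6 n18975 = n40174 := rfl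
theorem F61067 : act 2 n40174 = n18979 := d3_1 D40174 (iv6 D18979) D18975
theorem F61068 : act 5 n40056 = n40174 := d2_0 F61067 F30304 (iv2 F60943)
theorem F61069 : act 7 n40174 = n40055 := d13_2 D40056 F61068 (iv5 D40055)
def n40175 : Q := act 2 n18976
theorem D40175 : act 2 n18976 = n40175 := rfl
theorem F61070 : act 4 n40175 = n38211 := d1_2 (iv4 F30441) D40175 (iv2 D38211)
theorem F61071 : act 7 n38217 = n40175 := d15_2 (iv0 F59750) F59779 (iv2 D40175)
def n40176 : Q := act 5 n18976
theorem D40176 : act 5 n18976 = n40176 := rfl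
def n40177 : Q := act 7 n18976
theorem D40177 : act 7 n18976 = n40177 := rfl
theorem F61073 : act 2 n40177 = n38217 := d4_1 D40177 F61071 (iv2 D40175)
theorem F61074 : act 3 n40177 = n18980 := d8_1 D40177 (iv7 D18980) D18976
theorem F61075 : act 4 n40177 = n38215 := d11_1 D40177 (iv7 D38215) (iv4 F30441)
def n40178 : Q := act 0 n18977
theorem D40178 : act 0 n18977 = n40178 := rfl
theorem F61076 : act 4 n40178 = n27864 := d20_2 D18977 D40178 (iv3 D27864) (iv1 D13288) (iv3 D6305) D6306 (iv1 F30437) F5923 (iv3 F5916) D8891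
def n40179 : Q := act 1 n18977
theorem D40179 : act 1 n18977 = n40179 := rfl
theorem F61077 : act 1 n40179 = n18982 := d15_1 D40179 (iv7 F61064) F61063
theorem F61078 : act 4 n38763 = n40179 := d20_6 F59690 (iv1 F29588) (iv4 D8672) D8671 D18435 D38763 (iv1 D40179) (iv4 D18977) D18976 (iv1 F59757)
theorem F61079 : act 2 n40179 = n39526 := d1_1 F61078 (iv4 D39526) (iv2 F60796)
def n40180 : Q := act 3 n18977
theorem D40180 : act 3 n18977 = n40180 := rfl
theorem F61080 : act 4 n40180 = n38212 := d5_2 D18977 D40180 (iv3 D38212) (iv4 F30441) (iv3 D18976)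
def n40181 : Q := act 5 n18977
theorem D40181 : act 5 n18977 = n40181 := rfl
def n40182 : Q := act 6 n18977
theorem D40182 : act 6 n18977 = n40182 := rfl
theorem F61081 : act 4 n40182 = n18979 := d10_1 D40182 (iv6 D18979) D18977
def n40183 : Q := act 7 n18977
theorem D40183 : act 7 n18977 = n40183 := rfl
theorem F61082 : act 2 n40183 = n18982 := d4_1 D40183 (iv7 F61064) F61063
theorem F61083 : act 4 n40183 = n18980 := d11_1 D40183 (iv7 D18980) D18977
theorem F61084 : act 1 n18982 = n40178 := d15_0 (iv0 D40178) D40183 F61082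
theorem F61085 : act 7 n40178 = n39526 := d15_2 F61077 F61084 (iv2 F61079)
theorem F61086 : act 0 n18981 = n39702 := d20_10 (iv4 D39702) (iv1 F44946) (iv4 D27837) F22071 (iv1 F22090) D27864 (iv4 F61076) (iv1 F61084) (iv4 D18982) D18981
theorem E6059 : n39497 = n27864 := (c11_3 F61085 (iv4 D39526) (iv7 F60399) (iv4 F61076))
theorem E6060 : n18716 = n13288 := ((((iv3 D27864)).symm.trans (sb E6059 (iv3 D39497)))).symm
theorem F61087 : act 7 n27864 = n18722 := (sb E6059 F60399)
theorem E6061 : n39495 = n6305 := ((((iv1 D13288)).symm.trans (sb E6060 D39495))).symm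
theorem E6063 : n27863 = n8781 := (((iv2 F44990)).symm.trans (sb E6060 (iv2 D18716)))
theorem E6064 : n39498 = n27865 := (((D27865).symm.trans (sb E6060 D39498))).symm
theorem E6065 : n39499 = n26837 := ((((iv5 F59776)).symm.trans (sb E6060 D39499))).symm
theorem E6066 : n39500 = n27867 := (((D27867).symm.trans (sb E6060 D39500))).symm
theorem E6068 : n18721 = n13287 := (((D13287).symm.trans (sb E6061 (iv1 F60397)))).symm
theorem F61088 : act 2 n8781 = n13288 := (sb E6063 F44990)
theorem F61089 : act 2 n27865 = n18718 := (sb E6064 F60400)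
theorem F61090 : act 7 n27865 = n18723 := (sb E6064 F60401)
theorem F61091 : act 2 n26837 = n18719 := (sb E6065 F60402)
theorem F61093 : act 2 n27867 = n18720 := (sb E6066 F60404)
theorem E6069 : n38762 = n27859 := (((D27859).symm.trans (sb E6068 (iv3 F60795)))).symm
theorem E6070 : n39513 = n27860 := (((D27860).symm.trans (sb E6068 (iv4 F60411)))).symm
theorem E6071 : n39517 = n27861 := (((D27861).symm.trans (sb E6068 (iv5 F60415)))).symm
theorem F61096 : act 7 n13287 = n8781 := (sb E6068 (iv7 D18721))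
theorem F61097 : act 2 n27859 = n18435 := (sb E6069 (iv2 D38762))
theorem F61098 : act 7 n27859 = n18436 := (sb E6069 (iv7 F59668))
theorem F61099 : act 2 n27860 = n18723 := (sb E6070 F60410)
theorem F61100 : act 7 n27860 = n18718 := (sb E6070 (iv7 D39513))
theorem F61102 : act 7 n27861 = n18719 := (sb E6071 (iv7 D39517))
theorem E6073 : n27861 = n26836 := ((c15_2 F43226 F43222 F61102 (iv2 F61091))).symm
theorem F61105 : act 5 n26836 = n13287 := (sb E6073 (iv5 D27861))
theorem F61106 : act 7 n26836 = n18719 := (sb E6073 F61102)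
def n40184 : Q := act 0 n18978
theorem D40184 : act 0 n18978 = n40184 := rfl
theorem F61107 : act 5 n40184 = n40023 := d21_2 D18978 D40184 (iv6 D40023) (iv1 D18921) (iv6 D8871) (iv5 D3959) (iv1 D1715) D1717 D3965 D8891
def n40185 : Q := act 1 n18978
theorem D40185 : act 1 n18978 = n40185 := rfl
theorem F61108 : act 1 n40185 = n18983 := d15_1 D40185 (iv7 F61066) F61065
def n40186 : Q := act 4 n18978
theorem D40186 : act 4 n18978 = n40186 := rfl
def n40187 : Q := act 6 n18978
theorem D40187 : act 6 n18978 = n40187 := rfl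
theorem F61109 : act 5 n40187 = n40058 := d12_1 D40187 (iv6 D40058) (iv5 F30304) (iv6 D18979) D18978
theorem F61110 : act 0 n40187 = n40077 := d21_10 F60975 (iv1 D21891) F16633 (iv6 D10443) F7021 D8013 F12788 D8891 D18978 D40187
def n40188 : Q := act 7 n18978
theorem D40188 : act 7 n18978 = n40188 := rfl
theorem F61111 : act 2 n40188 = n18983 := d4_1 D40188 (iv7 F61066) F61065
theorem F61113 : act 1 n18983 = n40184 := d15_0 (iv0 D40184) D40188 F61111
theorem F61114 : act 6 n40052 = n40188 := d3_0 F61111 (iv6 F30306) D40052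
theorem F61115 : act 7 n40187 = n40058 := d14_4 F60939 F61114 (iv7 D40188) D40187 (iv6 D40058)
def n40189 : Q := act 0 n18979
theorem D40189 : act 0 n18979 = n40189 := rfl
def n40190 : Q := act 1 n18979
theorem D40190 : act 1 n18979 = n40190 := rfl
theorem F61116 : act 1 n40190 = n40055 := d15_1 D40190 (iv7 F61069) F61067
def n40191 : Q := act 7 n18979
theorem D40191 : act 7 n18979 = n40191 := rfl
theorem F61117 : act 2 n40191 = n40055 := d4_1 D40191 (iv7 F61069) F61067
theorem F61118 : act 5 n40191 = n40052 := d13_1 D40191 (iv7 F60939) (iv5 F30304)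
theorem F61119 : act 1 n40055 = n40189 := d15_0 (iv0 D40189) D40191 F61117
def n40192 : Q := act 6 n18980
theorem D40192 : act 6 n18980 = n40192 := rfl
theorem F61120 : act 2 n40192 = n18984 := d3_1 D40192 (iv6 D18984) (iv2 F30305)
def n40193 : Q := act 1 n18981
theorem D40193 : act 1 n18981 = n40193 := rfl
def n40194 : Q := act 2 n18981
theorem D40194 : act 2 n18981 = n40194 := rfl
theorem F61121 : act 3 n40194 = n38217 := d0_2 D18981 D40194 (iv2 F61073) F61074 F30305
theorem F61122 : act 4 n39663 = n40194 := d20_2 D18781 (iv1 F60553) F61121 (iv1 F59779) F32908 (iv4 F33665) F59766 (iv4 D18726) (iv3 F22071) (iv1 F22075)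
theorem E6074 : n38705 = n8804 := (c20_6 F32909 (iv1 F59686) (iv4 D8667) D8666 D18413 D38705 D18781 (iv1 F60553) F61122 F61121 (iv1 F59779))
theorem E6075 : n18780 = n18413 := ((D18780).symm.trans (sb E6074 (iv3 D38705)))
theorem F61123 : act 3 n18413 = n8804 := (sb E6075 (iv3 D18780))
theorem E6079 : n39681 = n38706 := (((D38706).symm.trans (sb E6075 D39681))).symm
theorem E6080 : n39682 = n38707 := (((D38707).symm.trans (sb E6075 D39682))).symm
theorem E6082 : n39651 = n38709 := (((D38709).symm.trans (sb E6075 (iv7 F60544)))).symm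
theorem F61124 : act 1 n38706 = n39954 := (sb E6079 (iv0 F60788))
theorem F61125 : act 3 n38707 = n18782 := (sb E6080 F60563)
theorem F61127 : act 3 n38709 = n18774 := (sb E6082 (iv3 D39651))
theorem E6083 : n39657 = n38710 := (c0_4 F61127 (iv2 D18774) D18775 D39657 (iv3 D38710) (iv2 F59493))
theorem F61128 : act 2 n38710 = n18775 := (sb E6083 (iv2 D39657))
def n40195 : Q := act 4 n18981
theorem D40195 : act 4 n18981 = n40195 := rfl
theorem F61129 : act 2 n40195 = n39663 := d1_1 D40195 F61122 (iv2 D40194)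
theorem F61130 : act 0 n27829 = n40195 := d20_1 D27829 (iv4 D40195) (iv3 D18981) (iv1 D8892) F5916 (iv4 F5923) F30436 (iv4 D6302) D6301 D13277
theorem F61131 : act 7 n39662 = n40195 := d15_2 F60553 F60557 F61129
theorem E6084 : n40171 = n40053 := (c11_3 F61131 (iv4 D40195) (iv7 F61062) (iv4 F60942))
theorem E6085 : n18975 = n18933 := ((((iv3 D40053)).symm.trans (sb E6084 (iv3 D40171)))).symm
theorem F61132 : act 7 n40053 = n18981 := (sb E6084 F61062)
theorem E6086 : n40169 = n8893 := ((((iv1 F30232)).symm.trans (sb E6085 D40169))).symm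
theorem E6088 : n40052 = n8891 := ((D40052).symm.trans (sb E6085 (iv2 D18975)))
theorem E6089 : n40172 = n40054 := (((D40054).symm.trans (sb E6085 D40172))).symm
theorem E6091 : n40174 = n18983 := (((F30306).symm.trans (sb E6085 D40174))).symm
theorem E6092 : n40056 = n8892 := ((D40056).symm.trans (sb E6085 (iv7 F30303)))
theorem E6093 : n18980 = n18934 := ((((iv1 F30229)).symm.trans (sb E6086 (iv1 F61060)))).symm
theorem F61133 : act 2 n8891 = n18933 := (sb E6088 (iv2 D40052))
theorem E6094 : n38634 = n18976 := (((D18976).symm.trans (sb E6088 F60940))).symm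
theorem E6095 : n40191 = n18978 := (((D18978).symm.trans (sb E6088 (iv5 F61118)))).symm
theorem E6096 : n40188 = n18979 := (((D18979).symm.trans (sb E6088 F61114))).symm
theorem F61134 : act 2 n40054 = n18977 := (sb E6089 F61063)
theorem F61135 : act 7 n40054 = n18982 := (sb E6089 F61064)
theorem F61136 : act 7 n18983 = n40055 := (sb E6091 F61069)
theorem F61137 : act 7 n8892 = n18933 := (sb E6092 (iv7 D40056))
theorem F61138 : act 2 n18934 = n8892 := (sb E6093 F30305)
theorem E6097 : n40177 = n18396 := (((F30230).symm.trans (sb E6093 (iv3 F61074)))).symm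
theorem E6098 : n40183 = n40057 := (((D40057).symm.trans (sb E6093 (iv4 F61083)))).symm
theorem E6099 : n40192 = n40058 := (((D40058).symm.trans (sb E6093 D40192))).symm
theorem F61139 : act 7 n18934 = n8891 := (sb E6093 (iv7 D18980))
theorem E6100 : n40175 = n18391 := ((D40175).symm.trans (sb E6094 F59451))
theorem E6101 : n18389 = n18258 := (((F30441).symm.trans (sb E6094 (iv4 D38634)))).symm
theorem F61140 : act 2 n18978 = n40055 := (sb E6095 F61117)
theorem F61141 : act 2 n18979 = n18983 := (sb E6096 F61111)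
theorem F61142 : act 7 n18979 = n18978 := (sb E6096 (iv7 D40188))
theorem E6102 : n38649 = n38217 := (((iv2 F59461)).symm.trans (sb E6097 F61073))
theorem E6103 : n38215 = n8661 := ((((iv4 D18396)).symm.trans (sb E6097 F61075))).symm
theorem F61143 : act 7 n18396 = n18976 := (sb E6097 (iv7 D40177))
theorem F61144 : act 2 n40057 = n18982 := (sb E6098 F61082)
theorem F61145 : act 7 n40057 = n18977 := (sb E6098 (iv7 D40183))
theorem F61146 : act 2 n40058 = n18984 := (sb E6099 F61120)
theorem F61147 : act 2 n18391 = n18976 := (sb E6100 (iv2 D40175))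
theorem E6104 : n38211 = n8660 := ((((iv4 D18391)).symm.trans (sb E6100 F61070))).symm
theorem E6107 : n38633 = n38212 := (((D38212).symm.trans (sb E6101 D38633))).symm
theorem E6108 : n38635 = n38213 := (((D38213).symm.trans (sb E6101 D38635))).symm
theorem E6109 : n38636 = n38214 := (((D38214).symm.trans (sb E6101 D38636))).symm
theorem F61148 : act 2 n38217 = n18396 := (sb E6102 F59461)
theorem E6110 : n18394 = n18259 := ((((iv4 D38217)).symm.trans (sb E6102 F59462))).symm
theorem F61149 : act 7 n38217 = n18391 := (sb E6102 (iv7 D38649))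
theorem F61150 : act 7 n8661 = n18258 := (sb E6103 (iv7 D38215))
theorem F61151 : act 2 n8660 = n18258 := (sb E6104 (iv2 D38211))
theorem F61152 : act 7 n38212 = n18395 := (sb E6107 F59450)
theorem F61153 : act 2 n38213 = n18392 := (sb E6108 F59453)
theorem F61154 : act 7 n38213 = n18397 := (sb E6108 F59454)
theorem F61155 : act 2 n38214 = n18393 := (sb E6109 F59455)
theorem F61156 : act 2 n18259 = n8661 := (sb E6110 F29566)
theorem E6111 : n38643 = n38216 := (((D38216).symm.trans (sb E6110 (iv3 F59458)))).symm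
theorem E6112 : n38654 = n38218 := (((D38218).symm.trans (sb E6110 (iv5 F59473)))).symm
theorem E6113 : n38659 = n38219 := (((D38219).symm.trans (sb E6110 D38659))).symm
theorem F61157 : act 7 n18259 = n8660 := (sb E6110 (iv7 D18394))
theorem F61158 : act 7 n38216 = n18390 := (sb E6111 (iv7 D38643))
theorem F61159 : act 2 n38218 = n18397 := (sb E6112 F59472)
theorem F61160 : act 7 n38218 = n18392 := (sb E6112 (iv7 D38654))
theorem F61161 : act 2 n38219 = n18398 := (sb E6113 F59479)
theorem F61162 : act 2 n38648 = n38666 := d1_3 F59484 F61155 (iv4 F59460)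
theorem F61163 : act 2 n38657 = n34601 := d2_3 (iv5 F59078) F61155 D38657
theorem F61164 : act 1 n38751 = n38658 := d15_1 (iv0 F59531) (iv7 D38658) (iv2 F61155)
theorem F61165 : act 1 n38658 = n38754 := d15_1 F61164 F59658 F59659
theorem F61166 : act 4 n38647 = n38658 := d18_5 (iv1 D3887) (iv4 F5847) D8660 D18391 D38647 F61165 (iv4 D38754) F29590 (iv5 D8673)
theorem F61167 : act 7 n38648 = n38647 := d11_0 F61166 (iv7 D38658) (iv4 F59460)
theorem F61168 : act 5 n38658 = n34600 := d17_5 F59758 F28881 F59748 D38647 F61166 (iv0 D34600) (iv5 D16771) D16770 D34597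
theorem F61169 : act 7 n34600 = n38657 := d13_2 D38658 F61168 (iv5 D38657)
theorem F61170 : act 7 n38663 = n40180 := d11_2 F61152 D38663 F61080
theorem F61171 : act 7 n38646 = n40194 := d8_2 F61149 D38646 F61121
theorem E6114 : n40193 = n39707 := (c15_1 D40193 (iv0 F60581) F61171 (iv2 D40194))
theorem F61172 : act 0 n39707 = n18981 := (sb E6114 (iv1 D40193))
theorem F61173 : act 2 n40176 = n38647 := d2_3 (iv5 D38647) F61147 D40176
theorem F61174 : act 7 n38666 = n40176 := d4_0 F61173 (iv7 F61167) F61162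
theorem F61175 : act 1 n18984 = n40077 := d15_0 (iv0 F61110) F61115 F61146
theorem F61176 : act 1 n40054 = n39526 := d15_0 (iv0 F60945) F61145 (iv2 F61134)
theorem F61177 : act 7 n40186 = n40182 := d11_2 F61142 D40186 F61081
theorem F61178 : act 1 n38646 = n39702 := d15_0 (iv0 F61086) (iv7 F61132) F60941
def n40196 : Q := act 5 n18981
theorem D40196 : act 5 n18981 = n40196 := rfl
theorem F61179 : act 3 n40196 = n18983 := d6_1 D40196 (iv5 D18983) D18981
theorem F61180 : act 6 n40053 = n40196 := d7_0 F61179 (iv6 F30306) D40053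
def n40197 : Q := act 6 n18981
theorem D40197 : act 6 n18981 = n40197 := rfl
theorem F61181 : act 3 n40197 = n18984 := d7_1 D40197 (iv6 D18984) D18981
def n40198 : Q := act 3 n18982
theorem D40198 : act 3 n18982 = n40198 := rfl
def n40199 : Q := act 5 n18982
theorem D40199 : act 5 n18982 = n40199 := rfl
def n40200 : Q := act 6 n18982
theorem D40200 : act 6 n18982 = n40200 := rfl
theorem F61182 : act 4 n40200 = n18984 := d10_1 D40200 (iv6 D18984) D18982
def n40201 : Q := act 4 n18983
theorem D40201 : act 4 n18983 = n40201 := rfl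
def n40202 : Q := act 0 n18984
theorem D40202 : act 0 n18984 = n40202 := rfl
theorem F61185 : act 5 n40202 = n21890 := d21_0 (iv1 F34372) F30192 (iv6 F34572) (iv1 F34574) D40023 (iv5 F61107) (iv1 F61113) (iv5 D18983) D18984 D40202
theorem F61186 : act 0 n40202 = n40187 := d21_1 (iv5 F61185) F61109 (iv6 D40058) (iv1 D18934) (iv6 D8878) (iv5 D3961) F3281 D4743 D10443 D21890
def n40203 : Q := act 5 n18984
theorem D40203 : act 5 n18984 = n40203 := rfl
theorem F61187 : act 2 n40203 = n40187 := d2_1 D40203 F61109 F61146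
theorem F61188 : act 6 n40203 = n40055 := d12_2 D18984 D40203 (iv5 D40055) F30306 (iv5 D18983)
theorem F61189 : act 0 n39992 = n40203 := d21_1 D39992 (iv5 D40203) (iv6 D18984) (iv1 D8892) (iv6 D3965) (iv5 D1717) D1714 D3955 D8867 D18911
theorem F61190 : act 1 n39992 = n40058 := d15_1 (iv0 F61189) (iv7 F61115) (iv2 F61187)
theorem F61191 : act 7 n18984 = n40203 := d14_0 F61188 (iv7 F61136) (iv6 F30306) (iv7 F61137) D18984
theorem F61192 : act 0 n40203 = n39997 := d21_10 (iv5 D39997) (iv1 D18912) F13827 (iv6 D8867) (iv1 F12785) D17122 F28068 D18933 D40055 (iv6 F61188)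
theorem F61193 : act 1 n40058 = n39997 := d15_0 (iv0 F61192) (iv7 F61191) (iv2 F61146)
def n40204 : Q := act 2 n18986
theorem D40204 : act 2 n18986 = n40204 := rfl
theorem F61194 : act 7 n18987 = n40204 := d15_2 (iv0 D18986) D18987 (iv2 D40204)
def n40205 : Q := act 3 n18986
theorem D40205 : act 3 n18986 = n40205 := rfl
theorem F61195 : act 4 n40205 = n37789 := d20_6 (iv4 F37327) (iv1 D11199) F7644 (iv3 F13859) D18986 D40205 (iv1 F58642) F29568 F13582 (iv1 F9820)
def n40206 : Q := act 4 n18986
theorem D40206 : act 4 n18986 = n40206 := rfl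
def n40207 : Q := act 5 n18986
theorem D40207 : act 5 n18986 = n40207 := rfl
def n40208 : Q := act 6 n18986
theorem D40208 : act 6 n18986 = n40208 := rfl
def n40209 : Q := act 7 n18986
theorem D40209 : act 7 n18986 = n40209 := rfl
theorem F61196 : act 2 n40209 = n18987 := d4_1 D40209 F61194 (iv2 D40204)
def n40210 : Q := act 3 n18987
theorem D40210 : act 3 n18987 = n40210 := rfl
def n40211 : Q := act 4 n18987
theorem D40211 : act 4 n18987 = n40211 := rfl
def n40212 : Q := act 5 n18987
theorem D40212 : act 5 n18987 = n40212 := rfl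
def n40213 : Q := act 6 n18987
theorem D40213 : act 6 n18987 = n40213 := rfl
def n40214 : Q := act 4 n18988
theorem D40214 : act 4 n18988 = n40214 := rfl
theorem F61197 : act 2 n40214 = n35271 := d1_1 D40214 (iv4 D35271) (iv2 F30309)
theorem F61198 : act 7 n40214 = n35782 := d11_2 F30320 D40214 (iv4 D35782)
def n40215 : Q := act 4 n18989
theorem D40215 : act 4 n18989 = n40215 := rfl
theorem F61199 : act 2 n40215 = n35782 := d1_1 D40215 (iv4 D35782) F30317
theorem F61200 : act 7 n40215 = n35271 := d11_2 (iv7 F30315) D40215 (iv4 D35271)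
def n40216 : Q := act 6 n18989
theorem D40216 : act 6 n18989 = n40216 := rfl
theorem F61201 : act 2 n40216 = n35783 := d3_1 D40216 (iv6 D35783) F30317
theorem F61202 : act 5 n40216 = n35779 := d12_1 D40216 (iv6 D35779) (iv5 D17337) F17561 D18989
def n40217 : Q := act 5 n18991
theorem D40217 : act 5 n18991 = n40217 := rfl
theorem F61203 : act 3 n40217 = n26450 := d6_1 D40217 F52942 F52940
theorem F61204 : act 7 n40217 = n33093 := d13_2 F42927 D40217 (iv5 F52313)
theorem F61205 : act 4 n40217 = n32660 := d16_2 D18991 D40217 (iv5 F55683) F55682 (iv5 D34959) (iv4 D16966) (iv5 F30276) (iv7 F42908) F42907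
def n40218 : Q := act 6 n18991
theorem D40218 : act 6 n18991 = n40218 := rfl
theorem F61206 : act 4 n40218 = n18992 := d10_1 D40218 (iv6 D18992) D18991
def n40219 : Q := act 0 n18992
theorem D40219 : act 0 n18992 = n40219 := rfl
def n40220 : Q := act 1 n18992
theorem D40220 : act 1 n18992 = n40220 := rfl
def n40221 : Q := act 7 n18992
theorem D40221 : act 7 n18992 = n40221 := rfl
def n40222 : Q := act 6 n18994
theorem D40222 : act 6 n18994 = n40222 := rfl
theorem F61207 : act 3 n40222 = n18996 := d7_1 D40222 (iv6 D18996) D18994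
def n40223 : Q := act 3 n18995
theorem D40223 : act 3 n18995 = n40223 := rfl
theorem F61208 : act 0 n35449 = n40223 := d20_4 (iv4 F13896) F14143 D19157 (iv3 F56156) (iv3 D40223) (iv4 D18995) (iv1 D8898) (iv4 F13855) (iv3 D8887) D8885
def n40224 : Q := act 5 n18995
theorem D40224 : act 5 n18995 = n40224 := rfl
theorem F61209 : act 2 n40224 = n33093 := d2_1 D40224 (iv5 F52313) (iv2 F42928)
def n40225 : Q := act 6 n18995
theorem D40225 : act 6 n18995 = n40225 := rfl
theorem F61210 : act 4 n40225 = n18996 := d10_1 D40225 (iv6 D18996) D18995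
def n40226 : Q := act 0 n18996
theorem D40226 : act 0 n18996 = n40226 := rfl
def n40227 : Q := act 1 n18996
theorem D40227 : act 1 n18996 = n40227 := rfl
def n40228 : Q := act 5 n18996
theorem D40228 : act 5 n18996 = n40228 := rfl
theorem F61211 : act 6 n40228 = n34961 := d12_2 D18996 D40228 (iv5 D34961) (iv6 D16968) (iv5 F30276)
def n40229 : Q := act 7 n18996
theorem D40229 : act 7 n18996 = n40229 := rfl
def n40230 : Q := act 5 n18997
theorem D40230 : act 5 n18997 = n40230 := rfl
theorem F61212 : act 2 n40230 = n19000 := d2_1 D40230 (iv5 D19000) (iv2 F30327)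
theorem F61213 : act 6 n40230 = n34826 := d12_2 D18997 D40230 (iv5 D34826) (iv6 D16882) (iv5 F13868)
def n40231 : Q := act 2 n18998
theorem D40231 : act 2 n18998 = n40231 := rfl
theorem F61214 : act 7 n18999 = n40231 := d15_2 (iv0 D18998) D18999 (iv2 D40231)
def n40232 : Q := act 3 n18998
theorem D40232 : act 3 n18998 = n40232 := rfl
def n40233 : Q := act 4 n18998
theorem D40233 : act 4 n18998 = n40233 := rfl
def n40234 : Q := act 5 n18998
theorem D40234 : act 5 n18998 = n40234 := rfl
def n40235 : Q := act 6 n18998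
theorem D40235 : act 6 n18998 = n40235 := rfl
def n40236 : Q := act 7 n18998
theorem D40236 : act 7 n18998 = n40236 := rfl
theorem F61215 : act 2 n40236 = n18999 := d4_1 D40236 F61214 (iv2 D40231)
def n40237 : Q := act 3 n18999
theorem D40237 : act 3 n18999 = n40237 := rfl
def n40238 : Q := act 4 n18999
theorem D40238 : act 4 n18999 = n40238 := rfl
def n40239 : Q := act 5 n18999
theorem D40239 : act 5 n18999 = n40239 := rfl
def n40240 : Q := act 6 n18999
theorem D40240 : act 6 n18999 = n40240 := rfl
def n40241 : Q := act 0 n19000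
theorem D40241 : act 0 n19000 = n40241 := rfl
def n40242 : Q := act 1 n19000
theorem D40242 : act 1 n19000 = n40242 := rfl
def n40243 : Q := act 4 n19000
theorem D40243 : act 4 n19000 = n40243 := rfl
theorem F61216 : act 6 n40243 = n34835 := d10_2 (iv6 F30329) D40243 (iv4 D34835)
def n40244 : Q := act 3 n19011
theorem D40244 : act 3 n19011 = n40244 := rfl
def n40245 : Q := act 6 n19011
theorem D40245 : act 6 n19011 = n40245 := rfl
theorem F61217 : act 5 n40245 = n35102 := d12_1 D40245 (iv6 F57639) (iv5 F57638) (iv6 F57636) F43133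
def n40246 : Q := act 3 n19012
theorem D40246 : act 3 n19012 = n40246 := rfl
def n40247 : Q := act 6 n19012
theorem D40247 : act 6 n19012 = n40247 := rfl
def n40248 : Q := act 3 n19013
theorem D40248 : act 3 n19013 = n40248 := rfl
theorem F61218 : act 6 n40248 = n34837 := d7_2 (iv6 F30332) D40248 (iv3 D34837)
def n40249 : Q := act 5 n19013
theorem D40249 : act 5 n19013 = n40249 := rfl
theorem F61219 : act 4 n40249 = n32403 := d9_1 D40249 F51453 F24882 (iv5 F13778) (iv4 F30433) D27847 (iv4 F60386) F60385 (iv4 D32808) (iv5 D15708) F11681 F5662 (iv4 F5923) D8903 D19013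
theorem F61220 : act 7 n40249 = n32402 := d13_2 F60462 D40249 (iv5 F60463)
theorem F61221 : act 0 n40249 = n34707 := d17_2 (iv1 F30333) D40249 F54947 (iv4 D18681) (iv5 D8764) (iv0 D3915) D3917 D8772 D18708
theorem F61222 : act 1 n40249 = n34704 := d17_6 (iv1 F44976) (iv5 D13293) (iv1 F30437) D8903 D19013 D40249 F54944 F60354 F60353
def n40250 : Q := act 2 n19019
theorem D40250 : act 2 n19019 = n40250 := rfl
def n40251 : Q := act 5 n19019
theorem D40251 : act 5 n19019 = n40251 := rfl
def n40253 : Q := act 7 n19019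
theorem D40253 : act 7 n19019 = n40253 := rfl
def n40254 : Q := act 3 n19020
theorem D40254 : act 3 n19020 = n40254 := rfl
def n40258 : Q := act 4 n19021
theorem D40258 : act 4 n19021 = n40258 := rfl
theorem F61225 : act 2 n40258 = n19022 := d1_1 D40258 (iv4 D19022) D19021
theorem F61227 : act 0 n38764 = n40258 := d20_1 D38764 (iv4 D40258) F59781 (iv1 F59691) F59693 F59690 (iv1 F29588) (iv4 D8672) D8671 D18435
theorem F61228 : act 1 n38764 = n39966 := d15_1 (iv0 F61227) F60810 (iv2 F61225)
theorem E6115 : n38763 = n27590 := (c20_10 D27592 F44489 F30301 F13858 (iv1 F13776) D18898 D39966 (iv1 F61228) (iv4 D38764) D38763 (iv1 D27590))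
theorem F61229 : act 2 n27590 = n18722 := (sb E6115 F60796)
theorem F61230 : act 3 n27590 = n18435 := (sb E6115 (iv3 D38763))
theorem F61231 : act 4 n27590 = n40179 := (sb E6115 F61078)
def n40259 : Q := act 5 n19021
theorem D40259 : act 5 n19021 = n40259 := rfl
theorem F61232 : act 2 n40259 = n19023 := d2_1 D40259 (iv5 D19023) D19021
theorem F61233 : act 3 n40259 = n36104 := d6_1 D40259 (iv5 D36104) (iv3 F59781)
def n40260 : Q := act 6 n19021
theorem D40260 : act 6 n19021 = n40260 := rfl
theorem F61234 : act 2 n40260 = n19024 := d3_1 D40260 (iv6 D19024) D19021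
theorem F61235 : act 3 n40260 = n36105 := d7_1 D40260 (iv6 D36105) (iv3 F59781)
theorem F61236 : act 5 n39965 = n40260 := d6_0 F61235 (iv5 F59717) (iv3 F60804)
theorem F61237 : act 7 n40259 = n40260 := d8_0 F61235 F59714 (iv3 F61233)
def n40261 : Q := act 0 n19022
theorem D40261 : act 0 n19022 = n40261 := rfl
def n40262 : Q := act 1 n19022
theorem D40262 : act 1 n19022 = n40262 := rfl
theorem F61238 : act 4 n27859 = n40262 := d20_6 (iv4 F30433) (iv1 F22079) (iv4 D6306) D6305 D13287 D27859 (iv1 D40262) (iv4 D19022) (iv3 D8906) (iv1 F13782)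
theorem F61239 : act 2 n40262 = n38764 := d1_1 F61238 (iv4 D38764) (iv2 F61097)
theorem F61240 : act 7 n40262 = n38769 := d11_2 (iv7 F61098) F61238 (iv4 D38769)
theorem F61241 : act 2 n38769 = n40261 := d15_3 (iv0 D40261) D40262 F61240
theorem F61242 : act 7 n38764 = n40261 := d4_2 (iv7 F61240) F61239 (iv2 F61241)
theorem F61243 : act 4 n40261 = n38767 := d11_1 F61242 (iv7 D38767) D38764
def n40263 : Q := act 5 n19022
theorem D40263 : act 5 n19022 = n40263 := rfl
theorem F61244 : act 3 n40263 = n39403 := d6_1 D40263 (iv5 D39403) (iv3 F30365)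
def n40264 : Q := act 6 n19022
theorem D40264 : act 6 n19022 = n40264 := rfl
theorem F61245 : act 3 n40264 = n39404 := d7_1 D40264 (iv6 D39404) (iv3 F30365)
theorem F61246 : act 4 n40264 = n19024 := d10_1 D40264 (iv6 D19024) D19022
def n40265 : Q := act 0 n19023
theorem D40265 : act 0 n19023 = n40265 := rfl
theorem F61247 : act 1 n40260 = n40265 := d15_0 (iv0 D40265) F30418 (iv2 F61234)
def n40266 : Q := act 1 n19023
theorem D40266 : act 1 n19023 = n40266 := rfl
theorem F61248 : act 1 n40266 = n40260 := d15_1 D40266 (iv7 F61237) F61232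
def n40267 : Q := act 4 n19023
theorem D40267 : act 4 n19023 = n40267 := rfl
theorem F61249 : act 7 n40267 = n40264 := d11_2 (iv7 F30418) D40267 F61246
def n40268 : Q := act 0 n19024
theorem D40268 : act 0 n19024 = n40268 := rfl
theorem F61250 : act 1 n40259 = n40268 := d15_0 (iv0 D40268) (iv7 F30418) (iv2 F61232)
def n40269 : Q := act 1 n19024
theorem D40269 : act 1 n19024 = n40269 := rfl
theorem F61251 : act 1 n40269 = n40259 := d15_1 D40269 F61237 F61234
def n40270 : Q := act 3 n19029
theorem D40270 : act 3 n19029 = n40270 := rfl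
theorem F61252 : act 5 n40270 = n27212 := d6_2 F30454 D40270 F44000
theorem F61253 : act 6 n40270 = n36319 := d7_2 F30472 D40270 F57039
theorem F61254 : act 7 n40270 = n27095 := d8_2 F30512 D40270 F43782
def n40271 : Q := act 4 n19031
theorem D40271 : act 4 n19031 = n40271 := rfl
theorem F61255 : act 2 n40271 = n36100 := d1_1 D40271 F56850 (iv2 F59692)
theorem F61257 : act 7 n40271 = n26889 := d11_2 (iv7 F59696) D40271 F43374
theorem F61258 : act 0 n36097 = n40271 := d20_7 (iv4 D38217) (iv1 D18259) F13526 (iv3 F9752) D13135 D27440 (iv4 F59782) (iv4 D40271) F59693 (iv1 F59774)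
theorem E6116 : n39655 = n27440 := (c20_11 (iv4 F59782) F61258 (iv4 D40271) F59693 (iv1 F59774) (iv3 F61121) (iv4 F61122) (iv1 D39663) (iv4 D18776) D18775 D39655)
theorem F61259 : act 1 n27440 = n18775 := (sb E6116 (iv0 D39655))
theorem F61260 : act 1 n36098 = n40271 := d15_1 D36098 F61257 F43373
theorem F61261 : act 2 n27614 = n36098 := d15_3 F61260 (iv0 F61258) (iv7 F59783)
theorem F61262 : act 4 n36098 = n27613 := d1_2 D27614 F61261 (iv2 D27613)
def n40272 : Q := act 4 n19032
theorem D40272 : act 4 n19032 = n40272 := rfl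
theorem F61263 : act 2 n40272 = n19033 := d1_1 D40272 (iv4 D19033) D19032
theorem F61265 : act 0 n40272 = n39658 := d20_1 D40272 (iv4 D39658) (iv3 D18775) (iv1 F22073) F22071 D18726 (iv1 F44998) (iv4 F59770) F33448 (iv1 F59716)
def n40273 : Q := act 6 n19032
theorem D40273 : act 6 n19032 = n40273 := rfl
theorem F61266 : act 2 n40273 = n19035 := d3_1 D40273 (iv6 D19035) D19032
theorem F61267 : act 1 n40273 = n26907 := d15_0 (iv0 F59707) F57646 (iv2 F61266)
def n40274 : Q := act 0 n19033
theorem D40274 : act 0 n19033 = n40274 := rfl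
theorem F61268 : act 4 n40274 = n38710 := d20_2 D19033 D40274 (iv3 D38710) (iv1 D18414) (iv3 D8666) D8667 D18420 (iv4 F59690) (iv3 F59693) (iv1 D19031)
theorem F61269 : act 1 n36103 = n40274 := d15_0 (iv0 D40274) (iv7 F60801) F60799
theorem F61270 : act 2 n39658 = n40274 := d1_3 F61268 F61128 D39658
def n40275 : Q := act 1 n19033
theorem D40275 : act 1 n19033 = n40275 := rfl
theorem F61272 : act 7 n40275 = n39658 := d15_2 (iv0 D40274) D40275 F61270
theorem F61273 : act 4 n27828 = n40275 := d20_6 (iv4 F5923) F30436 (iv4 D6302) D6301 D13277 D27828 (iv1 D40275) (iv4 D19033) (iv3 D8911) (iv1 D3971)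
theorem E6117 : n39661 = n27828 := (c11_1 D39661 F61273 F61272 (iv4 D39658))
theorem E6118 : n18779 = n13277 := ((((iv3 D27828)).symm.trans (sb E6117 F60552))).symm
theorem F61274 : act 7 n27828 = n18775 := (sb E6117 (iv7 D39661))
theorem E6119 : n39650 = n8805 := ((((iv1 F22070)).symm.trans (sb E6118 (iv1 F60543)))).symm
theorem E6121 : n27827 = n8804 := ((D27827).symm.trans (sb E6118 F30030))
theorem E6122 : n39667 = n27829 := (((D27829).symm.trans (sb E6118 (iv4 F60556)))).symm
theorem E6123 : n39672 = n27830 := (((D27830).symm.trans (sb E6118 (iv5 F60560)))).symm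
theorem E6124 : n39677 = n27831 := (((D27831).symm.trans (sb E6118 D39677))).symm
theorem E6125 : n27832 = n8803 := ((D27832).symm.trans (sb E6118 (iv7 D18779)))
theorem E6126 : n18774 = n13278 := ((((iv1 F22074)).symm.trans (sb E6119 (iv1 D39650)))).symm
theorem F61275 : act 2 n8804 = n13277 := (sb E6121 (iv2 D27827))
theorem F61276 : act 2 n27829 = n18781 := (sb E6122 F60555)
theorem F61277 : act 7 n27829 = n18776 := (sb E6122 (iv7 D39667))
theorem F61278 : act 2 n27830 = n18782 := (sb E6123 F60559)
theorem F61279 : act 7 n27830 = n18777 := (sb E6123 (iv7 D39672))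
theorem F61280 : act 2 n27831 = n18783 := (sb E6124 F60562)
theorem F61281 : act 7 n8803 = n13277 := (sb E6125 (iv7 D27832))
theorem E6127 : n38709 = n27833 := (((D27833).symm.trans (sb E6126 (iv3 F61127)))).symm
theorem E6128 : n39652 = n27834 := (((D27834).symm.trans (sb E6126 D39652))).symm
theorem E6129 : n39653 = n27835 := (((D27835).symm.trans (sb E6126 D39653))).symm
theorem F61284 : act 2 n27833 = n18414 := (sb E6127 F59493)
theorem F61285 : act 7 n27833 = n18413 := (sb E6127 (iv7 D38709))
theorem F61286 : act 2 n27834 = n18776 := (sb E6128 F60545)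
theorem F61287 : act 7 n27834 = n18781 := (sb E6128 F60546)
theorem F61288 : act 2 n27835 = n18777 := (sb E6129 F60547)
theorem F61289 : act 7 n27835 = n18782 := (sb E6129 F60548)
theorem F61291 : act 1 n27834 = n40195 := d15_0 (iv0 F61130) F61277 (iv2 F61286)
def n40276 : Q := act 5 n19033
theorem D40276 : act 5 n19033 = n40276 := rfl
theorem F61292 : act 3 n40276 = n39444 := d6_1 D40276 (iv5 D39444) (iv3 F30539)
def n40277 : Q := act 6 n19033
theorem D40277 : act 6 n19033 = n40277 := rfl
def n40278 : Q := act 0 n19034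
theorem D40278 : act 0 n19034 = n40278 := rfl
theorem F61295 : act 1 n36104 = n40278 := d15_0 (iv0 D40278) (iv7 F59705) (iv2 F59708)
def n40279 : Q := act 4 n19034
theorem D40279 : act 4 n19034 = n40279 := rfl
theorem F61296 : act 6 n40279 = n39962 := d10_2 F30541 D40279 (iv4 D39962)
def n40280 : Q := act 1 n19035
theorem D40280 : act 1 n19035 = n40280 := rfl
def n40281 : Q := act 0 n19037
theorem D40281 : act 0 n19037 = n40281 := rfl
def n40282 : Q := act 1 n19037
theorem D40282 : act 1 n19037 = n40282 := rfl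
def n40283 : Q := act 2 n19037
theorem D40283 : act 2 n19037 = n40283 := rfl
theorem F61298 : act 3 n40283 = n33907 := d0_2 D19037 D40283 (iv2 D33907) (iv3 D16392) F53049
theorem F61299 : act 7 n40283 = n33958 := d4_2 (iv7 F53128) D40283 (iv2 D33958)
theorem F61300 : act 1 n40283 = n33956 := d15_0 (iv0 D33956) (iv7 F53128) D40283
theorem F61302 : act 1 n33957 = n40283 := d15_1 D33957 F61299 (iv2 D33958)
def n40284 : Q := act 4 n19037
theorem D40284 : act 4 n19037 = n40284 := rfl
theorem F61303 : act 3 n40284 = n26656 := d5_1 D40284 (iv4 D26656) (iv3 D12735) F41667 D19037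
theorem F61304 : act 7 n40284 = n33945 := d11_2 (iv7 F53128) D40284 F53289
def n40285 : Q := act 5 n19037
theorem D40285 : act 5 n19037 = n40285 := rfl
theorem F61305 : act 3 n40285 = n19039 := d6_1 D40285 (iv5 D19039) D19037
theorem F61306 : act 7 n40285 = n33959 := d13_2 (iv7 F53128) D40285 (iv5 D33959)
def n40286 : Q := act 6 n19037
theorem D40286 : act 6 n19037 = n40286 := rfl
theorem F61307 : act 3 n40286 = n19040 := d7_1 D40286 (iv6 D19040) D19037
theorem F61308 : act 5 n35261 = n40286 := d6_0 F61307 F30545 D35261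
theorem F61309 : act 7 n35716 = n40286 := d8_0 F61307 F53080 D35716
def n40287 : Q := act 4 n19039
theorem D40287 : act 4 n19039 = n40287 := rfl
theorem F61310 : act 2 n40287 = n33911 := d1_1 D40287 (iv4 D33911) F53115
theorem F61311 : act 7 n40287 = n33961 := d11_2 (iv7 F53114) D40287 (iv4 D33961)
theorem F61312 : act 5 n40287 = n39862 := d17_5 (iv1 D17353) F12891 D8916 D19039 D40287 (iv0 D39862) (iv5 D18862) D18860 (iv4 F41676)
theorem F61313 : act 0 n40287 = n39026 := d18_2 (iv1 F57703) D40287 F60037 F29707 (iv4 F42329) F42730 F28963 F28844 (iv5 F57701)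
theorem F61314 : act 1 n40287 = n39807 := d18_6 (iv1 D3931) (iv4 F4044) D6023 F41667 D19039 D40287 (iv4 D39807) F30088 (iv5 D8825)
def n40288 : Q := act 6 n19039
theorem D40288 : act 6 n19039 = n40288 := rfl
theorem F61316 : act 5 n40288 = n35262 := d12_1 D40288 (iv6 D35262) (iv5 F30545) (iv6 D19040) D19039
theorem F61317 : act 7 n40288 = n35777 := d14_2 (iv7 F53114) D40288 (iv6 D35777) F53116 F43498
theorem F61318 : act 0 n40288 = n27099 := d21_4 F12891 D8916 D19039 D40288 (iv6 D27099) (iv5 F28830) (iv1 F43885) (iv5 F43886) F43464 (iv1 D17353)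
theorem F61319 : act 0 n35857 = n35262 := d21_1 D35857 (iv5 F61316) (iv6 D40288) F30544 (iv6 D17290) (iv5 D8100) (iv1 F9495) (iv5 F21401) D26956 (iv1 F43492)
theorem F61320 : act 0 n35715 = n40288 := d21_4 (iv5 F28960) F28958 D17309 (iv6 F56405) (iv6 D40288) (iv5 D19039) (iv1 F13880) (iv5 F28210) F28211 (iv1 F28585)
theorem F61321 : act 0 n35629 = n35858 := d21_4 F28235 D27153 F43897 D35629 (iv6 D35858) D35857 F61319 (iv5 F61316) (iv6 D40288) F30544
def n40289 : Q := act 0 n19042
theorem D40289 : act 0 n19042 = n40289 := rfl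
theorem F61322 : act 1 n33907 = n40289 := d15_0 (iv0 D40289) (iv7 F53110) D33907
def n40290 : Q := act 1 n19042
theorem D40290 : act 1 n19042 = n40290 := rfl
def n40291 : Q := act 2 n19042
theorem D40291 : act 2 n19042 = n40291 := rfl
theorem F61324 : act 7 n40291 = n33907 := d4_2 F53110 D40291 (iv2 D33907)
theorem F61325 : act 1 n40291 = n33905 := d15_0 (iv0 D33905) F53110 D40291
theorem F61326 : act 1 n40290 = n33907 := d15_1 D40290 (iv7 F61324) (iv2 D40291)
theorem F61327 : act 1 n33906 = n40291 := d15_1 D33906 F61324 (iv2 D33907)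
def n40292 : Q := act 4 n19042
theorem D40292 : act 4 n19042 = n40292 := rfl
theorem F61328 : act 3 n40292 = n26672 := d5_1 D40292 (iv4 D26672) (iv3 D12740) F41672 D19042
theorem F61329 : act 7 n40292 = n33894 := d11_2 F53110 D40292 F53246
def n40293 : Q := act 5 n19042
theorem D40293 : act 5 n19042 = n40293 := rfl
theorem F61330 : act 3 n40293 = n19044 := d6_1 D40293 (iv5 D19044) D19042
theorem F61331 : act 7 n40293 = n33908 := d13_2 F53110 D40293 (iv5 D33908)
theorem F61332 : act 6 n35771 = n40293 := d7_0 F61330 (iv6 F30550) D35771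
def n40294 : Q := act 6 n19042
theorem D40294 : act 6 n19042 = n40294 := rfl
theorem F61333 : act 3 n40294 = n19045 := d7_1 D40294 (iv6 D19045) D19042
theorem F61334 : act 7 n36341 = n40294 := d8_0 F61333 (iv7 F53070) D36341
def n40295 : Q := act 4 n19044
theorem D40295 : act 4 n19044 = n40295 := rfl
theorem F61335 : act 2 n40295 = n33961 := d1_1 D40295 (iv4 D33961) (iv2 F53112)
theorem F61336 : act 6 n40295 = n35772 := d10_2 F30550 D40295 (iv4 D35772)
theorem F61337 : act 7 n40295 = n33911 := d11_2 F53111 D40295 (iv4 D33911)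
theorem F61338 : act 0 n40295 = n39807 := d18_2 F30549 D40295 (iv4 D39807) (iv5 F30090) (iv4 F51220) (iv0 D32306) F43898 (iv0 D27153) (iv5 F28235)
theorem F61339 : act 1 n40295 = n39026 := d18_6 (iv1 F9818) F9815 (iv1 F9356) F41672 D19044 D40295 F60037 (iv0 F29713) (iv5 D8820)
theorem F61340 : act 5 n39863 = n40295 := d17_7 F29708 (iv5 D8825) (iv1 D3931) D3932 D8829 D18862 D39863 F61339 F60037
theorem E6131 : n35874 = n35772 := (c21_5 D8127 (iv1 F14992) F14990 D17370 D35874 (iv6 F61336) (iv5 F61340) (iv1 D39863) (iv5 D18862) F13720 F5874)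
theorem F61341 : act 1 n35772 = n17370 := (sb E6131 (iv0 D35874))
def n40296 : Q := act 6 n19047
theorem D40296 : act 6 n19047 = n40296 := rfl
theorem F61343 : act 3 n40296 = n19049 := d7_1 D40296 (iv6 D19049) (iv3 F30557)
def n40297 : Q := act 0 n19049
theorem D40297 : act 0 n19049 = n40297 := rfl
def n40298 : Q := act 1 n19049
theorem D40298 : act 1 n19049 = n40298 := rfl
theorem F61344 : act 1 n40298 = n27452 := d15_1 D40298 (iv7 D27452) (iv2 F30572)
def n40299 : Q := act 5 n19049
theorem D40299 : act 5 n19049 = n40299 := rfl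
theorem F61345 : act 2 n40299 = n27451 := d2_1 D40299 (iv5 D27451) (iv2 F30572)
theorem F61346 : act 6 n40299 = n19051 := d12_2 D19049 D40299 (iv5 D19051) (iv6 D8922) D8921
def n40300 : Q := act 7 n19049
theorem D40300 : act 7 n19049 = n40300 := rfl
theorem F61347 : act 2 n40300 = n27452 := d4_1 D40300 (iv7 D27452) (iv2 F30572)
theorem F61348 : act 4 n40300 = n40127 := d11_1 D40300 (iv7 D40127) (iv4 F30573)
theorem F61349 : act 1 n27452 = n40297 := d15_0 (iv0 D40297) D40300 F61347
theorem F61350 : act 1 n27450 = n40300 := d15_1 D27450 (iv7 D40300) F30572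
theorem F61351 : act 1 n40300 = n27449 := d15_0 (iv0 D27449) D27452 (iv2 F61347)
def n40301 : Q := act 5 n19050
theorem D40301 : act 5 n19050 = n40301 := rfl
theorem F61352 : act 2 n40301 = n39866 := d2_1 D40301 F60658 F30874
theorem F61353 : act 3 n40301 = n26918 := d6_1 D40301 (iv5 D26918) (iv3 F30575)
theorem F61354 : act 0 n40301 = n19055 := d17_2 D19050 D40301 (iv5 D19055) F13903 D8930 F17549 (iv5 D9571) (iv0 F17513) (iv4 F13897)
theorem F61355 : act 1 n40301 = n19836 := d17_6 F14562 D19710 F31455 F30759 (iv4 F30574) D40301 (iv5 D19836) F30172 F30169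
def n40302 : Q := act 0 n19052
theorem D40302 : act 0 n19052 = n40302 := rfl
theorem F61356 : act 4 n40302 = n19136 := d18_3 F13898 D19052 D40302 (iv5 D19136) (iv4 F28491) (iv0 F28495) (iv4 D9104) (iv0 D4090) D4092
theorem F61357 : act 1 n19416 = n40302 := d15_0 (iv0 D40302) (iv7 F31649) F31648
theorem F61358 : act 7 n21469 = n40302 := d11_0 F61356 F30750 D21469
def n40303 : Q := act 1 n19052
theorem D40303 : act 1 n19052 = n40303 := rfl
theorem F61359 : act 1 n40303 = n19416 := d15_1 D40303 (iv7 F31634) F31633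
theorem F61360 : act 4 n19483 = n40303 := d20_6 (iv4 F31232) (iv1 F31233) (iv4 D10841) D10840 (iv1 F17633) F31174 (iv1 D40303) (iv4 D19052) (iv3 F30553) F30555
theorem F61361 : act 2 n40303 = n21469 := d1_1 F61360 (iv4 D21469) F31173
def n40304 : Q := act 3 n19052
theorem D40304 : act 3 n19052 = n40304 := rfl
def n40305 : Q := act 5 n19052
theorem D40305 : act 5 n19052 = n40305 := rfl
def n40306 : Q := act 4 n19053
theorem D40306 : act 4 n19053 = n40306 := rfl
theorem F61362 : act 0 n40306 = n19125 := d18_2 F30579 D40306 (iv4 D19125) (iv5 D8974) D8973 F30722 F30720 (iv0 D9468) D9472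
theorem F61363 : act 1 n40306 = n19121 := d18_6 F16806 (iv4 F6660) D10086 F16950 D19053 D40306 (iv4 D19121) F16843 (iv5 D5068)
def n40307 : Q := act 0 n19054
theorem D40307 : act 0 n19054 = n40307 := rfl
def n40308 : Q := act 1 n19054
theorem D40308 : act 1 n19054 = n40308 := rfl
def n40309 : Q := act 5 n19054
theorem D40309 : act 5 n19054 = n40309 := rfl
theorem F61364 : act 3 n40309 = n27421 := d6_1 D40309 (iv5 D27421) (iv3 F30580)
theorem F61365 : act 6 n40309 = n19055 := d12_2 D19054 D40309 (iv5 D19055) (iv6 D8929) D8928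
def n40310 : Q := act 7 n19054
theorem D40310 : act 7 n19054 = n40310 := rfl
theorem F61366 : act 3 n40310 = n27422 := d8_1 D40310 (iv7 D27422) (iv3 F30580)
theorem F61367 : act 4 n40310 = n40135 := d11_1 D40310 (iv7 D40135) (iv4 F30581)
theorem F61368 : act 6 n40310 = n27452 := d14_1 D40310 (iv7 D27452) (iv6 D13139) F14036 D19054
def n40311 : Q := act 0 n19056
theorem D40311 : act 0 n19056 = n40311 := rfl
theorem F61369 : act 4 n40311 = n19482 := d18_3 (iv1 F17549) D19056 D40311 (iv5 D19482) (iv4 F27363) (iv0 F27365) (iv4 D9591) F6213 D9571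
theorem F61370 : act 1 n19837 = n40311 := d15_0 (iv0 D40311) (iv7 F31075) (iv2 F31641)
def n40312 : Q := act 1 n19056
theorem D40312 : act 1 n19056 = n40312 := rfl
theorem F61371 : act 1 n40312 = n19837 := d15_1 D40312 F31642 F31070
theorem F61372 : act 4 n40312 = n19141 := d18_7 F16934 (iv4 F14040) F16936 F13903 D8930 D19056 D40312 (iv0 F31455) (iv5 D19710)
def n40313 : Q := act 3 n19056
theorem D40313 : act 3 n19056 = n40313 := rfl
def n40314 : Q := act 5 n19056
theorem D40314 : act 5 n19056 = n40314 := rfl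
def n40315 : Q := act 5 n19057
theorem D40315 : act 5 n19057 = n40315 := rfl
theorem F61373 : act 2 n40315 = n22612 := d2_1 D40315 F35153 F31123
theorem F61374 : act 3 n40315 = n19058 := d6_1 D40315 (iv5 D19058) D19057
def n40316 : Q := act 6 n19057
theorem D40316 : act 6 n19057 = n40316 := rfl
theorem F61375 : act 3 n40316 = n19059 := d7_1 D40316 (iv6 D19059) D19057
theorem F61376 : act 4 n40316 = n40316 := d10_1 D40316 (iv6 D40316) F30583
def n40317 : Q := act 6 n19058
theorem D40317 : act 6 n19058 = n40317 := rfl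
theorem F61377 : act 2 n40317 = n19081 := d3_1 D40317 (iv6 D19081) (iv2 F30584)
theorem F61378 : act 4 n40317 = n36685 := d10_1 D40317 (iv6 D36685) (iv4 F30585)
def n40318 : Q := act 1 n19059
theorem D40318 : act 1 n19059 = n40318 := rfl
theorem F61379 : act 1 n40318 = n19085 := d15_1 D40318 (iv7 D19085) (iv2 F30588)
def n40319 : Q := act 5 n19059
theorem D40319 : act 5 n19059 = n40319 := rfl
theorem F61380 : act 2 n40319 = n19084 := d2_1 D40319 (iv5 D19084) (iv2 F30588)
def n40320 : Q := act 7 n19059
theorem D40320 : act 7 n19059 = n40320 := rfl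
theorem F61381 : act 2 n40320 = n19085 := d4_1 D40320 (iv7 D19085) (iv2 F30588)
theorem F61382 : act 4 n40320 = n19062 := d11_1 D40320 (iv7 D19062) (iv4 F30589)
theorem F61383 : act 1 n19083 = n40320 := d15_1 D19083 (iv7 D40320) F30588
theorem F61384 : act 1 n40320 = n19082 := d15_0 (iv0 D19082) D19085 (iv2 F61381)
def n40321 : Q := act 2 n19060
theorem D40321 : act 2 n19060 = n40321 := rfl
def n40322 : Q := act 3 n19060
theorem D40322 : act 3 n19060 = n40322 := rfl
def n40323 : Q := act 4 n19060
theorem D40323 : act 4 n19060 = n40323 := rfl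
def n40324 : Q := act 5 n19060
theorem D40324 : act 5 n19060 = n40324 := rfl
def n40325 : Q := act 7 n19060
theorem D40325 : act 7 n19060 = n40325 := rfl
def n40326 : Q := act 4 n19061
theorem D40326 : act 4 n19061 = n40326 := rfl
def n40327 : Q := act 6 n19061
theorem D40327 : act 6 n19061 = n40327 := rfl
def n40328 : Q := act 6 n19063
theorem D40328 : act 6 n19063 = n40328 := rfl
theorem F61387 : act 2 n40328 = n19172 := d3_1 D40328 (iv6 D19172) F30600
theorem F61388 : act 4 n40328 = n19478 := d10_1 D40328 (iv6 D19478) (iv4 F30599)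
def n40329 : Q := act 2 n19064
theorem D40329 : act 2 n19064 = n40329 := rfl
theorem F61389 : act 3 n40329 = n19225 := d0_2 D19064 D40329 (iv2 D19225) (iv3 D9037) (iv2 F13912)
theorem F61390 : act 4 n40329 = n37997 := d1_2 (iv4 F30601) D40329 (iv2 D37997)
theorem F61391 : act 5 n40329 = n26311 := d2_2 F30604 D40329 (iv2 F41925)
theorem F61392 : act 7 n40329 = n19177 := d4_2 (iv7 F30602) D40329 (iv2 D19177)
theorem F61393 : act 1 n40329 = n19175 := d15_0 (iv0 D19175) (iv7 F30602) D40329
theorem F61394 : act 1 n19176 = n40329 := d15_0 F61393 (iv7 F30809) F30812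
def n40330 : Q := act 6 n19064
theorem D40330 : act 6 n19064 = n40330 := rfl
theorem F61395 : act 3 n40330 = n19066 := d7_1 D40330 (iv6 D19066) D19064
theorem F61396 : act 4 n40330 = n37998 := d10_1 D40330 (iv6 D37998) (iv4 F30601)
def n40331 : Q := act 6 n19065
theorem D40331 : act 6 n19065 = n40331 := rfl
theorem F61397 : act 2 n40331 = n19228 := d3_1 D40331 (iv6 D19228) (iv2 F30605)
theorem F61398 : act 3 n40331 = n32484 := d7_1 D40331 (iv6 D32484) (iv3 F30606)
def n40332 : Q := act 0 n19066
theorem D40332 : act 0 n19066 = n40332 := rfl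
def n40333 : Q := act 1 n19066
theorem D40333 : act 1 n19066 = n40333 := rfl
theorem F61399 : act 1 n40333 = n19232 := d15_1 D40333 (iv7 D19232) (iv2 F30608)
def n40334 : Q := act 5 n19066
theorem D40334 : act 5 n19066 = n40334 := rfl
theorem F61400 : act 2 n40334 = n19231 := d2_1 D40334 (iv5 D19231) (iv2 F30608)
def n40335 : Q := act 7 n19066
theorem D40335 : act 7 n19066 = n40335 := rfl
theorem F61401 : act 2 n40335 = n19232 := d4_1 D40335 (iv7 D19232) (iv2 F30608)
theorem F61402 : act 4 n40335 = n19070 := d11_1 D40335 (iv7 D19070) (iv4 F30609)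
theorem F61403 : act 6 n40335 = n19186 := d14_1 D40335 (iv7 D19186) (iv6 D9015) (iv7 F13913) D19066
theorem F61404 : act 1 n19232 = n40332 := d15_0 (iv0 D40332) D40335 F61401
theorem F61405 : act 1 n19230 = n40335 := d15_1 D19230 (iv7 D40335) F30608
theorem F61406 : act 1 n40335 = n19229 := d15_0 (iv0 D19229) D19232 (iv2 F61401)
def n40337 : Q := act 3 n19067
theorem D40337 : act 3 n19067 = n40337 := rfl
def n40338 : Q := act 4 n19067
theorem D40338 : act 4 n19067 = n40338 := rfl
def n40339 : Q := act 5 n19067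
theorem D40339 : act 5 n19067 = n40339 := rfl
theorem F61408 : act 0 n40339 = n23417 := d21_1 D40339 (iv5 D23417) (iv6 D10986) (iv1 D5002) (iv6 D2056) F1901 (iv1 F6417) (iv5 F7019) D8934 D19067
def n40340 : Q := act 6 n19067
theorem D40340 : act 6 n19067 = n40340 := rfl
theorem F61409 : act 5 n40340 = n23360 := d21_6 F1901 (iv1 F6417) (iv5 F7019) D8934 D19067 D40340 (iv1 D23360) (iv5 D10971) (iv6 D4999) (iv1 D2054)
def n40341 : Q := act 7 n19067
theorem D40341 : act 7 n19067 = n40341 := rfl
def n40344 : Q := act 5 n19068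
theorem D40344 : act 5 n19068 = n40344 := rfl
theorem F61411 : act 6 n19243 = n40344 := d21_5 (iv5 D9052) (iv1 D4060) D4061 (iv6 F14118) D19243 (iv5 D40344) (iv1 D19068) D19069 F30613 (iv1 F14127)
def n40345 : Q := act 6 n19068
theorem D40345 : act 6 n19068 = n40345 := rfl
theorem F61412 : act 5 n40345 = n19393 := d21_6 (iv5 D19190) (iv1 F30634) F30630 F30631 (iv1 F30610) D40345 (iv1 D19393) F14162 D19265 (iv1 F31068)
def n40346 : Q := act 0 n19069
theorem D40346 : act 0 n19069 = n40346 := rfl
theorem F61413 : act 6 n40346 = n19241 := d21_5 (iv5 D4576) F17464 D9019 (iv6 F30613) D40346 (iv5 D19241) (iv1 D9041) D9042 F14118 F17511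
def n40347 : Q := act 1 n19069
theorem D40347 : act 1 n19069 = n40347 := rfl
theorem F61414 : act 1 n40347 = n19246 := d15_1 D40347 (iv7 D19246) (iv2 F30611)
theorem F61415 : act 5 n19319 = n40347 := d21_6 F6084 (iv1 F3060) (iv5 F7023) D4082 D9076 D19319 (iv1 D40347) (iv5 D19069) (iv6 D8934) (iv1 F6086)
def n40348 : Q := act 4 n19069
theorem D40348 : act 4 n19069 = n40348 := rfl
theorem F61416 : act 2 n40348 = n19245 := d1_1 D40348 (iv4 D19245) (iv2 F30611)
theorem F61417 : act 6 n40348 = n19197 := d10_2 (iv6 F30613) D40348 (iv4 D19197)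
def n40349 : Q := act 7 n19069
theorem D40349 : act 7 n19069 = n40349 := rfl
theorem F61418 : act 2 n40349 = n19246 := d4_1 D40349 (iv7 D19246) (iv2 F30611)
theorem F61419 : act 3 n40349 = n38014 := d8_1 D40349 (iv7 D38014) (iv3 F30612)
theorem F61420 : act 5 n40349 = n19070 := d13_1 D40349 (iv7 D19070) D19069
theorem F61422 : act 1 n19246 = n40346 := d15_0 (iv0 D40346) D40349 F61418
theorem F61424 : act 0 n19243 = n40349 := d21_10 F61420 (iv1 F30618) D19241 (iv6 F61413) (iv1 F61422) F30895 F30894 (iv1 F30610) D40344 (iv6 F61411)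
def n40350 : Q := act 0 n19071
theorem D40350 : act 0 n19071 = n40350 := rfl
def n40351 : Q := act 1 n19071
theorem D40351 : act 1 n19071 = n40351 := rfl
theorem F61425 : act 1 n40351 = n37847 := d15_1 D40351 (iv7 D37847) (iv2 F30620)
def n40352 : Q := act 7 n19071
theorem D40352 : act 7 n19071 = n40352 := rfl
theorem F61426 : act 2 n40352 = n37847 := d4_1 D40352 (iv7 D37847) (iv2 F30620)
theorem F61427 : act 3 n40352 = n19077 := d8_1 D40352 (iv7 D19077) (iv3 F30621)
theorem F61429 : act 6 n40352 = n19211 := d14_1 D40352 (iv7 D19211) (iv6 D9028) (iv7 F13918) D19071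
theorem F61430 : act 1 n37847 = n40350 := d15_0 (iv0 D40350) D40352 F61426
theorem F61431 : act 1 n37846 = n40352 := d15_1 D37846 (iv7 D40352) F30620
def n40353 : Q := act 5 n19072
theorem D40353 : act 5 n19072 = n40353 := rfl
theorem F61433 : act 2 n40353 = n32482 := d2_1 D40353 F51566 (iv2 F34483)
theorem F61434 : act 3 n40353 = n19073 := d6_1 D40353 (iv5 D19073) D19072
theorem F61435 : act 7 n40353 = n19226 := d13_2 (iv7 F30623) D40353 (iv5 D19226)
theorem F61436 : act 4 n40094 = n40353 := d20_8 (iv4 F56887) (iv1 D36151) F28470 (iv3 F21741) (iv1 F30258) D40088 F60983 D40094 F61434 (iv1 F36429)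
def n40354 : Q := act 6 n19072
theorem D40354 : act 6 n19072 = n40354 := rfl
theorem F61437 : act 3 n40354 = n19074 := d7_1 D40354 (iv6 D19074) D19072
def n40355 : Q := act 6 n19073
theorem D40355 : act 6 n19073 = n40355 := rfl
theorem F61438 : act 2 n40355 = n19182 := d3_1 D40355 (iv6 D19182) (iv2 F30624)
def n40356 : Q := act 0 n19074
theorem D40356 : act 0 n19074 = n40356 := rfl
def n40357 : Q := act 1 n19074
theorem D40357 : act 1 n19074 = n40357 := rfl
theorem F61439 : act 1 n40357 = n19186 := d15_1 D40357 (iv7 D19186) (iv2 F30626)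
def n40358 : Q := act 5 n19074
theorem D40358 : act 5 n19074 = n40358 := rfl
theorem F61440 : act 2 n40358 = n19185 := d2_1 D40358 (iv5 D19185) (iv2 F30626)
def n40359 : Q := act 7 n19074
theorem D40359 : act 7 n19074 = n40359 := rfl
theorem F61441 : act 2 n40359 = n19186 := d4_1 D40359 (iv7 D19186) (iv2 F30626)
theorem F61442 : act 4 n40359 = n19077 := d11_1 D40359 (iv7 D19077) (iv4 F30627)
theorem F61443 : act 6 n40359 = n19232 := d14_1 D40359 (iv7 D19232) (iv6 D9039) (iv7 F13920) D19074
theorem F61444 : act 1 n19186 = n40356 := d15_0 (iv0 D40356) D40359 F61441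
theorem F61445 : act 1 n19184 = n40359 := d15_1 D19184 (iv7 D40359) F30626
def n40360 : Q := act 2 n19075
theorem D40360 : act 2 n19075 = n40360 := rfl
theorem F61447 : act 7 n19076 = n40360 := d15_2 (iv0 D19075) D19076 (iv2 D40360)
def n40362 : Q := act 4 n19075
theorem D40362 : act 4 n19075 = n40362 := rfl
def n40363 : Q := act 6 n19075
theorem D40363 : act 6 n19075 = n40363 := rfl
theorem F61448 : act 5 n40363 = n23335 := d21_6 (iv5 D1758) F6412 (iv5 F7015) D8937 D19075 D40363 (iv1 D23335) (iv5 D10963) (iv6 D4995) (iv1 F3349)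
def n40364 : Q := act 7 n19075
theorem D40364 : act 7 n19075 = n40364 := rfl
theorem F61449 : act 2 n40364 = n19076 := d4_1 D40364 F61447 (iv2 D40360)
def n40365 : Q := act 3 n19076
theorem D40365 : act 3 n19076 = n40365 := rfl
def n40366 : Q := act 4 n19076
theorem D40366 : act 4 n19076 = n40366 := rfl
def n40367 : Q := act 6 n19076
theorem D40367 : act 6 n19076 = n40367 := rfl
theorem F61450 : act 5 n40367 = n23394 := d12_1 D40367 (iv6 F36525) (iv5 D19287) D19288 F30947
theorem F61451 : act 5 n23415 = n19243 := d21_0 F61424 F61420 F30616 (iv1 F30628) D40367 F61450 (iv1 F36524) (iv5 D10985) D10986 D23415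
theorem F61452 : act 6 n19393 = n23415 := d12_0 F61451 F61411 (iv5 D40344) D40345 F61412
def n40368 : Q := act 0 n19078
theorem D40368 : act 0 n19078 = n40368 := rfl
theorem F61453 : act 3 n40368 = n37996 := d20_5 F14070 (iv1 F14351) (iv4 F14353) D19078 D40368 F58825 (iv1 D19611) F14407 (iv3 D9013) D9011
def n40369 : Q := act 1 n19078
theorem D40369 : act 1 n19078 = n40369 := rfl
def n40370 : Q := act 6 n19078
theorem D40370 : act 6 n19078 = n40370 := rfl
theorem F61454 : act 3 n40370 = n19079 := d7_1 D40370 (iv6 D19079) D19078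
def n40371 : Q := act 0 n19079
theorem D40371 : act 0 n19079 = n40371 := rfl
def n40372 : Q := act 1 n19079
theorem D40372 : act 1 n19079 = n40372 := rfl
def n40373 : Q := act 5 n19079
theorem D40373 : act 5 n19079 = n40373 := rfl
def n40374 : Q := act 7 n19079
theorem D40374 : act 7 n19079 = n40374 := rfl
def n40375 : Q := act 3 n19080
theorem D40375 : act 3 n19080 = n40375 := rfl
theorem F61455 : act 4 n40375 = n34485 := d5_2 D19080 D40375 F54715 F27462 F14428
theorem F61456 : act 5 n40375 = n36680 := d6_2 (iv5 F30636) D40375 (iv3 D36680)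
def n40376 : Q := act 6 n19080
theorem D40376 : act 6 n19080 = n40376 := rfl
theorem F61457 : act 2 n40376 = n36685 := d3_1 D40376 (iv6 D36685) (iv2 F30635)
theorem F61458 : act 4 n40376 = n19081 := d10_1 D40376 (iv6 D19081) D19080
def n40377 : Q := act 0 n19081
theorem D40377 : act 0 n19081 = n40377 := rfl
def n40378 : Q := act 1 n19081
theorem D40378 : act 1 n19081 = n40378 := rfl
def n40379 : Q := act 5 n19081
theorem D40379 : act 5 n19081 = n40379 := rfl
theorem F61459 : act 6 n40379 = n19084 := d12_2 D19081 D40379 (iv5 D19084) (iv6 D8940) D8939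
def n40380 : Q := act 7 n19081
theorem D40380 : act 7 n19081 = n40380 := rfl
def n40381 : Q := act 2 n19082
theorem D40381 : act 2 n19082 = n40381 := rfl
theorem F61460 : act 7 n19083 = n40381 := d15_2 (iv0 D19082) D19083 (iv2 D40381)
def n40382 : Q := act 3 n19082
theorem D40382 : act 3 n19082 = n40382 := rfl
def n40383 : Q := act 4 n19082
theorem D40383 : act 4 n19082 = n40383 := rfl
theorem F61461 : act 1 n40383 = n19764 := d18_8 F35374 (iv4 F17365) (iv1 F30920) F30918 (iv5 F30593) (iv4 F61382) F61384 D40383 F35876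
def n40384 : Q := act 5 n19082
theorem D40384 : act 5 n19082 = n40384 := rfl
def n40385 : Q := act 6 n19082
theorem D40385 : act 6 n19082 = n40385 := rfl
def n40386 : Q := act 7 n19082
theorem D40386 : act 7 n19082 = n40386 := rfl
theorem F61462 : act 2 n40386 = n19083 := d4_1 D40386 F61460 (iv2 D40381)
def n40387 : Q := act 3 n19083
theorem D40387 : act 3 n19083 = n40387 := rfl
def n40388 : Q := act 5 n19083
theorem D40388 : act 5 n19083 = n40388 := rfl
def n40389 : Q := act 6 n19083
theorem D40389 : act 6 n19083 = n40389 := rfl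
def n40390 : Q := act 0 n19084
theorem D40390 : act 0 n19084 = n40390 := rfl
def n40391 : Q := act 1 n19084
theorem D40391 : act 1 n19084 = n40391 := rfl
theorem F61463 : act 5 n22823 = n40391 := d21_6 (iv5 F17270) (iv1 F17272) (iv5 D9055) D9056 F17307 D22823 (iv1 D40391) (iv5 D19084) (iv6 D8940) D8938
def n40392 : Q := act 4 n19084
theorem D40392 : act 4 n19084 = n40392 := rfl
def n40393 : Q := act 7 n19084
theorem D40393 : act 7 n19084 = n40393 := rfl
theorem F61464 : act 5 n40393 = n19085 := d13_1 D40393 (iv7 D19085) D19084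
def n40394 : Q := act 0 n19086
theorem D40394 : act 0 n19086 = n40394 := rfl
theorem F61465 : act 1 n19091 = n40394 := d15_0 (iv0 D40394) (iv7 F30640) (iv2 F30641)
def n40396 : Q := act 3 n19086
theorem D40396 : act 3 n19086 = n40396 := rfl
theorem F61467 : act 7 n40396 = n19092 := d8_2 F30640 D40396 (iv3 D19092)
def n40397 : Q := act 4 n19086
theorem D40397 : act 4 n19086 = n40397 := rfl
theorem F61468 : act 2 n40397 = n19088 := d1_1 D40397 (iv4 D19088) D19086
theorem F61469 : act 7 n40397 = n19093 := d11_2 F30640 D40397 (iv4 D19093)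
def n40398 : Q := act 5 n19086
theorem D40398 : act 5 n19086 = n40398 := rfl
theorem F61470 : act 2 n40398 = n19089 := d2_1 D40398 (iv5 D19089) D19086
theorem F61471 : act 7 n40398 = n19094 := d13_2 F30640 D40398 (iv5 D19094)
def n40399 : Q := act 6 n19086
theorem D40399 : act 6 n19086 = n40399 := rfl
theorem F61472 : act 2 n40399 = n19090 := d3_1 D40399 (iv6 D19090) D19086
def n40400 : Q := act 2 n19087
theorem D40400 : act 2 n19087 = n40400 := rfl
theorem F61473 : act 7 n37848 = n40400 := d15_2 (iv0 F35847) D37848 (iv2 D40400)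
def n40401 : Q := act 5 n19087
theorem D40401 : act 5 n19087 = n40401 := rfl
theorem F61474 : act 3 n40401 = n19089 := d6_1 D40401 (iv5 D19089) D19087
def n40402 : Q := act 6 n19087
theorem D40402 : act 6 n19087 = n40402 := rfl
theorem F61475 : act 3 n40402 = n19090 := d7_1 D40402 (iv6 D19090) D19087
def n40403 : Q := act 7 n19087
theorem D40403 : act 7 n19087 = n40403 := rfl
theorem F61476 : act 2 n40403 = n37848 := d4_1 D40403 F61473 (iv2 D40400)
theorem F61477 : act 3 n40403 = n19091 := d8_1 D40403 (iv7 D19091) D19087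
theorem F61478 : act 2 n19092 = n20383 := d0_3 F61477 F30641 D19092 (iv3 F58694) (iv2 F61476)
def n40404 : Q := act 0 n19088
theorem D40404 : act 0 n19088 = n40404 := rfl
theorem F61479 : act 4 n40404 = n19796 := d18_3 D8941 D19088 D40404 F35837 F35319 (iv0 D19381) (iv4 D9096) (iv0 D4087) (iv5 F5932)
def n40405 : Q := act 1 n19088
theorem D40405 : act 1 n19088 = n40405 := rfl
theorem F61480 : act 1 n40405 = n19093 := d15_1 D40405 (iv7 F61469) F61468
theorem F61481 : act 4 n19661 = n40405 := d20_6 (iv4 F35657) (iv1 F31432) (iv4 D9243) D9242 D19683 F35845 (iv1 D40405) (iv4 D19088) D19087 (iv1 F35656)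
def n40406 : Q := act 3 n19088
theorem D40406 : act 3 n19088 = n40406 := rfl
def n40407 : Q := act 5 n19088
theorem D40407 : act 5 n19088 = n40407 := rfl
def n40408 : Q := act 6 n19088
theorem D40408 : act 6 n19088 = n40408 := rfl
theorem F61482 : act 4 n40408 = n19090 := d10_1 D40408 (iv6 D19090) D19088
def n40409 : Q := act 7 n19088
theorem D40409 : act 7 n19088 = n40409 := rfl
theorem F61483 : act 2 n40409 = n19093 := d4_1 D40409 (iv7 F61469) F61468
theorem F61484 : act 4 n40409 = n19091 := d11_1 D40409 (iv7 D19091) D19088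
theorem F61485 : act 1 n19093 = n40404 := d15_0 (iv0 D40404) D40409 F61483
theorem F61486 : act 0 n19092 = n20381 := d20_10 F32361 (iv1 F35821) (iv4 D19768) F16117 (iv1 F16113) D19796 (iv4 F61479) (iv1 F61485) (iv4 D19093) D19092
theorem E6132 : n19796 = n19660 := ((c20_11 (iv4 F61479) (iv1 F61485) (iv4 D19093) D19092 F61486 F32360 (iv4 F31297) F35659 (iv4 D9238) D9237 D19660)).symm
theorem F61487 : act 3 n19660 = n9301 := (sb E6132 (iv3 D19796))
theorem F61488 : act 4 n19660 = n40404 := (sb E6132 (iv4 F61479))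
theorem F61489 : act 5 n19660 = n10782 := (sb E6132 F35837)
theorem F61490 : act 7 n19660 = n19764 := (sb E6132 F35878)
theorem F61491 : act 1 n19092 = n20384 := d15_1 (iv0 F61486) (iv7 D20384) (iv2 F32359)
def n40410 : Q := act 0 n19089
theorem D40410 : act 0 n19089 = n40410 := rfl
theorem F61492 : act 5 n40410 = n19324 := d21_2 D19089 D40410 (iv6 D19324) (iv1 D9077) (iv6 D4082) F7023 (iv1 D1724) D1726 D3988 D8941
def n40411 : Q := act 1 n19089
theorem D40411 : act 1 n19089 = n40411 := rfl
theorem F61493 : act 1 n40411 = n19094 := d15_1 D40411 (iv7 F61471) F61470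
def n40412 : Q := act 4 n19089
theorem D40412 : act 4 n19089 = n40412 := rfl
def n40413 : Q := act 6 n19089
theorem D40413 : act 6 n19089 = n40413 := rfl
theorem F61494 : act 0 n40413 = n19191 := d21_4 (iv5 F5932) D8941 D19089 D40413 (iv6 D19191) D19190 F31038 (iv5 D19408) (iv6 D9103) (iv1 D4088)
def n40414 : Q := act 7 n19089
theorem D40414 : act 7 n19089 = n40414 := rfl
theorem F61495 : act 2 n40414 = n19094 := d4_1 D40414 (iv7 F61471) F61470
theorem F61496 : act 5 n40414 = n19091 := d13_1 D40414 (iv7 D19091) D19089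
theorem F61497 : act 1 n19094 = n40410 := d15_0 (iv0 D40410) D40414 F61495
def n40415 : Q := act 0 n19090
theorem D40415 : act 0 n19090 = n40415 := rfl
def n40416 : Q := act 1 n19090
theorem D40416 : act 1 n19090 = n40416 := rfl
def n40417 : Q := act 7 n19090
theorem D40417 : act 7 n19090 = n40417 := rfl
def n40418 : Q := act 6 n19091
theorem D40418 : act 6 n19091 = n40418 := rfl
theorem F61498 : act 2 n40418 = n19095 := d3_1 D40418 (iv6 D19095) (iv2 F30641)
def n40419 : Q := act 4 n19092
theorem D40419 : act 4 n19092 = n40419 := rfl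
theorem F61499 : act 0 n40419 = n19765 := d18_2 (iv1 F61491) D40419 (iv4 D19765) (iv5 F35875) D11026 (iv0 F35378) (iv4 D19399) D19397 F35594
def n40420 : Q := act 5 n19092
theorem D40420 : act 5 n19092 = n40420 := rfl
theorem F61501 : act 3 n40420 = n19094 := d6_1 D40420 (iv5 D19094) D19092
theorem F61502 : act 6 n19853 = n40420 := d21_5 (iv5 D9339) (iv1 D4230) D4232 D9342 D19853 (iv5 D40420) F61486 F32362 (iv6 D19198) (iv1 F14546)
theorem F61503 : act 3 n19718 = n19853 := d7_3 F61502 F61501 (iv6 F31476)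
def n40421 : Q := act 6 n19092
theorem D40421 : act 6 n19092 = n40421 := rfl
theorem F61504 : act 3 n40421 = n19095 := d7_1 D40421 (iv6 D19095) D19092
def n40422 : Q := act 3 n19093
theorem D40422 : act 3 n19093 = n40422 := rfl
def n40423 : Q := act 5 n19093
theorem D40423 : act 5 n19093 = n40423 := rfl
def n40424 : Q := act 6 n19093
theorem D40424 : act 6 n19093 = n40424 := rfl
theorem F61505 : act 4 n40424 = n19095 := d10_1 D40424 (iv6 D19095) D19093
def n40425 : Q := act 4 n19094
theorem D40425 : act 4 n19094 = n40425 := rfl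
def n40426 : Q := act 0 n19095
theorem D40426 : act 0 n19095 = n40426 := rfl
theorem F61506 : act 5 n40426 = n23359 := d21_0 (iv1 F36488) F30951 (iv6 F17813) (iv1 F17815) D19324 (iv5 F61492) (iv1 F61497) (iv5 D19094) D19095 D40426
def n40427 : Q := act 1 n19095
theorem D40427 : act 1 n19095 = n40427 := rfl
def n40428 : Q := act 5 n19095
theorem D40428 : act 5 n19095 = n40428 := rfl
theorem F61507 : act 0 n19287 = n40428 := d21_1 D19287 (iv5 D40428) (iv6 D19095) (iv1 D8942) (iv6 D3988) (iv5 D1726) D1723 (iv5 F7008) D4077 D9066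
def n40429 : Q := act 7 n19095
theorem D40429 : act 7 n19095 = n40429 := rfl
def n40431 : Q := act 1 n19104
theorem D40431 : act 1 n19104 = n40431 := rfl
theorem F61509 : act 1 n40431 = n19921 := d15_1 D40431 (iv7 F35701) F35814
theorem F61510 : act 4 n19791 = n40431 := d20_6 (iv4 F6100) F16061 (iv4 D4200) D4199 D9300 D19791 (iv1 D40431) (iv4 D19104) (iv3 D8945) (iv1 F5935)
def n40432 : Q := act 5 n19104
theorem D40432 : act 5 n19104 = n40432 := rfl
def n40433 : Q := act 6 n19104
theorem D40433 : act 6 n19104 = n40433 := rfl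
theorem F61511 : act 4 n40433 = n19106 := d10_1 D40433 (iv6 D19106) D19104
def n40434 : Q := act 0 n19105
theorem D40434 : act 0 n19105 = n40434 := rfl
theorem F61512 : act 5 n40434 = n19443 := d21_2 D19105 D40434 F35937 (iv1 D9714) (iv6 D4386) (iv5 D1846) (iv1 F1817) D1809 D4258 F35685
theorem F61513 : act 6 n40434 = n20089 := d21_5 D9758 (iv1 F32665) F35849 (iv6 F35683) D40434 (iv5 D20089) (iv1 F31775) F31772 (iv6 F15165) (iv1 F15167)
theorem F61514 : act 2 n20591 = n40434 := d15_3 (iv0 D40434) F35682 (iv7 F35941)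
theorem F61515 : act 1 n19881 = n40434 := d15_0 (iv0 D40434) (iv7 F30702) F35705
theorem F61516 : act 7 n40434 = n20912 := d15_2 (iv0 F35809) F61515 F35903
def n40435 : Q := act 4 n19105
theorem D40435 : act 4 n19105 = n40435 := rfl
def n40436 : Q := act 0 n19110
theorem D40436 : act 0 n19110 = n40436 := rfl
theorem F61517 : act 4 n40436 = n19683 := d18_3 F35662 D19110 D40436 F35846 F31116 (iv0 D19459) (iv4 D9138) D9136 (iv5 F35627)
theorem F61518 : act 1 n20405 = n40436 := d15_0 (iv0 D40436) F30700 (iv2 F35814)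
theorem F61519 : act 2 n40431 = n40436 := d1_3 F61517 (iv2 F35844) F61510
def n40437 : Q := act 1 n19110
theorem D40437 : act 1 n19110 = n40437 := rfl
theorem F61521 : act 1 n40437 = n20405 := d15_1 D40437 F35701 (iv2 F35704)
theorem F61522 : act 7 n40437 = n40431 := d15_2 (iv0 D40436) D40437 F61519
theorem F61523 : act 4 n19684 = n40437 := d20_6 (iv4 F3051) (iv1 F16065) (iv4 D4195) D4194 D9278 (iv3 F35867) (iv1 D40437) (iv4 D19110) (iv3 D8950) (iv1 D3990)
def n40438 : Q := act 5 n19110
theorem D40438 : act 5 n19110 = n40438 := rfl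
theorem F61525 : act 7 n40438 = n40432 := d13_2 (iv7 F30700) D40438 (iv5 D40432)
def n40439 : Q := act 6 n19110
theorem D40439 : act 6 n19110 = n40439 := rfl
theorem F61526 : act 4 n40439 = n19112 := d10_1 D40439 (iv6 D19112) D19110
def n40440 : Q := act 4 n19111
theorem D40440 : act 4 n19111 = n40440 := rfl
theorem F61527 : act 3 n40440 = n40433 := d5_1 D40440 F61511 F30692 (iv4 F15293) (iv3 F30701)
theorem F61528 : act 6 n40440 = n19739 := d10_2 F30703 D40440 (iv4 D19739)
theorem F61529 : act 7 n40440 = n40435 := d11_2 (iv7 F30702) D40440 (iv4 D40435)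
def n40441 : Q := act 1 n19112
theorem D40441 : act 1 n19112 = n40441 := rfl
def n40442 : Q := act 0 n19113
theorem D40442 : act 0 n19113 = n40442 := rfl
def n40443 : Q := act 1 n19113
theorem D40443 : act 1 n19113 = n40443 := rfl
theorem F61530 : act 1 n40443 = n36818 := d15_1 D40443 (iv7 D36818) (iv2 F30705)
def n40444 : Q := act 5 n19113
theorem D40444 : act 5 n19113 = n40444 := rfl
theorem F61531 : act 2 n40444 = n36240 := d2_1 D40444 F56945 (iv2 F30705)
theorem F61532 : act 6 n40444 = n19114 := d12_2 D19113 D40444 (iv5 D19114) (iv6 D8955) D8954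
def n40445 : Q := act 7 n19113
theorem D40445 : act 7 n19113 = n40445 := rfl
theorem F61533 : act 2 n40445 = n36818 := d4_1 D40445 (iv7 D36818) (iv2 F30705)
theorem F61534 : act 1 n36818 = n40442 := d15_0 (iv0 D40442) D40445 F61533
theorem F61535 : act 1 n36817 = n40445 := d15_1 D36817 (iv7 D40445) F30705
theorem F61536 : act 1 n40445 = n36816 := d15_0 (iv0 D36816) D36818 (iv2 F61533)
def n40446 : Q := act 3 n19115
theorem D40446 : act 3 n19115 = n40446 := rfl
theorem F61537 : act 7 n40446 = n21199 := d8_2 (iv7 F30708) D40446 (iv3 D21199)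
def n40447 : Q := act 5 n19115
theorem D40447 : act 5 n19115 = n40447 := rfl
theorem F61538 : act 7 n40447 = n21200 := d13_2 (iv7 F30708) D40447 (iv5 D21200)
def n40448 : Q := act 3 n19117
theorem D40448 : act 3 n19117 = n40448 := rfl
theorem F61539 : act 4 n40448 = n40448 := d5_2 D19117 D40448 (iv3 D40448) (iv4 D19117) F13938
def n40449 : Q := act 5 n19117
theorem D40449 : act 5 n19117 = n40449 := rfl
theorem F61540 : act 2 n40449 = n19130 := d2_1 D40449 (iv5 D19130) (iv2 F30713)
def n40450 : Q := act 6 n19118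
theorem D40450 : act 6 n19118 = n40450 := rfl
theorem F61541 : act 2 n40450 = n20107 := d3_1 D40450 (iv6 D20107) (iv2 F30714)
theorem F61542 : act 3 n40450 = n19122 := d7_1 D40450 (iv6 D19122) (iv3 F30715)
theorem F61543 : act 4 n40450 = n20634 := d10_1 D40450 (iv6 D20634) (iv4 F30719)
theorem F61544 : act 5 n40450 = n21016 := d12_1 D40450 (iv6 D21016) (iv5 D9998) (iv6 F16858) D19118
def n40451 : Q := act 4 n19120
theorem D40451 : act 4 n19120 = n40451 := rfl
theorem F61545 : act 2 n40451 = n39870 := d1_1 D40451 F60669 F34201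
theorem F61546 : act 7 n40451 = n39869 := d11_2 F57002 D40451 F60666
theorem F61547 : act 0 n40451 = n37215 := d18_2 F33402 D40451 (iv4 D37215) (iv5 D17893) F16811 (iv0 F16769) (iv4 F6660) D10087 D21165
theorem F61548 : act 1 n40451 = n23669 := d18_6 (iv1 D7779) F5555 D4001 D8968 D19120 D40451 (iv4 D23669) (iv0 F27371) (iv5 D16696)
def n40452 : Q := act 6 n19120
theorem D40452 : act 6 n19120 = n40452 := rfl
theorem F61549 : act 5 n40452 = n21753 := d12_1 D40452 (iv6 D21753) (iv5 D10370) (iv6 F16879) D19120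
def n40453 : Q := act 1 n19121
theorem D40453 : act 1 n19121 = n40453 := rfl
theorem F61550 : act 1 n40453 = n19125 := d15_1 D40453 (iv7 F30762) F30761
theorem F61551 : act 4 n40453 = n20103 := d18_7 (iv1 D19849) (iv4 F28029) F28031 (iv4 D8968) D8969 D19121 D40453 F32695 F32692
def n40454 : Q := act 3 n19121
theorem D40454 : act 3 n19121 = n40454 := rfl
theorem F61552 : act 4 n40454 = n20632 := d5_2 D19121 D40454 (iv3 D20632) (iv4 F30719) F30715
def n40455 : Q := act 5 n19121
theorem D40455 : act 5 n19121 = n40455 := rfl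
def n40456 : Q := act 6 n19121
theorem D40456 : act 6 n19121 = n40456 := rfl
theorem F61553 : act 4 n40456 = n19122 := d10_1 D40456 (iv6 D19122) D19121
def n40457 : Q := act 0 n19122
theorem D40457 : act 0 n19122 = n40457 := rfl
theorem F61554 : act 6 n40457 = n21498 := d21_5 (iv5 D4003) D4001 D8969 D19122 D40457 (iv5 D21498) (iv1 D10258) D10259 F16226 F7299
def n40458 : Q := act 1 n19122
theorem D40458 : act 1 n19122 = n40458 := rfl
def n40459 : Q := act 7 n19122
theorem D40459 : act 7 n19122 = n40459 := rfl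
def n40460 : Q := act 5 n19123
theorem D40460 : act 5 n19123 = n40460 := rfl
theorem F61556 : act 2 n40460 = n34424 := d2_1 D40460 (iv5 D34424) (iv2 F30725)
theorem F61557 : act 3 n40460 = n34476 := d6_1 D40460 F54706 F43340
theorem F61558 : act 7 n40460 = n40301 := d13_2 (iv7 F30727) D40460 (iv5 D40301)
theorem F61559 : act 0 n40460 = n19412 := d17_2 F30728 D40460 (iv5 D19412) (iv4 D9107) D9108 F17551 (iv5 D9594) F6212 D9562
theorem F61560 : act 1 n40460 = n19409 := d17_6 (iv1 F16938) D10831 F30734 (iv5 D19124) D19123 D40460 (iv5 D19409) F16926 F16320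
def n40461 : Q := act 4 n19124
theorem D40461 : act 4 n19124 = n40461 := rfl
theorem F61561 : act 2 n40461 = n40311 := d1_1 D40461 F61369 F31171
theorem F61562 : act 7 n40461 = n40312 := d11_2 F30760 D40461 F61372
theorem F61563 : act 0 n40461 = n19413 := d18_2 F30734 D40461 (iv4 D19413) (iv5 D9108) D9107 (iv0 F28494) F28491 (iv0 F15465) D10831
theorem F61564 : act 1 n40461 = n19410 := d18_6 D4315 D9562 F30728 (iv4 D19123) D19124 D40461 (iv4 D19410) F17553 (iv5 D4319)
def n40462 : Q := act 6 n19124
theorem D40462 : act 6 n19124 = n40462 := rfl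
theorem F61565 : act 3 n40462 = n19126 := d7_1 D40462 (iv6 D19126) (iv3 F30733)
theorem F61566 : act 5 n40462 = n40462 := d12_1 D40462 (iv6 D40462) (iv5 D19124) F14746 D19124
def n40463 : Q := act 3 n19125
theorem D40463 : act 3 n19125 = n40463 := rfl
def n40464 : Q := act 5 n19125
theorem D40464 : act 5 n19125 = n40464 := rfl
def n40465 : Q := act 6 n19125
theorem D40465 : act 6 n19125 = n40465 := rfl
theorem F61567 : act 4 n40465 = n19126 := d10_1 D40465 (iv6 D19126) D19125
def n40466 : Q := act 0 n19126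
theorem D40466 : act 0 n19126 = n40466 := rfl
theorem F61568 : act 6 n40466 = n21629 := d21_5 (iv5 F16236) (iv1 F13944) D8974 D19126 D40466 (iv5 D21629) (iv1 D10329) D10330 F16433 F16775
def n40467 : Q := act 1 n19126
theorem D40467 : act 1 n19126 = n40467 := rfl
def n40468 : Q := act 7 n19126
theorem D40468 : act 7 n19126 = n40468 := rfl
def n40469 : Q := act 3 n19127
theorem D40469 : act 3 n19127 = n40469 := rfl
def n40470 : Q := act 5 n19127
theorem D40470 : act 5 n19127 = n40470 := rfl
theorem F61570 : act 1 n40470 = n19147 := d17_6 F30579 (iv5 D19053) F14551 D19852 F31685 D40470 (iv5 D19147) D19145 (iv4 F30765)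
def n40471 : Q := act 6 n19127
theorem D40471 : act 6 n19127 = n40471 := rfl
def n40472 : Q := act 3 n19128
theorem D40472 : act 3 n19128 = n40472 := rfl
theorem F61571 : act 4 n40472 = n20752 := d5_2 F30736 D40472 (iv3 D20752) (iv4 D9847) (iv3 F15457)
def n40473 : Q := act 5 n19128
theorem D40473 : act 5 n19128 = n40473 := rfl
theorem F61572 : act 0 n40473 = n19147 := d17_2 F33819 D40473 (iv5 D19147) (iv4 D8996) (iv5 D4018) (iv0 F16765) D4658 D10271 D21507
def n40474 : Q := act 6 n19128
theorem D40474 : act 6 n19128 = n40474 := rfl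
theorem F61573 : act 4 n40474 = n19950 := d10_1 D40474 F31787 F30736
theorem F61574 : act 0 n40474 = n23658 := d20_7 D11078 F17951 (iv4 D11013) D11012 F35689 (iv3 F31786) (iv4 F61573) (iv4 D23658) (iv3 D11079) (iv1 F7499)
def n40475 : Q := act 0 n19129
theorem D40475 : act 0 n19129 = n40475 := rfl
def n40476 : Q := act 1 n19129
theorem D40476 : act 1 n19129 = n40476 := rfl
def n40477 : Q := act 2 n19129
theorem D40477 : act 2 n19129 = n40477 := rfl
theorem F61575 : act 4 n40477 = n19133 := d1_2 (iv4 F30737) D40477 (iv2 D19133)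
def n40478 : Q := act 5 n19129
theorem D40478 : act 5 n19129 = n40478 := rfl
theorem F61576 : act 3 n40478 = n19130 := d6_1 D40478 (iv5 D19130) D19129
def n40479 : Q := act 0 n19130
theorem D40479 : act 0 n19130 = n40479 := rfl
theorem F61577 : act 5 n40479 = n23671 := d17_3 (iv1 D19128) D19130 D40479 F36811 (iv5 D20102) (iv0 F30731) D19832 (iv0 F31629) F30736
def n40480 : Q := act 1 n19130
theorem D40480 : act 1 n19130 = n40480 := rfl
theorem F61578 : act 5 n40480 = n20611 := d17_7 F16813 (iv5 D8974) (iv1 D4002) D4003 D8977 D19130 D40480 F32700 (iv4 D19138)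
def n40481 : Q := act 4 n19130
theorem D40481 : act 4 n19130 = n40481 := rfl
def n40482 : Q := act 6 n19130
theorem D40482 : act 6 n19130 = n40482 := rfl
def n40483 : Q := act 2 n19131
theorem D40483 : act 2 n19131 = n40483 := rfl
theorem F61579 : act 7 n19132 = n40483 := d15_2 (iv0 D19131) D19132 (iv2 D40483)
def n40484 : Q := act 3 n19131
theorem D40484 : act 3 n19131 = n40484 := rfl
def n40485 : Q := act 4 n19131
theorem D40485 : act 4 n19131 = n40485 := rfl
def n40486 : Q := act 5 n19131
theorem D40486 : act 5 n19131 = n40486 := rfl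
def n40488 : Q := act 7 n19131
theorem D40488 : act 7 n19131 = n40488 := rfl
theorem F61580 : act 2 n40488 = n19132 := d4_1 D40488 F61579 (iv2 D40483)
def n40489 : Q := act 3 n19132
theorem D40489 : act 3 n19132 = n40489 := rfl
def n40490 : Q := act 4 n19132
theorem D40490 : act 4 n19132 = n40490 := rfl
def n40491 : Q := act 5 n19132
theorem D40491 : act 5 n19132 = n40491 := rfl
def n40493 : Q := act 0 n19135
theorem D40493 : act 0 n19135 = n40493 := rfl
def n40494 : Q := act 1 n19135
theorem D40494 : act 1 n19135 = n40494 := rfl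
theorem F61581 : act 1 n40494 = n36002 := d15_1 D40494 (iv7 D36002) (iv2 F30745)
def n40495 : Q := act 7 n19135
theorem D40495 : act 7 n19135 = n40495 := rfl
theorem F61582 : act 2 n40495 = n36002 := d4_1 D40495 (iv7 D36002) (iv2 F30745)
theorem F61583 : act 3 n40495 = n21944 := d8_1 D40495 (iv7 D21944) (iv3 F30746)
theorem F61584 : act 4 n40495 = n37328 := d11_1 D40495 (iv7 D37328) (iv4 F30747)
theorem F61585 : act 5 n40495 = n21436 := d13_1 D40495 (iv7 D21436) (iv5 F30748)
theorem F61586 : act 6 n40495 = n40445 := d14_1 D40495 (iv7 D40445) (iv6 D19113) (iv7 F13962) D19135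
theorem F61587 : act 1 n36002 = n40493 := d15_0 (iv0 D40493) D40495 F61582
theorem F61588 : act 1 n36001 = n40495 := d15_1 D36001 (iv7 D40495) F30745
theorem E6133 : n37328 = n34726 := ((c20_8 (iv4 D34597) (iv1 D16770) F12382 F5574 D3559 D7847 D16818 D34726 (iv4 F61584) F61583 (iv1 F59759))).symm
theorem F61589 : act 4 n34726 = n40495 := (sb E6133 (iv4 F61584))
theorem F61590 : act 7 n34726 = n17928 := (sb E6133 (iv7 D37328))
theorem E6134 : n39515 = n7847 := (c18_1 (iv1 F60413) D16818 D34726 F61589 F61585 (iv4 F59760) (iv0 D18729) (iv4 D8784) D8782 D18724)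
theorem E6135 : n18719 = n16815 := (((D16815).symm.trans (sb E6134 (iv1 D39515)))).symm
theorem E6136 : n18724 = n16816 := (((D16816).symm.trans (sb E6134 F60413))).symm
theorem E6138 : n34713 = n26837 := ((D34713).symm.trans (sb E6135 (iv2 F61091)))
theorem E6139 : n38770 = n34714 := (((D34714).symm.trans (sb E6135 (iv3 F60793)))).symm
theorem E6141 : n34716 = n8781 := ((D34716).symm.trans (sb E6135 (iv5 D18719)))
theorem E6142 : n34785 = n34717 := (((D34717).symm.trans (sb E6135 (iv6 F59778)))).symm
theorem E6143 : n34718 = n26836 := ((D34718).symm.trans (sb E6135 (iv7 F61106)))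
theorem E6144 : n39527 = n34719 := (((D34719).symm.trans (sb E6136 (iv3 F60418)))).symm
theorem E6146 : n34721 = n8782 := ((D34721).symm.trans (sb E6136 (iv5 D18724)))
theorem F61591 : act 2 n26837 = n16815 := (sb E6138 (iv2 D34713))
theorem F61592 : act 7 n26837 = n16816 := (sb E6138 (iv7 F54958))
theorem F61593 : act 5 n34714 = n18436 := (sb E6139 (iv5 D38770))
theorem F61594 : act 5 n8781 = n16815 := (sb E6141 (iv5 D34716))
theorem F61595 : act 0 n34717 = n35152 := (sb E6142 (iv1 F55869))
theorem F61596 : act 1 n34717 = n16853 := (sb E6142 (iv0 D34785))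
theorem F61597 : act 2 n26836 = n16816 := (sb E6143 F54959)
theorem F61598 : act 7 n26836 = n16815 := (sb E6143 (iv7 D34718))
theorem F61599 : act 5 n34719 = n18722 := (sb E6144 (iv5 D39527))
theorem F61600 : act 5 n8782 = n16816 := (sb E6146 (iv5 D34721))
theorem F61601 : act 1 n40495 = n36000 := d15_0 (iv0 D36000) D36002 (iv2 F61582)
def n40496 : Q := act 0 n19136
theorem D40496 : act 0 n19136 = n40496 := rfl
theorem F61602 : act 5 n40496 = n19480 := d17_3 F15465 D19136 D40496 F31161 (iv5 F28571) (iv0 D17584) (iv5 D8258) (iv0 F12783) F12782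
theorem F61603 : act 4 n40496 = n19842 := d18_1 D40496 (iv1 F31653) (iv4 D19151) (iv5 D8998) (iv4 F13823) (iv0 F13826) D17581 (iv0 F28564) D19136
theorem F61604 : act 3 n40496 = n19865 := d20_5 (iv4 F33431) (iv1 F33432) (iv4 D19137) (iv3 F30749) D40496 (iv4 F32489) (iv1 F32490) (iv4 D9847) (iv3 F15457) F31629
theorem F61605 : act 2 n19485 = n40496 := d15_3 (iv0 D40496) (iv0 F30751) D19485
theorem F61606 : act 1 n19483 = n40496 := d15_0 (iv0 D40496) F30750 F31173
theorem F61607 : act 7 n40496 = n19479 := d15_2 D19483 F61606 F31156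
def n40497 : Q := act 3 n19137
theorem D40497 : act 3 n19137 = n40497 := rfl
theorem F61608 : act 7 n40497 = n21511 := d8_2 (iv7 F30753) D40497 (iv3 D21511)
def n40498 : Q := act 5 n19137
theorem D40498 : act 5 n19137 = n40498 := rfl
theorem F61609 : act 2 n40498 = n40447 := d2_1 D40498 (iv5 D40447) (iv2 F30752)
theorem F61610 : act 7 n40498 = n21512 := d13_2 (iv7 F30753) D40498 (iv5 D21512)
def n40499 : Q := act 3 n19138
theorem D40499 : act 3 n19138 = n40499 := rfl
theorem F61611 : act 4 n40499 = n40499 := d5_2 D19138 D40499 (iv3 D40499) (iv4 D19138) F13981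
def n40500 : Q := act 5 n19138
theorem D40500 : act 5 n19138 = n40500 := rfl
theorem F61612 : act 2 n40500 = n19147 := d2_1 D40500 (iv5 D19147) (iv2 F30754)
def n40501 : Q := act 0 n19139
theorem D40501 : act 0 n19139 = n40501 := rfl
theorem F61613 : act 4 n40501 = n19411 := d18_3 D8994 D19139 D40501 (iv5 D19411) (iv4 F16928) (iv0 F16746) F13932 F7291 D4018
theorem F61614 : act 1 n19142 = n40501 := d15_0 (iv0 D40501) F30756 (iv2 F30761)
theorem F61615 : act 2 n40453 = n40501 := d1_3 F61613 F31916 (iv4 F61551)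
theorem F61616 : act 7 n40306 = n40501 := d11_0 F61613 F31072 D40306
def n40502 : Q := act 1 n19139
theorem D40502 : act 1 n19139 = n40502 := rfl
theorem F61618 : act 7 n40502 = n40453 := d15_2 (iv0 D40501) D40502 F61615
theorem F61619 : act 4 n40502 = n19857 := d18_7 (iv1 F31681) (iv4 F33406) (iv1 F33409) (iv4 D19116) (iv5 F16900) D19139 D40502 (iv0 F31912) (iv5 D20102)
theorem F61620 : act 2 n40306 = n40502 := d1_3 F61619 F31689 D40306
def n40503 : Q := act 3 n19139
theorem D40503 : act 3 n19139 = n40503 := rfl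
theorem F61621 : act 7 n40503 = n40454 := d8_2 (iv7 F30756) D40503 (iv3 D40454)
def n40504 : Q := act 5 n19139
theorem D40504 : act 5 n19139 = n40504 := rfl
theorem F61622 : act 2 n40504 = n40464 := d2_1 D40504 (iv5 D40464) (iv2 F30755)
theorem F61623 : act 7 n40504 = n40455 := d13_2 (iv7 F30756) D40504 (iv5 D40455)
def n40505 : Q := act 6 n19139
theorem D40505 : act 6 n19139 = n40505 := rfl
theorem F61624 : act 2 n40505 = n40465 := d3_1 D40505 (iv6 D40465) (iv2 F30755)
theorem F61625 : act 4 n40505 = n19140 := d10_1 D40505 (iv6 D19140) D19139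
def n40506 : Q := act 0 n19140
theorem D40506 : act 0 n19140 = n40506 := rfl
theorem F61626 : act 6 n40506 = n21290 := d21_5 F7521 (iv1 F13935) (iv5 F16900) D19140 D40506 (iv5 D21290) (iv1 D10164) D10165 F16006 F16807
def n40507 : Q := act 1 n19140
theorem D40507 : act 1 n19140 = n40507 := rfl
theorem F61627 : act 1 n40507 = n40468 := d15_1 D40507 (iv7 D40468) (iv2 F30757)
def n40508 : Q := act 7 n19140
theorem D40508 : act 7 n19140 = n40508 := rfl
theorem F61628 : act 2 n40508 = n40468 := d4_1 D40508 (iv7 D40468) (iv2 F30757)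
theorem F61631 : act 1 n40468 = n40506 := d15_0 (iv0 D40506) D40508 F61628
theorem F61632 : act 1 n40467 = n40508 := d15_1 D40467 (iv7 D40508) F30757
theorem F61633 : act 1 n40508 = n40466 := d15_0 (iv0 D40466) D40468 (iv2 F61628)
def n40509 : Q := act 6 n19141
theorem D40509 : act 6 n19141 = n40509 := rfl
theorem F61634 : act 3 n40509 = n19143 := d7_1 D40509 (iv6 D19143) D19141
theorem F61635 : act 5 n40509 = n21761 := d12_1 D40509 (iv6 D21761) (iv5 D10382) (iv6 F17584) (iv5 F30759)
def n40510 : Q := act 3 n19142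
theorem D40510 : act 3 n19142 = n40510 := rfl
theorem F61636 : act 7 n40510 = n40463 := d8_2 (iv7 F30762) D40510 (iv3 D40463)
def n40511 : Q := act 5 n19142
theorem D40511 : act 5 n19142 = n40511 := rfl
theorem F61638 : act 7 n40511 = n40464 := d13_2 (iv7 F30762) D40511 (iv5 D40464)
def n40512 : Q := act 6 n19142
theorem D40512 : act 6 n19142 = n40512 := rfl
theorem F61639 : act 2 n40512 = n40456 := d3_1 D40512 (iv6 D40456) (iv2 F30761)
theorem F61640 : act 4 n40512 = n19143 := d10_1 D40512 (iv6 D19143) D19142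
def n40513 : Q := act 0 n19143
theorem D40513 : act 0 n19143 = n40513 := rfl
theorem F61641 : act 6 n40513 = n21191 := d21_5 (iv5 D8964) F16883 F13986 D19143 D40513 (iv5 D21191) (iv1 D10095) D10096 F15952 F13939
def n40515 : Q := act 7 n19143
theorem D40515 : act 7 n19143 = n40515 := rfl
theorem F61643 : act 2 n40515 = n40459 := d4_1 D40515 (iv7 D40459) (iv2 F30763)
theorem F61644 : act 5 n40515 = n21769 := d13_1 D40515 (iv7 D21769) (iv5 F30764)
theorem F61646 : act 1 n40459 = n40513 := d15_0 (iv0 D40513) D40515 F61643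
def n40516 : Q := act 3 n19144
theorem D40516 : act 3 n19144 = n40516 := rfl
def n40517 : Q := act 5 n19144
theorem D40517 : act 5 n19144 = n40517 := rfl
theorem F61649 : act 2 n40517 = n40480 := d2_1 D40517 F61578 F32697
theorem F61650 : act 7 n40517 = n40479 := d13_2 F36814 D40517 F61577
theorem F61651 : act 0 n40517 = n40449 := d17_2 D19144 D40517 (iv5 D40449) (iv4 D19117) (iv5 D8964) D8963 (iv5 F16900) (iv0 D8994) D8996
theorem F61652 : act 1 n40517 = n23684 := d17_6 F31078 F31076 (iv1 F31667) (iv5 F32692) (iv4 F32696) D40517 (iv5 D23684) (iv0 F31694) (iv4 D19858)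
def n40518 : Q := act 6 n19144
theorem D40518 : act 6 n19144 = n40518 := rfl
def n40519 : Q := act 3 n19145
theorem D40519 : act 3 n19145 = n40519 := rfl
theorem F61653 : act 4 n40519 = n20109 := d5_2 F30765 D40519 (iv3 D20109) (iv4 D9483) (iv3 F14688)
def n40520 : Q := act 5 n19145
theorem D40520 : act 5 n19145 = n40520 := rfl
theorem F61654 : act 2 n40520 = n40479 := d2_1 D40520 F61577 (iv2 F36812)
theorem F61655 : act 7 n40520 = n40480 := d13_2 F32698 D40520 F61578
theorem F61656 : act 0 n40520 = n23684 := d17_2 F33813 D40520 (iv5 D23684) (iv4 D11090) F7521 F16882 F13986 (iv0 F16894) D21505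
theorem F61657 : act 1 n40520 = n40449 := d17_6 F31676 (iv5 D19850) F17524 D9472 F30765 D40520 (iv5 D40449) F36833 F36831
def n40522 : Q := act 0 n19146
theorem D40522 : act 0 n19146 = n40522 := rfl
def n40523 : Q := act 1 n19146
theorem D40523 : act 1 n19146 = n40523 := rfl
def n40525 : Q := act 5 n19146
theorem D40525 : act 5 n19146 = n40525 := rfl
theorem F61660 : act 3 n40525 = n19147 := d6_1 D40525 (iv5 D19147) D19146
def n40526 : Q := act 4 n19147
theorem D40526 : act 4 n19147 = n40526 := rfl
def n40527 : Q := act 6 n19147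
theorem D40527 : act 6 n19147 = n40527 := rfl
def n40528 : Q := act 2 n19148
theorem D40528 : act 2 n19148 = n40528 := rfl
theorem F61661 : act 7 n19149 = n40528 := d15_2 (iv0 D19148) D19149 (iv2 D40528)
def n40529 : Q := act 3 n19148
theorem D40529 : act 3 n19148 = n40529 := rfl
def n40530 : Q := act 4 n19148
theorem D40530 : act 4 n19148 = n40530 := rfl
def n40531 : Q := act 5 n19148
theorem D40531 : act 5 n19148 = n40531 := rfl
def n40533 : Q := act 7 n19148
theorem D40533 : act 7 n19148 = n40533 := rfl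
theorem F61662 : act 2 n40533 = n19149 := d4_1 D40533 F61661 (iv2 D40528)
def n40534 : Q := act 3 n19149
theorem D40534 : act 3 n19149 = n40534 := rfl
def n40535 : Q := act 4 n19149
theorem D40535 : act 4 n19149 = n40535 := rfl
def n40536 : Q := act 5 n19149
theorem D40536 : act 5 n19149 = n40536 := rfl
def n40538 : Q := act 3 n19151
theorem D40538 : act 3 n19151 = n40538 := rfl
theorem F61663 : act 4 n40538 = n40538 := d5_2 D19151 D40538 (iv3 D40538) (iv4 D19151) F13988
def n40539 : Q := act 5 n19151
theorem D40539 : act 5 n19151 = n40539 := rfl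
theorem F61664 : act 2 n40539 = n19421 := d2_1 D40539 (iv5 D19421) (iv2 F30768)
theorem F61665 : act 4 n40539 = n36422 := d16_2 D19151 D40539 (iv5 D36422) (iv4 D17586) (iv5 D8258) F5714 D4221 F6127 (iv2 F13987)
def n40540 : Q := act 0 n19153
theorem D40540 : act 0 n19153 = n40540 := rfl
def n40541 : Q := act 1 n19153
theorem D40541 : act 1 n19153 = n40541 := rfl
theorem F61666 : act 1 n40541 = n20418 := d15_1 D40541 (iv7 D20418) (iv2 F30772)
def n40542 : Q := act 5 n19153
theorem D40542 : act 5 n19153 = n40542 := rfl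
theorem F61667 : act 2 n40542 = n20417 := d2_1 D40542 (iv5 D20417) (iv2 F30772)
theorem F61668 : act 6 n40542 = n20414 := d12_2 D19153 D40542 (iv5 D20414) (iv6 D9695) (iv5 F13997)
def n40543 : Q := act 7 n19153
theorem D40543 : act 7 n19153 = n40543 := rfl
theorem F61669 : act 2 n40543 = n20418 := d4_1 D40543 (iv7 D20418) (iv2 F30772)
theorem F61670 : act 4 n40543 = n21992 := d11_1 D40543 (iv7 D21992) (iv4 F30773)
theorem F61671 : act 6 n40543 = n37849 := d14_1 D40543 (iv7 D37849) (iv6 D18144) (iv7 F13996) D19153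
theorem F61672 : act 1 n20418 = n40540 := d15_0 (iv0 D40540) D40543 F61669
theorem F61673 : act 1 n20416 = n40543 := d15_1 D20416 (iv7 D40543) F30772
theorem F61674 : act 1 n40543 = n20415 := d15_0 (iv0 D20415) D20418 (iv2 F61669)
def n40544 : Q := act 2 n19154
theorem D40544 : act 2 n19154 = n40544 := rfl
theorem F61675 : act 7 n19155 = n40544 := d15_2 (iv0 D19154) D19155 (iv2 D40544)
def n40545 : Q := act 3 n19154
theorem D40545 : act 3 n19154 = n40545 := rfl
def n40546 : Q := act 4 n19154
theorem D40546 : act 4 n19154 = n40546 := rfl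
def n40547 : Q := act 5 n19154
theorem D40547 : act 5 n19154 = n40547 := rfl
def n40548 : Q := act 6 n19154
theorem D40548 : act 6 n19154 = n40548 := rfl
def n40549 : Q := act 7 n19154
theorem D40549 : act 7 n19154 = n40549 := rfl
def n40550 : Q := act 3 n19155
theorem D40550 : act 3 n19155 = n40550 := rfl
def n40551 : Q := act 4 n19155
theorem D40551 : act 4 n19155 = n40551 := rfl
def n40552 : Q := act 5 n19155
theorem D40552 : act 5 n19155 = n40552 := rfl
theorem F61677 : act 6 n22608 = n40552 := d21_5 (iv5 D4253) F6152 (iv5 F7317) D10716 D22608 (iv5 D40552) (iv1 D19155) F14002 (iv6 D9002) (iv1 F6919)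
def n40553 : Q := act 6 n19155
theorem D40553 : act 6 n19155 = n40553 := rfl
def n40554 : Q := act 5 n19157
theorem D40554 : act 5 n19157 = n40554 := rfl
theorem F61678 : act 2 n40554 = n36150 := d2_1 D40554 F56882 (iv2 F30782)
theorem F61679 : act 4 n40554 = n19181 := d9_1 D40554 F30825 (iv4 F14145) (iv5 D4738) (iv4 F5785) D8443 D17895 D37221 F58176 F30822 F14140 (iv5 D4650) (iv4 F5972) D9003 D19157
theorem F61681 : act 0 n40554 = n21901 := d17_2 (iv1 F30785) D40554 F34395 (iv4 D10531) (iv5 D4821) (iv0 F3302) (iv5 F5918) F13835 D18926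
theorem F61682 : act 1 n40554 = n21888 := d17_6 F13809 (iv5 D4036) D4033 D9003 D19157 D40554 (iv5 D21888) (iv0 F29089) (iv4 D17917)
def n40555 : Q := act 6 n19157
theorem D40555 : act 6 n19157 = n40555 := rfl
theorem F61683 : act 2 n40555 = n40064 := d3_1 D40555 (iv6 D40064) (iv2 F30782)
theorem F61684 : act 4 n40555 = n19158 := d10_1 D40555 (iv6 D19158) D19157
def n40556 : Q := act 0 n19158
theorem D40556 : act 0 n19158 = n40556 := rfl
def n40557 : Q := act 1 n19158
theorem D40557 : act 1 n19158 = n40557 := rfl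
def n40558 : Q := act 5 n19158
theorem D40558 : act 5 n19158 = n40558 := rfl
theorem F61685 : act 6 n40558 = n19159 := d12_2 D19158 D40558 (iv5 D19159) (iv6 D9004) D9003
def n40559 : Q := act 7 n19158
theorem D40559 : act 7 n19158 = n40559 := rfl
def n40560 : Q := act 4 n19159
theorem D40560 : act 4 n19159 = n40560 := rfl
theorem F61686 : act 0 n40560 = n35269 := d18_2 F32112 D40560 (iv4 D35269) (iv5 D17118) (iv4 F14265) F17587 D19123 (iv0 F30728) D20248
theorem F61687 : act 1 n40560 = n35778 := d18_6 (iv1 F13865) (iv4 F14441) F16934 (iv4 F14040) D19159 D40560 (iv4 D35778) (iv0 F28570) (iv5 D17583)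
def n40562 : Q := act 1 n19160
theorem D40562 : act 1 n19160 = n40562 := rfl
def n40563 : Q := act 7 n19160
theorem D40563 : act 7 n19160 = n40563 := rfl
theorem F61688 : act 3 n40563 = n19167 := d8_1 D40563 (iv7 D19167) (iv3 F30786)
theorem F61689 : act 5 n40563 = n40563 := d13_1 D40563 (iv7 D40563) F30787
theorem F61690 : act 6 n40563 = n37966 := d14_1 D40563 (iv7 D37966) (iv6 D18181) (iv7 F14042) D19160
def n40564 : Q := act 6 n19161
theorem D40564 : act 6 n19161 = n40564 := rfl
theorem F61691 : act 2 n40564 = n39982 := d3_1 D40564 (iv6 D39982) (iv2 F30788)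
theorem F61692 : act 4 n40564 = n19162 := d10_1 D40564 (iv6 D19162) D19161
def n40565 : Q := act 0 n19162
theorem D40565 : act 0 n19162 = n40565 := rfl
def n40566 : Q := act 1 n19162
theorem D40566 : act 1 n19162 = n40566 := rfl
def n40567 : Q := act 7 n19162
theorem D40567 : act 7 n19162 = n40567 := rfl
def n40568 : Q := act 0 n19163
theorem D40568 : act 0 n19163 = n40568 := rfl
theorem F61694 : act 5 n40568 = n36821 := d19_1 D40568 F57740 (iv3 D35277) (iv1 F28750) (iv5 F30636) (iv4 D19080) (iv3 F14428) (iv1 F17160) (iv5 D10621) (iv4 F15123) F15119 (iv1 F14150) F7052 F3169 D3781 F6471 D4036 D9007 D19163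
theorem F61695 : act 3 n40568 = n36095 := d20_5 (iv4 D17917) F13809 D9007 D19163 D40568 F56848 (iv1 D22100) (iv4 F34558) (iv3 D22093) (iv1 F29090)
def n40569 : Q := act 1 n19163
theorem D40569 : act 1 n19163 = n40569 := rfl
def n40570 : Q := act 2 n19163
theorem D40570 : act 2 n19163 = n40570 := rfl
theorem F61696 : act 3 n40570 = n33023 := d0_2 D19163 D40570 F52202 (iv3 D27317) F21826
theorem F61697 : act 5 n40570 = n33022 := d2_2 F61049 D40570 (iv2 F61048)
def n40571 : Q := act 6 n19163
theorem D40571 : act 6 n19163 = n40571 := rfl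
def n40574 : Q := act 5 n19164
theorem D40574 : act 5 n19164 = n40574 := rfl
def n40575 : Q := act 7 n19164
theorem D40575 : act 7 n19164 = n40575 := rfl
theorem F61699 : act 4 n40575 = n19167 := d11_1 D40575 (iv7 D19167) (iv4 F30793)
def n40576 : Q := act 2 n19165
theorem D40576 : act 2 n19165 = n40576 := rfl
theorem F61700 : act 7 n19166 = n40576 := d15_2 (iv0 D19165) D19166 (iv2 D40576)
def n40577 : Q := act 3 n19165
theorem D40577 : act 3 n19165 = n40577 := rfl
def n40578 : Q := act 4 n19165
theorem D40578 : act 4 n19165 = n40578 := rfl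
def n40579 : Q := act 5 n19165
theorem D40579 : act 5 n19165 = n40579 := rfl
def n40580 : Q := act 6 n19165
theorem D40580 : act 6 n19165 = n40580 := rfl
def n40581 : Q := act 7 n19165
theorem D40581 : act 7 n19165 = n40581 := rfl
theorem F61701 : act 2 n40581 = n19166 := d4_1 D40581 F61700 (iv2 D40576)
def n40584 : Q := act 5 n19166
theorem D40584 : act 5 n19166 = n40584 := rfl
theorem F61702 : act 6 n27449 = n40584 := d21_5 F14063 F12971 F14037 D13139 D27449 (iv5 D40584) (iv1 D19166) F14058 (iv6 D9008) D9006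
def n40586 : Q := act 6 n19167
theorem D40586 : act 6 n19167 = n40586 := rfl
theorem F61703 : act 2 n40586 = n19219 := d3_1 D40586 (iv6 F44211) F44208
theorem F61704 : act 3 n40586 = n37966 := d7_1 D40586 (iv6 F61690) F61688
theorem F61705 : act 7 n40586 = n19168 := d14_2 D19167 D40586 (iv6 D19168) (iv7 D9009) D9008
theorem F61706 : act 1 n19217 = n40586 := d15_1 D19217 F61705 F30795
theorem F61707 : act 1 n40586 = n19216 := d15_0 (iv0 D19216) D19219 (iv2 F61703)
def n40587 : Q := act 0 n19168
theorem D40587 : act 0 n19168 = n40587 := rfl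
theorem F61708 : act 1 n19219 = n40587 := d15_0 (iv0 D40587) (iv7 F61705) F61703
def n40588 : Q := act 1 n19168
theorem D40588 : act 1 n19168 = n40588 := rfl
theorem F61709 : act 1 n40588 = n19219 := d15_1 D40588 (iv7 D19219) (iv2 F30795)
def n40589 : Q := act 5 n19168
theorem D40589 : act 5 n19168 = n40589 := rfl
theorem F61710 : act 2 n40589 = n19218 := d2_1 D40589 (iv5 D19218) (iv2 F30795)
theorem F61712 : act 6 n40589 = n19169 := d12_2 D19168 D40589 (iv5 D19169) (iv6 D9010) (iv5 F14061)
def n40590 : Q := act 0 n19170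
theorem D40590 : act 0 n19170 = n40590 := rfl
def n40591 : Q := act 1 n19170
theorem D40591 : act 1 n19170 = n40591 := rfl
def n40592 : Q := act 5 n19170
theorem D40592 : act 5 n19170 = n40592 := rfl
theorem F61713 : act 3 n40592 = n19171 := d6_1 D40592 (iv5 D19171) D19170
def n40593 : Q := act 6 n19170
theorem D40593 : act 6 n19170 = n40593 := rfl
theorem F61714 : act 3 n40593 = n19172 := d7_1 D40593 (iv6 D19172) D19170
theorem F61715 : act 4 n40593 = n21641 := d10_1 D40593 (iv6 D21641) (iv4 F30800)
def n40594 : Q := act 6 n19171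
theorem D40594 : act 6 n19171 = n40594 := rfl
def n40595 : Q := act 0 n19172
theorem D40595 : act 0 n19172 = n40595 := rfl
def n40596 : Q := act 1 n19172
theorem D40596 : act 1 n19172 = n40596 := rfl
def n40597 : Q := act 5 n19172
theorem D40597 : act 5 n19172 = n40597 := rfl
def n40598 : Q := act 7 n19172
theorem D40598 : act 7 n19172 = n40598 := rfl
theorem F61716 : act 4 n40598 = n21637 := d11_1 D40598 (iv7 D21637) (iv4 F30803)
def n40599 : Q := act 6 n19173
theorem D40599 : act 6 n19173 = n40599 := rfl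
def n40600 : Q := act 0 n19174
theorem D40600 : act 0 n19174 = n40600 := rfl
def n40601 : Q := act 1 n19174
theorem D40601 : act 1 n19174 = n40601 := rfl
def n40602 : Q := act 5 n19174
theorem D40602 : act 5 n19174 = n40602 := rfl
def n40603 : Q := act 7 n19174
theorem D40603 : act 7 n19174 = n40603 := rfl
theorem F61717 : act 4 n40603 = n21896 := d11_1 D40603 (iv7 D21896) (iv4 F30806)
def n40604 : Q := act 6 n19175
theorem D40604 : act 6 n19175 = n40604 := rfl
theorem F61718 : act 3 n40604 = n27258 := d7_1 D40604 (iv6 D27258) F30808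
def n40605 : Q := act 3 n19176
theorem D40605 : act 3 n19176 = n40605 := rfl
theorem F61719 : act 2 n40605 = n37513 := d0_1 D40605 F58392 F29166 (iv3 F25169) F30812
theorem F61720 : act 4 n40605 = n37513 := d5_2 F30810 D40605 F58392 F29168 F30808
theorem F61721 : act 5 n40605 = n32749 := d6_2 (iv5 F30811) D40605 (iv3 D32749)
def n40606 : Q := act 6 n19176
theorem D40606 : act 6 n19176 = n40606 := rfl
theorem F61722 : act 2 n40606 = n32772 := d3_1 D40606 (iv6 D32772) F30812
theorem F61723 : act 4 n40606 = n40604 := d10_1 D40606 (iv6 D40604) F30810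
def n40607 : Q := act 6 n19177
theorem D40607 : act 6 n19177 = n40607 := rfl
theorem F61724 : act 2 n40607 = n19179 := d3_1 D40607 (iv6 D19179) D19177
def n40608 : Q := act 6 n19178
theorem D40608 : act 6 n19178 = n40608 := rfl
theorem F61725 : act 2 n40608 = n32483 := d3_1 D40608 (iv6 D32483) (iv2 F30815)
theorem F61726 : act 3 n40608 = n19182 := d7_1 D40608 (iv6 D19182) (iv3 F30816)
theorem F61727 : act 4 n40608 = n32997 := d10_1 D40608 (iv6 D32997) F30819
def n40609 : Q := act 0 n19179
theorem D40609 : act 0 n19179 = n40609 := rfl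
def n40610 : Q := act 1 n19179
theorem D40610 : act 1 n19179 = n40610 := rfl
def n40611 : Q := act 5 n19179
theorem D40611 : act 5 n19179 = n40611 := rfl
theorem F61728 : act 3 n40611 = n19185 := d6_1 D40611 (iv5 D19185) (iv3 F30821)
def n40612 : Q := act 7 n19179
theorem D40612 : act 7 n19179 = n40612 := rfl
theorem F61729 : act 3 n40612 = n19186 := d8_1 D40612 (iv7 D19186) (iv3 F30821)
def n40613 : Q := act 3 n19180
theorem D40613 : act 3 n19180 = n40613 := rfl
theorem F61730 : act 5 n40613 = n19270 := d6_2 (iv5 F30822) D40613 (iv3 D19270)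
def n40614 : Q := act 6 n19180
theorem D40614 : act 6 n19180 = n40614 := rfl
def n40615 : Q := act 6 n19181
theorem D40615 : act 6 n19181 = n40615 := rfl
def n40616 : Q := act 0 n19182
theorem D40616 : act 0 n19182 = n40616 := rfl
def n40617 : Q := act 1 n19182
theorem D40617 : act 1 n19182 = n40617 := rfl
def n40618 : Q := act 5 n19182
theorem D40618 : act 5 n19182 = n40618 := rfl
theorem F61731 : act 6 n40618 = n19185 := d12_2 D19182 D40618 (iv5 D19185) (iv6 D9015) D9014
def n40619 : Q := act 7 n19182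
theorem D40619 : act 7 n19182 = n40619 := rfl
def n40620 : Q := act 2 n19183
theorem D40620 : act 2 n19183 = n40620 := rfl
theorem F61732 : act 7 n19184 = n40620 := d15_2 (iv0 D19183) D19184 (iv2 D40620)
def n40621 : Q := act 3 n19183
theorem D40621 : act 3 n19183 = n40621 := rfl
def n40622 : Q := act 4 n19183
theorem D40622 : act 4 n19183 = n40622 := rfl
def n40623 : Q := act 5 n19183
theorem D40623 : act 5 n19183 = n40623 := rfl
def n40624 : Q := act 6 n19183
theorem D40624 : act 6 n19183 = n40624 := rfl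
def n40625 : Q := act 7 n19183
theorem D40625 : act 7 n19183 = n40625 := rfl
theorem F61733 : act 2 n40625 = n19184 := d4_1 D40625 F61732 (iv2 D40620)
def n40626 : Q := act 3 n19184
theorem D40626 : act 3 n19184 = n40626 := rfl
def n40627 : Q := act 4 n19184
theorem D40627 : act 4 n19184 = n40627 := rfl
def n40628 : Q := act 5 n19184
theorem D40628 : act 5 n19184 = n40628 := rfl
def n40629 : Q := act 6 n19184
theorem D40629 : act 6 n19184 = n40629 := rfl
def n40630 : Q := act 0 n19185
theorem D40630 : act 0 n19185 = n40630 := rfl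
def n40631 : Q := act 1 n19185
theorem D40631 : act 1 n19185 = n40631 := rfl
def n40632 : Q := act 4 n19185
theorem D40632 : act 4 n19185 = n40632 := rfl
def n40633 : Q := act 7 n19185
theorem D40633 : act 7 n19185 = n40633 := rfl
theorem F61734 : act 5 n40633 = n19186 := d13_1 D40633 (iv7 D19186) D19185
def n40635 : Q := act 1 n19187
theorem D40635 : act 1 n19187 = n40635 := rfl
theorem F61736 : act 1 n40635 = n19192 := d15_1 D40635 (iv7 D19192) D19187
def n40637 : Q := act 4 n19187
theorem D40637 : act 4 n19187 = n40637 := rfl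
theorem F61738 : act 2 n40637 = n19189 := d1_1 D40637 (iv4 D19189) D19187
theorem F61739 : act 7 n40637 = n19194 := d11_2 F30827 D40637 (iv4 D19194)
def n40638 : Q := act 5 n19187
theorem D40638 : act 5 n19187 = n40638 := rfl
theorem F61740 : act 2 n40638 = n19190 := d2_1 D40638 (iv5 D19190) D19187
theorem F61741 : act 7 n40638 = n19195 := d13_2 F30827 D40638 (iv5 D19195)
def n40639 : Q := act 6 n19187
theorem D40639 : act 6 n19187 = n40639 := rfl
theorem F61742 : act 2 n40639 = n19191 := d3_1 D40639 (iv6 D19191) D19187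
def n40644 : Q := act 5 n19188
theorem D40644 : act 5 n19188 = n40644 := rfl
theorem F61743 : act 3 n40644 = n19190 := d6_1 D40644 (iv5 D19190) D19188
def n40645 : Q := act 6 n19188
theorem D40645 : act 6 n19188 = n40645 := rfl
theorem F61744 : act 3 n40645 = n19191 := d7_1 D40645 (iv6 D19191) D19188
def n40646 : Q := act 7 n19188
theorem D40646 : act 7 n19188 = n40646 := rfl
theorem F61745 : act 3 n40646 = n19192 := d8_1 D40646 (iv7 D19192) D19188
def n40647 : Q := act 0 n19189
theorem D40647 : act 0 n19189 = n40647 := rfl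
def n40648 : Q := act 1 n19189
theorem D40648 : act 1 n19189 = n40648 := rfl
theorem F61746 : act 1 n40648 = n19194 := d15_1 D40648 (iv7 F61739) F61738
def n40649 : Q := act 3 n19189
theorem D40649 : act 3 n19189 = n40649 := rfl
def n40650 : Q := act 5 n19189
theorem D40650 : act 5 n19189 = n40650 := rfl
def n40651 : Q := act 6 n19189
theorem D40651 : act 6 n19189 = n40651 := rfl
theorem F61747 : act 4 n40651 = n19191 := d10_1 D40651 (iv6 D19191) D19189
def n40652 : Q := act 7 n19189
theorem D40652 : act 7 n19189 = n40652 := rfl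
theorem F61748 : act 2 n40652 = n19194 := d4_1 D40652 (iv7 F61739) F61738
theorem F61749 : act 4 n40652 = n19192 := d11_1 D40652 (iv7 D19192) D19189
theorem F61750 : act 1 n19194 = n40647 := d15_0 (iv0 D40647) D40652 F61748
def n40653 : Q := act 4 n19190
theorem D40653 : act 4 n19190 = n40653 := rfl
def n40654 : Q := act 6 n19190
theorem D40654 : act 6 n19190 = n40654 := rfl
theorem F61751 : act 0 n40654 = n23367 := d21_10 F36492 (iv1 D19733) (iv5 D9257) (iv6 D4188) F7180 D4042 F7214 D9016 D19190 D40654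
def n40655 : Q := act 7 n19190
theorem D40655 : act 7 n19190 = n40655 := rfl
theorem F61752 : act 2 n40655 = n19195 := d4_1 D40655 (iv7 F61741) F61740
theorem F61753 : act 5 n40655 = n19192 := d13_1 D40655 (iv7 D19192) D19190
theorem F61754 : act 6 n23350 = n40655 := d3_0 F61752 (iv6 F30829) D23350
theorem F61755 : act 7 n40654 = n23358 := d14_4 F36480 F61754 (iv7 D40655) D40654 (iv6 D23358)
def n40656 : Q := act 0 n19191
theorem D40656 : act 0 n19191 = n40656 := rfl
def n40657 : Q := act 7 n19191
theorem D40657 : act 7 n19191 = n40657 := rfl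
def n40658 : Q := act 6 n19192
theorem D40658 : act 6 n19192 = n40658 := rfl
theorem F61756 : act 2 n40658 = n19196 := d3_1 D40658 (iv6 D19196) (iv2 F30828)
def n40668 : Q := act 4 n19195
theorem D40668 : act 4 n19195 = n40668 := rfl
theorem F61761 : act 6 n40668 = n23352 := d10_2 F30829 D40668 (iv4 D23352)
def n40669 : Q := act 1 n19196
theorem D40669 : act 1 n19196 = n40669 := rfl
def n40670 : Q := act 5 n19196
theorem D40670 : act 5 n19196 = n40670 := rfl
theorem F61762 : act 6 n40670 = n23353 := d12_2 D19196 D40670 (iv5 D23353) F30829 (iv5 D19195)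
theorem F61763 : act 0 n23366 = n40670 := d21_1 D23366 (iv5 D40670) (iv6 D19196) (iv1 D9017) (iv6 D4042) (iv5 D1749) D1745 (iv5 F3351) D5000 D10973
theorem F61764 : act 0 n40670 = n23370 := d21_10 (iv5 D23370) (iv1 D10974) D10975 F17834 F14525 (iv6 F17825) (iv5 D10971) D10969 D23353 (iv6 F61762)
def n40671 : Q := act 7 n19196
theorem D40671 : act 7 n19196 = n40671 := rfl
def n40672 : Q := act 3 n19197
theorem D40672 : act 3 n19197 = n40672 := rfl
theorem F61765 : act 4 n40672 = n38016 := d5_2 D19197 D40672 (iv3 D38016) (iv4 D18199) (iv3 F14077)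
def n40673 : Q := act 5 n19197
theorem D40673 : act 5 n19197 = n40673 := rfl
def n40674 : Q := act 0 n19199
theorem D40674 : act 0 n19199 = n40674 := rfl
def n40675 : Q := act 1 n19199
theorem D40675 : act 1 n19199 = n40675 := rfl
theorem F61769 : act 1 n40675 = n19211 := d15_1 D40675 (iv7 D19211) (iv2 F30835)
def n40676 : Q := act 5 n19199
theorem D40676 : act 5 n19199 = n40676 := rfl
theorem F61770 : act 2 n40676 = n19210 := d2_1 D40676 (iv5 D19210) (iv2 F30835)
theorem F61771 : act 3 n40676 = n37871 := d6_1 D40676 (iv5 D37871) (iv3 F30836)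
theorem F61772 : act 6 n40676 = n19200 := d12_2 D19199 D40676 (iv5 D19200) (iv6 D9023) D9022
def n40677 : Q := act 7 n19199
theorem D40677 : act 7 n19199 = n40677 := rfl
theorem F61773 : act 2 n40677 = n19211 := d4_1 D40677 (iv7 D19211) (iv2 F30835)
theorem F61774 : act 3 n40677 = n37868 := d8_1 D40677 F58733 (iv3 F30836)
theorem F61775 : act 6 n40677 = n37847 := d14_1 D40677 (iv7 D37847) (iv6 D18143) (iv7 F14090) D19199
theorem F61776 : act 1 n19211 = n40674 := d15_0 (iv0 D40674) D40677 F61773
theorem F61777 : act 1 n19209 = n40677 := d15_1 D19209 (iv7 D40677) F30835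
theorem F61778 : act 1 n40677 = n19208 := d15_0 (iv0 D19208) D19211 (iv2 F61773)
def n40678 : Q := act 3 n19201
theorem D40678 : act 3 n19201 = n40678 := rfl
theorem F61779 : act 4 n40678 = n26773 := d5_2 D19201 D40678 (iv3 D26773) F21854 F21851
theorem F61780 : act 7 n40678 = n37266 := d8_2 (iv7 F30842) D40678 (iv3 D37266)
theorem F61781 : act 0 n40678 = n32844 := d20_4 (iv4 F13963) (iv1 F14098) D19201 D40678 (iv3 D32844) (iv4 D15809) (iv1 D7419) D7420 F11705 D8459
def n40679 : Q := act 5 n19201
theorem D40679 : act 5 n19201 = n40679 := rfl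
theorem F61782 : act 2 n40679 = n37194 := d2_1 D40679 F58156 (iv2 F30841)
theorem F61783 : act 7 n40679 = n37195 := d13_2 (iv7 F30842) D40679 F58160
theorem F61784 : act 4 n40679 = n21177 := d16_2 D19201 D40679 F33425 F15996 (iv5 D8556) F6658 D10082 (iv7 F16130) F16128
theorem F61785 : act 0 n40679 = n21544 := d17_2 (iv1 F30844) D40679 (iv5 D21544) (iv4 D10287) (iv5 D4666) (iv0 D1937) D1939 D4672 D10304
theorem F61786 : act 1 n40679 = n21552 := d17_6 (iv1 D10084) (iv5 D4587) F5988 D9024 D19201 D40679 (iv5 D21552) (iv0 F33395) (iv4 D21158)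
def n40680 : Q := act 6 n19201
theorem D40680 : act 6 n19201 = n40680 := rfl
theorem F61787 : act 2 n40680 = n37265 := d3_1 D40680 (iv6 D37265) (iv2 F30841)
theorem F61788 : act 4 n40680 = n19202 := d10_1 D40680 (iv6 D19202) D19201
def n40682 : Q := act 1 n19202
theorem D40682 : act 1 n19202 = n40682 := rfl
def n40683 : Q := act 5 n19202
theorem D40683 : act 5 n19202 = n40683 := rfl
theorem F61789 : act 6 n40683 = n19203 := d12_2 D19202 D40683 (iv5 D19203) (iv6 D9025) D9024
def n40684 : Q := act 7 n19202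
theorem D40684 : act 7 n19202 = n40684 := rfl
def n40685 : Q := act 4 n19203
theorem D40685 : act 4 n19203 = n40685 := rfl
theorem F61791 : act 0 n40685 = n21600 := d18_2 (iv1 F30847) D40685 (iv4 D21600) (iv5 D10315) (iv4 F17423) (iv0 D9029) (iv4 F14099) F17427 D10370
def n40686 : Q := act 0 n19204
theorem D40686 : act 0 n19204 = n40686 := rfl
def n40687 : Q := act 1 n19204
theorem D40687 : act 1 n19204 = n40687 := rfl
theorem F61793 : act 1 n40687 = n19856 := d15_1 D40687 (iv7 D19856) (iv2 F30848)
def n40688 : Q := act 5 n19204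
theorem D40688 : act 5 n19204 = n40688 := rfl
theorem F61794 : act 2 n40688 = n19855 := d2_1 D40688 (iv5 D19855) (iv2 F30848)
theorem F61795 : act 3 n40688 = n40542 := d6_1 D40688 (iv5 D40542) (iv3 F30849)
theorem F61796 : act 6 n40688 = n19852 := d12_2 D19204 D40688 (iv5 D19852) (iv6 D9341) (iv5 F14101)
theorem F61797 : act 4 n40471 = n40688 := d10_3 F61796 F31685 D40471
def n40689 : Q := act 7 n19204
theorem D40689 : act 7 n19204 = n40689 := rfl
theorem F61798 : act 2 n40689 = n19856 := d4_1 D40689 (iv7 D19856) (iv2 F30848)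
theorem F61799 : act 3 n40689 = n40543 := d8_1 D40689 (iv7 D40543) (iv3 F30849)
theorem F61800 : act 4 n40689 = n21665 := d11_1 D40689 (iv7 D21665) (iv4 F30850)
theorem F61801 : act 1 n19856 = n40686 := d15_0 (iv0 D40686) D40689 F61798
theorem F61802 : act 1 n19854 = n40689 := d15_1 D19854 (iv7 D40689) F30848
theorem F61803 : act 4 n20416 = n19652 := d20_0 (iv1 D19652) F14432 F6077 (iv1 F16065) D9287 (iv4 F31548) F35801 (iv4 F61800) F61799 (iv1 F61673)
theorem F61804 : act 3 n19719 = n20416 := d20_5 (iv4 D4195) (iv1 F3048) (iv4 F6093) (iv3 F14456) (iv1 F31478) F61803 (iv1 D19652) F14432 F6077 (iv1 F16065)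
theorem F61805 : act 1 n40689 = n19853 := d15_0 (iv0 D19853) D19856 (iv2 F61798)
def n40690 : Q := act 0 n19205
theorem D40690 : act 0 n19205 = n40690 := rfl
def n40691 : Q := act 1 n19205
theorem D40691 : act 1 n19205 = n40691 := rfl
def n40692 : Q := act 2 n19205
theorem D40692 : act 2 n19205 = n40692 := rfl
theorem F61806 : act 3 n40692 = n21274 := d0_2 D19205 D40692 (iv2 F33499) F31373 (iv2 F16424)
theorem F61807 : act 4 n40692 = n19225 := d1_2 (iv4 F30851) D40692 (iv2 D19225)
def n40693 : Q := act 5 n19205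
theorem D40693 : act 5 n19205 = n40693 := rfl
theorem F61808 : act 3 n40693 = n19206 := d6_1 D40693 (iv5 D19206) D19205
def n40694 : Q := act 6 n19205
theorem D40694 : act 6 n19205 = n40694 := rfl
theorem F61809 : act 3 n40694 = n19207 := d7_1 D40694 (iv6 D19207) D19205
theorem F61810 : act 4 n40694 = n19227 := d10_1 D40694 (iv6 D19227) (iv4 F30851)
def n40695 : Q := act 4 n19206
theorem D40695 : act 4 n19206 = n40695 := rfl
theorem F61811 : act 2 n40695 = n37195 := d1_1 D40695 F58161 (iv2 F33707)
theorem F61812 : act 5 n40695 = n21154 := d9_2 D19206 D40695 (iv4 D21154) (iv5 D10082) (iv4 F6658) D8556 (iv4 F15996) (iv5 F33425) (iv4 F61784) (iv5 D40679) (iv4 D19201) (iv5 D9024) (iv4 D4052) D4053 D9027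
theorem F61813 : act 7 n40695 = n37194 := d11_2 (iv7 F33703) D40695 F58157
theorem F61814 : act 0 n40695 = n21552 := d17_0 (iv5 D21552) (iv1 F33392) (iv5 F58236) F58237 (iv5 D21170) F15948 D10124 (iv0 F30852) D40695
theorem F61815 : act 1 n40695 = n21544 := d18_6 (iv1 F6785) (iv4 F7284) (iv1 F14093) D9027 D19206 D40695 F33895 F16469 (iv5 D10145)
def n40696 : Q := act 6 n19206
theorem D40696 : act 6 n19206 = n40696 := rfl
def n40697 : Q := act 0 n19207
theorem D40697 : act 0 n19207 = n40697 := rfl
def n40698 : Q := act 1 n19207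
theorem D40698 : act 1 n19207 = n40698 := rfl
def n40699 : Q := act 5 n19207
theorem D40699 : act 5 n19207 = n40699 := rfl
def n40700 : Q := act 7 n19207
theorem D40700 : act 7 n19207 = n40700 := rfl
theorem F61816 : act 4 n40700 = n19211 := d11_1 D40700 (iv7 D19211) (iv4 F30854)
def n40701 : Q := act 2 n19208
theorem D40701 : act 2 n19208 = n40701 := rfl
theorem F61817 : act 7 n19209 = n40701 := d15_2 (iv0 D19208) D19209 (iv2 D40701)
def n40702 : Q := act 3 n19208
theorem D40702 : act 3 n19208 = n40702 := rfl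
def n40703 : Q := act 4 n19208
theorem D40703 : act 4 n19208 = n40703 := rfl
def n40704 : Q := act 5 n19208
theorem D40704 : act 5 n19208 = n40704 := rfl
def n40705 : Q := act 6 n19208
theorem D40705 : act 6 n19208 = n40705 := rfl
def n40706 : Q := act 7 n19208
theorem D40706 : act 7 n19208 = n40706 := rfl
theorem F61818 : act 2 n40706 = n19209 := d4_1 D40706 F61817 (iv2 D40701)
def n40707 : Q := act 3 n19209
theorem D40707 : act 3 n19209 = n40707 := rfl
theorem F61819 : act 4 n40707 = n22074 := d20_6 D10561 (iv1 F35330) (iv4 F58732) (iv3 F61774) (iv1 F61777) D40707 (iv1 D22074) F16713 F6961 D4832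
def n40708 : Q := act 4 n19209
theorem D40708 : act 4 n19209 = n40708 := rfl
def n40709 : Q := act 5 n19209
theorem D40709 : act 5 n19209 = n40709 := rfl
def n40710 : Q := act 6 n19209
theorem D40710 : act 6 n19209 = n40710 := rfl
def n40711 : Q := act 0 n19210
theorem D40711 : act 0 n19210 = n40711 := rfl
def n40712 : Q := act 1 n19210
theorem D40712 : act 1 n19210 = n40712 := rfl
def n40713 : Q := act 4 n19210
theorem D40713 : act 4 n19210 = n40713 := rfl
def n40714 : Q := act 7 n19210
theorem D40714 : act 7 n19210 = n40714 := rfl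
theorem F61822 : act 5 n40714 = n19211 := d13_1 D40714 (iv7 D19211) D19210
def n40715 : Q := act 6 n19212
theorem D40715 : act 6 n19212 = n40715 := rfl
theorem F61824 : act 2 n40715 = n21005 := d3_1 D40715 (iv6 D21005) (iv2 F30858)
theorem F61825 : act 3 n40715 = n38015 := d7_1 D40715 (iv6 D38015) (iv3 F30859)
theorem F61826 : act 4 n40715 = n21772 := d10_1 D40715 (iv6 D21772) (iv4 F30862)
def n40718 : Q := act 0 n19214
theorem D40718 : act 0 n19214 = n40718 := rfl
theorem F61832 : act 5 n40718 = n28569 := d17_3 (iv1 D33006) (iv5 F30867) D40718 (iv4 D28569) (iv5 D13621) (iv0 F25452) (iv5 F41697) (iv0 F56746) F56748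
theorem F61833 : act 1 n33023 = n40718 := d15_0 (iv0 D40718) (iv7 F44204) (iv2 F52202)
def n40719 : Q := act 1 n19214
theorem D40719 : act 1 n19214 = n40719 := rfl
theorem F61834 : act 5 n40719 = n33075 := d17_7 (iv1 D7473) (iv5 D3415) D3411 D7458 D15906 (iv5 F30867) D40719 F52301 (iv4 D15958)
theorem F61835 : act 0 n33023 = n40719 := d17_2 F46193 D33023 F61834 F52302 F51731 (iv0 F40582) D28563 F46127 D28623
def n40720 : Q := act 2 n19214
theorem D40720 : act 2 n19214 = n40720 := rfl
theorem F61836 : act 5 n40720 = n26428 := d2_2 (iv5 F30867) D40720 F42236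
theorem F61837 : act 7 n40720 = n33023 := d4_2 F44204 D40720 F52202
def n40721 : Q := act 6 n19214
theorem D40721 : act 6 n19214 = n40721 := rfl
theorem F61838 : act 3 n40721 = n19215 := d7_1 D40721 (iv6 D19215) D19214
def n40722 : Q := act 0 n19215
theorem D40722 : act 0 n19215 = n40722 := rfl
def n40723 : Q := act 1 n19215
theorem D40723 : act 1 n19215 = n40723 := rfl
def n40724 : Q := act 5 n19215
theorem D40724 : act 5 n19215 = n40724 := rfl
def n40725 : Q := act 7 n19215
theorem D40725 : act 7 n19215 = n40725 := rfl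
theorem F61839 : act 4 n40725 = n19219 := d11_1 D40725 (iv7 D19219) (iv4 F30868)
def n40726 : Q := act 2 n19216
theorem D40726 : act 2 n19216 = n40726 := rfl
theorem F61840 : act 7 n19217 = n40726 := d15_2 (iv0 D19216) D19217 (iv2 D40726)
def n40727 : Q := act 3 n19216
theorem D40727 : act 3 n19216 = n40727 := rfl
def n40728 : Q := act 4 n19216
theorem D40728 : act 4 n19216 = n40728 := rfl
def n40729 : Q := act 5 n19216
theorem D40729 : act 5 n19216 = n40729 := rfl
def n40730 : Q := act 6 n19216
theorem D40730 : act 6 n19216 = n40730 := rfl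
def n40731 : Q := act 7 n19216
theorem D40731 : act 7 n19216 = n40731 := rfl
theorem F61841 : act 2 n40731 = n19217 := d4_1 D40731 F61840 (iv2 D40726)
def n40732 : Q := act 3 n19217
theorem D40732 : act 3 n19217 = n40732 := rfl
def n40733 : Q := act 4 n19217
theorem D40733 : act 4 n19217 = n40733 := rfl
def n40734 : Q := act 5 n19217
theorem D40734 : act 5 n19217 = n40734 := rfl
def n40735 : Q := act 6 n19217
theorem D40735 : act 6 n19217 = n40735 := rfl
def n40736 : Q := act 0 n19218
theorem D40736 : act 0 n19218 = n40736 := rfl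
def n40737 : Q := act 1 n19218
theorem D40737 : act 1 n19218 = n40737 := rfl
def n40738 : Q := act 4 n19218
theorem D40738 : act 4 n19218 = n40738 := rfl
theorem F61842 : act 6 n40738 = n19223 := d10_2 (iv6 F30869) D40738 (iv4 D19223)
def n40739 : Q := act 7 n19218
theorem D40739 : act 7 n19218 = n40739 := rfl
theorem F61843 : act 5 n40739 = n19219 := d13_1 D40739 (iv7 D19219) D19218
theorem F61844 : act 6 n40739 = n40739 := d14_1 D40739 (iv7 D40739) F30869 F14116 (iv6 F30869)
def n40740 : Q := act 6 n19220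
theorem D40740 : act 6 n19220 = n40740 := rfl
theorem F61845 : act 3 n40740 = n21603 := d7_1 D40740 (iv6 D21603) (iv3 F30870)
def n40741 : Q := act 6 n19222
theorem D40741 : act 6 n19222 = n40741 := rfl
theorem F61846 : act 2 n40741 = n40740 := d3_1 D40741 (iv6 D40740) (iv2 F30880)
theorem F61847 : act 3 n40741 = n36956 := d7_1 D40741 (iv6 D36956) (iv3 F30881)
def n40742 : Q := act 3 n19223
theorem D40742 : act 3 n19223 = n40742 := rfl
theorem F61848 : act 7 n40742 = n40742 := d8_2 F30886 D40742 (iv3 D40742)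
def n40743 : Q := act 5 n19223
theorem D40743 : act 5 n19223 = n40743 := rfl
theorem F61850 : act 4 n40743 = n40673 := d16_2 D19223 D40743 (iv5 D40673) (iv4 D19197) (iv5 D9019) (iv4 F14068) D19169 F30799 F30797
theorem F61851 : act 0 n40743 = n37092 := d17_2 F58009 D40743 (iv5 D37092) (iv4 D17849) (iv5 D8413) (iv0 F17411) D8874 (iv0 F29005) D37088
def n40744 : Q := act 5 n19224
theorem D40744 : act 5 n19224 = n40744 := rfl
theorem F61852 : act 2 n40744 = n22402 := d2_1 D40744 F34957 F31295
theorem F61853 : act 1 n40744 = n23342 := d15_0 (iv0 F36470) (iv7 F34958) (iv2 F61852)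
theorem F61854 : act 1 n32768 = n40744 := d15_0 F61853 F36463 (iv2 F51884)
def n40745 : Q := act 6 n19224
theorem D40745 : act 6 n19224 = n40745 := rfl
def n40746 : Q := act 5 n19225
theorem D40746 : act 5 n19225 = n40746 := rfl
theorem F61855 : act 2 n40746 = n19226 := d2_1 D40746 (iv5 D19226) D19225
theorem F61856 : act 3 n40746 = n26311 := d6_1 D40746 (iv5 F61391) F61389
theorem F61857 : act 7 n40746 = n32482 := d13_2 F34482 D40746 F51566
theorem F61858 : act 4 n40746 = n40095 := d20_6 (iv4 D13048) F14055 D6279 (iv3 F20834) D26311 (iv3 F61856) (iv1 D40095) (iv4 F60983) (iv3 D40088) F30257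
def n40747 : Q := act 6 n19225
theorem D40747 : act 6 n19225 = n40747 := rfl
theorem F61859 : act 2 n40747 = n19227 := d3_1 D40747 (iv6 D19227) D19225
def n40748 : Q := act 0 n19226
theorem D40748 : act 0 n19226 = n40748 := rfl
theorem F61860 : act 1 n32482 = n40748 := d15_0 (iv0 D40748) (iv7 F61435) F61433
def n40749 : Q := act 4 n19226
theorem D40749 : act 4 n19226 = n40749 := rfl
theorem F61861 : act 2 n40749 = n40095 := d1_1 D40749 (iv4 F61858) F61855
theorem F61862 : act 7 n40749 = n40094 := d11_2 F61435 D40749 F61436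
theorem F61863 : act 0 n40033 = n40749 := d20_7 (iv4 F61679) F61681 (iv4 D21901) F16639 D17986 D37455 (iv4 F60898) (iv4 D40749) F30888 (iv1 F30824)
theorem F61864 : act 1 n36158 = n40749 := d15_0 (iv0 F61863) F60900 (iv2 F56892)
def n40750 : Q := act 6 n19226
theorem D40750 : act 6 n19226 = n40750 := rfl
theorem F61865 : act 3 n40750 = n19228 := d7_1 D40750 (iv6 D19228) (iv3 F30888)
def n40751 : Q := act 0 n19227
theorem D40751 : act 0 n19227 = n40751 := rfl
def n40752 : Q := act 1 n19227
theorem D40752 : act 1 n19227 = n40752 := rfl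
def n40753 : Q := act 5 n19227
theorem D40753 : act 5 n19227 = n40753 := rfl
theorem F61866 : act 3 n40753 = n19231 := d6_1 D40753 (iv5 D19231) (iv3 F30889)
def n40754 : Q := act 7 n19227
theorem D40754 : act 7 n19227 = n40754 := rfl
theorem F61867 : act 3 n40754 = n19232 := d8_1 D40754 (iv7 D19232) (iv3 F30889)
def n40755 : Q := act 0 n19228
theorem D40755 : act 0 n19228 = n40755 := rfl
def n40756 : Q := act 1 n19228
theorem D40756 : act 1 n19228 = n40756 := rfl
def n40757 : Q := act 5 n19228
theorem D40757 : act 5 n19228 = n40757 := rfl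
theorem F61868 : act 6 n40757 = n19231 := d12_2 D19228 D40757 (iv5 D19231) (iv6 D9039) D9038
def n40758 : Q := act 7 n19228
theorem D40758 : act 7 n19228 = n40758 := rfl
def n40759 : Q := act 2 n19229
theorem D40759 : act 2 n19229 = n40759 := rfl
theorem F61869 : act 7 n19230 = n40759 := d15_2 (iv0 D19229) D19230 (iv2 D40759)
def n40760 : Q := act 3 n19229
theorem D40760 : act 3 n19229 = n40760 := rfl
def n40761 : Q := act 4 n19229
theorem D40761 : act 4 n19229 = n40761 := rfl
def n40762 : Q := act 5 n19229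
theorem D40762 : act 5 n19229 = n40762 := rfl
def n40763 : Q := act 6 n19229
theorem D40763 : act 6 n19229 = n40763 := rfl
def n40764 : Q := act 7 n19229
theorem D40764 : act 7 n19229 = n40764 := rfl
theorem F61870 : act 2 n40764 = n19230 := d4_1 D40764 F61869 (iv2 D40759)
def n40765 : Q := act 3 n19230
theorem D40765 : act 3 n19230 = n40765 := rfl
def n40766 : Q := act 4 n19230
theorem D40766 : act 4 n19230 = n40766 := rfl
def n40767 : Q := act 5 n19230
theorem D40767 : act 5 n19230 = n40767 := rfl
def n40768 : Q := act 6 n19230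
theorem D40768 : act 6 n19230 = n40768 := rfl
def n40769 : Q := act 0 n19231
theorem D40769 : act 0 n19231 = n40769 := rfl
def n40770 : Q := act 1 n19231
theorem D40770 : act 1 n19231 = n40770 := rfl
def n40771 : Q := act 4 n19231
theorem D40771 : act 4 n19231 = n40771 := rfl
def n40772 : Q := act 7 n19231
theorem D40772 : act 7 n19231 = n40772 := rfl
theorem F61871 : act 5 n40772 = n19232 := d13_1 D40772 (iv7 D19232) D19231
def n40773 : Q := act 0 n19233
theorem D40773 : act 0 n19233 = n40773 := rfl
theorem F61872 : act 1 n19238 = n40773 := d15_0 (iv0 D40773) (iv7 F30891) (iv2 F30892)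
def n40775 : Q := act 3 n19233
theorem D40775 : act 3 n19233 = n40775 := rfl
theorem F61874 : act 7 n40775 = n19239 := d8_2 F30891 D40775 (iv3 D19239)
def n40776 : Q := act 4 n19233
theorem D40776 : act 4 n19233 = n40776 := rfl
theorem F61875 : act 2 n40776 = n19235 := d1_1 D40776 (iv4 D19235) D19233
theorem F61876 : act 7 n40776 = n19240 := d11_2 F30891 D40776 (iv4 D19240)
def n40777 : Q := act 5 n19233
theorem D40777 : act 5 n19233 = n40777 := rfl
theorem F61877 : act 2 n40777 = n19236 := d2_1 D40777 (iv5 D19236) D19233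
theorem F61878 : act 7 n40777 = n19241 := d13_2 F30891 D40777 (iv5 D19241)
def n40778 : Q := act 6 n19233
theorem D40778 : act 6 n19233 = n40778 := rfl
theorem F61879 : act 2 n40778 = n19237 := d3_1 D40778 (iv6 D19237) D19233
def n40786 : Q := act 0 n19235
theorem D40786 : act 0 n19235 = n40786 := rfl
def n40787 : Q := act 1 n19235
theorem D40787 : act 1 n19235 = n40787 := rfl
theorem F61883 : act 1 n40787 = n19240 := d15_1 D40787 (iv7 F61876) F61875
def n40790 : Q := act 6 n19235
theorem D40790 : act 6 n19235 = n40790 := rfl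
theorem F61884 : act 4 n40790 = n19237 := d10_1 D40790 (iv6 D19237) D19235
def n40791 : Q := act 7 n19235
theorem D40791 : act 7 n19235 = n40791 := rfl
theorem F61885 : act 2 n40791 = n19240 := d4_1 D40791 (iv7 F61876) F61875
theorem F61887 : act 1 n19240 = n40786 := d15_0 (iv0 D40786) D40791 F61885
def n40792 : Q := act 0 n19236
theorem D40792 : act 0 n19236 = n40792 := rfl
theorem F61888 : act 5 n40792 = n23371 := d21_2 D19236 D40792 (iv6 D23371) (iv1 D10974) (iv6 D5000) F3351 (iv1 F3010) D1754 D4058 D9040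
def n40793 : Q := act 1 n19236
theorem D40793 : act 1 n19236 = n40793 := rfl
def n40796 : Q := act 7 n19236
theorem D40796 : act 7 n19236 = n40796 := rfl
theorem F61890 : act 2 n40796 = n19241 := d4_1 D40796 (iv7 F61878) F61877
theorem F61891 : act 5 n40796 = n19238 := d13_1 D40796 (iv7 D19238) D19236
theorem F61892 : act 1 n19241 = n40792 := d15_0 (iv0 D40792) D40796 F61890
theorem F61893 : act 0 n19242 = n40324 := d21_10 (iv5 D40324) (iv1 F30594) F13925 (iv6 F7427) (iv1 F17831) D23371 (iv5 F61888) (iv1 F61892) (iv5 D19241) D19242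
theorem E6148 : n40669 = n23427 := ((c21_4 F31013 F61893 (iv5 D40324) (iv6 F36537) (iv1 D40669) (iv6 D19196) D19195 (iv1 F31043) (iv5 F31015) (iv6 D19390) D19387)).symm
theorem F61894 : act 0 n23427 = n19196 := (sb E6148 (iv1 D40669))
def n40797 : Q := act 0 n19237
theorem D40797 : act 0 n19237 = n40797 := rfl
def n40798 : Q := act 1 n19237
theorem D40798 : act 1 n19237 = n40798 := rfl
def n40799 : Q := act 7 n19237
theorem D40799 : act 7 n19237 = n40799 := rfl
def n40800 : Q := act 6 n19238
theorem D40800 : act 6 n19238 = n40800 := rfl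
theorem F61895 : act 2 n40800 = n19242 := d3_1 D40800 (iv6 D19242) (iv2 F30892)
def n40806 : Q := act 6 n19239
theorem D40806 : act 6 n19239 = n40806 := rfl
theorem F61897 : act 3 n40806 = n19242 := d7_1 D40806 (iv6 D19242) D19239
def n40807 : Q := act 3 n19240
theorem D40807 : act 3 n19240 = n40807 := rfl
def n40808 : Q := act 5 n19240
theorem D40808 : act 5 n19240 = n40808 := rfl
def n40809 : Q := act 6 n19240
theorem D40809 : act 6 n19240 = n40809 := rfl
theorem F61898 : act 4 n40809 = n19242 := d10_1 D40809 (iv6 D19242) D19240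
def n40810 : Q := act 4 n19241
theorem D40810 : act 4 n19241 = n40810 := rfl
def n40811 : Q := act 1 n19242
theorem D40811 : act 1 n19242 = n40811 := rfl
def n40812 : Q := act 7 n19242
theorem D40812 : act 7 n19242 = n40812 := rfl
def n40813 : Q := act 2 n19243
theorem D40813 : act 2 n19243 = n40813 := rfl
theorem F61899 : act 7 n19244 = n40813 := d15_2 (iv0 D19243) D19244 (iv2 D40813)
def n40816 : Q := act 7 n19243
theorem D40816 : act 7 n19243 = n40816 := rfl
theorem F61900 : act 2 n40816 = n19244 := d4_1 D40816 F61899 (iv2 D40813)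
def n40820 : Q := act 0 n19245
theorem D40820 : act 0 n19245 = n40820 := rfl
def n40821 : Q := act 1 n19245
theorem D40821 : act 1 n19245 = n40821 := rfl
def n40824 : Q := act 7 n19245
theorem D40824 : act 7 n19245 = n40824 := rfl
theorem F61902 : act 4 n40824 = n19246 := d11_1 D40824 (iv7 D19246) D19245
def n40826 : Q := act 5 n19247
theorem D40826 : act 5 n19247 = n40826 := rfl
def n40827 : Q := act 6 n19247
theorem D40827 : act 6 n19247 = n40827 := rfl
theorem F61910 : act 4 n40827 = n19248 := d10_1 D40827 (iv6 D19248) D19247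
def n40829 : Q := act 1 n19248
theorem D40829 : act 1 n19248 = n40829 := rfl
theorem F61911 : act 1 n40829 = n21115 := d15_1 D40829 (iv7 D21115) (iv2 F30898)
def n40832 : Q := act 5 n19249
theorem D40832 : act 5 n19249 = n40832 := rfl
def n40835 : Q := act 5 n19250
theorem D40835 : act 5 n19250 = n40835 := rfl
def n40836 : Q := act 6 n19250
theorem D40836 : act 6 n19250 = n40836 := rfl
theorem F61930 : act 4 n40836 = n21761 := d10_1 D40836 (iv6 D21761) (iv4 F30902)
def n40843 : Q := act 4 n19253
theorem D40843 : act 4 n19253 = n40843 := rfl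
theorem F61940 : act 2 n40843 = n38576 := d1_1 D40843 F59401 (iv2 F30908)
def n40844 : Q := act 6 n19253
theorem D40844 : act 6 n19253 = n40844 := rfl
theorem F61941 : act 2 n40844 = n38608 := d3_1 D40844 (iv6 D38608) (iv2 F30908)
def n40845 : Q := act 0 n19254
theorem D40845 : act 0 n19254 = n40845 := rfl
def n40846 : Q := act 1 n19254
theorem D40846 : act 1 n19254 = n40846 := rfl
def n40847 : Q := act 5 n19254
theorem D40847 : act 5 n19254 = n40847 := rfl
theorem F61943 : act 3 n40847 = n19257 := d6_1 D40847 (iv5 D19257) (iv3 F30910)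
def n40848 : Q := act 7 n19254
theorem D40848 : act 7 n19254 = n40848 := rfl
theorem F61944 : act 3 n40848 = n19258 := d8_1 D40848 (iv7 D19258) (iv3 F30910)
theorem F61945 : act 4 n40848 = n40848 := d11_1 D40848 (iv7 D40848) F30911
def n40849 : Q := act 0 n19255
theorem D40849 : act 0 n19255 = n40849 := rfl
def n40850 : Q := act 1 n19255
theorem D40850 : act 1 n19255 = n40850 := rfl
theorem F61946 : act 1 n40850 = n19358 := d15_1 D40850 (iv7 D19358) (iv2 F30912)
def n40851 : Q := act 5 n19255
theorem D40851 : act 5 n19255 = n40851 := rfl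
theorem F61947 : act 2 n40851 = n19357 := d2_1 D40851 (iv5 D19357) (iv2 F30912)
theorem F61948 : act 6 n40851 = n19257 := d12_2 D19255 D40851 (iv5 D19257) (iv6 D9056) D9055
def n40852 : Q := act 7 n19255
theorem D40852 : act 7 n19255 = n40852 := rfl
theorem F61949 : act 2 n40852 = n19358 := d4_1 D40852 (iv7 D19358) (iv2 F30912)
theorem F61951 : act 1 n19356 = n40852 := d15_1 D19356 (iv7 D40852) F30912
theorem F61952 : act 1 n40852 = n19355 := d15_0 (iv0 D19355) D19358 (iv2 F61949)
def n40853 : Q := act 3 n19256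
theorem D40853 : act 3 n19256 = n40853 := rfl
theorem F61953 : act 7 n40853 = n19359 := d8_2 (iv7 F30914) D40853 (iv3 D19359)
def n40854 : Q := act 5 n19256
theorem D40854 : act 5 n19256 = n40854 := rfl
theorem F61954 : act 2 n40854 = n19363 := d2_1 D40854 (iv5 D19363) F30915
theorem F61955 : act 7 n40854 = n19360 := d13_2 (iv7 F30914) D40854 (iv5 D19360)
def n40855 : Q := act 6 n19256
theorem D40855 : act 6 n19256 = n40855 := rfl
theorem F61956 : act 2 n40855 = n19364 := d3_1 D40855 (iv6 D19364) F30915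
def n40856 : Q := act 0 n19257
theorem D40856 : act 0 n19257 = n40856 := rfl
def n40857 : Q := act 1 n19257
theorem D40857 : act 1 n19257 = n40857 := rfl
theorem F61957 : act 1 n40857 = n19368 := d15_1 D40857 (iv7 D19368) (iv2 F30916)
def n40858 : Q := act 4 n19257
theorem D40858 : act 4 n19257 = n40858 := rfl
theorem F61958 : act 2 n40858 = n19367 := d1_1 D40858 (iv4 D19367) (iv2 F30916)
def n40859 : Q := act 7 n19257
theorem D40859 : act 7 n19257 = n40859 := rfl
theorem F61959 : act 2 n40859 = n19368 := d4_1 D40859 (iv7 D19368) (iv2 F30916)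
theorem F61960 : act 5 n40859 = n19258 := d13_1 D40859 (iv7 D19258) D19257
theorem F61961 : act 1 n19368 = n40856 := d15_0 (iv0 D40856) D40859 F61959
theorem F61962 : act 1 n19366 = n40859 := d15_1 D19366 (iv7 D40859) F30916
theorem F61963 : act 1 n40859 = n19365 := d15_0 (iv0 D19365) D19368 (iv2 F61959)
def n40860 : Q := act 5 n19260
theorem D40860 : act 5 n19260 = n40860 := rfl
theorem F61964 : act 3 n40860 = n19262 := d6_1 D40860 (iv5 D19262) D19260
theorem F61965 : act 7 n40860 = n19400 := d13_2 (iv7 F31054) D40860 (iv5 D19400)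
def n40861 : Q := act 0 n19261
theorem D40861 : act 0 n19261 = n40861 := rfl
theorem F61966 : act 4 n40861 = n22345 := d20_2 D19261 D40861 (iv3 F34873) (iv1 F34847) (iv3 F34874) F34875 (iv1 D19256) F14132 F6003 D9057
theorem F61967 : act 2 n19381 = n40861 := d15_3 (iv0 D40861) F36623 F36621
theorem F61968 : act 1 n19264 = n40861 := d15_0 (iv0 D40861) F31056 (iv2 F31047)
theorem F61969 : act 7 n40861 = n19382 := d15_2 (iv0 F36622) F61968 (iv2 F36620)
def n40862 : Q := act 3 n19261
theorem D40862 : act 3 n19261 = n40862 := rfl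
theorem F61970 : act 7 n40862 = n19402 := d8_2 (iv7 F31056) D40862 (iv3 D19402)
def n40863 : Q := act 5 n19261
theorem D40863 : act 5 n19261 = n40863 := rfl
theorem F61971 : act 2 n40863 = n19384 := d2_1 D40863 (iv5 D19384) (iv2 F31055)
theorem F61972 : act 7 n40863 = n19403 := d13_2 (iv7 F31056) D40863 (iv5 D19403)
def n40864 : Q := act 4 n19262
theorem D40864 : act 4 n19262 = n40864 := rfl
theorem F61973 : act 2 n40864 = n19389 := d1_1 D40864 (iv4 D19389) (iv2 F31057)
theorem F61974 : act 7 n40864 = n19405 := d11_2 (iv7 F31058) D40864 (iv4 D19405)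
def n40865 : Q := act 5 n19264
theorem D40865 : act 5 n19264 = n40865 := rfl
theorem F61975 : act 2 n40865 = n19403 := d2_1 D40865 (iv5 D19403) (iv2 F31047)
theorem F61976 : act 7 n40865 = n19384 := d13_2 (iv7 F31048) D40865 (iv5 D19384)
def n40866 : Q := act 6 n19264
theorem D40866 : act 6 n19264 = n40866 := rfl
theorem F61977 : act 2 n40866 = n19404 := d3_1 D40866 (iv6 D19404) (iv2 F31047)
theorem F61978 : act 4 n40866 = n19265 := d10_1 D40866 (iv6 D19265) D19264
def n40867 : Q := act 2 n19266
theorem D40867 : act 2 n19266 = n40867 := rfl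
theorem F61979 : act 7 n19267 = n40867 := d15_2 (iv0 D19266) D19267 (iv2 D40867)
def n40868 : Q := act 3 n19266
theorem D40868 : act 3 n19266 = n40868 := rfl
def n40869 : Q := act 4 n19266
theorem D40869 : act 4 n19266 = n40869 := rfl
def n40870 : Q := act 5 n19266
theorem D40870 : act 5 n19266 = n40870 := rfl
def n40871 : Q := act 7 n19266
theorem D40871 : act 7 n19266 = n40871 := rfl
theorem F61980 : act 2 n40871 = n19267 := d4_1 D40871 F61979 (iv2 D40867)
def n40872 : Q := act 3 n19267
theorem D40872 : act 3 n19267 = n40872 := rfl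
def n40873 : Q := act 4 n19267
theorem D40873 : act 4 n19267 = n40873 := rfl
def n40874 : Q := act 5 n19267
theorem D40874 : act 5 n19267 = n40874 := rfl
def n40875 : Q := act 6 n19267
theorem D40875 : act 6 n19267 = n40875 := rfl
def n40876 : Q := act 0 n19268
theorem D40876 : act 0 n19268 = n40876 := rfl
def n40877 : Q := act 1 n19268
theorem D40877 : act 1 n19268 = n40877 := rfl
def n40878 : Q := act 4 n19268
theorem D40878 : act 4 n19268 = n40878 := rfl
theorem F61981 : act 2 n40878 = n22968 := d1_1 D40878 F36026 F35146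
theorem F61982 : act 6 n40878 = n19715 := d10_2 (iv6 F30924) D40878 F31468
def n40879 : Q := act 7 n19268
theorem D40879 : act 7 n19268 = n40879 := rfl
theorem F61983 : act 3 n40879 = n19297 := d8_1 D40879 (iv7 D19297) (iv3 F30923)
theorem F61984 : act 5 n40879 = n19269 := d13_1 D40879 (iv7 D19269) D19268
def n40880 : Q := act 0 n19270
theorem D40880 : act 0 n19270 = n40880 := rfl
theorem F61985 : act 3 n40880 = n22301 := d20_5 (iv4 D4876) (iv1 F14142) (iv4 F14140) D19270 D40880 (iv4 D22301) (iv1 F17162) F14129 (iv3 D9054) F7324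
def n40881 : Q := act 1 n19270
theorem D40881 : act 1 n19270 = n40881 := rfl
def n40882 : Q := act 6 n19270
theorem D40882 : act 6 n19270 = n40882 := rfl
theorem F61986 : act 3 n40882 = n19271 := d7_1 D40882 (iv6 D19271) D19270
theorem F61987 : act 4 n40882 = n21484 := d10_1 D40882 (iv6 D21484) (iv4 F30926)
def n40883 : Q := act 0 n19271
theorem D40883 : act 0 n19271 = n40883 := rfl
def n40884 : Q := act 1 n19271
theorem D40884 : act 1 n19271 = n40884 := rfl
def n40885 : Q := act 5 n19271
theorem D40885 : act 5 n19271 = n40885 := rfl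
def n40886 : Q := act 7 n19271
theorem D40886 : act 7 n19271 = n40886 := rfl
theorem F61988 : act 4 n40886 = n21467 := d11_1 D40886 (iv7 D21467) (iv4 F30927)
def n40887 : Q := act 0 n19272
theorem D40887 : act 0 n19272 = n40887 := rfl
def n40888 : Q := act 1 n19272
theorem D40888 : act 1 n19272 = n40888 := rfl
def n40889 : Q := act 5 n19272
theorem D40889 : act 5 n19272 = n40889 := rfl
def n40890 : Q := act 7 n19272
theorem D40890 : act 7 n19272 = n40890 := rfl
def n40891 : Q := act 6 n19273
theorem D40891 : act 6 n19273 = n40891 := rfl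
theorem F61990 : act 3 n40891 = n27660 := d7_1 D40891 (iv6 D27660) (iv3 F30930)
def n40892 : Q := act 3 n19274
theorem D40892 : act 3 n19274 = n40892 := rfl
theorem F61991 : act 2 n40892 = n39084 := d0_1 D40892 F60087 F29795 (iv3 F24952) F30933
theorem F61992 : act 4 n40892 = n39084 := d5_2 (iv4 F30932) D40892 F60087 F29797 (iv3 F30930)
theorem F61993 : act 5 n40892 = n32463 := d6_2 F30934 D40892 (iv3 D32463)
theorem F61994 : act 0 n40892 = n22306 := d20_10 (iv4 D22306) (iv1 D10624) F7029 (iv3 D4861) D4859 D10617 F17148 D19273 (iv4 F30932) D40892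
theorem F61995 : act 0 n22301 = n40892 := d20_1 D22301 F61992 F60087 (iv1 F29799) (iv3 D10610) (iv4 D4856) (iv1 D2009) D2010 D4861 D10623
def n40893 : Q := act 6 n19274
theorem D40893 : act 6 n19274 = n40893 := rfl
theorem F61996 : act 2 n40893 = n32485 := d3_1 D40893 (iv6 D32485) F30933
theorem F61997 : act 4 n40893 = n40891 := d10_1 D40893 (iv6 D40891) (iv4 F30932)
def n40894 : Q := act 6 n19275
theorem D40894 : act 6 n19275 = n40894 := rfl
theorem F61998 : act 2 n40894 = n19276 := d3_1 D40894 (iv6 D19276) D19275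
def n40895 : Q := act 0 n19276
theorem D40895 : act 0 n19276 = n40895 := rfl
def n40896 : Q := act 1 n19276
theorem D40896 : act 1 n19276 = n40896 := rfl
def n40897 : Q := act 5 n19276
theorem D40897 : act 5 n19276 = n40897 := rfl
theorem F61999 : act 3 n40897 = n19282 := d6_1 D40897 (iv5 D19282) (iv3 F30936)
def n40898 : Q := act 7 n19276
theorem D40898 : act 7 n19276 = n40898 := rfl
theorem F62000 : act 3 n40898 = n19283 := d8_1 D40898 (iv7 D19283) (iv3 F30936)
def n40899 : Q := act 3 n19277
theorem D40899 : act 3 n19277 = n40899 := rfl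
theorem F62001 : act 5 n40899 = n21268 := d6_2 (iv5 F30937) D40899 (iv3 D21268)
theorem F62002 : act 7 n40899 = n40592 := d8_2 F30940 D40899 F61713
def n40900 : Q := act 6 n19277
theorem D40900 : act 6 n19277 = n40900 := rfl
theorem F62003 : act 2 n40900 = n40599 := d3_1 D40900 (iv6 D40599) F30939
def n40901 : Q := act 6 n19278
theorem D40901 : act 6 n19278 = n40901 := rfl
theorem F62004 : act 2 n40901 = n40594 := d3_1 D40901 (iv6 D40594) F30944
def n40902 : Q := act 0 n19279
theorem D40902 : act 0 n19279 = n40902 := rfl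
def n40903 : Q := act 1 n19279
theorem D40903 : act 1 n19279 = n40903 := rfl
def n40904 : Q := act 5 n19279
theorem D40904 : act 5 n19279 = n40904 := rfl
theorem F62005 : act 6 n40904 = n19282 := d12_2 D19279 D40904 (iv5 D19282) (iv6 D9065) D9064
def n40905 : Q := act 7 n19279
theorem D40905 : act 7 n19279 = n40905 := rfl
def n40906 : Q := act 2 n19280
theorem D40906 : act 2 n19280 = n40906 := rfl
theorem F62006 : act 7 n19281 = n40906 := d15_2 (iv0 D19280) D19281 (iv2 D40906)
def n40907 : Q := act 3 n19280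
theorem D40907 : act 3 n19280 = n40907 := rfl
def n40908 : Q := act 4 n19280
theorem D40908 : act 4 n19280 = n40908 := rfl
def n40909 : Q := act 5 n19280
theorem D40909 : act 5 n19280 = n40909 := rfl
def n40910 : Q := act 6 n19280
theorem D40910 : act 6 n19280 = n40910 := rfl
def n40911 : Q := act 7 n19280
theorem D40911 : act 7 n19280 = n40911 := rfl
theorem F62007 : act 2 n40911 = n19281 := d4_1 D40911 F62006 (iv2 D40906)
def n40912 : Q := act 3 n19281
theorem D40912 : act 3 n19281 = n40912 := rfl
def n40913 : Q := act 4 n19281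
theorem D40913 : act 4 n19281 = n40913 := rfl
def n40914 : Q := act 5 n19281
theorem D40914 : act 5 n19281 = n40914 := rfl
def n40915 : Q := act 6 n19281
theorem D40915 : act 6 n19281 = n40915 := rfl
def n40916 : Q := act 0 n19282
theorem D40916 : act 0 n19282 = n40916 := rfl
def n40917 : Q := act 1 n19282
theorem D40917 : act 1 n19282 = n40917 := rfl
theorem F62008 : act 5 n40763 = n40917 := d21_6 (iv5 F30822) (iv1 F30823) (iv5 D9038) D9039 D19229 D40763 (iv1 D40917) (iv5 D19282) (iv6 D9065) D9061
def n40918 : Q := act 4 n19282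
theorem D40918 : act 4 n19282 = n40918 := rfl
def n40919 : Q := act 7 n19282
theorem D40919 : act 7 n19282 = n40919 := rfl
theorem F62009 : act 5 n40919 = n19283 := d13_1 D40919 (iv7 D19283) D19282
def n40923 : Q := act 4 n19284
theorem D40923 : act 4 n19284 = n40923 := rfl
theorem F62013 : act 2 n40923 = n19286 := d1_1 D40923 (iv4 D19286) D19284
theorem F62014 : act 7 n40923 = n19291 := d11_2 F30946 D40923 (iv4 D19291)
def n40924 : Q := act 5 n19284
theorem D40924 : act 5 n19284 = n40924 := rfl
theorem F62015 : act 2 n40924 = n19287 := d2_1 D40924 (iv5 D19287) D19284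
theorem F62016 : act 7 n40924 = n19292 := d13_2 F30946 D40924 (iv5 D19292)
def n40925 : Q := act 6 n19284
theorem D40925 : act 6 n19284 = n40925 := rfl
theorem F62017 : act 2 n40925 = n19288 := d3_1 D40925 (iv6 D19288) D19284
theorem F62018 : act 5 n40364 = n40925 := d2_0 F62017 F30947 (iv2 F61449)
theorem F62019 : act 7 n19406 = n40925 := d15_2 (iv0 F31016) (iv0 F31036) F62017
theorem F62020 : act 7 n19293 = n23400 := d14_4 F62019 (iv6 D40925) (iv7 F30946) D19293 (iv6 F36528)
theorem F62021 : act 2 n19293 = n23399 := d15_3 (iv0 D23399) D23400 (iv7 F62020)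
theorem F62022 : act 6 n23399 = n19289 := d3_2 D19293 F62021 F30948
def n40930 : Q := act 5 n19285
theorem D40930 : act 5 n19285 = n40930 := rfl
theorem F62023 : act 3 n40930 = n19287 := d6_1 D40930 (iv5 D19287) D19285
def n40931 : Q := act 6 n19285
theorem D40931 : act 6 n19285 = n40931 := rfl
theorem F62024 : act 3 n40931 = n19288 := d7_1 D40931 (iv6 D19288) D19285
theorem F62025 : act 5 n40365 = n40931 := d6_0 F62024 F30947 D40365
def n40933 : Q := act 0 n19286
theorem D40933 : act 0 n19286 = n40933 := rfl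
def n40934 : Q := act 1 n19286
theorem D40934 : act 1 n19286 = n40934 := rfl
theorem F62027 : act 1 n40934 = n19291 := d15_1 D40934 (iv7 F62014) F62013
def n40935 : Q := act 3 n19286
theorem D40935 : act 3 n19286 = n40935 := rfl
def n40936 : Q := act 5 n19286
theorem D40936 : act 5 n19286 = n40936 := rfl
def n40937 : Q := act 6 n19286
theorem D40937 : act 6 n19286 = n40937 := rfl
theorem F62028 : act 4 n40937 = n19288 := d10_1 D40937 (iv6 D19288) D19286
def n40938 : Q := act 7 n19286
theorem D40938 : act 7 n19286 = n40938 := rfl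
theorem F62029 : act 2 n40938 = n19291 := d4_1 D40938 (iv7 F62014) F62013
theorem F62030 : act 4 n40938 = n19289 := d11_1 D40938 (iv7 D19289) D19286
theorem F62031 : act 1 n19291 = n40933 := d15_0 (iv0 D40933) D40938 F62029
def n40939 : Q := act 1 n19287
theorem D40939 : act 1 n19287 = n40939 := rfl
theorem F62032 : act 1 n40939 = n19292 := d15_1 D40939 (iv7 F62016) F62015
def n40940 : Q := act 4 n19287
theorem D40940 : act 4 n19287 = n40940 := rfl
def n40941 : Q := act 7 n19287
theorem D40941 : act 7 n19287 = n40941 := rfl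
theorem F62033 : act 2 n40941 = n19292 := d4_1 D40941 (iv7 F62016) F62015
theorem F62034 : act 5 n40941 = n19289 := d13_1 D40941 (iv7 D19289) D19287
theorem F62035 : act 1 n19292 = n40428 := d15_0 (iv0 F61507) D40941 F62033
def n40942 : Q := act 7 n19288
theorem D40942 : act 7 n19288 = n40942 := rfl
def n40953 : Q := act 6 n19292
theorem D40953 : act 6 n19292 = n40953 := rfl
theorem F62041 : act 0 n19414 = n40953 := d21_4 (iv5 D9333) (iv1 F6122) D9108 D19414 (iv6 D40953) (iv5 D19292) (iv1 D9067) D9068 F14147 F14530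
def n40954 : Q := act 0 n19293
theorem D40954 : act 0 n19293 = n40954 := rfl
def n40955 : Q := act 1 n19293
theorem D40955 : act 1 n19293 = n40955 := rfl
def n40956 : Q := act 5 n19293
theorem D40956 : act 5 n19293 = n40956 := rfl
def n40957 : Q := act 2 n19294
theorem D40957 : act 2 n19294 = n40957 := rfl
theorem F62042 : act 7 n19295 = n40957 := d15_2 (iv0 D19294) D19295 (iv2 D40957)
theorem F62043 : act 5 n40957 = n40799 := d13_1 F62042 (iv7 D40799) F30949
def n40958 : Q := act 3 n19294
theorem D40958 : act 3 n19294 = n40958 := rfl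
def n40959 : Q := act 4 n19294
theorem D40959 : act 4 n19294 = n40959 := rfl
def n40960 : Q := act 5 n19294
theorem D40960 : act 5 n19294 = n40960 := rfl
theorem F62044 : act 2 n40960 = n40799 := d2_1 D40960 (iv5 F62043) (iv2 D40957)
theorem F62045 : act 6 n40960 = n40410 := d12_2 (iv6 F30965) D40960 F61492 (iv6 D19324) D19323
theorem F62046 : act 7 n40778 = n40960 := d4_0 F62044 (iv7 D40799) (iv2 F61879)
theorem F62047 : act 1 n40960 = n40797 := d15_0 (iv0 D40797) D40799 (iv2 F62044)
theorem E6149 : n40812 = n40410 := ((c14_2 F62046 F62045 (iv7 D40812) (iv6 D19242) F30891 D40778)).symm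
theorem F62048 : act 7 n40410 = n19242 := (sb E6149 (iv7 D40812))
theorem F62049 : act 1 n40798 = n40960 := d15_1 D40798 (iv7 F62046) F61879
theorem F62050 : act 7 n19387 = n19324 := d13_2 F62048 (iv5 F31013) (iv5 F61492)
theorem E6150 : n40800 = n40411 := (c15_4 F61493 F61497 F62048 (iv2 F61895))
theorem F62051 : act 2 n40411 = n19242 := (sb E6150 F61895)
theorem F62052 : act 6 n40411 = n19238 := (sb E6150 (iv6 D40800))
theorem F62053 : act 0 n23417 = n40796 := d21_7 (iv5 D19089) (iv1 F30596) F30593 (iv6 F17837) (iv1 F17839) D10986 D23417 F61891 (iv6 F62052) (iv1 D40411)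
theorem E6151 : n40777 = n40339 := ((c15_2 (iv0 F62053) (iv0 F61408) F61878 (iv2 F61890))).symm
theorem E6152 : n19233 = n19067 := ((((iv5 D40339)).symm.trans (sb E6151 (iv5 D40777)))).symm
theorem F62055 : act 7 n40339 = n19241 := (sb E6151 F61878)
theorem E6153 : n40773 = n9043 := ((((iv1 F30617)).symm.trans (sb E6152 D40773))).symm
theorem E6156 : n40775 = n40337 := (((D40337).symm.trans (sb E6152 D40775))).symm
theorem E6157 : n40776 = n40338 := (((D40338).symm.trans (sb E6152 D40776))).symm
theorem E6158 : n40778 = n40340 := (((D40340).symm.trans (sb E6152 D40778))).symm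
theorem E6159 : n40341 = n9041 := ((D40341).symm.trans (sb E6152 (iv7 F30891)))
theorem E6160 : n19238 = n19068 := ((((iv1 F30610)).symm.trans (sb E6153 (iv1 F61872)))).symm
theorem F62057 : act 7 n40337 = n19239 := (sb E6156 F61874)
theorem F62059 : act 7 n40338 = n19240 := (sb E6157 F61876)
theorem F62060 : act 2 n40340 = n19237 := (sb E6158 F61879)
theorem F62061 : act 7 n40340 = n40960 := (sb E6158 F62046)
theorem F62062 : act 7 n9041 = n19067 := (sb E6159 (iv7 D40341))
theorem E6163 : n40796 = n40344 := (((D40344).symm.trans (sb E6160 (iv5 F61891)))).symm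
theorem E6164 : n40411 = n40345 := (((D40345).symm.trans (sb E6160 (iv6 F62052)))).symm
theorem F62068 : act 1 n40344 = n23417 := (sb E6163 (iv0 F62053))
theorem F62071 : act 0 n40345 = n19089 := (sb E6164 (iv1 D40411))
theorem F62072 : act 1 n40345 = n19094 := (sb E6164 F61493)
theorem F62073 : act 2 n40345 = n19242 := (sb E6164 F62051)
theorem F62074 : act 2 n19387 = n19393 := d2_3 (iv5 F61412) F62073 (iv5 F31013)
theorem E6165 : n19392 = n19324 := (c15_2 F31022 F31025 (iv7 F62050) F62074)
theorem F62075 : act 0 n19324 = n19262 := (sb E6165 (iv1 F31025))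
theorem F62076 : act 1 n19324 = n9098 := (sb E6165 (iv0 D19392))
theorem F62077 : act 7 n19388 = n19393 := d15_2 (iv0 D19387) D19388 (iv2 F62074)
theorem F62078 : act 2 n19324 = n19388 := d4_3 F62077 (iv2 F62074) F62050
theorem F62079 : act 6 n19388 = n19320 := d3_2 D19324 F62078 F30964
theorem F62080 : act 7 n19319 = n23415 := d14_4 (iv7 F62077) F62079 (iv7 D19320) D19319 (iv6 F61452)
theorem E6166 : n40816 = n40347 := (c13_3 F62080 F61451 D40816 (iv5 F61415))
theorem F62081 : act 2 n40347 = n19244 := (sb E6166 F61900)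
theorem F62085 : act 2 n23328 = n19319 := d2_3 F61415 F62081 (iv5 F36448)
theorem E6168 : n19315 = n10961 := (c3_4 D23328 F62085 (iv6 D19319) D19315)
theorem E6169 : n23324 = n9076 := ((D23324).symm.trans (sb E6168 (iv2 D19315)))
theorem E6170 : n23329 = n9077 := ((D23329).symm.trans (sb E6168 (iv7 F30963)))
theorem E6171 : n19320 = n10962 := ((D19320).symm.trans (sb E6169 (iv7 F36447)))
theorem F62087 : act 7 n9077 = n10961 := (sb E6170 (iv7 D23329))
theorem F62088 : act 2 n10962 = n9077 := (sb E6171 F30964)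
theorem E6172 : n23333 = n19388 := ((D23333).symm.trans (sb E6171 (iv6 F62079)))
theorem F62089 : act 7 n10962 = n9076 := (sb E6171 (iv7 D19320))
theorem F62090 : act 6 n19388 = n10962 := (sb E6172 (iv6 D23333))
theorem F62092 : act 7 n19317 = n23331 := d11_2 F62089 D19317 (iv4 D23331)
theorem F62093 : act 7 n19318 = n23332 := d13_2 F62089 D19318 (iv5 D23332)
theorem F62094 : act 2 n19322 = n23331 := d1_3 (iv4 D23331) F62088 D19322
theorem F62095 : act 2 n19323 = n23332 := d2_3 (iv5 D23332) F62088 D19323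
theorem E6173 : n40957 = n23359 := ((c3_3 F30965 F62095 (iv6 F36482) (iv2 D40957))).symm
theorem F62096 : act 2 n23359 = n19294 := (sb E6173 (iv2 D40957))
theorem E6174 : n40799 = n40426 := ((((iv5 F61506)).symm.trans (sb E6173 F62043))).symm
theorem F62097 : act 7 n23359 = n19295 := (sb E6173 (iv7 F62042))
theorem F62098 : act 2 n40426 = n40960 := (sb E6174 (iv2 F62044))
theorem F62099 : act 7 n40426 = n19237 := (sb E6174 (iv7 D40799))
theorem E6175 : n40427 = n40340 := (c15_2 (iv0 D40426) D40427 F62061 (iv2 F62098))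
theorem F62100 : act 0 n40340 = n19095 := (sb E6175 (iv1 D40427))
theorem F62101 : act 2 n19295 = n23360 := d15_3 F36483 F36488 F62097
theorem F62102 : act 7 n19294 = n23360 := d4_2 (iv7 F62097) F62096 (iv2 F62101)
theorem F62104 : act 7 n23326 = n19322 := d11_2 F62087 D23326 (iv4 D19322)
theorem F62105 : act 7 n23327 = n19323 := d13_2 F62087 D23327 (iv5 D19323)
theorem F62106 : act 2 n19318 = n23327 := d4_3 F62105 F62095 (iv7 F62093)
theorem F62107 : act 2 n19317 = n23326 := d4_3 F62104 F62094 (iv7 F62092)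
theorem E6176 : n40415 = n40367 := (c21_5 (iv5 F61412) F62071 (iv5 D19089) D19090 D40415 (iv6 D40367) (iv5 F30947) F31067 D19408 F31037 (iv1 F31022))
theorem F62108 : act 1 n40367 = n19090 := (sb E6176 (iv0 D40415))
def n40964 : Q := act 0 n19296
theorem D40964 : act 0 n19296 = n40964 := rfl
def n40965 : Q := act 1 n19296
theorem D40965 : act 1 n19296 = n40965 := rfl
def n40966 : Q := act 3 n19296
theorem D40966 : act 3 n19296 = n40966 := rfl
theorem F62111 : act 6 n40966 = n40304 := d7_2 (iv6 F30950) D40966 (iv3 D40304)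
def n40967 : Q := act 5 n19296
theorem D40967 : act 5 n19296 = n40967 := rfl
def n40968 : Q := act 7 n19296
theorem D40968 : act 7 n19296 = n40968 := rfl
theorem F62112 : act 4 n40968 = n19297 := d11_1 D40968 (iv7 D19297) D19296
def n40969 : Q := act 6 n19297
theorem D40969 : act 6 n19297 = n40969 := rfl
theorem F62113 : act 7 n40969 = n19841 := d14_2 D19297 D40969 (iv6 D19841) F14538 (iv6 F14147)
def n40970 : Q := act 0 n19298
theorem D40970 : act 0 n19298 = n40970 := rfl
def n40971 : Q := act 1 n19298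
theorem D40971 : act 1 n19298 = n40971 := rfl
theorem F62114 : act 1 n40971 = n19305 := d15_1 D40971 (iv7 D19305) (iv2 F30952)
def n40972 : Q := act 5 n19298
theorem D40972 : act 5 n19298 = n40972 := rfl
theorem F62115 : act 2 n40972 = n19304 := d2_1 D40972 (iv5 D19304) (iv2 F30952)
theorem F62116 : act 3 n40972 = n38855 := d6_1 D40972 F59873 F32421
theorem F62117 : act 6 n40972 = n19857 := d12_2 D19298 D40972 (iv5 D19857) (iv6 F14554) (iv5 F14148)
def n40973 : Q := act 7 n19298
theorem D40973 : act 7 n19298 = n40973 := rfl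
theorem F62118 : act 2 n40973 = n19305 := d4_1 D40973 (iv7 D19305) (iv2 F30952)
theorem F62119 : act 1 n19305 = n40970 := d15_0 (iv0 D40970) D40973 F62118
theorem F62120 : act 1 n19303 = n40973 := d15_1 D19303 (iv7 D40973) F30952
theorem F62121 : act 1 n40973 = n19302 := d15_0 (iv0 D19302) D19305 (iv2 F62118)
def n40974 : Q := act 0 n19299
theorem D40974 : act 0 n19299 = n40974 := rfl
def n40975 : Q := act 1 n19299
theorem D40975 : act 1 n19299 = n40975 := rfl
def n40976 : Q := act 2 n19299
theorem D40976 : act 2 n19299 = n40976 := rfl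
theorem F62122 : act 3 n40976 = n21211 := d0_2 D19299 D40976 (iv2 F33679) (iv3 D21439) (iv2 F16166)
theorem F62123 : act 4 n40976 = n19307 := d1_2 (iv4 F30953) D40976 (iv2 D19307)
def n40977 : Q := act 5 n19299
theorem D40977 : act 5 n19299 = n40977 := rfl
theorem F62124 : act 3 n40977 = n19300 := d6_1 D40977 (iv5 D19300) D19299
def n40978 : Q := act 6 n19299
theorem D40978 : act 6 n19299 = n40978 := rfl
theorem F62125 : act 3 n40978 = n19301 := d7_1 D40978 (iv6 D19301) D19299
theorem F62126 : act 4 n40978 = n19309 := d10_1 D40978 (iv6 D19309) (iv4 F30953)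
def n40979 : Q := act 6 n19300
theorem D40979 : act 6 n19300 = n40979 := rfl
def n40980 : Q := act 0 n19301
theorem D40980 : act 0 n19301 = n40980 := rfl
def n40981 : Q := act 1 n19301
theorem D40981 : act 1 n19301 = n40981 := rfl
def n40982 : Q := act 5 n19301
theorem D40982 : act 5 n19301 = n40982 := rfl
def n40983 : Q := act 7 n19301
theorem D40983 : act 7 n19301 = n40983 := rfl
theorem F62127 : act 4 n40983 = n19305 := d11_1 D40983 (iv7 D19305) (iv4 F30956)
def n40984 : Q := act 2 n19302
theorem D40984 : act 2 n19302 = n40984 := rfl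
theorem F62128 : act 7 n19303 = n40984 := d15_2 (iv0 D19302) D19303 (iv2 D40984)
def n40985 : Q := act 3 n19302
theorem D40985 : act 3 n19302 = n40985 := rfl
def n40986 : Q := act 4 n19302
theorem D40986 : act 4 n19302 = n40986 := rfl
def n40987 : Q := act 5 n19302
theorem D40987 : act 5 n19302 = n40987 := rfl
def n40988 : Q := act 6 n19302
theorem D40988 : act 6 n19302 = n40988 := rfl
def n40989 : Q := act 7 n19302
theorem D40989 : act 7 n19302 = n40989 := rfl
def n40990 : Q := act 3 n19303
theorem D40990 : act 3 n19303 = n40990 := rfl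
def n40991 : Q := act 4 n19303
theorem D40991 : act 4 n19303 = n40991 := rfl
def n40992 : Q := act 5 n19303
theorem D40992 : act 5 n19303 = n40992 := rfl
def n40993 : Q := act 6 n19303
theorem D40993 : act 6 n19303 = n40993 := rfl
def n40994 : Q := act 0 n19304
theorem D40994 : act 0 n19304 = n40994 := rfl
def n40995 : Q := act 1 n19304
theorem D40995 : act 1 n19304 = n40995 := rfl
def n40996 : Q := act 4 n19304
theorem D40996 : act 4 n19304 = n40996 := rfl
theorem F62130 : act 6 n40996 = n40306 := d10_2 (iv6 F30958) D40996 (iv4 D40306)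
def n40997 : Q := act 7 n19304
theorem D40997 : act 7 n19304 = n40997 := rfl
theorem F62131 : act 3 n40997 = n19328 := d8_1 D40997 (iv7 D19328) (iv3 F30957)
theorem F62132 : act 5 n40997 = n19305 := d13_1 D40997 (iv7 D19305) D19304
def n40998 : Q := act 5 n19306
theorem D40998 : act 5 n19306 = n40998 := rfl
def n40999 : Q := act 6 n19306
theorem D40999 : act 6 n19306 = n40999 := rfl
def n41000 : Q := act 6 n19307
theorem D41000 : act 6 n19307 = n41000 := rfl
theorem F62133 : act 2 n41000 = n19309 := d3_1 D41000 (iv6 D19309) D19307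
def n41001 : Q := act 0 n19308
theorem D41001 : act 0 n19308 = n41001 := rfl
theorem F62134 : act 5 n41001 = n21985 := d19_1 D41001 F34487 F34079 F34103 (iv5 F51820) (iv4 D32735) (iv3 F43264) (iv1 F52403) (iv5 D33177) (iv4 F27640) (iv3 D16878) (iv1 D7866) (iv5 F5922) (iv4 F13855) (iv3 D8887) D8885 D18956 F30264 (iv3 F30960)
theorem F62135 : act 2 n21986 = n41001 := d15_3 (iv0 D41001) (iv0 F34959) F34958
theorem F62136 : act 7 n41001 = n40744 := d4_2 F34958 F62135 F61852
def n41002 : Q := act 6 n19308
theorem D41002 : act 6 n19308 = n41002 := rfl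
theorem F62137 : act 3 n41002 = n19310 := d7_1 D41002 (iv6 D19310) (iv3 F30960)
def n41003 : Q := act 0 n19309
theorem D41003 : act 0 n19309 = n41003 := rfl
def n41004 : Q := act 1 n19309
theorem D41004 : act 1 n19309 = n41004 := rfl
def n41005 : Q := act 5 n19309
theorem D41005 : act 5 n19309 = n41005 := rfl
theorem F62138 : act 3 n41005 = n19313 := d6_1 D41005 (iv5 D19313) (iv3 F30961)
def n41006 : Q := act 7 n19309
theorem D41006 : act 7 n19309 = n41006 := rfl
theorem F62139 : act 3 n41006 = n19314 := d8_1 D41006 (iv7 D19314) (iv3 F30961)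
def n41007 : Q := act 0 n19310
theorem D41007 : act 0 n19310 = n41007 := rfl
def n41008 : Q := act 1 n19310
theorem D41008 : act 1 n19310 = n41008 := rfl
def n41009 : Q := act 5 n19310
theorem D41009 : act 5 n19310 = n41009 := rfl
theorem F62140 : act 6 n41009 = n19313 := d12_2 D19310 D41009 (iv5 D19313) (iv6 D9075) D9074
def n41010 : Q := act 7 n19310
theorem D41010 : act 7 n19310 = n41010 := rfl
def n41011 : Q := act 2 n19311
theorem D41011 : act 2 n19311 = n41011 := rfl
theorem F62141 : act 7 n19312 = n41011 := d15_2 (iv0 D19311) D19312 (iv2 D41011)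
def n41012 : Q := act 3 n19311
theorem D41012 : act 3 n19311 = n41012 := rfl
def n41013 : Q := act 4 n19311
theorem D41013 : act 4 n19311 = n41013 := rfl
def n41014 : Q := act 5 n19311
theorem D41014 : act 5 n19311 = n41014 := rfl
def n41015 : Q := act 6 n19311
theorem D41015 : act 6 n19311 = n41015 := rfl
def n41016 : Q := act 7 n19311
theorem D41016 : act 7 n19311 = n41016 := rfl
theorem F62142 : act 2 n41016 = n19312 := d4_1 D41016 F62141 (iv2 D41011)
def n41017 : Q := act 3 n19312
theorem D41017 : act 3 n19312 = n41017 := rfl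
def n41018 : Q := act 4 n19312
theorem D41018 : act 4 n19312 = n41018 := rfl
def n41019 : Q := act 5 n19312
theorem D41019 : act 5 n19312 = n41019 := rfl
def n41020 : Q := act 6 n19312
theorem D41020 : act 6 n19312 = n41020 := rfl
def n41021 : Q := act 0 n19313
theorem D41021 : act 0 n19313 = n41021 := rfl
def n41022 : Q := act 1 n19313
theorem D41022 : act 1 n19313 = n41022 := rfl
theorem F62143 : act 5 n40624 = n41022 := d21_6 (iv5 F30825) (iv1 D19181) (iv5 D9014) D9015 D19183 D40624 (iv1 D41022) (iv5 D19313) (iv6 D9075) (iv1 F14144)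
def n41023 : Q := act 4 n19313
theorem D41023 : act 4 n19313 = n41023 := rfl
def n41024 : Q := act 7 n19313
theorem D41024 : act 7 n19313 = n41024 := rfl
theorem F62144 : act 5 n41024 = n19314 := d13_1 D41024 (iv7 D19314) D19313
def n41031 : Q := act 0 n19317
theorem D41031 : act 0 n19317 = n41031 := rfl
theorem F62147 : act 1 n19322 = n41031 := d15_0 (iv0 D41031) F62092 (iv2 F62094)
def n41032 : Q := act 1 n19317
theorem D41032 : act 1 n19317 = n41032 := rfl
theorem F62148 : act 1 n41032 = n19322 := d15_1 D41032 (iv7 F62104) (iv2 F62107)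
def n41036 : Q := act 0 n19318
theorem D41036 : act 0 n19318 = n41036 := rfl
theorem F62150 : act 1 n19323 = n41036 := d15_0 (iv0 D41036) F62093 (iv2 F62095)
def n41037 : Q := act 1 n19318
theorem D41037 : act 1 n19318 = n41037 := rfl
theorem F62151 : act 1 n41037 = n19323 := d15_1 D41037 (iv7 F62105) (iv2 F62106)
def n41040 : Q := act 0 n19319
theorem D41040 : act 0 n19319 = n41040 := rfl
def n41041 : Q := act 1 n19319
theorem D41041 : act 1 n19319 = n41041 := rfl
def n41046 : Q := act 5 n19321
theorem D41046 : act 5 n19321 = n41046 := rfl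
theorem F62153 : act 3 n41046 = n19323 := d6_1 D41046 (iv5 D19323) D19321
theorem F62154 : act 6 n40958 = n41046 := d7_0 F62153 (iv6 F30965) D40958
def n41047 : Q := act 6 n19321
theorem D41047 : act 6 n19321 = n41047 := rfl
theorem F62155 : act 3 n41047 = n19324 := d7_1 D41047 (iv6 D19324) D19321
def n41048 : Q := act 3 n19322
theorem D41048 : act 3 n19322 = n41048 := rfl
def n41049 : Q := act 5 n19322
theorem D41049 : act 5 n19322 = n41049 := rfl
def n41050 : Q := act 6 n19322
theorem D41050 : act 6 n19322 = n41050 := rfl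
theorem F62156 : act 4 n41050 = n19324 := d10_1 D41050 (iv6 D19324) D19322
theorem F62157 : act 1 n22826 = n41050 := d18_6 (iv1 D9058) (iv4 F14132) F17307 (iv4 D10785) D10786 D22826 F62156 F62076 F14162
theorem E6177 : n22851 = n10795 := (c20_6 (iv4 F62156) (iv1 F62157) (iv4 D22826) F17308 D10795 D22851 D22852 F35424 F34828 F31004 (iv1 F62076))
theorem F62158 : act 3 n10795 = n10795 := (sb E6177 (iv3 D22851))
theorem E6178 : n22190 = n10568 := (((F17317).symm.trans (sb E6177 F35421))).symm
theorem E6179 : n22568 = n10705 := (((F35011).symm.trans (sb E6177 F35422))).symm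
theorem F62159 : act 3 n10568 = n10568 := (sb E6178 F34635)
theorem E6180 : n10565 = n4833 := ((((iv6 D10568)).symm.trans (sb E6178 (iv6 D22190)))).symm
theorem F62160 : act 3 n10705 = n10705 := (sb E6179 F35109)
theorem E6181 : n10702 = n4896 := ((((iv6 D10705)).symm.trans (sb E6179 (iv6 D22568)))).symm
theorem F62161 : act 3 n4833 = n4833 := (sb E6180 (iv3 D10565))
theorem E6187 : n19561 = n9205 := ((((iv7 F35484)).symm.trans (sb E6180 (iv7 F35485)))).symm
theorem F62162 : act 3 n4896 = n4896 := (sb E6181 (iv3 D10702))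
theorem E6192 : n22567 = n10704 := (((D10704).symm.trans (sb E6181 D22567))).symm
theorem E6193 : n22268 = n10613 := (((F35452).symm.trans (sb E6181 (iv7 F35444)))).symm
theorem F62164 : act 3 n9205 = n9205 := (sb E6187 (iv3 D19561))
theorem E6194 : n22463 = n10674 := ((((iv6 F17236)).symm.trans (sb E6192 (iv6 F35108)))).symm
theorem F62166 : act 3 n10613 = n10613 := (sb E6193 (iv3 D22268))
theorem F62167 : act 3 n10674 = n10674 := (sb E6194 (iv3 D22463))
theorem E6195 : n41047 = n19324 := (c20_6 D22852 F35424 F34828 F31004 (iv1 F62076) (iv3 F62155) (iv4 F62156) (iv1 F62157) (iv4 D22826) F17308 D10795)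
theorem F62168 : act 3 n19324 = n19324 := (sb E6195 F62155)
theorem E6196 : n19321 = n9077 := ((((iv6 D19324)).symm.trans (sb E6195 (iv6 D41047)))).symm
theorem F62169 : act 3 n9077 = n9077 := (sb E6196 (iv3 D19321))
theorem E6201 : n41046 = n19323 := (((D19323).symm.trans (sb E6196 D41046))).symm
theorem E6203 : n40958 = n19294 := ((((iv6 F30965)).symm.trans (sb E6201 (iv6 F62154)))).symm
theorem F62172 : act 3 n19294 = n19294 := (sb E6203 (iv3 D40958))
theorem F62174 : act 3 n23360 = n23360 := d8_3 (iv7 F62102) F62172 F62102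
theorem F62176 : act 3 n40340 = n40340 := d6_3 F61409 F62174 (iv5 F61409)
theorem E6204 : n40337 = n19067 := (c7_4 D40340 F62176 (iv6 D40340) D40337)
theorem E6205 : n19239 = n9041 := ((((iv7 F62062)).symm.trans (sb E6204 F62057))).symm
theorem F62179 : act 3 n9041 = n9041 := (sb E6205 (iv3 D19239))
theorem E6211 : n40806 = n19242 := (((D19242).symm.trans (sb E6205 D40806))).symm
theorem F62181 : act 3 n19242 = n19242 := (sb E6211 F61897)
theorem F62182 : act 3 n19387 = n19387 := d6_3 F31013 F62181 (iv5 F31013)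
theorem F62183 : act 3 n40410 = n40410 := d8_3 F62048 F62181 (iv7 F62048)
theorem F62204 : act 4 n40807 = n40807 := d5_4 (iv4 D19240) F62179 D19240 D40807 (iv3 D40807)
theorem F62205 : act 4 n41048 = n41048 := d5_4 (iv4 D19322) F62169 D19322 D41048 (iv3 D41048)
theorem F62206 : act 3 n22465 = n22465 := d6_3 (iv5 D22465) F62167 D22465
theorem F62218 : act 3 n19673 = n19673 := d7_3 (iv6 F35006) F62206 F35006
theorem F62221 : act 3 n22204 = n22204 := d7_3 (iv6 F34640) F62166 F34640
theorem F62224 : act 3 n22853 = n22853 := d8_3 (iv7 F35450) F62221 F35450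
theorem F62225 : act 3 n19570 = n19570 := d6_3 (iv5 F35427) F62224 F35427
theorem F62235 : act 4 n22569 = n22569 := d5_4 (iv4 D10703) F62162 D10703 D22569 (iv3 D22569)
theorem F62236 : act 4 n22191 = n22191 := d5_4 (iv4 D10566) F62161 D10566 D22191 (iv3 D22191)
theorem F62237 : act 4 n22073 = n38002 := d20_8 F58732 F35329 (iv4 D10566) F62161 (iv1 D4833) (iv3 F6961) (iv4 F16713) D22073 (iv3 D38002) (iv1 F58735)
theorem E6218 : n40702 = n22145 := ((c20_3 (iv4 F6970) D10555 D22145 (iv3 D40702) (iv1 F61778) F61774 F58732 F35329 (iv4 D10566) F62161 (iv1 D4833))).symm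
theorem F62238 : act 3 n22145 = n19208 := (sb E6218 (iv3 D40702))
theorem F62239 : act 0 n19547 = n40766 := d20_10 (iv4 D40766) (iv1 D19230) F14117 (iv3 F14108) D19208 (iv3 F62238) (iv4 D22145) (iv1 F31317) F31313 (iv3 F31286)
theorem F62240 : act 1 n19541 = n40766 := d15_0 (iv0 F62239) (iv7 D19547) (iv2 F31275)
def n41051 : Q := act 4 n19323
theorem D41051 : act 4 n19323 = n41051 := rfl
theorem F62241 : act 6 n41051 = n40959 := d10_2 F30965 D41051 (iv4 D40959)
def n41052 : Q := act 2 n19325
theorem D41052 : act 2 n19325 = n41052 := rfl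
theorem F62242 : act 7 n19326 = n41052 := d15_2 (iv0 D19325) D19326 (iv2 D41052)
theorem F62243 : act 5 n41052 = n40657 := d13_1 F62242 (iv7 D40657) F30966
def n41055 : Q := act 5 n19325
theorem D41055 : act 5 n19325 = n41055 := rfl
theorem F62244 : act 2 n41055 = n40657 := d2_1 D41055 (iv5 F62243) (iv2 D41052)
theorem F62245 : act 6 n41055 = n40416 := d21_3 D9078 D19325 D41055 (iv1 D40416) (iv6 D19090) D19089 D40410 F61492 (iv6 D19324) (iv1 D9077)
theorem F62246 : act 7 n40639 = n41055 := d4_0 F62244 (iv7 D40657) (iv2 F61742)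
theorem F62247 : act 1 n41055 = n40656 := d15_0 (iv0 D40656) D40657 (iv2 F62244)
theorem E6219 : n40671 = n40416 := ((c14_2 F62246 F62245 (iv7 D40671) (iv6 D19196) F30827 D40639)).symm
theorem F62248 : act 7 n40416 = n19196 := (sb E6219 (iv7 D40671))
theorem F62249 : act 1 n40413 = n41055 := d15_1 (iv0 F61494) (iv7 F62246) F61742
theorem F62250 : act 5 n23395 = n40416 := d21_2 D10985 (iv1 F36521) (iv6 F62245) (iv1 F62249) (iv6 D40413) (iv5 D19089) (iv1 F30596) F30593 (iv6 F17837) (iv1 F17839)
theorem F62251 : act 7 n40670 = n23395 := d13_0 F62250 F62248 D40670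
theorem F62252 : act 2 n40670 = n23394 := d15_3 (iv0 D23394) D23395 (iv7 F62251)
theorem E6220 : n40658 = n40367 := ((c2_3 D40670 F62252 (iv5 F61450) F61756)).symm
theorem E6221 : n19192 = n19076 := ((((iv6 D40367)).symm.trans (sb E6220 (iv6 D40658)))).symm
theorem E6222 : n40635 = n8937 := ((((iv1 D19076)).symm.trans (sb E6221 (iv1 F61736)))).symm
theorem E6224 : n40364 = n9017 := (((iv2 F61449)).symm.trans (sb E6221 F30828))
theorem E6225 : n40646 = n40365 := (((D40365).symm.trans (sb E6221 (iv3 F61745)))).symm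
theorem E6226 : n40652 = n40366 := (((D40366).symm.trans (sb E6221 (iv4 F61749)))).symm
theorem E6227 : n40655 = n19288 := ((((iv5 F30947)).symm.trans (sb E6221 (iv5 F61753)))).symm
theorem E6228 : n40360 = n9016 := ((F61447).symm.trans (sb E6221 (iv7 D19192)))
theorem E6229 : n19187 = n19075 := (((D19075).symm.trans (sb E6222 (iv1 D40635)))).symm
theorem E6230 : n40925 = n19195 := (((D19195).symm.trans (sb E6224 F62018))).symm
theorem F62255 : act 7 n40365 = n19188 := (sb E6225 (iv7 D40646))
theorem F62257 : act 7 n40366 = n19189 := (sb E6226 (iv7 D40652))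
theorem E6231 : n23350 = n9066 := ((((iv6 D19288)).symm.trans (sb E6227 (iv6 F61754)))).symm
theorem E6232 : n40942 = n19190 := ((D40942).symm.trans (sb E6227 (iv7 D40655)))
theorem F62258 : act 7 n9016 = n19076 := (sb E6228 (iv7 F61447))
theorem E6234 : n40637 = n40362 := (((D40362).symm.trans (sb E6229 D40637))).symm
theorem E6235 : n40638 = n19406 := ((((iv5 F31035)).symm.trans (sb E6229 D40638))).symm
theorem E6236 : n40639 = n40363 := (((D40363).symm.trans (sb E6229 D40639))).symm
theorem E6237 : n19284 = n10969 := ((((iv6 F30829)).symm.trans (sb E6230 (iv6 D40925)))).symm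
theorem E6238 : n19289 = n10970 := ((D19289).symm.trans (sb E6231 (iv7 F36480)))
theorem F62262 : act 7 n19190 = n19288 := (sb E6232 (iv7 D40942))
theorem F62264 : act 2 n40362 = n19189 := (sb E6234 F61738)
theorem F62266 : act 2 n19406 = n19190 := (sb E6235 F61740)
theorem F62267 : act 7 n19406 = n19195 := (sb E6235 F61741)
theorem F62268 : act 2 n40363 = n19191 := (sb E6236 F61742)
theorem F62269 : act 7 n40363 = n41055 := (sb E6236 F62246)
theorem F62270 : act 2 n10969 = n9066 := (sb E6237 (iv2 D19284))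
theorem E6242 : n40923 = n23352 := (((D23352).symm.trans (sb E6237 D40923))).symm
theorem E6243 : n40924 = n23353 := (((D23353).symm.trans (sb E6237 D40924))).symm
theorem E6244 : n23354 = n9067 := ((D23354).symm.trans (sb E6237 (iv7 F30946)))
theorem E6246 : n40938 = n23356 := (((D23356).symm.trans (sb E6238 (iv4 F62030)))).symm
theorem E6247 : n40941 = n23357 := (((D23357).symm.trans (sb E6238 (iv5 F62034)))).symm
theorem E6248 : n23399 = n23358 := (((D23358).symm.trans (sb E6238 (iv6 F62022)))).symm
theorem F62271 : act 7 n10970 = n9066 := (sb E6238 (iv7 D19289))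
theorem F62273 : act 2 n23352 = n19286 := (sb E6242 F62013)
theorem F62274 : act 7 n23352 = n19291 := (sb E6242 F62014)
theorem F62275 : act 2 n23353 = n19287 := (sb E6243 F62015)
theorem F62276 : act 7 n23353 = n19292 := (sb E6243 F62016)
theorem F62277 : act 2 n9067 = n10970 := (sb E6244 F36481)
theorem F62278 : act 7 n9067 = n10969 := (sb E6244 (iv7 D23354))
theorem F62281 : act 7 n23356 = n19286 := (sb E6246 (iv7 D40938))
theorem F62282 : act 2 n23357 = n19292 := (sb E6247 F62033)
theorem F62283 : act 7 n23357 = n19287 := (sb E6247 (iv7 D40941))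
theorem F62284 : act 1 n23358 = n10981 := (sb E6248 (iv0 D23399))
theorem F62285 : act 2 n23358 = n19293 := (sb E6248 (iv2 F62021))
theorem F62286 : act 2 n23400 = n40654 := d4_3 F61755 F62285 F62020
theorem E6249 : n40955 = n23367 := (c15_1 D40955 (iv0 F61751) F61755 F62285)
theorem F62287 : act 0 n23367 = n19293 := (sb E6249 (iv1 D40955))
theorem F62288 : act 1 n40654 = n40954 := d15_0 (iv0 D40954) F62020 F62286
theorem F62289 : act 2 n40937 = n40668 := d3_3 F61761 F62273 D40937
theorem F62290 : act 7 n19325 = n23335 := d13_2 F62269 (iv5 D41055) (iv5 F61448)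
theorem E6250 : n41052 = n23334 := (c15_4 (iv0 D23334) D23335 (iv7 F62290) D41052)
theorem F62293 : act 5 n23334 = n40657 := (sb E6250 F62243)
theorem F62295 : act 7 n40931 = n40644 := d8_2 F62262 (iv3 F62024) F61743
theorem F62296 : act 7 n40937 = n40653 := d11_2 F62262 (iv4 F62028) (iv4 D40653)
def n41056 : Q := act 6 n19325
theorem D41056 : act 6 n19325 = n41056 := rfl
def n41057 : Q := act 3 n19326
theorem D41057 : act 3 n19326 = n41057 := rfl
def n41058 : Q := act 4 n19326
theorem D41058 : act 4 n19326 = n41058 := rfl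
def n41059 : Q := act 6 n19326
theorem D41059 : act 6 n19326 = n41059 := rfl
theorem F62298 : act 5 n41059 = n40654 := d12_1 D41059 (iv6 D40654) (iv5 D19190) D19191 F30966
theorem F62299 : act 5 n19732 = n40954 := d21_0 (iv1 F62288) (iv5 F62298) (iv6 D41059) (iv1 D19326) F14155 (iv5 D8930) F7024 D4221 (iv6 F14455) D19732
def n41060 : Q := act 0 n19327
theorem D41060 : act 0 n19327 = n41060 := rfl
def n41061 : Q := act 1 n19327
theorem D41061 : act 1 n19327 = n41061 := rfl
def n41062 : Q := act 3 n19327
theorem D41062 : act 3 n19327 = n41062 := rfl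
theorem F62300 : act 6 n41062 = n40313 := d7_2 (iv6 F30967) D41062 (iv3 D40313)
def n41063 : Q := act 5 n19327
theorem D41063 : act 5 n19327 = n41063 := rfl
def n41064 : Q := act 7 n19327
theorem D41064 : act 7 n19327 = n41064 := rfl
theorem F62301 : act 4 n41064 = n19328 := d11_1 D41064 (iv7 D19328) D19327
def n41065 : Q := act 6 n19328
theorem D41065 : act 6 n19328 = n41065 := rfl
theorem F62302 : act 7 n41065 = n19414 := d14_2 D19328 D41065 (iv6 D19414) F14171 (iv6 F14155)
def n41066 : Q := act 4 n19329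
theorem D41066 : act 4 n19329 = n41066 := rfl
def n41067 : Q := act 6 n19329
theorem D41067 : act 6 n19329 = n41067 := rfl
def n41068 : Q := act 3 n19330
theorem D41068 : act 3 n19330 = n41068 := rfl
def n41069 : Q := act 4 n19330
theorem D41069 : act 4 n19330 = n41069 := rfl
theorem F62303 : act 1 n41069 = n32620 := d18_8 D32618 (iv4 F55338) (iv1 F55340) (iv4 F51583) (iv5 F40414) (iv4 D19332) D19330 D41069 (iv5 D32620)
theorem F62304 : act 3 n41069 = n20450 := d20_3 (iv4 F35230) (iv1 F35234) D41069 (iv1 F32500) (iv3 D9711) (iv4 D4385) (iv1 F3131) D4276 D9427 D19982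
theorem F62305 : act 5 n37480 = n19330 := d19_1 D37480 D41069 F62304 (iv1 F32500) (iv5 F31861) F31860 F31749 (iv1 F15224) F15226 (iv4 F7295) F7294 (iv1 F3246) (iv5 D1917) (iv4 F2836) (iv3 F4195) (iv1 F4201) D3798 D8488 D17995
def n41070 : Q := act 6 n19330
theorem D41070 : act 6 n19330 = n41070 := rfl
def n41071 : Q := act 6 n19331
theorem D41071 : act 6 n19331 = n41071 := rfl
theorem F62306 : act 2 n41071 = n19334 := d3_1 D41071 (iv6 D19334) D19331
theorem F62307 : act 3 n41071 = n37569 := d7_1 D41071 (iv6 D37569) (iv3 F30969)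
def n41072 : Q := act 6 n19332
theorem D41072 : act 6 n19332 = n41072 := rfl
theorem F62308 : act 3 n41072 = n19952 := d7_1 D41072 (iv6 D19952) (iv3 F30971)
theorem F62309 : act 4 n41072 = n19334 := d10_1 D41072 (iv6 D19334) D19332
def n41073 : Q := act 0 n19333
theorem D41073 : act 0 n19333 = n41073 := rfl
theorem F62310 : act 3 n41073 = n32756 := d20_5 (iv4 F58248) F58249 F30261 (iv3 F30974) D41073 F51855 F25670 (iv4 F35180) F35178 (iv1 F30802)
theorem F62311 : act 1 n27251 = n41073 := d15_0 (iv0 D41073) (iv7 F35236) (iv2 F44095)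
theorem F62312 : act 5 n41073 = n40368 := d17_7 F31710 D19907 (iv1 F40419) F40421 (iv4 F35230) (iv5 F44096) F62311 (iv0 D40368) (iv4 F31709)
theorem F62313 : act 4 n33415 = n41073 := d5_0 F62310 F51855 F25669 D16137 D33415
theorem F62314 : act 7 n37567 = n41073 := d8_0 F62310 F51854 F58452
theorem F62315 : act 2 n41073 = n37566 := d15_3 (iv0 D37566) D37567 F62314
def n41074 : Q := act 1 n19333
theorem D41074 : act 1 n19333 = n41074 := rfl
theorem F62316 : act 1 n41074 = n27251 := d15_1 D41074 F44097 (iv2 F30973)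
theorem F62317 : act 7 n41074 = n37566 := d15_2 (iv0 D41073) D41074 (iv2 F62315)
theorem F62318 : act 2 n37567 = n41074 := d4_3 F62317 (iv2 F62315) (iv7 F62314)
def n41075 : Q := act 4 n19333
theorem D41075 : act 4 n19333 = n41075 := rfl
theorem F62319 : act 2 n41075 = n37560 := d1_1 D41075 F58445 (iv2 F30973)
def n41076 : Q := act 6 n19333
theorem D41076 : act 6 n19333 = n41076 := rfl
theorem F62320 : act 2 n41076 = n37568 := d3_1 D41076 (iv6 D37568) (iv2 F30973)
theorem F62321 : act 3 n41076 = n19336 := d7_1 D41076 (iv6 D19336) (iv3 F30974)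
def n41077 : Q := act 0 n19334
theorem D41077 : act 0 n19334 = n41077 := rfl
def n41078 : Q := act 1 n19334
theorem D41078 : act 1 n19334 = n41078 := rfl
def n41079 : Q := act 5 n19334
theorem D41079 : act 5 n19334 = n41079 := rfl
theorem F62322 : act 3 n41079 = n19339 := d6_1 D41079 (iv5 D19339) (iv3 F30975)
def n41080 : Q := act 7 n19334
theorem D41080 : act 7 n19334 = n41080 := rfl
theorem F62323 : act 3 n41080 = n19340 := d8_1 D41080 (iv7 D19340) (iv3 F30975)
def n41081 : Q := act 3 n19335
theorem D41081 : act 3 n19335 = n41081 := rfl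
theorem F62324 : act 2 n41081 = n19524 := d0_1 D41081 F31258 F14338 (iv3 F14422) F30978
theorem F62325 : act 5 n41081 = n19523 := d6_2 (iv5 F30976) D41081 F31254
theorem F62326 : act 7 n41081 = n40315 := d8_2 (iv7 F30980) D41081 F61374
def n41082 : Q := act 6 n19335
theorem D41082 : act 6 n19335 = n41082 := rfl
theorem F62327 : act 2 n41082 = n19624 := d3_1 D41082 (iv6 D19624) F30978
theorem F62328 : act 4 n41082 = n35279 := d10_1 D41082 (iv6 D35279) (iv4 F30977)
def n41083 : Q := act 0 n19336
theorem D41083 : act 0 n19336 = n41083 := rfl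
def n41084 : Q := act 1 n19336
theorem D41084 : act 1 n19336 = n41084 := rfl
def n41085 : Q := act 5 n19336
theorem D41085 : act 5 n19336 = n41085 := rfl
theorem F62329 : act 6 n41085 = n19339 := d12_2 D19336 D41085 (iv5 D19339) (iv6 D9082) D9081
def n41086 : Q := act 7 n19336
theorem D41086 : act 7 n19336 = n41086 := rfl
def n41087 : Q := act 2 n19337
theorem D41087 : act 2 n19337 = n41087 := rfl
def n41088 : Q := act 3 n19337
theorem D41088 : act 3 n19337 = n41088 := rfl
def n41089 : Q := act 4 n19337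
theorem D41089 : act 4 n19337 = n41089 := rfl
def n41090 : Q := act 5 n19337
theorem D41090 : act 5 n19337 = n41090 := rfl
def n41097 : Q := act 0 n19339
theorem D41097 : act 0 n19339 = n41097 := rfl
def n41098 : Q := act 1 n19339
theorem D41098 : act 1 n19339 = n41098 := rfl
def n41099 : Q := act 4 n19339
theorem D41099 : act 4 n19339 = n41099 := rfl
def n41100 : Q := act 7 n19339
theorem D41100 : act 7 n19339 = n41100 := rfl
theorem F62332 : act 5 n41100 = n19340 := d13_1 D41100 (iv7 D19340) D19339
def n41101 : Q := act 3 n19341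
theorem D41101 : act 3 n19341 = n41101 := rfl
theorem F62333 : act 5 n41101 = n40088 := d6_2 (iv5 F30981) D41101 (iv3 D40088)
def n41102 : Q := act 6 n19341
theorem D41102 : act 6 n19341 = n41102 := rfl
def n41103 : Q := act 6 n19342
theorem D41103 : act 6 n19342 = n41103 := rfl
def n41104 : Q := act 6 n19343
theorem D41104 : act 6 n19343 = n41104 := rfl
theorem F62334 : act 2 n41104 = n19344 := d3_1 D41104 (iv6 D19344) D19343
theorem F62335 : act 4 n41104 = n39114 := d10_1 D41104 (iv6 D39114) (iv4 F30983)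
def n41105 : Q := act 0 n19344
theorem D41105 : act 0 n19344 = n41105 := rfl
def n41106 : Q := act 1 n19344
theorem D41106 : act 1 n19344 = n41106 := rfl
def n41107 : Q := act 5 n19344
theorem D41107 : act 5 n19344 = n41107 := rfl
theorem F62336 : act 3 n41107 = n19348 := d6_1 D41107 (iv5 D19348) (iv3 F30987)
theorem F62337 : act 6 n41107 = n37544 := d12_2 D19344 D41107 (iv5 D37544) (iv6 D18016) (iv5 F14159)
def n41108 : Q := act 7 n19344
theorem D41108 : act 7 n19344 = n41108 := rfl
theorem F62338 : act 3 n41108 = n19349 := d8_1 D41108 (iv7 D19349) (iv3 F30987)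
def n41109 : Q := act 0 n19345
theorem D41109 : act 0 n19345 = n41109 := rfl
def n41110 : Q := act 1 n19345
theorem D41110 : act 1 n19345 = n41110 := rfl
def n41111 : Q := act 5 n19345
theorem D41111 : act 5 n19345 = n41111 := rfl
theorem F62339 : act 3 n41111 = n37544 := d6_1 D41111 (iv5 D37544) (iv3 F30988)
theorem F62340 : act 6 n41111 = n19348 := d12_2 D19345 D41111 (iv5 D19348) (iv6 D9085) D9084
def n41112 : Q := act 7 n19345
theorem D41112 : act 7 n19345 = n41112 := rfl
theorem F62341 : act 3 n41112 = n37545 := d8_1 D41112 (iv7 D37545) (iv3 F30988)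
def n41123 : Q := act 0 n19348
theorem D41123 : act 0 n19348 = n41123 := rfl
def n41124 : Q := act 1 n19348
theorem D41124 : act 1 n19348 = n41124 := rfl
def n41125 : Q := act 4 n19348
theorem D41125 : act 4 n19348 = n41125 := rfl
def n41126 : Q := act 7 n19348
theorem D41126 : act 7 n19348 = n41126 := rfl
theorem F62344 : act 5 n41126 = n19349 := d13_1 D41126 (iv7 D19349) D19348
def n41127 : Q := act 4 n19350
theorem D41127 : act 4 n19350 = n41127 := rfl
def n41128 : Q := act 6 n19350
theorem D41128 : act 6 n19350 = n41128 := rfl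
theorem F62345 : act 3 n41128 = n19351 := d7_1 D41128 (iv6 D19351) D19350
def n41129 : Q := act 0 n19351
theorem D41129 : act 0 n19351 = n41129 := rfl
def n41130 : Q := act 1 n19351
theorem D41130 : act 1 n19351 = n41130 := rfl
def n41131 : Q := act 5 n19351
theorem D41131 : act 5 n19351 = n41131 := rfl
def n41132 : Q := act 7 n19351
theorem D41132 : act 7 n19351 = n41132 := rfl
def n41133 : Q := act 0 n19352
theorem D41133 : act 0 n19352 = n41133 := rfl
def n41134 : Q := act 1 n19352
theorem D41134 : act 1 n19352 = n41134 := rfl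
def n41135 : Q := act 5 n19352
theorem D41135 : act 5 n19352 = n41135 := rfl
def n41136 : Q := act 7 n19352
theorem D41136 : act 7 n19352 = n41136 := rfl
def n41137 : Q := act 0 n19353
theorem D41137 : act 0 n19353 = n41137 := rfl
theorem F62346 : act 4 n41137 = n35371 := d20_0 (iv1 D35371) (iv4 F43320) (iv3 D26870) (iv1 F21343) D17478 F28470 (iv1 D9087) D9088 D19353 D41137
def n41138 : Q := act 1 n19353
theorem D41138 : act 1 n19353 = n41138 := rfl
theorem F62347 : act 4 n35370 = n41138 := d20_0 (iv1 D41138) F30989 F29449 (iv1 F27531) F27527 (iv4 D12952) (iv1 F9573) D8050 D17162 D35370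
def n41139 : Q := act 2 n19353
theorem D41139 : act 2 n19353 = n41139 := rfl
theorem F62348 : act 3 n41139 = n36091 := d0_2 D19353 D41139 (iv2 F56836) F37319 F30298
theorem F62349 : act 4 n41139 = n38198 := d1_2 (iv4 F30989) D41139 F59056
def n41140 : Q := act 6 n19353
theorem D41140 : act 6 n19353 = n41140 := rfl
theorem F62350 : act 3 n41140 = n19354 := d7_1 D41140 (iv6 D19354) D19353
theorem F62351 : act 4 n41140 = n38202 := d10_1 D41140 (iv6 D38202) (iv4 F30989)
def n41141 : Q := act 0 n19354
theorem D41141 : act 0 n19354 = n41141 := rfl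
def n41142 : Q := act 1 n19354
theorem D41142 : act 1 n19354 = n41142 := rfl
def n41143 : Q := act 5 n19354
theorem D41143 : act 5 n19354 = n41143 := rfl
def n41144 : Q := act 7 n19354
theorem D41144 : act 7 n19354 = n41144 := rfl
def n41145 : Q := act 2 n19355
theorem D41145 : act 2 n19355 = n41145 := rfl
theorem F62353 : act 7 n19356 = n41145 := d15_2 (iv0 D19355) D19356 (iv2 D41145)
def n41146 : Q := act 3 n19355
theorem D41146 : act 3 n19355 = n41146 := rfl
def n41147 : Q := act 4 n19355
theorem D41147 : act 4 n19355 = n41147 := rfl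
def n41148 : Q := act 5 n19355
theorem D41148 : act 5 n19355 = n41148 := rfl
def n41149 : Q := act 6 n19355
theorem D41149 : act 6 n19355 = n41149 := rfl
def n41150 : Q := act 7 n19355
theorem D41150 : act 7 n19355 = n41150 := rfl
theorem F62354 : act 2 n41150 = n19356 := d4_1 D41150 F62353 (iv2 D41145)
def n41151 : Q := act 3 n19356
theorem D41151 : act 3 n19356 = n41151 := rfl
def n41152 : Q := act 4 n19356
theorem D41152 : act 4 n19356 = n41152 := rfl
def n41153 : Q := act 5 n19356
theorem D41153 : act 5 n19356 = n41153 := rfl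
def n41154 : Q := act 6 n19356
theorem D41154 : act 6 n19356 = n41154 := rfl
def n41155 : Q := act 0 n19357
theorem D41155 : act 0 n19357 = n41155 := rfl
def n41156 : Q := act 1 n19357
theorem D41156 : act 1 n19357 = n41156 := rfl
def n41157 : Q := act 4 n19357
theorem D41157 : act 4 n19357 = n41157 := rfl
theorem F62355 : act 6 n41157 = n19367 := d10_2 (iv6 F30991) D41157 (iv4 D19367)
def n41158 : Q := act 7 n19357
theorem D41158 : act 7 n19357 = n41158 := rfl
theorem F62356 : act 5 n41158 = n19358 := d13_1 D41158 (iv7 D19358) D19357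
def n41159 : Q := act 0 n19359
theorem D41159 : act 0 n19359 = n41159 := rfl
def n41160 : Q := act 1 n19359
theorem D41160 : act 1 n19359 = n41160 := rfl
def n41161 : Q := act 2 n19359
theorem D41161 : act 2 n19359 = n41161 := rfl
def n41162 : Q := act 4 n19359
theorem D41162 : act 4 n19359 = n41162 := rfl
theorem F62357 : act 3 n41162 = n19987 := d5_1 D41162 F35645 F34848 (iv4 F17365) D19359
def n41163 : Q := act 5 n19359
theorem D41163 : act 5 n19359 = n41163 := rfl
theorem F62358 : act 3 n41163 = n19360 := d6_1 D41163 (iv5 D19360) D19359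
def n41164 : Q := act 6 n19359
theorem D41164 : act 6 n19359 = n41164 := rfl
theorem F62359 : act 3 n41164 = n19361 := d7_1 D41164 (iv6 D19361) D19359
def n41165 : Q := act 0 n19360
theorem D41165 : act 0 n19360 = n41165 := rfl
theorem F62360 : act 5 n41165 = n40809 := d17_3 D9090 D19360 D41165 F61898 (iv5 F31013) (iv0 D19387) (iv5 D9097) (iv0 D4087) (iv4 F6006)
theorem E6251 : n40787 = n19543 := (c21_5 D19360 D41165 F62360 (iv6 D40809) (iv1 F61883) (iv6 D19543) (iv5 F14358) (iv1 D9087) (iv5 D4085) D4086 D9090)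
theorem F62361 : act 0 n19543 = n19235 := (sb E6251 (iv1 D40787))
theorem F62362 : act 1 n19543 = n19240 := (sb E6251 F61883)
theorem F62363 : act 1 n19363 = n41165 := d15_0 (iv0 D41165) (iv7 F61955) F61954
theorem E6252 : n40786 = n40374 := (c15_2 F62362 F61887 (iv7 D40374) (iv2 F31282))
theorem F62364 : act 0 n40374 = n19240 := (sb E6252 (iv1 F61887))
theorem F62365 : act 1 n40374 = n19235 := (sb E6252 (iv0 D40786))
theorem E6253 : n19606 = n19562 := ((c20_7 D19240 (iv1 F62362) F31283 F14359 D9205 F62164 D19562 (iv1 F58840) F58837 (iv3 F30615) (iv1 F30618))).symm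
theorem F62366 : act 0 n19562 = n38000 := (sb E6253 (iv1 F58840))
theorem F62367 : act 1 n19562 = n9220 := (sb E6253 (iv0 D19606))
theorem E6254 : n19607 = n19567 := (c15_2 F62367 D19607 F35479 (iv2 F35486))
theorem F62368 : act 0 n19567 = n9220 := (sb E6254 (iv1 D19607))
theorem F62369 : act 1 n19567 = n38000 := (sb E6254 F58839)
theorem F62370 : act 5 n40790 = n41098 := d21_6 D10738 F17266 F14358 D19543 F62361 D40790 (iv1 D41098) (iv5 D19339) (iv6 D9082) (iv1 F7333)
def n41166 : Q := act 1 n19360
theorem D41166 : act 1 n19360 = n41166 := rfl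
theorem F62371 : act 1 n41166 = n19363 := d15_1 D41166 (iv7 F35397) F35396
def n41167 : Q := act 4 n19360
theorem D41167 : act 4 n19360 = n41167 := rfl
def n41168 : Q := act 6 n19360
theorem D41168 : act 6 n19360 = n41168 := rfl
def n41169 : Q := act 0 n19361
theorem D41169 : act 0 n19361 = n41169 := rfl
def n41170 : Q := act 1 n19361
theorem D41170 : act 1 n19361 = n41170 := rfl
theorem F62372 : act 1 n41170 = n22826 := d15_1 D41170 F35402 F35398
theorem F62373 : act 4 n41170 = n19393 := d18_7 (iv1 F14136) (iv4 F14160) (iv1 F30913) (iv4 F34875) F35392 F35391 D41170 F31022 (iv5 D19262)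
def n41171 : Q := act 5 n19361
theorem D41171 : act 5 n19361 = n41171 := rfl
theorem F62374 : act 2 n41171 = n40391 := d2_1 D41171 (iv5 F61463) F35398
theorem F62375 : act 0 n41171 = n40319 := d17_2 (iv1 D41170) D41171 (iv5 D40319) F30589 F13911 D9058 (iv5 F14162) D19393 (iv4 F62373)
theorem F62376 : act 1 n41171 = n40393 := d17_6 D19660 F61489 (iv1 F34877) F35392 F35391 D41171 F61464 (iv0 F31422) (iv4 D19663)
def n41172 : Q := act 7 n19361
theorem D41172 : act 7 n19361 = n41172 := rfl
theorem F62377 : act 2 n41172 = n22826 := d4_1 D41172 F35402 F35398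
theorem F62378 : act 4 n41172 = n22819 := d11_1 D41172 F35393 F35391
theorem E6255 : n41169 = n41050 := ((c15_1 F62157 (iv0 D41169) D41172 F62377)).symm
theorem F62379 : act 1 n41050 = n19361 := (sb E6255 (iv0 D41169))
def n41173 : Q := act 0 n19362
theorem D41173 : act 0 n19362 = n41173 := rfl
def n41174 : Q := act 1 n19362
theorem D41174 : act 1 n19362 = n41174 := rfl
def n41175 : Q := act 2 n19362
theorem D41175 : act 2 n19362 = n41175 := rfl
def n41176 : Q := act 5 n19362
theorem D41176 : act 5 n19362 = n41176 := rfl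
theorem F62380 : act 3 n41176 = n19363 := d6_1 D41176 (iv5 D19363) D19362
def n41177 : Q := act 6 n19362
theorem D41177 : act 6 n19362 = n41177 := rfl
theorem F62381 : act 3 n41177 = n19364 := d7_1 D41177 (iv6 D19364) D19362
def n41178 : Q := act 4 n19363
theorem D41178 : act 4 n19363 = n41178 := rfl
def n41179 : Q := act 6 n19363
theorem D41179 : act 6 n19363 = n41179 := rfl
def n41180 : Q := act 0 n19364
theorem D41180 : act 0 n19364 = n41180 := rfl
def n41181 : Q := act 1 n19364
theorem D41181 : act 1 n19364 = n41181 := rfl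
def n41182 : Q := act 5 n19364
theorem D41182 : act 5 n19364 = n41182 := rfl
def n41183 : Q := act 7 n19364
theorem D41183 : act 7 n19364 = n41183 := rfl
theorem F62382 : act 4 n41183 = n22827 := d11_1 D41183 F35405 F34883
theorem F62383 : act 6 n41183 = n22826 := d14_1 D41183 F35402 (iv6 D22823) F17363 D19364
def n41184 : Q := act 2 n19365
theorem D41184 : act 2 n19365 = n41184 := rfl
theorem F62384 : act 7 n19366 = n41184 := d15_2 (iv0 D19365) D19366 (iv2 D41184)
def n41185 : Q := act 3 n19365
theorem D41185 : act 3 n19365 = n41185 := rfl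
def n41186 : Q := act 4 n19365
theorem D41186 : act 4 n19365 = n41186 := rfl
def n41187 : Q := act 5 n19365
theorem D41187 : act 5 n19365 = n41187 := rfl
def n41188 : Q := act 6 n19365
theorem D41188 : act 6 n19365 = n41188 := rfl
def n41189 : Q := act 7 n19365
theorem D41189 : act 7 n19365 = n41189 := rfl
theorem F62385 : act 2 n41189 = n19366 := d4_1 D41189 F62384 (iv2 D41184)
def n41190 : Q := act 3 n19366
theorem D41190 : act 3 n19366 = n41190 := rfl
def n41191 : Q := act 4 n19366
theorem D41191 : act 4 n19366 = n41191 := rfl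
def n41192 : Q := act 5 n19366
theorem D41192 : act 5 n19366 = n41192 := rfl
def n41193 : Q := act 6 n19366
theorem D41193 : act 6 n19366 = n41193 := rfl
def n41194 : Q := act 0 n19367
theorem D41194 : act 0 n19367 = n41194 := rfl
def n41195 : Q := act 1 n19367
theorem D41195 : act 1 n19367 = n41195 := rfl
def n41196 : Q := act 3 n19367
theorem D41196 : act 3 n19367 = n41196 := rfl
def n41197 : Q := act 5 n19367
theorem D41197 : act 5 n19367 = n41197 := rfl
def n41198 : Q := act 7 n19367
theorem D41198 : act 7 n19367 = n41198 := rfl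
theorem F62386 : act 4 n41198 = n19368 := d11_1 D41198 (iv7 D19368) D19367
def n41199 : Q := act 6 n19368
theorem D41199 : act 6 n19368 = n41199 := rfl
def n41200 : Q := act 0 n19378
theorem D41200 : act 0 n19378 = n41200 := rfl
theorem F62387 : act 4 n41200 = n22857 := d18_1 D41200 (iv1 F35556) (iv4 D10813) (iv5 D4931) D4930 F17316 (iv4 F34854) (iv0 D19375) D19378
theorem F62388 : act 1 n22762 = n41200 := d15_0 (iv0 D41200) (iv7 F31060) (iv2 F35321)
def n41201 : Q := act 1 n19378
theorem D41201 : act 1 n19378 = n41201 := rfl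
theorem F62389 : act 1 n41201 = n22762 := d15_1 D41201 (iv7 F35324) F35320
theorem F62390 : act 4 n22858 = n41201 := d18_7 (iv1 F35587) F30770 (iv1 F35583) (iv4 D4925) D4926 D10797 D22858 F62389 (iv5 F35323)
def n41202 : Q := act 4 n19378
theorem D41202 : act 4 n19378 = n41202 := rfl
theorem F62391 : act 2 n41202 = n22770 := d1_1 D41202 F35337 F35320
theorem F62392 : act 7 n41202 = n22325 := d11_2 F31060 D41202 F34828
theorem F62393 : act 1 n41202 = n22571 := d18_6 (iv1 D4865) (iv4 F7032) D10629 (iv4 F17177) D19378 D41202 F35110 (iv0 F35467) F7348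
theorem F62394 : act 1 n22768 = n41202 := d15_0 F62393 (iv7 F35423) (iv2 F35554)
theorem F62395 : act 6 n22783 = n41202 := d14_5 F62392 (iv6 D22325) F31063 D10767 D22783
def n41203 : Q := act 6 n19378
theorem D41203 : act 6 n19378 = n41203 := rfl
theorem F62396 : act 3 n41203 = n19390 := d7_1 D41203 (iv6 D19390) (iv3 F31003)
theorem F62397 : act 4 n41203 = n22783 := d10_1 D41203 F62395 (iv4 D41202)
theorem F62398 : act 5 n41203 = n22777 := d12_1 D41203 (iv6 D22777) F31005 (iv6 D19379) D19378
theorem F62399 : act 7 n41203 = n22777 := d14_2 F31060 D41203 (iv6 D22777) F31046 D19379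
theorem F62400 : act 0 n41203 = n37866 := d21_10 (iv5 D37866) (iv1 D18148) F13395 (iv6 D8559) D8557 D18144 (iv5 F30771) F35586 D19378 D41203
theorem F62401 : act 0 n37861 = n41203 := d21_1 D37861 F62398 (iv6 D22777) F35828 (iv6 D9426) F7247 F6379 D3831 D8559 D18147
def n41204 : Q := act 0 n19379
theorem D41204 : act 0 n19379 = n41204 := rfl
theorem F62402 : act 4 n41204 = n22847 := d18_1 D41204 (iv1 F35414) (iv4 D22343) (iv5 D10636) D10635 (iv0 F35614) F31809 (iv0 F35828) F31005
theorem F62403 : act 1 n22761 = n41204 := d15_0 (iv0 D41204) F31060 (iv2 F35320)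
def n41205 : Q := act 1 n19379
theorem D41205 : act 1 n19379 = n41205 := rfl
theorem F62404 : act 1 n41205 = n22761 := d15_1 D41205 F35324 F35321
theorem F62405 : act 4 n41205 = n22848 := d17_9 (iv1 D22848) D22849 F35954 (iv5 D21982) F16693 F17013 (iv0 F35828) F31005 D41205
theorem F62406 : act 5 n41205 = n38010 := d21_2 D22761 (iv1 F62404) (iv6 D38010) (iv1 D18195) (iv6 D8582) (iv5 D3849) (iv1 F6380) (iv5 F7247) D9426 F35827
theorem F62407 : act 0 n22777 = n40547 := d21_10 (iv5 D40547) (iv1 F30779) F29321 D37868 (iv1 F58734) D38010 (iv5 F62406) (iv1 D41205) (iv5 F31005) D22777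
def n41206 : Q := act 3 n19381
theorem D41206 : act 3 n19381 = n41206 := rfl
theorem F62408 : act 4 n41206 = n23602 := d5_2 F35319 D41206 (iv3 D23602) (iv4 D11060) (iv3 F35318)
def n41207 : Q := act 5 n19381
theorem D41207 : act 5 n19381 = n41207 := rfl
def n41208 : Q := act 6 n19381
theorem D41208 : act 6 n19381 = n41208 := rfl
theorem F62409 : act 4 n41208 = n22816 := d10_1 D41208 (iv6 D22816) F35319
def n41211 : Q := act 6 n19382
theorem D41211 : act 6 n19382 = n41211 := rfl
theorem F62410 : act 4 n41211 = n22818 := d10_1 D41211 (iv6 D22818) (iv4 F34852)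
def n41212 : Q := act 0 n19383
theorem D41212 : act 0 n19383 = n41212 := rfl
def n41213 : Q := act 1 n19383
theorem D41213 : act 1 n19383 = n41213 := rfl
def n41214 : Q := act 2 n19383
theorem D41214 : act 2 n19383 = n41214 := rfl
def n41215 : Q := act 5 n19383
theorem D41215 : act 5 n19383 = n41215 := rfl
theorem F62411 : act 3 n41215 = n19384 := d6_1 D41215 (iv5 D19384) D19383
def n41216 : Q := act 6 n19383
theorem D41216 : act 6 n19383 = n41216 := rfl
theorem F62412 : act 3 n41216 = n19385 := d7_1 D41216 (iv6 D19385) D19383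
def n41217 : Q := act 0 n19384
theorem D41217 : act 0 n19384 = n41217 := rfl
theorem F62413 : act 1 n19403 = n41217 := d15_0 (iv0 D41217) (iv7 F61976) F61975
def n41218 : Q := act 1 n19384
theorem D41218 : act 1 n19384 = n41218 := rfl
theorem F62414 : act 1 n41218 = n19403 := d15_1 D41218 (iv7 F61972) F61971
def n41219 : Q := act 4 n19384
theorem D41219 : act 4 n19384 = n41219 := rfl
def n41220 : Q := act 6 n19384
theorem D41220 : act 6 n19384 = n41220 := rfl
def n41221 : Q := act 0 n19385
theorem D41221 : act 0 n19385 = n41221 := rfl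
theorem F62415 : act 1 n40864 = n41221 := d15_0 (iv0 D41221) F31061 (iv2 F61973)
theorem F62416 : act 4 n41221 = n22828 := d18_7 (iv1 F35375) D23508 (iv1 F36623) (iv4 D19261) D19262 D40864 F62415 (iv0 D22828) (iv5 F17310)
def n41222 : Q := act 1 n19385
theorem D41222 : act 1 n19385 = n41222 := rfl
theorem F62417 : act 1 n41222 = n40864 := d15_1 D41222 F61974 (iv2 F31059)
theorem F62418 : act 4 n41222 = n22829 := d18_7 (iv1 F34878) (iv4 F61966) (iv1 F61968) (iv4 D19264) (iv5 F14162) (iv4 F31009) D41222 F35407 (iv5 D22819)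
def n41223 : Q := act 5 n19385
theorem D41223 : act 5 n19385 = n41223 := rfl
def n41224 : Q := act 4 n19387
theorem D41224 : act 4 n19387 = n41224 := rfl
theorem F62419 : act 2 n41224 = n41170 := d1_1 D41224 F62373 (iv2 F62074)
theorem F62420 : act 7 n41224 = n41050 := d11_2 (iv7 F62050) D41224 F62156
theorem F62421 : act 0 n41224 = n22823 := d17_0 F61463 (iv1 D40391) (iv5 D19084) F13923 F5932 D4088 D9102 F31019 D41224
theorem F62422 : act 1 n41224 = n41172 := d15_1 (iv0 F62421) (iv7 D41172) (iv2 F35398)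
def n41225 : Q := act 6 n19387
theorem D41225 : act 6 n19387 = n41225 := rfl
theorem F62423 : act 2 n41225 = n23415 := d3_1 D41225 (iv6 F61452) (iv2 F62074)
theorem F62425 : act 5 n41225 = n40346 := d12_1 D41225 F61413 (iv5 D19241) D19242 (iv5 F31013)
theorem F62426 : act 7 n41225 = n23328 := d14_2 (iv7 F62050) D41225 (iv6 D23328) (iv7 F62087) D19324
theorem F62427 : act 0 n23371 = n41225 := d21_4 D40670 F61764 (iv5 D23370) D23371 (iv6 D41225) F31013 F61893 (iv5 D40324) (iv6 F36537) F61894
theorem E6256 : n41040 = n23371 := ((c15_1 (iv0 F62427) (iv0 D41040) F62080 (iv2 F62423))).symm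
theorem F62428 : act 1 n23371 = n19319 := (sb E6256 (iv0 D41040))
theorem F62429 : act 1 n41041 = n41225 := d15_1 D41041 F62426 F62085
theorem E6257 : n23416 = n23328 := (c15_2 (iv0 D23415) D23416 (iv7 F62426) F62423)
theorem F62430 : act 0 n23328 = n10986 := (sb E6257 (iv1 D23416))
def n41226 : Q := act 3 n19388
theorem D41226 : act 3 n19388 = n41226 := rfl
def n41227 : Q := act 4 n19388
theorem D41227 : act 4 n19388 = n41227 := rfl
theorem F62433 : act 2 n41227 = n41050 := d1_1 D41227 F62156 F62078
theorem F62435 : act 7 n41227 = n41170 := d11_2 (iv7 F62077) D41227 F62373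
theorem F62436 : act 0 n41227 = n41172 := d18_2 (iv1 F31014) D41227 F62378 (iv5 D22819) (iv4 F17365) (iv0 D9090) F6006 D4088 D9102
theorem F62437 : act 1 n41227 = n22823 := d15_1 (iv0 F62436) (iv7 F35402) (iv2 F62377)
def n41228 : Q := act 5 n19388
theorem D41228 : act 5 n19388 = n41228 := rfl
theorem F62438 : act 2 n41228 = n40410 := d2_1 D41228 F61492 F62078
theorem F62439 : act 6 n41228 = n40426 := d12_2 (iv6 F62090) D41228 F61506 F36482 (iv5 D23332)
theorem F62440 : act 7 n41228 = n40345 := d13_2 (iv7 F62077) D41228 F61412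
theorem F62441 : act 0 n40324 = n41228 := d21_1 D40324 (iv5 D41228) F62090 (iv1 D10962) (iv6 D4995) F7323 (iv1 F3055) D3984 D8932 D19060
theorem F62442 : act 1 n40811 = n41228 := d15_1 D40811 F62440 F62073
theorem E6258 : n40811 = n19726 := (c21_11 F31488 (iv1 D19061) F13911 (iv6 D4072) (iv1 F3354) D4999 D10971 D23359 (iv5 F61506) (iv6 F62439) (iv1 F62442))
theorem F62443 : act 0 n19726 = n19242 := (sb E6258 (iv1 D40811))
theorem F62444 : act 1 n19726 = n41228 := (sb E6258 F62442)
theorem E6259 : n40797 = n40327 := ((c21_4 D41228 (iv1 F62444) F31488 D40327 (iv1 F62047) F62045 F61492 F62075 (iv5 D19262) F14164 (iv1 F31014))).symm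
theorem F62445 : act 0 n40327 = n40960 := (sb E6259 (iv1 F62047))
theorem F62446 : act 1 n40327 = n19237 := (sb E6259 (iv0 D40797))
theorem F62447 : act 5 n41041 = n40793 := d21_0 (iv1 D40793) (iv5 D19236) D19237 (iv1 F62446) (iv6 D40327) (iv5 F31488) F62443 (iv5 F31013) D41225 (iv1 F62429)
theorem F62448 : act 6 n40793 = n21114 := d21_3 (iv5 F62425) (iv1 F62429) F62447 (iv1 D21114) (iv6 D10053) (iv5 D4576) F17464 D9019 (iv6 F30613) D40346
def n41229 : Q := act 0 n19389
theorem D41229 : act 0 n19389 = n41229 := rfl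
theorem F62449 : act 1 n19405 = n41229 := d15_0 (iv0 D41229) (iv7 F31061) F31059
theorem F62450 : act 4 n41229 = n22824 := d18_7 D10782 F35319 (iv1 F31012) (iv4 D9101) D9102 D19405 F62449 (iv0 D22824) (iv5 D10786)
def n41230 : Q := act 1 n19389
theorem D41230 : act 1 n19389 = n41230 := rfl
theorem F62451 : act 1 n41230 = n19405 := d15_1 D41230 (iv7 F61974) F61973
theorem F62452 : act 4 n41230 = n22825 := d18_7 (iv1 F34879) (iv4 F34852) (iv1 D19382) (iv4 D9096) D9097 D19389 D41230 F35401 (iv5 F35392)
theorem F62453 : act 3 n22874 = n22825 := d20_5 F62387 (iv1 F35556) (iv4 D10813) (iv3 F17331) D22874 (iv4 F62452) (iv1 D41230) (iv4 D19389) (iv3 F31003) D41200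
def n41231 : Q := act 3 n19389
theorem D41231 : act 3 n19389 = n41231 := rfl
theorem F62454 : act 7 n41231 = n41216 := d8_2 F31061 D41231 F62412
def n41232 : Q := act 5 n19389
theorem D41232 : act 5 n19389 = n41232 := rfl
theorem F62455 : act 7 n41232 = n41223 := d13_2 F31061 D41232 (iv5 D41223)
def n41233 : Q := act 6 n19389
theorem D41233 : act 6 n19389 = n41233 := rfl
theorem F62456 : act 4 n41233 = n19390 := d10_1 D41233 (iv6 D19390) D19389
theorem F62457 : act 7 n41233 = n40866 := d14_2 F31061 D41233 (iv6 D40866) F31048 D19385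
def n41234 : Q := act 3 n19393
theorem D41234 : act 3 n19393 = n41234 := rfl
theorem F62459 : act 7 n41234 = n41226 := d8_2 F62077 D41234 (iv3 D41226)
def n41235 : Q := act 5 n19398
theorem D41235 : act 5 n19398 = n41235 := rfl
theorem F62460 : act 2 n41235 = n19400 := d2_1 D41235 (iv5 D19400) D19398
theorem F62461 : act 3 n41235 = n22762 := d6_1 D41235 (iv5 F35323) (iv3 F34834)
theorem F62462 : act 6 n22760 = n41235 := d21_5 (iv5 D4053) D4049 D9020 D19198 F35589 (iv5 D41235) F35639 (iv5 F16965) (iv6 D9661) (iv1 F14093)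
def n41236 : Q := act 6 n19398
theorem D41236 : act 6 n19398 = n41236 := rfl
theorem F62463 : act 2 n41236 = n19401 := d3_1 D41236 (iv6 D19401) D19398
def n41237 : Q := act 3 n19399
theorem D41237 : act 3 n19399 = n41237 := rfl
theorem F62464 : act 4 n41237 = n19402 := d5_2 D19399 D41237 (iv3 D19402) (iv4 D9101) D9100
def n41238 : Q := act 5 n19399
theorem D41238 : act 5 n19399 = n41238 := rfl
def n41239 : Q := act 6 n19399
theorem D41239 : act 6 n19399 = n41239 := rfl
theorem F62465 : act 4 n41239 = n19401 := d10_1 D41239 (iv6 D19401) D19399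
def n41240 : Q := act 0 n19400
theorem D41240 : act 0 n19400 = n41240 := rfl
theorem F62466 : act 4 n41240 = n23534 := d18_1 D41240 (iv1 F36651) (iv4 D23520) (iv5 D11030) D11029 (iv0 F35591) (iv4 F30834) F35590 D19400
theorem F62467 : act 3 n41240 = n41201 := d20_5 (iv4 F62450) (iv1 F62449) (iv4 D19405) (iv3 F31030) D41240 (iv4 F62390) (iv1 D22858) (iv4 D10797) (iv3 F17308) D22824
theorem E6260 : n23560 = n22824 := (c20_6 F62466 (iv1 F36651) (iv4 D23520) F17895 (iv1 F17909) D23560 (iv4 F62450) (iv1 F62449) (iv4 D19405) (iv3 F31030) D41240)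
theorem F62468 : act 3 n22824 = n11042 := (sb E6260 (iv3 D23560))
theorem E6261 : n20699 = n9097 := (c20_11 D19389 D41229 F62450 F62468 (iv1 D11042) F7447 (iv4 F7451) F16093 F14811 (iv3 F15386) D20699)
theorem E6262 : n19388 = n9810 := ((D19388).symm.trans (sb E6261 (iv0 D20699)))
theorem F62469 : act 0 n9810 = n9097 := (sb E6262 (iv1 D19388))
theorem E6263 : n20700 = n9102 := ((D20700).symm.trans (sb E6262 F31014))
theorem E6264 : n20691 = n19324 := (((iv2 F32815)).symm.trans (sb E6262 (iv2 F62078)))
theorem E6265 : n41226 = n4432 := (((F15386).symm.trans (sb E6262 D41226))).symm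
theorem E6266 : n41227 = n20695 := ((((iv4 F32820)).symm.trans (sb E6262 D41227))).symm
theorem E6267 : n41228 = n20701 := (((D20701).symm.trans (sb E6262 D41228))).symm
theorem E6268 : n10962 = n4429 := ((((iv6 D9810)).symm.trans (sb E6262 F62090))).symm
theorem E6269 : n19445 = n19393 := (((iv7 F31103)).symm.trans (sb E6262 F62077))
theorem F62470 : act 0 n9102 = n9810 := (sb E6263 (iv1 D20700))
theorem F62471 : act 2 n19324 = n9810 := (sb E6264 F32815)
theorem E6270 : n9807 = n9077 := ((((iv6 D19324)).symm.trans (sb E6264 (iv6 D20691)))).symm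
theorem E6272 : n41234 = n9131 := (((F15328).symm.trans (sb E6265 (iv7 F62459)))).symm
theorem F62472 : act 0 n20695 = n41172 := (sb E6266 F62436)
theorem F62473 : act 1 n20695 = n22823 := (sb E6266 F62437)
theorem F62474 : act 2 n20695 = n41050 := (sb E6266 F62433)
theorem F62475 : act 7 n20695 = n41170 := (sb E6266 F62435)
theorem F62476 : act 0 n20701 = n19726 := (sb E6267 (iv1 F62444))
theorem F62477 : act 1 n20701 = n40324 := (sb E6267 (iv0 F62441))
theorem F62478 : act 2 n20701 = n40410 := (sb E6267 F62438)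
theorem E6274 : n40426 = n20220 := (((F32826).symm.trans (sb E6267 F62439))).symm
theorem E6275 : n40345 = n10029 := (((F32827).symm.trans (sb E6267 F62440))).symm
theorem E6276 : n9805 = n4995 := ((D9805).symm.trans (sb E6268 (iv1 D10962)))
theorem E6277 : n9806 = n9079 := ((D9806).symm.trans (sb E6268 F17809))
theorem E6279 : n9076 = n4424 := (((F15322).symm.trans (sb E6268 F62089))).symm
theorem E6280 : n23415 = n20668 := ((F61452).symm.trans (sb E6269 (iv6 F32775)))
theorem E6281 : n9790 = n4082 := ((((iv1 D9077)).symm.trans (sb E6270 (iv1 F15381)))).symm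
theorem E6282 : n10964 = n9789 := ((F17815).symm.trans (sb E6270 F15379))
theorem F62480 : act 2 n9077 = n4429 := (sb E6270 (iv2 D9807))
theorem E6283 : n20689 = n19322 := (((D19322).symm.trans (sb E6270 D20689))).symm
theorem E6284 : n20690 = n19323 := (((D19323).symm.trans (sb E6270 D20690))).symm
theorem E6285 : n10961 = n9791 := ((F62087).symm.trans (sb E6270 F15378))
theorem F62481 : act 3 n9131 = n19393 := (sb E6272 (iv3 D41234))
theorem F62482 : act 1 n20220 = n19095 := (sb E6274 (iv0 D40426))
theorem F62483 : act 2 n20220 = n40960 := (sb E6274 F62098)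
theorem E6290 : n23359 = n9547 := ((((iv5 D20220)).symm.trans (sb E6274 F61506))).symm
theorem E6291 : n19237 = n10018 := (((F32064).symm.trans (sb E6274 F62099))).symm
theorem E6292 : n21086 = n19089 := ((D21086).symm.trans (sb E6275 F62071))
theorem E6293 : n21087 = n19094 := ((D21087).symm.trans (sb E6275 F62072))
theorem E6294 : n21078 = n19242 := (((iv2 F33273)).symm.trans (sb E6275 F62073))
theorem F62484 : act 5 n10029 = n19393 := (sb E6275 F61412)
theorem E6295 : n19068 = n4565 := ((((iv6 D10029)).symm.trans (sb E6275 (iv6 D40345)))).symm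
theorem F62485 : act 1 n4995 = n4429 := (sb E6276 (iv0 D9805))
theorem E6297 : n20680 = n10729 := ((((iv3 F17256)).symm.trans (sb E6276 D20680))).symm
theorem F62486 : act 0 n9079 = n4429 := (sb E6277 (iv1 D9806))
theorem E6302 : n20685 = n19305 := ((((iv3 F30959)).symm.trans (sb E6277 D20685))).symm
theorem E6307 : n19319 = n9794 := (((D9794).symm.trans (sb E6279 D19319))).symm
theorem F62487 : act 1 n20668 = n10986 := (sb E6280 (iv0 D23415))
theorem E6308 : n19243 = n10031 := (((F32774).symm.trans (sb E6280 F61451))).symm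
theorem F62489 : act 6 n20668 = n19393 := (sb E6280 (iv6 F61452))
theorem F62490 : act 0 n4082 = n4424 := (sb E6281 (iv1 D9790))
theorem E6309 : n20650 = n4995 := (((F12331).symm.trans (sb E6281 (iv2 F32764)))).symm
theorem E6314 : n20645 = n9079 := (((D9079).symm.trans (sb E6281 F32763))).symm
theorem F62491 : act 0 n9789 = n9077 := (sb E6282 (iv1 F17815))
theorem E6315 : n22654 = n20646 := (((D20646).symm.trans (sb E6282 (iv3 F35222)))).symm
theorem E6316 : n23323 = n20647 := (((D20647).symm.trans (sb E6282 (iv4 F36442)))).symm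
theorem E6317 : n23337 = n20648 := (((D20648).symm.trans (sb E6282 (iv5 F36454)))).symm
theorem E6318 : n20649 = n9069 := ((D20649).symm.trans (sb E6282 F17813))
theorem E6319 : n41032 = n20659 := (((iv1 F62148)).symm.trans (sb E6283 (iv1 F32807)))
theorem E6320 : n41031 = n20658 := ((F62147).symm.trans (sb E6283 F32808))
theorem F62492 : act 2 n19322 = n9808 := (sb E6283 F32805)
theorem E6321 : n23326 = n20655 := (((iv7 F62104)).symm.trans (sb E6283 F32806))
theorem E6322 : n41037 = n20663 := (((iv1 F62151)).symm.trans (sb E6284 (iv1 F32812)))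
theorem E6323 : n41036 = n20662 := ((F62150).symm.trans (sb E6284 F32814))
theorem E6324 : n20218 = n19294 := ((((iv6 F30965)).symm.trans (sb E6284 (iv6 F32813)))).symm
theorem E6325 : n23327 = n20656 := (((iv7 F62105)).symm.trans (sb E6284 F32811))
theorem F62494 : act 0 n9791 = n9079 := (sb E6285 (iv1 F17814))
theorem F62495 : act 1 n9791 = n4995 := (sb E6285 (iv0 D10961))
theorem E6326 : n23328 = n20657 := (((D20657).symm.trans (sb E6285 D23328))).symm
theorem F62496 : act 7 n9791 = n9077 := (sb E6285 (iv7 F62087))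
theorem E6333 : n20216 = n19297 := ((D20216).symm.trans (sb E6290 (iv1 F36488)))
theorem E6334 : n20217 = n10971 := ((D20217).symm.trans (sb E6290 (iv0 D23359)))
theorem E6336 : n40327 = n21055 := (((D21055).symm.trans (sb E6291 (iv1 F62446)))).symm
theorem E6337 : n40798 = n21056 := (((D21056).symm.trans (sb E6291 D40798))).symm
theorem E6338 : n40340 = n21046 := ((((iv2 F33230)).symm.trans (sb E6291 (iv2 F62060)))).symm
theorem E6340 : n40790 = n21050 := ((((iv4 F33233)).symm.trans (sb E6291 (iv4 F61884)))).symm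
theorem E6341 : n9040 = n4560 := ((((iv6 D10018)).symm.trans (sb E6291 (iv6 D19237)))).symm
theorem F62497 : act 1 n19089 = n10029 := (sb E6292 (iv0 D21086))
theorem F62498 : act 0 n19094 = n10029 := (sb E6293 (iv1 D21087))
theorem F62499 : act 2 n19242 = n10029 := (sb E6294 F33273)
theorem E6342 : n10026 = n9041 := ((((iv6 D19242)).symm.trans (sb E6294 (iv6 D21078)))).symm
theorem E6343 : n10024 = n8934 := ((D10024).symm.trans (sb E6295 (iv1 D19068)))
theorem E6344 : n10025 = n9043 := ((D10025).symm.trans (sb E6295 F30610))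
theorem E6347 : n40344 = n10028 := (((D10028).symm.trans (sb E6295 D40344))).symm
theorem E6348 : n23262 = n4908 := (((F17257).symm.trans (sb E6297 F36350))).symm
theorem E6349 : n40983 = n23205 := (((iv4 F62127)).symm.trans (sb E6302 (iv4 F36307)))
theorem E6352 : n23371 = n20666 := (((D20666).symm.trans (sb E6307 (iv1 F62428)))).symm
theorem E6353 : n41041 = n20667 := (((D20667).symm.trans (sb E6307 D41041))).symm
theorem E6354 : n40347 = n10033 := ((((iv5 F15859)).symm.trans (sb E6307 F61415))).symm
theorem E6355 : n40349 = n21089 := (((D21089).symm.trans (sb E6308 F61424))).symm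
theorem E6356 : n21090 = n9042 := ((D21090).symm.trans (sb E6308 (iv0 D19243)))
theorem F62500 : act 7 n4995 = n9789 := (sb E6309 (iv7 D20650))
theorem F62501 : act 2 n9079 = n9789 := (sb E6314 (iv2 D20645))
theorem E6360 : n23290 = n10734 := ((F36387).symm.trans (sb E6315 F35223))
theorem F62502 : act 6 n20646 = n19269 := (sb E6315 F35224)
theorem F62503 : act 7 n20646 = n10729 := (sb E6315 (iv7 D22654))
theorem E6361 : n23223 = n19312 := ((F36323).symm.trans (sb E6316 (iv1 F36445)))
theorem F62504 : act 1 n20647 = n19311 := (sb E6316 F36446)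
theorem F62505 : act 2 n20647 = n19314 := (sb E6316 F36441)
theorem F62506 : act 6 n20647 = n19283 := (sb E6316 F36443)
theorem F62507 : act 7 n20647 = n10960 := (sb E6316 (iv7 D23323))
theorem F62508 : act 0 n20648 = n19326 := (sb E6317 (iv1 F36456))
theorem F62509 : act 1 n20648 = n19325 := (sb E6317 F36457)
theorem F62510 : act 2 n20648 = n19328 := (sb E6317 F36453)
theorem F62511 : act 7 n20648 = n10963 := (sb E6317 (iv7 D23337))
theorem F62512 : act 6 n9069 = n9789 := (sb E6318 (iv6 D20649))
theorem F62513 : act 1 n20659 = n19322 := (sb E6319 F62148)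
theorem F62514 : act 0 n20658 = n19322 := (sb E6320 (iv1 F62147))
theorem F62515 : act 7 n20655 = n19322 := (sb E6321 F62104)
theorem F62516 : act 1 n20663 = n19323 := (sb E6322 F62151)
theorem F62517 : act 0 n20662 = n19323 := (sb E6323 (iv1 F62150))
theorem E6362 : n23362 = n20224 := (((iv1 F36490)).symm.trans (sb E6324 (iv1 F32070)))
theorem E6363 : n20223 = n9068 := ((((iv0 D19294)).symm.trans (sb E6324 F32066))).symm
theorem F62518 : act 2 n19294 = n9547 := (sb E6324 (iv2 D20218))
theorem E6364 : n23360 = n20225 := ((F62102).symm.trans (sb E6324 (iv7 F32068)))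
theorem F62519 : act 7 n20656 = n19323 := (sb E6325 F62105)
theorem F62520 : act 0 n20657 = n10986 := (sb E6326 F62430)
theorem E6365 : n21096 = n19244 := (((iv5 F33290)).symm.trans (sb E6326 F36448))
theorem F62522 : act 1 n19297 = n9547 := (sb E6333 (iv0 D20216))
theorem F62523 : act 0 n10971 = n9547 := (sb E6334 (iv1 D20217))
theorem F62524 : act 0 n21055 = n40960 := (sb E6336 F62445)
theorem F62525 : act 6 n21055 = n19061 := (sb E6336 (iv6 D40327))
theorem F62526 : act 1 n21056 = n40960 := (sb E6337 F62049)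
theorem F62527 : act 0 n21046 = n19095 := (sb E6338 F62100)
theorem E6369 : n19067 = n10015 := ((((iv6 D21046)).symm.trans (sb E6338 (iv6 D40340)))).symm
theorem F62528 : act 7 n21046 = n40960 := (sb E6338 F62061)
theorem F62529 : act 5 n21050 = n41098 := (sb E6340 F62370)
theorem E6371 : n19235 = n10016 := ((((iv6 D21050)).symm.trans (sb E6340 (iv6 D40790)))).symm
theorem E6372 : n19070 = n10013 := (((D10013).symm.trans (sb E6341 (iv1 F30619)))).symm
theorem E6373 : n10014 = n4058 := ((D10014).symm.trans (sb E6341 (iv0 D9040)))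
theorem E6374 : n19236 = n10017 := (((D10017).symm.trans (sb E6341 D19236))).symm
theorem F62530 : act 2 n9041 = n4565 := (sb E6342 (iv2 D10026))
theorem E6375 : n21076 = n19240 := (((D19240).symm.trans (sb E6342 D21076))).symm
theorem E6376 : n21077 = n19241 := (((D19241).symm.trans (sb E6342 D21077))).symm
theorem F62531 : act 1 n8934 = n4565 := (sb E6343 (iv0 D10024))
theorem E6378 : n21067 = n8582 := (((F13915).symm.trans (sb E6343 D21067))).symm
theorem F62532 : act 0 n9043 = n4565 := (sb E6344 (iv1 D10025))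
theorem E6383 : n21072 = n19211 := ((((iv3 F30857)).symm.trans (sb E6344 D21072))).symm
theorem E6389 : n23417 = n21084 := (((D21084).symm.trans (sb E6347 F62068))).symm
theorem E6390 : n10935 = n10731 := (((D10731).symm.trans (sb E6348 (iv1 D23262)))).symm
theorem E6391 : n23286 = n10732 := (((D10732).symm.trans (sb E6348 (iv0 F36373)))).symm
theorem F62533 : act 4 n23205 = n19305 := (sb E6349 F62127)
theorem F62534 : act 7 n23205 = n19301 := (sb E6349 (iv7 D40983))
theorem F62536 : act 5 n20666 = n40792 := (sb E6352 (iv5 F61888))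
theorem F62537 : act 6 n20666 = n10974 := (sb E6352 (iv6 D23371))
theorem F62539 : act 5 n20667 = n40793 := (sb E6353 F62447)
theorem E6392 : n21094 = n19069 := ((D21094).symm.trans (sb E6354 (iv1 D40347)))
theorem E6393 : n21095 = n19246 := ((D21095).symm.trans (sb E6354 F61414))
theorem F62540 : act 2 n21089 = n19246 := (sb E6355 F61418)
theorem F62541 : act 3 n21089 = n38014 := (sb E6355 F61419)
theorem E6394 : n21089 = n21037 := (((D21037).symm.trans (iv5 (sb E6355 (tr F61420 E6372))))).symm
theorem E6395 : n40349 = n21037 := (E6355).trans E6394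
theorem F62543 : act 7 n21037 = n19069 := (sb E6395 (iv7 D40349))
theorem F62544 : act 0 n9042 = n10031 := (sb E6356 (iv1 D21090))
theorem E6396 : n22296 = n10946 := (((iv1 F34794)).symm.trans (sb E6360 (iv1 D23290)))
theorem E6397 : n23258 = n22295 := (((F34798).symm.trans (sb E6360 F36386))).symm
theorem F62546 : act 4 n10734 = n20646 := (sb E6360 (iv4 F36387))
theorem F62547 : act 1 n19312 = n20647 := (sb E6361 (iv0 F36323))
theorem E6398 : n41018 = n10924 := ((D41018).symm.trans (sb E6361 (iv4 D23223)))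
theorem F62548 : act 1 n20224 = n19294 := (sb E6362 F36490)
theorem F62550 : act 5 n20224 = n10972 := (sb E6362 F36487)
theorem F62551 : act 7 n20224 = n10971 := (sb E6362 (iv7 D23362))
theorem F62552 : act 1 n9068 = n9551 := (sb E6363 (iv0 D20223))
theorem F62553 : act 0 n20225 = n10971 := (sb E6364 (iv1 D23360))
theorem F62554 : act 1 n20225 = n19297 := (sb E6364 F36483)
theorem F62555 : act 7 n20225 = n19294 := (sb E6364 (iv7 F62102))
theorem F62558 : act 5 n19244 = n20657 := (sb E6365 F33290)
theorem F62560 : act 0 n10015 = n9043 := (sb E6369 (iv1 F30617))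
theorem F62561 : act 1 n10015 = n8934 := (sb E6369 (iv0 D19067))
theorem E6400 : n40338 = n21044 := (((D21044).symm.trans (sb E6369 D40338))).symm
theorem E6401 : n40339 = n21045 := (((D21045).symm.trans (sb E6369 D40339))).symm
theorem E6404 : n40374 = n21047 := (((D21047).symm.trans (sb E6371 (iv1 F62365)))).symm
theorem E6405 : n21048 = n19543 := ((D21048).symm.trans (sb E6371 (iv0 F62361)))
theorem F62563 : act 0 n10013 = n9041 := (sb E6372 (iv1 F30618))
theorem E6409 : n21035 = n18197 := ((D21035).symm.trans (sb E6372 F30615))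
theorem E6410 : n40335 = n21036 := (((D21036).symm.trans (sb E6372 (iv4 F61402)))).symm
theorem E6411 : n21038 = n9018 := ((D21038).symm.trans (sb E6372 F30616))
theorem F62564 : act 0 n4058 = n4560 := (sb E6373 (iv1 D10014))
theorem E6417 : n40792 = n21051 := (((D21051).symm.trans (sb E6374 D40792))).symm
theorem E6418 : n40793 = n21052 := (((D21052).symm.trans (sb E6374 D40793))).symm
theorem F62565 : act 2 n19240 = n10027 := (sb E6375 F33264)
theorem F62566 : act 2 n19241 = n10028 := (sb E6376 F33268)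
theorem E6420 : n21796 = n18193 := ((((iv4 F29363)).symm.trans (sb E6378 F34248))).symm
theorem E6421 : n40700 = n21710 := (((iv4 F61816)).symm.trans (sb E6383 (iv4 F34159)))
theorem F62568 : act 5 n21084 = n10986 := (sb E6389 (iv5 D23417))
theorem E6424 : n22660 = n9517 := ((D22660).symm.trans (sb E6390 F17742))
theorem E6426 : n23263 = n22662 := (((D22662).symm.trans (sb E6390 D23263))).symm
theorem E6427 : n23264 = n22663 := (((D22663).symm.trans (sb E6390 D23264))).symm
theorem E6428 : n22664 = n10946 := ((D22664).symm.trans (sb E6390 (iv7 F17775)))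
theorem E6429 : n22666 = n10945 := ((D22666).symm.trans (sb E6391 (iv4 D23286)))
theorem F62570 : act 1 n19069 = n10033 := (sb E6392 (iv0 D21094))
theorem F62571 : act 0 n19246 = n10033 := (sb E6393 (iv1 D21095))
theorem F62573 : act 1 n21037 = n10031 := (sb E6394 (iv0 D21089))
theorem F62574 : act 2 n21037 = n19246 := (sb E6394 F62540)
theorem F62575 : act 3 n21037 = n38014 := (sb E6394 F62541)
theorem E6430 : n23289 = n10622 := ((D23289).symm.trans (sb E6396 (iv1 D22296)))
theorem F62576 : act 1 n10946 = n10734 := (sb E6396 F34794)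
theorem F62577 : act 4 n22295 = n10934 := (sb E6397 (iv4 D23258))
theorem F62578 : act 4 n10924 = n19312 := (sb E6398 (iv4 D41018))
theorem F62579 : act 7 n21044 = n19240 := (sb E6400 F62059)
theorem F62580 : act 7 n21045 = n19241 := (sb E6401 F62055)
theorem F62581 : act 0 n21047 = n19240 := (sb E6404 F62364)
theorem F62582 : act 7 n21047 = n19079 := (sb E6404 (iv7 D40374))
theorem F62583 : act 0 n19543 = n10016 := (sb E6405 (iv1 D21048))
theorem E6431 : n21810 = n9199 := (((F31283).symm.trans (sb E6405 (iv4 F34261)))).symm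
theorem F62585 : act 3 n18197 = n10013 := (sb E6409 (iv3 D21035))
theorem E6432 : n38000 = n21823 := (((iv4 F58837)).symm.trans (sb E6409 F34279))
theorem E6433 : n21729 = n19230 := ((F34177).symm.trans (sb E6410 (iv1 F61405)))
theorem F62586 : act 1 n21036 = n19229 := (sb E6410 F61406)
theorem F62587 : act 2 n21036 = n19232 := (sb E6410 F61401)
theorem F62588 : act 6 n21036 = n19186 := (sb E6410 F61403)
theorem F62589 : act 7 n21036 = n19066 := (sb E6410 (iv7 D40335))
theorem F62590 : act 6 n9018 = n10013 := (sb E6411 (iv6 D21038))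
theorem F62592 : act 0 n21051 = n19241 := (sb E6417 (iv1 F61892))
theorem F62593 : act 5 n21051 = n20666 := (sb E6417 (iv5 F62536))
theorem F62595 : act 5 n21052 = n20667 := (sb E6418 (iv5 F62539))
theorem F62596 : act 6 n21052 = n21114 := (sb E6418 F62448)
theorem E6434 : n10561 = n10405 := ((F35326).symm.trans (sb E6420 (iv1 D21796)))
theorem E6435 : n21819 = n10566 := (((F35327).symm.trans (sb E6420 (iv0 F34266)))).symm
theorem F62597 : act 4 n21710 = n19211 := (sb E6421 F61816)
theorem F62598 : act 7 n21710 = n19207 := (sb E6421 (iv7 D40700))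
theorem F62601 : act 3 n9517 = n10731 := (sb E6424 (iv3 D22660))
theorem F62603 : act 3 n22662 = n20170 := (sb E6426 F36351)
theorem F62604 : act 7 n22662 = n23291 := (sb E6426 (iv7 F36389))
theorem F62605 : act 3 n22663 = n20171 := (sb E6427 F36352)
theorem F62606 : act 4 n22663 = n10937 := (sb E6427 F36353)
theorem F62608 : act 7 n10946 = n10731 := (sb E6428 (iv7 D22664))
theorem F62609 : act 4 n10945 = n10732 := (sb E6429 (iv4 D22666))
theorem F62610 : act 1 n10622 = n10946 := (sb E6430 (iv0 D23289))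
theorem E6436 : n20580 = n20413 := ((((iv4 F32422)).symm.trans (sb E6430 (iv4 F36384)))).symm
theorem E6437 : n10412 = n4166 := (((F14359).symm.trans (sb E6431 (iv3 D21810)))).symm
theorem E6438 : n19567 = n10415 := ((((iv1 D21823)).symm.trans (sb E6432 (iv1 F62369)))).symm
theorem E6439 : n21792 = n19562 := ((F34278).symm.trans (sb E6432 (iv0 F62366)))
theorem F62611 : act 2 n21823 = n19609 := (sb E6432 F58836)
theorem F62612 : act 4 n21823 = n18197 := (sb E6432 F58837)
theorem F62613 : act 6 n21823 = n19619 := (sb E6432 F58838)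
theorem F62614 : act 7 n21823 = n18193 := (sb E6432 (iv7 D38000))
theorem F62615 : act 1 n19230 = n21036 := (sb E6433 (iv0 F34177))
theorem E6440 : n40766 = n10360 := ((D40766).symm.trans (sb E6433 (iv4 D21729)))
theorem E6441 : n21795 = n19609 := ((D21795).symm.trans (sb E6434 (iv1 F35330)))
theorem F62616 : act 1 n10405 = n18193 := (sb E6434 (iv0 F35326))
theorem E6443 : n4832 = n4709 := ((((iv4 D10405)).symm.trans (sb E6434 (iv4 D10561)))).symm
theorem E6445 : n22174 = n21798 := (((D21798).symm.trans (sb E6434 D22174))).symm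
theorem E6446 : n10414 = n4833 := ((((iv4 D10566)).symm.trans (sb E6435 (iv4 D21819)))).symm
theorem F62617 : act 1 n20413 = n9756 := (sb E6436 (iv0 D20580))
theorem E6447 : n20558 = n19298 := (((F32421).symm.trans (sb E6436 F36385))).symm
theorem E6448 : n10404 = n9205 := (((D9205).symm.trans (sb E6437 (iv1 F16565)))).symm
theorem E6449 : n9206 = n4714 := ((D9206).symm.trans (sb E6437 (iv0 D10412)))
theorem E6455 : n21822 = n9220 := ((D21822).symm.trans (sb E6438 F62368))
theorem F62618 : act 2 n10415 = n10566 := (sb E6438 F35478)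
theorem F62619 : act 0 n19562 = n21823 := (sb E6439 (iv1 F34278))
theorem F62620 : act 2 n19562 = n10405 := (sb E6439 F34243)
theorem E6456 : n21726 = n19541 := ((D21726).symm.trans (sb E6440 (iv1 F62240)))
theorem E6457 : n21727 = n19547 := ((D21727).symm.trans (sb E6440 (iv0 F62239)))
theorem F62621 : act 4 n10360 = n19230 := (sb E6440 (iv4 D40766))
theorem F62622 : act 1 n19609 = n10405 := (sb E6441 (iv0 D21795))
theorem E6458 : n10402 = n9208 := ((D10402).symm.trans (sb E6443 (iv1 F14380)))
theorem E6459 : n10403 = n1993 := ((D10403).symm.trans (sb E6443 (iv0 D4832)))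
theorem E6460 : n10560 = n1948 := ((((iv3 D4709)).symm.trans (sb E6443 D10560))).symm
theorem E6461 : n10562 = n10406 := (((D10406).symm.trans (sb E6443 D10562))).symm
theorem E6462 : n10563 = n10407 := (((D10407).symm.trans (sb E6443 D10563))).symm
theorem F62623 : act 5 n21798 = n22629 := (sb E6445 F35331)
theorem E6463 : n21820 = n10567 := (((D10567).symm.trans (sb E6446 D21820))).symm
theorem E6464 : n21821 = n10568 := (((D10568).symm.trans (sb E6446 D21821))).symm
theorem E6465 : n40970 = n9751 := ((D40970).symm.trans (sb E6447 (iv1 D20558)))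
theorem E6466 : n10413 = n4835 := ((((iv1 F14378)).symm.trans (sb E6448 (iv1 F16569)))).symm
theorem E6467 : n21793 = n19563 := (((D19563).symm.trans (sb E6448 D21793))).symm
theorem E6468 : n21794 = n19564 := (((D19564).symm.trans (sb E6448 D21794))).symm
theorem F62625 : act 0 n4714 = n4166 := (sb E6449 (iv1 D9206))
theorem F62626 : act 2 n4714 = n4833 := (sb E6449 (iv2 F35476))
theorem E6470 : n19568 = n10416 := (((D10416).symm.trans (sb E6449 D19568))).symm
theorem E6471 : n19569 = n10417 := (((D10417).symm.trans (sb E6449 D19569))).symm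
theorem F62627 : act 1 n9220 = n10415 := (sb E6455 (iv0 D21822))
theorem E6472 : n20979 = n18150 := ((((iv4 F29323)).symm.trans (sb E6455 (iv4 F34276)))).symm
theorem F62628 : act 1 n19541 = n10360 := (sb E6456 (iv0 D21726))
theorem E6473 : n21705 = n10509 := (((F31276).symm.trans (sb E6456 F34176))).symm
theorem E6474 : n21079 = n19079 := (((F31277).symm.trans (sb E6456 F34175))).symm
theorem F62629 : act 0 n19547 = n10360 := (sb E6457 (iv1 D21727))
theorem F62630 : act 1 n9208 = n4709 := (sb E6458 (iv0 D10402))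
theorem E6476 : n21783 = n19547 := ((((iv3 F31286)).symm.trans (sb E6458 D21783))).symm
theorem E6477 : n21784 = n19559 := ((((iv4 F31313)).symm.trans (sb E6458 D21784))).symm
theorem F62631 : act 0 n1993 = n4709 := (sb E6459 (iv1 D10403))
theorem E6489 : n22168 = n4712 := (((D4712).symm.trans (sb E6460 D22168))).symm
theorem E6490 : n22176 = n21799 := (((D21799).symm.trans (sb E6461 D22176))).symm
theorem E6491 : n22177 = n21800 := (((D21800).symm.trans (sb E6461 D22177))).symm
theorem E6493 : n22179 = n21802 := (((D21802).symm.trans (sb E6461 D22179))).symm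
theorem E6494 : n21803 = n19540 := ((D21803).symm.trans (sb E6462 (iv1 F35497)))
theorem E6495 : n22182 = n21804 := (((D21804).symm.trans (sb E6462 D22182))).symm
theorem E6496 : n10895 = n10675 := (((iv5 F17689)).symm.trans (sb E6462 F17218))
theorem E6497 : n19821 = n19693 := (((iv7 F31604)).symm.trans (sb E6462 (iv7 F35465)))
theorem E6498 : n21834 = n19570 := ((((iv6 F31322)).symm.trans (sb E6463 (iv6 F34291)))).symm
theorem E6499 : n23587 = n10795 := ((((iv5 F17317)).symm.trans (sb E6464 (iv5 F36684)))).symm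
theorem E6500 : n20557 = n19305 := ((D20557).symm.trans (sb E6465 (iv1 F62119)))
theorem F62632 : act 1 n9751 = n19298 := (sb E6465 (iv0 D40970))
theorem F62633 : act 0 n4835 = n4714 := (sb E6466 (iv1 D10413))
theorem E6501 : n21815 = n10517 := ((((iv3 F16716)).symm.trans (sb E6466 D21815))).symm
theorem E6505 : n22932 = n21827 := ((F35996).symm.trans (sb E6467 (iv1 F34285)))
theorem F62634 : act 1 n19563 = n21826 := (sb E6467 F34284)
theorem F62635 : act 2 n19563 = n10406 := (sb E6467 F34244)
theorem F62636 : act 2 n19564 = n10407 := (sb E6468 F34246)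
theorem E6506 : n23135 = n22254 := (((F34721).symm.trans (sb E6468 (iv5 F36188)))).symm
theorem E6507 : n10569 = n10419 := ((((iv6 F16580)).symm.trans (sb E6470 (iv6 F31320)))).symm
theorem E6508 : n21829 = n9239 := ((D21829).symm.trans (sb E6471 F35470))
theorem E6509 : n21830 = n9244 := ((D21830).symm.trans (sb E6471 F35471))
theorem F62638 : act 2 n10417 = n10568 := (sb E6471 F35472)
theorem E6510 : n11051 = n10801 := (((iv5 F17920)).symm.trans (sb E6471 F31321))
theorem E6511 : n22856 = n19788 := ((((iv7 F31558)).symm.trans (sb E6471 F35473))).symm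
theorem E6512 : n37870 = n9959 := ((D37870).symm.trans (sb E6472 (iv0 D20979)))
theorem E6513 : n20958 = n19199 := ((((iv3 F30836)).symm.trans (sb E6472 F34277))).symm
theorem E6514 : n22063 = n10355 := ((D22063).symm.trans (sb E6473 (iv1 D21705)))
theorem E6515 : n40371 = n21044 := ((D40371).symm.trans (sb E6474 (iv1 F33275)))
theorem E6516 : n40372 = n10027 := ((D40372).symm.trans (sb E6474 (iv0 D21079)))
theorem F62639 : act 4 n19547 = n21080 := (sb E6476 F34240)
theorem E6517 : n20982 = n10556 := ((((iv1 F31316)).symm.trans (sb E6477 F34241))).symm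
theorem E6518 : n22467 = n4966 := (((F7378).symm.trans (sb E6489 (iv5 F35018)))).symm
theorem F62640 : act 0 n21799 = n10567 := (sb E6490 (iv1 F34630))
theorem F62641 : act 5 n21799 = n21871 := (sb E6490 F34626)
theorem F62642 : act 1 n21800 = n10567 := (sb E6491 F34627)
theorem F62643 : act 5 n21800 = n22561 := (sb E6491 (iv5 F35498))
theorem F62644 : act 6 n21800 = n21149 := (sb E6491 F35499)
theorem E6519 : n23137 = n22469 := (((iv5 F36195)).symm.trans (sb E6493 (iv5 F35019)))
theorem F62645 : act 1 n19540 = n10407 := (sb E6494 (iv0 D21803))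
theorem F62646 : act 1 n21804 = n22465 := (sb E6495 F35010)
theorem E6522 : n23136 = n22468 := (((D22468).symm.trans (sb E6496 D23136))).symm
theorem F62647 : act 5 n10675 = n10407 := (sb E6496 F17689)
theorem E6523 : n22253 = n10894 := (((iv7 F35462)).symm.trans (sb E6496 F17690))
theorem F62648 : act 3 n19693 = n9310 := (sb E6497 (iv3 D19821))
theorem F62649 : act 7 n19693 = n10407 := (sb E6497 F31604)
theorem E6526 : n21838 = n10570 := (((F35502).symm.trans (sb E6498 (iv7 F34295)))).symm
theorem E6529 : n23288 = n10705 := (((F35011).symm.trans (sb E6499 F36685))).symm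
theorem F62650 : act 1 n19305 = n9751 := (sb E6500 (iv0 D20557))
theorem E6530 : n22076 = n20964 := (((iv4 F34545)).symm.trans (sb E6501 (iv4 F34263)))
theorem F62651 : act 1 n21827 = n19563 := (sb E6505 (iv0 F35996))
theorem F62652 : act 5 n21827 = n10827 := (sb E6505 (iv5 D22932))
theorem E6531 : n23130 = n10607 := ((((iv1 D22254)).symm.trans (sb E6506 (iv1 F36192)))).symm
theorem E6532 : n23129 = n10677 := (((F34720).symm.trans (sb E6506 F36190))).symm
theorem E6533 : n23131 = n10674 := (((F35493).symm.trans (sb E6506 F36189))).symm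
theorem E6534 : n21832 = n19573 := ((D21832).symm.trans (sb E6507 F31332))
theorem E6535 : n21833 = n4834 := ((D21833).symm.trans (sb E6507 (iv0 D10569)))
theorem E6538 : n22200 = n20870 := ((((iv5 F33016)).symm.trans (sb E6507 D22200))).symm
theorem E6539 : n19571 = n10420 := ((((iv7 F16581)).symm.trans (sb E6507 (iv7 F35504)))).symm
theorem F62654 : act 1 n9239 = n10417 := (sb E6508 (iv0 D21829))
theorem F62655 : act 0 n9244 = n10417 := (sb E6509 (iv1 D21830))
theorem E6542 : n22862 = n5038 := ((D22862).symm.trans (sb E6510 (iv3 D11051)))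
theorem E6543 : n23588 = n22768 := ((((iv4 F35333)).symm.trans (sb E6510 D23588))).symm
theorem F62656 : act 5 n10801 = n10417 := (sb E6510 F17920)
theorem E6544 : n10948 = n10796 := (((F35469).symm.trans (sb E6510 F17921))).symm
theorem F62657 : act 0 n19788 = n19539 := (sb E6511 (iv1 F35495))
theorem F62658 : act 1 n19788 = n19534 := (sb E6511 F35441)
theorem F62659 : act 2 n19788 = n19673 := (sb E6511 F35437)
theorem F62660 : act 6 n19788 = n19693 := (sb E6511 (iv6 F35464))
theorem F62661 : act 0 n9959 = n18150 := (sb E6512 (iv1 D37870))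
theorem E6545 : n20980 = n18197 := ((D20980).symm.trans (sb E6512 F58737))
theorem E6546 : n40674 = n9954 := ((D40674).symm.trans (sb E6513 (iv1 D20958)))
theorem E6547 : n21704 = n10517 := ((D21704).symm.trans (sb E6514 (iv1 F34537)))
theorem F62662 : act 1 n10355 = n10509 := (sb E6514 (iv0 D22063))
theorem F62663 : act 1 n21044 = n19079 := (sb E6515 (iv0 D40371))
theorem F62664 : act 0 n10027 = n19079 := (sb E6516 (iv1 D40372))
theorem E6548 : n22150 = n9959 := ((D22150).symm.trans (sb E6517 (iv4 D20982)))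
theorem F62665 : act 3 n4966 = n10675 := (sb E6518 (iv3 D22467))
theorem E6549 : n23268 = n22558 := ((((iv7 F35106)).symm.trans (sb E6519 (iv7 F36356)))).symm
theorem F62668 : act 7 n22468 = n23132 := (sb E6522 F36193)
theorem F62669 : act 5 n10894 = n19693 := (sb E6523 (iv5 F34728))
theorem E6551 : n23260 = n22204 := (((D22204).symm.trans (sb E6526 F36349))).symm
theorem E6552 : n10945 = n4896 := ((((iv6 D10705)).symm.trans (sb E6529 (iv6 D23288)))).symm
theorem F62671 : act 4 n20964 = n10517 := (sb E6530 F34545)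
theorem F62672 : act 7 n20964 = n10513 := (sb E6530 (iv7 D22076))
theorem F62673 : act 0 n10607 = n10894 := (sb E6531 (iv1 D23130))
theorem F62674 : act 1 n10677 = n10894 := (sb E6532 (iv0 D23129))
theorem E6553 : n23287 = n10704 := (((F17236).symm.trans (sb E6533 F36379))).symm
theorem F62676 : act 1 n19573 = n10419 := (sb E6534 (iv0 D21832))
theorem F62677 : act 0 n4834 = n10419 := (sb E6535 (iv1 D21833))
theorem F62678 : act 1 n20870 = n10827 := (sb E6538 (iv0 F34988))
theorem F62680 : act 6 n20870 = n10801 := (sb E6538 F34638)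
theorem E6554 : n10937 = n10700 := ((F33018).symm.trans (sb E6538 F35475))
theorem F62681 : act 0 n10420 = n9207 := (sb E6539 (iv1 D19571))
theorem F62682 : act 1 n10420 = n10572 := (sb E6539 F31323)
theorem F62684 : act 3 n5038 = n10801 := (sb E6542 (iv3 D22862))
theorem E6555 : n22854 = n4988 := ((((iv7 F14830)).symm.trans (sb E6542 F35562))).symm
theorem E6556 : n23292 = n22855 := ((((iv7 F35553)).symm.trans (sb E6543 F36689))).symm
theorem F62685 : act 5 n10796 = n19788 := (sb E6544 (iv5 F31557))
theorem E6557 : n10614 = n4985 := ((F35460).symm.trans (sb E6544 (iv6 D10948)))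
theorem F62686 : act 0 n18197 = n9959 := (sb E6545 (iv1 D20980))
theorem E6558 : n20957 = n19211 := ((D20957).symm.trans (sb E6546 (iv1 F61776)))
theorem F62687 : act 1 n9954 = n19199 := (sb E6546 (iv0 D40674))
theorem F62688 : act 1 n10517 = n10355 := (sb E6547 (iv0 D21704))
theorem F62689 : act 4 n9959 = n10556 := (sb E6548 (iv4 D22150))
theorem F62691 : act 5 n22558 = n21840 := (sb E6549 F36355)
theorem E6559 : n10936 = n10699 := ((((iv6 D22558)).symm.trans (sb E6549 (iv6 D23268)))).symm
theorem E6560 : n10934 = n10613 := ((((iv6 F34640)).symm.trans (sb E6551 (iv6 D23260)))).symm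
theorem E6562 : n10932 = n10616 := (((F17146).symm.trans (sb E6552 F17771))).symm
theorem E6563 : n10732 = n10703 := (((D10703).symm.trans (sb E6552 F62609))).symm
theorem F62692 : act 2 n10704 = n10947 := (sb E6553 F36375)
theorem E6566 : n23259 = n22270 := ((((iv7 F35448)).symm.trans (sb E6553 F36377))).symm
theorem E6569 : n22547 = n4983 := (((iv3 F35094)).symm.trans (sb E6554 F17744))
theorem E6570 : n22663 = n22553 := ((((iv4 F35097)).symm.trans (sb E6554 (iv4 F62606)))).symm
theorem F62693 : act 5 n10700 = n10420 := (sb E6554 (iv5 F17745))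
theorem E6571 : n4980 = n4895 := ((((iv6 D10700)).symm.trans (sb E6554 (iv6 D10937)))).symm
theorem F62694 : act 7 n10700 = n20870 := (sb E6554 (iv7 F33018))
theorem F62695 : act 3 n4988 = n10796 := (sb E6555 (iv3 D22854))
theorem F62696 : act 3 n22855 = n20202 := (sb E6556 F36390)
theorem E6573 : n22273 = n10946 := (((iv6 F35456)).symm.trans (sb E6556 (iv6 D23292)))
theorem E6574 : n10943 = n4858 := ((D10943).symm.trans (sb E6557 (iv1 D10614)))
theorem E6575 : n10944 = n4898 := ((D10944).symm.trans (sb E6557 F17140))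
theorem F62697 : act 2 n4985 = n4896 := (sb E6557 (iv2 F35451))
theorem F62698 : act 6 n4985 = n10796 := (sb E6557 (iv6 F35460))
theorem F62699 : act 1 n19211 = n9954 := (sb E6558 (iv0 D20957))
theorem E6576 : n22546 = n4982 := (((iv3 F35093)).symm.trans (sb E6559 F17743))
theorem E6577 : n23267 = n22557 := (((D22557).symm.trans (sb E6559 D23267))).symm
theorem E6578 : n22295 = n22269 := (((D22269).symm.trans (sb E6560 (iv4 F62577)))).symm
theorem E6585 : n23249 = n22260 := ((((iv3 F34732)).symm.trans (sb E6562 D23249))).symm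
theorem E6586 : n23250 = n22266 := ((((iv4 F34742)).symm.trans (sb E6562 D23250))).symm
theorem E6589 : n22550 = n4908 := (((iv1 F35096)).symm.trans (sb E6563 (iv1 D10732)))
theorem E6590 : n22549 = n22298 := ((F35100).symm.trans (sb E6563 F34799))
theorem F62701 : act 0 n22270 = n23294 := (sb E6566 (iv1 F36393))
theorem F62702 : act 1 n22270 = n23293 := (sb E6566 F36392)
theorem F62703 : act 3 n4983 = n10700 := (sb E6569 F35094)
theorem E6594 : n10697 = n2049 := ((((iv6 D4983)).symm.trans (sb E6569 (iv6 D22547)))).symm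
theorem F62704 : act 3 n22553 = n20171 := (sb E6570 F62605)
theorem E6595 : n10731 = n10698 := ((((iv6 D22553)).symm.trans (sb E6570 (iv6 D22663)))).symm
theorem F62705 : act 7 n4895 = n4985 := (sb E6571 (iv7 F14891))
theorem F62706 : act 2 n10946 = n10703 := (sb E6573 F35455)
theorem F62707 : act 6 n10946 = n22855 := (sb E6573 F35456)
theorem F62708 : act 1 n4858 = n4985 := (sb E6574 (iv0 D10943))
theorem E6599 : n23277 = n10609 := ((((iv3 F17128)).symm.trans (sb E6574 D23277))).symm
theorem F62709 : act 0 n4898 = n4985 := (sb E6575 (iv1 D10944))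
theorem E6604 : n23282 = n10685 := ((((iv3 F17228)).symm.trans (sb E6575 D23282))).symm
theorem F62710 : act 3 n4982 = n10699 := (sb E6576 F35093)
theorem F62711 : act 7 n22557 = n23295 := (sb E6577 (iv7 F36395))
theorem F62712 : act 0 n22269 = n10734 := (sb E6578 (iv1 F34798))
theorem F62713 : act 1 n22269 = n10622 := (sb E6578 (iv0 D22295))
theorem E6608 : n20693 = n19349 := (((F34733).symm.trans (sb E6585 F36341))).symm
theorem E6609 : n20583 = n10693 := ((((iv1 F34745)).symm.trans (sb E6586 F36342))).symm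
theorem F62714 : act 1 n4908 = n10703 := (sb E6589 F35096)
theorem F62715 : act 0 n22298 = n10703 := (sb E6590 (iv1 F35100))
theorem F62716 : act 3 n2049 = n4895 := (sb E6594 (iv3 D10697))
theorem F62717 : act 0 n10698 = n22298 := (sb E6595 (iv1 F34800))
theorem F62718 : act 1 n10698 = n4908 := (sb E6595 (iv0 D10731))
theorem E6611 : n22551 = n9517 := ((D22551).symm.trans (sb E6595 (iv3 F62601)))
theorem E6612 : n22662 = n22552 := (((D22552).symm.trans (sb E6595 D22662))).symm
theorem F62719 : act 7 n10698 = n10946 := (sb E6595 (iv7 F62608))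
theorem E6613 : n20659 = n9085 := (((F17129).symm.trans (sb E6599 F36368))).symm
theorem E6614 : n22489 = n20564 := (((iv4 F35050)).symm.trans (sb E6604 (iv4 F36370)))
theorem E6615 : n22680 = n9808 := (((iv1 F35242)).symm.trans (sb E6608 (iv1 D20693)))
theorem E6616 : n22679 = n20655 := ((F35246).symm.trans (sb E6608 F32818))
theorem E6617 : n22529 = n9756 := ((D22529).symm.trans (sb E6609 (iv4 D20583)))
theorem F62720 : act 3 n9517 = n10698 := (sb E6611 (iv3 D22551))
theorem F62721 : act 3 n22552 = n20170 := (sb E6612 F62603)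
theorem F62722 : act 7 n22552 = n23291 := (sb E6612 F62604)
theorem E6618 : n19346 = n9792 := ((D19346).symm.trans (sb E6613 (iv1 D20659)))
theorem E6619 : n19347 = n19322 := ((D19347).symm.trans (sb E6613 F62513))
theorem F62723 : act 4 n20564 = n10685 := (sb E6614 F35050)
theorem F62724 : act 7 n20564 = n10681 := (sb E6614 (iv7 D22489))
theorem E6620 : n20692 = n10737 := ((D20692).symm.trans (sb E6615 (iv1 D22680)))
theorem F62725 : act 1 n9808 = n19349 := (sb E6615 F35242)
theorem F62726 : act 0 n20655 = n19349 := (sb E6616 (iv1 F35246))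
theorem F62727 : act 4 n9756 = n10693 := (sb E6617 (iv4 D22529))
theorem E6621 : n22682 = n20658 := (((D20658).symm.trans (sb E6618 (iv1 F35248)))).symm
theorem F62728 : act 1 n9792 = n9085 := (sb E6618 (iv0 D19346))
theorem F62729 : act 0 n19322 = n9085 := (sb E6619 (iv1 D19347))
theorem F62730 : act 0 n10737 = n20655 := (sb E6620 (iv1 F32817))
theorem F62731 : act 1 n10737 = n9808 := (sb E6620 (iv0 D20692))
theorem E6632 : n23220 = n21463 := ((((iv4 F33733)).symm.trans (sb E6620 (iv4 F36321)))).symm
theorem F62732 : act 2 n20658 = n19349 := (sb E6621 F35244)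
theorem F62733 : act 6 n20658 = n19340 := (sb E6621 F35245)
theorem F62734 : act 7 n20658 = n10737 := (sb E6621 (iv7 D22682))
theorem F62735 : act 1 n21463 = n10924 := (sb E6632 (iv0 D23220))
theorem E6633 : n23200 = n10678 := (((F33732).symm.trans (sb E6632 F36322))).symm
theorem E6634 : n22476 = n10919 := ((D22476).symm.trans (sb E6633 (iv1 D23200)))
theorem E6635 : n23199 = n10685 := ((D23199).symm.trans (sb E6634 (iv1 F35027)))
theorem F62736 : act 1 n10919 = n10678 := (sb E6634 (iv0 D22476))
theorem F62737 : act 1 n10685 = n10919 := (sb E6635 (iv0 D23199))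
theorem F62738 : act 2 n23204 = n22477 := d15_3 F35023 F62737 D23204
theorem E6636 : n23206 = n21440 := ((c20_7 (iv4 F62723) (iv1 F32663) (iv4 D9757) D9756 (iv1 F62617) F32421 (iv4 F33681) (iv1 D23206) (iv4 D10920) D10919 (iv1 F62737))).symm
theorem F62739 : act 0 n21440 = n10920 := (sb E6636 (iv1 D23206))
theorem F62740 : act 1 n21440 = n10925 := (sb E6636 F36308)
theorem F62741 : act 3 n22477 = n23222 := d0_2 (iv3 F36306) F62738 (iv2 D23222) (iv3 D10924) (iv2 F17737)
theorem F62742 : act 7 n22477 = n23201 := d4_2 D23204 F62738 (iv2 D23201)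
theorem F62743 : act 4 n23321 = n23222 := d20_2 (iv4 F30962) (iv1 F36439) (iv3 F62741) (iv1 D22477) (iv3 F33732) F33733 F62730 (iv4 D20655) F15375 F62494
theorem E6637 : n20565 = n20477 := ((c20_1 (iv4 F32543) (iv1 D20565) (iv4 D9752) D9751 (iv1 F62650) F30959 (iv4 F30962) (iv1 F36439) F62743 (iv3 F62741) (iv1 D22477))).symm
theorem F62744 : act 0 n20477 = n9752 := (sb E6637 (iv1 D20565))
theorem F62745 : act 1 n20477 = n9757 := (sb E6637 F32659)
theorem E6638 : n41016 = n23321 := (c1_4 F62743 (iv2 D23222) F62578 (iv2 F62142))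
theorem F62746 : act 2 n23321 = n19312 := (sb E6638 F62142)
theorem F62747 : act 7 n23321 = n19311 := (sb E6638 (iv7 D41016))
theorem F62748 : act 7 n23222 = n41013 := d11_2 (iv7 F62747) F62743 (iv4 D41013)
theorem F62749 : act 4 n22651 = n22263 := d20_0 (iv1 F34744) F17233 (iv3 F17228) (iv1 F35023) F62741 (iv4 F62743) (iv1 D23321) F17808 (iv3 F17256) D22651
theorem E6639 : n22651 = n20457 := (c20_3 (iv4 F17139) D22263 (iv4 F62749) (iv3 D20457) (iv1 F15166) F6343 F3148 (iv1 F3084) F14800 D4985 (iv1 F62708))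
theorem F62750 : act 1 n20457 = n10729 := (sb E6639 (iv0 D22651))
theorem F62751 : act 4 n20457 = n22263 := (sb E6639 F62749)
theorem E6640 : n22522 = n22263 := ((c11_2 (iv7 F35929) F62751 (iv7 F35081) (iv4 F62727))).symm
theorem F62752 : act 2 n22263 = n10692 := (sb E6640 (iv2 D22522))
theorem F62753 : act 7 n22263 = n10693 := (sb E6640 (iv7 F35081))
theorem F62754 : act 4 n22477 = n20453 := d20_0 (iv1 D20453) F15158 F6322 D9713 D20457 F62751 (iv1 F34744) F17233 (iv3 F17228) (iv1 F35023)
theorem F62755 : act 2 n20457 = n22524 := d1_1 (iv4 F62751) (iv4 D22524) (iv2 F62752)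
theorem E6641 : n23222 = n22258 := (c20_4 (iv4 F15232) (iv1 F32504) (iv4 F62754) F62741 (iv1 D22258) F17128 (iv4 F17139) D22263 (iv4 F62751) (iv3 D20457) (iv1 F15166))
theorem F62756 : act 2 n22258 = n10924 := (sb E6641 (iv2 D23222))
theorem F62757 : act 3 n22258 = n22477 := (sb E6641 (iv3 F62741))
theorem F62758 : act 4 n22258 = n23321 := (sb E6641 (iv4 F62743))
theorem F62759 : act 7 n22258 = n41013 := (sb E6641 F62748)
theorem F62760 : act 2 n41013 = n23195 := d4_1 F62759 F36298 (iv2 F62756)
theorem F62761 : act 3 n41013 = n23201 := d8_1 F62759 (iv7 F62742) (iv3 F62757)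
theorem E6642 : n23195 = n22257 := (c15_4 (iv0 D22257) D22258 F62759 F62760)
theorem F62762 : act 2 n22257 = n41013 := (sb E6642 (iv2 F62760))
theorem F62763 : act 3 n22257 = n10918 := (sb E6642 (iv3 D23195))
theorem F62764 : act 7 n22257 = n10924 := (sb E6642 F36298)
theorem F62765 : act 1 n23221 = n41013 := d15_1 D23221 (iv7 F62759) F62756
theorem F62766 : act 4 n41011 = n22257 := d11_3 F62764 F62578 F62141
theorem F62767 : act 1 n41013 = n21463 := d15_0 F62735 (iv7 F62764) F62762
theorem E6643 : n23201 = n20539 := (c20_6 D9757 (iv1 F62745) F32543 (iv3 F33732) (iv1 F62767) F62761 (iv4 D20539) (iv1 F32512) F32507 F15164 (iv1 F15167))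
theorem F62768 : act 2 n20539 = n10919 := (sb E6643 (iv2 D23201))
theorem F62769 : act 3 n20539 = n41013 := (sb E6643 (iv3 F62761))
theorem F62770 : act 7 n20539 = n22477 := (sb E6643 (iv7 F62742))
theorem E6644 : n20646 = n20581 := (c20_4 (iv4 D41013) (iv1 F62504) (iv4 D20647) D20646 (iv1 D20581) (iv3 D9756) D9757 (iv1 F62745) F32543 (iv3 F33732) (iv1 F62767))
theorem F62771 : act 3 n20581 = n9789 := (sb E6644 (iv3 D20646))
theorem F62772 : act 4 n20581 = n10734 := (sb E6644 (iv4 F62546))
theorem F62773 : act 6 n20581 = n19269 := (sb E6644 F62502)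
theorem F62774 : act 7 n20581 = n10729 := (sb E6644 F62503)
theorem E6645 : n41013 = n22491 := ((c20_6 F62727 (iv1 D10693) F7314 (iv3 F7313) D10682 D22491 (iv4 D41013) (iv1 F62504) (iv4 D20647) (iv3 F62771) (iv1 D20581))).symm
theorem F62775 : act 0 n22491 = n23221 := (sb E6645 (iv1 F62765))
theorem F62776 : act 1 n22491 = n21463 := (sb E6645 F62767)
theorem F62777 : act 2 n22491 = n22257 := (sb E6645 (iv2 F62762))
theorem E6646 : n20539 = n10682 := ((((iv3 D22491)).symm.trans (sb E6645 (iv3 F62769)))).symm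
theorem F62778 : act 4 n22491 = n19311 := (sb E6645 (iv4 D41013))
theorem F62779 : act 7 n22491 = n22258 := (sb E6645 (iv7 F62759))
theorem E6647 : n22490 = n10919 := ((D22490).symm.trans (sb E6646 F62768))
theorem E6648 : n22492 = n9746 := ((D22492).symm.trans (sb E6646 (iv4 D20539)))
theorem E6649 : n22495 = n22477 := ((D22495).symm.trans (sb E6646 F62770))
theorem F62780 : act 2 n10919 = n10682 := (sb E6647 (iv2 D22490))
theorem E6650 : n23204 = n10683 := ((D23204).symm.trans (sb E6647 (iv7 F35051)))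
theorem F62781 : act 4 n9746 = n10682 := (sb E6648 (iv4 D22492))
theorem F62782 : act 7 n22477 = n10682 := (sb E6649 (iv7 D22495))
theorem F62783 : act 2 n10683 = n22477 := (sb E6650 F62738)
theorem E6651 : n22496 = n10923 := ((D22496).symm.trans (sb E6650 F36306))
theorem F62784 : act 7 n10683 = n10919 := (sb E6650 (iv7 D23204))
theorem F62785 : act 3 n10923 = n10683 := (sb E6651 (iv3 D22496))
theorem F62786 : act 3 n22498 = n23215 := d6_3 F36316 F62785 D22498
theorem F62787 : act 3 n22499 = n23219 := d7_3 (iv6 D23219) F62785 D22499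
theorem F62788 : act 7 n23202 = n22498 := d8_0 F62786 (iv7 D23215) (iv3 F36304)
theorem F62789 : act 7 n20452 = n22497 := d11_2 F62784 F32511 (iv4 D22497)
theorem F62790 : act 2 n22497 = n20453 := d15_3 F32504 F32509 F62789
theorem E6652 : n20542 = n20453 := (c11_3 F62782 (iv4 F62781) D20542 (iv4 F62754))
theorem E6653 : n22497 = n9747 := (((iv2 F62790)).symm.trans (sb E6652 F32642))
theorem F62791 : act 7 n20453 = n9746 := (sb E6652 (iv7 D20542))
theorem F62792 : act 2 n9747 = n20453 := (sb E6653 F62790)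
theorem E6654 : n20544 = n10683 := ((D20544).symm.trans (sb E6653 (iv4 D22497)))
theorem E6655 : n20537 = n20452 := ((F32641).symm.trans (sb E6653 (iv7 F62789)))
theorem E6656 : n10923 = n10905 := (((iv3 F62785)).symm.trans (sb E6654 (iv3 F32643)))
theorem F62793 : act 4 n10683 = n9747 := (sb E6654 (iv4 D20544))
theorem F62794 : act 2 n20452 = n9746 := (sb E6655 (iv2 D20537))
theorem F62795 : act 7 n20452 = n9747 := (sb E6655 (iv7 F32641))
theorem E6657 : n23194 = n4970 := ((((iv1 D10905)).symm.trans (sb E6656 (iv1 F36297)))).symm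
theorem E6659 : n23158 = n4976 := (((iv2 F36237)).symm.trans (sb E6656 F17737))
theorem F62796 : act 3 n10905 = n10683 := (sb E6656 F62785)
theorem E6660 : n23210 = n23159 := (((D23159).symm.trans (sb E6656 (iv4 F36311)))).symm
theorem E6661 : n23215 = n23071 := ((((iv5 F36126)).symm.trans (sb E6656 (iv5 F36316)))).symm
theorem E6662 : n23219 = n23160 := (((D23160).symm.trans (sb E6656 D23219))).symm
theorem E6663 : n23154 = n4975 := ((F36236).symm.trans (sb E6656 (iv7 D10923)))
theorem E6664 : n10918 = n10904 := (((D10904).symm.trans (sb E6657 (iv1 D23194)))).symm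
theorem F62797 : act 2 n4976 = n10905 := (sb E6659 F36237)
theorem F62798 : act 2 n23159 = n10925 := (sb E6660 F36310)
theorem F62799 : act 7 n23159 = n10920 := (sb E6660 (iv7 D23210))
theorem F62800 : act 2 n23071 = n10926 := (sb E6661 F36315)
theorem F62801 : act 3 n23071 = n22498 := (sb E6661 (iv3 F62786))
theorem F62802 : act 7 n23071 = n10921 := (sb E6661 (iv7 D23215))
theorem F62803 : act 2 n23160 = n10927 := (sb E6662 F36320)
theorem F62804 : act 3 n23160 = n22499 := (sb E6662 (iv3 F62787))
theorem F62805 : act 7 n4975 = n10905 := (sb E6663 (iv7 F36236))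
theorem F62806 : act 2 n10904 = n4975 := (sb E6664 (iv2 D10918))
theorem E6665 : n23155 = n22257 := ((D23155).symm.trans (sb E6664 (iv3 F62763)))
theorem E6666 : n23196 = n23156 := (((D23156).symm.trans (sb E6664 D23196))).symm
theorem E6667 : n23197 = n23157 := (((D23157).symm.trans (sb E6664 D23197))).symm
theorem E6668 : n23198 = n21746 := ((((iv6 F34184)).symm.trans (sb E6664 D23198))).symm
theorem F62807 : act 7 n10904 = n4976 := (sb E6664 (iv7 F17736))
theorem F62808 : act 3 n22257 = n10904 := (sb E6665 (iv3 D23155))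
theorem F62809 : act 2 n23156 = n10920 := (sb E6666 F36299)
theorem F62810 : act 7 n23156 = n10925 := (sb E6666 F36300)
theorem F62811 : act 2 n23157 = n10921 := (sb E6667 F36301)
theorem F62812 : act 7 n23157 = n10926 := (sb E6667 F36302)
theorem F62813 : act 2 n21746 = n10922 := (sb E6668 F36303)
theorem E6669 : n21743 = n21537 := ((c2_3 D21746 F62813 F33872 F34183)).symm
theorem F62814 : act 2 n21537 = n10365 := (sb E6669 F34183)
theorem F62815 : act 7 n21537 = n10364 := (sb E6669 (iv7 D21743))
theorem E6670 : n23218 = n21742 := ((c13_2 F62815 D21742 (iv7 D23218) F33872)).symm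
theorem F62816 : act 7 n21742 = n10922 := (sb E6670 (iv7 D23218))
theorem E6671 : n21739 = n21536 := (c15_4 (iv0 D21536) D21537 F62815 D21739)
theorem F62817 : act 2 n21536 = n10364 := (sb E6671 (iv2 D21739))
theorem F62818 : act 7 n21536 = n10365 := (sb E6671 (iv7 F34182))
theorem E6672 : n21720 = n21534 := ((c3_3 (iv6 F33870) F62817 F33869 F34167)).symm
theorem F62819 : act 2 n21534 = n10362 := (sb E6672 F34167)
theorem E6673 : n10359 = n10281 := ((((iv5 D21534)).symm.trans (sb E6672 F34168))).symm
theorem F62820 : act 7 n21534 = n10357 := (sb E6672 (iv7 D21720))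
theorem E6674 : n21699 = n4663 := ((((iv1 D10281)).symm.trans (sb E6673 (iv1 F34149)))).symm
theorem E6677 : n21709 = n20944 := (((F33129).symm.trans (sb E6673 (iv3 F34158)))).symm
theorem E6678 : n21715 = n21533 := (((D21533).symm.trans (sb E6673 (iv4 F34163)))).symm
theorem E6679 : n21725 = n21535 := (((D21535).symm.trans (sb E6673 D21725))).symm
theorem E6681 : n10354 = n10280 := (((D10280).symm.trans (sb E6674 (iv1 D21699)))).symm
theorem F62822 : act 7 n20944 = n10355 := (sb E6677 (iv7 D21709))
theorem F62823 : act 2 n21533 = n10361 := (sb E6678 F34162)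
theorem F62824 : act 7 n21533 = n10356 := (sb E6678 (iv7 D21715))
theorem F62825 : act 2 n21535 = n10363 := (sb E6679 F34174)
theorem F62827 : act 2 n10280 = n4692 := (sb E6681 (iv2 D10354))
theorem E6682 : n21700 = n21528 := (((D21528).symm.trans (sb E6681 D21700))).symm
theorem E6683 : n21701 = n21529 := (((D21529).symm.trans (sb E6681 D21701))).symm
theorem E6684 : n21702 = n21530 := (((D21530).symm.trans (sb E6681 D21702))).symm
theorem E6685 : n21703 = n21531 := (((D21531).symm.trans (sb E6681 D21703))).symm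
theorem F62828 : act 7 n10280 = n4693 := (sb E6681 (iv7 F16481))
theorem F62829 : act 7 n21528 = n10360 := (sb E6682 F34150)
theorem F62830 : act 2 n21529 = n10356 := (sb E6683 F34151)
theorem F62831 : act 7 n21529 = n10361 := (sb E6683 F34152)
theorem F62833 : act 7 n21530 = n10362 := (sb E6684 F34154)
theorem F62834 : act 2 n21531 = n10358 := (sb E6685 F34155)
theorem E6686 : n23072 = n21723 := ((c2_3 (iv5 F33867) F62834 D21723 F36127)).symm
theorem F62835 : act 2 n21723 = n10875 := (sb E6686 F36127)
theorem F62836 : act 7 n21723 = n10874 := (sb E6686 (iv7 D23072))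
theorem E6687 : n23070 = n21724 := (c13_2 F62836 D23070 (iv7 D21724) D21723)
theorem F62837 : act 5 n21724 = n10874 := (sb E6687 (iv5 D23070))
theorem E6688 : n23067 = n22994 := (c15_4 (iv0 D22994) (iv0 F34172) F62836 D23067)
theorem F62838 : act 2 n22994 = n10874 := (sb E6688 (iv2 D23067))
theorem F62839 : act 7 n22994 = n10875 := (sb E6688 (iv7 F36125))
theorem F62840 : act 4 n40759 = n21528 := d11_3 F62829 F62621 F61869
theorem F62841 : act 2 n21528 = n40761 := d1_1 F62840 (iv4 D40761) D40759
theorem E6689 : n40759 = n40332 := ((c20_2 (iv4 F30609) D40332 F62840 (iv3 D21528) (iv1 F16287) F6793 F3258 (iv1 F3222) (iv4 F14812) D4565 (iv1 F62531))).symm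
theorem F62842 : act 2 n40332 = n19229 := (sb E6689 (iv2 D40759))
theorem F62843 : act 4 n40332 = n21528 := (sb E6689 F62840)
theorem F62844 : act 7 n40332 = n19230 := (sb E6689 (iv7 F61869))
theorem E6690 : n40764 = n40333 := (c15_4 F61399 F61404 F62844 (iv2 F61870))
theorem F62845 : act 2 n40333 = n19230 := (sb E6690 F61870)
theorem F62846 : act 7 n40333 = n19229 := (sb E6690 (iv7 D40764))
theorem F62847 : act 4 n21728 = n40333 := d1_0 F62845 (iv4 F62621) D21728
theorem F62848 : act 7 n40761 = n21728 := d11_0 F62847 F62846 D40761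
theorem F62849 : act 3 n21728 = n22064 := d20_3 (iv4 F30890) (iv1 F61399) (iv4 F62847) (iv1 D22064) (iv3 F31276) F31277 (iv1 F62663) (iv4 D21044) F15823 F62560
theorem E6691 : n20965 = n19868 := ((c20_1 (iv4 F31715) (iv1 D20965) (iv4 D9955) D9954 (iv1 F62699) F30857 (iv4 F30890) (iv1 F61399) (iv4 F62847) F62849 (iv1 D22064))).symm
theorem F62850 : act 0 n19868 = n9955 := (sb E6691 (iv1 D20965))
theorem F62851 : act 1 n19868 = n9960 := (sb E6691 F33145)
theorem F62852 : act 0 n19541 = n40761 := d20_10 (iv4 D40761) (iv1 F62586) (iv4 D21036) (iv3 F62585) F62686 (iv3 D9959) D9960 (iv1 F62851) F31715 (iv3 F31276)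
theorem F62853 : act 3 n40761 = n20939 := d20_5 D9960 (iv1 F62851) F31715 (iv3 F31276) F62852 (iv4 D20939) (iv1 F33066) F33061 F15675 (iv1 F15678)
theorem E6692 : n21706 = n20939 := ((c0_1 F62853 (iv2 D21706) (iv3 D10355) (iv2 F62827) D21528 F62841)).symm
theorem F62854 : act 2 n20939 = n10355 := (sb E6692 (iv2 D21706))
theorem F62855 : act 4 n20938 = n40760 := d5_4 D40761 F62853 (iv4 D20939) D20938 (iv3 D40760)
theorem F62856 : act 7 n20939 = n22064 := d8_2 (iv7 F62848) F62853 (iv3 F62849)
theorem F62857 : act 0 n40761 = n19547 := d20_4 (iv4 F6604) D9949 D20939 (iv3 F62853) F31286 (iv4 F31313) (iv1 F31316) (iv4 F62689) (iv3 D9959) (iv1 D4543)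
theorem E6693 : n20939 = n10514 := ((c20_5 F62689 (iv1 D10556) F6970 (iv3 F6961) D10514 (iv3 F62853) (iv4 D40761) (iv1 F62586) (iv4 D21036) (iv3 F62585) F62686)).symm
theorem E6694 : n22077 = n10355 := ((D22077).symm.trans (sb E6693 F62854))
theorem E6695 : n40761 = n22078 := (((D22078).symm.trans (sb E6693 (iv3 F62853)))).symm
theorem E6696 : n22079 = n9949 := ((D22079).symm.trans (sb E6693 (iv4 D20939)))
theorem E6697 : n22082 = n22064 := ((D22082).symm.trans (sb E6693 F62856))
theorem F62858 : act 2 n10355 = n10514 := (sb E6694 (iv2 D22077))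
theorem E6698 : n20944 = n10515 := (((iv7 F62822)).symm.trans (sb E6694 (iv7 F34546)))
theorem F62859 : act 0 n22078 = n19547 := (sb E6695 F62857)
theorem F62860 : act 1 n22078 = n19541 := (sb E6695 (iv0 F62852))
theorem F62861 : act 2 n22078 = n21528 := (sb E6695 (iv2 F62841))
theorem F62862 : act 4 n22078 = n19229 := (sb E6695 (iv4 D40761))
theorem F62863 : act 7 n22078 = n21728 := (sb E6695 F62848)
theorem F62864 : act 4 n9949 = n10514 := (sb E6696 (iv4 D22079))
theorem F62865 : act 2 n22064 = n10515 := (sb E6697 F34547)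
theorem F62866 : act 7 n22064 = n10514 := (sb E6697 (iv7 D22082))
theorem E6699 : n22083 = n10281 := ((D22083).symm.trans (sb E6698 (iv3 F33129)))
theorem E6700 : n22084 = n9950 := ((D22084).symm.trans (sb E6698 (iv4 D20944)))
theorem F62867 : act 7 n10515 = n10355 := (sb E6698 F62822)
theorem F62868 : act 3 n10281 = n10515 := (sb E6699 (iv3 D22083))
theorem F62869 : act 4 n9950 = n10515 := (sb E6700 (iv4 D22084))
theorem F62870 : act 4 n22064 = n20942 := d1_2 F62869 (iv2 F62865) F33128
theorem F62871 : act 4 n22086 = n20946 := d10_3 (iv6 D20946) F62869 D22086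
theorem E6701 : n20937 = n20900 := ((c11_4 (iv7 F33127) F62869 F62867 F33065)).symm
theorem F62872 : act 2 n20900 = n9949 := (sb E6701 (iv2 D20937))
theorem F62873 : act 7 n20900 = n9950 := (sb E6701 (iv7 F33127))
theorem E6702 : n20942 = n20901 := (c15_4 F33058 F33063 F62873 (iv2 F33128))
theorem F62874 : act 2 n20901 = n9950 := (sb E6702 F33128)
theorem F62875 : act 4 n20901 = n22064 := (sb E6702 (iv4 F62870))
theorem F62876 : act 7 n20901 = n9949 := (sb E6702 (iv7 D20942))
theorem E6703 : n21728 = n19545 := (c20_10 (iv4 F31283) F62583 (iv4 D10016) (iv3 D4560) (iv1 F3195) (iv3 F6607) (iv4 F15691) (iv1 F33058) F62875 (iv3 F62849) (iv1 D19545))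
theorem F62877 : act 2 n19545 = n10360 := (sb E6703 (iv2 D21728))
theorem F62878 : act 3 n19545 = n22064 := (sb E6703 F62849)
theorem F62879 : act 4 n19545 = n40333 := (sb E6703 F62847)
theorem F62880 : act 7 n19545 = n22078 := (sb E6703 (iv7 F62863))
theorem F62881 : act 4 n20905 = n19556 := d20_6 (iv4 F62875) (iv1 D20901) F15669 F6593 D9939 D20905 (iv1 F31315) F17034 (iv3 F16716) (iv1 F34533)
theorem E6704 : n22143 = n19556 := ((c11_2 (iv7 F35907) F62881 (iv7 F34607) (iv4 F62689))).symm
theorem F62882 : act 2 n19556 = n10555 := (sb E6704 (iv2 D22143))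
theorem F62883 : act 7 n19556 = n10556 := (sb E6704 (iv7 F34607))
theorem E6705 : n20905 = n18194 := ((c20_11 F62881 (iv1 F31315) F17034 (iv3 F16716) (iv1 F34533) (iv3 F62878) F62879 (iv1 D40333) F30609 F13915 D18194)).symm
theorem E6706 : n38002 = n9939 := ((D38002).symm.trans (sb E6705 (iv3 D20905)))
theorem E6707 : n38003 = n19556 := ((D38003).symm.trans (sb E6705 F62881))
theorem E6708 : n38006 = n9959 := ((D38006).symm.trans (sb E6705 F35907))
theorem F62884 : act 3 n9939 = n18194 := (sb E6706 (iv3 D38002))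
theorem E6709 : n22073 = n20906 := (((D20906).symm.trans (sb E6706 (iv4 F62237)))).symm
theorem F62885 : act 4 n19556 = n18194 := (sb E6707 (iv4 D38003))
theorem E6710 : n20981 = n18195 := ((D20981).symm.trans (sb E6708 F58842))
theorem F62886 : act 7 n9959 = n18194 := (sb E6708 (iv7 D38006))
theorem F62887 : act 1 n20906 = n10513 := (sb E6709 (iv0 D22073))
theorem F62888 : act 2 n18195 = n9959 := (sb E6710 (iv2 D20981))
theorem F62889 : act 2 n20909 = n38007 := d0_5 (iv3 D38007) F62888 (iv3 D9959) F35899 D20909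
theorem E6711 : n38008 = n22148 := ((c1_4 (iv4 D38008) F62888 F62689 (iv2 F34608))).symm
theorem F62890 : act 4 n22148 = n18195 := (sb E6711 (iv4 D38008))
theorem F62891 : act 2 n20983 = n38009 := d2_3 (iv5 D38009) F62888 D20983
theorem F62892 : act 2 n20984 = n38010 := d3_3 (iv6 D38010) F62888 D20984
theorem E6712 : n38001 = n37869 := ((c15_2 (iv0 F62686) F58736 (iv7 F58841) F62888)).symm
theorem F62893 : act 2 n37869 = n18194 := (sb E6712 (iv2 D38001))
theorem F62894 : act 7 n37869 = n18195 := (sb E6712 (iv7 F58841))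
theorem E6713 : n37869 = n22145 := ((c11_4 F62894 (iv4 F62890) (iv7 D22148) D22145)).symm
theorem F62895 : act 0 n22145 = n18197 := (sb E6713 (iv1 F58736))
theorem F62896 : act 1 n22145 = n18150 := (sb E6713 (iv0 D37869))
theorem F62897 : act 2 n22145 = n18194 := (sb E6713 F62893)
theorem F62898 : act 7 n22145 = n18195 := (sb E6713 F62894)
theorem E6714 : n40706 = n38007 := ((c8_2 F62898 D38007 (iv7 D40706) (iv3 F62238))).symm
theorem E6715 : n20909 = n19209 := (((iv2 F62889)).symm.trans (sb E6714 F61818))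
theorem F62899 : act 7 n38007 = n19208 := (sb E6714 (iv7 D40706))
theorem F62900 : act 2 n19209 = n38007 := (sb E6715 F62889)
theorem E6716 : n40707 = n9940 := ((D40707).symm.trans (sb E6715 (iv3 D20909)))
theorem E6717 : n40708 = n10351 := ((D40708).symm.trans (sb E6715 F33069))
theorem E6718 : n40701 = n9954 := ((F61817).symm.trans (sb E6715 F35900))
theorem F62901 : act 3 n9940 = n19209 := (sb E6716 (iv3 D40707))
theorem E6719 : n22074 = n20910 := (((D20910).symm.trans (sb E6716 F61819))).symm
theorem F62902 : act 4 n10351 = n19209 := (sb E6717 (iv4 D40708))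
theorem E6720 : n20959 = n19208 := ((D20959).symm.trans (sb E6718 (iv2 D40701)))
theorem F62903 : act 7 n9954 = n19209 := (sb E6718 (iv7 F61817))
theorem F62904 : act 0 n20910 = n10513 := (sb E6719 (iv1 D22074))
theorem F62905 : act 2 n19208 = n9954 := (sb E6720 (iv2 D20959))
theorem E6721 : n40703 = n10350 := ((D40703).symm.trans (sb E6720 F35950))
theorem F62906 : act 4 n10350 = n19208 := (sb E6721 (iv4 D40703))
theorem F62907 : act 4 n22144 = n21686 := d5_4 F62906 (iv3 F62238) (iv4 D22145) D22144 (iv3 D21686)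
theorem F62908 : act 4 n40705 = n21689 := d10_3 (iv6 D21689) F62906 D40705
theorem F62909 : act 4 n38007 = n21524 := d11_3 F35949 F62906 (iv7 F62899)
theorem E6722 : n21711 = n21610 := (c20_2 D10361 (iv1 F34160) F34011 F30836 (iv1 F62896) F62238 (iv4 F62906) (iv1 F33865) F33862 F16285 (iv1 F16288))
theorem F62910 : act 0 n21610 = n10356 := (sb E6722 (iv1 D21711))
theorem F62911 : act 1 n21610 = n10361 := (sb E6722 F34160)
theorem E6723 : n40675 = n38007 := (c20_11 F62909 (iv1 D21524) F16279 F6750 D10280 D21528 (iv4 F62843) (iv1 F61404) F30890 (iv3 F30857) (iv1 F61769))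
theorem F62912 : act 0 n38007 = n19199 := (sb E6723 (iv1 D40675))
theorem F62913 : act 1 n38007 = n19211 := (sb E6723 F61769)
theorem E6724 : n22148 = n19557 := ((c20_2 (iv4 F17034) (iv1 F31310) F62890 D38007 F62912 F30836 F29323 (iv1 F62367) (iv4 D19562) F62164 (iv1 F14378))).symm
theorem F62914 : act 2 n19557 = n10556 := (sb E6724 F34608)
theorem F62915 : act 4 n19557 = n18195 := (sb E6724 F62890)
theorem F62916 : act 7 n19557 = n10555 := (sb E6724 (iv7 D22148))
theorem E6725 : n21528 = n19544 := ((c20_11 (iv4 F62843) (iv1 F61404) F30890 (iv3 F30857) (iv1 F62913) (iv3 D38007) (iv4 F62915) (iv1 D19557) F14372 (iv3 F14359) D19544)).symm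
theorem F62917 : act 2 n19544 = n22078 := (sb E6725 (iv2 F62861))
theorem F62918 : act 3 n19544 = n10280 := (sb E6725 (iv3 D21528))
theorem F62919 : act 4 n19544 = n40332 := (sb E6725 (iv4 F62843))
theorem F62920 : act 7 n19544 = n10360 := (sb E6725 F62829)
theorem F62922 : act 2 n20962 = n40705 := d3_3 (iv6 D40705) F62905 D20962
theorem F62923 : act 7 n40709 = n20961 := d13_2 F62903 D40709 (iv5 D20961)
theorem F62924 : act 3 n20911 = n40709 := d8_3 F62923 F33142 (iv7 F35898)
theorem F62925 : act 6 n40709 = n20993 := d7_2 F33070 F62924 (iv3 D20993)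
theorem F62926 : act 0 n40676 = n20993 := d21_4 (iv5 D19212) (iv1 F14109) D19200 (iv6 F61772) (iv6 F62925) (iv5 D40709) (iv1 D19209) D19210 F30856 (iv1 F30861)
theorem F62927 : act 4 n40710 = n21693 := d10_3 (iv6 D21693) F62902 D40710
theorem F62928 : act 3 n40710 = n20912 := d7_3 (iv6 D20912) F62901 D40710
theorem F62929 : act 0 n21693 = n19778 := d20_7 (iv4 F15563) (iv1 F15566) (iv4 F15293) (iv3 F30701) F35790 (iv3 F62928) F62927 (iv4 D19778) F14476 D9291
theorem F62930 : act 7 n38004 = n20983 := d13_2 F62886 D38004 (iv5 D20983)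
theorem F62932 : act 3 n38005 = n20094 := d7_3 F31904 F62884 D38005
theorem F62933 : act 5 n20092 = n38005 := d6_0 F62932 (iv5 D20094) D20092
theorem F62934 : act 0 n40879 = n20092 := d21_1 (iv5 F61984) F62933 (iv6 D38005) (iv1 F58735) (iv6 D37868) F29321 (iv1 F30774) D40552 (iv6 F61677) (iv1 F35150)
theorem F62935 : act 0 n20092 = n22610 := d21_7 (iv5 D8554) F5822 D3849 D8582 D18194 D38005 (iv5 F62933) (iv5 D22610) (iv6 D10716) (iv1 F13382)
theorem F62936 : act 3 n22085 = n21534 := d6_3 (iv5 D21534) F62868 D22085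
theorem F62937 : act 3 n22086 = n21535 := d7_3 (iv6 D21535) F62868 D22086
theorem F62938 : act 6 n21740 = n22085 := d7_0 F62936 (iv6 F33869) D21740
theorem F62939 : act 7 n21707 = n22085 := d8_0 F62936 F62820 (iv3 F34156)
theorem F62940 : act 0 n22065 = n21740 := d21_4 (iv5 D9982) F17386 D10510 (iv6 F34535) F62938 (iv5 D22085) (iv1 D10515) D10516 F16715 (iv1 F17393)
theorem F62941 : act 4 n22081 = n20941 := d10_3 (iv6 D20941) F62864 D22081
theorem F62942 : act 2 n22080 = n21707 := d2_3 (iv5 D21707) F62858 D22080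
theorem F62943 : act 2 n22081 = n21708 := d3_3 (iv6 D21708) F62858 D22081
theorem E6726 : n41011 = n23320 := ((c20_2 (iv4 F17808) D23320 F62766 F62808 (iv1 F17718) F7404 F3345 (iv1 F3331) (iv4 F14810) D4429 (iv1 F62485))).symm
theorem F62944 : act 2 n23320 = n19311 := (sb E6726 (iv2 D41011))
theorem F62945 : act 4 n23320 = n22257 := (sb E6726 F62766)
theorem F62946 : act 7 n23320 = n19312 := (sb E6726 (iv7 F62141))
theorem F62947 : act 4 n40971 = n23151 := d20_0 (iv1 D23151) F17710 F7390 D10904 (iv3 F62808) (iv4 F62945) (iv1 F36444) F30962 (iv3 F30959) (iv1 F62114)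
theorem F62948 : act 2 n20462 = n40971 := d1_3 F62947 (iv2 F36229) (iv4 F32516)
theorem F62949 : act 7 n20559 = n40971 := d11_0 F62947 F36228 F35945
theorem F62950 : act 3 n40971 = n22652 := d20_3 (iv4 F17734) (iv1 F36227) (iv4 F62947) (iv1 D22652) F17256 (iv4 F17808) D23320 F62945 F62808 (iv1 F17718)
theorem E6727 : n22652 = n20582 := (c0_1 F62950 (iv2 D20582) (iv3 D9756) F35920 D20462 F62948)
theorem F62951 : act 0 n20582 = n10729 := (sb E6727 (iv1 D22652))
theorem F62952 : act 3 n20582 = n40971 := (sb E6727 (iv3 F62950))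
theorem F62953 : act 4 n20582 = n22264 := d20_6 (iv4 F62945) (iv1 F36444) F30962 (iv3 F30959) (iv1 F62114) (iv3 F62952) (iv1 D22264) F17139 (iv3 F17128) D22257
theorem E6728 : n22527 = n22264 := ((c1_1 F62953 F35082 (iv4 F62727) D20582)).symm
theorem F62954 : act 2 n22264 = n10693 := (sb E6728 F35082)
theorem F62955 : act 7 n22264 = n10692 := (sb E6728 (iv7 D22527))
theorem F62956 : act 7 n22524 = n20582 := d11_0 F62953 F62955 D22524
theorem F62957 : act 3 n20559 = n22524 := d8_3 F62956 F62952 (iv7 F62949)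
theorem F62958 : act 1 n20581 = n22524 := d15_1 D20581 F62956 (iv2 D20582)
theorem F62959 : act 4 n22523 = n23183 := d5_4 F35945 F62957 (iv4 D22524) D22523 (iv3 D23183)
theorem F62960 : act 0 n20413 = n22524 := d20_4 D10925 (iv1 F62740) F33681 (iv3 F32421) (iv3 F62957) (iv4 F35945) (iv1 F36235) F36232 F17716 (iv1 F17719)
theorem E6729 : n23221 = n22260 := ((c20_4 (iv4 D22524) (iv1 F34746) F34742 (iv3 F34732) (iv1 D23221) (iv3 D10924) D10925 (iv1 F62740) F33681 (iv3 F32421) F62960)).symm
theorem F62961 : act 0 n22260 = n10924 := (sb E6729 (iv1 D23221))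
theorem F62962 : act 1 n22260 = n22491 := (sb E6729 (iv0 F62775))
theorem E6730 : n40985 = n22524 := (c20_6 F62578 (iv1 D19312) F14154 (iv3 F14153) D19302 D40985 (iv4 D22524) (iv1 F34746) F34742 (iv3 F34732) F62961)
theorem E6731 : n20559 = n19302 := (((iv3 F62957)).symm.trans (sb E6730 (iv3 D40985)))
theorem E6732 : n40984 = n9751 := ((D40984).symm.trans (sb E6731 (iv2 D20559)))
theorem F62963 : act 3 n19302 = n22524 := (sb E6731 F62957)
theorem E6733 : n40986 = n10914 := ((D40986).symm.trans (sb E6731 (iv4 F35945)))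
theorem E6734 : n40989 = n40971 := ((D40989).symm.trans (sb E6731 F62949))
theorem F62964 : act 2 n9751 = n19302 := (sb E6732 (iv2 D40984))
theorem E6735 : n20462 = n19303 := (((iv7 F35921)).symm.trans (sb E6732 (iv7 F62128)))
theorem F62965 : act 4 n10914 = n19302 := (sb E6733 (iv4 D40986))
theorem F62966 : act 7 n40971 = n19302 := (sb E6734 (iv7 D40989))
theorem F62967 : act 2 n19303 = n40971 := (sb E6735 F62948)
theorem E6736 : n40990 = n9714 := ((D40990).symm.trans (sb E6735 (iv3 D20462)))
theorem E6737 : n40991 = n10915 := ((D40991).symm.trans (sb E6735 F32516))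
theorem F62968 : act 7 n19303 = n9751 := (sb E6735 F35921)
theorem F62969 : act 3 n9714 = n19303 := (sb E6736 (iv3 D40990))
theorem F62970 : act 4 n10915 = n19303 := (sb E6737 (iv4 D40991))
theorem F62971 : act 4 n40993 = n23188 := d10_3 (iv6 D23188) F62970 D40993
theorem F62972 : act 3 n40992 = n20090 := d6_3 F31902 F62969 D40992
theorem F62973 : act 3 n40993 = n19443 := d7_3 F35937 F62969 D40993
theorem E6738 : n23548 = n23188 := ((c20_7 F14828 F14827 F15278 (iv3 F14189) D19443 (iv3 F62973) F62971 (iv1 D23548) (iv4 D11039) F7446 D5038)).symm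
theorem F62974 : act 0 n23188 = n11039 := (sb E6738 (iv1 D23548))
theorem F62975 : act 1 n23188 = n23519 := (sb E6738 F36657)
theorem F62976 : act 0 n41235 = n40993 := d18_0 F62971 F62974 (iv4 D11039) (iv5 D5029) D5028 (iv0 F35640) F17654 (iv0 F35639) D41235
theorem F62977 : act 6 n20087 = n40992 := d7_0 F62972 (iv6 D20090) D20087
theorem F62978 : act 7 n20561 = n40992 := d8_0 F62972 F35919 (iv3 F32656)
theorem F62979 : act 4 n40988 = n23185 := d10_3 (iv6 D23185) F62965 D40988
theorem F62980 : act 2 n40987 = n20561 := d2_3 (iv5 D20561) F62964 D40987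
theorem F62981 : act 2 n40988 = n20562 := d3_3 (iv6 D20562) F62964 D40988
theorem F62982 : act 6 n22498 = n23068 := d7_2 D23071 F62801 (iv3 D23068)
theorem F62983 : act 4 n20546 = n22499 := d10_3 (iv6 D22499) F62793 D20546
theorem F62984 : act 4 n41012 = n20538 := d5_4 F62781 D22491 F62778 D41012 (iv3 D20538)
theorem F62985 : act 4 n22494 = n20541 := d10_3 (iv6 D20541) F62781 D22494
theorem F62986 : act 2 n22493 = n23202 := d2_3 (iv5 D23202) F62780 D22493
theorem F62987 : act 2 n22494 = n23203 := d3_3 (iv6 D23203) F62780 D22494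
theorem F62988 : act 5 n23203 = n22088 := d21_6 (iv5 D4237) (iv1 F6299) (iv5 F7241) D10678 (iv1 F62736) D23203 (iv1 D22088) (iv5 D10516) (iv6 D4816) (iv1 F6914)
theorem F62989 : act 3 n22088 = n21537 := d6_1 F62988 (iv5 F33872) (iv3 F36305)
theorem F62990 : act 7 n21740 = n22088 := d8_0 F62989 F62815 D21740
theorem F62991 : act 4 n22088 = n21001 := d20_6 D10032 (iv1 F16590) F16587 (iv3 F16484) (iv1 F33871) (iv3 F62989) (iv1 D21001) (iv4 D9965) F6605 D4569
theorem F62992 : act 2 n21740 = n22087 := d15_3 (iv0 D22087) D22088 (iv7 F62990)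
theorem F62993 : act 4 n22528 = n20586 := d5_2 F62727 D22528 (iv3 D20586) (iv4 D9757) D9756
theorem F62994 : act 4 n22531 = n20585 := d10_3 (iv6 D20585) F62727 D22531
theorem E6739 : n22847 = n22531 := (c20_2 (iv4 F17313) D22847 F62994 F32675 F35610 F14188 D9133 F15269 (iv4 F14828) F62684 (iv1 D10801))
theorem F62995 : act 0 n22531 = n22343 := (sb E6739 (iv1 F35414))
theorem F62996 : act 1 n22531 = n10793 := (sb E6739 (iv0 D22847))
theorem E6740 : n41204 = n20585 := (((F62994).symm.trans (sb E6739 (iv4 F62402)))).symm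
theorem F62997 : act 0 n20585 = n22761 := (sb E6740 (iv1 F62403))
theorem F62998 : act 1 n20585 = n19379 := (sb E6740 (iv0 D41204))
theorem F62999 : act 0 n22876 = n20588 := d20_7 (iv4 F35337) (iv1 F35425) (iv4 D22852) F62158 (iv1 F17323) (iv3 F17331) D22876 F32676 (iv3 F32675) F62997
theorem E6741 : n22487 = n20463 := ((c20_1 D20463 (iv1 D22487) F17225 F7313 D4895 (iv3 F62716) (iv4 F14798) (iv1 F3083) (iv4 F3148) (iv3 F6343) (iv1 F15159))).symm
theorem F63000 : act 0 n20463 = n10681 := (sb E6741 (iv1 D22487))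
theorem E6742 : n22486 = n20458 := ((c15_4 (iv0 D22486) (iv0 F63000) F35923 (iv2 F35930))).symm
theorem F63001 : act 1 n20458 = n10681 := (sb E6742 (iv0 D22486))
theorem F63002 : act 5 n23293 = n19676 := d21_2 D10947 D23293 (iv6 D19676) D19673 (iv6 F35006) (iv5 D22465) (iv1 F34729) F34725 F17124 F62709
theorem F63003 : act 6 n19680 = n23293 := d12_0 F63002 (iv6 D19676) (iv5 D9239) D9240 D19680
theorem F63004 : act 2 n22570 = n23291 := d2_3 (iv5 D23291) F62706 D22570
theorem F63005 : act 5 n23294 = n19706 := d21_2 D22270 F62701 (iv6 D19706) (iv1 D9248) (iv6 D4181) F3039 (iv1 F6294) F6987 D4858 D10613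
theorem E6743 : n22044 = n19706 := (c21_11 (iv5 F63005) (iv1 D23294) (iv5 D10947) F62698 (iv1 D10796) D10798 F17319 (iv1 F17367) (iv5 D10501) D10502 D22044)
theorem F63006 : act 0 n19706 = n22578 := (sb E6743 (iv1 F35117))
theorem F63007 : act 1 n19706 = n10502 := (sb E6743 (iv0 D22044))
theorem F63008 : act 3 n41200 = n19444 := d20_3 D10797 D22857 (iv4 F62387) (iv1 D19444) F14189 (iv4 F15278) F14835 (iv4 F14801) F62695 (iv1 D10796)
theorem F63009 : act 5 n20984 = n41200 := d6_0 F63008 F35630 (iv3 F33159)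
theorem F63010 : act 7 n20585 = n41200 := d8_0 F63008 F35940 (iv3 F32675)
theorem F63011 : act 7 n22857 = n22531 := d11_2 F63010 F62387 F62994
theorem F63012 : act 2 n41200 = n41205 := d15_3 F62404 (iv0 F62997) F63010
theorem F63013 : act 2 n20585 = n41201 := d15_3 F62389 F62388 (iv7 F63010)
theorem F63014 : act 2 n41240 = n40993 := d0_3 (iv3 F32675) F63013 (iv3 F62467) F62973 F35936
theorem F63015 : act 2 n22858 = n22531 := d1_3 F62994 F63013 (iv4 F62390)
theorem F63016 : act 6 n41201 = n20582 := d3_2 D20585 F63013 (iv2 D20582)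
theorem F63017 : act 7 n41201 = n41205 := d4_2 (iv7 F63010) F63013 (iv2 F63012)
theorem F63018 : act 7 n22848 = n22858 := d11_2 F63017 F62405 F62390
theorem F63019 : act 2 n22857 = n22848 := d4_3 F63018 F63015 (iv7 F63011)
theorem F63020 : act 6 n40971 = n41240 := d7_2 F63016 F62952 F62467
theorem F63021 : act 6 n22264 = n22858 := d10_2 F63016 F62953 F62390
theorem F63022 : act 6 n23534 = n23151 := d10_2 F63020 F62466 (iv4 F62947)
theorem F63023 : act 2 n23188 = n23534 := d3_3 F63022 (iv2 F36229) D23188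
theorem F63024 : act 7 n23535 = n23188 := d15_2 (iv0 D23534) D23535 F63023
theorem F63025 : act 7 n23547 = n23534 := d15_2 F62975 F36656 (iv2 F63023)
theorem F63026 : act 2 n23535 = n23547 := d4_3 F63025 (iv2 F63023) (iv7 F63024)
theorem F63027 : act 4 n22152 = n20984 := d17_4 (iv1 F35583) D10792 D22843 F35955 F63009 (iv0 D41200) (iv5 D19378) (iv0 F35586) F30770
theorem F63028 : act 2 n23295 = n22572 := d1_3 (iv4 D22572) F62692 D23295
theorem F63029 : act 2 n22464 = n23132 := d3_3 (iv6 F36394) F63028 F35111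
theorem F63030 : act 4 n22149 = n20985 := d5_2 F62689 D22149 (iv3 D20985) (iv4 D9960) D9959
theorem F63033 : act 0 n22375 = n20219 := d20_7 (iv4 F14912) (iv1 F14914) F14907 F62665 (iv1 D10675) (iv3 F17191) D22375 (iv4 D20219) (iv3 D9547) (iv1 F6197)
theorem F63034 : act 7 n21080 = n19543 := d15_2 (iv0 F62664) D21080 F31282
theorem F63035 : act 2 n21047 = n21080 := d4_3 F63034 F31282 (iv7 F62582)
theorem F63036 : act 6 n21906 = n21080 := d14_5 F63034 (iv6 D19543) F14355 D10447 D21906
theorem F63037 : act 6 n38011 = n20983 := d21_5 (iv5 D18198) (iv1 D8584) D8585 (iv6 F29364) D38011 (iv5 D20983) F62661 D37871 F58739 (iv1 F29368)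
theorem F63038 : act 3 n20913 = n38011 := d7_3 F63037 F33158 (iv6 F33071)
theorem F63039 : act 7 n38011 = n20997 := d8_2 (iv7 F35896) F63038 (iv3 D20997)
theorem F63040 : act 0 n21825 = n22787 := d17_0 (iv5 D22787) (iv1 F34846) F34843 F17174 (iv5 F14344) F14347 D9239 F62654 (iv4 F34283)
theorem F63041 : act 2 n22193 = n21825 := d1_3 F34283 F62638 (iv4 F34636)
theorem F63043 : act 5 n20562 = n40712 := d21_6 F14101 F12125 (iv5 F14148) D19298 (iv1 F62632) D20562 (iv1 D40712) (iv5 D19210) (iv6 D9028) D9026
theorem F63044 : act 3 n40712 = n20577 := d6_1 F63043 (iv5 D20577) (iv3 F32657)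
theorem F63045 : act 7 n20993 = n40712 := d8_0 F63044 F35894 D20993
theorem F63046 : act 4 n40712 = n21749 := d20_6 (iv4 F15868) (iv1 F15879) F15876 (iv3 F15696) F32672 (iv3 F63044) (iv1 D21749) (iv4 D10366) F6791 D4718
theorem F63047 : act 2 n20993 = n40711 := d15_3 (iv0 D40711) D40712 (iv7 F63045)
theorem F63048 : act 4 n40765 = n21732 := d5_2 F62621 D40765 (iv3 D21732) (iv4 D10361) D10360
theorem F63049 : act 4 n40768 = n21731 := d10_3 (iv6 D21731) F62621 D40768
theorem F63050 : act 2 n22192 = n21824 := d2_3 (iv5 D21824) F62618 D22192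
theorem F63051 : act 6 n40876 = n20584 := d21_5 (iv5 D20115) (iv1 F27429) D19046 (iv6 F30924) D40876 (iv5 D20584) (iv1 F62617) (iv5 F59873) (iv6 D38855) (iv1 F31931)
theorem F63052 : act 3 n19940 = n40876 := d7_3 F63051 F32674 (iv6 F31765)
theorem F63053 : act 7 n40876 = n20092 := d8_2 (iv7 F35917) F63052 (iv3 D20092)
theorem F63054 : act 4 n22470 = n40876 := d20_2 D10676 D22470 (iv3 F63052) (iv1 F31773) F14676 (iv4 F14912) (iv1 F14914) F14907 F62665 (iv1 D10675)
theorem F63055 : act 4 n41017 = n23226 := d5_2 F62578 D41017 (iv3 D23226) (iv4 D10925) D10924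
theorem F63056 : act 4 n41020 = n23225 := d10_3 (iv6 D23225) F62578 D41020
theorem F63057 : act 0 n38013 = n21835 := d20_7 (iv4 F16587) F16589 (iv4 D10034) D10033 (iv1 F62570) F30612 D38013 (iv4 D21835) (iv3 D10419) (iv1 F6809)
theorem F63058 : act 5 n40413 = n20696 := d21_6 (iv5 F62568) (iv1 D21084) (iv5 D10028) D10029 (iv1 F62497) D40413 (iv1 F32821) (iv5 D20656) D20657 F62520
theorem F63059 : act 6 n20696 = n23373 := d12_2 D40413 F63058 (iv5 F36496) (iv6 D19090) D19089
theorem F63060 : act 2 n21085 = n40810 := d1_3 (iv4 D40810) F62566 D21085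
theorem F63061 : act 2 n21081 = n40808 := d2_3 (iv5 D40808) F62565 D21081
theorem F63062 : act 2 n21082 = n40809 := d3_3 (iv6 D40809) F62565 D21082
theorem E6744 : n40698 = n21533 := ((c20_1 D21533 (iv1 D40698) F30854 F14108 F62564 (iv3 D4560) F14803 (iv1 F3221) (iv4 F3258) (iv3 F6793) (iv1 F16280))).symm
theorem F63063 : act 0 n21533 = n19207 := (sb E6744 (iv1 D40698))
theorem E6745 : n40697 = n21529 := ((c15_4 (iv0 D40697) (iv0 F63063) F62824 (iv2 F62830))).symm
theorem F63064 : act 1 n21529 = n19207 := (sb E6745 (iv0 D40697))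
theorem F63067 : act 0 n40878 = n23132 := d20_7 (iv4 F17696) (iv1 F17698) (iv4 D9552) D9551 (iv1 F62552) (iv3 F30923) D40878 (iv4 D23132) (iv3 D10894) (iv1 F7383)
theorem F63068 : act 2 n20219 = n40959 := d1_3 (iv4 D40959) F62518 D20219
theorem F63069 : act 2 n41051 = n20698 := d3_3 F32823 F63068 (iv6 F62241)
theorem F63070 : act 0 n21082 = n41187 := d17_0 (iv5 D41187) (iv1 F61963) F61960 F30918 (iv5 F30593) F30596 D19089 F62497 (iv4 F33278)
theorem F63071 : act 5 n20697 = n19731 := d21_2 D20656 (iv1 F32822) (iv6 D19731) (iv1 D9256) (iv6 D4188) F3042 D1795 (iv5 F7323) D4995 (iv1 F62495)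
theorem E6746 : n40656 = n19731 := (c21_11 (iv5 F63071) (iv1 D20697) (iv5 D9809) D9810 F62469 D19390 F31015 (iv1 F31068) (iv5 D19190) D19191 D40656)
theorem F63072 : act 0 n19731 = n41055 := (sb E6746 (iv1 F62247))
theorem F63073 : act 1 n19731 = n19191 := (sb E6746 (iv0 D40656))
theorem F63074 : act 2 n20694 = n41049 := d2_3 (iv5 D41049) F62492 D20694
theorem E6747 : n40981 = n23159 := ((c20_1 D23159 (iv1 D40981) F30956 F14153 F62490 (iv3 D4424) F14807 (iv1 F3330) (iv4 F3345) (iv3 F7404) (iv1 F17711))).symm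
theorem F63075 : act 0 n23159 = n19301 := (sb E6747 (iv1 D40981))
theorem E6748 : n40980 = n23156 := ((c15_4 (iv0 D40980) (iv0 F63075) F62799 (iv2 F62809))).symm
theorem F63076 : act 1 n23156 = n19301 := (sb E6748 (iv0 D40980))
theorem E6749 : n23543 = n22828 := ((c20_3 (iv4 F31009) D41221 F62416 (iv3 D23543) (iv1 D11038) F7446 D5040 (iv1 F16101) F16021 F62481 (iv1 D19393))).symm
theorem F63077 : act 3 n22828 = n11038 := (sb E6749 (iv3 D23543))
def n41241 : Q := act 1 n19400
theorem D41241 : act 1 n19400 = n41241 := rfl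
theorem F63078 : act 7 n41241 = n40993 := d15_2 (iv0 D41240) D41241 (iv2 F63014)
theorem F63079 : act 4 n41241 = n23535 := d17_9 (iv1 D23535) D23536 F36653 (iv5 D21304) (iv4 F32361) F32362 F35590 D19400 D41241
theorem F63080 : act 3 n19439 = n41241 := d20_5 F14801 (iv1 F15270) (iv4 D9133) (iv3 F14188) D19439 F63079 (iv1 D23535) F17901 F7447 (iv1 F14824)
theorem F63081 : act 5 n41241 = n40710 := d6_2 (iv5 F35654) F63080 F62928
def n41242 : Q := act 4 n19400
theorem D41242 : act 4 n19400 = n41242 := rfl
theorem F63082 : act 6 n41242 = n23593 := d10_2 F31031 D41242 F36698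
theorem F63083 : act 1 n41242 = n23539 := d18_6 D5025 D11021 F31029 (iv4 D19399) D19400 D41242 (iv4 D23539) (iv0 D11037) (iv5 D5029)
theorem F63084 : act 0 n41242 = n23544 := d20_7 (iv4 F62378) (iv1 F62422) (iv4 D41224) F62182 (iv1 F31019) (iv3 F31030) D41242 (iv4 D23544) (iv3 F63077) (iv1 F35406)
def n41243 : Q := act 0 n19401
theorem D41243 : act 0 n19401 = n41243 := rfl
theorem F63085 : act 5 n41243 = n40350 := d21_0 (iv1 F61430) F58691 (iv6 F61775) (iv1 F61777) D40710 (iv5 F63081) (iv1 D41241) (iv5 D19400) D19401 D41243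
def n41244 : Q := act 1 n19401
theorem D41244 : act 1 n19401 = n41244 := rfl
def n41245 : Q := act 5 n19401
theorem D41245 : act 5 n19401 = n41245 := rfl
theorem F63086 : act 3 n41245 = n19408 := d6_1 D41245 (iv5 D19408) (iv3 F31032)
theorem F63087 : act 6 n41245 = n40860 := d12_2 D19401 D41245 (iv5 D40860) F31031 (iv5 D19400)
theorem F63088 : act 7 n19401 = n41245 := d14_0 F63087 F61965 (iv6 F31031) F31054 D19401
def n41246 : Q := act 0 n19402
theorem D41246 : act 0 n19402 = n41246 := rfl
def n41247 : Q := act 1 n19402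
theorem D41247 : act 1 n19402 = n41247 := rfl
def n41248 : Q := act 2 n19402
theorem D41248 : act 2 n19402 = n41248 := rfl
def n41249 : Q := act 5 n19402
theorem D41249 : act 5 n19402 = n41249 := rfl
theorem F63089 : act 3 n41249 = n19403 := d6_1 D41249 (iv5 D19403) D19402
def n41250 : Q := act 6 n19402
theorem D41250 : act 6 n19402 = n41250 := rfl
theorem F63090 : act 3 n41250 = n19404 := d7_1 D41250 (iv6 D19404) D19402
def n41251 : Q := act 4 n19403
theorem D41251 : act 4 n19403 = n41251 := rfl
def n41252 : Q := act 6 n19403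
theorem D41252 : act 6 n19403 = n41252 := rfl
def n41253 : Q := act 0 n19404
theorem D41253 : act 0 n19404 = n41253 := rfl
def n41254 : Q := act 1 n19404
theorem D41254 : act 1 n19404 = n41254 := rfl
theorem F63091 : act 1 n41254 = n41233 := d15_1 D41254 F62457 F61977
def n41255 : Q := act 5 n19404
theorem D41255 : act 5 n19404 = n41255 := rfl
theorem F63092 : act 1 n41255 = n40623 := d17_6 D9016 D19190 F31038 (iv5 D19408) (iv4 F31033) D41255 (iv5 D40623) (iv0 D19183) F14074
theorem E6750 : n41211 = n9062 := (c21_6 D40623 (iv1 F63092) (iv5 D41255) (iv6 D19404) (iv1 F31008) D41211 (iv5 F30825) (iv1 D19181) (iv5 D9014) D9015 D19183)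
theorem E6751 : n22818 = n4738 := ((((iv4 F14145)).symm.trans (sb E6750 F62410))).symm
theorem E6752 : n19382 = n19272 := (((D19272).symm.trans (sb E6750 (iv6 D41211)))).symm
theorem E6753 : n23509 = n4598 := (((F6842).symm.trans (sb E6751 (iv2 F36624)))).symm
theorem E6754 : n22864 = n4505 := (((F6843).symm.trans (sb E6751 (iv3 F35564)))).symm
theorem E6755 : n10783 = n10435 := (((D10435).symm.trans (sb E6751 (iv6 D22818)))).symm
theorem E6756 : n40887 = n9096 := ((D40887).symm.trans (sb E6752 (iv1 D19382)))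
theorem E6757 : n40888 = n9101 := ((D40888).symm.trans (sb E6752 F31008))
theorem E6758 : n23508 = n21204 := ((((iv2 F33445)).symm.trans (sb E6752 (iv2 F36620)))).symm
theorem E6761 : n40890 = n40861 := ((D40890).symm.trans (sb E6752 (iv7 F61969)))
theorem E6762 : n11028 = n1915 := (((F6669).symm.trans (sb E6753 F36625))).symm
theorem E6763 : n11025 = n10113 := (((D10113).symm.trans (sb E6753 (iv6 D23509)))).symm
theorem E6764 : n23592 = n4466 := (((F6553).symm.trans (sb E6754 (iv2 F36696)))).symm
theorem E6765 : n10804 = n9912 := (((D9912).symm.trans (sb E6754 (iv6 D22864)))).symm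
theorem E6766 : n21880 = n4924 := ((D21880).symm.trans (sb E6755 (iv1 D10783)))
theorem E6767 : n22346 = n21881 := (((D21881).symm.trans (sb E6755 F34879))).symm
theorem E6768 : n19661 = n19478 := ((((iv5 F31155)).symm.trans (sb E6755 (iv5 F31423)))).symm
theorem E6769 : n22345 = n21882 := (((D21882).symm.trans (sb E6755 (iv7 F35363)))).symm
theorem F63093 : act 1 n9096 = n19272 := (sb E6756 (iv0 D40887))
theorem F63094 : act 0 n9101 = n19272 := (sb E6757 (iv1 D40888))
theorem F63095 : act 0 n21204 = n19261 := (sb E6758 (iv1 F36623))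
theorem F63096 : act 1 n21204 = n19264 := (sb E6758 (iv0 F36622))
theorem F63097 : act 7 n21204 = n19381 := (sb E6758 F36621)
theorem F63098 : act 7 n40861 = n19272 := (sb E6761 (iv7 D40890))
theorem E6770 : n23513 = n1019 := (((F7081).symm.trans (sb E6762 D23513))).symm
theorem E6772 : n11057 = n1927 := ((((iv2 F6478)).symm.trans (sb E6762 (iv2 F35383)))).symm
theorem E6773 : n23512 = n4602 := (((D4602).symm.trans (sb E6762 (iv4 F36626)))).symm
theorem E6775 : n5026 = n4603 := (((D4603).symm.trans (sb E6762 (iv6 D11028)))).symm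
theorem E6776 : n23516 = n1932 := ((((iv7 F6474)).symm.trans (sb E6762 D23516))).symm
theorem E6777 : n21205 = n10784 := ((D21205).symm.trans (sb E6763 F35374))
theorem E6778 : n21206 = n10638 := ((D21206).symm.trans (sb E6763 F35375))
theorem E6779 : n19764 = n10332 := ((((iv5 F16969)).symm.trans (sb E6763 (iv5 F35876)))).symm
theorem E6780 : n21207 = n10782 := ((D21207).symm.trans (sb E6763 F35377))
theorem E6781 : n11054 = n9854 := (((D9854).symm.trans (sb E6764 (iv6 D23592)))).symm
theorem E6782 : n22336 = n20892 := (((D20892).symm.trans (sb E6765 (iv1 F34850)))).symm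
theorem E6783 : n20893 = n4929 := ((D20893).symm.trans (sb E6765 (iv0 D10804)))
theorem E6784 : n19459 = n9739 := (((F15572).symm.trans (sb E6765 F31116))).symm
theorem E6785 : n19683 = n9668 := (((F17015).symm.trans (sb E6765 (iv5 F35846)))).symm
theorem F63099 : act 1 n4924 = n10435 := (sb E6766 (iv0 D21880))
theorem F63100 : act 2 n21881 = n10638 := (sb E6767 (iv2 D22346))
theorem F63101 : act 3 n21881 = n10806 := (sb E6767 F34874)
theorem F63102 : act 4 n21881 = n19256 := (sb E6767 F34875)
theorem F63103 : act 5 n21881 = n22820 := (sb E6767 F35392)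
theorem F63104 : act 7 n21881 = n10784 := (sb E6767 F34876)
theorem F63105 : act 0 n19478 = n9237 := (sb E6768 (iv1 D19661))
theorem E6787 : n40405 = n40328 := ((((iv4 F61388)).symm.trans (sb E6768 F61481))).symm
theorem F63106 : act 4 n21882 = n40861 := (sb E6769 (iv4 F61966))
theorem E6788 : n23601 = n1910 := (((F7080).symm.trans (sb E6770 (iv1 F36717)))).symm
theorem E6791 : n23597 = n4643 := (((D4643).symm.trans (sb E6772 (iv4 F36710)))).symm
theorem E6793 : n5042 = n4644 := (((D4644).symm.trans (sb E6772 (iv6 D11057)))).symm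
theorem E6794 : n11026 = n10125 := (((D10125).symm.trans (sb E6773 (iv6 D23512)))).symm
theorem E6795 : n10126 = n2062 := ((D10126).symm.trans (sb E6775 (iv1 D5026)))
theorem E6796 : n10127 = n5044 := ((D10127).symm.trans (sb E6775 F7487))
theorem E6797 : n9279 = n4687 := (((F16815).symm.trans (sb E6775 F35875))).symm
theorem E6798 : n10129 = n5043 := ((D10129).symm.trans (sb E6775 F35373))
theorem E6799 : n23608 = n4655 := (((D4655).symm.trans (sb E6776 (iv6 F36727)))).symm
theorem F63107 : act 0 n10784 = n21882 := (sb E6777 (iv1 F34352))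
theorem F63108 : act 1 n10784 = n10113 := (sb E6777 (iv0 D21205))
theorem F63109 : act 0 n10638 = n10113 := (sb E6778 (iv1 D21206))
theorem F63110 : act 1 n10638 = n21882 := (sb E6778 F34351)
theorem E6800 : n40383 = n21635 := (((D21635).symm.trans (sb E6779 (iv1 F61461)))).symm
theorem E6801 : n21637 = n19660 := ((D21637).symm.trans (sb E6779 (iv7 F61490)))
theorem F63111 : act 0 n10782 = n21881 := (sb E6780 (iv1 F34347))
theorem F63112 : act 2 n10782 = n21882 := (sb E6780 (iv2 F34348))
theorem E6802 : n22816 = n21467 := ((D22816).symm.trans (sb E6780 (iv6 F33737)))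
theorem F63113 : act 7 n10782 = n10113 := (sb E6780 (iv7 D21207))
theorem E6803 : n20755 = n10634 := ((D20755).symm.trans (sb E6781 F34880))
theorem E6804 : n20756 = n10806 := ((D20756).symm.trans (sb E6781 F34881))
theorem E6805 : n19436 = n9439 := (((F15491).symm.trans (sb E6781 F31092))).symm
theorem E6806 : n19791 = n9372 := ((((iv5 F17014)).symm.trans (sb E6781 F35843))).symm
theorem E6807 : n20757 = n10805 := ((D20757).symm.trans (sb E6781 (iv7 F35359)))
theorem F63114 : act 2 n20892 = n10634 := (sb E6782 (iv2 D22336))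
theorem F63115 : act 3 n20892 = n10784 := (sb E6782 F34848)
theorem F63116 : act 4 n20892 = n19987 := (sb E6782 (iv4 F35645))
theorem F63117 : act 6 n20892 = n22868 := (sb E6782 F35571)
theorem F63118 : act 7 n20892 = n10806 := (sb E6782 F34849)
theorem F63119 : act 0 n4929 = n9912 := (sb E6783 (iv1 D20893))
theorem E6808 : n20522 = n19432 := ((D20522).symm.trans (sb E6784 (iv1 F31115)))
theorem E6809 : n20523 = n9138 := ((D20523).symm.trans (sb E6784 (iv0 D19459)))
theorem E6810 : n20525 = n19435 := ((D20525).symm.trans (sb E6784 F35364))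
theorem E6811 : n20388 = n9242 := ((D20388).symm.trans (sb E6785 (iv0 D19683)))
theorem E6812 : n40436 = n9874 := ((((iv4 F15527)).symm.trans (sb E6785 (iv4 F61517)))).symm
theorem F63120 : act 0 n40328 = n19088 := (sb E6787 (iv1 D40405))
theorem F63121 : act 1 n40328 = n19093 := (sb E6787 F61480)
theorem E6813 : n23507 = n4592 := (((D4592).symm.trans (sb E6788 F36714))).symm
theorem E6814 : n11055 = n10222 := (((D10222).symm.trans (sb E6791 (iv6 D23597)))).symm
theorem E6815 : n10223 = n5027 := ((D10223).symm.trans (sb E6793 (iv1 F7482)))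
theorem E6816 : n10224 = n2067 := ((D10224).symm.trans (sb E6793 (iv0 D5042)))
theorem E6817 : n9300 = n4614 := (((F16768).symm.trans (sb E6793 F35833))).symm
theorem E6818 : n10226 = n5025 := ((D10226).symm.trans (sb E6793 F35371))
theorem E6819 : n23500 = n21216 := (((D21216).symm.trans (sb E6794 (iv1 F36616)))).symm
theorem E6820 : n21217 = n19399 := ((D21217).symm.trans (sb E6794 (iv0 F35378)))
theorem E6821 : n23510 = n21214 := ((((iv3 F33450)).symm.trans (sb E6794 D23510))).symm
theorem E6822 : n23511 = n21218 := (((D21218).symm.trans (sb E6794 D23511))).symm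
theorem E6823 : n21219 = n11060 := ((D21219).symm.trans (sb E6794 (iv7 F35379)))
theorem F63122 : act 1 n2062 = n4603 := (sb E6795 (iv0 D10126))
theorem E6827 : n21223 = n5029 := (((D5029).symm.trans (sb E6795 D21223))).symm
theorem F63123 : act 0 n5044 = n4603 := (sb E6796 (iv1 D10127))
theorem E6833 : n21229 = n11064 := (((D11064).symm.trans (sb E6796 D21229))).symm
theorem E6834 : n10336 = n4194 := ((D10336).symm.trans (sb E6797 (iv1 D9279)))
theorem E6835 : n10337 = n9302 := ((D10337).symm.trans (sb E6797 F16112))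
theorem E6836 : n19765 = n10335 := ((((iv4 F16444)).symm.trans (sb E6797 D19765))).symm
theorem E6838 : n10339 = n9301 := ((D10339).symm.trans (sb E6797 F35874))
theorem E6839 : n11062 = n10260 := ((D11062).symm.trans (sb E6798 (iv6 F16228)))
theorem F63124 : act 7 n5043 = n4603 := (sb E6798 (iv7 D10129))
theorem E6842 : n23656 = n10259 := (((D10259).symm.trans (sb E6799 F36801))).symm
theorem F63125 : act 4 n21635 = n19082 := (sb E6800 (iv4 D40383))
theorem E6843 : n40598 = n40404 := (((F61488).symm.trans (sb E6801 (iv4 F61716)))).symm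
theorem F63126 : act 6 n19660 = n21273 := (sb E6801 F34051)
theorem F63127 : act 7 n19660 = n10332 := (sb E6801 (iv7 D21637))
theorem E6844 : n41208 = n40886 := ((((iv4 F61988)).symm.trans (sb E6802 (iv4 F62409)))).symm
theorem F63128 : act 6 n21467 = n10782 := (sb E6802 (iv6 D22816))
theorem F63129 : act 0 n10634 = n20894 := (sb E6803 (iv1 F33045))
theorem F63130 : act 1 n10634 = n9854 := (sb E6803 (iv0 D20755))
theorem F63131 : act 0 n10806 = n9854 := (sb E6804 (iv1 D20756))
theorem F63132 : act 1 n10806 = n20894 := (sb E6804 F33044)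
theorem E6845 : n20017 = n9121 := ((D20017).symm.trans (sb E6805 (iv1 D19436)))
theorem E6846 : n20018 = n19457 := ((D20018).symm.trans (sb E6805 (iv0 F31111)))
theorem E6847 : n20020 = n19460 := ((D20020).symm.trans (sb E6805 F35366))
theorem E6848 : n19902 = n19532 := ((D19902).symm.trans (sb E6806 (iv1 F35865)))
theorem E6849 : n40431 = n9947 := ((((iv4 F15687)).symm.trans (sb E6806 F61510))).symm
theorem E6850 : n19904 = n19684 := ((D19904).symm.trans (sb E6806 F35842))
theorem F63133 : act 1 n10805 = n20892 := (sb E6807 F33043)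
theorem F63134 : act 2 n10805 = n20894 := (sb E6807 (iv2 F33039))
theorem E6851 : n22866 = n20897 := ((D22866).symm.trans (sb E6807 (iv6 F33050)))
theorem F63135 : act 7 n10805 = n9854 := (sb E6807 (iv7 D20757))
theorem F63136 : act 1 n19432 = n9739 := (sb E6808 (iv0 D20522))
theorem F63137 : act 0 n9138 = n9739 := (sb E6809 (iv1 D20523))
theorem F63138 : act 4 n19435 = n20894 := (sb E6810 (iv4 F33040))
theorem F63139 : act 6 n19435 = n20011 := (sb E6810 F32618)
theorem F63140 : act 7 n19435 = n9739 := (sb E6810 (iv7 D20525))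
theorem F63141 : act 0 n9242 = n9668 := (sb E6811 (iv1 D20388))
theorem E6852 : n20777 = n20405 := ((D20777).symm.trans (sb E6812 (iv1 F61518)))
theorem E6853 : n20778 = n19110 := ((D20778).symm.trans (sb E6812 (iv0 D40436)))
theorem E6857 : n23662 = n10096 := (((D10096).symm.trans (sb E6813 F36796))).symm
theorem E6858 : n11023 = n10097 := (((D10097).symm.trans (sb E6813 (iv7 D23507)))).symm
theorem E6859 : n23593 = n21450 := (((D21450).symm.trans (sb E6814 D23593))).symm
theorem E6860 : n23594 = n21451 := (((D21451).symm.trans (sb E6814 D23594))).symm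
theorem E6861 : n23595 = n21445 := ((((iv3 F33698)).symm.trans (sb E6814 D23595))).symm
theorem E6862 : n23596 = n21452 := (((D21452).symm.trans (sb E6814 D23596))).symm
theorem E6863 : n21453 = n11021 := ((D21453).symm.trans (sb E6814 (iv7 F35384)))
theorem F63142 : act 1 n5027 = n4644 := (sb E6815 (iv0 D10223))
theorem E6867 : n21457 = n11030 := (((D11030).symm.trans (sb E6815 D21457))).symm
theorem F63143 : act 0 n2067 = n4644 := (sb E6816 (iv1 D10224))
theorem E6872 : n10154 = n9280 := ((D10154).symm.trans (sb E6817 (iv1 F16111)))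
theorem E6873 : n10155 = n4199 := ((D10155).symm.trans (sb E6817 (iv0 D9300)))
theorem E6874 : n19792 = n10153 := ((((iv4 F15998)).symm.trans (sb E6817 D19792))).symm
theorem E6876 : n10157 = n9278 := ((D10157).symm.trans (sb E6817 F35872))
theorem F63144 : act 7 n5025 = n4644 := (sb E6818 (iv7 D10226))
theorem F63145 : act 2 n21216 = n21450 := (sb E6819 (tr F36700 E6859))
theorem F63146 : act 3 n21216 = n22755 := (sb E6819 F36618)
theorem F63147 : act 4 n21216 = n22760 := (sb E6819 (iv4 F36617))
theorem F63148 : act 7 n21216 = n21451 := (sb E6819 (tr (iv7 F36703) E6860))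
theorem F63149 : act 0 n19399 = n10125 := (sb E6820 (iv1 D21217))
theorem F63150 : act 7 n21214 = n23602 := (sb E6821 (iv7 F36718))
theorem F63151 : act 7 n21218 = n23603 := (sb E6822 (iv7 F36720))
theorem E6877 : n23604 = n21489 := ((D23604).symm.trans (sb E6823 (iv6 F33789)))
theorem F63152 : act 7 n11060 = n10125 := (sb E6823 (iv7 D21219))
theorem E6878 : n11038 = n10927 := ((D11038).symm.trans (sb E6827 (iv0 F36318)))
theorem E6880 : n23553 = n21240 := (((iv1 F36665)).symm.trans (sb E6833 (iv1 F36111)))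
theorem E6881 : n23552 = n10868 := ((F36664).symm.trans (sb E6833 (iv0 F36101)))
theorem E6882 : n23521 = n21357 := (((iv5 F36635)).symm.trans (sb E6833 (iv5 F33553)))
theorem F63153 : act 1 n4194 = n4687 := (sb E6834 (iv0 D10336))
theorem E6886 : n21650 = n9282 := (((D9282).symm.trans (sb E6834 D21650))).symm
theorem E6887 : n21651 = n9283 := (((D9283).symm.trans (sb E6834 D21651))).symm
theorem F63154 : act 0 n9302 = n4687 := (sb E6835 (iv1 D10337))
theorem E6891 : n21625 = n19801 := (((D19801).symm.trans (sb E6835 (iv5 F34037)))).symm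
theorem E6892 : n21655 = n19802 := (((D19802).symm.trans (sb E6835 D21655))).symm
theorem E6893 : n40419 = n21644 := (((D21644).symm.trans (sb E6836 (iv0 F61499)))).symm
theorem E6894 : n21646 = n19797 := ((D21646).symm.trans (sb E6836 (iv7 F35879)))
theorem E6895 : n19799 = n10166 := ((D19799).symm.trans (sb E6838 F16449))
theorem F63155 : act 7 n9301 = n4687 := (sb E6838 (iv7 D10339))
theorem F63156 : act 6 n10260 = n5043 := (sb E6839 (iv6 D11062))
theorem E6897 : n21500 = n11079 := ((D21500).symm.trans (sb E6842 (iv1 D23656)))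
theorem E6898 : n23663 = n21501 := (((D21501).symm.trans (sb E6842 F36802))).symm
theorem F63157 : act 7 n40404 = n19172 := (sb E6843 (iv7 D40598))
theorem F63158 : act 6 n40886 = n19381 := (sb E6844 (iv6 D41208))
theorem F63159 : act 1 n9121 = n9439 := (sb E6845 (iv0 D20017))
theorem F63160 : act 0 n19457 = n9439 := (sb E6846 (iv1 D20018))
theorem F63161 : act 6 n19460 = n20531 := (sb E6847 (iv6 F32630))
theorem F63162 : act 7 n19460 = n9439 := (sb E6847 (iv7 D20020))
theorem F63163 : act 0 n19532 = n20389 := (sb E6848 (iv1 F32379))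
theorem F63164 : act 1 n19532 = n9372 := (sb E6848 (iv0 D19902))
theorem E6899 : n20929 = n19104 := ((D20929).symm.trans (sb E6849 (iv1 D40431)))
theorem E6900 : n20930 = n19921 := ((D20930).symm.trans (sb E6849 F61509))
theorem E6901 : n40437 = n20932 := (((D20932).symm.trans (sb E6849 (iv7 F61522)))).symm
theorem F63165 : act 1 n19684 = n20387 := (sb E6850 F32377)
theorem F63166 : act 2 n19684 = n20389 := (sb E6850 (iv2 F32375))
theorem F63167 : act 6 n19684 = n20423 := (sb E6850 (iv6 F32443))
theorem F63168 : act 7 n19684 = n9372 := (sb E6850 (iv7 D19904))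
theorem F63169 : act 6 n20897 = n10805 := (sb E6851 (iv6 D22866))
theorem F63170 : act 1 n20405 = n9874 := (sb E6852 (iv0 D20777))
theorem F63171 : act 0 n19110 = n9874 := (sb E6853 (iv1 D20778))
theorem E6902 : n23657 = n21193 := (((D21193).symm.trans (sb E6857 (iv1 F36789)))).symm
theorem E6903 : n21194 = n11081 := ((D21194).symm.trans (sb E6857 (iv0 D23662)))
theorem E6904 : n23506 = n21196 := (((D21196).symm.trans (sb E6857 F36795))).symm
theorem E6905 : n23503 = n21182 := ((((iv4 F33426)).symm.trans (sb E6858 (iv4 F36619)))).symm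
theorem F63172 : act 6 n10097 = n5025 := (sb E6858 (iv6 D11023))
theorem F63173 : act 0 n21450 = n11060 := (sb E6859 (iv1 F36699))
theorem F63174 : act 4 n21450 = n19260 := (sb E6859 F36698)
theorem F63175 : act 6 n21450 = n41242 := (sb E6859 (iv6 F63082))
theorem F63176 : act 7 n21450 = n19399 := (sb E6859 (iv7 F36701))
theorem F63177 : act 1 n21451 = n11060 := (sb E6860 F36702)
theorem F63178 : act 2 n21451 = n19399 := (sb E6860 F36705)
theorem F63179 : act 4 n21451 = n19398 := (sb E6860 (iv4 F36704))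
theorem F63180 : act 7 n21445 = n23501 := (sb E6861 F36706)
theorem F63181 : act 7 n21452 = n23502 := (sb E6862 F36708)
theorem F63182 : act 1 n11021 = n21216 := (sb E6863 F33721)
theorem F63183 : act 7 n11021 = n10222 := (sb E6863 (iv7 D21453))
theorem E6906 : n21737 = n11042 := ((((iv1 F17909)).symm.trans (sb E6867 F34181))).symm
theorem F63184 : act 1 n9280 = n4614 := (sb E6872 (iv0 D10154))
theorem E6910 : n21261 = n19769 := (((D19769).symm.trans (sb E6872 D21261))).symm
theorem E6911 : n21262 = n19770 := (((D19770).symm.trans (sb E6872 D21262))).symm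
theorem F63185 : act 0 n4199 = n4614 := (sb E6873 (iv1 D10155))
theorem E6915 : n21266 = n9304 := (((D9304).symm.trans (sb E6873 D21266))).symm
theorem E6917 : n21257 = n19760 := ((D21257).symm.trans (sb E6874 (iv7 F35882)))
theorem E6918 : n19762 = n10331 := ((D19762).symm.trans (sb E6876 (iv6 F16435)))
theorem F63186 : act 7 n9278 = n4614 := (sb E6876 (iv7 D10157))
theorem F63187 : act 6 n21489 = n11060 := (sb E6877 (iv6 D23604))
theorem F63188 : act 0 n10927 = n5029 := (sb E6878 (iv1 D11038))
theorem E6919 : n23230 = n11031 := ((D23230).symm.trans (sb E6878 F17903))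
theorem E6920 : n23542 = n23160 := ((((iv2 F62803)).symm.trans (sb E6878 (iv2 F36655)))).symm
theorem E6921 : n23225 = n22828 := (((iv3 F36325)).symm.trans (sb E6878 (iv3 F63077)))
theorem E6922 : n23544 = n23228 := ((((iv4 F36326)).symm.trans (sb E6878 D23544))).symm
theorem E6925 : n23537 = n23232 := (((D23232).symm.trans (sb E6878 F36654))).symm
theorem F63189 : act 0 n21240 = n11040 := (sb E6880 (iv1 D23553))
theorem F63190 : act 1 n21240 = n11064 := (sb E6880 F36665)
theorem F63191 : act 0 n10868 = n11064 := (sb E6881 (iv1 F36664))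
theorem F63192 : act 1 n10868 = n11040 := (sb E6881 (iv0 D23552))
theorem E6926 : n11071 = n10189 := ((((iv1 F33558)).symm.trans (sb E6882 (iv1 F36637)))).symm
theorem F63195 : act 5 n21357 = n11064 := (sb E6882 F36635)
theorem F63196 : act 6 n21357 = n11030 := (sb E6882 (iv6 D23521))
theorem F63197 : act 7 n21357 = n11064 := (sb E6882 F36636)
theorem E6928 : n19777 = n10363 := ((D19777).symm.trans (sb E6886 (iv0 F34170)))
theorem E6929 : n21363 = n19779 := (((D19779).symm.trans (sb E6886 F34074))).symm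
theorem E6930 : n21244 = n19780 := (((D19780).symm.trans (sb E6887 F36100))).symm
theorem E6931 : n19785 = n10328 := (((iv6 F31570)).symm.trans (sb E6891 (iv6 D21625)))
theorem F63198 : act 5 n19802 = n23044 := (sb E6892 (iv5 F36094))
theorem F63199 : act 4 n21644 = n19092 := (sb E6893 (iv4 D40419))
theorem F63200 : act 0 n19797 = n21255 := (sb E6894 (iv1 F34071))
theorem F63201 : act 1 n19797 = n21254 := (sb E6894 F34072)
theorem F63202 : act 6 n19797 = n21282 := (sb E6894 F34069)
theorem F63203 : act 7 n19797 = n10335 := (sb E6894 (iv7 D21646))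
theorem E6932 : n10329 = n9306 := (((iv1 F16431)).symm.trans (sb E6895 F35884))
theorem F63204 : act 6 n10166 = n9301 := (sb E6895 (iv6 D19799))
theorem F63205 : act 1 n11079 = n10259 := (sb E6897 (iv0 D21500))
theorem E6934 : n21377 = n19782 := ((((iv5 F31552)).symm.trans (sb E6897 (iv5 F33804)))).symm
theorem F63206 : act 2 n21501 = n11081 := (sb E6898 (iv2 D23663))
theorem F63208 : act 7 n21501 = n21193 := (sb E6898 (tr F36792 E6902))
theorem F63209 : act 0 n19104 = n20780 := (sb E6899 (iv1 F33120))
theorem F63210 : act 1 n19104 = n9947 := (sb E6899 (iv0 D20929))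
theorem F63211 : act 0 n19921 = n9947 := (sb E6900 (iv1 D20930))
theorem F63212 : act 1 n19921 = n20780 := (sb E6900 F33113)
theorem F63213 : act 0 n20932 = n19110 := (sb E6901 (iv1 D40437))
theorem F63214 : act 1 n20932 = n20405 := (sb E6901 F61521)
theorem F63215 : act 4 n20932 = n19684 := (sb E6901 (iv4 F61523))
theorem F63216 : act 2 n21193 = n11079 := (sb E6902 (iv2 D23657))
theorem F63217 : act 3 n21193 = n21193 := (sb E6902 (tr F36782 E6902))
theorem F63218 : act 0 n11081 = n10096 := (sb E6903 (iv1 D21194))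
theorem F63219 : act 1 n11081 = n21503 := (sb E6903 F33803)
theorem F63220 : act 1 n21196 = n11079 := (sb E6904 F36798)
theorem F63221 : act 6 n21182 = n11021 := (sb E6905 (iv6 D23503))
theorem E6935 : n23562 = n10363 := ((D23562).symm.trans (sb E6906 (iv5 D21737)))
theorem E6936 : n23231 = n19809 := ((((iv1 F31581)).symm.trans (sb E6910 F36327))).symm
theorem F63222 : act 5 n19770 = n21501 := (sb E6911 F33796)
theorem E6937 : n10163 = n9287 := ((((iv6 F16074)).symm.trans (sb E6915 F33491))).symm
theorem F63223 : act 0 n19760 = n21644 := (sb E6917 (iv1 F34065))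
theorem F63224 : act 1 n19760 = n21643 := (sb E6917 F34070)
theorem F63225 : act 6 n19760 = n21620 := (sb E6917 (iv6 F34032))
theorem F63226 : act 7 n19760 = n10153 := (sb E6917 (iv7 D21257))
theorem E6938 : n19817 = n10164 := ((((iv1 F16437)).symm.trans (sb E6918 F35869))).symm
theorem F63227 : act 6 n10331 = n9278 := (sb E6918 (iv6 D19762))
theorem E6939 : n19815 = n4682 := ((((iv7 D10331)).symm.trans (sb E6918 (iv7 F35886)))).symm
theorem F63228 : act 0 n11031 = n10927 := (sb E6919 (iv1 D23230))
theorem F63229 : act 7 n23160 = n11037 := (sb E6920 (iv7 D23542))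
theorem F63230 : act 3 n22828 = n10927 := (sb E6921 F36325)
theorem E6940 : n41221 = n41020 := (((iv4 F62416)).symm.trans (sb E6921 (iv4 F63056)))
theorem F63231 : act 6 n22828 = n10924 := (sb E6921 (iv6 D23225))
theorem F63232 : act 1 n23228 = n41242 := (sb E6922 (iv0 F63084))
theorem F63233 : act 2 n23232 = n11037 := (sb E6925 (iv2 D23537))
theorem E6941 : n21358 = n5046 := (((iv1 F33554)).symm.trans (sb E6926 (iv1 D11071)))
theorem F63234 : act 0 n10363 = n9282 := (sb E6928 (iv1 D19777))
theorem E6952 : n21736 = n19801 := ((D21736).symm.trans (sb E6928 F31569))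
theorem F63235 : act 0 n19779 = n10185 := (sb E6929 (iv1 D21363))
theorem F63236 : act 5 n19780 = n23047 := (sb E6930 (iv5 F36098))
theorem F63237 : act 6 n19780 = n10148 := (sb E6930 (iv6 D21244))
theorem E6953 : n21621 = n9287 := ((D21621).symm.trans (sb E6931 (iv2 D19785)))
theorem E6954 : n21622 = n10328 := ((D21622).symm.trans (sb E6931 (tr F31553 E6931)))
theorem E6955 : n21662 = n21623 := (((D21623).symm.trans (sb E6931 F35858))).symm
theorem F63238 : act 6 n10328 = n19801 := (sb E6931 F31570)
theorem F63239 : act 1 n9306 = n10166 := (sb E6932 F16431)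
theorem E6959 : n21629 = n19818 := (((D19818).symm.trans (sb E6932 D21629))).symm
theorem F63240 : act 1 n19782 = n10190 := (sb E6934 (iv0 D21377))
theorem E6961 : n21722 = n19814 := ((((iv6 F31588)).symm.trans (sb E6934 F34171))).symm
theorem F63241 : act 5 n10363 = n11042 := (sb E6935 (iv5 D23562))
theorem F63242 : act 5 n19809 = n10927 := (sb E6936 (iv5 D23231))
theorem F63243 : act 0 n9287 = n10331 := (sb E6937 (iv1 F16438))
theorem F63244 : act 1 n9287 = n4619 := (sb E6937 (iv0 D10163))
theorem F63245 : act 2 n9287 = n21283 := (sb E6937 D21283)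
theorem E6965 : n21287 = n9306 := (((F16075).symm.trans (sb E6937 D21287))).symm
theorem E6966 : n21288 = n10164 := ((D21288).symm.trans (sb E6938 (tr F31590 E6938)))
theorem E6967 : n21313 = n21289 := (((D21289).symm.trans (sb E6938 (iv4 F35805)))).symm
theorem F63246 : act 1 n4682 = n9306 := (sb E6939 (iv0 D19815))
theorem F63247 : act 0 n41020 = n40864 := (sb E6940 (iv1 F62415))
theorem F63248 : act 1 n41020 = n19385 := (sb E6940 (iv0 D41221))
theorem F63249 : act 4 n41020 = n22828 := (sb E6940 F62416)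
theorem F63250 : act 0 n5046 = n10184 := (sb E6941 (iv1 D21358))
theorem F63251 : act 1 n5046 = n10189 := (sb E6941 F33554)
theorem F63252 : act 0 n19801 = n10363 := (sb E6952 (iv1 D21736))
theorem E6968 : n21283 = n10328 := ((F63245).symm.trans (sb E6953 (iv2 D21621)))
theorem F63253 : act 3 n10328 = n10328 := (sb E6954 (iv3 D21622))
theorem F63254 : act 0 n21623 = n21315 := (sb E6955 (iv1 F34092))
theorem F63255 : act 1 n21623 = n10342 := (sb E6955 (iv0 D21662))
theorem F63256 : act 2 n21623 = n19773 := (sb E6955 (iv2 F35857))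
theorem F63257 : act 7 n21623 = n21289 := (sb E6955 (tr F35856 E6967))
theorem E6969 : n40466 = n20378 := ((((iv6 F32354)).symm.trans (sb E6959 (iv6 F61568)))).symm
theorem F63258 : act 0 n19814 = n10358 := (sb E6961 (iv1 D21722))
theorem E6970 : n23100 = n23045 := (((iv5 F36142)).symm.trans (sb E6961 F36102))
theorem F63259 : act 2 n9306 = n10164 := (sb E6965 F33505)
theorem F63260 : act 3 n10164 = n10164 := (sb E6966 (iv3 D21288))
theorem F63261 : act 0 n21289 = n10172 := (sb E6967 (iv1 D21313))
theorem F63262 : act 1 n21289 = n21665 := (sb E6967 F34093)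
theorem F63263 : act 2 n21289 = n19805 := (sb E6967 (iv2 F35804))
theorem F63264 : act 2 n10328 = n9287 := (sb E6968 (iv2 F63245))
theorem F63265 : act 7 n10328 = n10164 := (sb E6968 (iv7 F33504))
theorem F63266 : act 0 n20378 = n40508 := (sb E6969 (iv1 F61633))
theorem F63267 : act 1 n20378 = n19126 := (sb E6969 (iv0 D40466))
theorem F63268 : act 3 n23045 = n10883 := (sb E6970 (iv3 D23100))
theorem F63269 : act 5 n23045 = n19814 := (sb E6970 F36142)
theorem F63270 : act 6 n23045 = n20380 := (sb E6970 F36143)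
theorem F63271 : act 7 n23045 = n19813 := (sb E6970 F36144)
theorem F63272 : act 2 n19813 = n23044 := d15_3 (iv0 D23044) D23045 F63271
theorem F63273 : act 3 n23044 = n23044 := d0_2 (iv3 F31585) F63272 (iv2 F63272) F31585 F16106
theorem F63274 : act 2 n21624 = n19786 := d3_3 (iv6 F31586) F63272 (iv6 F36095)
theorem F63275 : act 3 n21624 = n21624 := d0_0 F63274 F31554 F16076 (iv3 F31554) (iv2 F63274)
theorem F63276 : act 2 n20380 = n40467 := d15_3 F61632 (iv0 F63266) (iv7 F32358)
theorem F63278 : act 7 n21290 = n21624 := d13_2 F63265 D21290 (iv5 D21624)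
theorem F63279 : act 2 n19818 = n21290 := d4_3 F63278 F63274 (iv7 F31596)
theorem F63280 : act 3 n21290 = n21290 := d8_3 F63278 F63275 (iv7 F63278)
theorem F63281 : act 1 n19786 = n23241 := d15_0 (iv0 F36332) F63278 F63274
theorem F63282 : act 1 n19818 = n23065 := d15_0 (iv0 F36121) (iv7 F63278) (iv2 F63279)
theorem F63283 : act 0 n19819 = n23236 := d21_10 (iv5 D23236) (iv1 F36245) F36242 F17717 (iv1 F17651) D10873 D23065 (iv1 F63282) (iv5 D19818) D19819
theorem E6971 : n23540 = n19808 := ((c21_11 (iv5 D23540) (iv1 F17902) (iv5 F17898) D11064 (iv1 F63190) (iv6 F36122) (iv5 F36330) (iv1 F63281) (iv5 D19786) F16074 D19808)).symm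
theorem F63284 : act 5 n19808 = n11037 := (sb E6971 (iv5 D23540))
theorem E6972 : n21535 = n19808 := (c21_6 (iv5 D21240) (iv1 F15992) F6684 (iv6 F6794) (iv1 F16280) D21535 F63284 (iv1 F17902) (iv5 F17898) D11064 (iv1 F63190))
theorem F63285 : act 2 n19808 = n10363 := (sb E6972 F62825)
theorem F63286 : act 3 n19808 = n22086 := (sb E6972 (iv3 F62937))
theorem F63287 : act 6 n19808 = n10281 := (sb E6972 (iv6 D21535))
theorem E6973 : n23559 = n11037 := (c2_4 (iv5 F63284) F63285 F63241 (iv2 F36667))
theorem E6974 : n23232 = n11042 := (((iv2 F63233)).symm.trans (sb E6973 F36667))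
theorem E6975 : n23160 = n11041 := (((iv7 F63229)).symm.trans (sb E6973 (iv7 D23559)))
theorem F63288 : act 2 n11042 = n11037 := (sb E6974 F63233)
theorem E6976 : n23554 = n10927 := ((F36666).symm.trans (sb E6974 (iv7 D23232)))
theorem E6977 : n23555 = n22499 := ((D23555).symm.trans (sb E6975 F62804))
theorem E6978 : n23558 = n10905 := ((D23558).symm.trans (sb E6975 (iv6 D23160)))
theorem F63289 : act 7 n11041 = n11037 := (sb E6975 F63229)
theorem F63290 : act 2 n10927 = n11041 := (sb E6976 (iv2 D23554))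
theorem F63291 : act 7 n10927 = n11042 := (sb E6976 (iv7 F36666))
theorem F63292 : act 3 n22499 = n11041 := (sb E6977 (iv3 D23555))
theorem F63293 : act 6 n10905 = n11041 := (sb E6978 (iv6 D23558))
theorem F63294 : act 5 n22086 = n23538 := d6_2 (iv5 F63284) F63286 (iv3 D23538)
theorem E6979 : n23541 = n21742 := ((c12_6 (iv6 D23541) (iv5 F63284) F63287 D21534 (iv6 F33869) D21742)).symm
theorem F63295 : act 6 n21742 = n11037 := (sb E6979 (iv6 D23541))
theorem F63296 : act 7 n19808 = n23557 := d13_2 F63289 (iv5 F63284) (iv5 D23557)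
theorem E6980 : n21378 = n19770 := ((c21_4 (iv5 F63284) (iv1 F31580) (iv5 D19769) D19770 (iv1 D21378) (iv6 D10190) D10189 (iv1 F63251) (iv5 F17906) (iv6 D11040) D11037)).symm
theorem F63297 : act 0 n19770 = n10190 := (sb E6980 (iv1 D21378))
theorem F63298 : act 5 n21536 = n23563 := d21_2 D10282 D21536 (iv6 D23563) (iv1 D11042) (iv6 D5030) D5029 D11037 (iv5 F63284) F63287 (iv1 D10281)
theorem F63299 : act 2 n23563 = n21742 := d2_1 F63298 (iv5 D21742) (iv2 F62817)
theorem F63300 : act 7 n23563 = n21746 := d13_2 (iv7 F62818) F63298 (iv5 D21746)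
theorem F63301 : act 0 n21499 = n23563 := d21_10 (iv5 F63298) (iv1 F33879) F16485 F6794 (iv1 F15988) (iv6 F63237) F63236 F36099 (iv5 D21498) D21499
theorem E6981 : n23216 = n21499 := ((c15_1 (iv0 F63301) (iv0 D23216) (iv7 F62816) (iv2 F63299))).symm
theorem F63302 : act 1 n21499 = n10922 := (sb E6981 (iv0 D23216))
theorem E6982 : n23272 = n23212 := (c21_7 (iv5 F34165) (iv1 F34169) (iv5 D10362) D10363 F63234 D19779 (iv5 F36358) (iv1 D23212) (iv5 D10921) D10922 (iv1 F63302))
theorem F63303 : act 3 n23212 = n10939 := (sb E6982 (iv3 D23272))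
theorem F63304 : act 5 n23212 = n19779 := (sb E6982 F36358)
theorem F63305 : act 6 n23212 = n11081 := (sb E6982 F36359)
theorem F63306 : act 7 n23212 = n23271 := (sb E6982 F36360)
theorem F63307 : act 2 n23271 = n23211 := d15_3 (iv0 D23211) D23212 F63306
theorem F63309 : act 2 n21291 = n19819 := d2_3 (iv5 F36357) F63307 F36313
theorem E6983 : n21362 = n21291 := ((c15_4 (iv0 D21362) (iv0 F63235) (iv7 F31598) (iv2 F63309))).symm
theorem F63311 : act 1 n21291 = n10185 := (sb E6983 (iv0 D21362))
theorem F63312 : act 6 n19776 = n21724 := d21_5 D10926 (iv1 F36314) F63304 (iv6 D19779) D19776 F62837 (iv1 F36061) F36058 (iv6 F17717) (iv1 F17719)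
theorem E6984 : n23557 = n19776 := ((c21_11 (iv5 D23557) (iv1 F17908) (iv5 D11030) D11031 F63228 (iv6 D10927) D10926 (iv1 F36314) F63304 (iv6 D19779) D19776)).symm
theorem F63313 : act 5 n19776 = n11041 := (sb E6984 (iv5 D23557))
theorem F63314 : act 7 n19776 = n19808 := (sb E6984 (iv7 F63296))
theorem F63315 : act 2 n21738 = n19776 := d4_3 F63314 F63285 D21738
theorem E6985 : n21738 = n19809 := (c15_4 F31581 F31580 (iv7 F63314) (iv2 F63315))
theorem F63316 : act 2 n19809 = n19776 := (sb E6985 F63315)
theorem F63317 : act 7 n19809 = n10363 := (sb E6985 (iv7 D21738))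
theorem E6986 : n21724 = n19811 := ((c21_5 (iv5 F63242) (iv1 D19809) (iv5 D9304) D9305 D19811 (iv6 F63312) F63313 (iv1 F17908) (iv5 D11030) D11031 F63228)).symm
theorem F63318 : act 5 n19811 = n10874 := (sb E6986 F62837)
theorem F63319 : act 6 n19811 = n19776 := (sb E6986 (iv6 F63312))
theorem F63320 : act 7 n19811 = n10358 := (sb E6986 (iv7 D21724))
theorem F63321 : act 1 n23217 = n23563 := d15_1 D23217 F63300 F62813
theorem F63322 : act 1 n21192 = n21746 := d15_1 (iv0 F36050) (iv7 F63300) F63299
theorem F63323 : act 0 n22989 = n19813 := d21_4 (iv5 F63222) F63297 D21379 (iv6 F36048) F31586 (iv5 D19786) F63243 (iv5 F34044) F34045 (iv1 F33795)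
theorem F63324 : act 6 n23556 = n23159 := d10_2 F63293 D23556 (iv4 D23159)
theorem F63325 : act 0 n23271 = n23071 := d21_7 (iv5 D11030) (iv1 F7486) F35838 (iv6 F63204) (iv1 F63239) D19819 (iv5 F36357) F36126 F63293 (iv1 F17908)
theorem F63326 : act 0 n21241 = n19819 := d21_10 (iv5 F36357) F63325 F36126 F63293 (iv1 F17908) (iv6 F63196) F63195 (iv1 F63190) (iv5 D21240) D21241
theorem F63327 : act 1 n23271 = n23157 := d15_1 (iv0 F63325) F62812 (iv2 F62800)
theorem F63328 : act 2 n23228 = n23556 := d3_3 F63324 F62798 D23228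
theorem F63329 : act 7 n23539 = n23556 := d15_2 F63232 F63083 (iv2 F63328)
theorem F63330 : act 7 n23538 = n22499 := d8_0 F63292 F63289 D23538
theorem F63331 : act 0 n20546 = n19441 := d20_7 (iv4 F16021) (iv1 F16094) F7451 (iv3 F7447) D11041 (iv3 F63292) (iv4 F62983) (iv4 D19441) F14188 D9131
theorem F63332 : act 0 n22868 = n22499 := d18_0 (iv4 F62983) F63331 (iv4 D19441) (iv5 D9122) D9121 F63159 (iv4 F15491) (iv0 F63131) D22868
theorem F63333 : act 7 n22824 = n22828 := d8_2 F63291 (iv3 F62468) F63230
theorem F63334 : act 7 n23561 = n23228 := d11_2 F63291 D23561 F36326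
theorem F63335 : act 2 n23539 = n23561 := d4_3 F63334 F63328 (iv7 F63329)
theorem F63336 : act 7 n41020 = n41229 := d11_2 F63333 (iv4 F63249) F62450
theorem F63337 : act 2 n22828 = n22825 := d15_3 F35401 F35400 F63333
theorem F63338 : act 2 n22824 = n22829 := d15_3 F35407 F35406 (iv7 F63333)
theorem F63339 : act 2 n41222 = n41229 := d1_3 F62450 F63338 (iv4 F62418)
theorem F63340 : act 7 n22829 = n22825 := d4_2 (iv7 F63333) F63338 (iv2 F63337)
theorem F63341 : act 7 n41230 = n41222 := d11_2 F63340 (iv4 F62452) F62418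
theorem F63342 : act 2 n41020 = n41230 := d4_3 F63341 F63339 (iv7 F63336)
theorem F63343 : act 6 n41230 = n23321 := d3_2 D41020 F63342 F62746
theorem F63344 : act 6 n22258 = n22825 := d10_2 F63343 (iv4 F62758) (iv4 F62452)
theorem F63345 : act 6 n22874 = n22477 := d7_2 F63344 (iv3 F62453) (iv3 F62757)
theorem F63346 : act 2 n22499 = n22874 := d3_3 F63345 (iv2 F62783) D22499
theorem E6987 : n23538 = n22875 := ((c15_2 (iv0 D22874) D22875 F63330 F63346)).symm
theorem F63347 : act 3 n22875 = n11037 := (sb E6987 (iv3 D23538))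
theorem F63348 : act 5 n22875 = n22086 := (sb E6987 (iv5 F63294))
theorem F63349 : act 7 n22875 = n22499 := (sb E6987 F63330)
theorem F63350 : act 0 n20946 = n40435 := d20_7 (iv4 F15399) (iv1 D9297) F16071 (iv3 F14491) D19808 F63286 F62871 (iv4 D40435) F30691 F15396
theorem F63351 : act 3 n40506 = n40506 := d7_3 F61626 F63280 (iv6 F61626)
theorem F63352 : act 2 n40506 = n20378 := d3_3 F32354 F63279 (iv6 F61626)
theorem E6988 : n40507 = n20380 := (c15_2 (iv0 D40506) D40507 F32358 (iv2 F63352))
theorem F63354 : act 0 n20380 = n19140 := (sb E6988 (iv1 D40507))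
theorem F63355 : act 1 n20380 = n40468 := (sb E6988 F61627)
theorem E6989 : n20922 = n19879 := ((c20_7 D21289 F63261 F16010 F14552 D9356 F35696 D19879 (iv1 F33100) F32950 F32442 (iv1 F16437))).symm
theorem F63356 : act 0 n19879 = n20785 := (sb E6989 (iv1 F33100))
theorem F63357 : act 1 n19879 = n9945 := (sb E6989 (iv0 D20922))
theorem E6990 : n20923 = n19745 := (c15_2 F63357 D20923 F31506 F35800)
theorem F63358 : act 0 n19745 = n9945 := (sb E6990 (iv1 D20923))
theorem F63359 : act 1 n19745 = n20785 := (sb E6990 F33095)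
theorem E6991 : n21721 = n19802 := ((c15_4 (iv0 D21721) (iv0 F63258) (iv7 D19814) (iv2 F31572))).symm
theorem F63360 : act 1 n19802 = n10358 := (sb E6991 (iv0 D21721))
theorem F63361 : act 5 n23217 = n21717 := d21_0 (iv1 D21717) (iv5 D10357) D10358 (iv1 F63360) (iv6 D19802) D19801 F63252 F63241 D23563 (iv1 F63321)
theorem F63363 : act 0 n23063 = n21360 := d21_4 D10362 (iv1 F34166) (iv5 F63361) (iv6 F36319) (iv6 D21360) (iv5 D10184) (iv1 F15994) F15991 (iv6 F16286) (iv1 F16288)
theorem F63364 : act 2 n23066 = n21360 := d15_3 (iv0 F63363) (iv0 D23063) D23066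
theorem E6992 : n21343 = n21240 := (c3_4 (iv6 F36122) F63364 (iv6 D21360) (iv2 F33533))
theorem E6993 : n23050 = n10184 := (((iv2 F36109)).symm.trans (sb E6992 F33533))
theorem E6994 : n10181 = n10147 := ((((iv5 D21240)).symm.trans (sb E6992 (iv5 D21343)))).symm
theorem E6995 : n23031 = n10189 := (((iv7 F36083)).symm.trans (sb E6992 F33534))
theorem F63365 : act 2 n10184 = n21240 := (sb E6993 F36109)
theorem E6996 : n21237 = n4624 := ((((iv5 D10184)).symm.trans (sb E6993 F36110))).symm
theorem E6997 : n21361 = n10868 := ((D21361).symm.trans (sb E6993 (iv7 D23050)))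
theorem E7000 : n21341 = n21238 := (((D21238).symm.trans (sb E6994 D21341))).symm
theorem E7001 : n21342 = n21239 := (((D21239).symm.trans (sb E6994 D21342))).symm
theorem E7002 : n21344 = n21241 := (((D21241).symm.trans (sb E6994 D21344))).symm
theorem E7003 : n21242 = n4625 := ((D21242).symm.trans (sb E6994 (iv7 F16014)))
theorem E7004 : n10864 = n10850 := ((((iv6 F17643)).symm.trans (sb E6995 (iv6 D23031)))).symm
theorem F63366 : act 7 n10189 = n21240 := (sb E6995 F36083)
theorem F63367 : act 2 n4624 = n10147 := (sb E6996 (iv2 D21237))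
theorem E7005 : n10186 = n10148 := ((D10186).symm.trans (sb E6996 (iv7 F33467)))
theorem F63368 : act 2 n10868 = n10189 := (sb E6997 F33556)
theorem E7006 : n22986 = n4952 := ((((iv6 D10868)).symm.trans (sb E6997 (iv6 F36044)))).symm
theorem F63369 : act 7 n10868 = n10184 := (sb E6997 (iv7 D21361))
theorem F63370 : act 7 n21238 = n10187 := (sb E7000 F33530)
theorem F63371 : act 2 n21239 = n10183 := (sb E7001 F33531)
theorem F63372 : act 7 n21239 = n10188 := (sb E7001 F33532)
theorem F63373 : act 2 n21241 = n10185 := (sb E7002 F33535)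
theorem F63374 : act 7 n4625 = n10147 := (sb E7003 (iv7 D21242))
theorem E7009 : n23028 = n22987 := (((D22987).symm.trans (sb E7004 D23028))).symm
theorem E7010 : n23029 = n22988 := (((D22988).symm.trans (sb E7004 D23029))).symm
theorem E7011 : n23030 = n22989 := (((D22989).symm.trans (sb E7004 D23030))).symm
theorem E7012 : n22990 = n4953 := ((D22990).symm.trans (sb E7004 (iv7 F17656)))
theorem F63375 : act 2 n10148 = n4625 := (sb E7005 F16015)
theorem E7013 : n21350 = n20799 := (((F32960).symm.trans (sb E7005 (iv3 F33539)))).symm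
theorem E7014 : n21356 = n21243 := (((D21243).symm.trans (sb E7005 (iv4 F33551)))).symm
theorem E7015 : n21366 = n19780 := ((((iv6 F63237)).symm.trans (sb E7005 D21366))).symm
theorem F63376 : act 7 n10148 = n4624 := (sb E7005 (iv7 D10186))
theorem F63377 : act 2 n4952 = n10850 := (sb E7006 (iv2 D22986))
theorem E7016 : n10869 = n10851 := ((D10869).symm.trans (sb E7006 (iv7 F36045)))
theorem F63378 : act 7 n22987 = n10870 := (sb E7009 F36076)
theorem F63379 : act 2 n22988 = n10866 := (sb E7010 F36077)
theorem F63380 : act 7 n22988 = n10871 := (sb E7010 F36078)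
theorem F63381 : act 2 n22989 = n10867 := (sb E7011 F36079)
theorem F63382 : act 7 n22989 = n10872 := (sb E7011 F36080)
theorem F63383 : act 7 n4953 = n10850 := (sb E7012 (iv7 D22990))
theorem F63384 : act 7 n20799 = n10182 := (sb E7013 (iv7 D21350))
theorem F63385 : act 2 n21243 = n10188 := (sb E7014 F33550)
theorem F63386 : act 7 n21243 = n10183 := (sb E7014 (iv7 D21356))
theorem F63387 : act 2 n19780 = n10190 := (sb E7015 F33561)
theorem F63388 : act 2 n10851 = n4953 := (sb E7016 F17658)
theorem E7017 : n23037 = n20036 := (((F31868).symm.trans (sb E7016 (iv3 F36087)))).symm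
theorem E7018 : n23043 = n22991 := (((D22991).symm.trans (sb E7016 (iv4 F36092)))).symm
theorem E7019 : n23048 = n22992 := (((D22992).symm.trans (sb E7016 (iv5 F36105)))).symm
theorem E7020 : n23051 = n22993 := (((D22993).symm.trans (sb E7016 D23051))).symm
theorem F63389 : act 7 n10851 = n4952 := (sb E7016 (iv7 D10869))
theorem F63390 : act 7 n20036 = n10865 := (sb E7017 (iv7 D23037))
theorem F63391 : act 2 n22991 = n10871 := (sb E7018 F36091)
theorem F63392 : act 7 n22991 = n10866 := (sb E7018 (iv7 D23043))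
theorem F63393 : act 2 n22992 = n10872 := (sb E7019 F36104)
theorem F63394 : act 7 n22992 = n10867 := (sb E7019 (iv7 D23048))
theorem F63395 : act 1 n22993 = n21494 := (sb E7020 F36124)
theorem F63396 : act 2 n22993 = n10873 := (sb E7020 F36112)
theorem E7021 : n23064 = n21187 := (c15_1 D23064 (iv0 F33555) (iv7 F36052) F63396)
theorem F63397 : act 0 n21187 = n10873 := (sb E7021 (iv1 D23064))
theorem F63398 : act 2 n23062 = n23675 := d3_3 F36819 F63393 D23062
theorem F63399 : act 1 n22992 = n19813 := d15_0 (iv0 F63323) F63382 (iv2 F63393)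
theorem F63400 : act 7 n23676 = n23062 := d15_2 (iv0 D23675) D23676 F63398
theorem E7022 : n20029 = n19927 := ((c11_2 F63390 F31760 (iv7 F31866) D20036)).symm
theorem F63401 : act 2 n19927 = n9444 := (sb E7022 (iv2 D20029))
theorem F63402 : act 7 n19927 = n9445 := (sb E7022 (iv7 F31866))
theorem E7023 : n20034 = n19928 := (c15_4 F31754 F31758 F63402 (iv2 F31867))
theorem F63403 : act 2 n19928 = n9445 := (sb E7023 F31867)
theorem F63404 : act 7 n19928 = n9444 := (sb E7023 (iv7 D20034))
theorem E7024 : n23034 = n20031 := ((c1_3 F31760 F63401 D20031 (iv2 D23034))).symm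
theorem F63405 : act 2 n20031 = n10865 := (sb E7024 (iv2 D23034))
theorem F63406 : act 2 n21379 = n23047 := d2_3 (iv5 F63236) F63387 D21379
theorem E7025 : n21380 = n19781 := ((c15_2 (iv0 D19780) D19781 (iv7 D21380) (iv2 F63387))).symm
theorem F63407 : act 7 n19781 = n10190 := (sb E7025 (iv7 D21380))
theorem E7026 : n20792 = n20762 := ((c11_2 F63384 F32926 (iv7 F32958) D20799)).symm
theorem F63408 : act 2 n20762 = n9879 := (sb E7026 (iv2 D20792))
theorem F63409 : act 7 n20762 = n9880 := (sb E7026 (iv7 F32958))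
theorem F63410 : act 7 n21348 = n23036 := d13_2 F63384 D21348 (iv5 F36086)
theorem E7027 : n20797 = n20763 := (c15_4 F32920 F32924 F63409 (iv2 F32959))
theorem F63411 : act 2 n20763 = n9880 := (sb E7027 F32959)
theorem F63412 : act 7 n20763 = n9879 := (sb E7027 (iv7 D20797))
theorem E7028 : n21347 = n20794 := ((c1_3 F32926 F63408 D20794 (iv2 D21347))).symm
theorem F63413 : act 2 n20794 = n10182 := (sb E7028 (iv2 D21347))
theorem F63414 : act 2 n23042 = n21376 := d3_3 (iv6 F36047) F63379 D23042
theorem E7029 : n23238 = n21364 := ((c2_3 (iv5 F33468) F63373 D21364 F36329)).symm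
theorem F63415 : act 2 n21364 = n10929 := (sb E7029 F36329)
theorem F63416 : act 7 n21364 = n10928 := (sb E7029 (iv7 D23238))
theorem E7030 : n23236 = n21365 := (c13_2 F63416 D23236 (iv7 D21365) D21364)
theorem F63417 : act 1 n21365 = n19819 := (sb E7030 (iv0 F63283))
theorem F63418 : act 5 n21365 = n10928 := (sb E7030 (iv5 D23236))
theorem E7031 : n23233 = n23161 := (c15_4 (iv0 D23161) (iv0 F33559) F63416 D23233)
theorem F63419 : act 2 n23161 = n10928 := (sb E7031 (iv2 D23233))
theorem F63420 : act 7 n23161 = n10929 := (sb E7031 (iv7 F36328))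
theorem F63421 : act 7 n21359 = n23042 := d11_2 F63369 D21359 F36090
theorem E7032 : n20783 = n20439 := ((c20_7 D21623 F63254 F33520 F31688 (iv1 F15143) F35670 D20439 (iv1 D20783) F15528 F15135 D10328)).symm
theorem F63422 : act 0 n20439 = n9876 := (sb E7032 (iv1 D20783))
theorem F63423 : act 1 n20439 = n20925 := (sb E7032 F33101)
theorem E7033 : n20782 = n19739 := (c15_2 F63423 F33102 (iv7 F31506) F35675)
theorem F63424 : act 0 n19739 = n20925 := (sb E7033 (iv1 F33102))
theorem F63425 : act 1 n19739 = n9876 := (sb E7033 (iv0 D20782))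
theorem F63426 : act 4 n21271 = n19626 := d20_0 (iv1 D19626) F14425 F6089 D4189 D9260 D19739 F63424 F33098 (iv3 F34380) (iv1 F34382)
theorem F63427 : act 3 n19471 = n21271 := d20_5 (iv4 F15292) (iv1 F5935) (iv4 F6100) (iv3 F14435) (iv1 F31130) F63426 (iv1 D19626) F14425 F6089 D4189
theorem F63428 : act 4 n21617 = n19853 := d20_2 (iv4 F16430) D21617 (iv3 F61503) F31477 F14456 F6093 (iv1 F3049) D4200 D9306 (iv1 F63246)
theorem F63429 : act 4 n21280 = n19728 := d20_2 (iv4 F34031) (iv1 F34034) (iv3 D19728) (iv1 D9256) F6089 F3045 D1790 D4195 D9287 F63243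
theorem F63430 : act 5 n22824 = n21731 := d6_2 F63241 (iv3 F62468) F34179
theorem F63431 : act 5 n40768 = n41217 := d17_5 (iv1 F63099) D10786 D22824 F63430 (iv4 F63049) (iv0 D41217) (iv5 D19384) F63093 F30928
theorem F63432 : act 3 n21635 = n20387 := d20_3 (iv4 F13923) D19082 (iv4 F63125) (iv1 F63165) F35867 D19760 F63223 F63199 (iv3 D19092) (iv1 D8942)
theorem F63433 : act 4 n20387 = n19910 := d20_6 (iv4 F63199) (iv1 D21644) F16444 (iv3 F16439) D21635 F63432 (iv1 F32415) F32411 (iv3 F32363) (iv1 F61491)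
theorem F63434 : act 0 n20141 = n23485 := d20_7 (iv4 F17886) (iv1 F17890) F17879 D11081 F63218 (iv3 F32688) F32689 (iv4 D23485) (iv3 D11008) (iv1 F7434)
theorem E7034 : n21980 = n19533 := (c20_8 (iv4 F32948) (iv1 F63212) (iv4 D19921) F35691 (iv1 D9381) (iv3 F14593) (iv4 F16693) D21980 (iv4 D19533) D19532 F63163)
theorem F63435 : act 1 n19533 = n10484 := (sb E7034 (iv0 D21980))
theorem F63436 : act 4 n21254 = n20382 := d18_7 (iv1 F35638) (iv4 F63174) F63173 (iv4 D11060) F35838 D19797 F63201 (iv0 D20382) F16965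
theorem E7035 : n40322 = n20382 := ((c20_3 (iv4 F15998) D21254 F63436 (iv3 D40322) (iv1 F30594) F13924 (iv4 F6100) F16061 (iv4 D4200) D4199 F63185)).symm
theorem F63437 : act 3 n20382 = n19060 := (sb E7035 (iv3 D40322))
theorem F63438 : act 4 n21255 = n20383 := d20_2 D19797 F63200 (iv3 F58694) (iv1 D37848) (iv3 F32360) F32361 (iv1 F35821) (iv4 D19768) F16117 (iv1 F16113)
theorem F63439 : act 2 n21644 = n21255 := d1_3 F63438 (iv2 F61478) (iv4 F63199)
theorem F63440 : act 7 n21254 = n21644 := d15_2 (iv0 F63200) F63201 F63439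
theorem F63441 : act 7 n21643 = n21255 := d15_2 (iv0 F63223) F63224 (iv2 F63439)
theorem F63442 : act 2 n21254 = n21643 := d4_3 F63441 (iv2 F63439) (iv7 F63440)
theorem E7036 : n40396 = n20382 := (c11_3 F63440 F63199 (iv7 F61467) (iv4 F63436))
theorem E7037 : n19086 = n19060 := (((F63437).symm.trans (sb E7036 (iv3 D40396)))).symm
theorem F63443 : act 7 n20382 = n19092 := (sb E7036 F61467)
theorem E7038 : n40394 = n8943 := ((((iv1 F30594)).symm.trans (sb E7037 D40394))).symm
theorem E7040 : n40321 = n8941 := ((D40321).symm.trans (sb E7037 (iv2 D19086)))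
theorem E7041 : n40397 = n40323 := (((D40323).symm.trans (sb E7037 D40397))).symm
theorem E7042 : n40398 = n40324 := (((D40324).symm.trans (sb E7037 D40398))).symm
theorem E7043 : n40399 = n23427 := ((((iv6 F36537)).symm.trans (sb E7037 D40399))).symm
theorem E7044 : n40325 = n8942 := ((D40325).symm.trans (sb E7037 (iv7 F30640)))
theorem E7045 : n19091 = n19061 := ((((iv1 F30590)).symm.trans (sb E7038 (iv1 F61465)))).symm
theorem F63444 : act 2 n8941 = n19060 := (sb E7040 (iv2 D40321))
theorem F63445 : act 2 n40323 = n19088 := (sb E7041 F61468)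
theorem F63446 : act 7 n40323 = n19093 := (sb E7041 F61469)
theorem F63447 : act 2 n40324 = n19089 := (sb E7042 F61470)
theorem F63448 : act 7 n40324 = n19094 := (sb E7042 F61471)
theorem F63449 : act 2 n23427 = n19090 := (sb E7043 F61472)
theorem F63450 : act 7 n8942 = n19060 := (sb E7044 (iv7 D40325))
theorem F63451 : act 2 n19061 = n8942 := (sb E7045 F30641)
theorem E7046 : n40403 = n19643 := (((F31408).symm.trans (sb E7045 (iv3 F61477)))).symm
theorem E7047 : n40409 = n40326 := (((D40326).symm.trans (sb E7045 (iv4 F61484)))).symm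
theorem E7048 : n40414 = n19726 := ((((iv5 F31488)).symm.trans (sb E7045 (iv5 F61496)))).symm
theorem E7049 : n40418 = n21055 := ((((iv6 F62525)).symm.trans (sb E7045 D40418))).symm
theorem F63452 : act 7 n19061 = n8941 := (sb E7045 (iv7 D19091))
theorem F63453 : act 2 n19643 = n37848 := (sb E7046 F61476)
theorem F63454 : act 7 n19643 = n19087 := (sb E7046 (iv7 D40403))
theorem F63455 : act 2 n40326 = n19093 := (sb E7047 F61483)
theorem F63456 : act 7 n40326 = n19088 := (sb E7047 (iv7 D40409))
theorem F63457 : act 2 n19726 = n19094 := (sb E7048 F61495)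
theorem F63458 : act 7 n19726 = n19089 := (sb E7048 (iv7 D40414))
theorem F63459 : act 2 n21055 = n19095 := (sb E7049 F61498)
theorem E7050 : n40429 = n21056 := ((c15_2 (iv0 D21055) D21056 (iv7 D40429) (iv2 F63459))).symm
theorem F63460 : act 7 n21056 = n19095 := (sb E7050 (iv7 D40429))
theorem E7051 : n19722 = n19718 := ((c3_3 D19726 F63457 (iv6 F31476) (iv2 D19722))).symm
theorem F63461 : act 2 n19718 = n9255 := (sb E7051 (iv2 D19722))
theorem F63462 : act 7 n19718 = n9256 := (sb E7051 (iv7 F31487))
theorem F63463 : act 7 n19728 = n19853 := d8_2 F63462 D19728 (iv3 F61503)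
theorem E7052 : n19727 = n19719 := (c15_4 F31478 (iv0 F31477) F63462 (iv2 F31489))
theorem F63464 : act 2 n19719 = n9256 := (sb E7052 F31489)
theorem F63465 : act 7 n19719 = n9255 := (sb E7052 (iv7 D19727))
theorem F63466 : act 7 n19723 = n20416 := d8_2 F63465 D19723 (iv3 F61804)
theorem F63467 : act 2 n19723 = n20415 := d15_3 (iv0 D20415) D20416 (iv7 F63466)
theorem F63468 : act 7 n21617 = n21280 := d11_2 F63463 (iv4 F63428) F63429
theorem F63469 : act 2 n19728 = n19854 := d15_3 F61802 F61805 (iv7 F63463)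
theorem F63470 : act 2 n21280 = n21618 := d15_3 F34028 F34033 F63468
theorem F63471 : act 2 n21617 = n21279 := d15_3 (iv0 D21279) D21280 (iv7 F63468)
theorem F63472 : act 7 n21279 = n21618 := d4_2 (iv7 F63468) F63471 (iv2 F63470)
theorem F63473 : act 4 n21618 = n19854 := d1_2 (iv4 F63429) F63470 (iv2 F63469)
theorem F63474 : act 3 n19854 = n40541 := d20_3 (iv4 F33503) (iv1 F34028) F63473 (iv1 D40541) (iv3 F30849) F30850 (iv1 F63255) (iv4 D21623) F63253 (iv1 F16436)
theorem F63475 : act 4 n20420 = n19873 := d20_0 (iv1 F32475) F32471 (iv3 F32430) (iv1 F61666) (iv3 F63474) (iv4 F63473) (iv1 D21618) F16430 (iv3 F15135) D20420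
theorem F63476 : act 3 n20420 = n19470 := d20_3 (iv4 F14577) D19873 (iv4 F63475) F31129 F14435 F6100 (iv1 F5936) (iv4 F15266) D9264 (iv1 F35783)
theorem F63477 : act 6 n19687 = n20420 := d7_0 F63476 F31128 (iv3 F31442)
theorem F63478 : act 2 n40541 = n20416 := d0_1 F63474 (iv3 F61804) F63464 D19728 F63469
theorem F63479 : act 7 n20415 = n40541 := d4_0 F63478 (iv7 F63466) F63467
theorem E7053 : n40540 = n19723 := (c15_2 F61666 F61672 F63466 (iv2 F63478))
theorem F63480 : act 0 n19723 = n20418 := (sb E7053 (iv1 F61672))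
theorem F63481 : act 1 n19723 = n19153 := (sb E7053 (iv0 D40540))
theorem E7054 : n19636 = n19527 := ((c11_2 F63454 F31268 (iv7 F31406) D19643)).symm
theorem F63482 : act 2 n19527 = n9231 := (sb E7054 (iv2 D19636))
theorem F63483 : act 7 n19527 = n9232 := (sb E7054 (iv7 F31406))
theorem E7055 : n40400 = n19638 := (c15_4 F35826 (iv0 F58698) F63454 D40400)
theorem F63484 : act 2 n19638 = n19087 := (sb E7055 (iv2 D40400))
theorem F63485 : act 7 n19638 = n37848 := (sb E7055 (iv7 F61473))
theorem E7056 : n19641 = n19528 := ((c11_2 F63485 (iv4 F58693) (iv7 D19641) D19638)).symm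
theorem F63486 : act 2 n19528 = n9232 := (sb E7056 F31407)
theorem F63487 : act 7 n19528 = n9231 := (sb E7056 (iv7 D19641))
theorem E7057 : n23424 = n23373 := ((c2_3 D23427 F63449 F36496 F36536)).symm
theorem F63488 : act 2 n23373 = n10988 := (sb E7057 F36536)
theorem F63489 : act 7 n23373 = n10987 := (sb E7057 (iv7 D23424))
theorem E7058 : n40417 = n23422 := ((c13_2 F63489 D23422 (iv7 D40417) F36496)).symm
theorem F63490 : act 7 n23422 = n19090 := (sb E7058 (iv7 D40417))
theorem E7059 : n23419 = n23372 := (c15_4 (iv0 D23372) D23373 F63489 D23419)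
theorem F63491 : act 2 n23372 = n10987 := (sb E7059 (iv2 D23419))
theorem F63492 : act 7 n23372 = n10988 := (sb E7059 (iv7 F36534))
theorem F63493 : act 2 n23428 = n20696 := d3_3 F63059 F63488 D23428
theorem F63494 : act 7 n20697 = n23428 := d15_2 (iv0 D20696) D20697 F63493
theorem F63495 : act 7 n20387 = n19685 := d15_2 D19684 F63165 (iv2 D19685)
theorem F63496 : act 2 n19656 = n20387 := d4_3 F63495 (iv2 D19685) (iv7 F31416)
theorem E7060 : n21635 = n19662 := (c0_3 D19656 F63496 (iv3 F63432) (iv2 D19662) (iv3 D9237) D9236)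
theorem F63497 : act 1 n19662 = n10332 := (sb E7060 (iv0 D21635))
theorem F63498 : act 3 n19662 = n20387 := (sb E7060 F63432)
theorem F63499 : act 4 n19662 = n19082 := (sb E7060 F63125)
theorem E7061 : n40381 = n19663 := (c1_2 F63499 D40381 (iv4 D19663) D19662)
theorem F63500 : act 2 n19663 = n19082 := (sb E7061 (iv2 D40381))
theorem F63501 : act 7 n19663 = n19083 := (sb E7061 (iv7 F61460))
theorem E7062 : n19666 = n19537 := ((c11_2 F63501 (iv4 F31273) (iv7 D19666) D19663)).symm
theorem E7063 : n9241 = n9195 := ((((iv3 D19537)).symm.trans (sb E7062 F31427))).symm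
theorem F63502 : act 7 n19537 = n9237 := (sb E7062 (iv7 D19666))
theorem E7064 : n19655 = n4161 := ((((iv1 D9195)).symm.trans (sb E7063 (iv1 F31415)))).symm
theorem E7066 : n19536 = n4179 := (((iv2 F31272)).symm.trans (sb E7063 F14434))
theorem E7067 : n19672 = n19538 := (((D19538).symm.trans (sb E7063 (iv4 F31431)))).symm
theorem E7068 : n19677 = n19539 := (((D19539).symm.trans (sb E7063 (iv5 F31437)))).symm
theorem E7069 : n19682 = n19540 := (((D19540).symm.trans (sb E7063 D19682))).symm
theorem E7070 : n19531 = n4178 := ((F31270).symm.trans (sb E7063 (iv7 D9241)))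
theorem E7071 : n9236 = n9194 := (((D9194).symm.trans (sb E7064 (iv1 D19655)))).symm
theorem F63503 : act 2 n4179 = n9195 := (sb E7066 F31272)
theorem F63504 : act 2 n19538 = n9243 := (sb E7067 F31430)
theorem F63505 : act 7 n19538 = n9238 := (sb E7067 (iv7 D19672))
theorem F63506 : act 2 n19539 = n9244 := (sb E7068 F31436)
theorem F63507 : act 7 n19539 = n9239 := (sb E7068 (iv7 D19677))
theorem F63508 : act 2 n19540 = n9245 := (sb E7069 F31441)
theorem F63509 : act 7 n4178 = n9195 := (sb E7070 (iv7 F31270))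
theorem F63510 : act 2 n9194 = n4178 := (sb E7071 (iv2 D9236))
theorem E7072 : n19656 = n19532 := (((D19532).symm.trans (sb E7071 D19656))).symm
theorem E7073 : n19657 = n19533 := (((D19533).symm.trans (sb E7071 D19657))).symm
theorem E7074 : n19658 = n19534 := (((D19534).symm.trans (sb E7071 D19658))).symm
theorem E7075 : n19659 = n19535 := (((D19535).symm.trans (sb E7071 D19659))).symm
theorem F63511 : act 7 n9194 = n4179 := (sb E7071 (iv7 F14433))
theorem F63512 : act 2 n19532 = n20387 := (sb E7072 F63496)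
theorem F63513 : act 7 n19532 = n9242 := (sb E7072 F31416)
theorem F63514 : act 2 n19533 = n9238 := (sb E7073 F31417)
theorem F63515 : act 7 n19533 = n9243 := (sb E7073 F31418)
theorem F63516 : act 2 n19534 = n9239 := (sb E7074 F31419)
theorem F63517 : act 7 n19534 = n9244 := (sb E7074 F31420)
theorem F63518 : act 2 n19535 = n9240 := (sb E7075 F31421)
theorem E7076 : n40386 = n40318 := (c15_4 F61379 (iv0 F31422) F63501 (iv2 F61462))
theorem F63519 : act 2 n40318 = n19083 := (sb E7076 F61462)
theorem F63520 : act 7 n40318 = n19082 := (sb E7076 (iv7 D40386))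
theorem E7077 : n22938 = n19680 := ((c2_3 (iv5 F31271) F63518 D19680 F35998)).symm
theorem F63521 : act 2 n19680 = n10829 := (sb E7077 F35998)
theorem F63522 : act 7 n19680 = n10828 := (sb E7077 (iv7 D22938))
theorem E7078 : n22057 = n19681 := (c13_2 F63522 (iv5 F34528) (iv7 D19681) D19680)
theorem F63523 : act 1 n19681 = n10507 := (sb E7078 (iv0 D22057))
theorem F63524 : act 5 n19681 = n10828 := (sb E7078 F34528)
theorem E7079 : n22934 = n21872 := (c15_4 (iv0 D21872) (iv0 F31439) F63522 D22934)
theorem F63525 : act 2 n21872 = n10828 := (sb E7079 (iv2 D22934))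
theorem F63526 : act 7 n21872 = n10829 := (sb E7079 (iv7 F35997))
theorem F63527 : act 2 n22941 = n23293 := d3_3 (iv6 F63003) F63521 D22941
theorem F63528 : act 7 n23294 = n22941 := d15_2 (iv0 D23293) D23294 F63527
theorem F63529 : act 7 n19686 = n20399 := d11_2 F63513 D19686 F35864
theorem E7080 : n19903 = n19685 := ((c15_4 F32378 (iv0 F63163) F63513 D19685)).symm
theorem F63530 : act 0 n19685 = n9372 := (sb E7080 (iv1 D19903))
theorem F63531 : act 1 n19685 = n20389 := (sb E7080 F32378)
theorem F63532 : act 4 n20400 = n19685 := d18_7 (iv1 F63132) (iv4 F35633) (iv1 D20483) F15186 F16837 (iv4 F15077) D20400 F63531 (iv5 F33041)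
theorem F63533 : act 2 n19686 = n20400 := d1_3 F63532 (iv2 D19685) D19686
theorem F63534 : act 7 n19910 = n20400 := d11_0 F63532 (iv7 F63495) F63433
theorem F63535 : act 2 n20399 = n19910 := d4_3 F63534 (iv2 F63533) F63529
theorem E7081 : n21804 = n19696 := (c15_2 F62645 D21804 (iv7 D19696) (iv2 F63508))
theorem F63536 : act 0 n19696 = n10407 := (sb E7081 (iv1 D21804))
theorem F63537 : act 1 n19696 = n22465 := (sb E7081 F62646)
theorem E7082 : n19698 = n19470 := ((c3_3 (iv6 F31274) F63506 (iv6 F31128) (iv2 D19698))).symm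
theorem F63538 : act 2 n19470 = n9247 := (sb E7082 (iv2 D19698))
theorem F63539 : act 7 n19470 = n9248 := (sb E7082 (iv7 F31449))
theorem F63540 : act 7 n19703 = n20420 := d8_2 F63539 D19703 F63476
theorem E7083 : n19702 = n19471 := (c15_4 F31130 (iv0 F31129) F63539 (iv2 F31450))
theorem F63541 : act 2 n19471 = n9248 := (sb E7083 F31450)
theorem F63542 : act 7 n19471 = n9247 := (sb E7083 (iv7 D19702))
theorem F63543 : act 7 n19699 = n21271 := d8_2 F63542 D19699 (iv3 F63427)
theorem F63544 : act 2 n19699 = n21270 := d15_3 (iv0 D21270) D21271 (iv7 F63543)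
theorem F63545 : act 7 n19873 = n20430 := d11_2 F63540 F63475 F35855
theorem F63546 : act 2 n19703 = n20421 := d15_3 F32437 F32444 (iv7 F63540)
theorem F63547 : act 2 n20430 = n19874 := d15_3 F32474 F32475 F63545
theorem F63548 : act 2 n19873 = n20429 := d15_3 (iv0 D20429) D20430 (iv7 F63545)
theorem F63549 : act 7 n20429 = n19874 := d4_2 (iv7 F63545) F63548 (iv2 F63547)
theorem F63550 : act 4 n19874 = n20421 := d1_2 (iv4 F35855) F63547 (iv2 F63546)
theorem F63551 : act 3 n20421 = n21894 := d20_3 (iv4 F32471) (iv1 F32474) F63550 (iv1 D21894) F16635 (iv4 F15684) (iv1 F63357) (iv4 D19879) F35696 (iv1 F15150)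
theorem E7084 : n40600 = n19724 := (c20_2 (iv4 F30806) D40600 (iv4 D19724) D19723 F63480 F32430 (iv4 F32471) (iv1 F32474) F63550 F63551 (iv1 D21894))
theorem F63552 : act 1 n19724 = n19174 := (sb E7084 (iv0 D40600))
theorem F63553 : act 2 n21894 = n21271 := d0_1 F63551 (iv3 F63427) F63541 D19703 F63546
theorem F63554 : act 7 n21270 = n21894 := d4_0 F63553 (iv7 F63543) F63544
theorem E7085 : n21893 = n19699 := (c15_2 F34375 F34381 F63543 (iv2 F63553))
theorem F63555 : act 0 n19699 = n21273 := (sb E7085 (iv1 F34381))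
theorem F63556 : act 1 n19699 = n10444 := (sb E7085 (iv0 D21893))
theorem E7086 : n21989 = n19700 := (c20_2 F30773 D21989 (iv4 D19700) D19699 F63555 F33498 (iv4 F33503) (iv1 F34028) F63473 F63474 (iv1 D40541))
theorem F63557 : act 1 n19700 = n10487 := (sb E7086 (iv0 D21989))
theorem E7087 : n21636 = n19537 := (c15_2 F63497 D21636 F63502 D19662)
theorem F63558 : act 0 n19537 = n10332 := (sb E7087 (iv1 D21636))
theorem F63559 : act 5 n41172 = n40390 := d17_5 F63558 F16969 (iv1 F63108) D22819 (iv4 F62378) (iv0 D40390) (iv5 D19084) D19083 (iv4 F31273)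
theorem F63560 : act 7 n40390 = n41171 := d13_2 D41172 F63559 (iv5 D41171)
theorem E7088 : n40596 = n40326 := ((c20_1 D40326 (iv1 D40596) F30803 F16439 (iv1 F63153) (iv3 D4194) D4195 F16064 F6100 (iv3 F13924) (iv1 F30590))).symm
theorem F63561 : act 0 n40326 = n19172 := (sb E7088 (iv1 D40596))
theorem E7089 : n40595 = n40323 := ((c15_4 (iv0 D40595) (iv0 F63561) F63456 (iv2 F63445))).symm
theorem F63562 : act 1 n40323 = n19172 := (sb E7089 (iv0 D40595))
theorem F63563 : act 1 n40597 = n41223 := d17_6 (iv1 D22829) (iv5 F17310) F63109 (iv5 F16969) (iv4 F30803) D40597 (iv5 D41223) D41222 F62418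
theorem F63564 : act 0 n22827 = n22367 := d21_10 F34926 (iv1 D21884) F16626 (iv6 D10440) (iv1 F14261) D19478 F31155 (iv1 F63099) D10786 D22827
def n41256 : Q := act 7 n19404
theorem D41256 : act 7 n19404 = n41256 := rfl
theorem F63565 : act 2 n41256 = n41233 := d4_1 D41256 F62457 F61977
theorem F63566 : act 4 n41256 = n19408 := d11_1 D41256 (iv7 F31039) (iv4 F31033)
theorem F63567 : act 6 n41256 = n40864 := d14_1 D41256 F61974 F31034 F31056 D19404
theorem F63568 : act 1 n41233 = n41253 := d15_0 (iv0 D41253) D41256 F63565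
def n41257 : Q := act 3 n19405
theorem D41257 : act 3 n19405 = n41257 := rfl
theorem F63569 : act 6 n41257 = n40862 := d7_2 (iv6 F31034) D41257 (iv3 D40862)
def n41258 : Q := act 5 n19405
theorem D41258 : act 5 n19405 = n41258 := rfl
theorem F63570 : act 2 n41258 = n41223 := d2_1 D41258 (iv5 D41223) F31059
def n41260 : Q := act 4 n19406
theorem D41260 : act 4 n19406 = n41260 := rfl
theorem F63573 : act 2 n41260 = n40653 := d1_1 D41260 (iv4 D40653) (iv2 F62266)
theorem F63574 : act 7 n41260 = n40668 := d11_2 (iv7 F62267) D41260 (iv4 D40668)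
def n41261 : Q := act 4 n19409
theorem D41261 : act 4 n19409 = n41261 := rfl
theorem F63575 : act 2 n41261 = n35785 := d1_1 D41261 (iv4 F56454) (iv2 F31069)
theorem F63576 : act 7 n41261 = n35784 := d11_2 F31640 D41261 F56453
theorem F63577 : act 0 n41261 = n35780 := d18_2 (iv1 F60661) D41261 (iv4 D35780) (iv5 D17338) F12884 F6212 D9562 F30878 (iv5 F60658)
theorem F63578 : act 1 n41261 = n20252 := d18_6 (iv1 D8896) F5920 D4090 D9104 D19409 D41261 (iv4 D20252) (iv0 F30316) (iv5 D18989)
def n41262 : Q := act 6 n19409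
theorem D41262 : act 6 n19409 = n41262 := rfl
theorem F63579 : act 2 n41262 = n40309 := d3_1 D41262 F61365 (iv2 F31069)
theorem F63580 : act 5 n41262 = n19831 := d12_1 D41262 (iv6 D19831) (iv5 D9328) (iv6 F14166) D19409
def n41263 : Q := act 1 n19410
theorem D41263 : act 1 n19410 = n41263 := rfl
theorem F63581 : act 1 n41263 = n19413 := d15_1 D41263 F31075 (iv2 F31070)
theorem F63582 : act 7 n41263 = n40311 := d15_2 F61564 D41263 (iv2 F61561)
theorem F63583 : act 4 n41263 = n20105 := d18_7 F28563 (iv4 F16320) (iv1 F16926) (iv4 D9104) D9105 D19410 D41263 (iv0 F57159) (iv5 D36411)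
def n41264 : Q := act 3 n19410
theorem D41264 : act 3 n19410 = n41264 := rfl
def n41265 : Q := act 5 n19410
theorem D41265 : act 5 n19410 = n41265 := rfl
theorem F63585 : act 2 n41265 = n40314 := d2_1 D41265 (iv5 D40314) (iv2 F31070)
def n41266 : Q := act 6 n19411
theorem D41266 : act 6 n19411 = n41266 := rfl
theorem F63586 : act 3 n41266 = n19414 := d7_1 D41266 (iv6 D19414) (iv3 F31071)
def n41267 : Q := act 4 n19412
theorem D41267 : act 4 n19412 = n41267 := rfl
theorem F63587 : act 2 n41267 = n35784 := d1_1 D41267 F56453 F31639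
theorem F63588 : act 7 n41267 = n35785 := d11_2 (iv7 F31074) D41267 (iv4 F56454)
theorem F63589 : act 0 n41267 = n20252 := d18_2 F61559 D41267 (iv4 D20252) (iv5 D9574) (iv4 D4318) (iv0 F17519) (iv4 F14520) F30730 D40460
theorem F63590 : act 1 n41267 = n35780 := d18_6 (iv1 F13862) F13028 (iv1 F6122) D9107 D19412 D41267 (iv4 D35780) (iv0 F30312) (iv5 D18988)
def n41268 : Q := act 6 n19412
theorem D41268 : act 6 n19412 = n41268 := rfl
theorem F63591 : act 3 n41268 = n35137 := d7_1 D41268 (iv6 D35137) (iv3 F31073)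
def n41269 : Q := act 3 n19413
theorem D41269 : act 3 n19413 = n41269 := rfl
theorem F63592 : act 7 n41269 = n40313 := d8_2 (iv7 F31075) D41269 (iv3 D40313)
def n41270 : Q := act 5 n19413
theorem D41270 : act 5 n19413 = n41270 := rfl
theorem F63593 : act 7 n41270 = n40314 := d13_2 (iv7 F31075) D41270 (iv5 D40314)
def n41271 : Q := act 6 n19413
theorem D41271 : act 6 n19413 = n41271 := rfl
theorem F63594 : act 4 n41271 = n19414 := d10_1 D41271 (iv6 D19414) D19413
def n41272 : Q := act 1 n19414
theorem D41272 : act 1 n19414 = n41272 := rfl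
def n41273 : Q := act 6 n19415
theorem D41273 : act 6 n19415 = n41273 := rfl
theorem F63595 : act 3 n41273 = n19417 := d7_1 D41273 (iv6 D19417) D19415
theorem F63596 : act 5 n41273 = n41266 := d12_1 D41273 (iv6 D41266) (iv5 D19411) (iv6 F27367) (iv5 F31076)
def n41274 : Q := act 3 n19416
theorem D41274 : act 3 n19416 = n41274 := rfl
def n41275 : Q := act 5 n19416
theorem D41275 : act 5 n19416 = n41275 := rfl
def n41276 : Q := act 6 n19416
theorem D41276 : act 6 n19416 = n41276 := rfl
theorem F63597 : act 4 n41276 = n19417 := d10_1 D41276 (iv6 D19417) D19416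
def n41277 : Q := act 0 n19417
theorem D41277 : act 0 n19417 = n41277 := rfl
def n41278 : Q := act 1 n19417
theorem D41278 : act 1 n19417 = n41278 := rfl
theorem F63598 : act 1 n41278 = n40969 := d15_1 D41278 F62113 F31650
def n41279 : Q := act 7 n19417
theorem D41279 : act 7 n19417 = n41279 := rfl
theorem F63600 : act 5 n41279 = n41065 := d13_1 D41279 F62302 (iv5 F31079)
def n41280 : Q := act 3 n19418
theorem D41280 : act 3 n19418 = n41280 := rfl
def n41281 : Q := act 5 n19418
theorem D41281 : act 5 n19418 = n41281 := rfl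
theorem F63603 : act 1 n41281 = n20283 := d17_6 F30734 (iv5 D19124) (iv1 F17587) D19479 F31158 D41281 (iv5 D20283) D20281 F32177
def n41282 : Q := act 6 n19418
theorem D41282 : act 6 n19418 = n41282 := rfl
theorem F63604 : act 2 n41282 = n22375 := d3_1 D41282 F34928 F31175
theorem F63605 : act 4 n41282 = n22353 := d10_1 D41282 F34893 F31158
def n41283 : Q := act 3 n19419
theorem D41283 : act 3 n19419 = n41283 := rfl
def n41284 : Q := act 5 n19419
theorem D41284 : act 5 n19419 = n41284 := rfl
theorem F63606 : act 0 n41284 = n20283 := d17_2 F31637 D41284 (iv5 D20283) (iv4 D9597) (iv5 D4325) D4323 (iv5 F17522) (iv0 F14529) D19835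
def n41285 : Q := act 6 n19419
theorem D41285 : act 6 n19419 = n41285 := rfl
def n41286 : Q := act 0 n19420
theorem D41286 : act 0 n19420 = n41286 := rfl
def n41287 : Q := act 1 n19420
theorem D41287 : act 1 n19420 = n41287 := rfl
def n41288 : Q := act 2 n19420
theorem D41288 : act 2 n19420 = n41288 := rfl
theorem F63607 : act 4 n41288 = n19467 := d1_2 (iv4 F31080) D41288 (iv2 D19467)
def n41289 : Q := act 5 n19420
theorem D41289 : act 5 n19420 = n41289 := rfl
theorem F63608 : act 3 n41289 = n19421 := d6_1 D41289 (iv5 D19421) D19420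
def n41290 : Q := act 0 n19421
theorem D41290 : act 0 n19421 = n41290 := rfl
theorem F63609 : act 5 n41290 = n20254 := d17_3 (iv1 D19419) D19421 D41290 (iv4 F33741) (iv5 D21468) (iv0 D10244) D10246 F31182 F31180
def n41291 : Q := act 1 n19421
theorem D41291 : act 1 n19421 = n41291 := rfl
theorem F63610 : act 5 n41291 = n20255 := d17_7 (iv1 F17551) (iv5 D9108) (iv1 D4091) D4092 D9111 D19421 D41291 (iv0 F32170) (iv4 D20278)
def n41292 : Q := act 4 n19421
theorem D41292 : act 4 n19421 = n41292 := rfl
theorem F63611 : act 2 n41292 = n36422 := d1_1 D41292 (iv4 F61665) F61664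
theorem F63612 : act 5 n41292 = n36412 := d16_3 D9111 D19421 D41292 (iv4 D36412) (iv5 D17583) F13028 D9333 F14528 F13987
def n41293 : Q := act 6 n19421
theorem D41293 : act 6 n19421 = n41293 := rfl
def n41294 : Q := act 3 n19424
theorem D41294 : act 3 n19424 = n41294 := rfl
theorem F63613 : act 4 n41294 = n23612 := d5_2 D19424 D41294 (iv3 D23612) (iv4 F35314) F35313
theorem F63614 : act 7 n41294 = n20481 := d8_2 (iv7 F35601) D41294 F32558
def n41295 : Q := act 5 n19424
theorem D41295 : act 5 n19424 = n41295 := rfl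
theorem F63615 : act 7 n41295 = n20484 := d13_2 (iv7 F35601) D41295 (iv5 D20484)
def n41296 : Q := act 3 n19432
theorem D41296 : act 3 n19432 = n41296 := rfl
theorem F63616 : act 4 n41296 = n41296 := d5_2 D19432 D41296 (iv3 D41296) (iv4 D19432) F14222
def n41297 : Q := act 5 n19432
theorem D41297 : act 5 n19432 = n41297 := rfl
theorem F63617 : act 2 n41297 = n19437 := d2_1 D41297 (iv5 D19437) (iv2 F31085)
def n41298 : Q := act 6 n19432
theorem D41298 : act 6 n19432 = n41298 := rfl
theorem F63618 : act 2 n41298 = n19438 := d3_1 D41298 (iv6 D19438) (iv2 F31085)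
theorem F63619 : act 4 n41298 = n19434 := d10_1 D41298 (iv6 D19434) D19432
theorem F63620 : act 0 n41298 = n20546 := d20_1 (iv4 F63619) F62983 F63292 (iv1 F17908) F17895 D23520 (iv1 F36652) (iv4 F63079) (iv3 F63080) (iv1 F31094)
def n41299 : Q := act 4 n19433
theorem D41299 : act 4 n19433 = n41299 := rfl
theorem F63621 : act 2 n41299 = n19441 := d1_1 D41299 (iv4 D19441) (iv2 F31086)
theorem F63622 : act 7 n41299 = n41298 := d11_2 (iv7 F31091) D41299 F63619
def n41300 : Q := act 3 n19435
theorem D41300 : act 3 n19435 = n41300 := rfl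
theorem F63623 : act 7 n41300 = n20520 := d8_2 (iv7 F63140) D41300 F32612
def n41301 : Q := act 5 n19435
theorem D41301 : act 5 n19435 = n41301 := rfl
theorem F63624 : act 7 n41301 = n20524 := d13_2 (iv7 F63140) D41301 (iv5 D20524)
def n41302 : Q := act 0 n19437
theorem D41302 : act 0 n19437 = n41302 := rfl
def n41303 : Q := act 1 n19437
theorem D41303 : act 1 n19437 = n41303 := rfl
def n41304 : Q := act 4 n19437
theorem D41304 : act 4 n19437 = n41304 := rfl
def n41305 : Q := act 6 n19437
theorem D41305 : act 6 n19437 = n41305 := rfl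
def n41306 : Q := act 0 n19438
theorem D41306 : act 0 n19438 = n41306 := rfl
theorem F63625 : act 4 n41306 = n22874 := d20_2 (iv4 F31093) D41306 F62453 (iv1 D22825) F17308 D10797 D22857 (iv4 F62387) F63008 (iv1 D19444)
theorem F63626 : act 1 n41299 = n41306 := d15_0 (iv0 D41306) (iv7 F31096) (iv2 F63621)
theorem F63627 : act 2 n20546 = n41306 := d1_3 F63625 (iv2 F63346) (iv4 F62983)
theorem F63628 : act 6 n20453 = n41306 := d10_0 F63625 F63345 F62754
def n41307 : Q := act 1 n19438
theorem D41307 : act 1 n19438 = n41307 := rfl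
theorem F63629 : act 1 n41307 = n41299 := d15_1 D41307 F63622 F63618
theorem F63630 : act 7 n41307 = n20546 := d15_2 (iv0 D41306) D41307 F63627
theorem F63631 : act 4 n22875 = n41307 := d20_6 (iv4 F14811) F16100 (iv4 D5040) (iv3 F7446) D11037 (iv3 F63347) (iv1 D41307) F31093 F14189 (iv1 F15301)
def n41308 : Q := act 5 n19438
theorem D41308 : act 5 n19438 = n41308 := rfl
theorem F63632 : act 0 n41308 = n20779 := d17_2 (iv1 D41307) D41308 (iv5 D20779) F15527 (iv5 F17015) (iv0 F63119) D10808 D22875 F63631
def n41309 : Q := act 4 n19439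
theorem D41309 : act 4 n19439 = n41309 := rfl
theorem F63633 : act 0 n41309 = n22876 := d18_2 D19439 D41309 (iv4 D22876) (iv5 D10808) D10807 (iv0 F31083) (iv4 D19424) (iv0 D9118) D9122
def n41310 : Q := act 0 n19441
theorem D41310 : act 0 n19441 = n41310 := rfl
theorem F63634 : act 2 n41307 = n41310 := d15_3 (iv0 D41310) (iv0 F63331) (iv7 F63630)
theorem F63635 : act 1 n41298 = n41310 := d15_0 (iv0 D41310) F31096 (iv2 F63618)
theorem F63636 : act 7 n41310 = n41306 := d15_2 (iv0 F63620) F63635 (iv2 F63627)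
def n41311 : Q := act 3 n19441
theorem D41311 : act 3 n19441 = n41311 := rfl
theorem F63637 : act 4 n41311 = n19446 := d5_2 D19441 D41311 (iv3 D19446) (iv4 D9133) (iv3 F14188)
theorem F63638 : act 7 n41311 = n23450 := d8_2 (iv7 F31096) D41311 F36550
def n41312 : Q := act 5 n19441
theorem D41312 : act 5 n19441 = n41312 := rfl
theorem F63639 : act 7 n41312 = n41308 := d13_2 (iv7 F31096) D41312 (iv5 D41308)
theorem F63640 : act 1 n41312 = n20931 := d17_6 (iv1 D9381) (iv5 F16782) F35605 D9122 D19441 D41312 (iv5 D20931) (iv0 F63211) (iv4 D19921)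
def n41313 : Q := act 6 n19441
theorem D41313 : act 6 n19441 = n41313 := rfl
theorem F63641 : act 4 n41313 = n19442 := d10_1 D41313 (iv6 D19442) D19441
theorem F63642 : act 7 n41313 = n19462 := d14_2 (iv7 F31096) D41313 (iv6 D19462) F14230 D19438
def n41314 : Q := act 4 n19443
theorem D41314 : act 4 n19443 = n41314 := rfl
theorem F63643 : act 2 n41314 = n20588 := d1_1 D41314 F32676 (iv2 F35936)
theorem F63644 : act 6 n41314 = n20463 := d10_2 (iv6 F35937) D41314 (iv4 D20463)
theorem F63645 : act 7 n41314 = n41309 := d11_2 (iv7 F35938) D41314 (iv4 D41309)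
def n41315 : Q := act 4 n19444
theorem D41315 : act 4 n19444 = n41315 := rfl
theorem F63646 : act 2 n41315 = n41309 := d1_1 D41315 (iv4 D41309) (iv2 F35939)
theorem F63647 : act 7 n41315 = n20588 := d11_2 (iv7 F35940) D41315 F32676
def n41316 : Q := act 6 n19444
theorem D41316 : act 6 n19444 = n41316 := rfl
theorem F63648 : act 2 n41316 = n20578 := d3_1 D41316 F35892 (iv2 F35939)
theorem F63649 : act 5 n41316 = n20913 := d12_1 D41316 F33071 (iv5 D9961) D9962 (iv5 F35630)
theorem F63650 : act 7 n41316 = n20460 := d14_2 (iv7 F35940) D41316 (iv6 D20460) F35928 D9759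
theorem F63651 : act 0 n41316 = n20576 := d21_4 (iv5 F31721) F35809 (iv5 F35630) D41316 (iv6 F32670) F32487 (iv1 F32485) F31724 (iv6 F15082) (iv1 F15084)
theorem F63652 : act 0 n20515 = n41316 := d21_4 F32944 F32596 (iv5 D20514) D20515 (iv6 D41316) F35630 (iv1 F35682) (iv5 D19105) D19106 F35686
theorem F63653 : act 6 n20971 = n21013 := d21_3 (iv5 F63649) F63651 F35725 (iv1 D21013) (iv6 D9988) (iv5 D4549) (iv1 F3186) D4527 (iv6 F15673) D20913
theorem F63654 : act 1 n19972 = n20460 := d15_1 F35890 (iv7 F63650) F63648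
def n41317 : Q := act 0 n19446
theorem D41317 : act 0 n19446 = n41317 := rfl
theorem F63655 : act 1 n23446 = n41317 := d15_0 (iv0 D41317) F31104 (iv2 F36547)
def n41318 : Q := act 1 n19446
theorem D41318 : act 1 n19446 = n41318 := rfl
def n41319 : Q := act 2 n19446
theorem D41319 : act 2 n19446 = n41319 := rfl
theorem F63657 : act 7 n41319 = n23446 := d4_2 (iv7 F31104) D41319 F36547
theorem F63659 : act 1 n41318 = n23446 := d15_1 D41318 (iv7 F63657) (iv2 D41319)
def n41320 : Q := act 3 n19454
theorem D41320 : act 3 n19454 = n41320 := rfl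
theorem F63661 : act 4 n41320 = n22831 := d5_2 D19454 D41320 (iv3 D22831) (iv4 F34854) F34853
theorem F63662 : act 7 n41320 = n19985 := d8_2 (iv7 F35626) D41320 F31817
def n41321 : Q := act 5 n19454
theorem D41321 : act 5 n19454 = n41321 := rfl
theorem F63663 : act 2 n41321 = n41295 := d2_1 D41321 (iv5 D41295) (iv2 F35624)
theorem F63664 : act 7 n41321 = n19989 := d13_2 (iv7 F35626) D41321 (iv5 D19989)
def n41322 : Q := act 3 n19457
theorem D41322 : act 3 n19457 = n41322 := rfl
theorem F63665 : act 4 n41322 = n41322 := d5_2 D19457 D41322 (iv3 D41322) (iv4 D19457) F14225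
theorem F63666 : act 7 n41322 = n41296 := d8_2 (iv7 F31110) D41322 (iv3 D41296)
def n41323 : Q := act 5 n19457
theorem D41323 : act 5 n19457 = n41323 := rfl
theorem F63667 : act 2 n41323 = n19461 := d2_1 D41323 (iv5 D19461) (iv2 F31109)
theorem F63668 : act 7 n41323 = n41297 := d13_2 (iv7 F31110) D41323 (iv5 D41297)
theorem F63669 : act 1 n41303 = n41323 := d15_1 D41303 F63668 F63617
theorem F63670 : act 1 n41323 = n41302 := d15_0 (iv0 D41302) (iv7 F31120) (iv2 F63667)
def n41324 : Q := act 6 n19457
theorem D41324 : act 6 n19457 = n41324 := rfl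
theorem F63671 : act 2 n41324 = n19462 := d3_1 D41324 (iv6 D19462) (iv2 F31109)
theorem F63672 : act 4 n41324 = n19458 := d10_1 D41324 (iv6 D19458) D19457
def n41325 : Q := act 3 n19460
theorem D41325 : act 3 n19460 = n41325 := rfl
theorem F63673 : act 4 n41325 = n23501 := d5_2 F34857 D41325 (iv3 D23501) (iv4 D11021) (iv3 F34856)
theorem F63674 : act 7 n41325 = n20015 := d8_2 (iv7 F63162) D41325 F31845
def n41326 : Q := act 5 n19460
theorem D41326 : act 5 n19460 = n41326 := rfl
theorem F63675 : act 2 n41326 = n41301 := d2_1 D41326 (iv5 D41301) F35365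
theorem F63676 : act 7 n41326 = n20019 := d13_2 (iv7 F63162) D41326 (iv5 D20019)
def n41327 : Q := act 0 n19461
theorem D41327 : act 0 n19461 = n41327 := rfl
theorem F63677 : act 1 n41297 = n41327 := d15_0 (iv0 D41327) F31120 (iv2 F63617)
def n41328 : Q := act 1 n19461
theorem D41328 : act 1 n19461 = n41328 := rfl
theorem F63678 : act 1 n41328 = n41297 := d15_1 D41328 (iv7 F63668) F63667
theorem F63679 : act 5 n41328 = n20946 := d21_2 D41297 (iv1 F63678) (iv6 D20946) (iv1 D9950) (iv6 D4541) D4540 (iv1 F15211) (iv5 D9738) D9739 (iv1 F63136)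
def n41329 : Q := act 4 n19461
theorem D41329 : act 4 n19461 = n41329 := rfl
theorem F63680 : act 7 n41329 = n41304 := d11_2 (iv7 F31120) D41329 (iv4 D41304)
def n41330 : Q := act 6 n19461
theorem D41330 : act 6 n19461 = n41330 := rfl
def n41331 : Q := act 0 n19462
theorem D41331 : act 0 n19462 = n41331 := rfl
def n41332 : Q := act 1 n19462
theorem D41332 : act 1 n19462 = n41332 := rfl
theorem F63681 : act 4 n23036 = n41332 := d20_6 D9899 (iv1 F17758) F17760 (iv3 F17905) (iv1 F63192) (iv3 F36085) (iv1 D41332) F31121 F14231 F14199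
theorem F63682 : act 6 n41332 = n19927 := d10_2 D23036 F63681 (iv4 F31760)
theorem F63683 : act 2 n20033 = n41332 := d3_3 F63682 F63401 D20033
theorem F63684 : act 5 n41332 = n20803 := d21_6 (iv5 F15219) (iv1 F15220) (iv5 D9398) D9399 D19927 (iv6 F63682) (iv1 D20803) (iv5 D9881) (iv6 D4489) D4486
def n41333 : Q := act 5 n19462
theorem D41333 : act 5 n19462 = n41333 := rfl
def n41334 : Q := act 2 n19465
theorem D41334 : act 2 n19465 = n41334 := rfl
theorem F63685 : act 7 n19466 = n41334 := d15_2 (iv0 D19465) D19466 (iv2 D41334)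
def n41335 : Q := act 3 n19465
theorem D41335 : act 3 n19465 = n41335 := rfl
def n41336 : Q := act 4 n19465
theorem D41336 : act 4 n19465 = n41336 := rfl
def n41337 : Q := act 5 n19465
theorem D41337 : act 5 n19465 = n41337 := rfl
def n41339 : Q := act 7 n19465
theorem D41339 : act 7 n19465 = n41339 := rfl
def n41340 : Q := act 3 n19466
theorem D41340 : act 3 n19466 = n41340 := rfl
def n41341 : Q := act 4 n19466
theorem D41341 : act 4 n19466 = n41341 := rfl
def n41342 : Q := act 5 n19466
theorem D41342 : act 5 n19466 = n41342 := rfl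
def n41343 : Q := act 6 n19466
theorem D41343 : act 6 n19466 = n41343 := rfl
def n41344 : Q := act 0 n19468
theorem D41344 : act 0 n19468 = n41344 := rfl
theorem F63687 : act 1 n19523 = n41344 := d15_0 (iv0 D41344) F31125 D19523
def n41345 : Q := act 1 n19468
theorem D41345 : act 1 n19468 = n41345 := rfl
theorem F63688 : act 1 n41345 = n19523 := d15_1 D41345 F31256 (iv2 F31123)
def n41346 : Q := act 6 n19468
theorem D41346 : act 6 n19468 = n41346 := rfl
theorem F63689 : act 2 n41346 = n40316 := d3_1 D41346 (iv6 D40316) (iv2 F31123)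
theorem F63690 : act 3 n41346 = n19469 := d7_1 D41346 (iv6 D19469) D19468
theorem F63691 : act 4 n41346 = n41346 := d10_1 D41346 (iv6 D41346) F31124
def n41347 : Q := act 0 n19469
theorem D41347 : act 0 n19469 = n41347 := rfl
theorem F63692 : act 6 n41347 = n22792 := d21_5 D4902 D10717 F17246 D19469 D41347 (iv5 D22792) (iv1 D10769) (iv5 D4920) (iv6 D2026) D2022
theorem F63693 : act 0 n41347 = n19650 := d21_4 (iv5 F34843) (iv1 F34845) D22792 (iv6 F63692) (iv6 D19650) (iv5 F31409) (iv1 F35336) (iv5 D22769) (iv6 D10762) (iv1 F17178)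
theorem F63694 : act 4 n19723 = n41347 := d20_0 F63693 F31411 F14435 F16061 D9306 (iv4 F31576) F35853 (iv4 F30850) F30849 (iv1 F63481)
theorem F63695 : act 7 n41347 = n19652 := d11_2 (iv7 F63466) F63694 (iv4 F61803)
theorem F63696 : act 2 n41347 = n19651 := d15_3 (iv0 D19651) D19652 (iv7 F63695)
theorem F63697 : act 4 n19651 = n20415 := d1_2 F63694 F63696 (iv2 F63467)
theorem F63698 : act 3 n20415 = n40686 := d20_3 (iv4 F14432) D19651 F63697 (iv1 F61801) F31688 (iv4 F31719) (iv1 F32468) F35855 (iv3 D19703) (iv1 D9248)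
theorem F63699 : act 2 n40686 = n19853 := d0_1 F63698 (iv3 F61503) F63461 D19723 F63467
theorem F63700 : act 7 n40686 = n19854 := d8_2 (iv7 F63479) F63698 F63474
theorem F63701 : act 4 n21279 = n40686 := d20_2 (iv4 F16005) D21279 (iv3 F63698) (iv1 F61674) (iv3 F61799) F61800 (iv1 F63262) (iv4 D21289) F63260 (iv1 D10164)
theorem E7090 : n19861 = n19703 := (c20_11 (iv4 F35855) (iv1 D20430) F15142 (iv3 F15129) D20415 F63698 (iv4 F63701) (iv1 F34035) F34031 (iv3 F32442) (iv1 F32445))
theorem F63702 : act 0 n19703 = n9348 := (sb E7090 (iv1 D19861))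
theorem F63703 : act 1 n19703 = n20423 := (sb E7090 F32445)
theorem F63704 : act 7 n19860 = n20421 := d15_2 F63703 F32446 (iv2 F63546)
theorem E7091 : n21990 = n19704 := ((c20_7 (iv4 F63701) (iv1 F34035) F34031 (iv3 F32442) (iv1 F63703) (iv3 D19703) D19704 (iv1 D21990) (iv4 F30773) (iv3 F30849) D40686)).symm
theorem F63705 : act 0 n19704 = n10487 := (sb E7091 (iv1 D21990))
theorem F63706 : act 2 n20420 = n19860 := d4_3 F63704 (iv2 F63546) F63540
theorem F63707 : act 3 n21270 = n19860 := d8_3 F63704 F63551 (iv7 F63554)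
theorem F63708 : act 4 n20429 = n19860 := d11_3 F63704 (iv4 F63550) (iv7 F63549)
theorem E7092 : n40687 = n19728 := (c20_11 (iv4 F63429) (iv1 D21280) F16005 (iv3 F16004) D21270 F63707 (iv4 F63708) (iv1 F32473) F31719 (iv3 F31688) (iv1 F61793))
theorem F63709 : act 0 n19728 = n19204 := (sb E7092 (iv1 D40687))
theorem F63710 : act 1 n19728 = n19856 := (sb E7092 F61793)
theorem E7093 : n40601 = n19729 := ((c20_7 (iv4 F63708) (iv1 F32473) F31719 (iv3 F31688) (iv1 F63710) (iv3 D19728) D19729 (iv1 D40601) F30806 F16635 D19860)).symm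
theorem F63711 : act 0 n19729 = n19174 := (sb E7093 (iv1 D40601))
theorem F63712 : act 4 n19625 = n21270 := d20_2 (iv4 F14425) D19625 F63707 (iv1 F32446) F32442 (iv4 F34031) (iv1 F34034) F63429 (iv3 D19728) (iv1 D9256)
def n41348 : Q := act 1 n19469
theorem D41348 : act 1 n19469 = n41348 := rfl
theorem F63713 : act 1 n41348 = n19650 := d15_1 D41348 F31412 (iv2 F31126)
theorem F63714 : act 7 n41348 = n19651 := d15_2 (iv0 D41347) D41348 (iv2 F63696)
theorem F63715 : act 4 n40541 = n41348 := d20_0 (iv1 D41348) F31127 F14242 D19470 (iv3 F63476) F63475 (iv1 F32475) F32471 (iv3 F32430) (iv1 F61666)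
theorem F63716 : act 2 n41348 = n19652 := d1_1 F63715 (iv4 F61803) (iv2 F63478)
def n41349 : Q := act 5 n19469
theorem D41349 : act 5 n19469 = n41349 := rfl
theorem F63717 : act 2 n41349 = n19653 := d2_1 D41349 (iv5 D19653) (iv2 F31126)
def n41350 : Q := act 7 n19469
theorem D41350 : act 7 n19469 = n41350 := rfl
theorem F63718 : act 2 n41350 = n19650 := d4_1 D41350 F31412 (iv2 F31126)
theorem F63719 : act 4 n41350 = n19473 := d11_1 D41350 (iv7 D19473) (iv4 F31127)
theorem F63720 : act 6 n41350 = n19530 := d14_1 D41350 (iv7 D19530) (iv6 D9193) (iv7 F14238) D19469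
theorem F63721 : act 1 n19652 = n41350 := d15_1 D19652 (iv7 D41350) F31126
theorem F63722 : act 1 n41350 = n19651 := d15_1 F63721 (iv7 F63714) F63716
def n41351 : Q := act 4 n19470
theorem D41351 : act 4 n19470 = n41351 := rfl
theorem F63723 : act 2 n41351 = n19700 := d1_1 D41351 (iv4 D19700) (iv2 F63538)
theorem F63724 : act 6 n41351 = n19692 := d10_2 (iv6 F31128) D41351 (iv4 D19692)
theorem F63725 : act 7 n41351 = n19704 := d11_2 (iv7 F63539) D41351 (iv4 D19704)
theorem F63726 : act 0 n41351 = n21992 := d20_1 D41351 (iv4 F61670) (iv3 F61799) (iv1 F61802) F63474 F63715 (iv1 D41348) F31127 F14242 D19470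
theorem F63727 : act 0 n19549 = n41351 := d20_7 (iv4 F33098) (iv1 F63423) (iv4 D20439) F35670 (iv1 D9705) (iv3 F15129) (iv4 F31291) (iv4 D41351) (iv3 F63476) (iv1 F32444)
def n41352 : Q := act 5 n19470
theorem D41352 : act 5 n19470 = n41352 := rfl
theorem F63728 : act 2 n41352 = n19701 := d2_1 D41352 (iv5 D19701) (iv2 F63538)
theorem F63729 : act 6 n41352 = n19695 := d12_2 (iv6 F31128) D41352 (iv5 D19695) (iv6 D9245) D9244
theorem F63730 : act 7 n41352 = n19705 := d13_2 (iv7 F63539) D41352 (iv5 D19705)
theorem F63731 : act 0 n41352 = n22460 := d21_1 D41352 (iv5 D22460) (iv6 D10673) (iv1 D4886) (iv6 D2016) (iv5 F7097) D1768 D4103 D9145 D19470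
theorem F63732 : act 0 n22583 = n41352 := d21_10 (iv5 D41352) F31129 D19697 F31447 F31440 F63003 F63002 F31435 F17237 D22583
def n41353 : Q := act 4 n19471
theorem D41353 : act 4 n19471 = n41353 := rfl
theorem F63733 : act 2 n41353 = n19704 := d1_1 D41353 (iv4 D19704) (iv2 F63541)
theorem F63734 : act 7 n41353 = n19700 := d11_2 (iv7 F63542) D41353 (iv4 D19700)
theorem F63735 : act 0 n41353 = n19549 := d20_1 D41353 F31291 F15129 F35667 (iv3 D9260) (iv4 F15292) (iv1 F5935) (iv4 F6100) (iv3 F14435) (iv1 F31130)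
theorem F63736 : act 0 n21992 = n41353 := d20_1 F61670 (iv4 D41353) F63427 (iv1 D21271) F16004 (iv4 F16005) D21279 F63701 (iv3 F63698) (iv1 F61674)
def n41354 : Q := act 5 n19471
theorem D41354 : act 5 n19471 = n41354 := rfl
theorem F63737 : act 2 n41354 = n19705 := d2_1 D41354 (iv5 D19705) (iv2 F63541)
theorem F63738 : act 7 n41354 = n19701 := d13_2 (iv7 F63542) D41354 (iv5 D19701)
theorem F63739 : act 0 n41354 = n22583 := d21_1 D41354 F35125 (iv6 D22042) F17339 F17338 (iv5 D10636) (iv1 F7036) (iv5 F6076) D9246 (iv1 F31130)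
theorem F63740 : act 6 n20369 = n41354 := d21_5 F17502 (iv1 D4341) D4343 D9653 D20369 (iv5 D41354) (iv1 D19471) D19472 F31133 F14246
theorem F63741 : act 1 n41354 = n22460 := d15_0 (iv0 F63731) F63730 (iv2 F63737)
def n41355 : Q := act 6 n19471
theorem D41355 : act 6 n19471 = n41355 := rfl
theorem F63742 : act 2 n41355 = n19706 := d3_1 D41355 (iv6 D19706) (iv2 F63541)
theorem F63743 : act 7 n41355 = n19676 := d14_2 (iv7 F63542) D41355 (iv6 D19676) (iv7 F63507) F31274
theorem F63744 : act 5 n41355 = n22555 := d21_6 (iv5 D10636) (iv1 F7036) (iv5 F6076) D9246 (iv1 F31130) D41355 (iv1 F35104) (iv5 D10704) D10705 (iv1 F35466)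
theorem F63745 : act 0 n41355 = n22045 := d21_10 (iv5 F35543) (iv1 F34756) F17239 (iv6 F17124) (iv1 F17126) D10673 D22460 (iv1 F63741) (iv5 D41354) D41355
theorem F63746 : act 0 n19594 = n41355 := d21_4 (iv5 D10816) D10814 F17336 D19594 (iv6 D41355) D41354 F63739 F35125 (iv6 D22042) F17339
theorem F63747 : act 2 n22555 = n23294 := d2_1 F63744 F63005 (iv2 F63742)
theorem F63748 : act 7 n22555 = n23293 := d13_2 (iv7 F63743) F63744 F63002
theorem E7094 : n22941 = n22556 := (c15_4 F35101 F35104 F63748 (iv2 F63527))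
theorem F63749 : act 2 n22556 = n23293 := (sb E7094 F63527)
theorem F63750 : act 6 n22556 = n10829 := (sb E7094 (iv6 D22941))
theorem F63751 : act 7 n22556 = n23294 := (sb E7094 (iv7 F63528))
def n41356 : Q := act 0 n19472
theorem D41356 : act 0 n19472 = n41356 := rfl
def n41357 : Q := act 4 n19472
theorem D41357 : act 4 n19472 = n41357 := rfl
theorem F63752 : act 2 n41357 = n19709 := d1_1 D41357 (iv4 D19709) (iv2 F31131)
theorem F63753 : act 6 n41357 = n19474 := d10_2 (iv6 F31133) D41357 (iv4 D19474)
def n41358 : Q := act 7 n19472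
theorem D41358 : act 7 n19472 = n41358 := rfl
theorem F63754 : act 2 n41358 = n19697 := d4_1 D41358 F31448 (iv2 F31131)
theorem F63755 : act 3 n41358 = n41358 := d8_1 D41358 (iv7 D41358) F31132
theorem F63756 : act 5 n41358 = n19473 := d13_1 D41358 (iv7 D19473) D19472
theorem F63757 : act 6 n41358 = n21874 := d14_1 D41358 (iv7 D21874) F16604 (iv7 F14245) (iv6 F31133)
theorem F63758 : act 1 n19697 = n41356 := d15_0 (iv0 D41356) D41358 F63754
theorem F63759 : act 1 n19708 = n41358 := d15_1 D19708 (iv7 D41358) F31131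
theorem F63760 : act 0 n19707 = n41358 := d21_1 (iv5 F35548) F63756 F31136 (iv1 F14346) D9245 D19695 (iv1 F34992) (iv5 D10672) D10673 D22458
def n41359 : Q := act 3 n19474
theorem D41359 : act 3 n19474 = n41359 := rfl
theorem F63761 : act 4 n41359 = n41359 := d5_2 D19474 D41359 (iv3 D41359) (iv4 D19474) F14244
theorem F63762 : act 7 n41359 = n21875 := d8_2 (iv7 F31140) D41359 (iv3 D21875)
def n41360 : Q := act 0 n19477
theorem D41360 : act 0 n19477 = n41360 := rfl
theorem F63763 : act 4 n41360 = n20414 := d18_3 F14256 D19477 D41360 (iv5 D20414) F15126 (iv0 F12979) F6057 (iv0 F7113) D4725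
theorem F63764 : act 2 n19503 = n41360 := d15_3 (iv0 D41360) (iv0 F31958) F31957
theorem F63765 : act 1 n19507 = n41360 := d15_0 (iv0 D41360) F31152 (iv2 F31236)
theorem F63766 : act 7 n41360 = n19504 := d15_2 F31959 F63765 (iv2 F31956)
def n41361 : Q := act 3 n19477
theorem D41361 : act 3 n19477 = n41361 := rfl
theorem F63767 : act 7 n41361 = n22960 := d8_2 (iv7 F31152) D41361 (iv3 D22960)
def n41362 : Q := act 5 n19477
theorem D41362 : act 5 n19477 = n41362 := rfl
theorem F63768 : act 2 n41362 = n19506 := d2_1 D41362 (iv5 D19506) (iv2 F31151)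
theorem F63769 : act 7 n41362 = n22961 := d13_2 (iv7 F31152) D41362 (iv5 D22961)
def n41363 : Q := act 1 n19478
theorem D41363 : act 1 n19478 = n41363 := rfl
theorem F63770 : act 1 n41363 = n19660 := d15_1 D41363 F63127 (iv2 F31153)
theorem F63771 : act 7 n41363 = n19662 := d15_2 (iv0 F63105) D41363 (iv2 D19662)
theorem F63772 : act 3 n19685 = n41363 := d20_3 (iv4 F31745) (iv1 F32408) F63532 (iv1 D41363) F31154 (iv4 F15527) (iv1 F63170) (iv4 D20405) F35665 (iv1 F15083)
theorem F63773 : act 2 n41363 = n19537 := d0_1 F63772 (iv3 D19537) (iv2 F63503) D9242 D19685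
theorem F63774 : act 4 n40318 = n41363 := d20_2 (iv4 F30639) (iv1 F61379) (iv3 F63772) F63530 F14597 (iv4 F15998) D21254 F63436 F63437 (iv1 F30594)
def n41364 : Q := act 7 n19478
theorem D41364 : act 7 n19478 = n41364 := rfl
theorem F63775 : act 2 n41364 = n19660 := d4_1 D41364 F63127 (iv2 F31153)
theorem F63776 : act 3 n41364 = n20389 := d8_1 D41364 (iv7 D20389) (iv3 F31154)
theorem F63777 : act 5 n41364 = n21882 := d13_1 D41364 (iv7 D21882) (iv5 F31155)
theorem F63778 : act 6 n41364 = n21896 := d14_1 D41364 (iv7 D21896) (iv6 D10444) (iv7 F14259) D19478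
theorem F63779 : act 1 n19537 = n41364 := d15_1 (iv0 F63558) (iv7 D41364) F31153
theorem F63780 : act 1 n41364 = n19662 := d15_1 F63779 (iv7 F63771) F63773
def n41365 : Q := act 6 n19482
theorem D41365 : act 6 n19482 = n41365 := rfl
theorem F63781 : act 2 n41365 = n40462 := d3_1 D41365 (iv6 D40462) (iv2 F31171)
theorem F63782 : act 5 n41365 = n41365 := d12_1 D41365 (iv6 D41365) (iv5 D19482) F17580 D19482
def n41366 : Q := act 6 n19483
theorem D41366 : act 6 n19483 = n41366 := rfl
theorem F63783 : act 2 n41366 = n21466 := d3_1 D41366 F33735 F31173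
theorem F63784 : act 3 n41366 = n20750 := d7_1 D41366 F32902 F31174
theorem F63785 : act 5 n41366 = n20747 := d12_1 D41366 (iv6 D20747) (iv5 D9834) D9835 (iv5 F31172)
def n41367 : Q := act 3 n19484
theorem D41367 : act 3 n19484 = n41367 := rfl
theorem F63786 : act 4 n41367 = n19505 := d5_2 D19484 D41367 (iv3 D19505) (iv4 D9180) (iv3 F14273)
theorem F63787 : act 7 n41367 = n41283 := d8_2 F31178 D41367 (iv3 D41283)
def n41368 : Q := act 5 n19484
theorem D41368 : act 5 n19484 = n41368 := rfl
theorem F63788 : act 2 n41368 = n41281 := d2_1 D41368 (iv5 D41281) (iv2 F31175)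
theorem F63789 : act 7 n41368 = n41284 := d13_2 F31178 D41368 (iv5 D41284)
theorem F63790 : act 0 n41368 = n20257 := d17_2 (iv1 F31177) D41368 (iv5 D20257) (iv4 D9577) (iv5 D4319) (iv0 F17519) D9332 (iv0 F14525) D19151
def n41369 : Q := act 6 n19485
theorem D41369 : act 6 n19485 = n41369 := rfl
theorem F63791 : act 3 n41369 = n19508 := d7_1 D41369 (iv6 D19508) (iv3 F31179)
theorem F63792 : act 4 n41369 = n41285 := d10_1 D41369 (iv6 D41285) (iv4 F31180)
def n41370 : Q := act 0 n19486
theorem D41370 : act 0 n19486 = n41370 := rfl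
def n41371 : Q := act 1 n19486
theorem D41371 : act 1 n19486 = n41371 := rfl
theorem F63793 : act 1 n41371 = n21950 := d15_1 D41371 (iv7 D21950) (iv2 F31183)
def n41372 : Q := act 5 n19486
theorem D41372 : act 5 n19486 = n41372 := rfl
theorem F63794 : act 2 n41372 = n21949 := d2_1 D41372 (iv5 D21949) (iv2 F31183)
theorem F63795 : act 3 n41372 = n40444 := d6_1 D41372 (iv5 D40444) (iv3 F31184)
theorem F63796 : act 6 n41372 = n19487 := d12_2 D19486 D41372 (iv5 D19487) (iv6 D9161) D9160
def n41373 : Q := act 7 n19486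
theorem D41373 : act 7 n19486 = n41373 := rfl
theorem F63797 : act 2 n41373 = n21950 := d4_1 D41373 (iv7 D21950) (iv2 F31183)
theorem F63798 : act 3 n41373 = n40445 := d8_1 D41373 (iv7 D40445) (iv3 F31184)
theorem F63799 : act 4 n41373 = n37888 := d11_1 D41373 (iv7 D37888) (iv4 F31185)
theorem F63800 : act 6 n41373 = n21944 := d14_1 D41373 (iv7 D21944) (iv6 D10472) (iv7 F14277) D19486
theorem F63801 : act 1 n21950 = n41370 := d15_0 (iv0 D41370) D41373 F63797
theorem F63802 : act 1 n21948 = n41373 := d15_1 D21948 (iv7 D41373) F31183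
theorem F63803 : act 1 n41373 = n21947 := d15_0 (iv0 D21947) D21950 (iv2 F63797)
def n41374 : Q := act 4 n19487
theorem D41374 : act 4 n19487 = n41374 := rfl
theorem F63804 : act 2 n41374 = n34469 := d1_1 D41374 F54693 (iv2 F31186)
theorem F63805 : act 7 n41374 = n21924 := d11_2 (iv7 F31188) D41374 (iv4 D21924)
theorem F63806 : act 0 n41374 = n34472 := d18_2 (iv1 F31189) D41374 F54697 F27443 (iv4 F27436) F27439 (iv4 F17568) (iv0 D9168) D9170
theorem F63807 : act 1 n41374 = n34459 := d18_6 F7231 (iv4 F12358) F13381 (iv4 F14283) D19487 D41374 (iv4 D34459) (iv0 F27407) (iv5 D8545)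
def n41375 : Q := act 6 n19488
theorem D41375 : act 6 n19488 = n41375 := rfl
theorem F63808 : act 2 n41375 = n37456 := d3_1 D41375 (iv6 D37456) (iv2 F31190)
theorem F63809 : act 3 n41375 = n38496 := d7_1 D41375 (iv6 D38496) (iv3 F31191)
theorem F63810 : act 4 n41375 = n19489 := d10_1 D41375 (iv6 D19489) D19488
def n41376 : Q := act 0 n19489
theorem D41376 : act 0 n19489 = n41376 := rfl
def n41377 : Q := act 1 n19489
theorem D41377 : act 1 n19489 = n41377 := rfl
def n41378 : Q := act 5 n19489
theorem D41378 : act 5 n19489 = n41378 := rfl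
theorem F63811 : act 3 n41378 = n19495 := d6_1 D41378 (iv5 D19495) (iv3 F31196)
theorem F63812 : act 6 n41378 = n19491 := d12_2 D19489 D41378 (iv5 D19491) (iv6 D9164) D9163
def n41379 : Q := act 7 n19489
theorem D41379 : act 7 n19489 = n41379 := rfl
theorem F63813 : act 3 n41379 = n19496 := d8_1 D41379 (iv7 D19496) (iv3 F31196)
def n41380 : Q := act 5 n19490
theorem D41380 : act 5 n19490 = n41380 := rfl
theorem F63814 : act 2 n41380 = n27065 := d2_1 D41380 F43721 (iv2 F31201)
theorem F63815 : act 3 n41380 = n35560 := d6_1 D41380 (iv5 D35560) F31200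
theorem F63816 : act 7 n41380 = n35547 := d13_2 (iv7 F31198) D41380 (iv5 D35547)
theorem F63817 : act 0 n41380 = n35548 := d17_2 F31203 D41380 F56219 (iv4 F28629) D35309 F56217 F43721 F31213 F31211
theorem F63818 : act 1 n41380 = n35270 := d17_6 (iv1 F16990) D7794 D16705 F28188 F31199 D41380 (iv5 D35270) (iv0 F28060) F13096
theorem F63819 : act 4 n41380 = n34444 := d18_5 F21532 F12898 F28186 F31199 D41380 (iv0 D34444) (iv4 D16707) D16706 (iv5 F27392)
def n41381 : Q := act 2 n19493
theorem D41381 : act 2 n19493 = n41381 := rfl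
theorem F63820 : act 7 n19494 = n41381 := d15_2 (iv0 D19493) D19494 (iv2 D41381)
def n41382 : Q := act 3 n19493
theorem D41382 : act 3 n19493 = n41382 := rfl
def n41383 : Q := act 4 n19493
theorem D41383 : act 4 n19493 = n41383 := rfl
def n41384 : Q := act 5 n19493
theorem D41384 : act 5 n19493 = n41384 := rfl
def n41385 : Q := act 6 n19493
theorem D41385 : act 6 n19493 = n41385 := rfl
theorem F63821 : act 5 n41385 = n21878 := d21_6 (iv5 F13369) (iv1 D4119) D4121 D9166 D19493 D41385 (iv1 D21878) F16614 (iv6 D10434) (iv1 F13372)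
def n41386 : Q := act 7 n19493
theorem D41386 : act 7 n19493 = n41386 := rfl
theorem F63822 : act 2 n41386 = n19494 := d4_1 D41386 F63820 (iv2 D41381)
def n41387 : Q := act 3 n19494
theorem D41387 : act 3 n19494 = n41387 := rfl
def n41388 : Q := act 4 n19494
theorem D41388 : act 4 n19494 = n41388 := rfl
def n41389 : Q := act 5 n19494
theorem D41389 : act 5 n19494 = n41389 := rfl
def n41390 : Q := act 6 n19494
theorem D41390 : act 6 n19494 = n41390 := rfl
def n41391 : Q := act 0 n19495
theorem D41391 : act 0 n19495 = n41391 := rfl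
def n41392 : Q := act 1 n19495
theorem D41392 : act 1 n19495 = n41392 := rfl
theorem F63823 : act 5 n22111 = n41392 := d21_6 (iv5 D4755) F3288 D1990 D4824 D10536 D22111 (iv1 D41392) (iv5 D19495) (iv6 D9166) F12197
def n41393 : Q := act 7 n19495
theorem D41393 : act 7 n19495 = n41393 := rfl
theorem F63824 : act 5 n41393 = n19496 := d13_1 D41393 (iv7 D19496) D19495
def n41394 : Q := act 6 n19496
theorem D41394 : act 6 n19496 = n41394 := rfl
theorem F63825 : act 2 n41394 = n19515 := d3_1 D41394 (iv6 F60955) F60952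
theorem F63826 : act 4 n41394 = n38187 := d10_1 D41394 F59049 (iv4 F31216)
theorem F63827 : act 7 n41394 = n19497 := d14_2 D19496 D41394 (iv6 D19497) (iv7 D9167) D9166
theorem F63828 : act 1 n19513 = n41394 := d15_1 D19513 F63827 F31217
theorem F63829 : act 1 n41394 = n19512 := d15_0 (iv0 D19512) D19515 (iv2 F63825)
def n41395 : Q := act 0 n19497
theorem D41395 : act 0 n19497 = n41395 := rfl
theorem F63830 : act 1 n19515 = n41395 := d15_0 (iv0 D41395) (iv7 F63827) F63825
def n41396 : Q := act 1 n19497
theorem D41396 : act 1 n19497 = n41396 := rfl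
theorem F63831 : act 1 n41396 = n19515 := d15_1 D41396 (iv7 D19515) (iv2 F31217)
def n41397 : Q := act 6 n19498
theorem D41397 : act 6 n19498 = n41397 := rfl
theorem F63832 : act 2 n41397 = n36270 := d3_1 D41397 (iv6 D36270) (iv2 F31219)
theorem F63834 : act 5 n41397 = n22122 := d12_1 D41397 (iv6 D22122) (iv5 D10547) (iv6 F17027) D19498
def n41398 : Q := act 6 n19499
theorem D41398 : act 6 n19499 = n41398 := rfl
theorem F63835 : act 3 n41398 = n26923 := d7_1 D41398 (iv6 D26923) (iv3 F31222)
theorem F63836 : act 5 n41398 = n41398 := d12_1 D41398 (iv6 D41398) (iv5 D19499) F17592 D19499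
def n41399 : Q := act 6 n19500
theorem D41399 : act 6 n19500 = n41399 := rfl
def n41400 : Q := act 3 n19501
theorem D41400 : act 3 n19501 = n41400 := rfl
def n41401 : Q := act 5 n19501
theorem D41401 : act 5 n19501 = n41401 := rfl
theorem F63838 : act 2 n41401 = n20345 := d2_1 D41401 (iv5 D20345) (iv2 F31228)
theorem F63839 : act 4 n41401 = n35889 := d16_2 D19501 D41401 (iv5 D35889) (iv4 D17376) (iv5 D8140) F5689 D4343 F6254 (iv2 F17459)
theorem F63840 : act 0 n41401 = n22970 := d17_2 (iv1 F32325) D41401 (iv5 D22970) (iv4 F31646) F31644 F27432 (iv5 F32725) F32727 (iv4 F32324)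
theorem F63841 : act 1 n41401 = n22967 := d17_6 F6956 (iv5 D4131) D4129 D9174 D19501 D41401 (iv5 D22967) (iv0 D10843) (iv4 D4945)
def n41402 : Q := act 6 n19501
theorem D41402 : act 6 n19501 = n41402 := rfl
theorem F63842 : act 2 n41402 = n20346 := d3_1 D41402 (iv6 D20346) (iv2 F31228)
theorem F63843 : act 4 n41402 = n19502 := d10_1 D41402 (iv6 D19502) D19501
def n41403 : Q := act 1 n19502
theorem D41403 : act 1 n19502 = n41403 := rfl
theorem F63844 : act 1 n41403 = n20349 := d15_1 D41403 (iv7 D20349) (iv2 F31229)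
def n41404 : Q := act 7 n19502
theorem D41404 : act 7 n19502 = n41404 := rfl
theorem F63845 : act 2 n41404 = n20349 := d4_1 D41404 (iv7 D20349) (iv2 F31229)
theorem F63846 : act 3 n41404 = n41404 := d8_1 D41404 (iv7 D41404) F31230
theorem F63847 : act 5 n41404 = n22216 := d13_1 D41404 (iv7 D22216) (iv5 F31231)
theorem F63849 : act 1 n20348 = n41404 := d15_1 D20348 (iv7 D41404) F31229
theorem F63850 : act 1 n41404 = n20347 := d15_0 (iv0 D20347) D20349 (iv2 F63845)
def n41405 : Q := act 3 n19503
theorem D41405 : act 3 n19503 = n41405 := rfl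
theorem F63851 : act 4 n41405 = n20448 := d5_2 (iv4 F31232) D41405 (iv3 D20448) (iv4 D9710) (iv3 F15133)
def n41406 : Q := act 5 n19503
theorem D41406 : act 5 n19503 = n41406 := rfl
theorem F63852 : act 0 n41406 = n22956 := d17_2 D19503 D41406 (iv5 D22956) (iv4 D10838) (iv5 D4942) F6022 D9146 (iv0 F14247) D9180
def n41407 : Q := act 6 n19503
theorem D41407 : act 6 n19503 = n41407 := rfl
theorem F63854 : act 4 n41407 = n20417 := d10_1 D41407 F32429 (iv4 F31232)
def n41408 : Q := act 3 n19504
theorem D41408 : act 3 n19504 = n41408 := rfl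
def n41409 : Q := act 5 n19504
theorem D41409 : act 5 n19504 = n41409 := rfl
theorem F63855 : act 0 n41409 = n22951 := d17_2 (iv1 F31234) D41409 (iv5 D22951) (iv4 D10835) (iv5 D4939) (iv0 D2032) D2034 D4944 D10841
theorem F63856 : act 1 n41409 = n22956 := d17_6 D20117 F31937 (iv1 F16787) D18142 F31235 D41409 (iv5 D22956) (iv0 F31943) (iv4 D20118)
def n41410 : Q := act 6 n19504
theorem D41410 : act 6 n19504 = n41410 := rfl
theorem F63857 : act 4 n41410 = n37843 := d10_1 D41410 F58683 F31235
def n41411 : Q := act 0 n19505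
theorem D41411 : act 0 n19505 = n41411 := rfl
def n41412 : Q := act 1 n19505
theorem D41412 : act 1 n19505 = n41412 := rfl
def n41413 : Q := act 2 n19505
theorem D41413 : act 2 n19505 = n41413 := rfl
def n41414 : Q := act 5 n19505
theorem D41414 : act 5 n19505 = n41414 := rfl
theorem F63858 : act 3 n41414 = n19506 := d6_1 D41414 (iv5 D19506) D19505
def n41415 : Q := act 7 n19505
theorem D41415 : act 7 n19505 = n41415 := rfl
theorem F63859 : act 3 n41415 = n19507 := d8_1 D41415 (iv7 D19507) D19505
theorem F63860 : act 4 n41415 = n41283 := d11_1 D41415 (iv7 F63787) F63786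
def n41416 : Q := act 0 n19506
theorem D41416 : act 0 n19506 = n41416 := rfl
theorem F63861 : act 5 n41416 = n19518 := d17_3 (iv1 D19504) D19506 D41416 F31252 (iv5 F16856) (iv0 F27370) D19046 F30554 F31235
theorem F63862 : act 1 n22961 = n41416 := d17_6 F14449 (iv5 D9174) (iv1 F17457) (iv5 F17502) D10841 D22961 F63861 (iv0 F31462) (iv4 D19712)
def n41417 : Q := act 1 n19506
theorem D41417 : act 1 n19506 = n41417 := rfl
theorem F63863 : act 1 n41417 = n22961 := d15_1 D41417 (iv7 F63769) F63768
theorem F63864 : act 5 n41417 = n19517 := d17_7 F17505 (iv5 D4343) (iv1 F17458) D4131 D9180 D19506 D41417 (iv0 D19517) (iv4 D9190)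
def n41418 : Q := act 6 n19506
theorem D41418 : act 6 n19506 = n41418 := rfl
def n41419 : Q := act 7 n19506
theorem D41419 : act 7 n19506 = n41419 := rfl
theorem F63865 : act 2 n41419 = n22961 := d4_1 D41419 (iv7 F63769) F63768
theorem F63866 : act 5 n41419 = n19507 := d13_1 D41419 (iv7 D19507) D19506
def n41420 : Q := act 6 n19507
theorem D41420 : act 6 n19507 = n41420 := rfl
theorem F63867 : act 2 n41420 = n22962 := d3_1 D41420 (iv6 D22962) (iv2 F31236)
theorem F63868 : act 4 n41420 = n19508 := d10_1 D41420 (iv6 D19508) (iv4 F31237)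
def n41421 : Q := act 0 n19508
theorem D41421 : act 0 n19508 = n41421 := rfl
theorem F63869 : act 1 n22965 = n41421 := d15_0 (iv0 D41421) (iv7 F35022) (iv2 F36021)
def n41422 : Q := act 1 n19508
theorem D41422 : act 1 n19508 = n41422 := rfl
def n41423 : Q := act 6 n19510
theorem D41423 : act 6 n19510 = n41423 := rfl
theorem F63871 : act 2 n41423 = n20121 := d3_1 D41423 (iv6 D20121) F31243
theorem F63872 : act 3 n41423 = n41365 := d7_1 D41423 (iv6 D41365) (iv3 F31244)
theorem F63873 : act 4 n41423 = n20631 := d10_1 D41423 (iv6 D20631) F31246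
theorem F63874 : act 5 n41423 = n41423 := d12_1 D41423 (iv6 D41423) F31242 F14716 (iv5 F31242)
def n41424 : Q := act 3 n19511
theorem D41424 : act 3 n19511 = n41424 := rfl
theorem F63875 : act 4 n41424 = n19519 := d5_2 D19511 D41424 (iv3 D19519) (iv4 D9190) (iv3 F14329)
def n41425 : Q := act 5 n19511
theorem D41425 : act 5 n19511 = n41425 := rfl
theorem F63876 : act 0 n41425 = n20449 := d17_2 (iv1 F31248) D41425 (iv5 D20449) (iv4 D9710) (iv5 D4383) (iv0 F7287) D4389 (iv0 F16825) D9483
theorem F63877 : act 1 n41425 = n20753 := d17_6 (iv1 F31708) (iv5 D9766) F14335 D9185 D19511 D41425 (iv5 D20753) F32490 F32489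
def n41426 : Q := act 2 n19512
theorem D41426 : act 2 n19512 = n41426 := rfl
theorem F63878 : act 7 n19513 = n41426 := d15_2 (iv0 D19512) D19513 (iv2 D41426)
def n41427 : Q := act 3 n19512
theorem D41427 : act 3 n19512 = n41427 := rfl
def n41428 : Q := act 4 n19512
theorem D41428 : act 4 n19512 = n41428 := rfl
def n41429 : Q := act 5 n19512
theorem D41429 : act 5 n19512 = n41429 := rfl
def n41430 : Q := act 6 n19512
theorem D41430 : act 6 n19512 = n41430 := rfl
def n41431 : Q := act 7 n19512
theorem D41431 : act 7 n19512 = n41431 := rfl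
theorem F63879 : act 2 n41431 = n19513 := d4_1 D41431 F63878 (iv2 D41426)
def n41432 : Q := act 3 n19513
theorem D41432 : act 3 n19513 = n41432 := rfl
def n41433 : Q := act 4 n19513
theorem D41433 : act 4 n19513 = n41433 := rfl
def n41434 : Q := act 5 n19513
theorem D41434 : act 5 n19513 = n41434 := rfl
theorem F63880 : act 6 n41391 = n41434 := d21_5 (iv5 D19499) (iv1 D9169) D9170 (iv6 F31215) D41391 (iv5 D41434) (iv1 D19513) D19514 F31249 F31224
def n41435 : Q := act 6 n19513
theorem D41435 : act 6 n19513 = n41435 := rfl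
def n41436 : Q := act 0 n19514
theorem D41436 : act 0 n19514 = n41436 := rfl
def n41437 : Q := act 1 n19514
theorem D41437 : act 1 n19514 = n41437 := rfl
theorem F63881 : act 5 n21963 = n41437 := d21_6 (iv5 D4757) (iv1 D1969) D1971 D4765 D10477 D21963 (iv1 D41437) (iv5 D19514) (iv6 D9186) F13572
def n41438 : Q := act 4 n19514
theorem D41438 : act 4 n19514 = n41438 := rfl
theorem F63882 : act 6 n41438 = n19516 := d10_2 (iv6 F31249) D41438 (iv4 D19516)
def n41439 : Q := act 7 n19514
theorem D41439 : act 7 n19514 = n41439 := rfl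
theorem F63883 : act 5 n41439 = n19515 := d13_1 D41439 (iv7 D19515) D19514
def n41440 : Q := act 3 n19516
theorem D41440 : act 3 n19516 = n41440 := rfl
def n41441 : Q := act 5 n19516
theorem D41441 : act 5 n19516 = n41441 := rfl
theorem F63884 : act 2 n41441 = n38884 := d2_1 D41441 F59910 F36002
theorem F63885 : act 7 n41441 = n38885 := d13_2 F36012 D41441 F59914
theorem F63886 : act 0 n41441 = n34670 := d17_2 F54690 D41441 (iv5 D34670) (iv4 D16790) (iv5 D7837) (iv0 F7216) D7817 (iv0 F27441) D34467
theorem F63887 : act 1 n41441 = n37807 := d17_6 (iv1 F31226) (iv5 D10458) (iv1 F16821) D9188 D19516 D41441 (iv5 D37807) F54914 F54913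
def n41442 : Q := act 3 n19517
theorem D41442 : act 3 n19517 = n41442 := rfl
theorem F63888 : act 4 n41442 = n40516 := d5_2 F31932 D41442 (iv3 D40516) F32696 F32691
def n41443 : Q := act 6 n19517
theorem D41443 : act 6 n19517 = n41443 := rfl
def n41444 : Q := act 3 n19518
theorem D41444 : act 3 n19518 = n41444 := rfl
theorem F63889 : act 4 n41444 = n20623 := d5_2 (iv4 F31252) D41444 (iv3 D20623) (iv4 D9776) D9775
def n41445 : Q := act 6 n19518
theorem D41445 : act 6 n19518 = n41445 := rfl
theorem F63890 : act 4 n41445 = n20622 := d10_1 D41445 (iv6 D20622) (iv4 F31252)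
def n41446 : Q := act 0 n19519
theorem D41446 : act 0 n19519 = n41446 := rfl
def n41447 : Q := act 1 n19519
theorem D41447 : act 1 n19519 = n41447 := rfl
def n41448 : Q := act 2 n19519
theorem D41448 : act 2 n19519 = n41448 := rfl
def n41449 : Q := act 5 n19519
theorem D41449 : act 5 n19519 = n41449 := rfl
theorem F63891 : act 3 n41449 = n19520 := d6_1 D41449 (iv5 D19520) D19519
def n41450 : Q := act 0 n19520
theorem D41450 : act 0 n19520 = n41450 := rfl
theorem F63892 : act 5 n41450 = n41360 := d17_3 (iv1 D19518) D19520 D41450 F63763 (iv5 D20414) (iv0 F15127) D18463 F29644 (iv4 F31252)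
theorem F63893 : act 2 n41406 = n41450 := d2_3 F63892 (iv2 F63764) D41406
theorem F63894 : act 7 n41409 = n41450 := d13_0 F63892 F63766 D41409
def n41451 : Q := act 1 n19520
theorem D41451 : act 1 n19520 = n41451 := rfl
theorem F63895 : act 7 n41451 = n41406 := d15_2 (iv0 D41450) D41451 F63893
theorem F63896 : act 5 n41451 = n20128 := d17_7 (iv1 F14324) (iv5 D4725) F7113 D4146 D9190 D19520 D41451 F31959 F31237
theorem F63897 : act 2 n41409 = n41451 := d2_3 F63896 F31956 D41409
def n41452 : Q := act 4 n19520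
theorem D41452 : act 4 n19520 = n41452 := rfl
theorem F63898 : act 2 n41452 = n38885 := d1_1 D41452 (iv4 F59915) F36010
theorem F63899 : act 7 n41452 = n38884 := d11_2 F36015 D41452 (iv4 F59912)
theorem F63900 : act 5 n41452 = n35887 := d16_3 D9190 D19520 D41452 F56548 (iv5 D19711) (iv4 D9251) D9252 F14448 F7358
theorem F63901 : act 0 n41452 = n37807 := d18_2 (iv1 D41451) D41452 F58657 (iv5 D19717) (iv4 D9253) (iv0 F14255) D19477 (iv0 F31958) (iv5 F63896)
theorem F63902 : act 1 n41452 = n34670 := d15_1 (iv0 F63901) F54924 (iv2 F58656)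
def n41453 : Q := act 6 n19520
theorem D41453 : act 6 n19520 = n41453 := rfl
def n41454 : Q := act 2 n19521
theorem D41454 : act 2 n19521 = n41454 := rfl
theorem F63903 : act 7 n19522 = n41454 := d15_2 (iv0 D19521) D19522 (iv2 D41454)
def n41455 : Q := act 3 n19521
theorem D41455 : act 3 n19521 = n41455 := rfl
theorem F63904 : act 4 n41455 = n21657 := d20_6 (iv4 D1976) (iv1 F6907) D4160 D9191 D19521 D41455 (iv1 D21657) (iv4 F16694) (iv3 D10485) (iv1 D4783)
def n41456 : Q := act 4 n19521
theorem D41456 : act 4 n19521 = n41456 := rfl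
theorem F63905 : act 0 n37513 = n41456 := d20_10 (iv4 D41456) (iv1 F31253) F30583 (iv3 D19057) (iv1 F14357) D19542 F31278 F21783 (iv4 F29168) (iv3 F58392)
def n41457 : Q := act 5 n19521
theorem D41457 : act 5 n19521 = n41457 := rfl
def n41458 : Q := act 6 n19521
theorem D41458 : act 6 n19521 = n41458 := rfl
def n41459 : Q := act 7 n19521
theorem D41459 : act 7 n19521 = n41459 := rfl
theorem F63906 : act 2 n41459 = n19522 := d4_1 D41459 F63903 (iv2 D41454)
def n41460 : Q := act 3 n19522
theorem D41460 : act 3 n19522 = n41460 := rfl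
theorem F63907 : act 4 n41460 = n20919 := d20_6 (iv4 D4041) (iv1 F7179) D8931 D19057 (iv1 F31257) D41460 (iv1 D20919) F17031 (iv3 F17030) (iv1 D9012)
def n41461 : Q := act 4 n19522
theorem D41461 : act 4 n19522 = n41461 := rfl
theorem F63908 : act 0 n41461 = n37513 := d20_1 D41461 (iv4 F61720) (iv3 D40605) (iv1 D19176) (iv3 D9013) (iv4 D4041) (iv1 F7179) D8931 D19057 (iv1 F31257)
def n41462 : Q := act 5 n19522
theorem D41462 : act 5 n19522 = n41462 := rfl
def n41463 : Q := act 6 n19522
theorem D41463 : act 6 n19522 = n41463 := rfl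
def n41464 : Q := act 6 n19523
theorem D41464 : act 6 n19523 = n41464 := rfl
theorem F63909 : act 2 n41464 = n19525 := d3_1 D41464 (iv6 D19525) D19523
theorem F63910 : act 3 n41464 = n19622 := d7_1 D41464 (iv6 D19622) (iv3 F31254)
theorem F63911 : act 4 n41464 = n41464 := d10_1 D41464 (iv6 D41464) F31255
def n41465 : Q := act 0 n19524
theorem D41465 : act 0 n19524 = n41465 := rfl
theorem F63912 : act 4 n41465 = n37247 := d20_0 (iv1 D37247) (iv4 F44066) (iv3 D27240) F21757 (iv3 F17134) (iv4 F28666) F28668 F27539 (iv3 F31258) D41465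
theorem F63913 : act 1 n40315 = n41465 := d15_0 (iv0 D41465) (iv7 F35154) (iv2 F61373)
def n41466 : Q := act 1 n19524
theorem D41466 : act 1 n19524 = n41466 := rfl
theorem F63914 : act 1 n41466 = n40315 := d15_1 D41466 (iv7 F62326) F62324
def n41467 : Q := act 4 n19524
theorem D41467 : act 4 n19524 = n41467 := rfl
def n41468 : Q := act 6 n19524
theorem D41468 : act 6 n19524 = n41468 := rfl
theorem F63915 : act 3 n41468 = n19526 := d7_1 D41468 (iv6 D19526) (iv3 F31258)
def n41469 : Q := act 0 n19525
theorem D41469 : act 0 n19525 = n41469 := rfl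
def n41470 : Q := act 1 n19525
theorem D41470 : act 1 n19525 = n41470 := rfl
def n41471 : Q := act 5 n19525
theorem D41471 : act 5 n19525 = n41471 := rfl
theorem F63916 : act 3 n41471 = n19529 := d6_1 D41471 (iv5 D19529) (iv3 F31259)
def n41472 : Q := act 7 n19525
theorem D41472 : act 7 n19525 = n41472 := rfl
theorem F63917 : act 3 n41472 = n19530 := d8_1 D41472 (iv7 D19530) (iv3 F31259)
theorem F63918 : act 4 n41472 = n41472 := d11_1 D41472 (iv7 D41472) F31260
def n41473 : Q := act 0 n19526
theorem D41473 : act 0 n19526 = n41473 := rfl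
def n41474 : Q := act 1 n19526
theorem D41474 : act 1 n19526 = n41474 := rfl
theorem F63919 : act 1 n41474 = n19634 := d15_1 D41474 (iv7 D19634) (iv2 F31261)
def n41475 : Q := act 5 n19526
theorem D41475 : act 5 n19526 = n41475 := rfl
theorem F63920 : act 2 n41475 = n19633 := d2_1 D41475 (iv5 D19633) (iv2 F31261)
theorem F63921 : act 6 n41475 = n19529 := d12_2 D19526 D41475 (iv5 D19529) (iv6 D9193) D9192
def n41476 : Q := act 7 n19526
theorem D41476 : act 7 n19526 = n41476 := rfl
theorem F63922 : act 2 n41476 = n19634 := d4_1 D41476 (iv7 D19634) (iv2 F31261)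
theorem F63923 : act 1 n19634 = n41473 := d15_0 (iv0 D41473) D41476 F63922
theorem F63924 : act 1 n19632 = n41476 := d15_1 D19632 (iv7 D41476) F31261
theorem F63925 : act 1 n41476 = n19631 := d15_0 (iv0 D19631) D19634 (iv2 F63922)
def n41477 : Q := act 3 n19527
theorem D41477 : act 3 n19527 = n41477 := rfl
theorem F63926 : act 4 n41477 = n40406 := d5_2 F31268 D41477 (iv3 D40406) (iv4 D19088) D19087
theorem F63927 : act 7 n41477 = n19642 := d8_2 (iv7 F63483) D41477 (iv3 D19642)
def n41478 : Q := act 5 n19527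
theorem D41478 : act 5 n19527 = n41478 := rfl
theorem F63928 : act 2 n41478 = n19639 := d2_1 D41478 (iv5 D19639) (iv2 F63482)
theorem F63929 : act 7 n41478 = n19644 := d13_2 (iv7 F63483) D41478 (iv5 D19644)
def n41479 : Q := act 6 n19527
theorem D41479 : act 6 n19527 = n41479 := rfl
theorem F63930 : act 2 n41479 = n19640 := d3_1 D41479 (iv6 D19640) (iv2 F63482)
theorem F63931 : act 4 n41479 = n40402 := d10_1 D41479 (iv6 D40402) F31268
theorem F63932 : act 5 n41479 = n22812 := d21_6 D10621 F17159 (iv5 D9192) D9193 D19527 D41479 (iv1 D22812) (iv5 D10775) (iv6 D4922) (iv1 F7028)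
def n41480 : Q := act 3 n19528
theorem D41480 : act 3 n19528 = n41480 := rfl
theorem F63933 : act 7 n41480 = n19637 := d8_2 (iv7 F63487) D41480 (iv3 D19637)
def n41481 : Q := act 5 n19528
theorem D41481 : act 5 n19528 = n41481 := rfl
theorem F63934 : act 2 n41481 = n19644 := d2_1 D41481 (iv5 D19644) (iv2 F63486)
theorem F63935 : act 7 n41481 = n19639 := d13_2 (iv7 F63487) D41481 (iv5 D19639)
def n41482 : Q := act 6 n19528
theorem D41482 : act 6 n19528 = n41482 := rfl
theorem F63936 : act 2 n41482 = n19645 := d3_1 D41482 (iv6 D19645) (iv2 F63486)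
def n41483 : Q := act 0 n19529
theorem D41483 : act 0 n19529 = n41483 := rfl
theorem F63937 : act 5 n41483 = n41202 := d17_3 (iv1 D19528) D19529 D41483 (iv4 D41202) (iv5 D19378) (iv0 F35586) F30771 D37848 (iv4 F58693)
theorem F63938 : act 2 n19646 = n41483 := d15_3 (iv0 D41483) (iv0 F35335) (iv7 F58701)
theorem F63939 : act 7 n41483 = n19647 := d4_2 (iv7 F58701) F63938 (iv2 F35334)
theorem F63940 : act 1 n19649 = n41483 := d15_1 F35336 F63939 (iv2 F35334)
def n41484 : Q := act 4 n19529
theorem D41484 : act 4 n19529 = n41484 := rfl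
theorem F63941 : act 2 n41484 = n19648 := d1_1 D41484 (iv4 D19648) (iv2 F31263)
theorem F63942 : act 5 n41484 = n22798 := d16_1 D41484 F35346 F17291 F7344 (iv5 F6076) (iv4 F14430) (iv5 F31409) (iv7 D19649) (iv2 F31263)
theorem F63943 : act 7 n22797 = n41484 := d13_0 F63942 (iv7 D22798) D22797
def n41485 : Q := act 7 n19529
theorem D41485 : act 7 n19529 = n41485 := rfl
theorem F63944 : act 2 n41485 = n19649 := d4_1 D41485 (iv7 D19649) (iv2 F31263)
theorem F63945 : act 4 n41485 = n22797 := d11_1 D41485 F63943 (iv4 D41484)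
theorem F63946 : act 5 n41485 = n19530 := d13_1 D41485 (iv7 D19530) D19529
theorem F63947 : act 1 n19647 = n41485 := d15_1 D19647 (iv7 D41485) F31263
theorem F63948 : act 1 n41485 = n19646 := d15_1 F63947 F58701 F35334
def n41486 : Q := act 5 n19532
theorem D41486 : act 5 n19532 = n41486 := rfl
theorem F63949 : act 3 n41486 = n19534 := d6_1 D41486 (iv5 D19534) D19532
theorem F63950 : act 7 n41486 = n19687 := d13_2 (iv7 F63513) D41486 (iv5 D19687)
def n41487 : Q := act 6 n19532
theorem D41487 : act 6 n19532 = n41487 := rfl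
theorem F63951 : act 3 n41487 = n19535 := d7_1 D41487 (iv6 D19535) D19532
theorem F63952 : act 5 n22939 = n41487 := d6_0 F63951 F31271 D22939
theorem F63953 : act 0 n22939 = n20750 := d21_7 F7241 F6298 D4255 D9372 (iv1 F63164) D41487 (iv5 F63952) (iv5 D20750) (iv6 D9836) F7242
def n41488 : Q := act 0 n19533
theorem D41488 : act 0 n19533 = n41488 := rfl
theorem F63954 : act 4 n41488 = n37849 := d18_3 D9194 D19533 D41488 F58696 (iv4 F35952) (iv0 D22339) (iv4 D10635) (iv0 D4864) (iv5 F6067)
theorem F63955 : act 2 n19667 = n41488 := d15_3 (iv0 D41488) F63435 (iv7 F35658)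
theorem F63956 : act 1 n19538 = n41488 := d15_0 (iv0 D41488) F63515 (iv2 F63504)
theorem F63957 : act 7 n41488 = n19551 := d15_2 (iv0 F35815) F63956 F31296
theorem F63958 : act 6 n21992 = n41488 := d14_5 F63957 (iv6 D19551) F14365 D10487 D21992
def n41489 : Q := act 3 n19533
theorem D41489 : act 3 n19533 = n41489 := rfl
theorem F63959 : act 7 n41489 = n19689 := d8_2 (iv7 F63515) D41489 (iv3 D19689)
def n41490 : Q := act 5 n19533
theorem D41490 : act 5 n19533 = n41490 := rfl
theorem F63960 : act 2 n41490 = n19670 := d2_1 D41490 (iv5 D19670) (iv2 F63514)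
theorem F63961 : act 7 n41490 = n19690 := d13_2 (iv7 F63515) D41490 (iv5 D19690)
def n41491 : Q := act 6 n19533
theorem D41491 : act 6 n19533 = n41491 := rfl
theorem F63962 : act 2 n41491 = n19671 := d3_1 D41491 (iv6 D19671) (iv2 F63514)
theorem F63963 : act 4 n41491 = n19535 := d10_1 D41491 (iv6 D19535) D19533
def n41492 : Q := act 4 n19534
theorem D41492 : act 4 n19534 = n41492 := rfl
theorem F63964 : act 2 n41492 = n19675 := d1_1 D41492 (iv4 D19675) (iv2 F63516)
theorem F63965 : act 7 n41492 = n19692 := d11_2 (iv7 F63517) D41492 (iv4 D19692)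
def n41493 : Q := act 6 n19534
theorem D41493 : act 6 n19534 = n41493 := rfl
theorem F63966 : act 2 n41493 = n19676 := d3_1 D41493 (iv6 D19676) (iv2 F63516)
theorem F63967 : act 5 n41493 = n22556 := d12_1 D41493 F63750 (iv5 F31271) (iv6 D19535) D19534
theorem F63968 : act 7 n41493 = n19706 := d14_2 (iv7 F63517) D41493 (iv6 D19706) (iv7 F63539) F31128
theorem F63969 : act 0 n41493 = n19594 := d21_4 (iv5 F6067) D9194 D19534 D41493 (iv6 D19594) (iv5 F17336) F17337 F17319 (iv6 D10640) (iv1 D4865)
theorem F63970 : act 1 n41493 = n22045 := d15_1 (iv0 F63969) (iv7 D22045) (iv2 F35538)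
def n41494 : Q := act 1 n19535
theorem D41494 : act 1 n19535 = n41494 := rfl
theorem F63971 : act 1 n41494 = n19681 := d15_1 D41494 (iv7 D19681) (iv2 F63518)
theorem F63972 : act 7 n41494 = n19598 := d15_2 (iv0 F34632) D41494 F35516
theorem F63973 : act 6 n22045 = n41494 := d21_3 D10615 D22276 F35543 (iv1 D41494) (iv6 D19535) D19534 (iv1 F62658) (iv5 F62685) (iv6 F62698) (iv1 F62708)
theorem F63974 : act 2 n41494 = n19679 := d3_1 F63973 (iv6 F35115) F35114
def n41495 : Q := act 7 n19535
theorem D41495 : act 7 n19535 = n41495 := rfl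
theorem F63975 : act 2 n41495 = n19681 := d4_1 D41495 (iv7 D19681) (iv2 F63518)
theorem F63976 : act 5 n41495 = n21872 := d13_1 D41495 F63526 (iv5 F31271)
theorem F63977 : act 6 n41495 = n19696 := d14_1 D41495 (iv7 D19696) (iv6 D9245) (iv7 F63511) D19535
theorem F63978 : act 1 n19679 = n41495 := d15_1 D19679 (iv7 D41495) F63518
theorem F63979 : act 1 n41495 = n19598 := d15_1 F63978 (iv7 F63972) F63974
def n41496 : Q := act 5 n19537
theorem D41496 : act 5 n19537 = n41496 := rfl
theorem F63980 : act 3 n41496 = n19539 := d6_1 D41496 (iv5 D19539) D19537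
theorem F63981 : act 7 n41496 = n19664 := d13_2 (iv7 F63502) D41496 (iv5 D19664)
theorem F63982 : act 4 n41496 = n41192 := d17_4 F63107 (iv5 F63777) (iv1 F63779) D41496 (iv5 D41192) F61962 F61960 F30920 F17365
theorem F63983 : act 6 n41496 = n19699 := d21_3 (iv5 F63777) (iv1 F63779) D41496 F63555 (iv6 F63126) F61489 F63111 F63103 (iv6 D22820) F63107
theorem F63984 : act 0 n41192 = n21082 := d20_7 (iv4 F15561) (iv1 F15565) F15563 D19788 F62657 (iv3 F63980) F63982 F33278 F15851 F14788
def n41497 : Q := act 6 n19537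
theorem D41497 : act 6 n19537 = n41497 := rfl
theorem F63985 : act 3 n41497 = n19540 := d7_1 D41497 (iv6 D19540) D19537
theorem F63986 : act 4 n41497 = n40389 := d10_1 D41497 (iv6 D40389) (iv4 F31273)
def n41498 : Q := act 3 n19538
theorem D41498 : act 3 n19538 = n41498 := rfl
theorem F63987 : act 4 n41498 = n40387 := d5_2 D19538 D41498 (iv3 D40387) (iv4 F31273) (iv3 D19537)
theorem F63988 : act 7 n41498 = n19669 := d8_2 (iv7 F63505) D41498 (iv3 D19669)
def n41499 : Q := act 5 n19538
theorem D41499 : act 5 n19538 = n41499 := rfl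
theorem F63989 : act 2 n41499 = n19690 := d2_1 D41499 (iv5 D19690) (iv2 F63504)
theorem F63990 : act 7 n41499 = n19670 := d13_2 (iv7 F63505) D41499 (iv5 D19670)
def n41500 : Q := act 6 n19538
theorem D41500 : act 6 n19538 = n41500 := rfl
theorem F63991 : act 2 n41500 = n19691 := d3_1 D41500 (iv6 D19691) (iv2 F63504)
theorem F63992 : act 4 n41500 = n19540 := d10_1 D41500 (iv6 D19540) D19538
def n41501 : Q := act 4 n19539
theorem D41501 : act 4 n19539 = n41501 := rfl
theorem F63993 : act 2 n41501 = n19692 := d1_1 D41501 (iv4 D19692) (iv2 F63506)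
theorem F63994 : act 6 n41501 = n19700 := d10_2 (iv6 F31274) D41501 (iv4 D19700)
theorem F63995 : act 7 n41501 = n19675 := d11_2 (iv7 F63507) D41501 (iv4 D19675)
theorem F63996 : act 0 n41501 = n22152 := d17_0 (iv5 F35955) (iv1 F35412) (iv5 D10811) (iv4 D4930) D4931 F17323 F17317 (iv0 F35494) D41501
theorem F63997 : act 1 n41492 = n22152 := d15_0 (iv0 F63996) F63995 (iv2 F63964)
def n41502 : Q := act 5 n19540
theorem D41502 : act 5 n19540 = n41502 := rfl
theorem F63998 : act 2 n41502 = n19695 := d2_1 D41502 (iv5 D19695) (iv2 F63508)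
theorem F63999 : act 6 n41502 = n19701 := d12_2 D19540 D41502 (iv5 D19701) (iv6 F31274) (iv5 D19539)
theorem F64000 : act 0 n22247 = n41502 := d21_10 (iv5 D41502) F35496 (iv5 D22465) F17236 (iv1 F35101) F63750 (iv5 F31271) F34632 D22059 (iv6 F34716)
theorem F64001 : act 1 n22251 = n41502 := d15_0 (iv0 F64000) F35525 (iv2 F35531)
theorem F64002 : act 7 n22441 = n41502 := d15_2 (iv0 F31445) D22441 F63998
def n41503 : Q := act 7 n19540
theorem D41503 : act 7 n19540 = n41503 := rfl
theorem F64004 : act 5 n41503 = n22441 := d13_1 D41503 F64002 (iv5 D41502)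
theorem F64005 : act 6 n41503 = n19681 := d14_1 D41503 (iv7 D19681) (iv6 D9240) F63509 D19540
theorem F64006 : act 1 n19564 = n41503 := d15_1 (iv0 F35500) (iv7 D41503) F63508
theorem F64007 : act 1 n41503 = n19693 := d15_1 F64006 F62649 (iv2 F62636)
def n41504 : Q := act 5 n19541
theorem D41504 : act 5 n19541 = n41504 := rfl
theorem F64008 : act 2 n41504 = n19546 := d2_1 D41504 (iv5 D19546) (iv2 F31275)
theorem F64009 : act 3 n41504 = n22065 := d6_1 D41504 (iv5 D22065) (iv3 F31276)
theorem F64010 : act 6 n41504 = n21462 := d12_2 D19541 D41504 (iv5 D21462) (iv6 D10241) (iv5 F14349)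
def n41505 : Q := act 7 n19541
theorem D41505 : act 7 n19541 = n41505 := rfl
theorem F64012 : act 3 n41505 = n22066 := d8_1 D41505 (iv7 D22066) (iv3 F31276)
theorem F64013 : act 4 n41505 = n21047 := d11_1 D41505 F62582 (iv4 F31277)
theorem F64014 : act 6 n41505 = n21885 := d14_1 D41505 (iv7 D21885) (iv6 D10440) (iv7 F14350) D19541
theorem F64015 : act 1 n19545 = n41505 := d15_1 D19545 (iv7 D41505) F31275
theorem F64016 : act 1 n41505 = n19544 := d15_1 F64015 F62920 (iv2 F62877)
def n41506 : Q := act 6 n19542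
theorem D41506 : act 6 n19542 = n41506 := rfl
theorem F64017 : act 2 n41506 = n37484 := d3_1 D41506 (iv6 D37484) (iv2 F31281)
theorem F64018 : act 3 n41506 = n19543 := d7_1 D41506 (iv6 D19543) D19542
theorem F64019 : act 4 n41506 = n19552 := d10_1 D41506 (iv6 D19552) (iv4 F31278)
def n41507 : Q := act 5 n19543
theorem D41507 : act 5 n19543 = n41507 := rfl
theorem F64020 : act 2 n41507 = n40373 := d2_1 D41507 (iv5 D40373) (iv2 F31282)
theorem F64021 : act 6 n41507 = n41135 := d12_2 D19543 D41507 (iv5 D41135) (iv6 D19352) F14358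
def n41508 : Q := act 5 n19544
theorem D41508 : act 5 n19544 = n41508 := rfl
theorem F64023 : act 7 n41508 = n21730 := d13_2 (iv7 F62920) D41508 (iv5 D21730)
def n41509 : Q := act 6 n19544
theorem D41509 : act 6 n19544 = n41509 := rfl
theorem F64024 : act 3 n41509 = n21531 := d7_1 D41509 (iv6 D21531) (iv3 F62918)
theorem F64025 : act 5 n23073 = n41509 := d6_0 F64024 F33867 D23073
theorem F64026 : act 0 n22376 = n23073 := d21_1 (iv5 F34930) F64025 (iv6 D41509) (iv1 F64016) F64014 F34355 (iv1 F34357) D21915 (iv6 F34890) (iv1 F34896)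
theorem F64027 : act 0 n23073 = n22353 := d21_7 (iv5 D9834) (iv1 F6534) (iv5 F7137) D9199 D19544 D41509 (iv5 F64025) (iv5 D22353) (iv6 D10641) F15466
def n41510 : Q := act 5 n19545
theorem D41510 : act 5 n19545 = n41510 := rfl
def n41511 : Q := act 6 n19545
theorem D41511 : act 6 n19545 = n41511 := rfl
theorem F64029 : act 2 n41511 = n21731 := d3_1 D41511 (iv6 D21731) (iv2 F62877)
theorem F64030 : act 5 n22829 = n41511 := d21_2 D22819 (iv1 F35407) (iv6 D41511) (iv1 D19545) (iv6 D9199) F7137 F6533 D4598 D10113 (iv1 F63108)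
theorem F64031 : act 0 n22347 = n21910 := d21_10 (iv5 D21910) (iv1 F34358) F34355 (iv6 F64014) (iv1 F64015) D41511 (iv5 F64030) (iv1 D22829) (iv5 F17310) D22347
def n41512 : Q := act 0 n19546
theorem D41512 : act 0 n19546 = n41512 := rfl
theorem F64032 : act 6 n41512 = n21730 := d21_5 (iv5 D21006) (iv1 F17403) D10453 (iv6 F31285) D41512 (iv5 D21730) (iv1 F62628) D41504 F64010 F33728
def n41513 : Q := act 1 n19546
theorem D41513 : act 1 n19546 = n41513 := rfl
def n41514 : Q := act 4 n19546
theorem D41514 : act 4 n19546 = n41514 := rfl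
theorem F64035 : act 6 n41514 = n21109 := d10_2 (iv6 F31285) D41514 F33314
theorem F64037 : act 0 n41514 = n21092 := d20_7 (iv4 F15876) (iv1 F15878) F15871 D10420 F62681 (iv3 F31284) D41514 (iv4 D21092) (iv3 D10031) (iv1 F6625)
def n41515 : Q := act 7 n19546
theorem D41515 : act 7 n19546 = n41515 := rfl
theorem F64038 : act 3 n41515 = n19573 := d8_1 D41515 (iv7 D19573) (iv3 F31284)
theorem F64039 : act 5 n41515 = n19547 := d13_1 D41515 (iv7 D19547) D19546
def n41516 : Q := act 0 n19548
theorem D41516 : act 0 n19548 = n41516 := rfl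
theorem F64041 : act 3 n41516 = n41461 := d20_5 (iv4 D8581) (iv1 F12198) (iv4 F14360) D19548 D41516 (iv4 D41461) (iv1 D19522) F14337 (iv3 D9191) (iv1 F13492)
theorem F64042 : act 1 n21976 = n41516 := d15_0 (iv0 D41516) F31289 D21976
def n41517 : Q := act 1 n19548
theorem D41517 : act 1 n19548 = n41517 := rfl
def n41518 : Q := act 2 n19548
theorem D41518 : act 2 n19548 = n41518 := rfl
theorem F64043 : act 3 n41518 = n21985 := d0_2 D19548 D41518 (iv2 D21985) (iv3 D10485) F14362
theorem F64044 : act 4 n41518 = n20425 := d1_2 (iv4 F31288) D41518 (iv2 D20425)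
theorem F64045 : act 7 n41518 = n21976 := d4_2 (iv7 F31289) D41518 (iv2 D21976)
theorem F64046 : act 1 n41518 = n21974 := d15_0 (iv0 D21974) (iv7 F31289) D41518
theorem F64047 : act 1 n41517 = n21976 := d15_1 D41517 (iv7 F64045) (iv2 D41518)
theorem F64048 : act 1 n21975 = n41518 := d15_1 D21975 F64045 (iv2 D21976)
def n41519 : Q := act 6 n19548
theorem D41519 : act 6 n19548 = n41519 := rfl
theorem F64049 : act 3 n41519 = n19549 := d7_1 D41519 (iv6 D19549) D19548
theorem F64050 : act 4 n41519 = n20427 := d10_1 D41519 (iv6 D20427) (iv4 F31288)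
def n41520 : Q := act 5 n19549
theorem D41520 : act 5 n19549 = n41520 := rfl
theorem F64051 : act 2 n41520 = n21991 := d2_1 D41520 (iv5 D21991) (iv2 F31290)
def n41521 : Q := act 7 n19549
theorem D41521 : act 7 n19549 = n41521 := rfl
theorem F64052 : act 2 n41521 = n21992 := d4_1 D41521 (iv7 D21992) (iv2 F31290)
theorem F64053 : act 4 n41521 = n20418 := d11_1 D41521 (iv7 D20418) (iv4 F31291)
theorem F64054 : act 6 n41521 = n19667 := d14_1 D41521 F35658 (iv6 D10484) F14363 D19549
theorem F64055 : act 1 n19704 = n41521 := d15_1 (iv0 F63705) (iv7 D41521) F31290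
theorem F64056 : act 1 n41521 = n19700 := d15_1 F64055 (iv7 F63734) F63733
def n41522 : Q := act 6 n19550
theorem D41522 : act 6 n19550 = n41522 := rfl
theorem F64057 : act 2 n41522 = n40745 := d3_1 D41522 (iv6 D40745) (iv2 F31295)
theorem F64058 : act 3 n41522 = n19551 := d7_1 D41522 (iv6 D19551) D19550
theorem F64059 : act 4 n41522 = n21300 := d10_1 D41522 (iv6 D21300) (iv4 F31292)
def n41523 : Q := act 5 n19551
theorem D41523 : act 5 n19551 = n41523 := rfl
theorem F64060 : act 2 n41523 = n21982 := d2_1 D41523 (iv5 D21982) (iv2 F31296)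
theorem F64061 : act 0 n41523 = n22860 := d17_2 (iv1 F35660) D41523 (iv5 D22860) (iv4 D10797) (iv5 D4926) (iv0 D2028) (iv5 F3037) D4179 D9243
theorem F64062 : act 1 n41523 = n22892 := d17_6 (iv1 F62388) (iv5 F35323) (iv1 F35587) F30771 (iv4 F31297) D41523 (iv5 D22892) F35556 (iv4 F62387)
def n41524 : Q := act 0 n19552
theorem D41524 : act 0 n19552 = n41524 := rfl
def n41525 : Q := act 1 n19552
theorem D41525 : act 1 n19552 = n41525 := rfl
def n41526 : Q := act 5 n19552
theorem D41526 : act 5 n19552 = n41526 := rfl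
theorem F64063 : act 3 n41526 = n19558 := d6_1 D41526 (iv5 D19558) (iv3 F31298)
def n41527 : Q := act 7 n19552
theorem D41527 : act 7 n19552 = n41527 := rfl
theorem F64064 : act 3 n41527 = n19559 := d8_1 D41527 (iv7 D19559) (iv3 F31298)
theorem F64065 : act 6 n41527 = n21999 := d14_1 D41527 (iv7 D21999) (iv6 D10490) (iv7 F14368) D19552
def n41528 : Q := act 3 n19553
theorem D41528 : act 3 n19553 = n41528 := rfl
theorem F64066 : act 5 n41528 = n19977 := d6_2 (iv5 F31299) D41528 (iv3 D19977)
theorem F64067 : act 7 n41528 = n22000 := d8_2 F31303 D41528 (iv3 D22000)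
def n41529 : Q := act 6 n19553
theorem D41529 : act 6 n19553 = n41529 := rfl
theorem F64068 : act 2 n41529 = n22003 := d3_1 D41529 (iv6 D22003) F31302
theorem F64069 : act 4 n41529 = n37897 := d10_1 D41529 (iv6 D37897) (iv4 F31300)
def n41530 : Q := act 3 n19554
theorem D41530 : act 3 n19554 = n41530 := rfl
theorem F64070 : act 5 n41530 = n22233 := d6_2 (iv5 F31306) D41530 (iv3 D22233)
theorem F64071 : act 7 n41530 = n22002 := d8_2 (iv7 F31305) D41530 (iv3 D22002)
theorem F64072 : act 0 n41530 = n40353 := d20_4 (iv4 F13498) (iv1 F29334) (iv4 F31307) D41530 F61434 (iv4 F35272) (iv1 D22691) (iv4 D10741) F7338 D4913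
theorem F64073 : act 0 n40746 = n41530 := d20_4 (iv4 D16259) (iv1 F27192) (iv4 F41924) (iv3 F61856) (iv3 D41530) F31307 (iv1 D18162) F13494 D10749 F25812
theorem F64074 : act 2 n41530 = n40748 := d15_3 (iv0 D40748) (iv0 F34500) (iv7 F64071)
theorem E7095 : n40998 = n40748 := ((c2_2 (iv5 F64070) F64074 (iv5 D40998) (iv2 F34685))).symm
theorem F64075 : act 5 n40748 = n19306 := (sb E7095 (iv5 D40998))
def n41531 : Q := act 6 n19554
theorem D41531 : act 6 n19554 = n41531 := rfl
theorem F64076 : act 2 n41531 = n22001 := d3_1 D41531 (iv6 D22001) F31308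
theorem F64077 : act 4 n41531 = n37898 := d10_1 D41531 (iv6 D37898) (iv4 F31307)
def n41532 : Q := act 0 n19555
theorem D41532 : act 0 n19555 = n41532 := rfl
def n41533 : Q := act 1 n19555
theorem D41533 : act 1 n19555 = n41533 := rfl
theorem F64078 : act 1 n41533 = n22142 := d15_1 D41533 (iv7 D22142) (iv2 F31309)
def n41534 : Q := act 5 n19555
theorem D41534 : act 5 n19555 = n41534 := rfl
theorem F64079 : act 2 n41534 = n22141 := d2_1 D41534 (iv5 D22141) (iv2 F31309)
theorem F64080 : act 6 n41534 = n19558 := d12_2 D19555 D41534 (iv5 D19558) (iv6 D9204) D9203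
def n41535 : Q := act 7 n19555
theorem D41535 : act 7 n19555 = n41535 := rfl
theorem F64081 : act 2 n41535 = n22142 := d4_1 D41535 (iv7 D22142) (iv2 F31309)
theorem F64082 : act 6 n41535 = n22007 := d14_1 D41535 (iv7 D22007) (iv6 D10493) (iv7 F14370) D19555
theorem F64083 : act 1 n22142 = n41532 := d15_0 (iv0 D41532) D41535 F64081
theorem F64084 : act 1 n22140 = n41535 := d15_1 D22140 (iv7 D41535) F31309
theorem F64085 : act 1 n41535 = n22139 := d15_0 (iv0 D22139) D22142 (iv2 F64081)
def n41536 : Q := act 3 n19556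
theorem D41536 : act 3 n19556 = n41536 := rfl
theorem F64086 : act 7 n41536 = n22149 := d8_2 (iv7 F62883) D41536 (iv3 D22149)
def n41537 : Q := act 5 n19556
theorem D41537 : act 5 n19556 = n41537 := rfl
theorem F64087 : act 2 n41537 = n22146 := d2_1 D41537 (iv5 D22146) (iv2 F62882)
theorem F64088 : act 7 n41537 = n22151 := d13_2 (iv7 F62883) D41537 (iv5 D22151)
def n41538 : Q := act 6 n19556
theorem D41538 : act 6 n19556 = n41538 := rfl
theorem F64089 : act 2 n41538 = n22147 := d3_1 D41538 (iv6 D22147) (iv2 F62882)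
theorem F64090 : act 4 n41538 = n38005 := d10_1 D41538 (iv6 D38005) (iv4 F62885)
def n41539 : Q := act 3 n19557
theorem D41539 : act 3 n19557 = n41539 := rfl
theorem F64091 : act 7 n41539 = n22144 := d8_2 (iv7 F62916) D41539 (iv3 D22144)
def n41540 : Q := act 5 n19557
theorem D41540 : act 5 n19557 = n41540 := rfl
theorem F64092 : act 2 n41540 = n22151 := d2_1 D41540 (iv5 D22151) (iv2 F62914)
theorem F64093 : act 7 n41540 = n22146 := d13_2 (iv7 F62916) D41540 (iv5 D22146)
def n41541 : Q := act 6 n19557
theorem D41541 : act 6 n19557 = n41541 := rfl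
theorem F64094 : act 2 n41541 = n22152 := d3_1 D41541 (iv6 D22152) (iv2 F62914)
theorem F64095 : act 4 n41541 = n38010 := d10_1 D41541 (iv6 D38010) (iv4 F62915)
theorem F64096 : act 0 n19692 = n41541 := d18_2 (iv1 F31438) D19692 F64095 (iv5 F62406) F62405 F35415 (iv4 D22343) F35466 (iv5 F31433)
theorem F64097 : act 1 n19675 = n41541 := d15_0 (iv0 F64096) (iv7 F63965) F63964
def n41542 : Q := act 0 n19558
theorem D41542 : act 0 n19558 = n41542 := rfl
def n41543 : Q := act 1 n19558
theorem D41543 : act 1 n19558 = n41543 := rfl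
theorem F64098 : act 1 n41543 = n22156 := d15_1 D41543 (iv7 D22156) (iv2 F31311)
theorem F64099 : act 5 n22526 = n41543 := d21_6 (iv5 F17206) (iv1 F17207) (iv5 D4893) D4894 D10692 D22526 (iv1 D41543) (iv5 D19558) (iv6 D9204) D9200
def n41544 : Q := act 4 n19558
theorem D41544 : act 4 n19558 = n41544 := rfl
def n41545 : Q := act 7 n19558
theorem D41545 : act 7 n19558 = n41545 := rfl
theorem F64101 : act 2 n41545 = n22156 := d4_1 D41545 (iv7 D22156) (iv2 F31311)
theorem F64102 : act 5 n41545 = n19559 := d13_1 D41545 (iv7 D19559) D19558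
theorem F64103 : act 1 n22156 = n41542 := d15_0 (iv0 D41542) D41545 F64101
theorem F64104 : act 1 n22154 = n41545 := d15_1 D22154 (iv7 D41545) F31311
theorem F64105 : act 1 n41545 = n22153 := d15_0 (iv0 D22153) D22156 (iv2 F64101)
def n41546 : Q := act 3 n19562
theorem D41546 : act 3 n19562 = n41546 := rfl
theorem F64106 : act 4 n41546 = n41546 := d5_2 D19562 D41546 (iv3 D41546) (iv4 D19562) F62164
theorem F64107 : act 7 n41546 = n22191 := d8_2 (iv7 F35487) D41546 (iv3 D22191)
def n41547 : Q := act 5 n19562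
theorem D41547 : act 5 n19562 = n41547 := rfl
theorem F64108 : act 2 n41547 = n21797 := d2_1 D41547 (iv5 D21797) (iv2 F62620)
theorem F64109 : act 7 n41547 = n22192 := d13_2 (iv7 F35487) D41547 (iv5 D22192)
def n41548 : Q := act 6 n19562
theorem D41548 : act 6 n19562 = n41548 := rfl
theorem F64110 : act 2 n41548 = n21798 := d3_1 D41548 (iv6 D21798) (iv2 F62620)
theorem F64111 : act 4 n41548 = n19564 := d10_1 D41548 (iv6 D19564) D19562
def n41549 : Q := act 4 n19563
theorem D41549 : act 4 n19563 = n41549 := rfl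
theorem F64112 : act 2 n41549 = n21801 := d1_1 D41549 (iv4 D21801) (iv2 F62635)
def n41550 : Q := act 6 n19563
theorem D41550 : act 6 n19563 = n41550 := rfl
def n41551 : Q := act 4 n19570
theorem D41551 : act 4 n19570 = n41551 := rfl
def n41552 : Q := act 0 n19572
theorem D41552 : act 0 n19572 = n41552 := rfl
theorem F64120 : act 4 n41552 = n38011 := d20_2 D19572 D41552 (iv3 F63038) (iv1 F33078) F15696 (iv4 F15876) (iv1 F15878) F15871 D10420 F62681
theorem F64121 : act 1 n22210 = n41552 := d18_6 D18194 (iv4 F62885) (iv1 F31315) F17034 (iv5 F17038) (iv4 F34642) F64120 (iv0 D38011) (iv5 D18196)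
def n41553 : Q := act 1 n19572
theorem D41553 : act 1 n19572 = n41553 := rfl
theorem F64122 : act 1 n41553 = n22210 := d15_1 D41553 (iv7 D22210) (iv2 F31325)
def n41556 : Q := act 7 n19572
theorem D41556 : act 7 n19572 = n41556 := rfl
theorem F64126 : act 4 n41556 = n19573 := d11_1 D41556 (iv7 D19573) D19572
theorem F64128 : act 1 n22207 = n41556 := d15_1 D22207 (iv7 D41556) F31325
theorem F64129 : act 4 n22207 = n20997 := d20_2 (iv4 F64126) (iv1 F64128) (iv3 D20997) (iv1 D9964) F6605 D4571 D10036 F15868 D10419 (iv1 F62676)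
theorem F64130 : act 7 n41552 = n22207 := d11_0 F64129 (iv7 F63039) (iv4 F64120)
theorem F64131 : act 1 n20997 = n38014 := d18_8 F62686 F62689 (iv1 D10556) F6970 D4834 D10571 D22207 F64129 F58845
theorem F64132 : act 1 n37871 = n20997 := d15_0 F64131 (iv7 D38014) (iv2 F58738)
theorem F64133 : act 2 n22207 = n41553 := d15_3 F64122 F64121 F64130
theorem F64134 : act 2 n41552 = n22206 := d15_3 (iv0 D22206) D22207 (iv7 F64130)
theorem F64135 : act 7 n22206 = n41553 := d4_2 (iv7 F64130) F64134 (iv2 F64133)
theorem F64136 : act 1 n41556 = n22206 := d15_1 F64128 F64135 (iv2 F64133)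
def n41557 : Q := act 0 n19574
theorem D41557 : act 0 n19574 = n41557 := rfl
def n41558 : Q := act 1 n19574
theorem D41558 : act 1 n19574 = n41558 := rfl
theorem F64137 : act 1 n41558 = n19580 := d15_1 D41558 (iv7 D19580) (iv2 F31333)
def n41559 : Q := act 7 n19574
theorem D41559 : act 7 n19574 = n41559 := rfl
theorem F64138 : act 2 n41559 = n19580 := d4_1 D41559 (iv7 D19580) (iv2 F31333)
theorem F64139 : act 3 n41559 = n21885 := d8_1 D41559 (iv7 D21885) (iv3 F31334)
theorem F64140 : act 5 n41559 = n41559 := d13_1 D41559 (iv7 D41559) F31335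
theorem F64141 : act 6 n41559 = n22066 := d14_1 D41559 (iv7 D22066) (iv6 D10509) (iv7 F14383) D19574
theorem F64142 : act 1 n19580 = n41557 := d15_0 (iv0 D41557) D41559 F64138
theorem F64143 : act 1 n19579 = n41559 := d15_1 D19579 (iv7 D41559) F31333
theorem F64144 : act 1 n41559 = n19578 := d15_0 (iv0 D19578) D19580 (iv2 F64138)
theorem F64145 : act 5 n22877 = n19578 := d21_0 (iv1 F64144) F64140 F64141 (iv1 F34538) D22086 (iv5 F63348) (iv1 D22875) (iv5 D10808) D10809 D22877
def n41560 : Q := act 0 n19575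
theorem D41560 : act 0 n19575 = n41560 := rfl
theorem F64146 : act 1 n22069 = n41560 := d15_0 (iv0 D41560) F31337 D22069
theorem F64147 : act 5 n41560 = n34960 := d17_7 (iv1 F27868) (iv5 F27875) F52361 (iv5 D33128) (iv4 F52353) F55483 F64146 (iv0 F55351) (iv4 F35040)
theorem F64148 : act 2 n22068 = n41560 := d2_3 F64147 F55347 F54144
theorem F64149 : act 7 n22067 = n41560 := d13_0 F64147 F55350 F51637
def n41561 : Q := act 1 n19575
theorem D41561 : act 1 n19575 = n41561 := rfl
theorem F64150 : act 7 n41561 = n22068 := d15_2 (iv0 D41560) D41561 F64148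
theorem F64151 : act 5 n41561 = n35077 := d18_9 F55699 (iv4 F35040) (iv1 F27868) (iv4 F27777) (iv5 F33089) F33088 (iv0 D19581) (iv4 F31336) D41561
theorem F64152 : act 2 n22067 = n41561 := d2_3 F64151 F55695 F51637
theorem F64153 : act 3 n22068 = n41561 := d6_3 F64151 F55696 F54144
theorem F64154 : act 0 n22069 = n41561 := d17_0 F64151 F55699 (iv5 D22483) F17222 D10689 D22511 (iv5 F35076) F31354 (iv4 F34541)
def n41562 : Q := act 2 n19575
theorem D41562 : act 2 n19575 = n41562 := rfl
theorem F64155 : act 3 n41562 = n19905 := d0_2 D19575 D41562 (iv2 F32383) (iv3 D20390) (iv2 F15072)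
theorem F64156 : act 4 n41562 = n19583 := d1_2 (iv4 F31336) D41562 (iv2 D19583)
theorem F64157 : act 7 n41562 = n22069 := d4_2 (iv7 F31337) D41562 (iv2 D22069)
theorem F64158 : act 1 n41562 = n22067 := d15_0 (iv0 D22067) (iv7 F31337) D41562
theorem F64159 : act 1 n22068 = n41562 := d15_0 F64158 F64149 (iv2 F64148)
def n41563 : Q := act 5 n19575
theorem D41563 : act 5 n19575 = n41563 := rfl
theorem F64160 : act 3 n41563 = n19576 := d6_1 D41563 (iv5 D19576) D19575
theorem F64161 : act 7 n41563 = n22070 := d13_2 (iv7 F31337) D41563 (iv5 D22070)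
def n41564 : Q := act 6 n19575
theorem D41564 : act 6 n19575 = n41564 := rfl
theorem F64162 : act 3 n41564 = n19577 := d7_1 D41564 (iv6 D19577) D19575
theorem F64163 : act 4 n41564 = n19585 := d10_1 D41564 (iv6 D19585) (iv4 F31336)
def n41565 : Q := act 6 n19576
theorem D41565 : act 6 n19576 = n41565 := rfl
theorem F64164 : act 4 n41565 = n22072 := d10_1 D41565 (iv6 D22072) (iv4 F31339)
def n41566 : Q := act 0 n19577
theorem D41566 : act 0 n19577 = n41566 := rfl
def n41567 : Q := act 1 n19577
theorem D41567 : act 1 n19577 = n41567 := rfl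
def n41568 : Q := act 5 n19577
theorem D41568 : act 5 n19577 = n41568 := rfl
def n41569 : Q := act 7 n19577
theorem D41569 : act 7 n19577 = n41569 := rfl
theorem F64165 : act 4 n41569 = n19580 := d11_1 D41569 (iv7 D19580) (iv4 F31342)
theorem F64166 : act 6 n41569 = n20964 := d14_1 D41569 F62672 (iv6 D10513) (iv7 F14386) D19577
def n41570 : Q := act 2 n19578
theorem D41570 : act 2 n19578 = n41570 := rfl
theorem F64167 : act 7 n19579 = n41570 := d15_2 (iv0 D19578) D19579 (iv2 D41570)
def n41571 : Q := act 3 n19578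
theorem D41571 : act 3 n19578 = n41571 := rfl
def n41572 : Q := act 4 n19578
theorem D41572 : act 4 n19578 = n41572 := rfl
def n41573 : Q := act 6 n19578
theorem D41573 : act 6 n19578 = n41573 := rfl
def n41574 : Q := act 7 n19578
theorem D41574 : act 7 n19578 = n41574 := rfl
theorem F64168 : act 2 n41574 = n19579 := d4_1 D41574 F64167 (iv2 D41570)
def n41575 : Q := act 3 n19579
theorem D41575 : act 3 n19579 = n41575 := rfl
def n41576 : Q := act 4 n19579
theorem D41576 : act 4 n19579 = n41576 := rfl
def n41577 : Q := act 5 n19579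
theorem D41577 : act 5 n19579 = n41577 := rfl
def n41578 : Q := act 6 n19579
theorem D41578 : act 6 n19579 = n41578 := rfl
def n41579 : Q := act 3 n19581
theorem D41579 : act 3 n19581 = n41579 := rfl
theorem F64169 : act 2 n41579 = n21268 := d0_1 D41579 (iv3 D21268) F16000 F17030 F31350
theorem F64170 : act 4 n41579 = n21275 := d5_2 F33088 D41579 (iv3 F34016) F34017 (iv3 F33087)
theorem F64171 : act 7 n41579 = n22125 := d8_2 F31353 D41579 (iv3 D22125)
theorem F64172 : act 1 n40591 = n41579 := d15_1 D40591 F64171 F34596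
theorem F64173 : act 1 n41579 = n40590 := d15_0 (iv0 D40590) (iv7 F33493) (iv2 F64169)
def n41580 : Q := act 6 n19581
theorem D41580 : act 6 n19581 = n41580 := rfl
theorem F64174 : act 2 n41580 = n22129 := d3_1 D41580 (iv6 D22129) F31350
def n41581 : Q := act 6 n19582
theorem D41581 : act 6 n19582 = n41581 := rfl
theorem F64175 : act 2 n41581 = n22127 := d3_1 D41581 (iv6 D22127) (iv2 F31351)
theorem F64176 : act 3 n41581 = n40328 := d7_1 D41581 (iv6 D40328) F31347
theorem F64177 : act 4 n41581 = n20776 := d10_1 D41581 (iv6 D20776) F31348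
def n41582 : Q := act 6 n19583
theorem D41582 : act 6 n19583 = n41582 := rfl
theorem F64178 : act 2 n41582 = n19585 := d3_1 D41582 (iv6 D19585) D19583
theorem F64179 : act 3 n41582 = n21995 := d7_1 D41582 (iv6 D21995) (iv3 F31355)
def n41583 : Q := act 6 n19584
theorem D41583 : act 6 n19584 = n41583 := rfl
theorem F64180 : act 3 n41583 = n19586 := d7_1 D41583 (iv6 D19586) (iv3 F31359)
def n41584 : Q := act 0 n19585
theorem D41584 : act 0 n19585 = n41584 := rfl
def n41585 : Q := act 1 n19585
theorem D41585 : act 1 n19585 = n41585 := rfl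
def n41586 : Q := act 5 n19585
theorem D41586 : act 5 n19585 = n41586 := rfl
theorem F64181 : act 3 n41586 = n19589 := d6_1 D41586 (iv5 D19589) (iv3 F31361)
def n41587 : Q := act 7 n19585
theorem D41587 : act 7 n19585 = n41587 := rfl
theorem F64182 : act 3 n41587 = n19590 := d8_1 D41587 (iv7 D19590) (iv3 F31361)
theorem F64183 : act 6 n41587 = n22138 := d14_1 D41587 (iv7 D22138) (iv6 D10553) (iv7 F14391) D19585
def n41588 : Q := act 0 n19586
theorem D41588 : act 0 n19586 = n41588 := rfl
def n41589 : Q := act 1 n19586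
theorem D41589 : act 1 n19586 = n41589 := rfl
theorem F64184 : act 1 n41589 = n22007 := d15_1 D41589 (iv7 D22007) (iv2 F31362)
def n41590 : Q := act 5 n19586
theorem D41590 : act 5 n19586 = n41590 := rfl
theorem F64185 : act 2 n41590 = n22006 := d2_1 D41590 (iv5 D22006) (iv2 F31362)
theorem F64186 : act 6 n41590 = n19589 := d12_2 D19586 D41590 (iv5 D19589) (iv6 D9214) D9213
def n41591 : Q := act 7 n19586
theorem D41591 : act 7 n19586 = n41591 := rfl
theorem F64187 : act 2 n41591 = n22007 := d4_1 D41591 (iv7 D22007) (iv2 F31362)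
theorem F64188 : act 6 n41591 = n22142 := d14_1 D41591 (iv7 D22142) (iv6 D10554) (iv7 F14393) D19586
theorem F64189 : act 1 n22007 = n41588 := d15_0 (iv0 D41588) D41591 F64187
theorem F64190 : act 1 n22005 = n41591 := d15_1 D22005 (iv7 D41591) F31362
theorem F64191 : act 1 n41591 = n22004 := d15_0 (iv0 D22004) D22007 (iv2 F64187)
def n41592 : Q := act 2 n19587
theorem D41592 : act 2 n19587 = n41592 := rfl
theorem F64192 : act 7 n19588 = n41592 := d15_2 (iv0 D19587) D19588 (iv2 D41592)
def n41593 : Q := act 3 n19587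
theorem D41593 : act 3 n19587 = n41593 := rfl
def n41594 : Q := act 4 n19587
theorem D41594 : act 4 n19587 = n41594 := rfl
def n41595 : Q := act 5 n19587
theorem D41595 : act 5 n19587 = n41595 := rfl
def n41596 : Q := act 6 n19587
theorem D41596 : act 6 n19587 = n41596 := rfl
def n41597 : Q := act 7 n19587
theorem D41597 : act 7 n19587 = n41597 := rfl
theorem F64193 : act 2 n41597 = n19588 := d4_1 D41597 F64192 (iv2 D41592)
def n41598 : Q := act 3 n19588
theorem D41598 : act 3 n19588 = n41598 := rfl
def n41599 : Q := act 4 n19588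
theorem D41599 : act 4 n19588 = n41599 := rfl
def n41600 : Q := act 5 n19588
theorem D41600 : act 5 n19588 = n41600 := rfl
def n41601 : Q := act 6 n19588
theorem D41601 : act 6 n19588 = n41601 := rfl
def n41602 : Q := act 0 n19589
theorem D41602 : act 0 n19589 = n41602 := rfl
def n41603 : Q := act 1 n19589
theorem D41603 : act 1 n19589 = n41603 := rfl
theorem F64194 : act 1 n41603 = n22021 := d15_1 D41603 (iv7 D22021) (iv2 F31364)
theorem F64195 : act 5 n41603 = n22888 := d17_7 F17320 F17216 (iv1 D9216) F7147 (iv4 F14395) D19589 D41603 F35581 F35560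
theorem E7096 : n22888 = n22412 := ((c21_6 (iv5 F17212) (iv1 D10658) (iv5 D4883) D4884 D10660 D22412 (iv5 F64195) (iv1 D41603) (iv5 D19589) (iv6 D9214) (iv1 F14364))).symm
theorem F64196 : act 0 n22412 = n10812 := (sb E7096 (iv1 D22888))
theorem F64197 : act 1 n22412 = n22861 := (sb E7096 F35581)
theorem F64198 : act 5 n22412 = n41603 := (sb E7096 (iv5 F64195))
def n41604 : Q := act 4 n19589
theorem D41604 : act 4 n19589 = n41604 := rfl
theorem F64199 : act 2 n41604 = n22020 := d1_1 D41604 (iv4 D22020) (iv2 F31364)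
def n41605 : Q := act 7 n19589
theorem D41605 : act 7 n19589 = n41605 := rfl
theorem F64200 : act 2 n41605 = n22021 := d4_1 D41605 (iv7 D22021) (iv2 F31364)
theorem F64201 : act 5 n41605 = n19590 := d13_1 D41605 (iv7 D19590) D19589
theorem F64202 : act 1 n22021 = n41602 := d15_0 (iv0 D41602) D41605 F64200
theorem F64203 : act 1 n22019 = n41605 := d15_1 D22019 (iv7 D41605) F31364
theorem F64204 : act 5 n41602 = n22887 := d17_7 D10814 F17336 (iv1 F14400) F7154 (iv4 F16702) (iv5 F34504) F64202 (iv0 D22887) F17334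
theorem F64205 : act 1 n41605 = n22018 := d15_0 (iv0 D22018) D22021 (iv2 F64200)
def n41611 : Q := act 0 n19593
theorem D41611 : act 0 n19593 = n41611 := rfl
theorem F64214 : act 1 n19597 = n41611 := d15_0 (iv0 D41611) F35537 (iv2 F35513)
def n41612 : Q := act 1 n19593
theorem D41612 : act 1 n19593 = n41612 := rfl
theorem F64215 : act 1 n41612 = n19597 := d15_1 D41612 F35514 (iv2 F35536)
def n41614 : Q := act 5 n19593
theorem D41614 : act 5 n19593 = n41614 := rfl
theorem F64217 : act 2 n41614 = n22038 := d2_1 D41614 (iv5 D22038) (iv2 F35536)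
theorem F64218 : act 7 n41614 = n22054 := d13_2 (iv7 F35537) D41614 (iv5 D22054)
def n41615 : Q := act 6 n19593
theorem D41615 : act 6 n19593 = n41615 := rfl
theorem F64219 : act 2 n41615 = n22039 := d3_1 D41615 (iv6 D22039) (iv2 F35536)
def n41620 : Q := act 6 n19596
theorem D41620 : act 6 n19596 = n41620 := rfl
theorem F64228 : act 3 n41620 = n19598 := d7_1 D41620 (iv6 D19598) D19596
def n41621 : Q := act 3 n19597
theorem D41621 : act 3 n19597 = n41621 := rfl
theorem F64229 : act 7 n41621 = n22037 := d8_2 (iv7 F35514) D41621 (iv3 D22037)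
def n41622 : Q := act 5 n19597
theorem D41622 : act 5 n19597 = n41622 := rfl
theorem F64230 : act 2 n41622 = n22054 := d2_1 D41622 (iv5 D22054) (iv2 F35513)
theorem F64231 : act 7 n41622 = n22038 := d13_2 (iv7 F35514) D41622 (iv5 D22038)
def n41623 : Q := act 6 n19597
theorem D41623 : act 6 n19597 = n41623 := rfl
theorem F64232 : act 2 n41623 = n22055 := d3_1 D41623 (iv6 D22055) (iv2 F35513)
theorem F64233 : act 4 n41623 = n19598 := d10_1 D41623 (iv6 D19598) D19597
def n41624 : Q := act 4 n19599
theorem D41624 : act 4 n19599 = n41624 := rfl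
def n41625 : Q := act 6 n19599
theorem D41625 : act 6 n19599 = n41625 := rfl
def n41626 : Q := act 3 n19600
theorem D41626 : act 3 n19600 = n41626 := rfl
theorem F64234 : act 4 n40690 = n41626 := d20_2 (iv4 F30851) D40690 (iv3 D41626) (iv1 D19600) (iv3 D9218) F13399 (iv1 F13995) (iv4 F13999) D10485 F16695
def n41627 : Q := act 4 n19600
theorem D41627 : act 4 n19600 = n41627 := rfl
theorem F64235 : act 3 n41627 = n21230 := d19_3 (iv1 F51875) (iv5 F58716) D41627 (iv1 F33456) D21231 (iv4 F51593) (iv3 F51591) (iv1 D15417) (iv5 D7278) F10684 (iv3 F12627) (iv1 F3970) (iv5 F3986) (iv4 F26357) F9195 (iv1 F9226) (iv5 F27225) D15683 D32763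
def n41628 : Q := act 6 n19600
theorem D41628 : act 6 n19600 = n41628 := rfl
def n41629 : Q := act 5 n19601
theorem D41629 : act 5 n19601 = n41629 := rfl
theorem F64236 : act 2 n41629 = n19603 := d2_1 D41629 (iv5 D19603) D19601
theorem F64237 : act 3 n41629 = n22720 := d6_1 D41629 (iv5 F58829) F58828
theorem F64238 : act 7 n41629 = n22712 := d13_2 F58710 D41629 (iv5 F58709)
theorem F64239 : act 1 n22595 = n41629 := d15_1 (iv0 F59336) F64238 (iv2 D22712)
theorem F64240 : act 1 n41629 = n22591 := d15_1 F64239 F35130 (iv2 F35133)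
def n41630 : Q := act 6 n19601
theorem D41630 : act 6 n19601 = n41630 := rfl
theorem F64241 : act 2 n41630 = n19604 := d3_1 D41630 (iv6 D19604) D19601
def n41631 : Q := act 5 n19602
theorem D41631 : act 5 n19602 = n41631 := rfl
theorem F64242 : act 3 n41631 = n21447 := d6_1 D41631 F33706 (iv3 F31373)
theorem F64243 : act 0 n41631 = n21483 := d20_4 (iv4 F29071) (iv1 F58159) F58161 (iv3 F64242) F33781 (iv4 F33661) F33662 (iv4 D10348) F6787 D10173
def n41632 : Q := act 6 n19602
theorem D41632 : act 6 n19602 = n41632 := rfl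
theorem F64244 : act 3 n41632 = n21610 := d7_1 D41632 (iv6 D21610) (iv3 F31373)
theorem F64245 : act 4 n41632 = n19604 := d10_1 D41632 (iv6 D19604) D19602
def n41633 : Q := act 1 n19603
theorem D41633 : act 1 n19603 = n41633 := rfl
theorem F64246 : act 1 n41633 = n22712 := d15_1 D41633 (iv7 F64238) F64236
theorem F64247 : act 7 n41633 = n22595 := d15_2 (iv0 F34423) D41633 F35133
theorem F64248 : act 4 n41633 = n36542 := d17_9 (iv1 F57403) D38493 (iv1 F59340) F29554 (iv4 F34428) (iv5 F34430) (iv0 D19599) D19603 D41633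
theorem F64249 : act 2 n22591 = n41633 := d1_3 F64248 F57400 (iv4 F35131)
theorem F64250 : act 5 n22290 = n41633 := d19_1 (iv1 F34788) F64248 F57401 (iv1 F57357) F57359 (iv4 D18309) (iv3 F28017) F28019 (iv5 D8546) (iv4 F9669) (iv3 D6209) (iv1 D2609) D2611 D6215 (iv3 F20916) D26332 F41993 (iv4 F34762) F34761
theorem F64251 : act 5 n34555 = n36540 := d17_1 D34555 (iv1 D36540) D36542 (iv4 F64248) (iv5 F64250) F34788 D22597 (iv0 F54816) (iv4 D34558)
theorem F64252 : act 2 n21952 = n34555 := d2_3 F64251 F57392 F57399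
theorem F64253 : act 7 n21951 = n34555 := d13_0 F64251 F57389 F56066
theorem F64254 : act 2 n21951 = n34556 := d15_3 F54808 F54804 (iv7 F64253)
theorem F64255 : act 5 n34556 = n36539 := d2_2 F56066 F64254 (iv2 F57391)
theorem F64256 : act 7 n34556 = n21952 := d4_2 (iv7 F64253) F64254 F64252
def n41634 : Q := act 6 n19603
theorem D41634 : act 6 n19603 = n41634 := rfl
theorem F64257 : act 3 n41634 = n19605 := d7_1 D41634 (iv6 D19605) (iv3 F31375)
def n41635 : Q := act 0 n19604
theorem D41635 : act 0 n19604 = n41635 := rfl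
def n41636 : Q := act 1 n19604
theorem D41636 : act 1 n19604 = n41636 := rfl
def n41637 : Q := act 5 n19604
theorem D41637 : act 5 n19604 = n41637 := rfl
theorem F64258 : act 3 n41637 = n19608 := d6_1 D41637 (iv5 D19608) (iv3 F31377)
def n41638 : Q := act 7 n19604
theorem D41638 : act 7 n19604 = n41638 := rfl
theorem F64259 : act 3 n41638 = n19609 := d8_1 D41638 (iv7 D19609) (iv3 F31377)
def n41639 : Q := act 0 n19605
theorem D41639 : act 0 n19605 = n41639 := rfl
def n41640 : Q := act 1 n19605
theorem D41640 : act 1 n19605 = n41640 := rfl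
theorem F64260 : act 1 n41640 = n22725 := d15_1 D41640 (iv7 D22725) (iv2 F31378)
def n41641 : Q := act 5 n19605
theorem D41641 : act 5 n19605 = n41641 := rfl
theorem F64261 : act 2 n41641 = n22724 := d2_1 D41641 (iv5 D22724) (iv2 F31378)
theorem F64262 : act 6 n41641 = n19608 := d12_2 D19605 D41641 (iv5 D19608) (iv6 D9220) D9219
def n41642 : Q := act 7 n19605
theorem D41642 : act 7 n19605 = n41642 := rfl
theorem F64263 : act 2 n41642 = n22725 := d4_1 D41642 (iv7 D22725) (iv2 F31378)
theorem F64264 : act 6 n41642 = n22718 := d14_1 D41642 (iv7 D22718) (iv6 D10748) (iv7 F14404) D19605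
theorem F64265 : act 1 n22725 = n41639 := d15_0 (iv0 D41639) D41642 F64263
theorem F64266 : act 1 n22723 = n41642 := d15_1 D22723 (iv7 D41642) F31378
theorem F64267 : act 1 n41642 = n22722 := d15_0 (iv0 D22722) D22725 (iv2 F64263)
def n41643 : Q := act 0 n19608
theorem D41643 : act 0 n19608 = n41643 := rfl
def n41644 : Q := act 1 n19608
theorem D41644 : act 1 n19608 = n41644 := rfl
theorem F64268 : act 5 n22553 = n41644 := d21_6 (iv5 F17246) (iv1 F17249) (iv5 D4907) D4908 (iv1 F62718) D22553 (iv1 D41644) (iv5 D19608) (iv6 D9220) (iv1 F14240)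
def n41645 : Q := act 4 n19608
theorem D41645 : act 4 n19608 = n41645 := rfl
def n41646 : Q := act 7 n19608
theorem D41646 : act 7 n19608 = n41646 := rfl
theorem F64269 : act 5 n41646 = n19609 := d13_1 D41646 (iv7 D19609) D19608
def n41647 : Q := act 3 n19610
theorem D41647 : act 3 n19610 = n41647 := rfl
theorem F64270 : act 4 n41647 = n22068 := d20_6 F13999 (iv1 D9001) F7185 D9221 D19610 D41647 (iv1 D22068) F16710 (iv3 D4829) (iv1 F6883)
def n41648 : Q := act 6 n19610
theorem D41648 : act 6 n19610 = n41648 := rfl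
def n41649 : Q := act 3 n19611
theorem D41649 : act 3 n19611 = n41649 := rfl
theorem F64271 : act 5 n41649 = n37567 := d6_2 F35214 D41649 (iv3 F58452)
theorem F64272 : act 7 n41649 = n40368 := d8_2 F58823 D41649 F61453
theorem F64273 : act 0 n41649 = n37482 := d20_4 (iv4 F31379) F58827 F58825 D41649 F58371 F29202 (iv1 F29201) F16696 (iv3 F25169) (iv1 F30813)
theorem F64274 : act 0 n19620 = n41649 := d20_4 (iv4 D10158) (iv1 F12150) (iv4 F14413) D19620 (iv3 D41649) (iv4 F58825) (iv1 D37996) (iv4 F30601) (iv3 D19064) (iv1 F16003)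
def n41650 : Q := act 6 n19611
theorem D41650 : act 6 n19611 = n41650 := rfl
def n41651 : Q := act 6 n19612
theorem D41651 : act 6 n19612 = n41651 := rfl
theorem F64275 : act 2 n41651 = n19614 := d3_1 D41651 (iv6 D19614) D19612
theorem F64276 : act 4 n41651 = n40607 := d10_1 D41651 (iv6 D40607) (iv4 F31379)
def n41652 : Q := act 6 n19613
theorem D41652 : act 6 n19613 = n41652 := rfl
theorem F64277 : act 2 n41652 = n32478 := d3_1 D41652 (iv6 D32478) (iv2 F31381)
theorem F64278 : act 3 n41652 = n19615 := d7_1 D41652 (iv6 D19615) (iv3 F31382)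
theorem F64279 : act 4 n41652 = n26308 := d10_1 D41652 (iv6 D26308) (iv4 F31384)
def n41653 : Q := act 0 n19614
theorem D41653 : act 0 n19614 = n41653 := rfl
def n41654 : Q := act 1 n19614
theorem D41654 : act 1 n19614 = n41654 := rfl
def n41655 : Q := act 5 n19614
theorem D41655 : act 5 n19614 = n41655 := rfl
theorem F64280 : act 3 n41655 = n19618 := d6_1 D41655 (iv5 D19618) (iv3 F31385)
def n41656 : Q := act 7 n19614
theorem D41656 : act 7 n19614 = n41656 := rfl
theorem F64281 : act 3 n41656 = n19619 := d8_1 D41656 (iv7 D19619) (iv3 F31385)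
theorem F64282 : act 4 n41656 = n40612 := d11_1 D41656 (iv7 D40612) (iv4 F31386)
def n41657 : Q := act 0 n19615
theorem D41657 : act 0 n19615 = n41657 := rfl
def n41658 : Q := act 1 n19615
theorem D41658 : act 1 n19615 = n41658 := rfl
theorem F64283 : act 1 n41658 = n22718 := d15_1 D41658 (iv7 D22718) (iv2 F31387)
def n41659 : Q := act 5 n19615
theorem D41659 : act 5 n19615 = n41659 := rfl
theorem F64284 : act 2 n41659 = n22717 := d2_1 D41659 (iv5 D22717) (iv2 F31387)
theorem F64285 : act 6 n41659 = n19618 := d12_2 D19615 D41659 (iv5 D19618) (iv6 D9223) D9222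
def n41660 : Q := act 7 n19615
theorem D41660 : act 7 n19615 = n41660 := rfl
theorem F64286 : act 2 n41660 = n22718 := d4_1 D41660 (iv7 D22718) (iv2 F31387)
theorem F64287 : act 6 n41660 = n22725 := d14_1 D41660 (iv7 D22725) (iv6 D10750) (iv7 F14409) D19615
theorem F64288 : act 1 n22718 = n41657 := d15_0 (iv0 D41657) D41660 F64286
theorem F64289 : act 1 n22716 = n41660 := d15_1 D22716 (iv7 D41660) F31387
theorem F64290 : act 1 n41660 = n22715 := d15_0 (iv0 D22715) D22718 (iv2 F64286)
def n41671 : Q := act 0 n19618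
theorem D41671 : act 0 n19618 = n41671 := rfl
def n41672 : Q := act 1 n19618
theorem D41672 : act 1 n19618 = n41672 := rfl
theorem F64293 : act 5 n22622 = n41672 := d21_6 D4175 (iv1 F7319) (iv5 D4902) D4903 D10719 D22622 (iv1 D41672) (iv5 D19618) (iv6 D9223) (iv1 D4173)
def n41673 : Q := act 4 n19618
theorem D41673 : act 4 n19618 = n41673 := rfl
def n41674 : Q := act 7 n19618
theorem D41674 : act 7 n19618 = n41674 := rfl
theorem F64294 : act 5 n41674 = n19619 := d13_1 D41674 (iv7 D19619) D19618
def n41675 : Q := act 1 n19620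
theorem D41675 : act 1 n19620 = n41675 := rfl
def n41676 : Q := act 2 n19620
theorem D41676 : act 2 n19620 = n41676 := rfl
theorem F64295 : act 3 n41676 = n21899 := d0_2 D19620 D41676 (iv2 D21899) (iv3 D10445) F14414
theorem F64296 : act 4 n41676 = n19905 := d1_2 F32380 D41676 (iv2 F32383)
theorem F64297 : act 5 n41676 = n27235 := d2_2 (iv5 F31389) D41676 F44055
theorem F64298 : act 7 n41676 = n37482 := d4_2 (iv7 F31390) D41676 F58370
theorem F64299 : act 1 n41676 = n40368 := d15_0 (iv0 D40368) (iv7 F31390) D41676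
theorem F64300 : act 1 n41675 = n37482 := d15_1 D41675 (iv7 F64298) (iv2 D41676)
theorem F64301 : act 2 n40368 = n41675 := d15_3 F64300 (iv0 F64273) F64272
theorem F64302 : act 5 n41675 = n37566 := d2_2 F62312 F64301 (iv2 F62315)
theorem F64303 : act 7 n40369 = n41675 := d15_2 (iv0 D40368) D40369 (iv2 F64301)
theorem F64304 : act 2 n41649 = n40369 := d4_3 F64303 (iv2 F64301) (iv7 F64272)
theorem F64305 : act 5 n41074 = n40369 := d13_3 F64303 F64302 (iv7 F62317)
theorem F64306 : act 1 n40369 = n41676 := d17_8 (iv1 F32453) (iv5 F32455) D25553 (iv5 F40414) (iv4 D19332) D19333 D41074 F64305 F64296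
def n41677 : Q := act 6 n19620
theorem D41677 : act 6 n19620 = n41677 := rfl
theorem F64307 : act 3 n41677 = n19621 := d7_1 D41677 (iv6 D19621) D19620
def n41680 : Q := act 5 n19621
theorem D41680 : act 5 n19621 = n41680 := rfl
theorem F64309 : act 2 n41680 = n21905 := d2_1 D41680 (iv5 D21905) (iv2 F31391)
theorem F64310 : act 6 n41680 = n41131 := d12_2 D19621 D41680 (iv5 D41131) (iv6 D19351) F14417
def n41681 : Q := act 7 n19621
theorem D41681 : act 7 n19621 = n41681 := rfl
theorem F64311 : act 2 n41681 = n21906 := d4_1 D41681 (iv7 D21906) (iv2 F31391)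
theorem F64312 : act 4 n41681 = n21885 := d11_1 D41681 (iv7 D21885) (iv4 F31392)
theorem F64313 : act 6 n41681 = n21047 := d14_1 D41681 F62582 (iv6 D19079) (iv7 F14416) D19621
theorem F64316 : act 1 n41681 = n21903 := d15_0 (iv0 D21903) D21906 (iv2 F64311)
def n41682 : Q := act 0 n19622
theorem D41682 : act 0 n19622 = n41682 := rfl
theorem F64317 : act 4 n41682 = n19699 := d20_2 (iv4 F31394) D41682 (iv3 D19699) (iv1 F31138) F31135 (iv4 F63719) (iv1 F63721) (iv4 F61803) (iv3 F61804) (iv1 D19719)
theorem F64318 : act 6 n41682 = n41192 := d21_5 D9081 D19335 F30976 D19622 D41682 (iv5 D41192) (iv1 D19366) (iv5 D9092) (iv6 D4086) D4083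
theorem F64319 : act 0 n41682 = n19628 := d21_4 (iv5 F61960) (iv1 F61962) D41192 (iv6 F64318) F31402 (iv5 F61464) (iv1 F62376) (iv5 D41171) (iv6 D19361) (iv1 F30920)
theorem F64320 : act 2 n19625 = n41682 := d1_3 F64317 F63544 (iv4 F63712)
theorem F64321 : act 7 n19626 = n41682 := d11_0 F64317 F63543 F63426
def n41683 : Q := act 1 n19622
theorem D41683 : act 1 n19622 = n41683 := rfl
theorem F64322 : act 1 n41683 = n19628 := d15_1 D41683 (iv7 D19628) (iv2 F31393)
theorem F64323 : act 7 n41683 = n19625 := d15_2 (iv0 D41682) D41683 F64320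
theorem F64324 : act 4 n21894 = n41683 := d20_0 (iv1 D41683) F31394 F14453 D19718 F61503 (iv4 F63428) (iv1 F34033) F33503 (iv3 F33498) (iv1 F34375)
theorem F64325 : act 2 n41683 = n19626 := d1_1 F64324 (iv4 F63426) (iv2 F63553)
theorem F64326 : act 0 n22129 = n41489 := d20_4 (iv4 F64324) (iv1 D21894) (iv4 F30806) (iv3 F34599) (iv3 D41489) (iv4 D19533) (iv1 F14345) (iv4 F14430) (iv3 F31400) (iv1 F64322)
def n41684 : Q := act 5 n19622
theorem D41684 : act 5 n19622 = n41684 := rfl
theorem F64327 : act 2 n41684 = n19627 := d2_1 D41684 (iv5 D19627) (iv2 F31393)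
def n41685 : Q := act 7 n19622
theorem D41685 : act 7 n19622 = n41685 := rfl
theorem F64328 : act 2 n41685 = n19628 := d4_1 D41685 (iv7 D19628) (iv2 F31393)
theorem F64329 : act 4 n41685 = n19721 := d11_1 D41685 (iv7 D19721) (iv4 F31394)
theorem F64330 : act 6 n41685 = n40320 := d14_1 D41685 (iv7 D40320) (iv6 D19059) (iv7 F14419) D19622
theorem F64331 : act 1 n19626 = n41685 := d15_1 D19626 (iv7 D41685) F31393
theorem F64332 : act 1 n41685 = n19625 := d15_1 F64331 (iv7 F64323) F64325
def n41686 : Q := act 3 n19623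
theorem D41686 : act 3 n19623 = n41686 := rfl
theorem F64333 : act 4 n41686 = n19629 := d5_2 D19623 D41686 (iv3 D19629) (iv4 D9228) (iv3 F14422)
theorem F64334 : act 5 n41686 = n35272 := d6_2 (iv5 F31396) D41686 (iv3 D35272)
theorem F64335 : act 7 n41686 = n40375 := d8_2 (iv7 F31397) D41686 (iv3 D40375)
def n41687 : Q := act 6 n19623
theorem D41687 : act 6 n19623 = n41687 := rfl
theorem F64336 : act 2 n41687 = n35279 := d3_1 D41687 (iv6 D35279) (iv2 F31395)
theorem F64337 : act 4 n41687 = n19624 := d10_1 D41687 (iv6 D19624) D19623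
def n41688 : Q := act 0 n19624
theorem D41688 : act 0 n19624 = n41688 := rfl
def n41689 : Q := act 1 n19624
theorem D41689 : act 1 n19624 = n41689 := rfl
def n41690 : Q := act 5 n19624
theorem D41690 : act 5 n19624 = n41690 := rfl
theorem F64338 : act 3 n41690 = n19633 := d6_1 D41690 (iv5 D19633) (iv3 F31398)
theorem F64339 : act 6 n41690 = n19627 := d12_2 D19624 D41690 (iv5 D19627) (iv6 D9227) D9226
def n41691 : Q := act 7 n19624
theorem D41691 : act 7 n19624 = n41691 := rfl
theorem F64340 : act 3 n41691 = n19634 := d8_1 D41691 (iv7 D19634) (iv3 F31398)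
theorem F64341 : act 6 n41691 = n40380 := d14_1 D41691 (iv7 D40380) (iv6 D19081) (iv7 F14423) D19624
def n41692 : Q := act 3 n19625
theorem D41692 : act 3 n19625 = n41692 := rfl
def n41693 : Q := act 5 n19625
theorem D41693 : act 5 n19625 = n41693 := rfl
def n41694 : Q := act 6 n19625
theorem D41694 : act 6 n19625 = n41694 := rfl
theorem F64342 : act 2 n41694 = n41192 := d3_1 D41694 (iv6 F64318) (iv2 F64320)
theorem F64343 : act 5 n41694 = n40857 := d21_6 D10643 F17188 (iv5 D9226) D9227 D19625 D41694 (iv1 D40857) (iv5 D19257) (iv6 D9056) F7324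
theorem E7097 : n41189 = n40857 := ((c2_1 F64343 F62385 D41192 (iv2 F64342))).symm
theorem F64344 : act 2 n40857 = n19366 := (sb E7097 F62385)
theorem F64345 : act 7 n40857 = n19365 := (sb E7097 (iv7 D41189))
theorem F64346 : act 7 n41187 = n41694 := d13_0 F64343 F64345 D41187
theorem E7098 : n41184 = n40856 := (c15_4 (iv0 D40856) D40857 F64345 D41184)
theorem F64347 : act 2 n40856 = n19365 := (sb E7098 (iv2 D41184))
theorem F64348 : act 7 n40856 = n19366 := (sb E7098 (iv7 F62384))
def n41695 : Q := act 3 n19626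
theorem D41695 : act 3 n19626 = n41695 := rfl
def n41696 : Q := act 5 n19626
theorem D41696 : act 5 n19626 = n41696 := rfl
def n41697 : Q := act 6 n19626
theorem D41697 : act 6 n19626 = n41697 := rfl
def n41698 : Q := act 0 n19627
theorem D41698 : act 0 n19627 = n41698 := rfl
def n41699 : Q := act 1 n19627
theorem D41699 : act 1 n19627 = n41699 := rfl
def n41700 : Q := act 4 n19627
theorem D41700 : act 4 n19627 = n41700 := rfl
def n41701 : Q := act 7 n19627
theorem D41701 : act 7 n19627 = n41701 := rfl
theorem F64349 : act 3 n41701 = n19649 := d8_1 D41701 (iv7 D19649) (iv3 F31399)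
theorem F64350 : act 5 n41701 = n19628 := d13_1 D41701 (iv7 D19628) D19627
def n41702 : Q := act 0 n19629
theorem D41702 : act 0 n19629 = n41702 := rfl
def n41703 : Q := act 1 n19629
theorem D41703 : act 1 n19629 = n41703 := rfl
def n41704 : Q := act 2 n19629
theorem D41704 : act 2 n19629 = n41704 := rfl
theorem F64351 : act 3 n41704 = n38550 := d0_2 D19629 D41704 (iv2 F59376) F42859 F27538
def n41705 : Q := act 6 n19629
theorem D41705 : act 6 n19629 = n41705 := rfl
theorem F64352 : act 3 n41705 = n19630 := d7_1 D41705 (iv6 D19630) D19629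
def n41706 : Q := act 0 n19630
theorem D41706 : act 0 n19630 = n41706 := rfl
def n41707 : Q := act 1 n19630
theorem D41707 : act 1 n19630 = n41707 := rfl
def n41708 : Q := act 5 n19630
theorem D41708 : act 5 n19630 = n41708 := rfl
def n41709 : Q := act 7 n19630
theorem D41709 : act 7 n19630 = n41709 := rfl
theorem F64353 : act 4 n41709 = n19634 := d11_1 D41709 (iv7 D19634) (iv4 F31403)
def n41710 : Q := act 2 n19631
theorem D41710 : act 2 n19631 = n41710 := rfl
theorem F64354 : act 7 n19632 = n41710 := d15_2 (iv0 D19631) D19632 (iv2 D41710)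
def n41711 : Q := act 3 n19631
theorem D41711 : act 3 n19631 = n41711 := rfl
def n41712 : Q := act 4 n19631
theorem D41712 : act 4 n19631 = n41712 := rfl
def n41713 : Q := act 5 n19631
theorem D41713 : act 5 n19631 = n41713 := rfl
def n41714 : Q := act 6 n19631
theorem D41714 : act 6 n19631 = n41714 := rfl
def n41715 : Q := act 7 n19631
theorem D41715 : act 7 n19631 = n41715 := rfl
theorem F64355 : act 2 n41715 = n19632 := d4_1 D41715 F64354 (iv2 D41710)
def n41716 : Q := act 3 n19632
theorem D41716 : act 3 n19632 = n41716 := rfl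
def n41717 : Q := act 4 n19632
theorem D41717 : act 4 n19632 = n41717 := rfl
def n41718 : Q := act 5 n19632
theorem D41718 : act 5 n19632 = n41718 := rfl
def n41719 : Q := act 6 n19632
theorem D41719 : act 6 n19632 = n41719 := rfl
def n41720 : Q := act 0 n19633
theorem D41720 : act 0 n19633 = n41720 := rfl
def n41721 : Q := act 1 n19633
theorem D41721 : act 1 n19633 = n41721 := rfl
def n41722 : Q := act 4 n19633
theorem D41722 : act 4 n19633 = n41722 := rfl
theorem F64356 : act 6 n41722 = n19648 := d10_2 (iv6 F31404) D41722 (iv4 D19648)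
def n41723 : Q := act 7 n19633
theorem D41723 : act 7 n19633 = n41723 := rfl
theorem F64357 : act 5 n41723 = n19634 := d13_1 D41723 (iv7 D19634) D19633
def n41724 : Q := act 6 n19634
theorem D41724 : act 6 n19634 = n41724 := rfl
theorem F64358 : act 3 n41724 = n40380 := d7_1 D41724 (iv6 F64341) F64340
theorem F64359 : act 7 n41724 = n19635 := d14_2 D19634 D41724 (iv6 D19635) (iv7 D9230) D9229
def n41725 : Q := act 0 n19635
theorem D41725 : act 0 n19635 = n41725 := rfl
def n41726 : Q := act 1 n19635
theorem D41726 : act 1 n19635 = n41726 := rfl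
def n41727 : Q := act 5 n19635
theorem D41727 : act 5 n19635 = n41727 := rfl
theorem F64360 : act 3 n41727 = n40379 := d6_1 D41727 (iv5 D40379) (iv3 F31405)
theorem F64361 : act 6 n41727 = n19653 := d12_2 D19635 D41727 (iv5 D19653) (iv6 D9235) (iv5 F14429)
def n41728 : Q := act 0 n19637
theorem D41728 : act 0 n19637 = n41728 := rfl
def n41729 : Q := act 1 n19637
theorem D41729 : act 1 n19637 = n41729 := rfl
def n41730 : Q := act 2 n19637
theorem D41730 : act 2 n19637 = n41730 := rfl
def n41731 : Q := act 4 n19637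
theorem D41731 : act 4 n19637 = n41731 := rfl
def n41732 : Q := act 5 n19637
theorem D41732 : act 5 n19637 = n41732 := rfl
theorem F64362 : act 3 n41732 = n19639 := d6_1 D41732 (iv5 D19639) D19637
def n41733 : Q := act 6 n19637
theorem D41733 : act 6 n19637 = n41733 := rfl
theorem F64363 : act 3 n41733 = n19640 := d7_1 D41733 (iv6 D19640) D19637
def n41734 : Q := act 3 n19638
theorem D41734 : act 3 n19638 = n41734 := rfl
theorem F64364 : act 2 n41734 = n20382 := d0_1 D41734 F63437 (iv2 F63444) D19087 (iv2 F63484)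
theorem F64365 : act 7 n41734 = n20383 := d8_2 (iv7 F63485) D41734 (iv3 F58694)
theorem F64366 : act 0 n41734 = n20384 := d20_4 (iv4 F6072) D9231 D19638 D41734 F32363 (iv4 F32411) (iv1 F35823) (iv4 D19686) (iv3 D9242) (iv1 D4179)
theorem F64367 : act 4 n41734 = n21643 := d20_6 D19686 F35822 F14602 (iv3 F14593) (iv1 F35826) D41734 (iv1 F63224) (iv4 D19760) (iv3 F35867) (iv1 D19684)
theorem F64368 : act 3 n41731 = n21643 := d5_5 (iv4 F64367) (iv3 D41734) (iv4 D19638) D19637 D41731
theorem F64369 : act 0 n20381 = n41734 := d20_4 D9243 (iv1 F35660) F31297 (iv3 F32360) (iv3 D41734) (iv4 D19638) (iv1 F31269) F31265 F14343 (iv1 F14346)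
def n41735 : Q := act 5 n19638
theorem D41735 : act 5 n19638 = n41735 := rfl
theorem F64370 : act 2 n41735 = n40401 := d2_1 D41735 (iv5 D40401) (iv2 F63484)
theorem F64371 : act 4 n41735 = n22787 := d17_4 F35828 (iv5 F17013) (iv1 F35826) D41735 (iv5 D22787) (iv0 D10768) (iv5 D4920) D4919 D10765
def n41736 : Q := act 6 n19638
theorem D41736 : act 6 n19638 = n41736 := rfl
theorem F64372 : act 2 n41736 = n40402 := d3_1 D41736 (iv6 D40402) (iv2 F63484)
theorem F64373 : act 4 n41736 = n19640 := d10_1 D41736 (iv6 D19640) D19638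
def n41737 : Q := act 0 n19639
theorem D41737 : act 0 n19639 = n41737 := rfl
theorem F64374 : act 5 n41737 = n22571 := d17_3 D9231 D19639 D41737 F35110 (iv5 F31433) (iv0 D19673) (iv5 D9239) (iv0 D4178) (iv4 F6072)
theorem F64375 : act 1 n19644 = n41737 := d15_0 (iv0 D41737) (iv7 F63935) F63934
def n41738 : Q := act 1 n19639
theorem D41738 : act 1 n19639 = n41738 := rfl
theorem F64376 : act 1 n41738 = n19644 := d15_1 D41738 (iv7 F63929) F63928
theorem F64377 : act 5 n22768 = n41738 := d17_5 (iv1 F14346) D9244 F62655 (iv5 F62656) (iv4 F35333) F64376 (iv5 D19644) F31267 F31265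
theorem F64378 : act 1 n41735 = n20984 := d17_6 (iv1 F62394) F64377 (iv1 D41738) (iv5 D19639) D19638 D41735 F63009 (iv0 D41200) D41202
def n41739 : Q := act 4 n19639
theorem D41739 : act 4 n19639 = n41739 := rfl
theorem F64379 : act 5 n22791 = n41739 := d16_1 D22791 (iv4 D41739) (iv5 D19639) D19638 D41735 F64371 (iv5 D22787) D22789 F35345
def n41740 : Q := act 6 n19639
theorem D41740 : act 6 n19639 = n41740 := rfl
def n41741 : Q := act 0 n19640
theorem D41741 : act 0 n19640 = n41741 := rfl
def n41742 : Q := act 1 n19640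
theorem D41742 : act 1 n19640 = n41742 := rfl
def n41743 : Q := act 5 n19640
theorem D41743 : act 5 n19640 = n41743 := rfl
theorem F64380 : act 2 n41743 = n22812 := d2_1 D41743 (iv5 F63932) F63930
theorem F64381 : act 0 n41743 = n21860 := d21_7 D4907 F7327 (iv5 D4175) D4176 D9231 D19640 D41743 (iv5 D21860) (iv6 D10428) (iv1 F6815)
theorem F64382 : act 4 n41742 = n19679 := d17_9 (iv1 D19679) D19680 F31439 (iv5 D10431) (iv4 F16600) D21860 (iv0 F64381) (iv5 D41743) D41742
theorem F64383 : act 0 n22800 = n41743 := d21_7 (iv5 F63946) (iv1 F63947) (iv5 F34829) (iv6 D22325) (iv1 F17175) D10772 D22800 (iv5 D41743) (iv6 D19640) (iv1 F31269)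
theorem F64384 : act 7 n22055 = n41742 := d11_0 F64382 F35118 (iv4 F34527)
theorem E7099 : n41741 = n41623 := ((c15_4 (iv0 D41741) D41742 (iv7 F64384) (iv2 F64232))).symm
theorem F64385 : act 1 n41623 = n19640 := (sb E7099 (iv0 D41741))
def n41744 : Q := act 7 n19640
theorem D41744 : act 7 n19640 = n41744 := rfl
def n41745 : Q := act 0 n19642
theorem D41745 : act 0 n19642 = n41745 := rfl
def n41746 : Q := act 1 n19642
theorem D41746 : act 1 n19642 = n41746 := rfl
def n41747 : Q := act 2 n19642
theorem D41747 : act 2 n19642 = n41747 := rfl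
def n41748 : Q := act 4 n19642
theorem D41748 : act 4 n19642 = n41748 := rfl
theorem F64386 : act 3 n41748 = n40326 := d5_1 D41748 (iv4 D40326) F31408 (iv4 D19643) D19642
theorem F64387 : act 7 n41748 = n40406 := d11_2 F63927 D41748 (iv4 F63926)
def n41749 : Q := act 5 n19642
theorem D41749 : act 5 n19642 = n41749 := rfl
theorem F64388 : act 3 n41749 = n19644 := d6_1 D41749 (iv5 D19644) D19642
def n41750 : Q := act 6 n19642
theorem D41750 : act 6 n19642 = n41750 := rfl
theorem F64389 : act 3 n41750 = n19645 := d7_1 D41750 (iv6 D19645) D19642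
def n41751 : Q := act 5 n19643
theorem D41751 : act 5 n19643 = n41751 := rfl
theorem F64390 : act 3 n41751 = n19726 := d6_1 D41751 F31488 F31408
theorem F64391 : act 7 n41751 = n40401 := d13_2 (iv7 F63454) D41751 (iv5 D40401)
theorem F64392 : act 4 n41751 = n22792 := d16_2 D19643 D41751 (iv5 D22792) D22791 F64379 (iv4 D41739) (iv5 D19639) (iv7 F63487) F63486
theorem F64393 : act 0 n41751 = n20984 := d18_0 (iv4 F63027) (iv1 F63997) (iv4 D41492) (iv5 D19534) D19533 F63435 F16693 (iv0 F58698) D41751
theorem F64394 : act 6 n41751 = n19723 := d21_3 (iv5 F58696) (iv1 F58699) D41751 F63480 F32431 (iv5 F35621) (iv1 F34835) F35323 (iv6 D22762) D22758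
theorem F64395 : act 0 n22792 = n21825 := d20_7 D9293 F16079 F15399 (iv3 F32825) F62476 (iv3 F64390) F64392 F34283 F16575 F14858
def n41752 : Q := act 6 n19643
theorem D41752 : act 6 n19643 = n41752 := rfl
theorem F64396 : act 3 n41752 = n21055 := d7_1 D41752 F62525 F31408
theorem F64397 : act 4 n41752 = n19645 := d10_1 D41752 (iv6 D19645) D19643
def n41753 : Q := act 4 n19644
theorem D41753 : act 4 n19644 = n41753 := rfl
theorem F64398 : act 5 n41753 = n22786 := d9_2 D19644 D41753 (iv4 D22786) D22787 (iv4 F64371) (iv5 D41735) (iv4 D19638) D19639 D41739 (iv5 F64379) (iv4 D22791) D22792 (iv4 F64392) (iv5 D41751) (iv4 D19643)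
def n41754 : Q := act 6 n19644
theorem D41754 : act 6 n19644 = n41754 := rfl
def n41755 : Q := act 0 n19645
theorem D41755 : act 0 n19645 = n41755 := rfl
theorem F64399 : act 4 n41755 = n19693 := d20_8 (iv4 F16051) F14486 F14802 (iv3 F15825) D21055 (iv3 F64396) F64397 D41755 F62648 F16049
theorem F64400 : act 7 n21798 = n41755 := d11_0 F64399 F62649 (iv4 F34251)
def n41756 : Q := act 1 n19645
theorem D41756 : act 1 n19645 = n41756 := rfl
def n41757 : Q := act 5 n19645
theorem D41757 : act 5 n19645 = n41757 := rfl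
theorem F64401 : act 0 n22621 = n41757 := d21_1 D22621 (iv5 D41757) (iv6 D19645) (iv1 D9232) (iv6 D4176) D4175 (iv1 F7319) (iv5 D4902) D4903 D10719
def n41758 : Q := act 7 n19645
theorem D41758 : act 7 n19645 = n41758 := rfl
def n41759 : Q := act 3 n19646
theorem D41759 : act 3 n19646 = n41759 := rfl
def n41760 : Q := act 4 n19646
theorem D41760 : act 4 n19646 = n41760 := rfl
theorem F64402 : act 5 n41760 = n22778 := d16_1 D41760 (iv4 D22778) (iv5 D10766) D10765 F31005 (iv4 F34828) F34829 (iv7 F63939) (iv2 F63938)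
def n41761 : Q := act 6 n19646
theorem D41761 : act 6 n19646 = n41761 := rfl
def n41762 : Q := act 3 n19647
theorem D41762 : act 3 n19647 = n41762 := rfl
def n41763 : Q := act 4 n19647
theorem D41763 : act 4 n19647 = n41763 := rfl
theorem F64403 : act 5 n41763 = n22765 := d9_2 F34829 D41763 (iv4 D22765) (iv5 D10761) D10760 D22761 (iv4 F35337) F58700 D41760 F64402 (iv4 D22778) (iv5 D10766) D10765 F31005 (iv4 F34828)
def n41764 : Q := act 6 n19647
theorem D41764 : act 6 n19647 = n41764 := rfl
def n41765 : Q := act 0 n19648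
theorem D41765 : act 0 n19648 = n41765 := rfl
theorem F64404 : act 4 n41765 = n22860 := d18_3 (iv1 D19647) D19648 D41765 (iv5 D22860) (iv4 D10797) D10796 D22855 F35436 F34829
theorem F64405 : act 5 n22885 = n41765 := d16_1 D22885 F64404 (iv5 D22860) (iv4 D10797) (iv5 D4926) D4925 D10792 (iv7 F34887) F34886
theorem F64406 : act 1 n22797 = n41765 := d18_6 F35659 (iv4 D9238) (iv1 F14347) (iv4 F31265) (iv5 F63946) F63945 F64404 (iv0 F64061) (iv5 D41523)
def n41766 : Q := act 1 n19648
theorem D41766 : act 1 n19648 = n41766 := rfl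
theorem F64407 : act 1 n41766 = n22797 := d15_1 D41766 F63943 F63941
theorem F64408 : act 4 n22892 = n41766 := d18_5 (iv1 F35425) (iv4 D22852) (iv1 F17323) D10813 D22892 F64407 (iv4 F63945) F63948 (iv5 F58700)
theorem F64409 : act 5 n41766 = n22845 := d9_2 D22892 F64408 (iv4 D22845) (iv5 D10792) (iv4 D4925) D4926 D10797 D22860 (iv4 F64404) (iv5 F64405) (iv4 D22885) (iv5 D10811) (iv4 D4930) D4931 D10813
def n41767 : Q := act 3 n19648
theorem D41767 : act 3 n19648 = n41767 := rfl
def n41768 : Q := act 5 n19648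
theorem D41768 : act 5 n19648 = n41768 := rfl
theorem F64410 : act 2 n41768 = n22798 := d2_1 D41768 (iv5 F63942) F63941
theorem F64411 : act 4 n41768 = n22333 := d9_1 D41768 F34843 F17174 (iv5 F14344) (iv4 F31265) (iv5 F63946) F63945 (iv5 D22797) (iv4 D10770) (iv5 D4920) F3318 (iv5 F3037) (iv4 F6072) D9233 D19648
theorem F64412 : act 7 n41768 = n22332 := d16_8 (iv4 D10770) (iv5 D4920) F3318 (iv5 F3037) (iv4 F6072) D9233 D19648 D41768 F34841
theorem F64413 : act 1 n22795 = n41768 := d15_1 D22795 F64412 F34841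
theorem F64414 : act 1 n41768 = n22794 := d15_0 (iv0 D22794) D22798 (iv2 F64410)
def n41769 : Q := act 7 n19648
theorem D41769 : act 7 n19648 = n41769 := rfl
theorem F64415 : act 2 n41769 = n22797 := d4_1 D41769 F63943 F63941
theorem F64416 : act 4 n41769 = n19649 := d11_1 D41769 (iv7 D19649) D19648
theorem F64417 : act 5 n41769 = n22332 := d13_1 D41769 (iv7 F64412) (iv5 D41768)
def n41770 : Q := act 6 n19649
theorem D41770 : act 6 n19649 = n41770 := rfl
def n41771 : Q := act 5 n19650
theorem D41771 : act 5 n19650 = n41771 := rfl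
theorem F64418 : act 3 n41771 = n40393 := d6_1 D41771 F61464 (iv3 F31410)
theorem F64419 : act 7 n41771 = n19653 := d13_2 (iv7 F31412) D41771 (iv5 D19653)
def n41772 : Q := act 3 n19651
theorem D41772 : act 3 n19651 = n41772 := rfl
def n41773 : Q := act 5 n19651
theorem D41773 : act 5 n19651 = n41773 := rfl
def n41774 : Q := act 6 n19651
theorem D41774 : act 6 n19651 = n41774 := rfl
theorem F64420 : act 2 n41774 = n22792 := d3_1 D41774 (iv6 F63692) F63696
theorem F64421 : act 5 n41774 = n22331 := d21_6 D10618 F17152 F14429 D9235 D19651 D41774 (iv1 D22331) (iv5 D10631) (iv6 D4863) D4859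
theorem E7100 : n22789 = n22331 := ((c2_1 F64421 F35345 D22792 (iv2 F64420))).symm
theorem F64422 : act 2 n22331 = n10769 := (sb E7100 F35345)
theorem F64423 : act 7 n22331 = n10768 := (sb E7100 (iv7 D22789))
theorem F64424 : act 7 n22787 = n41774 := d13_0 F64421 F64423 D22787
theorem E7101 : n22784 = n22330 := (c15_4 (iv0 D22330) D22331 F64423 D22784)
theorem F64425 : act 2 n22330 = n10768 := (sb E7101 (iv2 D22784))
theorem F64426 : act 7 n22330 = n10769 := (sb E7101 (iv7 F35344))
def n41775 : Q := act 3 n19652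
theorem D41775 : act 3 n19652 = n41775 := rfl
def n41776 : Q := act 5 n19652
theorem D41776 : act 5 n19652 = n41776 := rfl
def n41777 : Q := act 6 n19652
theorem D41777 : act 6 n19652 = n41777 := rfl
def n41778 : Q := act 0 n19653
theorem D41778 : act 0 n19653 = n41778 := rfl
def n41779 : Q := act 1 n19653
theorem D41779 : act 1 n19653 = n41779 := rfl
def n41780 : Q := act 4 n19653
theorem D41780 : act 4 n19653 = n41780 := rfl
def n41781 : Q := act 5 n19662
theorem D41781 : act 5 n19662 = n41781 := rfl
theorem F64427 : act 2 n41781 = n19664 := d2_1 D41781 (iv5 D19664) D19662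
theorem F64428 : act 4 n41781 = n41187 := d17_4 F63109 (iv5 F16969) (iv1 F63497) D41781 (iv5 D41187) (iv0 D19365) (iv5 D9092) D9091 (iv4 F17181)
def n41782 : Q := act 6 n19662
theorem D41782 : act 6 n19662 = n41782 := rfl
theorem F64429 : act 2 n41782 = n19665 := d3_1 D41782 (iv6 D19665) D19662
theorem F64430 : act 4 n41782 = n40385 := d10_1 D41782 (iv6 D40385) (iv4 F63499)
def n41783 : Q := act 3 n19663
theorem D41783 : act 3 n19663 = n41783 := rfl
theorem F64431 : act 4 n41783 = n19669 := d5_2 D19663 D41783 (iv3 D19669) (iv4 D9238) D9237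
theorem F64432 : act 7 n41783 = n40387 := d8_2 (iv7 F63501) D41783 (iv3 D40387)
def n41784 : Q := act 5 n19663
theorem D41784 : act 5 n19663 = n41784 := rfl
theorem F64433 : act 2 n41784 = n40384 := d2_1 D41784 (iv5 D40384) (iv2 F63500)
theorem F64434 : act 7 n41784 = n40388 := d13_2 (iv7 F63501) D41784 (iv5 D40388)
def n41785 : Q := act 6 n19663
theorem D41785 : act 6 n19663 = n41785 := rfl
theorem F64435 : act 2 n41785 = n40385 := d3_1 D41785 (iv6 D40385) (iv2 F63500)
theorem F64436 : act 4 n41785 = n19665 := d10_1 D41785 (iv6 D19665) D19663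
theorem F64437 : act 5 n41785 = n22708 := d21_6 D10736 (iv1 F30587) (iv5 D19058) D19059 F31424 D41785 (iv1 D22708) (iv5 D10745) (iv6 D4912) D4909
def n41786 : Q := act 0 n19664
theorem D41786 : act 0 n19664 = n41786 := rfl
theorem F64438 : act 5 n41786 = n22828 := d21_2 D19664 D41786 F63231 (iv1 F62735) (iv6 D21463) F16196 (iv1 F13976) D9151 D19478 F63105
theorem F64439 : act 3 n19809 = n41786 := d6_3 F64438 F63230 (iv5 F63242)
theorem F64440 : act 7 n21731 = n41786 := d13_0 F64438 (iv7 F63333) F63430
def n41787 : Q := act 1 n19664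
theorem D41787 : act 1 n19664 = n41787 := rfl
def n41788 : Q := act 4 n19664
theorem D41788 : act 4 n19664 = n41788 := rfl
theorem F64441 : act 2 n41788 = n41187 := d1_1 D41788 (iv4 F64428) F64427
theorem F64442 : act 7 n41788 = n41192 := d11_2 F63981 D41788 (iv4 F63982)
theorem F64443 : act 5 n41788 = n40856 := d17_5 (iv1 D21881) (iv5 F31155) F63105 D19664 D41788 (iv0 D40856) (iv5 D19257) D19256 (iv4 F63102)
theorem F64444 : act 1 n41788 = n40809 := d18_6 (iv1 D19061) (iv4 F30589) F31424 (iv4 D19663) D19664 D41788 F61898 (iv0 F62443) F31488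
theorem F64445 : act 1 n40809 = n41694 := d15_1 F64444 (iv7 F64346) (iv2 F64441)
def n41789 : Q := act 6 n19664
theorem D41789 : act 6 n19664 = n41789 := rfl
theorem F64446 : act 3 n41789 = n19676 := d7_1 D41789 (iv6 D19676) (iv3 F31425)
def n41790 : Q := act 0 n19665
theorem D41790 : act 0 n19665 = n41790 := rfl
def n41791 : Q := act 1 n19665
theorem D41791 : act 1 n19665 = n41791 := rfl
def n41792 : Q := act 5 n19665
theorem D41792 : act 5 n19665 = n41792 := rfl
theorem F64447 : act 3 n41792 = n19680 := d6_1 D41792 (iv5 D19680) (iv3 F31426)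
theorem F64448 : act 0 n41792 = n21466 := d21_7 F16196 (iv1 F13976) D9151 D19478 F63105 D19665 D41792 (iv5 D21466) (iv6 D10243) D10242
theorem F64449 : act 7 n22935 = n41792 := d8_0 F64447 F63522 D22935
theorem F64450 : act 4 n41792 = n23430 := d20_6 D11009 (iv1 F17952) (iv4 D11078) (iv3 F17368) F31440 (iv3 F64447) (iv1 D23430) (iv4 D10989) F7424 D5015
def n41793 : Q := act 7 n19665
theorem D41793 : act 7 n19665 = n41793 := rfl
theorem F64451 : act 3 n41793 = n19681 := d8_1 D41793 (iv7 D19681) (iv3 F31426)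
theorem F64452 : act 5 n41793 = n22935 := d13_1 D41793 F64449 (iv5 D41792)
def n41794 : Q := act 3 n19667
theorem D41794 : act 3 n19667 = n41794 := rfl
theorem F64453 : act 7 n41794 = n21978 := d8_2 (iv7 F35658) D41794 F34479
def n41795 : Q := act 5 n19667
theorem D41795 : act 5 n19667 = n41795 := rfl
theorem F64454 : act 7 n41795 = n21982 := d13_2 (iv7 F35658) D41795 (iv5 D21982)
theorem F64455 : act 0 n41795 = n22892 := d17_2 D19667 D41795 (iv5 D22892) (iv4 D10813) (iv5 D4931) F7037 (iv5 F14344) F14347 D9238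
theorem F64456 : act 1 n41795 = n22860 := d17_6 (iv1 D41201) (iv5 D19378) D19375 F35621 (iv4 F35657) D41795 (iv5 D22860) D22858 F62390
def n41796 : Q := act 0 n19669
theorem D41796 : act 0 n19669 = n41796 := rfl
def n41797 : Q := act 1 n19669
theorem D41797 : act 1 n19669 = n41797 := rfl
def n41798 : Q := act 2 n19669
theorem D41798 : act 2 n19669 = n41798 := rfl
def n41799 : Q := act 5 n19669
theorem D41799 : act 5 n19669 = n41799 := rfl
theorem F64457 : act 3 n41799 = n19670 := d6_1 D41799 (iv5 D19670) D19669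
def n41800 : Q := act 6 n19669
theorem D41800 : act 6 n19669 = n41800 := rfl
theorem F64458 : act 3 n41800 = n19671 := d7_1 D41800 (iv6 D19671) D19669
def n41801 : Q := act 0 n19670
theorem D41801 : act 0 n19670 = n41801 := rfl
theorem F64459 : act 5 n41801 = n22531 := d21_2 D19670 D41801 (iv6 D22531) (iv1 D10693) (iv6 D4894) D4893 (iv1 F17210) F17212 D19551 F35659
theorem F64460 : act 1 n19690 = n41801 := d15_0 (iv0 D41801) (iv7 F63990) F63989
def n41802 : Q := act 1 n19670
theorem D41802 : act 1 n19670 = n41802 := rfl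
theorem F64461 : act 1 n41802 = n19690 := d15_1 D41802 (iv7 F63961) F63960
theorem F64462 : act 5 n41802 = n22848 := d17_7 (iv1 F17326) F62656 (iv1 F62654) (iv5 D9239) D9238 D19670 D41802 F35415 (iv4 D22343)
def n41803 : Q := act 4 n19670
theorem D41803 : act 4 n19670 = n41803 := rfl
theorem F64463 : act 5 n41803 = n22795 := d17_5 (iv1 F64062) (iv5 D41523) F35659 D19670 D41803 F64413 (iv5 D41768) D41766 (iv4 F64408)
def n41804 : Q := act 6 n19670
theorem D41804 : act 6 n19670 = n41804 := rfl
def n41805 : Q := act 0 n19671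
theorem D41805 : act 0 n19671 = n41805 := rfl
def n41806 : Q := act 1 n19671
theorem D41806 : act 1 n19671 = n41806 := rfl
def n41807 : Q := act 5 n19671
theorem D41807 : act 5 n19671 = n41807 := rfl
theorem F64464 : act 0 n41807 = n22383 := d21_7 D4893 (iv1 F17210) F17212 D19551 F35659 D19671 D41807 (iv5 D22383) (iv6 D10650) (iv1 F7094)
def n41808 : Q := act 7 n19671
theorem D41808 : act 7 n19671 = n41808 := rfl
theorem F64465 : act 4 n41808 = n19681 := d11_1 D41808 (iv7 D19681) (iv4 F31429)
def n41809 : Q := act 4 n19673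
theorem D41809 : act 4 n19673 = n41809 := rfl
theorem F64466 : act 7 n41809 = n22193 := d11_2 (iv7 F35009) D41809 F34636
theorem F64467 : act 0 n41809 = n22792 := d17_0 (iv5 D22792) (iv1 D10769) (iv5 D4920) F3318 (iv5 F3037) D4179 D9244 F31438 D41809
theorem F64468 : act 1 n41809 = n22787 := d18_6 (iv1 F62388) F35322 (iv1 F35555) F35110 (iv5 F31433) D41809 (iv4 F64371) F64378 F63009
def n41810 : Q := act 0 n19675
theorem D41810 : act 0 n19675 = n41810 := rfl
theorem F64469 : act 1 n19692 = n41810 := d15_0 (iv0 D41810) (iv7 F63995) F63993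
theorem F64470 : act 7 n41810 = n22152 := d15_2 (iv0 F64096) F64469 (iv2 F64094)
def n41811 : Q := act 3 n19675
theorem D41811 : act 3 n19675 = n41811 := rfl
def n41812 : Q := act 5 n19675
theorem D41812 : act 5 n19675 = n41812 := rfl
theorem F64471 : act 1 n41812 = n22390 := d17_6 (iv1 D2029) (iv5 F3037) D4178 D9239 D19675 D41812 (iv5 D22390) (iv0 F35584) (iv4 D4930)
theorem F64472 : act 4 n41812 = n22794 := d18_5 F64395 F34283 (iv1 F62654) D19675 D41812 (iv0 D22794) (iv4 D10770) D10769 D22792
theorem F64473 : act 1 n22832 = n41812 := d17_8 (iv1 F64414) (iv5 D41768) D41765 (iv5 F64405) (iv4 D22885) (iv5 D10811) F17316 D22832 F64472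
theorem F64474 : act 0 n38010 = n40401 := d17_0 (iv5 D40401) (iv1 F35656) (iv5 F35621) F34854 D22832 F64473 (iv5 D41812) F64097 F64095
def n41813 : Q := act 6 n19675
theorem D41813 : act 6 n19675 = n41813 := rfl
theorem F64475 : act 4 n41813 = n19676 := d10_1 D41813 (iv6 D19676) D19675
theorem F64476 : act 0 n41813 = n22012 := d21_4 D22390 (iv1 F64471) (iv5 D41812) D41813 (iv6 D22012) D22011 (iv1 F35582) (iv5 D22889) (iv6 D10812) F35584
def n41814 : Q := act 3 n19679
theorem D41814 : act 3 n19679 = n41814 := rfl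
theorem F64477 : act 7 n41814 = n22052 := d8_2 (iv7 F35118) D41814 F34526
def n41815 : Q := act 4 n19680
theorem D41815 : act 4 n19680 = n41815 := rfl
theorem F64478 : act 2 n41815 = n22940 := d1_1 D41815 (iv4 D22940) (iv2 F63521)
theorem F64479 : act 7 n41815 = n22936 := d11_2 (iv7 F63522) D41815 (iv4 D22936)
def n41816 : Q := act 5 n19685
theorem D41816 : act 5 n19685 = n41816 := rfl
theorem F64480 : act 2 n41816 = n19687 := d2_1 D41816 (iv5 D19687) D19685
theorem F64481 : act 0 n41816 = n22086 := d18_0 F62871 F63350 (iv4 D40435) (iv5 D19105) D19104 F63210 F15687 (iv0 F63530) D41816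
theorem F64482 : act 6 n41816 = n19860 := d21_3 F33041 (iv1 F63531) D41816 (iv1 F32446) (iv6 F63167) F35825 (iv1 D10805) D10808 (iv6 F17332) F63129
def n41817 : Q := act 6 n19685
theorem D41817 : act 6 n19685 = n41817 := rfl
theorem F64483 : act 2 n41817 = n19688 := d3_1 D41817 (iv6 D19688) D19685
def n41818 : Q := act 3 n19686
theorem D41818 : act 3 n19686 = n41818 := rfl
theorem F64484 : act 4 n41818 = n19689 := d5_2 D19686 D41818 (iv3 D19689) (iv4 D9243) D9242
def n41819 : Q := act 5 n19686
theorem D41819 : act 5 n19686 = n41819 := rfl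
def n41820 : Q := act 6 n19686
theorem D41820 : act 6 n19686 = n41820 := rfl
theorem F64485 : act 4 n41820 = n19688 := d10_1 D41820 (iv6 D19688) D19686
theorem F64486 : act 0 n20968 = n41820 := d20_1 (iv4 F33146) F64485 F31443 D19693 F62648 (iv4 F15404) (iv1 F15549) (iv4 F15838) (iv3 F35712) (iv1 D20976)
def n41821 : Q := act 0 n19687
theorem D41821 : act 0 n19687 = n41821 := rfl
def n41822 : Q := act 1 n19687
theorem D41822 : act 1 n19687 = n41822 := rfl
def n41823 : Q := act 4 n19687
theorem D41823 : act 4 n19687 = n41823 := rfl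
theorem F64487 : act 6 n41823 = n19873 := d10_2 (iv6 F63477) D41823 (iv4 F63475)
theorem F64488 : act 0 n41823 = n20987 := d20_7 F64371 (iv1 F64468) (iv4 D41809) F62218 (iv1 F31438) (iv3 F31442) D41823 F33160 (iv3 F33159) (iv1 F64378)
def n41824 : Q := act 0 n19688
theorem D41824 : act 0 n19688 = n41824 := rfl
def n41825 : Q := act 1 n19688
theorem D41825 : act 1 n19688 = n41825 := rfl
def n41826 : Q := act 5 n19688
theorem D41826 : act 5 n19688 = n41826 := rfl
theorem F64489 : act 3 n41826 = n19695 := d6_1 D41826 (iv5 D19695) (iv3 F31443)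
def n41827 : Q := act 7 n19688
theorem D41827 : act 7 n19688 = n41827 := rfl
theorem F64490 : act 3 n41827 = n19696 := d8_1 D41827 (iv7 D19696) (iv3 F31443)
def n41828 : Q := act 0 n19689
theorem D41828 : act 0 n19689 = n41828 := rfl
def n41829 : Q := act 1 n19689
theorem D41829 : act 1 n19689 = n41829 := rfl
theorem F64491 : act 3 n40603 = n41829 := d20_3 F63712 (iv1 F34383) (iv4 F61717) (iv1 D41829) (iv3 D19689) (iv4 D9243) (iv1 D4179) (iv4 F6072) (iv3 F14424) D19625
theorem F64492 : act 7 n41829 = n22129 := d8_2 D40603 F64491 F34599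
theorem E7102 : n41828 = n41580 := ((c15_4 (iv0 D41828) D41829 F64492 (iv2 F64174))).symm
theorem F64493 : act 1 n41580 = n19689 := (sb E7102 (iv0 D41828))
def n41830 : Q := act 2 n19689
theorem D41830 : act 2 n19689 = n41830 := rfl
def n41831 : Q := act 5 n19689
theorem D41831 : act 5 n19689 = n41831 := rfl
theorem F64494 : act 3 n41831 = n19690 := d6_1 D41831 (iv5 D19690) D19689
def n41832 : Q := act 6 n19689
theorem D41832 : act 6 n19689 = n41832 := rfl
theorem F64495 : act 3 n41832 = n19691 := d7_1 D41832 (iv6 D19691) D19689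
def n41833 : Q := act 4 n19690
theorem D41833 : act 4 n19690 = n41833 := rfl
theorem F64496 : act 5 n41833 = n22794 := d16_1 D41833 (iv4 F64472) (iv5 D41812) (iv4 D19675) (iv5 D9239) D9238 D19670 (iv7 F63990) F63989
def n41834 : Q := act 6 n19690
theorem D41834 : act 6 n19690 = n41834 := rfl
def n41835 : Q := act 0 n19691
theorem D41835 : act 0 n19691 = n41835 := rfl
def n41836 : Q := act 1 n19691
theorem D41836 : act 1 n19691 = n41836 := rfl
def n41837 : Q := act 5 n19691
theorem D41837 : act 5 n19691 = n41837 := rfl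
theorem F64497 : act 1 n41837 = n22411 := d17_6 D4885 D10667 F31445 (iv5 D19695) (iv4 F31444) D41837 (iv5 D22411) (iv0 D10660) F7239
def n41838 : Q := act 7 n19691
theorem D41838 : act 7 n19691 = n41838 := rfl
theorem F64498 : act 4 n41838 = n19696 := d11_1 D41838 (iv7 D19696) (iv4 F31444)
theorem F64499 : act 1 n22147 = n41838 := d17_8 F63536 (iv5 F62647) (iv1 D10675) (iv5 D4887) (iv4 F7239) D10662 D22419 (iv5 F34964) F64498
theorem F64500 : act 1 n41500 = n22147 := d15_0 F64499 (iv7 D41838) (iv2 F63991)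
def n41839 : Q := act 3 n19692
theorem D41839 : act 3 n19692 = n41839 := rfl
def n41840 : Q := act 5 n19692
theorem D41840 : act 5 n19692 = n41840 := rfl
theorem F64501 : act 4 n41840 = n22795 := d9_1 D41840 (iv5 F64463) (iv4 D41803) (iv5 D19670) (iv4 D9238) D9239 D19675 D41812 F64472 (iv5 F64496) (iv4 D41833) (iv5 D19690) (iv4 D9243) D9244 D19692
theorem F64502 : act 1 n41840 = n22832 := d17_6 (iv1 F7038) (iv5 F14344) (iv1 F14346) D9244 D19692 D41840 (iv5 D22832) (iv0 D10789) (iv4 D4925)
theorem F64503 : act 0 n41840 = n22390 := d21_7 D4883 D10657 F17206 D19549 F63727 F63724 D41840 (iv5 D22390) (iv6 D10652) (iv1 D4881)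
def n41841 : Q := act 4 n19695
theorem D41841 : act 4 n19695 = n41841 := rfl
def n41842 : Q := act 7 n19695
theorem D41842 : act 7 n19695 = n41842 := rfl
theorem F64504 : act 2 n41842 = n22441 := d4_1 D41842 F64002 F63998
theorem F64505 : act 5 n41842 = n19696 := d13_1 D41842 (iv7 D19696) D19695
theorem F64506 : act 1 n22247 = n41842 := d15_1 (iv0 F64000) (iv7 D41842) (iv2 F63998)
theorem F64507 : act 1 n41842 = n22251 := d15_1 F64506 F35532 (iv2 F35524)
theorem F64508 : act 6 n41842 = n20370 := d21_3 D22465 (iv1 F63537) (iv5 F64505) (iv1 D20370) (iv6 D9653) (iv5 D4343) (iv1 F17458) D4131 (iv6 F7240) D10674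
def n41843 : Q := act 4 n19697
theorem D41843 : act 4 n19697 = n41843 := rfl
theorem F64509 : act 6 n41843 = n22895 := d10_2 (iv6 F31447) D41843 (iv4 D22895)
def n41844 : Q := act 5 n19699
theorem D41844 : act 5 n19699 = n41844 := rfl
theorem F64511 : act 3 n41844 = n19701 := d6_1 D41844 (iv5 D19701) D19699
def n41845 : Q := act 3 n19700
theorem D41845 : act 3 n19700 = n41845 := rfl
def n41846 : Q := act 5 n19700
theorem D41846 : act 5 n19700 = n41846 := rfl
def n41847 : Q := act 0 n19701
theorem D41847 : act 0 n19701 = n41847 := rfl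
theorem F64512 : act 5 n41847 = n22252 := d21_2 D19701 D41847 (iv6 D22252) (iv1 D10606) (iv6 D4853) (iv5 F6983) (iv1 F6288) (iv5 F3039) D4181 D9247
theorem F64513 : act 1 n19705 = n41847 := d15_0 (iv0 D41847) (iv7 F63738) F63737
theorem F64514 : act 2 n22460 = n41847 := d2_3 F64512 F35534 D22460
theorem F64515 : act 7 n22583 = n41847 := d13_0 F64512 F34719 (iv5 F35125)
def n41848 : Q := act 1 n19701
theorem D41848 : act 1 n19701 = n41848 := rfl
theorem F64516 : act 1 n41848 = n19705 := d15_1 D41848 (iv7 F63730) F63728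
theorem F64517 : act 7 n41848 = n22460 := d15_2 (iv0 D41847) D41848 F64514
theorem F64519 : act 5 n22461 = n41848 := d21_6 (iv5 F17317) (iv1 F17323) (iv5 D4931) D4932 D10814 (iv6 F35000) (iv1 D41848) (iv5 D19701) (iv6 F31274) F35494
theorem F64520 : act 2 n41848 = n22583 := d2_1 F64519 F35125 (iv2 F35545)
def n41849 : Q := act 4 n19701
theorem D41849 : act 4 n19701 = n41849 := rfl
def n41850 : Q := act 5 n19703
theorem D41850 : act 5 n19703 = n41850 := rfl
theorem F64521 : act 3 n41850 = n19705 := d6_1 D41850 (iv5 D19705) D19703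
def n41851 : Q := act 6 n19703
theorem D41851 : act 6 n19703 = n41851 := rfl
theorem F64522 : act 3 n41851 = n19706 := d7_1 D41851 (iv6 D19706) D19703
def n41852 : Q := act 3 n19704
theorem D41852 : act 3 n19704 = n41852 := rfl
def n41853 : Q := act 5 n19704
theorem D41853 : act 5 n19704 = n41853 := rfl
def n41854 : Q := act 6 n19704
theorem D41854 : act 6 n19704 = n41854 := rfl
theorem F64523 : act 4 n41854 = n19706 := d10_1 D41854 (iv6 D19706) D19704
def n41855 : Q := act 4 n19705
theorem D41855 : act 4 n19705 = n41855 := rfl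
def n41856 : Q := act 6 n19705
theorem D41856 : act 6 n19705 = n41856 := rfl
theorem F64524 : act 2 n41856 = n20369 := d3_1 D41856 F63740 F63737
theorem F64525 : act 7 n41856 = n20370 := d14_2 F63730 D41856 (iv6 F64508) (iv7 D41842) (iv6 F63729)
theorem F64526 : act 0 n20363 = n41856 := d21_4 F14323 (iv1 F17462) D9649 D20363 (iv6 D41856) (iv5 D19705) (iv1 D9248) D9249 F14438 (iv1 F14325)
def n41857 : Q := act 2 n19707
theorem D41857 : act 2 n19707 = n41857 := rfl
theorem F64527 : act 7 n19708 = n41857 := d15_2 (iv0 D19707) D19708 (iv2 D41857)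
def n41858 : Q := act 3 n19707
theorem D41858 : act 3 n19707 = n41858 := rfl
def n41860 : Q := act 6 n19707
theorem D41860 : act 6 n19707 = n41860 := rfl
theorem F64528 : act 5 n41860 = n22215 := d21_6 (iv5 D4146) (iv1 F7112) D4184 (iv6 F14438) D19707 D41860 (iv1 D22215) (iv5 F31231) (iv6 D19502) F14317
theorem F64529 : act 0 n22558 = n41860 := d21_4 (iv5 D4897) D4895 D10699 D22558 (iv6 D41860) F35548 (iv1 F35547) (iv5 F35125) (iv6 D22583) (iv1 D10707)
theorem F64530 : act 0 n41856 = n20371 := d21_4 F63756 (iv1 F31137) D19705 D41856 F32338 (iv5 F33376) (iv1 F34650) (iv5 F64528) (iv6 D41860) F63760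
theorem F64531 : act 6 n22215 = n21826 := d21_9 (iv5 D19563) (iv1 F14378) (iv5 F17038) F17039 (iv1 F62682) D21840 (iv5 F62691) F64529 F64528 (iv1 F62634)
def n41861 : Q := act 7 n19707
theorem D41861 : act 7 n19707 = n41861 := rfl
theorem F64532 : act 2 n41861 = n19708 := d4_1 D41861 F64527 (iv2 D41857)
def n41862 : Q := act 3 n19708
theorem D41862 : act 3 n19708 = n41862 := rfl
def n41863 : Q := act 4 n19708
theorem D41863 : act 4 n19708 = n41863 := rfl
def n41864 : Q := act 6 n19708
theorem D41864 : act 6 n19708 = n41864 := rfl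
def n41865 : Q := act 0 n19709
theorem D41865 : act 0 n19709 = n41865 := rfl
def n41866 : Q := act 1 n19709
theorem D41866 : act 1 n19709 = n41866 := rfl
def n41868 : Q := act 5 n19709
theorem D41868 : act 5 n19709 = n41868 := rfl
def n41869 : Q := act 6 n19710
theorem D41869 : act 6 n19710 = n41869 := rfl
theorem F64535 : act 3 n41869 = n19713 := d7_1 D41869 (iv6 D19713) (iv3 F31452)
theorem F64536 : act 5 n41869 = n41369 := d12_1 D41869 (iv6 D41369) F31181 (iv6 F14439) D19710
def n41870 : Q := act 6 n19711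
theorem D41870 : act 6 n19711 = n41870 := rfl
theorem F64537 : act 2 n41870 = n22954 := d3_1 D41870 (iv6 D22954) (iv2 F31456)
theorem F64538 : act 5 n41870 = n41399 := d12_1 D41870 (iv6 D41399) F31225 (iv6 F14443) D19711
def n41871 : Q := act 3 n19712
theorem D41871 : act 3 n19712 = n41871 := rfl
theorem F64539 : act 7 n41871 = n22950 := d8_2 (iv7 F31461) D41871 (iv3 D22950)
def n41872 : Q := act 5 n19712
theorem D41872 : act 5 n19712 = n41872 := rfl
theorem F64541 : act 4 n41872 = n41441 := d9_1 D41872 (iv5 D41441) (iv4 D19516) (iv5 D9188) F6057 D4146 D9190 D19520 D41452 F63900 F56548 (iv5 D19711) (iv4 D9251) D9252 D19712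
theorem F64543 : act 0 n41872 = n41451 := d17_2 (iv1 F31463) D41872 F63896 (iv4 D20128) F16790 F14569 D18466 (iv0 F31930) F31932
theorem F64544 : act 1 n41872 = n41450 := d17_6 F14255 (iv5 D4184) D4182 D9252 D19712 D41872 F63892 (iv0 D41360) (iv4 D19477)
def n41873 : Q := act 6 n19712
theorem D41873 : act 6 n19712 = n41873 := rfl
theorem F64545 : act 2 n41873 = n22957 := d3_1 D41873 (iv6 D22957) (iv2 F31460)
theorem F64546 : act 4 n41873 = n19713 := d10_1 D41873 (iv6 D19713) D19712
def n41874 : Q := act 0 n19713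
theorem D41874 : act 0 n19713 = n41874 := rfl
theorem F64547 : act 6 n41874 = n22251 := d21_5 (iv5 D4184) D4182 D9252 D19713 D41874 (iv5 D22251) (iv1 D10606) D10607 F17122 F14255
theorem F64548 : act 2 n22457 = n41874 := d3_3 F64547 F35531 D22457
theorem F64549 : act 0 n41874 = n22589 := d21_4 F17220 (iv1 F17120) D22251 (iv6 F64547) (iv6 D22589) F17239 F62709 D10947 (iv6 F17778) (iv1 F62674)
theorem F64550 : act 7 n22958 = n41874 := d15_2 (iv0 F34999) D22958 (iv2 F64548)
def n41875 : Q := act 1 n19713
theorem D41875 : act 1 n19713 = n41875 := rfl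
theorem F64551 : act 1 n41875 = n22589 := d15_1 D41875 F35128 (iv2 F31464)
theorem F64552 : act 7 n41875 = n22457 := d15_2 (iv0 D41874) D41875 F64548
theorem F64553 : act 6 n22914 = n41875 := d21_3 (iv5 F63976) (iv1 F63978) F35985 (iv1 D41875) (iv6 D19713) (iv5 D9252) (iv1 F6078) D4725 (iv6 F16604) D21872
theorem F64554 : act 5 n22579 = n41875 := d21_6 (iv5 D4725) F7113 D4146 (iv6 F7315) D10706 D22579 (iv1 D41875) F31465 (iv6 D19508) (iv1 F14324)
theorem F64555 : act 2 n22958 = n41875 := d4_3 F64552 F64548 (iv7 F64550)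
def n41876 : Q := act 7 n19713
theorem D41876 : act 7 n19713 = n41876 := rfl
theorem F64557 : act 5 n41876 = n22475 := d13_1 D41876 F35022 (iv5 F31465)
theorem F64558 : act 6 n41876 = n22279 := d14_1 D41876 (iv7 D22279) F17142 (iv7 F14448) D19713
theorem F64559 : act 1 n22958 = n41876 := d15_1 D22958 (iv7 D41876) F31464
theorem F64560 : act 1 n41876 = n22457 := d15_1 F64559 (iv7 F64552) (iv2 F64555)
def n41877 : Q := act 3 n19714
theorem D41877 : act 3 n19714 = n41877 := rfl
theorem F64561 : act 7 n41877 = n22966 := d8_2 (iv7 F31470) D41877 (iv3 D22966)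
def n41878 : Q := act 5 n19714
theorem D41878 : act 5 n19714 = n41878 := rfl
def n41879 : Q := act 6 n19714
theorem D41879 : act 6 n19714 = n41879 := rfl
theorem F64565 : act 2 n41879 = n22971 := d3_1 D41879 (iv6 D22971) (iv2 F31472)
def n41880 : Q := act 3 n19715
theorem D41880 : act 3 n19715 = n41880 := rfl
theorem F64566 : act 4 n41880 = n40304 := d5_2 (iv4 F31468) D41880 (iv3 D40304) (iv4 D19052) (iv3 F30553)
theorem F64567 : act 7 n41880 = n22969 := d8_2 F31471 D41880 (iv3 D22969)
def n41881 : Q := act 5 n19715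
theorem D41881 : act 5 n19715 = n41881 := rfl
theorem F64569 : act 7 n41881 = n22970 := d13_2 F31471 D41881 (iv5 D22970)
def n41882 : Q := act 0 n19716
theorem D41882 : act 0 n19716 = n41882 := rfl
theorem F64571 : act 1 n22974 = n41882 := d15_0 (iv0 D41882) F31474 D22974
def n41883 : Q := act 1 n19716
theorem D41883 : act 1 n19716 = n41883 := rfl
theorem F64572 : act 4 n41335 = n41883 := d20_6 F6227 (iv1 F3112) D4102 D9143 D19465 D41335 (iv1 D41883) F31473 (iv3 D9327) (iv1 F6229)
def n41884 : Q := act 2 n19716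
theorem D41884 : act 2 n19716 = n41884 := rfl
theorem F64573 : act 4 n41884 = n19830 := d1_2 (iv4 F31473) D41884 (iv2 D19830)
theorem F64574 : act 7 n41884 = n22974 := d4_2 (iv7 F31474) D41884 (iv2 D22974)
theorem F64575 : act 1 n41884 = n22972 := d15_0 (iv0 D22972) (iv7 F31474) D41884
theorem F64576 : act 1 n41883 = n22974 := d15_1 D41883 (iv7 F64574) (iv2 D41884)
theorem F64577 : act 1 n22973 = n41884 := d15_1 D22973 F64574 (iv2 D22974)
def n41885 : Q := act 5 n19716
theorem D41885 : act 5 n19716 = n41885 := rfl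
theorem F64578 : act 3 n41885 = n19717 := d6_1 D41885 (iv5 D19717) D19716
theorem F64579 : act 7 n41885 = n22975 := d13_2 (iv7 F31474) D41885 (iv5 D22975)
def n41886 : Q := act 0 n19717
theorem D41886 : act 0 n19717 = n41886 := rfl
theorem F64580 : act 5 n41886 = n20364 := d17_1 D41886 (iv1 F32325) D41401 F63839 (iv5 D35889) (iv0 F31251) D41441 F63887 F58657
theorem F64581 : act 4 n41886 = n34481 := d18_3 F63901 F58657 D41886 (iv5 D34481) (iv4 D16730) (iv0 F27441) D34467 F56550 (iv5 F63900)
theorem F64582 : act 1 n21876 = n41886 := d15_0 (iv0 D41886) F31475 (iv2 F34338)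
theorem F64583 : act 2 n22977 = n41886 := d1_3 F64581 (iv2 F59882) F59883
theorem F64584 : act 7 n22976 = n41886 := d11_0 F64581 (iv7 F59892) F59891
def n41887 : Q := act 1 n19717
theorem D41887 : act 1 n19717 = n41887 := rfl
theorem F64585 : act 1 n41887 = n21876 := d15_1 D41887 (iv7 F59918) F59916
theorem F64586 : act 7 n41887 = n22977 := d15_2 (iv0 D41886) D41887 F64583
theorem F64587 : act 5 n41887 = n20365 := d17_7 F14317 (iv5 D4146) (iv1 F7112) D4184 D9253 D19717 D41887 F32328 (iv4 D19501)
theorem F64588 : act 2 n22976 = n41887 := d2_3 F64587 F32331 (iv5 F36030)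
def n41888 : Q := act 6 n19717
theorem D41888 : act 6 n19717 = n41888 := rfl
def n41889 : Q := act 4 n19718
theorem D41889 : act 4 n19718 = n41889 := rfl
theorem F64589 : act 2 n41889 = n19724 := d1_1 D41889 (iv4 D19724) (iv2 F63461)
theorem F64590 : act 6 n41889 = n40425 := d10_2 (iv6 F31476) D41889 (iv4 D40425)
theorem F64591 : act 7 n41889 = n19729 := d11_2 (iv7 F63462) D41889 (iv4 D19729)
theorem F64592 : act 0 n41889 = n40603 := d20_1 D41889 F61717 F34380 (iv1 F32437) F63551 F64324 (iv1 D41683) F31394 F14453 D19718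
theorem F64593 : act 0 n21269 = n41889 := d20_1 (iv4 F33495) (iv4 D41889) F61503 (iv1 F61805) F61799 F61670 F63736 (iv4 D41353) F63427 (iv1 D21271)
def n41890 : Q := act 5 n19718
theorem D41890 : act 5 n19718 = n41890 := rfl
theorem F64594 : act 2 n41890 = n19725 := d2_1 D41890 (iv5 D19725) (iv2 F63461)
theorem F64595 : act 6 n41890 = n40428 := d12_2 (iv6 F31476) D41890 (iv5 D40428) (iv6 D19095) D19094
theorem F64596 : act 7 n41890 = n19730 := d13_2 (iv7 F63462) D41890 (iv5 D19730)
theorem F64597 : act 0 n41890 = n40956 := d21_1 D41890 (iv5 D40956) (iv6 D19293) (iv1 D9067) (iv6 D4077) F7008 (iv1 F3058) (iv5 F6084) D9254 D19718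
def n41891 : Q := act 4 n19719
theorem D41891 : act 4 n19719 = n41891 := rfl
theorem F64599 : act 2 n41891 = n19729 := d1_1 D41891 (iv4 D19729) (iv2 F63464)
theorem F64600 : act 7 n41891 = n19724 := d11_2 (iv7 F63465) D41891 (iv4 D19724)
theorem F64601 : act 0 n41891 = n21269 := d20_1 D41891 F33495 F16004 (iv1 F63244) (iv3 D9287) (iv4 D4195) (iv1 F3048) (iv4 F6093) (iv3 F14456) (iv1 F31478)
theorem F64602 : act 0 n40603 = n41891 := d20_1 (iv4 F61717) (iv4 D41891) F61804 (iv1 D20416) F15129 (iv4 F15142) D20429 F63708 (iv3 F63707) (iv1 F34383)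
def n41892 : Q := act 5 n19719
theorem D41892 : act 5 n19719 = n41892 := rfl
theorem F64603 : act 2 n41892 = n19730 := d2_1 D41892 (iv5 D19730) (iv2 F63464)
theorem F64604 : act 7 n41892 = n19725 := d13_2 (iv7 F63465) D41892 (iv5 D19725)
theorem F64605 : act 0 n41892 = n41059 := d21_1 D41892 F62298 (iv6 D40654) F31038 F31037 (iv5 D19262) (iv1 F14136) (iv5 F13925) (iv6 F14457) (iv1 F31478)
theorem F64606 : act 6 n20285 = n41892 := d21_5 F17522 (iv1 D4323) D4325 D9598 D20285 (iv5 D41892) (iv1 D19719) D19720 F31481 F14529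
theorem F64607 : act 1 n41892 = n40956 := d15_0 (iv0 F64597) F64596 (iv2 F64603)
def n41893 : Q := act 6 n19719
theorem D41893 : act 6 n19719 = n41893 := rfl
theorem F64608 : act 2 n41893 = n19731 := d3_1 D41893 (iv6 D19731) (iv2 F63464)
theorem F64609 : act 7 n41893 = n40413 := d14_2 (iv7 F63465) D41893 (iv6 D40413) (iv7 F63458) (iv6 D19726)
theorem F64610 : act 5 n41893 = n20662 := d21_6 (iv5 D19262) (iv1 F14136) (iv5 F13925) (iv6 F14457) (iv1 F31478) D41893 F62517 (iv5 D19323) D19324 F62075
theorem F64611 : act 0 n41893 = n40657 := d21_10 (iv5 F62293) (iv1 F36455) F30968 (iv6 F17827) (iv1 F17829) D19293 D40956 (iv1 F64607) (iv5 D41892) D41893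
theorem F64612 : act 0 n40363 = n41893 := d21_4 (iv5 D19408) D19406 F31035 D40363 (iv6 D41893) D41892 F64605 F62298 (iv6 D40654) F31038
theorem F64613 : act 2 n20662 = n20697 := d2_1 F64610 F63071 (iv2 F64608)
theorem F64614 : act 7 n20662 = n20696 := d13_2 (iv7 F64609) F64610 (iv5 F63058)
theorem E7103 : n23428 = n20663 := (c15_4 F62516 (iv0 F62517) F64614 (iv2 F63493))
theorem F64615 : act 2 n20663 = n20696 := (sb E7103 F63493)
theorem F64616 : act 6 n20663 = n10988 := (sb E7103 (iv6 D23428))
theorem F64617 : act 7 n20663 = n20697 := (sb E7103 (iv7 F63494))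
def n41894 : Q := act 0 n19720
theorem D41894 : act 0 n19720 = n41894 := rfl
def n41895 : Q := act 4 n19720
theorem D41895 : act 4 n19720 = n41895 := rfl
theorem F64619 : act 6 n41895 = n19835 := d10_2 (iv6 F31481) D41895 (iv4 D19835)
def n41896 : Q := act 7 n19720
theorem D41896 : act 7 n19720 = n41896 := rfl
theorem F64620 : act 2 n41896 = n19735 := d4_1 D41896 (iv7 D19735) (iv2 F31479)
theorem F64622 : act 5 n41896 = n19721 := d13_1 D41896 (iv7 D19721) D19720
theorem F64623 : act 6 n41896 = n23375 := d14_1 D41896 (iv7 D23375) F17834 (iv7 F14528) (iv6 F31481)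
theorem F64624 : act 1 n19735 = n41894 := d15_0 (iv0 D41894) D41896 F64620
theorem F64625 : act 1 n19733 = n41896 := d15_1 D19733 (iv7 D41896) F31479
theorem F64626 : act 0 n19732 = n41896 := d21_1 (iv5 F62299) F64622 F31484 (iv1 F30595) D19095 D40428 (iv1 F62035) (iv5 D19292) D19293 D40954
def n41897 : Q := act 5 n19723
theorem D41897 : act 5 n19723 = n41897 := rfl
theorem F64627 : act 3 n41897 = n19725 := d6_1 D41897 (iv5 D19725) D19723
def n41898 : Q := act 0 n19724
theorem D41898 : act 0 n19724 = n41898 := rfl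
theorem F64628 : act 4 n41898 = n21273 := d20_2 D19724 D41898 F33498 (iv1 F63239) (iv3 D9306) (iv4 D4200) (iv1 D1791) (iv4 F3045) (iv3 F6089) D9255
theorem F64629 : act 2 n40603 = n41898 := d15_3 (iv0 D41898) F63552 D40603
theorem F64630 : act 1 n19729 = n41898 := d15_0 (iv0 D41898) (iv7 F64600) F64599
theorem F64631 : act 7 n41898 = n21269 := d15_2 (iv0 F63711) F64630 F33494
theorem F64632 : act 6 n40404 = n41898 := d14_5 F64631 (iv6 D21269) F16001 D19172 (iv7 F63157)
def n41899 : Q := act 3 n19724
theorem D41899 : act 3 n19724 = n41899 := rfl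
def n41900 : Q := act 5 n19724
theorem D41900 : act 5 n19724 = n41900 := rfl
def n41901 : Q := act 6 n19724
theorem D41901 : act 6 n19724 = n41901 := rfl
theorem F64633 : act 2 n41901 = n40425 := d3_1 D41901 (iv6 F64590) F64589
theorem F64634 : act 4 n41901 = n19726 := d10_1 D41901 (iv6 D19726) D19724
theorem F64635 : act 7 n40412 = n41901 := d11_0 F64634 F63458 D40412
theorem F64636 : act 1 n40768 = n41901 := d17_8 F62443 (iv5 F31013) (iv1 F31019) (iv5 D9102) D9101 D19403 F62413 (iv5 F63431) F64634
def n41902 : Q := act 0 n19725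
theorem D41902 : act 0 n19725 = n41902 := rfl
theorem F64637 : act 5 n41902 = n23358 := d21_2 D19725 D41902 (iv6 D23358) (iv1 D10970) (iv6 D4999) F7326 (iv1 D1796) (iv5 F3042) D4188 D9255
theorem F64638 : act 1 n19730 = n41902 := d15_0 (iv0 D41902) (iv7 F64604) F64603
theorem F64639 : act 2 n40956 = n41902 := d2_3 F64637 F62285 D40956
theorem F64640 : act 7 n41059 = n41902 := d13_0 F64637 (iv7 F61755) (iv5 F62298)
def n41903 : Q := act 1 n19725
theorem D41903 : act 1 n19725 = n41903 := rfl
theorem F64641 : act 1 n41903 = n19730 := d15_1 D41903 (iv7 F64596) F64594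
theorem F64642 : act 7 n41903 = n40956 := d15_2 (iv0 D41902) D41903 F64639
def n41904 : Q := act 4 n19725
theorem D41904 : act 4 n19725 = n41904 := rfl
def n41905 : Q := act 6 n19725
theorem D41905 : act 6 n19725 = n41905 := rfl
theorem F64646 : act 2 n41905 = n40428 := d3_1 D41905 (iv6 F64595) F64594
theorem F64647 : act 5 n41905 = n21055 := d12_1 D41905 F62525 (iv5 F31488) (iv6 D19726) D19725
theorem F64648 : act 0 n41905 = n23357 := d21_10 (iv5 D23357) (iv1 D10970) D10971 F17825 F14524 (iv6 F14455) (iv5 D9257) D9255 D19725 D41905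
theorem F64650 : act 7 n40939 = n41905 := d15_2 (iv0 F61507) D40939 F64646
def n41906 : Q := act 5 n19728
theorem D41906 : act 5 n19728 = n41906 := rfl
theorem F64651 : act 3 n41906 = n19730 := d6_1 D41906 (iv5 D19730) D19728
def n41907 : Q := act 6 n19728
theorem D41907 : act 6 n19728 = n41907 := rfl
theorem F64652 : act 3 n41907 = n19731 := d7_1 D41907 (iv6 D19731) D19728
def n41908 : Q := act 3 n19729
theorem D41908 : act 3 n19729 = n41908 := rfl
def n41909 : Q := act 5 n19729
theorem D41909 : act 5 n19729 = n41909 := rfl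
def n41910 : Q := act 6 n19729
theorem D41910 : act 6 n19729 = n41910 := rfl
theorem F64653 : act 4 n41910 = n19731 := d10_1 D41910 (iv6 D19731) D19729
def n41911 : Q := act 4 n19730
theorem D41911 : act 4 n19730 = n41911 := rfl
def n41912 : Q := act 6 n19730
theorem D41912 : act 6 n19730 = n41912 := rfl
def n41913 : Q := act 7 n19731
theorem D41913 : act 7 n19731 = n41913 := rfl
theorem F64658 : act 5 n41913 = n20663 := d13_1 D41913 F64617 F63071
theorem F64659 : act 6 n41913 = n40324 := d14_1 D41913 F63448 (iv6 F31476) F63462 D19731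
theorem F64660 : act 1 n40363 = n41913 := d15_1 (iv0 F64612) (iv7 D41913) (iv2 F64608)
theorem F64661 : act 1 n41913 = n40657 := d15_1 F64660 (iv7 D40657) (iv2 F62268)
def n41914 : Q := act 2 n19732
theorem D41914 : act 2 n19732 = n41914 := rfl
theorem F64662 : act 7 n19733 = n41914 := d15_2 (iv0 D19732) D19733 (iv2 D41914)
def n41915 : Q := act 3 n19732
theorem D41915 : act 3 n19732 = n41915 := rfl
def n41917 : Q := act 6 n19732
theorem D41917 : act 6 n19732 = n41917 := rfl
theorem F64663 : act 5 n41917 = n40829 := d21_6 (iv5 D8930) F7024 D4221 (iv6 F14455) D19732 D41917 (iv1 D40829) (iv5 F32121) (iv6 D20251) (iv1 F17549)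
theorem F64664 : act 0 n23414 = n20261 := d21_10 (iv5 F33323) (iv1 F61911) (iv5 F64663) (iv6 D41917) F64626 F64623 F36501 (iv1 F17839) D10985 D23414
theorem F64665 : act 0 n20665 = n41917 := d21_4 (iv5 D9078) F62490 D9793 D20665 (iv6 D41917) F62299 (iv1 F62288) (iv5 F62298) (iv6 D41059) (iv1 D19326)
theorem F64666 : act 0 n41912 = n20287 := d21_4 F64622 (iv1 F31485) D19730 D41912 F32188 (iv5 F33323) (iv1 F61911) (iv5 F64663) (iv6 D41917) F64626
theorem F64667 : act 6 n40829 = n21083 := d21_9 (iv5 D21045) F62560 (iv5 F30894) F30895 F62571 D21098 F33297 F64665 F64663 (iv1 F33279)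
def n41918 : Q := act 7 n19732
theorem D41918 : act 7 n19732 = n41918 := rfl
theorem F64668 : act 2 n41918 = n19733 := d4_1 D41918 F64662 (iv2 D41914)
def n41919 : Q := act 3 n19733
theorem D41919 : act 3 n19733 = n41919 := rfl
def n41920 : Q := act 4 n19733
theorem D41920 : act 4 n19733 = n41920 := rfl
def n41922 : Q := act 0 n19734
theorem D41922 : act 0 n19734 = n41922 := rfl
def n41924 : Q := act 3 n19734
theorem D41924 : act 3 n19734 = n41924 := rfl
theorem F64669 : act 4 n41924 = n19757 := d5_2 D19734 D41924 (iv3 D19757) (iv4 D9270) (iv3 F14454)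
theorem F64670 : act 6 n41924 = n19843 := d7_2 (iv6 F31490) D41924 (iv3 D19843)
def n41925 : Q := act 5 n19734
theorem D41925 : act 5 n19734 = n41925 := rfl
def n41926 : Q := act 7 n19734
theorem D41926 : act 7 n19734 = n41926 := rfl
theorem F64672 : act 6 n41926 = n23433 := d14_1 D41926 (iv7 D23433) F17843 (iv7 F14539) (iv6 F31490)
def n41927 : Q := act 5 n19739
theorem D41927 : act 5 n19739 = n41927 := rfl
theorem F64673 : act 3 n41927 = n40432 := d6_1 D41927 (iv5 D40432) (iv3 F31495)
def n41928 : Q := act 0 n19740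
theorem D41928 : act 0 n19740 = n41928 := rfl
theorem F64674 : act 5 n41928 = n19939 := d21_2 D19740 D41928 (iv6 D19939) (iv1 D9401) (iv6 D4264) (iv5 D1811) (iv1 F1816) D1844 D4380 F35667
theorem F64675 : act 2 n20084 = n41928 := d15_3 (iv0 D41928) F35789 (iv7 F32938)
theorem F64676 : act 1 n20440 = n41928 := d15_0 (iv0 D41928) (iv7 F31508) F35676
def n41929 : Q := act 4 n19740
theorem D41929 : act 4 n19740 = n41929 := rfl
def n41930 : Q := act 3 n19741
theorem D41930 : act 3 n19741 = n41930 := rfl
def n41931 : Q := act 5 n19745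
theorem D41931 : act 5 n19745 = n41931 := rfl
theorem F64678 : act 3 n41931 = n40438 := d6_1 D41931 (iv5 D40438) (iv3 F31505)
theorem F64679 : act 7 n41931 = n41927 := d13_2 (iv7 F31506) D41931 (iv5 D41927)
def n41932 : Q := act 6 n19745
theorem D41932 : act 6 n19745 = n41932 := rfl
theorem F64680 : act 3 n41932 = n40439 := d7_1 D41932 (iv6 D40439) (iv3 F31505)
theorem F64681 : act 4 n41932 = n19747 := d10_1 D41932 (iv6 D19747) D19745
def n41933 : Q := act 0 n19746
theorem D41933 : act 0 n19746 = n41933 := rfl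
theorem F64682 : act 5 n41933 = n20828 := d21_2 D19746 D41933 (iv6 D20828) D20825 (iv6 F35618) (iv5 D19433) (iv1 F14228) (iv5 F35627) (iv6 F15147) F35782
theorem F64683 : act 2 n20602 = n41933 := d15_3 (iv0 D41933) F35791 F32938
theorem F64684 : act 1 n19880 = n41933 := d15_0 (iv0 D41933) F31508 F35708
theorem F64685 : act 7 n41933 = n41928 := d15_2 (iv0 F31900) F64684 (iv2 F64675)
theorem F64686 : act 6 n20466 = n41933 := d21_9 (iv5 D19880) (iv1 F15150) (iv5 F32483) F32484 (iv1 F35690) (iv6 F35850) F35849 (iv1 D20831) F32518 (iv1 F64684)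
def n41934 : Q := act 4 n19746
theorem D41934 : act 4 n19746 = n41934 := rfl
theorem F64687 : act 7 n41934 = n41929 := d11_2 (iv7 F31508) D41934 (iv4 D41929)
def n41935 : Q := act 3 n19748
theorem D41935 : act 3 n19748 = n41935 := rfl
def n41936 : Q := act 0 n19749
theorem D41936 : act 0 n19749 = n41936 := rfl
def n41937 : Q := act 1 n19749
theorem D41937 : act 1 n19749 = n41937 := rfl
def n41938 : Q := act 2 n19749
theorem D41938 : act 2 n19749 = n41938 := rfl
theorem F64691 : act 5 n41938 = n41319 := d2_2 (iv5 F31513) D41938 (iv2 D41319)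
def n41939 : Q := act 4 n19749
theorem D41939 : act 4 n19749 = n41939 := rfl
def n41940 : Q := act 6 n19749
theorem D41940 : act 6 n19749 = n41940 := rfl
theorem F64692 : act 3 n41940 = n19751 := d7_1 D41940 (iv6 D19751) D19749
theorem F64693 : act 5 n41940 = n21126 := d12_1 D41940 F33345 F33241 F32801 (iv5 F31513)
def n41943 : Q := act 0 n19752
theorem D41943 : act 0 n19752 = n41943 := rfl
def n41944 : Q := act 1 n19752
theorem D41944 : act 1 n19752 = n41944 := rfl
def n41945 : Q := act 2 n19752
theorem D41945 : act 2 n19752 = n41945 := rfl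
theorem F64700 : act 3 n41945 = n41945 := d0_2 D19752 D41945 (iv2 D41945) (iv3 D19752) F15290
theorem F64701 : act 5 n41945 = n23446 := d2_2 (iv5 F31522) D41945 F36547
theorem F64702 : act 7 n41945 = n41938 := d4_2 (iv7 F31523) D41945 (iv2 D41938)
theorem F64703 : act 1 n41945 = n41936 := d15_0 (iv0 D41936) (iv7 F31523) D41945
theorem F64705 : act 1 n41937 = n41945 := d15_1 D41937 F64702 (iv2 D41938)
def n41946 : Q := act 4 n19752
theorem D41946 : act 4 n19752 = n41946 := rfl
theorem F64706 : act 7 n41946 = n41939 := d11_2 (iv7 F31523) D41946 (iv4 D41939)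
def n41947 : Q := act 6 n19752
theorem D41947 : act 6 n19752 = n41947 := rfl
theorem F64708 : act 5 n41947 = n23454 := d12_1 D41947 (iv6 D23454) (iv5 D10995) D10996 (iv5 F31522)
def n41952 : Q := act 6 n19755
theorem D41952 : act 6 n19755 = n41952 := rfl
theorem F64720 : act 4 n41952 = n19824 := d10_1 D41952 (iv6 D19824) (iv4 F31532)
theorem F64721 : act 0 n20677 = n41952 := d21_4 D10955 (iv1 F32797) (iv5 D20676) D20677 (iv6 D41952) F31531 (iv1 F36561) F36557 (iv6 D20720) F15410
theorem F64722 : act 1 n20230 = n41952 := d15_0 (iv0 F64721) F32800 F32077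
def n41957 : Q := act 2 n19757
theorem D41957 : act 2 n19757 = n41957 := rfl
theorem F64728 : act 6 n41957 = n19847 := d3_2 (iv6 F31540) D41957 (iv2 D19847)
def n41958 : Q := act 3 n19760
theorem D41958 : act 3 n19760 = n41958 := rfl
theorem F64729 : act 7 n41958 = n21250 := d8_2 (iv7 F63226) D41958 F33478
def n41959 : Q := act 5 n19760
theorem D41959 : act 5 n19760 = n41959 := rfl
theorem F64730 : act 7 n41959 = n21256 := d13_2 (iv7 F63226) D41959 (iv5 D21256)
def n41960 : Q := act 3 n19768
theorem D41960 : act 3 n19768 = n41960 := rfl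
theorem F64731 : act 4 n41960 = n41960 := d5_2 D19768 D41960 (iv3 D41960) (iv4 D19768) F16117
def n41961 : Q := act 5 n19768
theorem D41961 : act 5 n19768 = n41961 := rfl
theorem F64732 : act 2 n41961 = n19774 := d2_1 D41961 (iv5 D19774) (iv2 F31543)
def n41962 : Q := act 6 n19768
theorem D41962 : act 6 n19768 = n41962 := rfl
theorem F64733 : act 2 n41962 = n19775 := d3_1 D41962 (iv6 D19775) (iv2 F31543)
theorem F64734 : act 4 n41962 = n19770 := d10_1 D41962 (iv6 D19770) D19768
def n41963 : Q := act 4 n19769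
theorem D41963 : act 4 n19769 = n41963 := rfl
theorem F64735 : act 2 n41963 = n19778 := d1_1 D41963 (iv4 D19778) (iv2 F31544)
def n41964 : Q := act 6 n19769
theorem D41964 : act 6 n19769 = n41964 := rfl
theorem F64736 : act 2 n41964 = n19779 := d3_1 D41964 (iv6 D19779) (iv2 F31544)
theorem F64738 : act 7 n41964 = n21291 := d14_2 F31568 D41964 (iv6 D21291) (iv7 F63265) F63238
theorem F64739 : act 0 n41964 = n21241 := d21_4 F16768 (iv1 F63184) D19769 D41964 (iv6 D21241) D21240 F63189 F17906 (iv6 D5046) F63143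
theorem F64740 : act 1 n41964 = n21365 := d15_1 (iv0 F64739) (iv7 D21365) (iv2 F63373)
def n41965 : Q := act 1 n19770
theorem D41965 : act 1 n19770 = n41965 := rfl
theorem F64741 : act 1 n41965 = n19782 := d15_1 D41965 (iv7 D19782) (iv2 F31546)
theorem F64742 : act 7 n41965 = n19780 := d15_2 (iv0 F63297) D41965 F63387
theorem F64743 : act 6 n21365 = n41965 := d21_3 D4977 D10928 (iv5 F63418) (iv1 D41965) (iv6 D19770) D19769 (iv1 F31581) F63242 (iv6 D10927) (iv1 D4976)
theorem F64744 : act 2 n19781 = n41965 := d4_3 F64742 F63387 (iv7 F63407)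
def n41966 : Q := act 7 n19770
theorem D41966 : act 7 n19770 = n41966 := rfl
theorem F64745 : act 2 n41966 = n19782 := d4_1 D41966 (iv7 D19782) (iv2 F31546)
theorem F64747 : act 5 n41966 = n21193 := d13_1 D41966 (iv7 F63208) (iv5 F63222)
theorem F64748 : act 1 n19781 = n41966 := d15_1 D19781 (iv7 D41966) F31546
theorem F64749 : act 1 n41966 = n19780 := d15_1 F64748 (iv7 F64742) (iv2 F64744)
def n41967 : Q := act 3 n19771
theorem D41967 : act 3 n19771 = n41967 := rfl
theorem F64750 : act 7 n41967 = n21300 := d8_2 (iv7 F35861) D41967 F33511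
def n41968 : Q := act 4 n19771
theorem D41968 : act 4 n19771 = n41968 := rfl
theorem F64751 : act 2 n41968 = n20384 := d1_1 D41968 (iv4 F35818) (iv2 F35859)
theorem F64752 : act 6 n41968 = n40689 := d10_2 (iv6 F35860) D41968 F61800
theorem F64753 : act 7 n41968 = n20381 := d11_2 (iv7 F35861) D41968 F32361
theorem F64754 : act 5 n41968 = n23523 := d18_4 (iv1 F63153) D9281 D19771 D41968 (iv4 D23523) (iv0 D11032) (iv4 D5028) F63122 F16815
theorem F64755 : act 3 n41968 = n37849 := d20_3 D9281 D19771 D41968 (iv1 F58699) (iv3 F31408) D40326 F63561 F30803 F16439 (iv1 F63153)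
theorem F64756 : act 0 n20382 = n41968 := d20_10 (iv4 D41968) (iv1 F31565) (iv4 D19800) F16118 F63154 (iv3 F16439) (iv4 F30803) (iv1 F63562) (iv4 D40323) (iv3 F63437)
theorem F64757 : act 1 n20383 = n41968 := d15_0 (iv0 F64756) F63443 F61478
def n41969 : Q := act 5 n19771
theorem D41969 : act 5 n19771 = n41969 := rfl
theorem F64758 : act 7 n41969 = n21304 := d13_2 (iv7 F35861) D41969 (iv5 D21304)
def n41970 : Q := act 5 n19773
theorem D41970 : act 5 n19773 = n41970 := rfl
theorem F64759 : act 3 n41970 = n19774 := d6_1 D41970 (iv5 D19774) D19773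
def n41971 : Q := act 0 n19774
theorem D41971 : act 0 n19774 = n41971 := rfl
theorem F64760 : act 5 n41971 = n23534 := d21_2 D19774 D41971 F63022 (iv1 D23151) (iv6 D10903) D10902 F17707 (iv5 D10344) D10345 F35862
def n41972 : Q := act 1 n19774
theorem D41972 : act 1 n19774 = n41972 := rfl
theorem F64761 : act 5 n41972 = n23535 := d17_7 (iv1 F17909) (iv5 F63241) F63234 (iv5 D9282) D9281 D19774 D41972 F36652 (iv4 D23520)
def n41973 : Q := act 4 n19774
theorem D41973 : act 4 n19774 = n41973 := rfl
def n41974 : Q := act 6 n19774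
theorem D41974 : act 6 n19774 = n41974 := rfl
def n41975 : Q := act 0 n19775
theorem D41975 : act 0 n19775 = n41975 := rfl
def n41976 : Q := act 1 n19775
theorem D41976 : act 1 n19775 = n41976 := rfl
def n41977 : Q := act 5 n19775
theorem D41977 : act 5 n19775 = n41977 := rfl
theorem F64762 : act 0 n41977 = n23003 := d21_7 D10902 F17707 (iv5 D10344) D10345 F35862 D19775 D41977 (iv5 D23003) (iv6 D10855) (iv1 F7388)
def n41978 : Q := act 7 n19775
theorem D41978 : act 7 n19775 = n41978 := rfl
theorem F64763 : act 3 n41978 = n19778 := d8_1 D41978 (iv7 F31584) F31582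
theorem F64764 : act 4 n41978 = n19782 := d11_1 D41978 (iv7 D19782) (iv4 F31549)
def n41979 : Q := act 3 n19776
theorem D41979 : act 3 n19776 = n41979 := rfl
theorem F64765 : act 5 n41979 = n22499 := d6_2 (iv5 F63313) D41979 F63292
theorem F64766 : act 7 n41979 = n22086 := d8_2 (iv7 F63314) D41979 (iv3 F63286)
def n41980 : Q := act 4 n19776
theorem D41980 : act 4 n19776 = n41980 := rfl
def n41981 : Q := act 0 n19778
theorem D41981 : act 0 n19778 = n41981 := rfl
theorem F64767 : act 5 n41981 = n23619 := d17_1 D41981 (iv1 F36753) (iv5 D23518) (iv4 D11029) D11030 F17908 (iv5 F63313) (iv0 D19776) D19778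
def n41982 : Q := act 5 n19778
theorem D41982 : act 5 n19778 = n41982 := rfl
theorem F64768 : act 1 n41982 = n23009 := d17_6 F63123 F16815 (iv1 F63153) D9282 D19778 D41982 (iv5 D23009) F35641 (iv4 D11063)
theorem F64769 : act 1 n23524 = n41982 := d15_0 F64768 (iv7 F36741) F36740
def n41983 : Q := act 6 n19778
theorem D41983 : act 6 n19778 = n41983 := rfl
theorem F64770 : act 4 n41983 = n19779 := d10_1 D41983 (iv6 D19779) D19778
def n41984 : Q := act 1 n19779
theorem D41984 : act 1 n19779 = n41984 := rfl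
theorem F64771 : act 1 n41984 = n21291 := d15_1 D41984 (iv7 F64738) F64736
theorem F64772 : act 7 n41984 = n21241 := d15_2 (iv0 F63235) D41984 F63373
theorem F64773 : act 5 n23161 = n41984 := d21_0 (iv1 D41984) (iv5 F63304) F63305 F63218 F15952 (iv5 D4595) F16769 D8990 (iv6 F17714) D23161
theorem F64775 : act 6 n41984 = n19781 := d21_3 D10906 D23161 F64773 (iv1 D19781) (iv6 D9283) D9282 D19776 F63313 (iv6 F63293) (iv1 D10905)
def n41985 : Q := act 3 n19780
theorem D41985 : act 3 n19780 = n41985 := rfl
theorem F64776 : act 6 n41985 = n20799 := d7_2 (iv6 F63237) D41985 (iv3 F32960)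
theorem F64777 : act 4 n20801 = n41985 := d10_3 F64776 (iv4 D20799) D20801
def n41986 : Q := act 4 n19780
theorem D41986 : act 4 n19780 = n41986 := rfl
theorem F64778 : act 2 n41986 = n21375 := d1_1 D41986 F33568 (iv2 F63387)
theorem F64779 : act 6 n41986 = n21243 := d10_2 (iv6 F63237) D41986 (iv4 D21243)
def n41987 : Q := act 3 n19781
theorem D41987 : act 3 n19781 = n41987 := rfl
theorem F64780 : act 7 n41987 = n21372 := d8_2 (iv7 F63407) D41987 F33567
def n41988 : Q := act 4 n19781
theorem D41988 : act 4 n19781 = n41988 := rfl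
theorem F64781 : act 7 n41988 = n21375 := d11_2 (iv7 F63407) D41988 F33568
def n41989 : Q := act 5 n19781
theorem D41989 : act 5 n19781 = n41989 := rfl
theorem F64782 : act 7 n41989 = n21379 := d13_2 (iv7 F63407) D41989 (iv5 D21379)
theorem F64783 : act 6 n41989 = n23676 := d21_3 (iv5 F64747) (iv1 F64748) D41989 (iv1 D23676) (iv6 D11086) (iv5 D5068) F16806 D4595 (iv6 F15952) D21193
theorem F64784 : act 0 n21498 = n41989 := d21_1 D21498 (iv5 D41989) (iv6 F64775) (iv1 D41984) (iv6 D19779) (iv5 D9282) D9278 (iv5 F35868) (iv6 F63172) (iv1 F16224)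
def n41990 : Q := act 0 n19786
theorem D41990 : act 0 n19786 = n41990 := rfl
theorem F64786 : act 5 n41990 = n22993 := d21_2 D19786 D41990 (iv6 D22993) (iv1 D10851) (iv6 D4947) F3325 (iv1 F3000) (iv5 F6930) D4619 (iv1 F63244)
theorem F64787 : act 2 n23065 = n41990 := d15_3 (iv0 D41990) F63281 (iv7 F36331)
theorem F64788 : act 1 n21290 = n41990 := d15_0 (iv0 D41990) (iv7 F31596) F63279
def n41991 : Q := act 4 n19786
theorem D41991 : act 4 n19786 = n41991 := rfl
def n41993 : Q := act 4 n19788
theorem D41993 : act 4 n19788 = n41993 := rfl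
theorem F64790 : act 2 n41993 = n41809 := d1_1 D41993 (iv4 D41809) (iv2 F62659)
theorem F64791 : act 6 n41993 = n41755 := d10_2 (iv6 F62660) D41993 F64399
theorem F64792 : act 7 n41993 = n21825 := d11_2 (iv7 F31558) D41993 F34283
theorem F64793 : act 5 n41993 = n22764 := d17_5 (iv1 F7037) D4931 (iv1 F17318) F62685 D41993 F35332 (iv5 D10766) F17176 F17174
theorem F64794 : act 0 n41993 = n41774 := d17_0 F64421 (iv1 D22331) (iv5 D10631) F7032 (iv5 F6067) D9195 D19539 (iv0 F62657) D41993
theorem F64795 : act 1 n22193 = n41774 := d15_0 (iv0 F64794) F64792 (iv2 F63041)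
def n41996 : Q := act 2 n19789
theorem D41996 : act 2 n19789 = n41996 := rfl
theorem F64797 : act 3 n41996 = n41996 := d0_2 D19789 D41996 (iv2 D41996) (iv3 D19789) F15357
theorem F64798 : act 7 n41996 = n21414 := d4_2 (iv7 F31559) D41996 F33621
def n41997 : Q := act 4 n19789
theorem D41997 : act 4 n19789 = n41997 := rfl
theorem F64802 : act 7 n41997 = n21418 := d11_2 (iv7 F31559) D41997 F33632
def n41998 : Q := act 3 n19797
theorem D41998 : act 3 n19797 = n41998 := rfl
theorem F64803 : act 7 n41998 = n21641 := d8_2 (iv7 F63203) D41998 F34063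
def n41999 : Q := act 5 n19797
theorem D41999 : act 5 n19797 = n41999 := rfl
theorem F64804 : act 2 n41999 = n41959 := d2_1 D41999 (iv5 D41959) (iv2 F35883)
theorem F64805 : act 7 n41999 = n21645 := d13_2 (iv7 F63203) D41999 (iv5 D21645)
def n42000 : Q := act 3 n19800
theorem D42000 : act 3 n19800 = n42000 := rfl
theorem F64806 : act 4 n42000 = n42000 := d5_2 D19800 D42000 (iv3 D42000) (iv4 D19800) F16118
theorem F64807 : act 7 n42000 = n41960 := d8_2 (iv7 F31563) D42000 (iv3 D41960)
def n42001 : Q := act 5 n19800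
theorem D42001 : act 5 n19800 = n42001 := rfl
theorem F64808 : act 2 n42001 = n19806 := d2_1 D42001 (iv5 D19806) (iv2 F31562)
theorem F64809 : act 7 n42001 = n41961 := d13_2 (iv7 F31563) D42001 (iv5 D41961)
theorem F64810 : act 1 n42001 = n41971 := d17_6 D11041 (iv5 F63313) (iv1 F31571) (iv5 D19801) D19800 D42001 F64760 (iv0 D23534) F17901
theorem F64811 : act 1 n41972 = n42001 := d15_1 D41972 F64809 F64732
def n42002 : Q := act 6 n19800
theorem D42002 : act 6 n19800 = n42002 := rfl
theorem F64812 : act 2 n42002 = n19807 := d3_1 D42002 (iv6 D19807) (iv2 F31562)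
theorem F64813 : act 4 n42002 = n19802 := d10_1 D42002 (iv6 D19802) D19800
def n42003 : Q := act 4 n19801
theorem D42003 : act 4 n19801 = n42003 := rfl
theorem F64814 : act 2 n42003 = n19810 := d1_1 D42003 (iv4 D19810) (iv2 F31566)
theorem F64815 : act 6 n42003 = n21623 := d10_2 F63238 D42003 (iv4 D21623)
theorem F64816 : act 7 n42003 = n41963 := d11_2 (iv7 F31568) D42003 (iv4 D41963)
theorem F64817 : act 0 n42003 = n21693 := d17_0 (iv5 F36755) (iv1 D23620) (iv5 D11068) (iv4 D5045) F7448 D11042 (iv5 F63241) (iv0 F63252) D42003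
theorem F64818 : act 1 n42003 = n41981 := d15_0 (iv0 D41981) (iv7 F31584) (iv2 F64814)
def n42004 : Q := act 0 n19802
theorem D42004 : act 0 n19802 = n42004 := rfl
theorem F64819 : act 5 n42004 = n22994 := d21_2 (iv5 F63198) D42004 F36053 (iv1 F36314) F63305 F17955 D19780 F63236 (iv6 D23047) D23044
theorem F64820 : act 6 n42004 = n19809 := d21_5 (iv5 F63313) (iv1 F31571) (iv5 D19801) D19802 D42004 F63242 F63188 (iv5 D5029) D5030 D11041
theorem F64821 : act 2 n19811 = n42004 := d15_3 (iv0 D42004) F63360 (iv7 F63320)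
theorem F64822 : act 7 n42004 = n21531 := d4_2 (iv7 F63320) F64821 F62834
theorem E7104 : n21531 = n19812 := ((c15_2 (iv0 D19811) D19812 (iv7 F64822) (iv2 F64821))).symm
theorem F64823 : act 2 n19812 = n10358 := (sb E7104 F62834)
theorem F64824 : act 3 n19812 = n41509 := (sb E7104 (iv3 F64024))
theorem F64825 : act 5 n19812 = n10875 := (sb E7104 F33867)
theorem F64826 : act 6 n19812 = n10280 := (sb E7104 (iv6 D21531))
theorem F64827 : act 7 n19812 = n42004 := (sb E7104 (iv7 F64822))
theorem F64828 : act 1 n19814 = n42004 := d15_1 (iv0 F63258) (iv7 F64827) F64823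
def n42005 : Q := act 7 n19802
theorem D42005 : act 7 n19802 = n42005 := rfl
theorem F64831 : act 6 n42005 = n41966 := d14_1 D42005 (iv7 D41966) (iv6 D19770) (iv7 F16108) D19802
theorem F64832 : act 1 n19812 = n42005 := d15_1 D19812 (iv7 D42005) F31572
theorem F64833 : act 1 n42005 = n19811 := d15_1 F64832 F63320 (iv2 F64823)
def n42006 : Q := act 3 n19804
theorem D42006 : act 3 n19804 = n42006 := rfl
theorem F64834 : act 7 n42006 = n21669 := d8_2 (iv7 F35820) D42006 F34118
def n42007 : Q := act 5 n19804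
theorem D42007 : act 5 n19804 = n42007 := rfl
theorem F64835 : act 2 n42007 = n41969 := d2_1 D42007 (iv5 D41969) F35859
theorem F64836 : act 7 n42007 = n21673 := d13_2 (iv7 F35820) D42007 (iv5 D21673)
theorem F64837 : act 0 n42007 = n23536 := d17_2 (iv1 F31575) D42007 (iv5 D23536) F17901 (iv5 F7448) D5043 F35838 F16113 D19768
theorem F64838 : act 1 n41969 = n23550 := d15_0 F36661 (iv7 F64836) F64835
theorem F64839 : act 0 n40993 = n40860 := d17_0 (iv5 D40860) F36643 (iv5 F64754) (iv4 D41968) D41969 F64838 (iv5 D23550) (iv0 F62974) (iv4 F62971)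
def n42008 : Q := act 5 n19805
theorem D42008 : act 5 n19805 = n42008 := rfl
theorem F64840 : act 3 n42008 = n19806 := d6_1 D42008 (iv5 D19806) D19805
theorem F64841 : act 7 n42008 = n41970 := d13_2 (iv7 F31577) D42008 (iv5 D41970)
def n42009 : Q := act 6 n19805
theorem D42009 : act 6 n19805 = n42009 := rfl
theorem F64842 : act 3 n42009 = n19807 := d7_1 D42009 (iv6 D19807) D19805
theorem F64843 : act 4 n42009 = n19819 := d10_1 D42009 (iv6 D19819) (iv4 F31576)
theorem F64844 : act 7 n42009 = n41983 := d14_2 (iv7 F31577) D42009 (iv6 D41983) (iv7 F31584) F31583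
def n42010 : Q := act 0 n19806
theorem D42010 : act 0 n19806 = n42010 := rfl
theorem F64845 : act 1 n41961 = n42010 := d15_0 (iv0 D42010) F31578 (iv2 F64732)
theorem F64846 : act 5 n42010 = n23547 := d17_7 D11037 (iv5 F63284) (iv1 F31580) (iv5 D19769) D19768 D41961 F64845 (iv0 D23547) (iv4 D11039)
theorem F64847 : act 2 n41972 = n42010 := d2_3 F64846 (iv2 F63026) (iv5 F64761)
theorem F64848 : act 7 n41971 = n42010 := d13_0 F64846 F63025 (iv5 F64760)
def n42011 : Q := act 1 n19806
theorem D42011 : act 1 n19806 = n42011 := rfl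
theorem F64849 : act 1 n42011 = n41961 := d15_1 D42011 (iv7 F64809) F64808
theorem F64850 : act 7 n42011 = n41972 := d15_2 (iv0 D42010) D42011 F64847
theorem F64851 : act 5 n42011 = n23188 := d17_7 F63228 (iv5 F63242) (iv1 D19809) (iv5 D9304) D9303 D19806 D42011 F62975 F36630
theorem F64852 : act 2 n41971 = n42011 := d2_3 F64851 F63023 (iv5 F64760)
def n42012 : Q := act 4 n19806
theorem D42012 : act 4 n19806 = n42012 := rfl
theorem F64853 : act 7 n42012 = n41973 := d11_2 (iv7 F31578) D42012 (iv4 D41973)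
def n42013 : Q := act 6 n19806
theorem D42013 : act 6 n19806 = n42013 := rfl
def n42014 : Q := act 0 n19807
theorem D42014 : act 0 n19807 = n42014 := rfl
theorem F64854 : act 6 n42014 = n41981 := d21_5 (iv5 F64851) (iv1 D42011) (iv5 D19806) D19807 D42014 F64767 (iv1 F36753) (iv5 D23518) D23519 (iv1 F62975)
def n42015 : Q := act 1 n19807
theorem D42015 : act 1 n19807 = n42015 := rfl
theorem F64855 : act 4 n20962 = n42015 := d20_6 (iv4 F15404) (iv1 F15549) (iv4 F15838) (iv3 F35712) (iv1 D20976) (iv3 F33143) (iv1 D42015) F31579 F14492 D9310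
theorem F64856 : act 2 n42015 = n21689 := d1_1 F64855 (iv4 F62908) (iv2 F62922)
theorem F64857 : act 6 n42015 = n20960 := d10_2 D20962 F64855 (iv4 D20960)
theorem F64858 : act 5 n42015 = n23023 := d21_6 (iv5 F16011) (iv1 F16277) (iv5 D10278) D10279 F33141 (iv6 F64857) (iv1 D23023) (iv5 D10862) (iv6 D4951) D4948
def n42016 : Q := act 5 n19807
theorem D42016 : act 5 n19807 = n42016 := rfl
def n42017 : Q := act 7 n19807
theorem D42017 : act 7 n19807 = n42017 := rfl
theorem F64859 : act 3 n42017 = n41983 := d8_1 D42017 (iv7 F64844) F64842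
theorem F64860 : act 4 n42017 = n19814 := d11_1 D42017 (iv7 D19814) (iv4 F31579)
theorem F64861 : act 6 n42017 = n41978 := d14_1 D42017 (iv7 D41978) (iv6 D19775) (iv7 F16109) D19807
def n42018 : Q := act 4 n19808
theorem D42018 : act 4 n19808 = n42018 := rfl
theorem F64862 : act 2 n42018 = n21734 := d1_1 D42018 F34180 (iv2 F63285)
theorem F64863 : act 6 n42018 = n21533 := d10_2 (iv6 F63287) D42018 (iv4 D21533)
theorem F64864 : act 7 n42018 = n41980 := d11_2 F63314 D42018 (iv4 D41980)
def n42019 : Q := act 4 n19809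
theorem D42019 : act 4 n19809 = n42019 := rfl
theorem F64865 : act 2 n42019 = n41980 := d1_1 D42019 (iv4 D41980) (iv2 F63316)
theorem F64866 : act 7 n42019 = n21734 := d11_2 (iv7 F63317) D42019 F34180
def n42020 : Q := act 0 n19810
theorem D42020 : act 0 n19810 = n42020 := rfl
theorem F64867 : act 5 n42020 = n23530 := d17_1 D42020 (iv1 F36736) (iv5 D23610) (iv4 D11063) F17898 F17902 (iv5 F63284) (iv0 D19808) D19810
theorem F64868 : act 1 n41963 = n42020 := d15_0 (iv0 D42020) F31584 (iv2 F64735)
theorem F64869 : act 6 n42020 = n21524 := d21_3 D11035 D23530 (iv5 F64867) (iv1 D21524) (iv6 D10279) D10278 F16276 F16012 D10857 F35640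
theorem F64870 : act 2 n21693 = n42020 := d3_3 F64869 F35948 D21693
theorem F64871 : act 2 n23530 = n23620 := d2_3 F36755 F64870 F64867
theorem F64872 : act 7 n41981 = n42020 := d15_2 (iv0 F64817) F64818 (iv2 F64870)
theorem F64873 : act 7 n23530 = n23619 := d13_2 F64872 F64867 (iv5 F64767)
theorem F64874 : act 7 n21689 = n42014 := d14_4 F64872 F64869 F35949 D21689 F64854
theorem F64875 : act 2 n23619 = n23531 := d15_3 F36735 F36736 F64873
theorem F64876 : act 7 n23620 = n23531 := d4_2 (iv7 F64873) F64871 (iv2 F64875)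
def n42021 : Q := act 1 n19810
theorem D42021 : act 1 n19810 = n42021 := rfl
theorem F64877 : act 1 n42021 = n41963 := d15_1 D42021 (iv7 F64816) F64814
theorem F64878 : act 7 n42021 = n21693 := d15_2 (iv0 D42020) D42021 F64870
theorem F64879 : act 2 n41981 = n42021 := d4_3 F64878 F64870 (iv7 F64872)
theorem F64880 : act 5 n23531 = n42021 := d13_3 F64878 (iv5 F36755) F64876
def n42022 : Q := act 5 n19810
theorem D42022 : act 5 n19810 = n42022 := rfl
theorem F64881 : act 3 n42022 = n41977 := d6_1 D42022 (iv5 D41977) (iv3 F31582)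
theorem F64882 : act 7 n42022 = n41982 := d13_2 (iv7 F31584) D42022 (iv5 D41982)
theorem F64883 : act 1 n42022 = n23613 := d17_6 (iv1 F7486) F35838 (iv1 D9301) D9304 D19810 D42022 (iv5 D23613) F17932 (iv4 D11029)
theorem F64884 : act 0 n42022 = n23168 := d21_7 D10848 F17639 (iv5 D10171) D10172 (iv1 F35802) (iv6 F31583) D42022 (iv5 D23168) (iv6 D10909) (iv1 F7391)
def n42023 : Q := act 3 n19811
theorem D42023 : act 3 n19811 = n42023 := rfl
theorem F64885 : act 5 n42023 = n23068 := d6_2 (iv5 F63318) D42023 (iv3 D23068)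
theorem F64886 : act 6 n42023 = n41979 := d7_2 (iv6 F63319) D42023 (iv3 D41979)
theorem F64887 : act 7 n42023 = n21708 := d8_2 (iv7 F63320) D42023 F34157
def n42024 : Q := act 4 n19811
theorem D42024 : act 4 n19811 = n42024 := rfl
theorem F64888 : act 6 n42024 = n41980 := d10_2 (iv6 F63319) D42024 (iv4 D41980)
theorem F64889 : act 7 n42024 = n21714 := d11_2 (iv7 F63320) D42024 F34161
def n42025 : Q := act 4 n19812
theorem D42025 : act 4 n19812 = n42025 := rfl
theorem F64890 : act 2 n42025 = n21714 := d1_1 D42025 F34161 (iv2 F64823)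
theorem F64891 : act 6 n42025 = n21529 := d10_2 (iv6 F64826) D42025 (iv4 D21529)
def n42026 : Q := act 4 n19813
theorem D42026 : act 4 n19813 = n42026 := rfl
theorem F64892 : act 6 n42026 = n41991 := d10_2 (iv6 F31586) D42026 (iv4 D41991)
def n42027 : Q := act 0 n19818
theorem D42027 : act 0 n19818 = n42027 := rfl
theorem F64893 : act 5 n42027 = n21360 := d21_2 D19818 D42027 (iv6 D21360) D21357 F63196 (iv5 D11030) (iv1 F7486) F35838 (iv6 F63204) (iv1 F63239)
theorem F64894 : act 2 n23241 = n42027 := d15_3 (iv0 D42027) F63282 F36331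
theorem F64895 : act 1 n21624 = n42027 := d15_0 (iv0 D42027) F31596 (iv2 F63274)
theorem F64896 : act 7 n42027 = n41990 := d15_2 (iv0 F36121) F64895 (iv2 F64787)
theorem F64897 : act 6 n21364 = n42027 := d21_3 F63304 F63235 D21364 (iv1 F64895) F36095 (iv5 F63198) D42004 F64819 F36053 (iv1 F36314)
def n42028 : Q := act 4 n19818
theorem D42028 : act 4 n19818 = n42028 := rfl
theorem F64898 : act 7 n42028 = n41991 := d11_2 (iv7 F31596) D42028 (iv4 D41991)
def n42029 : Q := act 3 n19820
theorem D42029 : act 3 n19820 = n42029 := rfl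
def n42034 : Q := act 2 n19823
theorem D42034 : act 2 n19823 = n42034 := rfl
theorem F64905 : act 3 n42034 = n42034 := d0_2 D19823 D42034 (iv2 D42034) (iv3 D19823) F16098
theorem F64906 : act 5 n42034 = n23591 := d2_2 (iv5 F31609) D42034 (iv2 D23591)
def n42035 : Q := act 4 n19823
theorem D42035 : act 4 n19823 = n42035 := rfl
def n42037 : Q := act 0 n19825
theorem D42037 : act 0 n19825 = n42037 := rfl
theorem F64909 : act 1 n42034 = n42037 := d15_0 (iv0 D42037) F31615 D42034
def n42038 : Q := act 1 n19825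
theorem D42038 : act 1 n19825 = n42038 := rfl
def n42040 : Q := act 4 n19825
theorem D42040 : act 4 n19825 = n42040 := rfl
theorem F64916 : act 7 n42040 = n42035 := d11_2 (iv7 F31615) D42040 (iv4 D42035)
def n42041 : Q := act 6 n19825
theorem D42041 : act 6 n19825 = n42041 := rfl
theorem F64918 : act 5 n42041 = n23579 := d12_1 D42041 (iv6 D23579) (iv5 D11046) D11047 (iv5 F31614)
def n42046 : Q := act 2 n19828
theorem D42046 : act 2 n19828 = n42046 := rfl
def n42047 : Q := act 3 n19828
theorem D42047 : act 3 n19828 = n42047 := rfl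
theorem F64927 : act 4 n42047 = n41287 := d20_6 (iv4 D4005) (iv1 F3054) D4207 D9327 D19828 D42047 (iv1 D41287) F31080 (iv3 D9143) F6013
def n42048 : Q := act 4 n19828
theorem D42048 : act 4 n19828 = n42048 := rfl
def n42049 : Q := act 5 n19828
theorem D42049 : act 5 n19828 = n42049 := rfl
def n42052 : Q := act 3 n19829
theorem D42052 : act 3 n19829 = n42052 := rfl
def n42053 : Q := act 4 n19829
theorem D42053 : act 4 n19829 = n42053 := rfl
def n42054 : Q := act 5 n19829
theorem D42054 : act 5 n19829 = n42054 := rfl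
def n42056 : Q := act 0 n19831
theorem D42056 : act 0 n19831 = n42056 := rfl
def n42057 : Q := act 1 n19831
theorem D42057 : act 1 n19831 = n42057 := rfl
theorem F64929 : act 1 n42057 = n40310 := d15_1 D42057 (iv7 D40310) (iv2 F31626)
def n42058 : Q := act 7 n19831
theorem D42058 : act 7 n19831 = n42058 := rfl
theorem F64930 : act 2 n42058 = n40310 := d4_1 D42058 (iv7 D40310) (iv2 F31626)
theorem F64932 : act 1 n40310 = n42056 := d15_0 (iv0 D42056) D42058 F64930
theorem F64933 : act 1 n40308 = n42058 := d15_1 D40308 (iv7 D42058) F31626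
theorem F64934 : act 1 n42058 = n40307 := d15_0 (iv0 D40307) D40310 (iv2 F64930)
def n42059 : Q := act 0 n19834
theorem D42059 : act 0 n19834 = n42059 := rfl
theorem F64935 : act 4 n42059 = n19859 := d18_3 F14525 D19834 D42059 (iv5 D19859) (iv4 F30169) (iv0 F30171) F13903 F7025 D8998
theorem F64936 : act 2 n40302 = n42059 := d15_3 (iv0 D42059) (iv0 F33743) F61358
theorem F64937 : act 1 n19840 = n42059 := d15_0 (iv0 D42059) F31634 (iv2 F31648)
theorem F64938 : act 7 n42059 = n40303 := d15_2 F33744 F64937 F61361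
def n42060 : Q := act 3 n19834
theorem D42060 : act 3 n19834 = n42060 := rfl
theorem F64939 : act 7 n42060 = n41274 := d8_2 (iv7 F31634) D42060 (iv3 D41274)
def n42061 : Q := act 5 n19834
theorem D42061 : act 5 n19834 = n42061 := rfl
theorem F64940 : act 2 n42061 = n40305 := d2_1 D42061 (iv5 D40305) (iv2 F31633)
theorem F64941 : act 7 n42061 = n41275 := d13_2 (iv7 F31634) D42061 (iv5 D41275)
def n42062 : Q := act 3 n19835
theorem D42062 : act 3 n19835 = n42062 := rfl
theorem F64942 : act 4 n42062 = n42062 := d5_2 D19835 D42062 (iv3 D42062) (iv4 D19835) F14527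
theorem F64943 : act 7 n42062 = n40538 := d8_2 (iv7 F31636) D42062 (iv3 D40538)
def n42063 : Q := act 5 n19835
theorem D42063 : act 5 n19835 = n42063 := rfl
theorem F64944 : act 2 n42063 = n19844 := d2_1 D42063 (iv5 D19844) (iv2 F31635)
theorem F64945 : act 4 n42063 = n35810 := d9_1 D42063 (iv5 D35810) (iv4 D17348) F12888 F5920 D4092 D9111 D19421 D41292 F63612 (iv4 D36412) (iv5 D17583) F13028 D9333 D19835
theorem F64946 : act 7 n42063 = n40539 := d13_2 (iv7 F31636) D42063 (iv5 D40539)
theorem F64947 : act 0 n42063 = n41291 := d17_2 (iv1 F31638) D42063 F63610 F32125 (iv5 D19710) (iv0 F14562) D19859 (iv0 F31700) F31158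
theorem F64948 : act 1 n42063 = n41290 := d17_6 (iv1 F17553) (iv5 D9105) (iv1 F6123) D9333 D19835 D42063 F63609 (iv0 D20254) (iv4 D9577)
def n42064 : Q := act 6 n19836
theorem D42064 : act 6 n19836 = n42064 := rfl
theorem F64949 : act 2 n42064 = n41268 := d3_1 D42064 (iv6 D41268) (iv2 F31639)
def n42065 : Q := act 3 n19837
theorem D42065 : act 3 n19837 = n42065 := rfl
theorem F64950 : act 7 n42065 = n41264 := d8_2 (iv7 F31642) D42065 (iv3 D41264)
def n42066 : Q := act 5 n19837
theorem D42066 : act 5 n19837 = n42066 := rfl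
theorem F64951 : act 2 n42066 = n41270 := d2_1 D42066 (iv5 D41270) (iv2 F31641)
def n42067 : Q := act 6 n19837
theorem D42067 : act 6 n19837 = n42067 := rfl
theorem F64953 : act 2 n42067 = n41271 := d3_1 D42067 (iv6 D41271) (iv2 F31641)
theorem F64954 : act 4 n42067 = n19838 := d10_1 D42067 (iv6 D19838) D19837
def n42068 : Q := act 0 n19838
theorem D42068 : act 0 n19838 = n42068 := rfl
theorem F64955 : act 6 n42068 = n23357 := d21_5 (iv5 D4221) D4219 D9335 D19838 D42068 (iv5 D23357) (iv1 D10970) D10971 F17825 F14524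
theorem F64956 : act 2 n40953 = n42068 := d3_3 F64955 F62282 D40953
theorem F64958 : act 7 n41272 = n42068 := d15_2 (iv0 F62041) D41272 (iv2 F64956)
def n42069 : Q := act 1 n19838
theorem D42069 : act 1 n19838 = n42069 := rfl
theorem F64960 : act 7 n42069 = n40953 := d15_2 (iv0 D42068) D42069 F64956
theorem F64961 : act 5 n41056 = n42069 := d21_6 (iv5 D8998) (iv1 F7025) D8930 (iv6 F14155) D19325 D41056 (iv1 D42069) (iv5 F31651) (iv6 D19841) (iv1 F14537)
theorem F64962 : act 6 n42069 = n23395 := d12_2 D41056 F64961 F62250 (iv6 F62245) (iv5 D41055)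
theorem F64963 : act 2 n41272 = n42069 := d4_3 F64960 F64956 (iv7 F64958)
def n42070 : Q := act 7 n19838
theorem D42070 : act 7 n19838 = n42070 := rfl
theorem F64965 : act 5 n42070 = n40969 := d13_1 D42070 F62113 F31651
theorem F64967 : act 1 n41272 = n42070 := d15_1 D41272 (iv7 D42070) F31643
theorem F64968 : act 1 n42070 = n40953 := d15_1 F64967 (iv7 F64960) (iv2 F64963)
def n42071 : Q := act 6 n19839
theorem D42071 : act 6 n19839 = n42071 := rfl
theorem F64969 : act 3 n42071 = n19841 := d7_1 D42071 (iv6 D19841) D19839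
theorem F64970 : act 4 n42071 = n22971 := d10_1 D42071 (iv6 D22971) (iv4 F31646)
theorem F64971 : act 5 n42071 = n38862 := d12_1 D42071 (iv6 D38862) (iv5 D18466) (iv6 F17544) (iv5 F31644)
def n42072 : Q := act 3 n19840
theorem D42072 : act 3 n19840 = n42072 := rfl
theorem F64972 : act 4 n42072 = n22969 := d5_2 D19840 D42072 (iv3 D22969) (iv4 F31646) (iv3 D19839)
theorem F64973 : act 7 n42072 = n40304 := d8_2 (iv7 F31649) D42072 (iv3 D40304)
def n42073 : Q := act 5 n19840
theorem D42073 : act 5 n19840 = n42073 := rfl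
theorem F64974 : act 2 n42073 = n41275 := d2_1 D42073 (iv5 D41275) (iv2 F31648)
theorem F64975 : act 7 n42073 = n40305 := d13_2 (iv7 F31649) D42073 (iv5 D40305)
def n42074 : Q := act 6 n19840
theorem D42074 : act 6 n19840 = n42074 := rfl
theorem F64976 : act 2 n42074 = n41276 := d3_1 D42074 (iv6 D41276) (iv2 F31648)
theorem F64977 : act 4 n42074 = n19841 := d10_1 D42074 (iv6 D19841) D19840
def n42076 : Q := act 1 n19841
theorem D42076 : act 1 n19841 = n42076 := rfl
def n42077 : Q := act 3 n19842
theorem D42077 : act 3 n19842 = n42077 := rfl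
theorem F64980 : act 7 n42077 = n41280 := d8_2 (iv7 F31654) D42077 (iv3 D41280)
def n42078 : Q := act 5 n19842
theorem D42078 : act 5 n19842 = n42078 := rfl
def n42079 : Q := act 6 n19842
theorem D42079 : act 6 n19842 = n42079 := rfl
theorem F64984 : act 2 n42079 = n41285 := d3_1 D42079 (iv6 D41285) F31652
def n42080 : Q := act 0 n19843
theorem D42080 : act 0 n19843 = n42080 := rfl
theorem F64985 : act 1 n41288 = n42080 := d15_0 (iv0 D42080) F31656 D41288
def n42081 : Q := act 1 n19843
theorem D42081 : act 1 n19843 = n42081 := rfl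
theorem F64986 : act 4 n23699 = n42081 := d20_6 (iv4 D5072) (iv1 D2076) D2077 D5074 D11096 D23699 (iv1 D42081) F31655 (iv3 D9338) (iv1 F7528)
def n42082 : Q := act 2 n19843
theorem D42082 : act 2 n19843 = n42082 := rfl
theorem F64987 : act 4 n42082 = n19847 := d1_2 (iv4 F31655) D42082 (iv2 D19847)
theorem F64988 : act 7 n42082 = n41288 := d4_2 (iv7 F31656) D42082 (iv2 D41288)
theorem F64989 : act 1 n42082 = n41286 := d15_0 (iv0 D41286) (iv7 F31656) D42082
theorem F64990 : act 1 n42081 = n41288 := d15_1 D42081 (iv7 F64988) (iv2 D42082)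
theorem F64991 : act 1 n41287 = n42082 := d15_1 D41287 F64988 (iv2 D41288)
def n42083 : Q := act 5 n19843
theorem D42083 : act 5 n19843 = n42083 := rfl
theorem F64992 : act 3 n42083 = n19844 := d6_1 D42083 (iv5 D19844) D19843
theorem F64993 : act 7 n42083 = n41289 := d13_2 (iv7 F31656) D42083 (iv5 D41289)
def n42084 : Q := act 0 n19844
theorem D42084 : act 0 n19844 = n42084 := rfl
theorem F64994 : act 5 n42084 = n20280 := d17_3 F31176 D19844 D42084 (iv4 F57158) (iv5 D36411) (iv0 F28564) D19136 (iv0 F30751) D19484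
theorem F64995 : act 1 n40539 = n42084 := d15_0 (iv0 D42084) F31657 (iv2 F61664)
theorem F64996 : act 2 n41291 = n42084 := d2_3 F64994 (iv2 F32180) (iv5 F63610)
theorem F64997 : act 7 n41290 = n42084 := d13_0 F64994 F32181 (iv5 F63609)
def n42085 : Q := act 1 n19844
theorem D42085 : act 1 n19844 = n42085 := rfl
theorem F64998 : act 1 n42085 = n40539 := d15_1 D42085 (iv7 F64946) F64944
theorem F64999 : act 7 n42085 = n41291 := d15_2 (iv0 D42084) D42085 F64996
theorem F65000 : act 5 n42085 = n20281 := d17_7 (iv1 F17549) (iv5 D8930) F7024 D4221 D9337 D19844 D42085 F32176 (iv4 D20250)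
theorem F65001 : act 2 n41290 = n42085 := d2_3 F65000 F32179 (iv5 F63609)
def n42086 : Q := act 4 n19844
theorem D42086 : act 4 n19844 = n42086 := rfl
theorem F65002 : act 2 n42086 = n35810 := d1_1 D42086 (iv4 F64945) F64944
theorem F65003 : act 5 n42086 = n35805 := d9_2 D19844 D42086 (iv4 D35805) F28280 F13823 D8998 D19151 D40539 F61665 (iv5 D36422) (iv4 D17586) (iv5 D8258) F5714 D4221 D9337
theorem F65004 : act 7 n42086 = n41292 := d11_2 (iv7 F31657) D42086 (iv4 D41292)
def n42087 : Q := act 6 n19844
theorem D42087 : act 6 n19844 = n42087 := rfl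
def n42089 : Q := act 3 n19845
theorem D42089 : act 3 n19845 = n42089 := rfl
theorem F65006 : act 4 n42089 = n22973 := d20_6 (iv4 D1829) (iv1 F3067) D4222 D9338 D19845 D42089 (iv1 D22973) F17636 (iv3 D5074) F3384
def n42090 : Q := act 4 n19845
theorem D42090 : act 4 n19845 = n42090 := rfl
def n42091 : Q := act 5 n19845
theorem D42091 : act 5 n19845 = n42091 := rfl
def n42094 : Q := act 3 n19846
theorem D42094 : act 3 n19846 = n42094 := rfl
def n42095 : Q := act 4 n19846
theorem D42095 : act 4 n19846 = n42095 := rfl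
def n42096 : Q := act 5 n19846
theorem D42096 : act 5 n19846 = n42096 := rfl
def n42098 : Q := act 0 n19848
theorem D42098 : act 0 n19848 = n42098 := rfl
def n42099 : Q := act 1 n19848
theorem D42099 : act 1 n19848 = n42099 := rfl
theorem F65008 : act 1 n42099 = n23341 := d15_1 D42099 (iv7 D23341) (iv2 F31665)
def n42100 : Q := act 5 n19848
theorem D42100 : act 5 n19848 = n42100 := rfl
theorem F65010 : act 3 n42100 = n22610 := d6_1 D42100 (iv5 D22610) (iv3 F31666)
theorem F65011 : act 6 n42100 = n19850 := d12_2 D19848 D42100 (iv5 D19850) (iv6 D9340) D9339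
theorem F65012 : act 0 n42100 = n20087 := d21_4 F32692 (iv1 D19849) D19850 (iv6 F65011) F62977 (iv5 D40992) (iv1 D19303) D19304 F30958 (iv1 F32694)
def n42101 : Q := act 7 n19848
theorem D42101 : act 7 n19848 = n42101 := rfl
theorem F65013 : act 2 n42101 = n23341 := d4_1 D42101 (iv7 D23341) (iv2 F31665)
theorem F65014 : act 3 n42101 = n22611 := d8_1 D42101 (iv7 D22611) (iv3 F31666)
theorem F65015 : act 6 n42101 = n40973 := d14_1 D42101 (iv7 D40973) (iv6 D19298) (iv7 F14544) D19848
theorem F65016 : act 1 n23341 = n42098 := d15_0 (iv0 D42098) D42101 F65013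
theorem F65017 : act 1 n23339 = n42101 := d15_1 D23339 (iv7 D42101) F31665
theorem F65018 : act 1 n42101 = n23338 := d15_0 (iv0 D23338) D23341 (iv2 F65013)
def n42102 : Q := act 5 n19853
theorem D42102 : act 5 n19853 = n42102 := rfl
theorem F65019 : act 3 n42102 = n41890 := d6_1 D42102 (iv5 D41890) F61503
theorem F65020 : act 7 n42102 = n41906 := d13_2 F63463 D42102 (iv5 D41906)
def n42103 : Q := act 5 n19854
theorem D42103 : act 5 n19854 = n42103 := rfl
theorem F65021 : act 2 n42103 = n41906 := d2_1 D42103 (iv5 D41906) F63469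
def n42104 : Q := act 6 n19854
theorem D42104 : act 6 n19854 = n42104 := rfl
theorem F65022 : act 2 n42104 = n41907 := d3_1 D42104 (iv6 D41907) F63469
def n42105 : Q := act 0 n19855
theorem D42105 : act 0 n19855 = n42105 := rfl
def n42106 : Q := act 1 n19855
theorem D42106 : act 1 n19855 = n42106 := rfl
def n42107 : Q := act 4 n19855
theorem D42107 : act 4 n19855 = n42107 := rfl
theorem F65023 : act 2 n42107 = n40471 := d1_1 D42107 F61797 F61794
theorem F65024 : act 6 n42107 = n19858 := d10_2 (iv6 F31687) D42107 (iv4 D19858)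
def n42108 : Q := act 7 n19855
theorem D42108 : act 7 n19855 = n42108 := rfl
theorem F65026 : act 5 n42108 = n19856 := d13_1 D42108 (iv7 D19856) D19855
def n42109 : Q := act 3 n19858
theorem D42109 : act 3 n19858 = n42109 := rfl
theorem F65027 : act 4 n42109 = n19897 := d5_2 D19858 D42109 (iv3 D19897) (iv4 D9363) (iv3 F14556)
theorem F65028 : act 7 n42109 = n40472 := d8_2 (iv7 F31693) D42109 (iv3 D40472)
def n42110 : Q := act 5 n19858
theorem D42110 : act 5 n19858 = n42110 := rfl
theorem F65029 : act 2 n42110 = n40470 := d2_1 D42110 (iv5 D40470) (iv2 F31692)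
theorem F65030 : act 7 n42110 = n40473 := d13_2 (iv7 F31693) D42110 (iv5 D40473)
theorem F65031 : act 4 n42110 = n37219 := d16_2 D19858 D42110 (iv5 D37219) (iv4 D17894) (iv5 D8441) (iv4 F13249) D17883 (iv7 F31683) F31682
theorem F65032 : act 0 n42110 = n23673 := d17_2 (iv1 F31695) D42110 (iv5 D23673) (iv4 D11085) (iv5 D5068) (iv0 F7509) D8989 F16808 D19117
theorem F65033 : act 1 n42110 = n40500 := d17_6 F31912 (iv5 D19857) (iv1 D9344) D9345 D19858 D42110 (iv5 D40500) F36813 F36811
def n42111 : Q := act 5 n19860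
theorem D42111 : act 5 n19860 = n42111 := rfl
def n42112 : Q := act 0 n19862
theorem D42112 : act 0 n19862 = n42112 := rfl
def n42113 : Q := act 1 n19862
theorem D42113 : act 1 n19862 = n42113 := rfl
def n42114 : Q := act 7 n19862
theorem D42114 : act 7 n19862 = n42114 := rfl
theorem F65034 : act 5 n42114 = n19863 := d13_1 D42114 (iv7 D19863) D19862
def n42115 : Q := act 6 n19864
theorem D42115 : act 6 n19864 = n42115 := rfl
theorem F65035 : act 2 n42115 = n22952 := d3_1 D42115 (iv6 D22952) (iv2 F31702)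
def n42116 : Q := act 6 n19865
theorem D42116 : act 6 n19865 = n42116 := rfl
theorem F65036 : act 2 n42116 = n22959 := d3_1 D42116 (iv6 D22959) F31707
theorem F65037 : act 5 n42116 = n42115 := d12_1 D42116 (iv6 D42115) (iv5 D19864) F17574 (iv5 F31706)
def n42117 : Q := act 6 n19866
theorem D42117 : act 6 n19866 = n42117 := rfl
theorem F65038 : act 3 n42117 = n19868 := d7_1 D42117 (iv6 D19868) D19866
theorem F65039 : act 4 n42117 = n40370 := d10_1 D42117 (iv6 D40370) (iv4 F31709)
def n42118 : Q := act 6 n19867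
theorem D42118 : act 6 n19867 = n42118 := rfl
theorem F65040 : act 2 n42118 = n22072 := d3_1 D42118 (iv6 D22072) (iv2 F31711)
theorem F65041 : act 7 n25336 = n42118 := d15_2 F55475 D25336 F65040
theorem F65042 : act 2 n25336 = n33131 := d4_3 (iv7 F55477) (iv2 F65040) (iv7 F65041)
theorem F65043 : act 1 n42118 = n25337 := d15_0 (iv0 F52366) (iv7 F55477) (iv2 F65040)
theorem F65044 : act 3 n26511 = n25336 := d0_0 F65042 (iv3 D33131) (iv2 F52248) F52249 F50607
theorem F65045 : act 1 n25339 = n42118 := d15_1 (iv0 F52367) (iv7 F65041) F65042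
def n42119 : Q := act 5 n19868
theorem D42119 : act 5 n19868 = n42119 := rfl
theorem F65046 : act 2 n42119 = n22075 := d2_1 D42119 (iv5 D22075) (iv2 F31714)
def n42120 : Q := act 7 n19868
theorem D42120 : act 7 n19868 = n42120 := rfl
theorem F65047 : act 2 n42120 = n20964 := d4_1 D42120 F62672 (iv2 F31714)
theorem F65048 : act 4 n42120 = n22066 := d11_1 D42120 (iv7 D22066) (iv4 F31715)
theorem F65049 : act 1 n20910 = n42120 := d15_1 (iv0 F62904) (iv7 D42120) F31714
theorem F65050 : act 1 n42120 = n20906 := d15_1 F65049 F35909 (iv2 F35901)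
def n42121 : Q := act 6 n19869
theorem D42121 : act 6 n19869 = n42121 := rfl
def n42122 : Q := act 3 n19870
theorem D42122 : act 3 n19870 = n42122 := rfl
def n42123 : Q := act 6 n19870
theorem D42123 : act 6 n19870 = n42123 := rfl
def n42124 : Q := act 0 n19871
theorem D42124 : act 0 n19871 = n42124 := rfl
def n42125 : Q := act 1 n19871
theorem D42125 : act 1 n19871 = n42125 := rfl
def n42126 : Q := act 7 n19871
theorem D42126 : act 7 n19871 = n42126 := rfl
theorem F65051 : act 3 n42126 = n19876 := d8_1 D42126 (iv7 D19876) (iv3 F31716)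
def n42127 : Q := act 6 n19872
theorem D42127 : act 6 n19872 = n42127 := rfl
def n42128 : Q := act 3 n19873
theorem D42128 : act 3 n19873 = n42128 := rfl
def n42129 : Q := act 5 n19873
theorem D42129 : act 5 n19873 = n42129 := rfl
def n42130 : Q := act 3 n19874
theorem D42130 : act 3 n19874 = n42130 := rfl
theorem F65052 : act 0 n42130 = n19908 := d20_4 F33098 (iv1 F32437) (iv4 F63550) D42130 F31744 F14602 F35685 D19104 (iv3 F31495) F63424
def n42131 : Q := act 5 n19874
theorem D42131 : act 5 n19874 = n42131 := rfl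
def n42132 : Q := act 6 n19874
theorem D42132 : act 6 n19874 = n42132 := rfl
def n42133 : Q := act 0 n19875
theorem D42133 : act 0 n19875 = n42133 := rfl
def n42134 : Q := act 1 n19875
theorem D42134 : act 1 n19875 = n42134 := rfl
def n42135 : Q := act 4 n19875
theorem D42135 : act 4 n19875 = n42135 := rfl
def n42136 : Q := act 7 n19875
theorem D42136 : act 7 n19875 = n42136 := rfl
theorem F65053 : act 5 n42136 = n19876 := d13_1 D42136 (iv7 D19876) D19875
def n42137 : Q := act 3 n19879
theorem D42137 : act 3 n19879 = n42137 := rfl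
theorem F65054 : act 4 n42137 = n42137 := d5_2 D19879 D42137 (iv3 D42137) (iv4 D19879) F35696
def n42138 : Q := act 5 n19879
theorem D42138 : act 5 n19879 = n42138 := rfl
theorem F65055 : act 2 n42138 = n41927 := d2_1 D42138 (iv5 D41927) F35800
def n42139 : Q := act 6 n19879
theorem D42139 : act 6 n19879 = n42139 := rfl
theorem F65056 : act 2 n42139 = n40440 := d3_1 D42139 F61528 F35800
theorem F65057 : act 4 n42139 = n19881 := d10_1 D42139 (iv6 D19881) D19879
theorem F65058 : act 1 n20946 = n42139 := d17_8 F35809 (iv5 F35630) (iv1 D19444) (iv5 F14190) D9138 D19461 D41328 F63679 F65057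
def n42140 : Q := act 4 n19880
theorem D42140 : act 4 n19880 = n42140 := rfl
theorem F65059 : act 2 n42140 = n41929 := d1_1 D42140 (iv4 D41929) F35708
def n42143 : Q := act 4 n19887
theorem D42143 : act 4 n19887 = n42143 := rfl
def n42144 : Q := act 5 n19887
theorem D42144 : act 5 n19887 = n42144 := rfl
theorem F65061 : act 0 n42144 = n20085 := d21_1 D42144 (iv5 F32934) (iv6 D20602) (iv1 D9761) F6342 (iv5 D1854) F7074 D4247 (iv6 F14578) D19887
theorem F65062 : act 0 n19939 = n42144 := d21_10 (iv5 D42144) (iv1 F32488) F32483 F15147 F35662 D19112 (iv5 F32002) (iv1 F35813) (iv5 D19938) D19939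
def n42146 : Q := act 7 n19887
theorem D42146 : act 7 n19887 = n42146 := rfl
def n42148 : Q := act 4 n19888
theorem D42148 : act 4 n19888 = n42148 := rfl
theorem F65066 : act 0 n42148 = n20138 := d18_2 (iv1 F32486) D42148 F31972 (iv5 D19862) (iv4 F15684) (iv0 F63358) (iv4 D19745) (iv0 F35782) (iv5 F32483)
def n42150 : Q := act 0 n19889
theorem D42150 : act 0 n19889 = n42150 := rfl
def n42151 : Q := act 1 n19889
theorem D42151 : act 1 n19889 = n42151 := rfl
def n42152 : Q := act 3 n19889
theorem D42152 : act 3 n19889 = n42152 := rfl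
theorem F65067 : act 6 n42152 = n19897 := d7_2 (iv6 F31723) D42152 (iv3 D19897)
def n42153 : Q := act 5 n19889
theorem D42153 : act 5 n19889 = n42153 := rfl
def n42154 : Q := act 7 n19889
theorem D42154 : act 7 n19889 = n42154 := rfl
theorem F65068 : act 4 n42154 = n19890 := d11_1 D42154 (iv7 D19890) D19889
def n42155 : Q := act 3 n19891
theorem D42155 : act 3 n19891 = n42155 := rfl
theorem F65069 : act 4 n42155 = n42155 := d5_2 D19891 D42155 (iv3 D42155) (iv4 D19891) F14580
theorem F65070 : act 7 n42155 = n20469 := d8_2 (iv7 F31726) D42155 (iv3 D20469)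
def n42156 : Q := act 6 n19891
theorem D42156 : act 6 n19891 = n42156 := rfl
theorem F65071 : act 2 n42156 = n20642 := d3_1 D42156 (iv6 D20642) (iv2 F31725)
theorem F65072 : act 4 n42156 = n19892 := d10_1 D42156 (iv6 D19892) D19891
def n42157 : Q := act 1 n19892
theorem D42157 : act 1 n19892 = n42157 := rfl
theorem F65073 : act 1 n42157 = n20608 := d15_1 D42157 F32686 (iv2 F31729)
theorem F65074 : act 7 n42157 = n20643 := d15_2 (iv0 F31899) D42157 (iv2 F35761)
theorem F65075 : act 5 n20597 = n42157 := d21_6 F16828 (iv1 D1853) D1854 (iv6 F6342) D9760 D20597 (iv1 D42157) (iv5 F31737) (iv6 D19894) F16851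
theorem F65076 : act 2 n20644 = n42157 := d4_3 F65074 (iv2 F35761) (iv7 F35762)
def n42158 : Q := act 7 n19892
theorem D42158 : act 7 n19892 = n42158 := rfl
theorem F65079 : act 6 n42158 = n20468 := d14_1 D42158 (iv7 D20468) F15162 (iv7 F14581) D19892
theorem F65080 : act 1 n20644 = n42158 := d15_1 D20644 (iv7 D42158) F31729
theorem F65081 : act 1 n42158 = n20643 := d15_1 F65080 (iv7 F65074) (iv2 F65076)
def n42159 : Q := act 3 n19893
theorem D42159 : act 3 n19893 = n42159 := rfl
theorem F65082 : act 4 n42159 = n42159 := d5_2 D19893 D42159 (iv3 D42159) (iv4 D19893) F16350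
theorem F65083 : act 7 n42159 = n19946 := d8_2 (iv7 F31732) D42159 (iv3 D19946)
def n42160 : Q := act 6 n19893
theorem D42160 : act 6 n19893 = n42160 := rfl
theorem F65084 : act 2 n42160 = n20152 := d3_1 D42160 (iv6 D20152) (iv2 F31731)
theorem F65085 : act 4 n42160 = n19894 := d10_1 D42160 (iv6 D19894) D19893
def n42161 : Q := act 0 n19894
theorem D42161 : act 0 n19894 = n42161 := rfl
def n42162 : Q := act 1 n19894
theorem D42162 : act 1 n19894 = n42162 := rfl
def n42163 : Q := act 7 n19894
theorem D42163 : act 7 n19894 = n42163 := rfl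
theorem F65087 : act 2 n42163 = n20101 := d4_1 D42163 F31909 (iv2 F31735)
theorem F65089 : act 5 n42163 = n42158 := d13_1 D42163 (iv7 D42158) (iv5 F31737)
theorem F65090 : act 6 n42163 = n19943 := d14_1 D42163 (iv7 D19943) F14621 (iv7 F16854) D19894
theorem F65091 : act 1 n20101 = n42161 := d15_0 (iv0 D42161) D42163 F65087
theorem F65092 : act 1 n20154 = n42163 := d15_1 D20154 (iv7 D42163) F31735
theorem F65093 : act 1 n42163 = n20153 := d15_0 (iv0 D20153) (iv7 F31909) (iv2 F65087)
def n42164 : Q := act 3 n19895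
theorem D42164 : act 3 n19895 = n42164 := rfl
theorem F65094 : act 4 n42164 = n22960 := d5_2 (iv4 F31738) D42164 (iv3 D22960) (iv4 D10841) D10840
def n42165 : Q := act 5 n19895
theorem D42165 : act 5 n19895 = n42165 := rfl
theorem F65095 : act 0 n42165 = n20123 := d17_2 D19895 D42165 (iv5 D20123) (iv4 D9494) (iv5 D4295) F6178 (iv5 F16853) (iv0 D9361) D9363
theorem F65096 : act 1 n42165 = n20110 := d17_6 F31704 (iv5 D19118) (iv1 F17572) (iv5 F17632) (iv4 F31738) D42165 (iv5 D20110) D20108 F31927
def n42166 : Q := act 6 n19895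
theorem D42166 : act 6 n19895 = n42166 := rfl
theorem F65097 : act 4 n42166 = n22959 := d10_1 D42166 (iv6 D22959) (iv4 F31738)
def n42167 : Q := act 3 n19896
theorem D42167 : act 3 n19896 = n42167 := rfl
theorem F65098 : act 4 n42167 = n41280 := d5_2 F32373 D42167 (iv3 D41280) (iv4 F31158) (iv3 F32369)
def n42168 : Q := act 5 n19896
theorem D42168 : act 5 n19896 = n42168 := rfl
def n42169 : Q := act 6 n19896
theorem D42169 : act 6 n19896 = n42169 := rfl
def n42170 : Q := act 0 n19897
theorem D42170 : act 0 n19897 = n42170 := rfl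
def n42171 : Q := act 1 n19897
theorem D42171 : act 1 n19897 = n42171 := rfl
def n42172 : Q := act 2 n19897
theorem D42172 : act 2 n19897 = n42172 := rfl
def n42173 : Q := act 5 n19897
theorem D42173 : act 5 n19897 = n42173 := rfl
theorem F65101 : act 3 n42173 = n19898 := d6_1 D42173 (iv5 D19898) D19897
def n42174 : Q := act 0 n19898
theorem D42174 : act 0 n19898 = n42174 := rfl
theorem F65102 : act 5 n42174 = n20613 := d17_1 D42174 (iv1 F32704) D20624 (iv4 F32744) (iv5 D20630) (iv0 D9778) D9781 (iv0 F31974) F31973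
theorem F65103 : act 4 n42174 = n41425 := d18_3 F32755 F31973 D42174 (iv5 D41425) (iv4 D19511) (iv0 F30717) F30719 (iv0 F31727) (iv5 F32754)
theorem F65104 : act 1 n20131 = n42174 := d15_0 (iv0 D42174) (iv7 F32906) F32905
theorem F65105 : act 7 n41425 = n42174 := d13_0 F65102 (iv7 F32706) D41425
def n42175 : Q := act 1 n19898
theorem D42175 : act 1 n19898 = n42175 := rfl
theorem F65106 : act 1 n42175 = n20131 := d15_1 D42175 (iv7 F32499) F32498
theorem F65107 : act 5 n42175 = n20614 := d17_7 (iv1 D4420) (iv5 D1854) F7074 D4247 D9363 D19898 D42175 F32707 (iv4 D9776)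
theorem F65108 : act 2 n41425 = n42175 := d2_3 F65107 (iv2 F32710) D41425
def n42176 : Q := act 6 n19898
theorem D42176 : act 6 n19898 = n42176 := rfl
def n42177 : Q := act 6 n19905
theorem D42177 : act 6 n19905 = n42177 := rfl
def n42178 : Q := act 6 n19906
theorem D42178 : act 6 n19906 = n42178 := rfl
theorem F65109 : act 2 n42178 = n19908 := d3_1 D42178 (iv6 D19908) D19906
def n42179 : Q := act 0 n19908
theorem D42179 : act 0 n19908 = n42179 := rfl
def n42180 : Q := act 5 n19908
theorem D42180 : act 5 n19908 = n42180 := rfl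
theorem F65110 : act 3 n42180 = n19912 := d6_1 D42180 (iv5 D19912) (iv3 F31744)
theorem F65111 : act 6 n42180 = n26726 := d12_2 D19908 D42180 (iv5 D26726) F31854 (iv5 D19907)
def n42181 : Q := act 7 n19908
theorem D42181 : act 7 n19908 = n42181 := rfl
theorem F65112 : act 3 n42181 = n19913 := d8_1 D42181 (iv7 D19913) (iv3 F31744)
theorem F65113 : act 4 n42181 = n41794 := d11_1 D42181 F64453 F34480
def n42182 : Q := act 5 n19909
theorem D42182 : act 5 n19909 = n42182 := rfl
theorem F65114 : act 3 n42182 = n26726 := d6_1 D42182 (iv5 D26726) (iv3 F31855)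
theorem F65115 : act 6 n42182 = n19912 := d12_2 D19909 D42182 (iv5 D19912) (iv6 D9379) D9378
def n42183 : Q := act 3 n19910
theorem D42183 : act 3 n19910 = n42183 := rfl
theorem F65116 : act 4 n42183 = n40382 := d5_2 F63433 D42183 (iv3 D40382) (iv4 F63499) F63498
def n42184 : Q := act 5 n19910
theorem D42184 : act 5 n19910 = n42184 := rfl
def n42185 : Q := act 6 n19910
theorem D42185 : act 6 n19910 = n42185 := rfl
def n42186 : Q := act 0 n19912
theorem D42186 : act 0 n19912 = n42186 := rfl
def n42187 : Q := act 1 n19912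
theorem D42187 : act 1 n19912 = n42187 := rfl
theorem F65117 : act 5 n42187 = n22876 := d17_7 (iv1 F31094) (iv5 F31090) (iv1 F35606) F16782 (iv4 F14602) D19912 D42187 (iv0 F63633) (iv4 D41309)
def n42188 : Q := act 4 n19912
theorem D42188 : act 4 n19912 = n42188 := rfl
def n42189 : Q := act 7 n19912
theorem D42189 : act 7 n19912 = n42189 := rfl
theorem F65118 : act 5 n42189 = n19913 := d13_1 D42189 (iv7 D19913) D19912
def n42190 : Q := act 3 n19921
theorem D42190 : act 3 n19921 = n42190 := rfl
theorem F65119 : act 4 n42190 = n42190 := d5_2 D19921 D42190 (iv3 D42190) (iv4 D19921) F35691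
def n42191 : Q := act 5 n19921
theorem D42191 : act 5 n19921 = n42191 := rfl
theorem F65120 : act 2 n42191 = n40438 := d2_1 D42191 (iv5 D40438) F35704
def n42192 : Q := act 6 n19921
theorem D42192 : act 6 n19921 = n42192 := rfl
theorem F65121 : act 2 n42192 = n40439 := d3_1 D42192 (iv6 D40439) F35704
theorem F65122 : act 4 n42192 = n19922 := d10_1 D42192 (iv6 D19922) D19921
def n42193 : Q := act 0 n19922
theorem D42193 : act 0 n19922 = n42193 := rfl
theorem F65123 : act 5 n42193 = n19940 := d21_2 F31888 D42193 F31765 (iv1 F32665) F35850 F30693 F35686 F32944 (iv6 D20065) D20062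
theorem F65124 : act 6 n42193 = n20591 := d21_5 (iv5 F61512) (iv1 F61515) F31721 D19922 D42193 (iv5 D20591) F35610 (iv5 D9122) D9123 D19443
theorem F65125 : act 2 n20089 = n42193 := d15_3 (iv0 D42193) F35724 (iv7 F35915)
theorem F65126 : act 7 n42193 = n20094 := d4_2 (iv7 F35915) F65125 F35912
theorem E7105 : n40441 = n20094 := (c15_2 (iv0 F35808) D40441 (iv7 F65126) (iv2 F65125))
theorem F65127 : act 0 n20094 = n19112 := (sb E7105 (iv1 D40441))
theorem F65129 : act 1 n20976 = n42193 := d15_1 D20976 F65126 F35912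
def n42194 : Q := act 7 n19922
theorem D42194 : act 7 n19922 = n42194 := rfl
theorem F65132 : act 1 n20094 = n42194 := d15_1 (iv0 F65127) (iv7 D42194) (iv2 F35706)
theorem F65133 : act 1 n42194 = n20089 := d15_1 F65132 F35915 (iv2 F35912)
def n42195 : Q := act 2 n19923
theorem D42195 : act 2 n19923 = n42195 := rfl
theorem F65134 : act 7 n19923 = n42195 := d15_2 (iv0 D19923) F31748 (iv2 D42195)
def n42196 : Q := act 3 n19923
theorem D42196 : act 3 n19923 = n42196 := rfl
theorem F65135 : act 4 n42196 = n22673 := d20_6 (iv4 D4393) (iv1 F3136) D4263 D9397 D19923 D42196 (iv1 D22673) (iv4 F32538) (iv3 D20476) (iv1 D9722)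
theorem F65136 : act 2 n41066 = n42196 := d1_3 F65135 (iv2 F44843) D41066
theorem F65137 : act 7 n41069 = n42196 := d11_0 F65135 (iv7 F44845) D41069
theorem F65138 : act 0 n34938 = n42196 := d20_10 F65135 (iv1 D22673) (iv4 F32538) (iv3 D20476) (iv1 D9722) D9723 (iv4 F17653) D23005 F36066 (iv3 F55302)
theorem E7106 : n42195 = n20450 := (c8_3 F65137 (iv3 D42196) F65134 (iv3 F62304))
theorem F65139 : act 2 n20450 = n19923 := (sb E7106 (iv2 D42195))
theorem F65140 : act 7 n20450 = n19923 := (sb E7106 (iv7 F65134))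
def n42197 : Q := act 4 n19923
theorem D42197 : act 4 n19923 = n42197 := rfl
theorem F65141 : act 0 n34949 = n42197 := d20_10 (iv4 D42197) (iv1 F31748) F14613 (iv3 D9397) (iv1 F6336) D9740 (iv4 F15950) D21172 F33418 (iv3 F55316)
theorem F65142 : act 3 n22480 = n42197 := d20_5 F7078 (iv1 F7105) D4890 D10679 D22480 (iv4 D42197) (iv1 F31748) F14613 (iv3 D9397) (iv1 F6336)
def n42198 : Q := act 5 n19923
theorem D42198 : act 5 n19923 = n42198 := rfl
def n42199 : Q := act 6 n19923
theorem D42199 : act 6 n19923 = n42199 := rfl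
def n42200 : Q := act 0 n19924
theorem D42200 : act 0 n19924 = n42200 := rfl
theorem F65143 : act 1 n19924 = n42200 := d15_0 (iv0 D42200) (iv7 F31862) F31859
theorem F65144 : act 3 n26703 = n42200 := d20_3 (iv4 D32507) (iv1 F54151) F51508 (iv1 F65143) F31749 F14615 D9743 (iv4 F15221) (iv3 F32457) F51581
theorem F65145 : act 6 n42200 = n26702 := d7_2 D26703 F65144 (iv3 D26702)
def n42201 : Q := act 6 n19924
theorem D42201 : act 6 n19924 = n42201 := rfl
theorem F65146 : act 3 n42201 = n19926 := d7_1 D42201 (iv6 D19926) (iv3 F31749)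
def n42202 : Q := act 0 n19925
theorem D42202 : act 0 n19925 = n42202 := rfl
def n42203 : Q := act 1 n19925
theorem D42203 : act 1 n19925 = n42203 := rfl
def n42204 : Q := act 5 n19925
theorem D42204 : act 5 n19925 = n42204 := rfl
theorem F65147 : act 3 n42204 = n19929 := d6_1 D42204 (iv5 D19929) (iv3 F31750)
def n42205 : Q := act 7 n19925
theorem D42205 : act 7 n19925 = n42205 := rfl
theorem F65148 : act 3 n42205 = n19930 := d8_1 D42205 (iv7 D19930) (iv3 F31750)
theorem F65149 : act 4 n42205 = n42205 := d11_1 D42205 (iv7 D42205) F31751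
def n42206 : Q := act 0 n19926
theorem D42206 : act 0 n19926 = n42206 := rfl
def n42207 : Q := act 1 n19926
theorem D42207 : act 1 n19926 = n42207 := rfl
theorem F65150 : act 1 n42207 = n20028 := d15_1 D42207 (iv7 D20028) (iv2 F31752)
def n42208 : Q := act 5 n19926
theorem D42208 : act 5 n19926 = n42208 := rfl
theorem F65151 : act 2 n42208 = n20027 := d2_1 D42208 (iv5 D20027) (iv2 F31752)
theorem F65152 : act 6 n42208 = n19929 := d12_2 D19926 D42208 (iv5 D19929) (iv6 D9399) D9398
theorem F65153 : act 0 n42208 = n25648 := d21_7 D25633 (iv1 F55129) (iv5 D34859) F27684 (iv1 F15220) D19926 D42208 (iv5 D25648) (iv6 D12189) D12185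
def n42209 : Q := act 7 n19926
theorem D42209 : act 7 n19926 = n42209 := rfl
theorem F65154 : act 2 n42209 = n20028 := d4_1 D42209 (iv7 D20028) (iv2 F31752)
theorem F65155 : act 4 n42209 = n20536 := d11_1 D42209 (iv7 D20536) (iv4 F31753)
theorem F65156 : act 1 n20028 = n42206 := d15_0 (iv0 D42206) D42209 F65154
theorem F65157 : act 1 n20026 = n42209 := d15_1 D20026 (iv7 D42209) F31752
theorem F65158 : act 1 n42209 = n20025 := d15_0 (iv0 D20025) D20028 (iv2 F65154)
def n42210 : Q := act 3 n19927
theorem D42210 : act 3 n19927 = n42210 := rfl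
theorem F65159 : act 4 n42210 = n23040 := d5_2 F31760 D42210 (iv3 D23040) (iv4 D10866) D10865
theorem F65160 : act 7 n42210 = n20035 := d8_2 (iv7 F63402) D42210 (iv3 D20035)
def n42211 : Q := act 5 n19927
theorem D42211 : act 5 n19927 = n42211 := rfl
theorem F65161 : act 2 n42211 = n20032 := d2_1 D42211 (iv5 D20032) (iv2 F63401)
theorem F65162 : act 7 n42211 = n20037 := d13_2 (iv7 F63402) D42211 (iv5 D20037)
def n42212 : Q := act 3 n19928
theorem D42212 : act 3 n19928 = n42212 := rfl
theorem F65163 : act 7 n42212 = n20030 := d8_2 (iv7 F63404) D42212 (iv3 D20030)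
theorem F65164 : act 4 n42212 = n22515 := d20_6 (iv4 D20458) (iv1 F15166) (iv4 F15232) F15231 (iv1 F31754) D42212 (iv1 D22515) (iv4 F35049) F35048 (iv1 F63001)
def n42213 : Q := act 4 n19928
theorem D42213 : act 4 n19928 = n42213 := rfl
theorem F65165 : act 2 n42213 = n20036 := d1_1 D42213 (iv4 D20036) (iv2 F63403)
theorem F65166 : act 7 n42213 = n20031 := d11_2 (iv7 F63404) D42213 (iv4 D20031)
theorem F65167 : act 1 n23033 = n42213 := d15_1 D23033 F65166 F63405
theorem F65168 : act 3 n23054 = n42213 := d0_0 F65165 (iv3 F31868) F63388 D10870 D23054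
theorem F65169 : act 1 n42213 = n23032 := d15_0 (iv0 D23032) (iv7 F63390) (iv2 F65165)
theorem F65170 : act 0 n23054 = n23103 := d20_10 F36146 (iv1 D20169) (iv4 D9517) (iv3 D4302) (iv1 F3083) (iv3 F6185) (iv4 F14672) (iv1 F31754) D42213 (iv3 F65168)
def n42214 : Q := act 5 n19928
theorem D42214 : act 5 n19928 = n42214 := rfl
theorem F65171 : act 2 n42214 = n20037 := d2_1 D42214 (iv5 D20037) (iv2 F63403)
theorem F65172 : act 7 n42214 = n20032 := d13_2 (iv7 F63404) D42214 (iv5 D20032)
def n42215 : Q := act 6 n19928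
theorem D42215 : act 6 n19928 = n42215 := rfl
theorem F65173 : act 2 n42215 = n20038 := d3_1 D42215 (iv6 D20038) (iv2 F63403)
def n42216 : Q := act 0 n19929
theorem D42216 : act 0 n19929 = n42216 := rfl
def n42217 : Q := act 1 n19929
theorem D42217 : act 1 n19929 = n42217 := rfl
theorem F65174 : act 1 n42217 = n20042 := d15_1 D42217 (iv7 D20042) (iv2 F31755)
theorem F65175 : act 5 n20941 = n42217 := d21_6 D9741 F15217 (iv5 D4540) D4541 D9949 D20941 (iv1 D42217) (iv5 D19929) (iv6 D9399) (iv1 F6336)
def n42218 : Q := act 4 n19929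
theorem D42218 : act 4 n19929 = n42218 := rfl
theorem F65176 : act 2 n42218 = n20041 := d1_1 D42218 (iv4 D20041) (iv2 F31755)
def n42219 : Q := act 7 n19929
theorem D42219 : act 7 n19929 = n42219 := rfl
theorem F65177 : act 2 n42219 = n20042 := d4_1 D42219 (iv7 D20042) (iv2 F31755)
theorem F65178 : act 5 n42219 = n19930 := d13_1 D42219 (iv7 D19930) D19929
theorem F65179 : act 1 n20042 = n42216 := d15_0 (iv0 D42216) D42219 F65177
theorem F65180 : act 1 n20040 = n42219 := d15_1 D20040 (iv7 D42219) F31755
theorem F65181 : act 1 n42219 = n20039 := d15_0 (iv0 D20039) D20042 (iv2 F65177)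
def n42220 : Q := act 0 n19932
theorem D42220 : act 0 n19932 = n42220 := rfl
theorem F65182 : act 1 n20073 = n42220 := d15_0 (iv0 D42220) F35741 D20073
def n42221 : Q := act 1 n19932
theorem D42221 : act 1 n19932 = n42221 := rfl
def n42222 : Q := act 2 n19932
theorem D42222 : act 2 n19932 = n42222 := rfl
theorem F65183 : act 3 n42222 = n20051 := d0_2 D19932 D42222 (iv2 D20051) (iv3 D9449) F35740
theorem F65184 : act 7 n42222 = n20073 := d4_2 (iv7 F35741) D42222 (iv2 D20073)
theorem F65185 : act 1 n42222 = n20071 := d15_0 (iv0 D20071) (iv7 F35741) D42222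
theorem F65186 : act 1 n42221 = n20073 := d15_1 D42221 (iv7 F65184) (iv2 D42222)
theorem F65187 : act 4 n23039 = n20050 := d20_2 D10871 (iv1 F36089) (iv3 F36162) (iv1 F65185) F65183 (iv4 F35765) (iv1 F36043) F36041 F17649 (iv1 F17651)
theorem E7107 : n23108 = n23032 := ((c20_11 (iv4 F36148) (iv1 F31887) (iv4 D9455) D9454 D20071 F36162 (iv4 F65187) (iv1 D23039) (iv4 D10866) D10865 D23032)).symm
theorem F65188 : act 3 n23032 = n10886 := (sb E7107 (iv3 D23108))
theorem F65189 : act 4 n23032 = n20056 := (sb E7107 (iv4 F36148))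
theorem F65190 : act 1 n20072 = n42222 := d15_1 D20072 F65184 (iv2 D20073)
theorem E7108 : n20156 = n20072 := ((c20_5 (iv4 F7372) D10860 F35765 (iv3 F65183) (iv1 F65190) (iv3 D20156) D20157 F36115 (iv4 D23055) (iv3 D10870) (iv1 D4953))).symm
theorem F65191 : act 3 n20072 = n9514 := (sb E7108 (iv3 D20156))
theorem F65192 : act 4 n20072 = n23116 := (sb E7108 F36164)
def n42223 : Q := act 4 n19932
theorem D42223 : act 4 n19932 = n42223 := rfl
theorem F65193 : act 7 n42223 = n20074 := d11_2 (iv7 F35741) D42223 (iv4 D20074)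
theorem F65195 : act 0 n23104 = n42223 := d20_1 D23104 (iv4 D42223) (iv3 D19932) (iv1 F14624) F6185 (iv4 F3148) (iv1 F3151) F14810 D4961 D10885
def n42224 : Q := act 5 n19932
theorem D42224 : act 5 n19932 = n42224 := rfl
theorem F65196 : act 3 n42224 = n19934 := d6_1 D42224 (iv5 D19934) D19932
theorem F65197 : act 7 n42224 = n20075 := d13_2 (iv7 F35741) D42224 (iv5 D20075)
def n42225 : Q := act 0 n19933
theorem D42225 : act 0 n19933 = n42225 := rfl
theorem F65198 : act 1 n19937 = n42225 := d15_0 (iv0 D42225) F35743 (iv2 F35754)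
def n42226 : Q := act 1 n19933
theorem D42226 : act 1 n19933 = n42226 := rfl
theorem F65199 : act 1 n42226 = n19937 := d15_1 D42226 F35755 (iv2 F35742)
theorem F65200 : act 4 n42226 = n23088 := d20_2 D19937 (iv1 F65199) (iv3 D23088) (iv1 D10879) (iv3 D4957) (iv4 F14807) (iv1 F3150) F3148 (iv3 F6185) (iv1 F14618)
theorem F65201 : act 4 n42220 = n23094 := d20_0 (iv1 F36152) (iv4 D23112) F17672 (iv1 F17676) D23088 (iv4 F65200) (iv1 D42226) (iv4 D19933) D19932 D42220
def n42227 : Q := act 3 n19933
theorem D42227 : act 3 n19933 = n42227 := rfl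
theorem F65202 : act 7 n42227 = n20077 := d8_2 (iv7 F35743) D42227 (iv3 D20077)
def n42228 : Q := act 5 n19933
theorem D42228 : act 5 n19933 = n42228 := rfl
theorem F65203 : act 2 n42228 = n20059 := d2_1 D42228 (iv5 D20059) (iv2 F35742)
theorem F65204 : act 7 n42228 = n20078 := d13_2 (iv7 F35743) D42228 (iv5 D20078)
def n42229 : Q := act 1 n19934
theorem D42229 : act 1 n19934 = n42229 := rfl
theorem F65206 : act 7 n42229 = n20062 := d15_2 (iv0 F35812) D42229 F35707
theorem F65207 : act 5 n42194 = n42229 := d21_0 (iv1 D42229) (iv5 D19934) F15537 F35649 (iv6 D9139) F14190 D19443 (iv5 F61512) F61513 (iv1 F65133)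
def n42230 : Q := act 4 n19934
theorem D42230 : act 4 n19934 = n42230 := rfl
theorem F65211 : act 2 n42230 = n20064 := d1_1 D42230 (iv4 D20064) (iv2 F35744)
theorem F65212 : act 7 n42230 = n20080 := d11_2 (iv7 F35745) D42230 (iv4 D20080)
def n42231 : Q := act 0 n19936
theorem D42231 : act 0 n19936 = n42231 := rfl
theorem F65213 : act 1 n20051 = n42231 := d15_0 (iv0 D42231) F35753 D20051
def n42232 : Q := act 1 n19936
theorem D42232 : act 1 n19936 = n42232 := rfl
theorem F65214 : act 3 n42220 = n42232 := d20_3 D10881 D23094 (iv4 F65201) (iv1 D42232) (iv3 D19936) D19937 (iv1 F65199) F65200 (iv3 D23088) (iv1 D10879)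
def n42233 : Q := act 2 n19936
theorem D42233 : act 2 n19936 = n42233 := rfl
theorem F65215 : act 3 n42233 = n20073 := d0_2 D19936 D42233 (iv2 D20073) (iv3 D9454) (iv2 F35751)
theorem F65216 : act 4 n42233 = n22983 := d1_2 (iv4 F31764) D42233 (iv2 F36038)
theorem F65217 : act 7 n42233 = n20051 := d4_2 (iv7 F35753) D42233 (iv2 D20051)
theorem F65218 : act 1 n42233 = n20049 := d15_0 (iv0 D20049) (iv7 F35753) D42233
theorem F65219 : act 1 n42232 = n20051 := d15_1 D42232 (iv7 F65217) (iv2 D42233)
theorem E7109 : n42221 = n20187 := (c20_11 F36140 (iv1 D23095) (iv4 D10881) (iv3 D4957) (iv1 F3330) (iv3 F7375) (iv4 F17655) (iv1 F36036) (iv4 F65216) F65215 (iv1 F65186))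
theorem F65221 : act 0 n20187 = n19932 := (sb E7109 (iv1 D42221))
theorem F65222 : act 1 n20187 = n20073 := (sb E7109 F65186)
def n42234 : Q := act 5 n19936
theorem D42234 : act 5 n19936 = n42234 := rfl
theorem F65223 : act 3 n42234 = n19938 := d6_1 D42234 (iv5 D19938) D19936
theorem F65224 : act 7 n42234 = n20053 := d13_2 (iv7 F35753) D42234 (iv5 D20053)
def n42235 : Q := act 6 n19936
theorem D42235 : act 6 n19936 = n42235 := rfl
theorem F65225 : act 3 n42235 = n19939 := d7_1 D42235 (iv6 D19939) D19936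
theorem F65226 : act 4 n42235 = n23021 := d10_1 D42235 (iv6 D23021) (iv4 F31764)
def n42236 : Q := act 3 n19937
theorem D42236 : act 3 n19937 = n42236 := rfl
theorem F65227 : act 4 n42236 = n23019 := d5_2 D19937 D42236 (iv3 D23019) (iv4 F31764) (iv3 D19936)
theorem F65228 : act 7 n42236 = n20058 := d8_2 (iv7 F35755) D42236 (iv3 D20058)
def n42237 : Q := act 5 n19937
theorem D42237 : act 5 n19937 = n42237 := rfl
theorem F65229 : act 2 n42237 = n20078 := d2_1 D42237 (iv5 D20078) (iv2 F35754)
theorem F65230 : act 7 n42237 = n20059 := d13_2 (iv7 F35755) D42237 (iv5 D20059)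
def n42238 : Q := act 6 n19937
theorem D42238 : act 6 n19937 = n42238 := rfl
theorem F65231 : act 2 n42238 = n20079 := d3_1 D42238 (iv6 D20079) (iv2 F35754)
theorem F65232 : act 4 n42238 = n19939 := d10_1 D42238 (iv6 D19939) D19937
def n42239 : Q := act 4 n19938
theorem D42239 : act 4 n19938 = n42239 := rfl
theorem F65233 : act 2 n42239 = n20080 := d1_1 D42239 (iv4 D20080) (iv2 F35756)
theorem F65234 : act 7 n42239 = n20064 := d11_2 (iv7 F35757) D42239 (iv4 D20064)
def n42240 : Q := act 4 n19940
theorem D42240 : act 4 n19940 = n42240 := rfl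
theorem F65235 : act 2 n42240 = n20088 := d1_1 D42240 (iv4 D20088) (iv2 F35916)
theorem F65236 : act 6 n42240 = n20589 := d10_2 (iv6 F31765) D42240 (iv4 D20589)
theorem F65237 : act 7 n42240 = n20093 := d11_2 (iv7 F35917) D42240 (iv4 D20093)
def n42241 : Q := act 3 n19941
theorem D42241 : act 3 n19941 = n42241 := rfl
theorem F65238 : act 5 n42241 = n20962 := d6_2 F31767 D42241 F33143
theorem F65239 : act 7 n42241 = n20087 := d8_2 (iv7 F35914) D42241 (iv3 D20087)
theorem F65240 : act 4 n42241 = n23077 := d20_6 F14917 (iv1 F14913) F14912 (iv3 F14676) (iv1 F31766) D42241 (iv1 D23077) (iv4 D10876) F7373 D4965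
theorem F65241 : act 0 n42241 = n23340 := d21_7 (iv5 D8435) (iv1 F6408) D9022 D19199 (iv1 F62687) D20962 (iv5 F65238) (iv5 D23340) (iv6 D10965) (iv1 F13245)
def n42242 : Q := act 4 n19941
theorem D42242 : act 4 n19941 = n42242 := rfl
theorem F65242 : act 2 n42242 = n20093 := d1_1 D42242 (iv4 D20093) (iv2 F35913)
theorem F65243 : act 7 n42242 = n20088 := d11_2 (iv7 F35914) D42242 (iv4 D20088)
def n42243 : Q := act 6 n19941
theorem D42243 : act 6 n19941 = n42243 := rfl
theorem F65244 : act 2 n42243 = n20095 := d3_1 D42243 (iv6 D20095) (iv2 F35913)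
theorem F65245 : act 5 n42243 = n20973 := d12_1 D42243 (iv6 D20973) (iv5 D9956) D9957 F31767
def n42244 : Q := act 0 n19942
theorem D42244 : act 0 n19942 = n42244 := rfl
def n42245 : Q := act 1 n19942
theorem D42245 : act 1 n19942 = n42245 := rfl
theorem F65247 : act 1 n42245 = n20100 := d15_1 D42245 (iv7 D20100) (iv2 F31768)
def n42246 : Q := act 3 n19942
theorem D42246 : act 3 n19942 = n42246 := rfl
theorem F65248 : act 4 n42246 = n42246 := d5_2 D19942 D42246 (iv3 D42246) (iv4 D19942) F14620
theorem F65249 : act 6 n42246 = n19946 := d7_2 (iv6 F31769) D42246 (iv3 D19946)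
def n42247 : Q := act 5 n19942
theorem D42247 : act 5 n19942 = n42247 := rfl
theorem F65250 : act 2 n42247 = n20099 := d2_1 D42247 (iv5 D20099) (iv2 F31768)
def n42248 : Q := act 7 n19942
theorem D42248 : act 7 n19942 = n42248 := rfl
theorem F65251 : act 2 n42248 = n20100 := d4_1 D42248 (iv7 D20100) (iv2 F31768)
theorem F65252 : act 4 n42248 = n19943 := d11_1 D42248 (iv7 D19943) D19942
theorem F65253 : act 1 n20100 = n42244 := d15_0 (iv0 D42244) D42248 F65251
theorem F65255 : act 4 n23068 = n42244 := d20_6 D9552 F14906 (iv4 D4967) (iv3 F7373) D10874 D23068 (iv1 F65253) F31907 F14676 (iv1 F6198)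
theorem F65256 : act 1 n42248 = n20096 := d15_0 (iv0 D20096) D20100 (iv2 F65251)
def n42249 : Q := act 3 n19944
theorem D42249 : act 3 n19944 = n42249 := rfl
theorem F65257 : act 4 n42249 = n40446 := d5_2 (iv4 F31776) D42249 (iv3 D40446) (iv4 D19115) (iv3 F15137)
theorem F65258 : act 7 n42249 = n20139 := d8_2 F31779 D42249 (iv3 D20139)
def n42250 : Q := act 5 n19944
theorem D42250 : act 5 n19944 = n42250 := rfl
theorem F65259 : act 2 n42250 = n20137 := d2_1 D42250 (iv5 D20137) F31778
theorem F65260 : act 7 n42250 = n20140 := d13_2 F31779 D42250 (iv5 D20140)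
theorem F65261 : act 4 n42250 = n20753 := d16_2 (iv4 F31776) D42250 (iv5 D20753) (iv4 D9847) (iv5 D4461) (iv4 F6375) D9839 F16961 (iv2 F15136)
theorem F65262 : act 0 n42250 = n20641 := d17_2 D19944 D42250 F32760 F15252 F6348 F7286 D4383 (iv0 F16824) D9414
theorem F65263 : act 1 n42250 = n20470 := d17_6 (iv1 F31241) (iv5 D19509) F14328 D9700 (iv4 F31776) D42250 (iv5 D20470) (iv0 F31924) (iv4 D20106)
def n42251 : Q := act 6 n19944
theorem D42251 : act 6 n19944 = n42251 := rfl
theorem F65264 : act 2 n42251 = n20138 := d3_1 D42251 (iv6 D20138) F31778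
theorem F65265 : act 4 n42251 = n20422 := d10_1 D42251 F32440 (iv4 F31776)
def n42252 : Q := act 3 n19945
theorem D42252 : act 3 n19945 = n42252 := rfl
theorem F65266 : act 7 n42252 = n20136 := d8_2 (iv7 F31781) D42252 (iv3 D20136)
def n42253 : Q := act 5 n19945
theorem D42253 : act 5 n19945 = n42253 := rfl
theorem F65267 : act 2 n42253 = n20140 := d2_1 D42253 (iv5 D20140) F31783
theorem F65268 : act 4 n42253 = n20449 := d9_1 D42253 (iv5 D20449) (iv4 D9710) (iv5 D4383) (iv4 F6316) D9700 (iv4 F31776) D42250 F65261 (iv5 D20753) (iv4 D9847) (iv5 D4461) (iv4 F6375) D9839 (iv4 F31782)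
theorem F65269 : act 7 n42253 = n20137 := d13_2 (iv7 F31781) D42253 (iv5 D20137)
theorem F65270 : act 0 n42253 = n20470 := d17_2 (iv1 F31780) D42253 (iv5 D20470) (iv4 D9719) (iv5 D4389) (iv0 F16780) D4461 (iv0 F7277) (iv4 F14760)
theorem F65271 : act 1 n42253 = n20641 := d17_6 (iv1 F30718) (iv5 D10836) (iv1 F16833) D9839 (iv4 F31782) D42253 F32760 (iv0 F31949) (iv4 D20120)
def n42254 : Q := act 6 n19945
theorem D42254 : act 6 n19945 = n42254 := rfl
theorem F65272 : act 2 n42254 = n20141 := d3_1 D42254 (iv6 D20141) F31783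
theorem F65273 : act 4 n42254 = n20750 := d10_1 D42254 F32902 (iv4 F31782)
def n42255 : Q := act 0 n19946
theorem D42255 : act 0 n19946 = n42255 := rfl
def n42256 : Q := act 1 n19946
theorem D42256 : act 1 n19946 = n42256 := rfl
def n42257 : Q := act 2 n19946
theorem D42257 : act 2 n19946 = n42257 := rfl
theorem F65274 : act 3 n42257 = n20144 := d0_2 D19946 D42257 (iv2 D20144) (iv3 D9504) (iv2 F14631)
theorem F65275 : act 4 n42257 = n42257 := d1_2 F31784 D42257 (iv2 D42257)
def n42258 : Q := act 5 n19946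
theorem D42258 : act 5 n19946 = n42258 := rfl
theorem F65276 : act 3 n42258 = n19947 := d6_1 D42258 (iv5 D19947) D19946
def n42259 : Q := act 6 n19947
theorem D42259 : act 6 n19947 = n42259 := rfl
theorem F65277 : act 2 n42259 = n20150 := d3_1 D42259 (iv6 D20150) (iv2 F31785)
def n42260 : Q := act 2 n19948
theorem D42260 : act 2 n19948 = n42260 := rfl
theorem F65278 : act 7 n19949 = n42260 := d15_2 (iv0 D19948) D19949 (iv2 D42260)
def n42261 : Q := act 3 n19948
theorem D42261 : act 3 n19948 = n42261 := rfl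
def n42262 : Q := act 4 n19948
theorem D42262 : act 4 n19948 = n42262 := rfl
def n42263 : Q := act 5 n19948
theorem D42263 : act 5 n19948 = n42263 := rfl
def n42264 : Q := act 6 n19948
theorem D42264 : act 6 n19948 = n42264 := rfl
def n42265 : Q := act 7 n19948
theorem D42265 : act 7 n19948 = n42265 := rfl
theorem F65279 : act 2 n42265 = n19949 := d4_1 D42265 F65278 (iv2 D42260)
def n42266 : Q := act 3 n19949
theorem D42266 : act 3 n19949 = n42266 := rfl
def n42267 : Q := act 4 n19949
theorem D42267 : act 4 n19949 = n42267 := rfl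
def n42268 : Q := act 5 n19949
theorem D42268 : act 5 n19949 = n42268 := rfl
def n42269 : Q := act 6 n19949
theorem D42269 : act 6 n19949 = n42269 := rfl
def n42270 : Q := act 0 n19950
theorem D42270 : act 0 n19950 = n42270 := rfl
def n42271 : Q := act 1 n19950
theorem D42271 : act 1 n19950 = n42271 := rfl
def n42272 : Q := act 7 n19950
theorem D42272 : act 7 n19950 = n42272 := rfl
theorem F65280 : act 3 n42272 = n19976 := d8_1 D42272 (iv7 D19976) (iv3 F31786)
theorem F65281 : act 5 n42272 = n19951 := d13_1 D42272 (iv7 D19951) D19950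
theorem F65282 : act 6 n42272 = n42108 := d14_1 D42272 (iv7 D42108) F31687 F16841 (iv6 F31787)
def n42273 : Q := act 0 n19952
theorem D42273 : act 0 n19952 = n42273 := rfl
def n42274 : Q := act 1 n19952
theorem D42274 : act 1 n19952 = n42274 := rfl
def n42275 : Q := act 5 n19952
theorem D42275 : act 5 n19952 = n42275 := rfl
def n42276 : Q := act 7 n19952
theorem D42276 : act 7 n19952 = n42276 := rfl
def n42277 : Q := act 6 n19954
theorem D42277 : act 6 n19954 = n42277 := rfl
theorem F65283 : act 2 n42277 = n19956 := d3_1 D42277 (iv6 D19956) D19954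
def n42278 : Q := act 0 n19956
theorem D42278 : act 0 n19956 = n42278 := rfl
def n42279 : Q := act 1 n19956
theorem D42279 : act 1 n19956 = n42279 := rfl
def n42280 : Q := act 5 n19956
theorem D42280 : act 5 n19956 = n42280 := rfl
theorem F65284 : act 3 n42280 = n19961 := d6_1 D42280 (iv5 D19961) (iv3 F31793)
def n42281 : Q := act 7 n19956
theorem D42281 : act 7 n19956 = n42281 := rfl
theorem F65285 : act 3 n42281 = n19962 := d8_1 D42281 (iv7 D19962) (iv3 F31793)
theorem F65286 : act 6 n42281 = n41294 := d14_1 D42281 F63614 (iv6 D20481) F15182 D19956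
def n42282 : Q := act 3 n19957
theorem D42282 : act 3 n19957 = n42282 := rfl
theorem F65287 : act 5 n42282 = n20390 := d6_2 (iv5 F31796) D42282 (iv3 D20390)
theorem F65288 : act 7 n42282 = n32028 := d8_2 (iv7 F31795) D42282 F50403
theorem F65289 : act 0 n42282 = n19984 := d20_4 F15210 (iv1 F31713) (iv4 F31797) D42282 F31812 (iv4 F14659) (iv1 F15533) (iv4 D9877) (iv3 F6601) (iv1 F15211)
theorem F65290 : act 0 n26194 = n42282 := d20_4 (iv4 D25495) (iv1 F22721) (iv4 F45924) F45923 (iv3 D42282) F31797 F31712 (iv4 F15215) (iv3 F27045) (iv1 F40324)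
theorem F65291 : act 2 n42282 = n32029 := d15_3 F50656 F50405 (iv7 F65288)
theorem F65292 : act 6 n25308 = n42282 := d3_0 F65291 F50658 F50599
def n42283 : Q := act 6 n19957
theorem D42283 : act 6 n19957 = n42283 := rfl
theorem F65293 : act 2 n42283 = n41565 := d3_1 D42283 (iv6 D41565) F31798
theorem F65294 : act 3 n42283 = n25308 := d7_1 D42283 F65292 (iv3 D42282)
theorem F65295 : act 4 n42283 = n42118 := d10_1 D42283 (iv6 D42118) (iv4 F31797)
theorem F65296 : act 0 n26503 = n42283 := d20_10 F65295 (iv1 F65045) (iv4 F47671) (iv3 D29666) (iv1 D14092) D14093 F23551 (iv1 F26674) (iv4 F21070) (iv3 F42418)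
theorem F65297 : act 0 n42283 = n24835 := d20_1 (iv4 F65295) F38876 (iv3 D24058) F23557 (iv3 F47687) F47688 (iv1 F27012) (iv4 F39971) (iv3 F40031) (iv1 F65043)
def n42284 : Q := act 0 n19958
theorem D42284 : act 0 n19958 = n42284 := rfl
theorem F65298 : act 3 n42284 = n31933 := d20_5 (iv4 D25488) F27814 F37343 F37345 D42284 (iv4 D31933) F41471 (iv4 F24701) F24700 F40305
theorem F65299 : act 4 n25490 = n42284 := d5_0 F65298 (iv4 D31933) (iv3 D15065) D15066 (iv3 F40310)
theorem F65300 : act 6 n25593 = n42284 := d7_0 F65298 F50259 (iv3 F40494)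
theorem F65301 : act 0 n42284 = n26186 := d20_4 (iv4 F41558) (iv1 F41559) D31933 (iv3 F65298) (iv3 D26186) (iv4 D12419) D12416 (iv4 F40337) (iv3 F50292) (iv1 F50295)
theorem F65302 : act 2 n42284 = n32020 := d3_1 F65300 F50389 (iv2 F40493)
def n42285 : Q := act 1 n19958
theorem D42285 : act 1 n19958 = n42285 := rfl
theorem F65303 : act 1 n42285 = n26186 := d15_1 D42285 F41569 F32584
theorem F65304 : act 7 n42285 = n32020 := d15_2 (iv0 D42284) D42285 (iv2 F65302)
theorem F65305 : act 3 n25477 = n42285 := d8_3 F65304 (iv3 D32020) F41369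
theorem F65306 : act 4 n42285 = n25491 := d20_6 (iv4 D2408) D2406 D5744 D12110 D25477 F65305 (iv1 D25491) (iv4 F20054) (iv3 D12123) (iv1 D5750)
def n42286 : Q := act 5 n19958
theorem D42286 : act 5 n19958 = n42286 := rfl
theorem F65307 : act 6 n42286 = n19961 := d12_2 D19958 D42286 (iv5 D19961) (iv6 D9420) D9419
def n42287 : Q := act 7 n19958
theorem D42287 : act 7 n19958 = n42287 := rfl
theorem F65308 : act 2 n42287 = n26186 := d4_1 D42287 F41569 F32584
theorem F65309 : act 3 n42287 = n23740 := d8_1 D42287 (iv7 F37342) F37345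
theorem F65310 : act 6 n42287 = n23738 := d14_1 D42287 F36959 F27049 F15184 D19958
def n42288 : Q := act 2 n19959
theorem D42288 : act 2 n19959 = n42288 := rfl
theorem F65311 : act 7 n19960 = n42288 := d15_2 (iv0 D19959) D19960 (iv2 D42288)
def n42289 : Q := act 3 n19959
theorem D42289 : act 3 n19959 = n42289 := rfl
def n42290 : Q := act 4 n19959
theorem D42290 : act 4 n19959 = n42290 := rfl
def n42291 : Q := act 5 n19959
theorem D42291 : act 5 n19959 = n42291 := rfl
def n42292 : Q := act 6 n19959
theorem D42292 : act 6 n19959 = n42292 := rfl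
def n42293 : Q := act 7 n19959
theorem D42293 : act 7 n19959 = n42293 := rfl
theorem F65312 : act 2 n42293 = n19960 := d4_1 D42293 F65311 (iv2 D42288)
def n42294 : Q := act 3 n19960
theorem D42294 : act 3 n19960 = n42294 := rfl
def n42295 : Q := act 4 n19960
theorem D42295 : act 4 n19960 = n42295 := rfl
def n42296 : Q := act 5 n19960
theorem D42296 : act 5 n19960 = n42296 := rfl
def n42297 : Q := act 6 n19960
theorem D42297 : act 6 n19960 = n42297 := rfl
def n42298 : Q := act 0 n19961
theorem D42298 : act 0 n19961 = n42298 := rfl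
def n42299 : Q := act 1 n19961
theorem D42299 : act 1 n19961 = n42299 := rfl
theorem F65313 : act 5 n42185 = n42299 := d21_6 D10680 F17223 (iv5 D9378) D9379 D19910 D42185 (iv1 D42299) (iv5 D19961) (iv6 D9420) (iv1 F7312)
def n42300 : Q := act 4 n19961
theorem D42300 : act 4 n19961 = n42300 := rfl
def n42301 : Q := act 7 n19961
theorem D42301 : act 7 n19961 = n42301 := rfl
theorem F65314 : act 5 n42301 = n19962 := d13_1 D42301 (iv7 D19962) D19961
def n42306 : Q := act 5 n19963
theorem D42306 : act 5 n19963 = n42306 := rfl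
theorem F65320 : act 2 n42306 = n19966 := d2_1 D42306 (iv5 D19966) D19963
theorem F65321 : act 7 n42306 = n19971 := d13_2 F31800 D42306 (iv5 D19971)
def n42307 : Q := act 6 n19963
theorem D42307 : act 6 n19963 = n42307 := rfl
theorem F65322 : act 2 n42307 = n19967 := d3_1 D42307 (iv6 D19967) D19963
theorem F65323 : act 7 n20082 = n42307 := d15_2 (iv0 F32985) (iv0 F35726) F65322
theorem F65324 : act 7 n19972 = n20576 := d14_4 F65323 (iv6 D42307) (iv7 F31800) D19972 (iv6 F32670)
theorem F65325 : act 2 n19972 = n20515 := d15_3 F35852 D20576 (iv7 F65324)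
theorem E7110 : n20511 = n9422 := (c3_4 D19972 F65325 (iv6 D20515) (iv2 F32595))
theorem E7111 : n19968 = n9735 := (((iv2 F31801)).symm.trans (sb E7110 F32595))
theorem E7112 : n19963 = n9734 := ((F31800).symm.trans (sb E7110 (iv7 D20511)))
theorem E7115 : n20506 = n9421 := ((F32593).symm.trans (sb E7111 (iv7 D19968)))
theorem E7118 : n42306 = n20509 := (((D20509).symm.trans (sb E7112 D42306))).symm
theorem E7119 : n42307 = n20510 := (((D20510).symm.trans (sb E7112 D42307))).symm
theorem F65327 : act 7 n9734 = n9422 := (sb E7112 (iv7 F31800))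
theorem F65328 : act 2 n9421 = n9734 := (sb E7115 (iv2 D20506))
theorem F65329 : act 7 n9421 = n9735 := (sb E7115 (iv7 F32593))
theorem F65333 : act 2 n20509 = n19966 := (sb E7118 F65320)
theorem F65334 : act 7 n20509 = n19971 := (sb E7118 F65321)
theorem F65335 : act 2 n20510 = n19967 := (sb E7119 F65322)
theorem F65336 : act 7 n20510 = n20082 := (sb E7119 (iv7 F65323))
theorem F65339 : act 2 n20082 = n42144 := d15_3 (iv0 F65062) F35758 F65336
theorem F65340 : act 7 n19967 = n42144 := d4_2 (iv7 F65336) F65335 (iv2 F65339)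
theorem E7121 : n42146 = n20443 := (c13_3 F65340 (iv5 D42144) D42146 (iv5 F32479))
theorem F65342 : act 7 n20443 = n19887 := (sb E7121 (iv7 D42146))
theorem F65343 : act 2 n19971 = n20514 := d15_3 (iv0 F32596) (iv0 F32945) F65334
theorem F65344 : act 7 n19966 = n20514 := d4_2 (iv7 F65334) F65333 (iv2 F65343)
theorem F65345 : act 2 n20112 = n20626 := d3_3 F32735 F65343 (iv6 F32597)
theorem F65346 : act 7 n20627 = n20112 := d15_2 (iv0 D20626) D20627 F65345
theorem F65347 : act 7 n20113 = n20626 := d15_2 (iv0 D20112) D20113 (iv2 F65345)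
theorem F65348 : act 2 n20627 = n20113 := d4_3 F65347 (iv2 F65345) (iv7 F65346)
theorem F65350 : act 7 n20513 = n19965 := d11_2 F65329 D20513 (iv4 D19965)
def n42313 : Q := act 6 n19964
theorem D42313 : act 6 n19964 = n42313 := rfl
theorem F65353 : act 3 n42313 = n19967 := d7_1 D42313 (iv6 D19967) D19964
def n42314 : Q := act 0 n19965
theorem D42314 : act 0 n19965 = n42314 := rfl
def n42315 : Q := act 1 n19965
theorem D42315 : act 1 n19965 = n42315 := rfl
def n42316 : Q := act 3 n19965
theorem D42316 : act 3 n19965 = n42316 := rfl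
def n42317 : Q := act 5 n19965
theorem D42317 : act 5 n19965 = n42317 := rfl
def n42318 : Q := act 6 n19965
theorem D42318 : act 6 n19965 = n42318 := rfl
theorem F65356 : act 4 n42318 = n19967 := d10_1 D42318 (iv6 D19967) D19965
def n42319 : Q := act 1 n19966
theorem D42319 : act 1 n19966 = n42319 := rfl
theorem F65358 : act 7 n42319 = n20065 := d15_2 (iv0 F32999) D42319 (iv2 F35766)
theorem F65359 : act 6 n42157 = n42319 := d14_5 F65358 (iv6 D20065) (iv7 F35757) (iv6 F32762) (iv7 F65074)
def n42320 : Q := act 4 n19966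
theorem D42320 : act 4 n19966 = n42320 := rfl
def n42321 : Q := act 6 n19966
theorem D42321 : act 6 n19966 = n42321 := rfl
def n42333 : Q := act 4 n19973
theorem D42333 : act 4 n19973 = n42333 := rfl
theorem F65367 : act 2 n42333 = n23485 := d1_1 D42333 (iv4 D23485) F35699
def n42334 : Q := act 5 n19973
theorem D42334 : act 5 n19973 = n42334 := rfl
theorem F65370 : act 7 n42334 = n20407 := d13_2 F35719 D42334 F32417
theorem F65372 : act 0 n20773 = n42334 := d21_10 (iv5 D42334) (iv1 F31969) F31966 F35628 (iv1 D9136) D9139 (iv5 F31098) F35611 F15520 D20773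
theorem F65373 : act 1 n20847 = n42334 := d15_1 F35767 F65370 F35723
def n42335 : Q := act 6 n19973
theorem D42335 : act 6 n19973 = n42335 := rfl
def n42336 : Q := act 0 n19975
theorem D42336 : act 0 n19975 = n42336 := rfl
def n42337 : Q := act 1 n19975
theorem D42337 : act 1 n19975 = n42337 := rfl
def n42338 : Q := act 3 n19975
theorem D42338 : act 3 n19975 = n42338 := rfl
theorem F65377 : act 6 n42338 = n20752 := d7_2 (iv6 F31803) D42338 (iv3 D20752)
def n42339 : Q := act 5 n19975
theorem D42339 : act 5 n19975 = n42339 := rfl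
def n42340 : Q := act 7 n19975
theorem D42340 : act 7 n19975 = n42340 := rfl
theorem F65378 : act 4 n42340 = n19976 := d11_1 D42340 (iv7 D19976) D19975
theorem F65379 : act 6 n42340 = n42154 := d14_1 D42340 (iv7 D42154) F31723 F16855 (iv6 F31803)
def n42341 : Q := act 0 n19977
theorem D42341 : act 0 n19977 = n42341 := rfl
theorem F65380 : act 1 n22379 = n42341 := d15_0 (iv0 D42341) F31807 D22379
def n42342 : Q := act 1 n19977
theorem D42342 : act 1 n19977 = n42342 := rfl
theorem F65381 : act 4 n34938 = n42342 := d20_6 (iv4 F15056) F15054 (iv4 F7078) D9740 F27789 (iv3 F55302) (iv1 D42342) F31806 (iv3 D9427) (iv1 F14649)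
theorem F65382 : act 7 n42342 = n22378 := d11_2 (iv7 F55303) F65381 (iv4 F51670)
theorem F65383 : act 1 n42342 = n22379 := d18_6 (iv1 D25554) F20093 (iv1 F27043) (iv4 F27786) D34938 F65381 F34933 F32579 (iv5 F40421)
theorem F65384 : act 2 n22378 = n42341 := d15_3 (iv0 D42341) D42342 F65382
theorem F65385 : act 2 n42342 = n22377 := d15_3 (iv0 D22377) D22378 (iv7 F65382)
theorem F65386 : act 7 n22377 = n42341 := d4_2 (iv7 F65382) F65385 (iv2 F65384)
def n42343 : Q := act 2 n19977
theorem D42343 : act 2 n19977 = n42343 := rfl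
theorem F65387 : act 3 n42343 = n22386 := d0_2 D19977 D42343 (iv2 D22386) (iv3 D10651) (iv2 F14652)
theorem F65388 : act 4 n42343 = n19983 := d1_2 (iv4 F31806) D42343 (iv2 D19983)
theorem F65389 : act 7 n42343 = n22379 := d4_2 (iv7 F31807) D42343 (iv2 D22379)
theorem F65390 : act 1 n42343 = n22377 := d15_0 (iv0 D22377) (iv7 F31807) D42343
theorem F65391 : act 1 n22378 = n42343 := d15_0 F65390 F65386 (iv2 F65384)
def n42344 : Q := act 6 n19977
theorem D42344 : act 6 n19977 = n42344 := rfl
theorem F65392 : act 3 n42344 = n19978 := d7_1 D42344 (iv6 D19978) D19977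
theorem F65393 : act 4 n42344 = n19985 := d10_1 D42344 (iv6 D19985) (iv4 F31806)
theorem F65394 : act 7 n22831 = n42344 := d11_0 F65393 (iv7 F63662) F63661
def n42345 : Q := act 5 n19978
theorem D42345 : act 5 n19978 = n42345 := rfl
theorem F65395 : act 2 n42345 = n22390 := d2_1 D42345 (iv5 D22390) (iv2 F31808)
theorem F65396 : act 7 n42345 = n22832 := d13_2 (iv7 F35585) D42345 (iv5 D22832)
def n42346 : Q := act 6 n19982
theorem D42346 : act 6 n19982 = n42346 := rfl
def n42347 : Q := act 6 n19983
theorem D42347 : act 6 n19983 = n42347 := rfl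
theorem F65397 : act 2 n42347 = n19985 := d3_1 D42347 (iv6 D19985) D19983
theorem F65398 : act 5 n42347 = n32027 := d12_1 D42347 (iv6 D32027) (iv5 D15110) D15111 (iv5 F31815)
def n42348 : Q := act 0 n19984
theorem D42348 : act 0 n19984 = n42348 := rfl
theorem F65399 : act 5 n42348 = n20424 := d17_3 F30972 D19984 D42348 F58372 (iv5 D37482) D37481 F58369 (iv0 D19329) D19332
theorem F65400 : act 3 n42348 = n33124 := d20_5 (iv4 D9877) (iv1 F14660) F14659 (iv3 F31812) D42348 F52353 F52345 F41494 F31832 (iv1 F15533)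
theorem F65401 : act 2 n32028 = n42348 := d15_3 (iv0 D42348) (iv0 F65289) F65288
theorem F65402 : act 1 n26194 = n42348 := d15_0 (iv0 D42348) (iv7 F32582) (iv2 F41580)
theorem F65403 : act 7 n42348 = n32029 := d15_2 (iv0 F65290) F65402 (iv2 F65291)
theorem F65404 : act 6 n26510 = n42348 := d14_5 F65403 F50658 (iv7 F50598) F50597 (iv7 F50606)
def n42349 : Q := act 0 n19985
theorem D42349 : act 0 n19985 = n42349 := rfl
def n42350 : Q := act 1 n19985
theorem D42350 : act 1 n19985 = n42350 := rfl
def n42351 : Q := act 5 n19985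
theorem D42351 : act 5 n19985 = n42351 := rfl
theorem F65405 : act 2 n42351 = n32027 := d2_1 D42351 (iv5 F65398) F65397
theorem F65406 : act 3 n42351 = n19989 := d6_1 D42351 (iv5 D19989) (iv3 F31817)
theorem F65407 : act 6 n42351 = n32016 := d12_2 D19985 D42351 (iv5 D32016) (iv6 F31816) (iv5 D19984)
def n42352 : Q := act 0 n19986
theorem D42352 : act 0 n19986 = n42352 := rfl
theorem F65408 : act 4 n42352 = n32020 := d20_8 F40273 (iv1 F20656) D15102 (iv3 F24719) (iv1 F41486) F41482 F31835 D42352 (iv3 D32020) (iv1 F40275)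
theorem F65409 : act 2 n25490 = n42352 := d1_3 F65408 (iv2 F65302) (iv4 F65299)
theorem F65410 : act 3 n26185 = n42352 := d5_5 F65408 (iv3 D32020) D32021 F50393 F50395
theorem F65411 : act 6 n23760 = n42352 := d10_0 F65408 F50389 F37022
theorem F65412 : act 7 n25491 = n42352 := d11_0 F65408 (iv7 F65304) F65306
theorem F65413 : act 0 n42352 = n23738 := d20_7 F8855 F4939 D6451 (iv3 F11510) D15108 D32020 (iv4 F65408) (iv4 F36964) (iv3 D23741) (iv1 F18041)
theorem F65414 : act 0 n20501 = n32020 := d20_7 (iv4 D12419) D12416 (iv4 F40337) (iv3 F50292) (iv1 F50295) F41553 F32614 (iv4 F65408) (iv3 F65410) (iv1 D26185)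
theorem F65415 : act 1 n42287 = n32020 := d15_0 (iv0 F65414) (iv7 F41569) (iv2 F65308)
def n42353 : Q := act 1 n19986
theorem D42353 : act 1 n19986 = n42353 := rfl
theorem F65416 : act 1 n42353 = n23738 := d15_1 D42353 F36959 (iv2 F31818)
theorem F65417 : act 7 n42353 = n25490 := d15_2 (iv0 D42352) D42353 F65409
theorem F65418 : act 3 n26155 = n42353 := d20_3 (iv4 D15069) (iv1 F20672) D26155 (iv1 D42353) F31819 (iv4 D15105) (iv1 F20655) D26140 (iv3 F41495) (iv1 F41496)
theorem F65419 : act 2 n25491 = n42353 := d4_3 F65417 F65409 (iv7 F65412)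
def n42354 : Q := act 5 n19986
theorem D42354 : act 5 n19986 = n42354 := rfl
theorem F65420 : act 2 n42354 = n25492 := d2_1 D42354 (iv5 D25492) (iv2 F31818)
theorem F65421 : act 3 n42354 = n32016 := d6_1 D42354 (iv5 D32016) (iv3 F31819)
theorem F65422 : act 6 n42354 = n19989 := d12_2 D19986 D42354 (iv5 D19989) (iv6 D9429) D9428
def n42355 : Q := act 7 n19986
theorem D42355 : act 7 n19986 = n42355 := rfl
theorem F65423 : act 2 n42355 = n23738 := d4_1 D42355 F36959 (iv2 F31818)
theorem F65424 : act 3 n42355 = n25479 := d8_1 D42355 F40274 (iv3 F31819)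
theorem F65425 : act 4 n42355 = n31938 := d11_1 D42355 F50263 F31835
theorem F65426 : act 6 n42355 = n26186 := d14_1 D42355 F41569 (iv6 D20501) F15198 D19986
theorem F65427 : act 1 n25491 = n42355 := d15_1 D25491 (iv7 D42355) F31818
theorem F65428 : act 1 n42355 = n25490 := d15_1 F65427 (iv7 F65417) (iv2 F65419)
def n42356 : Q := act 5 n19987
theorem D42356 : act 5 n19987 = n42356 := rfl
def n42357 : Q := act 6 n19987
theorem D42357 : act 6 n19987 = n42357 := rfl
theorem F65429 : act 2 n42357 = n22876 := d3_1 D42357 (iv6 F35636) F35644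
theorem F65430 : act 4 n42357 = n22868 := d10_1 D42357 (iv6 F63117) F63116
theorem F65431 : act 0 n41315 = n42357 := d18_2 (iv1 F31101) D41315 F65430 (iv5 D22868) (iv4 F35633) F35631 (iv4 D19454) F14228 D19433
theorem F65432 : act 1 n41314 = n42357 := d15_0 (iv0 F65431) F63647 (iv2 F63643)
def n42358 : Q := act 0 n19989
theorem D42358 : act 0 n19989 = n42358 := rfl
theorem F65433 : act 1 n41295 = n42358 := d15_0 (iv0 D42358) (iv7 F63664) F63663
def n42359 : Q := act 1 n19989
theorem D42359 : act 1 n19989 = n42359 := rfl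
theorem F65434 : act 1 n42359 = n41295 := d15_1 D42359 F63615 F32560
theorem F65435 : act 5 n41823 = n42359 := d21_6 (iv5 F31718) (iv1 D19872) (iv5 D9354) D9355 D19873 (iv6 F64487) (iv1 D42359) (iv5 D19989) (iv6 D9429) (iv1 F14649)
def n42360 : Q := act 4 n19989
theorem D42360 : act 4 n19989 = n42360 := rfl
def n42361 : Q := act 4 n20001
theorem D42361 : act 4 n20001 = n42361 := rfl
def n42362 : Q := act 6 n20001
theorem D42362 : act 6 n20001 = n42362 := rfl
theorem F65436 : act 3 n42362 = n34936 := d7_1 D42362 (iv6 D34936) F31826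
def n42363 : Q := act 3 n20002
theorem D42363 : act 3 n20002 = n42363 := rfl
theorem F65437 : act 2 n42363 = n34938 := d0_1 D42363 F55302 F31837 F32601 (iv2 F32600)
theorem F65438 : act 4 n42363 = n22377 := d5_2 F34803 D42363 F34931 (iv4 D22306) D22305
theorem F65439 : act 5 n42363 = n34919 := d6_2 F32535 D42363 (iv3 D34919)
theorem F65440 : act 1 n41066 = n42363 := d18_8 (iv1 F55279) (iv4 F53360) F54164 F51553 F40421 (iv4 F35230) F35232 D41066 F65439
theorem F65441 : act 1 n42363 = n41069 := d15_1 F65440 F65137 (iv2 F65136)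
theorem F65442 : act 0 n22306 = n22392 := d20_4 D41069 (iv1 F65441) F65438 F34931 (iv3 D22392) (iv4 F17197) D18570 (iv4 F30983) (iv3 F35229) (iv1 F35234)
def n42364 : Q := act 6 n20002
theorem D42364 : act 6 n20002 = n42364 := rfl
def n42365 : Q := act 6 n20003
theorem D42365 : act 6 n20003 = n42365 := rfl
theorem F65443 : act 2 n42365 = n20006 := d3_1 D42365 (iv6 D20006) D20003
theorem F65444 : act 4 n42365 = n22505 := d10_1 D42365 (iv6 D22505) F31830
def n42366 : Q := act 6 n20004
theorem D42366 : act 6 n20004 = n42366 := rfl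
theorem F65445 : act 2 n42366 = n22505 := d3_1 D42366 (iv6 D22505) (iv2 F31829)
theorem F65446 : act 3 n42366 = n23317 := d7_1 D42366 (iv6 D23317) (iv3 F31827)
theorem F65447 : act 4 n42366 = n20006 := d10_1 D42366 (iv6 D20006) D20004
def n42367 : Q := act 0 n20006
theorem D42367 : act 0 n20006 = n42367 := rfl
def n42368 : Q := act 1 n20006
theorem D42368 : act 1 n20006 = n42368 := rfl
def n42369 : Q := act 5 n20006
theorem D42369 : act 5 n20006 = n42369 := rfl
theorem F65448 : act 3 n42369 = n20010 := d6_1 D42369 (iv5 D20010) (iv3 F31833)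
def n42370 : Q := act 7 n20006
theorem D42370 : act 7 n20006 = n42370 := rfl
theorem F65449 : act 3 n42370 = n20011 := d8_1 D42370 (iv7 D20011) (iv3 F31833)
theorem F65450 : act 6 n42370 = n41300 := d14_1 D42370 F63623 (iv6 D20520) F15207 D20006
def n42371 : Q := act 0 n20007
theorem D42371 : act 0 n20007 = n42371 := rfl
theorem F65451 : act 1 n23741 = n42371 := d15_0 (iv0 D42371) (iv7 F50263) F50262
def n42372 : Q := act 1 n20007
theorem D42372 : act 1 n20007 = n42372 := rfl
theorem F65452 : act 1 n42372 = n23741 := d15_1 D42372 F36965 (iv2 F31834)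
def n42373 : Q := act 5 n20007
theorem D42373 : act 5 n20007 = n42373 := rfl
theorem F65453 : act 2 n42373 = n25502 := d2_1 D42373 (iv5 D25502) (iv2 F31834)
theorem F65454 : act 6 n42373 = n20010 := d12_2 D20007 D42373 (iv5 D20010) (iv6 D9436) D9435
def n42384 : Q := act 0 n20010
theorem D42384 : act 0 n20010 = n42384 := rfl
def n42385 : Q := act 1 n20010
theorem D42385 : act 1 n20010 = n42385 := rfl
theorem F65457 : act 5 n40433 = n42385 := d21_6 (iv5 F14669) F14670 F14665 D9947 (iv1 F63210) D40433 (iv1 D42385) (iv5 D20010) (iv6 D9436) (iv1 F6320)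
def n42386 : Q := act 4 n20010
theorem D42386 : act 4 n20010 = n42386 := rfl
def n42387 : Q := act 7 n20010
theorem D42387 : act 7 n20010 = n42387 := rfl
theorem F65458 : act 5 n42387 = n20011 := d13_1 D42387 (iv7 D20011) D20010
def n42388 : Q := act 6 n20012
theorem D42388 : act 6 n20012 = n42388 := rfl
theorem F65459 : act 2 n42388 = n34940 := d3_1 D42388 (iv6 D34940) F31837
def n42389 : Q := act 6 n20013
theorem D42389 : act 6 n20013 = n42389 := rfl
theorem F65460 : act 2 n42389 = n20015 := d3_1 D42389 (iv6 D20015) D20013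
def n42390 : Q := act 0 n20015
theorem D42390 : act 0 n20015 = n42390 := rfl
theorem F65461 : act 6 n42390 = n34930 := d21_5 (iv5 F28374) (iv1 F31843) (iv5 D20014) D20015 D42390 (iv5 D34930) (iv1 D16940) D16941 F27780 D16948
def n42391 : Q := act 1 n20015
theorem D42391 : act 1 n20015 = n42391 := rfl
def n42392 : Q := act 5 n20015
theorem D42392 : act 5 n20015 = n42392 := rfl
theorem F65462 : act 3 n42392 = n20019 := d6_1 D42392 (iv5 D20019) (iv3 F31845)
theorem F65463 : act 6 n42392 = n34899 := d12_2 D20015 D42392 F55221 F55165 (iv5 D20014)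
def n42393 : Q := act 0 n20016
theorem D42393 : act 0 n20016 = n42393 := rfl
theorem F65464 : act 4 n42393 = n42371 := d20_0 (iv1 F65451) F36964 (iv3 D23738) (iv1 F18209) (iv3 F37349) F37350 F27711 D34879 F55164 D42393
theorem F65465 : act 3 n25500 = n42393 := d20_5 F18207 (iv1 F7670) F10219 D12123 D25500 F65464 (iv1 F65451) F36964 (iv3 D23738) (iv1 F18209)
theorem F65466 : act 6 n42393 = n25631 := d7_2 (iv6 F55130) F65465 (iv3 D25631)
theorem F65467 : act 6 n23765 = n42371 := d10_2 F65466 F40535 (iv4 F65464)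
theorem F65468 : act 5 n23765 = n34861 := d21_6 (iv5 D4281) D4279 D9435 D20007 D42371 (iv6 F65467) (iv1 D34861) (iv5 D16900) F26936 (iv1 D9441)
def n42394 : Q := act 1 n20016
theorem D42394 : act 1 n20016 = n42394 := rfl
theorem F65469 : act 4 n42372 = n42394 := d20_0 (iv1 D42394) F31846 (iv3 F37345) (iv1 D23925) (iv3 D11209) (iv4 D5142) D5140 (iv4 F18038) D23741 (iv1 F65452)
def n42395 : Q := act 5 n20016
theorem D42395 : act 5 n20016 = n42395 := rfl
theorem F65470 : act 3 n42395 = n34899 := d6_1 D42395 F55221 F55164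
theorem F65471 : act 6 n42395 = n20019 := d12_2 D20016 D42395 (iv5 D20019) (iv6 D9439) D9438
def n42396 : Q := act 7 n20016
theorem D42396 : act 7 n20016 = n42396 := rfl
theorem F65472 : act 3 n42396 = n23743 := d8_1 D42396 (iv7 F55166) F55164
theorem F65473 : act 4 n42396 = n42287 := d11_1 D42396 (iv7 D42287) (iv4 F31846)
theorem F65474 : act 6 n42396 = n23741 := d14_1 D42396 F36965 (iv6 F27048) F15216 D20016
def n42397 : Q := act 0 n20019
theorem D42397 : act 0 n20019 = n42397 := rfl
theorem F65475 : act 5 n42397 = n40435 := d17_3 F63160 D20019 D42397 (iv4 D40435) (iv5 D19105) (iv0 F35685) (iv5 F16782) F35606 D19457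
theorem F65476 : act 1 n41301 = n42397 := d15_0 (iv0 D42397) (iv7 F63676) F63675
theorem F65477 : act 0 n22086 = n41486 := d17_0 (iv5 D41486) F63163 (iv5 F33041) (iv4 F63138) D41301 F65476 F65475 (iv0 F63350) (iv4 F62871)
def n42398 : Q := act 1 n20019
theorem D42398 : act 1 n20019 = n42398 := rfl
theorem F65478 : act 1 n42398 = n41301 := d15_1 D42398 F63624 F32616
theorem F65479 : act 5 n42139 = n42398 := d21_6 D4281 D9440 F14663 D9945 (iv1 F63357) D42139 (iv1 D42398) (iv5 D20019) (iv6 D9439) (iv1 D4280)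
def n42399 : Q := act 4 n20019
theorem D42399 : act 4 n20019 = n42399 := rfl
def n42400 : Q := act 5 n20022
theorem D42400 : act 5 n20022 = n42400 := rfl
theorem F65480 : act 3 n42400 = n25726 := d6_1 D42400 F40644 (iv3 F31857)
theorem F65481 : act 6 n42400 = n20924 := d12_2 D20022 D42400 (iv5 D20924) (iv6 D9945) (iv5 F14663)
def n42401 : Q := act 0 n20023
theorem D42401 : act 0 n20023 = n42401 := rfl
theorem F65482 : act 4 n42401 = n34882 := d20_2 (iv4 F31860) D42401 (iv3 F55348) F55601 F55599 (iv4 D32507) (iv1 F54151) F51508 F65144 (iv1 F65143)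
theorem F65483 : act 3 n42401 = n32618 := d20_5 F14666 (iv1 D9441) D9442 D20023 D42401 (iv4 F55338) (iv1 F55340) (iv4 F51583) F40413 (iv1 D19872)
theorem F65484 : act 1 n20023 = n42401 := d15_0 (iv0 D42401) F31862 (iv2 F31859)
theorem F65485 : act 2 n42200 = n42401 := d0_5 F65483 F55300 F55298 F51358 F65144
theorem F65486 : act 6 n34881 = n42401 := d7_0 F65483 (iv6 F55282) (iv3 F55173)
theorem F65487 : act 7 n42200 = n42401 := d8_0 F65483 F55281 F65144
def n42402 : Q := act 6 n20023
theorem D42402 : act 6 n20023 = n42402 := rfl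
theorem F65488 : act 2 n42402 = n42201 := d3_1 D42402 (iv6 D42201) (iv2 F31859)
theorem F65489 : act 3 n42402 = n20024 := d7_1 D42402 (iv6 D20024) D20023
theorem F65490 : act 4 n42402 = n42201 := d10_1 D42402 (iv6 D42201) (iv4 F31860)
def n42403 : Q := act 0 n20024
theorem D42403 : act 0 n20024 = n42403 := rfl
def n42404 : Q := act 1 n20024
theorem D42404 : act 1 n20024 = n42404 := rfl
theorem F65491 : act 1 n42404 = n20536 := d15_1 D42404 (iv7 D20536) (iv2 F31863)
def n42405 : Q := act 5 n20024
theorem D42405 : act 5 n20024 = n42405 := rfl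
theorem F65492 : act 2 n42405 = n20535 := d2_1 D42405 (iv5 D20535) (iv2 F31863)
theorem F65493 : act 6 n42405 = n20454 := d12_2 D20024 D42405 (iv5 D20454) (iv6 D9712) (iv5 F14669)
def n42406 : Q := act 7 n20024
theorem D42406 : act 7 n20024 = n42406 := rfl
theorem F65494 : act 2 n42406 = n20536 := d4_1 D42406 (iv7 D20536) (iv2 F31863)
theorem F65495 : act 4 n42406 = n20028 := d11_1 D42406 (iv7 D20028) (iv4 F31864)
theorem F65496 : act 6 n42406 = n42209 := d14_1 D42406 (iv7 D42209) (iv6 D19926) (iv7 F14668) D20024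
theorem F65497 : act 1 n20536 = n42403 := d15_0 (iv0 D42403) D42406 F65494
theorem F65498 : act 1 n20534 = n42406 := d15_1 D20534 (iv7 D42406) F31863
theorem F65499 : act 1 n42406 = n20533 := d15_0 (iv0 D20533) D20536 (iv2 F65494)
def n42407 : Q := act 2 n20025
theorem D42407 : act 2 n20025 = n42407 := rfl
theorem F65500 : act 7 n20026 = n42407 := d15_2 (iv0 D20025) D20026 (iv2 D42407)
def n42408 : Q := act 3 n20025
theorem D42408 : act 3 n20025 = n42408 := rfl
def n42409 : Q := act 4 n20025
theorem D42409 : act 4 n20025 = n42409 := rfl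
def n42410 : Q := act 5 n20025
theorem D42410 : act 5 n20025 = n42410 := rfl
def n42411 : Q := act 6 n20025
theorem D42411 : act 6 n20025 = n42411 := rfl
def n42412 : Q := act 7 n20025
theorem D42412 : act 7 n20025 = n42412 := rfl
theorem F65501 : act 2 n42412 = n20026 := d4_1 D42412 F65500 (iv2 D42407)
def n42413 : Q := act 3 n20026
theorem D42413 : act 3 n20026 = n42413 := rfl
def n42414 : Q := act 4 n20026
theorem D42414 : act 4 n20026 = n42414 := rfl
def n42415 : Q := act 5 n20026
theorem D42415 : act 5 n20026 = n42415 := rfl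
def n42416 : Q := act 6 n20026
theorem D42416 : act 6 n20026 = n42416 := rfl
def n42417 : Q := act 0 n20027
theorem D42417 : act 0 n20027 = n42417 := rfl
theorem F65502 : act 5 n42417 = n25641 := d21_8 F65468 (iv1 D34861) (iv5 D16900) F26936 (iv1 D9441) D9443 D20027 D42417 (iv6 D25641) (iv1 F37038)
theorem F65503 : act 2 n25648 = n42417 := d2_3 F65502 F40540 D25648
def n42418 : Q := act 1 n20027
theorem D42418 : act 1 n20027 = n42418 := rfl
theorem F65504 : act 7 n42418 = n25648 := d15_2 (iv0 D42417) D42418 F65503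
theorem F65505 : act 3 n25657 = n42418 := d8_3 F65504 F40544 D25657
theorem F65506 : act 5 n25649 = n42418 := d13_3 F65504 (iv5 D25648) D25649
theorem F65507 : act 0 n20761 = n29666 := d21_4 F14663 (iv1 F6599) D9868 D20761 F47672 F65506 (iv1 D42418) (iv5 D20027) (iv6 D9443) D9440
theorem E7122 : n24006 = n20934 := (c20_10 (iv4 F32919) F65507 F47671 F40034 (iv1 F19918) (iv3 F37526) (iv4 D24004) (iv1 D11260) D11261 D24006 (iv1 D20934))
theorem F65508 : act 3 n20934 = n11261 := (sb E7122 (iv3 D24006))
theorem F65509 : act 4 n20934 = n24228 := (sb E7122 (iv4 F37983))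
theorem F65510 : act 7 n20934 = n24058 := (sb E7122 (iv7 F37650))
theorem E7123 : n23767 = n20789 := (c20_4 (iv4 D11377) F7825 (iv4 F18075) (iv3 F37041) (iv1 D20789) (iv3 F15688) (iv4 F32919) F65507 F47671 F40034 (iv1 F19918))
theorem F65511 : act 2 n20789 = n33029 := (sb E7123 (iv2 F52210))
theorem F65512 : act 3 n20789 = n11132 := (sb E7123 F37041)
theorem F65513 : act 4 n20789 = n12031 := (sb E7123 F37042)
theorem F65514 : act 6 n20789 = n11130 := (sb E7123 (iv6 D23767))
theorem F65515 : act 7 n20789 = n29666 := (sb E7123 (iv7 F47673))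
theorem F65516 : act 2 n29666 = n20788 := d15_3 (iv0 D20788) D20789 F65515
theorem F65517 : act 7 n33029 = n20788 := d4_2 (iv7 F65515) F65511 (iv2 F65516)
theorem F65518 : act 3 n20788 = n33034 := d8_1 F65517 (iv7 D33034) (iv3 F52211)
theorem F65519 : act 1 n20761 = n33029 := d15_1 (iv0 F65507) F65517 (iv2 F65516)
theorem F65520 : act 1 n33029 = n20791 := d15_1 F65519 (iv7 D20791) (iv2 F32918)
theorem E7124 : n34853 = n25642 := (c21_1 D34853 (iv1 F52209) (iv5 D33028) D33029 (iv1 F65519) (iv6 D20761) (iv5 D9868) (iv1 F6600) (iv5 F14665) (iv6 F26936) D16897)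
theorem F65521 : act 5 n25642 = n16897 := (sb E7124 (iv5 D34853))
theorem F65522 : act 1 n20791 = n29666 := d15_1 F65520 (iv7 F65515) F65511
theorem F65523 : act 0 n20787 = n24058 := d20_1 (iv4 F32956) (iv4 F38876) (iv3 D24835) (iv1 F37529) F37526 (iv4 D11377) F7825 (iv4 F18075) (iv3 F65512) (iv1 D20789)
theorem F65524 : act 2 n24058 = n20933 := d15_3 (iv0 D20933) D20934 F65510
theorem F65525 : act 3 n20933 = n29195 := d0_2 D24058 F65524 F46851 (iv3 D24011) (iv2 F18415)
def n42419 : Q := act 4 n20027
theorem D42419 : act 4 n20027 = n42419 := rfl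
theorem F65526 : act 6 n42419 = n20041 := d10_2 (iv6 F31865) D42419 (iv4 D20041)
def n42420 : Q := act 7 n20027
theorem D42420 : act 7 n20027 = n42420 := rfl
theorem F65527 : act 5 n42420 = n20028 := d13_1 D42420 (iv7 D20028) D20027
def n42421 : Q := act 0 n20030
theorem D42421 : act 0 n20030 = n42421 := rfl
def n42422 : Q := act 1 n20030
theorem D42422 : act 1 n20030 = n42422 := rfl
def n42423 : Q := act 2 n20030
theorem D42423 : act 2 n20030 = n42423 := rfl
def n42424 : Q := act 4 n20030
theorem D42424 : act 4 n20030 = n42424 := rfl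
theorem F65528 : act 7 n42424 = n22515 := d11_2 F65163 D42424 (iv4 F65164)
theorem F65529 : act 2 n42424 = n22514 := d15_3 (iv0 D22514) D22515 (iv7 F65528)
theorem F65530 : act 4 n22514 = n42423 := d1_2 D42424 F65529 (iv2 D42423)
def n42425 : Q := act 5 n20030
theorem D42425 : act 5 n20030 = n42425 := rfl
theorem F65531 : act 3 n42425 = n20032 := d6_1 D42425 (iv5 D20032) D20030
def n42426 : Q := act 6 n20030
theorem D42426 : act 6 n20030 = n42426 := rfl
theorem F65532 : act 3 n42426 = n20033 := d7_1 D42426 (iv6 D20033) D20030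
def n42427 : Q := act 0 n20031
theorem D42427 : act 0 n20031 = n42427 := rfl
theorem F65533 : act 1 n20036 = n42427 := d15_0 (iv0 D42427) (iv7 F65166) F65165
def n42428 : Q := act 1 n20031
theorem D42428 : act 1 n20031 = n42428 := rfl
theorem F65534 : act 1 n42428 = n20036 := d15_1 D42428 F63390 (iv2 F63405)
def n42429 : Q := act 3 n20031
theorem D42429 : act 3 n20031 = n42429 := rfl
theorem F65535 : act 2 n42429 = n22987 := d0_1 D42429 (iv3 D22987) (iv2 F63377) D10865 (iv2 F63405)
theorem F65536 : act 7 n42429 = n23054 := d8_2 F65166 D42429 F65168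
theorem F65537 : act 0 n42429 = n23083 := d20_4 (iv4 F6182) D9444 D20031 D42429 (iv3 D23083) D23084 F36135 (iv4 D20074) (iv3 D9454) (iv1 D4284)
theorem E7125 : n23083 = n23053 := ((c15_1 D23053 (iv0 F65537) F65536 (iv2 D23054))).symm
theorem F65538 : act 1 n23053 = n42429 := (sb E7125 (iv0 F65537))
theorem F65539 : act 3 n23053 = n10878 := (sb E7125 (iv3 D23083))
theorem F65540 : act 4 n23053 = n20200 := (sb E7125 F36134)
theorem F65541 : act 1 n22987 = n23103 := d15_0 (iv0 F65170) (iv7 F65536) F65535
theorem F65542 : act 1 n42429 = n23052 := d15_0 (iv0 D23052) (iv7 F63378) (iv2 F65535)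
theorem F65543 : act 4 n20057 = n23033 := d20_2 D9455 (iv1 F31883) (iv3 F36114) (iv1 F65542) (iv3 D42429) (iv4 D20031) (iv1 F31761) F31757 F14623 (iv1 F14625)
theorem E7126 : n20192 = n20049 := ((c20_11 (iv4 F36088) (iv1 F36093) (iv4 D10871) D10870 D23052 F36114 (iv4 F65543) (iv1 D20057) (iv4 D9450) D9449 D20049)).symm
theorem F65544 : act 3 n20049 = n9535 := (sb E7126 (iv3 D20192))
theorem F65545 : act 4 n20049 = n23038 := (sb E7126 (iv4 F36088))
def n42430 : Q := act 5 n20031
theorem D42430 : act 5 n20031 = n42430 := rfl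
theorem F65546 : act 2 n42430 = n23035 := d2_1 D42430 (iv5 D23035) (iv2 F63405)
def n42431 : Q := act 6 n20031
theorem D42431 : act 6 n20031 = n42431 := rfl
theorem F65547 : act 2 n42431 = n23036 := d3_1 D42431 (iv6 D23036) (iv2 F63405)
theorem F65548 : act 4 n42431 = n20033 := d10_1 D42431 (iv6 D20033) D20031
def n42432 : Q := act 0 n20032
theorem D42432 : act 0 n20032 = n42432 := rfl
theorem F65549 : act 5 n42432 = n42192 := d17_3 D9444 D20032 D42432 F65122 (iv5 F31888) (iv0 D20062) (iv5 D9451) (iv0 D4283) (iv4 F6182)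
theorem F65550 : act 0 n41313 = n20033 := d21_4 D20931 (iv1 F63640) (iv5 D41312) D41313 (iv6 D20033) D20032 D42432 F65549 (iv6 D42192) F63211
theorem F65551 : act 1 n20037 = n42432 := d15_0 (iv0 D42432) (iv7 F65172) F65171
theorem F65552 : act 1 n41324 = n20033 := d15_0 (iv0 F65550) F63642 (iv2 F63671)
def n42433 : Q := act 1 n20032
theorem D42433 : act 1 n20032 = n42433 := rfl
theorem F65553 : act 1 n42433 = n20037 := d15_1 D42433 (iv7 F65162) F65161
def n42434 : Q := act 4 n20032
theorem D42434 : act 4 n20032 = n42434 := rfl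
def n42435 : Q := act 6 n20032
theorem D42435 : act 6 n20032 = n42435 := rfl
def n42436 : Q := act 5 n20033
theorem D42436 : act 5 n20033 = n42436 := rfl
theorem F65554 : act 2 n42436 = n20803 := d2_1 D42436 (iv5 F63684) (iv2 F63683)
theorem F65555 : act 0 n42436 = n20764 := d17_2 F65550 D42436 (iv5 D20764) F15518 F6509 D9871 (iv5 F15520) (iv0 F35611) (iv4 F63641)
theorem F65556 : act 1 n42436 = n20805 := d15_1 (iv0 F65555) (iv7 D20805) (iv2 F32921)
def n42437 : Q := act 7 n20033
theorem D42437 : act 7 n20033 = n42437 := rfl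
def n42438 : Q := act 0 n20035
theorem D42438 : act 0 n20035 = n42438 := rfl
def n42439 : Q := act 1 n20035
theorem D42439 : act 1 n20035 = n42439 := rfl
def n42440 : Q := act 2 n20035
theorem D42440 : act 2 n20035 = n42440 := rfl
def n42441 : Q := act 4 n20035
theorem D42441 : act 4 n20035 = n42441 := rfl
theorem F65557 : act 3 n42441 = n22991 := d5_1 D42441 (iv4 D22991) F31868 (iv4 D20036) D20035
theorem F65558 : act 7 n42441 = n23040 := d11_2 F65160 D42441 (iv4 F65159)
def n42442 : Q := act 5 n20035
theorem D42442 : act 5 n20035 = n42442 := rfl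
theorem F65559 : act 3 n42442 = n20037 := d6_1 D42442 (iv5 D20037) D20035
def n42443 : Q := act 6 n20035
theorem D42443 : act 6 n20035 = n42443 := rfl
theorem F65560 : act 3 n42443 = n20038 := d7_1 D42443 (iv6 D20038) D20035
def n42444 : Q := act 5 n20036
theorem D42444 : act 5 n20036 = n42444 := rfl
theorem F65561 : act 3 n42444 = n22992 := d6_1 D42444 (iv5 D22992) F31868
theorem F65562 : act 7 n42444 = n23035 := d13_2 (iv7 F63390) D42444 (iv5 D23035)
def n42445 : Q := act 6 n20036
theorem D42445 : act 6 n20036 = n42445 := rfl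
theorem F65563 : act 3 n42445 = n22993 := d7_1 D42445 (iv6 D22993) F31868
theorem F65564 : act 4 n42445 = n20038 := d10_1 D42445 (iv6 D20038) D20036
def n42446 : Q := act 4 n20037
theorem D42446 : act 4 n20037 = n42446 := rfl
def n42447 : Q := act 6 n20037
theorem D42447 : act 6 n20037 = n42447 := rfl
def n42448 : Q := act 0 n20038
theorem D42448 : act 0 n20038 = n42448 := rfl
def n42449 : Q := act 1 n20038
theorem D42449 : act 1 n20038 = n42449 := rfl
def n42450 : Q := act 5 n20038
theorem D42450 : act 5 n20038 = n42450 := rfl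
theorem F65565 : act 0 n42138 = n42450 := d21_1 D42138 (iv5 D42450) (iv6 D20038) (iv1 D9445) (iv6 D4282) D4281 D9440 F14663 D9945 (iv1 F63357)
def n42451 : Q := act 7 n20038
theorem D42451 : act 7 n20038 = n42451 := rfl
def n42452 : Q := act 2 n20039
theorem D42452 : act 2 n20039 = n42452 := rfl
theorem F65566 : act 7 n20040 = n42452 := d15_2 (iv0 D20039) D20040 (iv2 D42452)
def n42453 : Q := act 3 n20039
theorem D42453 : act 3 n20039 = n42453 := rfl
def n42454 : Q := act 4 n20039
theorem D42454 : act 4 n20039 = n42454 := rfl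
def n42455 : Q := act 5 n20039
theorem D42455 : act 5 n20039 = n42455 := rfl
theorem F65567 : act 1 n42455 = n40439 := d17_8 F35808 (iv5 D20089) (iv1 F31775) F31772 (iv4 F31757) (iv5 F65178) F65181 D42455 F61526
def n42456 : Q := act 6 n20039
theorem D42456 : act 6 n20039 = n42456 := rfl
def n42457 : Q := act 7 n20039
theorem D42457 : act 7 n20039 = n42457 := rfl
theorem F65568 : act 2 n42457 = n20040 := d4_1 D42457 F65566 (iv2 D42452)
def n42458 : Q := act 3 n20040
theorem D42458 : act 3 n20040 = n42458 := rfl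
def n42459 : Q := act 4 n20040
theorem D42459 : act 4 n20040 = n42459 := rfl
def n42460 : Q := act 5 n20040
theorem D42460 : act 5 n20040 = n42460 := rfl
theorem F65569 : act 6 n42460 = n20900 := d21_3 (iv5 F65178) (iv1 F65180) D42460 (iv1 F33063) F15692 (iv5 F32961) (iv1 F65556) (iv5 D42436) (iv6 D20033) (iv1 F31761)
theorem F65570 : act 2 n20941 = n42460 := d3_3 F65569 F62872 D20941
theorem F65571 : act 4 n21708 = n42460 := d10_3 F65569 (iv4 F33065) D21708
theorem F65572 : act 0 n42460 = n40439 := d20_7 (iv4 F16026) (iv1 F16030) F16051 (iv3 F31587) F63258 (iv3 F34157) F65571 F61526 F30704 F15394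
theorem E7127 : n42457 = n42217 := (c2_4 (iv5 F65175) F65570 (iv5 D42460) (iv2 F65568))
theorem F65573 : act 2 n42217 = n20040 := (sb E7127 F65568)
theorem F65574 : act 7 n42217 = n20039 := (sb E7127 (iv7 D42457))
theorem F65575 : act 7 n42455 = n20941 := d13_2 F65574 D42455 F65175
theorem E7128 : n42452 = n42216 := (c15_4 (iv0 D42216) D42217 F65574 D42452)
theorem F65576 : act 2 n42216 = n20039 := (sb E7128 (iv2 D42452))
theorem F65577 : act 7 n42216 = n20040 := (sb E7128 (iv7 F65566))
def n42461 : Q := act 6 n20040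
theorem D42461 : act 6 n20040 = n42461 := rfl
def n42462 : Q := act 0 n20041
theorem D42462 : act 0 n20041 = n42462 := rfl
def n42463 : Q := act 1 n20041
theorem D42463 : act 1 n20041 = n42463 := rfl
def n42464 : Q := act 3 n20041
theorem D42464 : act 3 n20041 = n42464 := rfl
def n42465 : Q := act 5 n20041
theorem D42465 : act 5 n20041 = n42465 := rfl
def n42466 : Q := act 7 n20041
theorem D42466 : act 7 n20041 = n42466 := rfl
theorem F65578 : act 4 n42466 = n20042 := d11_1 D42466 (iv7 D20042) D20041
def n42467 : Q := act 6 n20042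
theorem D42467 : act 6 n20042 = n42467 := rfl
def n42468 : Q := act 2 n20049
theorem D42468 : act 2 n20049 = n42468 := rfl
theorem F65579 : act 7 n20050 = n42468 := d15_2 (iv0 D20049) D20050 (iv2 D42468)
def n42469 : Q := act 5 n20049
theorem D42469 : act 5 n20049 = n42469 := rfl
theorem F65580 : act 3 n42469 = n20194 := d6_1 D42469 (iv5 D20194) (iv3 F65544)
def n42470 : Q := act 6 n20049
theorem D42470 : act 6 n20049 = n42470 := rfl
def n42471 : Q := act 7 n20049
theorem D42471 : act 7 n20049 = n42471 := rfl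
theorem F65582 : act 2 n42471 = n20050 := d4_1 D42471 F65579 (iv2 D42468)
theorem F65583 : act 3 n42471 = n20186 := d8_1 D42471 (iv7 F32023) (iv3 F65544)
theorem F65584 : act 2 n20187 = n20071 := d0_3 F65583 (iv2 D20186) D20187 F36162 (iv2 F65582)
theorem F65586 : act 7 n20072 = n20187 := d15_2 (iv0 D20071) D20072 F65584
theorem F65587 : act 7 n42220 = n20071 := d15_2 F65222 F65182 (iv2 F65584)
theorem F65588 : act 2 n20072 = n42220 := d4_3 F65587 (iv2 F65584) (iv7 F65586)
theorem E7129 : n42468 = n42232 := (c8_3 F65587 F36162 F65579 (iv3 F65214))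
theorem F65589 : act 2 n42232 = n20049 := (sb E7129 (iv2 D42468))
theorem F65590 : act 7 n42232 = n20050 := (sb E7129 (iv7 F65579))
theorem E7130 : n42471 = n42231 := (c15_4 (iv0 D42231) D42232 F65590 (iv2 F65582))
theorem F65595 : act 3 n42231 = n20186 := (sb E7130 F65583)
theorem F65596 : act 7 n42231 = n20049 := (sb E7130 (iv7 D42471))
theorem E7131 : n20191 = n9514 := (c0_4 F65214 F65589 F65544 (iv2 F32024) (iv3 F65191) F65588)
theorem E7132 : n20155 = n9535 := ((D20155).symm.trans (sb E7131 F32024))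
theorem E7133 : n20160 = n9534 := ((D20160).symm.trans (sb E7131 (iv7 D20191)))
theorem F65597 : act 2 n9535 = n9514 := (sb E7132 (iv2 D20155))
theorem E7134 : n20186 = n9515 := ((F32023).symm.trans (sb E7132 (iv7 F31991)))
theorem F65598 : act 7 n9534 = n9514 := (sb E7133 (iv7 D20160))
theorem F65599 : act 2 n9515 = n9534 := (sb E7134 (iv2 D20186))
theorem E7135 : n42231 = n20161 := (((D20161).symm.trans (sb E7134 (iv3 F65595)))).symm
theorem F65600 : act 7 n9515 = n9535 := (sb E7134 (iv7 F32023))
theorem F65601 : act 0 n20161 = n20051 := (sb E7135 (iv1 F65213))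
theorem F65604 : act 7 n20161 = n20049 := (sb E7135 F65596)
theorem F65605 : act 0 n23055 = n20162 := d20_7 (iv4 F35765) (iv1 F36043) F36041 F17649 (iv1 F17651) D10870 D23055 (iv4 D20162) D20161 F65601
theorem F65606 : act 7 n20193 = n20162 := d11_2 F65600 D20193 (iv4 D20162)
theorem F65607 : act 7 n20194 = n20163 := d13_2 F65600 D20194 (iv5 D20163)
theorem F65608 : act 2 n20188 = n20162 := d1_3 (iv4 D20162) F65599 D20188
theorem F65609 : act 2 n20189 = n20163 := d2_3 (iv5 D20163) F65599 D20189
theorem F65611 : act 7 n20157 = n20188 := d15_2 (iv0 F65605) (iv0 F36115) F65608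
theorem F65612 : act 2 n20157 = n20193 := d4_3 F65606 (iv2 F65608) (iv7 F65611)
theorem F65613 : act 7 n20158 = n20189 := d13_2 F65598 D20158 (iv5 D20189)
theorem F65614 : act 2 n20194 = n20158 := d4_3 F65613 F65609 (iv7 F65607)
theorem F65615 : act 2 n20159 = n20195 := d3_3 (iv6 D20195) F65597 D20159
theorem F65616 : act 2 n20714 = n20704 := d2_3 (iv5 F33545) F65615 F33608
theorem F65618 : act 7 n20713 = n20704 := d15_2 F32846 F32842 (iv2 F65616)
def n42474 : Q := act 5 n20051
theorem D42474 : act 5 n20051 = n42474 := rfl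
theorem F65620 : act 2 n42474 = n20053 := d2_1 D42474 (iv5 D20053) D20051
def n42475 : Q := act 6 n20051
theorem D42475 : act 6 n20051 = n42475 := rfl
theorem F65621 : act 2 n42475 = n20054 := d3_1 D42475 (iv6 D20054) D20051
theorem F65622 : act 4 n42475 = n23018 := d10_1 D42475 (iv6 D23018) F35765
def n42476 : Q := act 3 n20052
theorem D42476 : act 3 n20052 = n42476 := rfl
theorem F65623 : act 4 n42476 = n20058 := d5_2 D20052 D42476 (iv3 D20058) (iv4 D9450) D9449
theorem F65624 : act 7 n42476 = n23019 := d8_2 (iv7 F35763) D42476 (iv3 D23019)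
def n42477 : Q := act 5 n20052
theorem D42477 : act 5 n20052 = n42477 := rfl
theorem F65625 : act 2 n42477 = n23017 := d2_1 D42477 (iv5 D23017) (iv2 F35764)
theorem F65626 : act 7 n42477 = n23020 := d13_2 (iv7 F35763) D42477 (iv5 D23020)
theorem F65627 : act 0 n42477 = n42016 := d17_2 F31879 D42477 (iv5 D42016) F31579 D19813 (iv0 F63323) (iv5 D22989) (iv0 D10850) (iv4 F17642)
def n42478 : Q := act 0 n20053
theorem D42478 : act 0 n20053 = n42478 := rfl
def n42479 : Q := act 1 n20053
theorem D42479 : act 1 n20053 = n42479 := rfl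
def n42480 : Q := act 4 n20053
theorem D42480 : act 4 n20053 = n42480 := rfl
theorem F65628 : act 0 n42480 = n42026 := d20_7 D10891 (iv1 F32012) (iv4 D20181) (iv3 F35709) (iv1 D20063) (iv3 F31880) D42480 (iv4 D42026) F31585 F14505
def n42481 : Q := act 6 n20053
theorem D42481 : act 6 n20053 = n42481 := rfl
theorem F65629 : act 3 n42481 = n20065 := d7_1 D42481 (iv6 D20065) (iv3 F31880)
def n42482 : Q := act 0 n20054
theorem D42482 : act 0 n20054 = n42482 := rfl
def n42483 : Q := act 1 n20054
theorem D42483 : act 1 n20054 = n42483 := rfl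
def n42484 : Q := act 2 n20056
theorem D42484 : act 2 n20056 = n42484 := rfl
theorem F65630 : act 7 n20057 = n42484 := d15_2 (iv0 D20056) D20057 (iv2 D42484)
def n42485 : Q := act 3 n20056
theorem D42485 : act 3 n20056 = n42485 := rfl
def n42486 : Q := act 5 n20056
theorem D42486 : act 5 n20056 = n42486 := rfl
def n42487 : Q := act 6 n20056
theorem D42487 : act 6 n20056 = n42487 := rfl
def n42488 : Q := act 7 n20056
theorem D42488 : act 7 n20056 = n42488 := rfl
theorem F65631 : act 2 n42488 = n20057 := d4_1 D42488 F65630 (iv2 D42484)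
def n42492 : Q := act 0 n20058
theorem D42492 : act 0 n20058 = n42492 := rfl
def n42493 : Q := act 1 n20058
theorem D42493 : act 1 n20058 = n42493 := rfl
def n42494 : Q := act 2 n20058
theorem D42494 : act 2 n20058 = n42494 := rfl
def n42495 : Q := act 5 n20058
theorem D42495 : act 5 n20058 = n42495 := rfl
theorem F65632 : act 3 n42495 = n20059 := d6_1 D42495 (iv5 D20059) D20058
def n42496 : Q := act 6 n20058
theorem D42496 : act 6 n20058 = n42496 := rfl
theorem F65633 : act 3 n42496 = n20060 := d7_1 D42496 (iv6 D20060) D20058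
def n42497 : Q := act 0 n20059
theorem D42497 : act 0 n20059 = n42497 := rfl
theorem F65634 : act 1 n20078 = n42497 := d15_0 (iv0 D42497) (iv7 F65230) F65229
theorem F65635 : act 5 n42497 = n41820 := d17_7 (iv1 F35724) (iv5 F31888) F31890 (iv5 D9456) D9455 D20078 F65634 (iv0 F64486) F33146
theorem F65636 : act 1 n41826 = n23035 := d17_6 (iv1 D20057) D20059 D42497 F65635 F64485 D41826 (iv5 D23035) D23033 (iv4 F65543)
theorem E7136 : n42273 = n9450 := (c21_11 D20059 D42497 F65635 (iv6 D41820) F35822 (iv6 D9379) D9378 (iv1 F31717) F31718 D19952 D42273)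
theorem E7137 : n20057 = n19952 := ((D20057).symm.trans (sb E7136 (iv0 D42273)))
theorem F65637 : act 0 n19952 = n9450 := (sb E7137 (iv1 D20057))
theorem E7138 : n42274 = n9455 := ((D42274).symm.trans (sb E7137 F31883))
theorem E7139 : n42488 = n20475 := ((((iv2 F32536)).symm.trans (sb E7137 (iv2 F65631)))).symm
theorem E7141 : n23033 = n20385 := ((((iv4 F32367)).symm.trans (sb E7137 F65543))).symm
theorem E7144 : n42484 = n42276 := (((D42276).symm.trans (sb E7137 F65630))).symm
theorem F65638 : act 0 n9455 = n19952 := (sb E7138 (iv1 D42274))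
theorem F65639 : act 7 n20475 = n20056 := (sb E7139 (iv7 D42488))
theorem F65640 : act 0 n20385 = n10865 := (sb E7141 (iv1 D23033))
theorem F65641 : act 1 n20385 = n42213 := (sb E7141 F65167)
theorem E7145 : n23052 = n10641 := (((F32366).symm.trans (sb E7141 (iv3 F36114)))).symm
theorem F65642 : act 2 n42276 = n20056 := (sb E7144 (iv2 D42484))
theorem E7146 : n42429 = n22351 := (((D22351).symm.trans (sb E7145 (iv1 F65542)))).symm
theorem E7147 : n22352 = n10870 := ((D22352).symm.trans (sb E7145 (iv0 D23052)))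
theorem E7148 : n20199 = n9082 := (((F17183).symm.trans (sb E7145 F36113))).symm
theorem E7149 : n23053 = n10648 := ((((iv1 F34896)).symm.trans (sb E7146 (iv1 F65538)))).symm
theorem F65643 : act 2 n22351 = n22987 := (sb E7146 F65535)
theorem F65644 : act 3 n22351 = n20031 := (sb E7146 (iv3 D42429))
theorem F65646 : act 0 n10870 = n10641 := (sb E7147 (iv1 D22352))
theorem E7150 : n20165 = n19337 := (((D19337).symm.trans (sb E7148 (iv1 F32036)))).symm
theorem E7151 : n19338 = n9537 := ((D19338).symm.trans (sb E7148 (iv0 D20199)))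
theorem F65647 : act 0 n10648 = n10870 := (sb E7149 (iv1 D23053))
theorem E7152 : n10878 = n4888 := (((F17193).symm.trans (sb E7149 F65539))).symm
theorem E7153 : n22362 = n20200 := (((iv4 F34920)).symm.trans (sb E7149 F65540))
theorem E7154 : n41087 = n9517 := ((D41087).symm.trans (sb E7150 F31993))
theorem E7155 : n41089 = n9516 := ((D41089).symm.trans (sb E7150 (iv4 D20165)))
theorem F65648 : act 0 n9537 = n9082 := (sb E7151 (iv1 D19338))
theorem E7161 : n10887 = n10606 := ((((iv1 F17120)).symm.trans (sb E7152 (iv1 F17674)))).symm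
theorem E7162 : n10605 = n4957 := ((F17125).symm.trans (sb E7152 (iv0 D10878)))
theorem E7164 : n23084 = n10663 := ((((iv4 F17214)).symm.trans (sb E7152 D23084))).symm
theorem E7166 : n23086 = n10616 := ((((iv6 F17144)).symm.trans (sb E7152 D23086))).symm
theorem F65650 : act 2 n20200 = n19340 := (sb E7153 F34919)
theorem F65651 : act 4 n20200 = n10648 := (sb E7153 F34920)
theorem F65652 : act 6 n20200 = n19349 := (sb E7153 F34921)
theorem F65653 : act 7 n20200 = n10644 := (sb E7153 (iv7 D22362))
theorem F65654 : act 2 n9517 = n19337 := (sb E7154 (iv2 D41087))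
theorem F65655 : act 4 n9516 = n19337 := (sb E7155 (iv4 D41089))
theorem E7168 : n10879 = n4853 := ((((iv1 D10606)).symm.trans (sb E7161 (iv1 F17676)))).symm
theorem E7169 : n4961 = n4886 := ((((iv2 F35526)).symm.trans (sb E7161 (iv2 D10887)))).symm
theorem E7170 : n22249 = n10606 := ((D22249).symm.trans (sb E7161 (tr F17672 E7161)))
theorem E7171 : n23112 = n22250 := (((D22250).symm.trans (sb E7161 D23112))).symm
theorem E7172 : n23113 = n22251 := (((D22251).symm.trans (sb E7161 D23113))).symm
theorem E7174 : n10880 = n4885 := (((F35518).symm.trans (sb E7161 F17673))).symm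
theorem F65657 : act 0 n4957 = n4888 := (sb E7162 (iv1 F17125))
theorem E7175 : n22245 = n2040 := ((((iv3 D4957)).symm.trans (sb E7162 D22245))).symm
theorem E7176 : n22246 = n10881 := (((D10881).symm.trans (sb E7162 D22246))).symm
theorem E7177 : n22247 = n10882 := (((D10882).symm.trans (sb E7162 D22247))).symm
theorem E7178 : n10506 = n10203 := (((F16041).symm.trans (sb E7162 F17119))).symm
theorem E7179 : n22241 = n20074 := (((iv1 F34704)).symm.trans (sb E7164 F36135))
theorem E7180 : n23299 = n22279 := ((((iv5 F34755)).symm.trans (sb E7166 F36407))).symm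
theorem F65658 : act 0 n4853 = n4957 := (sb E7168 (iv1 D10879))
theorem E7181 : n23088 = n10600 := ((((iv3 F17107)).symm.trans (sb E7168 D23088))).symm
theorem E7185 : n10885 = n2016 := ((((iv1 D4886)).symm.trans (sb E7169 D10885))).symm
theorem E7186 : n10886 = n10608 := (((F17126).symm.trans (sb E7169 D10886))).symm
theorem E7187 : n10670 = n2041 := ((D10670).symm.trans (sb E7169 (iv3 D4961)))
theorem E7188 : n10888 = n10671 := (((D10671).symm.trans (sb E7169 D10888))).symm
theorem E7189 : n10889 = n10672 := (((D10672).symm.trans (sb E7169 D10889))).symm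
theorem E7190 : n10890 = n10673 := (((D10673).symm.trans (sb E7169 D10890))).symm
theorem F65659 : act 7 n4886 = n4957 := (sb E7169 (iv7 F15370))
theorem F65660 : act 3 n10606 = n10606 := (sb E7170 (iv3 D22249))
theorem E7191 : n10665 = n4885 := (((F35518).symm.trans (sb E7170 F35528))).symm
theorem F65662 : act 1 n22250 = n23094 := (sb E7171 F36152)
theorem E7192 : n23092 = n10666 := (((F35530).symm.trans (sb E7171 F36150))).symm
theorem E7193 : n41842 = n23098 := (((iv1 F64507)).symm.trans (sb E7172 (iv1 F36156)))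
theorem E7194 : n41502 = n23097 := ((F64001).symm.trans (sb E7172 F36157))
theorem F65663 : act 3 n22251 = n22251 := (sb E7172 (tr F36154 E7172))
theorem E7195 : n23093 = n10667 := (((F35532).symm.trans (sb E7172 F36155))).symm
theorem F65665 : act 2 n4885 = n4957 := (sb E7174 (iv2 D10880))
theorem E7196 : n21413 = n10668 := (((D10668).symm.trans (sb E7174 F33619))).symm
theorem E7197 : n22051 = n4635 := (((F6687).symm.trans (sb E7175 F34714))).symm
theorem E7198 : n22056 = n21421 := ((((iv6 F33636)).symm.trans (sb E7176 F34715))).symm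
theorem E7199 : n22059 = n21424 := ((((iv6 F33639)).symm.trans (sb E7177 F34716))).symm
theorem E7200 : n21419 = n10640 := ((D21419).symm.trans (sb E7178 (iv1 F17344)))
theorem E7201 : n21420 = n10816 := ((D21420).symm.trans (sb E7178 (iv0 F17341)))
theorem E7202 : n4789 = n4633 := ((((iv5 D10203)).symm.trans (sb E7178 (iv5 D10506)))).symm
theorem F65666 : act 0 n20074 = n10604 := (sb E7179 (iv1 D22241))
theorem F65667 : act 1 n20074 = n10663 := (sb E7179 F34704)
theorem E7204 : n23306 = n10707 := ((((iv1 F34757)).symm.trans (sb E7180 (iv1 F36405)))).symm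
theorem E7205 : n10950 = n10706 := (((F34758).symm.trans (sb E7180 (iv0 D23299)))).symm
theorem E7206 : n42226 = n20475 := ((((iv4 F32537)).symm.trans (sb E7181 (iv4 F65200)))).symm
theorem E7208 : n23103 = n4878 := ((((iv3 F7087)).symm.trans (sb E7185 D23103))).symm
theorem E7209 : n23104 = n4884 := ((((iv4 F7239)).symm.trans (sb E7185 D23104))).symm
theorem E7213 : n23032 = n22232 := ((((iv3 F34680)).symm.trans (sb E7186 (iv3 F65188)))).symm
theorem E7216 : n23111 = n4898 := (((F17124).symm.trans (sb E7186 D23111))).symm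
theorem F65668 : act 3 n2041 = n4886 := (sb E7187 (iv3 D10670))
theorem E7221 : n22451 = n4963 := (((D4963).symm.trans (sb E7187 D22451))).symm
theorem E7222 : n22452 = n4964 := (((D4964).symm.trans (sb E7187 D22452))).symm
theorem E7223 : n23115 = n22436 := ((((iv1 F34980)).symm.trans (sb E7188 D23115))).symm
theorem E7224 : n23116 = n22435 := (((F34984).symm.trans (sb E7188 D23116))).symm
theorem E7225 : n22453 = n9808 := ((D22453).symm.trans (sb E7188 F17677))
theorem E7226 : n23117 = n22454 := (((D22454).symm.trans (sb E7188 D23117))).symm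
theorem E7227 : n23118 = n22455 := (((D22455).symm.trans (sb E7188 D23118))).symm
theorem F65669 : act 7 n10671 = n10881 := (sb E7188 F17678)
theorem E7230 : n23121 = n22456 := (((D22456).symm.trans (sb E7189 D23121))).symm
theorem E7231 : n23122 = n22457 := (((D22457).symm.trans (sb E7189 D23122))).symm
theorem F65670 : act 7 n10672 = n10882 := (sb E7189 F17680)
theorem E7234 : n23125 = n22460 := (((D22460).symm.trans (sb E7190 D23125))).symm
theorem E7235 : n22461 = n21399 := ((D22461).symm.trans (sb E7190 (iv7 F33590)))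
theorem F65671 : act 3 n4885 = n4885 := (sb E7191 (iv3 D10665))
theorem E7240 : n22432 = n10667 := (((D10667).symm.trans (sb E7191 D22432))).symm
theorem E7241 : n22433 = n10668 := (((D10668).symm.trans (sb E7191 D22433))).symm
theorem F65672 : act 2 n10666 = n10881 := (sb E7192 F36137)
theorem F65673 : act 1 n23098 = n22251 := (sb E7193 F64507)
theorem F65674 : act 2 n23098 = n22441 := (sb E7193 F64504)
theorem F65675 : act 5 n23098 = n19696 := (sb E7193 F64505)
theorem F65676 : act 6 n23098 = n20370 := (sb E7193 F64508)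
theorem F65677 : act 7 n23098 = n19695 := (sb E7193 (iv7 D41842))
theorem F65678 : act 0 n23097 = n22251 := (sb E7194 (iv1 F64001))
theorem F65679 : act 2 n23097 = n19695 := (sb E7194 F63998)
theorem F65680 : act 5 n23097 = n19540 := (sb E7194 (iv5 D41502))
theorem F65681 : act 6 n23097 = n19701 := (sb E7194 F63999)
theorem F65682 : act 7 n23097 = n22441 := (sb E7194 (iv7 F64002))
theorem F65683 : act 2 n10667 = n10882 := (sb E7195 F36138)
theorem E7242 : n21397 = n4932 := (((F17366).symm.trans (sb E7196 (iv1 F33618)))).symm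
theorem E7243 : n21396 = n10798 := ((((iv0 F17320)).symm.trans (sb E7196 F33620))).symm
theorem F65684 : act 2 n10668 = n10203 := (sb E7196 F33615)
theorem E7244 : n10201 = n9216 := (((F17216).symm.trans (sb E7196 (iv5 D21413)))).symm
theorem E7245 : n21390 = n10501 := ((((iv7 F35507)).symm.trans (sb E7196 F33617))).symm
theorem E7246 : n10504 = n1923 := ((((iv5 D4635)).symm.trans (sb E7197 (iv5 D22051)))).symm
theorem F65685 : act 2 n21421 = n22439 := (sb E7198 (iv2 F35550))
theorem E7248 : n22894 = n21398 := (((F33637).symm.trans (sb E7198 (iv7 F35965)))).symm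
theorem F65686 : act 0 n21424 = n21870 := (sb E7199 F34717)
theorem F65687 : act 1 n21424 = n21865 := (sb E7199 (iv0 F34529))
theorem E7249 : n10507 = n10204 := ((((iv5 D21424)).symm.trans (sb E7199 (iv5 D22059)))).symm
theorem E7250 : n23582 = n22914 := (((iv7 F36678)).symm.trans (sb E7199 (iv7 F35984)))
theorem F65689 : act 1 n10640 = n10203 := (sb E7200 (iv0 D21419))
theorem F65690 : act 0 n10816 = n10203 := (sb E7201 (iv1 D21420))
theorem E7251 : n10199 = n1977 := ((D10199).symm.trans (sb E7202 (iv1 D4789)))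
theorem E7252 : n10200 = n9217 := ((D10200).symm.trans (sb E7202 F14401))
theorem E7253 : n10505 = n10202 := (((D10202).symm.trans (sb E7202 D10505))).symm
theorem E7254 : n9215 = n4628 := ((((iv7 F15347)).symm.trans (sb E7202 (iv7 F35520)))).symm
theorem E7256 : n22277 = n10952 := (((iv2 F35540)).symm.trans (sb E7204 (iv2 D23306)))
theorem E7257 : n22581 = n10707 := ((D22581).symm.trans (sb E7204 (tr F36402 E7204)))
theorem E7259 : n23301 = n22276 := ((((iv7 F35544)).symm.trans (sb E7204 F36404))).symm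
theorem E7260 : n22576 = n4989 := ((D22576).symm.trans (sb E7205 (iv3 D10950)))
theorem E7261 : n23302 = n22577 := (((D22577).symm.trans (sb E7205 D23302))).symm
theorem E7262 : n22578 = n21402 := ((D22578).symm.trans (sb E7205 (iv5 F33592)))
theorem E7263 : n23303 = n22579 := (((D22579).symm.trans (sb E7205 D23303))).symm
theorem F65691 : act 0 n20475 = n19933 := (sb E7206 (iv1 D42226))
theorem F65692 : act 1 n20475 = n19937 := (sb E7206 F65199)
theorem E7264 : n22987 = n10645 := (((D10645).symm.trans (sb E7208 (iv1 F65541)))).symm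
theorem E7265 : n23054 = n10646 := (((D10646).symm.trans (sb E7208 (iv0 F65170)))).symm
theorem E7266 : n20169 = n10644 := ((((iv4 F17190)).symm.trans (sb E7208 F36146))).symm
theorem E7267 : n42223 = n10660 := (((D10660).symm.trans (sb E7209 F65195))).symm
theorem F65693 : act 0 n22232 = n42213 := (sb E7213 (iv1 F65169))
theorem F65694 : act 1 n22232 = n10865 := (sb E7213 (iv0 D23032))
theorem F65695 : act 4 n22232 = n20056 := (sb E7213 F65189)
theorem E7268 : n23305 = n10709 := ((((iv5 F17239)).symm.trans (sb E7216 F36401))).symm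
theorem F65696 : act 3 n4963 = n10672 := (sb E7221 F34996)
theorem F65697 : act 3 n4964 = n10673 := (sb E7222 F34997)
theorem F65699 : act 4 n22436 = n20071 := (sb E7223 (iv4 F36161))
theorem F65702 : act 4 n22435 = n20072 := (sb E7224 (iv4 F65192))
theorem F65704 : act 3 n9808 = n10671 := (sb E7225 (iv3 D22453))
theorem F65705 : act 3 n22454 = n20694 := (sb E7226 F36165)
theorem F65706 : act 7 n22454 = n23096 := (sb E7226 F36166)
theorem F65707 : act 3 n22455 = n20695 := (sb E7227 F36167)
theorem F65708 : act 7 n22456 = n23099 := (sb E7230 F36171)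
theorem F65709 : act 3 n22457 = n10892 := (sb E7231 F36172)
theorem E7269 : n41875 = n23681 := (((iv7 F64552)).symm.trans (sb E7231 (iv7 F36830)))
theorem E7270 : n41848 = n23308 := (((iv7 F64517)).symm.trans (sb E7234 F36412))
theorem F65711 : act 0 n21399 = n10822 := (sb E7235 F35001)
theorem F65713 : act 7 n21399 = n10673 := (sb E7235 (iv7 D22461))
theorem F65714 : act 3 n10667 = n10667 := (sb E7240 F34976)
theorem F65715 : act 3 n10668 = n10668 := (sb E7241 F34977)
theorem E7271 : n19596 = n9216 := (((F17216).symm.trans (sb E7241 (iv5 F34978)))).symm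
theorem E7272 : n22032 = n10501 := ((((iv7 F35507)).symm.trans (sb E7241 (iv7 F35551)))).symm
theorem F65716 : act 0 n4932 = n10195 := (sb E7242 (iv1 D21397))
theorem F65717 : act 1 n10798 = n10195 := (sb E7243 (iv0 D21396))
theorem E7273 : n10192 = n4171 := ((((iv1 D9216)).symm.trans (sb E7244 (iv1 F16036)))).symm
theorem E7274 : n10191 = n4791 := (((F14396).symm.trans (sb E7244 F16034))).symm
theorem F65718 : act 2 n9216 = n4633 := (sb E7244 (iv2 D10201))
theorem E7275 : n21412 = n19597 := (((D19597).symm.trans (sb E7244 D21412))).symm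
theorem E7276 : n21414 = n19598 := (((D19598).symm.trans (sb E7244 D21414))).symm
theorem E7277 : n10193 = n4788 := ((((iv7 F35517)).symm.trans (sb E7244 F16033))).symm
theorem F65719 : act 2 n10501 = n10195 := (sb E7245 F33581)
theorem E7282 : n22052 = n4636 := (((D4636).symm.trans (sb E7246 D22052))).symm
theorem F65720 : act 2 n21398 = n22041 := (sb E7248 F35964)
theorem E7284 : n21422 = n19681 := ((D21422).symm.trans (sb E7249 (iv1 F63523)))
theorem E7285 : n21423 = n19535 := ((D21423).symm.trans (sb E7249 (iv0 F34632)))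
theorem E7286 : n22055 = n21418 := ((((iv4 F33632)).symm.trans (sb E7249 (iv4 F34527)))).symm
theorem E7287 : n19789 = n19679 := (((iv7 F31559)).symm.trans (sb E7249 (iv7 F35118)))
theorem F65721 : act 3 n22914 = n11048 := (sb E7250 (iv3 D23582))
theorem F65723 : act 1 n1977 = n4633 := (sb E7251 (iv0 D10199))
theorem E7289 : n21404 = n4748 := ((((iv3 F6857)).symm.trans (sb E7251 D21404))).symm
theorem F65724 : act 0 n9217 = n4633 := (sb E7252 (iv1 D10200))
theorem E7293 : n21409 = n19580 := ((((iv3 F31343)).symm.trans (sb E7252 D21409))).symm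
theorem E7299 : n22054 = n21417 := (((D21417).symm.trans (sb E7253 D22054))).symm
theorem E7300 : n19593 = n10194 := (((F16038).symm.trans (sb E7253 (iv7 F35537)))).symm
theorem E7301 : n19594 = n10196 := (((D10196).symm.trans (sb E7254 D19594))).symm
theorem E7302 : n23304 = n10615 := ((D23304).symm.trans (sb E7256 (iv1 D22277)))
theorem F65725 : act 2 n10952 = n10707 := (sb E7256 F35540)
theorem F65726 : act 7 n10952 = n10706 := (sb E7256 F35541)
theorem F65727 : act 3 n10707 = n10707 := (sb E7257 (iv3 D22581))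
theorem E7303 : n22033 = n10502 := ((((iv5 F17237)).symm.trans (sb E7257 F35124))).symm
theorem F65728 : act 3 n22276 = n22276 := (sb E7259 (tr F36398 E7259))
theorem F65729 : act 3 n4989 = n10706 := (sb E7260 (iv3 D22576))
theorem F65730 : act 7 n22577 = n23307 := (sb E7261 (iv7 F36409))
theorem F65731 : act 0 n21402 = n19676 := (sb E7262 (iv1 F35119))
theorem F65732 : act 1 n21402 = n19706 := (sb E7262 (iv0 F63006))
theorem F65734 : act 5 n21402 = n10706 := (sb E7262 (iv5 D22578))
theorem F65735 : act 3 n22579 = n10951 := (sb E7263 F36399)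
theorem E7304 : n22363 = n22351 := ((D22363).symm.trans (sb E7264 (iv2 F65643)))
theorem E7305 : n22364 = n10850 := ((D22364).symm.trans (sb E7264 (iv3 D22987)))
theorem E7306 : n22367 = n21371 := ((D22367).symm.trans (sb E7264 F36046))
theorem E7307 : n22368 = n10870 := ((D22368).symm.trans (sb E7264 F63378))
theorem E7308 : n42213 = n22369 := (((D22369).symm.trans (sb E7265 F65168))).symm
theorem E7309 : n22359 = n9517 := ((D22359).symm.trans (sb E7266 (iv1 D20169)))
theorem E7310 : n22360 = n20196 := ((D22360).symm.trans (sb E7266 F32027))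
theorem E7311 : n22410 = n19932 := ((D22410).symm.trans (sb E7267 (iv4 D42223)))
theorem E7312 : n22413 = n20074 := ((D22413).symm.trans (sb E7267 F65193))
theorem F65736 : act 0 n10709 = n10952 := (sb E7268 (iv1 D23305))
theorem F65737 : act 0 n23681 = n19713 := (sb E7269 (iv1 D41875))
theorem F65738 : act 1 n23681 = n22589 := (sb E7269 F64551)
theorem F65740 : act 5 n23681 = n22579 := (sb E7269 (iv5 F64554))
theorem F65741 : act 6 n23681 = n22914 := (sb E7269 (iv6 F64553))
theorem F65742 : act 7 n23681 = n22457 := (sb E7269 F64552)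
theorem F65743 : act 0 n23308 = n19701 := (sb E7270 (iv1 D41848))
theorem F65744 : act 1 n23308 = n19705 := (sb E7270 F64516)
theorem F65745 : act 2 n23308 = n22583 := (sb E7270 F64520)
theorem F65747 : act 3 n9216 = n9216 := (sb E7271 (iv3 D19596))
theorem E7317 : n41620 = n19598 := (((D19598).symm.trans (sb E7271 D41620))).symm
theorem E7318 : n10499 = n4788 := ((((iv7 F35517)).symm.trans (sb E7271 F35512))).symm
theorem F65748 : act 3 n10501 = n10501 := (sb E7272 F34513)
theorem F65749 : act 0 n4171 = n4628 := (sb E7273 (iv1 D10192))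
theorem F65750 : act 1 n4791 = n4628 := (sb E7274 (iv0 D10191))
theorem E7324 : n21382 = n10450 := ((((iv3 F16644)).symm.trans (sb E7274 D21382))).symm
theorem E7325 : n21383 = n10497 := ((((iv4 F16702)).symm.trans (sb E7274 D21383))).symm
theorem E7327 : n41612 = n21393 := (((iv1 F64215)).symm.trans (sb E7275 F33613))
theorem E7328 : n41611 = n21392 := ((F64214).symm.trans (sb E7275 F33614))
theorem F65751 : act 2 n19597 = n10202 := (sb E7275 F33611)
theorem E7329 : n21389 = n10500 := (((F35514).symm.trans (sb E7275 F33612))).symm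
theorem F65752 : act 2 n19598 = n10204 := (sb E7276 F33621)
theorem E7332 : n41996 = n41494 := ((((iv7 F63972)).symm.trans (sb E7276 (iv7 F64798)))).symm
theorem F65753 : act 2 n4788 = n4628 := (sb E7277 (iv2 D10193))
theorem E7337 : n41814 = n9297 := ((((iv7 F15356)).symm.trans (sb E7282 (iv7 F64477)))).symm
theorem F65754 : act 1 n19681 = n10204 := (sb E7284 (iv0 D21422))
theorem F65755 : act 0 n19535 = n10204 := (sb E7285 (iv1 D21423))
theorem F65756 : act 2 n21418 = n41623 := (sb E7286 (iv2 F64232))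
theorem E7339 : n41997 = n41742 := (((iv7 F64802)).symm.trans (sb E7286 F64384))
theorem F65757 : act 6 n19679 = n21402 := (sb E7287 (iv6 F33593))
theorem F65758 : act 7 n19679 = n10204 := (sb E7287 F31559)
theorem E7340 : n20862 = n10447 := ((((iv4 F16643)).symm.trans (sb E7289 F33595))).symm
theorem E7341 : n41569 = n20819 := (((iv4 F64165)).symm.trans (sb E7293 (iv4 F33597)))
theorem F65759 : act 2 n21417 = n41622 := (sb E7299 (iv2 F64230))
theorem E7343 : n41614 = n21394 := (((F33630).symm.trans (sb E7299 (iv7 F64218)))).symm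
theorem E7344 : n41615 = n21395 := (((D21395).symm.trans (sb E7300 D41615))).symm
theorem E7345 : n41355 = n21400 := (((D21400).symm.trans (sb E7301 F63746))).symm
theorem E7346 : n41493 = n21401 := (((D21401).symm.trans (sb E7301 (iv0 F63969)))).symm
theorem F65760 : act 2 n10196 = n10502 := (sb E7301 F35538)
theorem F65761 : act 1 n10615 = n10952 := (sb E7302 (iv0 D23304))
theorem F65762 : act 3 n10502 = n10502 := (sb E7303 F34514)
theorem F65763 : act 2 n22351 = n10645 := (sb E7304 (iv2 D22363))
theorem F65764 : act 7 n22351 = n10646 := (sb E7304 (iv7 F34925))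
theorem F65765 : act 3 n10850 = n10645 := (sb E7305 (iv3 D22364))
theorem F65766 : act 1 n21371 = n22827 := (sb E7306 (iv0 F63564))
theorem E7347 : n21884 = n10187 := ((((iv5 D21371)).symm.trans (sb E7306 F34926))).symm
theorem F65767 : act 6 n21371 = n10645 := (sb E7306 (iv6 D22367))
theorem F65768 : act 2 n10870 = n10646 := (sb E7307 F34927)
theorem F65769 : act 7 n10870 = n10645 := (sb E7307 (iv7 D22368))
theorem F65770 : act 0 n22369 = n20385 := (sb E7308 (iv1 F65641))
theorem F65771 : act 1 n22369 = n22232 := (sb E7308 (iv0 F65693))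
theorem F65772 : act 2 n22369 = n20036 := (sb E7308 F65165)
theorem F65773 : act 4 n22369 = n19928 := (sb E7308 (iv4 D42213))
theorem F65774 : act 7 n22369 = n20031 := (sb E7308 F65166)
theorem E7348 : n20168 = n19340 := ((D20168).symm.trans (sb E7309 (iv1 F34922)))
theorem F65775 : act 1 n9517 = n10644 := (sb E7309 (iv0 D22359))
theorem F65776 : act 0 n20196 = n10644 := (sb E7310 (iv1 D22360))
theorem F65777 : act 4 n19932 = n10660 := (sb E7311 (iv4 D22410))
theorem F65778 : act 2 n20074 = n10661 := (sb E7312 F34963)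
theorem F65779 : act 7 n20074 = n10660 := (sb E7312 (iv7 D22413))
theorem F65780 : act 3 n19598 = n19598 := (sb E7317 F64228)
theorem F65781 : act 3 n4788 = n4788 := (sb E7318 (iv3 D10499))
theorem E7353 : n21906 = n20885 := (((iv4 F34399)).symm.trans (sb E7324 F33571))
theorem E7354 : n20837 = n19588 := ((((iv1 F31363)).symm.trans (sb E7325 F33576))).symm
theorem F65782 : act 1 n21393 = n19597 := (sb E7327 F64215)
theorem F65783 : act 0 n21392 = n19597 := (sb E7328 (iv1 F64214))
theorem F65785 : act 1 n10500 = n21415 := (sb E7329 F33623)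
theorem F65786 : act 2 n10500 = n10194 := (sb E7329 F33580)
theorem F65787 : act 3 n41494 = n41494 := (sb E7332 (tr F64797 E7332))
theorem F65788 : act 3 n9297 = n19679 := (sb E7337 (iv3 D41814))
theorem F65789 : act 7 n41742 = n21418 := (sb E7339 F64802)
theorem E7355 : n21903 = n9896 := ((D21903).symm.trans (sb E7340 (iv1 D20862)))
theorem E7356 : n21904 = n20882 := ((D21904).symm.trans (sb E7340 F33026))
theorem F65790 : act 4 n20819 = n19580 := (sb E7341 F64165)
theorem F65791 : act 6 n20819 = n20964 := (sb E7341 F64166)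
theorem F65792 : act 7 n20819 = n19577 := (sb E7341 (iv7 D41569))
theorem F65793 : act 2 n21394 = n22038 := (sb E7343 F64217)
theorem F65794 : act 2 n21395 = n22039 := (sb E7344 F64219)
theorem F65795 : act 0 n21400 = n22045 := (sb E7345 F63745)
theorem F65796 : act 2 n21400 = n19706 := (sb E7345 F63742)
theorem F65797 : act 5 n21400 = n22555 := (sb E7345 F63744)
theorem F65798 : act 6 n21400 = n19471 := (sb E7345 (iv6 D41355))
theorem F65799 : act 7 n21400 = n19676 := (sb E7345 F63743)
theorem F65800 : act 1 n21401 = n22045 := (sb E7346 F63970)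
theorem F65801 : act 2 n21401 = n19676 := (sb E7346 F63966)
theorem F65802 : act 5 n21401 = n22556 := (sb E7346 F63967)
theorem F65803 : act 6 n21401 = n19534 := (sb E7346 (iv6 D41493))
theorem F65804 : act 7 n21401 = n19706 := (sb E7346 F63968)
theorem E7357 : n21367 = n10440 := ((D21367).symm.trans (sb E7347 (iv1 D21884)))
theorem E7358 : n21368 = n10450 := ((D21368).symm.trans (sb E7347 F34353))
theorem F65805 : act 0 n19340 = n20196 := (sb E7348 (iv1 F32028))
theorem F65806 : act 1 n19340 = n9517 := (sb E7348 (iv0 D20168))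
theorem F65807 : act 2 n20885 = n41681 := (sb E7353 (iv2 F64311))
theorem F65808 : act 4 n20885 = n10450 := (sb E7353 F34399)
theorem F65809 : act 6 n20885 = n21080 := (sb E7353 F63036)
theorem F65810 : act 7 n20885 = n10447 := (sb E7353 (iv7 D21906))
theorem E7361 : n41599 = n9889 := ((D41599).symm.trans (sb E7354 (iv4 D20837)))
theorem E7362 : n41681 = n20861 := (((D20861).symm.trans (sb E7355 (iv1 F64316)))).symm
theorem F65811 : act 1 n9896 = n10447 := (sb E7355 (iv0 D21903))
theorem F65812 : act 0 n20882 = n10447 := (sb E7356 (iv1 D21904))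
theorem F65813 : act 1 n10440 = n10187 := (sb E7357 (iv0 D21367))
theorem E7363 : n21346 = n19574 := ((((iv3 F31334)).symm.trans (sb E7357 F33564))).symm
theorem E7364 : n20884 = n19621 := ((((iv4 F31392)).symm.trans (sb E7357 F33562))).symm
theorem F65814 : act 0 n10450 = n10187 := (sb E7358 (iv1 D21368))
theorem F65815 : act 4 n9889 = n19588 := (sb E7361 (iv4 D41599))
theorem F65816 : act 2 n20861 = n20885 := (sb E7362 (iv2 F65807))
theorem F65817 : act 4 n20861 = n21885 := (sb E7362 F64312)
theorem F65818 : act 6 n20861 = n21047 := (sb E7362 F64313)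
theorem F65819 : act 7 n20861 = n19621 := (sb E7362 (iv7 D41681))
theorem E7365 : n41557 = n10182 := ((D41557).symm.trans (sb E7363 (iv1 D21346)))
theorem F65821 : act 1 n19621 = n9904 := (sb E7364 (iv0 D20884))
theorem E7366 : n21345 = n19580 := ((D21345).symm.trans (sb E7365 (iv1 F64142)))
theorem F65822 : act 1 n10182 = n19574 := (sb E7365 (iv0 D41557))
theorem F65823 : act 1 n19580 = n10182 := (sb E7366 (iv0 D21345))
theorem F65824 : act 2 n20799 = n41558 := d15_3 F64137 F65823 (iv7 F63384)
theorem F65825 : act 5 n42431 = n41558 := d17_5 (iv1 F32924) (iv5 F32961) (iv1 F65556) (iv5 D42436) (iv4 F65548) F64137 F31344 F65823 F32926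
theorem F65826 : act 4 n20813 = n21352 := d20_6 (iv4 F65790) (iv1 F32980) (iv4 D9890) D9889 D20834 F33626 (iv1 D21352) (iv4 D10183) D10182 (iv1 F65823)
theorem F65827 : act 0 n20834 = n41594 := d20_10 (iv4 D41594) (iv1 F31368) F16702 (iv3 F16644) F65814 (iv3 D10187) D10188 (iv1 F33548) (iv4 F65826) (iv3 F33626)
theorem F65828 : act 0 n41593 = n40754 := d20_4 (iv4 F33624) F65827 (iv4 D41594) D41593 F61867 F30890 F62532 D10027 (iv3 F16037) D21415
theorem F65829 : act 3 n41594 = n20814 := d20_5 D10188 (iv1 F33548) (iv4 F65826) (iv3 F33626) F65827 F35773 (iv1 F33466) F33464 F15990 (iv1 F15993)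
theorem F65830 : act 2 n20767 = n41594 := d15_3 (iv0 F65827) (iv0 D20834) (iv7 F35733)
theorem F65831 : act 4 n41592 = n20767 := d1_0 F65830 (iv4 D41594) D41592
theorem F65832 : act 7 n41594 = n20836 := d4_2 (iv7 F35733) F65830 (iv2 D20836)
theorem F65833 : act 4 n20836 = n41597 := d11_1 F65832 (iv7 D41597) D41594
theorem F65834 : act 1 n20835 = n41594 := d15_1 D20835 F65832 (iv2 D20836)
theorem E7367 : n20849 = n20835 := ((c20_5 (iv4 F6682) D10177 (iv4 F35773) (iv3 F65829) (iv1 F65834) (iv3 D20849) D20850 F33565 (iv4 D21370) (iv3 D10187) (iv1 D4625))).symm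
theorem F65837 : act 5 n20835 = n20835 := (sb E7367 (tr F33606 E7367))
theorem F65838 : act 4 n20838 = n22412 := d17_4 (iv1 F65834) F65837 (iv1 D20835) D20838 F64198 F64194 F34504 F31368 D41594
theorem E7368 : n41592 = n10494 := ((c20_2 (iv4 F6884) D10494 F65831 (iv3 D20767) (iv1 F15524) F6513 (iv4 F3193) (iv1 F3196) F14812 D4633 (iv1 F65723))).symm
theorem E7369 : n22008 = n19587 := ((D22008).symm.trans (sb E7368 (iv2 D41592)))
theorem E7370 : n22010 = n20767 := ((D22010).symm.trans (sb E7368 F65831))
theorem E7371 : n22013 = n19588 := ((D22013).symm.trans (sb E7368 (iv7 F64192)))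
theorem F65839 : act 2 n19587 = n10494 := (sb E7369 (iv2 D22008))
theorem E7372 : n41597 = n10495 := ((D41597).symm.trans (sb E7369 (iv7 F34502)))
theorem F65840 : act 4 n20767 = n10494 := (sb E7370 (iv4 D22010))
theorem F65841 : act 7 n19588 = n10494 := (sb E7371 (iv7 D22013))
theorem F65842 : act 2 n10495 = n19588 := (sb E7372 F64193)
theorem E7373 : n22015 = n20836 := ((D22015).symm.trans (sb E7372 (iv4 F65833)))
theorem F65843 : act 7 n10495 = n19587 := (sb E7372 (iv7 D41597))
theorem F65844 : act 4 n20836 = n10495 := (sb E7373 (iv4 D22015))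
theorem F65845 : act 7 n41593 = n22014 := d8_2 F65843 D41593 (iv3 D22014)
theorem F65846 : act 7 n41595 = n22016 := d13_2 F65843 D41595 (iv5 D22016)
theorem F65847 : act 2 n41600 = n22016 := d2_3 (iv5 D22016) F65842 D41600
theorem F65848 : act 2 n41601 = n22017 := d3_3 (iv6 D22017) F65842 D41601
theorem F65849 : act 7 n22009 = n41598 := d8_2 F65841 D22009 (iv3 D41598)
theorem F65850 : act 7 n22011 = n41600 := d13_2 F65841 D22011 (iv5 D41600)
theorem F65851 : act 2 n41595 = n22011 := d4_3 F65850 F65847 (iv7 F65846)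
theorem F65852 : act 1 n22016 = n22889 := d15_0 F35582 F65850 F65847
theorem F65853 : act 4 n41558 = n20763 := d20_0 (iv1 D20763) F15518 F6508 D9870 D20767 F65840 (iv1 F31370) F31366 (iv3 F31343) (iv1 F64137)
theorem E7374 : n41558 = n21913 := (c20_3 (iv4 F15534) (iv1 F32920) (iv4 F65853) (iv3 D21913) (iv1 D10449) F6857 (iv4 F6884) D10494 (iv4 F65840) (iv3 D20767) (iv1 F15524))
theorem F65854 : act 0 n21913 = n19574 := (sb E7374 (iv1 D41558))
theorem F65855 : act 1 n21913 = n19580 := (sb E7374 F64137)
theorem F65856 : act 2 n21913 = n20799 := (sb E7374 (iv2 F65824))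
theorem F65857 : act 4 n21913 = n20763 := (sb E7374 F65853)
theorem F65858 : act 5 n21913 = n42431 := (sb E7374 (iv5 F65825))
theorem F65859 : act 3 n42431 = n21915 := d6_1 F65858 (iv5 D21915) D21913
theorem F65860 : act 0 n22879 = n42431 := d21_10 (iv5 F65858) F65854 F31335 (iv6 D19574) (iv1 F14385) D9372 F17014 (iv1 F63130) D22338 (iv6 F35577)
theorem E7375 : n22229 = n20031 := (c21_5 (iv5 D4255) (iv1 F6291) F6999 D10600 D22229 D42431 (iv5 F65858) F65854 F31335 (iv6 D19574) (iv1 F14385))
theorem E7376 : n42428 = n10600 := ((D42428).symm.trans (sb E7375 (iv0 D22229)))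
theorem F65861 : act 0 n10600 = n20031 := (sb E7376 (iv1 D42428))
theorem E7377 : n22230 = n20036 := ((D22230).symm.trans (sb E7376 F65534))
theorem F65862 : act 0 n20036 = n10600 := (sb E7377 (iv1 D22230))
theorem F65863 : act 7 n42427 = n20385 := d15_2 (iv0 F65862) F65533 F32365
theorem F65864 : act 2 n22232 = n42427 := d4_3 F65863 F32365 D22232
theorem F65865 : act 3 n22354 = n42427 := d8_3 F65863 F32366 D22354
theorem F65866 : act 4 n42276 = n42427 := d11_3 F65863 F32367 D42276
theorem F65867 : act 6 n22479 = n42427 := d14_5 F65863 (iv6 D20385) F15053 D10678 D22479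
theorem E7378 : n42276 = n42225 := ((c20_2 D19933 D42225 F65866 (iv3 F65865) (iv1 F34897) D22369 F65773 (iv1 D19928) F14617 F6170 D9400)).symm
theorem F65868 : act 2 n42225 = n20056 := (sb E7378 F65642)
theorem F65869 : act 4 n42225 = n42427 := (sb E7378 F65866)
theorem F65870 : act 7 n42225 = n19952 := (sb E7378 (iv7 D42276))
theorem F65871 : act 0 n22370 = n20188 := d20_1 D22370 (iv4 D20188) D20187 F65221 (iv3 D19932) D19933 D42225 F65869 (iv3 F65865) (iv1 F34897)
theorem F65872 : act 1 n22370 = n20193 := d15_1 (iv0 F65871) F65606 (iv2 F65608)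
theorem F65873 : act 1 n22879 = n21348 := d15_1 (iv0 F65860) F63410 (iv2 F65547)
theorem F65874 : act 1 n22869 = n42431 := d15_0 (iv0 F65860) (iv7 F35578) (iv2 F35572)
theorem F65875 : act 2 n21915 = n21371 := d0_1 F65859 F33566 (iv2 F63368) (iv3 F36085) (iv2 F65547)
theorem E7379 : n21369 = n10449 := (c2_4 D21915 F65875 (iv5 D21371) D21369)
theorem E7380 : n21912 = n10187 := (((iv2 F34401)).symm.trans (sb E7379 (iv2 D21369)))
theorem F65876 : act 2 n10187 = n10449 := (sb E7380 F34401)
theorem E7381 : n21238 = n10448 := (((iv7 F63370)).symm.trans (sb E7380 (iv7 D21912)))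
theorem E7382 : n21908 = n10147 := ((D21908).symm.trans (sb E7381 (iv3 D21238)))
theorem F65877 : act 7 n10448 = n10187 := (sb E7381 F63370)
theorem F65878 : act 3 n10147 = n10448 := (sb E7382 (iv3 D21908))
theorem F65879 : act 3 n21907 = n20794 := d0_2 F65878 D21907 F63413 (iv3 D10182) F63367
theorem F65880 : act 3 n21910 = n21240 := d6_3 (iv5 D21240) F65878 D21910
theorem F65881 : act 3 n21911 = n21241 := d7_3 (iv6 D21241) F65878 D21911
theorem F65882 : act 0 n20874 = n21909 := d20_1 D20874 (iv4 D21909) (iv3 F65878) (iv1 F15992) F6683 (iv4 F3258) (iv1 F3261) (iv4 F14791) D4499 D9901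
theorem F65883 : act 5 n23239 = n21911 := d6_0 F65881 F33468 D23239
theorem F65884 : act 7 n21371 = n21910 := d8_0 F65880 (iv7 F63366) (iv3 F33566)
theorem F65885 : act 7 n20794 = n21913 := d8_2 F34400 F65879 (iv3 D21913)
theorem E7383 : n21907 = n21883 := (c20_4 (iv4 F6512) D9879 D20794 (iv3 F65879) (iv1 F34356) F16644 (iv4 F16702) (iv1 F31363) (iv4 F65815) (iv3 D9889) (iv1 D4491))
theorem F65886 : act 2 n21883 = n10448 := (sb E7383 (iv2 D21907))
theorem F65887 : act 3 n21883 = n20794 := (sb E7383 F65879)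
theorem F65888 : act 7 n21883 = n10449 := (sb E7383 (iv7 F34400))
theorem E7384 : n20820 = n20391 := (c20_2 D9890 (iv1 F32976) F32385 F31334 D21883 F65887 (iv4 D20794) (iv1 F32927) F32923 F15522 (iv1 F15525))
theorem F65889 : act 0 n20391 = n9885 := (sb E7384 (iv1 D20820))
theorem F65890 : act 1 n20391 = n9890 := (sb E7384 F32976)
theorem E7385 : n20878 = n20812 := ((c20_11 (iv4 F33540) (iv1 F33552) (iv4 D10188) D10187 (iv1 F65813) (iv3 F31334) (iv4 F32385) F65889 (iv4 D9885) D9884 D20812)).symm
theorem F65891 : act 3 n20812 = n9902 := (sb E7385 (iv3 D20878))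
theorem F65892 : act 4 n20812 = n21351 := (sb E7385 (iv4 F33540))
theorem F65893 : act 5 n20812 = n20812 := (sb E7385 (tr F33541 E7385))
theorem F65894 : act 0 n20879 = n21914 := d20_7 (iv4 F32385) F65889 (iv4 D9885) D9884 D20812 F65891 D20879 (iv4 D21914) D21913 F65854
theorem F65895 : act 7 n21370 = n21909 := d11_2 F65877 D21370 (iv4 D21909)
theorem F65896 : act 2 n21914 = n21370 := d1_3 (iv4 D21370) F65876 D21914
theorem F65897 : act 2 n21916 = n21372 := d3_3 (iv6 D21372) F65876 D21916
theorem F65898 : act 1 n20879 = n21909 := d15_1 (iv0 F65894) (iv7 F65895) (iv2 F65896)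
theorem F65899 : act 2 n22012 = n41596 := d3_3 (iv6 D41596) F65839 D22012
theorem F65900 : act 4 n21327 = n41593 := d5_4 D41594 F65829 F35773 D21327 (iv3 D41593)
theorem F65901 : act 5 n21349 = n22501 := d21_6 (iv5 D4505) D4504 (iv5 F14382) D19574 (iv1 F65822) D21349 (iv1 D22501) (iv5 D10684) (iv6 D4891) F7104
theorem F65902 : act 3 n22501 = n21364 := d6_1 F65901 (iv5 D21364) (iv3 F33538)
theorem F65903 : act 7 n23234 = n22501 := d8_0 F65902 F63416 D23234
theorem F65904 : act 4 n22501 = n20604 := d20_6 D9814 (iv1 F17795) F17794 (iv3 F17739) F33560 (iv3 F65902) (iv1 D20604) (iv4 D9762) F6341 D4433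
theorem F65905 : act 2 n23234 = n22500 := d15_3 (iv0 D22500) D22501 (iv7 F65903)
theorem F65906 : act 3 n21914 = n22136 := d20_3 F65817 (iv1 F34357) D21914 (iv1 D22136) F17033 F6970 F62631 D10405 F16553 D20861
theorem E7386 : n41576 = n9880 := (c20_1 D41576 (iv1 D9880) F6512 F3162 D1877 D4494 D9896 D20861 F65817 (iv3 F64139) (iv1 F64143))
theorem E7387 : n20799 = n19579 := ((D20799).symm.trans (sb E7386 (iv4 D41576)))
theorem E7388 : n41574 = n21913 := (((iv2 F64168)).symm.trans (sb E7387 (iv2 F65856)))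
theorem E7389 : n41575 = n10148 := ((D41575).symm.trans (sb E7387 (iv3 F32960)))
theorem F65907 : act 4 n19579 = n9880 := (sb E7387 (iv4 D20799))
theorem E7390 : n41577 = n23036 := ((D41577).symm.trans (sb E7387 F36086))
theorem E7391 : n41985 = n41578 := (((D41578).symm.trans (sb E7387 (iv6 F64776)))).symm
theorem E7392 : n41570 = n10182 := ((F64167).symm.trans (sb E7387 F63384))
theorem F65908 : act 2 n21913 = n19579 := (sb E7388 F64168)
theorem E7393 : n20794 = n19578 := (((iv7 F65885)).symm.trans (sb E7388 (iv7 D41574)))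
theorem F65909 : act 3 n10148 = n19579 := (sb E7389 (iv3 D41575))
theorem F65910 : act 5 n23036 = n19579 := (sb E7390 (iv5 D41577))
theorem F65911 : act 3 n41578 = n19780 := (sb E7391 (iv3 D41985))
theorem F65912 : act 4 n41578 = n20801 := (sb E7391 (iv4 F64777))
theorem F65913 : act 7 n10182 = n19579 := (sb E7392 (iv7 F64167))
theorem F65914 : act 2 n19578 = n10182 := (sb E7393 F63413)
theorem E7394 : n41571 = n21883 := ((D41571).symm.trans (sb E7393 (iv3 F65887)))
theorem E7395 : n41572 = n9879 := ((D41572).symm.trans (sb E7393 (iv4 D20794)))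
theorem F65915 : act 7 n19578 = n21913 := (sb E7393 F65885)
theorem F65916 : act 3 n21883 = n19578 := (sb E7394 (iv3 D41571))
theorem F65917 : act 4 n9879 = n19578 := (sb E7395 (iv4 D41572))
theorem F65918 : act 4 n41573 = n20796 := d10_3 (iv6 D20796) F65917 D41573
theorem F65919 : act 4 n22877 = n41331 := d18_5 (iv1 D4491) (iv4 F6512) D9879 F65917 (iv5 F64145) (iv0 D41331) F31121 (iv0 F35649) (iv5 D9891)
theorem F65920 : act 5 n41331 = n20802 := d17_5 (iv1 D19579) F14390 D19578 (iv5 F64145) F65919 (iv0 D20802) (iv5 D9881) D9880 (iv4 F65907)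
theorem F65921 : act 7 n42431 = n22877 := d13_2 F65915 F65858 F64145
theorem F65922 : act 2 n22877 = n21348 := d4_1 F65921 F63410 (iv2 F65547)
theorem E7396 : n42437 = n41331 := ((c11_2 F65921 F65919 (iv7 D42437) (iv4 F65548))).symm
theorem F65923 : act 7 n41331 = n20033 := (sb E7396 (iv7 D42437))
theorem F65924 : act 1 n21348 = n22869 := d15_0 F65874 F65921 F65922
theorem F65925 : act 7 n42436 = n20802 := d13_2 F65923 D42436 (iv5 F65920)
theorem E7397 : n23036 = n22878 := ((c15_2 (iv0 D22877) D22878 (iv7 F63410) (iv2 F65922))).symm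
theorem F65926 : act 2 n22878 = n42431 := (sb E7397 (iv2 F65547))
theorem F65927 : act 3 n22878 = n10868 := (sb E7397 F36085)
theorem F65928 : act 4 n22878 = n41332 := (sb E7397 F63681)
theorem F65929 : act 5 n22878 = n19579 := (sb E7397 F65910)
theorem F65930 : act 6 n22878 = n10865 := (sb E7397 (iv6 D23036))
theorem F65931 : act 7 n22878 = n21348 := (sb E7397 (iv7 F63410))
theorem F65932 : act 2 n21349 = n41573 := d3_3 (iv6 D41573) F65914 D21349
theorem F65933 : act 4 n41598 = n20840 := d5_2 F65815 D41598 (iv3 D20840) (iv4 D9890) D9889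
theorem F65934 : act 4 n41601 = n20839 := d10_3 (iv6 D20839) F65815 D41601
theorem E7398 : n41805 = n41601 := (c20_2 (iv4 F31429) D41805 F65934 F32994 D20844 F35714 F15561 F15396 (iv4 F15399) F65788 (iv1 D19679))
theorem F65935 : act 1 n41601 = n19671 := (sb E7398 (iv0 D41805))
theorem F65936 : act 7 n41806 = n22017 := d15_2 F65935 D41806 (iv2 F65848)
theorem F65937 : act 3 n22370 = n22515 := d20_3 (iv4 F34895) (iv1 F34897) D22370 (iv1 D22515) F17232 F7314 D4895 D10698 (iv3 F62720) (iv1 F65806)
theorem F65938 : act 0 n41785 = n20887 := d20_7 F15561 F15396 (iv4 F15399) F65788 (iv1 D19679) (iv3 F31426) (iv4 F64436) F33033 F15559 D9906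
theorem F65940 : act 4 n22037 = n22037 := d5_4 (iv4 D10500) F65781 D10500 D22037 (iv3 D22037)
theorem F65941 : act 4 n41621 = n41621 := d11_3 F64229 F65940 (iv7 F64229)
theorem E7399 : n22408 = n22240 := (c15_4 (iv0 D22240) (iv0 F65666) F65779 D22408)
theorem F65943 : act 2 n22240 = n10660 := (sb E7399 (iv2 D22408))
theorem F65944 : act 7 n22240 = n10661 := (sb E7399 (iv7 F34962))
theorem F65945 : act 4 n42222 = n22240 := d1_0 F65943 (iv4 F65777) D42222
theorem E7400 : n22415 = n20073 := (c11_4 (iv7 F65184) F65945 F65944 D22415)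
theorem F65946 : act 4 n20073 = n10661 := (sb E7400 (iv4 D22415))
theorem E7401 : n41004 = n22414 := ((c20_4 (iv4 F65201) (iv1 F65182) F65946 D22414 (iv1 D41004) F30961 F14154 F62490 D9792 (iv3 F17663) D23094)).symm
theorem F65947 : act 0 n22414 = n19309 := (sb E7401 (iv1 D41004))
theorem F65948 : act 0 n22365 = n20193 := d20_1 D22365 (iv4 D20193) (iv3 F65544) (iv1 F65218) F65215 F65946 (iv1 D10661) F7239 (iv3 F7087) D10645
theorem F65950 : act 4 n22409 = n42227 := d5_2 F65777 D22409 (iv3 D42227) (iv4 D19933) D19932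
theorem F65951 : act 7 n22365 = n23055 := d11_2 F65769 D22365 (iv4 D23055)
theorem F65952 : act 7 n22366 = n23056 := d13_2 F65769 D22366 (iv5 D23056)
theorem F65953 : act 3 n22989 = n22366 := d8_3 F65952 F36116 (iv7 F63382)
theorem F65954 : act 2 n23055 = n22370 := d15_3 F65872 (iv0 F65948) F65951
theorem F65955 : act 2 n22371 = n23056 := d2_3 (iv5 D23056) F65768 D22371
theorem F65956 : act 2 n22372 = n23057 := d3_3 (iv6 D23057) F65768 D22372
theorem F65957 : act 2 n40807 = n41621 := d0_5 (iv3 D41621) F65751 F16037 (iv2 F62565) D40807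
theorem E7402 : n41567 = n20772 := ((c20_1 D20772 (iv1 D41567) F31342 F14389 F65749 (iv3 D4628) (iv4 F14803) (iv1 F3195) F3193 (iv3 F6513) (iv1 F15519))).symm
theorem F65958 : act 0 n20772 = n19577 := (sb E7402 (iv1 D41567))
theorem F65959 : act 3 n40333 = n41585 := d20_3 (iv4 F64013) (iv1 F64015) F62879 (iv1 D41585) F31361 F14395 F65749 D10194 F16017 D21047
theorem F65960 : act 7 n41585 = n40760 := d8_2 (iv7 F62846) F65959 (iv3 D40760)
theorem F65961 : act 2 n40760 = n41584 := d15_3 (iv0 D41584) D41585 F65960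
theorem E7403 : n41566 = n20768 := ((c15_4 (iv0 D41566) (iv0 F65958) F35749 (iv2 F35734))).symm
theorem F65962 : act 1 n20768 = n19577 := (sb E7403 (iv0 D41566))
theorem F65963 : act 3 n22042 = n22042 := d7_3 (iv6 D22042) F65748 D22042
theorem F65964 : act 3 n22583 = n22583 := d6_3 F35125 F65963 (iv5 F35125)
theorem F65968 : act 2 n22582 = n23307 := d1_3 (iv4 D23307) F65725 D22582
theorem F65969 : act 0 n40760 = n41587 := d20_4 (iv4 F31277) (iv1 F62860) F62862 D40760 F64182 F31366 F65724 D10202 F16037 F62664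
theorem F65970 : act 0 n41183 = n20171 := d20_7 (iv4 F15285) F15313 (iv4 F15315) (iv3 F16018) (iv1 F65717) (iv3 F35403) (iv4 F62382) F31999 F14773 (iv1 F14223)
theorem F65971 : act 1 n40855 = n20171 := d15_0 (iv0 F65970) (iv7 D41183) (iv2 F61956)
theorem F65972 : act 0 n20060 = n22873 := d20_1 (iv4 F31884) F35574 F17333 F65716 F16018 F15315 F15314 F15304 (iv3 F31097) F35611
theorem E7404 : n42487 = n20564 := (c10_3 (iv6 F34681) F65695 D42487 F62723)
theorem F65973 : act 6 n20564 = n20056 := (sb E7404 (iv6 D42487))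
theorem E7405 : n41180 = n20867 := (c20_8 (iv4 F15304) (iv1 D9802) (iv4 F14806) (iv3 F16039) (iv1 F65689) (iv3 F34882) F34883 D41180 (iv4 D20867) F15539 F14204)
theorem F65974 : act 1 n20867 = n19364 := (sb E7405 (iv0 D41180))
theorem F65975 : act 1 n22347 = n21915 := d18_8 (iv1 D10449) (iv4 F16643) (iv1 F65811) (iv4 D9896) D9897 D20867 F65974 (iv4 F34883) (iv5 D21915)
theorem F65976 : act 2 n23099 = n22442 := d1_3 (iv4 D22442) F65683 D23099
theorem F65977 : act 2 n23096 = n22438 := d2_3 (iv5 D22438) F65672 D23096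
theorem F65978 : act 4 n22437 = n22437 := d5_4 (iv4 D10666) F65671 D10666 D22437 (iv3 D22437)
theorem F65979 : act 4 n41088 = n41088 := d5_2 F65655 D41088 (iv3 D41088) (iv4 F65655) F14900
theorem F65982 : act 2 n41090 = n20170 := d2_3 (iv5 D20170) F65654 D41090
def n42498 : Q := act 1 n20059
theorem D42498 : act 1 n20059 = n42498 := rfl
theorem F65983 : act 1 n42498 = n20078 := d15_1 D42498 (iv7 F65204) F65203
def n42499 : Q := act 4 n20059
theorem D42499 : act 4 n20059 = n42499 := rfl
def n42500 : Q := act 6 n20059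
theorem D42500 : act 6 n20059 = n42500 := rfl
def n42501 : Q := act 1 n20060
theorem D42501 : act 1 n20060 = n42501 := rfl
def n42502 : Q := act 5 n20060
theorem D42502 : act 5 n20060 = n42502 := rfl
theorem F65984 : act 0 n42502 = n41568 := d21_7 D9378 (iv1 F31717) F31718 D19952 F65637 D20060 D42502 (iv5 D41568) (iv6 D19577) F14387
def n42503 : Q := act 4 n20062
theorem D42503 : act 4 n20062 = n42503 := rfl
theorem F65985 : act 6 n42503 = n42140 := d10_2 F31889 D42503 (iv4 D42140)
def n42504 : Q := act 4 n20063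
theorem D42504 : act 4 n20063 = n42504 := rfl
def n42505 : Q := act 0 n20064
theorem D42505 : act 0 n20064 = n42505 := rfl
theorem F65986 : act 4 n42505 = n41826 := d18_3 (iv1 D20063) D20064 D42505 (iv5 D41826) (iv4 F64485) (iv0 F64486) F33146 D20976 F33164
theorem F65987 : act 1 n20080 = n42505 := d15_0 (iv0 D42505) (iv7 F65234) F65233
def n42506 : Q := act 1 n20064
theorem D42506 : act 1 n20064 = n42506 := rfl
theorem F65988 : act 1 n42506 = n20080 := d15_1 D42506 (iv7 F65212) F65211
def n42507 : Q := act 3 n20064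
theorem D42507 : act 3 n20064 = n42507 := rfl
def n42508 : Q := act 5 n20064
theorem D42508 : act 5 n20064 = n42508 := rfl
def n42509 : Q := act 6 n20064
theorem D42509 : act 6 n20064 = n42509 := rfl
theorem F65989 : act 4 n42509 = n20065 := d10_1 D42509 (iv6 D20065) D20064
def n42514 : Q := act 5 n20073
theorem D42514 : act 5 n20073 = n42514 := rfl
theorem F65994 : act 2 n42514 = n20075 := d2_1 D42514 (iv5 D20075) D20073
def n42515 : Q := act 6 n20073
theorem D42515 : act 6 n20073 = n42515 := rfl
theorem F65995 : act 2 n42515 = n20076 := d3_1 D42515 (iv6 D20076) D20073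
theorem F65996 : act 4 n42515 = n22417 := d10_1 D42515 (iv6 D22417) (iv4 F65946)
def n42516 : Q := act 3 n20074
theorem D42516 : act 3 n20074 = n42516 := rfl
theorem F65997 : act 4 n42516 = n20077 := d5_2 D20074 D42516 (iv3 D20077) (iv4 D9455) D9454
theorem F65998 : act 7 n42516 = n22409 := d8_2 (iv7 F65779) D42516 (iv3 D22409)
def n42517 : Q := act 5 n20074
theorem D42517 : act 5 n20074 = n42517 := rfl
theorem F65999 : act 2 n42517 = n22416 := d2_1 D42517 (iv5 D22416) (iv2 F65778)
theorem F66000 : act 7 n42517 = n22411 := d13_2 (iv7 F65779) D42517 (iv5 D22411)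
theorem F66001 : act 1 n22416 = n41837 := d15_0 F64497 (iv7 F66000) F65999
def n42518 : Q := act 6 n20074
theorem D42518 : act 6 n20074 = n42518 := rfl
theorem F66002 : act 2 n42518 = n22417 := d3_1 D42518 (iv6 D22417) (iv2 F65778)
theorem F66003 : act 4 n42518 = n20076 := d10_1 D42518 (iv6 D20076) D20074
def n42519 : Q := act 0 n20075
theorem D42519 : act 0 n20075 = n42519 := rfl
def n42520 : Q := act 1 n20075
theorem D42520 : act 1 n20075 = n42520 := rfl
def n42521 : Q := act 4 n20075
theorem D42521 : act 4 n20075 = n42521 := rfl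
def n42522 : Q := act 6 n20075
theorem D42522 : act 6 n20075 = n42522 := rfl
theorem F66004 : act 3 n42522 = n20081 := d7_1 D42522 (iv6 D20081) (iv3 F31896)
def n42523 : Q := act 0 n20076
theorem D42523 : act 0 n20076 = n42523 := rfl
def n42524 : Q := act 1 n20076
theorem D42524 : act 1 n20076 = n42524 := rfl
def n42525 : Q := act 5 n20076
theorem D42525 : act 5 n20076 = n42525 := rfl
def n42526 : Q := act 7 n20076
theorem D42526 : act 7 n20076 = n42526 := rfl
theorem F66006 : act 3 n42526 = n20085 := d8_1 D42526 (iv7 D20085) (iv3 F31897)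
def n42527 : Q := act 0 n20077
theorem D42527 : act 0 n20077 = n42527 := rfl
def n42528 : Q := act 1 n20077
theorem D42528 : act 1 n20077 = n42528 := rfl
def n42529 : Q := act 2 n20077
theorem D42529 : act 2 n20077 = n42529 := rfl
def n42530 : Q := act 5 n20077
theorem D42530 : act 5 n20077 = n42530 := rfl
theorem F66007 : act 3 n42530 = n20078 := d6_1 D42530 (iv5 D20078) D20077
def n42531 : Q := act 6 n20077
theorem D42531 : act 6 n20077 = n42531 := rfl
theorem F66008 : act 3 n42531 = n20079 := d7_1 D42531 (iv6 D20079) D20077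
def n42532 : Q := act 4 n20078
theorem D42532 : act 4 n20078 = n42532 := rfl
def n42533 : Q := act 6 n20078
theorem D42533 : act 6 n20078 = n42533 := rfl
def n42534 : Q := act 0 n20079
theorem D42534 : act 0 n20079 = n42534 := rfl
def n42535 : Q := act 1 n20079
theorem D42535 : act 1 n20079 = n42535 := rfl
def n42536 : Q := act 5 n20079
theorem D42536 : act 5 n20079 = n42536 := rfl
theorem F66009 : act 1 n42536 = n42129 := d17_6 D9356 D19880 F31900 (iv5 D20084) (iv4 F31898) D42536 (iv5 D42129) (iv0 D19873) F14577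
def n42537 : Q := act 7 n20079
theorem D42537 : act 7 n20079 = n42537 := rfl
theorem F66010 : act 4 n42537 = n20085 := d11_1 D42537 (iv7 D20085) (iv4 F31898)
def n42538 : Q := act 3 n20080
theorem D42538 : act 3 n20080 = n42538 := rfl
def n42539 : Q := act 5 n20080
theorem D42539 : act 5 n20080 = n42539 := rfl
def n42540 : Q := act 6 n20080
theorem D42540 : act 6 n20080 = n42540 := rfl
theorem F66011 : act 4 n42540 = n20081 := d10_1 D42540 (iv6 D20081) D20080
def n42541 : Q := act 5 n20081
theorem D42541 : act 5 n20081 = n42541 := rfl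
theorem F66012 : act 6 n42541 = n20084 := d12_2 D20081 D42541 (iv5 D20084) (iv6 D9457) D9456
def n42544 : Q := act 4 n20084
theorem D42544 : act 4 n20084 = n42544 := rfl
def n42545 : Q := act 0 n20087
theorem D42545 : act 0 n20087 = n42545 := rfl
def n42546 : Q := act 2 n20087
theorem D42546 : act 2 n20087 = n42546 := rfl
theorem F66013 : act 1 n42546 = n23340 := d15_0 (iv0 F65241) F65239 D42546
def n42547 : Q := act 4 n20087
theorem D42547 : act 4 n20087 = n42547 := rfl
theorem F66014 : act 7 n42547 = n23077 := d11_2 F65239 D42547 (iv4 F65240)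
theorem F66015 : act 0 n42547 = n23080 := d20_7 (iv4 F14907) (iv1 D9555) (iv4 D4313) (iv3 F6183) D9458 D20087 D42547 F36130 F17660 (iv1 F7384)
theorem E7406 : n42098 = n9449 := (c18_1 D42098 D20052 F31878 F17655 (iv5 F17661) (iv4 F36130) (iv0 F66015) (iv4 D42547) (iv0 F65012) (iv5 D42100))
theorem E7407 : n23341 = n20049 := (((D20049).symm.trans (sb E7406 (iv1 F65016)))).symm
theorem E7408 : n20050 = n19848 := ((D20050).symm.trans (sb E7406 (iv0 D42098)))
theorem E7409 : n42233 = n42099 := (((iv1 F65218)).symm.trans (sb E7407 (iv1 F65008)))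
theorem E7410 : n42232 = n42101 := (((iv2 F65589)).symm.trans (sb E7407 (iv2 F65013)))
theorem E7411 : n10972 = n9535 := (((F65544).symm.trans (sb E7407 F36460))).symm
theorem E7412 : n42470 = n19305 := ((D42470).symm.trans (sb E7407 F36461))
theorem E7413 : n20161 = n10965 := (((iv7 F65604)).symm.trans (sb E7407 (iv7 D23341)))
theorem F66016 : act 0 n19848 = n9449 := (sb E7408 (iv1 D20050))
theorem E7414 : n20071 = n10716 := (((F31666).symm.trans (sb E7408 (iv3 F36162)))).symm
theorem E7415 : n23039 = n21171 := ((((iv4 F33417)).symm.trans (sb E7408 (iv4 F65187)))).symm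
theorem F66017 : act 1 n42099 = n20049 := (sb E7409 F65218)
theorem F66018 : act 2 n42099 = n19936 := (sb E7409 (iv2 D42233))
theorem F66019 : act 3 n42099 = n20073 := (sb E7409 F65215)
theorem F66020 : act 4 n42099 = n22983 := (sb E7409 F65216)
theorem F66021 : act 7 n42099 = n20051 := (sb E7409 F65217)
theorem E7418 : n23339 = n19936 := (((iv1 F65017)).symm.trans (sb E7410 (iv1 D42232)))
theorem E7419 : n23338 = n20051 := ((F65018).symm.trans (sb E7410 F65219))
theorem F66022 : act 2 n42101 = n20049 := (sb E7410 F65589)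
theorem E7420 : n42220 = n22611 := (((F65014).symm.trans (sb E7410 (iv3 F65214)))).symm
theorem E7421 : n9067 = n4307 := ((((iv1 D9535)).symm.trans (sb E7411 (iv1 F17829)))).symm
theorem E7422 : n9516 = n9066 := ((F14899).symm.trans (sb E7411 F17830))
theorem E7423 : n9514 = n9069 := ((F65597).symm.trans (sb E7411 F17826))
theorem E7424 : n23349 = n20193 := (((D20193).symm.trans (sb E7411 (iv4 F36475)))).symm
theorem E7425 : n20224 = n20194 := (((D20194).symm.trans (sb E7411 (iv5 F62550)))).symm
theorem E7426 : n20195 = n9079 := ((D20195).symm.trans (sb E7411 F17827))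
theorem E7427 : n9515 = n4999 := (((iv7 F65600)).symm.trans (sb E7411 (iv7 D10972)))
theorem F66023 : act 6 n19305 = n20049 := (sb E7412 (iv6 D42470))
theorem F66024 : act 7 n10965 = n20049 := (sb E7413 F65604)
theorem E7428 : n42222 = n22608 := (((D22608).symm.trans (sb E7414 (iv1 F65185)))).symm
theorem E7429 : n22609 = n9454 := ((D22609).symm.trans (sb E7414 (iv0 D20071)))
theorem E7431 : n22436 = n4903 := (((F17245).symm.trans (sb E7414 (iv4 F65699)))).symm
theorem F66025 : act 0 n21171 = n10866 := (sb E7415 (iv1 D23039))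
theorem F66026 : act 1 n21171 = n10871 := (sb E7415 F36089)
theorem F66027 : act 0 n19936 = n10965 := (sb E7418 (iv1 D23339))
theorem F66028 : act 1 n19936 = n42101 := (sb E7418 F65017)
theorem F66029 : act 0 n20051 = n42101 := (sb E7419 (iv1 F65018))
theorem F66030 : act 1 n20051 = n10965 := (sb E7419 (iv0 D23338))
theorem E7434 : n20073 = n19267 := ((((iv1 F35151)).symm.trans (sb E7420 (iv1 F65182)))).symm
theorem E7435 : n19932 = n19266 := (((F35152).symm.trans (sb E7420 (iv0 D42220)))).symm
theorem E7436 : n20072 = n19269 := (((F35148).symm.trans (sb E7420 (iv2 F65588)))).symm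
theorem E7437 : n23094 = n10722 := (((F35149).symm.trans (sb E7420 F65201))).symm
theorem E7438 : n9534 = n4077 := ((D9534).symm.trans (sb E7421 (iv1 D9067)))
theorem E7439 : n10970 = n9536 := (((D9536).symm.trans (sb E7421 F62277))).symm
theorem E7441 : n19291 = n9537 := (((D9537).symm.trans (sb E7421 D19291))).symm
theorem E7442 : n19292 = n9538 := (((D9538).symm.trans (sb E7421 D19292))).symm
theorem E7443 : n19293 = n9539 := (((D9539).symm.trans (sb E7421 D19293))).symm
theorem E7444 : n10969 = n4302 := ((((iv7 F14841)).symm.trans (sb E7421 F62278))).symm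
theorem F66031 : act 0 n9066 = n9535 := (sb E7422 (iv1 F14899))
theorem E7445 : n19285 = n9066 := ((D19285).symm.trans (sb E7422 (tr F14900 E7422)))
theorem E7446 : n19337 = n19286 := (((D19286).symm.trans (sb E7422 F65655))).symm
theorem E7448 : n20167 = n19288 := (((D19288).symm.trans (sb E7422 D20167))).symm
theorem F66032 : act 2 n9069 = n9535 := (sb E7423 (iv2 F65597))
theorem E7449 : n20157 = n19283 := ((((iv4 F30945)).symm.trans (sb E7423 D20157))).symm
theorem E7450 : n20158 = n19297 := ((((iv5 F30951)).symm.trans (sb E7423 D20158))).symm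
theorem E7451 : n20159 = n9789 := (((F62512).symm.trans (sb E7423 D20159))).symm
theorem E7452 : n22370 = n19281 := (((iv1 F65872)).symm.trans (sb E7424 (iv1 F36478)))
theorem E7453 : n22365 = n19280 := (((iv0 F65948)).symm.trans (sb E7424 F36479))
theorem F66033 : act 6 n20193 = n19314 := (sb E7424 F36476)
theorem E7454 : n20162 = n10968 := ((F65606).symm.trans (sb E7424 (iv7 D23349)))
theorem F66034 : act 0 n20194 = n9551 := (sb E7425 (iv1 D20224))
theorem F66035 : act 1 n20194 = n19294 := (sb E7425 F62548)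
theorem E7455 : n20163 = n10971 := ((F65607).symm.trans (sb E7425 F62551))
theorem E7456 : n20714 = n19328 := ((((iv5 F30968)).symm.trans (sb E7426 F33608))).symm
theorem F66037 : act 6 n9079 = n9535 := (sb E7426 (iv6 D20195))
theorem F66038 : act 7 n4999 = n9535 := (sb E7427 F65600)
theorem E7458 : n40867 = n22608 := ((D40867).symm.trans (iv2 (sb E7428 (tr (iv2 D42222) E7435))))
theorem F66039 : act 3 n22608 = n20051 := (sb E7428 F65183)
theorem F66040 : act 4 n22608 = n22240 := (sb E7428 F65945)
theorem F66041 : act 0 n9454 = n10716 := (sb E7429 (iv1 D22609))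
theorem E7460 : n10719 = n10666 := ((D10719).symm.trans (sb E7431 (iv1 D22436)))
theorem E7461 : n10720 = n10671 := ((D10720).symm.trans (sb E7431 F34980))
theorem E7462 : n40871 = n9454 := (((iv2 F61980)).symm.trans (sb E7434 (iv2 D20073)))
theorem E7463 : n42099 = n40872 := (((D40872).symm.trans (sb E7434 (iv3 F66019)))).symm
theorem E7464 : n40873 = n10661 := ((D40873).symm.trans (sb E7434 F65946))
theorem E7465 : n42514 = n40874 := (((D40874).symm.trans (sb E7434 D42514))).symm
theorem E7466 : n42515 = n40875 := (((D40875).symm.trans (sb E7434 D42515))).symm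
theorem E7467 : n40868 = n9400 := ((D40868).symm.trans (sb E7435 (iv3 D19932)))
theorem E7468 : n40869 = n10660 := ((D40869).symm.trans (sb E7435 F65777))
theorem E7469 : n42224 = n40870 := (((D40870).symm.trans (sb E7435 D42224))).symm
theorem E7470 : n37866 = n20838 := ((F58730).symm.trans (sb E7435 F32993))
theorem F66042 : act 0 n19269 = n9454 := (sb E7436 (iv1 D20072))
theorem E7471 : n22435 = n22288 := ((((iv4 F34776)).symm.trans (sb E7436 (iv4 F65702)))).symm
theorem E7474 : n22286 = n22250 := (((iv1 F34773)).symm.trans (sb E7437 (iv1 F65662)))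
theorem E7475 : n22285 = n10881 := ((F34778).symm.trans (sb E7437 (iv0 D23094)))
theorem F66043 : act 1 n4077 = n4307 := (sb E7438 (iv0 D9534))
theorem F66044 : act 0 n9536 = n4999 := (sb E7439 (iv1 D10970))
theorem F66045 : act 1 n9536 = n9069 := (sb E7439 F17823)
theorem E7480 : n23356 = n20196 := (((D20196).symm.trans (sb E7439 D23356))).symm
theorem E7481 : n23357 = n20197 := (((D20197).symm.trans (sb E7439 D23357))).symm
theorem E7482 : n23358 = n20198 := (((D20198).symm.trans (sb E7439 D23358))).symm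
theorem F66046 : act 7 n9536 = n9066 := (sb E7439 F62271)
theorem E7490 : n40934 = n9082 := (((F65648).symm.trans (sb E7441 (iv1 F62027)))).symm
theorem E7491 : n40933 = n20200 := (((D20200).symm.trans (sb E7441 F62031))).symm
theorem E7495 : n23352 = n9517 := (((F14895).symm.trans (sb E7441 (iv7 F62274)))).symm
theorem E7496 : n40939 = n20203 := (((D20203).symm.trans (sb E7442 (iv1 F62032)))).symm
theorem E7497 : n40428 = n20204 := (((D20204).symm.trans (sb E7442 F62035))).symm
theorem E7499 : n40953 = n20206 := (((D20206).symm.trans (sb E7442 D40953))).symm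
theorem E7500 : n23353 = n9518 := (((F14887).symm.trans (sb E7442 (iv7 F62276)))).symm
theorem E7501 : n40954 = n20207 := (((D20207).symm.trans (sb E7443 D40954))).symm
theorem E7502 : n23367 = n20208 := (((D20208).symm.trans (sb E7443 (iv0 F62287)))).symm
theorem E7503 : n40956 = n20209 := (((D20209).symm.trans (sb E7443 D40956))).symm
theorem E7504 : n23400 = n20210 := (((D20210).symm.trans (sb E7443 F62020))).symm
theorem F66047 : act 0 n4302 = n9069 := (sb E7444 (iv1 F17828))
theorem F66048 : act 1 n4302 = n4999 := (sb E7444 (iv0 D10969))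
theorem F66049 : act 2 n4302 = n9066 := (sb E7444 F62270)
theorem E7505 : n19195 = n9519 := (((D9519).symm.trans (sb E7444 F30829))).symm
theorem F66050 : act 3 n9066 = n9066 := (sb E7445 (iv3 D19285))
theorem E7510 : n40930 = n19287 := (((D19287).symm.trans (sb E7445 D40930))).symm
theorem E7511 : n40931 = n19288 := (((D19288).symm.trans (sb E7445 D40931))).symm
theorem E7512 : n41088 = n40935 := (((D40935).symm.trans (sb E7446 D41088))).symm
theorem E7513 : n41090 = n40936 := (((D40936).symm.trans (sb E7446 D41090))).symm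
theorem E7517 : n19076 = n9903 := ((F30947).symm.trans (sb E7448 (iv5 F31998)))
theorem E7519 : n23347 = n23055 := (((iv1 F36472)).symm.trans (sb E7449 F36115))
theorem F66051 : act 2 n19283 = n20193 := (sb E7449 F65612)
theorem F66052 : act 2 n19297 = n20194 := (sb E7450 (iv2 F65614))
theorem E7520 : n20704 = n20648 := (((D20648).symm.trans (sb E7451 F33545))).symm
theorem F66053 : act 1 n19281 = n20193 := (sb E7452 F65872)
theorem E7521 : n40911 = n23055 := (((iv2 F62007)).symm.trans (sb E7452 (iv2 F65954)))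
theorem E7522 : n40912 = n22515 := ((D40912).symm.trans (sb E7452 F65937))
theorem E7523 : n40913 = n10646 := ((D40913).symm.trans (sb E7452 (iv4 D22370)))
theorem F66054 : act 0 n19280 = n20193 := (sb E7453 F65948)
theorem E7524 : n40908 = n10645 := ((D40908).symm.trans (sb E7453 (iv4 D22365)))
theorem F66055 : act 7 n10968 = n20193 := (sb E7454 (iv7 F65606))
theorem F66056 : act 7 n10971 = n20194 := (sb E7455 (iv7 F65607))
theorem E7525 : n23335 = n9817 := (((iv1 F36450)).symm.trans (sb E7456 (iv1 D20714)))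
theorem E7526 : n23334 = n20706 := ((F36455).symm.trans (sb E7456 F32846))
theorem F66057 : act 2 n22608 = n19266 := (sb E7458 (iv2 D40867))
theorem F66058 : act 7 n22608 = n19267 := (sb E7458 (iv7 F61979))
theorem F66059 : act 1 n10666 = n4903 := (sb E7460 (iv0 D10719))
theorem E7531 : n22621 = n22438 := (((D22438).symm.trans (sb E7460 D22621))).symm
theorem E7532 : n22622 = n22439 := (((D22439).symm.trans (sb E7460 D22622))).symm
theorem F66060 : act 0 n10671 = n4903 := (sb E7461 (iv1 D10720))
theorem F66061 : act 2 n9454 = n19267 := (sb E7462 F61980)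
theorem F66062 : act 7 n9454 = n19266 := (sb E7462 (iv7 D40871))
theorem F66063 : act 0 n40872 = n19848 := (sb E7463 (iv1 D42099))
theorem F66064 : act 1 n40872 = n20049 := (sb E7463 F66017)
theorem F66065 : act 2 n40872 = n19936 := (sb E7463 F66018)
theorem F66066 : act 4 n40872 = n22983 := (sb E7463 F66020)
theorem F66067 : act 7 n40872 = n20051 := (sb E7463 F66021)
theorem F66068 : act 4 n10661 = n19267 := (sb E7464 (iv4 D40873))
theorem F66069 : act 2 n40874 = n20075 := (sb E7465 F65994)
theorem F66070 : act 2 n40875 = n20076 := (sb E7466 F65995)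
theorem F66071 : act 4 n40875 = n22417 := (sb E7466 F65996)
theorem F66072 : act 3 n9400 = n19266 := (sb E7467 (iv3 D40868))
theorem F66073 : act 4 n10660 = n19266 := (sb E7468 (iv4 D40869))
theorem F66074 : act 3 n40870 = n19934 := (sb E7469 F65196)
theorem F66075 : act 7 n40870 = n20075 := (sb E7469 F65197)
theorem F66076 : act 1 n20838 = n41203 := (sb E7470 (iv0 F62400))
theorem E7538 : n18148 = n9889 := ((((iv5 D20838)).symm.trans (sb E7470 (iv5 D37866)))).symm
theorem F66077 : act 6 n20838 = n19266 := (sb E7470 (iv6 F58730))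
theorem F66078 : act 0 n22288 = n10671 := (sb E7471 (iv1 F34984))
theorem F66079 : act 1 n22288 = n10666 := (sb E7471 (iv0 D22435))
theorem F66080 : act 0 n22250 = n10619 := (sb E7474 (iv1 D22286))
theorem F66081 : act 1 n22250 = n10722 := (sb E7474 F34773)
theorem F66082 : act 0 n10881 = n10722 := (sb E7475 (iv1 F34778))
theorem F66083 : act 1 n10881 = n10619 := (sb E7475 (iv0 D22285))
theorem F66084 : act 7 n20196 = n19286 := (sb E7480 F62281)
theorem E7539 : n41905 = n20172 := (((F32033).symm.trans (sb E7481 (iv0 F64648)))).symm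
theorem F66086 : act 7 n20197 = n19287 := (sb E7481 F62283)
theorem F66087 : act 1 n20198 = n10981 := (sb E7482 F62284)
theorem F66088 : act 5 n20198 = n41902 := (sb E7482 (iv5 F64637))
theorem F66089 : act 7 n20198 = n40654 := (sb E7482 (iv7 F61755))
theorem F66090 : act 0 n9082 = n19286 := (sb E7490 (iv1 D40934))
theorem F66091 : act 1 n20200 = n19286 := (sb E7491 (iv0 D40933))
theorem F66092 : act 2 n9517 = n19286 := (sb E7495 F62273)
theorem E7541 : n40668 = n20171 := (((D20171).symm.trans (sb E7495 (iv6 F61761)))).symm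
theorem F66093 : act 0 n20203 = n19287 := (sb E7496 (iv1 D40939))
theorem F66094 : act 7 n20203 = n20172 := (sb E7496 (tr F64650 E7539))
theorem F66095 : act 1 n20204 = n19287 := (sb E7497 (iv0 F61507))
theorem F66096 : act 2 n20204 = n20172 := (sb E7497 (tr (iv2 F64646) E7539))
theorem F66097 : act 5 n20204 = n19095 := (sb E7497 (iv5 D40428))
theorem F66098 : act 6 n20204 = n41890 := (sb E7497 (iv6 F64595))
theorem F66099 : act 0 n20206 = n42070 := (sb E7499 (iv1 F64968))
theorem F66101 : act 2 n20206 = n42068 := (sb E7499 F64956)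
theorem E7542 : n42069 = n20744 := ((((iv7 F32889)).symm.trans (sb E7499 (iv7 F64960)))).symm
theorem F66102 : act 2 n9518 = n19287 := (sb E7500 F62275)
theorem E7543 : n40670 = n20175 := (((D20175).symm.trans (sb E7500 (iv6 F61762)))).symm
theorem F66103 : act 0 n20207 = n40654 := (sb E7501 (iv1 F62288))
theorem F66104 : act 5 n20207 = n19732 := (sb E7501 (iv5 F62299))
theorem F66105 : act 1 n20208 = n40654 := (sb E7502 (iv0 F61751))
theorem F66106 : act 5 n20208 = n19733 := (sb E7502 F36492)
theorem F66107 : act 6 n20208 = n10973 := (sb E7502 (iv6 D23367))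
theorem F66108 : act 0 n20209 = n41892 := (sb E7503 (iv1 F64607))
theorem F66109 : act 1 n20209 = n41890 := (sb E7503 (iv0 F64597))
theorem E7544 : n41903 = n20717 := (((F32851).symm.trans (sb E7503 (iv7 F64642)))).symm
theorem F66111 : act 0 n20210 = n10981 := (sb E7504 (iv1 D23400))
theorem F66112 : act 2 n20210 = n40654 := (sb E7504 F62286)
theorem E7545 : n19406 = n9897 := (((F32046).symm.trans (sb E7504 (iv6 F36528)))).symm
theorem E7546 : n20176 = n19265 := ((D20176).symm.trans (sb E7505 (iv1 F31043)))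
theorem E7547 : n20177 = n19408 := ((D20177).symm.trans (sb E7505 (iv0 F31040)))
theorem E7548 : n9017 = n4499 := ((((iv5 F14774)).symm.trans (sb E7505 (iv5 D19195)))).symm
theorem F66114 : act 3 n19287 = n19287 := (sb E7510 F62023)
theorem F66115 : act 3 n19288 = n19288 := (sb E7511 F62024)
theorem E7549 : n40365 = n9903 := (((E7517).symm.trans ((F30947).symm.trans (sb E7511 (iv5 F62025))))).symm
theorem E7550 : n40644 = n19190 := ((((iv7 F62262)).symm.trans (sb E7511 F62295))).symm
theorem F66116 : act 4 n40935 = n40935 := (sb E7512 (tr F65979 E7512))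
theorem F66117 : act 2 n40936 = n20170 := (sb E7513 F65982)
theorem E7551 : n9894 = n8937 := (((iv1 F15557)).symm.trans (sb E7517 (iv1 D19076)))
theorem E7552 : n9893 = n9018 := ((F15555).symm.trans (sb E7517 F30628))
theorem E7553 : n40366 = n20882 := (((D20882).symm.trans (sb E7517 D40366))).symm
theorem F66118 : act 5 n9903 = n19288 := (sb E7517 (iv5 F30947))
theorem E7554 : n40367 = n20883 := (((D20883).symm.trans (sb E7517 D40367))).symm
theorem E7555 : n9895 = n9016 := ((F15554).symm.trans (sb E7517 (iv7 F62258)))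
theorem F66119 : act 0 n23055 = n10968 := (sb E7519 (iv1 D23347))
theorem F66120 : act 1 n23055 = n19283 := (sb E7519 F36472)
theorem E7556 : n20715 = n19326 := (((F62508).symm.trans (sb E7520 (iv1 F32845)))).symm
theorem E7557 : n19325 = n9813 := ((F62509).symm.trans (sb E7520 (iv0 D20704)))
theorem E7558 : n20713 = n10963 := (((F62511).symm.trans (sb E7520 (iv7 F65618)))).symm
theorem F66121 : act 2 n23055 = n19281 := (sb E7521 F62007)
theorem F66122 : act 7 n23055 = n19280 := (sb E7521 (iv7 D40911))
theorem F66123 : act 3 n22515 = n19281 := (sb E7522 (iv3 D40912))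
theorem F66124 : act 4 n10646 = n19281 := (sb E7523 (iv4 D40913))
theorem F66125 : act 4 n10645 = n19280 := (sb E7524 (iv4 D40908))
theorem F66126 : act 1 n9817 = n19328 := (sb E7525 F36450)
theorem E7559 : n40363 = n9898 := (((F15542).symm.trans (sb E7525 (iv5 F61448)))).symm
theorem F66127 : act 0 n20706 = n19328 := (sb E7526 (iv1 F36455))
theorem F66128 : act 5 n20706 = n40657 := (sb E7526 F62293)
theorem F66129 : act 0 n22438 = n41757 := (sb E7531 F64401)
theorem F66130 : act 5 n22439 = n41672 := (sb E7532 F64293)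
theorem E7560 : n20834 = n8559 := ((D20834).symm.trans (sb E7538 (iv1 D18148)))
theorem E7561 : n20835 = n19156 := ((D20835).symm.trans (sb E7538 F30780))
theorem F66131 : act 5 n20172 = n21055 := (sb E7539 F64647)
theorem F66132 : act 6 n20172 = n19725 := (sb E7539 (iv6 D41905))
theorem F66133 : act 2 n20171 = n40937 := (sb E7541 (iv2 F62289))
theorem E7569 : n41260 = n20867 := ((((iv7 F33015)).symm.trans (sb E7541 (iv7 F63574)))).symm
theorem F66134 : act 0 n20744 = n19838 := (sb E7542 (iv1 D42069))
theorem E7571 : n23457 = n23395 := (((iv6 F36554)).symm.trans (sb E7542 F64962))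
theorem F66137 : act 0 n20175 = n23370 := (sb E7543 F61764)
theorem F66138 : act 1 n20175 = n23366 := (sb E7543 (iv0 F61763))
theorem F66139 : act 2 n20175 = n23394 := (sb E7543 F62252)
theorem E7572 : n19196 = n9905 := (((F32001).symm.trans (sb E7543 (iv5 D40670)))).symm
theorem F66140 : act 0 n20717 = n19725 := (sb E7544 (iv1 D41903))
theorem F66141 : act 1 n20717 = n19730 := (sb E7544 F64641)
theorem F66143 : act 0 n9897 = n19390 := (sb E7545 F31036)
theorem F66144 : act 1 n9897 = n9103 := (sb E7545 (iv0 D19406))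
theorem E7573 : n19075 = n4494 := ((((iv5 D9897)).symm.trans (sb E7545 F31035))).symm
theorem F66146 : act 1 n19265 = n9519 := (sb E7546 (iv0 D20176))
theorem F66147 : act 0 n19408 = n9519 := (sb E7547 (iv1 D20177))
theorem E7574 : n9901 = n4042 := ((D9901).symm.trans (sb E7548 (iv1 D9017)))
theorem E7575 : n19077 = n9902 := (((D9902).symm.trans (sb E7548 F30633))).symm
theorem E7576 : n19194 = n9904 := (((D9904).symm.trans (sb E7548 D19194))).symm
theorem E7577 : n19188 = n9016 := (((E7555).symm.trans ((F15554).symm.trans (sb E7549 F62255)))).symm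
theorem F66148 : act 3 n19190 = n19190 := (sb E7550 F61743)
theorem F66149 : act 1 n8937 = n9903 := (sb E7551 F15557)
theorem F66150 : act 0 n9018 = n9903 := (sb E7552 (iv1 F15555))
theorem E7583 : n20850 = n19186 := ((((iv4 F30826)).symm.trans (sb E7552 D20850))).symm
theorem E7585 : n20858 = n19189 := ((F33025).symm.trans (sb E7553 F62257))
theorem F66151 : act 1 n20883 = n19090 := (sb E7554 F62108)
theorem F66152 : act 5 n20883 = n23394 := (sb E7554 F61450)
theorem E7586 : n20860 = n19191 := (((D19191).symm.trans (sb E7555 D20860))).symm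
theorem F66153 : act 7 n9016 = n9903 := (sb E7555 (iv7 F15554))
theorem F66154 : act 2 n19326 = n9817 := (sb E7556 (iv2 D20715))
theorem E7587 : n41057 = n19326 := ((D41057).symm.trans (sb E7556 (tr F32843 E7556)))
theorem F66155 : act 7 n19326 = n20706 := (sb E7556 F32844)
theorem F66156 : act 0 n9813 = n20648 := (sb E7557 (iv1 F62509))
theorem F66157 : act 1 n9813 = n9078 := (sb E7557 (iv0 D19325))
theorem E7590 : n41055 = n20708 := (((D20708).symm.trans (sb E7557 D41055))).symm
theorem F66158 : act 0 n10963 = n20706 := (sb E7558 (iv1 F32842))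
theorem F66159 : act 1 n10963 = n9817 := (sb E7558 (iv0 D20713))
theorem E7591 : n41893 = n20868 := (((D20868).symm.trans (sb E7559 F64612))).symm
theorem E7592 : n41913 = n20869 := (((D20869).symm.trans (sb E7559 F64660))).symm
theorem E7593 : n41594 = n18147 := (((D18147).symm.trans (sb E7560 F65827))).symm
theorem F66160 : act 1 n8559 = n9889 := (sb E7560 (iv0 D20834))
theorem E7594 : n20813 = n18143 := ((((iv3 F29314)).symm.trans (sb E7560 F33626))).symm
theorem E7595 : n21415 = n18146 := ((((iv4 F29320)).symm.trans (sb E7560 F33624))).symm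
theorem F66161 : act 0 n19156 = n9889 := (sb E7561 (iv1 D20835))
theorem F66162 : act 2 n20867 = n40653 := (sb E7569 F63573)
theorem F66163 : act 3 n23395 = n10997 := (sb E7571 (iv3 D23457))
theorem E7603 : n40416 = n20890 := ((F62250).symm.trans (sb E7571 F36553))
theorem E7604 : n23422 = n20888 := (((D20888).symm.trans (sb E7572 F36535))).symm
theorem E7605 : n23427 = n20889 := (((D20889).symm.trans (sb E7572 (iv0 F61894)))).symm
theorem F66166 : act 0 n4494 = n9018 := (sb E7573 (iv1 F30632))
theorem F66167 : act 1 n4494 = n8937 := (sb E7573 (iv0 D19075))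
theorem E7607 : n40362 = n9896 := (((D9896).symm.trans (sb E7573 D40362))).symm
theorem F66169 : act 1 n4042 = n4499 := (sb E7574 (iv0 D9901))
theorem E7608 : n20872 = n8937 := ((((iv2 F13921)).symm.trans (sb E7574 D20872))).symm
theorem E7609 : n20873 = n9002 := ((((iv3 F14001)).symm.trans (sb E7574 D20873))).symm
theorem E7610 : n20874 = n9015 := ((((iv4 F14074)).symm.trans (sb E7574 D20874))).symm
theorem E7612 : n20877 = n9018 := (((D9018).symm.trans (sb E7574 D20877))).symm
theorem F66170 : act 1 n9902 = n9016 := (sb E7575 F30634)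
theorem E7613 : n40352 = n20812 := ((((iv3 F65891)).symm.trans (sb E7575 (iv3 F61427)))).symm
theorem E7614 : n40359 = n20879 := (((D20879).symm.trans (sb E7575 (iv4 F61442)))).symm
theorem E7615 : n20881 = n9043 := ((D20881).symm.trans (sb E7575 F30631))
theorem E7616 : n40648 = n19621 := ((((iv1 F65821)).symm.trans (sb E7576 (iv1 F61746)))).symm
theorem E7617 : n40647 = n20885 := (((D20885).symm.trans (sb E7576 F61750))).symm
theorem F66171 : act 3 n9016 = n9016 := (sb E7577 (iv3 D19188))
theorem E7624 : n40645 = n19191 := (((D19191).symm.trans (sb E7577 D40645))).symm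
theorem E7625 : n40357 = n21370 := (((iv1 F61439)).symm.trans (sb E7583 F33565))
theorem F66172 : act 7 n19189 = n20882 := (sb E7585 (iv7 F33025))
theorem F66173 : act 2 n19191 = n9898 := (sb E7586 F33009)
theorem F66174 : act 3 n19326 = n19326 := (sb E7587 (iv3 D41057))
theorem F66175 : act 0 n20708 = n40413 := (sb E7590 (iv1 F62249))
theorem F66176 : act 1 n20708 = n19731 := (sb E7590 (iv0 F63072))
theorem F66178 : act 0 n20868 = n40657 := (sb E7591 F64611)
theorem F66179 : act 2 n20868 = n19731 := (sb E7591 F64608)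
theorem F66180 : act 5 n20868 = n20662 := (sb E7591 F64610)
theorem F66181 : act 6 n20868 = n19719 := (sb E7591 (iv6 D41893))
theorem F66183 : act 1 n20869 = n40657 := (sb E7592 F64661)
theorem F66185 : act 5 n20869 = n20663 := (sb E7592 F64658)
theorem F66186 : act 6 n20869 = n40324 := (sb E7592 F64659)
theorem F66187 : act 7 n20869 = n19731 := (sb E7592 (iv7 D41913))
theorem F66188 : act 2 n18147 = n20767 := (sb E7593 (iv2 F65830))
theorem E7626 : n37859 = n20814 := ((D37859).symm.trans (sb E7593 F65829))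
theorem E7627 : n37860 = n19587 := ((D37860).symm.trans (sb E7593 (iv4 D41594)))
theorem F66189 : act 7 n18147 = n20836 := (sb E7593 F65832)
theorem E7628 : n37845 = n9884 := ((D37845).symm.trans (sb E7594 (iv1 D20813)))
theorem E7629 : n21352 = n21246 := ((((iv4 F33473)).symm.trans (sb E7594 F65826))).symm
theorem E7630 : n37854 = n10500 := ((D37854).symm.trans (sb E7595 (iv1 F65785)))
theorem E7631 : n37855 = n10202 := ((D37855).symm.trans (sb E7595 (iv0 D21415)))
theorem F66190 : act 0 n20890 = n19090 := (sb E7603 (iv1 D40416))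
theorem F66191 : act 5 n20890 = n23395 := (sb E7603 (iv5 F62250))
theorem F66192 : act 5 n20888 = n10987 := (sb E7604 (iv5 D23422))
theorem F66193 : act 7 n20888 = n19090 := (sb E7604 F63490)
theorem F66194 : act 2 n20889 = n19090 := (sb E7605 F63449)
theorem F66195 : act 5 n20889 = n10988 := (sb E7605 (iv5 D23427))
theorem F66196 : act 6 n20889 = n19060 := (sb E7605 F36537)
theorem F66197 : act 2 n9896 = n19189 := (sb E7607 F62264)
theorem F66198 : act 7 n8937 = n9902 := (sb E7608 (iv7 F33022))
theorem E7632 : n21393 = n9223 := ((((iv4 F14412)).symm.trans (sb E7609 F33585))).symm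
theorem E7633 : n21909 = n19183 := (((D19183).symm.trans (sb E7610 F65882))).symm
theorem F66199 : act 2 n9018 = n9902 := (sb E7612 F33023)
theorem F66200 : act 0 n20812 = n37846 := (sb E7613 (iv1 F61431))
theorem F66201 : act 2 n20812 = n37847 := (sb E7613 F61426)
theorem F66202 : act 6 n20812 = n19211 := (sb E7613 F61429)
theorem F66203 : act 7 n20812 = n19071 := (sb E7613 (iv7 D40352))
theorem E7634 : n21914 = n19184 := ((F65894).symm.trans (sb E7614 (iv1 F61445)))
theorem F66204 : act 2 n20879 = n19186 := (sb E7614 F61441)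
theorem F66205 : act 6 n20879 = n19232 := (sb E7614 F61443)
theorem F66206 : act 7 n20879 = n19074 := (sb E7614 (iv7 D40359))
theorem F66207 : act 6 n9043 = n9902 := (sb E7615 (iv6 D20881))
theorem F66208 : act 0 n19621 = n19189 := (sb E7616 (iv1 D40648))
theorem F66209 : act 1 n20885 = n19189 := (sb E7617 (iv0 D40647))
theorem F66210 : act 3 n19191 = n19191 := (sb E7624 F61744)
theorem F66211 : act 0 n21370 = n19074 := (sb E7625 (iv1 D40357))
theorem F66212 : act 1 n21370 = n19186 := (sb E7625 F61439)
theorem F66213 : act 3 n20814 = n18147 := (sb E7626 (iv3 D37859))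
theorem F66214 : act 4 n19587 = n18147 := (sb E7627 (iv4 D37860))
theorem F66215 : act 1 n9884 = n18143 := (sb E7628 (iv0 D37845))
theorem F66216 : act 0 n21246 = n10183 := (sb E7629 (iv1 D21352))
theorem F66217 : act 1 n21246 = n10188 := (sb E7629 F33548)
theorem F66218 : act 0 n10500 = n19619 := (sb E7630 (iv1 F58725))
theorem F66219 : act 1 n10500 = n18146 := (sb E7630 (iv0 D37854))
theorem F66220 : act 0 n10202 = n18146 := (sb E7631 (iv1 D37855))
theorem F66221 : act 1 n10202 = n19619 := (sb E7631 F58719)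
theorem E7635 : n19616 = n10194 := ((D19616).symm.trans (sb E7632 (iv1 D21393)))
theorem E7636 : n19617 = n19597 := ((D19617).symm.trans (sb E7632 F65782))
theorem F66222 : act 0 n19183 = n20879 := (sb E7633 (iv1 F65898))
theorem E7637 : n40622 = n10448 := ((D40622).symm.trans (sb E7633 (iv4 D21909)))
theorem E7638 : n40625 = n21370 := ((D40625).symm.trans (sb E7633 (iv7 F65895)))
theorem F66223 : act 1 n19184 = n20879 := (sb E7634 (iv0 F65894))
theorem E7639 : n40626 = n22136 := ((D40626).symm.trans (sb E7634 F65906))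
theorem E7640 : n40627 = n10449 := ((D40627).symm.trans (sb E7634 (iv4 D21914)))
theorem E7641 : n37857 = n21392 := (((D21392).symm.trans (sb E7635 (iv1 F58727)))).symm
theorem F66224 : act 1 n10194 = n9223 := (sb E7635 (iv0 D19616))
theorem F66225 : act 0 n19597 = n9223 := (sb E7636 (iv1 D19617))
theorem F66226 : act 4 n10448 = n19183 := (sb E7637 (iv4 D40622))
theorem F66227 : act 2 n21370 = n19184 := (sb E7638 F61733)
theorem F66228 : act 7 n21370 = n19183 := (sb E7638 (iv7 D40625))
theorem F66229 : act 3 n22136 = n19184 := (sb E7639 (iv3 D40626))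
theorem F66230 : act 4 n10449 = n19184 := (sb E7640 (iv4 D40627))
theorem F66231 : act 2 n21392 = n19619 := (sb E7641 F58722)
theorem F66232 : act 4 n21392 = n18149 := (sb E7641 F58723)
theorem F66233 : act 6 n21392 = n19609 := (sb E7641 F58724)
theorem F66234 : act 7 n21392 = n18146 := (sb E7641 (iv7 D37857))
theorem F66235 : act 3 n40551 = n40752 := d20_3 F66232 (iv1 F30774) D40551 (iv1 D40752) F30889 F14117 F62564 D10016 (iv3 F16017) D21392
theorem E7652 : n40351 = n20771 := (c20_5 D10194 D21392 F66232 (iv3 F58690) (iv1 F61425) (iv3 D20771) D20772 F65958 F31342 F14389 F65749)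
theorem F66236 : act 0 n20771 = n19071 := (sb E7652 (iv1 D40351))
theorem F66237 : act 1 n20771 = n37847 := (sb E7652 F61425)
theorem E7653 : n20767 = n19154 := (c20_10 (iv4 F66232) F65783 (iv4 D19597) F65747 (iv1 D9216) (iv3 F14389) (iv4 F31342) (iv1 F65962) (iv4 D20768) D20767 (iv1 F30779))
theorem E7654 : n40544 = n18147 := ((D40544).symm.trans (sb E7653 (iv2 F66188)))
theorem E7655 : n40545 = n9870 := ((D40545).symm.trans (sb E7653 (iv3 D20767)))
theorem E7656 : n40546 = n10494 := ((D40546).symm.trans (sb E7653 F65840))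
theorem E7657 : n40549 = n9889 := ((D40549).symm.trans (sb E7653 F35733))
theorem F66238 : act 2 n18147 = n19154 := (sb E7654 (iv2 D40544))
theorem E7658 : n20836 = n19155 := ((F66189).symm.trans (sb E7654 (iv7 F61675)))
theorem F66239 : act 3 n9870 = n19154 := (sb E7655 (iv3 D40545))
theorem F66240 : act 4 n10494 = n19154 := (sb E7656 (iv4 D40546))
theorem F66241 : act 7 n9889 = n19154 := (sb E7657 (iv7 D40549))
theorem F66242 : act 2 n19155 = n9889 := (sb E7658 (iv2 D20836))
theorem E7659 : n40551 = n10495 := ((D40551).symm.trans (sb E7658 F65844))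
theorem F66243 : act 7 n19155 = n18147 := (sb E7658 (iv7 F66189))
theorem E7660 : n40752 = n22014 := (((D22014).symm.trans (sb E7659 F66235))).symm
theorem F66244 : act 4 n10495 = n19155 := (sb E7659 (iv4 D40551))
theorem F66245 : act 0 n22014 = n19227 := (sb E7660 (iv1 D40752))
theorem E7661 : n40350 = n20814 := ((c20_4 (iv4 F14395) D19587 F66214 (iv3 F66213) (iv1 F61430) F58690 (iv4 F66232) F65783 (iv4 D19597) F65747 (iv1 D9216))).symm
theorem F66246 : act 0 n20814 = n37847 := (sb E7661 (iv1 F61430))
theorem F66247 : act 1 n20814 = n19071 := (sb E7661 (iv0 D40350))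
theorem F66248 : act 5 n20814 = n41243 := (sb E7661 (iv5 F63085))
theorem F66249 : act 2 n41243 = n20816 := d2_1 F66248 (iv5 D20816) D20814
theorem F66250 : act 3 n41243 = n37861 := d6_1 F66248 (iv5 D37861) (iv3 F66213)
theorem F66251 : act 4 n41243 = n23623 := d18_5 (iv1 D4625) (iv4 F6682) D10177 (iv4 F35773) F66248 (iv0 D23623) F17936 F63251 (iv5 D10189)
theorem F66252 : act 5 n21335 = n23623 := d17_3 (iv1 D10178) D10179 D21335 (iv4 F66251) (iv5 F66248) F66247 F30622 (iv0 F66236) F32943
theorem F66253 : act 4 n41254 = n21371 := d20_8 (iv4 F17936) D23623 (iv4 F66251) F66250 F62401 F62396 (iv4 F62456) (iv1 F63091) F33566 (iv1 F63251)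
theorem F66254 : act 0 n22783 = n21421 := d20_1 F62397 (iv4 D21421) F16039 (iv1 F7481) (iv3 F7489) (iv4 F17936) D23623 (iv4 F66251) F66250 F62401
theorem F66255 : act 1 n22783 = n22041 := d15_1 (iv0 F66254) (iv7 F35552) (iv2 F65685)
theorem F66256 : act 1 n22329 = n21421 := d15_0 (iv0 F66254) (iv7 D22783) (iv2 F34839)
theorem F66257 : act 1 n22041 = n22329 := d15_0 F66256 F33637 F65720
theorem E7662 : n22781 = n22439 := ((c18_2 F17320 (iv4 F34981) (iv1 D22781) (iv4 F35343) (iv5 F62398) F62397 F66255 (iv4 D22041) F17367 (iv5 F17319))).symm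
theorem F66258 : act 0 n22439 = n10767 := (sb E7662 (iv1 D22781))
theorem E7663 : n41181 = n40937 := ((c20_7 D22041 (iv1 F66255) (iv4 F62397) F62396 F31016 F66115 (iv4 F62028) (iv1 D41181) (iv4 F34883) F34882 (iv1 F17367))).symm
theorem F66259 : act 0 n40937 = n19364 := (sb E7663 (iv1 D41181))
theorem F66260 : act 0 n41182 = n20886 := d17_2 F66259 D41182 (iv5 D20886) (iv4 D9904) F14774 (iv0 F66147) (iv5 D19408) (iv0 F31067) (iv4 F62028)
theorem F66261 : act 1 n41183 = n40653 := d18_6 F31016 (iv4 F62028) F66259 (iv4 F34883) (iv5 F35404) (iv4 F62382) (iv4 D40653) F31068 (iv5 F31015)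
theorem F66262 : act 0 n22782 = n21417 := d17_2 F66258 D22782 (iv5 D21417) (iv4 D10202) D10203 (iv0 F65690) (iv5 D10816) (iv0 F17366) (iv4 F34981)
theorem E7664 : n22780 = n21398 := ((c15_4 (iv0 D22780) (iv0 F66258) F35552 (iv2 F65720))).symm
theorem F66263 : act 1 n21398 = n10767 := (sb E7664 (iv0 D22780))
theorem F66264 : act 1 n22777 = n40552 := d18_8 (iv1 D19155) (iv4 F14412) (iv1 F66224) (iv4 D10194) D10195 D21398 F66263 (iv4 F35343) (iv5 D40552)
theorem F66265 : act 0 n41736 = n40553 := d21_4 (iv5 F63009) (iv1 F64378) (iv5 D41735) D41736 (iv6 D40553) D40552 (iv1 F66264) (iv5 F62398) (iv6 D41203) D41200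
theorem F66266 : act 1 n22782 = n22038 := d15_1 (iv0 F66262) (iv7 F64231) (iv2 F65759)
theorem E7665 : n41254 = n40910 := ((c10_1 D40910 F66253 F65767 F66125)).symm
theorem F66267 : act 0 n40910 = n19404 := (sb E7665 (iv1 D41254))
theorem F66268 : act 1 n40910 = n41233 := (sb E7665 F63091)
theorem F66269 : act 4 n40910 = n21371 := (sb E7665 F66253)
theorem F66270 : act 4 n37861 = n22887 := d20_6 (iv4 F66269) F66267 F31033 (iv3 F31032) D41243 F66250 (iv1 F35959) F35560 (iv3 F35403) (iv1 F65766)
theorem F66271 : act 7 n42475 = n41243 := d4_0 F66249 F35770 (iv2 F65621)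
theorem E7666 : n41244 = n20054 := (c15_2 (iv0 D41243) D41244 (iv7 F35770) (iv2 F66249))
theorem E7667 : n42482 = n19401 := ((D42482).symm.trans (sb E7666 (iv1 D41244)))
theorem F66272 : act 1 n19401 = n20054 := (sb E7667 (iv0 D42482))
theorem F66273 : act 7 n42483 = n41236 := d15_2 F66272 D42483 F62463
theorem F66274 : act 2 n41245 = n42483 := d4_3 F66273 F62463 F63088
theorem F66275 : act 5 n42483 = n41236 := d2_2 D41245 F66274 F62463
theorem F66276 : act 1 n42483 = n41243 := d15_0 (iv0 D41243) F63088 F66274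
theorem F66277 : act 7 n23623 = n23018 := d11_2 F66271 F66251 (iv4 F65622)
theorem F66278 : act 2 n41593 = n40751 := d15_3 (iv0 D40751) (iv0 F66245) (iv7 F65845)
theorem F66279 : act 4 n40553 = n22017 := d10_3 (iv6 D22017) F66244 D40553
theorem E7668 : n40550 = n37846 := (c20_4 (iv4 F31366) (iv1 F31369) F66244 D40550 (iv1 D37846) F29314 (iv4 F29320) (iv1 F66219) (iv4 D10500) F65781 (iv1 F14402))
theorem F66280 : act 3 n37846 = n19155 := (sb E7668 (iv3 D40550))
theorem F66281 : act 2 n20771 = n37846 := d0_5 F66280 F66242 (iv3 D9889) (iv2 F35738) D20771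
theorem F66282 : act 7 n20814 = n37846 := d8_0 F66280 F66243 (iv3 F66213)
theorem F66283 : act 4 n21234 = n37846 := d20_2 (iv4 F16013) (iv1 F33461) F66280 (iv1 D19155) F14001 (iv4 F14074) D19183 (iv4 F66226) (iv3 F65878) (iv1 F15992)
theorem F66284 : act 5 n37846 = n42475 := d13_1 F66282 F66271 (iv5 F66248)
theorem F66285 : act 3 n42475 = n40552 := d6_1 F66284 (iv5 D40552) (iv3 F66280)
theorem F66286 : act 1 n23018 = n23551 := d18_6 (iv1 F15992) (iv4 F16013) (iv1 F33461) F66283 F66284 F65622 F36662 (iv0 F63189) (iv5 D21240)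
theorem F66287 : act 0 n41245 = n42475 := d21_10 (iv5 F66284) (iv1 D37846) F29315 (iv6 D18143) F13387 D9661 F16965 (iv1 F35638) D40860 (iv6 F63087)
theorem F66288 : act 1 n41245 = n20816 := d15_1 (iv0 F66287) F35770 (iv2 F65621)
theorem F66289 : act 1 n41236 = n42475 := d15_0 (iv0 F66287) (iv7 F63088) (iv2 F62463)
theorem F66290 : act 1 n20816 = n41236 := d15_0 F66289 F66271 F66249
theorem F66291 : act 1 n23611 = n23018 := d15_0 F66286 F36663 (iv2 F36737)
theorem F66292 : act 2 n40552 = n20838 := d0_1 F66285 F32992 (iv2 F35731) (iv3 F31881) (iv2 F65621)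
theorem F66293 : act 7 n40552 = n37861 := d8_2 (iv7 F66271) F66285 (iv3 F66250)
theorem F66294 : act 2 n37861 = n40547 := d15_3 (iv0 F62407) F66264 F66293
theorem F66295 : act 7 n20838 = n40547 := d4_2 (iv7 F66293) F66292 (iv2 F66294)
theorem F66297 : act 6 n40547 = n42526 := d14_1 F66295 (iv7 D42526) (iv6 D20076) F66062 (iv6 F66077)
theorem F66298 : act 2 n20839 = n40553 := d1_3 F66279 (iv2 F65848) F65934
theorem F66299 : act 4 n40548 = n22012 := d10_3 (iv6 D22012) F66240 D40548
theorem F66300 : act 3 n40548 = n20601 := d20_3 (iv4 F64475) F64476 (iv4 F66299) F35942 F31509 (iv4 F15265) F15394 (iv4 F16026) (iv3 F33591) F65731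
theorem F66301 : act 5 n20599 = n40548 := d6_0 F66300 (iv5 D20601) D20599
theorem F66302 : act 0 n20599 = n38855 := d21_7 (iv5 D8999) (iv1 D4028) D4030 D9002 D19154 D40548 (iv5 F66301) F59873 (iv6 D20413) F15121
theorem F66303 : act 2 n40548 = n37862 := d3_3 (iv6 D37862) F66238 D40548
theorem F66304 : act 4 n37862 = n41596 := d1_2 (iv4 F66299) F66303 (iv2 F65899)
theorem F66305 : act 4 n40629 = n21916 := d10_3 (iv6 D21916) F66230 D40629
theorem F66306 : act 4 n40620 = n21883 := d11_3 F65888 F66230 F61732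
theorem E7669 : n40620 = n40356 := ((c20_2 (iv4 F30627) D40356 F66306 F65916 (iv1 F64144) F64139 (iv4 F65817) (iv1 F33027) (iv4 D20882) F15553 (iv1 F66149))).symm
theorem F66307 : act 2 n40356 = n19183 := (sb E7669 (iv2 D40620))
theorem F66308 : act 4 n40356 = n21883 := (sb E7669 F66306)
theorem F66309 : act 7 n40356 = n19184 := (sb E7669 (iv7 F61732))
theorem F66310 : act 4 n40624 = n21911 := d10_3 (iv6 D21911) F66226 D40624
theorem F66311 : act 5 n41671 = n21398 := d17_3 F66225 D19618 D41671 (iv4 D21398) (iv5 D10195) (iv0 F65749) F7147 D9216 D19597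
theorem F66312 : act 5 n22039 = n22670 := d21_6 D2025 D4913 (iv5 F13392) D18146 (iv1 F66219) D22039 (iv1 D22670) (iv5 D10733) (iv6 D4908) (iv1 D2023)
theorem F66313 : act 7 n21351 = n21609 := d15_2 F66217 F33552 F34008
theorem F66314 : act 6 n21710 = n21351 := d14_5 F66313 (iv6 D21609) (iv7 F16420) D19207 (iv7 F62598)
theorem F66315 : act 5 n20817 = n40995 := d21_6 (iv5 D9020) (iv1 F6409) D8556 D18143 (iv1 F66215) D20817 (iv1 D40995) (iv5 D19304) (iv6 D9072) (iv1 F14082)
theorem F66316 : act 3 n40995 = n20466 := d6_1 F66315 (iv5 F32518) (iv3 F32974)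
theorem F66317 : act 7 n20594 = n40995 := d8_0 F66316 F35776 D20594
theorem F66318 : act 4 n40995 = n23243 := d20_6 F15447 (iv1 F15443) F15442 (iv3 F15237) (iv1 F32517) (iv3 F66316) (iv1 D23243) (iv4 D10930) F7402 D4989
theorem F66319 : act 2 n20594 = n40994 := d15_3 (iv0 D40994) D40995 (iv7 F66317)
theorem F66321 : act 5 n40651 = n41124 := d21_6 D4085 D9086 F14417 D19621 F66208 D40651 (iv1 D41124) (iv5 D19348) (iv6 D9085) (iv1 D4084)
theorem F66322 : act 0 n40650 = n41182 := d21_1 D40650 (iv5 D41182) (iv6 D19364) (iv1 D9091) (iv6 D4086) D4085 D9086 F14417 D19621 F66208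
theorem F66323 : act 2 n40649 = n41546 := d0_3 F16553 F66197 D40649 (iv3 D41546) F62620
theorem F66324 : act 2 n40650 = n20863 := d2_3 (iv5 D20863) F66197 D40650
theorem F66325 : act 2 n40651 = n20864 := d3_3 (iv6 D20864) F66197 D40651
theorem F66326 : act 4 n40649 = n40649 := d1_0 F66323 F64106 (iv2 F66323)
theorem F66327 : act 0 n41479 = n21418 := d20_7 (iv4 D9293) D9291 (iv4 F15563) (iv3 F33034) F66190 (iv3 F61475) (iv4 F63931) F33632 F16042 (iv1 F16080)
theorem F66328 : act 3 n41059 = n41059 := d7_3 (iv6 D41059) F66174 D41059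
theorem F66331 : act 0 n21243 = n21609 := d20_1 D21243 F34009 F30621 (iv1 F66167) (iv3 D4494) F14794 (iv1 F3260) F3258 (iv3 F6683) (iv1 F15988)
theorem F66332 : act 0 n41539 = n40354 := d20_4 (iv4 F58732) (iv1 F58734) (iv4 F62915) D41539 F61437 F30627 (iv1 F66167) D9896 (iv3 F16553) (iv1 F62622)
theorem F66333 : act 1 n21239 = n21609 := d15_0 (iv0 F66331) F63386 (iv2 F63371)
theorem F66334 : act 1 n40653 = n40855 := d15_0 F65971 (iv7 F33015) F66162
theorem F66335 : act 2 n20716 = n41058 := d1_3 (iv4 D41058) F66154 D20716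
theorem F66337 : act 5 n21056 = n20173 := d21_0 (iv1 D20173) (iv5 D9518) D9519 (iv1 F66146) (iv6 D19265) (iv5 F14162) (iv1 F62076) (iv5 F61492) (iv6 F62045) (iv1 F62526)
theorem F66338 : act 7 n20173 = n20204 := d13_2 (iv7 F63460) F66337 F66097
theorem F66339 : act 6 n20173 = n20286 := d21_3 D40960 (iv1 F62526) F66337 (iv1 D20286) (iv6 D9598) (iv5 D4325) F17521 D8925 (iv6 F14147) D19294
theorem F66340 : act 2 n20203 = n20173 := d4_3 F66338 F66096 (iv7 F66094)
theorem F66341 : act 0 n23042 = n41239 := d20_1 (iv4 F36090) F62465 F31032 (iv1 F66144) F15539 D9899 (iv1 F17758) F17760 (iv3 F17905) (iv1 F63192)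
theorem F66344 : act 4 n40906 = n22351 := d1_2 F66125 D40906 F65763
theorem F66345 : act 3 n42424 = n40906 := d5_5 F66344 F65644 (iv4 D20031) D20030 D42424
theorem E7670 : n40906 = n23346 := ((c20_2 (iv4 F17822) D23346 F66344 F65644 D42427 (iv3 F65865) F34895 F65805 (iv4 D20196) F14901 F66044)).symm
theorem F66346 : act 2 n23346 = n19280 := (sb E7670 (iv2 D40906))
theorem F66347 : act 3 n23346 = n42424 := (sb E7670 (iv3 F66345))
theorem F66348 : act 4 n23346 = n22351 := (sb E7670 F66344)
theorem F66349 : act 7 n23346 = n19281 := (sb E7670 (iv7 F62006))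
theorem F66350 : act 0 n42424 = n22517 := d20_4 (iv4 F17183) D22351 (iv4 F66348) F66347 F35079 F17233 F62709 D10946 F17774 F65648
theorem F66351 : act 4 n40915 = n22372 := d10_3 (iv6 D22372) F66124 D40915
theorem F66352 : act 2 n40940 = n20174 := d1_3 (iv4 D20174) F66102 D40940
theorem F66353 : act 1 n22968 = n22468 := d18_6 (iv1 F17126) D10671 F66060 (iv4 F17245) D22610 (iv4 F36026) (iv4 D22468) F34727 F34725
theorem F66354 : act 1 n22464 = n22968 := d15_0 F66353 F62668 (iv2 F63029)
theorem F66356 : act 0 n22991 = n21438 := d20_1 D22991 F33675 F17817 (iv1 F66048) (iv3 D4302) F14798 (iv1 F3347) F3345 (iv3 F7375) (iv1 F17644)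
theorem F66357 : act 1 n22988 = n21438 := d15_0 (iv0 F66356) F63392 (iv2 F63379)
theorem F66358 : act 6 n41897 = n42520 := d21_9 (iv5 D20075) F66041 D22610 F35147 (iv1 F32427) (iv6 F61668) (iv5 D40542) (iv1 F63481) D41897 (iv1 D42520)
theorem F66359 : act 0 n41897 = n42525 := d21_1 D41897 (iv5 D42525) (iv6 D20076) F66041 (iv6 D10716) F7317 F12107 (iv5 F13997) D19153 (iv1 F63481)
theorem F66360 : act 0 n38862 = n42522 := d21_4 (iv5 D20414) F15128 D18466 D38862 (iv6 D42522) (iv5 D20075) F66041 D22610 F35147 (iv1 F32427)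
theorem F66361 : act 3 n42520 = n20172 := d7_1 F66358 F66132 (iv3 F64627)
theorem F66362 : act 5 n42520 = n41752 := d12_1 F66358 (iv6 D41752) D41751 F64394 D41897
theorem F66363 : act 0 n20226 = n41282 := d18_2 F66034 D20226 F63605 (iv5 D22353) F17183 (iv0 F65648) (iv4 D9537) D9535 D20194
theorem F66364 : act 1 n40959 = n41282 := d15_0 (iv0 F66363) F32072 F63068
theorem F66365 : act 7 n23038 = n21438 := d15_2 F66026 F36093 F33674
theorem F66366 : act 6 n23205 = n23038 := d14_5 F66365 (iv6 D21438) (iv7 F16162) D19301 (iv7 F62534)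
theorem F66367 : act 5 n42478 = n40421 := d21_2 D20053 D42478 (iv6 D40421) F61486 (iv6 D20381) (iv5 D9659) F12190 D9339 D19848 F66016
theorem F66368 : act 3 n20204 = n42478 := d6_3 F66367 F61504 (iv5 F66097)
theorem F66369 : act 6 n42102 = n42478 := d12_0 F66367 (iv6 D40421) D40420 (iv6 F61502) D42102
theorem F66370 : act 2 n42547 = n23076 := d15_3 (iv0 D23076) D23077 (iv7 F66014)
theorem F66371 : act 4 n23076 = n42546 := d1_2 D42547 F66370 (iv2 D42546)
def n42548 : Q := act 5 n20087
theorem D42548 : act 5 n20087 = n42548 := rfl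
theorem F66372 : act 3 n42548 = n20089 := d6_1 D42548 (iv5 D20089) D20087
theorem F66373 : act 7 n42548 = n20962 := d13_2 F65239 D42548 (iv5 F65238)
def n42549 : Q := act 0 n20088
theorem D42549 : act 0 n20088 = n42549 := rfl
theorem F66374 : act 1 n20093 = n42549 := d15_0 (iv0 D42549) (iv7 F65243) F65242
def n42550 : Q := act 1 n20088
theorem D42550 : act 1 n20088 = n42550 := rfl
theorem F66375 : act 1 n42550 = n20093 := d15_1 D42550 (iv7 F65237) F65235
def n42551 : Q := act 3 n20088
theorem D42551 : act 3 n20088 = n42551 := rfl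
def n42552 : Q := act 5 n20088
theorem D42552 : act 5 n20088 = n42552 := rfl
def n42553 : Q := act 6 n20088
theorem D42553 : act 6 n20088 = n42553 := rfl
theorem F66376 : act 2 n42553 = n20589 := d3_1 D42553 (iv6 F65236) F65235
theorem F66377 : act 4 n42553 = n20090 := d10_1 D42553 (iv6 D20090) D20088
theorem F66378 : act 7 n20572 = n42553 := d11_0 F66377 F35919 D20572
def n42554 : Q := act 4 n20089
theorem D42554 : act 4 n20089 = n42554 := rfl
theorem F66379 : act 7 n42554 = n20968 := d11_2 (iv7 F35915) D42554 F33146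
def n42555 : Q := act 0 n20090
theorem D42555 : act 0 n20090 = n42555 := rfl
theorem F66380 : act 6 n42555 = n20134 := d21_5 F32002 F35808 (iv5 D20089) D20090 D42555 (iv5 F32417) F35811 D20846 F32998 F35812
theorem F66382 : act 1 n20459 = n42555 := d15_0 (iv0 D42555) F35919 (iv2 F35932)
theorem F66383 : act 7 n42555 = n20570 := d15_2 (iv0 F35803) F66382 F35678
def n42556 : Q := act 2 n20092
theorem D42556 : act 2 n20092 = n42556 := rfl
def n42557 : Q := act 4 n20092
theorem D42557 : act 4 n20092 = n42557 := rfl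
theorem F66385 : act 7 n42557 = n22470 := d11_2 F63053 D42557 F63054
theorem F66386 : act 0 n42557 = n22255 := d18_2 F62934 D42557 (iv4 D22255) (iv5 D10607) (iv4 F17118) (iv0 F65666) (iv4 D20074) (iv0 F66042) (iv5 F61984)
theorem F66387 : act 0 n22474 = n42557 := d20_1 (iv4 F35021) (iv4 D42557) (iv3 D20092) (iv1 D9459) F6183 D4313 D9554 (iv4 F14917) D10894 (iv1 F62674)
def n42560 : Q := act 5 n20093
theorem D42560 : act 5 n20093 = n42560 := rfl
def n42562 : Q := act 4 n20094
theorem D42562 : act 4 n20094 = n42562 := rfl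
theorem F66390 : act 2 n42562 = n20968 := d1_1 D42562 F33146 (iv2 F35912)
def n42564 : Q := act 5 n20095
theorem D42564 : act 5 n20095 = n42564 := rfl
theorem F66393 : act 2 n42564 = n20973 := d2_1 D42564 (iv5 F65245) F65244
theorem F66394 : act 6 n42564 = n20907 := d12_2 D20095 D42564 (iv5 D20907) (iv6 F31904) (iv5 D20094)
theorem F66395 : act 7 n20999 = n42564 := d14_0 F66394 F35911 (iv6 F33071) F35896 D20999
def n42565 : Q := act 7 n20095
theorem D42565 : act 7 n20095 = n42565 := rfl
theorem F66397 : act 5 n42565 = n20999 := d13_1 D42565 F66395 (iv5 D42564)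
theorem F66398 : act 6 n42565 = n20459 := d14_1 D42565 F35933 (iv6 F31765) F35917 D20095
def n42566 : Q := act 2 n20096
theorem D42566 : act 2 n20096 = n42566 := rfl
theorem F66400 : act 7 n20097 = n42566 := d15_2 (iv0 D20096) D20097 (iv2 D42566)
def n42567 : Q := act 3 n20096
theorem D42567 : act 3 n20096 = n42567 := rfl
def n42568 : Q := act 4 n20096
theorem D42568 : act 4 n20096 = n42568 := rfl
theorem F66401 : act 1 n42568 = n22231 := d18_8 F65861 (iv4 D20031) (iv1 F31761) F31757 (iv5 F31772) (iv4 F65252) F65256 D42568 (iv5 D22231)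
def n42569 : Q := act 5 n20096
theorem D42569 : act 5 n20096 = n42569 := rfl
def n42570 : Q := act 6 n20096
theorem D42570 : act 6 n20096 = n42570 := rfl
def n42571 : Q := act 7 n20096
theorem D42571 : act 7 n20096 = n42571 := rfl
theorem F66402 : act 2 n42571 = n20097 := d4_1 D42571 F66400 (iv2 D42566)
def n42573 : Q := act 4 n20097
theorem D42573 : act 4 n20097 = n42573 := rfl
theorem F66403 : act 3 n21723 = n42573 := d20_5 D9548 (iv1 F17697) F17696 (iv3 F17660) F34173 (iv4 D42573) (iv1 D20097) (iv4 D9460) F6183 D4311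
theorem F66404 : act 5 n42573 = n21708 := d6_2 D21723 F66403 F34157
theorem F66405 : act 7 n42573 = n23068 := d8_2 (iv7 F62836) F66403 (iv3 D23068)
theorem E7671 : n42566 = n42244 := ((c11_2 F66405 F65255 (iv7 F66400) D42573)).symm
theorem F66407 : act 2 n42244 = n20096 := (sb E7671 (iv2 D42566))
theorem F66408 : act 7 n42244 = n20097 := (sb E7671 (iv7 F66400))
theorem E7672 : n42571 = n42245 := (c15_4 F65247 F65253 F66408 (iv2 F66402))

end Cfsg.Agent.Helper17.ONTC
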