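import Cfsg.Agent.Helper17.ONTC.Final

set_option autoImplicit false
set_option linter.all false
set_option maxRecDepth 100000

noncomputable section

namespace Cfsg.Agent.Helper17.ONTC

theorem N1 : nd 1 = n1 := ndS (p := 0) (l := 0) rfl N0 D1
theorem N2 : nd 2 = n3 := ndS (p := 1) (l := 3) rfl N1 D3
theorem N3 : nd 3 = n4 := ndS (p := 1) (l := 4) rfl N1 D4
theorem N4 : nd 4 = n5 := ndS (p := 1) (l := 5) rfl N1 D5
theorem N5 : nd 5 = n6 := ndS (p := 1) (l := 6) rfl N1 D6
theorem N6 : nd 6 = n12 := ndS (p := 2) (l := 0) rfl N2 D12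
theorem N7 : nd 7 = n13 := ndS (p := 2) (l := 1) rfl N2 D13
theorem N8 : nd 8 = n14 := ndS (p := 2) (l := 2) rfl N2 D14
theorem N9 : nd 9 = n15 := ndS (p := 2) (l := 4) rfl N2 D15
theorem N10 : nd 10 = n16 := ndS (p := 2) (l := 5) rfl N2 D16
theorem N11 : nd 11 = n17 := ndS (p := 2) (l := 6) rfl N2 D17
theorem N12 : nd 12 = n18 := ndS (p := 3) (l := 0) rfl N3 D18
theorem N13 : nd 13 = n19 := ndS (p := 3) (l := 3) rfl N3 D19
theorem N14 : nd 14 = n20 := ndS (p := 3) (l := 5) rfl N3 D20
theorem N15 : nd 15 = n21 := ndS (p := 3) (l := 6) rfl N3 D21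
theorem N16 : nd 16 = n22 := ndS (p := 4) (l := 0) rfl N4 D22
theorem N17 : nd 17 = n23 := ndS (p := 4) (l := 6) rfl N4 D23
theorem N18 : nd 18 = n24 := ndS (p := 5) (l := 0) rfl N5 D24
theorem N19 : nd 19 = n25 := ndS (p := 5) (l := 1) rfl N5 D25
theorem N20 : nd 20 = n26 := ndS (p := 5) (l := 5) rfl N5 D26
theorem N21 : nd 21 = n27 := ndS (p := 5) (l := 7) rfl N5 D27
theorem N22 : nd 22 = n51 := ndS (p := 6) (l := 4) rfl N6 D51
theorem N23 : nd 23 = n56 := ndS (p := 7) (l := 4) rfl N7 D56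
theorem N24 : nd 24 = n59 := ndS (p := 8) (l := 4) rfl N8 D59
theorem N25 : nd 25 = n60 := ndS (p := 8) (l := 5) rfl N8 D60
theorem N26 : nd 26 = n61 := ndS (p := 8) (l := 6) rfl N8 D61
theorem N27 : nd 27 = n62 := ndS (p := 9) (l := 0) rfl N9 D62
theorem N28 : nd 28 = n63 := ndS (p := 9) (l := 1) rfl N9 D63
theorem N29 : nd 29 = n64 := ndS (p := 9) (l := 3) rfl N9 D64
theorem N30 : nd 30 = n65 := ndS (p := 9) (l := 5) rfl N9 D65
theorem N31 : nd 31 = n66 := ndS (p := 9) (l := 6) rfl N9 D66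
theorem N32 : nd 32 = n67 := ndS (p := 10) (l := 0) rfl N10 D67
theorem N33 : nd 33 = n68 := ndS (p := 10) (l := 1) rfl N10 D68
theorem N34 : nd 34 = n69 := ndS (p := 10) (l := 4) rfl N10 D69
theorem N35 : nd 35 = n70 := ndS (p := 10) (l := 6) rfl N10 D70
theorem N36 : nd 36 = n71 := ndS (p := 11) (l := 0) rfl N11 D71
theorem N37 : nd 37 = n72 := ndS (p := 11) (l := 1) rfl N11 D72
theorem N38 : nd 38 = n73 := ndS (p := 11) (l := 5) rfl N11 D73
theorem N39 : nd 39 = n74 := ndS (p := 11) (l := 7) rfl N11 D74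
theorem N40 : nd 40 = n76 := ndS (p := 12) (l := 3) rfl N12 D76
theorem N41 : nd 41 = n79 := ndS (p := 13) (l := 0) rfl N13 D79
theorem N42 : nd 42 = n81 := ndS (p := 13) (l := 2) rfl N13 D81
theorem N43 : nd 43 = n82 := ndS (p := 13) (l := 5) rfl N13 D82
theorem N44 : nd 44 = n83 := ndS (p := 13) (l := 6) rfl N13 D83
theorem N45 : nd 45 = n84 := ndS (p := 14) (l := 0) rfl N14 D84
theorem N46 : nd 46 = n85 := ndS (p := 14) (l := 6) rfl N14 D85
theorem N47 : nd 47 = n86 := ndS (p := 15) (l := 0) rfl N15 D86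
theorem N48 : nd 48 = n87 := ndS (p := 15) (l := 1) rfl N15 D87
theorem N49 : nd 49 = n88 := ndS (p := 15) (l := 5) rfl N15 D88
theorem N50 : nd 50 = n89 := ndS (p := 15) (l := 7) rfl N15 D89
theorem N51 : nd 51 = n93 := ndS (p := 16) (l := 6) rfl N16 D93
theorem N52 : nd 52 = n94 := ndS (p := 17) (l := 0) rfl N17 D94
theorem N53 : nd 53 = n96 := ndS (p := 17) (l := 5) rfl N17 D96
theorem N54 : nd 54 = n97 := ndS (p := 17) (l := 7) rfl N17 D97
theorem N55 : nd 55 = n101 := ndS (p := 18) (l := 5) rfl N18 D101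
theorem N56 : nd 56 = n106 := ndS (p := 19) (l := 5) rfl N19 D106
theorem N57 : nd 57 = n108 := ndS (p := 20) (l := 0) rfl N20 D108
theorem N58 : nd 58 = n109 := ndS (p := 20) (l := 1) rfl N20 D109
theorem N59 : nd 59 = n110 := ndS (p := 20) (l := 4) rfl N20 D110
theorem N60 : nd 60 = n111 := ndS (p := 20) (l := 7) rfl N20 D111
theorem N61 : nd 61 = n210 := ndS (p := 22) (l := 0) rfl N22 D210
theorem N62 : nd 62 = n211 := ndS (p := 22) (l := 3) rfl N22 D211
theorem N63 : nd 63 = n212 := ndS (p := 22) (l := 5) rfl N22 D212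
theorem N64 : nd 64 = n218 := ndS (p := 23) (l := 3) rfl N23 D218
theorem N65 : nd 65 = n219 := ndS (p := 23) (l := 5) rfl N23 D219
theorem N66 : nd 66 = n225 := ndS (p := 24) (l := 3) rfl N24 D225
theorem N67 : nd 67 = n226 := ndS (p := 24) (l := 5) rfl N24 D226
theorem N68 : nd 68 = n227 := ndS (p := 24) (l := 6) rfl N24 D227
theorem N69 : nd 69 = n228 := ndS (p := 25) (l := 4) rfl N25 D228
theorem N70 : nd 70 = n229 := ndS (p := 25) (l := 6) rfl N25 D229
theorem N71 : nd 71 = n230 := ndS (p := 26) (l := 0) rfl N26 D230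
theorem N72 : nd 72 = n231 := ndS (p := 26) (l := 1) rfl N26 D231
theorem N73 : nd 73 = n232 := ndS (p := 26) (l := 5) rfl N26 D232
theorem N74 : nd 74 = n233 := ndS (p := 26) (l := 7) rfl N26 D233
theorem N75 : nd 75 = n235 := ndS (p := 27) (l := 5) rfl N27 D235
theorem N76 : nd 76 = n238 := ndS (p := 28) (l := 3) rfl N28 D238
theorem N77 : nd 77 = n239 := ndS (p := 28) (l := 5) rfl N28 D239
theorem N78 : nd 78 = n241 := ndS (p := 29) (l := 5) rfl N29 D241
theorem N79 : nd 79 = n242 := ndS (p := 29) (l := 6) rfl N29 D242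
theorem N80 : nd 80 = n243 := ndS (p := 30) (l := 0) rfl N30 D243
theorem N81 : nd 81 = n244 := ndS (p := 30) (l := 1) rfl N30 D244
theorem N82 : nd 82 = n245 := ndS (p := 30) (l := 4) rfl N30 D245
theorem N83 : nd 83 = n246 := ndS (p := 30) (l := 6) rfl N30 D246
theorem N84 : nd 84 = n247 := ndS (p := 31) (l := 0) rfl N31 D247
theorem N85 : nd 85 = n248 := ndS (p := 31) (l := 1) rfl N31 D248
theorem N86 : nd 86 = n249 := ndS (p := 31) (l := 5) rfl N31 D249
theorem N87 : nd 87 = n250 := ndS (p := 31) (l := 7) rfl N31 D250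
theorem N88 : nd 88 = n253 := ndS (p := 32) (l := 4) rfl N32 D253
theorem N89 : nd 89 = n255 := ndS (p := 32) (l := 6) rfl N32 D255
theorem N90 : nd 90 = n258 := ndS (p := 33) (l := 4) rfl N33 D258
theorem N91 : nd 91 = n260 := ndS (p := 33) (l := 6) rfl N33 D260
theorem N92 : nd 92 = n261 := ndS (p := 34) (l := 0) rfl N34 D261
theorem N93 : nd 93 = n262 := ndS (p := 34) (l := 1) rfl N34 D262
theorem N94 : nd 94 = n263 := ndS (p := 34) (l := 3) rfl N34 D263
theorem N95 : nd 95 = n264 := ndS (p := 34) (l := 5) rfl N34 D264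
theorem N96 : nd 96 = n265 := ndS (p := 34) (l := 6) rfl N34 D265
theorem N97 : nd 97 = n266 := ndS (p := 35) (l := 0) rfl N35 D266
theorem N98 : nd 98 = n268 := ndS (p := 35) (l := 5) rfl N35 D268
theorem N99 : nd 99 = n269 := ndS (p := 35) (l := 7) rfl N35 D269
theorem N100 : nd 100 = n272 := ndS (p := 36) (l := 4) rfl N36 D272
theorem N101 : nd 101 = n273 := ndS (p := 36) (l := 5) rfl N36 D273
theorem N102 : nd 102 = n277 := ndS (p := 37) (l := 4) rfl N37 D277
theorem N103 : nd 103 = n278 := ndS (p := 37) (l := 5) rfl N37 D278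
theorem N104 : nd 104 = n280 := ndS (p := 38) (l := 0) rfl N38 D280
theorem N105 : nd 105 = n281 := ndS (p := 38) (l := 1) rfl N38 D281
theorem N106 : nd 106 = n282 := ndS (p := 38) (l := 4) rfl N38 D282
theorem N107 : nd 107 = n283 := ndS (p := 38) (l := 7) rfl N38 D283
theorem N108 : nd 108 = n292 := ndS (p := 42) (l := 5) rfl N42 D292
theorem N109 : nd 109 = n293 := ndS (p := 42) (l := 6) rfl N42 D293
theorem N110 : nd 110 = n294 := ndS (p := 43) (l := 0) rfl N43 D294
theorem N111 : nd 111 = n295 := ndS (p := 43) (l := 1) rfl N43 D295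
theorem N112 : nd 112 = n296 := ndS (p := 43) (l := 6) rfl N43 D296
theorem N113 : nd 113 = n297 := ndS (p := 44) (l := 0) rfl N44 D297
theorem N114 : nd 114 = n298 := ndS (p := 44) (l := 1) rfl N44 D298
theorem N115 : nd 115 = n299 := ndS (p := 44) (l := 5) rfl N44 D299
theorem N116 : nd 116 = n300 := ndS (p := 44) (l := 7) rfl N44 D300
theorem N117 : nd 117 = n302 := ndS (p := 45) (l := 6) rfl N45 D302
theorem N118 : nd 118 = n303 := ndS (p := 46) (l := 0) rfl N46 D303
theorem N119 : nd 119 = n305 := ndS (p := 46) (l := 5) rfl N46 D305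
theorem N120 : nd 120 = n306 := ndS (p := 46) (l := 7) rfl N46 D306
theorem N121 : nd 121 = n308 := ndS (p := 47) (l := 3) rfl N47 D308
theorem N122 : nd 122 = n310 := ndS (p := 47) (l := 5) rfl N47 D310
theorem N123 : nd 123 = n315 := ndS (p := 48) (l := 5) rfl N48 D315
theorem N124 : nd 124 = n316 := ndS (p := 49) (l := 0) rfl N49 D316
theorem N125 : nd 125 = n317 := ndS (p := 49) (l := 1) rfl N49 D317
theorem N126 : nd 126 = n318 := ndS (p := 49) (l := 4) rfl N49 D318
theorem N127 : nd 127 = n319 := ndS (p := 49) (l := 7) rfl N49 D319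
theorem N128 : nd 128 = n320 := ndS (p := 53) (l := 4) rfl N53 D320
theorem N129 : nd 129 = n321 := ndS (p := 53) (l := 7) rfl N53 D321
theorem N130 : nd 130 = n327 := ndS (p := 55) (l := 4) rfl N55 D327
theorem N131 : nd 131 = n328 := ndS (p := 55) (l := 6) rfl N55 D328
theorem N132 : nd 132 = n334 := ndS (p := 56) (l := 4) rfl N56 D334
theorem N133 : nd 133 = n335 := ndS (p := 56) (l := 6) rfl N56 D335
theorem N134 : nd 134 = n336 := ndS (p := 57) (l := 4) rfl N57 D336
theorem N135 : nd 135 = n337 := ndS (p := 58) (l := 4) rfl N58 D337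
theorem N136 : nd 136 = n338 := ndS (p := 58) (l := 6) rfl N58 D338
theorem N137 : nd 137 = n339 := ndS (p := 59) (l := 0) rfl N59 D339
theorem N138 : nd 138 = n340 := ndS (p := 59) (l := 1) rfl N59 D340
theorem N139 : nd 139 = n341 := ndS (p := 59) (l := 3) rfl N59 D341
theorem N140 : nd 140 = n342 := ndS (p := 59) (l := 5) rfl N59 D342
theorem N141 : nd 141 = n343 := ndS (p := 59) (l := 7) rfl N59 D343
theorem N142 : nd 142 = n344 := ndS (p := 60) (l := 6) rfl N60 D344
theorem N143 : nd 143 = n345 := ndS (p := 61) (l := 3) rfl N61 D345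
theorem N144 : nd 144 = n346 := ndS (p := 61) (l := 5) rfl N61 D346
theorem N145 : nd 145 = n347 := ndS (p := 61) (l := 6) rfl N61 D347
theorem N146 : nd 146 = n348 := ndS (p := 62) (l := 0) rfl N62 D348
theorem N147 : nd 147 = n349 := ndS (p := 62) (l := 1) rfl N62 D349
theorem N148 : nd 148 = n350 := ndS (p := 62) (l := 2) rfl N62 D350
theorem N149 : nd 149 = n351 := ndS (p := 62) (l := 5) rfl N62 D351
theorem N150 : nd 150 = n353 := ndS (p := 63) (l := 0) rfl N63 D353
theorem N151 : nd 151 = n354 := ndS (p := 63) (l := 1) rfl N63 D354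
theorem N152 : nd 152 = n355 := ndS (p := 63) (l := 4) rfl N63 D355
theorem N153 : nd 153 = n356 := ndS (p := 63) (l := 6) rfl N63 D356
theorem N154 : nd 154 = n375 := ndS (p := 64) (l := 2) rfl N64 D375
theorem N155 : nd 155 = n376 := ndS (p := 64) (l := 5) rfl N64 D376
theorem N156 : nd 156 = n378 := ndS (p := 65) (l := 4) rfl N65 D378
theorem N157 : nd 157 = n379 := ndS (p := 65) (l := 6) rfl N65 D379
theorem N158 : nd 158 = n398 := ndS (p := 66) (l := 5) rfl N66 D398
theorem N159 : nd 159 = n399 := ndS (p := 66) (l := 6) rfl N66 D399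
theorem N160 : nd 160 = n400 := ndS (p := 67) (l := 4) rfl N67 D400
theorem N161 : nd 161 = n401 := ndS (p := 67) (l := 6) rfl N67 D401
theorem N162 : nd 162 = n402 := ndS (p := 68) (l := 0) rfl N68 D402
theorem N163 : nd 163 = n403 := ndS (p := 68) (l := 1) rfl N68 D403
theorem N164 : nd 164 = n404 := ndS (p := 68) (l := 5) rfl N68 D404
theorem N165 : nd 165 = n405 := ndS (p := 68) (l := 7) rfl N68 D405
theorem N166 : nd 166 = n406 := ndS (p := 69) (l := 3) rfl N69 D406
theorem N167 : nd 167 = n407 := ndS (p := 69) (l := 5) rfl N69 D407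
theorem N168 : nd 168 = n408 := ndS (p := 69) (l := 6) rfl N69 D408
theorem N169 : nd 169 = n409 := ndS (p := 70) (l := 0) rfl N70 D409
theorem N170 : nd 170 = n411 := ndS (p := 70) (l := 5) rfl N70 D411
theorem N171 : nd 171 = n412 := ndS (p := 70) (l := 7) rfl N70 D412
theorem N172 : nd 172 = n415 := ndS (p := 71) (l := 4) rfl N71 D415
theorem N173 : nd 173 = n416 := ndS (p := 71) (l := 5) rfl N71 D416
theorem N174 : nd 174 = n420 := ndS (p := 72) (l := 4) rfl N72 D420
theorem N175 : nd 175 = n421 := ndS (p := 72) (l := 5) rfl N72 D421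
theorem N176 : nd 176 = n423 := ndS (p := 73) (l := 0) rfl N73 D423
theorem N177 : nd 177 = n424 := ndS (p := 73) (l := 1) rfl N73 D424
theorem N178 : nd 178 = n425 := ndS (p := 73) (l := 4) rfl N73 D425
theorem N179 : nd 179 = n426 := ndS (p := 73) (l := 7) rfl N73 D426
theorem N180 : nd 180 = n427 := ndS (p := 75) (l := 4) rfl N75 D427
theorem N181 : nd 181 = n428 := ndS (p := 75) (l := 6) rfl N75 D428
theorem N182 : nd 182 = n429 := ndS (p := 76) (l := 0) rfl N76 D429
theorem N183 : nd 183 = n430 := ndS (p := 76) (l := 5) rfl N76 D430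
theorem N184 : nd 184 = n431 := ndS (p := 77) (l := 4) rfl N77 D431
theorem N185 : nd 185 = n432 := ndS (p := 77) (l := 6) rfl N77 D432
theorem N186 : nd 186 = n433 := ndS (p := 78) (l := 0) rfl N78 D433
theorem N187 : nd 187 = n434 := ndS (p := 78) (l := 1) rfl N78 D434
theorem N188 : nd 188 = n435 := ndS (p := 78) (l := 4) rfl N78 D435
theorem N189 : nd 189 = n436 := ndS (p := 78) (l := 6) rfl N78 D436
theorem N190 : nd 190 = n439 := ndS (p := 79) (l := 5) rfl N79 D439
theorem N191 : nd 191 = n440 := ndS (p := 79) (l := 7) rfl N79 D440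
theorem N192 : nd 192 = n442 := ndS (p := 80) (l := 4) rfl N80 D442
theorem N193 : nd 193 = n443 := ndS (p := 80) (l := 6) rfl N80 D443
theorem N194 : nd 194 = n445 := ndS (p := 81) (l := 3) rfl N81 D445
theorem N195 : nd 195 = n446 := ndS (p := 81) (l := 4) rfl N81 D446
theorem N196 : nd 196 = n447 := ndS (p := 81) (l := 6) rfl N81 D447
theorem N197 : nd 197 = n448 := ndS (p := 82) (l := 0) rfl N82 D448
theorem N198 : nd 198 = n449 := ndS (p := 82) (l := 1) rfl N82 D449
theorem N199 : nd 199 = n450 := ndS (p := 82) (l := 3) rfl N82 D450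
theorem N200 : nd 200 = n451 := ndS (p := 82) (l := 5) rfl N82 D451
theorem N201 : nd 201 = n452 := ndS (p := 82) (l := 6) rfl N82 D452
theorem N202 : nd 202 = n453 := ndS (p := 83) (l := 0) rfl N83 D453
theorem N203 : nd 203 = n454 := ndS (p := 83) (l := 1) rfl N83 D454
theorem N204 : nd 204 = n455 := ndS (p := 83) (l := 5) rfl N83 D455
theorem N205 : nd 205 = n456 := ndS (p := 83) (l := 7) rfl N83 D456
theorem N206 : nd 206 = n460 := ndS (p := 84) (l := 5) rfl N84 D460
theorem N207 : nd 207 = n463 := ndS (p := 85) (l := 3) rfl N85 D463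
theorem N208 : nd 208 = n464 := ndS (p := 85) (l := 4) rfl N85 D464
theorem N209 : nd 209 = n465 := ndS (p := 85) (l := 5) rfl N85 D465
theorem N210 : nd 210 = n467 := ndS (p := 86) (l := 0) rfl N86 D467
theorem N211 : nd 211 = n468 := ndS (p := 86) (l := 1) rfl N86 D468
theorem N212 : nd 212 = n469 := ndS (p := 86) (l := 4) rfl N86 D469
theorem N213 : nd 213 = n470 := ndS (p := 86) (l := 7) rfl N86 D470
theorem N214 : nd 214 = n471 := ndS (p := 88) (l := 0) rfl N88 D471
theorem N215 : nd 215 = n472 := ndS (p := 88) (l := 3) rfl N88 D472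
theorem N216 : nd 216 = n473 := ndS (p := 88) (l := 6) rfl N88 D473
theorem N217 : nd 217 = n478 := ndS (p := 90) (l := 3) rfl N90 D478
theorem N218 : nd 218 = n479 := ndS (p := 90) (l := 6) rfl N90 D479
theorem N219 : nd 219 = n485 := ndS (p := 92) (l := 6) rfl N92 D485
theorem N220 : nd 220 = n487 := ndS (p := 93) (l := 3) rfl N93 D487
theorem N221 : nd 221 = n488 := ndS (p := 93) (l := 6) rfl N93 D488
theorem N222 : nd 222 = n489 := ndS (p := 94) (l := 6) rfl N94 D489
theorem N223 : nd 223 = n490 := ndS (p := 95) (l := 4) rfl N95 D490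
theorem N224 : nd 224 = n491 := ndS (p := 95) (l := 6) rfl N95 D491
theorem N225 : nd 225 = n492 := ndS (p := 96) (l := 0) rfl N96 D492
theorem N226 : nd 226 = n493 := ndS (p := 96) (l := 5) rfl N96 D493
theorem N227 : nd 227 = n494 := ndS (p := 96) (l := 7) rfl N96 D494
theorem N228 : nd 228 = n497 := ndS (p := 97) (l := 4) rfl N97 D497
theorem N229 : nd 229 = n507 := ndS (p := 98) (l := 4) rfl N98 D507
theorem N230 : nd 230 = n508 := ndS (p := 98) (l := 7) rfl N98 D508
theorem N231 : nd 231 = n522 := ndS (p := 100) (l := 0) rfl N100 D522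
theorem N232 : nd 232 = n524 := ndS (p := 100) (l := 3) rfl N100 D524
theorem N233 : nd 233 = n525 := ndS (p := 100) (l := 5) rfl N100 D525
theorem N234 : nd 234 = n528 := ndS (p := 101) (l := 0) rfl N101 D528
theorem N235 : nd 235 = n530 := ndS (p := 101) (l := 4) rfl N101 D530
theorem N236 : nd 236 = n531 := ndS (p := 101) (l := 6) rfl N101 D531
theorem N237 : nd 237 = n544 := ndS (p := 102) (l := 3) rfl N102 D544
theorem N238 : nd 238 = n545 := ndS (p := 102) (l := 5) rfl N102 D545
theorem N239 : nd 239 = n547 := ndS (p := 103) (l := 4) rfl N103 D547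
theorem N240 : nd 240 = n548 := ndS (p := 103) (l := 6) rfl N103 D548
theorem N241 : nd 241 = n555 := ndS (p := 104) (l := 4) rfl N104 D555
theorem N242 : nd 242 = n560 := ndS (p := 105) (l := 4) rfl N105 D560
theorem N243 : nd 243 = n562 := ndS (p := 105) (l := 6) rfl N105 D562
theorem N244 : nd 244 = n563 := ndS (p := 106) (l := 0) rfl N106 D563
theorem N245 : nd 245 = n564 := ndS (p := 106) (l := 1) rfl N106 D564
theorem N246 : nd 246 = n565 := ndS (p := 106) (l := 3) rfl N106 D565
theorem N247 : nd 247 = n566 := ndS (p := 106) (l := 5) rfl N106 D566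
theorem N248 : nd 248 = n567 := ndS (p := 106) (l := 7) rfl N106 D567
theorem N249 : nd 249 = n568 := ndS (p := 107) (l := 6) rfl N107 D568
theorem N250 : nd 250 = n569 := ndS (p := 108) (l := 6) rfl N108 D569
theorem N251 : nd 251 = n572 := ndS (p := 109) (l := 5) rfl N109 D572
theorem N252 : nd 252 = n573 := ndS (p := 109) (l := 7) rfl N109 D573
theorem N253 : nd 253 = n575 := ndS (p := 110) (l := 6) rfl N110 D575
theorem N254 : nd 254 = n576 := ndS (p := 111) (l := 6) rfl N111 D576
theorem N255 : nd 255 = n577 := ndS (p := 112) (l := 0) rfl N112 D577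
theorem N256 : nd 256 = n578 := ndS (p := 112) (l := 5) rfl N112 D578
theorem N257 : nd 257 = n579 := ndS (p := 112) (l := 7) rfl N112 D579
theorem N258 : nd 258 = n583 := ndS (p := 113) (l := 5) rfl N113 D583
theorem N259 : nd 259 = n588 := ndS (p := 114) (l := 5) rfl N114 D588
theorem N260 : nd 260 = n590 := ndS (p := 115) (l := 0) rfl N115 D590
theorem N261 : nd 261 = n591 := ndS (p := 115) (l := 1) rfl N115 D591
theorem N262 : nd 262 = n592 := ndS (p := 115) (l := 4) rfl N115 D592
theorem N263 : nd 263 = n593 := ndS (p := 115) (l := 7) rfl N115 D593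
theorem N264 : nd 264 = n594 := ndS (p := 118) (l := 3) rfl N118 D594
theorem N265 : nd 265 = n595 := ndS (p := 119) (l := 4) rfl N119 D595
theorem N266 : nd 266 = n596 := ndS (p := 119) (l := 7) rfl N119 D596
theorem N267 : nd 267 = n601 := ndS (p := 121) (l := 5) rfl N121 D601
theorem N268 : nd 268 = n602 := ndS (p := 122) (l := 4) rfl N122 D602
theorem N269 : nd 269 = n603 := ndS (p := 122) (l := 6) rfl N122 D603
theorem N270 : nd 270 = n609 := ndS (p := 123) (l := 4) rfl N123 D609
theorem N271 : nd 271 = n610 := ndS (p := 123) (l := 6) rfl N123 D610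
theorem N272 : nd 272 = n611 := ndS (p := 124) (l := 3) rfl N124 D611
theorem N273 : nd 273 = n612 := ndS (p := 125) (l := 6) rfl N125 D612
theorem N274 : nd 274 = n613 := ndS (p := 126) (l := 3) rfl N126 D613
theorem N275 : nd 275 = n614 := ndS (p := 126) (l := 5) rfl N126 D614
theorem N276 : nd 276 = n615 := ndS (p := 126) (l := 7) rfl N126 D615
theorem N277 : nd 277 = n616 := ndS (p := 127) (l := 6) rfl N127 D616
theorem N278 : nd 278 = n617 := ndS (p := 128) (l := 3) rfl N128 D617
theorem N279 : nd 279 = n618 := ndS (p := 128) (l := 5) rfl N128 D618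
theorem N280 : nd 280 = n619 := ndS (p := 128) (l := 7) rfl N128 D619
theorem N281 : nd 281 = n620 := ndS (p := 129) (l := 6) rfl N129 D620
theorem N282 : nd 282 = n621 := ndS (p := 130) (l := 0) rfl N130 D621
theorem N283 : nd 283 = n622 := ndS (p := 130) (l := 3) rfl N130 D622
theorem N284 : nd 284 = n623 := ndS (p := 130) (l := 5) rfl N130 D623
theorem N285 : nd 285 = n624 := ndS (p := 130) (l := 6) rfl N130 D624
theorem N286 : nd 286 = n625 := ndS (p := 131) (l := 0) rfl N131 D625
theorem N287 : nd 287 = n626 := ndS (p := 131) (l := 1) rfl N131 D626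
theorem N288 : nd 288 = n627 := ndS (p := 131) (l := 7) rfl N131 D627
theorem N289 : nd 289 = n628 := ndS (p := 132) (l := 3) rfl N132 D628
theorem N290 : nd 290 = n629 := ndS (p := 132) (l := 5) rfl N132 D629
theorem N291 : nd 291 = n630 := ndS (p := 132) (l := 6) rfl N132 D630
theorem N292 : nd 292 = n631 := ndS (p := 133) (l := 7) rfl N133 D631
theorem N293 : nd 293 = n632 := ndS (p := 134) (l := 3) rfl N134 D632
theorem N294 : nd 294 = n633 := ndS (p := 134) (l := 5) rfl N134 D633
theorem N295 : nd 295 = n634 := ndS (p := 135) (l := 3) rfl N135 D634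
theorem N296 : nd 296 = n635 := ndS (p := 135) (l := 5) rfl N135 D635
theorem N297 : nd 297 = n636 := ndS (p := 135) (l := 6) rfl N135 D636
theorem N298 : nd 298 = n637 := ndS (p := 136) (l := 0) rfl N136 D637
theorem N299 : nd 299 = n638 := ndS (p := 137) (l := 3) rfl N137 D638
theorem N300 : nd 300 = n639 := ndS (p := 137) (l := 5) rfl N137 D639
theorem N301 : nd 301 = n640 := ndS (p := 138) (l := 3) rfl N138 D640
theorem N302 : nd 302 = n641 := ndS (p := 138) (l := 5) rfl N138 D641
theorem N303 : nd 303 = n642 := ndS (p := 138) (l := 6) rfl N138 D642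
theorem N304 : nd 304 = n643 := ndS (p := 139) (l := 0) rfl N139 D643
theorem N305 : nd 305 = n644 := ndS (p := 139) (l := 1) rfl N139 D644
theorem N306 : nd 306 = n645 := ndS (p := 139) (l := 2) rfl N139 D645
theorem N307 : nd 307 = n646 := ndS (p := 139) (l := 5) rfl N139 D646
theorem N308 : nd 308 = n647 := ndS (p := 139) (l := 7) rfl N139 D647
theorem N309 : nd 309 = n648 := ndS (p := 140) (l := 0) rfl N140 D648
theorem N310 : nd 310 = n649 := ndS (p := 140) (l := 1) rfl N140 D649
theorem N311 : nd 311 = n650 := ndS (p := 140) (l := 4) rfl N140 D650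
theorem N312 : nd 312 = n651 := ndS (p := 140) (l := 6) rfl N140 D651
theorem N313 : nd 313 = n652 := ndS (p := 140) (l := 7) rfl N140 D652
theorem N314 : nd 314 = n653 := ndS (p := 141) (l := 6) rfl N141 D653
theorem N315 : nd 315 = n654 := ndS (p := 143) (l := 5) rfl N143 D654
theorem N316 : nd 316 = n655 := ndS (p := 143) (l := 6) rfl N143 D655
theorem N317 : nd 317 = n656 := ndS (p := 144) (l := 4) rfl N144 D656
theorem N318 : nd 318 = n657 := ndS (p := 144) (l := 6) rfl N144 D657
theorem N319 : nd 319 = n658 := ndS (p := 145) (l := 5) rfl N145 D658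
theorem N320 : nd 320 = n660 := ndS (p := 146) (l := 5) rfl N146 D660
theorem N321 : nd 321 = n661 := ndS (p := 146) (l := 6) rfl N146 D661
theorem N322 : nd 322 = n662 := ndS (p := 147) (l := 5) rfl N147 D662
theorem N323 : nd 323 = n663 := ndS (p := 147) (l := 6) rfl N147 D663
theorem N324 : nd 324 = n664 := ndS (p := 148) (l := 5) rfl N148 D664
theorem N325 : nd 325 = n665 := ndS (p := 149) (l := 0) rfl N149 D665
theorem N326 : nd 326 = n666 := ndS (p := 149) (l := 1) rfl N149 D666
theorem N327 : nd 327 = n667 := ndS (p := 149) (l := 4) rfl N149 D667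
theorem N328 : nd 328 = n668 := ndS (p := 149) (l := 6) rfl N149 D668
theorem N329 : nd 329 = n669 := ndS (p := 150) (l := 3) rfl N150 D669
theorem N330 : nd 330 = n670 := ndS (p := 150) (l := 4) rfl N150 D670
theorem N331 : nd 331 = n671 := ndS (p := 150) (l := 6) rfl N150 D671
theorem N332 : nd 332 = n672 := ndS (p := 151) (l := 4) rfl N151 D672
theorem N333 : nd 333 = n673 := ndS (p := 151) (l := 6) rfl N151 D673
theorem N334 : nd 334 = n674 := ndS (p := 152) (l := 3) rfl N152 D674
theorem N335 : nd 335 = n675 := ndS (p := 152) (l := 6) rfl N152 D675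
theorem N336 : nd 336 = n676 := ndS (p := 153) (l := 0) rfl N153 D676
theorem N337 : nd 337 = n677 := ndS (p := 153) (l := 1) rfl N153 D677
theorem N338 : nd 338 = n678 := ndS (p := 153) (l := 7) rfl N153 D678
theorem N339 : nd 339 = n679 := ndS (p := 154) (l := 5) rfl N154 D679
theorem N340 : nd 340 = n680 := ndS (p := 155) (l := 1) rfl N155 D680
theorem N341 : nd 341 = n681 := ndS (p := 155) (l := 4) rfl N155 D681
theorem N342 : nd 342 = n682 := ndS (p := 155) (l := 6) rfl N155 D682
theorem N343 : nd 343 = n683 := ndS (p := 156) (l := 3) rfl N156 D683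
theorem N344 : nd 344 = n684 := ndS (p := 156) (l := 6) rfl N156 D684
theorem N345 : nd 345 = n685 := ndS (p := 157) (l := 0) rfl N157 D685
theorem N346 : nd 346 = n686 := ndS (p := 157) (l := 1) rfl N157 D686
theorem N347 : nd 347 = n687 := ndS (p := 157) (l := 7) rfl N157 D687
theorem N348 : nd 348 = n688 := ndS (p := 158) (l := 0) rfl N158 D688
theorem N349 : nd 349 = n689 := ndS (p := 158) (l := 1) rfl N158 D689
theorem N350 : nd 350 = n690 := ndS (p := 158) (l := 4) rfl N158 D690
theorem N351 : nd 351 = n691 := ndS (p := 158) (l := 6) rfl N158 D691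
theorem N352 : nd 352 = n692 := ndS (p := 159) (l := 0) rfl N159 D692
theorem N353 : nd 353 = n693 := ndS (p := 159) (l := 1) rfl N159 D693
theorem N354 : nd 354 = n694 := ndS (p := 159) (l := 5) rfl N159 D694
theorem N355 : nd 355 = n695 := ndS (p := 159) (l := 7) rfl N159 D695
theorem N356 : nd 356 = n696 := ndS (p := 160) (l := 3) rfl N160 D696
theorem N357 : nd 357 = n697 := ndS (p := 160) (l := 6) rfl N160 D697
theorem N358 : nd 358 = n698 := ndS (p := 161) (l := 0) rfl N161 D698
theorem N359 : nd 359 = n699 := ndS (p := 161) (l := 1) rfl N161 D699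
theorem N360 : nd 360 = n700 := ndS (p := 161) (l := 5) rfl N161 D700
theorem N361 : nd 361 = n701 := ndS (p := 161) (l := 7) rfl N161 D701
theorem N362 : nd 362 = n702 := ndS (p := 162) (l := 3) rfl N162 D702
theorem N363 : nd 363 = n703 := ndS (p := 162) (l := 5) rfl N162 D703
theorem N364 : nd 364 = n704 := ndS (p := 163) (l := 5) rfl N163 D704
theorem N365 : nd 365 = n705 := ndS (p := 164) (l := 0) rfl N164 D705
theorem N366 : nd 366 = n706 := ndS (p := 164) (l := 1) rfl N164 D706
theorem N367 : nd 367 = n707 := ndS (p := 164) (l := 4) rfl N164 D707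
theorem N368 : nd 368 = n708 := ndS (p := 164) (l := 7) rfl N164 D708
theorem N369 : nd 369 = n709 := ndS (p := 166) (l := 1) rfl N166 D709
theorem N370 : nd 370 = n710 := ndS (p := 166) (l := 2) rfl N166 D710
theorem N371 : nd 371 = n711 := ndS (p := 166) (l := 6) rfl N166 D711
theorem N372 : nd 372 = n712 := ndS (p := 167) (l := 6) rfl N167 D712
theorem N373 : nd 373 = n713 := ndS (p := 168) (l := 0) rfl N168 D713
theorem N374 : nd 374 = n714 := ndS (p := 168) (l := 5) rfl N168 D714
theorem N375 : nd 375 = n715 := ndS (p := 168) (l := 7) rfl N168 D715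
theorem N376 : nd 376 = n716 := ndS (p := 169) (l := 4) rfl N169 D716
theorem N377 : nd 377 = n717 := ndS (p := 170) (l := 4) rfl N170 D717
theorem N378 : nd 378 = n718 := ndS (p := 172) (l := 5) rfl N172 D718
theorem N379 : nd 379 = n719 := ndS (p := 173) (l := 4) rfl N173 D719
theorem N380 : nd 380 = n720 := ndS (p := 173) (l := 6) rfl N173 D720
theorem N381 : nd 381 = n721 := ndS (p := 174) (l := 3) rfl N174 D721
theorem N382 : nd 382 = n722 := ndS (p := 174) (l := 5) rfl N174 D722
theorem N383 : nd 383 = n723 := ndS (p := 175) (l := 4) rfl N175 D723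
theorem N384 : nd 384 = n724 := ndS (p := 175) (l := 6) rfl N175 D724
theorem N385 : nd 385 = n725 := ndS (p := 176) (l := 4) rfl N176 D725
theorem N386 : nd 386 = n726 := ndS (p := 177) (l := 4) rfl N177 D726
theorem N387 : nd 387 = n727 := ndS (p := 177) (l := 6) rfl N177 D727
theorem N388 : nd 388 = n728 := ndS (p := 178) (l := 0) rfl N178 D728
theorem N389 : nd 389 = n729 := ndS (p := 178) (l := 1) rfl N178 D729
theorem N390 : nd 390 = n730 := ndS (p := 178) (l := 3) rfl N178 D730
theorem N391 : nd 391 = n731 := ndS (p := 178) (l := 5) rfl N178 D731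
theorem N392 : nd 392 = n732 := ndS (p := 178) (l := 7) rfl N178 D732
theorem N393 : nd 393 = n733 := ndS (p := 179) (l := 6) rfl N179 D733
theorem N394 : nd 394 = n734 := ndS (p := 180) (l := 3) rfl N180 D734
theorem N395 : nd 395 = n735 := ndS (p := 180) (l := 6) rfl N180 D735
theorem N396 : nd 396 = n736 := ndS (p := 181) (l := 0) rfl N181 D736
theorem N397 : nd 397 = n737 := ndS (p := 181) (l := 1) rfl N181 D737
theorem N398 : nd 398 = n738 := ndS (p := 181) (l := 7) rfl N181 D738
theorem N399 : nd 399 = n739 := ndS (p := 182) (l := 5) rfl N182 D739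
theorem N400 : nd 400 = n740 := ndS (p := 182) (l := 6) rfl N182 D740
theorem N401 : nd 401 = n741 := ndS (p := 183) (l := 0) rfl N183 D741
theorem N402 : nd 402 = n742 := ndS (p := 183) (l := 6) rfl N183 D742
theorem N403 : nd 403 = n743 := ndS (p := 184) (l := 3) rfl N184 D743
theorem N404 : nd 404 = n744 := ndS (p := 184) (l := 6) rfl N184 D744
theorem N405 : nd 405 = n745 := ndS (p := 185) (l := 0) rfl N185 D745
theorem N406 : nd 406 = n746 := ndS (p := 185) (l := 1) rfl N185 D746
theorem N407 : nd 407 = n747 := ndS (p := 185) (l := 7) rfl N185 D747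
theorem N408 : nd 408 = n748 := ndS (p := 186) (l := 3) rfl N186 D748
theorem N409 : nd 409 = n749 := ndS (p := 186) (l := 6) rfl N186 D749
theorem N410 : nd 410 = n750 := ndS (p := 187) (l := 6) rfl N187 D750
theorem N411 : nd 411 = n751 := ndS (p := 188) (l := 3) rfl N188 D751
theorem N412 : nd 412 = n752 := ndS (p := 188) (l := 6) rfl N188 D752
theorem N413 : nd 413 = n753 := ndS (p := 189) (l := 0) rfl N189 D753
theorem N414 : nd 414 = n754 := ndS (p := 189) (l := 1) rfl N189 D754
theorem N415 : nd 415 = n755 := ndS (p := 189) (l := 5) rfl N189 D755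
theorem N416 : nd 416 = n756 := ndS (p := 189) (l := 7) rfl N189 D756
theorem N417 : nd 417 = n757 := ndS (p := 190) (l := 0) rfl N190 D757
theorem N418 : nd 418 = n758 := ndS (p := 190) (l := 1) rfl N190 D758
theorem N419 : nd 419 = n759 := ndS (p := 190) (l := 4) rfl N190 D759
theorem N420 : nd 420 = n760 := ndS (p := 190) (l := 7) rfl N190 D760
theorem N421 : nd 421 = n761 := ndS (p := 192) (l := 3) rfl N192 D761
theorem N422 : nd 422 = n762 := ndS (p := 192) (l := 6) rfl N192 D762
theorem N423 : nd 423 = n763 := ndS (p := 193) (l := 0) rfl N193 D763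
theorem N424 : nd 424 = n764 := ndS (p := 193) (l := 1) rfl N193 D764
theorem N425 : nd 425 = n765 := ndS (p := 193) (l := 5) rfl N193 D765
theorem N426 : nd 426 = n766 := ndS (p := 193) (l := 7) rfl N193 D766
theorem N427 : nd 427 = n767 := ndS (p := 194) (l := 6) rfl N194 D767
theorem N428 : nd 428 = n768 := ndS (p := 195) (l := 3) rfl N195 D768
theorem N429 : nd 429 = n769 := ndS (p := 195) (l := 6) rfl N195 D769
theorem N430 : nd 430 = n770 := ndS (p := 196) (l := 0) rfl N196 D770
theorem N431 : nd 431 = n771 := ndS (p := 196) (l := 1) rfl N196 D771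
theorem N432 : nd 432 = n772 := ndS (p := 196) (l := 5) rfl N196 D772
theorem N433 : nd 433 = n773 := ndS (p := 196) (l := 7) rfl N196 D773
theorem N434 : nd 434 = n774 := ndS (p := 197) (l := 3) rfl N197 D774
theorem N435 : nd 435 = n775 := ndS (p := 197) (l := 6) rfl N197 D775
theorem N436 : nd 436 = n776 := ndS (p := 198) (l := 3) rfl N198 D776
theorem N437 : nd 437 = n777 := ndS (p := 198) (l := 6) rfl N198 D777
theorem N438 : nd 438 = n778 := ndS (p := 199) (l := 0) rfl N199 D778
theorem N439 : nd 439 = n779 := ndS (p := 199) (l := 1) rfl N199 D779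
theorem N440 : nd 440 = n780 := ndS (p := 199) (l := 2) rfl N199 D780
theorem N441 : nd 441 = n781 := ndS (p := 199) (l := 5) rfl N199 D781
theorem N442 : nd 442 = n782 := ndS (p := 199) (l := 6) rfl N199 D782
theorem N443 : nd 443 = n783 := ndS (p := 200) (l := 6) rfl N200 D783
theorem N444 : nd 444 = n784 := ndS (p := 201) (l := 0) rfl N201 D784
theorem N445 : nd 445 = n785 := ndS (p := 201) (l := 1) rfl N201 D785
theorem N446 : nd 446 = n786 := ndS (p := 201) (l := 5) rfl N201 D786
theorem N447 : nd 447 = n787 := ndS (p := 201) (l := 7) rfl N201 D787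
theorem N448 : nd 448 = n790 := ndS (p := 202) (l := 4) rfl N202 D790
theorem N449 : nd 449 = n791 := ndS (p := 202) (l := 5) rfl N202 D791
theorem N450 : nd 450 = n792 := ndS (p := 202) (l := 6) rfl N202 D792
theorem N451 : nd 451 = n794 := ndS (p := 203) (l := 3) rfl N203 D794
theorem N452 : nd 452 = n795 := ndS (p := 203) (l := 4) rfl N203 D795
theorem N453 : nd 453 = n796 := ndS (p := 203) (l := 5) rfl N203 D796
theorem N454 : nd 454 = n797 := ndS (p := 203) (l := 6) rfl N203 D797
theorem N455 : nd 455 = n798 := ndS (p := 204) (l := 0) rfl N204 D798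
theorem N456 : nd 456 = n799 := ndS (p := 204) (l := 1) rfl N204 D799
theorem N457 : nd 457 = n800 := ndS (p := 204) (l := 4) rfl N204 D800
theorem N458 : nd 458 = n801 := ndS (p := 204) (l := 7) rfl N204 D801
theorem N459 : nd 459 = n802 := ndS (p := 206) (l := 0) rfl N206 D802
theorem N460 : nd 460 = n803 := ndS (p := 206) (l := 4) rfl N206 D803
theorem N461 : nd 461 = n804 := ndS (p := 206) (l := 6) rfl N206 D804
theorem N462 : nd 462 = n806 := ndS (p := 207) (l := 1) rfl N207 D806
theorem N463 : nd 463 = n807 := ndS (p := 207) (l := 5) rfl N207 D807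
theorem N464 : nd 464 = n808 := ndS (p := 208) (l := 5) rfl N208 D808
theorem N465 : nd 465 = n809 := ndS (p := 209) (l := 4) rfl N209 D809
theorem N466 : nd 466 = n810 := ndS (p := 209) (l := 6) rfl N209 D810
theorem N467 : nd 467 = n811 := ndS (p := 210) (l := 4) rfl N210 D811
theorem N468 : nd 468 = n812 := ndS (p := 211) (l := 3) rfl N211 D812
theorem N469 : nd 469 = n813 := ndS (p := 211) (l := 4) rfl N211 D813
theorem N470 : nd 470 = n814 := ndS (p := 211) (l := 6) rfl N211 D814
theorem N471 : nd 471 = n815 := ndS (p := 212) (l := 0) rfl N212 D815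
theorem N472 : nd 472 = n816 := ndS (p := 212) (l := 1) rfl N212 D816
theorem N473 : nd 473 = n817 := ndS (p := 212) (l := 3) rfl N212 D817
theorem N474 : nd 474 = n818 := ndS (p := 212) (l := 5) rfl N212 D818
theorem N475 : nd 475 = n819 := ndS (p := 212) (l := 7) rfl N212 D819
theorem N476 : nd 476 = n820 := ndS (p := 213) (l := 6) rfl N213 D820
theorem N477 : nd 477 = n821 := ndS (p := 214) (l := 6) rfl N214 D821
theorem N478 : nd 478 = n822 := ndS (p := 215) (l := 0) rfl N215 D822
theorem N479 : nd 479 = n823 := ndS (p := 215) (l := 1) rfl N215 D823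
theorem N480 : nd 480 = n824 := ndS (p := 215) (l := 2) rfl N215 D824
theorem N481 : nd 481 = n825 := ndS (p := 215) (l := 6) rfl N215 D825
theorem N482 : nd 482 = n826 := ndS (p := 216) (l := 1) rfl N216 D826
theorem N483 : nd 483 = n827 := ndS (p := 217) (l := 6) rfl N217 D827
theorem N484 : nd 484 = n828 := ndS (p := 218) (l := 1) rfl N218 D828
theorem N485 : nd 485 = n829 := ndS (p := 218) (l := 5) rfl N218 D829
theorem N486 : nd 486 = n830 := ndS (p := 220) (l := 0) rfl N220 D830
theorem N487 : nd 487 = n831 := ndS (p := 220) (l := 6) rfl N220 D831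
theorem N488 : nd 488 = n832 := ndS (p := 222) (l := 5) rfl N222 D832
theorem N489 : nd 489 = n833 := ndS (p := 223) (l := 3) rfl N223 D833
theorem N490 : nd 490 = n834 := ndS (p := 223) (l := 6) rfl N223 D834
theorem N491 : nd 491 = n835 := ndS (p := 224) (l := 0) rfl N224 D835
theorem N492 : nd 492 = n836 := ndS (p := 224) (l := 1) rfl N224 D836
theorem N493 : nd 493 = n837 := ndS (p := 224) (l := 5) rfl N224 D837
theorem N494 : nd 494 = n838 := ndS (p := 224) (l := 7) rfl N224 D838
theorem N495 : nd 495 = n839 := ndS (p := 226) (l := 4) rfl N226 D839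
theorem N496 : nd 496 = n840 := ndS (p := 226) (l := 7) rfl N226 D840
theorem N497 : nd 497 = n841 := ndS (p := 228) (l := 3) rfl N228 D841
theorem N498 : nd 498 = n842 := ndS (p := 228) (l := 5) rfl N228 D842
theorem N499 : nd 499 = n843 := ndS (p := 229) (l := 0) rfl N229 D843
theorem N500 : nd 500 = n844 := ndS (p := 229) (l := 1) rfl N229 D844
theorem N501 : nd 501 = n845 := ndS (p := 229) (l := 3) rfl N229 D845
theorem N502 : nd 502 = n846 := ndS (p := 229) (l := 5) rfl N229 D846
theorem N503 : nd 503 = n847 := ndS (p := 229) (l := 7) rfl N229 D847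
theorem N504 : nd 504 = n848 := ndS (p := 230) (l := 6) rfl N230 D848
theorem N505 : nd 505 = n849 := ndS (p := 231) (l := 3) rfl N231 D849
theorem N506 : nd 506 = n850 := ndS (p := 231) (l := 5) rfl N231 D850
theorem N507 : nd 507 = n851 := ndS (p := 232) (l := 0) rfl N232 D851
theorem N508 : nd 508 = n853 := ndS (p := 232) (l := 2) rfl N232 D853
theorem N509 : nd 509 = n854 := ndS (p := 232) (l := 5) rfl N232 D854
theorem N510 : nd 510 = n855 := ndS (p := 233) (l := 0) rfl N233 D855
theorem N511 : nd 511 = n856 := ndS (p := 233) (l := 4) rfl N233 D856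
theorem N512 : nd 512 = n857 := ndS (p := 233) (l := 6) rfl N233 D857
theorem N513 : nd 513 = n858 := ndS (p := 234) (l := 4) rfl N234 D858
theorem N514 : nd 514 = n859 := ndS (p := 234) (l := 6) rfl N234 D859
theorem N515 : nd 515 = n860 := ndS (p := 235) (l := 0) rfl N235 D860
theorem N516 : nd 516 = n861 := ndS (p := 235) (l := 1) rfl N235 D861
theorem N517 : nd 517 = n862 := ndS (p := 235) (l := 3) rfl N235 D862
theorem N518 : nd 518 = n863 := ndS (p := 235) (l := 5) rfl N235 D863
theorem N519 : nd 519 = n864 := ndS (p := 235) (l := 6) rfl N235 D864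
theorem N520 : nd 520 = n865 := ndS (p := 236) (l := 0) rfl N236 D865
theorem N521 : nd 521 = n866 := ndS (p := 236) (l := 1) rfl N236 D866
theorem N522 : nd 522 = n867 := ndS (p := 236) (l := 7) rfl N236 D867
theorem N523 : nd 523 = n868 := ndS (p := 237) (l := 5) rfl N237 D868
theorem N524 : nd 524 = n869 := ndS (p := 238) (l := 4) rfl N238 D869
theorem N525 : nd 525 = n870 := ndS (p := 238) (l := 6) rfl N238 D870
theorem N526 : nd 526 = n871 := ndS (p := 239) (l := 3) rfl N239 D871
theorem N527 : nd 527 = n872 := ndS (p := 239) (l := 5) rfl N239 D872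
theorem N528 : nd 528 = n873 := ndS (p := 239) (l := 6) rfl N239 D873
theorem N529 : nd 529 = n874 := ndS (p := 240) (l := 7) rfl N240 D874
theorem N530 : nd 530 = n875 := ndS (p := 241) (l := 0) rfl N241 D875
theorem N531 : nd 531 = n876 := ndS (p := 241) (l := 3) rfl N241 D876
theorem N532 : nd 532 = n877 := ndS (p := 241) (l := 5) rfl N241 D877
theorem N533 : nd 533 = n878 := ndS (p := 242) (l := 3) rfl N242 D878
theorem N534 : nd 534 = n879 := ndS (p := 242) (l := 5) rfl N242 D879
theorem N535 : nd 535 = n880 := ndS (p := 242) (l := 6) rfl N242 D880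
theorem N536 : nd 536 = n881 := ndS (p := 243) (l := 0) rfl N243 D881
theorem N537 : nd 537 = n882 := ndS (p := 243) (l := 1) rfl N243 D882
theorem N538 : nd 538 = n883 := ndS (p := 244) (l := 3) rfl N244 D883
theorem N539 : nd 539 = n884 := ndS (p := 244) (l := 5) rfl N244 D884
theorem N540 : nd 540 = n885 := ndS (p := 245) (l := 3) rfl N245 D885
theorem N541 : nd 541 = n886 := ndS (p := 245) (l := 4) rfl N245 D886
theorem N542 : nd 542 = n887 := ndS (p := 245) (l := 5) rfl N245 D887
theorem N543 : nd 543 = n888 := ndS (p := 245) (l := 6) rfl N245 D888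
theorem N544 : nd 544 = n889 := ndS (p := 246) (l := 0) rfl N246 D889
theorem N545 : nd 545 = n890 := ndS (p := 246) (l := 1) rfl N246 D890
theorem N546 : nd 546 = n891 := ndS (p := 246) (l := 2) rfl N246 D891
theorem N547 : nd 547 = n892 := ndS (p := 246) (l := 5) rfl N246 D892
theorem N548 : nd 548 = n893 := ndS (p := 246) (l := 7) rfl N246 D893
theorem N549 : nd 549 = n894 := ndS (p := 247) (l := 0) rfl N247 D894
theorem N550 : nd 550 = n895 := ndS (p := 247) (l := 1) rfl N247 D895
theorem N551 : nd 551 = n896 := ndS (p := 247) (l := 4) rfl N247 D896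
theorem N552 : nd 552 = n897 := ndS (p := 247) (l := 6) rfl N247 D897
theorem N553 : nd 553 = n898 := ndS (p := 247) (l := 7) rfl N247 D898
theorem N554 : nd 554 = n899 := ndS (p := 248) (l := 6) rfl N248 D899
theorem N555 : nd 555 = n900 := ndS (p := 250) (l := 5) rfl N250 D900
theorem N556 : nd 556 = n901 := ndS (p := 250) (l := 7) rfl N250 D901
theorem N557 : nd 557 = n902 := ndS (p := 251) (l := 4) rfl N251 D902
theorem N558 : nd 558 = n903 := ndS (p := 251) (l := 7) rfl N251 D903
theorem N559 : nd 559 = n904 := ndS (p := 256) (l := 7) rfl N256 D904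
theorem N560 : nd 560 = n905 := ndS (p := 258) (l := 0) rfl N258 D905
theorem N561 : nd 561 = n906 := ndS (p := 258) (l := 4) rfl N258 D906
theorem N562 : nd 562 = n907 := ndS (p := 258) (l := 6) rfl N258 D907
theorem N563 : nd 563 = n908 := ndS (p := 259) (l := 4) rfl N259 D908
theorem N564 : nd 564 = n909 := ndS (p := 259) (l := 6) rfl N259 D909
theorem N565 : nd 565 = n910 := ndS (p := 261) (l := 6) rfl N261 D910
theorem N566 : nd 566 = n911 := ndS (p := 262) (l := 3) rfl N262 D911
theorem N567 : nd 567 = n912 := ndS (p := 262) (l := 5) rfl N262 D912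
theorem N568 : nd 568 = n913 := ndS (p := 262) (l := 7) rfl N262 D913
theorem N569 : nd 569 = n914 := ndS (p := 263) (l := 6) rfl N263 D914
theorem N570 : nd 570 = n915 := ndS (p := 265) (l := 3) rfl N265 D915
theorem N571 : nd 571 = n916 := ndS (p := 265) (l := 5) rfl N265 D916
theorem N572 : nd 572 = n917 := ndS (p := 266) (l := 6) rfl N266 D917
theorem N573 : nd 573 = n918 := ndS (p := 267) (l := 6) rfl N267 D918
theorem N574 : nd 574 = n919 := ndS (p := 268) (l := 3) rfl N268 D919
theorem N575 : nd 575 = n920 := ndS (p := 268) (l := 6) rfl N268 D920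
theorem N576 : nd 576 = n921 := ndS (p := 269) (l := 0) rfl N269 D921
theorem N577 : nd 577 = n922 := ndS (p := 269) (l := 1) rfl N269 D922
theorem N578 : nd 578 = n923 := ndS (p := 269) (l := 7) rfl N269 D923
theorem N579 : nd 579 = n924 := ndS (p := 270) (l := 3) rfl N270 D924
theorem N580 : nd 580 = n925 := ndS (p := 270) (l := 6) rfl N270 D925
theorem N581 : nd 581 = n926 := ndS (p := 271) (l := 7) rfl N271 D926
theorem N582 : nd 582 = n927 := ndS (p := 273) (l := 0) rfl N273 D927
theorem N583 : nd 583 = n928 := ndS (p := 274) (l := 0) rfl N274 D928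
theorem N584 : nd 584 = n929 := ndS (p := 274) (l := 1) rfl N274 D929
theorem N585 : nd 585 = n930 := ndS (p := 274) (l := 2) rfl N274 D930
theorem N586 : nd 586 = n931 := ndS (p := 274) (l := 5) rfl N274 D931
theorem N587 : nd 587 = n932 := ndS (p := 274) (l := 7) rfl N274 D932
theorem N588 : nd 588 = n933 := ndS (p := 275) (l := 6) rfl N275 D933
theorem N589 : nd 589 = n934 := ndS (p := 276) (l := 6) rfl N276 D934
theorem N590 : nd 590 = n935 := ndS (p := 278) (l := 0) rfl N278 D935
theorem N591 : nd 591 = n936 := ndS (p := 278) (l := 1) rfl N278 D936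
theorem N592 : nd 592 = n937 := ndS (p := 278) (l := 2) rfl N278 D937
theorem N593 : nd 593 = n938 := ndS (p := 278) (l := 5) rfl N278 D938
theorem N594 : nd 594 = n939 := ndS (p := 278) (l := 7) rfl N278 D939
theorem N595 : nd 595 = n940 := ndS (p := 279) (l := 4) rfl N279 D940
theorem N596 : nd 596 = n941 := ndS (p := 279) (l := 6) rfl N279 D941
theorem N597 : nd 597 = n942 := ndS (p := 279) (l := 7) rfl N279 D942
theorem N598 : nd 598 = n943 := ndS (p := 280) (l := 6) rfl N280 D943
theorem N599 : nd 599 = n944 := ndS (p := 282) (l := 3) rfl N282 D944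
theorem N600 : nd 600 = n945 := ndS (p := 282) (l := 6) rfl N282 D945
theorem N601 : nd 601 = n946 := ndS (p := 283) (l := 0) rfl N283 D946
theorem N602 : nd 602 = n947 := ndS (p := 283) (l := 1) rfl N283 D947
theorem N603 : nd 603 = n948 := ndS (p := 283) (l := 2) rfl N283 D948
theorem N604 : nd 604 = n949 := ndS (p := 283) (l := 5) rfl N283 D949
theorem N605 : nd 605 = n950 := ndS (p := 283) (l := 6) rfl N283 D950
theorem N606 : nd 606 = n951 := ndS (p := 284) (l := 6) rfl N284 D951
theorem N607 : nd 607 = n952 := ndS (p := 285) (l := 0) rfl N285 D952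
theorem N608 : nd 608 = n953 := ndS (p := 285) (l := 1) rfl N285 D953
theorem N609 : nd 609 = n954 := ndS (p := 285) (l := 5) rfl N285 D954
theorem N610 : nd 610 = n955 := ndS (p := 285) (l := 7) rfl N285 D955
theorem N611 : nd 611 = n957 := ndS (p := 286) (l := 3) rfl N286 D957
theorem N612 : nd 612 = n958 := ndS (p := 286) (l := 4) rfl N286 D958
theorem N613 : nd 613 = n961 := ndS (p := 287) (l := 4) rfl N287 D961
theorem N614 : nd 614 = n962 := ndS (p := 289) (l := 0) rfl N289 D962
theorem N615 : nd 615 = n963 := ndS (p := 289) (l := 1) rfl N289 D963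
theorem N616 : nd 616 = n964 := ndS (p := 289) (l := 2) rfl N289 D964
theorem N617 : nd 617 = n965 := ndS (p := 289) (l := 5) rfl N289 D965
theorem N618 : nd 618 = n966 := ndS (p := 289) (l := 6) rfl N289 D966
theorem N619 : nd 619 = n967 := ndS (p := 290) (l := 6) rfl N290 D967
theorem N620 : nd 620 = n968 := ndS (p := 291) (l := 5) rfl N291 D968
theorem N621 : nd 621 = n969 := ndS (p := 291) (l := 7) rfl N291 D969
theorem N622 : nd 622 = n970 := ndS (p := 293) (l := 0) rfl N293 D970
theorem N623 : nd 623 = n971 := ndS (p := 293) (l := 1) rfl N293 D971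
theorem N624 : nd 624 = n972 := ndS (p := 293) (l := 2) rfl N293 D972
theorem N625 : nd 625 = n973 := ndS (p := 293) (l := 5) rfl N293 D973
theorem N626 : nd 626 = n974 := ndS (p := 294) (l := 6) rfl N294 D974
theorem N627 : nd 627 = n975 := ndS (p := 295) (l := 0) rfl N295 D975
theorem N628 : nd 628 = n976 := ndS (p := 295) (l := 1) rfl N295 D976
theorem N629 : nd 629 = n977 := ndS (p := 295) (l := 2) rfl N295 D977
theorem N630 : nd 630 = n978 := ndS (p := 295) (l := 5) rfl N295 D978
theorem N631 : nd 631 = n979 := ndS (p := 295) (l := 6) rfl N295 D979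
theorem N632 : nd 632 = n980 := ndS (p := 296) (l := 6) rfl N296 D980
theorem N633 : nd 633 = n981 := ndS (p := 297) (l := 0) rfl N297 D981
theorem N634 : nd 634 = n982 := ndS (p := 297) (l := 5) rfl N297 D982
theorem N635 : nd 635 = n985 := ndS (p := 299) (l := 0) rfl N299 D985
theorem N636 : nd 636 = n986 := ndS (p := 299) (l := 1) rfl N299 D986
theorem N637 : nd 637 = n987 := ndS (p := 299) (l := 2) rfl N299 D987
theorem N638 : nd 638 = n988 := ndS (p := 299) (l := 5) rfl N299 D988
theorem N639 : nd 639 = n989 := ndS (p := 300) (l := 6) rfl N300 D989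
theorem N640 : nd 640 = n990 := ndS (p := 301) (l := 0) rfl N301 D990
theorem N641 : nd 641 = n991 := ndS (p := 301) (l := 1) rfl N301 D991
theorem N642 : nd 642 = n992 := ndS (p := 301) (l := 2) rfl N301 D992
theorem N643 : nd 643 = n993 := ndS (p := 301) (l := 4) rfl N301 D993
theorem N644 : nd 644 = n994 := ndS (p := 301) (l := 5) rfl N301 D994
theorem N645 : nd 645 = n995 := ndS (p := 301) (l := 6) rfl N301 D995
theorem N646 : nd 646 = n996 := ndS (p := 302) (l := 6) rfl N302 D996
theorem N647 : nd 647 = n999 := ndS (p := 304) (l := 0) rfl N304 D999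
theorem N648 : nd 648 = n1000 := ndS (p := 304) (l := 2) rfl N304 D1000
theorem N649 : nd 649 = n1001 := ndS (p := 304) (l := 3) rfl N304 D1001
theorem N650 : nd 650 = n1002 := ndS (p := 304) (l := 4) rfl N304 D1002
theorem N651 : nd 651 = n1003 := ndS (p := 304) (l := 5) rfl N304 D1003
theorem N652 : nd 652 = n1005 := ndS (p := 304) (l := 7) rfl N304 D1005
theorem N653 : nd 653 = n1006 := ndS (p := 305) (l := 3) rfl N305 D1006
theorem N654 : nd 654 = n1007 := ndS (p := 305) (l := 4) rfl N305 D1007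
theorem N655 : nd 655 = n1008 := ndS (p := 305) (l := 5) rfl N305 D1008
theorem N656 : nd 656 = n1009 := ndS (p := 305) (l := 6) rfl N305 D1009
theorem N657 : nd 657 = n1012 := ndS (p := 306) (l := 5) rfl N306 D1012
theorem N658 : nd 658 = n1013 := ndS (p := 307) (l := 0) rfl N307 D1013
theorem N659 : nd 659 = n1014 := ndS (p := 307) (l := 1) rfl N307 D1014
theorem N660 : nd 660 = n1015 := ndS (p := 307) (l := 4) rfl N307 D1015
theorem N661 : nd 661 = n1016 := ndS (p := 307) (l := 6) rfl N307 D1016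
theorem N662 : nd 662 = n1017 := ndS (p := 307) (l := 7) rfl N307 D1017
theorem N663 : nd 663 = n1018 := ndS (p := 308) (l := 6) rfl N308 D1018
theorem N664 : nd 664 = n1019 := ndS (p := 309) (l := 3) rfl N309 D1019
theorem N665 : nd 665 = n1020 := ndS (p := 309) (l := 6) rfl N309 D1020
theorem N666 : nd 666 = n1021 := ndS (p := 310) (l := 3) rfl N310 D1021
theorem N667 : nd 667 = n1022 := ndS (p := 310) (l := 6) rfl N310 D1022
theorem N668 : nd 668 = n1023 := ndS (p := 311) (l := 3) rfl N311 D1023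
theorem N669 : nd 669 = n1024 := ndS (p := 311) (l := 6) rfl N311 D1024
theorem N670 : nd 670 = n1025 := ndS (p := 312) (l := 0) rfl N312 D1025
theorem N671 : nd 671 = n1026 := ndS (p := 312) (l := 1) rfl N312 D1026
theorem N672 : nd 672 = n1027 := ndS (p := 312) (l := 7) rfl N312 D1027
theorem N673 : nd 673 = n1028 := ndS (p := 313) (l := 6) rfl N313 D1028
theorem N674 : nd 674 = n1029 := ndS (p := 314) (l := 1) rfl N314 D1029
theorem N675 : nd 675 = n1030 := ndS (p := 314) (l := 5) rfl N314 D1030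
theorem N676 : nd 676 = n1031 := ndS (p := 315) (l := 4) rfl N315 D1031
theorem N677 : nd 677 = n1032 := ndS (p := 315) (l := 6) rfl N315 D1032
theorem N678 : nd 678 = n1033 := ndS (p := 316) (l := 0) rfl N316 D1033
theorem N679 : nd 679 = n1034 := ndS (p := 316) (l := 5) rfl N316 D1034
theorem N680 : nd 680 = n1035 := ndS (p := 317) (l := 3) rfl N317 D1035
theorem N681 : nd 681 = n1036 := ndS (p := 317) (l := 6) rfl N317 D1036
theorem N682 : nd 682 = n1037 := ndS (p := 318) (l := 0) rfl N318 D1037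
theorem N683 : nd 683 = n1038 := ndS (p := 318) (l := 1) rfl N318 D1038
theorem N684 : nd 684 = n1039 := ndS (p := 318) (l := 5) rfl N318 D1039
theorem N685 : nd 685 = n1040 := ndS (p := 318) (l := 7) rfl N318 D1040
theorem N686 : nd 686 = n1041 := ndS (p := 319) (l := 4) rfl N319 D1041
theorem N687 : nd 687 = n1042 := ndS (p := 320) (l := 0) rfl N320 D1042
theorem N688 : nd 688 = n1043 := ndS (p := 320) (l := 6) rfl N320 D1043
theorem N689 : nd 689 = n1046 := ndS (p := 321) (l := 5) rfl N321 D1046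
theorem N690 : nd 690 = n1048 := ndS (p := 322) (l := 4) rfl N322 D1048
theorem N691 : nd 691 = n1049 := ndS (p := 322) (l := 6) rfl N322 D1049
theorem N692 : nd 692 = n1051 := ndS (p := 323) (l := 1) rfl N323 D1051
theorem N693 : nd 693 = n1052 := ndS (p := 323) (l := 5) rfl N323 D1052
theorem N694 : nd 694 = n1053 := ndS (p := 323) (l := 7) rfl N323 D1053
theorem N695 : nd 695 = n1054 := ndS (p := 324) (l := 4) rfl N324 D1054
theorem N696 : nd 696 = n1055 := ndS (p := 324) (l := 6) rfl N324 D1055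
theorem N697 : nd 697 = n1056 := ndS (p := 325) (l := 6) rfl N325 D1056
theorem N698 : nd 698 = n1057 := ndS (p := 326) (l := 4) rfl N326 D1057
theorem N699 : nd 699 = n1058 := ndS (p := 326) (l := 6) rfl N326 D1058
theorem N700 : nd 700 = n1059 := ndS (p := 327) (l := 0) rfl N327 D1059
theorem N701 : nd 701 = n1060 := ndS (p := 327) (l := 1) rfl N327 D1060
theorem N702 : nd 702 = n1061 := ndS (p := 327) (l := 3) rfl N327 D1061
theorem N703 : nd 703 = n1062 := ndS (p := 327) (l := 5) rfl N327 D1062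
theorem N704 : nd 704 = n1063 := ndS (p := 327) (l := 6) rfl N327 D1063
theorem N705 : nd 705 = n1064 := ndS (p := 328) (l := 0) rfl N328 D1064
theorem N706 : nd 706 = n1065 := ndS (p := 328) (l := 1) rfl N328 D1065
theorem N707 : nd 707 = n1066 := ndS (p := 328) (l := 7) rfl N328 D1066
theorem N708 : nd 708 = n1067 := ndS (p := 329) (l := 6) rfl N329 D1067
theorem N709 : nd 709 = n1068 := ndS (p := 330) (l := 3) rfl N330 D1068
theorem N710 : nd 710 = n1069 := ndS (p := 330) (l := 6) rfl N330 D1069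
theorem N711 : nd 711 = n1070 := ndS (p := 331) (l := 0) rfl N331 D1070
theorem N712 : nd 712 = n1071 := ndS (p := 331) (l := 1) rfl N331 D1071
theorem N713 : nd 713 = n1072 := ndS (p := 331) (l := 5) rfl N331 D1072
theorem N714 : nd 714 = n1073 := ndS (p := 331) (l := 7) rfl N331 D1073
theorem N715 : nd 715 = n1074 := ndS (p := 332) (l := 3) rfl N332 D1074
theorem N716 : nd 716 = n1075 := ndS (p := 332) (l := 6) rfl N332 D1075
theorem N717 : nd 717 = n1076 := ndS (p := 333) (l := 0) rfl N333 D1076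
theorem N718 : nd 718 = n1077 := ndS (p := 333) (l := 1) rfl N333 D1077
theorem N719 : nd 719 = n1078 := ndS (p := 333) (l := 5) rfl N333 D1078
theorem N720 : nd 720 = n1079 := ndS (p := 333) (l := 7) rfl N333 D1079
theorem N721 : nd 721 = n1080 := ndS (p := 334) (l := 0) rfl N334 D1080
theorem N722 : nd 722 = n1081 := ndS (p := 334) (l := 1) rfl N334 D1081
theorem N723 : nd 723 = n1082 := ndS (p := 334) (l := 2) rfl N334 D1082
theorem N724 : nd 724 = n1083 := ndS (p := 334) (l := 6) rfl N334 D1083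
theorem N725 : nd 725 = n1084 := ndS (p := 335) (l := 0) rfl N335 D1084
theorem N726 : nd 726 = n1085 := ndS (p := 335) (l := 1) rfl N335 D1085
theorem N727 : nd 727 = n1086 := ndS (p := 335) (l := 5) rfl N335 D1086
theorem N728 : nd 728 = n1087 := ndS (p := 335) (l := 7) rfl N335 D1087
theorem N729 : nd 729 = n1089 := ndS (p := 336) (l := 3) rfl N336 D1089
theorem N730 : nd 730 = n1090 := ndS (p := 336) (l := 4) rfl N336 D1090
theorem N731 : nd 731 = n1091 := ndS (p := 336) (l := 5) rfl N336 D1091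
theorem N732 : nd 732 = n1092 := ndS (p := 336) (l := 6) rfl N336 D1092
theorem N733 : nd 733 = n1095 := ndS (p := 337) (l := 4) rfl N337 D1095
theorem N734 : nd 734 = n1096 := ndS (p := 337) (l := 5) rfl N337 D1096
theorem N735 : nd 735 = n1097 := ndS (p := 337) (l := 6) rfl N337 D1097
theorem N736 : nd 736 = n1098 := ndS (p := 339) (l := 4) rfl N339 D1098
theorem N737 : nd 737 = n1099 := ndS (p := 339) (l := 6) rfl N339 D1099
theorem N738 : nd 738 = n1100 := ndS (p := 340) (l := 6) rfl N340 D1100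
theorem N739 : nd 739 = n1101 := ndS (p := 341) (l := 3) rfl N341 D1101
theorem N740 : nd 740 = n1102 := ndS (p := 341) (l := 5) rfl N341 D1102
theorem N741 : nd 741 = n1103 := ndS (p := 341) (l := 6) rfl N341 D1103
theorem N742 : nd 742 = n1105 := ndS (p := 342) (l := 1) rfl N342 D1105
theorem N743 : nd 743 = n1106 := ndS (p := 342) (l := 7) rfl N342 D1106
theorem N744 : nd 744 = n1107 := ndS (p := 343) (l := 0) rfl N343 D1107
theorem N745 : nd 745 = n1108 := ndS (p := 343) (l := 1) rfl N343 D1108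
theorem N746 : nd 746 = n1109 := ndS (p := 343) (l := 2) rfl N343 D1109
theorem N747 : nd 747 = n1110 := ndS (p := 343) (l := 6) rfl N343 D1110
theorem N748 : nd 748 = n1111 := ndS (p := 344) (l := 0) rfl N344 D1111
theorem N749 : nd 749 = n1112 := ndS (p := 344) (l := 1) rfl N344 D1112
theorem N750 : nd 750 = n1113 := ndS (p := 344) (l := 5) rfl N344 D1113
theorem N751 : nd 751 = n1114 := ndS (p := 344) (l := 7) rfl N344 D1114
theorem N752 : nd 752 = n1117 := ndS (p := 345) (l := 4) rfl N345 D1117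
theorem N753 : nd 753 = n1118 := ndS (p := 345) (l := 5) rfl N345 D1118
theorem N754 : nd 754 = n1119 := ndS (p := 345) (l := 6) rfl N345 D1119
theorem N755 : nd 755 = n1121 := ndS (p := 346) (l := 3) rfl N346 D1121
theorem N756 : nd 756 = n1122 := ndS (p := 346) (l := 4) rfl N346 D1122
theorem N757 : nd 757 = n1123 := ndS (p := 346) (l := 5) rfl N346 D1123
theorem N758 : nd 758 = n1124 := ndS (p := 346) (l := 6) rfl N346 D1124
theorem N759 : nd 759 = n1125 := ndS (p := 348) (l := 4) rfl N348 D1125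
theorem N760 : nd 760 = n1126 := ndS (p := 348) (l := 6) rfl N348 D1126
theorem N761 : nd 761 = n1127 := ndS (p := 349) (l := 4) rfl N349 D1127
theorem N762 : nd 762 = n1128 := ndS (p := 349) (l := 6) rfl N349 D1128
theorem N763 : nd 763 = n1129 := ndS (p := 350) (l := 0) rfl N350 D1129
theorem N764 : nd 764 = n1130 := ndS (p := 350) (l := 1) rfl N350 D1130
theorem N765 : nd 765 = n1131 := ndS (p := 350) (l := 3) rfl N350 D1131
theorem N766 : nd 766 = n1132 := ndS (p := 350) (l := 5) rfl N350 D1132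
theorem N767 : nd 767 = n1133 := ndS (p := 350) (l := 6) rfl N350 D1133
theorem N768 : nd 768 = n1134 := ndS (p := 351) (l := 0) rfl N351 D1134
theorem N769 : nd 769 = n1135 := ndS (p := 351) (l := 1) rfl N351 D1135
theorem N770 : nd 770 = n1136 := ndS (p := 351) (l := 5) rfl N351 D1136
theorem N771 : nd 771 = n1137 := ndS (p := 351) (l := 7) rfl N351 D1137
theorem N772 : nd 772 = n1138 := ndS (p := 352) (l := 5) rfl N352 D1138
theorem N773 : nd 773 = n1140 := ndS (p := 353) (l := 5) rfl N353 D1140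
theorem N774 : nd 774 = n1141 := ndS (p := 354) (l := 0) rfl N354 D1141
theorem N775 : nd 775 = n1142 := ndS (p := 354) (l := 1) rfl N354 D1142
theorem N776 : nd 776 = n1143 := ndS (p := 354) (l := 4) rfl N354 D1143
theorem N777 : nd 777 = n1144 := ndS (p := 354) (l := 7) rfl N354 D1144
theorem N778 : nd 778 = n1145 := ndS (p := 356) (l := 0) rfl N356 D1145
theorem N779 : nd 779 = n1146 := ndS (p := 356) (l := 1) rfl N356 D1146
theorem N780 : nd 780 = n1147 := ndS (p := 356) (l := 2) rfl N356 D1147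
theorem N781 : nd 781 = n1148 := ndS (p := 356) (l := 6) rfl N356 D1148
theorem N782 : nd 782 = n1149 := ndS (p := 357) (l := 0) rfl N357 D1149
theorem N783 : nd 783 = n1150 := ndS (p := 357) (l := 1) rfl N357 D1150
theorem N784 : nd 784 = n1151 := ndS (p := 357) (l := 5) rfl N357 D1151
theorem N785 : nd 785 = n1152 := ndS (p := 357) (l := 7) rfl N357 D1152
theorem N786 : nd 786 = n1154 := ndS (p := 358) (l := 3) rfl N358 D1154
theorem N787 : nd 787 = n1155 := ndS (p := 358) (l := 4) rfl N358 D1155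
theorem N788 : nd 788 = n1156 := ndS (p := 358) (l := 5) rfl N358 D1156
theorem N789 : nd 789 = n1157 := ndS (p := 358) (l := 6) rfl N358 D1157
theorem N790 : nd 790 = n1160 := ndS (p := 359) (l := 4) rfl N359 D1160
theorem N791 : nd 791 = n1161 := ndS (p := 359) (l := 5) rfl N359 D1161
theorem N792 : nd 792 = n1162 := ndS (p := 359) (l := 6) rfl N359 D1162
theorem N793 : nd 793 = n1163 := ndS (p := 360) (l := 0) rfl N360 D1163
theorem N794 : nd 794 = n1164 := ndS (p := 360) (l := 1) rfl N360 D1164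
theorem N795 : nd 795 = n1165 := ndS (p := 360) (l := 4) rfl N360 D1165
theorem N796 : nd 796 = n1166 := ndS (p := 360) (l := 7) rfl N360 D1166
theorem N797 : nd 797 = n1167 := ndS (p := 362) (l := 5) rfl N362 D1167
theorem N798 : nd 798 = n1168 := ndS (p := 363) (l := 4) rfl N363 D1168
theorem N799 : nd 799 = n1169 := ndS (p := 363) (l := 6) rfl N363 D1169
theorem N800 : nd 800 = n1170 := ndS (p := 364) (l := 4) rfl N364 D1170
theorem N801 : nd 801 = n1171 := ndS (p := 364) (l := 6) rfl N364 D1171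
theorem N802 : nd 802 = n1172 := ndS (p := 365) (l := 3) rfl N365 D1172
theorem N803 : nd 803 = n1173 := ndS (p := 365) (l := 4) rfl N365 D1173
theorem N804 : nd 804 = n1174 := ndS (p := 366) (l := 4) rfl N366 D1174
theorem N805 : nd 805 = n1175 := ndS (p := 366) (l := 6) rfl N366 D1175
theorem N806 : nd 806 = n1176 := ndS (p := 367) (l := 0) rfl N367 D1176
theorem N807 : nd 807 = n1177 := ndS (p := 367) (l := 1) rfl N367 D1177
theorem N808 : nd 808 = n1178 := ndS (p := 367) (l := 3) rfl N367 D1178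
theorem N809 : nd 809 = n1179 := ndS (p := 367) (l := 5) rfl N367 D1179
theorem N810 : nd 810 = n1180 := ndS (p := 367) (l := 7) rfl N367 D1180
theorem N811 : nd 811 = n1181 := ndS (p := 368) (l := 6) rfl N368 D1181
theorem N812 : nd 812 = n1182 := ndS (p := 369) (l := 6) rfl N369 D1182
theorem N813 : nd 813 = n1183 := ndS (p := 370) (l := 6) rfl N370 D1183
theorem N814 : nd 814 = n1184 := ndS (p := 371) (l := 0) rfl N371 D1184
theorem N815 : nd 815 = n1185 := ndS (p := 371) (l := 5) rfl N371 D1185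
theorem N816 : nd 816 = n1186 := ndS (p := 371) (l := 7) rfl N371 D1186
theorem N817 : nd 817 = n1187 := ndS (p := 372) (l := 0) rfl N372 D1187
theorem N818 : nd 818 = n1188 := ndS (p := 372) (l := 1) rfl N372 D1188
theorem N819 : nd 819 = n1189 := ndS (p := 372) (l := 5) rfl N372 D1189
theorem N820 : nd 820 = n1190 := ndS (p := 372) (l := 7) rfl N372 D1190
theorem N821 : nd 821 = n1191 := ndS (p := 373) (l := 3) rfl N373 D1191
theorem N822 : nd 822 = n1192 := ndS (p := 374) (l := 4) rfl N374 D1192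
theorem N823 : nd 823 = n1193 := ndS (p := 377) (l := 3) rfl N377 D1193
theorem N824 : nd 824 = n1194 := ndS (p := 377) (l := 5) rfl N377 D1194
theorem N825 : nd 825 = n1195 := ndS (p := 378) (l := 0) rfl N378 D1195
theorem N826 : nd 826 = n1196 := ndS (p := 378) (l := 1) rfl N378 D1196
theorem N827 : nd 827 = n1197 := ndS (p := 378) (l := 4) rfl N378 D1197
theorem N828 : nd 828 = n1198 := ndS (p := 378) (l := 6) rfl N378 D1198
theorem N829 : nd 829 = n1199 := ndS (p := 379) (l := 0) rfl N379 D1199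
theorem N830 : nd 830 = n1200 := ndS (p := 379) (l := 1) rfl N379 D1200
theorem N831 : nd 831 = n1201 := ndS (p := 379) (l := 3) rfl N379 D1201
theorem N832 : nd 832 = n1202 := ndS (p := 379) (l := 5) rfl N379 D1202
theorem N833 : nd 833 = n1203 := ndS (p := 379) (l := 6) rfl N379 D1203
theorem N834 : nd 834 = n1205 := ndS (p := 380) (l := 1) rfl N380 D1205
theorem N835 : nd 835 = n1206 := ndS (p := 380) (l := 7) rfl N380 D1206
theorem N836 : nd 836 = n1209 := ndS (p := 381) (l := 5) rfl N381 D1209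
theorem N837 : nd 837 = n1210 := ndS (p := 382) (l := 4) rfl N382 D1210
theorem N838 : nd 838 = n1211 := ndS (p := 382) (l := 6) rfl N382 D1211
theorem N839 : nd 839 = n1212 := ndS (p := 383) (l := 3) rfl N383 D1212
theorem N840 : nd 840 = n1213 := ndS (p := 383) (l := 5) rfl N383 D1213
theorem N841 : nd 841 = n1214 := ndS (p := 383) (l := 6) rfl N383 D1214
theorem N842 : nd 842 = n1215 := ndS (p := 384) (l := 7) rfl N384 D1215
theorem N843 : nd 843 = n1216 := ndS (p := 385) (l := 3) rfl N385 D1216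
theorem N844 : nd 844 = n1217 := ndS (p := 385) (l := 5) rfl N385 D1217
theorem N845 : nd 845 = n1218 := ndS (p := 386) (l := 3) rfl N386 D1218
theorem N846 : nd 846 = n1219 := ndS (p := 386) (l := 5) rfl N386 D1219
theorem N847 : nd 847 = n1220 := ndS (p := 386) (l := 6) rfl N386 D1220
theorem N848 : nd 848 = n1221 := ndS (p := 388) (l := 3) rfl N388 D1221
theorem N849 : nd 849 = n1222 := ndS (p := 388) (l := 5) rfl N388 D1222
theorem N850 : nd 850 = n1223 := ndS (p := 389) (l := 5) rfl N389 D1223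
theorem N851 : nd 851 = n1224 := ndS (p := 389) (l := 6) rfl N389 D1224
theorem N852 : nd 852 = n1225 := ndS (p := 390) (l := 0) rfl N390 D1225
theorem N853 : nd 853 = n1226 := ndS (p := 390) (l := 1) rfl N390 D1226
theorem N854 : nd 854 = n1227 := ndS (p := 390) (l := 2) rfl N390 D1227
theorem N855 : nd 855 = n1228 := ndS (p := 390) (l := 5) rfl N390 D1228
theorem N856 : nd 856 = n1229 := ndS (p := 390) (l := 7) rfl N390 D1229
theorem N857 : nd 857 = n1230 := ndS (p := 391) (l := 0) rfl N391 D1230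
theorem N858 : nd 858 = n1231 := ndS (p := 391) (l := 1) rfl N391 D1231
theorem N859 : nd 859 = n1232 := ndS (p := 391) (l := 4) rfl N391 D1232
theorem N860 : nd 860 = n1233 := ndS (p := 391) (l := 6) rfl N391 D1233
theorem N861 : nd 861 = n1234 := ndS (p := 391) (l := 7) rfl N391 D1234
theorem N862 : nd 862 = n1235 := ndS (p := 392) (l := 6) rfl N392 D1235
theorem N863 : nd 863 = n1236 := ndS (p := 394) (l := 1) rfl N394 D1236
theorem N864 : nd 864 = n1237 := ndS (p := 394) (l := 2) rfl N394 D1237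
theorem N865 : nd 865 = n1238 := ndS (p := 394) (l := 6) rfl N394 D1238
theorem N866 : nd 866 = n1241 := ndS (p := 395) (l := 5) rfl N395 D1241
theorem N867 : nd 867 = n1242 := ndS (p := 395) (l := 7) rfl N395 D1242
theorem N868 : nd 868 = n1244 := ndS (p := 396) (l := 3) rfl N396 D1244
theorem N869 : nd 869 = n1246 := ndS (p := 396) (l := 5) rfl N396 D1246
theorem N870 : nd 870 = n1247 := ndS (p := 396) (l := 6) rfl N396 D1247
theorem N871 : nd 871 = n1251 := ndS (p := 397) (l := 5) rfl N397 D1251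
theorem N872 : nd 872 = n1252 := ndS (p := 397) (l := 6) rfl N397 D1252
theorem N873 : nd 873 = n1253 := ndS (p := 399) (l := 6) rfl N399 D1253
theorem N874 : nd 874 = n1256 := ndS (p := 400) (l := 5) rfl N400 D1256
theorem N875 : nd 875 = n1258 := ndS (p := 401) (l := 6) rfl N401 D1258
theorem N876 : nd 876 = n1259 := ndS (p := 402) (l := 0) rfl N402 D1259
theorem N877 : nd 877 = n1260 := ndS (p := 402) (l := 1) rfl N402 D1260
theorem N878 : nd 878 = n1261 := ndS (p := 402) (l := 7) rfl N402 D1261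
theorem N879 : nd 879 = n1262 := ndS (p := 403) (l := 6) rfl N403 D1262
theorem N880 : nd 880 = n1265 := ndS (p := 404) (l := 5) rfl N404 D1265
theorem N881 : nd 881 = n1266 := ndS (p := 404) (l := 7) rfl N404 D1266
theorem N882 : nd 882 = n1270 := ndS (p := 405) (l := 5) rfl N405 D1270
theorem N883 : nd 883 = n1271 := ndS (p := 405) (l := 6) rfl N405 D1271
theorem N884 : nd 884 = n1275 := ndS (p := 406) (l := 5) rfl N406 D1275
theorem N885 : nd 885 = n1276 := ndS (p := 406) (l := 6) rfl N406 D1276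
theorem N886 : nd 886 = n1277 := ndS (p := 408) (l := 6) rfl N408 D1277
theorem N887 : nd 887 = n1278 := ndS (p := 409) (l := 0) rfl N409 D1278
theorem N888 : nd 888 = n1279 := ndS (p := 409) (l := 1) rfl N409 D1279
theorem N889 : nd 889 = n1280 := ndS (p := 409) (l := 5) rfl N409 D1280
theorem N890 : nd 890 = n1281 := ndS (p := 409) (l := 7) rfl N409 D1281
theorem N891 : nd 891 = n1282 := ndS (p := 410) (l := 0) rfl N410 D1282
theorem N892 : nd 892 = n1283 := ndS (p := 410) (l := 1) rfl N410 D1283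
theorem N893 : nd 893 = n1284 := ndS (p := 410) (l := 5) rfl N410 D1284
theorem N894 : nd 894 = n1285 := ndS (p := 410) (l := 7) rfl N410 D1285
theorem N895 : nd 895 = n1286 := ndS (p := 411) (l := 0) rfl N411 D1286
theorem N896 : nd 896 = n1287 := ndS (p := 411) (l := 1) rfl N411 D1287
theorem N897 : nd 897 = n1288 := ndS (p := 411) (l := 2) rfl N411 D1288
theorem N898 : nd 898 = n1289 := ndS (p := 411) (l := 6) rfl N411 D1289
theorem N899 : nd 899 = n1292 := ndS (p := 412) (l := 5) rfl N412 D1292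
theorem N900 : nd 900 = n1293 := ndS (p := 412) (l := 7) rfl N412 D1293
theorem N901 : nd 901 = n1295 := ndS (p := 413) (l := 3) rfl N413 D1295
theorem N902 : nd 902 = n1297 := ndS (p := 413) (l := 5) rfl N413 D1297
theorem N903 : nd 903 = n1298 := ndS (p := 413) (l := 6) rfl N413 D1298
theorem N904 : nd 904 = n1300 := ndS (p := 414) (l := 3) rfl N414 D1300
theorem N905 : nd 905 = n1302 := ndS (p := 414) (l := 5) rfl N414 D1302
theorem N906 : nd 906 = n1303 := ndS (p := 414) (l := 6) rfl N414 D1303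
theorem N907 : nd 907 = n1304 := ndS (p := 415) (l := 0) rfl N415 D1304
theorem N908 : nd 908 = n1305 := ndS (p := 415) (l := 1) rfl N415 D1305
theorem N909 : nd 909 = n1306 := ndS (p := 415) (l := 4) rfl N415 D1306
theorem N910 : nd 910 = n1307 := ndS (p := 415) (l := 7) rfl N415 D1307
theorem N911 : nd 911 = n1308 := ndS (p := 417) (l := 3) rfl N417 D1308
theorem N912 : nd 912 = n1309 := ndS (p := 418) (l := 3) rfl N418 D1309
theorem N913 : nd 913 = n1310 := ndS (p := 418) (l := 6) rfl N418 D1310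
theorem N914 : nd 914 = n1311 := ndS (p := 419) (l := 3) rfl N419 D1311
theorem N915 : nd 915 = n1312 := ndS (p := 419) (l := 5) rfl N419 D1312
theorem N916 : nd 916 = n1313 := ndS (p := 419) (l := 7) rfl N419 D1313
theorem N917 : nd 917 = n1314 := ndS (p := 420) (l := 6) rfl N420 D1314
theorem N918 : nd 918 = n1315 := ndS (p := 421) (l := 0) rfl N421 D1315
theorem N919 : nd 919 = n1316 := ndS (p := 421) (l := 1) rfl N421 D1316
theorem N920 : nd 920 = n1317 := ndS (p := 421) (l := 2) rfl N421 D1317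
theorem N921 : nd 921 = n1318 := ndS (p := 421) (l := 6) rfl N421 D1318
theorem N922 : nd 922 = n1319 := ndS (p := 422) (l := 0) rfl N422 D1319
theorem N923 : nd 923 = n1320 := ndS (p := 422) (l := 1) rfl N422 D1320
theorem N924 : nd 924 = n1321 := ndS (p := 422) (l := 5) rfl N422 D1321
theorem N925 : nd 925 = n1322 := ndS (p := 422) (l := 7) rfl N422 D1322
theorem N926 : nd 926 = n1324 := ndS (p := 423) (l := 3) rfl N423 D1324
theorem N927 : nd 927 = n1325 := ndS (p := 423) (l := 4) rfl N423 D1325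
theorem N928 : nd 928 = n1326 := ndS (p := 423) (l := 5) rfl N423 D1326
theorem N929 : nd 929 = n1329 := ndS (p := 424) (l := 4) rfl N424 D1329
theorem N930 : nd 930 = n1330 := ndS (p := 424) (l := 5) rfl N424 D1330
theorem N931 : nd 931 = n1331 := ndS (p := 424) (l := 6) rfl N424 D1331
theorem N932 : nd 932 = n1332 := ndS (p := 425) (l := 0) rfl N425 D1332
theorem N933 : nd 933 = n1333 := ndS (p := 425) (l := 1) rfl N425 D1333
theorem N934 : nd 934 = n1334 := ndS (p := 425) (l := 4) rfl N425 D1334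
theorem N935 : nd 935 = n1335 := ndS (p := 425) (l := 7) rfl N425 D1335
theorem N936 : nd 936 = n1336 := ndS (p := 427) (l := 0) rfl N427 D1336
theorem N937 : nd 937 = n1337 := ndS (p := 427) (l := 1) rfl N427 D1337
theorem N938 : nd 938 = n1338 := ndS (p := 427) (l := 5) rfl N427 D1338
theorem N939 : nd 939 = n1339 := ndS (p := 427) (l := 7) rfl N427 D1339
theorem N940 : nd 940 = n1340 := ndS (p := 428) (l := 6) rfl N428 D1340
theorem N941 : nd 941 = n1341 := ndS (p := 429) (l := 0) rfl N429 D1341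
theorem N942 : nd 942 = n1342 := ndS (p := 429) (l := 1) rfl N429 D1342
theorem N943 : nd 943 = n1343 := ndS (p := 429) (l := 5) rfl N429 D1343
theorem N944 : nd 944 = n1344 := ndS (p := 429) (l := 7) rfl N429 D1344
theorem N945 : nd 945 = n1347 := ndS (p := 430) (l := 4) rfl N430 D1347
theorem N946 : nd 946 = n1348 := ndS (p := 430) (l := 5) rfl N430 D1348
theorem N947 : nd 947 = n1350 := ndS (p := 431) (l := 3) rfl N431 D1350
theorem N948 : nd 948 = n1351 := ndS (p := 431) (l := 4) rfl N431 D1351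
theorem N949 : nd 949 = n1352 := ndS (p := 431) (l := 5) rfl N431 D1352
theorem N950 : nd 950 = n1353 := ndS (p := 431) (l := 6) rfl N431 D1353
theorem N951 : nd 951 = n1354 := ndS (p := 432) (l := 0) rfl N432 D1354
theorem N952 : nd 952 = n1355 := ndS (p := 432) (l := 1) rfl N432 D1355
theorem N953 : nd 953 = n1356 := ndS (p := 432) (l := 4) rfl N432 D1356
theorem N954 : nd 954 = n1357 := ndS (p := 432) (l := 7) rfl N432 D1357
theorem N955 : nd 955 = n1358 := ndS (p := 434) (l := 0) rfl N434 D1358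
theorem N956 : nd 956 = n1359 := ndS (p := 434) (l := 1) rfl N434 D1359
theorem N957 : nd 957 = n1360 := ndS (p := 434) (l := 2) rfl N434 D1360
theorem N958 : nd 958 = n1361 := ndS (p := 434) (l := 6) rfl N434 D1361
theorem N959 : nd 959 = n1364 := ndS (p := 435) (l := 5) rfl N435 D1364
theorem N960 : nd 960 = n1365 := ndS (p := 435) (l := 7) rfl N435 D1365
theorem N961 : nd 961 = n1366 := ndS (p := 436) (l := 1) rfl N436 D1366
theorem N962 : nd 962 = n1367 := ndS (p := 436) (l := 2) rfl N436 D1367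
theorem N963 : nd 963 = n1368 := ndS (p := 436) (l := 4) rfl N436 D1368
theorem N964 : nd 964 = n1369 := ndS (p := 436) (l := 6) rfl N436 D1369
theorem N965 : nd 965 = n1372 := ndS (p := 437) (l := 5) rfl N437 D1372
theorem N966 : nd 966 = n1373 := ndS (p := 437) (l := 7) rfl N437 D1373
theorem N967 : nd 967 = n1375 := ndS (p := 438) (l := 3) rfl N438 D1375
theorem N968 : nd 968 = n1376 := ndS (p := 438) (l := 4) rfl N438 D1376
theorem N969 : nd 969 = n1378 := ndS (p := 438) (l := 6) rfl N438 D1378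
theorem N970 : nd 970 = n1380 := ndS (p := 439) (l := 3) rfl N439 D1380
theorem N971 : nd 971 = n1382 := ndS (p := 439) (l := 6) rfl N439 D1382
theorem N972 : nd 972 = n1383 := ndS (p := 440) (l := 5) rfl N440 D1383
theorem N973 : nd 973 = n1384 := ndS (p := 440) (l := 6) rfl N440 D1384
theorem N974 : nd 974 = n1385 := ndS (p := 441) (l := 0) rfl N441 D1385
theorem N975 : nd 975 = n1386 := ndS (p := 441) (l := 1) rfl N441 D1386
theorem N976 : nd 976 = n1387 := ndS (p := 441) (l := 4) rfl N441 D1387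
theorem N977 : nd 977 = n1388 := ndS (p := 441) (l := 6) rfl N441 D1388
theorem N978 : nd 978 = n1389 := ndS (p := 442) (l := 0) rfl N442 D1389
theorem N979 : nd 979 = n1390 := ndS (p := 442) (l := 1) rfl N442 D1390
theorem N980 : nd 980 = n1391 := ndS (p := 442) (l := 5) rfl N442 D1391
theorem N981 : nd 981 = n1392 := ndS (p := 442) (l := 7) rfl N442 D1392
theorem N982 : nd 982 = n1393 := ndS (p := 443) (l := 0) rfl N443 D1393
theorem N983 : nd 983 = n1394 := ndS (p := 443) (l := 1) rfl N443 D1394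
theorem N984 : nd 984 = n1395 := ndS (p := 443) (l := 5) rfl N443 D1395
theorem N985 : nd 985 = n1396 := ndS (p := 443) (l := 7) rfl N443 D1396
theorem N986 : nd 986 = n1398 := ndS (p := 444) (l := 3) rfl N444 D1398
theorem N987 : nd 987 = n1400 := ndS (p := 444) (l := 5) rfl N444 D1400
theorem N988 : nd 988 = n1401 := ndS (p := 444) (l := 6) rfl N444 D1401
theorem N989 : nd 989 = n1403 := ndS (p := 445) (l := 3) rfl N445 D1403
theorem N990 : nd 990 = n1405 := ndS (p := 445) (l := 5) rfl N445 D1405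
theorem N991 : nd 991 = n1406 := ndS (p := 445) (l := 6) rfl N445 D1406
theorem N992 : nd 992 = n1407 := ndS (p := 446) (l := 0) rfl N446 D1407
theorem N993 : nd 993 = n1408 := ndS (p := 446) (l := 1) rfl N446 D1408
theorem N994 : nd 994 = n1409 := ndS (p := 446) (l := 4) rfl N446 D1409
theorem N995 : nd 995 = n1410 := ndS (p := 446) (l := 7) rfl N446 D1410
theorem N996 : nd 996 = n1426 := ndS (p := 448) (l := 3) rfl N448 D1426
theorem N997 : nd 997 = n1427 := ndS (p := 448) (l := 5) rfl N448 D1427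
theorem N998 : nd 998 = n1428 := ndS (p := 448) (l := 6) rfl N448 D1428
theorem N999 : nd 999 = n1430 := ndS (p := 449) (l := 0) rfl N449 D1430
theorem N1000 : nd 1000 = n1431 := ndS (p := 449) (l := 1) rfl N449 D1431
theorem N1001 : nd 1001 = n1432 := ndS (p := 449) (l := 4) rfl N449 D1432
theorem N1002 : nd 1002 = n1433 := ndS (p := 449) (l := 6) rfl N449 D1433
theorem N1003 : nd 1003 = n1436 := ndS (p := 450) (l := 1) rfl N450 D1436
theorem N1004 : nd 1004 = n1437 := ndS (p := 450) (l := 5) rfl N450 D1437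
theorem N1005 : nd 1005 = n1438 := ndS (p := 450) (l := 7) rfl N450 D1438
theorem N1006 : nd 1006 = n1441 := ndS (p := 451) (l := 1) rfl N451 D1441
theorem N1007 : nd 1007 = n1444 := ndS (p := 451) (l := 5) rfl N451 D1444
theorem N1008 : nd 1008 = n1445 := ndS (p := 451) (l := 6) rfl N451 D1445
theorem N1009 : nd 1009 = n1446 := ndS (p := 452) (l := 3) rfl N452 D1446
theorem N1010 : nd 1010 = n1447 := ndS (p := 452) (l := 5) rfl N452 D1447
theorem N1011 : nd 1011 = n1448 := ndS (p := 452) (l := 6) rfl N452 D1448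
theorem N1012 : nd 1012 = n1449 := ndS (p := 453) (l := 4) rfl N453 D1449
theorem N1013 : nd 1013 = n1450 := ndS (p := 453) (l := 6) rfl N453 D1450
theorem N1014 : nd 1014 = n1452 := ndS (p := 454) (l := 5) rfl N454 D1452
theorem N1015 : nd 1015 = n1456 := ndS (p := 455) (l := 4) rfl N455 D1456
theorem N1016 : nd 1016 = n1457 := ndS (p := 455) (l := 5) rfl N455 D1457
theorem N1017 : nd 1017 = n1458 := ndS (p := 455) (l := 6) rfl N455 D1458
theorem N1018 : nd 1018 = n1460 := ndS (p := 456) (l := 3) rfl N456 D1460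
theorem N1019 : nd 1019 = n1461 := ndS (p := 456) (l := 4) rfl N456 D1461
theorem N1020 : nd 1020 = n1462 := ndS (p := 456) (l := 5) rfl N456 D1462
theorem N1021 : nd 1021 = n1463 := ndS (p := 456) (l := 6) rfl N456 D1463
theorem N1022 : nd 1022 = n1464 := ndS (p := 457) (l := 0) rfl N457 D1464
theorem N1023 : nd 1023 = n1465 := ndS (p := 457) (l := 1) rfl N457 D1465
theorem N1024 : nd 1024 = n1466 := ndS (p := 457) (l := 3) rfl N457 D1466
theorem N1025 : nd 1025 = n1467 := ndS (p := 457) (l := 5) rfl N457 D1467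
theorem N1026 : nd 1026 = n1468 := ndS (p := 457) (l := 7) rfl N457 D1468
theorem N1027 : nd 1027 = n1469 := ndS (p := 458) (l := 6) rfl N458 D1469
theorem N1028 : nd 1028 = n1470 := ndS (p := 459) (l := 3) rfl N459 D1470
theorem N1029 : nd 1029 = n1471 := ndS (p := 459) (l := 4) rfl N459 D1471
theorem N1030 : nd 1030 = n1472 := ndS (p := 459) (l := 6) rfl N459 D1472
theorem N1031 : nd 1031 = n1473 := ndS (p := 460) (l := 0) rfl N460 D1473
theorem N1032 : nd 1032 = n1474 := ndS (p := 460) (l := 1) rfl N460 D1474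
theorem N1033 : nd 1033 = n1475 := ndS (p := 460) (l := 3) rfl N460 D1475
theorem N1034 : nd 1034 = n1476 := ndS (p := 460) (l := 5) rfl N460 D1476
theorem N1035 : nd 1035 = n1477 := ndS (p := 460) (l := 6) rfl N460 D1477
theorem N1036 : nd 1036 = n1478 := ndS (p := 461) (l := 0) rfl N461 D1478
theorem N1037 : nd 1037 = n1479 := ndS (p := 461) (l := 1) rfl N461 D1479
theorem N1038 : nd 1038 = n1480 := ndS (p := 461) (l := 7) rfl N461 D1480
theorem N1039 : nd 1039 = n1481 := ndS (p := 462) (l := 5) rfl N462 D1481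
theorem N1040 : nd 1040 = n1482 := ndS (p := 463) (l := 0) rfl N463 D1482
theorem N1041 : nd 1041 = n1483 := ndS (p := 463) (l := 1) rfl N463 D1483
theorem N1042 : nd 1042 = n1484 := ndS (p := 463) (l := 4) rfl N463 D1484
theorem N1043 : nd 1043 = n1486 := ndS (p := 464) (l := 6) rfl N464 D1486
theorem N1044 : nd 1044 = n1487 := ndS (p := 465) (l := 3) rfl N465 D1487
theorem N1045 : nd 1045 = n1488 := ndS (p := 465) (l := 5) rfl N465 D1488
theorem N1046 : nd 1046 = n1490 := ndS (p := 466) (l := 0) rfl N466 D1490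
theorem N1047 : nd 1047 = n1491 := ndS (p := 466) (l := 1) rfl N466 D1491
theorem N1048 : nd 1048 = n1492 := ndS (p := 466) (l := 7) rfl N466 D1492
theorem N1049 : nd 1049 = n1493 := ndS (p := 467) (l := 3) rfl N467 D1493
theorem N1050 : nd 1050 = n1494 := ndS (p := 467) (l := 5) rfl N467 D1494
theorem N1051 : nd 1051 = n1495 := ndS (p := 468) (l := 4) rfl N468 D1495
theorem N1052 : nd 1052 = n1496 := ndS (p := 468) (l := 6) rfl N468 D1496
theorem N1053 : nd 1053 = n1497 := ndS (p := 469) (l := 3) rfl N469 D1497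
theorem N1054 : nd 1054 = n1498 := ndS (p := 469) (l := 5) rfl N469 D1498
theorem N1055 : nd 1055 = n1499 := ndS (p := 469) (l := 6) rfl N469 D1499
theorem N1056 : nd 1056 = n1500 := ndS (p := 470) (l := 0) rfl N470 D1500
theorem N1057 : nd 1057 = n1501 := ndS (p := 470) (l := 1) rfl N470 D1501
theorem N1058 : nd 1058 = n1502 := ndS (p := 470) (l := 7) rfl N470 D1502
theorem N1059 : nd 1059 = n1503 := ndS (p := 471) (l := 3) rfl N471 D1503
theorem N1060 : nd 1060 = n1504 := ndS (p := 471) (l := 5) rfl N471 D1504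
theorem N1061 : nd 1061 = n1505 := ndS (p := 471) (l := 6) rfl N471 D1505
theorem N1062 : nd 1062 = n1506 := ndS (p := 472) (l := 3) rfl N472 D1506
theorem N1063 : nd 1063 = n1507 := ndS (p := 472) (l := 5) rfl N472 D1507
theorem N1064 : nd 1064 = n1508 := ndS (p := 472) (l := 6) rfl N472 D1508
theorem N1065 : nd 1065 = n1509 := ndS (p := 473) (l := 0) rfl N473 D1509
theorem N1066 : nd 1066 = n1510 := ndS (p := 473) (l := 1) rfl N473 D1510
theorem N1067 : nd 1067 = n1511 := ndS (p := 473) (l := 2) rfl N473 D1511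
theorem N1068 : nd 1068 = n1512 := ndS (p := 473) (l := 5) rfl N473 D1512
theorem N1069 : nd 1069 = n1513 := ndS (p := 473) (l := 7) rfl N473 D1513
theorem N1070 : nd 1070 = n1514 := ndS (p := 474) (l := 0) rfl N474 D1514
theorem N1071 : nd 1071 = n1515 := ndS (p := 474) (l := 1) rfl N474 D1515
theorem N1072 : nd 1072 = n1516 := ndS (p := 474) (l := 6) rfl N474 D1516
theorem N1073 : nd 1073 = n1517 := ndS (p := 475) (l := 6) rfl N475 D1517
theorem N1074 : nd 1074 = n1518 := ndS (p := 476) (l := 0) rfl N476 D1518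
theorem N1075 : nd 1075 = n1519 := ndS (p := 476) (l := 1) rfl N476 D1519
theorem N1076 : nd 1076 = n1520 := ndS (p := 478) (l := 6) rfl N478 D1520
theorem N1077 : nd 1077 = n1521 := ndS (p := 479) (l := 6) rfl N479 D1521
theorem N1078 : nd 1078 = n1522 := ndS (p := 480) (l := 6) rfl N480 D1522
theorem N1079 : nd 1079 = n1523 := ndS (p := 481) (l := 1) rfl N481 D1523
theorem N1080 : nd 1080 = n1524 := ndS (p := 484) (l := 3) rfl N484 D1524
theorem N1081 : nd 1081 = n1525 := ndS (p := 486) (l := 6) rfl N486 D1525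
theorem N1082 : nd 1082 = n1526 := ndS (p := 487) (l := 1) rfl N487 D1526
theorem N1083 : nd 1083 = n1527 := ndS (p := 488) (l := 4) rfl N488 D1527
theorem N1084 : nd 1084 = n1528 := ndS (p := 489) (l := 0) rfl N489 D1528
theorem N1085 : nd 1085 = n1529 := ndS (p := 489) (l := 1) rfl N489 D1529
theorem N1086 : nd 1086 = n1530 := ndS (p := 489) (l := 2) rfl N489 D1530
theorem N1087 : nd 1087 = n1531 := ndS (p := 489) (l := 6) rfl N489 D1531
theorem N1088 : nd 1088 = n1532 := ndS (p := 490) (l := 0) rfl N490 D1532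
theorem N1089 : nd 1089 = n1533 := ndS (p := 490) (l := 1) rfl N490 D1533
theorem N1090 : nd 1090 = n1534 := ndS (p := 490) (l := 5) rfl N490 D1534
theorem N1091 : nd 1091 = n1535 := ndS (p := 490) (l := 7) rfl N490 D1535
theorem N1092 : nd 1092 = n1538 := ndS (p := 491) (l := 4) rfl N491 D1538
theorem N1093 : nd 1093 = n1539 := ndS (p := 491) (l := 5) rfl N491 D1539
theorem N1094 : nd 1094 = n1540 := ndS (p := 491) (l := 6) rfl N491 D1540
theorem N1095 : nd 1095 = n1542 := ndS (p := 492) (l := 3) rfl N492 D1542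
theorem N1096 : nd 1096 = n1543 := ndS (p := 492) (l := 4) rfl N492 D1543
theorem N1097 : nd 1097 = n1544 := ndS (p := 492) (l := 5) rfl N492 D1544
theorem N1098 : nd 1098 = n1545 := ndS (p := 492) (l := 6) rfl N492 D1545
theorem N1099 : nd 1099 = n1546 := ndS (p := 493) (l := 0) rfl N493 D1546
theorem N1100 : nd 1100 = n1547 := ndS (p := 493) (l := 1) rfl N493 D1547
theorem N1101 : nd 1101 = n1548 := ndS (p := 493) (l := 4) rfl N493 D1548
theorem N1102 : nd 1102 = n1549 := ndS (p := 493) (l := 7) rfl N493 D1549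
theorem N1103 : nd 1103 = n1550 := ndS (p := 495) (l := 3) rfl N495 D1550
theorem N1104 : nd 1104 = n1551 := ndS (p := 495) (l := 5) rfl N495 D1551
theorem N1105 : nd 1105 = n1552 := ndS (p := 495) (l := 7) rfl N495 D1552
theorem N1106 : nd 1106 = n1553 := ndS (p := 496) (l := 6) rfl N496 D1553
theorem N1107 : nd 1107 = n1554 := ndS (p := 497) (l := 0) rfl N497 D1554
theorem N1108 : nd 1108 = n1555 := ndS (p := 497) (l := 2) rfl N497 D1555
theorem N1109 : nd 1109 = n1556 := ndS (p := 497) (l := 5) rfl N497 D1556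
theorem N1110 : nd 1110 = n1557 := ndS (p := 498) (l := 6) rfl N498 D1557
theorem N1111 : nd 1111 = n1558 := ndS (p := 499) (l := 3) rfl N499 D1558
theorem N1112 : nd 1112 = n1559 := ndS (p := 499) (l := 6) rfl N499 D1559
theorem N1113 : nd 1113 = n1560 := ndS (p := 500) (l := 3) rfl N500 D1560
theorem N1114 : nd 1114 = n1561 := ndS (p := 500) (l := 6) rfl N500 D1561
theorem N1115 : nd 1115 = n1562 := ndS (p := 501) (l := 0) rfl N501 D1562
theorem N1116 : nd 1116 = n1563 := ndS (p := 501) (l := 1) rfl N501 D1563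
theorem N1117 : nd 1117 = n1564 := ndS (p := 501) (l := 2) rfl N501 D1564
theorem N1118 : nd 1118 = n1565 := ndS (p := 501) (l := 5) rfl N501 D1565
theorem N1119 : nd 1119 = n1566 := ndS (p := 501) (l := 7) rfl N501 D1566
theorem N1120 : nd 1120 = n1567 := ndS (p := 502) (l := 4) rfl N502 D1567
theorem N1121 : nd 1121 = n1568 := ndS (p := 502) (l := 6) rfl N502 D1568
theorem N1122 : nd 1122 = n1569 := ndS (p := 502) (l := 7) rfl N502 D1569
theorem N1123 : nd 1123 = n1570 := ndS (p := 503) (l := 6) rfl N503 D1570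
theorem N1124 : nd 1124 = n1571 := ndS (p := 505) (l := 5) rfl N505 D1571
theorem N1125 : nd 1125 = n1572 := ndS (p := 506) (l := 4) rfl N506 D1572
theorem N1126 : nd 1126 = n1573 := ndS (p := 506) (l := 6) rfl N506 D1573
theorem N1127 : nd 1127 = n1574 := ndS (p := 507) (l := 5) rfl N507 D1574
theorem N1128 : nd 1128 = n1575 := ndS (p := 508) (l := 5) rfl N508 D1575
theorem N1129 : nd 1129 = n1576 := ndS (p := 509) (l := 0) rfl N509 D1576
theorem N1130 : nd 1130 = n1577 := ndS (p := 509) (l := 1) rfl N509 D1577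
theorem N1131 : nd 1131 = n1578 := ndS (p := 509) (l := 4) rfl N509 D1578
theorem N1132 : nd 1132 = n1579 := ndS (p := 509) (l := 6) rfl N509 D1579
theorem N1133 : nd 1133 = n1580 := ndS (p := 510) (l := 3) rfl N510 D1580
theorem N1134 : nd 1134 = n1581 := ndS (p := 510) (l := 4) rfl N510 D1581
theorem N1135 : nd 1135 = n1582 := ndS (p := 510) (l := 6) rfl N510 D1582
theorem N1136 : nd 1136 = n1583 := ndS (p := 511) (l := 3) rfl N511 D1583
theorem N1137 : nd 1137 = n1584 := ndS (p := 511) (l := 6) rfl N511 D1584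
theorem N1138 : nd 1138 = n1585 := ndS (p := 512) (l := 0) rfl N512 D1585
theorem N1139 : nd 1139 = n1586 := ndS (p := 512) (l := 1) rfl N512 D1586
theorem N1140 : nd 1140 = n1587 := ndS (p := 512) (l := 7) rfl N512 D1587
theorem N1141 : nd 1141 = n1588 := ndS (p := 513) (l := 3) rfl N513 D1588
theorem N1142 : nd 1142 = n1589 := ndS (p := 513) (l := 5) rfl N513 D1589
theorem N1143 : nd 1143 = n1590 := ndS (p := 513) (l := 6) rfl N513 D1590
theorem N1144 : nd 1144 = n1591 := ndS (p := 515) (l := 3) rfl N515 D1591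
theorem N1145 : nd 1145 = n1592 := ndS (p := 515) (l := 5) rfl N515 D1592
theorem N1146 : nd 1146 = n1593 := ndS (p := 515) (l := 6) rfl N515 D1593
theorem N1147 : nd 1147 = n1594 := ndS (p := 516) (l := 3) rfl N516 D1594
theorem N1148 : nd 1148 = n1595 := ndS (p := 516) (l := 5) rfl N516 D1595
theorem N1149 : nd 1149 = n1596 := ndS (p := 517) (l := 0) rfl N517 D1596
theorem N1150 : nd 1150 = n1597 := ndS (p := 517) (l := 1) rfl N517 D1597
theorem N1151 : nd 1151 = n1598 := ndS (p := 517) (l := 2) rfl N517 D1598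
theorem N1152 : nd 1152 = n1599 := ndS (p := 517) (l := 5) rfl N517 D1599
theorem N1153 : nd 1153 = n1600 := ndS (p := 517) (l := 6) rfl N517 D1600
theorem N1154 : nd 1154 = n1601 := ndS (p := 518) (l := 0) rfl N518 D1601
theorem N1155 : nd 1155 = n1602 := ndS (p := 518) (l := 6) rfl N518 D1602
theorem N1156 : nd 1156 = n1603 := ndS (p := 519) (l := 0) rfl N519 D1603
theorem N1157 : nd 1157 = n1604 := ndS (p := 519) (l := 1) rfl N519 D1604
theorem N1158 : nd 1158 = n1605 := ndS (p := 519) (l := 5) rfl N519 D1605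
theorem N1159 : nd 1159 = n1606 := ndS (p := 519) (l := 7) rfl N519 D1606
theorem N1160 : nd 1160 = n1609 := ndS (p := 520) (l := 4) rfl N520 D1609
theorem N1161 : nd 1161 = n1612 := ndS (p := 521) (l := 4) rfl N521 D1612
theorem N1162 : nd 1162 = n1613 := ndS (p := 523) (l := 0) rfl N523 D1613
theorem N1163 : nd 1163 = n1614 := ndS (p := 523) (l := 4) rfl N523 D1614
theorem N1164 : nd 1164 = n1615 := ndS (p := 523) (l := 6) rfl N523 D1615
theorem N1165 : nd 1165 = n1616 := ndS (p := 524) (l := 3) rfl N524 D1616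
theorem N1166 : nd 1166 = n1617 := ndS (p := 524) (l := 6) rfl N524 D1617
theorem N1167 : nd 1167 = n1618 := ndS (p := 525) (l := 0) rfl N525 D1618
theorem N1168 : nd 1168 = n1619 := ndS (p := 525) (l := 1) rfl N525 D1619
theorem N1169 : nd 1169 = n1620 := ndS (p := 525) (l := 7) rfl N525 D1620
theorem N1170 : nd 1170 = n1621 := ndS (p := 526) (l := 0) rfl N526 D1621
theorem N1171 : nd 1171 = n1622 := ndS (p := 526) (l := 1) rfl N526 D1622
theorem N1172 : nd 1172 = n1623 := ndS (p := 526) (l := 2) rfl N526 D1623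
theorem N1173 : nd 1173 = n1624 := ndS (p := 526) (l := 5) rfl N526 D1624
theorem N1174 : nd 1174 = n1625 := ndS (p := 526) (l := 6) rfl N526 D1625
theorem N1175 : nd 1175 = n1626 := ndS (p := 527) (l := 6) rfl N527 D1626
theorem N1176 : nd 1176 = n1627 := ndS (p := 528) (l := 0) rfl N528 D1627
theorem N1177 : nd 1177 = n1628 := ndS (p := 528) (l := 1) rfl N528 D1628
theorem N1178 : nd 1178 = n1629 := ndS (p := 528) (l := 5) rfl N528 D1629
theorem N1179 : nd 1179 = n1630 := ndS (p := 528) (l := 7) rfl N528 D1630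
theorem N1180 : nd 1180 = n1631 := ndS (p := 530) (l := 3) rfl N530 D1631
theorem N1181 : nd 1181 = n1632 := ndS (p := 531) (l := 0) rfl N531 D1632
theorem N1182 : nd 1182 = n1633 := ndS (p := 531) (l := 1) rfl N531 D1633
theorem N1183 : nd 1183 = n1634 := ndS (p := 531) (l := 2) rfl N531 D1634
theorem N1184 : nd 1184 = n1635 := ndS (p := 531) (l := 5) rfl N531 D1635
theorem N1185 : nd 1185 = n1636 := ndS (p := 532) (l := 0) rfl N532 D1636
theorem N1186 : nd 1186 = n1637 := ndS (p := 532) (l := 1) rfl N532 D1637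
theorem N1187 : nd 1187 = n1638 := ndS (p := 532) (l := 6) rfl N532 D1638
theorem N1188 : nd 1188 = n1639 := ndS (p := 533) (l := 0) rfl N533 D1639
theorem N1189 : nd 1189 = n1640 := ndS (p := 533) (l := 1) rfl N533 D1640
theorem N1190 : nd 1190 = n1641 := ndS (p := 533) (l := 2) rfl N533 D1641
theorem N1191 : nd 1191 = n1642 := ndS (p := 533) (l := 5) rfl N533 D1642
theorem N1192 : nd 1192 = n1643 := ndS (p := 533) (l := 6) rfl N533 D1643
theorem N1193 : nd 1193 = n1645 := ndS (p := 535) (l := 0) rfl N535 D1645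
theorem N1194 : nd 1194 = n1646 := ndS (p := 535) (l := 1) rfl N535 D1646
theorem N1195 : nd 1195 = n1649 := ndS (p := 536) (l := 4) rfl N536 D1649
theorem N1196 : nd 1196 = n1651 := ndS (p := 537) (l := 4) rfl N537 D1651
theorem N1197 : nd 1197 = n1652 := ndS (p := 538) (l := 0) rfl N538 D1652
theorem N1198 : nd 1198 = n1653 := ndS (p := 538) (l := 1) rfl N538 D1653
theorem N1199 : nd 1199 = n1654 := ndS (p := 538) (l := 2) rfl N538 D1654
theorem N1200 : nd 1200 = n1655 := ndS (p := 538) (l := 5) rfl N538 D1655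
theorem N1201 : nd 1201 = n1656 := ndS (p := 539) (l := 6) rfl N539 D1656
theorem N1202 : nd 1202 = n1657 := ndS (p := 540) (l := 0) rfl N540 D1657
theorem N1203 : nd 1203 = n1658 := ndS (p := 540) (l := 1) rfl N540 D1658
theorem N1204 : nd 1204 = n1659 := ndS (p := 540) (l := 2) rfl N540 D1659
theorem N1205 : nd 1205 = n1660 := ndS (p := 540) (l := 5) rfl N540 D1660
theorem N1206 : nd 1206 = n1661 := ndS (p := 540) (l := 6) rfl N540 D1661
theorem N1207 : nd 1207 = n1662 := ndS (p := 541) (l := 6) rfl N541 D1662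
theorem N1208 : nd 1208 = n1663 := ndS (p := 542) (l := 6) rfl N542 D1663
theorem N1209 : nd 1209 = n1666 := ndS (p := 543) (l := 5) rfl N543 D1666
theorem N1210 : nd 1210 = n1667 := ndS (p := 544) (l := 0) rfl N544 D1667
theorem N1211 : nd 1211 = n1668 := ndS (p := 544) (l := 2) rfl N544 D1668
theorem N1212 : nd 1212 = n1669 := ndS (p := 544) (l := 3) rfl N544 D1669
theorem N1213 : nd 1213 = n1670 := ndS (p := 544) (l := 4) rfl N544 D1670
theorem N1214 : nd 1214 = n1671 := ndS (p := 544) (l := 5) rfl N544 D1671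
theorem N1215 : nd 1215 = n1673 := ndS (p := 544) (l := 7) rfl N544 D1673
theorem N1216 : nd 1216 = n1674 := ndS (p := 545) (l := 3) rfl N545 D1674
theorem N1217 : nd 1217 = n1675 := ndS (p := 545) (l := 4) rfl N545 D1675
theorem N1218 : nd 1218 = n1676 := ndS (p := 545) (l := 5) rfl N545 D1676
theorem N1219 : nd 1219 = n1677 := ndS (p := 545) (l := 6) rfl N545 D1677
theorem N1220 : nd 1220 = n1680 := ndS (p := 546) (l := 5) rfl N546 D1680
theorem N1221 : nd 1221 = n1681 := ndS (p := 547) (l := 0) rfl N547 D1681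
theorem N1222 : nd 1222 = n1682 := ndS (p := 547) (l := 1) rfl N547 D1682
theorem N1223 : nd 1223 = n1683 := ndS (p := 547) (l := 4) rfl N547 D1683
theorem N1224 : nd 1224 = n1684 := ndS (p := 547) (l := 6) rfl N547 D1684
theorem N1225 : nd 1225 = n1685 := ndS (p := 547) (l := 7) rfl N547 D1685
theorem N1226 : nd 1226 = n1686 := ndS (p := 548) (l := 6) rfl N548 D1686
theorem N1227 : nd 1227 = n1687 := ndS (p := 549) (l := 3) rfl N549 D1687
theorem N1228 : nd 1228 = n1688 := ndS (p := 549) (l := 6) rfl N549 D1688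
theorem N1229 : nd 1229 = n1689 := ndS (p := 550) (l := 3) rfl N550 D1689
theorem N1230 : nd 1230 = n1690 := ndS (p := 550) (l := 6) rfl N550 D1690
theorem N1231 : nd 1231 = n1691 := ndS (p := 551) (l := 3) rfl N551 D1691
theorem N1232 : nd 1232 = n1692 := ndS (p := 551) (l := 6) rfl N551 D1692
theorem N1233 : nd 1233 = n1693 := ndS (p := 552) (l := 0) rfl N552 D1693
theorem N1234 : nd 1234 = n1694 := ndS (p := 552) (l := 1) rfl N552 D1694
theorem N1235 : nd 1235 = n1695 := ndS (p := 552) (l := 7) rfl N552 D1695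
theorem N1236 : nd 1236 = n1696 := ndS (p := 553) (l := 6) rfl N553 D1696
theorem N1237 : nd 1237 = n1697 := ndS (p := 554) (l := 0) rfl N554 D1697
theorem N1238 : nd 1238 = n1698 := ndS (p := 554) (l := 1) rfl N554 D1698
theorem N1239 : nd 1239 = n1699 := ndS (p := 554) (l := 5) rfl N554 D1699
theorem N1240 : nd 1240 = n1700 := ndS (p := 557) (l := 3) rfl N557 D1700
theorem N1241 : nd 1241 = n1701 := ndS (p := 557) (l := 5) rfl N557 D1701
theorem N1242 : nd 1242 = n1702 := ndS (p := 558) (l := 6) rfl N558 D1702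
theorem N1243 : nd 1243 = n1703 := ndS (p := 559) (l := 6) rfl N559 D1703
theorem N1244 : nd 1244 = n1704 := ndS (p := 560) (l := 6) rfl N560 D1704
theorem N1245 : nd 1245 = n1705 := ndS (p := 561) (l := 3) rfl N561 D1705
theorem N1246 : nd 1246 = n1706 := ndS (p := 561) (l := 6) rfl N561 D1706
theorem N1247 : nd 1247 = n1707 := ndS (p := 562) (l := 0) rfl N562 D1707
theorem N1248 : nd 1248 = n1708 := ndS (p := 562) (l := 1) rfl N562 D1708
theorem N1249 : nd 1249 = n1709 := ndS (p := 562) (l := 7) rfl N562 D1709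
theorem N1250 : nd 1250 = n1710 := ndS (p := 563) (l := 3) rfl N563 D1710
theorem N1251 : nd 1251 = n1711 := ndS (p := 564) (l := 7) rfl N564 D1711
theorem N1252 : nd 1252 = n1712 := ndS (p := 565) (l := 0) rfl N565 D1712
theorem N1253 : nd 1253 = n1713 := ndS (p := 565) (l := 1) rfl N565 D1713
theorem N1254 : nd 1254 = n1714 := ndS (p := 566) (l := 0) rfl N566 D1714
theorem N1255 : nd 1255 = n1715 := ndS (p := 566) (l := 1) rfl N566 D1715
theorem N1256 : nd 1256 = n1716 := ndS (p := 566) (l := 2) rfl N566 D1716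
theorem N1257 : nd 1257 = n1717 := ndS (p := 566) (l := 5) rfl N566 D1717
theorem N1258 : nd 1258 = n1718 := ndS (p := 566) (l := 7) rfl N566 D1718
theorem N1259 : nd 1259 = n1719 := ndS (p := 567) (l := 4) rfl N567 D1719
theorem N1260 : nd 1260 = n1720 := ndS (p := 567) (l := 6) rfl N567 D1720
theorem N1261 : nd 1261 = n1721 := ndS (p := 567) (l := 7) rfl N567 D1721
theorem N1262 : nd 1262 = n1722 := ndS (p := 568) (l := 6) rfl N568 D1722
theorem N1263 : nd 1263 = n1723 := ndS (p := 570) (l := 0) rfl N570 D1723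
theorem N1264 : nd 1264 = n1724 := ndS (p := 570) (l := 1) rfl N570 D1724
theorem N1265 : nd 1265 = n1725 := ndS (p := 570) (l := 2) rfl N570 D1725
theorem N1266 : nd 1266 = n1726 := ndS (p := 570) (l := 5) rfl N570 D1726
theorem N1267 : nd 1267 = n1727 := ndS (p := 571) (l := 6) rfl N571 D1727
theorem N1268 : nd 1268 = n1728 := ndS (p := 573) (l := 0) rfl N573 D1728
theorem N1269 : nd 1269 = n1729 := ndS (p := 573) (l := 1) rfl N573 D1729
theorem N1270 : nd 1270 = n1730 := ndS (p := 573) (l := 7) rfl N573 D1730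
theorem N1271 : nd 1271 = n1731 := ndS (p := 574) (l := 0) rfl N574 D1731
theorem N1272 : nd 1272 = n1732 := ndS (p := 574) (l := 1) rfl N574 D1732
theorem N1273 : nd 1273 = n1733 := ndS (p := 574) (l := 2) rfl N574 D1733
theorem N1274 : nd 1274 = n1734 := ndS (p := 574) (l := 6) rfl N574 D1734
theorem N1275 : nd 1275 = n1735 := ndS (p := 575) (l := 5) rfl N575 D1735
theorem N1276 : nd 1276 = n1736 := ndS (p := 575) (l := 7) rfl N575 D1736
theorem N1277 : nd 1277 = n1739 := ndS (p := 579) (l := 0) rfl N579 D1739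
theorem N1278 : nd 1278 = n1740 := ndS (p := 579) (l := 1) rfl N579 D1740
theorem N1279 : nd 1279 = n1741 := ndS (p := 579) (l := 2) rfl N579 D1741
theorem N1280 : nd 1280 = n1742 := ndS (p := 579) (l := 6) rfl N579 D1742
theorem N1281 : nd 1281 = n1743 := ndS (p := 580) (l := 5) rfl N580 D1743
theorem N1282 : nd 1282 = n1745 := ndS (p := 583) (l := 0) rfl N583 D1745
theorem N1283 : nd 1283 = n1746 := ndS (p := 583) (l := 2) rfl N583 D1746
theorem N1284 : nd 1284 = n1747 := ndS (p := 583) (l := 3) rfl N583 D1747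
theorem N1285 : nd 1285 = n1748 := ndS (p := 583) (l := 4) rfl N583 D1748
theorem N1286 : nd 1286 = n1749 := ndS (p := 583) (l := 5) rfl N583 D1749
theorem N1287 : nd 1287 = n1751 := ndS (p := 583) (l := 7) rfl N583 D1751
theorem N1288 : nd 1288 = n1752 := ndS (p := 584) (l := 3) rfl N584 D1752
theorem N1289 : nd 1289 = n1753 := ndS (p := 584) (l := 4) rfl N584 D1753
theorem N1290 : nd 1290 = n1754 := ndS (p := 584) (l := 5) rfl N584 D1754
theorem N1291 : nd 1291 = n1755 := ndS (p := 584) (l := 6) rfl N584 D1755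
theorem N1292 : nd 1292 = n1758 := ndS (p := 585) (l := 5) rfl N585 D1758
theorem N1293 : nd 1293 = n1759 := ndS (p := 586) (l := 0) rfl N586 D1759
theorem N1294 : nd 1294 = n1760 := ndS (p := 586) (l := 1) rfl N586 D1760
theorem N1295 : nd 1295 = n1761 := ndS (p := 586) (l := 4) rfl N586 D1761
theorem N1296 : nd 1296 = n1762 := ndS (p := 586) (l := 6) rfl N586 D1762
theorem N1297 : nd 1297 = n1763 := ndS (p := 587) (l := 6) rfl N587 D1763
theorem N1298 : nd 1298 = n1764 := ndS (p := 588) (l := 0) rfl N588 D1764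
theorem N1299 : nd 1299 = n1765 := ndS (p := 588) (l := 1) rfl N588 D1765
theorem N1300 : nd 1300 = n1766 := ndS (p := 588) (l := 7) rfl N588 D1766
theorem N1301 : nd 1301 = n1767 := ndS (p := 589) (l := 5) rfl N589 D1767
theorem N1302 : nd 1302 = n1768 := ndS (p := 590) (l := 0) rfl N590 D1768
theorem N1303 : nd 1303 = n1769 := ndS (p := 590) (l := 2) rfl N590 D1769
theorem N1304 : nd 1304 = n1770 := ndS (p := 590) (l := 3) rfl N590 D1770
theorem N1305 : nd 1305 = n1771 := ndS (p := 590) (l := 4) rfl N590 D1771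
theorem N1306 : nd 1306 = n1773 := ndS (p := 590) (l := 6) rfl N590 D1773
theorem N1307 : nd 1307 = n1774 := ndS (p := 590) (l := 7) rfl N590 D1774
theorem N1308 : nd 1308 = n1775 := ndS (p := 591) (l := 3) rfl N591 D1775
theorem N1309 : nd 1309 = n1776 := ndS (p := 591) (l := 4) rfl N591 D1776
theorem N1310 : nd 1310 = n1778 := ndS (p := 591) (l := 6) rfl N591 D1778
theorem N1311 : nd 1311 = n1781 := ndS (p := 592) (l := 5) rfl N592 D1781
theorem N1312 : nd 1312 = n1782 := ndS (p := 593) (l := 0) rfl N593 D1782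
theorem N1313 : nd 1313 = n1783 := ndS (p := 593) (l := 1) rfl N593 D1783
theorem N1314 : nd 1314 = n1784 := ndS (p := 593) (l := 4) rfl N593 D1784
theorem N1315 : nd 1315 = n1785 := ndS (p := 593) (l := 6) rfl N593 D1785
theorem N1316 : nd 1316 = n1786 := ndS (p := 593) (l := 7) rfl N593 D1786
theorem N1317 : nd 1317 = n1787 := ndS (p := 594) (l := 6) rfl N594 D1787
theorem N1318 : nd 1318 = n1788 := ndS (p := 595) (l := 3) rfl N595 D1788
theorem N1319 : nd 1319 = n1789 := ndS (p := 595) (l := 6) rfl N595 D1789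
theorem N1320 : nd 1320 = n1790 := ndS (p := 596) (l := 0) rfl N596 D1790
theorem N1321 : nd 1321 = n1791 := ndS (p := 596) (l := 1) rfl N596 D1791
theorem N1322 : nd 1322 = n1792 := ndS (p := 596) (l := 7) rfl N596 D1792
theorem N1323 : nd 1323 = n1793 := ndS (p := 597) (l := 6) rfl N597 D1793
theorem N1324 : nd 1324 = n1794 := ndS (p := 598) (l := 5) rfl N598 D1794
theorem N1325 : nd 1325 = n1795 := ndS (p := 599) (l := 0) rfl N599 D1795
theorem N1326 : nd 1326 = n1796 := ndS (p := 599) (l := 1) rfl N599 D1796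
theorem N1327 : nd 1327 = n1797 := ndS (p := 599) (l := 2) rfl N599 D1797
theorem N1328 : nd 1328 = n1798 := ndS (p := 599) (l := 4) rfl N599 D1798
theorem N1329 : nd 1329 = n1799 := ndS (p := 599) (l := 6) rfl N599 D1799
theorem N1330 : nd 1330 = n1800 := ndS (p := 600) (l := 5) rfl N600 D1800
theorem N1331 : nd 1331 = n1802 := ndS (p := 601) (l := 3) rfl N601 D1802
theorem N1332 : nd 1332 = n1803 := ndS (p := 601) (l := 4) rfl N601 D1803
theorem N1333 : nd 1333 = n1804 := ndS (p := 601) (l := 5) rfl N601 D1804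
theorem N1334 : nd 1334 = n1805 := ndS (p := 601) (l := 6) rfl N601 D1805
theorem N1335 : nd 1335 = n1807 := ndS (p := 602) (l := 3) rfl N602 D1807
theorem N1336 : nd 1336 = n1808 := ndS (p := 602) (l := 4) rfl N602 D1808
theorem N1337 : nd 1337 = n1809 := ndS (p := 602) (l := 5) rfl N602 D1809
theorem N1338 : nd 1338 = n1811 := ndS (p := 603) (l := 5) rfl N603 D1811
theorem N1339 : nd 1339 = n1812 := ndS (p := 603) (l := 6) rfl N603 D1812
theorem N1340 : nd 1340 = n1813 := ndS (p := 604) (l := 0) rfl N604 D1813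
theorem N1341 : nd 1341 = n1814 := ndS (p := 604) (l := 1) rfl N604 D1814
theorem N1342 : nd 1342 = n1815 := ndS (p := 604) (l := 4) rfl N604 D1815
theorem N1343 : nd 1343 = n1816 := ndS (p := 604) (l := 6) rfl N604 D1816
theorem N1344 : nd 1344 = n1817 := ndS (p := 605) (l := 0) rfl N605 D1817
theorem N1345 : nd 1345 = n1818 := ndS (p := 605) (l := 1) rfl N605 D1818
theorem N1346 : nd 1346 = n1819 := ndS (p := 605) (l := 5) rfl N605 D1819
theorem N1347 : nd 1347 = n1820 := ndS (p := 605) (l := 7) rfl N605 D1820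
theorem N1348 : nd 1348 = n1821 := ndS (p := 606) (l := 0) rfl N606 D1821
theorem N1349 : nd 1349 = n1822 := ndS (p := 606) (l := 1) rfl N606 D1822
theorem N1350 : nd 1350 = n1823 := ndS (p := 606) (l := 5) rfl N606 D1823
theorem N1351 : nd 1351 = n1824 := ndS (p := 606) (l := 7) rfl N606 D1824
theorem N1352 : nd 1352 = n1825 := ndS (p := 607) (l := 3) rfl N607 D1825
theorem N1353 : nd 1353 = n1827 := ndS (p := 608) (l := 3) rfl N608 D1827
theorem N1354 : nd 1354 = n1828 := ndS (p := 608) (l := 5) rfl N608 D1828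
theorem N1355 : nd 1355 = n1829 := ndS (p := 609) (l := 4) rfl N609 D1829
theorem N1356 : nd 1356 = n1830 := ndS (p := 609) (l := 7) rfl N609 D1830
theorem N1357 : nd 1357 = n1831 := ndS (p := 611) (l := 4) rfl N611 D1831
theorem N1358 : nd 1358 = n1832 := ndS (p := 612) (l := 3) rfl N612 D1832
theorem N1359 : nd 1359 = n1834 := ndS (p := 613) (l := 3) rfl N613 D1834
theorem N1360 : nd 1360 = n1835 := ndS (p := 613) (l := 5) rfl N613 D1835
theorem N1361 : nd 1361 = n1837 := ndS (p := 614) (l := 3) rfl N614 D1837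
theorem N1362 : nd 1362 = n1838 := ndS (p := 614) (l := 4) rfl N614 D1838
theorem N1363 : nd 1363 = n1839 := ndS (p := 614) (l := 5) rfl N614 D1839
theorem N1364 : nd 1364 = n1842 := ndS (p := 615) (l := 3) rfl N615 D1842
theorem N1365 : nd 1365 = n1843 := ndS (p := 615) (l := 4) rfl N615 D1843
theorem N1366 : nd 1366 = n1844 := ndS (p := 615) (l := 5) rfl N615 D1844
theorem N1367 : nd 1367 = n1845 := ndS (p := 615) (l := 6) rfl N615 D1845
theorem N1368 : nd 1368 = n1846 := ndS (p := 616) (l := 5) rfl N616 D1846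
theorem N1369 : nd 1369 = n1847 := ndS (p := 616) (l := 6) rfl N616 D1847
theorem N1370 : nd 1370 = n1848 := ndS (p := 617) (l := 0) rfl N617 D1848
theorem N1371 : nd 1371 = n1849 := ndS (p := 617) (l := 1) rfl N617 D1849
theorem N1372 : nd 1372 = n1850 := ndS (p := 617) (l := 4) rfl N617 D1850
theorem N1373 : nd 1373 = n1851 := ndS (p := 617) (l := 6) rfl N617 D1851
theorem N1374 : nd 1374 = n1853 := ndS (p := 618) (l := 1) rfl N618 D1853
theorem N1375 : nd 1375 = n1854 := ndS (p := 618) (l := 5) rfl N618 D1854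
theorem N1376 : nd 1376 = n1855 := ndS (p := 618) (l := 7) rfl N618 D1855
theorem N1377 : nd 1377 = n1856 := ndS (p := 619) (l := 0) rfl N619 D1856
theorem N1378 : nd 1378 = n1857 := ndS (p := 619) (l := 1) rfl N619 D1857
theorem N1379 : nd 1379 = n1858 := ndS (p := 619) (l := 5) rfl N619 D1858
theorem N1380 : nd 1380 = n1859 := ndS (p := 619) (l := 7) rfl N619 D1859
theorem N1381 : nd 1381 = n1860 := ndS (p := 620) (l := 4) rfl N620 D1860
theorem N1382 : nd 1382 = n1861 := ndS (p := 620) (l := 7) rfl N620 D1861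
theorem N1383 : nd 1383 = n1863 := ndS (p := 622) (l := 3) rfl N622 D1863
theorem N1384 : nd 1384 = n1864 := ndS (p := 622) (l := 4) rfl N622 D1864
theorem N1385 : nd 1385 = n1866 := ndS (p := 622) (l := 6) rfl N622 D1866
theorem N1386 : nd 1386 = n1868 := ndS (p := 623) (l := 3) rfl N623 D1868
theorem N1387 : nd 1387 = n1869 := ndS (p := 623) (l := 4) rfl N623 D1869
theorem N1388 : nd 1388 = n1872 := ndS (p := 624) (l := 5) rfl N624 D1872
theorem N1389 : nd 1389 = n1875 := ndS (p := 625) (l := 4) rfl N625 D1875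
theorem N1390 : nd 1390 = n1876 := ndS (p := 625) (l := 6) rfl N625 D1876
theorem N1391 : nd 1391 = n1878 := ndS (p := 626) (l := 1) rfl N626 D1878
theorem N1392 : nd 1392 = n1879 := ndS (p := 626) (l := 7) rfl N626 D1879
theorem N1393 : nd 1393 = n1881 := ndS (p := 627) (l := 3) rfl N627 D1881
theorem N1394 : nd 1394 = n1882 := ndS (p := 627) (l := 4) rfl N627 D1882
theorem N1395 : nd 1395 = n1886 := ndS (p := 628) (l := 3) rfl N628 D1886
theorem N1396 : nd 1396 = n1887 := ndS (p := 628) (l := 4) rfl N628 D1887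
theorem N1397 : nd 1397 = n1890 := ndS (p := 629) (l := 5) rfl N629 D1890
theorem N1398 : nd 1398 = n1891 := ndS (p := 629) (l := 6) rfl N629 D1891
theorem N1399 : nd 1399 = n1894 := ndS (p := 630) (l := 4) rfl N630 D1894
theorem N1400 : nd 1400 = n1895 := ndS (p := 630) (l := 6) rfl N630 D1895
theorem N1401 : nd 1401 = n1896 := ndS (p := 631) (l := 0) rfl N631 D1896
theorem N1402 : nd 1402 = n1897 := ndS (p := 631) (l := 1) rfl N631 D1897
theorem N1403 : nd 1403 = n1898 := ndS (p := 631) (l := 5) rfl N631 D1898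
theorem N1404 : nd 1404 = n1900 := ndS (p := 632) (l := 1) rfl N632 D1900
theorem N1405 : nd 1405 = n1903 := ndS (p := 633) (l := 3) rfl N633 D1903
theorem N1406 : nd 1406 = n1909 := ndS (p := 635) (l := 4) rfl N635 D1909
theorem N1407 : nd 1407 = n1910 := ndS (p := 635) (l := 5) rfl N635 D1910
theorem N1408 : nd 1408 = n1911 := ndS (p := 635) (l := 6) rfl N635 D1911
theorem N1409 : nd 1409 = n1913 := ndS (p := 636) (l := 3) rfl N636 D1913
theorem N1410 : nd 1410 = n1914 := ndS (p := 636) (l := 4) rfl N636 D1914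
theorem N1411 : nd 1411 = n1915 := ndS (p := 636) (l := 5) rfl N636 D1915
theorem N1412 : nd 1412 = n1917 := ndS (p := 637) (l := 5) rfl N637 D1917
theorem N1413 : nd 1413 = n1918 := ndS (p := 638) (l := 0) rfl N638 D1918
theorem N1414 : nd 1414 = n1919 := ndS (p := 638) (l := 1) rfl N638 D1919
theorem N1415 : nd 1415 = n1920 := ndS (p := 638) (l := 4) rfl N638 D1920
theorem N1416 : nd 1416 = n1921 := ndS (p := 638) (l := 6) rfl N638 D1921
theorem N1417 : nd 1417 = n1922 := ndS (p := 639) (l := 0) rfl N639 D1922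
theorem N1418 : nd 1418 = n1923 := ndS (p := 639) (l := 1) rfl N639 D1923
theorem N1419 : nd 1419 = n1924 := ndS (p := 639) (l := 7) rfl N639 D1924
theorem N1420 : nd 1420 = n1926 := ndS (p := 640) (l := 4) rfl N640 D1926
theorem N1421 : nd 1421 = n1927 := ndS (p := 640) (l := 5) rfl N640 D1927
theorem N1422 : nd 1422 = n1930 := ndS (p := 641) (l := 3) rfl N641 D1930
theorem N1423 : nd 1423 = n1931 := ndS (p := 641) (l := 4) rfl N641 D1931
theorem N1424 : nd 1424 = n1932 := ndS (p := 641) (l := 5) rfl N641 D1932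
theorem N1425 : nd 1425 = n1933 := ndS (p := 641) (l := 6) rfl N641 D1933
theorem N1426 : nd 1426 = n1934 := ndS (p := 642) (l := 4) rfl N642 D1934
theorem N1427 : nd 1427 = n1935 := ndS (p := 642) (l := 5) rfl N642 D1935
theorem N1428 : nd 1428 = n1936 := ndS (p := 642) (l := 6) rfl N642 D1936
theorem N1429 : nd 1429 = n1937 := ndS (p := 643) (l := 0) rfl N643 D1937
theorem N1430 : nd 1430 = n1938 := ndS (p := 643) (l := 1) rfl N643 D1938
theorem N1431 : nd 1431 = n1939 := ndS (p := 643) (l := 5) rfl N643 D1939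
theorem N1432 : nd 1432 = n1940 := ndS (p := 643) (l := 6) rfl N643 D1940
theorem N1433 : nd 1433 = n1941 := ndS (p := 644) (l := 0) rfl N644 D1941
theorem N1434 : nd 1434 = n1942 := ndS (p := 644) (l := 1) rfl N644 D1942
theorem N1435 : nd 1435 = n1943 := ndS (p := 644) (l := 4) rfl N644 D1943
theorem N1436 : nd 1436 = n1944 := ndS (p := 644) (l := 6) rfl N644 D1944
theorem N1437 : nd 1437 = n1945 := ndS (p := 645) (l := 0) rfl N645 D1945
theorem N1438 : nd 1438 = n1946 := ndS (p := 645) (l := 1) rfl N645 D1946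
theorem N1439 : nd 1439 = n1953 := ndS (p := 647) (l := 5) rfl N647 D1953
theorem N1440 : nd 1440 = n1954 := ndS (p := 647) (l := 6) rfl N647 D1954
theorem N1441 : nd 1441 = n1957 := ndS (p := 648) (l := 3) rfl N648 D1957
theorem N1442 : nd 1442 = n1958 := ndS (p := 648) (l := 4) rfl N648 D1958
theorem N1443 : nd 1443 = n1962 := ndS (p := 649) (l := 1) rfl N649 D1962
theorem N1444 : nd 1444 = n1963 := ndS (p := 649) (l := 2) rfl N649 D1963
theorem N1445 : nd 1445 = n1964 := ndS (p := 649) (l := 4) rfl N649 D1964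
theorem N1446 : nd 1446 = n1965 := ndS (p := 649) (l := 5) rfl N649 D1965
theorem N1447 : nd 1447 = n1967 := ndS (p := 649) (l := 7) rfl N649 D1967
theorem N1448 : nd 1448 = n1968 := ndS (p := 650) (l := 0) rfl N650 D1968
theorem N1449 : nd 1449 = n1969 := ndS (p := 650) (l := 1) rfl N650 D1969
theorem N1450 : nd 1450 = n1970 := ndS (p := 650) (l := 3) rfl N650 D1970
theorem N1451 : nd 1451 = n1971 := ndS (p := 650) (l := 5) rfl N650 D1971
theorem N1452 : nd 1452 = n1973 := ndS (p := 650) (l := 7) rfl N650 D1973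
theorem N1453 : nd 1453 = n1976 := ndS (p := 651) (l := 4) rfl N651 D1976
theorem N1454 : nd 1454 = n1977 := ndS (p := 651) (l := 6) rfl N651 D1977
theorem N1455 : nd 1455 = n1983 := ndS (p := 652) (l := 6) rfl N652 D1983
theorem N1456 : nd 1456 = n1985 := ndS (p := 653) (l := 2) rfl N653 D1985
theorem N1457 : nd 1457 = n1987 := ndS (p := 653) (l := 5) rfl N653 D1987
theorem N1458 : nd 1458 = n1988 := ndS (p := 653) (l := 6) rfl N653 D1988
theorem N1459 : nd 1459 = n1989 := ndS (p := 654) (l := 3) rfl N654 D1989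
theorem N1460 : nd 1460 = n1990 := ndS (p := 654) (l := 5) rfl N654 D1990
theorem N1461 : nd 1461 = n1991 := ndS (p := 654) (l := 6) rfl N654 D1991
theorem N1462 : nd 1462 = n1992 := ndS (p := 655) (l := 4) rfl N655 D1992
theorem N1463 : nd 1463 = n1993 := ndS (p := 655) (l := 6) rfl N655 D1993
theorem N1464 : nd 1464 = n1995 := ndS (p := 656) (l := 1) rfl N656 D1995
theorem N1465 : nd 1465 = n2008 := ndS (p := 657) (l := 0) rfl N657 D2008
theorem N1466 : nd 1466 = n2009 := ndS (p := 657) (l := 1) rfl N657 D2009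
theorem N1467 : nd 1467 = n2010 := ndS (p := 657) (l := 4) rfl N657 D2010
theorem N1468 : nd 1468 = n2011 := ndS (p := 657) (l := 6) rfl N657 D2011
theorem N1469 : nd 1469 = n2013 := ndS (p := 658) (l := 3) rfl N658 D2013
theorem N1470 : nd 1470 = n2014 := ndS (p := 658) (l := 4) rfl N658 D2014
theorem N1471 : nd 1471 = n2016 := ndS (p := 658) (l := 6) rfl N658 D2016
theorem N1472 : nd 1472 = n2018 := ndS (p := 659) (l := 3) rfl N659 D2018
theorem N1473 : nd 1473 = n2019 := ndS (p := 659) (l := 4) rfl N659 D2019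
theorem N1474 : nd 1474 = n2021 := ndS (p := 659) (l := 6) rfl N659 D2021
theorem N1475 : nd 1475 = n2022 := ndS (p := 660) (l := 0) rfl N660 D2022
theorem N1476 : nd 1476 = n2023 := ndS (p := 660) (l := 1) rfl N660 D2023
theorem N1477 : nd 1477 = n2024 := ndS (p := 660) (l := 3) rfl N660 D2024
theorem N1478 : nd 1478 = n2025 := ndS (p := 660) (l := 5) rfl N660 D2025
theorem N1479 : nd 1479 = n2026 := ndS (p := 660) (l := 6) rfl N660 D2026
theorem N1480 : nd 1480 = n2027 := ndS (p := 660) (l := 7) rfl N660 D2027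
theorem N1481 : nd 1481 = n2028 := ndS (p := 661) (l := 0) rfl N661 D2028
theorem N1482 : nd 1482 = n2029 := ndS (p := 661) (l := 1) rfl N661 D2029
theorem N1483 : nd 1483 = n2030 := ndS (p := 661) (l := 7) rfl N661 D2030
theorem N1484 : nd 1484 = n2031 := ndS (p := 662) (l := 6) rfl N662 D2031
theorem N1485 : nd 1485 = n2032 := ndS (p := 663) (l := 0) rfl N663 D2032
theorem N1486 : nd 1486 = n2033 := ndS (p := 663) (l := 1) rfl N663 D2033
theorem N1487 : nd 1487 = n2034 := ndS (p := 663) (l := 5) rfl N663 D2034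
theorem N1488 : nd 1488 = n2037 := ndS (p := 664) (l := 2) rfl N664 D2037
theorem N1489 : nd 1489 = n2038 := ndS (p := 664) (l := 4) rfl N664 D2038
theorem N1490 : nd 1490 = n2039 := ndS (p := 664) (l := 6) rfl N664 D2039
theorem N1491 : nd 1491 = n2040 := ndS (p := 665) (l := 0) rfl N665 D2040
theorem N1492 : nd 1492 = n2041 := ndS (p := 665) (l := 1) rfl N665 D2041
theorem N1493 : nd 1493 = n2043 := ndS (p := 665) (l := 7) rfl N665 D2043
theorem N1494 : nd 1494 = n2046 := ndS (p := 666) (l := 2) rfl N666 D2046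
theorem N1495 : nd 1495 = n2047 := ndS (p := 666) (l := 4) rfl N666 D2047
theorem N1496 : nd 1496 = n2048 := ndS (p := 666) (l := 6) rfl N666 D2048
theorem N1497 : nd 1497 = n2050 := ndS (p := 667) (l := 1) rfl N667 D2050
theorem N1498 : nd 1498 = n2051 := ndS (p := 667) (l := 5) rfl N667 D2051
theorem N1499 : nd 1499 = n2052 := ndS (p := 667) (l := 7) rfl N667 D2052
theorem N1500 : nd 1500 = n2053 := ndS (p := 668) (l := 0) rfl N668 D2053
theorem N1501 : nd 1501 = n2054 := ndS (p := 668) (l := 1) rfl N668 D2054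
theorem N1502 : nd 1502 = n2055 := ndS (p := 668) (l := 2) rfl N668 D2055
theorem N1503 : nd 1503 = n2056 := ndS (p := 668) (l := 6) rfl N668 D2056
theorem N1504 : nd 1504 = n2057 := ndS (p := 669) (l := 0) rfl N669 D2057
theorem N1505 : nd 1505 = n2058 := ndS (p := 669) (l := 1) rfl N669 D2058
theorem N1506 : nd 1506 = n2059 := ndS (p := 669) (l := 5) rfl N669 D2059
theorem N1507 : nd 1507 = n2060 := ndS (p := 669) (l := 7) rfl N669 D2060
theorem N1508 : nd 1508 = n2062 := ndS (p := 670) (l := 3) rfl N670 D2062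
theorem N1509 : nd 1509 = n2063 := ndS (p := 670) (l := 4) rfl N670 D2063
theorem N1510 : nd 1510 = n2064 := ndS (p := 670) (l := 5) rfl N670 D2064
theorem N1511 : nd 1511 = n2065 := ndS (p := 670) (l := 6) rfl N670 D2065
theorem N1512 : nd 1512 = n2067 := ndS (p := 671) (l := 3) rfl N671 D2067
theorem N1513 : nd 1513 = n2068 := ndS (p := 671) (l := 4) rfl N671 D2068
theorem N1514 : nd 1514 = n2069 := ndS (p := 671) (l := 6) rfl N671 D2069
theorem N1515 : nd 1515 = n2070 := ndS (p := 672) (l := 6) rfl N672 D2070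
theorem N1516 : nd 1516 = n2073 := ndS (p := 673) (l := 5) rfl N673 D2073
theorem N1517 : nd 1517 = n2074 := ndS (p := 674) (l := 3) rfl N674 D2074
theorem N1518 : nd 1518 = n2076 := ndS (p := 675) (l := 1) rfl N675 D2076
theorem N1519 : nd 1519 = n2077 := ndS (p := 675) (l := 4) rfl N675 D2077
theorem N1520 : nd 1520 = n2078 := ndS (p := 676) (l := 5) rfl N676 D2078
theorem N1521 : nd 1521 = n2079 := ndS (p := 676) (l := 6) rfl N676 D2079
theorem N1522 : nd 1522 = n2080 := ndS (p := 677) (l := 0) rfl N677 D2080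
theorem N1523 : nd 1523 = n2082 := ndS (p := 677) (l := 5) rfl N677 D2082
theorem N1524 : nd 1524 = n2083 := ndS (p := 677) (l := 7) rfl N677 D2083
theorem N1525 : nd 1525 = n2084 := ndS (p := 678) (l := 5) rfl N678 D2084
theorem N1526 : nd 1526 = n2085 := ndS (p := 679) (l := 0) rfl N679 D2085
theorem N1527 : nd 1527 = n2086 := ndS (p := 679) (l := 4) rfl N679 D2086
theorem N1528 : nd 1528 = n2087 := ndS (p := 680) (l := 0) rfl N680 D2087
theorem N1529 : nd 1529 = n2088 := ndS (p := 680) (l := 1) rfl N680 D2088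
theorem N1530 : nd 1530 = n2089 := ndS (p := 680) (l := 2) rfl N680 D2089
theorem N1531 : nd 1531 = n2090 := ndS (p := 680) (l := 6) rfl N680 D2090
theorem N1532 : nd 1532 = n2093 := ndS (p := 681) (l := 5) rfl N681 D2093
theorem N1533 : nd 1533 = n2094 := ndS (p := 681) (l := 7) rfl N681 D2094
theorem N1534 : nd 1534 = n2098 := ndS (p := 682) (l := 5) rfl N682 D2098
theorem N1535 : nd 1535 = n2099 := ndS (p := 682) (l := 6) rfl N682 D2099
theorem N1536 : nd 1536 = n2101 := ndS (p := 683) (l := 3) rfl N683 D2101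
theorem N1537 : nd 1537 = n2103 := ndS (p := 683) (l := 5) rfl N683 D2103
theorem N1538 : nd 1538 = n2104 := ndS (p := 683) (l := 6) rfl N683 D2104
theorem N1539 : nd 1539 = n2105 := ndS (p := 684) (l := 0) rfl N684 D2105
theorem N1540 : nd 1540 = n2106 := ndS (p := 684) (l := 1) rfl N684 D2106
theorem N1541 : nd 1541 = n2107 := ndS (p := 684) (l := 4) rfl N684 D2107
theorem N1542 : nd 1542 = n2108 := ndS (p := 684) (l := 7) rfl N684 D2108
theorem N1543 : nd 1543 = n2109 := ndS (p := 686) (l := 3) rfl N686 D2109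
theorem N1544 : nd 1544 = n2110 := ndS (p := 686) (l := 5) rfl N686 D2110
theorem N1545 : nd 1545 = n2111 := ndS (p := 687) (l := 6) rfl N687 D2111
theorem N1546 : nd 1546 = n2112 := ndS (p := 688) (l := 0) rfl N688 D2112
theorem N1547 : nd 1547 = n2114 := ndS (p := 688) (l := 5) rfl N688 D2114
theorem N1548 : nd 1548 = n2115 := ndS (p := 688) (l := 7) rfl N688 D2115
theorem N1549 : nd 1549 = n2116 := ndS (p := 689) (l := 0) rfl N689 D2116
theorem N1550 : nd 1550 = n2117 := ndS (p := 689) (l := 4) rfl N689 D2117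
theorem N1551 : nd 1551 = n2118 := ndS (p := 690) (l := 6) rfl N690 D2118
theorem N1552 : nd 1552 = n2120 := ndS (p := 691) (l := 1) rfl N691 D2120
theorem N1553 : nd 1553 = n2121 := ndS (p := 691) (l := 5) rfl N691 D2121
theorem N1554 : nd 1554 = n2122 := ndS (p := 691) (l := 7) rfl N691 D2122
theorem N1555 : nd 1555 = n2123 := ndS (p := 692) (l := 5) rfl N692 D2123
theorem N1556 : nd 1556 = n2124 := ndS (p := 693) (l := 1) rfl N693 D2124
theorem N1557 : nd 1557 = n2125 := ndS (p := 693) (l := 4) rfl N693 D2125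
theorem N1558 : nd 1558 = n2126 := ndS (p := 693) (l := 7) rfl N693 D2126
theorem N1559 : nd 1559 = n2127 := ndS (p := 695) (l := 3) rfl N695 D2127
theorem N1560 : nd 1560 = n2128 := ndS (p := 695) (l := 5) rfl N695 D2128
theorem N1561 : nd 1561 = n2129 := ndS (p := 695) (l := 6) rfl N695 D2129
theorem N1562 : nd 1562 = n2130 := ndS (p := 696) (l := 0) rfl N696 D2130
theorem N1563 : nd 1563 = n2131 := ndS (p := 696) (l := 1) rfl N696 D2131
theorem N1564 : nd 1564 = n2132 := ndS (p := 696) (l := 7) rfl N696 D2132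
theorem N1565 : nd 1565 = n2133 := ndS (p := 697) (l := 0) rfl N697 D2133
theorem N1566 : nd 1566 = n2134 := ndS (p := 697) (l := 1) rfl N697 D2134
theorem N1567 : nd 1567 = n2135 := ndS (p := 697) (l := 5) rfl N697 D2135
theorem N1568 : nd 1568 = n2136 := ndS (p := 697) (l := 7) rfl N697 D2136
theorem N1569 : nd 1569 = n2137 := ndS (p := 698) (l := 6) rfl N698 D2137
theorem N1570 : nd 1570 = n2138 := ndS (p := 699) (l := 0) rfl N699 D2138
theorem N1571 : nd 1571 = n2139 := ndS (p := 699) (l := 1) rfl N699 D2139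
theorem N1572 : nd 1572 = n2140 := ndS (p := 699) (l := 5) rfl N699 D2140
theorem N1573 : nd 1573 = n2141 := ndS (p := 699) (l := 7) rfl N699 D2141
theorem N1574 : nd 1574 = n2143 := ndS (p := 700) (l := 6) rfl N700 D2143
theorem N1575 : nd 1575 = n2144 := ndS (p := 701) (l := 5) rfl N701 D2144
theorem N1576 : nd 1576 = n2145 := ndS (p := 701) (l := 6) rfl N701 D2145
theorem N1577 : nd 1577 = n2146 := ndS (p := 702) (l := 6) rfl N702 D2146
theorem N1578 : nd 1578 = n2147 := ndS (p := 703) (l := 6) rfl N703 D2147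
theorem N1579 : nd 1579 = n2148 := ndS (p := 704) (l := 0) rfl N704 D2148
theorem N1580 : nd 1580 = n2149 := ndS (p := 704) (l := 1) rfl N704 D2149
theorem N1581 : nd 1581 = n2150 := ndS (p := 704) (l := 5) rfl N704 D2150
theorem N1582 : nd 1582 = n2151 := ndS (p := 704) (l := 7) rfl N704 D2151
theorem N1583 : nd 1583 = n2154 := ndS (p := 705) (l := 4) rfl N705 D2154
theorem N1584 : nd 1584 = n2155 := ndS (p := 705) (l := 5) rfl N705 D2155
theorem N1585 : nd 1585 = n2156 := ndS (p := 705) (l := 6) rfl N705 D2156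
theorem N1586 : nd 1586 = n2159 := ndS (p := 706) (l := 4) rfl N706 D2159
theorem N1587 : nd 1587 = n2160 := ndS (p := 706) (l := 5) rfl N706 D2160
theorem N1588 : nd 1588 = n2161 := ndS (p := 706) (l := 6) rfl N706 D2161
theorem N1589 : nd 1589 = n2162 := ndS (p := 708) (l := 0) rfl N708 D2162
theorem N1590 : nd 1590 = n2163 := ndS (p := 708) (l := 1) rfl N708 D2163
theorem N1591 : nd 1591 = n2164 := ndS (p := 708) (l := 5) rfl N708 D2164
theorem N1592 : nd 1592 = n2165 := ndS (p := 708) (l := 7) rfl N708 D2165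
theorem N1593 : nd 1593 = n2166 := ndS (p := 709) (l := 0) rfl N709 D2166
theorem N1594 : nd 1594 = n2167 := ndS (p := 709) (l := 1) rfl N709 D2167
theorem N1595 : nd 1595 = n2168 := ndS (p := 709) (l := 2) rfl N709 D2168
theorem N1596 : nd 1596 = n2169 := ndS (p := 709) (l := 6) rfl N709 D2169
theorem N1597 : nd 1597 = n2172 := ndS (p := 710) (l := 5) rfl N710 D2172
theorem N1598 : nd 1598 = n2173 := ndS (p := 710) (l := 7) rfl N710 D2173
theorem N1599 : nd 1599 = n2175 := ndS (p := 711) (l := 3) rfl N711 D2175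
theorem N1600 : nd 1600 = n2177 := ndS (p := 711) (l := 5) rfl N711 D2177
theorem N1601 : nd 1601 = n2178 := ndS (p := 711) (l := 6) rfl N711 D2178
theorem N1602 : nd 1602 = n2182 := ndS (p := 712) (l := 5) rfl N712 D2182
theorem N1603 : nd 1603 = n2183 := ndS (p := 712) (l := 6) rfl N712 D2183
theorem N1604 : nd 1604 = n2184 := ndS (p := 713) (l := 0) rfl N713 D2184
theorem N1605 : nd 1605 = n2185 := ndS (p := 713) (l := 1) rfl N713 D2185
theorem N1606 : nd 1606 = n2186 := ndS (p := 713) (l := 4) rfl N713 D2186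
theorem N1607 : nd 1607 = n2187 := ndS (p := 713) (l := 7) rfl N713 D2187
theorem N1608 : nd 1608 = n2188 := ndS (p := 715) (l := 0) rfl N715 D2188
theorem N1609 : nd 1609 = n2189 := ndS (p := 715) (l := 1) rfl N715 D2189
theorem N1610 : nd 1610 = n2190 := ndS (p := 715) (l := 2) rfl N715 D2190
theorem N1611 : nd 1611 = n2191 := ndS (p := 715) (l := 6) rfl N715 D2191
theorem N1612 : nd 1612 = n2192 := ndS (p := 716) (l := 0) rfl N716 D2192
theorem N1613 : nd 1613 = n2193 := ndS (p := 716) (l := 1) rfl N716 D2193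
theorem N1614 : nd 1614 = n2194 := ndS (p := 716) (l := 5) rfl N716 D2194
theorem N1615 : nd 1615 = n2195 := ndS (p := 716) (l := 7) rfl N716 D2195
theorem N1616 : nd 1616 = n2199 := ndS (p := 717) (l := 5) rfl N717 D2199
theorem N1617 : nd 1617 = n2200 := ndS (p := 717) (l := 6) rfl N717 D2200
theorem N1618 : nd 1618 = n2204 := ndS (p := 718) (l := 5) rfl N718 D2204
theorem N1619 : nd 1619 = n2205 := ndS (p := 718) (l := 6) rfl N718 D2205
theorem N1620 : nd 1620 = n2206 := ndS (p := 719) (l := 0) rfl N719 D2206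
theorem N1621 : nd 1621 = n2207 := ndS (p := 719) (l := 1) rfl N719 D2207
theorem N1622 : nd 1622 = n2208 := ndS (p := 719) (l := 4) rfl N719 D2208
theorem N1623 : nd 1623 = n2209 := ndS (p := 719) (l := 7) rfl N719 D2209
theorem N1624 : nd 1624 = n2210 := ndS (p := 721) (l := 4) rfl N721 D2210
theorem N1625 : nd 1625 = n2211 := ndS (p := 721) (l := 6) rfl N721 D2211
theorem N1626 : nd 1626 = n2212 := ndS (p := 722) (l := 3) rfl N722 D2212
theorem N1627 : nd 1627 = n2213 := ndS (p := 722) (l := 4) rfl N722 D2213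
theorem N1628 : nd 1628 = n2214 := ndS (p := 722) (l := 6) rfl N722 D2214
theorem N1629 : nd 1629 = n2215 := ndS (p := 723) (l := 6) rfl N723 D2215
theorem N1630 : nd 1630 = n2216 := ndS (p := 724) (l := 0) rfl N724 D2216
theorem N1631 : nd 1631 = n2217 := ndS (p := 724) (l := 1) rfl N724 D2217
theorem N1632 : nd 1632 = n2218 := ndS (p := 724) (l := 5) rfl N724 D2218
theorem N1633 : nd 1633 = n2219 := ndS (p := 724) (l := 7) rfl N724 D2219
theorem N1634 : nd 1634 = n2221 := ndS (p := 725) (l := 3) rfl N725 D2221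
theorem N1635 : nd 1635 = n2223 := ndS (p := 725) (l := 5) rfl N725 D2223
theorem N1636 : nd 1636 = n2224 := ndS (p := 725) (l := 6) rfl N725 D2224
theorem N1637 : nd 1637 = n2226 := ndS (p := 726) (l := 3) rfl N726 D2226
theorem N1638 : nd 1638 = n2228 := ndS (p := 726) (l := 5) rfl N726 D2228
theorem N1639 : nd 1639 = n2229 := ndS (p := 726) (l := 6) rfl N726 D2229
theorem N1640 : nd 1640 = n2230 := ndS (p := 727) (l := 0) rfl N727 D2230
theorem N1641 : nd 1641 = n2231 := ndS (p := 727) (l := 1) rfl N727 D2231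
theorem N1642 : nd 1642 = n2232 := ndS (p := 727) (l := 4) rfl N727 D2232
theorem N1643 : nd 1643 = n2233 := ndS (p := 727) (l := 7) rfl N727 D2233
theorem N1644 : nd 1644 = n2240 := ndS (p := 729) (l := 0) rfl N729 D2240
theorem N1645 : nd 1645 = n2244 := ndS (p := 729) (l := 5) rfl N729 D2244
theorem N1646 : nd 1646 = n2245 := ndS (p := 729) (l := 6) rfl N729 D2245
theorem N1647 : nd 1647 = n2249 := ndS (p := 730) (l := 3) rfl N730 D2249
theorem N1648 : nd 1648 = n2250 := ndS (p := 730) (l := 5) rfl N730 D2250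
theorem N1649 : nd 1649 = n2251 := ndS (p := 730) (l := 6) rfl N730 D2251
theorem N1650 : nd 1650 = n2253 := ndS (p := 731) (l := 0) rfl N731 D2253
theorem N1651 : nd 1651 = n2255 := ndS (p := 731) (l := 4) rfl N731 D2255
theorem N1652 : nd 1652 = n2256 := ndS (p := 731) (l := 6) rfl N731 D2256
theorem N1653 : nd 1653 = n2259 := ndS (p := 732) (l := 1) rfl N732 D2259
theorem N1654 : nd 1654 = n2260 := ndS (p := 732) (l := 5) rfl N732 D2260
theorem N1655 : nd 1655 = n2261 := ndS (p := 732) (l := 7) rfl N732 D2261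
theorem N1656 : nd 1656 = n2269 := ndS (p := 733) (l := 3) rfl N733 D2269
theorem N1657 : nd 1657 = n2270 := ndS (p := 733) (l := 5) rfl N733 D2270
theorem N1658 : nd 1658 = n2271 := ndS (p := 733) (l := 6) rfl N733 D2271
theorem N1659 : nd 1659 = n2272 := ndS (p := 734) (l := 4) rfl N734 D2272
theorem N1660 : nd 1660 = n2273 := ndS (p := 735) (l := 0) rfl N735 D2273
theorem N1661 : nd 1661 = n2275 := ndS (p := 735) (l := 5) rfl N735 D2275
theorem N1662 : nd 1662 = n2276 := ndS (p := 735) (l := 7) rfl N735 D2276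
theorem N1663 : nd 1663 = n2277 := ndS (p := 736) (l := 3) rfl N736 D2277
theorem N1664 : nd 1664 = n2278 := ndS (p := 736) (l := 6) rfl N736 D2278
theorem N1665 : nd 1665 = n2283 := ndS (p := 738) (l := 1) rfl N738 D2283
theorem N1666 : nd 1666 = n2284 := ndS (p := 738) (l := 5) rfl N738 D2284
theorem N1667 : nd 1667 = n2285 := ndS (p := 738) (l := 7) rfl N738 D2285
theorem N1668 : nd 1668 = n2286 := ndS (p := 739) (l := 0) rfl N739 D2286
theorem N1669 : nd 1669 = n2287 := ndS (p := 739) (l := 1) rfl N739 D2287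
theorem N1670 : nd 1670 = n2288 := ndS (p := 739) (l := 2) rfl N739 D2288
theorem N1671 : nd 1671 = n2289 := ndS (p := 739) (l := 5) rfl N739 D2289
theorem N1672 : nd 1672 = n2290 := ndS (p := 739) (l := 6) rfl N739 D2290
theorem N1673 : nd 1673 = n2291 := ndS (p := 740) (l := 6) rfl N740 D2291
theorem N1674 : nd 1674 = n2292 := ndS (p := 741) (l := 0) rfl N741 D2292
theorem N1675 : nd 1675 = n2294 := ndS (p := 741) (l := 5) rfl N741 D2294
theorem N1676 : nd 1676 = n2295 := ndS (p := 741) (l := 7) rfl N741 D2295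
theorem N1677 : nd 1677 = n2304 := ndS (p := 742) (l := 5) rfl N742 D2304
theorem N1678 : nd 1678 = n2305 := ndS (p := 742) (l := 6) rfl N742 D2305
theorem N1679 : nd 1679 = n2306 := ndS (p := 744) (l := 6) rfl N744 D2306
theorem N1680 : nd 1680 = n2307 := ndS (p := 745) (l := 3) rfl N745 D2307
theorem N1681 : nd 1681 = n2308 := ndS (p := 745) (l := 6) rfl N745 D2308
theorem N1682 : nd 1682 = n2309 := ndS (p := 746) (l := 6) rfl N746 D2309
theorem N1683 : nd 1683 = n2310 := ndS (p := 747) (l := 0) rfl N747 D2310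
theorem N1684 : nd 1684 = n2311 := ndS (p := 747) (l := 1) rfl N747 D2311
theorem N1685 : nd 1685 = n2312 := ndS (p := 747) (l := 5) rfl N747 D2312
theorem N1686 : nd 1686 = n2313 := ndS (p := 747) (l := 7) rfl N747 D2313
theorem N1687 : nd 1687 = n2315 := ndS (p := 748) (l := 3) rfl N748 D2315
theorem N1688 : nd 1688 = n2317 := ndS (p := 748) (l := 5) rfl N748 D2317
theorem N1689 : nd 1689 = n2318 := ndS (p := 748) (l := 6) rfl N748 D2318
theorem N1690 : nd 1690 = n2320 := ndS (p := 749) (l := 3) rfl N749 D2320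
theorem N1691 : nd 1691 = n2322 := ndS (p := 749) (l := 5) rfl N749 D2322
theorem N1692 : nd 1692 = n2323 := ndS (p := 749) (l := 6) rfl N749 D2323
theorem N1693 : nd 1693 = n2324 := ndS (p := 750) (l := 0) rfl N750 D2324
theorem N1694 : nd 1694 = n2325 := ndS (p := 750) (l := 1) rfl N750 D2325
theorem N1695 : nd 1695 = n2326 := ndS (p := 750) (l := 4) rfl N750 D2326
theorem N1696 : nd 1696 = n2327 := ndS (p := 750) (l := 7) rfl N750 D2327
theorem N1697 : nd 1697 = n2343 := ndS (p := 752) (l := 3) rfl N752 D2343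
theorem N1698 : nd 1698 = n2344 := ndS (p := 752) (l := 5) rfl N752 D2344
theorem N1699 : nd 1699 = n2345 := ndS (p := 752) (l := 6) rfl N752 D2345
theorem N1700 : nd 1700 = n2347 := ndS (p := 753) (l := 0) rfl N753 D2347
theorem N1701 : nd 1701 = n2349 := ndS (p := 753) (l := 4) rfl N753 D2349
theorem N1702 : nd 1702 = n2350 := ndS (p := 753) (l := 6) rfl N753 D2350
theorem N1703 : nd 1703 = n2353 := ndS (p := 754) (l := 1) rfl N754 D2353
theorem N1704 : nd 1704 = n2354 := ndS (p := 754) (l := 5) rfl N754 D2354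
theorem N1705 : nd 1705 = n2355 := ndS (p := 754) (l := 7) rfl N754 D2355
theorem N1706 : nd 1706 = n2360 := ndS (p := 755) (l := 4) rfl N755 D2360
theorem N1707 : nd 1707 = n2361 := ndS (p := 755) (l := 5) rfl N755 D2361
theorem N1708 : nd 1708 = n2362 := ndS (p := 755) (l := 6) rfl N755 D2362
theorem N1709 : nd 1709 = n2363 := ndS (p := 756) (l := 3) rfl N756 D2363
theorem N1710 : nd 1710 = n2364 := ndS (p := 756) (l := 5) rfl N756 D2364
theorem N1711 : nd 1711 = n2365 := ndS (p := 756) (l := 6) rfl N756 D2365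
theorem N1712 : nd 1712 = n2366 := ndS (p := 757) (l := 4) rfl N757 D2366
theorem N1713 : nd 1713 = n2367 := ndS (p := 758) (l := 0) rfl N758 D2367
theorem N1714 : nd 1714 = n2369 := ndS (p := 758) (l := 5) rfl N758 D2369
theorem N1715 : nd 1715 = n2370 := ndS (p := 758) (l := 7) rfl N758 D2370
theorem N1716 : nd 1716 = n2371 := ndS (p := 759) (l := 6) rfl N759 D2371
theorem N1717 : nd 1717 = n2372 := ndS (p := 760) (l := 0) rfl N760 D2372
theorem N1718 : nd 1718 = n2374 := ndS (p := 760) (l := 5) rfl N760 D2374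
theorem N1719 : nd 1719 = n2375 := ndS (p := 760) (l := 7) rfl N760 D2375
theorem N1720 : nd 1720 = n2376 := ndS (p := 761) (l := 3) rfl N761 D2376
theorem N1721 : nd 1721 = n2377 := ndS (p := 761) (l := 6) rfl N761 D2377
theorem N1722 : nd 1722 = n2379 := ndS (p := 762) (l := 1) rfl N762 D2379
theorem N1723 : nd 1723 = n2380 := ndS (p := 762) (l := 5) rfl N762 D2380
theorem N1724 : nd 1724 = n2381 := ndS (p := 762) (l := 7) rfl N762 D2381
theorem N1725 : nd 1725 = n2382 := ndS (p := 763) (l := 5) rfl N763 D2382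
theorem N1726 : nd 1726 = n2383 := ndS (p := 763) (l := 6) rfl N763 D2383
theorem N1727 : nd 1727 = n2384 := ndS (p := 764) (l := 3) rfl N764 D2384
theorem N1728 : nd 1728 = n2385 := ndS (p := 764) (l := 5) rfl N764 D2385
theorem N1729 : nd 1729 = n2386 := ndS (p := 764) (l := 6) rfl N764 D2386
theorem N1730 : nd 1730 = n2387 := ndS (p := 765) (l := 0) rfl N765 D2387
theorem N1731 : nd 1731 = n2388 := ndS (p := 765) (l := 2) rfl N765 D2388
theorem N1732 : nd 1732 = n2389 := ndS (p := 765) (l := 5) rfl N765 D2389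
theorem N1733 : nd 1733 = n2390 := ndS (p := 765) (l := 6) rfl N765 D2390
theorem N1734 : nd 1734 = n2391 := ndS (p := 766) (l := 6) rfl N766 D2391
theorem N1735 : nd 1735 = n2392 := ndS (p := 767) (l := 0) rfl N767 D2392
theorem N1736 : nd 1736 = n2393 := ndS (p := 767) (l := 1) rfl N767 D2393
theorem N1737 : nd 1737 = n2394 := ndS (p := 767) (l := 5) rfl N767 D2394
theorem N1738 : nd 1738 = n2395 := ndS (p := 767) (l := 7) rfl N767 D2395
theorem N1739 : nd 1739 = n2398 := ndS (p := 768) (l := 4) rfl N768 D2398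
theorem N1740 : nd 1740 = n2399 := ndS (p := 768) (l := 5) rfl N768 D2399
theorem N1741 : nd 1741 = n2400 := ndS (p := 768) (l := 6) rfl N768 D2400
theorem N1742 : nd 1742 = n2403 := ndS (p := 769) (l := 4) rfl N769 D2403
theorem N1743 : nd 1743 = n2404 := ndS (p := 769) (l := 5) rfl N769 D2404
theorem N1744 : nd 1744 = n2405 := ndS (p := 769) (l := 6) rfl N769 D2405
theorem N1745 : nd 1745 = n2406 := ndS (p := 770) (l := 0) rfl N770 D2406
theorem N1746 : nd 1746 = n2407 := ndS (p := 770) (l := 1) rfl N770 D2407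
theorem N1747 : nd 1747 = n2408 := ndS (p := 770) (l := 4) rfl N770 D2408
theorem N1748 : nd 1748 = n2409 := ndS (p := 770) (l := 7) rfl N770 D2409
theorem N1749 : nd 1749 = n2410 := ndS (p := 772) (l := 4) rfl N772 D2410
theorem N1750 : nd 1750 = n2411 := ndS (p := 772) (l := 6) rfl N772 D2411
theorem N1751 : nd 1751 = n2412 := ndS (p := 773) (l := 4) rfl N773 D2412
theorem N1752 : nd 1752 = n2413 := ndS (p := 773) (l := 6) rfl N773 D2413
theorem N1753 : nd 1753 = n2414 := ndS (p := 774) (l := 4) rfl N774 D2414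
theorem N1754 : nd 1754 = n2415 := ndS (p := 775) (l := 4) rfl N775 D2415
theorem N1755 : nd 1755 = n2416 := ndS (p := 775) (l := 5) rfl N775 D2416
theorem N1756 : nd 1756 = n2417 := ndS (p := 775) (l := 6) rfl N775 D2417
theorem N1757 : nd 1757 = n2418 := ndS (p := 776) (l := 0) rfl N776 D2418
theorem N1758 : nd 1758 = n2419 := ndS (p := 776) (l := 1) rfl N776 D2419
theorem N1759 : nd 1759 = n2420 := ndS (p := 776) (l := 3) rfl N776 D2420
theorem N1760 : nd 1760 = n2421 := ndS (p := 776) (l := 5) rfl N776 D2421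
theorem N1761 : nd 1761 = n2422 := ndS (p := 776) (l := 7) rfl N776 D2422
theorem N1762 : nd 1762 = n2423 := ndS (p := 777) (l := 6) rfl N777 D2423
theorem N1763 : nd 1763 = n2424 := ndS (p := 778) (l := 3) rfl N778 D2424
theorem N1764 : nd 1764 = n2425 := ndS (p := 778) (l := 6) rfl N778 D2425
theorem N1765 : nd 1765 = n2426 := ndS (p := 779) (l := 6) rfl N779 D2426
theorem N1766 : nd 1766 = n2427 := ndS (p := 780) (l := 6) rfl N780 D2427
theorem N1767 : nd 1767 = n2428 := ndS (p := 781) (l := 0) rfl N781 D2428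
theorem N1768 : nd 1768 = n2429 := ndS (p := 781) (l := 1) rfl N781 D2429
theorem N1769 : nd 1769 = n2430 := ndS (p := 781) (l := 5) rfl N781 D2430
theorem N1770 : nd 1770 = n2431 := ndS (p := 781) (l := 7) rfl N781 D2431
theorem N1771 : nd 1771 = n2433 := ndS (p := 782) (l := 3) rfl N782 D2433
theorem N1772 : nd 1772 = n2435 := ndS (p := 782) (l := 5) rfl N782 D2435
theorem N1773 : nd 1773 = n2436 := ndS (p := 782) (l := 6) rfl N782 D2436
theorem N1774 : nd 1774 = n2438 := ndS (p := 783) (l := 3) rfl N783 D2438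
theorem N1775 : nd 1775 = n2440 := ndS (p := 783) (l := 5) rfl N783 D2440
theorem N1776 : nd 1776 = n2441 := ndS (p := 783) (l := 6) rfl N783 D2441
theorem N1777 : nd 1777 = n2442 := ndS (p := 784) (l := 0) rfl N784 D2442
theorem N1778 : nd 1778 = n2443 := ndS (p := 784) (l := 1) rfl N784 D2443
theorem N1779 : nd 1779 = n2444 := ndS (p := 784) (l := 4) rfl N784 D2444
theorem N1780 : nd 1780 = n2445 := ndS (p := 784) (l := 7) rfl N784 D2445
theorem N1781 : nd 1781 = n2456 := ndS (p := 786) (l := 5) rfl N786 D2456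
theorem N1782 : nd 1782 = n2457 := ndS (p := 786) (l := 6) rfl N786 D2457
theorem N1783 : nd 1783 = n2462 := ndS (p := 787) (l := 5) rfl N787 D2462
theorem N1784 : nd 1784 = n2463 := ndS (p := 787) (l := 6) rfl N787 D2463
theorem N1785 : nd 1785 = n2465 := ndS (p := 788) (l := 0) rfl N788 D2465
theorem N1786 : nd 1786 = n2466 := ndS (p := 788) (l := 1) rfl N788 D2466
theorem N1787 : nd 1787 = n2467 := ndS (p := 788) (l := 4) rfl N788 D2467
theorem N1788 : nd 1788 = n2468 := ndS (p := 788) (l := 6) rfl N788 D2468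
theorem N1789 : nd 1789 = n2471 := ndS (p := 789) (l := 1) rfl N789 D2471
theorem N1790 : nd 1790 = n2472 := ndS (p := 789) (l := 7) rfl N789 D2472
theorem N1791 : nd 1791 = n2480 := ndS (p := 790) (l := 3) rfl N790 D2480
theorem N1792 : nd 1792 = n2481 := ndS (p := 790) (l := 5) rfl N790 D2481
theorem N1793 : nd 1793 = n2482 := ndS (p := 790) (l := 6) rfl N790 D2482
theorem N1794 : nd 1794 = n2483 := ndS (p := 791) (l := 4) rfl N791 D2483
theorem N1795 : nd 1795 = n2485 := ndS (p := 792) (l := 5) rfl N792 D2485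
theorem N1796 : nd 1796 = n2487 := ndS (p := 793) (l := 3) rfl N793 D2487
theorem N1797 : nd 1797 = n2488 := ndS (p := 793) (l := 4) rfl N793 D2488
theorem N1798 : nd 1798 = n2489 := ndS (p := 793) (l := 5) rfl N793 D2489
theorem N1799 : nd 1799 = n2490 := ndS (p := 793) (l := 6) rfl N793 D2490
theorem N1800 : nd 1800 = n2493 := ndS (p := 794) (l := 4) rfl N794 D2493
theorem N1801 : nd 1801 = n2494 := ndS (p := 794) (l := 6) rfl N794 D2494
theorem N1802 : nd 1802 = n2495 := ndS (p := 795) (l := 0) rfl N795 D2495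
theorem N1803 : nd 1803 = n2496 := ndS (p := 795) (l := 1) rfl N795 D2496
theorem N1804 : nd 1804 = n2497 := ndS (p := 795) (l := 3) rfl N795 D2497
theorem N1805 : nd 1805 = n2498 := ndS (p := 795) (l := 5) rfl N795 D2498
theorem N1806 : nd 1806 = n2499 := ndS (p := 795) (l := 7) rfl N795 D2499
theorem N1807 : nd 1807 = n2500 := ndS (p := 796) (l := 6) rfl N796 D2500
theorem N1808 : nd 1808 = n2501 := ndS (p := 797) (l := 4) rfl N797 D2501
theorem N1809 : nd 1809 = n2502 := ndS (p := 797) (l := 6) rfl N797 D2502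
theorem N1810 : nd 1810 = n2503 := ndS (p := 798) (l := 3) rfl N798 D2503
theorem N1811 : nd 1811 = n2504 := ndS (p := 798) (l := 5) rfl N798 D2504
theorem N1812 : nd 1812 = n2505 := ndS (p := 798) (l := 6) rfl N798 D2505
theorem N1813 : nd 1813 = n2506 := ndS (p := 799) (l := 0) rfl N799 D2506
theorem N1814 : nd 1814 = n2507 := ndS (p := 799) (l := 1) rfl N799 D2507
theorem N1815 : nd 1815 = n2508 := ndS (p := 799) (l := 7) rfl N799 D2508
theorem N1816 : nd 1816 = n2509 := ndS (p := 800) (l := 3) rfl N800 D2509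
theorem N1817 : nd 1817 = n2510 := ndS (p := 800) (l := 5) rfl N800 D2510
theorem N1818 : nd 1818 = n2511 := ndS (p := 800) (l := 6) rfl N800 D2511
theorem N1819 : nd 1819 = n2512 := ndS (p := 801) (l := 0) rfl N801 D2512
theorem N1820 : nd 1820 = n2513 := ndS (p := 801) (l := 1) rfl N801 D2513
theorem N1821 : nd 1821 = n2514 := ndS (p := 801) (l := 7) rfl N801 D2514
theorem N1822 : nd 1822 = n2515 := ndS (p := 802) (l := 4) rfl N802 D2515
theorem N1823 : nd 1823 = n2516 := ndS (p := 803) (l := 3) rfl N803 D2516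
theorem N1824 : nd 1824 = n2517 := ndS (p := 803) (l := 5) rfl N803 D2517
theorem N1825 : nd 1825 = n2518 := ndS (p := 804) (l := 3) rfl N804 D2518
theorem N1826 : nd 1826 = n2519 := ndS (p := 804) (l := 5) rfl N804 D2519
theorem N1827 : nd 1827 = n2520 := ndS (p := 804) (l := 6) rfl N804 D2520
theorem N1828 : nd 1828 = n2521 := ndS (p := 805) (l := 0) rfl N805 D2521
theorem N1829 : nd 1829 = n2522 := ndS (p := 805) (l := 1) rfl N805 D2522
theorem N1830 : nd 1830 = n2523 := ndS (p := 805) (l := 7) rfl N805 D2523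
theorem N1831 : nd 1831 = n2524 := ndS (p := 806) (l := 3) rfl N806 D2524
theorem N1832 : nd 1832 = n2525 := ndS (p := 806) (l := 5) rfl N806 D2525
theorem N1833 : nd 1833 = n2526 := ndS (p := 806) (l := 6) rfl N806 D2526
theorem N1834 : nd 1834 = n2527 := ndS (p := 807) (l := 3) rfl N807 D2527
theorem N1835 : nd 1835 = n2528 := ndS (p := 807) (l := 5) rfl N807 D2528
theorem N1836 : nd 1836 = n2529 := ndS (p := 807) (l := 6) rfl N807 D2529
theorem N1837 : nd 1837 = n2530 := ndS (p := 808) (l := 0) rfl N808 D2530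
theorem N1838 : nd 1838 = n2531 := ndS (p := 808) (l := 1) rfl N808 D2531
theorem N1839 : nd 1839 = n2532 := ndS (p := 808) (l := 2) rfl N808 D2532
theorem N1840 : nd 1840 = n2533 := ndS (p := 808) (l := 5) rfl N808 D2533
theorem N1841 : nd 1841 = n2534 := ndS (p := 808) (l := 7) rfl N808 D2534
theorem N1842 : nd 1842 = n2535 := ndS (p := 809) (l := 0) rfl N809 D2535
theorem N1843 : nd 1843 = n2536 := ndS (p := 809) (l := 1) rfl N809 D2536
theorem N1844 : nd 1844 = n2537 := ndS (p := 809) (l := 6) rfl N809 D2537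
theorem N1845 : nd 1845 = n2538 := ndS (p := 810) (l := 6) rfl N810 D2538
theorem N1846 : nd 1846 = n2539 := ndS (p := 811) (l := 0) rfl N811 D2539
theorem N1847 : nd 1847 = n2540 := ndS (p := 811) (l := 1) rfl N811 D2540
theorem N1848 : nd 1848 = n2541 := ndS (p := 815) (l := 4) rfl N815 D2541
theorem N1849 : nd 1849 = n2543 := ndS (p := 817) (l := 3) rfl N817 D2543
theorem N1850 : nd 1850 = n2545 := ndS (p := 817) (l := 5) rfl N817 D2545
theorem N1851 : nd 1851 = n2549 := ndS (p := 818) (l := 5) rfl N818 D2549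
theorem N1852 : nd 1852 = n2550 := ndS (p := 818) (l := 6) rfl N818 D2550
theorem N1853 : nd 1853 = n2551 := ndS (p := 819) (l := 4) rfl N819 D2551
theorem N1854 : nd 1854 = n2552 := ndS (p := 819) (l := 7) rfl N819 D2552
theorem N1855 : nd 1855 = n2553 := ndS (p := 822) (l := 3) rfl N822 D2553
theorem N1856 : nd 1856 = n2554 := ndS (p := 822) (l := 5) rfl N822 D2554
theorem N1857 : nd 1857 = n2555 := ndS (p := 823) (l := 0) rfl N823 D2555
theorem N1858 : nd 1858 = n2556 := ndS (p := 823) (l := 1) rfl N823 D2556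
theorem N1859 : nd 1859 = n2557 := ndS (p := 823) (l := 2) rfl N823 D2557
theorem N1860 : nd 1860 = n2558 := ndS (p := 823) (l := 5) rfl N823 D2558
theorem N1861 : nd 1861 = n2559 := ndS (p := 824) (l := 4) rfl N824 D2559
theorem N1862 : nd 1862 = n2560 := ndS (p := 824) (l := 6) rfl N824 D2560
theorem N1863 : nd 1863 = n2561 := ndS (p := 825) (l := 6) rfl N825 D2561
theorem N1864 : nd 1864 = n2562 := ndS (p := 827) (l := 3) rfl N827 D2562
theorem N1865 : nd 1865 = n2563 := ndS (p := 827) (l := 6) rfl N827 D2563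
theorem N1866 : nd 1866 = n2564 := ndS (p := 828) (l := 0) rfl N828 D2564
theorem N1867 : nd 1867 = n2565 := ndS (p := 828) (l := 1) rfl N828 D2565
theorem N1868 : nd 1868 = n2566 := ndS (p := 828) (l := 7) rfl N828 D2566
theorem N1869 : nd 1869 = n2567 := ndS (p := 830) (l := 3) rfl N830 D2567
theorem N1870 : nd 1870 = n2568 := ndS (p := 831) (l := 0) rfl N831 D2568
theorem N1871 : nd 1871 = n2569 := ndS (p := 831) (l := 1) rfl N831 D2569
theorem N1872 : nd 1872 = n2570 := ndS (p := 831) (l := 2) rfl N831 D2570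
theorem N1873 : nd 1873 = n2571 := ndS (p := 831) (l := 5) rfl N831 D2571
theorem N1874 : nd 1874 = n2572 := ndS (p := 831) (l := 6) rfl N831 D2572
theorem N1875 : nd 1875 = n2573 := ndS (p := 832) (l := 6) rfl N832 D2573
theorem N1876 : nd 1876 = n2574 := ndS (p := 833) (l := 0) rfl N833 D2574
theorem N1877 : nd 1877 = n2575 := ndS (p := 833) (l := 1) rfl N833 D2575
theorem N1878 : nd 1878 = n2576 := ndS (p := 833) (l := 5) rfl N833 D2576
theorem N1879 : nd 1879 = n2577 := ndS (p := 833) (l := 7) rfl N833 D2577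
theorem N1880 : nd 1880 = n2578 := ndS (p := 834) (l := 4) rfl N834 D2578
theorem N1881 : nd 1881 = n2579 := ndS (p := 836) (l := 0) rfl N836 D2579
theorem N1882 : nd 1882 = n2580 := ndS (p := 836) (l := 1) rfl N836 D2580
theorem N1883 : nd 1883 = n2581 := ndS (p := 836) (l := 4) rfl N836 D2581
theorem N1884 : nd 1884 = n2582 := ndS (p := 836) (l := 6) rfl N836 D2582
theorem N1885 : nd 1885 = n2583 := ndS (p := 837) (l := 3) rfl N837 D2583
theorem N1886 : nd 1886 = n2584 := ndS (p := 837) (l := 6) rfl N837 D2584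
theorem N1887 : nd 1887 = n2585 := ndS (p := 838) (l := 0) rfl N838 D2585
theorem N1888 : nd 1888 = n2586 := ndS (p := 838) (l := 1) rfl N838 D2586
theorem N1889 : nd 1889 = n2587 := ndS (p := 838) (l := 7) rfl N838 D2587
theorem N1890 : nd 1890 = n2588 := ndS (p := 839) (l := 0) rfl N839 D2588
theorem N1891 : nd 1891 = n2589 := ndS (p := 839) (l := 1) rfl N839 D2589
theorem N1892 : nd 1892 = n2590 := ndS (p := 839) (l := 2) rfl N839 D2590
theorem N1893 : nd 1893 = n2591 := ndS (p := 839) (l := 5) rfl N839 D2591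
theorem N1894 : nd 1894 = n2592 := ndS (p := 839) (l := 6) rfl N839 D2592
theorem N1895 : nd 1895 = n2593 := ndS (p := 840) (l := 6) rfl N840 D2593
theorem N1896 : nd 1896 = n2594 := ndS (p := 841) (l := 5) rfl N841 D2594
theorem N1897 : nd 1897 = n2595 := ndS (p := 841) (l := 7) rfl N841 D2595
theorem N1898 : nd 1898 = n2596 := ndS (p := 843) (l := 0) rfl N843 D2596
theorem N1899 : nd 1899 = n2597 := ndS (p := 843) (l := 1) rfl N843 D2597
theorem N1900 : nd 1900 = n2598 := ndS (p := 843) (l := 2) rfl N843 D2598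
theorem N1901 : nd 1901 = n2599 := ndS (p := 843) (l := 5) rfl N843 D2599
theorem N1902 : nd 1902 = n2600 := ndS (p := 844) (l := 6) rfl N844 D2600
theorem N1903 : nd 1903 = n2601 := ndS (p := 845) (l := 0) rfl N845 D2601
theorem N1904 : nd 1904 = n2602 := ndS (p := 845) (l := 1) rfl N845 D2602
theorem N1905 : nd 1905 = n2603 := ndS (p := 845) (l := 2) rfl N845 D2603
theorem N1906 : nd 1906 = n2604 := ndS (p := 845) (l := 5) rfl N845 D2604
theorem N1907 : nd 1907 = n2605 := ndS (p := 845) (l := 6) rfl N845 D2605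
theorem N1908 : nd 1908 = n2606 := ndS (p := 846) (l := 6) rfl N846 D2606
theorem N1909 : nd 1909 = n2607 := ndS (p := 847) (l := 5) rfl N847 D2607
theorem N1910 : nd 1910 = n2608 := ndS (p := 848) (l := 0) rfl N848 D2608
theorem N1911 : nd 1911 = n2609 := ndS (p := 848) (l := 1) rfl N848 D2609
theorem N1912 : nd 1912 = n2610 := ndS (p := 848) (l := 2) rfl N848 D2610
theorem N1913 : nd 1913 = n2611 := ndS (p := 848) (l := 5) rfl N848 D2611
theorem N1914 : nd 1914 = n2612 := ndS (p := 849) (l := 6) rfl N849 D2612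
theorem N1915 : nd 1915 = n2613 := ndS (p := 850) (l := 6) rfl N850 D2613
theorem N1916 : nd 1916 = n2614 := ndS (p := 851) (l := 5) rfl N851 D2614
theorem N1917 : nd 1917 = n2615 := ndS (p := 852) (l := 0) rfl N852 D2615
theorem N1918 : nd 1918 = n2616 := ndS (p := 852) (l := 2) rfl N852 D2616
theorem N1919 : nd 1919 = n2617 := ndS (p := 852) (l := 3) rfl N852 D2617
theorem N1920 : nd 1920 = n2618 := ndS (p := 852) (l := 4) rfl N852 D2618
theorem N1921 : nd 1921 = n2619 := ndS (p := 852) (l := 5) rfl N852 D2619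
theorem N1922 : nd 1922 = n2621 := ndS (p := 852) (l := 7) rfl N852 D2621
theorem N1923 : nd 1923 = n2622 := ndS (p := 853) (l := 3) rfl N853 D2622
theorem N1924 : nd 1924 = n2623 := ndS (p := 853) (l := 4) rfl N853 D2623
theorem N1925 : nd 1925 = n2624 := ndS (p := 853) (l := 5) rfl N853 D2624
theorem N1926 : nd 1926 = n2625 := ndS (p := 853) (l := 6) rfl N853 D2625
theorem N1927 : nd 1927 = n2628 := ndS (p := 854) (l := 5) rfl N854 D2628
theorem N1928 : nd 1928 = n2629 := ndS (p := 855) (l := 0) rfl N855 D2629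
theorem N1929 : nd 1929 = n2630 := ndS (p := 855) (l := 1) rfl N855 D2630
theorem N1930 : nd 1930 = n2631 := ndS (p := 855) (l := 4) rfl N855 D2631
theorem N1931 : nd 1931 = n2632 := ndS (p := 855) (l := 6) rfl N855 D2632
theorem N1932 : nd 1932 = n2633 := ndS (p := 855) (l := 7) rfl N855 D2633
theorem N1933 : nd 1933 = n2634 := ndS (p := 856) (l := 6) rfl N856 D2634
theorem N1934 : nd 1934 = n2635 := ndS (p := 857) (l := 3) rfl N857 D2635
theorem N1935 : nd 1935 = n2636 := ndS (p := 857) (l := 6) rfl N857 D2636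
theorem N1936 : nd 1936 = n2637 := ndS (p := 858) (l := 3) rfl N858 D2637
theorem N1937 : nd 1937 = n2638 := ndS (p := 858) (l := 6) rfl N858 D2638
theorem N1938 : nd 1938 = n2639 := ndS (p := 859) (l := 3) rfl N859 D2639
theorem N1939 : nd 1939 = n2640 := ndS (p := 859) (l := 6) rfl N859 D2640
theorem N1940 : nd 1940 = n2641 := ndS (p := 860) (l := 0) rfl N860 D2641
theorem N1941 : nd 1941 = n2642 := ndS (p := 860) (l := 1) rfl N860 D2642
theorem N1942 : nd 1942 = n2643 := ndS (p := 860) (l := 7) rfl N860 D2643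
theorem N1943 : nd 1943 = n2644 := ndS (p := 861) (l := 6) rfl N861 D2644
theorem N1944 : nd 1944 = n2645 := ndS (p := 862) (l := 1) rfl N862 D2645
theorem N1945 : nd 1945 = n2646 := ndS (p := 862) (l := 5) rfl N862 D2646
theorem N1946 : nd 1946 = n2647 := ndS (p := 863) (l := 3) rfl N863 D2647
theorem N1947 : nd 1947 = n2648 := ndS (p := 863) (l := 6) rfl N863 D2648
theorem N1948 : nd 1948 = n2649 := ndS (p := 864) (l := 6) rfl N864 D2649
theorem N1949 : nd 1949 = n2650 := ndS (p := 865) (l := 0) rfl N865 D2650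
theorem N1950 : nd 1950 = n2651 := ndS (p := 865) (l := 1) rfl N865 D2651
theorem N1951 : nd 1951 = n2652 := ndS (p := 865) (l := 5) rfl N865 D2652
theorem N1952 : nd 1952 = n2653 := ndS (p := 865) (l := 7) rfl N865 D2653
theorem N1953 : nd 1953 = n2664 := ndS (p := 866) (l := 0) rfl N866 D2664
theorem N1954 : nd 1954 = n2665 := ndS (p := 866) (l := 1) rfl N866 D2665
theorem N1955 : nd 1955 = n2666 := ndS (p := 866) (l := 4) rfl N866 D2666
theorem N1956 : nd 1956 = n2667 := ndS (p := 866) (l := 7) rfl N866 D2667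
theorem N1957 : nd 1957 = n2677 := ndS (p := 868) (l := 4) rfl N868 D2677
theorem N1958 : nd 1958 = n2678 := ndS (p := 868) (l := 5) rfl N868 D2678
theorem N1959 : nd 1959 = n2679 := ndS (p := 868) (l := 6) rfl N868 D2679
theorem N1960 : nd 1960 = n2687 := ndS (p := 869) (l := 4) rfl N869 D2687
theorem N1961 : nd 1961 = n2690 := ndS (p := 870) (l := 1) rfl N870 D2690
theorem N1962 : nd 1962 = n2691 := ndS (p := 870) (l := 7) rfl N870 D2691
theorem N1963 : nd 1963 = n2702 := ndS (p := 871) (l := 4) rfl N871 D2702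
theorem N1964 : nd 1964 = n2704 := ndS (p := 872) (l := 7) rfl N872 D2704
theorem N1965 : nd 1965 = n2707 := ndS (p := 873) (l := 5) rfl N873 D2707
theorem N1966 : nd 1966 = n2709 := ndS (p := 874) (l := 4) rfl N874 D2709
theorem N1967 : nd 1967 = n2712 := ndS (p := 875) (l := 5) rfl N875 D2712
theorem N1968 : nd 1968 = n2713 := ndS (p := 875) (l := 7) rfl N875 D2713
theorem N1969 : nd 1969 = n2717 := ndS (p := 876) (l := 5) rfl N876 D2717
theorem N1970 : nd 1970 = n2718 := ndS (p := 876) (l := 6) rfl N876 D2718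
theorem N1971 : nd 1971 = n2722 := ndS (p := 877) (l := 5) rfl N877 D2722
theorem N1972 : nd 1972 = n2723 := ndS (p := 877) (l := 6) rfl N877 D2723
theorem N1973 : nd 1973 = n2726 := ndS (p := 879) (l := 5) rfl N879 D2726
theorem N1974 : nd 1974 = n2727 := ndS (p := 879) (l := 7) rfl N879 D2727
theorem N1975 : nd 1975 = n2738 := ndS (p := 880) (l := 0) rfl N880 D2738
theorem N1976 : nd 1976 = n2739 := ndS (p := 880) (l := 1) rfl N880 D2739
theorem N1977 : nd 1977 = n2740 := ndS (p := 880) (l := 4) rfl N880 D2740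
theorem N1978 : nd 1978 = n2741 := ndS (p := 880) (l := 7) rfl N880 D2741
theorem N1979 : nd 1979 = n2761 := ndS (p := 882) (l := 4) rfl N882 D2761
theorem N1980 : nd 1980 = n2764 := ndS (p := 883) (l := 1) rfl N883 D2764
theorem N1981 : nd 1981 = n2765 := ndS (p := 883) (l := 7) rfl N883 D2765
theorem N1982 : nd 1982 = n2776 := ndS (p := 884) (l := 4) rfl N884 D2776
theorem N1983 : nd 1983 = n2778 := ndS (p := 885) (l := 7) rfl N885 D2778
theorem N1984 : nd 1984 = n2779 := ndS (p := 886) (l := 0) rfl N886 D2779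
theorem N1985 : nd 1985 = n2780 := ndS (p := 886) (l := 1) rfl N886 D2780
theorem N1986 : nd 1986 = n2781 := ndS (p := 886) (l := 5) rfl N886 D2781
theorem N1987 : nd 1987 = n2782 := ndS (p := 886) (l := 7) rfl N886 D2782
theorem N1988 : nd 1988 = n2786 := ndS (p := 887) (l := 5) rfl N887 D2786
theorem N1989 : nd 1989 = n2790 := ndS (p := 888) (l := 5) rfl N888 D2790
theorem N1990 : nd 1990 = n2791 := ndS (p := 888) (l := 6) rfl N888 D2791
theorem N1991 : nd 1991 = n2792 := ndS (p := 889) (l := 0) rfl N889 D2792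
theorem N1992 : nd 1992 = n2793 := ndS (p := 889) (l := 7) rfl N889 D2793
theorem N1993 : nd 1993 = n2797 := ndS (p := 891) (l := 5) rfl N891 D2797
theorem N1994 : nd 1994 = n2801 := ndS (p := 892) (l := 5) rfl N892 D2801
theorem N1995 : nd 1995 = n2802 := ndS (p := 892) (l := 6) rfl N892 D2802
theorem N1996 : nd 1996 = n2803 := ndS (p := 893) (l := 0) rfl N893 D2803
theorem N1997 : nd 1997 = n2804 := ndS (p := 893) (l := 7) rfl N893 D2804
theorem N1998 : nd 1998 = n2805 := ndS (p := 895) (l := 3) rfl N895 D2805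
theorem N1999 : nd 1999 = n2806 := ndS (p := 895) (l := 4) rfl N895 D2806
theorem N2000 : nd 2000 = n2807 := ndS (p := 895) (l := 6) rfl N895 D2807
theorem N2001 : nd 2001 = n2808 := ndS (p := 896) (l := 4) rfl N896 D2808
theorem N2002 : nd 2002 = n2809 := ndS (p := 896) (l := 6) rfl N896 D2809
theorem N2003 : nd 2003 = n2810 := ndS (p := 897) (l := 6) rfl N897 D2810
theorem N2004 : nd 2004 = n2811 := ndS (p := 898) (l := 0) rfl N898 D2811
theorem N2005 : nd 2005 = n2812 := ndS (p := 898) (l := 1) rfl N898 D2812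
theorem N2006 : nd 2006 = n2813 := ndS (p := 898) (l := 5) rfl N898 D2813
theorem N2007 : nd 2007 = n2814 := ndS (p := 898) (l := 7) rfl N898 D2814
theorem N2008 : nd 2008 = n2825 := ndS (p := 899) (l := 0) rfl N899 D2825
theorem N2009 : nd 2009 = n2826 := ndS (p := 899) (l := 1) rfl N899 D2826
theorem N2010 : nd 2010 = n2827 := ndS (p := 899) (l := 4) rfl N899 D2827
theorem N2011 : nd 2011 = n2828 := ndS (p := 899) (l := 7) rfl N899 D2828
theorem N2012 : nd 2012 = n2839 := ndS (p := 901) (l := 5) rfl N901 D2839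
theorem N2013 : nd 2013 = n2840 := ndS (p := 901) (l := 6) rfl N901 D2840
theorem N2014 : nd 2014 = n2848 := ndS (p := 902) (l := 1) rfl N902 D2848
theorem N2015 : nd 2015 = n2849 := ndS (p := 902) (l := 4) rfl N902 D2849
theorem N2016 : nd 2016 = n2850 := ndS (p := 902) (l := 6) rfl N902 D2850
theorem N2017 : nd 2017 = n2853 := ndS (p := 903) (l := 7) rfl N903 D2853
theorem N2018 : nd 2018 = n2858 := ndS (p := 904) (l := 4) rfl N904 D2858
theorem N2019 : nd 2019 = n2859 := ndS (p := 904) (l := 5) rfl N904 D2859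
theorem N2020 : nd 2020 = n2860 := ndS (p := 904) (l := 6) rfl N904 D2860
theorem N2021 : nd 2021 = n2864 := ndS (p := 905) (l := 4) rfl N905 D2864
theorem N2022 : nd 2022 = n2866 := ndS (p := 907) (l := 3) rfl N907 D2866
theorem N2023 : nd 2023 = n2868 := ndS (p := 907) (l := 6) rfl N907 D2868
theorem N2024 : nd 2024 = n2870 := ndS (p := 908) (l := 3) rfl N908 D2870
theorem N2025 : nd 2025 = n2872 := ndS (p := 908) (l := 6) rfl N908 D2872
theorem N2026 : nd 2026 = n2875 := ndS (p := 909) (l := 3) rfl N909 D2875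
theorem N2027 : nd 2027 = n2876 := ndS (p := 909) (l := 5) rfl N909 D2876
theorem N2028 : nd 2028 = n2877 := ndS (p := 909) (l := 7) rfl N909 D2877
theorem N2029 : nd 2029 = n2878 := ndS (p := 910) (l := 6) rfl N910 D2878
theorem N2030 : nd 2030 = n2879 := ndS (p := 912) (l := 4) rfl N912 D2879
theorem N2031 : nd 2031 = n2880 := ndS (p := 912) (l := 6) rfl N912 D2880
theorem N2032 : nd 2032 = n2881 := ndS (p := 913) (l := 0) rfl N913 D2881
theorem N2033 : nd 2033 = n2882 := ndS (p := 913) (l := 1) rfl N913 D2882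
theorem N2034 : nd 2034 = n2883 := ndS (p := 913) (l := 7) rfl N913 D2883
theorem N2035 : nd 2035 = n2884 := ndS (p := 914) (l := 0) rfl N914 D2884
theorem N2036 : nd 2036 = n2885 := ndS (p := 914) (l := 1) rfl N914 D2885
theorem N2037 : nd 2037 = n2886 := ndS (p := 914) (l := 2) rfl N914 D2886
theorem N2038 : nd 2038 = n2887 := ndS (p := 914) (l := 5) rfl N914 D2887
theorem N2039 : nd 2039 = n2888 := ndS (p := 914) (l := 7) rfl N914 D2888
theorem N2040 : nd 2040 = n2889 := ndS (p := 915) (l := 6) rfl N915 D2889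
theorem N2041 : nd 2041 = n2890 := ndS (p := 915) (l := 7) rfl N915 D2890
theorem N2042 : nd 2042 = n2891 := ndS (p := 916) (l := 6) rfl N916 D2891
theorem N2043 : nd 2043 = n2892 := ndS (p := 917) (l := 0) rfl N917 D2892
theorem N2044 : nd 2044 = n2893 := ndS (p := 917) (l := 1) rfl N917 D2893
theorem N2045 : nd 2045 = n2894 := ndS (p := 918) (l := 3) rfl N918 D2894
theorem N2046 : nd 2046 = n2895 := ndS (p := 918) (l := 6) rfl N918 D2895
theorem N2047 : nd 2047 = n2896 := ndS (p := 919) (l := 3) rfl N919 D2896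
theorem N2048 : nd 2048 = n2897 := ndS (p := 919) (l := 6) rfl N919 D2897
theorem N2049 : nd 2049 = n2898 := ndS (p := 920) (l := 6) rfl N920 D2898
theorem N2050 : nd 2050 = n2899 := ndS (p := 921) (l := 0) rfl N921 D2899
theorem N2051 : nd 2051 = n2900 := ndS (p := 921) (l := 1) rfl N921 D2900
theorem N2052 : nd 2052 = n2901 := ndS (p := 921) (l := 5) rfl N921 D2901
theorem N2053 : nd 2053 = n2902 := ndS (p := 921) (l := 7) rfl N921 D2902
theorem N2054 : nd 2054 = n2904 := ndS (p := 922) (l := 3) rfl N922 D2904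
theorem N2055 : nd 2055 = n2906 := ndS (p := 922) (l := 5) rfl N922 D2906
theorem N2056 : nd 2056 = n2909 := ndS (p := 923) (l := 3) rfl N923 D2909
theorem N2057 : nd 2057 = n2911 := ndS (p := 923) (l := 5) rfl N923 D2911
theorem N2058 : nd 2058 = n2912 := ndS (p := 923) (l := 6) rfl N923 D2912
theorem N2059 : nd 2059 = n2913 := ndS (p := 924) (l := 0) rfl N924 D2913
theorem N2060 : nd 2060 = n2914 := ndS (p := 924) (l := 1) rfl N924 D2914
theorem N2061 : nd 2061 = n2915 := ndS (p := 924) (l := 4) rfl N924 D2915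
theorem N2062 : nd 2062 = n2916 := ndS (p := 924) (l := 7) rfl N924 D2916
theorem N2063 : nd 2063 = n2925 := ndS (p := 926) (l := 4) rfl N926 D2925
theorem N2064 : nd 2064 = n2926 := ndS (p := 926) (l := 5) rfl N926 D2926
theorem N2065 : nd 2065 = n2930 := ndS (p := 927) (l := 3) rfl N927 D2930
theorem N2066 : nd 2066 = n2931 := ndS (p := 927) (l := 5) rfl N927 D2931
theorem N2067 : nd 2067 = n2933 := ndS (p := 928) (l := 0) rfl N928 D2933
theorem N2068 : nd 2068 = n2934 := ndS (p := 928) (l := 1) rfl N928 D2934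
theorem N2069 : nd 2069 = n2935 := ndS (p := 928) (l := 4) rfl N928 D2935
theorem N2070 : nd 2070 = n2943 := ndS (p := 929) (l := 3) rfl N929 D2943
theorem N2071 : nd 2071 = n2944 := ndS (p := 929) (l := 5) rfl N929 D2944
theorem N2072 : nd 2072 = n2945 := ndS (p := 929) (l := 6) rfl N929 D2945
theorem N2073 : nd 2073 = n2946 := ndS (p := 930) (l := 4) rfl N930 D2946
theorem N2074 : nd 2074 = n2947 := ndS (p := 931) (l := 5) rfl N931 D2947
theorem N2075 : nd 2075 = n2948 := ndS (p := 932) (l := 3) rfl N932 D2948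
theorem N2076 : nd 2076 = n2949 := ndS (p := 932) (l := 4) rfl N932 D2949
theorem N2077 : nd 2077 = n2950 := ndS (p := 932) (l := 6) rfl N932 D2950
theorem N2078 : nd 2078 = n2952 := ndS (p := 933) (l := 4) rfl N933 D2952
theorem N2079 : nd 2079 = n2953 := ndS (p := 933) (l := 6) rfl N933 D2953
theorem N2080 : nd 2080 = n2954 := ndS (p := 934) (l := 0) rfl N934 D2954
theorem N2081 : nd 2081 = n2955 := ndS (p := 934) (l := 1) rfl N934 D2955
theorem N2082 : nd 2082 = n2956 := ndS (p := 934) (l := 3) rfl N934 D2956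
theorem N2083 : nd 2083 = n2957 := ndS (p := 934) (l := 5) rfl N934 D2957
theorem N2084 : nd 2084 = n2958 := ndS (p := 934) (l := 7) rfl N934 D2958
theorem N2085 : nd 2085 = n2962 := ndS (p := 936) (l := 5) rfl N936 D2962
theorem N2086 : nd 2086 = n2964 := ndS (p := 937) (l := 3) rfl N937 D2964
theorem N2087 : nd 2087 = n2966 := ndS (p := 937) (l := 5) rfl N937 D2966
theorem N2088 : nd 2088 = n2967 := ndS (p := 937) (l := 6) rfl N937 D2967
theorem N2089 : nd 2089 = n2968 := ndS (p := 938) (l := 0) rfl N938 D2968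
theorem N2090 : nd 2090 = n2969 := ndS (p := 938) (l := 1) rfl N938 D2969
theorem N2091 : nd 2091 = n2970 := ndS (p := 938) (l := 4) rfl N938 D2970
theorem N2092 : nd 2092 = n2971 := ndS (p := 938) (l := 7) rfl N938 D2971
theorem N2093 : nd 2093 = n2972 := ndS (p := 940) (l := 0) rfl N940 D2972
theorem N2094 : nd 2094 = n2973 := ndS (p := 940) (l := 1) rfl N940 D2973
theorem N2095 : nd 2095 = n2974 := ndS (p := 940) (l := 5) rfl N940 D2974
theorem N2096 : nd 2096 = n2975 := ndS (p := 940) (l := 7) rfl N940 D2975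
theorem N2097 : nd 2097 = n2977 := ndS (p := 941) (l := 3) rfl N941 D2977
theorem N2098 : nd 2098 = n2979 := ndS (p := 941) (l := 5) rfl N941 D2979
theorem N2099 : nd 2099 = n2982 := ndS (p := 942) (l := 3) rfl N942 D2982
theorem N2100 : nd 2100 = n2984 := ndS (p := 942) (l := 5) rfl N942 D2984
theorem N2101 : nd 2101 = n2985 := ndS (p := 942) (l := 6) rfl N942 D2985
theorem N2102 : nd 2102 = n2986 := ndS (p := 943) (l := 0) rfl N943 D2986
theorem N2103 : nd 2103 = n2987 := ndS (p := 943) (l := 1) rfl N943 D2987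
theorem N2104 : nd 2104 = n2988 := ndS (p := 943) (l := 4) rfl N943 D2988
theorem N2105 : nd 2105 = n2989 := ndS (p := 943) (l := 7) rfl N943 D2989
theorem N2106 : nd 2106 = n2997 := ndS (p := 945) (l := 3) rfl N945 D2997
theorem N2107 : nd 2107 = n2998 := ndS (p := 945) (l := 5) rfl N945 D2998
theorem N2108 : nd 2108 = n2999 := ndS (p := 946) (l := 0) rfl N946 D2999
theorem N2109 : nd 2109 = n3000 := ndS (p := 946) (l := 1) rfl N946 D3000
theorem N2110 : nd 2110 = n3001 := ndS (p := 946) (l := 4) rfl N946 D3001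
theorem N2111 : nd 2111 = n3005 := ndS (p := 947) (l := 4) rfl N947 D3005
theorem N2112 : nd 2112 = n3006 := ndS (p := 947) (l := 5) rfl N947 D3006
theorem N2113 : nd 2113 = n3007 := ndS (p := 947) (l := 6) rfl N947 D3007
theorem N2114 : nd 2114 = n3008 := ndS (p := 948) (l := 3) rfl N948 D3008
theorem N2115 : nd 2115 = n3009 := ndS (p := 948) (l := 5) rfl N948 D3009
theorem N2116 : nd 2116 = n3010 := ndS (p := 948) (l := 6) rfl N948 D3010
theorem N2117 : nd 2117 = n3011 := ndS (p := 949) (l := 4) rfl N949 D3011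
theorem N2118 : nd 2118 = n3012 := ndS (p := 950) (l := 5) rfl N950 D3012
theorem N2119 : nd 2119 = n3014 := ndS (p := 951) (l := 4) rfl N951 D3014
theorem N2120 : nd 2120 = n3015 := ndS (p := 951) (l := 6) rfl N951 D3015
theorem N2121 : nd 2121 = n3016 := ndS (p := 952) (l := 3) rfl N952 D3016
theorem N2122 : nd 2122 = n3017 := ndS (p := 952) (l := 4) rfl N952 D3017
theorem N2123 : nd 2123 = n3018 := ndS (p := 952) (l := 6) rfl N952 D3018
theorem N2124 : nd 2124 = n3019 := ndS (p := 953) (l := 0) rfl N953 D3019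
theorem N2125 : nd 2125 = n3020 := ndS (p := 953) (l := 1) rfl N953 D3020
theorem N2126 : nd 2126 = n3021 := ndS (p := 953) (l := 3) rfl N953 D3021
theorem N2127 : nd 2127 = n3022 := ndS (p := 953) (l := 5) rfl N953 D3022
theorem N2128 : nd 2128 = n3023 := ndS (p := 953) (l := 7) rfl N953 D3023
theorem N2129 : nd 2129 = n3024 := ndS (p := 955) (l := 4) rfl N955 D3024
theorem N2130 : nd 2130 = n3025 := ndS (p := 955) (l := 6) rfl N955 D3025
theorem N2131 : nd 2131 = n3026 := ndS (p := 956) (l := 3) rfl N956 D3026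
theorem N2132 : nd 2132 = n3027 := ndS (p := 956) (l := 4) rfl N956 D3027
theorem N2133 : nd 2133 = n3028 := ndS (p := 956) (l := 6) rfl N956 D3028
theorem N2134 : nd 2134 = n3029 := ndS (p := 957) (l := 6) rfl N957 D3029
theorem N2135 : nd 2135 = n3030 := ndS (p := 958) (l := 0) rfl N958 D3030
theorem N2136 : nd 2136 = n3031 := ndS (p := 958) (l := 1) rfl N958 D3031
theorem N2137 : nd 2137 = n3032 := ndS (p := 958) (l := 5) rfl N958 D3032
theorem N2138 : nd 2138 = n3033 := ndS (p := 958) (l := 7) rfl N958 D3033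
theorem N2139 : nd 2139 = n3044 := ndS (p := 959) (l := 0) rfl N959 D3044
theorem N2140 : nd 2140 = n3045 := ndS (p := 959) (l := 1) rfl N959 D3045
theorem N2141 : nd 2141 = n3046 := ndS (p := 959) (l := 4) rfl N959 D3046
theorem N2142 : nd 2142 = n3047 := ndS (p := 959) (l := 7) rfl N959 D3047
theorem N2143 : nd 2143 = n3048 := ndS (p := 961) (l := 3) rfl N961 D3048
theorem N2144 : nd 2144 = n3049 := ndS (p := 961) (l := 6) rfl N961 D3049
theorem N2145 : nd 2145 = n3050 := ndS (p := 962) (l := 4) rfl N962 D3050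
theorem N2146 : nd 2146 = n3051 := ndS (p := 962) (l := 6) rfl N962 D3051
theorem N2147 : nd 2147 = n3052 := ndS (p := 963) (l := 0) rfl N963 D3052
theorem N2148 : nd 2148 = n3053 := ndS (p := 963) (l := 1) rfl N963 D3053
theorem N2149 : nd 2149 = n3054 := ndS (p := 963) (l := 6) rfl N963 D3054
theorem N2150 : nd 2150 = n3055 := ndS (p := 964) (l := 0) rfl N964 D3055
theorem N2151 : nd 2151 = n3056 := ndS (p := 964) (l := 1) rfl N964 D3056
theorem N2152 : nd 2152 = n3057 := ndS (p := 964) (l := 5) rfl N964 D3057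
theorem N2153 : nd 2153 = n3058 := ndS (p := 964) (l := 7) rfl N964 D3058
theorem N2154 : nd 2154 = n3069 := ndS (p := 965) (l := 0) rfl N965 D3069
theorem N2155 : nd 2155 = n3070 := ndS (p := 965) (l := 1) rfl N965 D3070
theorem N2156 : nd 2156 = n3071 := ndS (p := 965) (l := 4) rfl N965 D3071
theorem N2157 : nd 2157 = n3072 := ndS (p := 965) (l := 7) rfl N965 D3072
theorem N2158 : nd 2158 = n3073 := ndS (p := 967) (l := 6) rfl N967 D3073
theorem N2159 : nd 2159 = n3074 := ndS (p := 968) (l := 6) rfl N968 D3074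
theorem N2160 : nd 2160 = n3075 := ndS (p := 969) (l := 0) rfl N969 D3075
theorem N2161 : nd 2161 = n3077 := ndS (p := 969) (l := 5) rfl N969 D3077
theorem N2162 : nd 2162 = n3078 := ndS (p := 969) (l := 7) rfl N969 D3078
theorem N2163 : nd 2163 = n3079 := ndS (p := 970) (l := 6) rfl N970 D3079
theorem N2164 : nd 2164 = n3081 := ndS (p := 971) (l := 1) rfl N971 D3081
theorem N2165 : nd 2165 = n3082 := ndS (p := 971) (l := 5) rfl N971 D3082
theorem N2166 : nd 2166 = n3083 := ndS (p := 971) (l := 7) rfl N971 D3083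
theorem N2167 : nd 2167 = n3084 := ndS (p := 972) (l := 6) rfl N972 D3084
theorem N2168 : nd 2168 = n3085 := ndS (p := 973) (l := 0) rfl N973 D3085
theorem N2169 : nd 2169 = n3086 := ndS (p := 973) (l := 1) rfl N973 D3086
theorem N2170 : nd 2170 = n3087 := ndS (p := 973) (l := 5) rfl N973 D3087
theorem N2171 : nd 2171 = n3088 := ndS (p := 973) (l := 7) rfl N973 D3088
theorem N2172 : nd 2172 = n3089 := ndS (p := 974) (l := 6) rfl N974 D3089
theorem N2173 : nd 2173 = n3090 := ndS (p := 975) (l := 6) rfl N975 D3090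
theorem N2174 : nd 2174 = n3091 := ndS (p := 976) (l := 0) rfl N976 D3091
theorem N2175 : nd 2175 = n3092 := ndS (p := 976) (l := 6) rfl N976 D3092
theorem N2176 : nd 2176 = n3093 := ndS (p := 977) (l := 0) rfl N977 D3093
theorem N2177 : nd 2177 = n3094 := ndS (p := 977) (l := 1) rfl N977 D3094
theorem N2178 : nd 2178 = n3095 := ndS (p := 977) (l := 5) rfl N977 D3095
theorem N2179 : nd 2179 = n3096 := ndS (p := 977) (l := 7) rfl N977 D3096
theorem N2180 : nd 2180 = n3098 := ndS (p := 978) (l := 3) rfl N978 D3098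
theorem N2181 : nd 2181 = n3099 := ndS (p := 978) (l := 4) rfl N978 D3099
theorem N2182 : nd 2182 = n3100 := ndS (p := 978) (l := 5) rfl N978 D3100
theorem N2183 : nd 2183 = n3101 := ndS (p := 978) (l := 6) rfl N978 D3101
theorem N2184 : nd 2184 = n3103 := ndS (p := 979) (l := 3) rfl N979 D3103
theorem N2185 : nd 2185 = n3104 := ndS (p := 979) (l := 4) rfl N979 D3104
theorem N2186 : nd 2186 = n3105 := ndS (p := 979) (l := 5) rfl N979 D3105
theorem N2187 : nd 2187 = n3106 := ndS (p := 979) (l := 6) rfl N979 D3106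
theorem N2188 : nd 2188 = n3107 := ndS (p := 980) (l := 0) rfl N980 D3107
theorem N2189 : nd 2189 = n3108 := ndS (p := 980) (l := 1) rfl N980 D3108
theorem N2190 : nd 2190 = n3109 := ndS (p := 980) (l := 4) rfl N980 D3109
theorem N2191 : nd 2191 = n3110 := ndS (p := 980) (l := 7) rfl N980 D3110
theorem N2192 : nd 2192 = n3112 := ndS (p := 982) (l := 3) rfl N982 D3112
theorem N2193 : nd 2193 = n3114 := ndS (p := 982) (l := 5) rfl N982 D3114
theorem N2194 : nd 2194 = n3115 := ndS (p := 982) (l := 6) rfl N982 D3115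
theorem N2195 : nd 2195 = n3117 := ndS (p := 983) (l := 3) rfl N983 D3117
theorem N2196 : nd 2196 = n3119 := ndS (p := 983) (l := 5) rfl N983 D3119
theorem N2197 : nd 2197 = n3120 := ndS (p := 983) (l := 6) rfl N983 D3120
theorem N2198 : nd 2198 = n3121 := ndS (p := 984) (l := 0) rfl N984 D3121
theorem N2199 : nd 2199 = n3122 := ndS (p := 984) (l := 1) rfl N984 D3122
theorem N2200 : nd 2200 = n3123 := ndS (p := 984) (l := 4) rfl N984 D3123
theorem N2201 : nd 2201 = n3124 := ndS (p := 984) (l := 7) rfl N984 D3124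
theorem N2202 : nd 2202 = n3131 := ndS (p := 986) (l := 0) rfl N986 D3131
theorem N2203 : nd 2203 = n3133 := ndS (p := 986) (l := 2) rfl N986 D3133
theorem N2204 : nd 2204 = n3135 := ndS (p := 986) (l := 5) rfl N986 D3135
theorem N2205 : nd 2205 = n3136 := ndS (p := 986) (l := 6) rfl N986 D3136
theorem N2206 : nd 2206 = n3144 := ndS (p := 987) (l := 0) rfl N987 D3144
theorem N2207 : nd 2207 = n3145 := ndS (p := 987) (l := 1) rfl N987 D3145
theorem N2208 : nd 2208 = n3146 := ndS (p := 987) (l := 4) rfl N987 D3146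
theorem N2209 : nd 2209 = n3147 := ndS (p := 987) (l := 6) rfl N987 D3147
theorem N2210 : nd 2210 = n3150 := ndS (p := 988) (l := 1) rfl N988 D3150
theorem N2211 : nd 2211 = n3151 := ndS (p := 988) (l := 7) rfl N988 D3151
theorem N2212 : nd 2212 = n3154 := ndS (p := 989) (l := 1) rfl N989 D3154
theorem N2213 : nd 2213 = n3155 := ndS (p := 989) (l := 2) rfl N989 D3155
theorem N2214 : nd 2214 = n3156 := ndS (p := 989) (l := 4) rfl N989 D3156
theorem N2215 : nd 2215 = n3157 := ndS (p := 989) (l := 5) rfl N989 D3157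
theorem N2216 : nd 2216 = n3158 := ndS (p := 989) (l := 6) rfl N989 D3158
theorem N2217 : nd 2217 = n3159 := ndS (p := 990) (l := 4) rfl N990 D3159
theorem N2218 : nd 2218 = n3160 := ndS (p := 990) (l := 6) rfl N990 D3160
theorem N2219 : nd 2219 = n3161 := ndS (p := 991) (l := 5) rfl N991 D3161
theorem N2220 : nd 2220 = n3162 := ndS (p := 991) (l := 7) rfl N991 D3162
theorem N2221 : nd 2221 = n3164 := ndS (p := 992) (l := 3) rfl N992 D3164
theorem N2222 : nd 2222 = n3165 := ndS (p := 992) (l := 4) rfl N992 D3165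
theorem N2223 : nd 2223 = n3166 := ndS (p := 992) (l := 5) rfl N992 D3166
theorem N2224 : nd 2224 = n3167 := ndS (p := 992) (l := 6) rfl N992 D3167
theorem N2225 : nd 2225 = n3169 := ndS (p := 993) (l := 3) rfl N993 D3169
theorem N2226 : nd 2226 = n3170 := ndS (p := 993) (l := 4) rfl N993 D3170
theorem N2227 : nd 2227 = n3171 := ndS (p := 993) (l := 6) rfl N993 D3171
theorem N2228 : nd 2228 = n3172 := ndS (p := 994) (l := 0) rfl N994 D3172
theorem N2229 : nd 2229 = n3173 := ndS (p := 994) (l := 1) rfl N994 D3173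
theorem N2230 : nd 2230 = n3174 := ndS (p := 994) (l := 3) rfl N994 D3174
theorem N2231 : nd 2231 = n3175 := ndS (p := 994) (l := 5) rfl N994 D3175
theorem N2232 : nd 2232 = n3176 := ndS (p := 994) (l := 7) rfl N994 D3176
theorem N2233 : nd 2233 = n3177 := ndS (p := 995) (l := 6) rfl N995 D3177
theorem N2234 : nd 2234 = n3212 := ndS (p := 996) (l := 0) rfl N996 D3212
theorem N2235 : nd 2235 = n3214 := ndS (p := 996) (l := 2) rfl N996 D3214
theorem N2236 : nd 2236 = n3215 := ndS (p := 996) (l := 5) rfl N996 D3215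
theorem N2237 : nd 2237 = n3216 := ndS (p := 996) (l := 6) rfl N996 D3216
theorem N2238 : nd 2238 = n3217 := ndS (p := 997) (l := 0) rfl N997 D3217
theorem N2239 : nd 2239 = n3218 := ndS (p := 997) (l := 1) rfl N997 D3218
theorem N2240 : nd 2240 = n3219 := ndS (p := 997) (l := 4) rfl N997 D3219
theorem N2241 : nd 2241 = n3220 := ndS (p := 997) (l := 6) rfl N997 D3220
theorem N2242 : nd 2242 = n3222 := ndS (p := 998) (l := 1) rfl N998 D3222
theorem N2243 : nd 2243 = n3223 := ndS (p := 998) (l := 5) rfl N998 D3223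
theorem N2244 : nd 2244 = n3224 := ndS (p := 998) (l := 7) rfl N998 D3224
theorem N2245 : nd 2245 = n3225 := ndS (p := 999) (l := 3) rfl N999 D3225
theorem N2246 : nd 2246 = n3226 := ndS (p := 999) (l := 4) rfl N999 D3226
theorem N2247 : nd 2247 = n3228 := ndS (p := 1000) (l := 4) rfl N1000 D3228
theorem N2248 : nd 2248 = n3229 := ndS (p := 1001) (l := 0) rfl N1001 D3229
theorem N2249 : nd 2249 = n3230 := ndS (p := 1001) (l := 1) rfl N1001 D3230
theorem N2250 : nd 2250 = n3231 := ndS (p := 1001) (l := 3) rfl N1001 D3231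
theorem N2251 : nd 2251 = n3232 := ndS (p := 1001) (l := 5) rfl N1001 D3232
theorem N2252 : nd 2252 = n3233 := ndS (p := 1001) (l := 6) rfl N1001 D3233
theorem N2253 : nd 2253 = n3234 := ndS (p := 1002) (l := 0) rfl N1002 D3234
theorem N2254 : nd 2254 = n3235 := ndS (p := 1002) (l := 1) rfl N1002 D3235
theorem N2255 : nd 2255 = n3236 := ndS (p := 1002) (l := 5) rfl N1002 D3236
theorem N2256 : nd 2256 = n3238 := ndS (p := 1004) (l := 4) rfl N1004 D3238
theorem N2257 : nd 2257 = n3247 := ndS (p := 1006) (l := 5) rfl N1006 D3247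
theorem N2258 : nd 2258 = n3257 := ndS (p := 1007) (l := 0) rfl N1007 D3257
theorem N2259 : nd 2259 = n3258 := ndS (p := 1007) (l := 1) rfl N1007 D3258
theorem N2260 : nd 2260 = n3259 := ndS (p := 1007) (l := 4) rfl N1007 D3259
theorem N2261 : nd 2261 = n3260 := ndS (p := 1007) (l := 6) rfl N1007 D3260
theorem N2262 : nd 2262 = n3263 := ndS (p := 1008) (l := 5) rfl N1008 D3263
theorem N2263 : nd 2263 = n3265 := ndS (p := 1009) (l := 1) rfl N1009 D3265
theorem N2264 : nd 2264 = n3267 := ndS (p := 1009) (l := 5) rfl N1009 D3267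
theorem N2265 : nd 2265 = n3268 := ndS (p := 1009) (l := 6) rfl N1009 D3268
theorem N2266 : nd 2266 = n3269 := ndS (p := 1010) (l := 4) rfl N1010 D3269
theorem N2267 : nd 2267 = n3270 := ndS (p := 1010) (l := 6) rfl N1010 D3270
theorem N2268 : nd 2268 = n3273 := ndS (p := 1011) (l := 5) rfl N1011 D3273
theorem N2269 : nd 2269 = n3274 := ndS (p := 1011) (l := 7) rfl N1011 D3274
theorem N2270 : nd 2270 = n3275 := ndS (p := 1012) (l := 3) rfl N1012 D3275
theorem N2271 : nd 2271 = n3276 := ndS (p := 1012) (l := 5) rfl N1012 D3276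
theorem N2272 : nd 2272 = n3277 := ndS (p := 1012) (l := 6) rfl N1012 D3277
theorem N2273 : nd 2273 = n3284 := ndS (p := 1015) (l := 3) rfl N1015 D3284
theorem N2274 : nd 2274 = n3285 := ndS (p := 1015) (l := 5) rfl N1015 D3285
theorem N2275 : nd 2275 = n3286 := ndS (p := 1015) (l := 6) rfl N1015 D3286
theorem N2276 : nd 2276 = n3288 := ndS (p := 1016) (l := 4) rfl N1016 D3288
theorem N2277 : nd 2277 = n3290 := ndS (p := 1017) (l := 0) rfl N1017 D3290
theorem N2278 : nd 2278 = n3291 := ndS (p := 1017) (l := 1) rfl N1017 D3291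
theorem N2279 : nd 2279 = n3292 := ndS (p := 1017) (l := 5) rfl N1017 D3292
theorem N2280 : nd 2280 = n3293 := ndS (p := 1017) (l := 7) rfl N1017 D3293
theorem N2281 : nd 2281 = n3296 := ndS (p := 1018) (l := 4) rfl N1018 D3296
theorem N2282 : nd 2282 = n3297 := ndS (p := 1018) (l := 5) rfl N1018 D3297
theorem N2283 : nd 2283 = n3298 := ndS (p := 1018) (l := 6) rfl N1018 D3298
theorem N2284 : nd 2284 = n3299 := ndS (p := 1019) (l := 3) rfl N1019 D3299
theorem N2285 : nd 2285 = n3300 := ndS (p := 1019) (l := 5) rfl N1019 D3300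
theorem N2286 : nd 2286 = n3301 := ndS (p := 1019) (l := 6) rfl N1019 D3301
theorem N2287 : nd 2287 = n3302 := ndS (p := 1020) (l := 4) rfl N1020 D3302
theorem N2288 : nd 2288 = n3303 := ndS (p := 1021) (l := 0) rfl N1021 D3303
theorem N2289 : nd 2289 = n3304 := ndS (p := 1021) (l := 5) rfl N1021 D3304
theorem N2290 : nd 2290 = n3305 := ndS (p := 1021) (l := 7) rfl N1021 D3305
theorem N2291 : nd 2291 = n3307 := ndS (p := 1022) (l := 3) rfl N1022 D3307
theorem N2292 : nd 2292 = n3308 := ndS (p := 1022) (l := 5) rfl N1022 D3308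
theorem N2293 : nd 2293 = n3309 := ndS (p := 1022) (l := 6) rfl N1022 D3309
theorem N2294 : nd 2294 = n3311 := ndS (p := 1023) (l := 3) rfl N1023 D3311
theorem N2295 : nd 2295 = n3312 := ndS (p := 1023) (l := 5) rfl N1023 D3312
theorem N2296 : nd 2296 = n3313 := ndS (p := 1023) (l := 6) rfl N1023 D3313
theorem N2297 : nd 2297 = n3314 := ndS (p := 1024) (l := 0) rfl N1024 D3314
theorem N2298 : nd 2298 = n3315 := ndS (p := 1024) (l := 1) rfl N1024 D3315
theorem N2299 : nd 2299 = n3316 := ndS (p := 1024) (l := 2) rfl N1024 D3316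
theorem N2300 : nd 2300 = n3317 := ndS (p := 1024) (l := 5) rfl N1024 D3317
theorem N2301 : nd 2301 = n3318 := ndS (p := 1024) (l := 7) rfl N1024 D3318
theorem N2302 : nd 2302 = n3319 := ndS (p := 1025) (l := 0) rfl N1025 D3319
theorem N2303 : nd 2303 = n3320 := ndS (p := 1025) (l := 1) rfl N1025 D3320
theorem N2304 : nd 2304 = n3321 := ndS (p := 1025) (l := 4) rfl N1025 D3321
theorem N2305 : nd 2305 = n3322 := ndS (p := 1025) (l := 6) rfl N1025 D3322
theorem N2306 : nd 2306 = n3323 := ndS (p := 1025) (l := 7) rfl N1025 D3323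
theorem N2307 : nd 2307 = n3324 := ndS (p := 1026) (l := 6) rfl N1026 D3324
theorem N2308 : nd 2308 = n3325 := ndS (p := 1028) (l := 4) rfl N1028 D3325
theorem N2309 : nd 2309 = n3326 := ndS (p := 1028) (l := 6) rfl N1028 D3326
theorem N2310 : nd 2310 = n3327 := ndS (p := 1029) (l := 3) rfl N1029 D3327
theorem N2311 : nd 2311 = n3328 := ndS (p := 1029) (l := 6) rfl N1029 D3328
theorem N2312 : nd 2312 = n3329 := ndS (p := 1030) (l := 0) rfl N1030 D3329
theorem N2313 : nd 2313 = n3330 := ndS (p := 1030) (l := 7) rfl N1030 D3330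
theorem N2314 : nd 2314 = n3331 := ndS (p := 1031) (l := 3) rfl N1031 D3331
theorem N2315 : nd 2315 = n3332 := ndS (p := 1031) (l := 5) rfl N1031 D3332
theorem N2316 : nd 2316 = n3333 := ndS (p := 1031) (l := 6) rfl N1031 D3333
theorem N2317 : nd 2317 = n3334 := ndS (p := 1032) (l := 3) rfl N1032 D3334
theorem N2318 : nd 2318 = n3335 := ndS (p := 1032) (l := 5) rfl N1032 D3335
theorem N2319 : nd 2319 = n3336 := ndS (p := 1033) (l := 0) rfl N1033 D3336
theorem N2320 : nd 2320 = n3337 := ndS (p := 1033) (l := 1) rfl N1033 D3337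
theorem N2321 : nd 2321 = n3338 := ndS (p := 1033) (l := 2) rfl N1033 D3338
theorem N2322 : nd 2322 = n3339 := ndS (p := 1033) (l := 5) rfl N1033 D3339
theorem N2323 : nd 2323 = n3340 := ndS (p := 1033) (l := 6) rfl N1033 D3340
theorem N2324 : nd 2324 = n3341 := ndS (p := 1034) (l := 6) rfl N1034 D3341
theorem N2325 : nd 2325 = n3342 := ndS (p := 1035) (l := 0) rfl N1035 D3342
theorem N2326 : nd 2326 = n3343 := ndS (p := 1035) (l := 1) rfl N1035 D3343
theorem N2327 : nd 2327 = n3344 := ndS (p := 1035) (l := 5) rfl N1035 D3344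
theorem N2328 : nd 2328 = n3345 := ndS (p := 1035) (l := 7) rfl N1035 D3345
theorem N2329 : nd 2329 = n3347 := ndS (p := 1036) (l := 3) rfl N1036 D3347
theorem N2330 : nd 2330 = n3348 := ndS (p := 1036) (l := 4) rfl N1036 D3348
theorem N2331 : nd 2331 = n3349 := ndS (p := 1036) (l := 5) rfl N1036 D3349
theorem N2332 : nd 2332 = n3352 := ndS (p := 1037) (l := 4) rfl N1037 D3352
theorem N2333 : nd 2333 = n3353 := ndS (p := 1037) (l := 5) rfl N1037 D3353
theorem N2334 : nd 2334 = n3354 := ndS (p := 1037) (l := 6) rfl N1037 D3354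
theorem N2335 : nd 2335 = n3355 := ndS (p := 1039) (l := 4) rfl N1039 D3355
theorem N2336 : nd 2336 = n3356 := ndS (p := 1039) (l := 6) rfl N1039 D3356
theorem N2337 : nd 2337 = n3357 := ndS (p := 1040) (l := 4) rfl N1040 D3357
theorem N2338 : nd 2338 = n3358 := ndS (p := 1041) (l := 4) rfl N1041 D3358
theorem N2339 : nd 2339 = n3359 := ndS (p := 1041) (l := 6) rfl N1041 D3359
theorem N2340 : nd 2340 = n3366 := ndS (p := 1043) (l := 7) rfl N1043 D3366
theorem N2341 : nd 2341 = n3367 := ndS (p := 1044) (l := 0) rfl N1044 D3367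
theorem N2342 : nd 2342 = n3368 := ndS (p := 1044) (l := 1) rfl N1044 D3368
theorem N2343 : nd 2343 = n3370 := ndS (p := 1044) (l := 5) rfl N1044 D3370
theorem N2344 : nd 2344 = n3372 := ndS (p := 1045) (l := 6) rfl N1045 D3372
theorem N2345 : nd 2345 = n3378 := ndS (p := 1046) (l := 4) rfl N1046 D3378
theorem N2346 : nd 2346 = n3379 := ndS (p := 1047) (l := 3) rfl N1047 D3379
theorem N2347 : nd 2347 = n3380 := ndS (p := 1047) (l := 4) rfl N1047 D3380
theorem N2348 : nd 2348 = n3381 := ndS (p := 1049) (l := 0) rfl N1049 D3381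
theorem N2349 : nd 2349 = n3382 := ndS (p := 1049) (l := 1) rfl N1049 D3382
theorem N2350 : nd 2350 = n3383 := ndS (p := 1049) (l := 2) rfl N1049 D3383
theorem N2351 : nd 2351 = n3384 := ndS (p := 1049) (l := 5) rfl N1049 D3384
theorem N2352 : nd 2352 = n3385 := ndS (p := 1050) (l := 0) rfl N1050 D3385
theorem N2353 : nd 2353 = n3386 := ndS (p := 1050) (l := 1) rfl N1050 D3386
theorem N2354 : nd 2354 = n3387 := ndS (p := 1050) (l := 6) rfl N1050 D3387
theorem N2355 : nd 2355 = n3388 := ndS (p := 1051) (l := 3) rfl N1051 D3388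
theorem N2356 : nd 2356 = n3389 := ndS (p := 1051) (l := 5) rfl N1051 D3389
theorem N2357 : nd 2357 = n3390 := ndS (p := 1051) (l := 6) rfl N1051 D3390
theorem N2358 : nd 2358 = n3391 := ndS (p := 1052) (l := 0) rfl N1052 D3391
theorem N2359 : nd 2359 = n3392 := ndS (p := 1052) (l := 1) rfl N1052 D3392
theorem N2360 : nd 2360 = n3393 := ndS (p := 1052) (l := 7) rfl N1052 D3393
theorem N2361 : nd 2361 = n3394 := ndS (p := 1053) (l := 0) rfl N1053 D3394
theorem N2362 : nd 2362 = n3395 := ndS (p := 1053) (l := 1) rfl N1053 D3395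
theorem N2363 : nd 2363 = n3396 := ndS (p := 1053) (l := 2) rfl N1053 D3396
theorem N2364 : nd 2364 = n3397 := ndS (p := 1053) (l := 5) rfl N1053 D3397
theorem N2365 : nd 2365 = n3398 := ndS (p := 1053) (l := 6) rfl N1053 D3398
theorem N2366 : nd 2366 = n3399 := ndS (p := 1054) (l := 6) rfl N1054 D3399
theorem N2367 : nd 2367 = n3400 := ndS (p := 1055) (l := 0) rfl N1055 D3400
theorem N2368 : nd 2368 = n3401 := ndS (p := 1055) (l := 1) rfl N1055 D3401
theorem N2369 : nd 2369 = n3402 := ndS (p := 1055) (l := 5) rfl N1055 D3402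
theorem N2370 : nd 2370 = n3403 := ndS (p := 1055) (l := 7) rfl N1055 D3403
theorem N2371 : nd 2371 = n3406 := ndS (p := 1056) (l := 4) rfl N1056 D3406
theorem N2372 : nd 2372 = n3408 := ndS (p := 1057) (l := 3) rfl N1057 D3408
theorem N2373 : nd 2373 = n3409 := ndS (p := 1057) (l := 4) rfl N1057 D3409
theorem N2374 : nd 2374 = n3411 := ndS (p := 1059) (l := 0) rfl N1059 D3411
theorem N2375 : nd 2375 = n3412 := ndS (p := 1059) (l := 1) rfl N1059 D3412
theorem N2376 : nd 2376 = n3413 := ndS (p := 1059) (l := 2) rfl N1059 D3413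
theorem N2377 : nd 2377 = n3414 := ndS (p := 1059) (l := 4) rfl N1059 D3414
theorem N2378 : nd 2378 = n3415 := ndS (p := 1059) (l := 5) rfl N1059 D3415
theorem N2379 : nd 2379 = n3416 := ndS (p := 1059) (l := 6) rfl N1059 D3416
theorem N2380 : nd 2380 = n3417 := ndS (p := 1060) (l := 6) rfl N1060 D3417
theorem N2381 : nd 2381 = n3418 := ndS (p := 1061) (l := 5) rfl N1061 D3418
theorem N2382 : nd 2382 = n3419 := ndS (p := 1061) (l := 7) rfl N1061 D3419
theorem N2383 : nd 2383 = n3420 := ndS (p := 1062) (l := 0) rfl N1062 D3420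
theorem N2384 : nd 2384 = n3421 := ndS (p := 1062) (l := 1) rfl N1062 D3421
theorem N2385 : nd 2385 = n3422 := ndS (p := 1062) (l := 2) rfl N1062 D3422
theorem N2386 : nd 2386 = n3423 := ndS (p := 1062) (l := 4) rfl N1062 D3423
theorem N2387 : nd 2387 = n3424 := ndS (p := 1062) (l := 5) rfl N1062 D3424
theorem N2388 : nd 2388 = n3425 := ndS (p := 1062) (l := 6) rfl N1062 D3425
theorem N2389 : nd 2389 = n3426 := ndS (p := 1063) (l := 6) rfl N1063 D3426
theorem N2390 : nd 2390 = n3429 := ndS (p := 1064) (l := 5) rfl N1064 D3429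
theorem N2391 : nd 2391 = n3430 := ndS (p := 1064) (l := 7) rfl N1064 D3430
theorem N2392 : nd 2392 = n3431 := ndS (p := 1065) (l := 0) rfl N1065 D3431
theorem N2393 : nd 2393 = n3432 := ndS (p := 1065) (l := 2) rfl N1065 D3432
theorem N2394 : nd 2394 = n3433 := ndS (p := 1065) (l := 3) rfl N1065 D3433
theorem N2395 : nd 2395 = n3434 := ndS (p := 1065) (l := 4) rfl N1065 D3434
theorem N2396 : nd 2396 = n3435 := ndS (p := 1065) (l := 5) rfl N1065 D3435
theorem N2397 : nd 2397 = n3436 := ndS (p := 1065) (l := 6) rfl N1065 D3436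
theorem N2398 : nd 2398 = n3437 := ndS (p := 1065) (l := 7) rfl N1065 D3437
theorem N2399 : nd 2399 = n3438 := ndS (p := 1066) (l := 3) rfl N1066 D3438
theorem N2400 : nd 2400 = n3439 := ndS (p := 1066) (l := 4) rfl N1066 D3439
theorem N2401 : nd 2401 = n3440 := ndS (p := 1066) (l := 5) rfl N1066 D3440
theorem N2402 : nd 2402 = n3441 := ndS (p := 1066) (l := 6) rfl N1066 D3441
theorem N2403 : nd 2403 = n3444 := ndS (p := 1067) (l := 5) rfl N1067 D3444
theorem N2404 : nd 2404 = n3445 := ndS (p := 1068) (l := 0) rfl N1068 D3445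
theorem N2405 : nd 2405 = n3446 := ndS (p := 1068) (l := 1) rfl N1068 D3446
theorem N2406 : nd 2406 = n3447 := ndS (p := 1068) (l := 4) rfl N1068 D3447
theorem N2407 : nd 2407 = n3448 := ndS (p := 1068) (l := 6) rfl N1068 D3448
theorem N2408 : nd 2408 = n3449 := ndS (p := 1069) (l := 6) rfl N1069 D3449
theorem N2409 : nd 2409 = n3450 := ndS (p := 1070) (l := 3) rfl N1070 D3450
theorem N2410 : nd 2410 = n3451 := ndS (p := 1070) (l := 6) rfl N1070 D3451
theorem N2411 : nd 2411 = n3452 := ndS (p := 1071) (l := 3) rfl N1071 D3452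
theorem N2412 : nd 2412 = n3453 := ndS (p := 1071) (l := 6) rfl N1071 D3453
theorem N2413 : nd 2413 = n3454 := ndS (p := 1072) (l := 0) rfl N1072 D3454
theorem N2414 : nd 2414 = n3455 := ndS (p := 1072) (l := 1) rfl N1072 D3455
theorem N2415 : nd 2415 = n3456 := ndS (p := 1072) (l := 7) rfl N1072 D3456
theorem N2416 : nd 2416 = n3457 := ndS (p := 1073) (l := 0) rfl N1073 D3457
theorem N2417 : nd 2417 = n3458 := ndS (p := 1073) (l := 1) rfl N1073 D3458
theorem N2418 : nd 2418 = n3459 := ndS (p := 1073) (l := 5) rfl N1073 D3459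
theorem N2419 : nd 2419 = n3460 := ndS (p := 1074) (l := 4) rfl N1074 D3460
theorem N2420 : nd 2420 = n3461 := ndS (p := 1074) (l := 5) rfl N1074 D3461
theorem N2421 : nd 2421 = n3464 := ndS (p := 1075) (l := 5) rfl N1075 D3464
theorem N2422 : nd 2422 = n3466 := ndS (p := 1083) (l := 3) rfl N1083 D3466
theorem N2423 : nd 2423 = n3467 := ndS (p := 1084) (l := 3) rfl N1084 D3467
theorem N2424 : nd 2424 = n3468 := ndS (p := 1084) (l := 6) rfl N1084 D3468
theorem N2425 : nd 2425 = n3469 := ndS (p := 1085) (l := 6) rfl N1085 D3469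
theorem N2426 : nd 2426 = n3470 := ndS (p := 1086) (l := 6) rfl N1086 D3470
theorem N2427 : nd 2427 = n3471 := ndS (p := 1087) (l := 0) rfl N1087 D3471
theorem N2428 : nd 2428 = n3472 := ndS (p := 1087) (l := 1) rfl N1087 D3472
theorem N2429 : nd 2429 = n3473 := ndS (p := 1087) (l := 5) rfl N1087 D3473
theorem N2430 : nd 2430 = n3474 := ndS (p := 1087) (l := 7) rfl N1087 D3474
theorem N2431 : nd 2431 = n3476 := ndS (p := 1088) (l := 3) rfl N1088 D3476
theorem N2432 : nd 2432 = n3478 := ndS (p := 1088) (l := 5) rfl N1088 D3478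
theorem N2433 : nd 2433 = n3479 := ndS (p := 1088) (l := 6) rfl N1088 D3479
theorem N2434 : nd 2434 = n3481 := ndS (p := 1089) (l := 3) rfl N1089 D3481
theorem N2435 : nd 2435 = n3482 := ndS (p := 1089) (l := 5) rfl N1089 D3482
theorem N2436 : nd 2436 = n3483 := ndS (p := 1089) (l := 6) rfl N1089 D3483
theorem N2437 : nd 2437 = n3484 := ndS (p := 1090) (l := 0) rfl N1090 D3484
theorem N2438 : nd 2438 = n3485 := ndS (p := 1090) (l := 1) rfl N1090 D3485
theorem N2439 : nd 2439 = n3486 := ndS (p := 1090) (l := 4) rfl N1090 D3486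
theorem N2440 : nd 2440 = n3487 := ndS (p := 1090) (l := 7) rfl N1090 D3487
theorem N2441 : nd 2441 = n3488 := ndS (p := 1092) (l := 3) rfl N1092 D3488
theorem N2442 : nd 2442 = n3489 := ndS (p := 1092) (l := 5) rfl N1092 D3489
theorem N2443 : nd 2443 = n3490 := ndS (p := 1092) (l := 6) rfl N1092 D3490
theorem N2444 : nd 2444 = n3491 := ndS (p := 1093) (l := 4) rfl N1093 D3491
theorem N2445 : nd 2445 = n3492 := ndS (p := 1093) (l := 6) rfl N1093 D3492
theorem N2446 : nd 2446 = n3496 := ndS (p := 1095) (l := 5) rfl N1095 D3496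
theorem N2447 : nd 2447 = n3497 := ndS (p := 1095) (l := 6) rfl N1095 D3497
theorem N2448 : nd 2448 = n3498 := ndS (p := 1096) (l := 3) rfl N1096 D3498
theorem N2449 : nd 2449 = n3499 := ndS (p := 1096) (l := 5) rfl N1096 D3499
theorem N2450 : nd 2450 = n3500 := ndS (p := 1096) (l := 6) rfl N1096 D3500
theorem N2451 : nd 2451 = n3501 := ndS (p := 1097) (l := 4) rfl N1097 D3501
theorem N2452 : nd 2452 = n3502 := ndS (p := 1099) (l := 4) rfl N1099 D3502
theorem N2453 : nd 2453 = n3503 := ndS (p := 1100) (l := 3) rfl N1100 D3503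
theorem N2454 : nd 2454 = n3504 := ndS (p := 1100) (l := 4) rfl N1100 D3504
theorem N2455 : nd 2455 = n3505 := ndS (p := 1100) (l := 6) rfl N1100 D3505
theorem N2456 : nd 2456 = n3506 := ndS (p := 1101) (l := 0) rfl N1101 D3506
theorem N2457 : nd 2457 = n3507 := ndS (p := 1101) (l := 1) rfl N1101 D3507
theorem N2458 : nd 2458 = n3508 := ndS (p := 1101) (l := 3) rfl N1101 D3508
theorem N2459 : nd 2459 = n3509 := ndS (p := 1101) (l := 5) rfl N1101 D3509
theorem N2460 : nd 2460 = n3510 := ndS (p := 1101) (l := 7) rfl N1101 D3510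
theorem N2461 : nd 2461 = n3511 := ndS (p := 1102) (l := 6) rfl N1102 D3511
theorem N2462 : nd 2462 = n3512 := ndS (p := 1103) (l := 0) rfl N1103 D3512
theorem N2463 : nd 2463 = n3513 := ndS (p := 1103) (l := 1) rfl N1103 D3513
theorem N2464 : nd 2464 = n3514 := ndS (p := 1103) (l := 2) rfl N1103 D3514
theorem N2465 : nd 2465 = n3515 := ndS (p := 1103) (l := 5) rfl N1103 D3515
theorem N2466 : nd 2466 = n3516 := ndS (p := 1103) (l := 7) rfl N1103 D3516
theorem N2467 : nd 2467 = n3517 := ndS (p := 1104) (l := 6) rfl N1104 D3517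
theorem N2468 : nd 2468 = n3518 := ndS (p := 1105) (l := 6) rfl N1105 D3518
theorem N2469 : nd 2469 = n3519 := ndS (p := 1106) (l := 0) rfl N1106 D3519
theorem N2470 : nd 2470 = n3520 := ndS (p := 1106) (l := 1) rfl N1106 D3520
theorem N2471 : nd 2471 = n3521 := ndS (p := 1109) (l := 4) rfl N1109 D3521
theorem N2472 : nd 2472 = n3522 := ndS (p := 1109) (l := 6) rfl N1109 D3522
theorem N2473 : nd 2473 = n3523 := ndS (p := 1110) (l := 0) rfl N1110 D3523
theorem N2474 : nd 2474 = n3524 := ndS (p := 1110) (l := 1) rfl N1110 D3524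
theorem N2475 : nd 2475 = n3525 := ndS (p := 1110) (l := 7) rfl N1110 D3525
theorem N2476 : nd 2476 = n3526 := ndS (p := 1111) (l := 0) rfl N1111 D3526
theorem N2477 : nd 2477 = n3527 := ndS (p := 1111) (l := 1) rfl N1111 D3527
theorem N2478 : nd 2478 = n3528 := ndS (p := 1111) (l := 2) rfl N1111 D3528
theorem N2479 : nd 2479 = n3529 := ndS (p := 1111) (l := 6) rfl N1111 D3529
theorem N2480 : nd 2480 = n3530 := ndS (p := 1112) (l := 5) rfl N1112 D3530
theorem N2481 : nd 2481 = n3531 := ndS (p := 1112) (l := 7) rfl N1112 D3531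
theorem N2482 : nd 2482 = n3532 := ndS (p := 1113) (l := 0) rfl N1113 D3532
theorem N2483 : nd 2483 = n3533 := ndS (p := 1113) (l := 1) rfl N1113 D3533
theorem N2484 : nd 2484 = n3534 := ndS (p := 1113) (l := 2) rfl N1113 D3534
theorem N2485 : nd 2485 = n3535 := ndS (p := 1113) (l := 6) rfl N1113 D3535
theorem N2486 : nd 2486 = n3536 := ndS (p := 1114) (l := 5) rfl N1114 D3536
theorem N2487 : nd 2487 = n3537 := ndS (p := 1115) (l := 0) rfl N1115 D3537
theorem N2488 : nd 2488 = n3538 := ndS (p := 1115) (l := 2) rfl N1115 D3538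
theorem N2489 : nd 2489 = n3539 := ndS (p := 1115) (l := 3) rfl N1115 D3539
theorem N2490 : nd 2490 = n3540 := ndS (p := 1115) (l := 4) rfl N1115 D3540
theorem N2491 : nd 2491 = n3542 := ndS (p := 1115) (l := 6) rfl N1115 D3542
theorem N2492 : nd 2492 = n3543 := ndS (p := 1115) (l := 7) rfl N1115 D3543
theorem N2493 : nd 2493 = n3544 := ndS (p := 1116) (l := 3) rfl N1116 D3544
theorem N2494 : nd 2494 = n3545 := ndS (p := 1116) (l := 4) rfl N1116 D3545
theorem N2495 : nd 2495 = n3547 := ndS (p := 1116) (l := 6) rfl N1116 D3547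
theorem N2496 : nd 2496 = n3550 := ndS (p := 1117) (l := 5) rfl N1117 D3550
theorem N2497 : nd 2497 = n3551 := ndS (p := 1118) (l := 0) rfl N1118 D3551
theorem N2498 : nd 2498 = n3552 := ndS (p := 1118) (l := 1) rfl N1118 D3552
theorem N2499 : nd 2499 = n3553 := ndS (p := 1118) (l := 4) rfl N1118 D3553
theorem N2500 : nd 2500 = n3554 := ndS (p := 1118) (l := 6) rfl N1118 D3554
theorem N2501 : nd 2501 = n3555 := ndS (p := 1118) (l := 7) rfl N1118 D3555
theorem N2502 : nd 2502 = n3556 := ndS (p := 1119) (l := 6) rfl N1119 D3556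
theorem N2503 : nd 2503 = n3557 := ndS (p := 1120) (l := 3) rfl N1120 D3557
theorem N2504 : nd 2504 = n3558 := ndS (p := 1120) (l := 6) rfl N1120 D3558
theorem N2505 : nd 2505 = n3559 := ndS (p := 1121) (l := 0) rfl N1121 D3559
theorem N2506 : nd 2506 = n3560 := ndS (p := 1121) (l := 1) rfl N1121 D3560
theorem N2507 : nd 2507 = n3561 := ndS (p := 1121) (l := 7) rfl N1121 D3561
theorem N2508 : nd 2508 = n3562 := ndS (p := 1122) (l := 6) rfl N1122 D3562
theorem N2509 : nd 2509 = n3563 := ndS (p := 1123) (l := 5) rfl N1123 D3563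
theorem N2510 : nd 2510 = n3564 := ndS (p := 1124) (l := 4) rfl N1124 D3564
theorem N2511 : nd 2511 = n3565 := ndS (p := 1124) (l := 6) rfl N1124 D3565
theorem N2512 : nd 2512 = n3566 := ndS (p := 1125) (l := 3) rfl N1125 D3566
theorem N2513 : nd 2513 = n3567 := ndS (p := 1125) (l := 6) rfl N1125 D3567
theorem N2514 : nd 2514 = n3568 := ndS (p := 1126) (l := 0) rfl N1126 D3568
theorem N2515 : nd 2515 = n3569 := ndS (p := 1126) (l := 1) rfl N1126 D3569
theorem N2516 : nd 2516 = n3570 := ndS (p := 1126) (l := 7) rfl N1126 D3570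
theorem N2517 : nd 2517 = n3571 := ndS (p := 1127) (l := 4) rfl N1127 D3571
theorem N2518 : nd 2518 = n3572 := ndS (p := 1127) (l := 6) rfl N1127 D3572
theorem N2519 : nd 2519 = n3573 := ndS (p := 1128) (l := 4) rfl N1128 D3573
theorem N2520 : nd 2520 = n3574 := ndS (p := 1128) (l := 6) rfl N1128 D3574
theorem N2521 : nd 2521 = n3575 := ndS (p := 1129) (l := 4) rfl N1129 D3575
theorem N2522 : nd 2522 = n3576 := ndS (p := 1129) (l := 6) rfl N1129 D3576
theorem N2523 : nd 2523 = n3577 := ndS (p := 1130) (l := 4) rfl N1130 D3577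
theorem N2524 : nd 2524 = n3578 := ndS (p := 1131) (l := 0) rfl N1131 D3578
theorem N2525 : nd 2525 = n3579 := ndS (p := 1131) (l := 3) rfl N1131 D3579
theorem N2526 : nd 2526 = n3580 := ndS (p := 1131) (l := 5) rfl N1131 D3580
theorem N2527 : nd 2527 = n3581 := ndS (p := 1131) (l := 6) rfl N1131 D3581
theorem N2528 : nd 2528 = n3582 := ndS (p := 1132) (l := 0) rfl N1132 D3582
theorem N2529 : nd 2529 = n3583 := ndS (p := 1132) (l := 1) rfl N1132 D3583
theorem N2530 : nd 2530 = n3584 := ndS (p := 1132) (l := 7) rfl N1132 D3584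
theorem N2531 : nd 2531 = n3585 := ndS (p := 1133) (l := 6) rfl N1133 D3585
theorem N2532 : nd 2532 = n3586 := ndS (p := 1134) (l := 3) rfl N1134 D3586
theorem N2533 : nd 2533 = n3587 := ndS (p := 1134) (l := 6) rfl N1134 D3587
theorem N2534 : nd 2534 = n3588 := ndS (p := 1135) (l := 0) rfl N1135 D3588
theorem N2535 : nd 2535 = n3589 := ndS (p := 1135) (l := 1) rfl N1135 D3589
theorem N2536 : nd 2536 = n3590 := ndS (p := 1135) (l := 7) rfl N1135 D3590
theorem N2537 : nd 2537 = n3591 := ndS (p := 1136) (l := 0) rfl N1136 D3591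
theorem N2538 : nd 2538 = n3592 := ndS (p := 1136) (l := 1) rfl N1136 D3592
theorem N2539 : nd 2539 = n3593 := ndS (p := 1136) (l := 2) rfl N1136 D3593
theorem N2540 : nd 2540 = n3594 := ndS (p := 1136) (l := 6) rfl N1136 D3594
theorem N2541 : nd 2541 = n3597 := ndS (p := 1137) (l := 5) rfl N1137 D3597
theorem N2542 : nd 2542 = n3598 := ndS (p := 1137) (l := 7) rfl N1137 D3598
theorem N2543 : nd 2543 = n3600 := ndS (p := 1138) (l := 3) rfl N1138 D3600
theorem N2544 : nd 2544 = n3601 := ndS (p := 1138) (l := 4) rfl N1138 D3601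
theorem N2545 : nd 2545 = n3602 := ndS (p := 1138) (l := 5) rfl N1138 D3602
theorem N2546 : nd 2546 = n3603 := ndS (p := 1138) (l := 6) rfl N1138 D3603
theorem N2547 : nd 2547 = n3606 := ndS (p := 1139) (l := 4) rfl N1139 D3606
theorem N2548 : nd 2548 = n3607 := ndS (p := 1139) (l := 5) rfl N1139 D3607
theorem N2549 : nd 2549 = n3608 := ndS (p := 1139) (l := 6) rfl N1139 D3608
theorem N2550 : nd 2550 = n3609 := ndS (p := 1141) (l := 0) rfl N1141 D3609
theorem N2551 : nd 2551 = n3610 := ndS (p := 1141) (l := 1) rfl N1141 D3610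
theorem N2552 : nd 2552 = n3611 := ndS (p := 1141) (l := 2) rfl N1141 D3611
theorem N2553 : nd 2553 = n3612 := ndS (p := 1141) (l := 5) rfl N1141 D3612
theorem N2554 : nd 2554 = n3613 := ndS (p := 1141) (l := 6) rfl N1141 D3613
theorem N2555 : nd 2555 = n3614 := ndS (p := 1142) (l := 6) rfl N1142 D3614
theorem N2556 : nd 2556 = n3615 := ndS (p := 1143) (l := 5) rfl N1143 D3615
theorem N2557 : nd 2557 = n3616 := ndS (p := 1144) (l := 0) rfl N1144 D3616
theorem N2558 : nd 2558 = n3617 := ndS (p := 1144) (l := 1) rfl N1144 D3617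
theorem N2559 : nd 2559 = n3618 := ndS (p := 1144) (l := 2) rfl N1144 D3618
theorem N2560 : nd 2560 = n3619 := ndS (p := 1144) (l := 5) rfl N1144 D3619
theorem N2561 : nd 2561 = n3620 := ndS (p := 1144) (l := 6) rfl N1144 D3620
theorem N2562 : nd 2562 = n3621 := ndS (p := 1145) (l := 6) rfl N1145 D3621
theorem N2563 : nd 2563 = n3622 := ndS (p := 1146) (l := 5) rfl N1146 D3622
theorem N2564 : nd 2564 = n3623 := ndS (p := 1147) (l := 0) rfl N1147 D3623
theorem N2565 : nd 2565 = n3624 := ndS (p := 1147) (l := 1) rfl N1147 D3624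
theorem N2566 : nd 2566 = n3625 := ndS (p := 1147) (l := 2) rfl N1147 D3625
theorem N2567 : nd 2567 = n3626 := ndS (p := 1147) (l := 5) rfl N1147 D3626
theorem N2568 : nd 2568 = n3627 := ndS (p := 1148) (l := 6) rfl N1148 D3627
theorem N2569 : nd 2569 = n3629 := ndS (p := 1149) (l := 3) rfl N1149 D3629
theorem N2570 : nd 2570 = n3630 := ndS (p := 1149) (l := 4) rfl N1149 D3630
theorem N2571 : nd 2571 = n3631 := ndS (p := 1149) (l := 5) rfl N1149 D3631
theorem N2572 : nd 2572 = n3632 := ndS (p := 1149) (l := 6) rfl N1149 D3632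
theorem N2573 : nd 2573 = n3634 := ndS (p := 1150) (l := 3) rfl N1150 D3634
theorem N2574 : nd 2574 = n3635 := ndS (p := 1150) (l := 4) rfl N1150 D3635
theorem N2575 : nd 2575 = n3636 := ndS (p := 1150) (l := 5) rfl N1150 D3636
theorem N2576 : nd 2576 = n3638 := ndS (p := 1151) (l := 5) rfl N1151 D3638
theorem N2577 : nd 2577 = n3639 := ndS (p := 1151) (l := 6) rfl N1151 D3639
theorem N2578 : nd 2578 = n3640 := ndS (p := 1152) (l := 0) rfl N1152 D3640
theorem N2579 : nd 2579 = n3641 := ndS (p := 1152) (l := 1) rfl N1152 D3641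
theorem N2580 : nd 2580 = n3642 := ndS (p := 1152) (l := 4) rfl N1152 D3642
theorem N2581 : nd 2581 = n3643 := ndS (p := 1152) (l := 6) rfl N1152 D3643
theorem N2582 : nd 2582 = n3644 := ndS (p := 1153) (l := 0) rfl N1153 D3644
theorem N2583 : nd 2583 = n3645 := ndS (p := 1153) (l := 1) rfl N1153 D3645
theorem N2584 : nd 2584 = n3646 := ndS (p := 1153) (l := 5) rfl N1153 D3646
theorem N2585 : nd 2585 = n3647 := ndS (p := 1153) (l := 7) rfl N1153 D3647
theorem N2586 : nd 2586 = n3648 := ndS (p := 1154) (l := 3) rfl N1154 D3648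
theorem N2587 : nd 2587 = n3649 := ndS (p := 1154) (l := 6) rfl N1154 D3649
theorem N2588 : nd 2588 = n3650 := ndS (p := 1155) (l := 0) rfl N1155 D3650
theorem N2589 : nd 2589 = n3651 := ndS (p := 1155) (l := 1) rfl N1155 D3651
theorem N2590 : nd 2590 = n3652 := ndS (p := 1155) (l := 5) rfl N1155 D3652
theorem N2591 : nd 2591 = n3653 := ndS (p := 1155) (l := 7) rfl N1155 D3653
theorem N2592 : nd 2592 = n3654 := ndS (p := 1156) (l := 3) rfl N1156 D3654
theorem N2593 : nd 2593 = n3655 := ndS (p := 1156) (l := 5) rfl N1156 D3655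
theorem N2594 : nd 2594 = n3656 := ndS (p := 1157) (l := 3) rfl N1157 D3656
theorem N2595 : nd 2595 = n3657 := ndS (p := 1157) (l := 5) rfl N1157 D3657
theorem N2596 : nd 2596 = n3658 := ndS (p := 1158) (l := 1) rfl N1158 D3658
theorem N2597 : nd 2597 = n3659 := ndS (p := 1158) (l := 4) rfl N1158 D3659
theorem N2598 : nd 2598 = n3660 := ndS (p := 1158) (l := 7) rfl N1158 D3660
theorem N2599 : nd 2599 = n3661 := ndS (p := 1160) (l := 0) rfl N1160 D3661
theorem N2600 : nd 2600 = n3662 := ndS (p := 1160) (l := 3) rfl N1160 D3662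
theorem N2601 : nd 2601 = n3663 := ndS (p := 1160) (l := 5) rfl N1160 D3663
theorem N2602 : nd 2602 = n3664 := ndS (p := 1161) (l := 3) rfl N1161 D3664
theorem N2603 : nd 2603 = n3665 := ndS (p := 1161) (l := 5) rfl N1161 D3665
theorem N2604 : nd 2604 = n3666 := ndS (p := 1162) (l := 4) rfl N1162 D3666
theorem N2605 : nd 2605 = n3667 := ndS (p := 1163) (l := 3) rfl N1163 D3667
theorem N2606 : nd 2606 = n3668 := ndS (p := 1163) (l := 5) rfl N1163 D3668
theorem N2607 : nd 2607 = n3669 := ndS (p := 1163) (l := 6) rfl N1163 D3669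
theorem N2608 : nd 2608 = n3670 := ndS (p := 1164) (l := 0) rfl N1164 D3670
theorem N2609 : nd 2609 = n3672 := ndS (p := 1164) (l := 7) rfl N1164 D3672
theorem N2610 : nd 2610 = n3673 := ndS (p := 1165) (l := 0) rfl N1165 D3673
theorem N2611 : nd 2611 = n3674 := ndS (p := 1165) (l := 1) rfl N1165 D3674
theorem N2612 : nd 2612 = n3675 := ndS (p := 1165) (l := 2) rfl N1165 D3675
theorem N2613 : nd 2613 = n3676 := ndS (p := 1165) (l := 6) rfl N1165 D3676
theorem N2614 : nd 2614 = n3679 := ndS (p := 1166) (l := 5) rfl N1166 D3679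
theorem N2615 : nd 2615 = n3680 := ndS (p := 1166) (l := 7) rfl N1166 D3680
theorem N2616 : nd 2616 = n3683 := ndS (p := 1167) (l := 4) rfl N1167 D3683
theorem N2617 : nd 2617 = n3684 := ndS (p := 1167) (l := 5) rfl N1167 D3684
theorem N2618 : nd 2618 = n3686 := ndS (p := 1168) (l := 3) rfl N1168 D3686
theorem N2619 : nd 2619 = n3687 := ndS (p := 1168) (l := 4) rfl N1168 D3687
theorem N2620 : nd 2620 = n3688 := ndS (p := 1168) (l := 5) rfl N1168 D3688
theorem N2621 : nd 2621 = n3689 := ndS (p := 1168) (l := 6) rfl N1168 D3689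
theorem N2622 : nd 2622 = n3691 := ndS (p := 1170) (l := 3) rfl N1170 D3691
theorem N2623 : nd 2623 = n3692 := ndS (p := 1170) (l := 4) rfl N1170 D3692
theorem N2624 : nd 2624 = n3693 := ndS (p := 1170) (l := 5) rfl N1170 D3693
theorem N2625 : nd 2625 = n3696 := ndS (p := 1171) (l := 3) rfl N1171 D3696
theorem N2626 : nd 2626 = n3697 := ndS (p := 1171) (l := 4) rfl N1171 D3697
theorem N2627 : nd 2627 = n3698 := ndS (p := 1171) (l := 5) rfl N1171 D3698
theorem N2628 : nd 2628 = n3699 := ndS (p := 1171) (l := 6) rfl N1171 D3699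
theorem N2629 : nd 2629 = n3700 := ndS (p := 1172) (l := 5) rfl N1172 D3700
theorem N2630 : nd 2630 = n3701 := ndS (p := 1172) (l := 6) rfl N1172 D3701
theorem N2631 : nd 2631 = n3702 := ndS (p := 1173) (l := 0) rfl N1173 D3702
theorem N2632 : nd 2632 = n3703 := ndS (p := 1173) (l := 1) rfl N1173 D3703
theorem N2633 : nd 2633 = n3704 := ndS (p := 1173) (l := 4) rfl N1173 D3704
theorem N2634 : nd 2634 = n3705 := ndS (p := 1173) (l := 6) rfl N1173 D3705
theorem N2635 : nd 2635 = n3706 := ndS (p := 1174) (l := 0) rfl N1174 D3706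
theorem N2636 : nd 2636 = n3707 := ndS (p := 1174) (l := 1) rfl N1174 D3707
theorem N2637 : nd 2637 = n3708 := ndS (p := 1174) (l := 5) rfl N1174 D3708
theorem N2638 : nd 2638 = n3709 := ndS (p := 1174) (l := 7) rfl N1174 D3709
theorem N2639 : nd 2639 = n3710 := ndS (p := 1175) (l := 0) rfl N1175 D3710
theorem N2640 : nd 2640 = n3711 := ndS (p := 1175) (l := 1) rfl N1175 D3711
theorem N2641 : nd 2641 = n3712 := ndS (p := 1175) (l := 5) rfl N1175 D3712
theorem N2642 : nd 2642 = n3713 := ndS (p := 1175) (l := 7) rfl N1175 D3713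
theorem N2643 : nd 2643 = n3714 := ndS (p := 1176) (l := 3) rfl N1176 D3714
theorem N2644 : nd 2644 = n3715 := ndS (p := 1176) (l := 5) rfl N1176 D3715
theorem N2645 : nd 2645 = n3716 := ndS (p := 1177) (l := 3) rfl N1177 D3716
theorem N2646 : nd 2646 = n3717 := ndS (p := 1177) (l := 5) rfl N1177 D3717
theorem N2647 : nd 2647 = n3718 := ndS (p := 1178) (l := 4) rfl N1178 D3718
theorem N2648 : nd 2648 = n3719 := ndS (p := 1178) (l := 7) rfl N1178 D3719
theorem N2649 : nd 2649 = n3720 := ndS (p := 1180) (l := 0) rfl N1180 D3720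
theorem N2650 : nd 2650 = n3721 := ndS (p := 1180) (l := 1) rfl N1180 D3721
theorem N2651 : nd 2651 = n3722 := ndS (p := 1180) (l := 2) rfl N1180 D3722
theorem N2652 : nd 2652 = n3724 := ndS (p := 1181) (l := 3) rfl N1181 D3724
theorem N2653 : nd 2653 = n3725 := ndS (p := 1181) (l := 4) rfl N1181 D3725
theorem N2654 : nd 2654 = n3727 := ndS (p := 1181) (l := 6) rfl N1181 D3727
theorem N2655 : nd 2655 = n3729 := ndS (p := 1182) (l := 3) rfl N1182 D3729
theorem N2656 : nd 2656 = n3730 := ndS (p := 1182) (l := 4) rfl N1182 D3730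
theorem N2657 : nd 2657 = n3733 := ndS (p := 1183) (l := 5) rfl N1183 D3733
theorem N2658 : nd 2658 = n3734 := ndS (p := 1184) (l := 0) rfl N1184 D3734
theorem N2659 : nd 2659 = n3735 := ndS (p := 1184) (l := 1) rfl N1184 D3735
theorem N2660 : nd 2660 = n3736 := ndS (p := 1184) (l := 4) rfl N1184 D3736
theorem N2661 : nd 2661 = n3737 := ndS (p := 1184) (l := 6) rfl N1184 D3737
theorem N2662 : nd 2662 = n3738 := ndS (p := 1185) (l := 3) rfl N1185 D3738
theorem N2663 : nd 2663 = n3739 := ndS (p := 1185) (l := 6) rfl N1185 D3739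
theorem N2664 : nd 2664 = n3740 := ndS (p := 1186) (l := 3) rfl N1186 D3740
theorem N2665 : nd 2665 = n3741 := ndS (p := 1186) (l := 6) rfl N1186 D3741
theorem N2666 : nd 2666 = n3742 := ndS (p := 1187) (l := 0) rfl N1187 D3742
theorem N2667 : nd 2667 = n3743 := ndS (p := 1187) (l := 1) rfl N1187 D3743
theorem N2668 : nd 2668 = n3744 := ndS (p := 1187) (l := 7) rfl N1187 D3744
theorem N2669 : nd 2669 = n3746 := ndS (p := 1188) (l := 4) rfl N1188 D3746
theorem N2670 : nd 2670 = n3750 := ndS (p := 1189) (l := 3) rfl N1189 D3750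
theorem N2671 : nd 2671 = n3751 := ndS (p := 1189) (l := 4) rfl N1189 D3751
theorem N2672 : nd 2672 = n3756 := ndS (p := 1191) (l := 0) rfl N1191 D3756
theorem N2673 : nd 2673 = n3757 := ndS (p := 1191) (l := 1) rfl N1191 D3757
theorem N2674 : nd 2674 = n3760 := ndS (p := 1192) (l := 0) rfl N1192 D3760
theorem N2675 : nd 2675 = n3761 := ndS (p := 1192) (l := 1) rfl N1192 D3761
theorem N2676 : nd 2676 = n3767 := ndS (p := 1193) (l := 3) rfl N1193 D3767
theorem N2677 : nd 2677 = n3769 := ndS (p := 1194) (l := 3) rfl N1194 D3769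
theorem N2678 : nd 2678 = n3772 := ndS (p := 1195) (l := 3) rfl N1195 D3772
theorem N2679 : nd 2679 = n3773 := ndS (p := 1195) (l := 5) rfl N1195 D3773
theorem N2680 : nd 2680 = n3774 := ndS (p := 1196) (l := 3) rfl N1196 D3774
theorem N2681 : nd 2681 = n3775 := ndS (p := 1196) (l := 5) rfl N1196 D3775
theorem N2682 : nd 2682 = n3777 := ndS (p := 1197) (l := 4) rfl N1197 D3777
theorem N2683 : nd 2683 = n3778 := ndS (p := 1197) (l := 5) rfl N1197 D3778
theorem N2684 : nd 2684 = n3779 := ndS (p := 1197) (l := 6) rfl N1197 D3779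
theorem N2685 : nd 2685 = n3781 := ndS (p := 1198) (l := 3) rfl N1198 D3781
theorem N2686 : nd 2686 = n3782 := ndS (p := 1198) (l := 5) rfl N1198 D3782
theorem N2687 : nd 2687 = n3784 := ndS (p := 1199) (l := 5) rfl N1199 D3784
theorem N2688 : nd 2688 = n3785 := ndS (p := 1200) (l := 0) rfl N1200 D3785
theorem N2689 : nd 2689 = n3786 := ndS (p := 1200) (l := 1) rfl N1200 D3786
theorem N2690 : nd 2690 = n3787 := ndS (p := 1200) (l := 4) rfl N1200 D3787
theorem N2691 : nd 2691 = n3788 := ndS (p := 1200) (l := 6) rfl N1200 D3788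
theorem N2692 : nd 2692 = n3789 := ndS (p := 1201) (l := 0) rfl N1201 D3789
theorem N2693 : nd 2693 = n3790 := ndS (p := 1201) (l := 1) rfl N1201 D3790
theorem N2694 : nd 2694 = n3791 := ndS (p := 1201) (l := 7) rfl N1201 D3791
theorem N2695 : nd 2695 = n3793 := ndS (p := 1202) (l := 4) rfl N1202 D3793
theorem N2696 : nd 2696 = n3794 := ndS (p := 1202) (l := 5) rfl N1202 D3794
theorem N2697 : nd 2697 = n3797 := ndS (p := 1203) (l := 3) rfl N1203 D3797
theorem N2698 : nd 2698 = n3798 := ndS (p := 1203) (l := 5) rfl N1203 D3798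
theorem N2699 : nd 2699 = n3799 := ndS (p := 1203) (l := 6) rfl N1203 D3799
theorem N2700 : nd 2700 = n3800 := ndS (p := 1204) (l := 5) rfl N1204 D3800
theorem N2701 : nd 2701 = n3801 := ndS (p := 1204) (l := 6) rfl N1204 D3801
theorem N2702 : nd 2702 = n3802 := ndS (p := 1205) (l := 0) rfl N1205 D3802
theorem N2703 : nd 2703 = n3803 := ndS (p := 1205) (l := 1) rfl N1205 D3803
theorem N2704 : nd 2704 = n3804 := ndS (p := 1205) (l := 4) rfl N1205 D3804
theorem N2705 : nd 2705 = n3806 := ndS (p := 1206) (l := 0) rfl N1206 D3806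
theorem N2706 : nd 2706 = n3807 := ndS (p := 1206) (l := 1) rfl N1206 D3807
theorem N2707 : nd 2707 = n3809 := ndS (p := 1208) (l := 0) rfl N1208 D3809
theorem N2708 : nd 2708 = n3810 := ndS (p := 1208) (l := 1) rfl N1208 D3810
theorem N2709 : nd 2709 = n3812 := ndS (p := 1208) (l := 7) rfl N1208 D3812
theorem N2710 : nd 2710 = n3813 := ndS (p := 1209) (l := 4) rfl N1209 D3813
theorem N2711 : nd 2711 = n3814 := ndS (p := 1210) (l := 5) rfl N1210 D3814
theorem N2712 : nd 2712 = n3815 := ndS (p := 1210) (l := 6) rfl N1210 D3815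
theorem N2713 : nd 2713 = n3818 := ndS (p := 1211) (l := 3) rfl N1211 D3818
theorem N2714 : nd 2714 = n3823 := ndS (p := 1212) (l := 1) rfl N1212 D3823
theorem N2715 : nd 2715 = n3824 := ndS (p := 1212) (l := 2) rfl N1212 D3824
theorem N2716 : nd 2716 = n3825 := ndS (p := 1212) (l := 5) rfl N1212 D3825
theorem N2717 : nd 2717 = n3827 := ndS (p := 1212) (l := 7) rfl N1212 D3827
theorem N2718 : nd 2718 = n3828 := ndS (p := 1213) (l := 0) rfl N1213 D3828
theorem N2719 : nd 2719 = n3830 := ndS (p := 1213) (l := 3) rfl N1213 D3830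
theorem N2720 : nd 2720 = n3831 := ndS (p := 1213) (l := 5) rfl N1213 D3831
theorem N2721 : nd 2721 = n3833 := ndS (p := 1213) (l := 7) rfl N1213 D3833
theorem N2722 : nd 2722 = n3836 := ndS (p := 1214) (l := 4) rfl N1214 D3836
theorem N2723 : nd 2723 = n3837 := ndS (p := 1214) (l := 6) rfl N1214 D3837
theorem N2724 : nd 2724 = n3843 := ndS (p := 1215) (l := 6) rfl N1215 D3843
theorem N2725 : nd 2725 = n3845 := ndS (p := 1216) (l := 2) rfl N1216 D3845
theorem N2726 : nd 2726 = n3846 := ndS (p := 1216) (l := 4) rfl N1216 D3846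
theorem N2727 : nd 2727 = n3847 := ndS (p := 1216) (l := 5) rfl N1216 D3847
theorem N2728 : nd 2728 = n3848 := ndS (p := 1216) (l := 6) rfl N1216 D3848
theorem N2729 : nd 2729 = n3849 := ndS (p := 1217) (l := 5) rfl N1217 D3849
theorem N2730 : nd 2730 = n3850 := ndS (p := 1217) (l := 6) rfl N1217 D3850
theorem N2731 : nd 2731 = n3851 := ndS (p := 1218) (l := 4) rfl N1218 D3851
theorem N2732 : nd 2732 = n3852 := ndS (p := 1218) (l := 6) rfl N1218 D3852
theorem N2733 : nd 2733 = n3854 := ndS (p := 1219) (l := 1) rfl N1219 D3854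
theorem N2734 : nd 2734 = n3855 := ndS (p := 1219) (l := 5) rfl N1219 D3855
theorem N2735 : nd 2735 = n3866 := ndS (p := 1220) (l := 0) rfl N1220 D3866
theorem N2736 : nd 2736 = n3867 := ndS (p := 1220) (l := 1) rfl N1220 D3867
theorem N2737 : nd 2737 = n3868 := ndS (p := 1220) (l := 4) rfl N1220 D3868
theorem N2738 : nd 2738 = n3869 := ndS (p := 1220) (l := 6) rfl N1220 D3869
theorem N2739 : nd 2739 = n3871 := ndS (p := 1221) (l := 3) rfl N1221 D3871
theorem N2740 : nd 2740 = n3872 := ndS (p := 1221) (l := 4) rfl N1221 D3872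
theorem N2741 : nd 2741 = n3874 := ndS (p := 1221) (l := 6) rfl N1221 D3874
theorem N2742 : nd 2742 = n3876 := ndS (p := 1222) (l := 3) rfl N1222 D3876
theorem N2743 : nd 2743 = n3877 := ndS (p := 1222) (l := 4) rfl N1222 D3877
theorem N2744 : nd 2744 = n3879 := ndS (p := 1222) (l := 6) rfl N1222 D3879
theorem N2745 : nd 2745 = n3880 := ndS (p := 1223) (l := 0) rfl N1223 D3880
theorem N2746 : nd 2746 = n3881 := ndS (p := 1223) (l := 1) rfl N1223 D3881
theorem N2747 : nd 2747 = n3882 := ndS (p := 1223) (l := 3) rfl N1223 D3882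
theorem N2748 : nd 2748 = n3883 := ndS (p := 1223) (l := 5) rfl N1223 D3883
theorem N2749 : nd 2749 = n3884 := ndS (p := 1223) (l := 6) rfl N1223 D3884
theorem N2750 : nd 2750 = n3885 := ndS (p := 1223) (l := 7) rfl N1223 D3885
theorem N2751 : nd 2751 = n3886 := ndS (p := 1224) (l := 0) rfl N1224 D3886
theorem N2752 : nd 2752 = n3887 := ndS (p := 1224) (l := 1) rfl N1224 D3887
theorem N2753 : nd 2753 = n3888 := ndS (p := 1224) (l := 7) rfl N1224 D3888
theorem N2754 : nd 2754 = n3889 := ndS (p := 1225) (l := 6) rfl N1225 D3889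
theorem N2755 : nd 2755 = n3890 := ndS (p := 1226) (l := 0) rfl N1226 D3890
theorem N2756 : nd 2756 = n3891 := ndS (p := 1226) (l := 1) rfl N1226 D3891
theorem N2757 : nd 2757 = n3892 := ndS (p := 1226) (l := 5) rfl N1226 D3892
theorem N2758 : nd 2758 = n3895 := ndS (p := 1227) (l := 2) rfl N1227 D3895
theorem N2759 : nd 2759 = n3896 := ndS (p := 1227) (l := 4) rfl N1227 D3896
theorem N2760 : nd 2760 = n3897 := ndS (p := 1227) (l := 6) rfl N1227 D3897
theorem N2761 : nd 2761 = n3898 := ndS (p := 1228) (l := 0) rfl N1228 D3898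
theorem N2762 : nd 2762 = n3899 := ndS (p := 1228) (l := 1) rfl N1228 D3899
theorem N2763 : nd 2763 = n3900 := ndS (p := 1228) (l := 5) rfl N1228 D3900
theorem N2764 : nd 2764 = n3901 := ndS (p := 1228) (l := 7) rfl N1228 D3901
theorem N2765 : nd 2765 = n3904 := ndS (p := 1229) (l := 2) rfl N1229 D3904
theorem N2766 : nd 2766 = n3905 := ndS (p := 1229) (l := 4) rfl N1229 D3905
theorem N2767 : nd 2767 = n3906 := ndS (p := 1229) (l := 6) rfl N1229 D3906
theorem N2768 : nd 2768 = n3907 := ndS (p := 1230) (l := 0) rfl N1230 D3907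
theorem N2769 : nd 2769 = n3908 := ndS (p := 1230) (l := 1) rfl N1230 D3908
theorem N2770 : nd 2770 = n3909 := ndS (p := 1230) (l := 5) rfl N1230 D3909
theorem N2771 : nd 2771 = n3910 := ndS (p := 1230) (l := 7) rfl N1230 D3910
theorem N2772 : nd 2772 = n3911 := ndS (p := 1231) (l := 0) rfl N1231 D3911
theorem N2773 : nd 2773 = n3912 := ndS (p := 1231) (l := 1) rfl N1231 D3912
theorem N2774 : nd 2774 = n3913 := ndS (p := 1231) (l := 2) rfl N1231 D3913
theorem N2775 : nd 2775 = n3914 := ndS (p := 1231) (l := 6) rfl N1231 D3914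
theorem N2776 : nd 2776 = n3915 := ndS (p := 1232) (l := 0) rfl N1232 D3915
theorem N2777 : nd 2777 = n3916 := ndS (p := 1232) (l := 1) rfl N1232 D3916
theorem N2778 : nd 2778 = n3917 := ndS (p := 1232) (l := 5) rfl N1232 D3917
theorem N2779 : nd 2779 = n3918 := ndS (p := 1232) (l := 7) rfl N1232 D3918
theorem N2780 : nd 2780 = n3920 := ndS (p := 1233) (l := 3) rfl N1233 D3920
theorem N2781 : nd 2781 = n3921 := ndS (p := 1233) (l := 4) rfl N1233 D3921
theorem N2782 : nd 2782 = n3922 := ndS (p := 1233) (l := 5) rfl N1233 D3922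
theorem N2783 : nd 2783 = n3923 := ndS (p := 1233) (l := 6) rfl N1233 D3923
theorem N2784 : nd 2784 = n3925 := ndS (p := 1234) (l := 3) rfl N1234 D3925
theorem N2785 : nd 2785 = n3926 := ndS (p := 1234) (l := 4) rfl N1234 D3926
theorem N2786 : nd 2786 = n3927 := ndS (p := 1234) (l := 5) rfl N1234 D3927
theorem N2787 : nd 2787 = n3928 := ndS (p := 1234) (l := 6) rfl N1234 D3928
theorem N2788 : nd 2788 = n3929 := ndS (p := 1235) (l := 6) rfl N1235 D3929
theorem N2789 : nd 2789 = n3930 := ndS (p := 1236) (l := 0) rfl N1236 D3930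
theorem N2790 : nd 2790 = n3931 := ndS (p := 1236) (l := 1) rfl N1236 D3931
theorem N2791 : nd 2791 = n3932 := ndS (p := 1236) (l := 5) rfl N1236 D3932
theorem N2792 : nd 2792 = n3933 := ndS (p := 1237) (l := 3) rfl N1237 D3933
theorem N2793 : nd 2793 = n3934 := ndS (p := 1237) (l := 5) rfl N1237 D3934
theorem N2794 : nd 2794 = n3935 := ndS (p := 1238) (l := 3) rfl N1238 D3935
theorem N2795 : nd 2795 = n3936 := ndS (p := 1238) (l := 5) rfl N1238 D3936
theorem N2796 : nd 2796 = n3937 := ndS (p := 1239) (l := 1) rfl N1239 D3937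
theorem N2797 : nd 2797 = n3938 := ndS (p := 1239) (l := 4) rfl N1239 D3938
theorem N2798 : nd 2798 = n3939 := ndS (p := 1240) (l := 0) rfl N1240 D3939
theorem N2799 : nd 2799 = n3940 := ndS (p := 1240) (l := 1) rfl N1240 D3940
theorem N2800 : nd 2800 = n3941 := ndS (p := 1240) (l := 2) rfl N1240 D3941
theorem N2801 : nd 2801 = n3942 := ndS (p := 1240) (l := 5) rfl N1240 D3942
theorem N2802 : nd 2802 = n3943 := ndS (p := 1241) (l := 6) rfl N1241 D3943
theorem N2803 : nd 2803 = n3944 := ndS (p := 1245) (l := 0) rfl N1245 D3944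
theorem N2804 : nd 2804 = n3945 := ndS (p := 1245) (l := 1) rfl N1245 D3945
theorem N2805 : nd 2805 = n3946 := ndS (p := 1245) (l := 2) rfl N1245 D3946
theorem N2806 : nd 2806 = n3947 := ndS (p := 1245) (l := 6) rfl N1245 D3947
theorem N2807 : nd 2807 = n3948 := ndS (p := 1246) (l := 5) rfl N1246 D3948
theorem N2808 : nd 2808 = n3949 := ndS (p := 1250) (l := 0) rfl N1250 D3949
theorem N2809 : nd 2809 = n3950 := ndS (p := 1250) (l := 1) rfl N1250 D3950
theorem N2810 : nd 2810 = n3951 := ndS (p := 1250) (l := 2) rfl N1250 D3951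
theorem N2811 : nd 2811 = n3952 := ndS (p := 1254) (l := 0) rfl N1254 D3952
theorem N2812 : nd 2812 = n3955 := ndS (p := 1254) (l := 5) rfl N1254 D3955
theorem N2813 : nd 2813 = n3958 := ndS (p := 1255) (l := 3) rfl N1255 D3958
theorem N2814 : nd 2814 = n3959 := ndS (p := 1255) (l := 5) rfl N1255 D3959
theorem N2815 : nd 2815 = n3960 := ndS (p := 1255) (l := 6) rfl N1255 D3960
theorem N2816 : nd 2816 = n3961 := ndS (p := 1256) (l := 5) rfl N1256 D3961
theorem N2817 : nd 2817 = n3962 := ndS (p := 1257) (l := 0) rfl N1257 D3962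
theorem N2818 : nd 2818 = n3963 := ndS (p := 1257) (l := 1) rfl N1257 D3963
theorem N2819 : nd 2819 = n3964 := ndS (p := 1257) (l := 4) rfl N1257 D3964
theorem N2820 : nd 2820 = n3965 := ndS (p := 1257) (l := 6) rfl N1257 D3965
theorem N2821 : nd 2821 = n3966 := ndS (p := 1257) (l := 7) rfl N1257 D3966
theorem N2822 : nd 2822 = n3967 := ndS (p := 1258) (l := 6) rfl N1258 D3967
theorem N2823 : nd 2823 = n3968 := ndS (p := 1259) (l := 3) rfl N1259 D3968
theorem N2824 : nd 2824 = n3969 := ndS (p := 1259) (l := 6) rfl N1259 D3969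
theorem N2825 : nd 2825 = n3970 := ndS (p := 1260) (l := 0) rfl N1260 D3970
theorem N2826 : nd 2826 = n3971 := ndS (p := 1260) (l := 1) rfl N1260 D3971
theorem N2827 : nd 2827 = n3972 := ndS (p := 1260) (l := 7) rfl N1260 D3972
theorem N2828 : nd 2828 = n3973 := ndS (p := 1261) (l := 6) rfl N1261 D3973
theorem N2829 : nd 2829 = n3975 := ndS (p := 1263) (l := 3) rfl N1263 D3975
theorem N2830 : nd 2830 = n3976 := ndS (p := 1263) (l := 4) rfl N1263 D3976
theorem N2831 : nd 2831 = n3978 := ndS (p := 1263) (l := 6) rfl N1263 D3978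
theorem N2832 : nd 2832 = n3980 := ndS (p := 1264) (l := 3) rfl N1264 D3980
theorem N2833 : nd 2833 = n3981 := ndS (p := 1264) (l := 4) rfl N1264 D3981
theorem N2834 : nd 2834 = n3983 := ndS (p := 1264) (l := 6) rfl N1264 D3983
theorem N2835 : nd 2835 = n3984 := ndS (p := 1265) (l := 5) rfl N1265 D3984
theorem N2836 : nd 2836 = n3985 := ndS (p := 1266) (l := 0) rfl N1266 D3985
theorem N2837 : nd 2837 = n3986 := ndS (p := 1266) (l := 1) rfl N1266 D3986
theorem N2838 : nd 2838 = n3987 := ndS (p := 1266) (l := 4) rfl N1266 D3987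
theorem N2839 : nd 2839 = n3988 := ndS (p := 1266) (l := 6) rfl N1266 D3988
theorem N2840 : nd 2840 = n3989 := ndS (p := 1267) (l := 0) rfl N1267 D3989
theorem N2841 : nd 2841 = n3990 := ndS (p := 1267) (l := 1) rfl N1267 D3990
theorem N2842 : nd 2842 = n3991 := ndS (p := 1267) (l := 7) rfl N1267 D3991
theorem N2843 : nd 2843 = n3993 := ndS (p := 1271) (l := 4) rfl N1271 D3993
theorem N2844 : nd 2844 = n3995 := ndS (p := 1271) (l := 6) rfl N1271 D3995
theorem N2845 : nd 2845 = n3997 := ndS (p := 1272) (l := 3) rfl N1272 D3997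
theorem N2846 : nd 2846 = n4000 := ndS (p := 1273) (l := 6) rfl N1273 D4000
theorem N2847 : nd 2847 = n4001 := ndS (p := 1274) (l := 0) rfl N1274 D4001
theorem N2848 : nd 2848 = n4002 := ndS (p := 1274) (l := 1) rfl N1274 D4002
theorem N2849 : nd 2849 = n4003 := ndS (p := 1274) (l := 5) rfl N1274 D4003
theorem N2850 : nd 2850 = n4004 := ndS (p := 1274) (l := 7) rfl N1274 D4004
theorem N2851 : nd 2851 = n4005 := ndS (p := 1275) (l := 4) rfl N1275 D4005
theorem N2852 : nd 2852 = n4007 := ndS (p := 1277) (l := 4) rfl N1277 D4007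
theorem N2853 : nd 2853 = n4011 := ndS (p := 1278) (l := 3) rfl N1278 D4011
theorem N2854 : nd 2854 = n4012 := ndS (p := 1278) (l := 4) rfl N1278 D4012
theorem N2855 : nd 2855 = n4014 := ndS (p := 1278) (l := 6) rfl N1278 D4014
theorem N2856 : nd 2856 = n4015 := ndS (p := 1279) (l := 6) rfl N1279 D4015
theorem N2857 : nd 2857 = n4018 := ndS (p := 1280) (l := 5) rfl N1280 D4018
theorem N2858 : nd 2858 = n4020 := ndS (p := 1282) (l := 6) rfl N1282 D4020
theorem N2859 : nd 2859 = n4023 := ndS (p := 1283) (l := 3) rfl N1283 D4023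
theorem N2860 : nd 2860 = n4028 := ndS (p := 1284) (l := 1) rfl N1284 D4028
theorem N2861 : nd 2861 = n4030 := ndS (p := 1284) (l := 5) rfl N1284 D4030
theorem N2862 : nd 2862 = n4033 := ndS (p := 1285) (l := 0) rfl N1285 D4033
theorem N2863 : nd 2863 = n4035 := ndS (p := 1285) (l := 3) rfl N1285 D4035
theorem N2864 : nd 2864 = n4036 := ndS (p := 1285) (l := 5) rfl N1285 D4036
theorem N2865 : nd 2865 = n4038 := ndS (p := 1285) (l := 7) rfl N1285 D4038
theorem N2866 : nd 2866 = n4041 := ndS (p := 1286) (l := 4) rfl N1286 D4041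
theorem N2867 : nd 2867 = n4042 := ndS (p := 1286) (l := 6) rfl N1286 D4042
theorem N2868 : nd 2868 = n4048 := ndS (p := 1287) (l := 6) rfl N1287 D4048
theorem N2869 : nd 2869 = n4049 := ndS (p := 1288) (l := 0) rfl N1288 D4049
theorem N2870 : nd 2870 = n4051 := ndS (p := 1288) (l := 2) rfl N1288 D4051
theorem N2871 : nd 2871 = n4052 := ndS (p := 1288) (l := 4) rfl N1288 D4052
theorem N2872 : nd 2872 = n4053 := ndS (p := 1288) (l := 5) rfl N1288 D4053
theorem N2873 : nd 2873 = n4054 := ndS (p := 1288) (l := 6) rfl N1288 D4054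
theorem N2874 : nd 2874 = n4055 := ndS (p := 1289) (l := 5) rfl N1289 D4055
theorem N2875 : nd 2875 = n4056 := ndS (p := 1289) (l := 6) rfl N1289 D4056
theorem N2876 : nd 2876 = n4057 := ndS (p := 1290) (l := 4) rfl N1290 D4057
theorem N2877 : nd 2877 = n4058 := ndS (p := 1290) (l := 6) rfl N1290 D4058
theorem N2878 : nd 2878 = n4060 := ndS (p := 1291) (l := 1) rfl N1291 D4060
theorem N2879 : nd 2879 = n4071 := ndS (p := 1292) (l := 4) rfl N1292 D4071
theorem N2880 : nd 2880 = n4072 := ndS (p := 1292) (l := 6) rfl N1292 D4072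
theorem N2881 : nd 2881 = n4074 := ndS (p := 1293) (l := 3) rfl N1293 D4074
theorem N2882 : nd 2882 = n4075 := ndS (p := 1293) (l := 4) rfl N1293 D4075
theorem N2883 : nd 2883 = n4077 := ndS (p := 1293) (l := 6) rfl N1293 D4077
theorem N2884 : nd 2884 = n4079 := ndS (p := 1294) (l := 3) rfl N1294 D4079
theorem N2885 : nd 2885 = n4080 := ndS (p := 1294) (l := 4) rfl N1294 D4080
theorem N2886 : nd 2886 = n4082 := ndS (p := 1294) (l := 6) rfl N1294 D4082
theorem N2887 : nd 2887 = n4083 := ndS (p := 1295) (l := 0) rfl N1295 D4083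
theorem N2888 : nd 2888 = n4084 := ndS (p := 1295) (l := 1) rfl N1295 D4084
theorem N2889 : nd 2889 = n4085 := ndS (p := 1295) (l := 5) rfl N1295 D4085
theorem N2890 : nd 2890 = n4086 := ndS (p := 1295) (l := 6) rfl N1295 D4086
theorem N2891 : nd 2891 = n4087 := ndS (p := 1296) (l := 0) rfl N1296 D4087
theorem N2892 : nd 2892 = n4088 := ndS (p := 1296) (l := 1) rfl N1296 D4088
theorem N2893 : nd 2893 = n4089 := ndS (p := 1296) (l := 7) rfl N1296 D4089
theorem N2894 : nd 2894 = n4090 := ndS (p := 1297) (l := 0) rfl N1297 D4090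
theorem N2895 : nd 2895 = n4091 := ndS (p := 1297) (l := 1) rfl N1297 D4091
theorem N2896 : nd 2896 = n4092 := ndS (p := 1297) (l := 5) rfl N1297 D4092
theorem N2897 : nd 2897 = n4094 := ndS (p := 1298) (l := 3) rfl N1298 D4094
theorem N2898 : nd 2898 = n4096 := ndS (p := 1298) (l := 5) rfl N1298 D4096
theorem N2899 : nd 2899 = n4097 := ndS (p := 1298) (l := 6) rfl N1298 D4097
theorem N2900 : nd 2900 = n4099 := ndS (p := 1299) (l := 3) rfl N1299 D4099
theorem N2901 : nd 2901 = n4101 := ndS (p := 1299) (l := 6) rfl N1299 D4101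
theorem N2902 : nd 2902 = n4102 := ndS (p := 1301) (l := 4) rfl N1301 D4102
theorem N2903 : nd 2903 = n4103 := ndS (p := 1302) (l := 5) rfl N1302 D4103
theorem N2904 : nd 2904 = n4104 := ndS (p := 1302) (l := 6) rfl N1302 D4104
theorem N2905 : nd 2905 = n4107 := ndS (p := 1303) (l := 3) rfl N1303 D4107
theorem N2906 : nd 2906 = n4108 := ndS (p := 1303) (l := 4) rfl N1303 D4108
theorem N2907 : nd 2907 = n4110 := ndS (p := 1303) (l := 6) rfl N1303 D4110
theorem N2908 : nd 2908 = n4112 := ndS (p := 1304) (l := 1) rfl N1304 D4112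
theorem N2909 : nd 2909 = n4113 := ndS (p := 1304) (l := 2) rfl N1304 D4113
theorem N2910 : nd 2910 = n4114 := ndS (p := 1304) (l := 4) rfl N1304 D4114
theorem N2911 : nd 2911 = n4116 := ndS (p := 1304) (l := 6) rfl N1304 D4116
theorem N2912 : nd 2912 = n4117 := ndS (p := 1304) (l := 7) rfl N1304 D4117
theorem N2913 : nd 2913 = n4118 := ndS (p := 1305) (l := 0) rfl N1305 D4118
theorem N2914 : nd 2914 = n4119 := ndS (p := 1305) (l := 1) rfl N1305 D4119
theorem N2915 : nd 2915 = n4120 := ndS (p := 1305) (l := 3) rfl N1305 D4120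
theorem N2916 : nd 2916 = n4121 := ndS (p := 1305) (l := 5) rfl N1305 D4121
theorem N2917 : nd 2917 = n4122 := ndS (p := 1305) (l := 6) rfl N1305 D4122
theorem N2918 : nd 2918 = n4123 := ndS (p := 1305) (l := 7) rfl N1305 D4123
theorem N2919 : nd 2919 = n4129 := ndS (p := 1306) (l := 0) rfl N1306 D4129
theorem N2920 : nd 2920 = n4131 := ndS (p := 1306) (l := 5) rfl N1306 D4131
theorem N2921 : nd 2921 = n4132 := ndS (p := 1306) (l := 7) rfl N1306 D4132
theorem N2922 : nd 2922 = n4135 := ndS (p := 1308) (l := 2) rfl N1308 D4135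
theorem N2923 : nd 2923 = n4138 := ndS (p := 1308) (l := 6) rfl N1308 D4138
theorem N2924 : nd 2924 = n4139 := ndS (p := 1309) (l := 3) rfl N1309 D4139
theorem N2925 : nd 2925 = n4140 := ndS (p := 1309) (l := 5) rfl N1309 D4140
theorem N2926 : nd 2926 = n4141 := ndS (p := 1309) (l := 6) rfl N1309 D4141
theorem N2927 : nd 2927 = n4146 := ndS (p := 1310) (l := 5) rfl N1310 D4146
theorem N2928 : nd 2928 = n4160 := ndS (p := 1311) (l := 4) rfl N1311 D4160
theorem N2929 : nd 2929 = n4161 := ndS (p := 1311) (l := 6) rfl N1311 D4161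
theorem N2930 : nd 2930 = n4163 := ndS (p := 1312) (l := 3) rfl N1312 D4163
theorem N2931 : nd 2931 = n4164 := ndS (p := 1312) (l := 4) rfl N1312 D4164
theorem N2932 : nd 2932 = n4166 := ndS (p := 1312) (l := 6) rfl N1312 D4166
theorem N2933 : nd 2933 = n4168 := ndS (p := 1313) (l := 3) rfl N1313 D4168
theorem N2934 : nd 2934 = n4169 := ndS (p := 1313) (l := 4) rfl N1313 D4169
theorem N2935 : nd 2935 = n4171 := ndS (p := 1313) (l := 6) rfl N1313 D4171
theorem N2936 : nd 2936 = n4172 := ndS (p := 1314) (l := 0) rfl N1314 D4172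
theorem N2937 : nd 2937 = n4173 := ndS (p := 1314) (l := 1) rfl N1314 D4173
theorem N2938 : nd 2938 = n4174 := ndS (p := 1314) (l := 3) rfl N1314 D4174
theorem N2939 : nd 2939 = n4175 := ndS (p := 1314) (l := 5) rfl N1314 D4175
theorem N2940 : nd 2940 = n4176 := ndS (p := 1314) (l := 6) rfl N1314 D4176
theorem N2941 : nd 2941 = n4177 := ndS (p := 1314) (l := 7) rfl N1314 D4177
theorem N2942 : nd 2942 = n4178 := ndS (p := 1315) (l := 0) rfl N1315 D4178
theorem N2943 : nd 2943 = n4179 := ndS (p := 1315) (l := 1) rfl N1315 D4179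
theorem N2944 : nd 2944 = n4180 := ndS (p := 1315) (l := 7) rfl N1315 D4180
theorem N2945 : nd 2945 = n4181 := ndS (p := 1316) (l := 6) rfl N1316 D4181
theorem N2946 : nd 2946 = n4182 := ndS (p := 1317) (l := 0) rfl N1317 D4182
theorem N2947 : nd 2947 = n4184 := ndS (p := 1317) (l := 5) rfl N1317 D4184
theorem N2948 : nd 2948 = n4187 := ndS (p := 1318) (l := 2) rfl N1318 D4187
theorem N2949 : nd 2949 = n4188 := ndS (p := 1318) (l := 6) rfl N1318 D4188
theorem N2950 : nd 2950 = n4189 := ndS (p := 1319) (l := 0) rfl N1319 D4189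
theorem N2951 : nd 2951 = n4190 := ndS (p := 1319) (l := 1) rfl N1319 D4190
theorem N2952 : nd 2952 = n4192 := ndS (p := 1319) (l := 7) rfl N1319 D4192
theorem N2953 : nd 2953 = n4194 := ndS (p := 1320) (l := 3) rfl N1320 D4194
theorem N2954 : nd 2954 = n4195 := ndS (p := 1320) (l := 4) rfl N1320 D4195
theorem N2955 : nd 2955 = n4196 := ndS (p := 1320) (l := 5) rfl N1320 D4196
theorem N2956 : nd 2956 = n4197 := ndS (p := 1320) (l := 6) rfl N1320 D4197
theorem N2957 : nd 2957 = n4199 := ndS (p := 1321) (l := 3) rfl N1321 D4199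
theorem N2958 : nd 2958 = n4200 := ndS (p := 1321) (l := 4) rfl N1321 D4200
theorem N2959 : nd 2959 = n4201 := ndS (p := 1321) (l := 5) rfl N1321 D4201
theorem N2960 : nd 2960 = n4202 := ndS (p := 1321) (l := 6) rfl N1321 D4202
theorem N2961 : nd 2961 = n4203 := ndS (p := 1322) (l := 6) rfl N1322 D4203
theorem N2962 : nd 2962 = n4209 := ndS (p := 1325) (l := 4) rfl N1325 D4209
theorem N2963 : nd 2963 = n4213 := ndS (p := 1326) (l := 3) rfl N1326 D4213
theorem N2964 : nd 2964 = n4214 := ndS (p := 1326) (l := 4) rfl N1326 D4214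
theorem N2965 : nd 2965 = n4216 := ndS (p := 1326) (l := 6) rfl N1326 D4216
theorem N2966 : nd 2966 = n4217 := ndS (p := 1327) (l := 4) rfl N1327 D4217
theorem N2967 : nd 2967 = n4218 := ndS (p := 1327) (l := 6) rfl N1327 D4218
theorem N2968 : nd 2968 = n4219 := ndS (p := 1329) (l := 0) rfl N1329 D4219
theorem N2969 : nd 2969 = n4221 := ndS (p := 1329) (l := 5) rfl N1329 D4221
theorem N2970 : nd 2970 = n4230 := ndS (p := 1331) (l := 1) rfl N1331 D4230
theorem N2971 : nd 2971 = n4231 := ndS (p := 1331) (l := 2) rfl N1331 D4231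
theorem N2972 : nd 2972 = n4232 := ndS (p := 1331) (l := 5) rfl N1331 D4232
theorem N2973 : nd 2973 = n4233 := ndS (p := 1331) (l := 6) rfl N1331 D4233
theorem N2974 : nd 2974 = n4236 := ndS (p := 1332) (l := 3) rfl N1332 D4236
theorem N2975 : nd 2975 = n4237 := ndS (p := 1332) (l := 5) rfl N1332 D4237
theorem N2976 : nd 2976 = n4238 := ndS (p := 1332) (l := 6) rfl N1332 D4238
theorem N2977 : nd 2977 = n4242 := ndS (p := 1333) (l := 4) rfl N1333 D4242
theorem N2978 : nd 2978 = n4243 := ndS (p := 1333) (l := 6) rfl N1333 D4243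
theorem N2979 : nd 2979 = n4245 := ndS (p := 1334) (l := 0) rfl N1334 D4245
theorem N2980 : nd 2980 = n4247 := ndS (p := 1334) (l := 5) rfl N1334 D4247
theorem N2981 : nd 2981 = n4251 := ndS (p := 1335) (l := 2) rfl N1335 D4251
theorem N2982 : nd 2982 = n4252 := ndS (p := 1335) (l := 4) rfl N1335 D4252
theorem N2983 : nd 2983 = n4253 := ndS (p := 1335) (l := 5) rfl N1335 D4253
theorem N2984 : nd 2984 = n4255 := ndS (p := 1336) (l := 5) rfl N1336 D4255
theorem N2985 : nd 2985 = n4257 := ndS (p := 1337) (l := 4) rfl N1337 D4257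
theorem N2986 : nd 2986 = n4258 := ndS (p := 1337) (l := 6) rfl N1337 D4258
theorem N2987 : nd 2987 = n4263 := ndS (p := 1338) (l := 4) rfl N1338 D4263
theorem N2988 : nd 2988 = n4264 := ndS (p := 1338) (l := 6) rfl N1338 D4264
theorem N2989 : nd 2989 = n4265 := ndS (p := 1339) (l := 0) rfl N1339 D4265
theorem N2990 : nd 2990 = n4266 := ndS (p := 1339) (l := 1) rfl N1339 D4266
theorem N2991 : nd 2991 = n4267 := ndS (p := 1339) (l := 5) rfl N1339 D4267
theorem N2992 : nd 2992 = n4268 := ndS (p := 1339) (l := 7) rfl N1339 D4268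
theorem N2993 : nd 2993 = n4270 := ndS (p := 1340) (l := 3) rfl N1340 D4270
theorem N2994 : nd 2994 = n4271 := ndS (p := 1340) (l := 4) rfl N1340 D4271
theorem N2995 : nd 2995 = n4273 := ndS (p := 1340) (l := 6) rfl N1340 D4273
theorem N2996 : nd 2996 = n4275 := ndS (p := 1341) (l := 3) rfl N1341 D4275
theorem N2997 : nd 2997 = n4276 := ndS (p := 1341) (l := 4) rfl N1341 D4276
theorem N2998 : nd 2998 = n4278 := ndS (p := 1341) (l := 6) rfl N1341 D4278
theorem N2999 : nd 2999 = n4279 := ndS (p := 1342) (l := 0) rfl N1342 D4279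
theorem N3000 : nd 3000 = n4280 := ndS (p := 1342) (l := 1) rfl N1342 D4280
theorem N3001 : nd 3001 = n4281 := ndS (p := 1342) (l := 5) rfl N1342 D4281
theorem N3002 : nd 3002 = n4282 := ndS (p := 1342) (l := 6) rfl N1342 D4282
theorem N3003 : nd 3003 = n4283 := ndS (p := 1343) (l := 0) rfl N1343 D4283
theorem N3004 : nd 3004 = n4284 := ndS (p := 1343) (l := 1) rfl N1343 D4284
theorem N3005 : nd 3005 = n4285 := ndS (p := 1343) (l := 5) rfl N1343 D4285
theorem N3006 : nd 3006 = n4286 := ndS (p := 1343) (l := 7) rfl N1343 D4286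
theorem N3007 : nd 3007 = n4288 := ndS (p := 1344) (l := 3) rfl N1344 D4288
theorem N3008 : nd 3008 = n4289 := ndS (p := 1344) (l := 4) rfl N1344 D4289
theorem N3009 : nd 3009 = n4293 := ndS (p := 1345) (l := 3) rfl N1345 D4293
theorem N3010 : nd 3010 = n4294 := ndS (p := 1345) (l := 4) rfl N1345 D4294
theorem N3011 : nd 3011 = n4295 := ndS (p := 1345) (l := 5) rfl N1345 D4295
theorem N3012 : nd 3012 = n4298 := ndS (p := 1346) (l := 1) rfl N1346 D4298
theorem N3013 : nd 3013 = n4299 := ndS (p := 1346) (l := 4) rfl N1346 D4299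
theorem N3014 : nd 3014 = n4300 := ndS (p := 1346) (l := 7) rfl N1346 D4300
theorem N3015 : nd 3015 = n4302 := ndS (p := 1348) (l := 3) rfl N1348 D4302
theorem N3016 : nd 3016 = n4304 := ndS (p := 1348) (l := 5) rfl N1348 D4304
theorem N3017 : nd 3017 = n4307 := ndS (p := 1349) (l := 3) rfl N1349 D4307
theorem N3018 : nd 3018 = n4309 := ndS (p := 1349) (l := 5) rfl N1349 D4309
theorem N3019 : nd 3019 = n4310 := ndS (p := 1349) (l := 6) rfl N1349 D4310
theorem N3020 : nd 3020 = n4315 := ndS (p := 1352) (l := 0) rfl N1352 D4315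
theorem N3021 : nd 3021 = n4317 := ndS (p := 1352) (l := 2) rfl N1352 D4317
theorem N3022 : nd 3022 = n4318 := ndS (p := 1352) (l := 4) rfl N1352 D4318
theorem N3023 : nd 3023 = n4323 := ndS (p := 1353) (l := 1) rfl N1353 D4323
theorem N3024 : nd 3024 = n4324 := ndS (p := 1353) (l := 2) rfl N1353 D4324
theorem N3025 : nd 3025 = n4325 := ndS (p := 1353) (l := 5) rfl N1353 D4325
theorem N3026 : nd 3026 = n4328 := ndS (p := 1355) (l := 3) rfl N1355 D4328
theorem N3027 : nd 3027 = n4330 := ndS (p := 1355) (l := 7) rfl N1355 D4330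
theorem N3028 : nd 3028 = n4331 := ndS (p := 1356) (l := 6) rfl N1356 D4331
theorem N3029 : nd 3029 = n4332 := ndS (p := 1357) (l := 3) rfl N1357 D4332
theorem N3030 : nd 3030 = n4333 := ndS (p := 1357) (l := 5) rfl N1357 D4333
theorem N3031 : nd 3031 = n4341 := ndS (p := 1359) (l := 1) rfl N1359 D4341
theorem N3032 : nd 3032 = n4342 := ndS (p := 1359) (l := 2) rfl N1359 D4342
theorem N3033 : nd 3033 = n4343 := ndS (p := 1359) (l := 5) rfl N1359 D4343
theorem N3034 : nd 3034 = n4353 := ndS (p := 1361) (l := 1) rfl N1361 D4353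
theorem N3035 : nd 3035 = n4354 := ndS (p := 1361) (l := 2) rfl N1361 D4354
theorem N3036 : nd 3036 = n4355 := ndS (p := 1361) (l := 5) rfl N1361 D4355
theorem N3037 : nd 3037 = n4358 := ndS (p := 1362) (l := 0) rfl N1362 D4358
theorem N3038 : nd 3038 = n4359 := ndS (p := 1362) (l := 5) rfl N1362 D4359
theorem N3039 : nd 3039 = n4364 := ndS (p := 1363) (l := 4) rfl N1363 D4364
theorem N3040 : nd 3040 = n4365 := ndS (p := 1363) (l := 6) rfl N1363 D4365
theorem N3041 : nd 3041 = n4372 := ndS (p := 1364) (l := 0) rfl N1364 D4372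
theorem N3042 : nd 3042 = n4374 := ndS (p := 1364) (l := 2) rfl N1364 D4374
theorem N3043 : nd 3043 = n4375 := ndS (p := 1364) (l := 5) rfl N1364 D4375
theorem N3044 : nd 3044 = n4376 := ndS (p := 1364) (l := 6) rfl N1364 D4376
theorem N3045 : nd 3045 = n4377 := ndS (p := 1365) (l := 5) rfl N1365 D4377
theorem N3046 : nd 3046 = n4378 := ndS (p := 1365) (l := 6) rfl N1365 D4378
theorem N3047 : nd 3047 = n4379 := ndS (p := 1366) (l := 4) rfl N1366 D4379
theorem N3048 : nd 3048 = n4380 := ndS (p := 1366) (l := 6) rfl N1366 D4380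
theorem N3049 : nd 3049 = n4383 := ndS (p := 1367) (l := 5) rfl N1367 D4383
theorem N3050 : nd 3050 = n4385 := ndS (p := 1368) (l := 4) rfl N1368 D4385
theorem N3051 : nd 3051 = n4386 := ndS (p := 1368) (l := 6) rfl N1368 D4386
theorem N3052 : nd 3052 = n4389 := ndS (p := 1369) (l := 5) rfl N1369 D4389
theorem N3053 : nd 3053 = n4392 := ndS (p := 1370) (l := 3) rfl N1370 D4392
theorem N3054 : nd 3054 = n4393 := ndS (p := 1370) (l := 4) rfl N1370 D4393
theorem N3055 : nd 3055 = n4395 := ndS (p := 1370) (l := 6) rfl N1370 D4395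
theorem N3056 : nd 3056 = n4397 := ndS (p := 1371) (l := 3) rfl N1371 D4397
theorem N3057 : nd 3057 = n4398 := ndS (p := 1371) (l := 4) rfl N1371 D4398
theorem N3058 : nd 3058 = n4400 := ndS (p := 1371) (l := 6) rfl N1371 D4400
theorem N3059 : nd 3059 = n4401 := ndS (p := 1372) (l := 0) rfl N1372 D4401
theorem N3060 : nd 3060 = n4402 := ndS (p := 1372) (l := 1) rfl N1372 D4402
theorem N3061 : nd 3061 = n4403 := ndS (p := 1372) (l := 5) rfl N1372 D4403
theorem N3062 : nd 3062 = n4404 := ndS (p := 1372) (l := 6) rfl N1372 D4404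
theorem N3063 : nd 3063 = n4405 := ndS (p := 1373) (l := 0) rfl N1373 D4405
theorem N3064 : nd 3064 = n4406 := ndS (p := 1373) (l := 1) rfl N1373 D4406
theorem N3065 : nd 3065 = n4407 := ndS (p := 1373) (l := 5) rfl N1373 D4407
theorem N3066 : nd 3066 = n4408 := ndS (p := 1373) (l := 7) rfl N1373 D4408
theorem N3067 : nd 3067 = n4415 := ndS (p := 1374) (l := 3) rfl N1374 D4415
theorem N3068 : nd 3068 = n4416 := ndS (p := 1374) (l := 4) rfl N1374 D4416
theorem N3069 : nd 3069 = n4419 := ndS (p := 1375) (l := 0) rfl N1375 D4419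
theorem N3070 : nd 3070 = n4421 := ndS (p := 1375) (l := 4) rfl N1375 D4421
theorem N3071 : nd 3071 = n4422 := ndS (p := 1375) (l := 7) rfl N1375 D4422
theorem N3072 : nd 3072 = n4424 := ndS (p := 1377) (l := 3) rfl N1377 D4424
theorem N3073 : nd 3073 = n4429 := ndS (p := 1378) (l := 3) rfl N1378 D4429
theorem N3074 : nd 3074 = n4432 := ndS (p := 1378) (l := 6) rfl N1378 D4432
theorem N3075 : nd 3075 = n4434 := ndS (p := 1379) (l := 1) rfl N1379 D4434
theorem N3076 : nd 3076 = n4435 := ndS (p := 1379) (l := 4) rfl N1379 D4435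
theorem N3077 : nd 3077 = n4436 := ndS (p := 1379) (l := 7) rfl N1379 D4436
theorem N3078 : nd 3078 = n4437 := ndS (p := 1381) (l := 3) rfl N1381 D4437
theorem N3079 : nd 3079 = n4438 := ndS (p := 1382) (l := 6) rfl N1382 D4438
theorem N3080 : nd 3080 = n4448 := ndS (p := 1383) (l := 6) rfl N1383 D4448
theorem N3081 : nd 3081 = n4451 := ndS (p := 1384) (l := 3) rfl N1384 D4451
theorem N3082 : nd 3082 = n4452 := ndS (p := 1384) (l := 5) rfl N1384 D4452
theorem N3083 : nd 3083 = n4453 := ndS (p := 1384) (l := 6) rfl N1384 D4453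
theorem N3084 : nd 3084 = n4461 := ndS (p := 1385) (l := 5) rfl N1385 D4461
theorem N3085 : nd 3085 = n4463 := ndS (p := 1386) (l := 4) rfl N1386 D4463
theorem N3086 : nd 3086 = n4466 := ndS (p := 1387) (l := 5) rfl N1387 D4466
theorem N3087 : nd 3087 = n4474 := ndS (p := 1388) (l := 4) rfl N1388 D4474
theorem N3088 : nd 3088 = n4475 := ndS (p := 1388) (l := 6) rfl N1388 D4475
theorem N3089 : nd 3089 = n4486 := ndS (p := 1389) (l := 0) rfl N1389 D4486
theorem N3090 : nd 3090 = n4487 := ndS (p := 1389) (l := 1) rfl N1389 D4487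
theorem N3091 : nd 3091 = n4488 := ndS (p := 1389) (l := 5) rfl N1389 D4488
theorem N3092 : nd 3092 = n4489 := ndS (p := 1389) (l := 6) rfl N1389 D4489
theorem N3093 : nd 3093 = n4490 := ndS (p := 1390) (l := 0) rfl N1390 D4490
theorem N3094 : nd 3094 = n4491 := ndS (p := 1390) (l := 1) rfl N1390 D4491
theorem N3095 : nd 3095 = n4492 := ndS (p := 1390) (l := 7) rfl N1390 D4492
theorem N3096 : nd 3096 = n4499 := ndS (p := 1391) (l := 3) rfl N1391 D4499
theorem N3097 : nd 3097 = n4501 := ndS (p := 1391) (l := 6) rfl N1391 D4501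
theorem N3098 : nd 3098 = n4504 := ndS (p := 1394) (l := 0) rfl N1394 D4504
theorem N3099 : nd 3099 = n4505 := ndS (p := 1394) (l := 5) rfl N1394 D4505
theorem N3100 : nd 3100 = n4517 := ndS (p := 1396) (l := 5) rfl N1396 D4517
theorem N3101 : nd 3101 = n4525 := ndS (p := 1397) (l := 4) rfl N1397 D4525
theorem N3102 : nd 3102 = n4526 := ndS (p := 1397) (l := 6) rfl N1397 D4526
theorem N3103 : nd 3103 = n4538 := ndS (p := 1399) (l := 0) rfl N1399 D4538
theorem N3104 : nd 3104 = n4539 := ndS (p := 1399) (l := 1) rfl N1399 D4539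
theorem N3105 : nd 3105 = n4540 := ndS (p := 1399) (l := 5) rfl N1399 D4540
theorem N3106 : nd 3106 = n4541 := ndS (p := 1399) (l := 6) rfl N1399 D4541
theorem N3107 : nd 3107 = n4542 := ndS (p := 1400) (l := 0) rfl N1400 D4542
theorem N3108 : nd 3108 = n4543 := ndS (p := 1400) (l := 1) rfl N1400 D4543
theorem N3109 : nd 3109 = n4547 := ndS (p := 1401) (l := 3) rfl N1401 D4547
theorem N3110 : nd 3110 = n4548 := ndS (p := 1401) (l := 4) rfl N1401 D4548
theorem N3111 : nd 3111 = n4552 := ndS (p := 1402) (l := 3) rfl N1402 D4552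
theorem N3112 : nd 3112 = n4553 := ndS (p := 1402) (l := 4) rfl N1402 D4553
theorem N3113 : nd 3113 = n4565 := ndS (p := 1404) (l := 3) rfl N1404 D4565
theorem N3114 : nd 3114 = n4568 := ndS (p := 1404) (l := 6) rfl N1404 D4568
theorem N3115 : nd 3115 = n4586 := ndS (p := 1406) (l := 1) rfl N1406 D4586
theorem N3116 : nd 3116 = n4587 := ndS (p := 1406) (l := 5) rfl N1406 D4587
theorem N3117 : nd 3117 = n4588 := ndS (p := 1406) (l := 6) rfl N1406 D4588
theorem N3118 : nd 3118 = n4591 := ndS (p := 1407) (l := 4) rfl N1407 D4591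
theorem N3119 : nd 3119 = n4592 := ndS (p := 1407) (l := 6) rfl N1407 D4592
theorem N3120 : nd 3120 = n4595 := ndS (p := 1408) (l := 5) rfl N1408 D4595
theorem N3121 : nd 3121 = n4597 := ndS (p := 1409) (l := 4) rfl N1409 D4597
theorem N3122 : nd 3122 = n4598 := ndS (p := 1409) (l := 5) rfl N1409 D4598
theorem N3123 : nd 3123 = n4600 := ndS (p := 1410) (l := 5) rfl N1410 D4600
theorem N3124 : nd 3124 = n4602 := ndS (p := 1411) (l := 4) rfl N1411 D4602
theorem N3125 : nd 3125 = n4603 := ndS (p := 1411) (l := 6) rfl N1411 D4603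
theorem N3126 : nd 3126 = n4608 := ndS (p := 1412) (l := 4) rfl N1412 D4608
theorem N3127 : nd 3127 = n4609 := ndS (p := 1412) (l := 6) rfl N1412 D4609
theorem N3128 : nd 3128 = n4612 := ndS (p := 1413) (l := 4) rfl N1413 D4612
theorem N3129 : nd 3129 = n4614 := ndS (p := 1413) (l := 6) rfl N1413 D4614
theorem N3130 : nd 3130 = n4616 := ndS (p := 1414) (l := 3) rfl N1414 D4616
theorem N3131 : nd 3131 = n4617 := ndS (p := 1414) (l := 4) rfl N1414 D4617
theorem N3132 : nd 3132 = n4619 := ndS (p := 1414) (l := 6) rfl N1414 D4619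
theorem N3133 : nd 3133 = n4620 := ndS (p := 1415) (l := 0) rfl N1415 D4620
theorem N3134 : nd 3134 = n4621 := ndS (p := 1415) (l := 1) rfl N1415 D4621
theorem N3135 : nd 3135 = n4622 := ndS (p := 1415) (l := 5) rfl N1415 D4622
theorem N3136 : nd 3136 = n4623 := ndS (p := 1415) (l := 6) rfl N1415 D4623
theorem N3137 : nd 3137 = n4624 := ndS (p := 1416) (l := 0) rfl N1416 D4624
theorem N3138 : nd 3138 = n4625 := ndS (p := 1416) (l := 1) rfl N1416 D4625
theorem N3139 : nd 3139 = n4626 := ndS (p := 1416) (l := 7) rfl N1416 D4626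
theorem N3140 : nd 3140 = n4628 := ndS (p := 1417) (l := 3) rfl N1417 D4628
theorem N3141 : nd 3141 = n4630 := ndS (p := 1417) (l := 5) rfl N1417 D4630
theorem N3142 : nd 3142 = n4631 := ndS (p := 1417) (l := 6) rfl N1417 D4631
theorem N3143 : nd 3143 = n4633 := ndS (p := 1418) (l := 3) rfl N1418 D4633
theorem N3144 : nd 3144 = n4636 := ndS (p := 1418) (l := 6) rfl N1418 D4636
theorem N3145 : nd 3145 = n4637 := ndS (p := 1420) (l := 0) rfl N1420 D4637
theorem N3146 : nd 3146 = n4638 := ndS (p := 1420) (l := 1) rfl N1420 D4638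
theorem N3147 : nd 3147 = n4639 := ndS (p := 1420) (l := 5) rfl N1420 D4639
theorem N3148 : nd 3148 = n4643 := ndS (p := 1421) (l := 4) rfl N1421 D4643
theorem N3149 : nd 3149 = n4644 := ndS (p := 1421) (l := 6) rfl N1421 D4644
theorem N3150 : nd 3150 = n4649 := ndS (p := 1422) (l := 0) rfl N1422 D4649
theorem N3151 : nd 3151 = n4650 := ndS (p := 1422) (l := 5) rfl N1422 D4650
theorem N3152 : nd 3152 = n4651 := ndS (p := 1422) (l := 6) rfl N1422 D4651
theorem N3153 : nd 3153 = n4652 := ndS (p := 1423) (l := 5) rfl N1423 D4652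
theorem N3154 : nd 3154 = n4653 := ndS (p := 1423) (l := 6) rfl N1423 D4653
theorem N3155 : nd 3155 = n4654 := ndS (p := 1424) (l := 4) rfl N1424 D4654
theorem N3156 : nd 3156 = n4655 := ndS (p := 1424) (l := 6) rfl N1424 D4655
theorem N3157 : nd 3157 = n4657 := ndS (p := 1425) (l := 1) rfl N1425 D4657
theorem N3158 : nd 3158 = n4658 := ndS (p := 1425) (l := 5) rfl N1425 D4658
theorem N3159 : nd 3159 = n4660 := ndS (p := 1426) (l := 5) rfl N1426 D4660
theorem N3160 : nd 3160 = n4661 := ndS (p := 1426) (l := 6) rfl N1426 D4661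
theorem N3161 : nd 3161 = n4662 := ndS (p := 1427) (l := 4) rfl N1427 D4662
theorem N3162 : nd 3162 = n4663 := ndS (p := 1427) (l := 6) rfl N1427 D4663
theorem N3163 : nd 3163 = n4665 := ndS (p := 1429) (l := 3) rfl N1429 D4665
theorem N3164 : nd 3164 = n4666 := ndS (p := 1429) (l := 5) rfl N1429 D4666
theorem N3165 : nd 3165 = n4668 := ndS (p := 1430) (l := 3) rfl N1430 D4668
theorem N3166 : nd 3166 = n4669 := ndS (p := 1430) (l := 5) rfl N1430 D4669
theorem N3167 : nd 3167 = n4670 := ndS (p := 1430) (l := 6) rfl N1430 D4670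
theorem N3168 : nd 3168 = n4671 := ndS (p := 1431) (l := 0) rfl N1431 D4671
theorem N3169 : nd 3169 = n4672 := ndS (p := 1431) (l := 1) rfl N1431 D4672
theorem N3170 : nd 3170 = n4673 := ndS (p := 1431) (l := 4) rfl N1431 D4673
theorem N3171 : nd 3171 = n4674 := ndS (p := 1431) (l := 6) rfl N1431 D4674
theorem N3172 : nd 3172 = n4675 := ndS (p := 1432) (l := 0) rfl N1432 D4675
theorem N3173 : nd 3173 = n4676 := ndS (p := 1432) (l := 1) rfl N1432 D4676
theorem N3174 : nd 3174 = n4677 := ndS (p := 1432) (l := 5) rfl N1432 D4677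
theorem N3175 : nd 3175 = n4680 := ndS (p := 1433) (l := 4) rfl N1433 D4680
theorem N3176 : nd 3176 = n4682 := ndS (p := 1433) (l := 6) rfl N1433 D4682
theorem N3177 : nd 3177 = n4684 := ndS (p := 1434) (l := 3) rfl N1434 D4684
theorem N3178 : nd 3178 = n4685 := ndS (p := 1434) (l := 4) rfl N1434 D4685
theorem N3179 : nd 3179 = n4687 := ndS (p := 1434) (l := 6) rfl N1434 D4687
theorem N3180 : nd 3180 = n4688 := ndS (p := 1435) (l := 0) rfl N1435 D4688
theorem N3181 : nd 3181 = n4689 := ndS (p := 1435) (l := 1) rfl N1435 D4689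
theorem N3182 : nd 3182 = n4690 := ndS (p := 1435) (l := 5) rfl N1435 D4690
theorem N3183 : nd 3183 = n4691 := ndS (p := 1435) (l := 6) rfl N1435 D4691
theorem N3184 : nd 3184 = n4692 := ndS (p := 1436) (l := 0) rfl N1436 D4692
theorem N3185 : nd 3185 = n4693 := ndS (p := 1436) (l := 1) rfl N1436 D4693
theorem N3186 : nd 3186 = n4697 := ndS (p := 1437) (l := 4) rfl N1437 D4697
theorem N3187 : nd 3187 = n4701 := ndS (p := 1438) (l := 3) rfl N1438 D4701
theorem N3188 : nd 3188 = n4702 := ndS (p := 1438) (l := 4) rfl N1438 D4702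
theorem N3189 : nd 3189 = n4704 := ndS (p := 1438) (l := 6) rfl N1438 D4704
theorem N3190 : nd 3190 = n4723 := ndS (p := 1439) (l := 4) rfl N1439 D4723
theorem N3191 : nd 3191 = n4724 := ndS (p := 1439) (l := 6) rfl N1439 D4724
theorem N3192 : nd 3192 = n4725 := ndS (p := 1440) (l := 5) rfl N1440 D4725
theorem N3193 : nd 3193 = n4728 := ndS (p := 1442) (l := 5) rfl N1442 D4728
theorem N3194 : nd 3194 = n4738 := ndS (p := 1443) (l := 5) rfl N1443 D4738
theorem N3195 : nd 3195 = n4740 := ndS (p := 1444) (l := 5) rfl N1444 D4740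
theorem N3196 : nd 3196 = n4742 := ndS (p := 1445) (l := 3) rfl N1445 D4742
theorem N3197 : nd 3197 = n4743 := ndS (p := 1445) (l := 5) rfl N1445 D4743
theorem N3198 : nd 3198 = n4746 := ndS (p := 1446) (l := 1) rfl N1446 D4746
theorem N3199 : nd 3199 = n4747 := ndS (p := 1446) (l := 4) rfl N1446 D4747
theorem N3200 : nd 3200 = n4748 := ndS (p := 1446) (l := 6) rfl N1446 D4748
theorem N3201 : nd 3201 = n4754 := ndS (p := 1447) (l := 6) rfl N1447 D4754
theorem N3202 : nd 3202 = n4755 := ndS (p := 1448) (l := 5) rfl N1448 D4755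
theorem N3203 : nd 3203 = n4756 := ndS (p := 1448) (l := 6) rfl N1448 D4756
theorem N3204 : nd 3204 = n4757 := ndS (p := 1449) (l := 5) rfl N1449 D4757
theorem N3205 : nd 3205 = n4759 := ndS (p := 1450) (l := 5) rfl N1450 D4759
theorem N3206 : nd 3206 = n4761 := ndS (p := 1450) (l := 7) rfl N1450 D4761
theorem N3207 : nd 3207 = n4762 := ndS (p := 1451) (l := 0) rfl N1451 D4762
theorem N3208 : nd 3208 = n4763 := ndS (p := 1451) (l := 1) rfl N1451 D4763
theorem N3209 : nd 3209 = n4764 := ndS (p := 1451) (l := 4) rfl N1451 D4764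
theorem N3210 : nd 3210 = n4765 := ndS (p := 1451) (l := 6) rfl N1451 D4765
theorem N3211 : nd 3211 = n4766 := ndS (p := 1451) (l := 7) rfl N1451 D4766
theorem N3212 : nd 3212 = n4771 := ndS (p := 1452) (l := 6) rfl N1452 D4771
theorem N3213 : nd 3213 = n4782 := ndS (p := 1453) (l := 0) rfl N1453 D4782
theorem N3214 : nd 3214 = n4783 := ndS (p := 1453) (l := 1) rfl N1453 D4783
theorem N3215 : nd 3215 = n4784 := ndS (p := 1453) (l := 3) rfl N1453 D4784
theorem N3216 : nd 3216 = n4785 := ndS (p := 1453) (l := 5) rfl N1453 D4785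
theorem N3217 : nd 3217 = n4786 := ndS (p := 1453) (l := 6) rfl N1453 D4786
theorem N3218 : nd 3218 = n4788 := ndS (p := 1454) (l := 0) rfl N1454 D4788
theorem N3219 : nd 3219 = n4791 := ndS (p := 1454) (l := 7) rfl N1454 D4791
theorem N3220 : nd 3220 = n4811 := ndS (p := 1456) (l := 5) rfl N1456 D4811
theorem N3221 : nd 3221 = n4812 := ndS (p := 1456) (l := 6) rfl N1456 D4812
theorem N3222 : nd 3222 = n4815 := ndS (p := 1457) (l := 4) rfl N1457 D4815
theorem N3223 : nd 3223 = n4816 := ndS (p := 1457) (l := 6) rfl N1457 D4816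
theorem N3224 : nd 3224 = n4821 := ndS (p := 1459) (l := 5) rfl N1459 D4821
theorem N3225 : nd 3225 = n4822 := ndS (p := 1459) (l := 6) rfl N1459 D4822
theorem N3226 : nd 3226 = n4823 := ndS (p := 1460) (l := 4) rfl N1460 D4823
theorem N3227 : nd 3227 = n4824 := ndS (p := 1460) (l := 6) rfl N1460 D4824
theorem N3228 : nd 3228 = n4825 := ndS (p := 1461) (l := 0) rfl N1461 D4825
theorem N3229 : nd 3229 = n4826 := ndS (p := 1461) (l := 1) rfl N1461 D4826
theorem N3230 : nd 3230 = n4827 := ndS (p := 1461) (l := 5) rfl N1461 D4827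
theorem N3231 : nd 3231 = n4829 := ndS (p := 1462) (l := 3) rfl N1462 D4829
theorem N3232 : nd 3232 = n4830 := ndS (p := 1462) (l := 5) rfl N1462 D4830
theorem N3233 : nd 3233 = n4831 := ndS (p := 1462) (l := 6) rfl N1462 D4831
theorem N3234 : nd 3234 = n4833 := ndS (p := 1463) (l := 1) rfl N1463 D4833
theorem N3235 : nd 3235 = n4850 := ndS (p := 1465) (l := 3) rfl N1465 D4850
theorem N3236 : nd 3236 = n4851 := ndS (p := 1465) (l := 4) rfl N1465 D4851
theorem N3237 : nd 3237 = n4853 := ndS (p := 1465) (l := 6) rfl N1465 D4853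
theorem N3238 : nd 3238 = n4855 := ndS (p := 1466) (l := 3) rfl N1466 D4855
theorem N3239 : nd 3239 = n4856 := ndS (p := 1466) (l := 4) rfl N1466 D4856
theorem N3240 : nd 3240 = n4858 := ndS (p := 1466) (l := 6) rfl N1466 D4858
theorem N3241 : nd 3241 = n4859 := ndS (p := 1467) (l := 0) rfl N1467 D4859
theorem N3242 : nd 3242 = n4860 := ndS (p := 1467) (l := 1) rfl N1467 D4860
theorem N3243 : nd 3243 = n4861 := ndS (p := 1467) (l := 3) rfl N1467 D4861
theorem N3244 : nd 3244 = n4862 := ndS (p := 1467) (l := 5) rfl N1467 D4862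
theorem N3245 : nd 3245 = n4863 := ndS (p := 1467) (l := 6) rfl N1467 D4863
theorem N3246 : nd 3246 = n4864 := ndS (p := 1468) (l := 0) rfl N1468 D4864
theorem N3247 : nd 3247 = n4865 := ndS (p := 1468) (l := 1) rfl N1468 D4865
theorem N3248 : nd 3248 = n4866 := ndS (p := 1468) (l := 7) rfl N1468 D4866
theorem N3249 : nd 3249 = n4875 := ndS (p := 1469) (l := 2) rfl N1469 D4875
theorem N3250 : nd 3250 = n4876 := ndS (p := 1469) (l := 4) rfl N1469 D4876
theorem N3251 : nd 3251 = n4878 := ndS (p := 1469) (l := 6) rfl N1469 D4878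
theorem N3252 : nd 3252 = n4880 := ndS (p := 1470) (l := 0) rfl N1470 D4880
theorem N3253 : nd 3253 = n4881 := ndS (p := 1470) (l := 1) rfl N1470 D4881
theorem N3254 : nd 3254 = n4882 := ndS (p := 1470) (l := 3) rfl N1470 D4882
theorem N3255 : nd 3255 = n4883 := ndS (p := 1470) (l := 5) rfl N1470 D4883
theorem N3256 : nd 3256 = n4884 := ndS (p := 1470) (l := 6) rfl N1470 D4884
theorem N3257 : nd 3257 = n4885 := ndS (p := 1471) (l := 0) rfl N1471 D4885
theorem N3258 : nd 3258 = n4886 := ndS (p := 1471) (l := 1) rfl N1471 D4886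
theorem N3259 : nd 3259 = n4888 := ndS (p := 1471) (l := 7) rfl N1471 D4888
theorem N3260 : nd 3260 = n4889 := ndS (p := 1472) (l := 2) rfl N1472 D4889
theorem N3261 : nd 3261 = n4890 := ndS (p := 1472) (l := 4) rfl N1472 D4890
theorem N3262 : nd 3262 = n4891 := ndS (p := 1472) (l := 6) rfl N1472 D4891
theorem N3263 : nd 3263 = n4892 := ndS (p := 1473) (l := 3) rfl N1473 D4892
theorem N3264 : nd 3264 = n4893 := ndS (p := 1473) (l := 5) rfl N1473 D4893
theorem N3265 : nd 3265 = n4894 := ndS (p := 1473) (l := 6) rfl N1473 D4894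
theorem N3266 : nd 3266 = n4896 := ndS (p := 1474) (l := 1) rfl N1474 D4896
theorem N3267 : nd 3267 = n4897 := ndS (p := 1474) (l := 5) rfl N1474 D4897
theorem N3268 : nd 3268 = n4898 := ndS (p := 1474) (l := 7) rfl N1474 D4898
theorem N3269 : nd 3269 = n4900 := ndS (p := 1475) (l := 3) rfl N1475 D4900
theorem N3270 : nd 3270 = n4901 := ndS (p := 1475) (l := 4) rfl N1475 D4901
theorem N3271 : nd 3271 = n4902 := ndS (p := 1475) (l := 5) rfl N1475 D4902
theorem N3272 : nd 3272 = n4903 := ndS (p := 1475) (l := 6) rfl N1475 D4903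
theorem N3273 : nd 3273 = n4905 := ndS (p := 1476) (l := 3) rfl N1476 D4905
theorem N3274 : nd 3274 = n4906 := ndS (p := 1476) (l := 4) rfl N1476 D4906
theorem N3275 : nd 3275 = n4907 := ndS (p := 1476) (l := 5) rfl N1476 D4907
theorem N3276 : nd 3276 = n4908 := ndS (p := 1476) (l := 6) rfl N1476 D4908
theorem N3277 : nd 3277 = n4909 := ndS (p := 1477) (l := 0) rfl N1477 D4909
theorem N3278 : nd 3278 = n4910 := ndS (p := 1477) (l := 2) rfl N1477 D4910
theorem N3279 : nd 3279 = n4911 := ndS (p := 1477) (l := 5) rfl N1477 D4911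
theorem N3280 : nd 3280 = n4912 := ndS (p := 1477) (l := 6) rfl N1477 D4912
theorem N3281 : nd 3281 = n4913 := ndS (p := 1478) (l := 0) rfl N1478 D4913
theorem N3282 : nd 3282 = n4914 := ndS (p := 1478) (l := 1) rfl N1478 D4914
theorem N3283 : nd 3283 = n4915 := ndS (p := 1478) (l := 4) rfl N1478 D4915
theorem N3284 : nd 3284 = n4916 := ndS (p := 1478) (l := 6) rfl N1478 D4916
theorem N3285 : nd 3285 = n4917 := ndS (p := 1478) (l := 7) rfl N1478 D4917
theorem N3286 : nd 3286 = n4918 := ndS (p := 1479) (l := 0) rfl N1479 D4918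
theorem N3287 : nd 3287 = n4919 := ndS (p := 1479) (l := 1) rfl N1479 D4919
theorem N3288 : nd 3288 = n4920 := ndS (p := 1479) (l := 5) rfl N1479 D4920
theorem N3289 : nd 3289 = n4921 := ndS (p := 1479) (l := 7) rfl N1479 D4921
theorem N3290 : nd 3290 = n4922 := ndS (p := 1480) (l := 6) rfl N1480 D4922
theorem N3291 : nd 3291 = n4924 := ndS (p := 1481) (l := 3) rfl N1481 D4924
theorem N3292 : nd 3292 = n4925 := ndS (p := 1481) (l := 4) rfl N1481 D4925
theorem N3293 : nd 3293 = n4926 := ndS (p := 1481) (l := 5) rfl N1481 D4926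
theorem N3294 : nd 3294 = n4927 := ndS (p := 1481) (l := 6) rfl N1481 D4927
theorem N3295 : nd 3295 = n4929 := ndS (p := 1482) (l := 3) rfl N1482 D4929
theorem N3296 : nd 3296 = n4930 := ndS (p := 1482) (l := 4) rfl N1482 D4930
theorem N3297 : nd 3297 = n4931 := ndS (p := 1482) (l := 5) rfl N1482 D4931
theorem N3298 : nd 3298 = n4932 := ndS (p := 1482) (l := 6) rfl N1482 D4932
theorem N3299 : nd 3299 = n4933 := ndS (p := 1483) (l := 6) rfl N1483 D4933
theorem N3300 : nd 3300 = n4934 := ndS (p := 1484) (l := 0) rfl N1484 D4934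
theorem N3301 : nd 3301 = n4935 := ndS (p := 1484) (l := 1) rfl N1484 D4935
theorem N3302 : nd 3302 = n4936 := ndS (p := 1484) (l := 5) rfl N1484 D4936
theorem N3303 : nd 3303 = n4937 := ndS (p := 1485) (l := 3) rfl N1485 D4937
theorem N3304 : nd 3304 = n4938 := ndS (p := 1485) (l := 4) rfl N1485 D4938
theorem N3305 : nd 3305 = n4940 := ndS (p := 1486) (l := 3) rfl N1486 D4940
theorem N3306 : nd 3306 = n4941 := ndS (p := 1486) (l := 4) rfl N1486 D4941
theorem N3307 : nd 3307 = n4944 := ndS (p := 1487) (l := 1) rfl N1487 D4944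
theorem N3308 : nd 3308 = n4945 := ndS (p := 1487) (l := 4) rfl N1487 D4945
theorem N3309 : nd 3309 = n4946 := ndS (p := 1488) (l := 4) rfl N1488 D4946
theorem N3310 : nd 3310 = n4947 := ndS (p := 1488) (l := 6) rfl N1488 D4947
theorem N3311 : nd 3311 = n4948 := ndS (p := 1489) (l := 0) rfl N1489 D4948
theorem N3312 : nd 3312 = n4949 := ndS (p := 1489) (l := 1) rfl N1489 D4949
theorem N3313 : nd 3313 = n4950 := ndS (p := 1489) (l := 5) rfl N1489 D4950
theorem N3314 : nd 3314 = n4951 := ndS (p := 1489) (l := 6) rfl N1489 D4951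
theorem N3315 : nd 3315 = n4952 := ndS (p := 1490) (l := 0) rfl N1490 D4952
theorem N3316 : nd 3316 = n4953 := ndS (p := 1490) (l := 1) rfl N1490 D4953
theorem N3317 : nd 3317 = n4955 := ndS (p := 1490) (l := 7) rfl N1490 D4955
theorem N3318 : nd 3318 = n4957 := ndS (p := 1491) (l := 3) rfl N1491 D4957
theorem N3319 : nd 3319 = n4959 := ndS (p := 1491) (l := 5) rfl N1491 D4959
theorem N3320 : nd 3320 = n4963 := ndS (p := 1492) (l := 5) rfl N1492 D4963
theorem N3321 : nd 3321 = n4964 := ndS (p := 1492) (l := 6) rfl N1492 D4964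
theorem N3322 : nd 3322 = n4969 := ndS (p := 1494) (l := 4) rfl N1494 D4969
theorem N3323 : nd 3323 = n4970 := ndS (p := 1494) (l := 6) rfl N1494 D4970
theorem N3324 : nd 3324 = n4971 := ndS (p := 1495) (l := 0) rfl N1495 D4971
theorem N3325 : nd 3325 = n4972 := ndS (p := 1495) (l := 1) rfl N1495 D4972
theorem N3326 : nd 3326 = n4973 := ndS (p := 1495) (l := 5) rfl N1495 D4973
theorem N3327 : nd 3327 = n4974 := ndS (p := 1495) (l := 6) rfl N1495 D4974
theorem N3328 : nd 3328 = n4975 := ndS (p := 1496) (l := 0) rfl N1496 D4975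
theorem N3329 : nd 3329 = n4976 := ndS (p := 1496) (l := 1) rfl N1496 D4976
theorem N3330 : nd 3330 = n4977 := ndS (p := 1496) (l := 5) rfl N1496 D4977
theorem N3331 : nd 3331 = n4978 := ndS (p := 1496) (l := 7) rfl N1496 D4978
theorem N3332 : nd 3332 = n4985 := ndS (p := 1497) (l := 3) rfl N1497 D4985
theorem N3333 : nd 3333 = n4988 := ndS (p := 1497) (l := 6) rfl N1497 D4988
theorem N3334 : nd 3334 = n4989 := ndS (p := 1498) (l := 0) rfl N1498 D4989
theorem N3335 : nd 3335 = n4990 := ndS (p := 1498) (l := 1) rfl N1498 D4990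
theorem N3336 : nd 3336 = n4992 := ndS (p := 1498) (l := 7) rfl N1498 D4992
theorem N3337 : nd 3337 = n4994 := ndS (p := 1500) (l := 4) rfl N1500 D4994
theorem N3338 : nd 3338 = n4995 := ndS (p := 1500) (l := 6) rfl N1500 D4995
theorem N3339 : nd 3339 = n4997 := ndS (p := 1501) (l := 3) rfl N1501 D4997
theorem N3340 : nd 3340 = n4998 := ndS (p := 1501) (l := 4) rfl N1501 D4998
theorem N3341 : nd 3341 = n4999 := ndS (p := 1501) (l := 6) rfl N1501 D4999
theorem N3342 : nd 3342 = n5000 := ndS (p := 1502) (l := 6) rfl N1502 D5000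
theorem N3343 : nd 3343 = n5001 := ndS (p := 1503) (l := 0) rfl N1503 D5001
theorem N3344 : nd 3344 = n5002 := ndS (p := 1503) (l := 1) rfl N1503 D5002
theorem N3345 : nd 3345 = n5003 := ndS (p := 1503) (l := 5) rfl N1503 D5003
theorem N3346 : nd 3346 = n5004 := ndS (p := 1503) (l := 7) rfl N1503 D5004
theorem N3347 : nd 3347 = n5006 := ndS (p := 1504) (l := 3) rfl N1504 D5006
theorem N3348 : nd 3348 = n5009 := ndS (p := 1504) (l := 6) rfl N1504 D5009
theorem N3349 : nd 3349 = n5011 := ndS (p := 1505) (l := 3) rfl N1505 D5011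
theorem N3350 : nd 3350 = n5015 := ndS (p := 1506) (l := 0) rfl N1506 D5015
theorem N3351 : nd 3351 = n5018 := ndS (p := 1506) (l := 7) rfl N1506 D5018
theorem N3352 : nd 3352 = n5025 := ndS (p := 1508) (l := 0) rfl N1508 D5025
theorem N3353 : nd 3353 = n5027 := ndS (p := 1508) (l := 2) rfl N1508 D5027
theorem N3354 : nd 3354 = n5028 := ndS (p := 1508) (l := 4) rfl N1508 D5028
theorem N3355 : nd 3355 = n5029 := ndS (p := 1508) (l := 5) rfl N1508 D5029
theorem N3356 : nd 3356 = n5030 := ndS (p := 1508) (l := 6) rfl N1508 D5030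
theorem N3357 : nd 3357 = n5034 := ndS (p := 1509) (l := 3) rfl N1509 D5034
theorem N3358 : nd 3358 = n5043 := ndS (p := 1512) (l := 1) rfl N1512 D5043
theorem N3359 : nd 3359 = n5044 := ndS (p := 1512) (l := 2) rfl N1512 D5044
theorem N3360 : nd 3360 = n5045 := ndS (p := 1512) (l := 4) rfl N1512 D5045
theorem N3361 : nd 3361 = n5046 := ndS (p := 1512) (l := 6) rfl N1512 D5046
theorem N3362 : nd 3362 = n5047 := ndS (p := 1513) (l := 3) rfl N1513 D5047
theorem N3363 : nd 3363 = n5061 := ndS (p := 1516) (l := 0) rfl N1516 D5061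
theorem N3364 : nd 3364 = n5067 := ndS (p := 1517) (l := 4) rfl N1517 D5067
theorem N3365 : nd 3365 = n5071 := ndS (p := 1518) (l := 3) rfl N1518 D5071
theorem N3366 : nd 3366 = n5073 := ndS (p := 1518) (l := 6) rfl N1518 D5073
theorem N3367 : nd 3367 = n5074 := ndS (p := 1519) (l := 3) rfl N1519 D5074
theorem N3368 : nd 3368 = n5075 := ndS (p := 1520) (l := 6) rfl N1520 D5075
theorem N3369 : nd 3369 = n5076 := ndS (p := 1521) (l := 0) rfl N1521 D5076
theorem N3370 : nd 3370 = n5077 := ndS (p := 1521) (l := 1) rfl N1521 D5077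
theorem N3371 : nd 3371 = n5078 := ndS (p := 1521) (l := 5) rfl N1521 D5078
theorem N3372 : nd 3372 = n5079 := ndS (p := 1521) (l := 7) rfl N1521 D5079
theorem N3373 : nd 3373 = n5080 := ndS (p := 1522) (l := 4) rfl N1522 D5080
theorem N3374 : nd 3374 = n5081 := ndS (p := 1522) (l := 5) rfl N1522 D5081
theorem N3375 : nd 3375 = n5082 := ndS (p := 1522) (l := 6) rfl N1522 D5082
theorem N3376 : nd 3376 = n5083 := ndS (p := 1523) (l := 0) rfl N1523 D5083
theorem N3377 : nd 3377 = n5084 := ndS (p := 1523) (l := 4) rfl N1523 D5084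
theorem N3378 : nd 3378 = n5085 := ndS (p := 1523) (l := 7) rfl N1523 D5085
theorem N3379 : nd 3379 = n5086 := ndS (p := 1525) (l := 4) rfl N1525 D5086
theorem N3380 : nd 3380 = n5087 := ndS (p := 1525) (l := 6) rfl N1525 D5087
theorem N3381 : nd 3381 = n5088 := ndS (p := 1526) (l := 4) rfl N1526 D5088
theorem N3382 : nd 3382 = n5089 := ndS (p := 1527) (l := 0) rfl N1527 D5089
theorem N3383 : nd 3383 = n5090 := ndS (p := 1527) (l := 3) rfl N1527 D5090
theorem N3384 : nd 3384 = n5091 := ndS (p := 1527) (l := 5) rfl N1527 D5091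
theorem N3385 : nd 3385 = n5092 := ndS (p := 1528) (l := 4) rfl N1528 D5092
theorem N3386 : nd 3386 = n5093 := ndS (p := 1528) (l := 6) rfl N1528 D5093
theorem N3387 : nd 3387 = n5094 := ndS (p := 1529) (l := 6) rfl N1529 D5094
theorem N3388 : nd 3388 = n5095 := ndS (p := 1530) (l := 6) rfl N1530 D5095
theorem N3389 : nd 3389 = n5096 := ndS (p := 1531) (l := 0) rfl N1531 D5096
theorem N3390 : nd 3390 = n5097 := ndS (p := 1531) (l := 1) rfl N1531 D5097
theorem N3391 : nd 3391 = n5098 := ndS (p := 1531) (l := 5) rfl N1531 D5098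
theorem N3392 : nd 3392 = n5099 := ndS (p := 1531) (l := 7) rfl N1531 D5099
theorem N3393 : nd 3393 = n5100 := ndS (p := 1532) (l := 0) rfl N1532 D5100
theorem N3394 : nd 3394 = n5101 := ndS (p := 1532) (l := 1) rfl N1532 D5101
theorem N3395 : nd 3395 = n5102 := ndS (p := 1532) (l := 4) rfl N1532 D5102
theorem N3396 : nd 3396 = n5103 := ndS (p := 1532) (l := 7) rfl N1532 D5103
theorem N3397 : nd 3397 = n5105 := ndS (p := 1534) (l := 4) rfl N1534 D5105
theorem N3398 : nd 3398 = n5106 := ndS (p := 1534) (l := 6) rfl N1534 D5106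
theorem N3399 : nd 3399 = n5108 := ndS (p := 1535) (l := 7) rfl N1535 D5108
theorem N3400 : nd 3400 = n5110 := ndS (p := 1536) (l := 5) rfl N1536 D5110
theorem N3401 : nd 3401 = n5111 := ndS (p := 1536) (l := 6) rfl N1536 D5111
theorem N3402 : nd 3402 = n5112 := ndS (p := 1537) (l := 4) rfl N1537 D5112
theorem N3403 : nd 3403 = n5114 := ndS (p := 1539) (l := 6) rfl N1539 D5114
theorem N3404 : nd 3404 = n5116 := ndS (p := 1540) (l := 3) rfl N1540 D5116
theorem N3405 : nd 3405 = n5117 := ndS (p := 1540) (l := 6) rfl N1540 D5117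
theorem N3406 : nd 3406 = n5118 := ndS (p := 1541) (l := 3) rfl N1541 D5118
theorem N3407 : nd 3407 = n5119 := ndS (p := 1541) (l := 5) rfl N1541 D5119
theorem N3408 : nd 3408 = n5120 := ndS (p := 1541) (l := 7) rfl N1541 D5120
theorem N3409 : nd 3409 = n5121 := ndS (p := 1543) (l := 0) rfl N1543 D5121
theorem N3410 : nd 3410 = n5122 := ndS (p := 1543) (l := 1) rfl N1543 D5122
theorem N3411 : nd 3411 = n5123 := ndS (p := 1543) (l := 2) rfl N1543 D5123
theorem N3412 : nd 3412 = n5124 := ndS (p := 1543) (l := 5) rfl N1543 D5124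
theorem N3413 : nd 3413 = n5125 := ndS (p := 1544) (l := 6) rfl N1544 D5125
theorem N3414 : nd 3414 = n5126 := ndS (p := 1545) (l := 0) rfl N1545 D5126
theorem N3415 : nd 3415 = n5128 := ndS (p := 1545) (l := 5) rfl N1545 D5128
theorem N3416 : nd 3416 = n5129 := ndS (p := 1545) (l := 7) rfl N1545 D5129
theorem N3417 : nd 3417 = n5133 := ndS (p := 1546) (l := 5) rfl N1546 D5133
theorem N3418 : nd 3418 = n5134 := ndS (p := 1546) (l := 6) rfl N1546 D5134
theorem N3419 : nd 3419 = n5140 := ndS (p := 1547) (l := 0) rfl N1547 D5140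
theorem N3420 : nd 3420 = n5142 := ndS (p := 1547) (l := 4) rfl N1547 D5142
theorem N3421 : nd 3421 = n5143 := ndS (p := 1547) (l := 7) rfl N1547 D5143
theorem N3422 : nd 3422 = n5144 := ndS (p := 1550) (l := 3) rfl N1550 D5144
theorem N3423 : nd 3423 = n5145 := ndS (p := 1550) (l := 5) rfl N1550 D5145
theorem N3424 : nd 3424 = n5148 := ndS (p := 1551) (l := 5) rfl N1551 D5148
theorem N3425 : nd 3425 = n5149 := ndS (p := 1551) (l := 7) rfl N1551 D5149
theorem N3426 : nd 3426 = n5158 := ndS (p := 1552) (l := 5) rfl N1552 D5158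
theorem N3427 : nd 3427 = n5159 := ndS (p := 1552) (l := 6) rfl N1552 D5159
theorem N3428 : nd 3428 = n5161 := ndS (p := 1553) (l := 1) rfl N1553 D5161
theorem N3429 : nd 3429 = n5162 := ndS (p := 1553) (l := 4) rfl N1553 D5162
theorem N3430 : nd 3430 = n5163 := ndS (p := 1553) (l := 7) rfl N1553 D5163
theorem N3431 : nd 3431 = n5164 := ndS (p := 1555) (l := 4) rfl N1555 D5164
theorem N3432 : nd 3432 = n5165 := ndS (p := 1555) (l := 6) rfl N1555 D5165
theorem N3433 : nd 3433 = n5166 := ndS (p := 1556) (l := 6) rfl N1556 D5166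
theorem N3434 : nd 3434 = n5167 := ndS (p := 1557) (l := 3) rfl N1557 D5167
theorem N3435 : nd 3435 = n5168 := ndS (p := 1557) (l := 5) rfl N1557 D5168
theorem N3436 : nd 3436 = n5169 := ndS (p := 1557) (l := 7) rfl N1557 D5169
theorem N3437 : nd 3437 = n5170 := ndS (p := 1558) (l := 6) rfl N1558 D5170
theorem N3438 : nd 3438 = n5171 := ndS (p := 1559) (l := 6) rfl N1559 D5171
theorem N3439 : nd 3439 = n5172 := ndS (p := 1560) (l := 6) rfl N1560 D5172
theorem N3440 : nd 3440 = n5174 := ndS (p := 1561) (l := 5) rfl N1561 D5174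
theorem N3441 : nd 3441 = n5175 := ndS (p := 1561) (l := 7) rfl N1561 D5175
theorem N3442 : nd 3442 = n5179 := ndS (p := 1562) (l := 5) rfl N1562 D5179
theorem N3443 : nd 3443 = n5180 := ndS (p := 1562) (l := 6) rfl N1562 D5180
theorem N3444 : nd 3444 = n5184 := ndS (p := 1563) (l := 5) rfl N1563 D5184
theorem N3445 : nd 3445 = n5185 := ndS (p := 1563) (l := 6) rfl N1563 D5185
theorem N3446 : nd 3446 = n5188 := ndS (p := 1565) (l := 4) rfl N1565 D5188
theorem N3447 : nd 3447 = n5189 := ndS (p := 1565) (l := 5) rfl N1565 D5189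
theorem N3448 : nd 3448 = n5190 := ndS (p := 1565) (l := 6) rfl N1565 D5190
theorem N3449 : nd 3449 = n5193 := ndS (p := 1566) (l := 4) rfl N1566 D5193
theorem N3450 : nd 3450 = n5194 := ndS (p := 1566) (l := 5) rfl N1566 D5194
theorem N3451 : nd 3451 = n5195 := ndS (p := 1566) (l := 6) rfl N1566 D5195
theorem N3452 : nd 3452 = n5196 := ndS (p := 1567) (l := 0) rfl N1567 D5196
theorem N3453 : nd 3453 = n5197 := ndS (p := 1567) (l := 1) rfl N1567 D5197
theorem N3454 : nd 3454 = n5198 := ndS (p := 1567) (l := 4) rfl N1567 D5198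
theorem N3455 : nd 3455 = n5199 := ndS (p := 1567) (l := 7) rfl N1567 D5199
theorem N3456 : nd 3456 = n5200 := ndS (p := 1569) (l := 0) rfl N1569 D5200
theorem N3457 : nd 3457 = n5201 := ndS (p := 1569) (l := 1) rfl N1569 D5201
theorem N3458 : nd 3458 = n5202 := ndS (p := 1569) (l := 5) rfl N1569 D5202
theorem N3459 : nd 3459 = n5203 := ndS (p := 1569) (l := 7) rfl N1569 D5203
theorem N3460 : nd 3460 = n5206 := ndS (p := 1570) (l := 4) rfl N1570 D5206
theorem N3461 : nd 3461 = n5207 := ndS (p := 1570) (l := 5) rfl N1570 D5207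
theorem N3462 : nd 3462 = n5208 := ndS (p := 1570) (l := 6) rfl N1570 D5208
theorem N3463 : nd 3463 = n5211 := ndS (p := 1571) (l := 4) rfl N1571 D5211
theorem N3464 : nd 3464 = n5212 := ndS (p := 1571) (l := 5) rfl N1571 D5212
theorem N3465 : nd 3465 = n5213 := ndS (p := 1571) (l := 6) rfl N1571 D5213
theorem N3466 : nd 3466 = n5214 := ndS (p := 1572) (l := 0) rfl N1572 D5214
theorem N3467 : nd 3467 = n5215 := ndS (p := 1572) (l := 1) rfl N1572 D5215
theorem N3468 : nd 3468 = n5216 := ndS (p := 1572) (l := 4) rfl N1572 D5216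
theorem N3469 : nd 3469 = n5217 := ndS (p := 1572) (l := 7) rfl N1572 D5217
theorem N3470 : nd 3470 = n5220 := ndS (p := 1574) (l := 5) rfl N1574 D5220
theorem N3471 : nd 3471 = n5221 := ndS (p := 1574) (l := 7) rfl N1574 D5221
theorem N3472 : nd 3472 = n5222 := ndS (p := 1575) (l := 6) rfl N1575 D5222
theorem N3473 : nd 3473 = n5225 := ndS (p := 1576) (l := 5) rfl N1576 D5225
theorem N3474 : nd 3474 = n5226 := ndS (p := 1576) (l := 7) rfl N1576 D5226
theorem N3475 : nd 3475 = n5227 := ndS (p := 1577) (l := 0) rfl N1577 D5227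
theorem N3476 : nd 3476 = n5229 := ndS (p := 1577) (l := 5) rfl N1577 D5229
theorem N3477 : nd 3477 = n5230 := ndS (p := 1577) (l := 7) rfl N1577 D5230
theorem N3478 : nd 3478 = n5231 := ndS (p := 1578) (l := 0) rfl N1578 D5231
theorem N3479 : nd 3479 = n5232 := ndS (p := 1578) (l := 1) rfl N1578 D5232
theorem N3480 : nd 3480 = n5233 := ndS (p := 1578) (l := 5) rfl N1578 D5233
theorem N3481 : nd 3481 = n5234 := ndS (p := 1578) (l := 7) rfl N1578 D5234
theorem N3482 : nd 3482 = n5235 := ndS (p := 1579) (l := 3) rfl N1579 D5235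
theorem N3483 : nd 3483 = n5236 := ndS (p := 1579) (l := 5) rfl N1579 D5236
theorem N3484 : nd 3484 = n5237 := ndS (p := 1579) (l := 6) rfl N1579 D5237
theorem N3485 : nd 3485 = n5238 := ndS (p := 1580) (l := 3) rfl N1580 D5238
theorem N3486 : nd 3486 = n5239 := ndS (p := 1580) (l := 5) rfl N1580 D5239
theorem N3487 : nd 3487 = n5240 := ndS (p := 1580) (l := 6) rfl N1580 D5240
theorem N3488 : nd 3488 = n5241 := ndS (p := 1581) (l := 0) rfl N1581 D5241
theorem N3489 : nd 3489 = n5242 := ndS (p := 1581) (l := 1) rfl N1581 D5242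
theorem N3490 : nd 3490 = n5243 := ndS (p := 1581) (l := 4) rfl N1581 D5243
theorem N3491 : nd 3491 = n5244 := ndS (p := 1581) (l := 7) rfl N1581 D5244
theorem N3492 : nd 3492 = n5260 := ndS (p := 1583) (l := 5) rfl N1583 D5260
theorem N3493 : nd 3493 = n5261 := ndS (p := 1583) (l := 6) rfl N1583 D5261
theorem N3494 : nd 3494 = n5263 := ndS (p := 1584) (l := 0) rfl N1584 D5263
theorem N3495 : nd 3495 = n5265 := ndS (p := 1584) (l := 4) rfl N1584 D5265
theorem N3496 : nd 3496 = n5266 := ndS (p := 1584) (l := 6) rfl N1584 D5266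
theorem N3497 : nd 3497 = n5269 := ndS (p := 1585) (l := 1) rfl N1585 D5269
theorem N3498 : nd 3498 = n5270 := ndS (p := 1585) (l := 5) rfl N1585 D5270
theorem N3499 : nd 3499 = n5271 := ndS (p := 1585) (l := 7) rfl N1585 D5271
theorem N3500 : nd 3500 = n5279 := ndS (p := 1586) (l := 3) rfl N1586 D5279
theorem N3501 : nd 3501 = n5280 := ndS (p := 1586) (l := 5) rfl N1586 D5280
theorem N3502 : nd 3502 = n5281 := ndS (p := 1586) (l := 6) rfl N1586 D5281
theorem N3503 : nd 3503 = n5282 := ndS (p := 1587) (l := 4) rfl N1587 D5282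
theorem N3504 : nd 3504 = n5283 := ndS (p := 1588) (l := 0) rfl N1588 D5283
theorem N3505 : nd 3505 = n5285 := ndS (p := 1588) (l := 5) rfl N1588 D5285
theorem N3506 : nd 3506 = n5286 := ndS (p := 1588) (l := 7) rfl N1588 D5286
theorem N3507 : nd 3507 = n5290 := ndS (p := 1589) (l := 5) rfl N1589 D5290
theorem N3508 : nd 3508 = n5291 := ndS (p := 1589) (l := 6) rfl N1589 D5291
theorem N3509 : nd 3509 = n5293 := ndS (p := 1590) (l := 5) rfl N1590 D5293
theorem N3510 : nd 3510 = n5294 := ndS (p := 1590) (l := 6) rfl N1590 D5294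
theorem N3511 : nd 3511 = n5295 := ndS (p := 1591) (l := 0) rfl N1591 D5295
theorem N3512 : nd 3512 = n5296 := ndS (p := 1591) (l := 1) rfl N1591 D5296
theorem N3513 : nd 3513 = n5297 := ndS (p := 1591) (l := 4) rfl N1591 D5297
theorem N3514 : nd 3514 = n5298 := ndS (p := 1591) (l := 7) rfl N1591 D5298
theorem N3515 : nd 3515 = n5299 := ndS (p := 1593) (l := 3) rfl N1593 D5299
theorem N3516 : nd 3516 = n5300 := ndS (p := 1593) (l := 4) rfl N1593 D5300
theorem N3517 : nd 3517 = n5301 := ndS (p := 1593) (l := 6) rfl N1593 D5301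
theorem N3518 : nd 3518 = n5302 := ndS (p := 1594) (l := 6) rfl N1594 D5302
theorem N3519 : nd 3519 = n5303 := ndS (p := 1595) (l := 6) rfl N1595 D5303
theorem N3520 : nd 3520 = n5304 := ndS (p := 1596) (l := 0) rfl N1596 D5304
theorem N3521 : nd 3521 = n5305 := ndS (p := 1596) (l := 1) rfl N1596 D5305
theorem N3522 : nd 3522 = n5306 := ndS (p := 1596) (l := 5) rfl N1596 D5306
theorem N3523 : nd 3523 = n5307 := ndS (p := 1596) (l := 7) rfl N1596 D5307
theorem N3524 : nd 3524 = n5308 := ndS (p := 1597) (l := 0) rfl N1597 D5308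
theorem N3525 : nd 3525 = n5309 := ndS (p := 1597) (l := 1) rfl N1597 D5309
theorem N3526 : nd 3526 = n5310 := ndS (p := 1597) (l := 4) rfl N1597 D5310
theorem N3527 : nd 3527 = n5311 := ndS (p := 1597) (l := 7) rfl N1597 D5311
theorem N3528 : nd 3528 = n5313 := ndS (p := 1599) (l := 5) rfl N1599 D5313
theorem N3529 : nd 3529 = n5314 := ndS (p := 1599) (l := 6) rfl N1599 D5314
theorem N3530 : nd 3530 = n5315 := ndS (p := 1600) (l := 0) rfl N1600 D5315
theorem N3531 : nd 3531 = n5316 := ndS (p := 1600) (l := 1) rfl N1600 D5316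
theorem N3532 : nd 3532 = n5317 := ndS (p := 1600) (l := 4) rfl N1600 D5317
theorem N3533 : nd 3533 = n5318 := ndS (p := 1600) (l := 6) rfl N1600 D5318
theorem N3534 : nd 3534 = n5325 := ndS (p := 1602) (l := 4) rfl N1602 D5325
theorem N3535 : nd 3535 = n5326 := ndS (p := 1603) (l := 5) rfl N1603 D5326
theorem N3536 : nd 3536 = n5327 := ndS (p := 1604) (l := 3) rfl N1604 D5327
theorem N3537 : nd 3537 = n5328 := ndS (p := 1604) (l := 4) rfl N1604 D5328
theorem N3538 : nd 3538 = n5330 := ndS (p := 1605) (l := 4) rfl N1605 D5330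
theorem N3539 : nd 3539 = n5331 := ndS (p := 1605) (l := 6) rfl N1605 D5331
theorem N3540 : nd 3540 = n5332 := ndS (p := 1606) (l := 3) rfl N1606 D5332
theorem N3541 : nd 3541 = n5333 := ndS (p := 1606) (l := 5) rfl N1606 D5333
theorem N3542 : nd 3542 = n5334 := ndS (p := 1606) (l := 7) rfl N1606 D5334
theorem N3543 : nd 3543 = n5335 := ndS (p := 1608) (l := 3) rfl N1608 D5335
theorem N3544 : nd 3544 = n5336 := ndS (p := 1608) (l := 4) rfl N1608 D5336
theorem N3545 : nd 3545 = n5337 := ndS (p := 1608) (l := 6) rfl N1608 D5337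
theorem N3546 : nd 3546 = n5338 := ndS (p := 1609) (l := 6) rfl N1609 D5338
theorem N3547 : nd 3547 = n5339 := ndS (p := 1610) (l := 6) rfl N1610 D5339
theorem N3548 : nd 3548 = n5340 := ndS (p := 1611) (l := 0) rfl N1611 D5340
theorem N3549 : nd 3549 = n5341 := ndS (p := 1611) (l := 1) rfl N1611 D5341
theorem N3550 : nd 3550 = n5342 := ndS (p := 1611) (l := 5) rfl N1611 D5342
theorem N3551 : nd 3551 = n5343 := ndS (p := 1611) (l := 7) rfl N1611 D5343
theorem N3552 : nd 3552 = n5344 := ndS (p := 1612) (l := 3) rfl N1612 D5344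
theorem N3553 : nd 3553 = n5345 := ndS (p := 1612) (l := 5) rfl N1612 D5345
theorem N3554 : nd 3554 = n5346 := ndS (p := 1613) (l := 3) rfl N1613 D5346
theorem N3555 : nd 3555 = n5347 := ndS (p := 1613) (l := 5) rfl N1613 D5347
theorem N3556 : nd 3556 = n5348 := ndS (p := 1613) (l := 6) rfl N1613 D5348
theorem N3557 : nd 3557 = n5349 := ndS (p := 1614) (l := 0) rfl N1614 D5349
theorem N3558 : nd 3558 = n5350 := ndS (p := 1614) (l := 4) rfl N1614 D5350
theorem N3559 : nd 3559 = n5351 := ndS (p := 1614) (l := 7) rfl N1614 D5351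
theorem N3560 : nd 3560 = n5356 := ndS (p := 1616) (l := 0) rfl N1616 D5356
theorem N3561 : nd 3561 = n5357 := ndS (p := 1616) (l := 1) rfl N1616 D5357
theorem N3562 : nd 3562 = n5358 := ndS (p := 1616) (l := 4) rfl N1616 D5358
theorem N3563 : nd 3563 = n5359 := ndS (p := 1616) (l := 6) rfl N1616 D5359
theorem N3564 : nd 3564 = n5360 := ndS (p := 1618) (l := 4) rfl N1618 D5360
theorem N3565 : nd 3565 = n5361 := ndS (p := 1619) (l := 5) rfl N1619 D5361
theorem N3566 : nd 3566 = n5363 := ndS (p := 1621) (l := 6) rfl N1621 D5363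
theorem N3567 : nd 3567 = n5364 := ndS (p := 1622) (l := 3) rfl N1622 D5364
theorem N3568 : nd 3568 = n5365 := ndS (p := 1622) (l := 5) rfl N1622 D5365
theorem N3569 : nd 3569 = n5366 := ndS (p := 1622) (l := 7) rfl N1622 D5366
theorem N3570 : nd 3570 = n5367 := ndS (p := 1623) (l := 6) rfl N1623 D5367
theorem N3571 : nd 3571 = n5368 := ndS (p := 1624) (l := 0) rfl N1624 D5368
theorem N3572 : nd 3572 = n5369 := ndS (p := 1624) (l := 6) rfl N1624 D5369
theorem N3573 : nd 3573 = n5370 := ndS (p := 1625) (l := 0) rfl N1625 D5370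
theorem N3574 : nd 3574 = n5372 := ndS (p := 1625) (l := 5) rfl N1625 D5372
theorem N3575 : nd 3575 = n5373 := ndS (p := 1625) (l := 7) rfl N1625 D5373
theorem N3576 : nd 3576 = n5374 := ndS (p := 1626) (l := 6) rfl N1626 D5374
theorem N3577 : nd 3577 = n5375 := ndS (p := 1627) (l := 6) rfl N1627 D5375
theorem N3578 : nd 3578 = n5377 := ndS (p := 1628) (l := 1) rfl N1628 D5377
theorem N3579 : nd 3579 = n5378 := ndS (p := 1628) (l := 5) rfl N1628 D5378
theorem N3580 : nd 3580 = n5379 := ndS (p := 1628) (l := 7) rfl N1628 D5379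
theorem N3581 : nd 3581 = n5380 := ndS (p := 1629) (l := 0) rfl N1629 D5380
theorem N3582 : nd 3582 = n5381 := ndS (p := 1629) (l := 1) rfl N1629 D5381
theorem N3583 : nd 3583 = n5382 := ndS (p := 1629) (l := 5) rfl N1629 D5382
theorem N3584 : nd 3584 = n5383 := ndS (p := 1629) (l := 7) rfl N1629 D5383
theorem N3585 : nd 3585 = n5385 := ndS (p := 1630) (l := 3) rfl N1630 D5385
theorem N3586 : nd 3586 = n5386 := ndS (p := 1630) (l := 4) rfl N1630 D5386
theorem N3587 : nd 3587 = n5387 := ndS (p := 1630) (l := 5) rfl N1630 D5387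
theorem N3588 : nd 3588 = n5388 := ndS (p := 1630) (l := 6) rfl N1630 D5388
theorem N3589 : nd 3589 = n5390 := ndS (p := 1631) (l := 3) rfl N1631 D5390
theorem N3590 : nd 3590 = n5391 := ndS (p := 1631) (l := 4) rfl N1631 D5391
theorem N3591 : nd 3591 = n5392 := ndS (p := 1631) (l := 5) rfl N1631 D5392
theorem N3592 : nd 3592 = n5393 := ndS (p := 1631) (l := 6) rfl N1631 D5393
theorem N3593 : nd 3593 = n5394 := ndS (p := 1632) (l := 0) rfl N1632 D5394
theorem N3594 : nd 3594 = n5395 := ndS (p := 1632) (l := 1) rfl N1632 D5395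
theorem N3595 : nd 3595 = n5396 := ndS (p := 1632) (l := 4) rfl N1632 D5396
theorem N3596 : nd 3596 = n5397 := ndS (p := 1632) (l := 7) rfl N1632 D5397
theorem N3597 : nd 3597 = n5398 := ndS (p := 1634) (l := 0) rfl N1634 D5398
theorem N3598 : nd 3598 = n5400 := ndS (p := 1634) (l := 2) rfl N1634 D5400
theorem N3599 : nd 3599 = n5401 := ndS (p := 1634) (l := 4) rfl N1634 D5401
theorem N3600 : nd 3600 = n5402 := ndS (p := 1634) (l := 5) rfl N1634 D5402
theorem N3601 : nd 3601 = n5403 := ndS (p := 1634) (l := 6) rfl N1634 D5403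
theorem N3602 : nd 3602 = n5404 := ndS (p := 1635) (l := 1) rfl N1635 D5404
theorem N3603 : nd 3603 = n5405 := ndS (p := 1635) (l := 4) rfl N1635 D5405
theorem N3604 : nd 3604 = n5406 := ndS (p := 1635) (l := 6) rfl N1635 D5406
theorem N3605 : nd 3605 = n5408 := ndS (p := 1636) (l := 1) rfl N1636 D5408
theorem N3606 : nd 3606 = n5409 := ndS (p := 1636) (l := 7) rfl N1636 D5409
theorem N3607 : nd 3607 = n5411 := ndS (p := 1637) (l := 1) rfl N1637 D5411
theorem N3608 : nd 3608 = n5412 := ndS (p := 1637) (l := 2) rfl N1637 D5412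
theorem N3609 : nd 3609 = n5414 := ndS (p := 1637) (l := 5) rfl N1637 D5414
theorem N3610 : nd 3610 = n5415 := ndS (p := 1637) (l := 6) rfl N1637 D5415
theorem N3611 : nd 3611 = n5416 := ndS (p := 1638) (l := 4) rfl N1638 D5416
theorem N3612 : nd 3612 = n5417 := ndS (p := 1638) (l := 6) rfl N1638 D5417
theorem N3613 : nd 3613 = n5419 := ndS (p := 1639) (l := 5) rfl N1639 D5419
theorem N3614 : nd 3614 = n5420 := ndS (p := 1639) (l := 7) rfl N1639 D5420
theorem N3615 : nd 3615 = n5421 := ndS (p := 1640) (l := 3) rfl N1640 D5421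
theorem N3616 : nd 3616 = n5422 := ndS (p := 1640) (l := 4) rfl N1640 D5422
theorem N3617 : nd 3617 = n5423 := ndS (p := 1640) (l := 6) rfl N1640 D5423
theorem N3618 : nd 3618 = n5424 := ndS (p := 1641) (l := 3) rfl N1641 D5424
theorem N3619 : nd 3619 = n5425 := ndS (p := 1641) (l := 4) rfl N1641 D5425
theorem N3620 : nd 3620 = n5426 := ndS (p := 1641) (l := 6) rfl N1641 D5426
theorem N3621 : nd 3621 = n5427 := ndS (p := 1642) (l := 0) rfl N1642 D5427
theorem N3622 : nd 3622 = n5428 := ndS (p := 1642) (l := 1) rfl N1642 D5428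
theorem N3623 : nd 3623 = n5429 := ndS (p := 1642) (l := 3) rfl N1642 D5429
theorem N3624 : nd 3624 = n5430 := ndS (p := 1642) (l := 5) rfl N1642 D5430
theorem N3625 : nd 3625 = n5431 := ndS (p := 1642) (l := 7) rfl N1642 D5431
theorem N3626 : nd 3626 = n5432 := ndS (p := 1643) (l := 6) rfl N1643 D5432
theorem N3627 : nd 3627 = n5442 := ndS (p := 1645) (l := 0) rfl N1645 D5442
theorem N3628 : nd 3628 = n5444 := ndS (p := 1645) (l := 4) rfl N1645 D5444
theorem N3629 : nd 3629 = n5445 := ndS (p := 1645) (l := 6) rfl N1645 D5445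
theorem N3630 : nd 3630 = n5446 := ndS (p := 1646) (l := 0) rfl N1646 D5446
theorem N3631 : nd 3631 = n5447 := ndS (p := 1646) (l := 1) rfl N1646 D5447
theorem N3632 : nd 3632 = n5448 := ndS (p := 1646) (l := 5) rfl N1646 D5448
theorem N3633 : nd 3633 = n5449 := ndS (p := 1646) (l := 7) rfl N1646 D5449
theorem N3634 : nd 3634 = n5450 := ndS (p := 1647) (l := 0) rfl N1647 D5450
theorem N3635 : nd 3635 = n5452 := ndS (p := 1647) (l := 2) rfl N1647 D5452
theorem N3636 : nd 3636 = n5453 := ndS (p := 1647) (l := 5) rfl N1647 D5453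
theorem N3637 : nd 3637 = n5454 := ndS (p := 1647) (l := 6) rfl N1647 D5454
theorem N3638 : nd 3638 = n5455 := ndS (p := 1648) (l := 0) rfl N1648 D5455
theorem N3639 : nd 3639 = n5456 := ndS (p := 1648) (l := 1) rfl N1648 D5456
theorem N3640 : nd 3640 = n5457 := ndS (p := 1648) (l := 4) rfl N1648 D5457
theorem N3641 : nd 3641 = n5458 := ndS (p := 1648) (l := 6) rfl N1648 D5458
theorem N3642 : nd 3642 = n5460 := ndS (p := 1649) (l := 1) rfl N1649 D5460
theorem N3643 : nd 3643 = n5461 := ndS (p := 1649) (l := 7) rfl N1649 D5461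
theorem N3644 : nd 3644 = n5462 := ndS (p := 1650) (l := 3) rfl N1650 D5462
theorem N3645 : nd 3645 = n5463 := ndS (p := 1651) (l := 0) rfl N1651 D5463
theorem N3646 : nd 3646 = n5464 := ndS (p := 1651) (l := 3) rfl N1651 D5464
theorem N3647 : nd 3647 = n5466 := ndS (p := 1653) (l := 5) rfl N1653 D5466
theorem N3648 : nd 3648 = n5493 := ndS (p := 1656) (l := 1) rfl N1656 D5493
theorem N3649 : nd 3649 = n5494 := ndS (p := 1656) (l := 2) rfl N1656 D5494
theorem N3650 : nd 3650 = n5495 := ndS (p := 1656) (l := 5) rfl N1656 D5495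
theorem N3651 : nd 3651 = n5496 := ndS (p := 1656) (l := 6) rfl N1656 D5496
theorem N3652 : nd 3652 = n5497 := ndS (p := 1657) (l := 4) rfl N1657 D5497
theorem N3653 : nd 3653 = n5498 := ndS (p := 1657) (l := 6) rfl N1657 D5498
theorem N3654 : nd 3654 = n5499 := ndS (p := 1658) (l := 0) rfl N1658 D5499
theorem N3655 : nd 3655 = n5500 := ndS (p := 1658) (l := 7) rfl N1658 D5500
theorem N3656 : nd 3656 = n5501 := ndS (p := 1659) (l := 3) rfl N1659 D5501
theorem N3657 : nd 3657 = n5503 := ndS (p := 1663) (l := 2) rfl N1663 D5503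
theorem N3658 : nd 3658 = n5504 := ndS (p := 1663) (l := 6) rfl N1663 D5504
theorem N3659 : nd 3659 = n5507 := ndS (p := 1664) (l := 5) rfl N1664 D5507
theorem N3660 : nd 3660 = n5509 := ndS (p := 1665) (l := 5) rfl N1665 D5509
theorem N3661 : nd 3661 = n5511 := ndS (p := 1666) (l := 1) rfl N1666 D5511
theorem N3662 : nd 3662 = n5512 := ndS (p := 1666) (l := 4) rfl N1666 D5512
theorem N3663 : nd 3663 = n5513 := ndS (p := 1666) (l := 7) rfl N1666 D5513
theorem N3664 : nd 3664 = n5514 := ndS (p := 1668) (l := 4) rfl N1668 D5514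
theorem N3665 : nd 3665 = n5515 := ndS (p := 1668) (l := 6) rfl N1668 D5515
theorem N3666 : nd 3666 = n5516 := ndS (p := 1669) (l := 3) rfl N1669 D5516
theorem N3667 : nd 3667 = n5517 := ndS (p := 1669) (l := 6) rfl N1669 D5517
theorem N3668 : nd 3668 = n5518 := ndS (p := 1670) (l := 6) rfl N1670 D5518
theorem N3669 : nd 3669 = n5519 := ndS (p := 1671) (l := 6) rfl N1671 D5519
theorem N3670 : nd 3670 = n5520 := ndS (p := 1672) (l := 0) rfl N1672 D5520
theorem N3671 : nd 3671 = n5521 := ndS (p := 1672) (l := 1) rfl N1672 D5521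
theorem N3672 : nd 3672 = n5522 := ndS (p := 1672) (l := 5) rfl N1672 D5522
theorem N3673 : nd 3673 = n5523 := ndS (p := 1672) (l := 7) rfl N1672 D5523
theorem N3674 : nd 3674 = n5524 := ndS (p := 1673) (l := 0) rfl N1673 D5524
theorem N3675 : nd 3675 = n5526 := ndS (p := 1673) (l := 5) rfl N1673 D5526
theorem N3676 : nd 3676 = n5527 := ndS (p := 1673) (l := 7) rfl N1673 D5527
theorem N3677 : nd 3677 = n5531 := ndS (p := 1674) (l := 5) rfl N1674 D5531
theorem N3678 : nd 3678 = n5532 := ndS (p := 1674) (l := 6) rfl N1674 D5532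
theorem N3679 : nd 3679 = n5537 := ndS (p := 1675) (l := 0) rfl N1675 D5537
theorem N3680 : nd 3680 = n5538 := ndS (p := 1675) (l := 1) rfl N1675 D5538
theorem N3681 : nd 3681 = n5539 := ndS (p := 1675) (l := 4) rfl N1675 D5539
theorem N3682 : nd 3682 = n5540 := ndS (p := 1675) (l := 7) rfl N1675 D5540
theorem N3683 : nd 3683 = n5544 := ndS (p := 1677) (l := 4) rfl N1677 D5544
theorem N3684 : nd 3684 = n5545 := ndS (p := 1678) (l := 0) rfl N1678 D5545
theorem N3685 : nd 3685 = n5548 := ndS (p := 1678) (l := 7) rfl N1678 D5548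
theorem N3686 : nd 3686 = n5549 := ndS (p := 1679) (l := 0) rfl N1679 D5549
theorem N3687 : nd 3687 = n5551 := ndS (p := 1679) (l := 5) rfl N1679 D5551
theorem N3688 : nd 3688 = n5552 := ndS (p := 1679) (l := 7) rfl N1679 D5552
theorem N3689 : nd 3689 = n5553 := ndS (p := 1680) (l := 4) rfl N1680 D5553
theorem N3690 : nd 3690 = n5554 := ndS (p := 1680) (l := 6) rfl N1680 D5554
theorem N3691 : nd 3691 = n5556 := ndS (p := 1681) (l := 1) rfl N1681 D5556
theorem N3692 : nd 3692 = n5557 := ndS (p := 1681) (l := 5) rfl N1681 D5557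
theorem N3693 : nd 3693 = n5558 := ndS (p := 1681) (l := 7) rfl N1681 D5558
theorem N3694 : nd 3694 = n5559 := ndS (p := 1682) (l := 0) rfl N1682 D5559
theorem N3695 : nd 3695 = n5560 := ndS (p := 1682) (l := 1) rfl N1682 D5560
theorem N3696 : nd 3696 = n5561 := ndS (p := 1682) (l := 5) rfl N1682 D5561
theorem N3697 : nd 3697 = n5562 := ndS (p := 1682) (l := 7) rfl N1682 D5562
theorem N3698 : nd 3698 = n5565 := ndS (p := 1683) (l := 5) rfl N1683 D5565
theorem N3699 : nd 3699 = n5566 := ndS (p := 1683) (l := 6) rfl N1683 D5566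
theorem N3700 : nd 3700 = n5568 := ndS (p := 1684) (l := 3) rfl N1684 D5568
theorem N3701 : nd 3701 = n5569 := ndS (p := 1684) (l := 4) rfl N1684 D5569
theorem N3702 : nd 3702 = n5570 := ndS (p := 1684) (l := 5) rfl N1684 D5570
theorem N3703 : nd 3703 = n5571 := ndS (p := 1684) (l := 6) rfl N1684 D5571
theorem N3704 : nd 3704 = n5572 := ndS (p := 1685) (l := 0) rfl N1685 D5572
theorem N3705 : nd 3705 = n5573 := ndS (p := 1685) (l := 1) rfl N1685 D5573
theorem N3706 : nd 3706 = n5574 := ndS (p := 1685) (l := 4) rfl N1685 D5574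
theorem N3707 : nd 3707 = n5575 := ndS (p := 1685) (l := 7) rfl N1685 D5575
theorem N3708 : nd 3708 = n5576 := ndS (p := 1687) (l := 0) rfl N1687 D5576
theorem N3709 : nd 3709 = n5578 := ndS (p := 1687) (l := 2) rfl N1687 D5578
theorem N3710 : nd 3710 = n5580 := ndS (p := 1687) (l := 5) rfl N1687 D5580
theorem N3711 : nd 3711 = n5581 := ndS (p := 1687) (l := 6) rfl N1687 D5581
theorem N3712 : nd 3712 = n5582 := ndS (p := 1688) (l := 0) rfl N1688 D5582
theorem N3713 : nd 3713 = n5583 := ndS (p := 1688) (l := 1) rfl N1688 D5583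
theorem N3714 : nd 3714 = n5584 := ndS (p := 1688) (l := 4) rfl N1688 D5584
theorem N3715 : nd 3715 = n5585 := ndS (p := 1688) (l := 6) rfl N1688 D5585
theorem N3716 : nd 3716 = n5587 := ndS (p := 1689) (l := 1) rfl N1689 D5587
theorem N3717 : nd 3717 = n5588 := ndS (p := 1689) (l := 7) rfl N1689 D5588
theorem N3718 : nd 3718 = n5590 := ndS (p := 1690) (l := 1) rfl N1690 D5590
theorem N3719 : nd 3719 = n5591 := ndS (p := 1690) (l := 2) rfl N1690 D5591
theorem N3720 : nd 3720 = n5592 := ndS (p := 1690) (l := 5) rfl N1690 D5592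
theorem N3721 : nd 3721 = n5593 := ndS (p := 1690) (l := 6) rfl N1690 D5593
theorem N3722 : nd 3722 = n5594 := ndS (p := 1691) (l := 4) rfl N1691 D5594
theorem N3723 : nd 3723 = n5595 := ndS (p := 1691) (l := 6) rfl N1691 D5595
theorem N3724 : nd 3724 = n5596 := ndS (p := 1692) (l := 0) rfl N1692 D5596
theorem N3725 : nd 3725 = n5597 := ndS (p := 1692) (l := 7) rfl N1692 D5597
theorem N3726 : nd 3726 = n5598 := ndS (p := 1693) (l := 3) rfl N1693 D5598
theorem N3727 : nd 3727 = n5599 := ndS (p := 1693) (l := 4) rfl N1693 D5599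
theorem N3728 : nd 3728 = n5600 := ndS (p := 1693) (l := 6) rfl N1693 D5600
theorem N3729 : nd 3729 = n5601 := ndS (p := 1694) (l := 3) rfl N1694 D5601
theorem N3730 : nd 3730 = n5602 := ndS (p := 1694) (l := 4) rfl N1694 D5602
theorem N3731 : nd 3731 = n5603 := ndS (p := 1694) (l := 6) rfl N1694 D5603
theorem N3732 : nd 3732 = n5604 := ndS (p := 1695) (l := 0) rfl N1695 D5604
theorem N3733 : nd 3733 = n5605 := ndS (p := 1695) (l := 1) rfl N1695 D5605
theorem N3734 : nd 3734 = n5606 := ndS (p := 1695) (l := 3) rfl N1695 D5606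
theorem N3735 : nd 3735 = n5607 := ndS (p := 1696) (l := 6) rfl N1696 D5607
theorem N3736 : nd 3736 = n5634 := ndS (p := 1697) (l := 0) rfl N1697 D5634
theorem N3737 : nd 3737 = n5636 := ndS (p := 1697) (l := 2) rfl N1697 D5636
theorem N3738 : nd 3738 = n5637 := ndS (p := 1697) (l := 5) rfl N1697 D5637
theorem N3739 : nd 3739 = n5638 := ndS (p := 1697) (l := 6) rfl N1697 D5638
theorem N3740 : nd 3740 = n5639 := ndS (p := 1698) (l := 1) rfl N1698 D5639
theorem N3741 : nd 3741 = n5640 := ndS (p := 1698) (l := 4) rfl N1698 D5640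
theorem N3742 : nd 3742 = n5641 := ndS (p := 1698) (l := 6) rfl N1698 D5641
theorem N3743 : nd 3743 = n5643 := ndS (p := 1699) (l := 1) rfl N1699 D5643
theorem N3744 : nd 3744 = n5644 := ndS (p := 1699) (l := 7) rfl N1699 D5644
theorem N3745 : nd 3745 = n5645 := ndS (p := 1700) (l := 3) rfl N1700 D5645
theorem N3746 : nd 3746 = n5646 := ndS (p := 1700) (l := 4) rfl N1700 D5646
theorem N3747 : nd 3747 = n5647 := ndS (p := 1701) (l := 3) rfl N1701 D5647
theorem N3748 : nd 3748 = n5648 := ndS (p := 1701) (l := 6) rfl N1701 D5648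
theorem N3749 : nd 3749 = n5649 := ndS (p := 1703) (l := 5) rfl N1703 D5649
theorem N3750 : nd 3750 = n5653 := ndS (p := 1706) (l := 5) rfl N1706 D5653
theorem N3751 : nd 3751 = n5654 := ndS (p := 1706) (l := 6) rfl N1706 D5654
theorem N3752 : nd 3752 = n5655 := ndS (p := 1707) (l := 4) rfl N1707 D5655
theorem N3753 : nd 3753 = n5656 := ndS (p := 1708) (l := 0) rfl N1708 D5656
theorem N3754 : nd 3754 = n5657 := ndS (p := 1708) (l := 5) rfl N1708 D5657
theorem N3755 : nd 3755 = n5658 := ndS (p := 1708) (l := 7) rfl N1708 D5658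
theorem N3756 : nd 3756 = n5660 := ndS (p := 1709) (l := 1) rfl N1709 D5660
theorem N3757 : nd 3757 = n5661 := ndS (p := 1709) (l := 2) rfl N1709 D5661
theorem N3758 : nd 3758 = n5662 := ndS (p := 1709) (l := 5) rfl N1709 D5662
theorem N3759 : nd 3759 = n5663 := ndS (p := 1709) (l := 6) rfl N1709 D5663
theorem N3760 : nd 3760 = n5664 := ndS (p := 1710) (l := 4) rfl N1710 D5664
theorem N3761 : nd 3761 = n5665 := ndS (p := 1710) (l := 6) rfl N1710 D5665
theorem N3762 : nd 3762 = n5666 := ndS (p := 1711) (l := 5) rfl N1711 D5666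
theorem N3763 : nd 3763 = n5667 := ndS (p := 1711) (l := 7) rfl N1711 D5667
theorem N3764 : nd 3764 = n5668 := ndS (p := 1712) (l := 3) rfl N1712 D5668
theorem N3765 : nd 3765 = n5669 := ndS (p := 1714) (l := 4) rfl N1714 D5669
theorem N3766 : nd 3766 = n5670 := ndS (p := 1716) (l := 0) rfl N1716 D5670
theorem N3767 : nd 3767 = n5672 := ndS (p := 1716) (l := 5) rfl N1716 D5672
theorem N3768 : nd 3768 = n5673 := ndS (p := 1716) (l := 7) rfl N1716 D5673
theorem N3769 : nd 3769 = n5674 := ndS (p := 1717) (l := 4) rfl N1717 D5674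
theorem N3770 : nd 3770 = n5675 := ndS (p := 1717) (l := 5) rfl N1717 D5675
theorem N3771 : nd 3771 = n5680 := ndS (p := 1718) (l := 0) rfl N1718 D5680
theorem N3772 : nd 3772 = n5682 := ndS (p := 1718) (l := 4) rfl N1718 D5682
theorem N3773 : nd 3773 = n5683 := ndS (p := 1718) (l := 7) rfl N1718 D5683
theorem N3774 : nd 3774 = n5684 := ndS (p := 1720) (l := 6) rfl N1720 D5684
theorem N3775 : nd 3775 = n5686 := ndS (p := 1721) (l := 1) rfl N1721 D5686
theorem N3776 : nd 3776 = n5687 := ndS (p := 1721) (l := 5) rfl N1721 D5687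
theorem N3777 : nd 3777 = n5688 := ndS (p := 1721) (l := 7) rfl N1721 D5688
theorem N3778 : nd 3778 = n5692 := ndS (p := 1722) (l := 4) rfl N1722 D5692
theorem N3779 : nd 3779 = n5693 := ndS (p := 1722) (l := 5) rfl N1722 D5693
theorem N3780 : nd 3780 = n5694 := ndS (p := 1722) (l := 6) rfl N1722 D5694
theorem N3781 : nd 3781 = n5696 := ndS (p := 1723) (l := 4) rfl N1723 D5696
theorem N3782 : nd 3782 = n5697 := ndS (p := 1723) (l := 7) rfl N1723 D5697
theorem N3783 : nd 3783 = n5698 := ndS (p := 1725) (l := 6) rfl N1725 D5698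
theorem N3784 : nd 3784 = n5700 := ndS (p := 1726) (l := 5) rfl N1726 D5700
theorem N3785 : nd 3785 = n5701 := ndS (p := 1726) (l := 7) rfl N1726 D5701
theorem N3786 : nd 3786 = n5702 := ndS (p := 1727) (l := 6) rfl N1727 D5702
theorem N3787 : nd 3787 = n5703 := ndS (p := 1728) (l := 6) rfl N1728 D5703
theorem N3788 : nd 3788 = n5705 := ndS (p := 1729) (l := 5) rfl N1729 D5705
theorem N3789 : nd 3789 = n5706 := ndS (p := 1729) (l := 7) rfl N1729 D5706
theorem N3790 : nd 3790 = n5707 := ndS (p := 1730) (l := 6) rfl N1730 D5707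
theorem N3791 : nd 3791 = n5708 := ndS (p := 1731) (l := 6) rfl N1731 D5708
theorem N3792 : nd 3792 = n5709 := ndS (p := 1732) (l := 6) rfl N1732 D5709
theorem N3793 : nd 3793 = n5710 := ndS (p := 1733) (l := 0) rfl N1733 D5710
theorem N3794 : nd 3794 = n5712 := ndS (p := 1733) (l := 5) rfl N1733 D5712
theorem N3795 : nd 3795 = n5713 := ndS (p := 1733) (l := 7) rfl N1733 D5713
theorem N3796 : nd 3796 = n5715 := ndS (p := 1734) (l := 1) rfl N1734 D5715
theorem N3797 : nd 3797 = n5716 := ndS (p := 1734) (l := 5) rfl N1734 D5716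
theorem N3798 : nd 3798 = n5717 := ndS (p := 1734) (l := 7) rfl N1734 D5717
theorem N3799 : nd 3799 = n5718 := ndS (p := 1735) (l := 5) rfl N1735 D5718
theorem N3800 : nd 3800 = n5719 := ndS (p := 1735) (l := 6) rfl N1735 D5719
theorem N3801 : nd 3801 = n5720 := ndS (p := 1736) (l := 3) rfl N1736 D5720
theorem N3802 : nd 3802 = n5721 := ndS (p := 1736) (l := 5) rfl N1736 D5721
theorem N3803 : nd 3803 = n5722 := ndS (p := 1736) (l := 6) rfl N1736 D5722
theorem N3804 : nd 3804 = n5723 := ndS (p := 1737) (l := 0) rfl N1737 D5723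
theorem N3805 : nd 3805 = n5724 := ndS (p := 1737) (l := 1) rfl N1737 D5724
theorem N3806 : nd 3806 = n5725 := ndS (p := 1737) (l := 4) rfl N1737 D5725
theorem N3807 : nd 3807 = n5726 := ndS (p := 1737) (l := 7) rfl N1737 D5726
theorem N3808 : nd 3808 = n5729 := ndS (p := 1739) (l := 3) rfl N1739 D5729
theorem N3809 : nd 3809 = n5730 := ndS (p := 1739) (l := 5) rfl N1739 D5730
theorem N3810 : nd 3810 = n5731 := ndS (p := 1739) (l := 6) rfl N1739 D5731
theorem N3811 : nd 3811 = n5732 := ndS (p := 1740) (l := 1) rfl N1740 D5732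
theorem N3812 : nd 3812 = n5733 := ndS (p := 1740) (l := 4) rfl N1740 D5733
theorem N3813 : nd 3813 = n5734 := ndS (p := 1740) (l := 6) rfl N1740 D5734
theorem N3814 : nd 3814 = n5736 := ndS (p := 1741) (l := 1) rfl N1741 D5736
theorem N3815 : nd 3815 = n5737 := ndS (p := 1741) (l := 7) rfl N1741 D5737
theorem N3816 : nd 3816 = n5740 := ndS (p := 1742) (l := 3) rfl N1742 D5740
theorem N3817 : nd 3817 = n5741 := ndS (p := 1742) (l := 5) rfl N1742 D5741
theorem N3818 : nd 3818 = n5742 := ndS (p := 1742) (l := 6) rfl N1742 D5742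
theorem N3819 : nd 3819 = n5743 := ndS (p := 1743) (l := 4) rfl N1743 D5743
theorem N3820 : nd 3820 = n5744 := ndS (p := 1745) (l := 4) rfl N1745 D5744
theorem N3821 : nd 3821 = n5745 := ndS (p := 1745) (l := 6) rfl N1745 D5745
theorem N3822 : nd 3822 = n5747 := ndS (p := 1746) (l := 4) rfl N1746 D5747
theorem N3823 : nd 3823 = n5748 := ndS (p := 1746) (l := 6) rfl N1746 D5748
theorem N3824 : nd 3824 = n5749 := ndS (p := 1747) (l := 0) rfl N1747 D5749
theorem N3825 : nd 3825 = n5750 := ndS (p := 1747) (l := 1) rfl N1747 D5750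
theorem N3826 : nd 3826 = n5751 := ndS (p := 1747) (l := 3) rfl N1747 D5751
theorem N3827 : nd 3827 = n5752 := ndS (p := 1747) (l := 5) rfl N1747 D5752
theorem N3828 : nd 3828 = n5753 := ndS (p := 1747) (l := 7) rfl N1747 D5753
theorem N3829 : nd 3829 = n5754 := ndS (p := 1748) (l := 6) rfl N1748 D5754
theorem N3830 : nd 3830 = n5755 := ndS (p := 1749) (l := 0) rfl N1749 D5755
theorem N3831 : nd 3831 = n5756 := ndS (p := 1749) (l := 1) rfl N1749 D5756
theorem N3832 : nd 3832 = n5757 := ndS (p := 1749) (l := 3) rfl N1749 D5757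
theorem N3833 : nd 3833 = n5758 := ndS (p := 1749) (l := 5) rfl N1749 D5758
theorem N3834 : nd 3834 = n5759 := ndS (p := 1749) (l := 6) rfl N1749 D5759
theorem N3835 : nd 3835 = n5761 := ndS (p := 1750) (l := 1) rfl N1750 D5761
theorem N3836 : nd 3836 = n5762 := ndS (p := 1750) (l := 7) rfl N1750 D5762
theorem N3837 : nd 3837 = n5763 := ndS (p := 1751) (l := 3) rfl N1751 D5763
theorem N3838 : nd 3838 = n5764 := ndS (p := 1751) (l := 5) rfl N1751 D5764
theorem N3839 : nd 3839 = n5765 := ndS (p := 1751) (l := 6) rfl N1751 D5765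
theorem N3840 : nd 3840 = n5766 := ndS (p := 1752) (l := 0) rfl N1752 D5766
theorem N3841 : nd 3841 = n5767 := ndS (p := 1752) (l := 7) rfl N1752 D5767
theorem N3842 : nd 3842 = n5768 := ndS (p := 1753) (l := 3) rfl N1753 D5768
theorem N3843 : nd 3843 = n5769 := ndS (p := 1753) (l := 5) rfl N1753 D5769
theorem N3844 : nd 3844 = n5770 := ndS (p := 1754) (l := 3) rfl N1754 D5770
theorem N3845 : nd 3845 = n5771 := ndS (p := 1754) (l := 5) rfl N1754 D5771
theorem N3846 : nd 3846 = n5772 := ndS (p := 1754) (l := 6) rfl N1754 D5772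
theorem N3847 : nd 3847 = n5773 := ndS (p := 1756) (l := 0) rfl N1756 D5773
theorem N3848 : nd 3848 = n5774 := ndS (p := 1756) (l := 1) rfl N1756 D5774
theorem N3849 : nd 3849 = n5775 := ndS (p := 1756) (l := 7) rfl N1756 D5775
theorem N3850 : nd 3850 = n5776 := ndS (p := 1757) (l := 5) rfl N1757 D5776
theorem N3851 : nd 3851 = n5777 := ndS (p := 1757) (l := 6) rfl N1757 D5777
theorem N3852 : nd 3852 = n5778 := ndS (p := 1758) (l := 3) rfl N1758 D5778
theorem N3853 : nd 3853 = n5779 := ndS (p := 1758) (l := 5) rfl N1758 D5779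
theorem N3854 : nd 3854 = n5780 := ndS (p := 1758) (l := 6) rfl N1758 D5780
theorem N3855 : nd 3855 = n5781 := ndS (p := 1759) (l := 0) rfl N1759 D5781
theorem N3856 : nd 3856 = n5782 := ndS (p := 1759) (l := 1) rfl N1759 D5782
theorem N3857 : nd 3857 = n5783 := ndS (p := 1759) (l := 2) rfl N1759 D5783
theorem N3858 : nd 3858 = n5784 := ndS (p := 1759) (l := 5) rfl N1759 D5784
theorem N3859 : nd 3859 = n5785 := ndS (p := 1759) (l := 7) rfl N1759 D5785
theorem N3860 : nd 3860 = n5786 := ndS (p := 1760) (l := 1) rfl N1760 D5786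
theorem N3861 : nd 3861 = n5787 := ndS (p := 1760) (l := 4) rfl N1760 D5787
theorem N3862 : nd 3862 = n5788 := ndS (p := 1760) (l := 6) rfl N1760 D5788
theorem N3863 : nd 3863 = n5789 := ndS (p := 1760) (l := 7) rfl N1760 D5789
theorem N3864 : nd 3864 = n5790 := ndS (p := 1761) (l := 6) rfl N1761 D5790
theorem N3865 : nd 3865 = n5791 := ndS (p := 1762) (l := 0) rfl N1762 D5791
theorem N3866 : nd 3866 = n5792 := ndS (p := 1762) (l := 1) rfl N1762 D5792
theorem N3867 : nd 3867 = n5793 := ndS (p := 1763) (l := 6) rfl N1763 D5793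
theorem N3868 : nd 3868 = n5794 := ndS (p := 1764) (l := 0) rfl N1764 D5794
theorem N3869 : nd 3869 = n5796 := ndS (p := 1764) (l := 5) rfl N1764 D5796
theorem N3870 : nd 3870 = n5797 := ndS (p := 1764) (l := 7) rfl N1764 D5797
theorem N3871 : nd 3871 = n5799 := ndS (p := 1765) (l := 1) rfl N1765 D5799
theorem N3872 : nd 3872 = n5800 := ndS (p := 1765) (l := 5) rfl N1765 D5800
theorem N3873 : nd 3873 = n5801 := ndS (p := 1765) (l := 7) rfl N1765 D5801
theorem N3874 : nd 3874 = n5803 := ndS (p := 1766) (l := 1) rfl N1766 D5803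
theorem N3875 : nd 3875 = n5804 := ndS (p := 1766) (l := 5) rfl N1766 D5804
theorem N3876 : nd 3876 = n5805 := ndS (p := 1766) (l := 7) rfl N1766 D5805
theorem N3877 : nd 3877 = n5807 := ndS (p := 1767) (l := 3) rfl N1767 D5807
theorem N3878 : nd 3878 = n5809 := ndS (p := 1767) (l := 5) rfl N1767 D5809
theorem N3879 : nd 3879 = n5810 := ndS (p := 1767) (l := 6) rfl N1767 D5810
theorem N3880 : nd 3880 = n5814 := ndS (p := 1768) (l := 5) rfl N1768 D5814
theorem N3881 : nd 3881 = n5815 := ndS (p := 1768) (l := 6) rfl N1768 D5815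
theorem N3882 : nd 3882 = n5816 := ndS (p := 1769) (l := 0) rfl N1769 D5816
theorem N3883 : nd 3883 = n5817 := ndS (p := 1769) (l := 1) rfl N1769 D5817
theorem N3884 : nd 3884 = n5818 := ndS (p := 1769) (l := 4) rfl N1769 D5818
theorem N3885 : nd 3885 = n5819 := ndS (p := 1769) (l := 7) rfl N1769 D5819
theorem N3886 : nd 3886 = n5823 := ndS (p := 1771) (l := 5) rfl N1771 D5823
theorem N3887 : nd 3887 = n5824 := ndS (p := 1771) (l := 6) rfl N1771 D5824
theorem N3888 : nd 3888 = n5825 := ndS (p := 1772) (l := 1) rfl N1772 D5825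
theorem N3889 : nd 3889 = n5826 := ndS (p := 1772) (l := 4) rfl N1772 D5826
theorem N3890 : nd 3890 = n5827 := ndS (p := 1772) (l := 6) rfl N1772 D5827
theorem N3891 : nd 3891 = n5829 := ndS (p := 1773) (l := 1) rfl N1773 D5829
theorem N3892 : nd 3892 = n5830 := ndS (p := 1773) (l := 7) rfl N1773 D5830
theorem N3893 : nd 3893 = n5832 := ndS (p := 1774) (l := 1) rfl N1774 D5832
theorem N3894 : nd 3894 = n5835 := ndS (p := 1774) (l := 5) rfl N1774 D5835
theorem N3895 : nd 3895 = n5836 := ndS (p := 1774) (l := 6) rfl N1774 D5836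
theorem N3896 : nd 3896 = n5837 := ndS (p := 1775) (l := 4) rfl N1775 D5837
theorem N3897 : nd 3897 = n5838 := ndS (p := 1775) (l := 6) rfl N1775 D5838
theorem N3898 : nd 3898 = n5839 := ndS (p := 1777) (l := 3) rfl N1777 D5839
theorem N3899 : nd 3899 = n5840 := ndS (p := 1777) (l := 4) rfl N1777 D5840
theorem N3900 : nd 3900 = n5841 := ndS (p := 1777) (l := 6) rfl N1777 D5841
theorem N3901 : nd 3901 = n5842 := ndS (p := 1778) (l := 3) rfl N1778 D5842
theorem N3902 : nd 3902 = n5843 := ndS (p := 1778) (l := 4) rfl N1778 D5843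
theorem N3903 : nd 3903 = n5844 := ndS (p := 1778) (l := 6) rfl N1778 D5844
theorem N3904 : nd 3904 = n5845 := ndS (p := 1779) (l := 0) rfl N1779 D5845
theorem N3905 : nd 3905 = n5846 := ndS (p := 1779) (l := 1) rfl N1779 D5846
theorem N3906 : nd 3906 = n5847 := ndS (p := 1779) (l := 3) rfl N1779 D5847
theorem N3907 : nd 3907 = n5848 := ndS (p := 1779) (l := 5) rfl N1779 D5848
theorem N3908 : nd 3908 = n5849 := ndS (p := 1779) (l := 7) rfl N1779 D5849
theorem N3909 : nd 3909 = n5850 := ndS (p := 1780) (l := 6) rfl N1780 D5850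
theorem N3910 : nd 3910 = n5854 := ndS (p := 1781) (l := 4) rfl N1781 D5854
theorem N3911 : nd 3911 = n5855 := ndS (p := 1781) (l := 6) rfl N1781 D5855
theorem N3912 : nd 3912 = n5857 := ndS (p := 1782) (l := 1) rfl N1782 D5857
theorem N3913 : nd 3913 = n5858 := ndS (p := 1782) (l := 7) rfl N1782 D5858
theorem N3914 : nd 3914 = n5864 := ndS (p := 1783) (l := 1) rfl N1783 D5864
theorem N3915 : nd 3915 = n5865 := ndS (p := 1783) (l := 4) rfl N1783 D5865
theorem N3916 : nd 3916 = n5866 := ndS (p := 1783) (l := 6) rfl N1783 D5866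
theorem N3917 : nd 3917 = n5867 := ndS (p := 1784) (l := 7) rfl N1784 D5867
theorem N3918 : nd 3918 = n5869 := ndS (p := 1785) (l := 4) rfl N1785 D5869
theorem N3919 : nd 3919 = n5871 := ndS (p := 1786) (l := 4) rfl N1786 D5871
theorem N3920 : nd 3920 = n5872 := ndS (p := 1787) (l := 1) rfl N1787 D5872
theorem N3921 : nd 3921 = n5873 := ndS (p := 1787) (l := 3) rfl N1787 D5873
theorem N3922 : nd 3922 = n5874 := ndS (p := 1787) (l := 5) rfl N1787 D5874
theorem N3923 : nd 3923 = n5875 := ndS (p := 1787) (l := 6) rfl N1787 D5875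
theorem N3924 : nd 3924 = n5876 := ndS (p := 1788) (l := 0) rfl N1788 D5876
theorem N3925 : nd 3925 = n5877 := ndS (p := 1788) (l := 1) rfl N1788 D5877
theorem N3926 : nd 3926 = n5880 := ndS (p := 1791) (l := 1) rfl N1791 D5880
theorem N3927 : nd 3927 = n5882 := ndS (p := 1791) (l := 5) rfl N1791 D5882
theorem N3928 : nd 3928 = n5883 := ndS (p := 1791) (l := 6) rfl N1791 D5883
theorem N3929 : nd 3929 = n5884 := ndS (p := 1792) (l := 4) rfl N1792 D5884
theorem N3930 : nd 3930 = n5885 := ndS (p := 1792) (l := 6) rfl N1792 D5885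
theorem N3931 : nd 3931 = n5886 := ndS (p := 1794) (l := 3) rfl N1794 D5886
theorem N3932 : nd 3932 = n5887 := ndS (p := 1794) (l := 5) rfl N1794 D5887
theorem N3933 : nd 3933 = n5888 := ndS (p := 1796) (l := 4) rfl N1796 D5888
theorem N3934 : nd 3934 = n5889 := ndS (p := 1796) (l := 5) rfl N1796 D5889
theorem N3935 : nd 3935 = n5891 := ndS (p := 1797) (l := 3) rfl N1797 D5891
theorem N3936 : nd 3936 = n5892 := ndS (p := 1797) (l := 5) rfl N1797 D5892
theorem N3937 : nd 3937 = n5894 := ndS (p := 1799) (l := 0) rfl N1799 D5894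
theorem N3938 : nd 3938 = n5895 := ndS (p := 1799) (l := 1) rfl N1799 D5895
theorem N3939 : nd 3939 = n5896 := ndS (p := 1799) (l := 7) rfl N1799 D5896
theorem N3940 : nd 3940 = n5897 := ndS (p := 1800) (l := 3) rfl N1800 D5897
theorem N3941 : nd 3941 = n5898 := ndS (p := 1800) (l := 5) rfl N1800 D5898
theorem N3942 : nd 3942 = n5899 := ndS (p := 1800) (l := 6) rfl N1800 D5899
theorem N3943 : nd 3943 = n5900 := ndS (p := 1801) (l := 0) rfl N1801 D5900
theorem N3944 : nd 3944 = n5901 := ndS (p := 1801) (l := 7) rfl N1801 D5901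
theorem N3945 : nd 3945 = n5902 := ndS (p := 1802) (l := 3) rfl N1802 D5902
theorem N3946 : nd 3946 = n5903 := ndS (p := 1802) (l := 5) rfl N1802 D5903
theorem N3947 : nd 3947 = n5904 := ndS (p := 1802) (l := 6) rfl N1802 D5904
theorem N3948 : nd 3948 = n5905 := ndS (p := 1803) (l := 3) rfl N1803 D5905
theorem N3949 : nd 3949 = n5906 := ndS (p := 1803) (l := 5) rfl N1803 D5906
theorem N3950 : nd 3950 = n5907 := ndS (p := 1803) (l := 6) rfl N1803 D5907
theorem N3951 : nd 3951 = n5908 := ndS (p := 1804) (l := 0) rfl N1804 D5908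
theorem N3952 : nd 3952 = n5909 := ndS (p := 1804) (l := 1) rfl N1804 D5909
theorem N3953 : nd 3953 = n5910 := ndS (p := 1804) (l := 2) rfl N1804 D5910
theorem N3954 : nd 3954 = n5911 := ndS (p := 1804) (l := 5) rfl N1804 D5911
theorem N3955 : nd 3955 = n5912 := ndS (p := 1804) (l := 7) rfl N1804 D5912
theorem N3956 : nd 3956 = n5913 := ndS (p := 1805) (l := 0) rfl N1805 D5913
theorem N3957 : nd 3957 = n5914 := ndS (p := 1805) (l := 1) rfl N1805 D5914
theorem N3958 : nd 3958 = n5915 := ndS (p := 1805) (l := 4) rfl N1805 D5915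
theorem N3959 : nd 3959 = n5916 := ndS (p := 1805) (l := 6) rfl N1805 D5916
theorem N3960 : nd 3960 = n5917 := ndS (p := 1805) (l := 7) rfl N1805 D5917
theorem N3961 : nd 3961 = n5918 := ndS (p := 1806) (l := 6) rfl N1806 D5918
theorem N3962 : nd 3962 = n5920 := ndS (p := 1808) (l := 5) rfl N1808 D5920
theorem N3963 : nd 3963 = n5922 := ndS (p := 1809) (l := 0) rfl N1809 D5922
theorem N3964 : nd 3964 = n5923 := ndS (p := 1809) (l := 1) rfl N1809 D5923
theorem N3965 : nd 3965 = n5927 := ndS (p := 1810) (l := 2) rfl N1810 D5927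
theorem N3966 : nd 3966 = n5928 := ndS (p := 1810) (l := 5) rfl N1810 D5928
theorem N3967 : nd 3967 = n5929 := ndS (p := 1810) (l := 6) rfl N1810 D5929
theorem N3968 : nd 3968 = n5930 := ndS (p := 1811) (l := 6) rfl N1811 D5930
theorem N3969 : nd 3969 = n5933 := ndS (p := 1812) (l := 5) rfl N1812 D5933
theorem N3970 : nd 3970 = n5937 := ndS (p := 1813) (l := 4) rfl N1813 D5937
theorem N3971 : nd 3971 = n5938 := ndS (p := 1813) (l := 5) rfl N1813 D5938
theorem N3972 : nd 3972 = n5941 := ndS (p := 1814) (l := 4) rfl N1814 D5941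
theorem N3973 : nd 3973 = n5942 := ndS (p := 1814) (l := 5) rfl N1814 D5942
theorem N3974 : nd 3974 = n5943 := ndS (p := 1814) (l := 6) rfl N1814 D5943
theorem N3975 : nd 3975 = n5944 := ndS (p := 1816) (l := 0) rfl N1816 D5944
theorem N3976 : nd 3976 = n5945 := ndS (p := 1816) (l := 1) rfl N1816 D5945
theorem N3977 : nd 3977 = n5946 := ndS (p := 1816) (l := 2) rfl N1816 D5946
theorem N3978 : nd 3978 = n5947 := ndS (p := 1816) (l := 5) rfl N1816 D5947
theorem N3979 : nd 3979 = n5949 := ndS (p := 1817) (l := 6) rfl N1817 D5949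
theorem N3980 : nd 3980 = n5952 := ndS (p := 1818) (l := 5) rfl N1818 D5952
theorem N3981 : nd 3981 = n5955 := ndS (p := 1819) (l := 4) rfl N1819 D5955
theorem N3982 : nd 3982 = n5957 := ndS (p := 1820) (l := 4) rfl N1820 D5957
theorem N3983 : nd 3983 = n5960 := ndS (p := 1823) (l := 0) rfl N1823 D5960
theorem N3984 : nd 3984 = n5961 := ndS (p := 1823) (l := 1) rfl N1823 D5961
theorem N3985 : nd 3985 = n5962 := ndS (p := 1823) (l := 2) rfl N1823 D5962
theorem N3986 : nd 3986 = n5963 := ndS (p := 1823) (l := 5) rfl N1823 D5963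
theorem N3987 : nd 3987 = n5964 := ndS (p := 1824) (l := 6) rfl N1824 D5964
theorem N3988 : nd 3988 = n5965 := ndS (p := 1825) (l := 0) rfl N1825 D5965
theorem N3989 : nd 3989 = n5966 := ndS (p := 1825) (l := 1) rfl N1825 D5966
theorem N3990 : nd 3990 = n5967 := ndS (p := 1825) (l := 2) rfl N1825 D5967
theorem N3991 : nd 3991 = n5968 := ndS (p := 1825) (l := 5) rfl N1825 D5968
theorem N3992 : nd 3992 = n5969 := ndS (p := 1825) (l := 6) rfl N1825 D5969
theorem N3993 : nd 3993 = n5970 := ndS (p := 1826) (l := 6) rfl N1826 D5970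
theorem N3994 : nd 3994 = n5971 := ndS (p := 1827) (l := 0) rfl N1827 D5971
theorem N3995 : nd 3995 = n5972 := ndS (p := 1827) (l := 1) rfl N1827 D5972
theorem N3996 : nd 3996 = n5973 := ndS (p := 1827) (l := 5) rfl N1827 D5973
theorem N3997 : nd 3997 = n5974 := ndS (p := 1827) (l := 7) rfl N1827 D5974
theorem N3998 : nd 3998 = n5977 := ndS (p := 1828) (l := 4) rfl N1828 D5977
theorem N3999 : nd 3999 = n5980 := ndS (p := 1829) (l := 4) rfl N1829 D5980
theorem N4000 : nd 4000 = n5981 := ndS (p := 1831) (l := 0) rfl N1831 D5981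
theorem N4001 : nd 4001 = n5982 := ndS (p := 1831) (l := 1) rfl N1831 D5982
theorem N4002 : nd 4002 = n5983 := ndS (p := 1831) (l := 2) rfl N1831 D5983
theorem N4003 : nd 4003 = n5984 := ndS (p := 1831) (l := 5) rfl N1831 D5984
theorem N4004 : nd 4004 = n5985 := ndS (p := 1831) (l := 6) rfl N1831 D5985
theorem N4005 : nd 4005 = n5986 := ndS (p := 1832) (l := 6) rfl N1832 D5986
theorem N4006 : nd 4006 = n5987 := ndS (p := 1833) (l := 5) rfl N1833 D5987
theorem N4007 : nd 4007 = n5988 := ndS (p := 1833) (l := 7) rfl N1833 D5988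
theorem N4008 : nd 4008 = n5989 := ndS (p := 1834) (l := 0) rfl N1834 D5989
theorem N4009 : nd 4009 = n5990 := ndS (p := 1834) (l := 1) rfl N1834 D5990
theorem N4010 : nd 4010 = n5991 := ndS (p := 1834) (l := 2) rfl N1834 D5991
theorem N4011 : nd 4011 = n5992 := ndS (p := 1834) (l := 4) rfl N1834 D5992
theorem N4012 : nd 4012 = n5993 := ndS (p := 1834) (l := 5) rfl N1834 D5993
theorem N4013 : nd 4013 = n5994 := ndS (p := 1834) (l := 6) rfl N1834 D5994
theorem N4014 : nd 4014 = n5995 := ndS (p := 1835) (l := 6) rfl N1835 D5995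
theorem N4015 : nd 4015 = n5998 := ndS (p := 1836) (l := 5) rfl N1836 D5998
theorem N4016 : nd 4016 = n5999 := ndS (p := 1836) (l := 7) rfl N1836 D5999
theorem N4017 : nd 4017 = n6000 := ndS (p := 1837) (l := 0) rfl N1837 D6000
theorem N4018 : nd 4018 = n6001 := ndS (p := 1837) (l := 2) rfl N1837 D6001
theorem N4019 : nd 4019 = n6002 := ndS (p := 1837) (l := 3) rfl N1837 D6002
theorem N4020 : nd 4020 = n6003 := ndS (p := 1837) (l := 4) rfl N1837 D6003
theorem N4021 : nd 4021 = n6004 := ndS (p := 1837) (l := 5) rfl N1837 D6004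
theorem N4022 : nd 4022 = n6005 := ndS (p := 1837) (l := 6) rfl N1837 D6005
theorem N4023 : nd 4023 = n6006 := ndS (p := 1837) (l := 7) rfl N1837 D6006
theorem N4024 : nd 4024 = n6007 := ndS (p := 1838) (l := 3) rfl N1838 D6007
theorem N4025 : nd 4025 = n6008 := ndS (p := 1838) (l := 4) rfl N1838 D6008
theorem N4026 : nd 4026 = n6009 := ndS (p := 1838) (l := 5) rfl N1838 D6009
theorem N4027 : nd 4027 = n6010 := ndS (p := 1838) (l := 6) rfl N1838 D6010
theorem N4028 : nd 4028 = n6013 := ndS (p := 1839) (l := 5) rfl N1839 D6013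
theorem N4029 : nd 4029 = n6014 := ndS (p := 1840) (l := 0) rfl N1840 D6014
theorem N4030 : nd 4030 = n6015 := ndS (p := 1840) (l := 1) rfl N1840 D6015
theorem N4031 : nd 4031 = n6016 := ndS (p := 1840) (l := 4) rfl N1840 D6016
theorem N4032 : nd 4032 = n6017 := ndS (p := 1840) (l := 6) rfl N1840 D6017
theorem N4033 : nd 4033 = n6018 := ndS (p := 1841) (l := 6) rfl N1841 D6018
theorem N4034 : nd 4034 = n6019 := ndS (p := 1842) (l := 3) rfl N1842 D6019
theorem N4035 : nd 4035 = n6020 := ndS (p := 1842) (l := 6) rfl N1842 D6020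
theorem N4036 : nd 4036 = n6021 := ndS (p := 1843) (l := 3) rfl N1843 D6021
theorem N4037 : nd 4037 = n6022 := ndS (p := 1843) (l := 6) rfl N1843 D6022
theorem N4038 : nd 4038 = n6023 := ndS (p := 1844) (l := 0) rfl N1844 D6023
theorem N4039 : nd 4039 = n6024 := ndS (p := 1844) (l := 1) rfl N1844 D6024
theorem N4040 : nd 4040 = n6025 := ndS (p := 1844) (l := 7) rfl N1844 D6025
theorem N4041 : nd 4041 = n6026 := ndS (p := 1845) (l := 0) rfl N1845 D6026
theorem N4042 : nd 4042 = n6027 := ndS (p := 1845) (l := 1) rfl N1845 D6027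
theorem N4043 : nd 4043 = n6028 := ndS (p := 1845) (l := 5) rfl N1845 D6028
theorem N4044 : nd 4044 = n6029 := ndS (p := 1846) (l := 3) rfl N1846 D6029
theorem N4045 : nd 4045 = n6030 := ndS (p := 1846) (l := 4) rfl N1846 D6030
theorem N4046 : nd 4046 = n6031 := ndS (p := 1846) (l := 5) rfl N1846 D6031
theorem N4047 : nd 4047 = n6032 := ndS (p := 1847) (l := 4) rfl N1847 D6032
theorem N4048 : nd 4048 = n6033 := ndS (p := 1847) (l := 5) rfl N1847 D6033
theorem N4049 : nd 4049 = n6034 := ndS (p := 1847) (l := 6) rfl N1847 D6034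
theorem N4050 : nd 4050 = n6035 := ndS (p := 1848) (l := 3) rfl N1848 D6035
theorem N4051 : nd 4051 = n6036 := ndS (p := 1848) (l := 5) rfl N1848 D6036
theorem N4052 : nd 4052 = n6040 := ndS (p := 1851) (l := 4) rfl N1851 D6040
theorem N4053 : nd 4053 = n6041 := ndS (p := 1853) (l := 3) rfl N1853 D6041
theorem N4054 : nd 4054 = n6042 := ndS (p := 1853) (l := 5) rfl N1853 D6042
theorem N4055 : nd 4055 = n6043 := ndS (p := 1853) (l := 7) rfl N1853 D6043
theorem N4056 : nd 4056 = n6044 := ndS (p := 1855) (l := 0) rfl N1855 D6044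
theorem N4057 : nd 4057 = n6046 := ndS (p := 1855) (l := 2) rfl N1855 D6046
theorem N4058 : nd 4058 = n6047 := ndS (p := 1855) (l := 5) rfl N1855 D6047
theorem N4059 : nd 4059 = n6048 := ndS (p := 1856) (l := 6) rfl N1856 D6048
theorem N4060 : nd 4060 = n6050 := ndS (p := 1857) (l := 4) rfl N1857 D6050
theorem N4061 : nd 4061 = n6052 := ndS (p := 1857) (l := 6) rfl N1857 D6052
theorem N4062 : nd 4062 = n6054 := ndS (p := 1858) (l := 3) rfl N1858 D6054
theorem N4063 : nd 4063 = n6055 := ndS (p := 1858) (l := 4) rfl N1858 D6055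
theorem N4064 : nd 4064 = n6057 := ndS (p := 1858) (l := 6) rfl N1858 D6057
theorem N4065 : nd 4065 = n6058 := ndS (p := 1859) (l := 5) rfl N1859 D6058
theorem N4066 : nd 4066 = n6059 := ndS (p := 1860) (l := 0) rfl N1860 D6059
theorem N4067 : nd 4067 = n6060 := ndS (p := 1860) (l := 1) rfl N1860 D6060
theorem N4068 : nd 4068 = n6061 := ndS (p := 1860) (l := 4) rfl N1860 D6061
theorem N4069 : nd 4069 = n6062 := ndS (p := 1860) (l := 6) rfl N1860 D6062
theorem N4070 : nd 4070 = n6063 := ndS (p := 1861) (l := 3) rfl N1861 D6063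
theorem N4071 : nd 4071 = n6064 := ndS (p := 1861) (l := 6) rfl N1861 D6064
theorem N4072 : nd 4072 = n6065 := ndS (p := 1862) (l := 0) rfl N1862 D6065
theorem N4073 : nd 4073 = n6066 := ndS (p := 1862) (l := 1) rfl N1862 D6066
theorem N4074 : nd 4074 = n6067 := ndS (p := 1862) (l := 7) rfl N1862 D6067
theorem N4075 : nd 4075 = n6068 := ndS (p := 1863) (l := 0) rfl N1863 D6068
theorem N4076 : nd 4076 = n6069 := ndS (p := 1863) (l := 1) rfl N1863 D6069
theorem N4077 : nd 4077 = n6070 := ndS (p := 1864) (l := 0) rfl N1864 D6070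
theorem N4078 : nd 4078 = n6071 := ndS (p := 1864) (l := 1) rfl N1864 D6071
theorem N4079 : nd 4079 = n6072 := ndS (p := 1864) (l := 2) rfl N1864 D6072
theorem N4080 : nd 4080 = n6073 := ndS (p := 1864) (l := 6) rfl N1864 D6073
theorem N4081 : nd 4081 = n6076 := ndS (p := 1865) (l := 5) rfl N1865 D6076
theorem N4082 : nd 4082 = n6077 := ndS (p := 1865) (l := 7) rfl N1865 D6077
theorem N4083 : nd 4083 = n6081 := ndS (p := 1866) (l := 5) rfl N1866 D6081
theorem N4084 : nd 4084 = n6082 := ndS (p := 1866) (l := 6) rfl N1866 D6082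
theorem N4085 : nd 4085 = n6084 := ndS (p := 1867) (l := 3) rfl N1867 D6084
theorem N4086 : nd 4086 = n6086 := ndS (p := 1867) (l := 5) rfl N1867 D6086
theorem N4087 : nd 4087 = n6087 := ndS (p := 1867) (l := 6) rfl N1867 D6087
theorem N4088 : nd 4088 = n6088 := ndS (p := 1869) (l := 0) rfl N1869 D6088
theorem N4089 : nd 4089 = n6089 := ndS (p := 1869) (l := 1) rfl N1869 D6089
theorem N4090 : nd 4090 = n6090 := ndS (p := 1869) (l := 2) rfl N1869 D6090
theorem N4091 : nd 4091 = n6092 := ndS (p := 1870) (l := 4) rfl N1870 D6092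
theorem N4092 : nd 4092 = n6097 := ndS (p := 1871) (l := 4) rfl N1871 D6097
theorem N4093 : nd 4093 = n6100 := ndS (p := 1872) (l := 5) rfl N1872 D6100
theorem N4094 : nd 4094 = n6101 := ndS (p := 1872) (l := 6) rfl N1872 D6101
theorem N4095 : nd 4095 = n6102 := ndS (p := 1873) (l := 0) rfl N1873 D6102
theorem N4096 : nd 4096 = n6103 := ndS (p := 1873) (l := 1) rfl N1873 D6103
theorem N4097 : nd 4097 = n6104 := ndS (p := 1873) (l := 4) rfl N1873 D6104
theorem N4098 : nd 4098 = n6105 := ndS (p := 1873) (l := 6) rfl N1873 D6105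
theorem N4099 : nd 4099 = n6106 := ndS (p := 1874) (l := 0) rfl N1874 D6106
theorem N4100 : nd 4100 = n6107 := ndS (p := 1874) (l := 1) rfl N1874 D6107
theorem N4101 : nd 4101 = n6108 := ndS (p := 1874) (l := 5) rfl N1874 D6108
theorem N4102 : nd 4102 = n6109 := ndS (p := 1874) (l := 7) rfl N1874 D6109
theorem N4103 : nd 4103 = n6110 := ndS (p := 1875) (l := 0) rfl N1875 D6110
theorem N4104 : nd 4104 = n6111 := ndS (p := 1875) (l := 1) rfl N1875 D6111
theorem N4105 : nd 4105 = n6112 := ndS (p := 1875) (l := 5) rfl N1875 D6112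
theorem N4106 : nd 4106 = n6113 := ndS (p := 1875) (l := 7) rfl N1875 D6113
theorem N4107 : nd 4107 = n6114 := ndS (p := 1876) (l := 5) rfl N1876 D6114
theorem N4108 : nd 4108 = n6115 := ndS (p := 1877) (l := 3) rfl N1877 D6115
theorem N4109 : nd 4109 = n6116 := ndS (p := 1877) (l := 5) rfl N1877 D6116
theorem N4110 : nd 4110 = n6117 := ndS (p := 1878) (l := 4) rfl N1878 D6117
theorem N4111 : nd 4111 = n6118 := ndS (p := 1878) (l := 7) rfl N1878 D6118
theorem N4112 : nd 4112 = n6119 := ndS (p := 1880) (l := 3) rfl N1880 D6119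
theorem N4113 : nd 4113 = n6120 := ndS (p := 1880) (l := 5) rfl N1880 D6120
theorem N4114 : nd 4114 = n6121 := ndS (p := 1882) (l := 6) rfl N1882 D6121
theorem N4115 : nd 4115 = n6122 := ndS (p := 1883) (l := 3) rfl N1883 D6122
theorem N4116 : nd 4116 = n6123 := ndS (p := 1883) (l := 5) rfl N1883 D6123
theorem N4117 : nd 4117 = n6124 := ndS (p := 1883) (l := 6) rfl N1883 D6124
theorem N4118 : nd 4118 = n6125 := ndS (p := 1884) (l := 0) rfl N1884 D6125
theorem N4119 : nd 4119 = n6126 := ndS (p := 1884) (l := 1) rfl N1884 D6126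
theorem N4120 : nd 4120 = n6127 := ndS (p := 1884) (l := 7) rfl N1884 D6127
theorem N4121 : nd 4121 = n6128 := ndS (p := 1885) (l := 0) rfl N1885 D6128
theorem N4122 : nd 4122 = n6129 := ndS (p := 1885) (l := 1) rfl N1885 D6129
theorem N4123 : nd 4123 = n6130 := ndS (p := 1885) (l := 2) rfl N1885 D6130
theorem N4124 : nd 4124 = n6131 := ndS (p := 1885) (l := 6) rfl N1885 D6131
theorem N4125 : nd 4125 = n6134 := ndS (p := 1886) (l := 5) rfl N1886 D6134
theorem N4126 : nd 4126 = n6135 := ndS (p := 1886) (l := 7) rfl N1886 D6135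
theorem N4127 : nd 4127 = n6137 := ndS (p := 1887) (l := 5) rfl N1887 D6137
theorem N4128 : nd 4128 = n6140 := ndS (p := 1888) (l := 5) rfl N1888 D6140
theorem N4129 : nd 4129 = n6142 := ndS (p := 1890) (l := 3) rfl N1890 D6142
theorem N4130 : nd 4130 = n6143 := ndS (p := 1890) (l := 4) rfl N1890 D6143
theorem N4131 : nd 4131 = n6147 := ndS (p := 1891) (l := 3) rfl N1891 D6147
theorem N4132 : nd 4132 = n6148 := ndS (p := 1891) (l := 4) rfl N1891 D6148
theorem N4133 : nd 4133 = n6150 := ndS (p := 1891) (l := 6) rfl N1891 D6150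
theorem N4134 : nd 4134 = n6151 := ndS (p := 1892) (l := 5) rfl N1892 D6151
theorem N4135 : nd 4135 = n6152 := ndS (p := 1892) (l := 6) rfl N1892 D6152
theorem N4136 : nd 4136 = n6153 := ndS (p := 1893) (l := 0) rfl N1893 D6153
theorem N4137 : nd 4137 = n6154 := ndS (p := 1893) (l := 1) rfl N1893 D6154
theorem N4138 : nd 4138 = n6155 := ndS (p := 1893) (l := 4) rfl N1893 D6155
theorem N4139 : nd 4139 = n6156 := ndS (p := 1893) (l := 6) rfl N1893 D6156
theorem N4140 : nd 4140 = n6158 := ndS (p := 1894) (l := 1) rfl N1894 D6158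
theorem N4141 : nd 4141 = n6159 := ndS (p := 1894) (l := 5) rfl N1894 D6159
theorem N4142 : nd 4142 = n6160 := ndS (p := 1894) (l := 7) rfl N1894 D6160
theorem N4143 : nd 4143 = n6161 := ndS (p := 1895) (l := 0) rfl N1895 D6161
theorem N4144 : nd 4144 = n6162 := ndS (p := 1895) (l := 1) rfl N1895 D6162
theorem N4145 : nd 4145 = n6163 := ndS (p := 1895) (l := 5) rfl N1895 D6163
theorem N4146 : nd 4146 = n6164 := ndS (p := 1895) (l := 7) rfl N1895 D6164
theorem N4147 : nd 4147 = n6165 := ndS (p := 1896) (l := 4) rfl N1896 D6165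
theorem N4148 : nd 4148 = n6166 := ndS (p := 1896) (l := 7) rfl N1896 D6166
theorem N4149 : nd 4149 = n6167 := ndS (p := 1898) (l := 4) rfl N1898 D6167
theorem N4150 : nd 4150 = n6169 := ndS (p := 1898) (l := 6) rfl N1898 D6169
theorem N4151 : nd 4151 = n6172 := ndS (p := 1900) (l := 5) rfl N1900 D6172
theorem N4152 : nd 4152 = n6175 := ndS (p := 1901) (l := 4) rfl N1901 D6175
theorem N4153 : nd 4153 = n6176 := ndS (p := 1901) (l := 6) rfl N1901 D6176
theorem N4154 : nd 4154 = n6177 := ndS (p := 1902) (l := 0) rfl N1902 D6177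
theorem N4155 : nd 4155 = n6178 := ndS (p := 1902) (l := 1) rfl N1902 D6178
theorem N4156 : nd 4156 = n6181 := ndS (p := 1903) (l := 3) rfl N1903 D6181
theorem N4157 : nd 4157 = n6182 := ndS (p := 1903) (l := 4) rfl N1903 D6182
theorem N4158 : nd 4158 = n6186 := ndS (p := 1904) (l := 3) rfl N1904 D6186
theorem N4159 : nd 4159 = n6187 := ndS (p := 1904) (l := 4) rfl N1904 D6187
theorem N4160 : nd 4160 = n6190 := ndS (p := 1905) (l := 5) rfl N1905 D6190
theorem N4161 : nd 4161 = n6191 := ndS (p := 1905) (l := 6) rfl N1905 D6191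
theorem N4162 : nd 4162 = n6194 := ndS (p := 1906) (l := 4) rfl N1906 D6194
theorem N4163 : nd 4163 = n6196 := ndS (p := 1907) (l := 0) rfl N1907 D6196
theorem N4164 : nd 4164 = n6197 := ndS (p := 1907) (l := 1) rfl N1907 D6197
theorem N4165 : nd 4165 = n6205 := ndS (p := 1910) (l := 4) rfl N1910 D6205
theorem N4166 : nd 4166 = n6206 := ndS (p := 1910) (l := 5) rfl N1910 D6206
theorem N4167 : nd 4167 = n6207 := ndS (p := 1910) (l := 6) rfl N1910 D6207
theorem N4168 : nd 4168 = n6209 := ndS (p := 1911) (l := 3) rfl N1911 D6209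
theorem N4169 : nd 4169 = n6210 := ndS (p := 1911) (l := 5) rfl N1911 D6210
theorem N4170 : nd 4170 = n6212 := ndS (p := 1912) (l := 5) rfl N1912 D6212
theorem N4171 : nd 4171 = n6213 := ndS (p := 1913) (l := 0) rfl N1913 D6213
theorem N4172 : nd 4172 = n6214 := ndS (p := 1913) (l := 1) rfl N1913 D6214
theorem N4173 : nd 4173 = n6215 := ndS (p := 1913) (l := 4) rfl N1913 D6215
theorem N4174 : nd 4174 = n6216 := ndS (p := 1913) (l := 6) rfl N1913 D6216
theorem N4175 : nd 4175 = n6217 := ndS (p := 1914) (l := 0) rfl N1914 D6217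
theorem N4176 : nd 4176 = n6218 := ndS (p := 1914) (l := 1) rfl N1914 D6218
theorem N4177 : nd 4177 = n6219 := ndS (p := 1914) (l := 7) rfl N1914 D6219
theorem N4178 : nd 4178 = n6220 := ndS (p := 1915) (l := 0) rfl N1915 D6220
theorem N4179 : nd 4179 = n6221 := ndS (p := 1915) (l := 1) rfl N1915 D6221
theorem N4180 : nd 4180 = n6223 := ndS (p := 1915) (l := 7) rfl N1915 D6223
theorem N4181 : nd 4181 = n6225 := ndS (p := 1917) (l := 5) rfl N1917 D6225
theorem N4182 : nd 4182 = n6226 := ndS (p := 1917) (l := 6) rfl N1917 D6226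
theorem N4183 : nd 4183 = n6227 := ndS (p := 1918) (l := 3) rfl N1918 D6227
theorem N4184 : nd 4184 = n6228 := ndS (p := 1918) (l := 4) rfl N1918 D6228
theorem N4185 : nd 4185 = n6230 := ndS (p := 1919) (l := 5) rfl N1919 D6230
theorem N4186 : nd 4186 = n6231 := ndS (p := 1920) (l := 0) rfl N1920 D6231
theorem N4187 : nd 4187 = n6232 := ndS (p := 1920) (l := 5) rfl N1920 D6232
theorem N4188 : nd 4188 = n6233 := ndS (p := 1920) (l := 7) rfl N1920 D6233
theorem N4189 : nd 4189 = n6236 := ndS (p := 1921) (l := 4) rfl N1921 D6236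
theorem N4190 : nd 4190 = n6237 := ndS (p := 1921) (l := 6) rfl N1921 D6237
theorem N4191 : nd 4191 = n6239 := ndS (p := 1922) (l := 6) rfl N1922 D6239
theorem N4192 : nd 4192 = n6242 := ndS (p := 1924) (l := 5) rfl N1924 D6242
theorem N4193 : nd 4193 = n6243 := ndS (p := 1924) (l := 6) rfl N1924 D6243
theorem N4194 : nd 4194 = n6244 := ndS (p := 1925) (l := 4) rfl N1925 D6244
theorem N4195 : nd 4195 = n6247 := ndS (p := 1926) (l := 1) rfl N1926 D6247
theorem N4196 : nd 4196 = n6249 := ndS (p := 1927) (l := 0) rfl N1927 D6249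
theorem N4197 : nd 4197 = n6250 := ndS (p := 1927) (l := 1) rfl N1927 D6250
theorem N4198 : nd 4198 = n6251 := ndS (p := 1927) (l := 4) rfl N1927 D6251
theorem N4199 : nd 4199 = n6252 := ndS (p := 1927) (l := 6) rfl N1927 D6252
theorem N4200 : nd 4200 = n6254 := ndS (p := 1928) (l := 3) rfl N1928 D6254
theorem N4201 : nd 4201 = n6255 := ndS (p := 1928) (l := 4) rfl N1928 D6255
theorem N4202 : nd 4202 = n6257 := ndS (p := 1928) (l := 6) rfl N1928 D6257
theorem N4203 : nd 4203 = n6259 := ndS (p := 1929) (l := 3) rfl N1929 D6259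
theorem N4204 : nd 4204 = n6260 := ndS (p := 1929) (l := 4) rfl N1929 D6260
theorem N4205 : nd 4205 = n6262 := ndS (p := 1929) (l := 6) rfl N1929 D6262
theorem N4206 : nd 4206 = n6263 := ndS (p := 1930) (l := 0) rfl N1930 D6263
theorem N4207 : nd 4207 = n6264 := ndS (p := 1930) (l := 1) rfl N1930 D6264
theorem N4208 : nd 4208 = n6265 := ndS (p := 1930) (l := 3) rfl N1930 D6265
theorem N4209 : nd 4209 = n6266 := ndS (p := 1930) (l := 5) rfl N1930 D6266
theorem N4210 : nd 4210 = n6267 := ndS (p := 1930) (l := 6) rfl N1930 D6267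
theorem N4211 : nd 4211 = n6268 := ndS (p := 1930) (l := 7) rfl N1930 D6268
theorem N4212 : nd 4212 = n6269 := ndS (p := 1931) (l := 0) rfl N1931 D6269
theorem N4213 : nd 4213 = n6270 := ndS (p := 1931) (l := 1) rfl N1931 D6270
theorem N4214 : nd 4214 = n6271 := ndS (p := 1931) (l := 7) rfl N1931 D6271
theorem N4215 : nd 4215 = n6272 := ndS (p := 1932) (l := 6) rfl N1932 D6272
theorem N4216 : nd 4216 = n6273 := ndS (p := 1933) (l := 0) rfl N1933 D6273
theorem N4217 : nd 4217 = n6274 := ndS (p := 1933) (l := 1) rfl N1933 D6274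
theorem N4218 : nd 4218 = n6275 := ndS (p := 1933) (l := 5) rfl N1933 D6275
theorem N4219 : nd 4219 = n6278 := ndS (p := 1934) (l := 2) rfl N1934 D6278
theorem N4220 : nd 4220 = n6279 := ndS (p := 1934) (l := 4) rfl N1934 D6279
theorem N4221 : nd 4221 = n6280 := ndS (p := 1934) (l := 6) rfl N1934 D6280
theorem N4222 : nd 4222 = n6281 := ndS (p := 1935) (l := 0) rfl N1935 D6281
theorem N4223 : nd 4223 = n6282 := ndS (p := 1935) (l := 1) rfl N1935 D6282
theorem N4224 : nd 4224 = n6283 := ndS (p := 1935) (l := 5) rfl N1935 D6283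
theorem N4225 : nd 4225 = n6284 := ndS (p := 1935) (l := 7) rfl N1935 D6284
theorem N4226 : nd 4226 = n6285 := ndS (p := 1936) (l := 2) rfl N1936 D6285
theorem N4227 : nd 4227 = n6286 := ndS (p := 1936) (l := 4) rfl N1936 D6286
theorem N4228 : nd 4228 = n6287 := ndS (p := 1936) (l := 6) rfl N1936 D6287
theorem N4229 : nd 4229 = n6288 := ndS (p := 1937) (l := 0) rfl N1937 D6288
theorem N4230 : nd 4230 = n6289 := ndS (p := 1937) (l := 1) rfl N1937 D6289
theorem N4231 : nd 4231 = n6290 := ndS (p := 1937) (l := 5) rfl N1937 D6290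
theorem N4232 : nd 4232 = n6291 := ndS (p := 1937) (l := 7) rfl N1937 D6291
theorem N4233 : nd 4233 = n6292 := ndS (p := 1938) (l := 0) rfl N1938 D6292
theorem N4234 : nd 4234 = n6293 := ndS (p := 1938) (l := 1) rfl N1938 D6293
theorem N4235 : nd 4235 = n6294 := ndS (p := 1938) (l := 2) rfl N1938 D6294
theorem N4236 : nd 4236 = n6295 := ndS (p := 1938) (l := 6) rfl N1938 D6295
theorem N4237 : nd 4237 = n6296 := ndS (p := 1939) (l := 0) rfl N1939 D6296
theorem N4238 : nd 4238 = n6297 := ndS (p := 1939) (l := 1) rfl N1939 D6297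
theorem N4239 : nd 4239 = n6298 := ndS (p := 1939) (l := 5) rfl N1939 D6298
theorem N4240 : nd 4240 = n6299 := ndS (p := 1939) (l := 7) rfl N1939 D6299
theorem N4241 : nd 4241 = n6301 := ndS (p := 1940) (l := 3) rfl N1940 D6301
theorem N4242 : nd 4242 = n6302 := ndS (p := 1940) (l := 4) rfl N1940 D6302
theorem N4243 : nd 4243 = n6303 := ndS (p := 1940) (l := 5) rfl N1940 D6303
theorem N4244 : nd 4244 = n6305 := ndS (p := 1941) (l := 3) rfl N1941 D6305
theorem N4245 : nd 4245 = n6306 := ndS (p := 1941) (l := 4) rfl N1941 D6306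
theorem N4246 : nd 4246 = n6307 := ndS (p := 1941) (l := 6) rfl N1941 D6307
theorem N4247 : nd 4247 = n6308 := ndS (p := 1942) (l := 6) rfl N1942 D6308
theorem N4248 : nd 4248 = n6309 := ndS (p := 1943) (l := 0) rfl N1943 D6309
theorem N4249 : nd 4249 = n6310 := ndS (p := 1943) (l := 1) rfl N1943 D6310
theorem N4250 : nd 4250 = n6311 := ndS (p := 1943) (l := 5) rfl N1943 D6311
theorem N4251 : nd 4251 = n6312 := ndS (p := 1944) (l := 5) rfl N1944 D6312
theorem N4252 : nd 4252 = n6313 := ndS (p := 1945) (l := 1) rfl N1945 D6313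
theorem N4253 : nd 4253 = n6314 := ndS (p := 1945) (l := 4) rfl N1945 D6314
theorem N4254 : nd 4254 = n6315 := ndS (p := 1946) (l := 0) rfl N1946 D6315
theorem N4255 : nd 4255 = n6316 := ndS (p := 1946) (l := 6) rfl N1946 D6316
theorem N4256 : nd 4256 = n6318 := ndS (p := 1947) (l := 1) rfl N1947 D6318
theorem N4257 : nd 4257 = n6319 := ndS (p := 1947) (l := 5) rfl N1947 D6319
theorem N4258 : nd 4258 = n6320 := ndS (p := 1947) (l := 7) rfl N1947 D6320
theorem N4259 : nd 4259 = n6321 := ndS (p := 1948) (l := 0) rfl N1948 D6321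
theorem N4260 : nd 4260 = n6322 := ndS (p := 1948) (l := 1) rfl N1948 D6322
theorem N4261 : nd 4261 = n6323 := ndS (p := 1948) (l := 5) rfl N1948 D6323
theorem N4262 : nd 4262 = n6324 := ndS (p := 1948) (l := 7) rfl N1948 D6324
theorem N4263 : nd 4263 = n6326 := ndS (p := 1949) (l := 3) rfl N1949 D6326
theorem N4264 : nd 4264 = n6327 := ndS (p := 1949) (l := 4) rfl N1949 D6327
theorem N4265 : nd 4265 = n6328 := ndS (p := 1949) (l := 5) rfl N1949 D6328
theorem N4266 : nd 4266 = n6329 := ndS (p := 1949) (l := 6) rfl N1949 D6329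
theorem N4267 : nd 4267 = n6331 := ndS (p := 1950) (l := 3) rfl N1950 D6331
theorem N4268 : nd 4268 = n6332 := ndS (p := 1950) (l := 4) rfl N1950 D6332
theorem N4269 : nd 4269 = n6333 := ndS (p := 1950) (l := 5) rfl N1950 D6333
theorem N4270 : nd 4270 = n6334 := ndS (p := 1950) (l := 6) rfl N1950 D6334
theorem N4271 : nd 4271 = n6335 := ndS (p := 1951) (l := 0) rfl N1951 D6335
theorem N4272 : nd 4272 = n6336 := ndS (p := 1951) (l := 1) rfl N1951 D6336
theorem N4273 : nd 4273 = n6337 := ndS (p := 1951) (l := 4) rfl N1951 D6337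
theorem N4274 : nd 4274 = n6338 := ndS (p := 1951) (l := 7) rfl N1951 D6338
theorem N4275 : nd 4275 = n6339 := ndS (p := 1953) (l := 3) rfl N1953 D6339
theorem N4276 : nd 4276 = n6340 := ndS (p := 1953) (l := 6) rfl N1953 D6340
theorem N4277 : nd 4277 = n6341 := ndS (p := 1954) (l := 3) rfl N1954 D6341
theorem N4278 : nd 4278 = n6342 := ndS (p := 1954) (l := 6) rfl N1954 D6342
theorem N4279 : nd 4279 = n6343 := ndS (p := 1955) (l := 3) rfl N1955 D6343
theorem N4280 : nd 4280 = n6344 := ndS (p := 1955) (l := 5) rfl N1955 D6344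
theorem N4281 : nd 4281 = n6345 := ndS (p := 1955) (l := 7) rfl N1955 D6345
theorem N4282 : nd 4282 = n6346 := ndS (p := 1956) (l := 6) rfl N1956 D6346
theorem N4283 : nd 4283 = n6355 := ndS (p := 1957) (l := 5) rfl N1957 D6355
theorem N4284 : nd 4284 = n6356 := ndS (p := 1957) (l := 6) rfl N1957 D6356
theorem N4285 : nd 4285 = n6359 := ndS (p := 1958) (l := 4) rfl N1958 D6359
theorem N4286 : nd 4286 = n6360 := ndS (p := 1959) (l := 1) rfl N1959 D6360
theorem N4287 : nd 4287 = n6361 := ndS (p := 1959) (l := 7) rfl N1959 D6361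
theorem N4288 : nd 4288 = n6362 := ndS (p := 1960) (l := 3) rfl N1960 D6362
theorem N4289 : nd 4289 = n6363 := ndS (p := 1963) (l := 3) rfl N1963 D6363
theorem N4290 : nd 4290 = n6364 := ndS (p := 1965) (l := 4) rfl N1965 D6364
theorem N4291 : nd 4291 = n6365 := ndS (p := 1966) (l := 3) rfl N1966 D6365
theorem N4292 : nd 4292 = n6368 := ndS (p := 1967) (l := 7) rfl N1967 D6368
theorem N4293 : nd 4293 = n6370 := ndS (p := 1970) (l := 1) rfl N1970 D6370
theorem N4294 : nd 4294 = n6371 := ndS (p := 1970) (l := 7) rfl N1970 D6371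
theorem N4295 : nd 4295 = n6372 := ndS (p := 1972) (l := 7) rfl N1972 D6372
theorem N4296 : nd 4296 = n6373 := ndS (p := 1973) (l := 0) rfl N1973 D6373
theorem N4297 : nd 4297 = n6374 := ndS (p := 1973) (l := 1) rfl N1973 D6374
theorem N4298 : nd 4298 = n6375 := ndS (p := 1973) (l := 4) rfl N1973 D6375
theorem N4299 : nd 4299 = n6376 := ndS (p := 1973) (l := 7) rfl N1973 D6376
theorem N4300 : nd 4300 = n6377 := ndS (p := 1975) (l := 3) rfl N1975 D6377
theorem N4301 : nd 4301 = n6378 := ndS (p := 1975) (l := 6) rfl N1975 D6378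
theorem N4302 : nd 4302 = n6379 := ndS (p := 1976) (l := 3) rfl N1976 D6379
theorem N4303 : nd 4303 = n6380 := ndS (p := 1976) (l := 6) rfl N1976 D6380
theorem N4304 : nd 4304 = n6381 := ndS (p := 1977) (l := 3) rfl N1977 D6381
theorem N4305 : nd 4305 = n6382 := ndS (p := 1978) (l := 6) rfl N1978 D6382
theorem N4306 : nd 4306 = n6383 := ndS (p := 1979) (l := 3) rfl N1979 D6383
theorem N4307 : nd 4307 = n6384 := ndS (p := 1982) (l := 3) rfl N1982 D6384
theorem N4308 : nd 4308 = n6385 := ndS (p := 1984) (l := 5) rfl N1984 D6385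
theorem N4309 : nd 4309 = n6386 := ndS (p := 1985) (l := 5) rfl N1985 D6386
theorem N4310 : nd 4310 = n6387 := ndS (p := 1985) (l := 6) rfl N1985 D6387
theorem N4311 : nd 4311 = n6388 := ndS (p := 1986) (l := 0) rfl N1986 D6388
theorem N4312 : nd 4312 = n6389 := ndS (p := 1986) (l := 1) rfl N1986 D6389
theorem N4313 : nd 4313 = n6390 := ndS (p := 1986) (l := 7) rfl N1986 D6390
theorem N4314 : nd 4314 = n6391 := ndS (p := 1988) (l := 4) rfl N1988 D6391
theorem N4315 : nd 4315 = n6392 := ndS (p := 1989) (l := 4) rfl N1989 D6392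
theorem N4316 : nd 4316 = n6393 := ndS (p := 1993) (l := 4) rfl N1993 D6393
theorem N4317 : nd 4317 = n6394 := ndS (p := 1994) (l := 4) rfl N1994 D6394
theorem N4318 : nd 4318 = n6395 := ndS (p := 1998) (l := 6) rfl N1998 D6395
theorem N4319 : nd 4319 = n6396 := ndS (p := 1999) (l := 6) rfl N1999 D6396
theorem N4320 : nd 4320 = n6397 := ndS (p := 2000) (l := 0) rfl N2000 D6397
theorem N4321 : nd 4321 = n6399 := ndS (p := 2000) (l := 5) rfl N2000 D6399
theorem N4322 : nd 4322 = n6400 := ndS (p := 2000) (l := 7) rfl N2000 D6400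
theorem N4323 : nd 4323 = n6401 := ndS (p := 2001) (l := 6) rfl N2001 D6401
theorem N4324 : nd 4324 = n6403 := ndS (p := 2002) (l := 1) rfl N2002 D6403
theorem N4325 : nd 4325 = n6404 := ndS (p := 2002) (l := 5) rfl N2002 D6404
theorem N4326 : nd 4326 = n6405 := ndS (p := 2002) (l := 7) rfl N2002 D6405
theorem N4327 : nd 4327 = n6406 := ndS (p := 2003) (l := 0) rfl N2003 D6406
theorem N4328 : nd 4328 = n6407 := ndS (p := 2003) (l := 1) rfl N2003 D6407
theorem N4329 : nd 4329 = n6408 := ndS (p := 2003) (l := 5) rfl N2003 D6408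
theorem N4330 : nd 4330 = n6409 := ndS (p := 2003) (l := 7) rfl N2003 D6409
theorem N4331 : nd 4331 = n6411 := ndS (p := 2004) (l := 3) rfl N2004 D6411
theorem N4332 : nd 4332 = n6412 := ndS (p := 2004) (l := 4) rfl N2004 D6412
theorem N4333 : nd 4333 = n6413 := ndS (p := 2004) (l := 5) rfl N2004 D6413
theorem N4334 : nd 4334 = n6414 := ndS (p := 2004) (l := 6) rfl N2004 D6414
theorem N4335 : nd 4335 = n6416 := ndS (p := 2005) (l := 3) rfl N2005 D6416
theorem N4336 : nd 4336 = n6417 := ndS (p := 2005) (l := 4) rfl N2005 D6417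
theorem N4337 : nd 4337 = n6418 := ndS (p := 2005) (l := 5) rfl N2005 D6418
theorem N4338 : nd 4338 = n6419 := ndS (p := 2005) (l := 6) rfl N2005 D6419
theorem N4339 : nd 4339 = n6420 := ndS (p := 2006) (l := 0) rfl N2006 D6420
theorem N4340 : nd 4340 = n6421 := ndS (p := 2006) (l := 1) rfl N2006 D6421
theorem N4341 : nd 4341 = n6422 := ndS (p := 2006) (l := 4) rfl N2006 D6422
theorem N4342 : nd 4342 = n6423 := ndS (p := 2006) (l := 7) rfl N2006 D6423
theorem N4343 : nd 4343 = n6424 := ndS (p := 2008) (l := 3) rfl N2008 D6424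
theorem N4344 : nd 4344 = n6425 := ndS (p := 2008) (l := 6) rfl N2008 D6425
theorem N4345 : nd 4345 = n6426 := ndS (p := 2009) (l := 3) rfl N2009 D6426
theorem N4346 : nd 4346 = n6427 := ndS (p := 2009) (l := 6) rfl N2009 D6427
theorem N4347 : nd 4347 = n6428 := ndS (p := 2010) (l := 3) rfl N2010 D6428
theorem N4348 : nd 4348 = n6429 := ndS (p := 2010) (l := 5) rfl N2010 D6429
theorem N4349 : nd 4349 = n6430 := ndS (p := 2010) (l := 7) rfl N2010 D6430
theorem N4350 : nd 4350 = n6431 := ndS (p := 2011) (l := 6) rfl N2011 D6431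
theorem N4351 : nd 4351 = n6432 := ndS (p := 2012) (l := 0) rfl N2012 D6432
theorem N4352 : nd 4352 = n6433 := ndS (p := 2012) (l := 1) rfl N2012 D6433
theorem N4353 : nd 4353 = n6434 := ndS (p := 2012) (l := 4) rfl N2012 D6434
theorem N4354 : nd 4354 = n6435 := ndS (p := 2012) (l := 6) rfl N2012 D6435
theorem N4355 : nd 4355 = n6436 := ndS (p := 2013) (l := 0) rfl N2013 D6436
theorem N4356 : nd 4356 = n6437 := ndS (p := 2013) (l := 1) rfl N2013 D6437
theorem N4357 : nd 4357 = n6438 := ndS (p := 2013) (l := 7) rfl N2013 D6438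
theorem N4358 : nd 4358 = n6439 := ndS (p := 2015) (l := 3) rfl N2015 D6439
theorem N4359 : nd 4359 = n6440 := ndS (p := 2015) (l := 6) rfl N2015 D6440
theorem N4360 : nd 4360 = n6441 := ndS (p := 2016) (l := 1) rfl N2016 D6441
theorem N4361 : nd 4361 = n6442 := ndS (p := 2018) (l := 5) rfl N2018 D6442
theorem N4362 : nd 4362 = n6443 := ndS (p := 2018) (l := 6) rfl N2018 D6443
theorem N4363 : nd 4363 = n6444 := ndS (p := 2019) (l := 0) rfl N2019 D6444
theorem N4364 : nd 4364 = n6445 := ndS (p := 2019) (l := 4) rfl N2019 D6445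
theorem N4365 : nd 4365 = n6446 := ndS (p := 2021) (l := 3) rfl N2021 D6446
theorem N4366 : nd 4366 = n6447 := ndS (p := 2022) (l := 6) rfl N2022 D6447
theorem N4367 : nd 4367 = n6448 := ndS (p := 2023) (l := 0) rfl N2023 D6448
theorem N4368 : nd 4368 = n6449 := ndS (p := 2023) (l := 1) rfl N2023 D6449
theorem N4369 : nd 4369 = n6450 := ndS (p := 2023) (l := 7) rfl N2023 D6450
theorem N4370 : nd 4370 = n6451 := ndS (p := 2024) (l := 4) rfl N2024 D6451
theorem N4371 : nd 4371 = n6452 := ndS (p := 2024) (l := 6) rfl N2024 D6452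
theorem N4372 : nd 4372 = n6453 := ndS (p := 2025) (l := 7) rfl N2025 D6453
theorem N4373 : nd 4373 = n6454 := ndS (p := 2026) (l := 0) rfl N2026 D6454
theorem N4374 : nd 4374 = n6455 := ndS (p := 2026) (l := 1) rfl N2026 D6455
theorem N4375 : nd 4375 = n6456 := ndS (p := 2026) (l := 2) rfl N2026 D6456
theorem N4376 : nd 4376 = n6457 := ndS (p := 2026) (l := 5) rfl N2026 D6457
theorem N4377 : nd 4377 = n6458 := ndS (p := 2026) (l := 7) rfl N2026 D6458
theorem N4378 : nd 4378 = n6459 := ndS (p := 2027) (l := 4) rfl N2027 D6459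
theorem N4379 : nd 4379 = n6460 := ndS (p := 2027) (l := 6) rfl N2027 D6460
theorem N4380 : nd 4380 = n6461 := ndS (p := 2027) (l := 7) rfl N2027 D6461
theorem N4381 : nd 4381 = n6462 := ndS (p := 2028) (l := 6) rfl N2028 D6462
theorem N4382 : nd 4382 = n6463 := ndS (p := 2030) (l := 5) rfl N2030 D6463
theorem N4383 : nd 4383 = n6464 := ndS (p := 2030) (l := 6) rfl N2030 D6464
theorem N4384 : nd 4384 = n6465 := ndS (p := 2031) (l := 0) rfl N2031 D6465
theorem N4385 : nd 4385 = n6467 := ndS (p := 2031) (l := 7) rfl N2031 D6467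
theorem N4386 : nd 4386 = n6474 := ndS (p := 2035) (l := 0) rfl N2035 D6474
theorem N4387 : nd 4387 = n6475 := ndS (p := 2035) (l := 2) rfl N2035 D6475
theorem N4388 : nd 4388 = n6476 := ndS (p := 2035) (l := 3) rfl N2035 D6476
theorem N4389 : nd 4389 = n6477 := ndS (p := 2035) (l := 4) rfl N2035 D6477
theorem N4390 : nd 4390 = n6478 := ndS (p := 2035) (l := 5) rfl N2035 D6478
theorem N4391 : nd 4391 = n6479 := ndS (p := 2035) (l := 6) rfl N2035 D6479
theorem N4392 : nd 4392 = n6480 := ndS (p := 2035) (l := 7) rfl N2035 D6480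
theorem N4393 : nd 4393 = n6481 := ndS (p := 2036) (l := 3) rfl N2036 D6481
theorem N4394 : nd 4394 = n6482 := ndS (p := 2036) (l := 4) rfl N2036 D6482
theorem N4395 : nd 4395 = n6483 := ndS (p := 2036) (l := 5) rfl N2036 D6483
theorem N4396 : nd 4396 = n6484 := ndS (p := 2036) (l := 6) rfl N2036 D6484
theorem N4397 : nd 4397 = n6487 := ndS (p := 2037) (l := 5) rfl N2037 D6487
theorem N4398 : nd 4398 = n6488 := ndS (p := 2038) (l := 0) rfl N2038 D6488
theorem N4399 : nd 4399 = n6489 := ndS (p := 2038) (l := 1) rfl N2038 D6489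
theorem N4400 : nd 4400 = n6490 := ndS (p := 2038) (l := 4) rfl N2038 D6490
theorem N4401 : nd 4401 = n6491 := ndS (p := 2038) (l := 6) rfl N2038 D6491
theorem N4402 : nd 4402 = n6492 := ndS (p := 2038) (l := 7) rfl N2038 D6492
theorem N4403 : nd 4403 = n6493 := ndS (p := 2039) (l := 6) rfl N2039 D6493
theorem N4404 : nd 4404 = n6494 := ndS (p := 2040) (l := 0) rfl N2040 D6494
theorem N4405 : nd 4405 = n6495 := ndS (p := 2040) (l := 1) rfl N2040 D6495
theorem N4406 : nd 4406 = n6496 := ndS (p := 2040) (l := 7) rfl N2040 D6496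
theorem N4407 : nd 4407 = n6497 := ndS (p := 2041) (l := 6) rfl N2041 D6497
theorem N4408 : nd 4408 = n6500 := ndS (p := 2042) (l := 5) rfl N2042 D6500
theorem N4409 : nd 4409 = n6501 := ndS (p := 2043) (l := 3) rfl N2043 D6501
theorem N4410 : nd 4410 = n6503 := ndS (p := 2043) (l := 5) rfl N2043 D6503
theorem N4411 : nd 4411 = n6504 := ndS (p := 2044) (l := 3) rfl N2044 D6504
theorem N4412 : nd 4412 = n6506 := ndS (p := 2044) (l := 5) rfl N2044 D6506
theorem N4413 : nd 4413 = n6507 := ndS (p := 2044) (l := 6) rfl N2044 D6507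
theorem N4414 : nd 4414 = n6508 := ndS (p := 2045) (l := 6) rfl N2045 D6508
theorem N4415 : nd 4415 = n6511 := ndS (p := 2046) (l := 5) rfl N2046 D6511
theorem N4416 : nd 4416 = n6513 := ndS (p := 2047) (l := 6) rfl N2047 D6513
theorem N4417 : nd 4417 = n6516 := ndS (p := 2048) (l := 5) rfl N2048 D6516
theorem N4418 : nd 4418 = n6518 := ndS (p := 2049) (l := 0) rfl N2049 D6518
theorem N4419 : nd 4419 = n6519 := ndS (p := 2049) (l := 1) rfl N2049 D6519
theorem N4420 : nd 4420 = n6520 := ndS (p := 2049) (l := 5) rfl N2049 D6520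
theorem N4421 : nd 4421 = n6521 := ndS (p := 2049) (l := 7) rfl N2049 D6521
theorem N4422 : nd 4422 = n6523 := ndS (p := 2050) (l := 3) rfl N2050 D6523
theorem N4423 : nd 4423 = n6524 := ndS (p := 2050) (l := 4) rfl N2050 D6524
theorem N4424 : nd 4424 = n6525 := ndS (p := 2050) (l := 5) rfl N2050 D6525
theorem N4425 : nd 4425 = n6526 := ndS (p := 2050) (l := 6) rfl N2050 D6526
theorem N4426 : nd 4426 = n6528 := ndS (p := 2051) (l := 3) rfl N2051 D6528
theorem N4427 : nd 4427 = n6529 := ndS (p := 2051) (l := 4) rfl N2051 D6529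
theorem N4428 : nd 4428 = n6530 := ndS (p := 2051) (l := 5) rfl N2051 D6530
theorem N4429 : nd 4429 = n6531 := ndS (p := 2051) (l := 6) rfl N2051 D6531
theorem N4430 : nd 4430 = n6532 := ndS (p := 2052) (l := 0) rfl N2052 D6532
theorem N4431 : nd 4431 = n6533 := ndS (p := 2052) (l := 1) rfl N2052 D6533
theorem N4432 : nd 4432 = n6534 := ndS (p := 2052) (l := 4) rfl N2052 D6534
theorem N4433 : nd 4433 = n6535 := ndS (p := 2052) (l := 7) rfl N2052 D6535
theorem N4434 : nd 4434 = n6539 := ndS (p := 2054) (l := 5) rfl N2054 D6539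
theorem N4435 : nd 4435 = n6540 := ndS (p := 2055) (l := 0) rfl N2055 D6540
theorem N4436 : nd 4436 = n6541 := ndS (p := 2055) (l := 1) rfl N2055 D6541
theorem N4437 : nd 4437 = n6542 := ndS (p := 2055) (l := 4) rfl N2055 D6542
theorem N4438 : nd 4438 = n6543 := ndS (p := 2055) (l := 6) rfl N2055 D6543
theorem N4439 : nd 4439 = n6545 := ndS (p := 2056) (l := 1) rfl N2056 D6545
theorem N4440 : nd 4440 = n6546 := ndS (p := 2056) (l := 2) rfl N2056 D6546
theorem N4441 : nd 4441 = n6547 := ndS (p := 2056) (l := 5) rfl N2056 D6547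
theorem N4442 : nd 4442 = n6548 := ndS (p := 2056) (l := 6) rfl N2056 D6548
theorem N4443 : nd 4443 = n6549 := ndS (p := 2057) (l := 4) rfl N2057 D6549
theorem N4444 : nd 4444 = n6550 := ndS (p := 2057) (l := 6) rfl N2057 D6550
theorem N4445 : nd 4445 = n6551 := ndS (p := 2058) (l := 5) rfl N2058 D6551
theorem N4446 : nd 4446 = n6552 := ndS (p := 2059) (l := 3) rfl N2059 D6552
theorem N4447 : nd 4447 = n6553 := ndS (p := 2059) (l := 4) rfl N2059 D6553
theorem N4448 : nd 4448 = n6554 := ndS (p := 2059) (l := 6) rfl N2059 D6554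
theorem N4449 : nd 4449 = n6555 := ndS (p := 2060) (l := 3) rfl N2060 D6555
theorem N4450 : nd 4450 = n6556 := ndS (p := 2060) (l := 4) rfl N2060 D6556
theorem N4451 : nd 4451 = n6557 := ndS (p := 2060) (l := 6) rfl N2060 D6557
theorem N4452 : nd 4452 = n6558 := ndS (p := 2061) (l := 0) rfl N2061 D6558
theorem N4453 : nd 4453 = n6559 := ndS (p := 2061) (l := 1) rfl N2061 D6559
theorem N4454 : nd 4454 = n6560 := ndS (p := 2061) (l := 3) rfl N2061 D6560
theorem N4455 : nd 4455 = n6561 := ndS (p := 2061) (l := 5) rfl N2061 D6561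
theorem N4456 : nd 4456 = n6562 := ndS (p := 2061) (l := 7) rfl N2061 D6562
theorem N4457 : nd 4457 = n6563 := ndS (p := 2062) (l := 6) rfl N2062 D6563
theorem N4458 : nd 4458 = n6564 := ndS (p := 2063) (l := 3) rfl N2063 D6564
theorem N4459 : nd 4459 = n6565 := ndS (p := 2063) (l := 5) rfl N2063 D6565
theorem N4460 : nd 4460 = n6566 := ndS (p := 2064) (l := 0) rfl N2064 D6566
theorem N4461 : nd 4461 = n6567 := ndS (p := 2064) (l := 1) rfl N2064 D6567
theorem N4462 : nd 4462 = n6568 := ndS (p := 2064) (l := 4) rfl N2064 D6568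
theorem N4463 : nd 4463 = n6569 := ndS (p := 2065) (l := 5) rfl N2065 D6569
theorem N4464 : nd 4464 = n6570 := ndS (p := 2066) (l := 0) rfl N2066 D6570
theorem N4465 : nd 4465 = n6571 := ndS (p := 2066) (l := 1) rfl N2066 D6571
theorem N4466 : nd 4466 = n6572 := ndS (p := 2066) (l := 4) rfl N2066 D6572
theorem N4467 : nd 4467 = n6573 := ndS (p := 2066) (l := 6) rfl N2066 D6573
theorem N4468 : nd 4468 = n6574 := ndS (p := 2067) (l := 3) rfl N2067 D6574
theorem N4469 : nd 4469 = n6575 := ndS (p := 2067) (l := 4) rfl N2067 D6575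
theorem N4470 : nd 4470 = n6576 := ndS (p := 2068) (l := 4) rfl N2068 D6576
theorem N4471 : nd 4471 = n6577 := ndS (p := 2069) (l := 0) rfl N2069 D6577
theorem N4472 : nd 4472 = n6578 := ndS (p := 2069) (l := 1) rfl N2069 D6578
theorem N4473 : nd 4473 = n6579 := ndS (p := 2069) (l := 3) rfl N2069 D6579
theorem N4474 : nd 4474 = n6580 := ndS (p := 2069) (l := 5) rfl N2069 D6580
theorem N4475 : nd 4475 = n6584 := ndS (p := 2070) (l := 5) rfl N2070 D6584
theorem N4476 : nd 4476 = n6585 := ndS (p := 2070) (l := 6) rfl N2070 D6585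
theorem N4477 : nd 4477 = n6586 := ndS (p := 2071) (l := 4) rfl N2071 D6586
theorem N4478 : nd 4478 = n6587 := ndS (p := 2071) (l := 6) rfl N2071 D6587
theorem N4479 : nd 4479 = n6588 := ndS (p := 2072) (l := 5) rfl N2072 D6588
theorem N4480 : nd 4480 = n6589 := ndS (p := 2073) (l := 3) rfl N2073 D6589
theorem N4481 : nd 4481 = n6590 := ndS (p := 2073) (l := 5) rfl N2073 D6590
theorem N4482 : nd 4482 = n6591 := ndS (p := 2074) (l := 4) rfl N2074 D6591
theorem N4483 : nd 4483 = n6592 := ndS (p := 2075) (l := 4) rfl N2075 D6592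
theorem N4484 : nd 4484 = n6593 := ndS (p := 2075) (l := 6) rfl N2075 D6593
theorem N4485 : nd 4485 = n6594 := ndS (p := 2076) (l := 3) rfl N2076 D6594
theorem N4486 : nd 4486 = n6595 := ndS (p := 2076) (l := 5) rfl N2076 D6595
theorem N4487 : nd 4487 = n6596 := ndS (p := 2076) (l := 6) rfl N2076 D6596
theorem N4488 : nd 4488 = n6597 := ndS (p := 2078) (l := 3) rfl N2078 D6597
theorem N4489 : nd 4489 = n6598 := ndS (p := 2078) (l := 5) rfl N2078 D6598
theorem N4490 : nd 4490 = n6599 := ndS (p := 2078) (l := 6) rfl N2078 D6599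
theorem N4491 : nd 4491 = n6600 := ndS (p := 2080) (l := 3) rfl N2080 D6600
theorem N4492 : nd 4492 = n6601 := ndS (p := 2080) (l := 5) rfl N2080 D6601
theorem N4493 : nd 4493 = n6602 := ndS (p := 2080) (l := 6) rfl N2080 D6602
theorem N4494 : nd 4494 = n6603 := ndS (p := 2081) (l := 3) rfl N2081 D6603
theorem N4495 : nd 4495 = n6604 := ndS (p := 2081) (l := 5) rfl N2081 D6604
theorem N4496 : nd 4496 = n6605 := ndS (p := 2081) (l := 6) rfl N2081 D6605
theorem N4497 : nd 4497 = n6606 := ndS (p := 2082) (l := 0) rfl N2082 D6606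
theorem N4498 : nd 4498 = n6607 := ndS (p := 2082) (l := 1) rfl N2082 D6607
theorem N4499 : nd 4499 = n6608 := ndS (p := 2082) (l := 2) rfl N2082 D6608
theorem N4500 : nd 4500 = n6609 := ndS (p := 2082) (l := 5) rfl N2082 D6609
theorem N4501 : nd 4501 = n6610 := ndS (p := 2082) (l := 7) rfl N2082 D6610
theorem N4502 : nd 4502 = n6611 := ndS (p := 2083) (l := 0) rfl N2083 D6611
theorem N4503 : nd 4503 = n6612 := ndS (p := 2083) (l := 1) rfl N2083 D6612
theorem N4504 : nd 4504 = n6613 := ndS (p := 2083) (l := 4) rfl N2083 D6613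
theorem N4505 : nd 4505 = n6614 := ndS (p := 2083) (l := 6) rfl N2083 D6614
theorem N4506 : nd 4506 = n6615 := ndS (p := 2083) (l := 7) rfl N2083 D6615
theorem N4507 : nd 4507 = n6616 := ndS (p := 2085) (l := 1) rfl N2085 D6616
theorem N4508 : nd 4508 = n6618 := ndS (p := 2086) (l := 5) rfl N2086 D6618
theorem N4509 : nd 4509 = n6620 := ndS (p := 2088) (l := 5) rfl N2088 D6620
theorem N4510 : nd 4510 = n6623 := ndS (p := 2089) (l := 6) rfl N2089 D6623
theorem N4511 : nd 4511 = n6624 := ndS (p := 2090) (l := 4) rfl N2090 D6624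
theorem N4512 : nd 4512 = n6629 := ndS (p := 2093) (l := 3) rfl N2093 D6629
theorem N4513 : nd 4513 = n6630 := ndS (p := 2093) (l := 5) rfl N2093 D6630
theorem N4514 : nd 4514 = n6631 := ndS (p := 2093) (l := 6) rfl N2093 D6631
theorem N4515 : nd 4515 = n6632 := ndS (p := 2094) (l := 3) rfl N2094 D6632
theorem N4516 : nd 4516 = n6633 := ndS (p := 2094) (l := 5) rfl N2094 D6633
theorem N4517 : nd 4517 = n6634 := ndS (p := 2094) (l := 6) rfl N2094 D6634
theorem N4518 : nd 4518 = n6635 := ndS (p := 2095) (l := 0) rfl N2095 D6635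
theorem N4519 : nd 4519 = n6636 := ndS (p := 2095) (l := 1) rfl N2095 D6636
theorem N4520 : nd 4520 = n6637 := ndS (p := 2095) (l := 4) rfl N2095 D6637
theorem N4521 : nd 4521 = n6638 := ndS (p := 2095) (l := 7) rfl N2095 D6638
theorem N4522 : nd 4522 = n6639 := ndS (p := 2097) (l := 0) rfl N2097 D6639
theorem N4523 : nd 4523 = n6641 := ndS (p := 2097) (l := 2) rfl N2097 D6641
theorem N4524 : nd 4524 = n6642 := ndS (p := 2097) (l := 4) rfl N2097 D6642
theorem N4525 : nd 4525 = n6643 := ndS (p := 2097) (l := 5) rfl N2097 D6643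
theorem N4526 : nd 4526 = n6644 := ndS (p := 2098) (l := 0) rfl N2098 D6644
theorem N4527 : nd 4527 = n6645 := ndS (p := 2098) (l := 1) rfl N2098 D6645
theorem N4528 : nd 4528 = n6646 := ndS (p := 2098) (l := 4) rfl N2098 D6646
theorem N4529 : nd 4529 = n6647 := ndS (p := 2098) (l := 6) rfl N2098 D6647
theorem N4530 : nd 4530 = n6651 := ndS (p := 2099) (l := 5) rfl N2099 D6651
theorem N4531 : nd 4531 = n6652 := ndS (p := 2099) (l := 6) rfl N2099 D6652
theorem N4532 : nd 4532 = n6653 := ndS (p := 2100) (l := 4) rfl N2100 D6653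
theorem N4533 : nd 4533 = n6654 := ndS (p := 2100) (l := 6) rfl N2100 D6654
theorem N4534 : nd 4534 = n6655 := ndS (p := 2101) (l := 5) rfl N2101 D6655
theorem N4535 : nd 4535 = n6656 := ndS (p := 2102) (l := 3) rfl N2102 D6656
theorem N4536 : nd 4536 = n6657 := ndS (p := 2102) (l := 4) rfl N2102 D6657
theorem N4537 : nd 4537 = n6658 := ndS (p := 2102) (l := 6) rfl N2102 D6658
theorem N4538 : nd 4538 = n6659 := ndS (p := 2103) (l := 3) rfl N2103 D6659
theorem N4539 : nd 4539 = n6660 := ndS (p := 2103) (l := 4) rfl N2103 D6660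
theorem N4540 : nd 4540 = n6661 := ndS (p := 2103) (l := 6) rfl N2103 D6661
theorem N4541 : nd 4541 = n6662 := ndS (p := 2104) (l := 0) rfl N2104 D6662
theorem N4542 : nd 4542 = n6663 := ndS (p := 2104) (l := 1) rfl N2104 D6663
theorem N4543 : nd 4543 = n6664 := ndS (p := 2104) (l := 3) rfl N2104 D6664
theorem N4544 : nd 4544 = n6665 := ndS (p := 2104) (l := 5) rfl N2104 D6665
theorem N4545 : nd 4545 = n6666 := ndS (p := 2104) (l := 7) rfl N2104 D6666
theorem N4546 : nd 4546 = n6667 := ndS (p := 2105) (l := 6) rfl N2105 D6667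
theorem N4547 : nd 4547 = n6671 := ndS (p := 2106) (l := 5) rfl N2106 D6671
theorem N4548 : nd 4548 = n6672 := ndS (p := 2107) (l := 0) rfl N2107 D6672
theorem N4549 : nd 4549 = n6673 := ndS (p := 2107) (l := 1) rfl N2107 D6673
theorem N4550 : nd 4550 = n6674 := ndS (p := 2107) (l := 4) rfl N2107 D6674
theorem N4551 : nd 4551 = n6675 := ndS (p := 2107) (l := 6) rfl N2107 D6675
theorem N4552 : nd 4552 = n6676 := ndS (p := 2108) (l := 4) rfl N2108 D6676
theorem N4553 : nd 4553 = n6677 := ndS (p := 2109) (l := 4) rfl N2109 D6677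
theorem N4554 : nd 4554 = n6678 := ndS (p := 2110) (l := 0) rfl N2110 D6678
theorem N4555 : nd 4555 = n6679 := ndS (p := 2110) (l := 1) rfl N2110 D6679
theorem N4556 : nd 4556 = n6680 := ndS (p := 2110) (l := 3) rfl N2110 D6680
theorem N4557 : nd 4557 = n6681 := ndS (p := 2110) (l := 5) rfl N2110 D6681
theorem N4558 : nd 4558 = n6682 := ndS (p := 2111) (l := 3) rfl N2111 D6682
theorem N4559 : nd 4559 = n6683 := ndS (p := 2111) (l := 5) rfl N2111 D6683
theorem N4560 : nd 4560 = n6684 := ndS (p := 2111) (l := 6) rfl N2111 D6684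
theorem N4561 : nd 4561 = n6685 := ndS (p := 2112) (l := 0) rfl N2112 D6685
theorem N4562 : nd 4562 = n6686 := ndS (p := 2112) (l := 1) rfl N2112 D6686
theorem N4563 : nd 4563 = n6687 := ndS (p := 2112) (l := 4) rfl N2112 D6687
theorem N4564 : nd 4564 = n6688 := ndS (p := 2113) (l := 5) rfl N2113 D6688
theorem N4565 : nd 4565 = n6689 := ndS (p := 2114) (l := 5) rfl N2114 D6689
theorem N4566 : nd 4566 = n6690 := ndS (p := 2114) (l := 6) rfl N2114 D6690
theorem N4567 : nd 4567 = n6691 := ndS (p := 2115) (l := 4) rfl N2115 D6691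
theorem N4568 : nd 4568 = n6692 := ndS (p := 2115) (l := 6) rfl N2115 D6692
theorem N4569 : nd 4569 = n6693 := ndS (p := 2116) (l := 5) rfl N2116 D6693
theorem N4570 : nd 4570 = n6694 := ndS (p := 2117) (l := 3) rfl N2117 D6694
theorem N4571 : nd 4571 = n6695 := ndS (p := 2117) (l := 5) rfl N2117 D6695
theorem N4572 : nd 4572 = n6696 := ndS (p := 2118) (l := 4) rfl N2118 D6696
theorem N4573 : nd 4573 = n6697 := ndS (p := 2119) (l := 3) rfl N2119 D6697
theorem N4574 : nd 4574 = n6698 := ndS (p := 2119) (l := 5) rfl N2119 D6698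
theorem N4575 : nd 4575 = n6699 := ndS (p := 2119) (l := 6) rfl N2119 D6699
theorem N4576 : nd 4576 = n6700 := ndS (p := 2121) (l := 4) rfl N2121 D6700
theorem N4577 : nd 4577 = n6701 := ndS (p := 2121) (l := 6) rfl N2121 D6701
theorem N4578 : nd 4578 = n6702 := ndS (p := 2122) (l := 3) rfl N2122 D6702
theorem N4579 : nd 4579 = n6703 := ndS (p := 2122) (l := 5) rfl N2122 D6703
theorem N4580 : nd 4580 = n6704 := ndS (p := 2122) (l := 6) rfl N2122 D6704
theorem N4581 : nd 4581 = n6705 := ndS (p := 2124) (l := 3) rfl N2124 D6705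
theorem N4582 : nd 4582 = n6706 := ndS (p := 2124) (l := 5) rfl N2124 D6706
theorem N4583 : nd 4583 = n6707 := ndS (p := 2124) (l := 6) rfl N2124 D6707
theorem N4584 : nd 4584 = n6708 := ndS (p := 2125) (l := 3) rfl N2125 D6708
theorem N4585 : nd 4585 = n6709 := ndS (p := 2125) (l := 5) rfl N2125 D6709
theorem N4586 : nd 4586 = n6710 := ndS (p := 2125) (l := 6) rfl N2125 D6710
theorem N4587 : nd 4587 = n6711 := ndS (p := 2126) (l := 0) rfl N2126 D6711
theorem N4588 : nd 4588 = n6714 := ndS (p := 2126) (l := 5) rfl N2126 D6714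
theorem N4589 : nd 4589 = n6716 := ndS (p := 2127) (l := 0) rfl N2127 D6716
theorem N4590 : nd 4590 = n6717 := ndS (p := 2127) (l := 1) rfl N2127 D6717
theorem N4591 : nd 4591 = n6718 := ndS (p := 2127) (l := 4) rfl N2127 D6718
theorem N4592 : nd 4592 = n6719 := ndS (p := 2127) (l := 6) rfl N2127 D6719
theorem N4593 : nd 4593 = n6720 := ndS (p := 2127) (l := 7) rfl N2127 D6720
theorem N4594 : nd 4594 = n6721 := ndS (p := 2129) (l := 6) rfl N2129 D6721
theorem N4595 : nd 4595 = n6724 := ndS (p := 2130) (l := 5) rfl N2130 D6724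
theorem N4596 : nd 4596 = n6726 := ndS (p := 2131) (l := 6) rfl N2131 D6726
theorem N4597 : nd 4597 = n6727 := ndS (p := 2132) (l := 6) rfl N2132 D6727
theorem N4598 : nd 4598 = n6730 := ndS (p := 2133) (l := 5) rfl N2133 D6730
theorem N4599 : nd 4599 = n6732 := ndS (p := 2134) (l := 0) rfl N2134 D6732
theorem N4600 : nd 4600 = n6733 := ndS (p := 2134) (l := 1) rfl N2134 D6733
theorem N4601 : nd 4601 = n6734 := ndS (p := 2134) (l := 5) rfl N2134 D6734
theorem N4602 : nd 4602 = n6735 := ndS (p := 2134) (l := 7) rfl N2134 D6735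
theorem N4603 : nd 4603 = n6737 := ndS (p := 2135) (l := 3) rfl N2135 D6737
theorem N4604 : nd 4604 = n6738 := ndS (p := 2135) (l := 4) rfl N2135 D6738
theorem N4605 : nd 4605 = n6739 := ndS (p := 2135) (l := 5) rfl N2135 D6739
theorem N4606 : nd 4606 = n6740 := ndS (p := 2135) (l := 6) rfl N2135 D6740
theorem N4607 : nd 4607 = n6742 := ndS (p := 2136) (l := 3) rfl N2136 D6742
theorem N4608 : nd 4608 = n6743 := ndS (p := 2136) (l := 4) rfl N2136 D6743
theorem N4609 : nd 4609 = n6744 := ndS (p := 2136) (l := 5) rfl N2136 D6744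
theorem N4610 : nd 4610 = n6745 := ndS (p := 2136) (l := 6) rfl N2136 D6745
theorem N4611 : nd 4611 = n6746 := ndS (p := 2137) (l := 0) rfl N2137 D6746
theorem N4612 : nd 4612 = n6747 := ndS (p := 2137) (l := 1) rfl N2137 D6747
theorem N4613 : nd 4613 = n6748 := ndS (p := 2137) (l := 4) rfl N2137 D6748
theorem N4614 : nd 4614 = n6749 := ndS (p := 2137) (l := 7) rfl N2137 D6749
theorem N4615 : nd 4615 = n6750 := ndS (p := 2139) (l := 3) rfl N2139 D6750
theorem N4616 : nd 4616 = n6751 := ndS (p := 2139) (l := 6) rfl N2139 D6751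
theorem N4617 : nd 4617 = n6752 := ndS (p := 2140) (l := 3) rfl N2140 D6752
theorem N4618 : nd 4618 = n6753 := ndS (p := 2140) (l := 6) rfl N2140 D6753
theorem N4619 : nd 4619 = n6754 := ndS (p := 2141) (l := 3) rfl N2141 D6754
theorem N4620 : nd 4620 = n6755 := ndS (p := 2141) (l := 5) rfl N2141 D6755
theorem N4621 : nd 4621 = n6756 := ndS (p := 2141) (l := 7) rfl N2141 D6756
theorem N4622 : nd 4622 = n6757 := ndS (p := 2142) (l := 6) rfl N2142 D6757
theorem N4623 : nd 4623 = n6758 := ndS (p := 2143) (l := 6) rfl N2143 D6758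
theorem N4624 : nd 4624 = n6759 := ndS (p := 2144) (l := 5) rfl N2144 D6759
theorem N4625 : nd 4625 = n6760 := ndS (p := 2145) (l := 6) rfl N2145 D6760
theorem N4626 : nd 4626 = n6761 := ndS (p := 2146) (l := 0) rfl N2146 D6761
theorem N4627 : nd 4627 = n6762 := ndS (p := 2146) (l := 1) rfl N2146 D6762
theorem N4628 : nd 4628 = n6763 := ndS (p := 2146) (l := 5) rfl N2146 D6763
theorem N4629 : nd 4629 = n6764 := ndS (p := 2146) (l := 7) rfl N2146 D6764
theorem N4630 : nd 4630 = n6765 := ndS (p := 2147) (l := 6) rfl N2147 D6765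
theorem N4631 : nd 4631 = n6766 := ndS (p := 2148) (l := 6) rfl N2148 D6766
theorem N4632 : nd 4632 = n6767 := ndS (p := 2149) (l := 0) rfl N2149 D6767
theorem N4633 : nd 4633 = n6768 := ndS (p := 2149) (l := 1) rfl N2149 D6768
theorem N4634 : nd 4634 = n6769 := ndS (p := 2149) (l := 5) rfl N2149 D6769
theorem N4635 : nd 4635 = n6770 := ndS (p := 2149) (l := 7) rfl N2149 D6770
theorem N4636 : nd 4636 = n6771 := ndS (p := 2150) (l := 5) rfl N2150 D6771
theorem N4637 : nd 4637 = n6772 := ndS (p := 2150) (l := 6) rfl N2150 D6772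
theorem N4638 : nd 4638 = n6773 := ndS (p := 2151) (l := 3) rfl N2151 D6773
theorem N4639 : nd 4639 = n6775 := ndS (p := 2151) (l := 5) rfl N2151 D6775
theorem N4640 : nd 4640 = n6776 := ndS (p := 2151) (l := 6) rfl N2151 D6776
theorem N4641 : nd 4641 = n6777 := ndS (p := 2152) (l := 0) rfl N2152 D6777
theorem N4642 : nd 4642 = n6778 := ndS (p := 2152) (l := 1) rfl N2152 D6778
theorem N4643 : nd 4643 = n6779 := ndS (p := 2152) (l := 4) rfl N2152 D6779
theorem N4644 : nd 4644 = n6780 := ndS (p := 2152) (l := 7) rfl N2152 D6780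
theorem N4645 : nd 4645 = n6781 := ndS (p := 2154) (l := 3) rfl N2154 D6781
theorem N4646 : nd 4646 = n6782 := ndS (p := 2154) (l := 6) rfl N2154 D6782
theorem N4647 : nd 4647 = n6783 := ndS (p := 2155) (l := 3) rfl N2155 D6783
theorem N4648 : nd 4648 = n6784 := ndS (p := 2155) (l := 6) rfl N2155 D6784
theorem N4649 : nd 4649 = n6785 := ndS (p := 2156) (l := 3) rfl N2156 D6785
theorem N4650 : nd 4650 = n6786 := ndS (p := 2156) (l := 5) rfl N2156 D6786
theorem N4651 : nd 4651 = n6787 := ndS (p := 2156) (l := 7) rfl N2156 D6787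
theorem N4652 : nd 4652 = n6788 := ndS (p := 2157) (l := 6) rfl N2157 D6788
theorem N4653 : nd 4653 = n6789 := ndS (p := 2158) (l := 0) rfl N2158 D6789
theorem N4654 : nd 4654 = n6790 := ndS (p := 2158) (l := 1) rfl N2158 D6790
theorem N4655 : nd 4655 = n6791 := ndS (p := 2158) (l := 5) rfl N2158 D6791
theorem N4656 : nd 4656 = n6792 := ndS (p := 2158) (l := 7) rfl N2158 D6792
theorem N4657 : nd 4657 = n6793 := ndS (p := 2159) (l := 0) rfl N2159 D6793
theorem N4658 : nd 4658 = n6795 := ndS (p := 2159) (l := 5) rfl N2159 D6795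
theorem N4659 : nd 4659 = n6796 := ndS (p := 2159) (l := 7) rfl N2159 D6796
theorem N4660 : nd 4660 = n6800 := ndS (p := 2160) (l := 5) rfl N2160 D6800
theorem N4661 : nd 4661 = n6801 := ndS (p := 2160) (l := 6) rfl N2160 D6801
theorem N4662 : nd 4662 = n6807 := ndS (p := 2161) (l := 0) rfl N2161 D6807
theorem N4663 : nd 4663 = n6809 := ndS (p := 2161) (l := 4) rfl N2161 D6809
theorem N4664 : nd 4664 = n6810 := ndS (p := 2161) (l := 7) rfl N2161 D6810
theorem N4665 : nd 4665 = n6813 := ndS (p := 2163) (l := 5) rfl N2163 D6813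
theorem N4666 : nd 4666 = n6814 := ndS (p := 2163) (l := 7) rfl N2163 D6814
theorem N4667 : nd 4667 = n6823 := ndS (p := 2164) (l := 5) rfl N2164 D6823
theorem N4668 : nd 4668 = n6824 := ndS (p := 2164) (l := 6) rfl N2164 D6824
theorem N4669 : nd 4669 = n6826 := ndS (p := 2165) (l := 1) rfl N2165 D6826
theorem N4670 : nd 4670 = n6827 := ndS (p := 2165) (l := 4) rfl N2165 D6827
theorem N4671 : nd 4671 = n6828 := ndS (p := 2165) (l := 7) rfl N2165 D6828
theorem N4672 : nd 4672 = n6829 := ndS (p := 2167) (l := 1) rfl N2167 D6829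
theorem N4673 : nd 4673 = n6830 := ndS (p := 2167) (l := 5) rfl N2167 D6830
theorem N4674 : nd 4674 = n6831 := ndS (p := 2167) (l := 7) rfl N2167 D6831
theorem N4675 : nd 4675 = n6833 := ndS (p := 2168) (l := 3) rfl N2168 D6833
theorem N4676 : nd 4676 = n6834 := ndS (p := 2168) (l := 5) rfl N2168 D6834
theorem N4677 : nd 4677 = n6835 := ndS (p := 2168) (l := 6) rfl N2168 D6835
theorem N4678 : nd 4678 = n6837 := ndS (p := 2169) (l := 4) rfl N2169 D6837
theorem N4679 : nd 4679 = n6838 := ndS (p := 2169) (l := 5) rfl N2169 D6838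
theorem N4680 : nd 4680 = n6839 := ndS (p := 2169) (l := 6) rfl N2169 D6839
theorem N4681 : nd 4681 = n6840 := ndS (p := 2170) (l := 0) rfl N2170 D6840
theorem N4682 : nd 4682 = n6841 := ndS (p := 2170) (l := 1) rfl N2170 D6841
theorem N4683 : nd 4683 = n6842 := ndS (p := 2170) (l := 4) rfl N2170 D6842
theorem N4684 : nd 4684 = n6843 := ndS (p := 2170) (l := 7) rfl N2170 D6843
theorem N4685 : nd 4685 = n6844 := ndS (p := 2172) (l := 5) rfl N2172 D6844
theorem N4686 : nd 4686 = n6845 := ndS (p := 2173) (l := 5) rfl N2173 D6845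
theorem N4687 : nd 4687 = n6846 := ndS (p := 2174) (l := 6) rfl N2174 D6846
theorem N4688 : nd 4688 = n6847 := ndS (p := 2175) (l := 0) rfl N2175 D6847
theorem N4689 : nd 4689 = n6849 := ndS (p := 2175) (l := 5) rfl N2175 D6849
theorem N4690 : nd 4690 = n6850 := ndS (p := 2175) (l := 7) rfl N2175 D6850
theorem N4691 : nd 4691 = n6851 := ndS (p := 2176) (l := 3) rfl N2176 D6851
theorem N4692 : nd 4692 = n6852 := ndS (p := 2176) (l := 5) rfl N2176 D6852
theorem N4693 : nd 4693 = n6853 := ndS (p := 2176) (l := 6) rfl N2176 D6853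
theorem N4694 : nd 4694 = n6854 := ndS (p := 2177) (l := 5) rfl N2177 D6854
theorem N4695 : nd 4695 = n6855 := ndS (p := 2177) (l := 6) rfl N2177 D6855
theorem N4696 : nd 4696 = n6856 := ndS (p := 2178) (l := 0) rfl N2178 D6856
theorem N4697 : nd 4697 = n6857 := ndS (p := 2178) (l := 1) rfl N2178 D6857
theorem N4698 : nd 4698 = n6858 := ndS (p := 2178) (l := 4) rfl N2178 D6858
theorem N4699 : nd 4699 = n6859 := ndS (p := 2178) (l := 7) rfl N2178 D6859
theorem N4700 : nd 4700 = n6866 := ndS (p := 2180) (l := 0) rfl N2180 D6866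
theorem N4701 : nd 4701 = n6868 := ndS (p := 2180) (l := 5) rfl N2180 D6868
theorem N4702 : nd 4702 = n6869 := ndS (p := 2180) (l := 6) rfl N2180 D6869
theorem N4703 : nd 4703 = n6871 := ndS (p := 2181) (l := 0) rfl N2181 D6871
theorem N4704 : nd 4704 = n6873 := ndS (p := 2181) (l := 3) rfl N2181 D6873
theorem N4705 : nd 4705 = n6874 := ndS (p := 2181) (l := 5) rfl N2181 D6874
theorem N4706 : nd 4706 = n6875 := ndS (p := 2181) (l := 6) rfl N2181 D6875
theorem N4707 : nd 4707 = n6877 := ndS (p := 2182) (l := 0) rfl N2182 D6877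
theorem N4708 : nd 4708 = n6878 := ndS (p := 2182) (l := 1) rfl N2182 D6878
theorem N4709 : nd 4709 = n6879 := ndS (p := 2182) (l := 4) rfl N2182 D6879
theorem N4710 : nd 4710 = n6880 := ndS (p := 2182) (l := 6) rfl N2182 D6880
theorem N4711 : nd 4711 = n6883 := ndS (p := 2183) (l := 1) rfl N2183 D6883
theorem N4712 : nd 4712 = n6884 := ndS (p := 2183) (l := 5) rfl N2183 D6884
theorem N4713 : nd 4713 = n6885 := ndS (p := 2183) (l := 7) rfl N2183 D6885
theorem N4714 : nd 4714 = n6888 := ndS (p := 2184) (l := 1) rfl N2184 D6888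
theorem N4715 : nd 4715 = n6889 := ndS (p := 2184) (l := 2) rfl N2184 D6889
theorem N4716 : nd 4716 = n6890 := ndS (p := 2184) (l := 5) rfl N2184 D6890
theorem N4717 : nd 4717 = n6891 := ndS (p := 2184) (l := 6) rfl N2184 D6891
theorem N4718 : nd 4718 = n6892 := ndS (p := 2185) (l := 5) rfl N2185 D6892
theorem N4719 : nd 4719 = n6893 := ndS (p := 2185) (l := 6) rfl N2185 D6893
theorem N4720 : nd 4720 = n6894 := ndS (p := 2186) (l := 4) rfl N2186 D6894
theorem N4721 : nd 4721 = n6895 := ndS (p := 2186) (l := 6) rfl N2186 D6895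
theorem N4722 : nd 4722 = n6898 := ndS (p := 2187) (l := 5) rfl N2187 D6898
theorem N4723 : nd 4723 = n6899 := ndS (p := 2187) (l := 7) rfl N2187 D6899
theorem N4724 : nd 4724 = n6901 := ndS (p := 2188) (l := 3) rfl N2188 D6901
theorem N4725 : nd 4725 = n6902 := ndS (p := 2188) (l := 4) rfl N2188 D6902
theorem N4726 : nd 4726 = n6903 := ndS (p := 2188) (l := 5) rfl N2188 D6903
theorem N4727 : nd 4727 = n6904 := ndS (p := 2188) (l := 6) rfl N2188 D6904
theorem N4728 : nd 4728 = n6906 := ndS (p := 2189) (l := 3) rfl N2189 D6906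
theorem N4729 : nd 4729 = n6907 := ndS (p := 2189) (l := 4) rfl N2189 D6907
theorem N4730 : nd 4730 = n6908 := ndS (p := 2189) (l := 5) rfl N2189 D6908
theorem N4731 : nd 4731 = n6909 := ndS (p := 2189) (l := 6) rfl N2189 D6909
theorem N4732 : nd 4732 = n6910 := ndS (p := 2190) (l := 0) rfl N2190 D6910
theorem N4733 : nd 4733 = n6911 := ndS (p := 2190) (l := 1) rfl N2190 D6911
theorem N4734 : nd 4734 = n6912 := ndS (p := 2190) (l := 3) rfl N2190 D6912
theorem N4735 : nd 4735 = n6913 := ndS (p := 2190) (l := 5) rfl N2190 D6913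
theorem N4736 : nd 4736 = n6914 := ndS (p := 2190) (l := 7) rfl N2190 D6914
theorem N4737 : nd 4737 = n6915 := ndS (p := 2191) (l := 6) rfl N2191 D6915
theorem N4738 : nd 4738 = n6916 := ndS (p := 2192) (l := 5) rfl N2192 D6916
theorem N4739 : nd 4739 = n6917 := ndS (p := 2192) (l := 6) rfl N2192 D6917
theorem N4740 : nd 4740 = n6918 := ndS (p := 2193) (l := 1) rfl N2193 D6918
theorem N4741 : nd 4741 = n6919 := ndS (p := 2193) (l := 4) rfl N2193 D6919
theorem N4742 : nd 4742 = n6920 := ndS (p := 2193) (l := 6) rfl N2193 D6920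
theorem N4743 : nd 4743 = n6923 := ndS (p := 2195) (l := 5) rfl N2195 D6923
theorem N4744 : nd 4744 = n6924 := ndS (p := 2195) (l := 6) rfl N2195 D6924
theorem N4745 : nd 4745 = n6925 := ndS (p := 2196) (l := 4) rfl N2196 D6925
theorem N4746 : nd 4746 = n6926 := ndS (p := 2196) (l := 6) rfl N2196 D6926
theorem N4747 : nd 4747 = n6927 := ndS (p := 2198) (l := 3) rfl N2198 D6927
theorem N4748 : nd 4748 = n6928 := ndS (p := 2198) (l := 4) rfl N2198 D6928
theorem N4749 : nd 4749 = n6929 := ndS (p := 2198) (l := 6) rfl N2198 D6929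
theorem N4750 : nd 4750 = n6930 := ndS (p := 2199) (l := 3) rfl N2199 D6930
theorem N4751 : nd 4751 = n6931 := ndS (p := 2199) (l := 4) rfl N2199 D6931
theorem N4752 : nd 4752 = n6932 := ndS (p := 2199) (l := 6) rfl N2199 D6932
theorem N4753 : nd 4753 = n6933 := ndS (p := 2200) (l := 0) rfl N2200 D6933
theorem N4754 : nd 4754 = n6934 := ndS (p := 2200) (l := 1) rfl N2200 D6934
theorem N4755 : nd 4755 = n6935 := ndS (p := 2200) (l := 3) rfl N2200 D6935
theorem N4756 : nd 4756 = n6936 := ndS (p := 2200) (l := 5) rfl N2200 D6936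
theorem N4757 : nd 4757 = n6937 := ndS (p := 2200) (l := 7) rfl N2200 D6937
theorem N4758 : nd 4758 = n6938 := ndS (p := 2201) (l := 6) rfl N2201 D6938
theorem N4759 : nd 4759 = n6940 := ndS (p := 2202) (l := 4) rfl N2202 D6940
theorem N4760 : nd 4760 = n6941 := ndS (p := 2202) (l := 5) rfl N2202 D6941
theorem N4761 : nd 4761 = n6948 := ndS (p := 2203) (l := 5) rfl N2203 D6948
theorem N4762 : nd 4762 = n6949 := ndS (p := 2203) (l := 6) rfl N2203 D6949
theorem N4763 : nd 4763 = n6950 := ndS (p := 2204) (l := 0) rfl N2204 D6950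
theorem N4764 : nd 4764 = n6951 := ndS (p := 2204) (l := 1) rfl N2204 D6951
theorem N4765 : nd 4765 = n6952 := ndS (p := 2204) (l := 4) rfl N2204 D6952
theorem N4766 : nd 4766 = n6953 := ndS (p := 2204) (l := 6) rfl N2204 D6953
theorem N4767 : nd 4767 = n6954 := ndS (p := 2205) (l := 0) rfl N2205 D6954
theorem N4768 : nd 4768 = n6955 := ndS (p := 2205) (l := 1) rfl N2205 D6955
theorem N4769 : nd 4769 = n6956 := ndS (p := 2205) (l := 7) rfl N2205 D6956
theorem N4770 : nd 4770 = n6957 := ndS (p := 2206) (l := 3) rfl N2206 D6957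
theorem N4771 : nd 4771 = n6958 := ndS (p := 2206) (l := 4) rfl N2206 D6958
theorem N4772 : nd 4772 = n6959 := ndS (p := 2206) (l := 6) rfl N2206 D6959
theorem N4773 : nd 4773 = n6961 := ndS (p := 2207) (l := 4) rfl N2207 D6961
theorem N4774 : nd 4774 = n6962 := ndS (p := 2207) (l := 6) rfl N2207 D6962
theorem N4775 : nd 4775 = n6963 := ndS (p := 2208) (l := 0) rfl N2208 D6963
theorem N4776 : nd 4776 = n6964 := ndS (p := 2208) (l := 1) rfl N2208 D6964
theorem N4777 : nd 4777 = n6965 := ndS (p := 2208) (l := 3) rfl N2208 D6965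
theorem N4778 : nd 4778 = n6966 := ndS (p := 2208) (l := 5) rfl N2208 D6966
theorem N4779 : nd 4779 = n6967 := ndS (p := 2208) (l := 6) rfl N2208 D6967
theorem N4780 : nd 4780 = n6968 := ndS (p := 2209) (l := 0) rfl N2209 D6968
theorem N4781 : nd 4781 = n6969 := ndS (p := 2209) (l := 1) rfl N2209 D6969
theorem N4782 : nd 4782 = n6970 := ndS (p := 2209) (l := 7) rfl N2209 D6970
theorem N4783 : nd 4783 = n6972 := ndS (p := 2210) (l := 5) rfl N2210 D6972
theorem N4784 : nd 4784 = n6973 := ndS (p := 2212) (l := 5) rfl N2212 D6973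
theorem N4785 : nd 4785 = n6974 := ndS (p := 2213) (l := 4) rfl N2213 D6974
theorem N4786 : nd 4786 = n6975 := ndS (p := 2213) (l := 5) rfl N2213 D6975
theorem N4787 : nd 4787 = n6976 := ndS (p := 2213) (l := 6) rfl N2213 D6976
theorem N4788 : nd 4788 = n6978 := ndS (p := 2214) (l := 1) rfl N2214 D6978
theorem N4789 : nd 4789 = n6979 := ndS (p := 2214) (l := 5) rfl N2214 D6979
theorem N4790 : nd 4790 = n6980 := ndS (p := 2214) (l := 6) rfl N2214 D6980
theorem N4791 : nd 4791 = n6981 := ndS (p := 2215) (l := 0) rfl N2215 D6981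
theorem N4792 : nd 4792 = n6982 := ndS (p := 2215) (l := 1) rfl N2215 D6982
theorem N4793 : nd 4793 = n6983 := ndS (p := 2215) (l := 4) rfl N2215 D6983
theorem N4794 : nd 4794 = n6984 := ndS (p := 2215) (l := 6) rfl N2215 D6984
theorem N4795 : nd 4795 = n6985 := ndS (p := 2216) (l := 0) rfl N2216 D6985
theorem N4796 : nd 4796 = n6986 := ndS (p := 2216) (l := 1) rfl N2216 D6986
theorem N4797 : nd 4797 = n6987 := ndS (p := 2216) (l := 5) rfl N2216 D6987
theorem N4798 : nd 4798 = n6988 := ndS (p := 2216) (l := 7) rfl N2216 D6988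
theorem N4799 : nd 4799 = n6989 := ndS (p := 2217) (l := 3) rfl N2217 D6989
theorem N4800 : nd 4800 = n6990 := ndS (p := 2217) (l := 5) rfl N2217 D6990
theorem N4801 : nd 4801 = n6991 := ndS (p := 2217) (l := 6) rfl N2217 D6991
theorem N4802 : nd 4802 = n6992 := ndS (p := 2218) (l := 0) rfl N2218 D6992
theorem N4803 : nd 4803 = n6993 := ndS (p := 2218) (l := 1) rfl N2218 D6993
theorem N4804 : nd 4804 = n6994 := ndS (p := 2218) (l := 5) rfl N2218 D6994
theorem N4805 : nd 4805 = n6995 := ndS (p := 2218) (l := 7) rfl N2218 D6995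
theorem N4806 : nd 4806 = n6996 := ndS (p := 2219) (l := 4) rfl N2219 D6996
theorem N4807 : nd 4807 = n6999 := ndS (p := 2221) (l := 2) rfl N2221 D6999
theorem N4808 : nd 4808 = n7000 := ndS (p := 2221) (l := 4) rfl N2221 D7000
theorem N4809 : nd 4809 = n7001 := ndS (p := 2221) (l := 5) rfl N2221 D7001
theorem N4810 : nd 4810 = n7002 := ndS (p := 2221) (l := 6) rfl N2221 D7002
theorem N4811 : nd 4811 = n7003 := ndS (p := 2222) (l := 0) rfl N2222 D7003
theorem N4812 : nd 4812 = n7004 := ndS (p := 2222) (l := 3) rfl N2222 D7004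
theorem N4813 : nd 4813 = n7005 := ndS (p := 2222) (l := 5) rfl N2222 D7005
theorem N4814 : nd 4814 = n7006 := ndS (p := 2222) (l := 6) rfl N2222 D7006
theorem N4815 : nd 4815 = n7007 := ndS (p := 2224) (l := 0) rfl N2224 D7007
theorem N4816 : nd 4816 = n7008 := ndS (p := 2224) (l := 1) rfl N2224 D7008
theorem N4817 : nd 4817 = n7009 := ndS (p := 2224) (l := 5) rfl N2224 D7009
theorem N4818 : nd 4818 = n7010 := ndS (p := 2224) (l := 7) rfl N2224 D7010
theorem N4819 : nd 4819 = n7011 := ndS (p := 2225) (l := 2) rfl N2225 D7011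
theorem N4820 : nd 4820 = n7012 := ndS (p := 2225) (l := 4) rfl N2225 D7012
theorem N4821 : nd 4821 = n7013 := ndS (p := 2225) (l := 6) rfl N2225 D7013
theorem N4822 : nd 4822 = n7014 := ndS (p := 2226) (l := 3) rfl N2226 D7014
theorem N4823 : nd 4823 = n7015 := ndS (p := 2226) (l := 5) rfl N2226 D7015
theorem N4824 : nd 4824 = n7016 := ndS (p := 2226) (l := 6) rfl N2226 D7016
theorem N4825 : nd 4825 = n7017 := ndS (p := 2227) (l := 0) rfl N2227 D7017
theorem N4826 : nd 4826 = n7018 := ndS (p := 2227) (l := 1) rfl N2227 D7018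
theorem N4827 : nd 4827 = n7019 := ndS (p := 2227) (l := 7) rfl N2227 D7019
theorem N4828 : nd 4828 = n7020 := ndS (p := 2228) (l := 3) rfl N2228 D7020
theorem N4829 : nd 4829 = n7021 := ndS (p := 2228) (l := 5) rfl N2228 D7021
theorem N4830 : nd 4830 = n7022 := ndS (p := 2228) (l := 6) rfl N2228 D7022
theorem N4831 : nd 4831 = n7023 := ndS (p := 2229) (l := 3) rfl N2229 D7023
theorem N4832 : nd 4832 = n7024 := ndS (p := 2229) (l := 5) rfl N2229 D7024
theorem N4833 : nd 4833 = n7025 := ndS (p := 2229) (l := 6) rfl N2229 D7025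
theorem N4834 : nd 4834 = n7026 := ndS (p := 2230) (l := 0) rfl N2230 D7026
theorem N4835 : nd 4835 = n7027 := ndS (p := 2230) (l := 1) rfl N2230 D7027
theorem N4836 : nd 4836 = n7028 := ndS (p := 2230) (l := 2) rfl N2230 D7028
theorem N4837 : nd 4837 = n7029 := ndS (p := 2230) (l := 5) rfl N2230 D7029
theorem N4838 : nd 4838 = n7030 := ndS (p := 2230) (l := 7) rfl N2230 D7030
theorem N4839 : nd 4839 = n7031 := ndS (p := 2231) (l := 0) rfl N2231 D7031
theorem N4840 : nd 4840 = n7032 := ndS (p := 2231) (l := 1) rfl N2231 D7032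
theorem N4841 : nd 4841 = n7033 := ndS (p := 2231) (l := 6) rfl N2231 D7033
theorem N4842 : nd 4842 = n7034 := ndS (p := 2232) (l := 6) rfl N2232 D7034
theorem N4843 : nd 4843 = n7035 := ndS (p := 2233) (l := 0) rfl N2233 D7035
theorem N4844 : nd 4844 = n7036 := ndS (p := 2233) (l := 1) rfl N2233 D7036
theorem N4845 : nd 4845 = n7038 := ndS (p := 2234) (l := 3) rfl N2234 D7038
theorem N4846 : nd 4846 = n7039 := ndS (p := 2234) (l := 4) rfl N2234 D7039
theorem N4847 : nd 4847 = n7040 := ndS (p := 2234) (l := 5) rfl N2234 D7040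
theorem N4848 : nd 4848 = n7047 := ndS (p := 2235) (l := 5) rfl N2235 D7047
theorem N4849 : nd 4849 = n7048 := ndS (p := 2235) (l := 6) rfl N2235 D7048
theorem N4850 : nd 4850 = n7049 := ndS (p := 2236) (l := 0) rfl N2236 D7049
theorem N4851 : nd 4851 = n7050 := ndS (p := 2236) (l := 1) rfl N2236 D7050
theorem N4852 : nd 4852 = n7051 := ndS (p := 2236) (l := 4) rfl N2236 D7051
theorem N4853 : nd 4853 = n7052 := ndS (p := 2236) (l := 6) rfl N2236 D7052
theorem N4854 : nd 4854 = n7053 := ndS (p := 2237) (l := 0) rfl N2237 D7053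
theorem N4855 : nd 4855 = n7054 := ndS (p := 2237) (l := 1) rfl N2237 D7054
theorem N4856 : nd 4856 = n7055 := ndS (p := 2237) (l := 5) rfl N2237 D7055
theorem N4857 : nd 4857 = n7056 := ndS (p := 2237) (l := 7) rfl N2237 D7056
theorem N4858 : nd 4858 = n7057 := ndS (p := 2238) (l := 3) rfl N2238 D7057
theorem N4859 : nd 4859 = n7058 := ndS (p := 2238) (l := 4) rfl N2238 D7058
theorem N4860 : nd 4860 = n7059 := ndS (p := 2238) (l := 6) rfl N2238 D7059
theorem N4861 : nd 4861 = n7060 := ndS (p := 2239) (l := 3) rfl N2239 D7060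
theorem N4862 : nd 4862 = n7061 := ndS (p := 2239) (l := 4) rfl N2239 D7061
theorem N4863 : nd 4863 = n7062 := ndS (p := 2239) (l := 6) rfl N2239 D7062
theorem N4864 : nd 4864 = n7063 := ndS (p := 2240) (l := 3) rfl N2240 D7063
theorem N4865 : nd 4865 = n7064 := ndS (p := 2240) (l := 6) rfl N2240 D7064
theorem N4866 : nd 4866 = n7065 := ndS (p := 2241) (l := 0) rfl N2241 D7065
theorem N4867 : nd 4867 = n7066 := ndS (p := 2241) (l := 1) rfl N2241 D7066
theorem N4868 : nd 4868 = n7067 := ndS (p := 2241) (l := 5) rfl N2241 D7067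
theorem N4869 : nd 4869 = n7068 := ndS (p := 2241) (l := 7) rfl N2241 D7068
theorem N4870 : nd 4870 = n7069 := ndS (p := 2242) (l := 3) rfl N2242 D7069
theorem N4871 : nd 4871 = n7070 := ndS (p := 2242) (l := 5) rfl N2242 D7070
theorem N4872 : nd 4872 = n7071 := ndS (p := 2245) (l := 4) rfl N2245 D7071
theorem N4873 : nd 4873 = n7072 := ndS (p := 2246) (l := 3) rfl N2246 D7072
theorem N4874 : nd 4874 = n7073 := ndS (p := 2246) (l := 5) rfl N2246 D7073
theorem N4875 : nd 4875 = n7074 := ndS (p := 2247) (l := 3) rfl N2247 D7074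
theorem N4876 : nd 4876 = n7075 := ndS (p := 2247) (l := 5) rfl N2247 D7075
theorem N4877 : nd 4877 = n7076 := ndS (p := 2248) (l := 3) rfl N2248 D7076
theorem N4878 : nd 4878 = n7077 := ndS (p := 2248) (l := 5) rfl N2248 D7077
theorem N4879 : nd 4879 = n7078 := ndS (p := 2249) (l := 3) rfl N2249 D7078
theorem N4880 : nd 4880 = n7079 := ndS (p := 2249) (l := 5) rfl N2249 D7079
theorem N4881 : nd 4881 = n7080 := ndS (p := 2250) (l := 0) rfl N2250 D7080
theorem N4882 : nd 4882 = n7081 := ndS (p := 2250) (l := 1) rfl N2250 D7081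
theorem N4883 : nd 4883 = n7082 := ndS (p := 2250) (l := 2) rfl N2250 D7082
theorem N4884 : nd 4884 = n7083 := ndS (p := 2250) (l := 5) rfl N2250 D7083
theorem N4885 : nd 4885 = n7084 := ndS (p := 2250) (l := 6) rfl N2250 D7084
theorem N4886 : nd 4886 = n7085 := ndS (p := 2251) (l := 6) rfl N2251 D7085
theorem N4887 : nd 4887 = n7086 := ndS (p := 2252) (l := 0) rfl N2252 D7086
theorem N4888 : nd 4888 = n7087 := ndS (p := 2252) (l := 1) rfl N2252 D7087
theorem N4889 : nd 4889 = n7088 := ndS (p := 2252) (l := 5) rfl N2252 D7088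
theorem N4890 : nd 4890 = n7089 := ndS (p := 2252) (l := 7) rfl N2252 D7089
theorem N4891 : nd 4891 = n7091 := ndS (p := 2253) (l := 3) rfl N2253 D7091
theorem N4892 : nd 4892 = n7092 := ndS (p := 2253) (l := 4) rfl N2253 D7092
theorem N4893 : nd 4893 = n7095 := ndS (p := 2254) (l := 4) rfl N2254 D7095
theorem N4894 : nd 4894 = n7096 := ndS (p := 2254) (l := 6) rfl N2254 D7096
theorem N4895 : nd 4895 = n7097 := ndS (p := 2256) (l := 3) rfl N2256 D7097
theorem N4896 : nd 4896 = n7098 := ndS (p := 2256) (l := 5) rfl N2256 D7098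
theorem N4897 : nd 4897 = n7099 := ndS (p := 2257) (l := 4) rfl N2257 D7099
theorem N4898 : nd 4898 = n7100 := ndS (p := 2257) (l := 6) rfl N2257 D7100
theorem N4899 : nd 4899 = n7101 := ndS (p := 2258) (l := 3) rfl N2258 D7101
theorem N4900 : nd 4900 = n7103 := ndS (p := 2259) (l := 4) rfl N2259 D7103
theorem N4901 : nd 4901 = n7106 := ndS (p := 2263) (l := 3) rfl N2263 D7106
theorem N4902 : nd 4902 = n7107 := ndS (p := 2263) (l := 5) rfl N2263 D7107
theorem N4903 : nd 4903 = n7108 := ndS (p := 2264) (l := 0) rfl N2264 D7108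
theorem N4904 : nd 4904 = n7109 := ndS (p := 2264) (l := 1) rfl N2264 D7109
theorem N4905 : nd 4905 = n7110 := ndS (p := 2264) (l := 4) rfl N2264 D7110
theorem N4906 : nd 4906 = n7111 := ndS (p := 2264) (l := 6) rfl N2264 D7111
theorem N4907 : nd 4907 = n7112 := ndS (p := 2265) (l := 0) rfl N2265 D7112
theorem N4908 : nd 4908 = n7113 := ndS (p := 2265) (l := 1) rfl N2265 D7113
theorem N4909 : nd 4909 = n7114 := ndS (p := 2265) (l := 5) rfl N2265 D7114
theorem N4910 : nd 4910 = n7115 := ndS (p := 2265) (l := 7) rfl N2265 D7115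
theorem N4911 : nd 4911 = n7116 := ndS (p := 2266) (l := 3) rfl N2266 D7116
theorem N4912 : nd 4912 = n7117 := ndS (p := 2266) (l := 6) rfl N2266 D7117
theorem N4913 : nd 4913 = n7118 := ndS (p := 2267) (l := 0) rfl N2267 D7118
theorem N4914 : nd 4914 = n7119 := ndS (p := 2267) (l := 1) rfl N2267 D7119
theorem N4915 : nd 4915 = n7120 := ndS (p := 2267) (l := 5) rfl N2267 D7120
theorem N4916 : nd 4916 = n7121 := ndS (p := 2267) (l := 7) rfl N2267 D7121
theorem N4917 : nd 4917 = n7122 := ndS (p := 2268) (l := 4) rfl N2268 D7122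
theorem N4918 : nd 4918 = n7124 := ndS (p := 2270) (l := 1) rfl N2270 D7124
theorem N4919 : nd 4919 = n7125 := ndS (p := 2270) (l := 2) rfl N2270 D7125
theorem N4920 : nd 4920 = n7126 := ndS (p := 2270) (l := 5) rfl N2270 D7126
theorem N4921 : nd 4921 = n7128 := ndS (p := 2271) (l := 6) rfl N2271 D7128
theorem N4922 : nd 4922 = n7129 := ndS (p := 2272) (l := 5) rfl N2272 D7129
theorem N4923 : nd 4923 = n7130 := ndS (p := 2273) (l := 0) rfl N2273 D7130
theorem N4924 : nd 4924 = n7131 := ndS (p := 2273) (l := 1) rfl N2273 D7131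
theorem N4925 : nd 4925 = n7132 := ndS (p := 2273) (l := 2) rfl N2273 D7132
theorem N4926 : nd 4926 = n7133 := ndS (p := 2273) (l := 5) rfl N2273 D7133
theorem N4927 : nd 4927 = n7135 := ndS (p := 2274) (l := 0) rfl N2274 D7135
theorem N4928 : nd 4928 = n7136 := ndS (p := 2274) (l := 1) rfl N2274 D7136
theorem N4929 : nd 4929 = n7137 := ndS (p := 2274) (l := 6) rfl N2274 D7137
theorem N4930 : nd 4930 = n7138 := ndS (p := 2275) (l := 0) rfl N2275 D7138
theorem N4931 : nd 4931 = n7139 := ndS (p := 2275) (l := 1) rfl N2275 D7139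
theorem N4932 : nd 4932 = n7140 := ndS (p := 2275) (l := 5) rfl N2275 D7140
theorem N4933 : nd 4933 = n7141 := ndS (p := 2275) (l := 7) rfl N2275 D7141
theorem N4934 : nd 4934 = n7142 := ndS (p := 2276) (l := 3) rfl N2276 D7142
theorem N4935 : nd 4935 = n7143 := ndS (p := 2277) (l := 3) rfl N2277 D7143
theorem N4936 : nd 4936 = n7144 := ndS (p := 2277) (l := 4) rfl N2277 D7144
theorem N4937 : nd 4937 = n7146 := ndS (p := 2278) (l := 4) rfl N2278 D7146
theorem N4938 : nd 4938 = n7150 := ndS (p := 2283) (l := 0) rfl N2283 D7150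
theorem N4939 : nd 4939 = n7156 := ndS (p := 2284) (l := 5) rfl N2284 D7156
theorem N4940 : nd 4940 = n7157 := ndS (p := 2284) (l := 6) rfl N2284 D7157
theorem N4941 : nd 4941 = n7158 := ndS (p := 2285) (l := 6) rfl N2285 D7158
theorem N4942 : nd 4942 = n7159 := ndS (p := 2286) (l := 0) rfl N2286 D7159
theorem N4943 : nd 4943 = n7161 := ndS (p := 2286) (l := 5) rfl N2286 D7161
theorem N4944 : nd 4944 = n7163 := ndS (p := 2287) (l := 3) rfl N2287 D7163
theorem N4945 : nd 4945 = n7164 := ndS (p := 2288) (l := 4) rfl N2288 D7164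
theorem N4946 : nd 4946 = n7166 := ndS (p := 2291) (l := 0) rfl N2291 D7166
theorem N4947 : nd 4947 = n7167 := ndS (p := 2291) (l := 1) rfl N2291 D7167
theorem N4948 : nd 4948 = n7168 := ndS (p := 2291) (l := 2) rfl N2291 D7168
theorem N4949 : nd 4949 = n7169 := ndS (p := 2291) (l := 4) rfl N2291 D7169
theorem N4950 : nd 4950 = n7170 := ndS (p := 2291) (l := 5) rfl N2291 D7170
theorem N4951 : nd 4951 = n7171 := ndS (p := 2291) (l := 6) rfl N2291 D7171
theorem N4952 : nd 4952 = n7172 := ndS (p := 2292) (l := 0) rfl N2292 D7172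
theorem N4953 : nd 4953 = n7173 := ndS (p := 2292) (l := 1) rfl N2292 D7173
theorem N4954 : nd 4954 = n7174 := ndS (p := 2292) (l := 6) rfl N2292 D7174
theorem N4955 : nd 4955 = n7177 := ndS (p := 2293) (l := 5) rfl N2293 D7177
theorem N4956 : nd 4956 = n7178 := ndS (p := 2293) (l := 7) rfl N2293 D7178
theorem N4957 : nd 4957 = n7179 := ndS (p := 2294) (l := 0) rfl N2294 D7179
theorem N4958 : nd 4958 = n7180 := ndS (p := 2294) (l := 1) rfl N2294 D7180
theorem N4959 : nd 4959 = n7181 := ndS (p := 2294) (l := 2) rfl N2294 D7181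
theorem N4960 : nd 4960 = n7182 := ndS (p := 2294) (l := 4) rfl N2294 D7182
theorem N4961 : nd 4961 = n7183 := ndS (p := 2294) (l := 5) rfl N2294 D7183
theorem N4962 : nd 4962 = n7184 := ndS (p := 2294) (l := 6) rfl N2294 D7184
theorem N4963 : nd 4963 = n7185 := ndS (p := 2295) (l := 6) rfl N2295 D7185
theorem N4964 : nd 4964 = n7187 := ndS (p := 2296) (l := 5) rfl N2296 D7187
theorem N4965 : nd 4965 = n7188 := ndS (p := 2296) (l := 7) rfl N2296 D7188
theorem N4966 : nd 4966 = n7189 := ndS (p := 2297) (l := 0) rfl N2297 D7189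
theorem N4967 : nd 4967 = n7190 := ndS (p := 2297) (l := 2) rfl N2297 D7190
theorem N4968 : nd 4968 = n7191 := ndS (p := 2297) (l := 3) rfl N2297 D7191
theorem N4969 : nd 4969 = n7192 := ndS (p := 2297) (l := 4) rfl N2297 D7192
theorem N4970 : nd 4970 = n7193 := ndS (p := 2297) (l := 5) rfl N2297 D7193
theorem N4971 : nd 4971 = n7195 := ndS (p := 2297) (l := 7) rfl N2297 D7195
theorem N4972 : nd 4972 = n7196 := ndS (p := 2298) (l := 3) rfl N2298 D7196
theorem N4973 : nd 4973 = n7197 := ndS (p := 2298) (l := 4) rfl N2298 D7197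
theorem N4974 : nd 4974 = n7198 := ndS (p := 2298) (l := 5) rfl N2298 D7198
theorem N4975 : nd 4975 = n7199 := ndS (p := 2298) (l := 6) rfl N2298 D7199
theorem N4976 : nd 4976 = n7202 := ndS (p := 2299) (l := 5) rfl N2299 D7202
theorem N4977 : nd 4977 = n7203 := ndS (p := 2300) (l := 0) rfl N2300 D7203
theorem N4978 : nd 4978 = n7204 := ndS (p := 2300) (l := 1) rfl N2300 D7204
theorem N4979 : nd 4979 = n7205 := ndS (p := 2300) (l := 4) rfl N2300 D7205
theorem N4980 : nd 4980 = n7206 := ndS (p := 2300) (l := 6) rfl N2300 D7206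
theorem N4981 : nd 4981 = n7207 := ndS (p := 2300) (l := 7) rfl N2300 D7207
theorem N4982 : nd 4982 = n7208 := ndS (p := 2301) (l := 6) rfl N2301 D7208
theorem N4983 : nd 4983 = n7209 := ndS (p := 2302) (l := 3) rfl N2302 D7209
theorem N4984 : nd 4984 = n7210 := ndS (p := 2302) (l := 6) rfl N2302 D7210
theorem N4985 : nd 4985 = n7211 := ndS (p := 2303) (l := 3) rfl N2303 D7211
theorem N4986 : nd 4986 = n7212 := ndS (p := 2303) (l := 6) rfl N2303 D7212
theorem N4987 : nd 4987 = n7213 := ndS (p := 2304) (l := 3) rfl N2304 D7213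
theorem N4988 : nd 4988 = n7214 := ndS (p := 2304) (l := 6) rfl N2304 D7214
theorem N4989 : nd 4989 = n7215 := ndS (p := 2305) (l := 0) rfl N2305 D7215
theorem N4990 : nd 4990 = n7216 := ndS (p := 2305) (l := 1) rfl N2305 D7216
theorem N4991 : nd 4991 = n7217 := ndS (p := 2305) (l := 7) rfl N2305 D7217
theorem N4992 : nd 4992 = n7218 := ndS (p := 2306) (l := 6) rfl N2306 D7218
theorem N4993 : nd 4993 = n7219 := ndS (p := 2307) (l := 5) rfl N2307 D7219
theorem N4994 : nd 4994 = n7220 := ndS (p := 2308) (l := 3) rfl N2308 D7220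
theorem N4995 : nd 4995 = n7221 := ndS (p := 2308) (l := 5) rfl N2308 D7221
theorem N4996 : nd 4996 = n7222 := ndS (p := 2308) (l := 6) rfl N2308 D7222
theorem N4997 : nd 4997 = n7223 := ndS (p := 2309) (l := 0) rfl N2309 D7223
theorem N4998 : nd 4998 = n7224 := ndS (p := 2309) (l := 1) rfl N2309 D7224
theorem N4999 : nd 4999 = n7225 := ndS (p := 2309) (l := 7) rfl N2309 D7225
theorem N5000 : nd 5000 = n7226 := ndS (p := 2310) (l := 0) rfl N2310 D7226
theorem N5001 : nd 5001 = n7227 := ndS (p := 2310) (l := 1) rfl N2310 D7227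
theorem N5002 : nd 5002 = n7228 := ndS (p := 2310) (l := 2) rfl N2310 D7228
theorem N5003 : nd 5003 = n7229 := ndS (p := 2310) (l := 6) rfl N2310 D7229
theorem N5004 : nd 5004 = n7230 := ndS (p := 2311) (l := 0) rfl N2311 D7230
theorem N5005 : nd 5005 = n7231 := ndS (p := 2311) (l := 1) rfl N2311 D7231
theorem N5006 : nd 5006 = n7232 := ndS (p := 2311) (l := 5) rfl N2311 D7232
theorem N5007 : nd 5007 = n7233 := ndS (p := 2311) (l := 7) rfl N2311 D7233
theorem N5008 : nd 5008 = n7236 := ndS (p := 2314) (l := 0) rfl N2314 D7236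
theorem N5009 : nd 5009 = n7237 := ndS (p := 2314) (l := 1) rfl N2314 D7237
theorem N5010 : nd 5010 = n7238 := ndS (p := 2314) (l := 2) rfl N2314 D7238
theorem N5011 : nd 5011 = n7239 := ndS (p := 2314) (l := 5) rfl N2314 D7239
theorem N5012 : nd 5012 = n7240 := ndS (p := 2314) (l := 6) rfl N2314 D7240
theorem N5013 : nd 5013 = n7241 := ndS (p := 2315) (l := 6) rfl N2315 D7241
theorem N5014 : nd 5014 = n7244 := ndS (p := 2316) (l := 5) rfl N2316 D7244
theorem N5015 : nd 5015 = n7246 := ndS (p := 2317) (l := 0) rfl N2317 D7246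
theorem N5016 : nd 5016 = n7247 := ndS (p := 2317) (l := 1) rfl N2317 D7247
theorem N5017 : nd 5017 = n7248 := ndS (p := 2317) (l := 2) rfl N2317 D7248
theorem N5018 : nd 5018 = n7249 := ndS (p := 2317) (l := 4) rfl N2317 D7249
theorem N5019 : nd 5019 = n7250 := ndS (p := 2317) (l := 5) rfl N2317 D7250
theorem N5020 : nd 5020 = n7251 := ndS (p := 2318) (l := 6) rfl N2318 D7251
theorem N5021 : nd 5021 = n7253 := ndS (p := 2319) (l := 3) rfl N2319 D7253
theorem N5022 : nd 5022 = n7254 := ndS (p := 2319) (l := 4) rfl N2319 D7254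
theorem N5023 : nd 5023 = n7255 := ndS (p := 2319) (l := 5) rfl N2319 D7255
theorem N5024 : nd 5024 = n7258 := ndS (p := 2320) (l := 3) rfl N2320 D7258
theorem N5025 : nd 5025 = n7259 := ndS (p := 2320) (l := 4) rfl N2320 D7259
theorem N5026 : nd 5026 = n7260 := ndS (p := 2320) (l := 5) rfl N2320 D7260
theorem N5027 : nd 5027 = n7261 := ndS (p := 2320) (l := 6) rfl N2320 D7261
theorem N5028 : nd 5028 = n7262 := ndS (p := 2321) (l := 5) rfl N2321 D7262
theorem N5029 : nd 5029 = n7263 := ndS (p := 2321) (l := 6) rfl N2321 D7263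
theorem N5030 : nd 5030 = n7264 := ndS (p := 2322) (l := 0) rfl N2322 D7264
theorem N5031 : nd 5031 = n7265 := ndS (p := 2322) (l := 1) rfl N2322 D7265
theorem N5032 : nd 5032 = n7266 := ndS (p := 2322) (l := 4) rfl N2322 D7266
theorem N5033 : nd 5033 = n7267 := ndS (p := 2322) (l := 6) rfl N2322 D7267
theorem N5034 : nd 5034 = n7268 := ndS (p := 2323) (l := 0) rfl N2323 D7268
theorem N5035 : nd 5035 = n7270 := ndS (p := 2323) (l := 5) rfl N2323 D7270
theorem N5036 : nd 5036 = n7272 := ndS (p := 2324) (l := 0) rfl N2324 D7272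
theorem N5037 : nd 5037 = n7273 := ndS (p := 2324) (l := 1) rfl N2324 D7273
theorem N5038 : nd 5038 = n7274 := ndS (p := 2324) (l := 5) rfl N2324 D7274
theorem N5039 : nd 5039 = n7275 := ndS (p := 2324) (l := 7) rfl N2324 D7275
theorem N5040 : nd 5040 = n7277 := ndS (p := 2325) (l := 3) rfl N2325 D7277
theorem N5041 : nd 5041 = n7278 := ndS (p := 2325) (l := 5) rfl N2325 D7278
theorem N5042 : nd 5042 = n7280 := ndS (p := 2326) (l := 3) rfl N2326 D7280
theorem N5043 : nd 5043 = n7281 := ndS (p := 2326) (l := 5) rfl N2326 D7281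
theorem N5044 : nd 5044 = n7282 := ndS (p := 2326) (l := 6) rfl N2326 D7282
theorem N5045 : nd 5045 = n7283 := ndS (p := 2327) (l := 0) rfl N2327 D7283
theorem N5046 : nd 5046 = n7284 := ndS (p := 2327) (l := 1) rfl N2327 D7284
theorem N5047 : nd 5047 = n7285 := ndS (p := 2327) (l := 4) rfl N2327 D7285
theorem N5048 : nd 5048 = n7286 := ndS (p := 2327) (l := 7) rfl N2327 D7286
theorem N5049 : nd 5049 = n7290 := ndS (p := 2329) (l := 4) rfl N2329 D7290
theorem N5050 : nd 5050 = n7291 := ndS (p := 2329) (l := 5) rfl N2329 D7291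
theorem N5051 : nd 5051 = n7292 := ndS (p := 2330) (l := 3) rfl N2330 D7292
theorem N5052 : nd 5052 = n7293 := ndS (p := 2330) (l := 5) rfl N2330 D7293
theorem N5053 : nd 5053 = n7294 := ndS (p := 2331) (l := 4) rfl N2331 D7294
theorem N5054 : nd 5054 = n7301 := ndS (p := 2332) (l := 3) rfl N2332 D7301
theorem N5055 : nd 5055 = n7302 := ndS (p := 2332) (l := 5) rfl N2332 D7302
theorem N5056 : nd 5056 = n7303 := ndS (p := 2332) (l := 6) rfl N2332 D7303
theorem N5057 : nd 5057 = n7304 := ndS (p := 2333) (l := 4) rfl N2333 D7304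
theorem N5058 : nd 5058 = n7305 := ndS (p := 2335) (l := 3) rfl N2335 D7305
theorem N5059 : nd 5059 = n7310 := ndS (p := 2338) (l := 3) rfl N2338 D7310
theorem N5060 : nd 5060 = n7328 := ndS (p := 2341) (l := 3) rfl N2341 D7328
theorem N5061 : nd 5061 = n7330 := ndS (p := 2341) (l := 5) rfl N2341 D7330
theorem N5062 : nd 5062 = n7333 := ndS (p := 2342) (l := 3) rfl N2342 D7333
theorem N5063 : nd 5063 = n7335 := ndS (p := 2342) (l := 5) rfl N2342 D7335
theorem N5064 : nd 5064 = n7339 := ndS (p := 2343) (l := 0) rfl N2343 D7339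
theorem N5065 : nd 5065 = n7340 := ndS (p := 2343) (l := 1) rfl N2343 D7340
theorem N5066 : nd 5066 = n7341 := ndS (p := 2343) (l := 4) rfl N2343 D7341
theorem N5067 : nd 5067 = n7342 := ndS (p := 2343) (l := 6) rfl N2343 D7342
theorem N5068 : nd 5068 = n7347 := ndS (p := 2344) (l := 0) rfl N2344 D7347
theorem N5069 : nd 5069 = n7348 := ndS (p := 2344) (l := 1) rfl N2344 D7348
theorem N5070 : nd 5070 = n7350 := ndS (p := 2344) (l := 7) rfl N2344 D7350
theorem N5071 : nd 5071 = n7359 := ndS (p := 2345) (l := 3) rfl N2345 D7359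
theorem N5072 : nd 5072 = n7360 := ndS (p := 2345) (l := 5) rfl N2345 D7360
theorem N5073 : nd 5073 = n7361 := ndS (p := 2346) (l := 4) rfl N2346 D7361
theorem N5074 : nd 5074 = n7363 := ndS (p := 2347) (l := 5) rfl N2347 D7363
theorem N5075 : nd 5075 = n7365 := ndS (p := 2348) (l := 3) rfl N2348 D7365
theorem N5076 : nd 5076 = n7366 := ndS (p := 2348) (l := 4) rfl N2348 D7366
theorem N5077 : nd 5077 = n7368 := ndS (p := 2348) (l := 6) rfl N2348 D7368
theorem N5078 : nd 5078 = n7370 := ndS (p := 2349) (l := 3) rfl N2349 D7370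
theorem N5079 : nd 5079 = n7371 := ndS (p := 2349) (l := 4) rfl N2349 D7371
theorem N5080 : nd 5080 = n7374 := ndS (p := 2350) (l := 5) rfl N2350 D7374
theorem N5081 : nd 5081 = n7375 := ndS (p := 2351) (l := 0) rfl N2351 D7375
theorem N5082 : nd 5082 = n7376 := ndS (p := 2351) (l := 1) rfl N2351 D7376
theorem N5083 : nd 5083 = n7377 := ndS (p := 2351) (l := 4) rfl N2351 D7377
theorem N5084 : nd 5084 = n7378 := ndS (p := 2351) (l := 6) rfl N2351 D7378
theorem N5085 : nd 5085 = n7379 := ndS (p := 2352) (l := 3) rfl N2352 D7379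
theorem N5086 : nd 5086 = n7380 := ndS (p := 2352) (l := 6) rfl N2352 D7380
theorem N5087 : nd 5087 = n7381 := ndS (p := 2353) (l := 3) rfl N2353 D7381
theorem N5088 : nd 5088 = n7382 := ndS (p := 2353) (l := 6) rfl N2353 D7382
theorem N5089 : nd 5089 = n7383 := ndS (p := 2354) (l := 0) rfl N2354 D7383
theorem N5090 : nd 5090 = n7384 := ndS (p := 2354) (l := 1) rfl N2354 D7384
theorem N5091 : nd 5091 = n7385 := ndS (p := 2354) (l := 7) rfl N2354 D7385
theorem N5092 : nd 5092 = n7394 := ndS (p := 2357) (l := 5) rfl N2357 D7394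
theorem N5093 : nd 5093 = n7397 := ndS (p := 2358) (l := 3) rfl N2358 D7397
theorem N5094 : nd 5094 = n7399 := ndS (p := 2358) (l := 5) rfl N2358 D7399
theorem N5095 : nd 5095 = n7402 := ndS (p := 2359) (l := 3) rfl N2359 D7402
theorem N5096 : nd 5096 = n7404 := ndS (p := 2359) (l := 5) rfl N2359 D7404
theorem N5097 : nd 5097 = n7407 := ndS (p := 2361) (l := 3) rfl N2361 D7407
theorem N5098 : nd 5098 = n7412 := ndS (p := 2362) (l := 3) rfl N2362 D7412
theorem N5099 : nd 5099 = n7416 := ndS (p := 2363) (l := 5) rfl N2363 D7416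
theorem N5100 : nd 5100 = n7418 := ndS (p := 2364) (l := 0) rfl N2364 D7418
theorem N5101 : nd 5101 = n7419 := ndS (p := 2364) (l := 1) rfl N2364 D7419
theorem N5102 : nd 5102 = n7420 := ndS (p := 2364) (l := 4) rfl N2364 D7420
theorem N5103 : nd 5103 = n7421 := ndS (p := 2364) (l := 6) rfl N2364 D7421
theorem N5104 : nd 5104 = n7424 := ndS (p := 2365) (l := 5) rfl N2365 D7424
theorem N5105 : nd 5105 = n7426 := ndS (p := 2366) (l := 0) rfl N2366 D7426
theorem N5106 : nd 5106 = n7427 := ndS (p := 2366) (l := 1) rfl N2366 D7427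
theorem N5107 : nd 5107 = n7428 := ndS (p := 2366) (l := 5) rfl N2366 D7428
theorem N5108 : nd 5108 = n7429 := ndS (p := 2366) (l := 7) rfl N2366 D7429
theorem N5109 : nd 5109 = n7431 := ndS (p := 2367) (l := 3) rfl N2367 D7431
theorem N5110 : nd 5110 = n7433 := ndS (p := 2367) (l := 5) rfl N2367 D7433
theorem N5111 : nd 5111 = n7436 := ndS (p := 2368) (l := 3) rfl N2368 D7436
theorem N5112 : nd 5112 = n7437 := ndS (p := 2368) (l := 5) rfl N2368 D7437
theorem N5113 : nd 5113 = n7439 := ndS (p := 2369) (l := 0) rfl N2369 D7439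
theorem N5114 : nd 5114 = n7440 := ndS (p := 2369) (l := 1) rfl N2369 D7440
theorem N5115 : nd 5115 = n7442 := ndS (p := 2369) (l := 7) rfl N2369 D7442
theorem N5116 : nd 5116 = n7447 := ndS (p := 2371) (l := 3) rfl N2371 D7447
theorem N5117 : nd 5117 = n7448 := ndS (p := 2371) (l := 5) rfl N2371 D7448
theorem N5118 : nd 5118 = n7452 := ndS (p := 2372) (l := 4) rfl N2372 D7452
theorem N5119 : nd 5119 = n7453 := ndS (p := 2373) (l := 3) rfl N2373 D7453
theorem N5120 : nd 5120 = n7454 := ndS (p := 2373) (l := 5) rfl N2373 D7454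
theorem N5121 : nd 5121 = n7456 := ndS (p := 2374) (l := 3) rfl N2374 D7456
theorem N5122 : nd 5122 = n7457 := ndS (p := 2374) (l := 4) rfl N2374 D7457
theorem N5123 : nd 5123 = n7458 := ndS (p := 2374) (l := 5) rfl N2374 D7458
theorem N5124 : nd 5124 = n7459 := ndS (p := 2374) (l := 6) rfl N2374 D7459
theorem N5125 : nd 5125 = n7461 := ndS (p := 2375) (l := 3) rfl N2375 D7461
theorem N5126 : nd 5126 = n7462 := ndS (p := 2375) (l := 4) rfl N2375 D7462
theorem N5127 : nd 5127 = n7463 := ndS (p := 2375) (l := 5) rfl N2375 D7463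
theorem N5128 : nd 5128 = n7465 := ndS (p := 2376) (l := 4) rfl N2376 D7465
theorem N5129 : nd 5129 = n7466 := ndS (p := 2376) (l := 5) rfl N2376 D7466
theorem N5130 : nd 5130 = n7467 := ndS (p := 2376) (l := 6) rfl N2376 D7467
theorem N5131 : nd 5131 = n7468 := ndS (p := 2377) (l := 0) rfl N2377 D7468
theorem N5132 : nd 5132 = n7469 := ndS (p := 2377) (l := 1) rfl N2377 D7469
theorem N5133 : nd 5133 = n7470 := ndS (p := 2377) (l := 5) rfl N2377 D7470
theorem N5134 : nd 5134 = n7471 := ndS (p := 2377) (l := 6) rfl N2377 D7471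
theorem N5135 : nd 5135 = n7472 := ndS (p := 2378) (l := 0) rfl N2378 D7472
theorem N5136 : nd 5136 = n7473 := ndS (p := 2378) (l := 1) rfl N2378 D7473
theorem N5137 : nd 5137 = n7474 := ndS (p := 2378) (l := 4) rfl N2378 D7474
theorem N5138 : nd 5138 = n7476 := ndS (p := 2379) (l := 0) rfl N2379 D7476
theorem N5139 : nd 5139 = n7477 := ndS (p := 2379) (l := 1) rfl N2379 D7477
theorem N5140 : nd 5140 = n7478 := ndS (p := 2379) (l := 5) rfl N2379 D7478
theorem N5141 : nd 5141 = n7479 := ndS (p := 2379) (l := 7) rfl N2379 D7479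
theorem N5142 : nd 5142 = n7480 := ndS (p := 2380) (l := 0) rfl N2380 D7480
theorem N5143 : nd 5143 = n7481 := ndS (p := 2380) (l := 1) rfl N2380 D7481
theorem N5144 : nd 5144 = n7482 := ndS (p := 2380) (l := 5) rfl N2380 D7482
theorem N5145 : nd 5145 = n7484 := ndS (p := 2381) (l := 4) rfl N2381 D7484
theorem N5146 : nd 5146 = n7485 := ndS (p := 2381) (l := 7) rfl N2381 D7485
theorem N5147 : nd 5147 = n7488 := ndS (p := 2383) (l := 4) rfl N2383 D7488
theorem N5148 : nd 5148 = n7489 := ndS (p := 2383) (l := 5) rfl N2383 D7489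
theorem N5149 : nd 5149 = n7492 := ndS (p := 2384) (l := 3) rfl N2384 D7492
theorem N5150 : nd 5150 = n7493 := ndS (p := 2384) (l := 4) rfl N2384 D7493
theorem N5151 : nd 5151 = n7494 := ndS (p := 2384) (l := 5) rfl N2384 D7494
theorem N5152 : nd 5152 = n7495 := ndS (p := 2384) (l := 6) rfl N2384 D7495
theorem N5153 : nd 5153 = n7496 := ndS (p := 2385) (l := 4) rfl N2385 D7496
theorem N5154 : nd 5154 = n7497 := ndS (p := 2385) (l := 5) rfl N2385 D7497
theorem N5155 : nd 5155 = n7498 := ndS (p := 2385) (l := 6) rfl N2385 D7498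
theorem N5156 : nd 5156 = n7499 := ndS (p := 2386) (l := 0) rfl N2386 D7499
theorem N5157 : nd 5157 = n7500 := ndS (p := 2386) (l := 1) rfl N2386 D7500
theorem N5158 : nd 5158 = n7501 := ndS (p := 2386) (l := 5) rfl N2386 D7501
theorem N5159 : nd 5159 = n7502 := ndS (p := 2386) (l := 6) rfl N2386 D7502
theorem N5160 : nd 5160 = n7503 := ndS (p := 2387) (l := 0) rfl N2387 D7503
theorem N5161 : nd 5161 = n7504 := ndS (p := 2387) (l := 1) rfl N2387 D7504
theorem N5162 : nd 5162 = n7505 := ndS (p := 2387) (l := 4) rfl N2387 D7505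
theorem N5163 : nd 5163 = n7506 := ndS (p := 2387) (l := 6) rfl N2387 D7506
theorem N5164 : nd 5164 = n7508 := ndS (p := 2388) (l := 1) rfl N2388 D7508
theorem N5165 : nd 5165 = n7509 := ndS (p := 2388) (l := 5) rfl N2388 D7509
theorem N5166 : nd 5166 = n7510 := ndS (p := 2388) (l := 7) rfl N2388 D7510
theorem N5167 : nd 5167 = n7511 := ndS (p := 2389) (l := 0) rfl N2389 D7511
theorem N5168 : nd 5168 = n7512 := ndS (p := 2389) (l := 1) rfl N2389 D7512
theorem N5169 : nd 5169 = n7513 := ndS (p := 2389) (l := 5) rfl N2389 D7513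
theorem N5170 : nd 5170 = n7514 := ndS (p := 2389) (l := 7) rfl N2389 D7514
theorem N5171 : nd 5171 = n7515 := ndS (p := 2390) (l := 0) rfl N2390 D7515
theorem N5172 : nd 5172 = n7518 := ndS (p := 2390) (l := 7) rfl N2390 D7518
theorem N5173 : nd 5173 = n7519 := ndS (p := 2392) (l := 6) rfl N2392 D7519
theorem N5174 : nd 5174 = n7522 := ndS (p := 2393) (l := 3) rfl N2393 D7522
theorem N5175 : nd 5175 = n7524 := ndS (p := 2393) (l := 5) rfl N2393 D7524
theorem N5176 : nd 5176 = n7525 := ndS (p := 2393) (l := 6) rfl N2393 D7525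
theorem N5177 : nd 5177 = n7527 := ndS (p := 2394) (l := 1) rfl N2394 D7527
theorem N5178 : nd 5178 = n7529 := ndS (p := 2394) (l := 5) rfl N2394 D7529
theorem N5179 : nd 5179 = n7530 := ndS (p := 2394) (l := 6) rfl N2394 D7530
theorem N5180 : nd 5180 = n7532 := ndS (p := 2395) (l := 0) rfl N2395 D7532
theorem N5181 : nd 5181 = n7533 := ndS (p := 2395) (l := 1) rfl N2395 D7533
theorem N5182 : nd 5182 = n7534 := ndS (p := 2395) (l := 3) rfl N2395 D7534
theorem N5183 : nd 5183 = n7535 := ndS (p := 2395) (l := 5) rfl N2395 D7535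
theorem N5184 : nd 5184 = n7536 := ndS (p := 2395) (l := 6) rfl N2395 D7536
theorem N5185 : nd 5185 = n7537 := ndS (p := 2395) (l := 7) rfl N2395 D7537
theorem N5186 : nd 5186 = n7538 := ndS (p := 2396) (l := 0) rfl N2396 D7538
theorem N5187 : nd 5187 = n7540 := ndS (p := 2396) (l := 4) rfl N2396 D7540
theorem N5188 : nd 5188 = n7541 := ndS (p := 2396) (l := 6) rfl N2396 D7541
theorem N5189 : nd 5189 = n7542 := ndS (p := 2396) (l := 7) rfl N2396 D7542
theorem N5190 : nd 5190 = n7543 := ndS (p := 2397) (l := 0) rfl N2397 D7543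
theorem N5191 : nd 5191 = n7545 := ndS (p := 2397) (l := 5) rfl N2397 D7545
theorem N5192 : nd 5192 = n7546 := ndS (p := 2397) (l := 7) rfl N2397 D7546
theorem N5193 : nd 5193 = n7547 := ndS (p := 2398) (l := 6) rfl N2398 D7547
theorem N5194 : nd 5194 = n7548 := ndS (p := 2399) (l := 0) rfl N2399 D7548
theorem N5195 : nd 5195 = n7550 := ndS (p := 2399) (l := 2) rfl N2399 D7550
theorem N5196 : nd 5196 = n7552 := ndS (p := 2399) (l := 5) rfl N2399 D7552
theorem N5197 : nd 5197 = n7553 := ndS (p := 2399) (l := 6) rfl N2399 D7553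
theorem N5198 : nd 5198 = n7554 := ndS (p := 2400) (l := 5) rfl N2400 D7554
theorem N5199 : nd 5199 = n7555 := ndS (p := 2400) (l := 6) rfl N2400 D7555
theorem N5200 : nd 5200 = n7556 := ndS (p := 2401) (l := 4) rfl N2401 D7556
theorem N5201 : nd 5201 = n7557 := ndS (p := 2401) (l := 6) rfl N2401 D7557
theorem N5202 : nd 5202 = n7559 := ndS (p := 2402) (l := 1) rfl N2402 D7559
theorem N5203 : nd 5203 = n7560 := ndS (p := 2402) (l := 5) rfl N2402 D7560
theorem N5204 : nd 5204 = n7561 := ndS (p := 2402) (l := 7) rfl N2402 D7561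
theorem N5205 : nd 5205 = n7564 := ndS (p := 2403) (l := 4) rfl N2403 D7564
theorem N5206 : nd 5206 = n7565 := ndS (p := 2403) (l := 6) rfl N2403 D7565
theorem N5207 : nd 5207 = n7567 := ndS (p := 2404) (l := 3) rfl N2404 D7567
theorem N5208 : nd 5208 = n7568 := ndS (p := 2404) (l := 4) rfl N2404 D7568
theorem N5209 : nd 5209 = n7570 := ndS (p := 2404) (l := 6) rfl N2404 D7570
theorem N5210 : nd 5210 = n7572 := ndS (p := 2405) (l := 3) rfl N2405 D7572
theorem N5211 : nd 5211 = n7573 := ndS (p := 2405) (l := 4) rfl N2405 D7573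
theorem N5212 : nd 5212 = n7575 := ndS (p := 2405) (l := 6) rfl N2405 D7575
theorem N5213 : nd 5213 = n7576 := ndS (p := 2406) (l := 0) rfl N2406 D7576
theorem N5214 : nd 5214 = n7577 := ndS (p := 2406) (l := 1) rfl N2406 D7577
theorem N5215 : nd 5215 = n7578 := ndS (p := 2406) (l := 5) rfl N2406 D7578
theorem N5216 : nd 5216 = n7579 := ndS (p := 2406) (l := 6) rfl N2406 D7579
theorem N5217 : nd 5217 = n7580 := ndS (p := 2407) (l := 0) rfl N2407 D7580
theorem N5218 : nd 5218 = n7581 := ndS (p := 2407) (l := 1) rfl N2407 D7581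
theorem N5219 : nd 5219 = n7582 := ndS (p := 2407) (l := 7) rfl N2407 D7582
theorem N5220 : nd 5220 = n7583 := ndS (p := 2408) (l := 0) rfl N2408 D7583
theorem N5221 : nd 5221 = n7584 := ndS (p := 2408) (l := 1) rfl N2408 D7584
theorem N5222 : nd 5222 = n7585 := ndS (p := 2408) (l := 5) rfl N2408 D7585
theorem N5223 : nd 5223 = n7588 := ndS (p := 2409) (l := 2) rfl N2409 D7588
theorem N5224 : nd 5224 = n7589 := ndS (p := 2409) (l := 4) rfl N2409 D7589
theorem N5225 : nd 5225 = n7590 := ndS (p := 2409) (l := 6) rfl N2409 D7590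
theorem N5226 : nd 5226 = n7591 := ndS (p := 2410) (l := 0) rfl N2410 D7591
theorem N5227 : nd 5227 = n7592 := ndS (p := 2410) (l := 1) rfl N2410 D7592
theorem N5228 : nd 5228 = n7593 := ndS (p := 2410) (l := 5) rfl N2410 D7593
theorem N5229 : nd 5229 = n7594 := ndS (p := 2410) (l := 7) rfl N2410 D7594
theorem N5230 : nd 5230 = n7597 := ndS (p := 2411) (l := 2) rfl N2411 D7597
theorem N5231 : nd 5231 = n7598 := ndS (p := 2411) (l := 4) rfl N2411 D7598
theorem N5232 : nd 5232 = n7599 := ndS (p := 2411) (l := 6) rfl N2411 D7599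
theorem N5233 : nd 5233 = n7600 := ndS (p := 2412) (l := 0) rfl N2412 D7600
theorem N5234 : nd 5234 = n7601 := ndS (p := 2412) (l := 1) rfl N2412 D7601
theorem N5235 : nd 5235 = n7602 := ndS (p := 2412) (l := 5) rfl N2412 D7602
theorem N5236 : nd 5236 = n7603 := ndS (p := 2412) (l := 7) rfl N2412 D7603
theorem N5237 : nd 5237 = n7605 := ndS (p := 2413) (l := 3) rfl N2413 D7605
theorem N5238 : nd 5238 = n7606 := ndS (p := 2413) (l := 4) rfl N2413 D7606
theorem N5239 : nd 5239 = n7607 := ndS (p := 2413) (l := 5) rfl N2413 D7607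
theorem N5240 : nd 5240 = n7608 := ndS (p := 2413) (l := 6) rfl N2413 D7608
theorem N5241 : nd 5241 = n7610 := ndS (p := 2414) (l := 3) rfl N2414 D7610
theorem N5242 : nd 5242 = n7611 := ndS (p := 2414) (l := 4) rfl N2414 D7611
theorem N5243 : nd 5243 = n7612 := ndS (p := 2414) (l := 5) rfl N2414 D7612
theorem N5244 : nd 5244 = n7613 := ndS (p := 2414) (l := 6) rfl N2414 D7613
theorem N5245 : nd 5245 = n7615 := ndS (p := 2416) (l := 3) rfl N2416 D7615
theorem N5246 : nd 5246 = n7617 := ndS (p := 2416) (l := 5) rfl N2416 D7617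
theorem N5247 : nd 5247 = n7622 := ndS (p := 2417) (l := 5) rfl N2417 D7622
theorem N5248 : nd 5248 = n7624 := ndS (p := 2418) (l := 0) rfl N2418 D7624
theorem N5249 : nd 5249 = n7625 := ndS (p := 2418) (l := 1) rfl N2418 D7625
theorem N5250 : nd 5250 = n7626 := ndS (p := 2418) (l := 4) rfl N2418 D7626
theorem N5251 : nd 5251 = n7629 := ndS (p := 2419) (l := 3) rfl N2419 D7629
theorem N5252 : nd 5252 = n7630 := ndS (p := 2419) (l := 5) rfl N2419 D7630
theorem N5253 : nd 5253 = n7631 := ndS (p := 2420) (l := 0) rfl N2420 D7631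
theorem N5254 : nd 5254 = n7632 := ndS (p := 2420) (l := 4) rfl N2420 D7632
theorem N5255 : nd 5255 = n7639 := ndS (p := 2421) (l := 4) rfl N2421 D7639
theorem N5256 : nd 5256 = n7640 := ndS (p := 2422) (l := 0) rfl N2422 D7640
theorem N5257 : nd 5257 = n7641 := ndS (p := 2422) (l := 1) rfl N2422 D7641
theorem N5258 : nd 5258 = n7642 := ndS (p := 2422) (l := 2) rfl N2422 D7642
theorem N5259 : nd 5259 = n7643 := ndS (p := 2423) (l := 6) rfl N2423 D7643
theorem N5260 : nd 5260 = n7646 := ndS (p := 2424) (l := 5) rfl N2424 D7646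
theorem N5261 : nd 5261 = n7650 := ndS (p := 2425) (l := 5) rfl N2425 D7650
theorem N5262 : nd 5262 = n7652 := ndS (p := 2426) (l := 0) rfl N2426 D7652
theorem N5263 : nd 5263 = n7653 := ndS (p := 2426) (l := 1) rfl N2426 D7653
theorem N5264 : nd 5264 = n7654 := ndS (p := 2426) (l := 5) rfl N2426 D7654
theorem N5265 : nd 5265 = n7655 := ndS (p := 2426) (l := 7) rfl N2426 D7655
theorem N5266 : nd 5266 = n7657 := ndS (p := 2427) (l := 3) rfl N2427 D7657
theorem N5267 : nd 5267 = n7658 := ndS (p := 2427) (l := 4) rfl N2427 D7658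
theorem N5268 : nd 5268 = n7659 := ndS (p := 2427) (l := 5) rfl N2427 D7659
theorem N5269 : nd 5269 = n7660 := ndS (p := 2427) (l := 6) rfl N2427 D7660
theorem N5270 : nd 5270 = n7662 := ndS (p := 2428) (l := 3) rfl N2428 D7662
theorem N5271 : nd 5271 = n7663 := ndS (p := 2428) (l := 4) rfl N2428 D7663
theorem N5272 : nd 5272 = n7664 := ndS (p := 2428) (l := 5) rfl N2428 D7664
theorem N5273 : nd 5273 = n7665 := ndS (p := 2428) (l := 6) rfl N2428 D7665
theorem N5274 : nd 5274 = n7666 := ndS (p := 2429) (l := 0) rfl N2429 D7666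
theorem N5275 : nd 5275 = n7667 := ndS (p := 2429) (l := 1) rfl N2429 D7667
theorem N5276 : nd 5276 = n7668 := ndS (p := 2429) (l := 4) rfl N2429 D7668
theorem N5277 : nd 5277 = n7669 := ndS (p := 2429) (l := 7) rfl N2429 D7669
theorem N5278 : nd 5278 = n7673 := ndS (p := 2431) (l := 5) rfl N2431 D7673
theorem N5279 : nd 5279 = n7674 := ndS (p := 2431) (l := 6) rfl N2431 D7674
theorem N5280 : nd 5280 = n7675 := ndS (p := 2432) (l := 4) rfl N2432 D7675
theorem N5281 : nd 5281 = n7676 := ndS (p := 2432) (l := 6) rfl N2432 D7676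
theorem N5282 : nd 5282 = n7677 := ndS (p := 2434) (l := 4) rfl N2434 D7677
theorem N5283 : nd 5283 = n7678 := ndS (p := 2434) (l := 5) rfl N2434 D7678
theorem N5284 : nd 5284 = n7679 := ndS (p := 2434) (l := 6) rfl N2434 D7679
theorem N5285 : nd 5285 = n7680 := ndS (p := 2435) (l := 4) rfl N2435 D7680
theorem N5286 : nd 5286 = n7681 := ndS (p := 2435) (l := 6) rfl N2435 D7681
theorem N5287 : nd 5287 = n7682 := ndS (p := 2437) (l := 3) rfl N2437 D7682
theorem N5288 : nd 5288 = n7683 := ndS (p := 2437) (l := 4) rfl N2437 D7683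
theorem N5289 : nd 5289 = n7684 := ndS (p := 2437) (l := 6) rfl N2437 D7684
theorem N5290 : nd 5290 = n7685 := ndS (p := 2438) (l := 3) rfl N2438 D7685
theorem N5291 : nd 5291 = n7686 := ndS (p := 2438) (l := 4) rfl N2438 D7686
theorem N5292 : nd 5292 = n7687 := ndS (p := 2438) (l := 6) rfl N2438 D7687
theorem N5293 : nd 5293 = n7688 := ndS (p := 2439) (l := 0) rfl N2439 D7688
theorem N5294 : nd 5294 = n7689 := ndS (p := 2439) (l := 1) rfl N2439 D7689
theorem N5295 : nd 5295 = n7690 := ndS (p := 2439) (l := 3) rfl N2439 D7690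
theorem N5296 : nd 5296 = n7691 := ndS (p := 2439) (l := 5) rfl N2439 D7691
theorem N5297 : nd 5297 = n7692 := ndS (p := 2439) (l := 7) rfl N2439 D7692
theorem N5298 : nd 5298 = n7693 := ndS (p := 2440) (l := 6) rfl N2440 D7693
theorem N5299 : nd 5299 = n7697 := ndS (p := 2441) (l := 5) rfl N2441 D7697
theorem N5300 : nd 5300 = n7698 := ndS (p := 2441) (l := 6) rfl N2441 D7698
theorem N5301 : nd 5301 = n7699 := ndS (p := 2442) (l := 4) rfl N2442 D7699
theorem N5302 : nd 5302 = n7700 := ndS (p := 2442) (l := 6) rfl N2442 D7700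
theorem N5303 : nd 5303 = n7701 := ndS (p := 2444) (l := 0) rfl N2444 D7701
theorem N5304 : nd 5304 = n7703 := ndS (p := 2444) (l := 5) rfl N2444 D7703
theorem N5305 : nd 5305 = n7706 := ndS (p := 2448) (l := 5) rfl N2448 D7706
theorem N5306 : nd 5306 = n7707 := ndS (p := 2448) (l := 6) rfl N2448 D7707
theorem N5307 : nd 5307 = n7708 := ndS (p := 2449) (l := 4) rfl N2449 D7708
theorem N5308 : nd 5308 = n7709 := ndS (p := 2449) (l := 6) rfl N2449 D7709
theorem N5309 : nd 5309 = n7711 := ndS (p := 2451) (l := 5) rfl N2451 D7711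
theorem N5310 : nd 5310 = n7712 := ndS (p := 2452) (l := 3) rfl N2452 D7712
theorem N5311 : nd 5311 = n7713 := ndS (p := 2452) (l := 5) rfl N2452 D7713
theorem N5312 : nd 5312 = n7715 := ndS (p := 2453) (l := 6) rfl N2453 D7715
theorem N5313 : nd 5313 = n7717 := ndS (p := 2454) (l := 5) rfl N2454 D7717
theorem N5314 : nd 5314 = n7718 := ndS (p := 2454) (l := 6) rfl N2454 D7718
theorem N5315 : nd 5315 = n7719 := ndS (p := 2456) (l := 3) rfl N2456 D7719
theorem N5316 : nd 5316 = n7720 := ndS (p := 2456) (l := 5) rfl N2456 D7720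
theorem N5317 : nd 5317 = n7721 := ndS (p := 2457) (l := 3) rfl N2457 D7721
theorem N5318 : nd 5318 = n7722 := ndS (p := 2457) (l := 5) rfl N2457 D7722
theorem N5319 : nd 5319 = n7723 := ndS (p := 2457) (l := 6) rfl N2457 D7723
theorem N5320 : nd 5320 = n7724 := ndS (p := 2458) (l := 0) rfl N2458 D7724
theorem N5321 : nd 5321 = n7725 := ndS (p := 2458) (l := 1) rfl N2458 D7725
theorem N5322 : nd 5322 = n7726 := ndS (p := 2458) (l := 2) rfl N2458 D7726
theorem N5323 : nd 5323 = n7727 := ndS (p := 2458) (l := 5) rfl N2458 D7727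
theorem N5324 : nd 5324 = n7728 := ndS (p := 2458) (l := 7) rfl N2458 D7728
theorem N5325 : nd 5325 = n7729 := ndS (p := 2459) (l := 0) rfl N2459 D7729
theorem N5326 : nd 5326 = n7730 := ndS (p := 2459) (l := 1) rfl N2459 D7730
theorem N5327 : nd 5327 = n7731 := ndS (p := 2459) (l := 4) rfl N2459 D7731
theorem N5328 : nd 5328 = n7732 := ndS (p := 2459) (l := 6) rfl N2459 D7732
theorem N5329 : nd 5329 = n7733 := ndS (p := 2459) (l := 7) rfl N2459 D7733
theorem N5330 : nd 5330 = n7734 := ndS (p := 2460) (l := 6) rfl N2460 D7734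
theorem N5331 : nd 5331 = n7735 := ndS (p := 2462) (l := 0) rfl N2462 D7735
theorem N5332 : nd 5332 = n7736 := ndS (p := 2462) (l := 2) rfl N2462 D7736
theorem N5333 : nd 5333 = n7737 := ndS (p := 2462) (l := 3) rfl N2462 D7737
theorem N5334 : nd 5334 = n7738 := ndS (p := 2462) (l := 4) rfl N2462 D7738
theorem N5335 : nd 5335 = n7740 := ndS (p := 2462) (l := 6) rfl N2462 D7740
theorem N5336 : nd 5336 = n7741 := ndS (p := 2462) (l := 7) rfl N2462 D7741
theorem N5337 : nd 5337 = n7742 := ndS (p := 2463) (l := 3) rfl N2463 D7742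
theorem N5338 : nd 5338 = n7743 := ndS (p := 2463) (l := 4) rfl N2463 D7743
theorem N5339 : nd 5339 = n7745 := ndS (p := 2463) (l := 6) rfl N2463 D7745
theorem N5340 : nd 5340 = n7751 := ndS (p := 2465) (l := 4) rfl N2465 D7751
theorem N5341 : nd 5341 = n7752 := ndS (p := 2465) (l := 6) rfl N2465 D7752
theorem N5342 : nd 5342 = n7753 := ndS (p := 2466) (l := 6) rfl N2466 D7753
theorem N5343 : nd 5343 = n7754 := ndS (p := 2467) (l := 0) rfl N2467 D7754
theorem N5344 : nd 5344 = n7755 := ndS (p := 2467) (l := 1) rfl N2467 D7755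
theorem N5345 : nd 5345 = n7756 := ndS (p := 2467) (l := 7) rfl N2467 D7756
theorem N5346 : nd 5346 = n7757 := ndS (p := 2468) (l := 0) rfl N2468 D7757
theorem N5347 : nd 5347 = n7758 := ndS (p := 2468) (l := 1) rfl N2468 D7758
theorem N5348 : nd 5348 = n7759 := ndS (p := 2468) (l := 5) rfl N2468 D7759
theorem N5349 : nd 5349 = n7760 := ndS (p := 2469) (l := 4) rfl N2469 D7760
theorem N5350 : nd 5350 = n7762 := ndS (p := 2471) (l := 5) rfl N2471 D7762
theorem N5351 : nd 5351 = n7763 := ndS (p := 2471) (l := 6) rfl N2471 D7763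
theorem N5352 : nd 5352 = n7765 := ndS (p := 2472) (l := 1) rfl N2472 D7765
theorem N5353 : nd 5353 = n7766 := ndS (p := 2472) (l := 7) rfl N2472 D7766
theorem N5354 : nd 5354 = n7768 := ndS (p := 2473) (l := 5) rfl N2473 D7768
theorem N5355 : nd 5355 = n7771 := ndS (p := 2474) (l := 6) rfl N2474 D7771
theorem N5356 : nd 5356 = n7774 := ndS (p := 2476) (l := 6) rfl N2476 D7774
theorem N5357 : nd 5357 = n7775 := ndS (p := 2477) (l := 3) rfl N2477 D7775
theorem N5358 : nd 5358 = n7777 := ndS (p := 2478) (l := 6) rfl N2478 D7777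
theorem N5359 : nd 5359 = n7778 := ndS (p := 2479) (l := 0) rfl N2479 D7778
theorem N5360 : nd 5360 = n7779 := ndS (p := 2479) (l := 1) rfl N2479 D7779
theorem N5361 : nd 5361 = n7780 := ndS (p := 2479) (l := 5) rfl N2479 D7780
theorem N5362 : nd 5362 = n7781 := ndS (p := 2479) (l := 7) rfl N2479 D7781
theorem N5363 : nd 5363 = n7782 := ndS (p := 2480) (l := 4) rfl N2480 D7782
theorem N5364 : nd 5364 = n7784 := ndS (p := 2482) (l := 4) rfl N2482 D7784
theorem N5365 : nd 5365 = n7788 := ndS (p := 2483) (l := 3) rfl N2483 D7788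
theorem N5366 : nd 5366 = n7790 := ndS (p := 2483) (l := 6) rfl N2483 D7790
theorem N5367 : nd 5367 = n7791 := ndS (p := 2484) (l := 6) rfl N2484 D7791
theorem N5368 : nd 5368 = n7792 := ndS (p := 2485) (l := 0) rfl N2485 D7792
theorem N5369 : nd 5369 = n7794 := ndS (p := 2485) (l := 5) rfl N2485 D7794
theorem N5370 : nd 5370 = n7795 := ndS (p := 2486) (l := 4) rfl N2486 D7795
theorem N5371 : nd 5371 = n7796 := ndS (p := 2487) (l := 5) rfl N2487 D7796
theorem N5372 : nd 5372 = n7797 := ndS (p := 2487) (l := 6) rfl N2487 D7797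
theorem N5373 : nd 5373 = n7800 := ndS (p := 2488) (l := 3) rfl N2488 D7800
theorem N5374 : nd 5374 = n7802 := ndS (p := 2488) (l := 6) rfl N2488 D7802
theorem N5375 : nd 5375 = n7804 := ndS (p := 2489) (l := 1) rfl N2489 D7804
theorem N5376 : nd 5376 = n7805 := ndS (p := 2489) (l := 2) rfl N2489 D7805
theorem N5377 : nd 5377 = n7806 := ndS (p := 2489) (l := 6) rfl N2489 D7806
theorem N5378 : nd 5378 = n7807 := ndS (p := 2489) (l := 7) rfl N2489 D7807
theorem N5379 : nd 5379 = n7808 := ndS (p := 2490) (l := 6) rfl N2490 D7808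
theorem N5380 : nd 5380 = n7809 := ndS (p := 2491) (l := 0) rfl N2491 D7809
theorem N5381 : nd 5381 = n7811 := ndS (p := 2491) (l := 5) rfl N2491 D7811
theorem N5382 : nd 5382 = n7812 := ndS (p := 2491) (l := 7) rfl N2491 D7812
theorem N5383 : nd 5383 = n7813 := ndS (p := 2493) (l := 2) rfl N2493 D7813
theorem N5384 : nd 5384 = n7814 := ndS (p := 2493) (l := 4) rfl N2493 D7814
theorem N5385 : nd 5385 = n7815 := ndS (p := 2493) (l := 6) rfl N2493 D7815
theorem N5386 : nd 5386 = n7816 := ndS (p := 2494) (l := 6) rfl N2494 D7816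
theorem N5387 : nd 5387 = n7817 := ndS (p := 2495) (l := 5) rfl N2495 D7817
theorem N5388 : nd 5388 = n7818 := ndS (p := 2496) (l := 4) rfl N2496 D7818
theorem N5389 : nd 5389 = n7819 := ndS (p := 2496) (l := 6) rfl N2496 D7819
theorem N5390 : nd 5390 = n7820 := ndS (p := 2497) (l := 3) rfl N2497 D7820
theorem N5391 : nd 5391 = n7821 := ndS (p := 2497) (l := 4) rfl N2497 D7821
theorem N5392 : nd 5392 = n7823 := ndS (p := 2498) (l := 3) rfl N2498 D7823
theorem N5393 : nd 5393 = n7824 := ndS (p := 2498) (l := 4) rfl N2498 D7824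
theorem N5394 : nd 5394 = n7825 := ndS (p := 2498) (l := 6) rfl N2498 D7825
theorem N5395 : nd 5395 = n7826 := ndS (p := 2499) (l := 0) rfl N2499 D7826
theorem N5396 : nd 5396 = n7827 := ndS (p := 2499) (l := 1) rfl N2499 D7827
theorem N5397 : nd 5397 = n7828 := ndS (p := 2499) (l := 3) rfl N2499 D7828
theorem N5398 : nd 5398 = n7829 := ndS (p := 2499) (l := 5) rfl N2499 D7829
theorem N5399 : nd 5399 = n7830 := ndS (p := 2499) (l := 6) rfl N2499 D7830
theorem N5400 : nd 5400 = n7831 := ndS (p := 2499) (l := 7) rfl N2499 D7831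
theorem N5401 : nd 5401 = n7832 := ndS (p := 2500) (l := 0) rfl N2500 D7832
theorem N5402 : nd 5402 = n7833 := ndS (p := 2500) (l := 1) rfl N2500 D7833
theorem N5403 : nd 5403 = n7834 := ndS (p := 2500) (l := 7) rfl N2500 D7834
theorem N5404 : nd 5404 = n7835 := ndS (p := 2501) (l := 6) rfl N2501 D7835
theorem N5405 : nd 5405 = n7836 := ndS (p := 2502) (l := 0) rfl N2502 D7836
theorem N5406 : nd 5406 = n7837 := ndS (p := 2502) (l := 5) rfl N2502 D7837
theorem N5407 : nd 5407 = n7840 := ndS (p := 2503) (l := 2) rfl N2503 D7840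
theorem N5408 : nd 5408 = n7841 := ndS (p := 2503) (l := 6) rfl N2503 D7841
theorem N5409 : nd 5409 = n7842 := ndS (p := 2504) (l := 0) rfl N2504 D7842
theorem N5410 : nd 5410 = n7843 := ndS (p := 2504) (l := 1) rfl N2504 D7843
theorem N5411 : nd 5411 = n7844 := ndS (p := 2504) (l := 5) rfl N2504 D7844
theorem N5412 : nd 5412 = n7845 := ndS (p := 2504) (l := 7) rfl N2504 D7845
theorem N5413 : nd 5413 = n7847 := ndS (p := 2505) (l := 3) rfl N2505 D7847
theorem N5414 : nd 5414 = n7848 := ndS (p := 2505) (l := 4) rfl N2505 D7848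
theorem N5415 : nd 5415 = n7849 := ndS (p := 2505) (l := 5) rfl N2505 D7849
theorem N5416 : nd 5416 = n7850 := ndS (p := 2505) (l := 6) rfl N2505 D7850
theorem N5417 : nd 5417 = n7852 := ndS (p := 2506) (l := 3) rfl N2506 D7852
theorem N5418 : nd 5418 = n7853 := ndS (p := 2506) (l := 4) rfl N2506 D7853
theorem N5419 : nd 5419 = n7854 := ndS (p := 2506) (l := 5) rfl N2506 D7854
theorem N5420 : nd 5420 = n7855 := ndS (p := 2506) (l := 6) rfl N2506 D7855
theorem N5421 : nd 5421 = n7856 := ndS (p := 2507) (l := 6) rfl N2507 D7856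
theorem N5422 : nd 5422 = n7857 := ndS (p := 2508) (l := 0) rfl N2508 D7857
theorem N5423 : nd 5423 = n7858 := ndS (p := 2508) (l := 1) rfl N2508 D7858
theorem N5424 : nd 5424 = n7859 := ndS (p := 2508) (l := 5) rfl N2508 D7859
theorem N5425 : nd 5425 = n7860 := ndS (p := 2509) (l := 4) rfl N2509 D7860
theorem N5426 : nd 5426 = n7861 := ndS (p := 2510) (l := 3) rfl N2510 D7861
theorem N5427 : nd 5427 = n7862 := ndS (p := 2510) (l := 6) rfl N2510 D7862
theorem N5428 : nd 5428 = n7863 := ndS (p := 2511) (l := 0) rfl N2511 D7863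
theorem N5429 : nd 5429 = n7864 := ndS (p := 2511) (l := 7) rfl N2511 D7864
theorem N5430 : nd 5430 = n7865 := ndS (p := 2512) (l := 0) rfl N2512 D7865
theorem N5431 : nd 5431 = n7866 := ndS (p := 2512) (l := 1) rfl N2512 D7866
theorem N5432 : nd 5432 = n7867 := ndS (p := 2512) (l := 2) rfl N2512 D7867
theorem N5433 : nd 5433 = n7868 := ndS (p := 2512) (l := 6) rfl N2512 D7868
theorem N5434 : nd 5434 = n7869 := ndS (p := 2513) (l := 5) rfl N2513 D7869
theorem N5435 : nd 5435 = n7870 := ndS (p := 2513) (l := 7) rfl N2513 D7870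
theorem N5436 : nd 5436 = n7871 := ndS (p := 2514) (l := 5) rfl N2514 D7871
theorem N5437 : nd 5437 = n7872 := ndS (p := 2515) (l := 3) rfl N2515 D7872
theorem N5438 : nd 5438 = n7873 := ndS (p := 2515) (l := 5) rfl N2515 D7873
theorem N5439 : nd 5439 = n7874 := ndS (p := 2515) (l := 6) rfl N2515 D7874
theorem N5440 : nd 5440 = n7875 := ndS (p := 2517) (l := 3) rfl N2517 D7875
theorem N5441 : nd 5441 = n7876 := ndS (p := 2517) (l := 5) rfl N2517 D7876
theorem N5442 : nd 5442 = n7877 := ndS (p := 2517) (l := 6) rfl N2517 D7877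
theorem N5443 : nd 5443 = n7878 := ndS (p := 2518) (l := 0) rfl N2518 D7878
theorem N5444 : nd 5444 = n7879 := ndS (p := 2518) (l := 7) rfl N2518 D7879
theorem N5445 : nd 5445 = n7880 := ndS (p := 2519) (l := 3) rfl N2519 D7880
theorem N5446 : nd 5446 = n7881 := ndS (p := 2519) (l := 5) rfl N2519 D7881
theorem N5447 : nd 5447 = n7882 := ndS (p := 2519) (l := 6) rfl N2519 D7882
theorem N5448 : nd 5448 = n7883 := ndS (p := 2520) (l := 0) rfl N2520 D7883
theorem N5449 : nd 5449 = n7884 := ndS (p := 2520) (l := 1) rfl N2520 D7884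
theorem N5450 : nd 5450 = n7885 := ndS (p := 2520) (l := 7) rfl N2520 D7885
theorem N5451 : nd 5451 = n7886 := ndS (p := 2521) (l := 3) rfl N2521 D7886
theorem N5452 : nd 5452 = n7887 := ndS (p := 2521) (l := 5) rfl N2521 D7887
theorem N5453 : nd 5453 = n7888 := ndS (p := 2521) (l := 6) rfl N2521 D7888
theorem N5454 : nd 5454 = n7889 := ndS (p := 2522) (l := 0) rfl N2522 D7889
theorem N5455 : nd 5455 = n7890 := ndS (p := 2522) (l := 1) rfl N2522 D7890
theorem N5456 : nd 5456 = n7891 := ndS (p := 2522) (l := 7) rfl N2522 D7891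
theorem N5457 : nd 5457 = n7892 := ndS (p := 2523) (l := 3) rfl N2523 D7892
theorem N5458 : nd 5458 = n7893 := ndS (p := 2523) (l := 5) rfl N2523 D7893
theorem N5459 : nd 5459 = n7894 := ndS (p := 2524) (l := 3) rfl N2524 D7894
theorem N5460 : nd 5460 = n7895 := ndS (p := 2524) (l := 5) rfl N2524 D7895
theorem N5461 : nd 5461 = n7896 := ndS (p := 2524) (l := 6) rfl N2524 D7896
theorem N5462 : nd 5462 = n7897 := ndS (p := 2525) (l := 0) rfl N2525 D7897
theorem N5463 : nd 5463 = n7898 := ndS (p := 2525) (l := 1) rfl N2525 D7898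
theorem N5464 : nd 5464 = n7899 := ndS (p := 2525) (l := 2) rfl N2525 D7899
theorem N5465 : nd 5465 = n7900 := ndS (p := 2525) (l := 5) rfl N2525 D7900
theorem N5466 : nd 5466 = n7901 := ndS (p := 2525) (l := 6) rfl N2525 D7901
theorem N5467 : nd 5467 = n7902 := ndS (p := 2526) (l := 6) rfl N2526 D7902
theorem N5468 : nd 5468 = n7903 := ndS (p := 2527) (l := 0) rfl N2527 D7903
theorem N5469 : nd 5469 = n7904 := ndS (p := 2527) (l := 1) rfl N2527 D7904
theorem N5470 : nd 5470 = n7905 := ndS (p := 2527) (l := 5) rfl N2527 D7905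
theorem N5471 : nd 5471 = n7906 := ndS (p := 2527) (l := 7) rfl N2527 D7906
theorem N5472 : nd 5472 = n7909 := ndS (p := 2528) (l := 4) rfl N2528 D7909
theorem N5473 : nd 5473 = n7911 := ndS (p := 2528) (l := 6) rfl N2528 D7911
theorem N5474 : nd 5474 = n7914 := ndS (p := 2529) (l := 4) rfl N2529 D7914
theorem N5475 : nd 5475 = n7915 := ndS (p := 2529) (l := 5) rfl N2529 D7915
theorem N5476 : nd 5476 = n7916 := ndS (p := 2529) (l := 6) rfl N2529 D7916
theorem N5477 : nd 5477 = n7917 := ndS (p := 2531) (l := 0) rfl N2531 D7917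
theorem N5478 : nd 5478 = n7918 := ndS (p := 2531) (l := 1) rfl N2531 D7918
theorem N5479 : nd 5479 = n7919 := ndS (p := 2531) (l := 7) rfl N2531 D7919
theorem N5480 : nd 5480 = n7920 := ndS (p := 2532) (l := 0) rfl N2532 D7920
theorem N5481 : nd 5481 = n7921 := ndS (p := 2532) (l := 1) rfl N2532 D7921
theorem N5482 : nd 5482 = n7922 := ndS (p := 2532) (l := 2) rfl N2532 D7922
theorem N5483 : nd 5483 = n7923 := ndS (p := 2532) (l := 6) rfl N2532 D7923
theorem N5484 : nd 5484 = n7926 := ndS (p := 2533) (l := 5) rfl N2533 D7926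
theorem N5485 : nd 5485 = n7927 := ndS (p := 2533) (l := 7) rfl N2533 D7927
theorem N5486 : nd 5486 = n7928 := ndS (p := 2534) (l := 5) rfl N2534 D7928
theorem N5487 : nd 5487 = n7930 := ndS (p := 2537) (l := 3) rfl N2537 D7930
theorem N5488 : nd 5488 = n7931 := ndS (p := 2537) (l := 4) rfl N2537 D7931
theorem N5489 : nd 5489 = n7932 := ndS (p := 2537) (l := 5) rfl N2537 D7932
theorem N5490 : nd 5490 = n7933 := ndS (p := 2537) (l := 6) rfl N2537 D7933
theorem N5491 : nd 5491 = n7935 := ndS (p := 2538) (l := 3) rfl N2538 D7935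
theorem N5492 : nd 5492 = n7936 := ndS (p := 2538) (l := 4) rfl N2538 D7936
theorem N5493 : nd 5493 = n7937 := ndS (p := 2538) (l := 5) rfl N2538 D7937
theorem N5494 : nd 5494 = n7938 := ndS (p := 2538) (l := 6) rfl N2538 D7938
theorem N5495 : nd 5495 = n7939 := ndS (p := 2539) (l := 6) rfl N2539 D7939
theorem N5496 : nd 5496 = n7940 := ndS (p := 2540) (l := 0) rfl N2540 D7940
theorem N5497 : nd 5497 = n7941 := ndS (p := 2540) (l := 1) rfl N2540 D7941
theorem N5498 : nd 5498 = n7942 := ndS (p := 2540) (l := 5) rfl N2540 D7942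
theorem N5499 : nd 5499 = n7943 := ndS (p := 2540) (l := 7) rfl N2540 D7943
theorem N5500 : nd 5500 = n7944 := ndS (p := 2541) (l := 0) rfl N2541 D7944
theorem N5501 : nd 5501 = n7945 := ndS (p := 2541) (l := 1) rfl N2541 D7945
theorem N5502 : nd 5502 = n7946 := ndS (p := 2541) (l := 4) rfl N2541 D7946
theorem N5503 : nd 5503 = n7947 := ndS (p := 2541) (l := 7) rfl N2541 D7947
theorem N5504 : nd 5504 = n7954 := ndS (p := 2543) (l := 0) rfl N2543 D7954
theorem N5505 : nd 5505 = n7955 := ndS (p := 2543) (l := 5) rfl N2543 D7955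
theorem N5506 : nd 5506 = n7956 := ndS (p := 2543) (l := 6) rfl N2543 D7956
theorem N5507 : nd 5507 = n7957 := ndS (p := 2544) (l := 3) rfl N2544 D7957
theorem N5508 : nd 5508 = n7958 := ndS (p := 2544) (l := 5) rfl N2544 D7958
theorem N5509 : nd 5509 = n7959 := ndS (p := 2544) (l := 6) rfl N2544 D7959
theorem N5510 : nd 5510 = n7961 := ndS (p := 2545) (l := 6) rfl N2545 D7961
theorem N5511 : nd 5511 = n7962 := ndS (p := 2547) (l := 3) rfl N2547 D7962
theorem N5512 : nd 5512 = n7963 := ndS (p := 2547) (l := 5) rfl N2547 D7963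
theorem N5513 : nd 5513 = n7964 := ndS (p := 2547) (l := 6) rfl N2547 D7964
theorem N5514 : nd 5514 = n7966 := ndS (p := 2549) (l := 5) rfl N2549 D7966
theorem N5515 : nd 5515 = n7967 := ndS (p := 2550) (l := 4) rfl N2550 D7967
theorem N5516 : nd 5516 = n7970 := ndS (p := 2551) (l := 3) rfl N2551 D7970
theorem N5517 : nd 5517 = n7971 := ndS (p := 2551) (l := 4) rfl N2551 D7971
theorem N5518 : nd 5518 = n7973 := ndS (p := 2551) (l := 6) rfl N2551 D7973
theorem N5519 : nd 5519 = n7974 := ndS (p := 2552) (l := 5) rfl N2552 D7974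
theorem N5520 : nd 5520 = n7975 := ndS (p := 2552) (l := 6) rfl N2552 D7975
theorem N5521 : nd 5521 = n7978 := ndS (p := 2553) (l := 4) rfl N2553 D7978
theorem N5522 : nd 5522 = n7979 := ndS (p := 2553) (l := 6) rfl N2553 D7979
theorem N5523 : nd 5523 = n7980 := ndS (p := 2554) (l := 0) rfl N2554 D7980
theorem N5524 : nd 5524 = n7982 := ndS (p := 2554) (l := 5) rfl N2554 D7982
theorem N5525 : nd 5525 = n7983 := ndS (p := 2555) (l := 0) rfl N2555 D7983
theorem N5526 : nd 5526 = n7984 := ndS (p := 2555) (l := 1) rfl N2555 D7984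
theorem N5527 : nd 5527 = n7985 := ndS (p := 2555) (l := 5) rfl N2555 D7985
theorem N5528 : nd 5528 = n7986 := ndS (p := 2555) (l := 7) rfl N2555 D7986
theorem N5529 : nd 5529 = n7987 := ndS (p := 2556) (l := 4) rfl N2556 D7987
theorem N5530 : nd 5530 = n7988 := ndS (p := 2557) (l := 4) rfl N2557 D7988
theorem N5531 : nd 5531 = n7989 := ndS (p := 2557) (l := 5) rfl N2557 D7989
theorem N5532 : nd 5532 = n7990 := ndS (p := 2557) (l := 6) rfl N2557 D7990
theorem N5533 : nd 5533 = n7991 := ndS (p := 2558) (l := 3) rfl N2558 D7991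
theorem N5534 : nd 5534 = n7992 := ndS (p := 2558) (l := 5) rfl N2558 D7992
theorem N5535 : nd 5535 = n7993 := ndS (p := 2558) (l := 6) rfl N2558 D7993
theorem N5536 : nd 5536 = n7994 := ndS (p := 2559) (l := 5) rfl N2559 D7994
theorem N5537 : nd 5537 = n7995 := ndS (p := 2559) (l := 6) rfl N2559 D7995
theorem N5538 : nd 5538 = n7996 := ndS (p := 2560) (l := 0) rfl N2560 D7996
theorem N5539 : nd 5539 = n7998 := ndS (p := 2560) (l := 4) rfl N2560 D7998
theorem N5540 : nd 5540 = n7999 := ndS (p := 2560) (l := 6) rfl N2560 D7999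
theorem N5541 : nd 5541 = n8000 := ndS (p := 2561) (l := 0) rfl N2561 D8000
theorem N5542 : nd 5542 = n8001 := ndS (p := 2561) (l := 1) rfl N2561 D8001
theorem N5543 : nd 5543 = n8002 := ndS (p := 2561) (l := 5) rfl N2561 D8002
theorem N5544 : nd 5544 = n8003 := ndS (p := 2562) (l := 0) rfl N2562 D8003
theorem N5545 : nd 5545 = n8004 := ndS (p := 2562) (l := 1) rfl N2562 D8004
theorem N5546 : nd 5546 = n8005 := ndS (p := 2562) (l := 5) rfl N2562 D8005
theorem N5547 : nd 5547 = n8006 := ndS (p := 2562) (l := 7) rfl N2562 D8006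
theorem N5548 : nd 5548 = n8007 := ndS (p := 2563) (l := 4) rfl N2563 D8007
theorem N5549 : nd 5549 = n8008 := ndS (p := 2564) (l := 6) rfl N2564 D8008
theorem N5550 : nd 5550 = n8009 := ndS (p := 2565) (l := 3) rfl N2565 D8009
theorem N5551 : nd 5551 = n8010 := ndS (p := 2565) (l := 6) rfl N2565 D8010
theorem N5552 : nd 5552 = n8011 := ndS (p := 2566) (l := 5) rfl N2566 D8011
theorem N5553 : nd 5553 = n8012 := ndS (p := 2567) (l := 4) rfl N2567 D8012
theorem N5554 : nd 5554 = n8013 := ndS (p := 2567) (l := 6) rfl N2567 D8013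
theorem N5555 : nd 5555 = n8014 := ndS (p := 2568) (l := 0) rfl N2568 D8014
theorem N5556 : nd 5556 = n8015 := ndS (p := 2568) (l := 1) rfl N2568 D8015
theorem N5557 : nd 5557 = n8016 := ndS (p := 2568) (l := 7) rfl N2568 D8016
theorem N5558 : nd 5558 = n8024 := ndS (p := 2569) (l := 2) rfl N2569 D8024
theorem N5559 : nd 5559 = n8025 := ndS (p := 2569) (l := 5) rfl N2569 D8025
theorem N5560 : nd 5560 = n8026 := ndS (p := 2569) (l := 6) rfl N2569 D8026
theorem N5561 : nd 5561 = n8028 := ndS (p := 2570) (l := 3) rfl N2570 D8028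
theorem N5562 : nd 5562 = n8030 := ndS (p := 2570) (l := 6) rfl N2570 D8030
theorem N5563 : nd 5563 = n8033 := ndS (p := 2571) (l := 4) rfl N2571 D8033
theorem N5564 : nd 5564 = n8034 := ndS (p := 2571) (l := 6) rfl N2571 D8034
theorem N5565 : nd 5565 = n8035 := ndS (p := 2572) (l := 0) rfl N2572 D8035
theorem N5566 : nd 5566 = n8037 := ndS (p := 2572) (l := 5) rfl N2572 D8037
theorem N5567 : nd 5567 = n8039 := ndS (p := 2573) (l := 2) rfl N2573 D8039
theorem N5568 : nd 5568 = n8040 := ndS (p := 2573) (l := 5) rfl N2573 D8040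
theorem N5569 : nd 5569 = n8044 := ndS (p := 2575) (l := 4) rfl N2575 D8044
theorem N5570 : nd 5570 = n8045 := ndS (p := 2575) (l := 6) rfl N2575 D8045
theorem N5571 : nd 5571 = n8050 := ndS (p := 2576) (l := 4) rfl N2576 D8050
theorem N5572 : nd 5572 = n8051 := ndS (p := 2576) (l := 6) rfl N2576 D8051
theorem N5573 : nd 5573 = n8052 := ndS (p := 2577) (l := 0) rfl N2577 D8052
theorem N5574 : nd 5574 = n8053 := ndS (p := 2577) (l := 1) rfl N2577 D8053
theorem N5575 : nd 5575 = n8054 := ndS (p := 2577) (l := 5) rfl N2577 D8054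
theorem N5576 : nd 5576 = n8055 := ndS (p := 2577) (l := 7) rfl N2577 D8055
theorem N5577 : nd 5577 = n8057 := ndS (p := 2578) (l := 3) rfl N2578 D8057
theorem N5578 : nd 5578 = n8058 := ndS (p := 2578) (l := 4) rfl N2578 D8058
theorem N5579 : nd 5579 = n8060 := ndS (p := 2578) (l := 6) rfl N2578 D8060
theorem N5580 : nd 5580 = n8062 := ndS (p := 2579) (l := 3) rfl N2579 D8062
theorem N5581 : nd 5581 = n8063 := ndS (p := 2579) (l := 4) rfl N2579 D8063
theorem N5582 : nd 5582 = n8065 := ndS (p := 2579) (l := 6) rfl N2579 D8065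
theorem N5583 : nd 5583 = n8066 := ndS (p := 2580) (l := 0) rfl N2580 D8066
theorem N5584 : nd 5584 = n8067 := ndS (p := 2580) (l := 1) rfl N2580 D8067
theorem N5585 : nd 5585 = n8068 := ndS (p := 2580) (l := 5) rfl N2580 D8068
theorem N5586 : nd 5586 = n8069 := ndS (p := 2580) (l := 6) rfl N2580 D8069
theorem N5587 : nd 5587 = n8070 := ndS (p := 2581) (l := 0) rfl N2581 D8070
theorem N5588 : nd 5588 = n8071 := ndS (p := 2581) (l := 1) rfl N2581 D8071
theorem N5589 : nd 5589 = n8072 := ndS (p := 2581) (l := 5) rfl N2581 D8072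
theorem N5590 : nd 5590 = n8073 := ndS (p := 2581) (l := 7) rfl N2581 D8073
theorem N5591 : nd 5591 = n8075 := ndS (p := 2582) (l := 3) rfl N2582 D8075
theorem N5592 : nd 5592 = n8076 := ndS (p := 2582) (l := 4) rfl N2582 D8076
theorem N5593 : nd 5593 = n8077 := ndS (p := 2582) (l := 5) rfl N2582 D8077
theorem N5594 : nd 5594 = n8080 := ndS (p := 2583) (l := 3) rfl N2583 D8080
theorem N5595 : nd 5595 = n8081 := ndS (p := 2583) (l := 4) rfl N2583 D8081
theorem N5596 : nd 5596 = n8082 := ndS (p := 2583) (l := 5) rfl N2583 D8082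
theorem N5597 : nd 5597 = n8085 := ndS (p := 2584) (l := 1) rfl N2584 D8085
theorem N5598 : nd 5598 = n8086 := ndS (p := 2584) (l := 4) rfl N2584 D8086
theorem N5599 : nd 5599 = n8087 := ndS (p := 2584) (l := 7) rfl N2584 D8087
theorem N5600 : nd 5600 = n8090 := ndS (p := 2586) (l := 2) rfl N2586 D8090
theorem N5601 : nd 5601 = n8091 := ndS (p := 2586) (l := 4) rfl N2586 D8091
theorem N5602 : nd 5602 = n8092 := ndS (p := 2586) (l := 6) rfl N2586 D8092
theorem N5603 : nd 5603 = n8095 := ndS (p := 2587) (l := 5) rfl N2587 D8095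
theorem N5604 : nd 5604 = n8096 := ndS (p := 2587) (l := 7) rfl N2587 D8096
theorem N5605 : nd 5605 = n8098 := ndS (p := 2588) (l := 3) rfl N2588 D8098
theorem N5606 : nd 5606 = n8099 := ndS (p := 2588) (l := 4) rfl N2588 D8099
theorem N5607 : nd 5607 = n8100 := ndS (p := 2588) (l := 5) rfl N2588 D8100
theorem N5608 : nd 5608 = n8101 := ndS (p := 2588) (l := 6) rfl N2588 D8101
theorem N5609 : nd 5609 = n8103 := ndS (p := 2589) (l := 3) rfl N2589 D8103
theorem N5610 : nd 5610 = n8104 := ndS (p := 2589) (l := 4) rfl N2589 D8104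
theorem N5611 : nd 5611 = n8105 := ndS (p := 2589) (l := 5) rfl N2589 D8105
theorem N5612 : nd 5612 = n8106 := ndS (p := 2589) (l := 6) rfl N2589 D8106
theorem N5613 : nd 5613 = n8107 := ndS (p := 2590) (l := 0) rfl N2590 D8107
theorem N5614 : nd 5614 = n8108 := ndS (p := 2590) (l := 1) rfl N2590 D8108
theorem N5615 : nd 5615 = n8109 := ndS (p := 2590) (l := 4) rfl N2590 D8109
theorem N5616 : nd 5616 = n8110 := ndS (p := 2590) (l := 7) rfl N2590 D8110
theorem N5617 : nd 5617 = n8111 := ndS (p := 2592) (l := 0) rfl N2592 D8111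
theorem N5618 : nd 5618 = n8113 := ndS (p := 2592) (l := 2) rfl N2592 D8113
theorem N5619 : nd 5619 = n8114 := ndS (p := 2592) (l := 5) rfl N2592 D8114
theorem N5620 : nd 5620 = n8115 := ndS (p := 2593) (l := 4) rfl N2593 D8115
theorem N5621 : nd 5621 = n8116 := ndS (p := 2593) (l := 6) rfl N2593 D8116
theorem N5622 : nd 5622 = n8118 := ndS (p := 2594) (l := 1) rfl N2594 D8118
theorem N5623 : nd 5623 = n8119 := ndS (p := 2594) (l := 2) rfl N2594 D8119
theorem N5624 : nd 5624 = n8120 := ndS (p := 2594) (l := 5) rfl N2594 D8120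
theorem N5625 : nd 5625 = n8121 := ndS (p := 2595) (l := 4) rfl N2595 D8121
theorem N5626 : nd 5626 = n8122 := ndS (p := 2595) (l := 6) rfl N2595 D8122
theorem N5627 : nd 5627 = n8123 := ndS (p := 2596) (l := 3) rfl N2596 D8123
theorem N5628 : nd 5628 = n8124 := ndS (p := 2596) (l := 4) rfl N2596 D8124
theorem N5629 : nd 5629 = n8125 := ndS (p := 2596) (l := 6) rfl N2596 D8125
theorem N5630 : nd 5630 = n8126 := ndS (p := 2597) (l := 3) rfl N2597 D8126
theorem N5631 : nd 5631 = n8127 := ndS (p := 2597) (l := 5) rfl N2597 D8127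
theorem N5632 : nd 5632 = n8128 := ndS (p := 2597) (l := 7) rfl N2597 D8128
theorem N5633 : nd 5633 = n8129 := ndS (p := 2598) (l := 6) rfl N2598 D8129
theorem N5634 : nd 5634 = n8130 := ndS (p := 2599) (l := 3) rfl N2599 D8130
theorem N5635 : nd 5635 = n8131 := ndS (p := 2600) (l := 0) rfl N2600 D8131
theorem N5636 : nd 5636 = n8133 := ndS (p := 2600) (l := 2) rfl N2600 D8133
theorem N5637 : nd 5637 = n8134 := ndS (p := 2600) (l := 5) rfl N2600 D8134
theorem N5638 : nd 5638 = n8135 := ndS (p := 2601) (l := 4) rfl N2601 D8135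
theorem N5639 : nd 5639 = n8136 := ndS (p := 2601) (l := 6) rfl N2601 D8136
theorem N5640 : nd 5640 = n8138 := ndS (p := 2602) (l := 1) rfl N2602 D8138
theorem N5641 : nd 5641 = n8139 := ndS (p := 2602) (l := 2) rfl N2602 D8139
theorem N5642 : nd 5642 = n8140 := ndS (p := 2602) (l := 5) rfl N2602 D8140
theorem N5643 : nd 5643 = n8141 := ndS (p := 2603) (l := 4) rfl N2603 D8141
theorem N5644 : nd 5644 = n8142 := ndS (p := 2603) (l := 6) rfl N2603 D8142
theorem N5645 : nd 5645 = n8143 := ndS (p := 2604) (l := 5) rfl N2604 D8143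
theorem N5646 : nd 5646 = n8144 := ndS (p := 2605) (l := 0) rfl N2605 D8144
theorem N5647 : nd 5647 = n8145 := ndS (p := 2605) (l := 1) rfl N2605 D8145
theorem N5648 : nd 5648 = n8146 := ndS (p := 2605) (l := 2) rfl N2605 D8146
theorem N5649 : nd 5649 = n8147 := ndS (p := 2605) (l := 5) rfl N2605 D8147
theorem N5650 : nd 5650 = n8148 := ndS (p := 2605) (l := 6) rfl N2605 D8148
theorem N5651 : nd 5651 = n8149 := ndS (p := 2606) (l := 6) rfl N2606 D8149
theorem N5652 : nd 5652 = n8150 := ndS (p := 2607) (l := 0) rfl N2607 D8150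
theorem N5653 : nd 5653 = n8152 := ndS (p := 2607) (l := 5) rfl N2607 D8152
theorem N5654 : nd 5654 = n8153 := ndS (p := 2607) (l := 7) rfl N2607 D8153
theorem N5655 : nd 5655 = n8154 := ndS (p := 2608) (l := 4) rfl N2608 D8154
theorem N5656 : nd 5656 = n8155 := ndS (p := 2608) (l := 5) rfl N2608 D8155
theorem N5657 : nd 5657 = n8158 := ndS (p := 2610) (l := 4) rfl N2610 D8158
theorem N5658 : nd 5658 = n8159 := ndS (p := 2610) (l := 5) rfl N2610 D8159
theorem N5659 : nd 5659 = n8162 := ndS (p := 2611) (l := 3) rfl N2611 D8162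
theorem N5660 : nd 5660 = n8163 := ndS (p := 2611) (l := 4) rfl N2611 D8163
theorem N5661 : nd 5661 = n8164 := ndS (p := 2611) (l := 5) rfl N2611 D8164
theorem N5662 : nd 5662 = n8165 := ndS (p := 2611) (l := 6) rfl N2611 D8165
theorem N5663 : nd 5663 = n8171 := ndS (p := 2614) (l := 0) rfl N2614 D8171
theorem N5664 : nd 5664 = n8172 := ndS (p := 2614) (l := 1) rfl N2614 D8172
theorem N5665 : nd 5665 = n8173 := ndS (p := 2614) (l := 4) rfl N2614 D8173
theorem N5666 : nd 5666 = n8174 := ndS (p := 2614) (l := 7) rfl N2614 D8174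
theorem N5667 : nd 5667 = n8175 := ndS (p := 2616) (l := 3) rfl N2616 D8175
theorem N5668 : nd 5668 = n8177 := ndS (p := 2617) (l := 0) rfl N2617 D8177
theorem N5669 : nd 5669 = n8178 := ndS (p := 2617) (l := 4) rfl N2617 D8178
theorem N5670 : nd 5670 = n8179 := ndS (p := 2618) (l := 4) rfl N2618 D8179
theorem N5671 : nd 5671 = n8180 := ndS (p := 2618) (l := 5) rfl N2618 D8180
theorem N5672 : nd 5672 = n8181 := ndS (p := 2619) (l := 3) rfl N2619 D8181
theorem N5673 : nd 5673 = n8183 := ndS (p := 2622) (l := 1) rfl N2622 D8183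
theorem N5674 : nd 5674 = n8184 := ndS (p := 2622) (l := 5) rfl N2622 D8184
theorem N5675 : nd 5675 = n8186 := ndS (p := 2623) (l := 0) rfl N2623 D8186
theorem N5676 : nd 5676 = n8187 := ndS (p := 2623) (l := 3) rfl N2623 D8187
theorem N5677 : nd 5677 = n8188 := ndS (p := 2623) (l := 5) rfl N2623 D8188
theorem N5678 : nd 5678 = n8193 := ndS (p := 2624) (l := 6) rfl N2624 D8193
theorem N5679 : nd 5679 = n8198 := ndS (p := 2625) (l := 6) rfl N2625 D8198
theorem N5680 : nd 5680 = n8199 := ndS (p := 2626) (l := 5) rfl N2626 D8199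
theorem N5681 : nd 5681 = n8200 := ndS (p := 2626) (l := 6) rfl N2626 D8200
theorem N5682 : nd 5682 = n8202 := ndS (p := 2627) (l := 6) rfl N2627 D8202
theorem N5683 : nd 5683 = n8204 := ndS (p := 2628) (l := 5) rfl N2628 D8204
theorem N5684 : nd 5684 = n8210 := ndS (p := 2630) (l := 5) rfl N2630 D8210
theorem N5685 : nd 5685 = n8211 := ndS (p := 2630) (l := 7) rfl N2630 D8211
theorem N5686 : nd 5686 = n8214 := ndS (p := 2631) (l := 4) rfl N2631 D8214
theorem N5687 : nd 5687 = n8216 := ndS (p := 2631) (l := 6) rfl N2631 D8216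
theorem N5688 : nd 5688 = n8218 := ndS (p := 2632) (l := 3) rfl N2632 D8218
theorem N5689 : nd 5689 = n8219 := ndS (p := 2632) (l := 4) rfl N2632 D8219
theorem N5690 : nd 5690 = n8222 := ndS (p := 2633) (l := 0) rfl N2633 D8222
theorem N5691 : nd 5691 = n8223 := ndS (p := 2633) (l := 1) rfl N2633 D8223
theorem N5692 : nd 5692 = n8224 := ndS (p := 2633) (l := 5) rfl N2633 D8224
theorem N5693 : nd 5693 = n8228 := ndS (p := 2634) (l := 5) rfl N2634 D8228
theorem N5694 : nd 5694 = n8231 := ndS (p := 2635) (l := 3) rfl N2635 D8231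
theorem N5695 : nd 5695 = n8232 := ndS (p := 2635) (l := 4) rfl N2635 D8232
theorem N5696 : nd 5696 = n8233 := ndS (p := 2635) (l := 5) rfl N2635 D8233
theorem N5697 : nd 5697 = n8234 := ndS (p := 2636) (l := 3) rfl N2636 D8234
theorem N5698 : nd 5698 = n8235 := ndS (p := 2636) (l := 4) rfl N2636 D8235
theorem N5699 : nd 5699 = n8236 := ndS (p := 2636) (l := 5) rfl N2636 D8236
theorem N5700 : nd 5700 = n8238 := ndS (p := 2637) (l := 0) rfl N2637 D8238
theorem N5701 : nd 5701 = n8240 := ndS (p := 2637) (l := 4) rfl N2637 D8240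
theorem N5702 : nd 5702 = n8241 := ndS (p := 2637) (l := 7) rfl N2637 D8241
theorem N5703 : nd 5703 = n8243 := ndS (p := 2639) (l := 3) rfl N2639 D8243
theorem N5704 : nd 5704 = n8244 := ndS (p := 2639) (l := 4) rfl N2639 D8244
theorem N5705 : nd 5705 = n8245 := ndS (p := 2639) (l := 5) rfl N2639 D8245
theorem N5706 : nd 5706 = n8248 := ndS (p := 2640) (l := 3) rfl N2640 D8248
theorem N5707 : nd 5707 = n8249 := ndS (p := 2640) (l := 4) rfl N2640 D8249
theorem N5708 : nd 5708 = n8250 := ndS (p := 2640) (l := 5) rfl N2640 D8250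
theorem N5709 : nd 5709 = n8251 := ndS (p := 2640) (l := 6) rfl N2640 D8251
theorem N5710 : nd 5710 = n8252 := ndS (p := 2641) (l := 0) rfl N2641 D8252
theorem N5711 : nd 5711 = n8253 := ndS (p := 2641) (l := 1) rfl N2641 D8253
theorem N5712 : nd 5712 = n8254 := ndS (p := 2641) (l := 4) rfl N2641 D8254
theorem N5713 : nd 5713 = n8255 := ndS (p := 2641) (l := 7) rfl N2641 D8255
theorem N5714 : nd 5714 = n8256 := ndS (p := 2643) (l := 0) rfl N2643 D8256
theorem N5715 : nd 5715 = n8257 := ndS (p := 2643) (l := 2) rfl N2643 D8257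
theorem N5716 : nd 5716 = n8258 := ndS (p := 2643) (l := 5) rfl N2643 D8258
theorem N5717 : nd 5717 = n8259 := ndS (p := 2644) (l := 4) rfl N2644 D8259
theorem N5718 : nd 5718 = n8260 := ndS (p := 2644) (l := 6) rfl N2644 D8260
theorem N5719 : nd 5719 = n8262 := ndS (p := 2645) (l := 1) rfl N2645 D8262
theorem N5720 : nd 5720 = n8263 := ndS (p := 2645) (l := 2) rfl N2645 D8263
theorem N5721 : nd 5721 = n8264 := ndS (p := 2645) (l := 5) rfl N2645 D8264
theorem N5722 : nd 5722 = n8265 := ndS (p := 2646) (l := 4) rfl N2646 D8265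
theorem N5723 : nd 5723 = n8266 := ndS (p := 2647) (l := 3) rfl N2647 D8266
theorem N5724 : nd 5724 = n8267 := ndS (p := 2648) (l := 6) rfl N2648 D8267
theorem N5725 : nd 5725 = n8268 := ndS (p := 2649) (l := 4) rfl N2649 D8268
theorem N5726 : nd 5726 = n8269 := ndS (p := 2649) (l := 5) rfl N2649 D8269
theorem N5727 : nd 5727 = n8270 := ndS (p := 2649) (l := 6) rfl N2649 D8270
theorem N5728 : nd 5728 = n8271 := ndS (p := 2650) (l := 5) rfl N2650 D8271
theorem N5729 : nd 5729 = n8276 := ndS (p := 2652) (l := 6) rfl N2652 D8276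
theorem N5730 : nd 5730 = n8277 := ndS (p := 2653) (l := 3) rfl N2653 D8277
theorem N5731 : nd 5731 = n8278 := ndS (p := 2653) (l := 5) rfl N2653 D8278
theorem N5732 : nd 5732 = n8279 := ndS (p := 2653) (l := 6) rfl N2653 D8279
theorem N5733 : nd 5733 = n8286 := ndS (p := 2654) (l := 5) rfl N2654 D8286
theorem N5734 : nd 5734 = n8288 := ndS (p := 2655) (l := 2) rfl N2655 D8288
theorem N5735 : nd 5735 = n8291 := ndS (p := 2656) (l := 5) rfl N2656 D8291
theorem N5736 : nd 5736 = n8299 := ndS (p := 2657) (l := 4) rfl N2657 D8299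
theorem N5737 : nd 5737 = n8300 := ndS (p := 2657) (l := 6) rfl N2657 D8300
theorem N5738 : nd 5738 = n8302 := ndS (p := 2658) (l := 3) rfl N2658 D8302
theorem N5739 : nd 5739 = n8303 := ndS (p := 2658) (l := 4) rfl N2658 D8303
theorem N5740 : nd 5740 = n8305 := ndS (p := 2658) (l := 6) rfl N2658 D8305
theorem N5741 : nd 5741 = n8307 := ndS (p := 2659) (l := 3) rfl N2659 D8307
theorem N5742 : nd 5742 = n8308 := ndS (p := 2659) (l := 4) rfl N2659 D8308
theorem N5743 : nd 5743 = n8310 := ndS (p := 2659) (l := 6) rfl N2659 D8310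
theorem N5744 : nd 5744 = n8311 := ndS (p := 2660) (l := 0) rfl N2660 D8311
theorem N5745 : nd 5745 = n8312 := ndS (p := 2660) (l := 1) rfl N2660 D8312
theorem N5746 : nd 5746 = n8313 := ndS (p := 2660) (l := 5) rfl N2660 D8313
theorem N5747 : nd 5747 = n8314 := ndS (p := 2660) (l := 6) rfl N2660 D8314
theorem N5748 : nd 5748 = n8315 := ndS (p := 2661) (l := 0) rfl N2661 D8315
theorem N5749 : nd 5749 = n8320 := ndS (p := 2662) (l := 2) rfl N2662 D8320
theorem N5750 : nd 5750 = n8321 := ndS (p := 2662) (l := 4) rfl N2662 D8321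
theorem N5751 : nd 5751 = n8322 := ndS (p := 2662) (l := 6) rfl N2662 D8322
theorem N5752 : nd 5752 = n8323 := ndS (p := 2663) (l := 0) rfl N2663 D8323
theorem N5753 : nd 5753 = n8324 := ndS (p := 2663) (l := 1) rfl N2663 D8324
theorem N5754 : nd 5754 = n8325 := ndS (p := 2663) (l := 7) rfl N2663 D8325
theorem N5755 : nd 5755 = n8326 := ndS (p := 2664) (l := 2) rfl N2664 D8326
theorem N5756 : nd 5756 = n8327 := ndS (p := 2664) (l := 4) rfl N2664 D8327
theorem N5757 : nd 5757 = n8328 := ndS (p := 2664) (l := 6) rfl N2664 D8328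
theorem N5758 : nd 5758 = n8329 := ndS (p := 2665) (l := 0) rfl N2665 D8329
theorem N5759 : nd 5759 = n8330 := ndS (p := 2665) (l := 1) rfl N2665 D8330
theorem N5760 : nd 5760 = n8331 := ndS (p := 2665) (l := 7) rfl N2665 D8331
theorem N5761 : nd 5761 = n8333 := ndS (p := 2666) (l := 3) rfl N2666 D8333
theorem N5762 : nd 5762 = n8334 := ndS (p := 2666) (l := 4) rfl N2666 D8334
theorem N5763 : nd 5763 = n8335 := ndS (p := 2666) (l := 5) rfl N2666 D8335
theorem N5764 : nd 5764 = n8336 := ndS (p := 2666) (l := 6) rfl N2666 D8336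
theorem N5765 : nd 5765 = n8338 := ndS (p := 2667) (l := 3) rfl N2667 D8338
theorem N5766 : nd 5766 = n8339 := ndS (p := 2667) (l := 4) rfl N2667 D8339
theorem N5767 : nd 5767 = n8340 := ndS (p := 2667) (l := 5) rfl N2667 D8340
theorem N5768 : nd 5768 = n8341 := ndS (p := 2667) (l := 6) rfl N2667 D8341
theorem N5769 : nd 5769 = n8342 := ndS (p := 2669) (l := 0) rfl N2669 D8342
theorem N5770 : nd 5770 = n8343 := ndS (p := 2669) (l := 5) rfl N2669 D8343
theorem N5771 : nd 5771 = n8355 := ndS (p := 2671) (l := 5) rfl N2671 D8355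
theorem N5772 : nd 5772 = n8367 := ndS (p := 2672) (l := 3) rfl N2672 D8367
theorem N5773 : nd 5773 = n8368 := ndS (p := 2672) (l := 4) rfl N2672 D8368
theorem N5774 : nd 5774 = n8370 := ndS (p := 2672) (l := 6) rfl N2672 D8370
theorem N5775 : nd 5775 = n8372 := ndS (p := 2673) (l := 3) rfl N2673 D8372
theorem N5776 : nd 5776 = n8373 := ndS (p := 2673) (l := 4) rfl N2673 D8373
theorem N5777 : nd 5777 = n8375 := ndS (p := 2673) (l := 6) rfl N2673 D8375
theorem N5778 : nd 5778 = n8385 := ndS (p := 2674) (l := 4) rfl N2674 D8385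
theorem N5779 : nd 5779 = n8390 := ndS (p := 2675) (l := 4) rfl N2675 D8390
theorem N5780 : nd 5780 = n8392 := ndS (p := 2675) (l := 6) rfl N2675 D8392
theorem N5781 : nd 5781 = n8412 := ndS (p := 2676) (l := 2) rfl N2676 D8412
theorem N5782 : nd 5782 = n8418 := ndS (p := 2677) (l := 2) rfl N2677 D8418
theorem N5783 : nd 5783 = n8428 := ndS (p := 2678) (l := 5) rfl N2678 D8428
theorem N5784 : nd 5784 = n8434 := ndS (p := 2681) (l := 6) rfl N2681 D8434
theorem N5785 : nd 5785 = n8435 := ndS (p := 2682) (l := 5) rfl N2682 D8435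
theorem N5786 : nd 5786 = n8436 := ndS (p := 2682) (l := 6) rfl N2682 D8436
theorem N5787 : nd 5787 = n8437 := ndS (p := 2683) (l := 4) rfl N2683 D8437
theorem N5788 : nd 5788 = n8438 := ndS (p := 2683) (l := 6) rfl N2683 D8438
theorem N5789 : nd 5789 = n8439 := ndS (p := 2684) (l := 0) rfl N2684 D8439
theorem N5790 : nd 5790 = n8441 := ndS (p := 2684) (l := 5) rfl N2684 D8441
theorem N5791 : nd 5791 = n8443 := ndS (p := 2685) (l := 5) rfl N2685 D8443
theorem N5792 : nd 5792 = n8445 := ndS (p := 2686) (l := 4) rfl N2686 D8445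
theorem N5793 : nd 5793 = n8446 := ndS (p := 2686) (l := 6) rfl N2686 D8446
theorem N5794 : nd 5794 = n8451 := ndS (p := 2687) (l := 4) rfl N2687 D8451
theorem N5795 : nd 5795 = n8452 := ndS (p := 2687) (l := 6) rfl N2687 D8452
theorem N5796 : nd 5796 = n8453 := ndS (p := 2688) (l := 3) rfl N2688 D8453
theorem N5797 : nd 5797 = n8454 := ndS (p := 2688) (l := 4) rfl N2688 D8454
theorem N5798 : nd 5798 = n8455 := ndS (p := 2688) (l := 6) rfl N2688 D8455
theorem N5799 : nd 5799 = n8456 := ndS (p := 2689) (l := 3) rfl N2689 D8456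
theorem N5800 : nd 5800 = n8457 := ndS (p := 2689) (l := 4) rfl N2689 D8457
theorem N5801 : nd 5801 = n8458 := ndS (p := 2689) (l := 6) rfl N2689 D8458
theorem N5802 : nd 5802 = n8459 := ndS (p := 2690) (l := 0) rfl N2690 D8459
theorem N5803 : nd 5803 = n8460 := ndS (p := 2690) (l := 1) rfl N2690 D8460
theorem N5804 : nd 5804 = n8461 := ndS (p := 2690) (l := 5) rfl N2690 D8461
theorem N5805 : nd 5805 = n8462 := ndS (p := 2690) (l := 6) rfl N2690 D8462
theorem N5806 : nd 5806 = n8463 := ndS (p := 2691) (l := 0) rfl N2691 D8463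
theorem N5807 : nd 5807 = n8464 := ndS (p := 2691) (l := 1) rfl N2691 D8464
theorem N5808 : nd 5808 = n8465 := ndS (p := 2691) (l := 7) rfl N2691 D8465
theorem N5809 : nd 5809 = n8467 := ndS (p := 2692) (l := 3) rfl N2692 D8467
theorem N5810 : nd 5810 = n8469 := ndS (p := 2692) (l := 5) rfl N2692 D8469
theorem N5811 : nd 5811 = n8470 := ndS (p := 2692) (l := 6) rfl N2692 D8470
theorem N5812 : nd 5812 = n8472 := ndS (p := 2693) (l := 3) rfl N2693 D8472
theorem N5813 : nd 5813 = n8474 := ndS (p := 2693) (l := 5) rfl N2693 D8474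
theorem N5814 : nd 5814 = n8475 := ndS (p := 2693) (l := 6) rfl N2693 D8475
theorem N5815 : nd 5815 = n8476 := ndS (p := 2695) (l := 5) rfl N2695 D8476
theorem N5816 : nd 5816 = n8480 := ndS (p := 2696) (l := 4) rfl N2696 D8480
theorem N5817 : nd 5817 = n8481 := ndS (p := 2696) (l := 6) rfl N2696 D8481
theorem N5818 : nd 5818 = n8486 := ndS (p := 2697) (l := 5) rfl N2697 D8486
theorem N5819 : nd 5819 = n8487 := ndS (p := 2697) (l := 6) rfl N2697 D8487
theorem N5820 : nd 5820 = n8488 := ndS (p := 2698) (l := 4) rfl N2698 D8488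
theorem N5821 : nd 5821 = n8489 := ndS (p := 2698) (l := 6) rfl N2698 D8489
theorem N5822 : nd 5822 = n8491 := ndS (p := 2699) (l := 1) rfl N2699 D8491
theorem N5823 : nd 5823 = n8492 := ndS (p := 2699) (l := 5) rfl N2699 D8492
theorem N5824 : nd 5824 = n8494 := ndS (p := 2700) (l := 4) rfl N2700 D8494
theorem N5825 : nd 5825 = n8499 := ndS (p := 2702) (l := 4) rfl N2702 D8499
theorem N5826 : nd 5826 = n8501 := ndS (p := 2702) (l := 6) rfl N2702 D8501
theorem N5827 : nd 5827 = n8503 := ndS (p := 2703) (l := 3) rfl N2703 D8503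
theorem N5828 : nd 5828 = n8504 := ndS (p := 2703) (l := 4) rfl N2703 D8504
theorem N5829 : nd 5829 = n8506 := ndS (p := 2703) (l := 6) rfl N2703 D8506
theorem N5830 : nd 5830 = n8507 := ndS (p := 2704) (l := 0) rfl N2704 D8507
theorem N5831 : nd 5831 = n8508 := ndS (p := 2704) (l := 1) rfl N2704 D8508
theorem N5832 : nd 5832 = n8509 := ndS (p := 2704) (l := 5) rfl N2704 D8509
theorem N5833 : nd 5833 = n8517 := ndS (p := 2705) (l := 4) rfl N2705 D8517
theorem N5834 : nd 5834 = n8519 := ndS (p := 2705) (l := 6) rfl N2705 D8519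
theorem N5835 : nd 5835 = n8521 := ndS (p := 2706) (l := 3) rfl N2706 D8521
theorem N5836 : nd 5836 = n8522 := ndS (p := 2706) (l := 4) rfl N2706 D8522
theorem N5837 : nd 5837 = n8524 := ndS (p := 2706) (l := 6) rfl N2706 D8524
theorem N5838 : nd 5838 = n8529 := ndS (p := 2707) (l := 3) rfl N2707 D8529
theorem N5839 : nd 5839 = n8532 := ndS (p := 2707) (l := 6) rfl N2707 D8532
theorem N5840 : nd 5840 = n8537 := ndS (p := 2708) (l := 6) rfl N2708 D8537
theorem N5841 : nd 5841 = n8543 := ndS (p := 2711) (l := 4) rfl N2711 D8543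
theorem N5842 : nd 5842 = n8544 := ndS (p := 2711) (l := 6) rfl N2711 D8544
theorem N5843 : nd 5843 = n8545 := ndS (p := 2712) (l := 5) rfl N2712 D8545
theorem N5844 : nd 5844 = n8546 := ndS (p := 2714) (l := 5) rfl N2714 D8546
theorem N5845 : nd 5845 = n8548 := ndS (p := 2715) (l := 5) rfl N2715 D8548
theorem N5846 : nd 5846 = n8551 := ndS (p := 2716) (l := 4) rfl N2716 D8551
theorem N5847 : nd 5847 = n8552 := ndS (p := 2716) (l := 6) rfl N2716 D8552
theorem N5848 : nd 5848 = n8553 := ndS (p := 2717) (l := 6) rfl N2717 D8553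
theorem N5849 : nd 5849 = n8554 := ndS (p := 2718) (l := 5) rfl N2718 D8554
theorem N5850 : nd 5850 = n8555 := ndS (p := 2718) (l := 6) rfl N2718 D8555
theorem N5851 : nd 5851 = n8556 := ndS (p := 2719) (l := 5) rfl N2719 D8556
theorem N5852 : nd 5852 = n8557 := ndS (p := 2720) (l := 0) rfl N2720 D8557
theorem N5853 : nd 5853 = n8558 := ndS (p := 2720) (l := 4) rfl N2720 D8558
theorem N5854 : nd 5854 = n8559 := ndS (p := 2720) (l := 6) rfl N2720 D8559
theorem N5855 : nd 5855 = n8560 := ndS (p := 2720) (l := 7) rfl N2720 D8560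
theorem N5856 : nd 5856 = n8561 := ndS (p := 2721) (l := 6) rfl N2721 D8561
theorem N5857 : nd 5857 = n8562 := ndS (p := 2722) (l := 0) rfl N2722 D8562
theorem N5858 : nd 5858 = n8563 := ndS (p := 2722) (l := 1) rfl N2722 D8563
theorem N5859 : nd 5859 = n8564 := ndS (p := 2722) (l := 3) rfl N2722 D8564
theorem N5860 : nd 5860 = n8565 := ndS (p := 2722) (l := 5) rfl N2722 D8565
theorem N5861 : nd 5861 = n8566 := ndS (p := 2722) (l := 6) rfl N2722 D8566
theorem N5862 : nd 5862 = n8567 := ndS (p := 2723) (l := 0) rfl N2723 D8567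
theorem N5863 : nd 5863 = n8571 := ndS (p := 2725) (l := 5) rfl N2725 D8571
theorem N5864 : nd 5864 = n8575 := ndS (p := 2727) (l := 0) rfl N2727 D8575
theorem N5865 : nd 5865 = n8576 := ndS (p := 2727) (l := 4) rfl N2727 D8576
theorem N5866 : nd 5866 = n8581 := ndS (p := 2729) (l := 4) rfl N2729 D8581
theorem N5867 : nd 5867 = n8582 := ndS (p := 2729) (l := 6) rfl N2729 D8582
theorem N5868 : nd 5868 = n8584 := ndS (p := 2730) (l := 1) rfl N2730 D8584
theorem N5869 : nd 5869 = n8586 := ndS (p := 2731) (l := 3) rfl N2731 D8586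
theorem N5870 : nd 5870 = n8587 := ndS (p := 2731) (l := 5) rfl N2731 D8587
theorem N5871 : nd 5871 = n8588 := ndS (p := 2731) (l := 6) rfl N2731 D8588
theorem N5872 : nd 5872 = n8603 := ndS (p := 2735) (l := 3) rfl N2735 D8603
theorem N5873 : nd 5873 = n8604 := ndS (p := 2735) (l := 4) rfl N2735 D8604
theorem N5874 : nd 5874 = n8605 := ndS (p := 2735) (l := 6) rfl N2735 D8605
theorem N5875 : nd 5875 = n8606 := ndS (p := 2736) (l := 3) rfl N2736 D8606
theorem N5876 : nd 5876 = n8607 := ndS (p := 2736) (l := 4) rfl N2736 D8607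
theorem N5877 : nd 5877 = n8608 := ndS (p := 2736) (l := 6) rfl N2736 D8608
theorem N5878 : nd 5878 = n8609 := ndS (p := 2737) (l := 0) rfl N2737 D8609
theorem N5879 : nd 5879 = n8610 := ndS (p := 2737) (l := 1) rfl N2737 D8610
theorem N5880 : nd 5880 = n8611 := ndS (p := 2737) (l := 3) rfl N2737 D8611
theorem N5881 : nd 5881 = n8612 := ndS (p := 2737) (l := 5) rfl N2737 D8612
theorem N5882 : nd 5882 = n8613 := ndS (p := 2737) (l := 6) rfl N2737 D8613
theorem N5883 : nd 5883 = n8614 := ndS (p := 2738) (l := 0) rfl N2738 D8614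
theorem N5884 : nd 5884 = n8615 := ndS (p := 2738) (l := 1) rfl N2738 D8615
theorem N5885 : nd 5885 = n8616 := ndS (p := 2738) (l := 7) rfl N2738 D8616
theorem N5886 : nd 5886 = n8619 := ndS (p := 2739) (l := 2) rfl N2739 D8619
theorem N5887 : nd 5887 = n8620 := ndS (p := 2739) (l := 4) rfl N2739 D8620
theorem N5888 : nd 5888 = n8621 := ndS (p := 2739) (l := 6) rfl N2739 D8621
theorem N5889 : nd 5889 = n8622 := ndS (p := 2740) (l := 0) rfl N2740 D8622
theorem N5890 : nd 5890 = n8623 := ndS (p := 2740) (l := 1) rfl N2740 D8623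
theorem N5891 : nd 5891 = n8624 := ndS (p := 2740) (l := 3) rfl N2740 D8624
theorem N5892 : nd 5892 = n8625 := ndS (p := 2740) (l := 5) rfl N2740 D8625
theorem N5893 : nd 5893 = n8626 := ndS (p := 2740) (l := 6) rfl N2740 D8626
theorem N5894 : nd 5894 = n8627 := ndS (p := 2741) (l := 0) rfl N2741 D8627
theorem N5895 : nd 5895 = n8628 := ndS (p := 2741) (l := 1) rfl N2741 D8628
theorem N5896 : nd 5896 = n8629 := ndS (p := 2741) (l := 5) rfl N2741 D8629
theorem N5897 : nd 5897 = n8630 := ndS (p := 2741) (l := 7) rfl N2741 D8630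
theorem N5898 : nd 5898 = n8632 := ndS (p := 2742) (l := 2) rfl N2742 D8632
theorem N5899 : nd 5899 = n8633 := ndS (p := 2742) (l := 4) rfl N2742 D8633
theorem N5900 : nd 5900 = n8634 := ndS (p := 2742) (l := 6) rfl N2742 D8634
theorem N5901 : nd 5901 = n8635 := ndS (p := 2743) (l := 3) rfl N2743 D8635
theorem N5902 : nd 5902 = n8636 := ndS (p := 2743) (l := 5) rfl N2743 D8636
theorem N5903 : nd 5903 = n8637 := ndS (p := 2743) (l := 6) rfl N2743 D8637
theorem N5904 : nd 5904 = n8638 := ndS (p := 2744) (l := 0) rfl N2744 D8638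
theorem N5905 : nd 5905 = n8639 := ndS (p := 2744) (l := 1) rfl N2744 D8639
theorem N5906 : nd 5906 = n8640 := ndS (p := 2744) (l := 5) rfl N2744 D8640
theorem N5907 : nd 5907 = n8641 := ndS (p := 2744) (l := 7) rfl N2744 D8641
theorem N5908 : nd 5908 = n8643 := ndS (p := 2745) (l := 3) rfl N2745 D8643
theorem N5909 : nd 5909 = n8644 := ndS (p := 2745) (l := 5) rfl N2745 D8644
theorem N5910 : nd 5910 = n8645 := ndS (p := 2745) (l := 6) rfl N2745 D8645
theorem N5911 : nd 5911 = n8647 := ndS (p := 2746) (l := 3) rfl N2746 D8647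
theorem N5912 : nd 5912 = n8648 := ndS (p := 2746) (l := 5) rfl N2746 D8648
theorem N5913 : nd 5913 = n8649 := ndS (p := 2746) (l := 6) rfl N2746 D8649
theorem N5914 : nd 5914 = n8650 := ndS (p := 2747) (l := 0) rfl N2747 D8650
theorem N5915 : nd 5915 = n8651 := ndS (p := 2747) (l := 1) rfl N2747 D8651
theorem N5916 : nd 5916 = n8652 := ndS (p := 2747) (l := 2) rfl N2747 D8652
theorem N5917 : nd 5917 = n8653 := ndS (p := 2747) (l := 5) rfl N2747 D8653
theorem N5918 : nd 5918 = n8654 := ndS (p := 2747) (l := 6) rfl N2747 D8654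
theorem N5919 : nd 5919 = n8655 := ndS (p := 2748) (l := 0) rfl N2748 D8655
theorem N5920 : nd 5920 = n8656 := ndS (p := 2748) (l := 1) rfl N2748 D8656
theorem N5921 : nd 5921 = n8657 := ndS (p := 2748) (l := 4) rfl N2748 D8657
theorem N5922 : nd 5922 = n8658 := ndS (p := 2748) (l := 6) rfl N2748 D8658
theorem N5923 : nd 5923 = n8659 := ndS (p := 2748) (l := 7) rfl N2748 D8659
theorem N5924 : nd 5924 = n8660 := ndS (p := 2749) (l := 0) rfl N2749 D8660
theorem N5925 : nd 5925 = n8661 := ndS (p := 2749) (l := 1) rfl N2749 D8661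
theorem N5926 : nd 5926 = n8662 := ndS (p := 2749) (l := 5) rfl N2749 D8662
theorem N5927 : nd 5927 = n8663 := ndS (p := 2749) (l := 7) rfl N2749 D8663
theorem N5928 : nd 5928 = n8664 := ndS (p := 2750) (l := 6) rfl N2750 D8664
theorem N5929 : nd 5929 = n8666 := ndS (p := 2751) (l := 3) rfl N2751 D8666
theorem N5930 : nd 5930 = n8667 := ndS (p := 2751) (l := 4) rfl N2751 D8667
theorem N5931 : nd 5931 = n8668 := ndS (p := 2751) (l := 5) rfl N2751 D8668
theorem N5932 : nd 5932 = n8671 := ndS (p := 2752) (l := 3) rfl N2752 D8671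
theorem N5933 : nd 5933 = n8672 := ndS (p := 2752) (l := 4) rfl N2752 D8672
theorem N5934 : nd 5934 = n8673 := ndS (p := 2752) (l := 5) rfl N2752 D8673
theorem N5935 : nd 5935 = n8674 := ndS (p := 2752) (l := 6) rfl N2752 D8674
theorem N5936 : nd 5936 = n8675 := ndS (p := 2753) (l := 6) rfl N2753 D8675
theorem N5937 : nd 5937 = n8676 := ndS (p := 2754) (l := 0) rfl N2754 D8676
theorem N5938 : nd 5938 = n8677 := ndS (p := 2754) (l := 1) rfl N2754 D8677
theorem N5939 : nd 5939 = n8678 := ndS (p := 2754) (l := 5) rfl N2754 D8678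
theorem N5940 : nd 5940 = n8679 := ndS (p := 2755) (l := 3) rfl N2755 D8679
theorem N5941 : nd 5941 = n8680 := ndS (p := 2755) (l := 4) rfl N2755 D8680
theorem N5942 : nd 5942 = n8681 := ndS (p := 2755) (l := 5) rfl N2755 D8681
theorem N5943 : nd 5943 = n8682 := ndS (p := 2756) (l := 3) rfl N2756 D8682
theorem N5944 : nd 5944 = n8683 := ndS (p := 2756) (l := 4) rfl N2756 D8683
theorem N5945 : nd 5945 = n8684 := ndS (p := 2756) (l := 5) rfl N2756 D8684
theorem N5946 : nd 5946 = n8686 := ndS (p := 2757) (l := 1) rfl N2757 D8686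
theorem N5947 : nd 5947 = n8687 := ndS (p := 2757) (l := 4) rfl N2757 D8687
theorem N5948 : nd 5948 = n8688 := ndS (p := 2758) (l := 4) rfl N2758 D8688
theorem N5949 : nd 5949 = n8689 := ndS (p := 2758) (l := 6) rfl N2758 D8689
theorem N5950 : nd 5950 = n8690 := ndS (p := 2759) (l := 0) rfl N2759 D8690
theorem N5951 : nd 5951 = n8691 := ndS (p := 2759) (l := 1) rfl N2759 D8691
theorem N5952 : nd 5952 = n8692 := ndS (p := 2759) (l := 5) rfl N2759 D8692
theorem N5953 : nd 5953 = n8693 := ndS (p := 2759) (l := 6) rfl N2759 D8693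
theorem N5954 : nd 5954 = n8694 := ndS (p := 2760) (l := 0) rfl N2760 D8694
theorem N5955 : nd 5955 = n8695 := ndS (p := 2760) (l := 1) rfl N2760 D8695
theorem N5956 : nd 5956 = n8696 := ndS (p := 2760) (l := 5) rfl N2760 D8696
theorem N5957 : nd 5957 = n8697 := ndS (p := 2760) (l := 7) rfl N2760 D8697
theorem N5958 : nd 5958 = n8699 := ndS (p := 2761) (l := 3) rfl N2761 D8699
theorem N5959 : nd 5959 = n8701 := ndS (p := 2761) (l := 5) rfl N2761 D8701
theorem N5960 : nd 5960 = n8702 := ndS (p := 2761) (l := 6) rfl N2761 D8702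
theorem N5961 : nd 5961 = n8706 := ndS (p := 2762) (l := 5) rfl N2762 D8706
theorem N5962 : nd 5962 = n8707 := ndS (p := 2762) (l := 6) rfl N2762 D8707
theorem N5963 : nd 5963 = n8708 := ndS (p := 2763) (l := 0) rfl N2763 D8708
theorem N5964 : nd 5964 = n8709 := ndS (p := 2763) (l := 1) rfl N2763 D8709
theorem N5965 : nd 5965 = n8710 := ndS (p := 2763) (l := 4) rfl N2763 D8710
theorem N5966 : nd 5966 = n8711 := ndS (p := 2763) (l := 7) rfl N2763 D8711
theorem N5967 : nd 5967 = n8722 := ndS (p := 2765) (l := 4) rfl N2765 D8722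
theorem N5968 : nd 5968 = n8723 := ndS (p := 2765) (l := 6) rfl N2765 D8723
theorem N5969 : nd 5969 = n8724 := ndS (p := 2766) (l := 0) rfl N2766 D8724
theorem N5970 : nd 5970 = n8725 := ndS (p := 2766) (l := 1) rfl N2766 D8725
theorem N5971 : nd 5971 = n8726 := ndS (p := 2766) (l := 5) rfl N2766 D8726
theorem N5972 : nd 5972 = n8727 := ndS (p := 2766) (l := 6) rfl N2766 D8727
theorem N5973 : nd 5973 = n8729 := ndS (p := 2767) (l := 1) rfl N2767 D8729
theorem N5974 : nd 5974 = n8730 := ndS (p := 2767) (l := 5) rfl N2767 D8730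
theorem N5975 : nd 5975 = n8731 := ndS (p := 2767) (l := 7) rfl N2767 D8731
theorem N5976 : nd 5976 = n8735 := ndS (p := 2768) (l := 5) rfl N2768 D8735
theorem N5977 : nd 5977 = n8738 := ndS (p := 2769) (l := 3) rfl N2769 D8738
theorem N5978 : nd 5978 = n8740 := ndS (p := 2769) (l := 5) rfl N2769 D8740
theorem N5979 : nd 5979 = n8741 := ndS (p := 2769) (l := 6) rfl N2769 D8741
theorem N5980 : nd 5980 = n8742 := ndS (p := 2770) (l := 0) rfl N2770 D8742
theorem N5981 : nd 5981 = n8743 := ndS (p := 2770) (l := 1) rfl N2770 D8743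
theorem N5982 : nd 5982 = n8744 := ndS (p := 2770) (l := 4) rfl N2770 D8744
theorem N5983 : nd 5983 = n8745 := ndS (p := 2770) (l := 7) rfl N2770 D8745
theorem N5984 : nd 5984 = n8747 := ndS (p := 2772) (l := 3) rfl N2772 D8747
theorem N5985 : nd 5985 = n8748 := ndS (p := 2772) (l := 4) rfl N2772 D8748
theorem N5986 : nd 5986 = n8750 := ndS (p := 2772) (l := 6) rfl N2772 D8750
theorem N5987 : nd 5987 = n8753 := ndS (p := 2773) (l := 4) rfl N2773 D8753
theorem N5988 : nd 5988 = n8755 := ndS (p := 2773) (l := 6) rfl N2773 D8755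
theorem N5989 : nd 5989 = n8756 := ndS (p := 2774) (l := 6) rfl N2774 D8756
theorem N5990 : nd 5990 = n8757 := ndS (p := 2775) (l := 0) rfl N2775 D8757
theorem N5991 : nd 5991 = n8758 := ndS (p := 2775) (l := 1) rfl N2775 D8758
theorem N5992 : nd 5992 = n8759 := ndS (p := 2775) (l := 5) rfl N2775 D8759
theorem N5993 : nd 5993 = n8760 := ndS (p := 2775) (l := 7) rfl N2775 D8760
theorem N5994 : nd 5994 = n8762 := ndS (p := 2776) (l := 3) rfl N2776 D8762
theorem N5995 : nd 5995 = n8764 := ndS (p := 2776) (l := 5) rfl N2776 D8764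
theorem N5996 : nd 5996 = n8765 := ndS (p := 2776) (l := 6) rfl N2776 D8765
theorem N5997 : nd 5997 = n8767 := ndS (p := 2777) (l := 3) rfl N2777 D8767
theorem N5998 : nd 5998 = n8769 := ndS (p := 2777) (l := 5) rfl N2777 D8769
theorem N5999 : nd 5999 = n8770 := ndS (p := 2777) (l := 6) rfl N2777 D8770
theorem N6000 : nd 6000 = n8771 := ndS (p := 2778) (l := 0) rfl N2778 D8771
theorem N6001 : nd 6001 = n8772 := ndS (p := 2778) (l := 1) rfl N2778 D8772
theorem N6002 : nd 6002 = n8773 := ndS (p := 2778) (l := 4) rfl N2778 D8773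
theorem N6003 : nd 6003 = n8774 := ndS (p := 2778) (l := 7) rfl N2778 D8774
theorem N6004 : nd 6004 = n8781 := ndS (p := 2780) (l := 0) rfl N2780 D8781
theorem N6005 : nd 6005 = n8783 := ndS (p := 2780) (l := 2) rfl N2780 D8783
theorem N6006 : nd 6006 = n8784 := ndS (p := 2780) (l := 4) rfl N2780 D8784
theorem N6007 : nd 6007 = n8785 := ndS (p := 2780) (l := 5) rfl N2780 D8785
theorem N6008 : nd 6008 = n8786 := ndS (p := 2780) (l := 6) rfl N2780 D8786
theorem N6009 : nd 6009 = n8788 := ndS (p := 2781) (l := 0) rfl N2781 D8788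
theorem N6010 : nd 6010 = n8790 := ndS (p := 2781) (l := 3) rfl N2781 D8790
theorem N6011 : nd 6011 = n8791 := ndS (p := 2781) (l := 5) rfl N2781 D8791
theorem N6012 : nd 6012 = n8792 := ndS (p := 2781) (l := 6) rfl N2781 D8792
theorem N6013 : nd 6013 = n8794 := ndS (p := 2782) (l := 0) rfl N2782 D8794
theorem N6014 : nd 6014 = n8795 := ndS (p := 2782) (l := 1) rfl N2782 D8795
theorem N6015 : nd 6015 = n8796 := ndS (p := 2782) (l := 4) rfl N2782 D8796
theorem N6016 : nd 6016 = n8797 := ndS (p := 2782) (l := 6) rfl N2782 D8797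
theorem N6017 : nd 6017 = n8800 := ndS (p := 2783) (l := 1) rfl N2783 D8800
theorem N6018 : nd 6018 = n8804 := ndS (p := 2784) (l := 1) rfl N2784 D8804
theorem N6019 : nd 6019 = n8805 := ndS (p := 2784) (l := 2) rfl N2784 D8805
theorem N6020 : nd 6020 = n8806 := ndS (p := 2784) (l := 4) rfl N2784 D8806
theorem N6021 : nd 6021 = n8807 := ndS (p := 2784) (l := 5) rfl N2784 D8807
theorem N6022 : nd 6022 = n8808 := ndS (p := 2784) (l := 6) rfl N2784 D8808
theorem N6023 : nd 6023 = n8809 := ndS (p := 2785) (l := 3) rfl N2785 D8809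
theorem N6024 : nd 6024 = n8810 := ndS (p := 2785) (l := 5) rfl N2785 D8810
theorem N6025 : nd 6025 = n8811 := ndS (p := 2785) (l := 6) rfl N2785 D8811
theorem N6026 : nd 6026 = n8812 := ndS (p := 2786) (l := 4) rfl N2786 D8812
theorem N6027 : nd 6027 = n8813 := ndS (p := 2787) (l := 0) rfl N2787 D8813
theorem N6028 : nd 6028 = n8815 := ndS (p := 2787) (l := 5) rfl N2787 D8815
theorem N6029 : nd 6029 = n8816 := ndS (p := 2788) (l := 5) rfl N2788 D8816
theorem N6030 : nd 6030 = n8818 := ndS (p := 2789) (l := 3) rfl N2789 D8818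
theorem N6031 : nd 6031 = n8820 := ndS (p := 2789) (l := 5) rfl N2789 D8820
theorem N6032 : nd 6032 = n8821 := ndS (p := 2789) (l := 6) rfl N2789 D8821
theorem N6033 : nd 6033 = n8825 := ndS (p := 2790) (l := 5) rfl N2790 D8825
theorem N6034 : nd 6034 = n8827 := ndS (p := 2791) (l := 0) rfl N2791 D8827
theorem N6035 : nd 6035 = n8828 := ndS (p := 2791) (l := 1) rfl N2791 D8828
theorem N6036 : nd 6036 = n8829 := ndS (p := 2791) (l := 4) rfl N2791 D8829
theorem N6037 : nd 6037 = n8832 := ndS (p := 2792) (l := 5) rfl N2792 D8832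
theorem N6038 : nd 6038 = n8833 := ndS (p := 2793) (l := 4) rfl N2793 D8833
theorem N6039 : nd 6039 = n8836 := ndS (p := 2794) (l := 5) rfl N2794 D8836
theorem N6040 : nd 6040 = n8837 := ndS (p := 2795) (l := 4) rfl N2795 D8837
theorem N6041 : nd 6041 = n8838 := ndS (p := 2795) (l := 6) rfl N2795 D8838
theorem N6042 : nd 6042 = n8839 := ndS (p := 2796) (l := 3) rfl N2796 D8839
theorem N6043 : nd 6043 = n8840 := ndS (p := 2796) (l := 4) rfl N2796 D8840
theorem N6044 : nd 6044 = n8841 := ndS (p := 2796) (l := 6) rfl N2796 D8841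
theorem N6045 : nd 6045 = n8842 := ndS (p := 2797) (l := 1) rfl N2797 D8842
theorem N6046 : nd 6046 = n8843 := ndS (p := 2797) (l := 3) rfl N2797 D8843
theorem N6047 : nd 6047 = n8845 := ndS (p := 2800) (l := 5) rfl N2800 D8845
theorem N6048 : nd 6048 = n8846 := ndS (p := 2801) (l := 0) rfl N2801 D8846
theorem N6049 : nd 6049 = n8847 := ndS (p := 2801) (l := 1) rfl N2801 D8847
theorem N6050 : nd 6050 = n8848 := ndS (p := 2801) (l := 4) rfl N2801 D8848
theorem N6051 : nd 6051 = n8849 := ndS (p := 2801) (l := 6) rfl N2801 D8849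
theorem N6052 : nd 6052 = n8850 := ndS (p := 2802) (l := 0) rfl N2802 D8850
theorem N6053 : nd 6053 = n8851 := ndS (p := 2802) (l := 1) rfl N2802 D8851
theorem N6054 : nd 6054 = n8852 := ndS (p := 2802) (l := 7) rfl N2802 D8852
theorem N6055 : nd 6055 = n8854 := ndS (p := 2804) (l := 3) rfl N2804 D8854
theorem N6056 : nd 6056 = n8856 := ndS (p := 2805) (l := 6) rfl N2805 D8856
theorem N6057 : nd 6057 = n8858 := ndS (p := 2806) (l := 1) rfl N2806 D8858
theorem N6058 : nd 6058 = n8859 := ndS (p := 2806) (l := 5) rfl N2806 D8859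
theorem N6059 : nd 6059 = n8860 := ndS (p := 2807) (l := 4) rfl N2807 D8860
theorem N6060 : nd 6060 = n8862 := ndS (p := 2809) (l := 3) rfl N2809 D8862
theorem N6061 : nd 6061 = n8863 := ndS (p := 2809) (l := 6) rfl N2809 D8863
theorem N6062 : nd 6062 = n8864 := ndS (p := 2811) (l := 5) rfl N2811 D8864
theorem N6063 : nd 6063 = n8865 := ndS (p := 2811) (l := 6) rfl N2811 D8865
theorem N6064 : nd 6064 = n8866 := ndS (p := 2812) (l := 4) rfl N2812 D8866
theorem N6065 : nd 6065 = n8867 := ndS (p := 2812) (l := 6) rfl N2812 D8867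
theorem N6066 : nd 6066 = n8868 := ndS (p := 2813) (l := 5) rfl N2813 D8868
theorem N6067 : nd 6067 = n8869 := ndS (p := 2813) (l := 6) rfl N2813 D8869
theorem N6068 : nd 6068 = n8870 := ndS (p := 2814) (l := 4) rfl N2814 D8870
theorem N6069 : nd 6069 = n8871 := ndS (p := 2814) (l := 6) rfl N2814 D8871
theorem N6070 : nd 6070 = n8874 := ndS (p := 2815) (l := 5) rfl N2815 D8874
theorem N6071 : nd 6071 = n8875 := ndS (p := 2816) (l := 0) rfl N2816 D8875
theorem N6072 : nd 6072 = n8876 := ndS (p := 2816) (l := 1) rfl N2816 D8876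
theorem N6073 : nd 6073 = n8877 := ndS (p := 2816) (l := 4) rfl N2816 D8877
theorem N6074 : nd 6074 = n8878 := ndS (p := 2816) (l := 6) rfl N2816 D8878
theorem N6075 : nd 6075 = n8879 := ndS (p := 2817) (l := 3) rfl N2817 D8879
theorem N6076 : nd 6076 = n8880 := ndS (p := 2817) (l := 4) rfl N2817 D8880
theorem N6077 : nd 6077 = n8881 := ndS (p := 2817) (l := 6) rfl N2817 D8881
theorem N6078 : nd 6078 = n8882 := ndS (p := 2818) (l := 3) rfl N2818 D8882
theorem N6079 : nd 6079 = n8883 := ndS (p := 2818) (l := 4) rfl N2818 D8883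
theorem N6080 : nd 6080 = n8884 := ndS (p := 2818) (l := 6) rfl N2818 D8884
theorem N6081 : nd 6081 = n8885 := ndS (p := 2819) (l := 0) rfl N2819 D8885
theorem N6082 : nd 6082 = n8886 := ndS (p := 2819) (l := 1) rfl N2819 D8886
theorem N6083 : nd 6083 = n8887 := ndS (p := 2819) (l := 3) rfl N2819 D8887
theorem N6084 : nd 6084 = n8888 := ndS (p := 2819) (l := 5) rfl N2819 D8888
theorem N6085 : nd 6085 = n8889 := ndS (p := 2819) (l := 6) rfl N2819 D8889
theorem N6086 : nd 6086 = n8890 := ndS (p := 2819) (l := 7) rfl N2819 D8890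
theorem N6087 : nd 6087 = n8891 := ndS (p := 2820) (l := 0) rfl N2820 D8891
theorem N6088 : nd 6088 = n8892 := ndS (p := 2820) (l := 1) rfl N2820 D8892
theorem N6089 : nd 6089 = n8893 := ndS (p := 2820) (l := 7) rfl N2820 D8893
theorem N6090 : nd 6090 = n8894 := ndS (p := 2821) (l := 6) rfl N2821 D8894
theorem N6091 : nd 6091 = n8895 := ndS (p := 2822) (l := 0) rfl N2822 D8895
theorem N6092 : nd 6092 = n8896 := ndS (p := 2822) (l := 1) rfl N2822 D8896
theorem N6093 : nd 6093 = n8897 := ndS (p := 2823) (l := 0) rfl N2823 D8897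
theorem N6094 : nd 6094 = n8898 := ndS (p := 2823) (l := 1) rfl N2823 D8898
theorem N6095 : nd 6095 = n8899 := ndS (p := 2823) (l := 2) rfl N2823 D8899
theorem N6096 : nd 6096 = n8900 := ndS (p := 2823) (l := 6) rfl N2823 D8900
theorem N6097 : nd 6097 = n8903 := ndS (p := 2824) (l := 5) rfl N2824 D8903
theorem N6098 : nd 6098 = n8906 := ndS (p := 2825) (l := 3) rfl N2825 D8906
theorem N6099 : nd 6099 = n8908 := ndS (p := 2825) (l := 5) rfl N2825 D8908
theorem N6100 : nd 6100 = n8909 := ndS (p := 2825) (l := 6) rfl N2825 D8909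
theorem N6101 : nd 6101 = n8911 := ndS (p := 2826) (l := 3) rfl N2826 D8911
theorem N6102 : nd 6102 = n8913 := ndS (p := 2826) (l := 5) rfl N2826 D8913
theorem N6103 : nd 6103 = n8914 := ndS (p := 2826) (l := 6) rfl N2826 D8914
theorem N6104 : nd 6104 = n8915 := ndS (p := 2827) (l := 6) rfl N2827 D8915
theorem N6105 : nd 6105 = n8916 := ndS (p := 2828) (l := 0) rfl N2828 D8916
theorem N6106 : nd 6106 = n8918 := ndS (p := 2829) (l := 6) rfl N2829 D8918
theorem N6107 : nd 6107 = n8919 := ndS (p := 2830) (l := 0) rfl N2830 D8919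
theorem N6108 : nd 6108 = n8920 := ndS (p := 2830) (l := 3) rfl N2830 D8920
theorem N6109 : nd 6109 = n8921 := ndS (p := 2830) (l := 5) rfl N2830 D8921
theorem N6110 : nd 6110 = n8922 := ndS (p := 2830) (l := 6) rfl N2830 D8922
theorem N6111 : nd 6111 = n8925 := ndS (p := 2831) (l := 5) rfl N2831 D8925
theorem N6112 : nd 6112 = n8927 := ndS (p := 2832) (l := 6) rfl N2832 D8927
theorem N6113 : nd 6113 = n8928 := ndS (p := 2833) (l := 5) rfl N2833 D8928
theorem N6114 : nd 6114 = n8929 := ndS (p := 2833) (l := 6) rfl N2833 D8929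
theorem N6115 : nd 6115 = n8930 := ndS (p := 2834) (l := 5) rfl N2834 D8930
theorem N6116 : nd 6116 = n8931 := ndS (p := 2835) (l := 4) rfl N2835 D8931
theorem N6117 : nd 6117 = n8932 := ndS (p := 2835) (l := 6) rfl N2835 D8932
theorem N6118 : nd 6118 = n8933 := ndS (p := 2836) (l := 4) rfl N2836 D8933
theorem N6119 : nd 6119 = n8934 := ndS (p := 2836) (l := 6) rfl N2836 D8934
theorem N6120 : nd 6120 = n8935 := ndS (p := 2837) (l := 3) rfl N2837 D8935
theorem N6121 : nd 6121 = n8936 := ndS (p := 2837) (l := 4) rfl N2837 D8936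
theorem N6122 : nd 6122 = n8937 := ndS (p := 2837) (l := 6) rfl N2837 D8937
theorem N6123 : nd 6123 = n8938 := ndS (p := 2838) (l := 0) rfl N2838 D8938
theorem N6124 : nd 6124 = n8939 := ndS (p := 2838) (l := 5) rfl N2838 D8939
theorem N6125 : nd 6125 = n8940 := ndS (p := 2838) (l := 6) rfl N2838 D8940
theorem N6126 : nd 6126 = n8941 := ndS (p := 2839) (l := 0) rfl N2839 D8941
theorem N6127 : nd 6127 = n8942 := ndS (p := 2839) (l := 1) rfl N2839 D8942
theorem N6128 : nd 6128 = n8943 := ndS (p := 2839) (l := 7) rfl N2839 D8943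
theorem N6129 : nd 6129 = n8945 := ndS (p := 2840) (l := 3) rfl N2840 D8945
theorem N6130 : nd 6130 = n8947 := ndS (p := 2840) (l := 5) rfl N2840 D8947
theorem N6131 : nd 6131 = n8948 := ndS (p := 2840) (l := 6) rfl N2840 D8948
theorem N6132 : nd 6132 = n8950 := ndS (p := 2841) (l := 3) rfl N2841 D8950
theorem N6133 : nd 6133 = n8952 := ndS (p := 2841) (l := 5) rfl N2841 D8952
theorem N6134 : nd 6134 = n8954 := ndS (p := 2843) (l := 5) rfl N2843 D8954
theorem N6135 : nd 6135 = n8955 := ndS (p := 2843) (l := 6) rfl N2843 D8955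
theorem N6136 : nd 6136 = n8956 := ndS (p := 2844) (l := 5) rfl N2844 D8956
theorem N6137 : nd 6137 = n8963 := ndS (p := 2846) (l := 1) rfl N2846 D8963
theorem N6138 : nd 6138 = n8964 := ndS (p := 2846) (l := 5) rfl N2846 D8964
theorem N6139 : nd 6139 = n8965 := ndS (p := 2846) (l := 7) rfl N2846 D8965
theorem N6140 : nd 6140 = n8967 := ndS (p := 2847) (l := 3) rfl N2847 D8967
theorem N6141 : nd 6141 = n8968 := ndS (p := 2847) (l := 4) rfl N2847 D8968
theorem N6142 : nd 6142 = n8972 := ndS (p := 2848) (l := 3) rfl N2848 D8972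
theorem N6143 : nd 6143 = n8973 := ndS (p := 2848) (l := 4) rfl N2848 D8973
theorem N6144 : nd 6144 = n8974 := ndS (p := 2848) (l := 5) rfl N2848 D8974
theorem N6145 : nd 6145 = n8977 := ndS (p := 2849) (l := 4) rfl N2849 D8977
theorem N6146 : nd 6146 = n8978 := ndS (p := 2851) (l := 3) rfl N2851 D8978
theorem N6147 : nd 6147 = n8979 := ndS (p := 2852) (l := 0) rfl N2852 D8979
theorem N6148 : nd 6148 = n8980 := ndS (p := 2852) (l := 1) rfl N2852 D8980
theorem N6149 : nd 6149 = n8981 := ndS (p := 2852) (l := 5) rfl N2852 D8981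
theorem N6150 : nd 6150 = n8987 := ndS (p := 2853) (l := 0) rfl N2853 D8987
theorem N6151 : nd 6151 = n8988 := ndS (p := 2853) (l := 6) rfl N2853 D8988
theorem N6152 : nd 6152 = n8989 := ndS (p := 2855) (l := 5) rfl N2855 D8989
theorem N6153 : nd 6153 = n8990 := ndS (p := 2856) (l := 5) rfl N2856 D8990
theorem N6154 : nd 6154 = n8994 := ndS (p := 2857) (l := 0) rfl N2857 D8994
theorem N6155 : nd 6155 = n8996 := ndS (p := 2857) (l := 4) rfl N2857 D8996
theorem N6156 : nd 6156 = n8998 := ndS (p := 2858) (l := 5) rfl N2858 D8998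
theorem N6157 : nd 6157 = n8999 := ndS (p := 2860) (l := 5) rfl N2860 D8999
theorem N6158 : nd 6158 = n9001 := ndS (p := 2861) (l := 1) rfl N2861 D9001
theorem N6159 : nd 6159 = n9002 := ndS (p := 2861) (l := 6) rfl N2861 D9002
theorem N6160 : nd 6160 = n9003 := ndS (p := 2862) (l := 5) rfl N2862 D9003
theorem N6161 : nd 6161 = n9004 := ndS (p := 2862) (l := 6) rfl N2862 D9004
theorem N6162 : nd 6162 = n9006 := ndS (p := 2864) (l := 0) rfl N2864 D9006
theorem N6163 : nd 6163 = n9007 := ndS (p := 2864) (l := 4) rfl N2864 D9007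
theorem N6164 : nd 6164 = n9011 := ndS (p := 2866) (l := 0) rfl N2866 D9011
theorem N6165 : nd 6165 = n9012 := ndS (p := 2866) (l := 1) rfl N2866 D9012
theorem N6166 : nd 6166 = n9013 := ndS (p := 2866) (l := 3) rfl N2866 D9013
theorem N6167 : nd 6167 = n9014 := ndS (p := 2866) (l := 5) rfl N2866 D9014
theorem N6168 : nd 6168 = n9015 := ndS (p := 2866) (l := 6) rfl N2866 D9015
theorem N6169 : nd 6169 = n9016 := ndS (p := 2867) (l := 0) rfl N2867 D9016
theorem N6170 : nd 6170 = n9018 := ndS (p := 2867) (l := 7) rfl N2867 D9018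
theorem N6171 : nd 6171 = n9020 := ndS (p := 2869) (l := 5) rfl N2869 D9020
theorem N6172 : nd 6172 = n9022 := ndS (p := 2870) (l := 5) rfl N2870 D9022
theorem N6173 : nd 6173 = n9023 := ndS (p := 2870) (l := 6) rfl N2870 D9023
theorem N6174 : nd 6174 = n9026 := ndS (p := 2872) (l := 0) rfl N2872 D9026
theorem N6175 : nd 6175 = n9027 := ndS (p := 2872) (l := 4) rfl N2872 D9027
theorem N6176 : nd 6176 = n9028 := ndS (p := 2872) (l := 6) rfl N2872 D9028
theorem N6177 : nd 6177 = n9029 := ndS (p := 2873) (l := 0) rfl N2873 D9029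
theorem N6178 : nd 6178 = n9032 := ndS (p := 2874) (l := 4) rfl N2874 D9032
theorem N6179 : nd 6179 = n9034 := ndS (p := 2875) (l := 0) rfl N2875 D9034
theorem N6180 : nd 6180 = n9035 := ndS (p := 2875) (l := 1) rfl N2875 D9035
theorem N6181 : nd 6181 = n9037 := ndS (p := 2876) (l := 3) rfl N2876 D9037
theorem N6182 : nd 6182 = n9038 := ndS (p := 2876) (l := 5) rfl N2876 D9038
theorem N6183 : nd 6183 = n9039 := ndS (p := 2876) (l := 6) rfl N2876 D9039
theorem N6184 : nd 6184 = n9041 := ndS (p := 2877) (l := 1) rfl N2877 D9041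
theorem N6185 : nd 6185 = n9054 := ndS (p := 2879) (l := 3) rfl N2879 D9054
theorem N6186 : nd 6186 = n9055 := ndS (p := 2879) (l := 5) rfl N2879 D9055
theorem N6187 : nd 6187 = n9056 := ndS (p := 2879) (l := 6) rfl N2879 D9056
theorem N6188 : nd 6188 = n9057 := ndS (p := 2880) (l := 0) rfl N2880 D9057
theorem N6189 : nd 6189 = n9058 := ndS (p := 2880) (l := 1) rfl N2880 D9058
theorem N6190 : nd 6190 = n9059 := ndS (p := 2880) (l := 7) rfl N2880 D9059
theorem N6191 : nd 6191 = n9060 := ndS (p := 2881) (l := 6) rfl N2881 D9060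
theorem N6192 : nd 6192 = n9061 := ndS (p := 2882) (l := 0) rfl N2882 D9061
theorem N6193 : nd 6193 = n9062 := ndS (p := 2882) (l := 1) rfl N2882 D9062
theorem N6194 : nd 6194 = n9063 := ndS (p := 2882) (l := 3) rfl N2882 D9063
theorem N6195 : nd 6195 = n9064 := ndS (p := 2882) (l := 5) rfl N2882 D9064
theorem N6196 : nd 6196 = n9065 := ndS (p := 2882) (l := 6) rfl N2882 D9065
theorem N6197 : nd 6197 = n9066 := ndS (p := 2883) (l := 0) rfl N2883 D9066
theorem N6198 : nd 6198 = n9069 := ndS (p := 2883) (l := 7) rfl N2883 D9069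
theorem N6199 : nd 6199 = n9070 := ndS (p := 2884) (l := 2) rfl N2884 D9070
theorem N6200 : nd 6200 = n9071 := ndS (p := 2884) (l := 4) rfl N2884 D9071
theorem N6201 : nd 6201 = n9072 := ndS (p := 2884) (l := 6) rfl N2884 D9072
theorem N6202 : nd 6202 = n9073 := ndS (p := 2885) (l := 3) rfl N2885 D9073
theorem N6203 : nd 6203 = n9074 := ndS (p := 2885) (l := 5) rfl N2885 D9074
theorem N6204 : nd 6204 = n9075 := ndS (p := 2885) (l := 6) rfl N2885 D9075
theorem N6205 : nd 6205 = n9077 := ndS (p := 2886) (l := 1) rfl N2886 D9077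
theorem N6206 : nd 6206 = n9078 := ndS (p := 2886) (l := 5) rfl N2886 D9078
theorem N6207 : nd 6207 = n9079 := ndS (p := 2886) (l := 7) rfl N2886 D9079
theorem N6208 : nd 6208 = n9080 := ndS (p := 2887) (l := 3) rfl N2887 D9080
theorem N6209 : nd 6209 = n9081 := ndS (p := 2887) (l := 5) rfl N2887 D9081
theorem N6210 : nd 6210 = n9082 := ndS (p := 2887) (l := 6) rfl N2887 D9082
theorem N6211 : nd 6211 = n9083 := ndS (p := 2888) (l := 3) rfl N2888 D9083
theorem N6212 : nd 6212 = n9084 := ndS (p := 2888) (l := 5) rfl N2888 D9084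
theorem N6213 : nd 6213 = n9085 := ndS (p := 2888) (l := 6) rfl N2888 D9085
theorem N6214 : nd 6214 = n9086 := ndS (p := 2889) (l := 0) rfl N2889 D9086
theorem N6215 : nd 6215 = n9087 := ndS (p := 2889) (l := 1) rfl N2889 D9087
theorem N6216 : nd 6216 = n9088 := ndS (p := 2889) (l := 4) rfl N2889 D9088
theorem N6217 : nd 6217 = n9089 := ndS (p := 2889) (l := 6) rfl N2889 D9089
theorem N6218 : nd 6218 = n9090 := ndS (p := 2890) (l := 0) rfl N2890 D9090
theorem N6219 : nd 6219 = n9091 := ndS (p := 2890) (l := 1) rfl N2890 D9091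
theorem N6220 : nd 6220 = n9092 := ndS (p := 2890) (l := 5) rfl N2890 D9092
theorem N6221 : nd 6221 = n9093 := ndS (p := 2890) (l := 7) rfl N2890 D9093
theorem N6222 : nd 6222 = n9095 := ndS (p := 2891) (l := 3) rfl N2891 D9095
theorem N6223 : nd 6223 = n9096 := ndS (p := 2891) (l := 4) rfl N2891 D9096
theorem N6224 : nd 6224 = n9097 := ndS (p := 2891) (l := 5) rfl N2891 D9097
theorem N6225 : nd 6225 = n9098 := ndS (p := 2891) (l := 6) rfl N2891 D9098
theorem N6226 : nd 6226 = n9100 := ndS (p := 2892) (l := 3) rfl N2892 D9100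
theorem N6227 : nd 6227 = n9101 := ndS (p := 2892) (l := 4) rfl N2892 D9101
theorem N6228 : nd 6228 = n9102 := ndS (p := 2892) (l := 5) rfl N2892 D9102
theorem N6229 : nd 6229 = n9103 := ndS (p := 2892) (l := 6) rfl N2892 D9103
theorem N6230 : nd 6230 = n9104 := ndS (p := 2894) (l := 4) rfl N2894 D9104
theorem N6231 : nd 6231 = n9106 := ndS (p := 2895) (l := 3) rfl N2895 D9106
theorem N6232 : nd 6232 = n9107 := ndS (p := 2895) (l := 4) rfl N2895 D9107
theorem N6233 : nd 6233 = n9110 := ndS (p := 2896) (l := 1) rfl N2896 D9110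
theorem N6234 : nd 6234 = n9111 := ndS (p := 2896) (l := 4) rfl N2896 D9111
theorem N6235 : nd 6235 = n9118 := ndS (p := 2897) (l := 0) rfl N2897 D9118
theorem N6236 : nd 6236 = n9120 := ndS (p := 2897) (l := 2) rfl N2897 D9120
theorem N6237 : nd 6237 = n9121 := ndS (p := 2897) (l := 4) rfl N2897 D9121
theorem N6238 : nd 6238 = n9122 := ndS (p := 2897) (l := 5) rfl N2897 D9122
theorem N6239 : nd 6239 = n9123 := ndS (p := 2897) (l := 6) rfl N2897 D9123
theorem N6240 : nd 6240 = n9136 := ndS (p := 2900) (l := 1) rfl N2900 D9136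
theorem N6241 : nd 6241 = n9137 := ndS (p := 2900) (l := 2) rfl N2900 D9137
theorem N6242 : nd 6242 = n9138 := ndS (p := 2900) (l := 4) rfl N2900 D9138
theorem N6243 : nd 6243 = n9139 := ndS (p := 2900) (l := 6) rfl N2900 D9139
theorem N6244 : nd 6244 = n9143 := ndS (p := 2902) (l := 3) rfl N2902 D9143
theorem N6245 : nd 6245 = n9144 := ndS (p := 2903) (l := 4) rfl N2903 D9144
theorem N6246 : nd 6246 = n9145 := ndS (p := 2903) (l := 6) rfl N2903 D9145
theorem N6247 : nd 6247 = n9146 := ndS (p := 2904) (l := 5) rfl N2904 D9146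
theorem N6248 : nd 6248 = n9147 := ndS (p := 2905) (l := 6) rfl N2905 D9147
theorem N6249 : nd 6249 = n9148 := ndS (p := 2906) (l := 6) rfl N2906 D9148
theorem N6250 : nd 6250 = n9150 := ndS (p := 2907) (l := 5) rfl N2907 D9150
theorem N6251 : nd 6251 = n9151 := ndS (p := 2908) (l := 5) rfl N2908 D9151
theorem N6252 : nd 6252 = n9153 := ndS (p := 2909) (l := 6) rfl N2909 D9153
theorem N6253 : nd 6253 = n9154 := ndS (p := 2910) (l := 3) rfl N2910 D9154
theorem N6254 : nd 6254 = n9155 := ndS (p := 2910) (l := 6) rfl N2910 D9155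
theorem N6255 : nd 6255 = n9156 := ndS (p := 2911) (l := 0) rfl N2911 D9156
theorem N6256 : nd 6256 = n9157 := ndS (p := 2911) (l := 1) rfl N2911 D9157
theorem N6257 : nd 6257 = n9158 := ndS (p := 2911) (l := 5) rfl N2911 D9158
theorem N6258 : nd 6258 = n9159 := ndS (p := 2911) (l := 7) rfl N2911 D9159
theorem N6259 : nd 6259 = n9160 := ndS (p := 2913) (l := 5) rfl N2913 D9160
theorem N6260 : nd 6260 = n9161 := ndS (p := 2913) (l := 6) rfl N2913 D9161
theorem N6261 : nd 6261 = n9163 := ndS (p := 2915) (l := 5) rfl N2915 D9163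
theorem N6262 : nd 6262 = n9164 := ndS (p := 2915) (l := 6) rfl N2915 D9164
theorem N6263 : nd 6263 = n9165 := ndS (p := 2915) (l := 7) rfl N2915 D9165
theorem N6264 : nd 6264 = n9166 := ndS (p := 2916) (l := 6) rfl N2916 D9166
theorem N6265 : nd 6265 = n9167 := ndS (p := 2916) (l := 7) rfl N2916 D9167
theorem N6266 : nd 6266 = n9168 := ndS (p := 2917) (l := 0) rfl N2917 D9168
theorem N6267 : nd 6267 = n9169 := ndS (p := 2917) (l := 1) rfl N2917 D9169
theorem N6268 : nd 6268 = n9170 := ndS (p := 2917) (l := 5) rfl N2917 D9170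
theorem N6269 : nd 6269 = n9171 := ndS (p := 2917) (l := 7) rfl N2917 D9171
theorem N6270 : nd 6270 = n9180 := ndS (p := 2920) (l := 4) rfl N2920 D9180
theorem N6271 : nd 6271 = n9181 := ndS (p := 2920) (l := 7) rfl N2920 D9181
theorem N6272 : nd 6272 = n9182 := ndS (p := 2922) (l := 6) rfl N2922 D9182
theorem N6273 : nd 6273 = n9185 := ndS (p := 2923) (l := 5) rfl N2923 D9185
theorem N6274 : nd 6274 = n9186 := ndS (p := 2925) (l := 6) rfl N2925 D9186
theorem N6275 : nd 6275 = n9188 := ndS (p := 2926) (l := 5) rfl N2926 D9188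
theorem N6276 : nd 6276 = n9190 := ndS (p := 2927) (l := 4) rfl N2927 D9190
theorem N6277 : nd 6277 = n9191 := ndS (p := 2928) (l := 3) rfl N2928 D9191
theorem N6278 : nd 6278 = n9192 := ndS (p := 2928) (l := 5) rfl N2928 D9192
theorem N6279 : nd 6279 = n9193 := ndS (p := 2928) (l := 6) rfl N2928 D9193
theorem N6280 : nd 6280 = n9194 := ndS (p := 2929) (l := 0) rfl N2929 D9194
theorem N6281 : nd 6281 = n9195 := ndS (p := 2929) (l := 1) rfl N2929 D9195
theorem N6282 : nd 6282 = n9196 := ndS (p := 2929) (l := 7) rfl N2929 D9196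
theorem N6283 : nd 6283 = n9197 := ndS (p := 2930) (l := 2) rfl N2930 D9197
theorem N6284 : nd 6284 = n9198 := ndS (p := 2930) (l := 4) rfl N2930 D9198
theorem N6285 : nd 6285 = n9199 := ndS (p := 2930) (l := 6) rfl N2930 D9199
theorem N6286 : nd 6286 = n9200 := ndS (p := 2931) (l := 0) rfl N2931 D9200
theorem N6287 : nd 6287 = n9201 := ndS (p := 2931) (l := 1) rfl N2931 D9201
theorem N6288 : nd 6288 = n9202 := ndS (p := 2931) (l := 3) rfl N2931 D9202
theorem N6289 : nd 6289 = n9203 := ndS (p := 2931) (l := 5) rfl N2931 D9203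
theorem N6290 : nd 6290 = n9204 := ndS (p := 2931) (l := 6) rfl N2931 D9204
theorem N6291 : nd 6291 = n9209 := ndS (p := 2933) (l := 2) rfl N2933 D9209
theorem N6292 : nd 6292 = n9210 := ndS (p := 2933) (l := 4) rfl N2933 D9210
theorem N6293 : nd 6293 = n9211 := ndS (p := 2933) (l := 6) rfl N2933 D9211
theorem N6294 : nd 6294 = n9212 := ndS (p := 2934) (l := 3) rfl N2934 D9212
theorem N6295 : nd 6295 = n9213 := ndS (p := 2934) (l := 5) rfl N2934 D9213
theorem N6296 : nd 6296 = n9214 := ndS (p := 2934) (l := 6) rfl N2934 D9214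
theorem N6297 : nd 6297 = n9216 := ndS (p := 2935) (l := 1) rfl N2935 D9216
theorem N6298 : nd 6298 = n9217 := ndS (p := 2935) (l := 7) rfl N2935 D9217
theorem N6299 : nd 6299 = n9218 := ndS (p := 2936) (l := 3) rfl N2936 D9218
theorem N6300 : nd 6300 = n9219 := ndS (p := 2936) (l := 5) rfl N2936 D9219
theorem N6301 : nd 6301 = n9220 := ndS (p := 2936) (l := 6) rfl N2936 D9220
theorem N6302 : nd 6302 = n9221 := ndS (p := 2937) (l := 3) rfl N2937 D9221
theorem N6303 : nd 6303 = n9222 := ndS (p := 2937) (l := 5) rfl N2937 D9222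
theorem N6304 : nd 6304 = n9223 := ndS (p := 2937) (l := 6) rfl N2937 D9223
theorem N6305 : nd 6305 = n9224 := ndS (p := 2938) (l := 0) rfl N2938 D9224
theorem N6306 : nd 6306 = n9225 := ndS (p := 2938) (l := 2) rfl N2938 D9225
theorem N6307 : nd 6307 = n9226 := ndS (p := 2938) (l := 5) rfl N2938 D9226
theorem N6308 : nd 6308 = n9227 := ndS (p := 2938) (l := 6) rfl N2938 D9227
theorem N6309 : nd 6309 = n9228 := ndS (p := 2939) (l := 4) rfl N2939 D9228
theorem N6310 : nd 6310 = n9229 := ndS (p := 2939) (l := 6) rfl N2939 D9229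
theorem N6311 : nd 6311 = n9230 := ndS (p := 2939) (l := 7) rfl N2939 D9230
theorem N6312 : nd 6312 = n9231 := ndS (p := 2940) (l := 0) rfl N2940 D9231
theorem N6313 : nd 6313 = n9232 := ndS (p := 2940) (l := 1) rfl N2940 D9232
theorem N6314 : nd 6314 = n9233 := ndS (p := 2940) (l := 5) rfl N2940 D9233
theorem N6315 : nd 6315 = n9234 := ndS (p := 2940) (l := 7) rfl N2940 D9234
theorem N6316 : nd 6316 = n9235 := ndS (p := 2941) (l := 6) rfl N2941 D9235
theorem N6317 : nd 6317 = n9237 := ndS (p := 2942) (l := 3) rfl N2942 D9237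
theorem N6318 : nd 6318 = n9238 := ndS (p := 2942) (l := 4) rfl N2942 D9238
theorem N6319 : nd 6319 = n9239 := ndS (p := 2942) (l := 5) rfl N2942 D9239
theorem N6320 : nd 6320 = n9240 := ndS (p := 2942) (l := 6) rfl N2942 D9240
theorem N6321 : nd 6321 = n9242 := ndS (p := 2943) (l := 3) rfl N2943 D9242
theorem N6322 : nd 6322 = n9243 := ndS (p := 2943) (l := 4) rfl N2943 D9243
theorem N6323 : nd 6323 = n9244 := ndS (p := 2943) (l := 5) rfl N2943 D9244
theorem N6324 : nd 6324 = n9245 := ndS (p := 2943) (l := 6) rfl N2943 D9245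
theorem N6325 : nd 6325 = n9246 := ndS (p := 2944) (l := 6) rfl N2944 D9246
theorem N6326 : nd 6326 = n9247 := ndS (p := 2945) (l := 0) rfl N2945 D9247
theorem N6327 : nd 6327 = n9248 := ndS (p := 2945) (l := 1) rfl N2945 D9248
theorem N6328 : nd 6328 = n9250 := ndS (p := 2946) (l := 3) rfl N2946 D9250
theorem N6329 : nd 6329 = n9251 := ndS (p := 2946) (l := 4) rfl N2946 D9251
theorem N6330 : nd 6330 = n9252 := ndS (p := 2946) (l := 5) rfl N2946 D9252
theorem N6331 : nd 6331 = n9253 := ndS (p := 2947) (l := 4) rfl N2947 D9253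
theorem N6332 : nd 6332 = n9254 := ndS (p := 2948) (l := 6) rfl N2948 D9254
theorem N6333 : nd 6333 = n9255 := ndS (p := 2949) (l := 0) rfl N2949 D9255
theorem N6334 : nd 6334 = n9256 := ndS (p := 2949) (l := 1) rfl N2949 D9256
theorem N6335 : nd 6335 = n9258 := ndS (p := 2949) (l := 7) rfl N2949 D9258
theorem N6336 : nd 6336 = n9260 := ndS (p := 2950) (l := 3) rfl N2950 D9260
theorem N6337 : nd 6337 = n9262 := ndS (p := 2950) (l := 5) rfl N2950 D9262
theorem N6338 : nd 6338 = n9264 := ndS (p := 2951) (l := 3) rfl N2951 D9264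
theorem N6339 : nd 6339 = n9278 := ndS (p := 2953) (l := 0) rfl N2953 D9278
theorem N6340 : nd 6340 = n9280 := ndS (p := 2953) (l := 2) rfl N2953 D9280
theorem N6341 : nd 6341 = n9281 := ndS (p := 2953) (l := 4) rfl N2953 D9281
theorem N6342 : nd 6342 = n9282 := ndS (p := 2953) (l := 5) rfl N2953 D9282
theorem N6343 : nd 6343 = n9283 := ndS (p := 2953) (l := 6) rfl N2953 D9283
theorem N6344 : nd 6344 = n9287 := ndS (p := 2954) (l := 3) rfl N2954 D9287
theorem N6345 : nd 6345 = n9288 := ndS (p := 2954) (l := 5) rfl N2954 D9288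
theorem N6346 : nd 6346 = n9291 := ndS (p := 2955) (l := 0) rfl N2955 D9291
theorem N6347 : nd 6347 = n9293 := ndS (p := 2955) (l := 4) rfl N2955 D9293
theorem N6348 : nd 6348 = n9301 := ndS (p := 2957) (l := 1) rfl N2957 D9301
theorem N6349 : nd 6349 = n9302 := ndS (p := 2957) (l := 2) rfl N2957 D9302
theorem N6350 : nd 6350 = n9303 := ndS (p := 2957) (l := 4) rfl N2957 D9303
theorem N6351 : nd 6351 = n9304 := ndS (p := 2957) (l := 5) rfl N2957 D9304
theorem N6352 : nd 6352 = n9305 := ndS (p := 2957) (l := 6) rfl N2957 D9305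
theorem N6353 : nd 6353 = n9306 := ndS (p := 2958) (l := 3) rfl N2958 D9306
theorem N6354 : nd 6354 = n9312 := ndS (p := 2960) (l := 5) rfl N2960 D9312
theorem N6355 : nd 6355 = n9328 := ndS (p := 2962) (l := 5) rfl N2962 D9328
theorem N6356 : nd 6356 = n9329 := ndS (p := 2963) (l := 6) rfl N2963 D9329
theorem N6357 : nd 6357 = n9330 := ndS (p := 2964) (l := 6) rfl N2964 D9330
theorem N6358 : nd 6358 = n9332 := ndS (p := 2965) (l := 5) rfl N2965 D9332
theorem N6359 : nd 6359 = n9333 := ndS (p := 2967) (l := 5) rfl N2967 D9333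
theorem N6360 : nd 6360 = n9334 := ndS (p := 2968) (l := 4) rfl N2968 D9334
theorem N6361 : nd 6361 = n9335 := ndS (p := 2968) (l := 5) rfl N2968 D9335
theorem N6362 : nd 6362 = n9336 := ndS (p := 2969) (l := 0) rfl N2969 D9336
theorem N6363 : nd 6363 = n9337 := ndS (p := 2969) (l := 4) rfl N2969 D9337
theorem N6364 : nd 6364 = n9339 := ndS (p := 2970) (l := 5) rfl N2970 D9339
theorem N6365 : nd 6365 = n9340 := ndS (p := 2970) (l := 6) rfl N2970 D9340
theorem N6366 : nd 6366 = n9341 := ndS (p := 2971) (l := 6) rfl N2971 D9341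
theorem N6367 : nd 6367 = n9342 := ndS (p := 2972) (l := 6) rfl N2972 D9342
theorem N6368 : nd 6368 = n9344 := ndS (p := 2973) (l := 1) rfl N2973 D9344
theorem N6369 : nd 6369 = n9345 := ndS (p := 2973) (l := 5) rfl N2973 D9345
theorem N6370 : nd 6370 = n9347 := ndS (p := 2974) (l := 6) rfl N2974 D9347
theorem N6371 : nd 6371 = n9348 := ndS (p := 2975) (l := 6) rfl N2975 D9348
theorem N6372 : nd 6372 = n9349 := ndS (p := 2976) (l := 0) rfl N2976 D9349
theorem N6373 : nd 6373 = n9350 := ndS (p := 2976) (l := 5) rfl N2976 D9350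
theorem N6374 : nd 6374 = n9352 := ndS (p := 2977) (l := 1) rfl N2977 D9352
theorem N6375 : nd 6375 = n9353 := ndS (p := 2977) (l := 3) rfl N2977 D9353
theorem N6376 : nd 6376 = n9354 := ndS (p := 2977) (l := 5) rfl N2977 D9354
theorem N6377 : nd 6377 = n9355 := ndS (p := 2977) (l := 6) rfl N2977 D9355
theorem N6378 : nd 6378 = n9356 := ndS (p := 2978) (l := 0) rfl N2978 D9356
theorem N6379 : nd 6379 = n9358 := ndS (p := 2978) (l := 5) rfl N2978 D9358
theorem N6380 : nd 6380 = n9359 := ndS (p := 2978) (l := 7) rfl N2978 D9359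
theorem N6381 : nd 6381 = n9361 := ndS (p := 2980) (l := 0) rfl N2980 D9361
theorem N6382 : nd 6382 = n9363 := ndS (p := 2980) (l := 4) rfl N2980 D9363
theorem N6383 : nd 6383 = n9367 := ndS (p := 2983) (l := 6) rfl N2983 D9367
theorem N6384 : nd 6384 = n9372 := ndS (p := 2984) (l := 6) rfl N2984 D9372
theorem N6385 : nd 6385 = n9377 := ndS (p := 2985) (l := 3) rfl N2985 D9377
theorem N6386 : nd 6386 = n9378 := ndS (p := 2985) (l := 5) rfl N2985 D9378
theorem N6387 : nd 6387 = n9379 := ndS (p := 2985) (l := 6) rfl N2985 D9379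
theorem N6388 : nd 6388 = n9381 := ndS (p := 2986) (l := 1) rfl N2986 D9381
theorem N6389 : nd 6389 = n9383 := ndS (p := 2986) (l := 7) rfl N2986 D9383
theorem N6390 : nd 6390 = n9397 := ndS (p := 2987) (l := 3) rfl N2987 D9397
theorem N6391 : nd 6391 = n9398 := ndS (p := 2987) (l := 5) rfl N2987 D9398
theorem N6392 : nd 6392 = n9399 := ndS (p := 2987) (l := 6) rfl N2987 D9399
theorem N6393 : nd 6393 = n9400 := ndS (p := 2988) (l := 0) rfl N2988 D9400
theorem N6394 : nd 6394 = n9401 := ndS (p := 2988) (l := 1) rfl N2988 D9401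
theorem N6395 : nd 6395 = n9402 := ndS (p := 2988) (l := 5) rfl N2988 D9402
theorem N6396 : nd 6396 = n9403 := ndS (p := 2988) (l := 7) rfl N2988 D9403
theorem N6397 : nd 6397 = n9405 := ndS (p := 2989) (l := 3) rfl N2989 D9405
theorem N6398 : nd 6398 = n9409 := ndS (p := 2990) (l := 3) rfl N2990 D9409
theorem N6399 : nd 6399 = n9410 := ndS (p := 2990) (l := 4) rfl N2990 D9410
theorem N6400 : nd 6400 = n9414 := ndS (p := 2991) (l := 4) rfl N2991 D9414
theorem N6401 : nd 6401 = n9416 := ndS (p := 2993) (l := 6) rfl N2993 D9416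
theorem N6402 : nd 6402 = n9417 := ndS (p := 2994) (l := 1) rfl N2994 D9417
theorem N6403 : nd 6403 = n9418 := ndS (p := 2994) (l := 3) rfl N2994 D9418
theorem N6404 : nd 6404 = n9419 := ndS (p := 2994) (l := 5) rfl N2994 D9419
theorem N6405 : nd 6405 = n9420 := ndS (p := 2994) (l := 6) rfl N2994 D9420
theorem N6406 : nd 6406 = n9421 := ndS (p := 2995) (l := 0) rfl N2995 D9421
theorem N6407 : nd 6407 = n9423 := ndS (p := 2995) (l := 5) rfl N2995 D9423
theorem N6408 : nd 6408 = n9424 := ndS (p := 2995) (l := 7) rfl N2995 D9424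
theorem N6409 : nd 6409 = n9425 := ndS (p := 2996) (l := 4) rfl N2996 D9425
theorem N6410 : nd 6410 = n9426 := ndS (p := 2996) (l := 6) rfl N2996 D9426
theorem N6411 : nd 6411 = n9427 := ndS (p := 2997) (l := 3) rfl N2997 D9427
theorem N6412 : nd 6412 = n9428 := ndS (p := 2997) (l := 5) rfl N2997 D9428
theorem N6413 : nd 6413 = n9429 := ndS (p := 2997) (l := 6) rfl N2997 D9429
theorem N6414 : nd 6414 = n9434 := ndS (p := 2999) (l := 3) rfl N2999 D9434
theorem N6415 : nd 6415 = n9435 := ndS (p := 2999) (l := 5) rfl N2999 D9435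
theorem N6416 : nd 6416 = n9436 := ndS (p := 2999) (l := 6) rfl N2999 D9436
theorem N6417 : nd 6417 = n9437 := ndS (p := 3000) (l := 3) rfl N3000 D9437
theorem N6418 : nd 6418 = n9438 := ndS (p := 3000) (l := 5) rfl N3000 D9438
theorem N6419 : nd 6419 = n9439 := ndS (p := 3000) (l := 6) rfl N3000 D9439
theorem N6420 : nd 6420 = n9440 := ndS (p := 3001) (l := 0) rfl N3001 D9440
theorem N6421 : nd 6421 = n9441 := ndS (p := 3001) (l := 1) rfl N3001 D9441
theorem N6422 : nd 6422 = n9442 := ndS (p := 3001) (l := 4) rfl N3001 D9442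
theorem N6423 : nd 6423 = n9443 := ndS (p := 3001) (l := 6) rfl N3001 D9443
theorem N6424 : nd 6424 = n9444 := ndS (p := 3002) (l := 0) rfl N3002 D9444
theorem N6425 : nd 6425 = n9445 := ndS (p := 3002) (l := 1) rfl N3002 D9445
theorem N6426 : nd 6426 = n9446 := ndS (p := 3002) (l := 5) rfl N3002 D9446
theorem N6427 : nd 6427 = n9447 := ndS (p := 3002) (l := 7) rfl N3002 D9447
theorem N6428 : nd 6428 = n9449 := ndS (p := 3003) (l := 3) rfl N3003 D9449
theorem N6429 : nd 6429 = n9450 := ndS (p := 3003) (l := 4) rfl N3003 D9450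
theorem N6430 : nd 6430 = n9451 := ndS (p := 3003) (l := 5) rfl N3003 D9451
theorem N6431 : nd 6431 = n9452 := ndS (p := 3003) (l := 6) rfl N3003 D9452
theorem N6432 : nd 6432 = n9454 := ndS (p := 3004) (l := 3) rfl N3004 D9454
theorem N6433 : nd 6433 = n9455 := ndS (p := 3004) (l := 4) rfl N3004 D9455
theorem N6434 : nd 6434 = n9456 := ndS (p := 3004) (l := 5) rfl N3004 D9456
theorem N6435 : nd 6435 = n9457 := ndS (p := 3004) (l := 6) rfl N3004 D9457
theorem N6436 : nd 6436 = n9458 := ndS (p := 3005) (l := 0) rfl N3005 D9458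
theorem N6437 : nd 6437 = n9460 := ndS (p := 3005) (l := 4) rfl N3005 D9460
theorem N6438 : nd 6438 = n9468 := ndS (p := 3007) (l := 0) rfl N3007 D9468
theorem N6439 : nd 6439 = n9470 := ndS (p := 3007) (l := 2) rfl N3007 D9470
theorem N6440 : nd 6440 = n9471 := ndS (p := 3007) (l := 4) rfl N3007 D9471
theorem N6441 : nd 6441 = n9475 := ndS (p := 3008) (l := 0) rfl N3008 D9475
theorem N6442 : nd 6442 = n9477 := ndS (p := 3008) (l := 3) rfl N3008 D9477
theorem N6443 : nd 6443 = n9478 := ndS (p := 3008) (l := 5) rfl N3008 D9478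
theorem N6444 : nd 6444 = n9489 := ndS (p := 3009) (l := 1) rfl N3009 D9489
theorem N6445 : nd 6445 = n9490 := ndS (p := 3009) (l := 2) rfl N3009 D9490
theorem N6446 : nd 6446 = n9491 := ndS (p := 3009) (l := 4) rfl N3009 D9491
theorem N6447 : nd 6447 = n9492 := ndS (p := 3009) (l := 5) rfl N3009 D9492
theorem N6448 : nd 6448 = n9493 := ndS (p := 3010) (l := 5) rfl N3010 D9493
theorem N6449 : nd 6449 = n9494 := ndS (p := 3011) (l := 4) rfl N3011 D9494
theorem N6450 : nd 6450 = n9499 := ndS (p := 3012) (l := 3) rfl N3012 D9499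
theorem N6451 : nd 6451 = n9500 := ndS (p := 3012) (l := 4) rfl N3012 D9500
theorem N6452 : nd 6452 = n9501 := ndS (p := 3012) (l := 6) rfl N3012 D9501
theorem N6453 : nd 6453 = n9502 := ndS (p := 3013) (l := 0) rfl N3013 D9502
theorem N6454 : nd 6454 = n9503 := ndS (p := 3013) (l := 1) rfl N3013 D9503
theorem N6455 : nd 6455 = n9504 := ndS (p := 3013) (l := 3) rfl N3013 D9504
theorem N6456 : nd 6456 = n9505 := ndS (p := 3013) (l := 5) rfl N3013 D9505
theorem N6457 : nd 6457 = n9506 := ndS (p := 3013) (l := 7) rfl N3013 D9506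
theorem N6458 : nd 6458 = n9507 := ndS (p := 3014) (l := 6) rfl N3014 D9507
theorem N6459 : nd 6459 = n9517 := ndS (p := 3015) (l := 4) rfl N3015 D9517
theorem N6460 : nd 6460 = n9518 := ndS (p := 3015) (l := 5) rfl N3015 D9518
theorem N6461 : nd 6461 = n9527 := ndS (p := 3016) (l := 0) rfl N3016 D9527
theorem N6462 : nd 6462 = n9535 := ndS (p := 3017) (l := 1) rfl N3017 D9535
theorem N6463 : nd 6463 = n9536 := ndS (p := 3017) (l := 2) rfl N3017 D9536
theorem N6464 : nd 6464 = n9537 := ndS (p := 3017) (l := 4) rfl N3017 D9537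
theorem N6465 : nd 6465 = n9538 := ndS (p := 3017) (l := 5) rfl N3017 D9538
theorem N6466 : nd 6466 = n9539 := ndS (p := 3017) (l := 6) rfl N3017 D9539
theorem N6467 : nd 6467 = n9562 := ndS (p := 3020) (l := 4) rfl N3020 D9562
theorem N6468 : nd 6468 = n9570 := ndS (p := 3021) (l := 4) rfl N3021 D9570
theorem N6469 : nd 6469 = n9572 := ndS (p := 3022) (l := 0) rfl N3022 D9572
theorem N6470 : nd 6470 = n9574 := ndS (p := 3022) (l := 5) rfl N3022 D9574
theorem N6471 : nd 6471 = n9591 := ndS (p := 3023) (l := 4) rfl N3023 D9591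
theorem N6472 : nd 6472 = n9594 := ndS (p := 3024) (l := 5) rfl N3024 D9594
theorem N6473 : nd 6473 = n9597 := ndS (p := 3025) (l := 4) rfl N3025 D9597
theorem N6474 : nd 6474 = n9604 := ndS (p := 3026) (l := 0) rfl N3026 D9604
theorem N6475 : nd 6475 = n9605 := ndS (p := 3026) (l := 1) rfl N3026 D9605
theorem N6476 : nd 6476 = n9606 := ndS (p := 3026) (l := 2) rfl N3026 D9606
theorem N6477 : nd 6477 = n9608 := ndS (p := 3026) (l := 7) rfl N3026 D9608
theorem N6478 : nd 6478 = n9616 := ndS (p := 3029) (l := 5) rfl N3029 D9616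
theorem N6479 : nd 6479 = n9617 := ndS (p := 3030) (l := 4) rfl N3030 D9617
theorem N6480 : nd 6480 = n9618 := ndS (p := 3030) (l := 6) rfl N3030 D9618
theorem N6481 : nd 6481 = n9645 := ndS (p := 3031) (l := 3) rfl N3031 D9645
theorem N6482 : nd 6482 = n9646 := ndS (p := 3031) (l := 4) rfl N3031 D9646
theorem N6483 : nd 6483 = n9649 := ndS (p := 3032) (l := 5) rfl N3032 D9649
theorem N6484 : nd 6484 = n9652 := ndS (p := 3033) (l := 4) rfl N3033 D9652
theorem N6485 : nd 6485 = n9659 := ndS (p := 3035) (l := 5) rfl N3035 D9659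
theorem N6486 : nd 6486 = n9661 := ndS (p := 3036) (l := 6) rfl N3036 D9661
theorem N6487 : nd 6487 = n9666 := ndS (p := 3037) (l := 5) rfl N3037 D9666
theorem N6488 : nd 6488 = n9667 := ndS (p := 3037) (l := 6) rfl N3037 D9667
theorem N6489 : nd 6489 = n9668 := ndS (p := 3038) (l := 6) rfl N3038 D9668
theorem N6490 : nd 6490 = n9673 := ndS (p := 3039) (l := 1) rfl N3039 D9673
theorem N6491 : nd 6491 = n9674 := ndS (p := 3039) (l := 3) rfl N3039 D9674
theorem N6492 : nd 6492 = n9675 := ndS (p := 3039) (l := 5) rfl N3039 D9675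
theorem N6493 : nd 6493 = n9676 := ndS (p := 3039) (l := 6) rfl N3039 D9676
theorem N6494 : nd 6494 = n9677 := ndS (p := 3040) (l := 0) rfl N3040 D9677
theorem N6495 : nd 6495 = n9680 := ndS (p := 3040) (l := 7) rfl N3040 D9680
theorem N6496 : nd 6496 = n9694 := ndS (p := 3041) (l := 5) rfl N3041 D9694
theorem N6497 : nd 6497 = n9695 := ndS (p := 3042) (l := 6) rfl N3042 D9695
theorem N6498 : nd 6498 = n9696 := ndS (p := 3043) (l := 6) rfl N3043 D9696
theorem N6499 : nd 6499 = n9697 := ndS (p := 3044) (l := 0) rfl N3044 D9697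
theorem N6500 : nd 6500 = n9698 := ndS (p := 3044) (l := 5) rfl N3044 D9698
theorem N6501 : nd 6501 = n9699 := ndS (p := 3045) (l := 6) rfl N3045 D9699
theorem N6502 : nd 6502 = n9700 := ndS (p := 3046) (l := 5) rfl N3046 D9700
theorem N6503 : nd 6503 = n9701 := ndS (p := 3047) (l := 3) rfl N3047 D9701
theorem N6504 : nd 6504 = n9702 := ndS (p := 3047) (l := 5) rfl N3047 D9702
theorem N6505 : nd 6505 = n9703 := ndS (p := 3047) (l := 6) rfl N3047 D9703
theorem N6506 : nd 6506 = n9705 := ndS (p := 3048) (l := 1) rfl N3048 D9705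
theorem N6507 : nd 6507 = n9707 := ndS (p := 3048) (l := 7) rfl N3048 D9707
theorem N6508 : nd 6508 = n9710 := ndS (p := 3049) (l := 4) rfl N3049 D9710
theorem N6509 : nd 6509 = n9711 := ndS (p := 3050) (l := 3) rfl N3050 D9711
theorem N6510 : nd 6510 = n9712 := ndS (p := 3050) (l := 6) rfl N3050 D9712
theorem N6511 : nd 6511 = n9713 := ndS (p := 3051) (l := 0) rfl N3051 D9713
theorem N6512 : nd 6512 = n9714 := ndS (p := 3051) (l := 1) rfl N3051 D9714
theorem N6513 : nd 6513 = n9715 := ndS (p := 3051) (l := 5) rfl N3051 D9715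
theorem N6514 : nd 6514 = n9716 := ndS (p := 3051) (l := 7) rfl N3051 D9716
theorem N6515 : nd 6515 = n9719 := ndS (p := 3052) (l := 4) rfl N3052 D9719
theorem N6516 : nd 6516 = n9720 := ndS (p := 3053) (l := 6) rfl N3053 D9720
theorem N6517 : nd 6517 = n9721 := ndS (p := 3054) (l := 0) rfl N3054 D9721
theorem N6518 : nd 6518 = n9722 := ndS (p := 3054) (l := 1) rfl N3054 D9722
theorem N6519 : nd 6519 = n9723 := ndS (p := 3054) (l := 3) rfl N3054 D9723
theorem N6520 : nd 6520 = n9724 := ndS (p := 3054) (l := 5) rfl N3054 D9724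
theorem N6521 : nd 6521 = n9725 := ndS (p := 3054) (l := 6) rfl N3054 D9725
theorem N6522 : nd 6522 = n9730 := ndS (p := 3056) (l := 6) rfl N3056 D9730
theorem N6523 : nd 6523 = n9731 := ndS (p := 3057) (l := 3) rfl N3057 D9731
theorem N6524 : nd 6524 = n9732 := ndS (p := 3057) (l := 5) rfl N3057 D9732
theorem N6525 : nd 6525 = n9733 := ndS (p := 3057) (l := 6) rfl N3057 D9733
theorem N6526 : nd 6526 = n9735 := ndS (p := 3058) (l := 1) rfl N3058 D9735
theorem N6527 : nd 6527 = n9736 := ndS (p := 3058) (l := 7) rfl N3058 D9736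
theorem N6528 : nd 6528 = n9737 := ndS (p := 3059) (l := 3) rfl N3059 D9737
theorem N6529 : nd 6529 = n9738 := ndS (p := 3059) (l := 5) rfl N3059 D9738
theorem N6530 : nd 6530 = n9739 := ndS (p := 3059) (l := 6) rfl N3059 D9739
theorem N6531 : nd 6531 = n9740 := ndS (p := 3060) (l := 3) rfl N3060 D9740
theorem N6532 : nd 6532 = n9741 := ndS (p := 3060) (l := 5) rfl N3060 D9741
theorem N6533 : nd 6533 = n9742 := ndS (p := 3060) (l := 6) rfl N3060 D9742
theorem N6534 : nd 6534 = n9743 := ndS (p := 3061) (l := 0) rfl N3061 D9743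
theorem N6535 : nd 6535 = n9744 := ndS (p := 3061) (l := 1) rfl N3061 D9744
theorem N6536 : nd 6536 = n9745 := ndS (p := 3061) (l := 6) rfl N3061 D9745
theorem N6537 : nd 6537 = n9746 := ndS (p := 3062) (l := 0) rfl N3062 D9746
theorem N6538 : nd 6538 = n9747 := ndS (p := 3062) (l := 1) rfl N3062 D9747
theorem N6539 : nd 6539 = n9748 := ndS (p := 3062) (l := 5) rfl N3062 D9748
theorem N6540 : nd 6540 = n9749 := ndS (p := 3062) (l := 7) rfl N3062 D9749
theorem N6541 : nd 6541 = n9751 := ndS (p := 3063) (l := 3) rfl N3063 D9751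
theorem N6542 : nd 6542 = n9752 := ndS (p := 3063) (l := 4) rfl N3063 D9752
theorem N6543 : nd 6543 = n9756 := ndS (p := 3064) (l := 3) rfl N3064 D9756
theorem N6544 : nd 6544 = n9757 := ndS (p := 3064) (l := 4) rfl N3064 D9757
theorem N6545 : nd 6545 = n9758 := ndS (p := 3064) (l := 5) rfl N3064 D9758
theorem N6546 : nd 6546 = n9759 := ndS (p := 3064) (l := 6) rfl N3064 D9759
theorem N6547 : nd 6547 = n9760 := ndS (p := 3065) (l := 0) rfl N3065 D9760
theorem N6548 : nd 6548 = n9761 := ndS (p := 3065) (l := 1) rfl N3065 D9761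
theorem N6549 : nd 6549 = n9762 := ndS (p := 3065) (l := 4) rfl N3065 D9762
theorem N6550 : nd 6550 = n9763 := ndS (p := 3065) (l := 7) rfl N3065 D9763
theorem N6551 : nd 6551 = n9766 := ndS (p := 3068) (l := 5) rfl N3068 D9766
theorem N6552 : nd 6552 = n9770 := ndS (p := 3069) (l := 3) rfl N3069 D9770
theorem N6553 : nd 6553 = n9771 := ndS (p := 3069) (l := 4) rfl N3069 D9771
theorem N6554 : nd 6554 = n9778 := ndS (p := 3070) (l := 0) rfl N3070 D9778
theorem N6555 : nd 6555 = n9779 := ndS (p := 3070) (l := 1) rfl N3070 D9779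
theorem N6556 : nd 6556 = n9780 := ndS (p := 3070) (l := 3) rfl N3070 D9780
theorem N6557 : nd 6557 = n9781 := ndS (p := 3070) (l := 5) rfl N3070 D9781
theorem N6558 : nd 6558 = n9782 := ndS (p := 3070) (l := 7) rfl N3070 D9782
theorem N6559 : nd 6559 = n9783 := ndS (p := 3071) (l := 6) rfl N3071 D9783
theorem N6560 : nd 6560 = n9789 := ndS (p := 3072) (l := 0) rfl N3072 D9789
theorem N6561 : nd 6561 = n9791 := ndS (p := 3072) (l := 2) rfl N3072 D9791
theorem N6562 : nd 6562 = n9792 := ndS (p := 3072) (l := 4) rfl N3072 D9792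
theorem N6563 : nd 6563 = n9808 := ndS (p := 3073) (l := 4) rfl N3073 D9808
theorem N6564 : nd 6564 = n9810 := ndS (p := 3073) (l := 6) rfl N3073 D9810
theorem N6565 : nd 6565 = n9812 := ndS (p := 3074) (l := 5) rfl N3074 D9812
theorem N6566 : nd 6566 = n9817 := ndS (p := 3075) (l := 3) rfl N3075 D9817
theorem N6567 : nd 6567 = n9822 := ndS (p := 3076) (l := 3) rfl N3076 D9822
theorem N6568 : nd 6568 = n9831 := ndS (p := 3080) (l := 1) rfl N3080 D9831
theorem N6569 : nd 6569 = n9832 := ndS (p := 3080) (l := 5) rfl N3080 D9832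
theorem N6570 : nd 6570 = n9834 := ndS (p := 3081) (l := 5) rfl N3081 D9834
theorem N6571 : nd 6571 = n9835 := ndS (p := 3081) (l := 6) rfl N3081 D9835
theorem N6572 : nd 6572 = n9836 := ndS (p := 3082) (l := 6) rfl N3082 D9836
theorem N6573 : nd 6573 = n9839 := ndS (p := 3083) (l := 5) rfl N3083 D9839
theorem N6574 : nd 6574 = n9847 := ndS (p := 3084) (l := 4) rfl N3084 D9847
theorem N6575 : nd 6575 = n9848 := ndS (p := 3085) (l := 5) rfl N3085 D9848
theorem N6576 : nd 6576 = n9854 := ndS (p := 3086) (l := 6) rfl N3086 D9854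
theorem N6577 : nd 6577 = n9867 := ndS (p := 3087) (l := 3) rfl N3087 D9867
theorem N6578 : nd 6578 = n9868 := ndS (p := 3087) (l := 5) rfl N3087 D9868
theorem N6579 : nd 6579 = n9869 := ndS (p := 3087) (l := 6) rfl N3087 D9869
theorem N6580 : nd 6580 = n9870 := ndS (p := 3088) (l := 0) rfl N3088 D9870
theorem N6581 : nd 6581 = n9871 := ndS (p := 3088) (l := 1) rfl N3088 D9871
theorem N6582 : nd 6582 = n9872 := ndS (p := 3088) (l := 7) rfl N3088 D9872
theorem N6583 : nd 6583 = n9873 := ndS (p := 3089) (l := 3) rfl N3089 D9873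
theorem N6584 : nd 6584 = n9874 := ndS (p := 3089) (l := 6) rfl N3089 D9874
theorem N6585 : nd 6585 = n9875 := ndS (p := 3090) (l := 3) rfl N3090 D9875
theorem N6586 : nd 6586 = n9876 := ndS (p := 3090) (l := 6) rfl N3090 D9876
theorem N6587 : nd 6587 = n9877 := ndS (p := 3091) (l := 4) rfl N3091 D9877
theorem N6588 : nd 6588 = n9878 := ndS (p := 3091) (l := 6) rfl N3091 D9878
theorem N6589 : nd 6589 = n9879 := ndS (p := 3092) (l := 0) rfl N3092 D9879
theorem N6590 : nd 6590 = n9880 := ndS (p := 3092) (l := 1) rfl N3092 D9880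
theorem N6591 : nd 6591 = n9881 := ndS (p := 3092) (l := 5) rfl N3092 D9881
theorem N6592 : nd 6592 = n9882 := ndS (p := 3092) (l := 7) rfl N3092 D9882
theorem N6593 : nd 6593 = n9884 := ndS (p := 3093) (l := 3) rfl N3093 D9884
theorem N6594 : nd 6594 = n9885 := ndS (p := 3093) (l := 4) rfl N3093 D9885
theorem N6595 : nd 6595 = n9886 := ndS (p := 3093) (l := 5) rfl N3093 D9886
theorem N6596 : nd 6596 = n9887 := ndS (p := 3093) (l := 6) rfl N3093 D9887
theorem N6597 : nd 6597 = n9889 := ndS (p := 3094) (l := 3) rfl N3094 D9889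
theorem N6598 : nd 6598 = n9890 := ndS (p := 3094) (l := 4) rfl N3094 D9890
theorem N6599 : nd 6599 = n9891 := ndS (p := 3094) (l := 5) rfl N3094 D9891
theorem N6600 : nd 6600 = n9892 := ndS (p := 3094) (l := 6) rfl N3094 D9892
theorem N6601 : nd 6601 = n9902 := ndS (p := 3096) (l := 1) rfl N3096 D9902
theorem N6602 : nd 6602 = n9903 := ndS (p := 3096) (l := 2) rfl N3096 D9903
theorem N6603 : nd 6603 = n9904 := ndS (p := 3096) (l := 4) rfl N3096 D9904
theorem N6604 : nd 6604 = n9905 := ndS (p := 3096) (l := 6) rfl N3096 D9905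
theorem N6605 : nd 6605 = n9906 := ndS (p := 3097) (l := 0) rfl N3097 D9906
theorem N6606 : nd 6606 = n9912 := ndS (p := 3099) (l := 6) rfl N3099 D9912
theorem N6607 : nd 6607 = n9927 := ndS (p := 3100) (l := 6) rfl N3100 D9927
theorem N6608 : nd 6608 = n9937 := ndS (p := 3101) (l := 3) rfl N3101 D9937
theorem N6609 : nd 6609 = n9938 := ndS (p := 3101) (l := 6) rfl N3101 D9938
theorem N6610 : nd 6610 = n9944 := ndS (p := 3103) (l := 3) rfl N3103 D9944
theorem N6611 : nd 6611 = n9945 := ndS (p := 3103) (l := 6) rfl N3103 D9945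
theorem N6612 : nd 6612 = n9946 := ndS (p := 3104) (l := 3) rfl N3104 D9946
theorem N6613 : nd 6613 = n9947 := ndS (p := 3104) (l := 6) rfl N3104 D9947
theorem N6614 : nd 6614 = n9948 := ndS (p := 3105) (l := 6) rfl N3105 D9948
theorem N6615 : nd 6615 = n9949 := ndS (p := 3106) (l := 0) rfl N3106 D9949
theorem N6616 : nd 6616 = n9950 := ndS (p := 3106) (l := 1) rfl N3106 D9950
theorem N6617 : nd 6617 = n9951 := ndS (p := 3106) (l := 5) rfl N3106 D9951
theorem N6618 : nd 6618 = n9954 := ndS (p := 3107) (l := 3) rfl N3107 D9954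
theorem N6619 : nd 6619 = n9955 := ndS (p := 3107) (l := 4) rfl N3107 D9955
theorem N6620 : nd 6620 = n9957 := ndS (p := 3107) (l := 6) rfl N3107 D9957
theorem N6621 : nd 6621 = n9959 := ndS (p := 3108) (l := 3) rfl N3108 D9959
theorem N6622 : nd 6622 = n9960 := ndS (p := 3108) (l := 4) rfl N3108 D9960
theorem N6623 : nd 6623 = n9962 := ndS (p := 3108) (l := 6) rfl N3108 D9962
theorem N6624 : nd 6624 = n9981 := ndS (p := 3110) (l := 3) rfl N3110 D9981
theorem N6625 : nd 6625 = n10027 := ndS (p := 3113) (l := 4) rfl N3113 D10027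
theorem N6626 : nd 6626 = n10029 := ndS (p := 3113) (l := 6) rfl N3113 D10029
theorem N6627 : nd 6627 = n10082 := ndS (p := 3115) (l := 5) rfl N3115 D10082
theorem N6628 : nd 6628 = n10083 := ndS (p := 3116) (l := 0) rfl N3116 D10083
theorem N6629 : nd 6629 = n10084 := ndS (p := 3116) (l := 1) rfl N3116 D10084
theorem N6630 : nd 6630 = n10085 := ndS (p := 3116) (l := 6) rfl N3116 D10085
theorem N6631 : nd 6631 = n10086 := ndS (p := 3117) (l := 0) rfl N3117 D10086
theorem N6632 : nd 6632 = n10087 := ndS (p := 3117) (l := 1) rfl N3117 D10087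
theorem N6633 : nd 6633 = n10088 := ndS (p := 3117) (l := 5) rfl N3117 D10088
theorem N6634 : nd 6634 = n10090 := ndS (p := 3118) (l := 1) rfl N3118 D10090
theorem N6635 : nd 6635 = n10091 := ndS (p := 3118) (l := 3) rfl N3118 D10091
theorem N6636 : nd 6636 = n10092 := ndS (p := 3118) (l := 5) rfl N3118 D10092
theorem N6637 : nd 6637 = n10093 := ndS (p := 3118) (l := 6) rfl N3118 D10093
theorem N6638 : nd 6638 = n10094 := ndS (p := 3119) (l := 0) rfl N3119 D10094
theorem N6639 : nd 6639 = n10096 := ndS (p := 3119) (l := 5) rfl N3119 D10096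
theorem N6640 : nd 6640 = n10097 := ndS (p := 3119) (l := 7) rfl N3119 D10097
theorem N6641 : nd 6641 = n10108 := ndS (p := 3120) (l := 4) rfl N3120 D10108
theorem N6642 : nd 6642 = n10110 := ndS (p := 3121) (l := 5) rfl N3121 D10110
theorem N6643 : nd 6643 = n10112 := ndS (p := 3122) (l := 4) rfl N3122 D10112
theorem N6644 : nd 6644 = n10113 := ndS (p := 3122) (l := 6) rfl N3122 D10113
theorem N6645 : nd 6645 = n10118 := ndS (p := 3123) (l := 6) rfl N3123 D10118
theorem N6646 : nd 6646 = n10123 := ndS (p := 3124) (l := 3) rfl N3124 D10123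
theorem N6647 : nd 6647 = n10124 := ndS (p := 3124) (l := 5) rfl N3124 D10124
theorem N6648 : nd 6648 = n10125 := ndS (p := 3124) (l := 6) rfl N3124 D10125
theorem N6649 : nd 6649 = n10144 := ndS (p := 3126) (l := 3) rfl N3126 D10144
theorem N6650 : nd 6650 = n10145 := ndS (p := 3126) (l := 5) rfl N3126 D10145
theorem N6651 : nd 6651 = n10146 := ndS (p := 3126) (l := 6) rfl N3126 D10146
theorem N6652 : nd 6652 = n10147 := ndS (p := 3127) (l := 0) rfl N3127 D10147
theorem N6653 : nd 6653 = n10148 := ndS (p := 3127) (l := 1) rfl N3127 D10148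
theorem N6654 : nd 6654 = n10149 := ndS (p := 3127) (l := 7) rfl N3127 D10149
theorem N6655 : nd 6655 = n10150 := ndS (p := 3128) (l := 1) rfl N3128 D10150
theorem N6656 : nd 6656 = n10151 := ndS (p := 3128) (l := 3) rfl N3128 D10151
theorem N6657 : nd 6657 = n10152 := ndS (p := 3128) (l := 5) rfl N3128 D10152
theorem N6658 : nd 6658 = n10153 := ndS (p := 3128) (l := 6) rfl N3128 D10153
theorem N6659 : nd 6659 = n10158 := ndS (p := 3130) (l := 4) rfl N3130 D10158
theorem N6660 : nd 6660 = n10159 := ndS (p := 3130) (l := 6) rfl N3130 D10159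
theorem N6661 : nd 6661 = n10160 := ndS (p := 3131) (l := 3) rfl N3131 D10160
theorem N6662 : nd 6662 = n10161 := ndS (p := 3131) (l := 5) rfl N3131 D10161
theorem N6663 : nd 6663 = n10162 := ndS (p := 3131) (l := 6) rfl N3131 D10162
theorem N6664 : nd 6664 = n10164 := ndS (p := 3132) (l := 1) rfl N3132 D10164
theorem N6665 : nd 6665 = n10166 := ndS (p := 3132) (l := 7) rfl N3132 D10166
theorem N6666 : nd 6666 = n10167 := ndS (p := 3133) (l := 3) rfl N3133 D10167
theorem N6667 : nd 6667 = n10168 := ndS (p := 3133) (l := 5) rfl N3133 D10168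
theorem N6668 : nd 6668 = n10169 := ndS (p := 3133) (l := 6) rfl N3133 D10169
theorem N6669 : nd 6669 = n10170 := ndS (p := 3134) (l := 3) rfl N3134 D10170
theorem N6670 : nd 6670 = n10171 := ndS (p := 3134) (l := 5) rfl N3134 D10171
theorem N6671 : nd 6671 = n10172 := ndS (p := 3134) (l := 6) rfl N3134 D10172
theorem N6672 : nd 6672 = n10173 := ndS (p := 3135) (l := 0) rfl N3135 D10173
theorem N6673 : nd 6673 = n10174 := ndS (p := 3135) (l := 1) rfl N3135 D10174
theorem N6674 : nd 6674 = n10175 := ndS (p := 3135) (l := 4) rfl N3135 D10175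
theorem N6675 : nd 6675 = n10176 := ndS (p := 3135) (l := 6) rfl N3135 D10176
theorem N6676 : nd 6676 = n10177 := ndS (p := 3136) (l := 0) rfl N3136 D10177
theorem N6677 : nd 6677 = n10178 := ndS (p := 3136) (l := 1) rfl N3136 D10178
theorem N6678 : nd 6678 = n10179 := ndS (p := 3136) (l := 5) rfl N3136 D10179
theorem N6679 : nd 6679 = n10180 := ndS (p := 3136) (l := 7) rfl N3136 D10180
theorem N6680 : nd 6680 = n10182 := ndS (p := 3137) (l := 3) rfl N3137 D10182
theorem N6681 : nd 6681 = n10183 := ndS (p := 3137) (l := 4) rfl N3137 D10183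
theorem N6682 : nd 6682 = n10184 := ndS (p := 3137) (l := 5) rfl N3137 D10184
theorem N6683 : nd 6683 = n10185 := ndS (p := 3137) (l := 6) rfl N3137 D10185
theorem N6684 : nd 6684 = n10187 := ndS (p := 3138) (l := 3) rfl N3138 D10187
theorem N6685 : nd 6685 = n10188 := ndS (p := 3138) (l := 4) rfl N3138 D10188
theorem N6686 : nd 6686 = n10189 := ndS (p := 3138) (l := 5) rfl N3138 D10189
theorem N6687 : nd 6687 = n10190 := ndS (p := 3138) (l := 6) rfl N3138 D10190
theorem N6688 : nd 6688 = n10194 := ndS (p := 3140) (l := 4) rfl N3140 D10194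
theorem N6689 : nd 6689 = n10195 := ndS (p := 3140) (l := 5) rfl N3140 D10195
theorem N6690 : nd 6690 = n10196 := ndS (p := 3140) (l := 6) rfl N3140 D10196
theorem N6691 : nd 6691 = n10202 := ndS (p := 3143) (l := 4) rfl N3143 D10202
theorem N6692 : nd 6692 = n10204 := ndS (p := 3143) (l := 6) rfl N3143 D10204
theorem N6693 : nd 6693 = n10207 := ndS (p := 3145) (l := 5) rfl N3145 D10207
theorem N6694 : nd 6694 = n10208 := ndS (p := 3146) (l := 5) rfl N3146 D10208
theorem N6695 : nd 6695 = n10209 := ndS (p := 3146) (l := 6) rfl N3146 D10209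
theorem N6696 : nd 6696 = n10210 := ndS (p := 3147) (l := 0) rfl N3147 D10210
theorem N6697 : nd 6697 = n10211 := ndS (p := 3147) (l := 1) rfl N3147 D10211
theorem N6698 : nd 6698 = n10212 := ndS (p := 3147) (l := 4) rfl N3147 D10212
theorem N6699 : nd 6699 = n10213 := ndS (p := 3147) (l := 6) rfl N3147 D10213
theorem N6700 : nd 6700 = n10218 := ndS (p := 3148) (l := 0) rfl N3148 D10218
theorem N6701 : nd 6701 = n10219 := ndS (p := 3148) (l := 1) rfl N3148 D10219
theorem N6702 : nd 6702 = n10220 := ndS (p := 3148) (l := 3) rfl N3148 D10220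
theorem N6703 : nd 6703 = n10221 := ndS (p := 3148) (l := 5) rfl N3148 D10221
theorem N6704 : nd 6704 = n10222 := ndS (p := 3148) (l := 6) rfl N3148 D10222
theorem N6705 : nd 6705 = n10241 := ndS (p := 3150) (l := 6) rfl N3150 D10241
theorem N6706 : nd 6706 = n10242 := ndS (p := 3151) (l := 0) rfl N3151 D10242
theorem N6707 : nd 6707 = n10243 := ndS (p := 3151) (l := 6) rfl N3151 D10243
theorem N6708 : nd 6708 = n10244 := ndS (p := 3152) (l := 0) rfl N3152 D10244
theorem N6709 : nd 6709 = n10246 := ndS (p := 3152) (l := 5) rfl N3152 D10246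
theorem N6710 : nd 6710 = n10248 := ndS (p := 3153) (l := 4) rfl N3153 D10248
theorem N6711 : nd 6711 = n10250 := ndS (p := 3154) (l := 0) rfl N3154 D10250
theorem N6712 : nd 6712 = n10251 := ndS (p := 3154) (l := 1) rfl N3154 D10251
theorem N6713 : nd 6713 = n10252 := ndS (p := 3154) (l := 5) rfl N3154 D10252
theorem N6714 : nd 6714 = n10254 := ndS (p := 3155) (l := 3) rfl N3155 D10254
theorem N6715 : nd 6715 = n10255 := ndS (p := 3155) (l := 5) rfl N3155 D10255
theorem N6716 : nd 6716 = n10256 := ndS (p := 3155) (l := 6) rfl N3155 D10256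
theorem N6717 : nd 6717 = n10258 := ndS (p := 3156) (l := 1) rfl N3156 D10258
theorem N6718 : nd 6718 = n10259 := ndS (p := 3156) (l := 5) rfl N3156 D10259
theorem N6719 : nd 6719 = n10260 := ndS (p := 3156) (l := 7) rfl N3156 D10260
theorem N6720 : nd 6720 = n10268 := ndS (p := 3157) (l := 4) rfl N3157 D10268
theorem N6721 : nd 6721 = n10271 := ndS (p := 3158) (l := 1) rfl N3158 D10271
theorem N6722 : nd 6722 = n10272 := ndS (p := 3158) (l := 4) rfl N3158 D10272
theorem N6723 : nd 6723 = n10274 := ndS (p := 3159) (l := 4) rfl N3159 D10274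
theorem N6724 : nd 6724 = n10277 := ndS (p := 3161) (l := 3) rfl N3161 D10277
theorem N6725 : nd 6725 = n10278 := ndS (p := 3161) (l := 5) rfl N3161 D10278
theorem N6726 : nd 6726 = n10279 := ndS (p := 3161) (l := 6) rfl N3161 D10279
theorem N6727 : nd 6727 = n10285 := ndS (p := 3163) (l := 5) rfl N3163 D10285
theorem N6728 : nd 6728 = n10287 := ndS (p := 3164) (l := 4) rfl N3164 D10287
theorem N6729 : nd 6729 = n10288 := ndS (p := 3164) (l := 6) rfl N3164 D10288
theorem N6730 : nd 6730 = n10293 := ndS (p := 3165) (l := 5) rfl N3165 D10293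
theorem N6731 : nd 6731 = n10294 := ndS (p := 3165) (l := 6) rfl N3165 D10294
theorem N6732 : nd 6732 = n10295 := ndS (p := 3166) (l := 4) rfl N3166 D10295
theorem N6733 : nd 6733 = n10296 := ndS (p := 3166) (l := 6) rfl N3166 D10296
theorem N6734 : nd 6734 = n10299 := ndS (p := 3167) (l := 5) rfl N3167 D10299
theorem N6735 : nd 6735 = n10301 := ndS (p := 3168) (l := 4) rfl N3168 D10301
theorem N6736 : nd 6736 = n10302 := ndS (p := 3168) (l := 6) rfl N3168 D10302
theorem N6737 : nd 6737 = n10303 := ndS (p := 3169) (l := 3) rfl N3169 D10303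
theorem N6738 : nd 6738 = n10304 := ndS (p := 3169) (l := 4) rfl N3169 D10304
theorem N6739 : nd 6739 = n10305 := ndS (p := 3169) (l := 6) rfl N3169 D10305
theorem N6740 : nd 6740 = n10306 := ndS (p := 3170) (l := 0) rfl N3170 D10306
theorem N6741 : nd 6741 = n10307 := ndS (p := 3170) (l := 1) rfl N3170 D10307
theorem N6742 : nd 6742 = n10308 := ndS (p := 3170) (l := 3) rfl N3170 D10308
theorem N6743 : nd 6743 = n10309 := ndS (p := 3170) (l := 5) rfl N3170 D10309
theorem N6744 : nd 6744 = n10310 := ndS (p := 3170) (l := 6) rfl N3170 D10310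
theorem N6745 : nd 6745 = n10311 := ndS (p := 3171) (l := 0) rfl N3171 D10311
theorem N6746 : nd 6746 = n10323 := ndS (p := 3175) (l := 0) rfl N3175 D10323
theorem N6747 : nd 6747 = n10324 := ndS (p := 3175) (l := 1) rfl N3175 D10324
theorem N6748 : nd 6748 = n10325 := ndS (p := 3175) (l := 3) rfl N3175 D10325
theorem N6749 : nd 6749 = n10326 := ndS (p := 3175) (l := 5) rfl N3175 D10326
theorem N6750 : nd 6750 = n10327 := ndS (p := 3175) (l := 6) rfl N3175 D10327
theorem N6751 : nd 6751 = n10328 := ndS (p := 3176) (l := 0) rfl N3176 D10328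
theorem N6752 : nd 6752 = n10330 := ndS (p := 3176) (l := 5) rfl N3176 D10330
theorem N6753 : nd 6753 = n10331 := ndS (p := 3176) (l := 7) rfl N3176 D10331
theorem N6754 : nd 6754 = n10332 := ndS (p := 3177) (l := 6) rfl N3177 D10332
theorem N6755 : nd 6755 = n10333 := ndS (p := 3178) (l := 3) rfl N3178 D10333
theorem N6756 : nd 6756 = n10334 := ndS (p := 3178) (l := 5) rfl N3178 D10334
theorem N6757 : nd 6757 = n10335 := ndS (p := 3178) (l := 6) rfl N3178 D10335
theorem N6758 : nd 6758 = n10340 := ndS (p := 3180) (l := 3) rfl N3180 D10340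
theorem N6759 : nd 6759 = n10341 := ndS (p := 3180) (l := 5) rfl N3180 D10341
theorem N6760 : nd 6760 = n10342 := ndS (p := 3180) (l := 6) rfl N3180 D10342
theorem N6761 : nd 6761 = n10343 := ndS (p := 3181) (l := 3) rfl N3181 D10343
theorem N6762 : nd 6762 = n10344 := ndS (p := 3181) (l := 5) rfl N3181 D10344
theorem N6763 : nd 6763 = n10345 := ndS (p := 3181) (l := 6) rfl N3181 D10345
theorem N6764 : nd 6764 = n10346 := ndS (p := 3182) (l := 0) rfl N3182 D10346
theorem N6765 : nd 6765 = n10347 := ndS (p := 3182) (l := 1) rfl N3182 D10347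
theorem N6766 : nd 6766 = n10348 := ndS (p := 3182) (l := 4) rfl N3182 D10348
theorem N6767 : nd 6767 = n10349 := ndS (p := 3182) (l := 6) rfl N3182 D10349
theorem N6768 : nd 6768 = n10350 := ndS (p := 3183) (l := 0) rfl N3183 D10350
theorem N6769 : nd 6769 = n10351 := ndS (p := 3183) (l := 1) rfl N3183 D10351
theorem N6770 : nd 6770 = n10352 := ndS (p := 3183) (l := 5) rfl N3183 D10352
theorem N6771 : nd 6771 = n10355 := ndS (p := 3184) (l := 3) rfl N3184 D10355
theorem N6772 : nd 6772 = n10356 := ndS (p := 3184) (l := 4) rfl N3184 D10356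
theorem N6773 : nd 6773 = n10358 := ndS (p := 3184) (l := 6) rfl N3184 D10358
theorem N6774 : nd 6774 = n10360 := ndS (p := 3185) (l := 3) rfl N3185 D10360
theorem N6775 : nd 6775 = n10361 := ndS (p := 3185) (l := 4) rfl N3185 D10361
theorem N6776 : nd 6776 = n10363 := ndS (p := 3185) (l := 6) rfl N3185 D10363
theorem N6777 : nd 6777 = n10385 := ndS (p := 3188) (l := 6) rfl N3188 D10385
theorem N6778 : nd 6778 = n10427 := ndS (p := 3190) (l := 3) rfl N3190 D10427
theorem N6779 : nd 6779 = n10428 := ndS (p := 3190) (l := 6) rfl N3190 D10428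
theorem N6780 : nd 6780 = n10429 := ndS (p := 3191) (l := 0) rfl N3191 D10429
theorem N6781 : nd 6781 = n10431 := ndS (p := 3191) (l := 5) rfl N3191 D10431
theorem N6782 : nd 6782 = n10432 := ndS (p := 3191) (l := 7) rfl N3191 D10432
theorem N6783 : nd 6783 = n10433 := ndS (p := 3192) (l := 4) rfl N3192 D10433
theorem N6784 : nd 6784 = n10434 := ndS (p := 3193) (l := 6) rfl N3193 D10434
theorem N6785 : nd 6785 = n10435 := ndS (p := 3194) (l := 6) rfl N3194 D10435
theorem N6786 : nd 6786 = n10440 := ndS (p := 3195) (l := 6) rfl N3195 D10440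
theorem N6787 : nd 6787 = n10441 := ndS (p := 3196) (l := 5) rfl N3196 D10441
theorem N6788 : nd 6788 = n10442 := ndS (p := 3197) (l := 4) rfl N3197 D10442
theorem N6789 : nd 6789 = n10443 := ndS (p := 3197) (l := 6) rfl N3197 D10443
theorem N6790 : nd 6790 = n10444 := ndS (p := 3198) (l := 6) rfl N3198 D10444
theorem N6791 : nd 6791 = n10445 := ndS (p := 3199) (l := 3) rfl N3199 D10445
theorem N6792 : nd 6792 = n10446 := ndS (p := 3199) (l := 5) rfl N3199 D10446
theorem N6793 : nd 6793 = n10447 := ndS (p := 3199) (l := 6) rfl N3199 D10447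
theorem N6794 : nd 6794 = n10448 := ndS (p := 3200) (l := 0) rfl N3200 D10448
theorem N6795 : nd 6795 = n10449 := ndS (p := 3200) (l := 1) rfl N3200 D10449
theorem N6796 : nd 6796 = n10450 := ndS (p := 3200) (l := 7) rfl N3200 D10450
theorem N6797 : nd 6797 = n10454 := ndS (p := 3202) (l := 4) rfl N3202 D10454
theorem N6798 : nd 6798 = n10455 := ndS (p := 3202) (l := 6) rfl N3202 D10455
theorem N6799 : nd 6799 = n10458 := ndS (p := 3203) (l := 5) rfl N3203 D10458
theorem N6800 : nd 6800 = n10460 := ndS (p := 3204) (l := 4) rfl N3204 D10460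
theorem N6801 : nd 6801 = n10461 := ndS (p := 3204) (l := 6) rfl N3204 D10461
theorem N6802 : nd 6802 = n10466 := ndS (p := 3205) (l := 1) rfl N3205 D10466
theorem N6803 : nd 6803 = n10467 := ndS (p := 3205) (l := 4) rfl N3205 D10467
theorem N6804 : nd 6804 = n10468 := ndS (p := 3205) (l := 6) rfl N3205 D10468
theorem N6805 : nd 6805 = n10469 := ndS (p := 3205) (l := 7) rfl N3205 D10469
theorem N6806 : nd 6806 = n10470 := ndS (p := 3206) (l := 6) rfl N3206 D10470
theorem N6807 : nd 6807 = n10471 := ndS (p := 3207) (l := 4) rfl N3207 D10471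
theorem N6808 : nd 6808 = n10472 := ndS (p := 3207) (l := 6) rfl N3207 D10472
theorem N6809 : nd 6809 = n10473 := ndS (p := 3208) (l := 4) rfl N3208 D10473
theorem N6810 : nd 6810 = n10474 := ndS (p := 3208) (l := 6) rfl N3208 D10474
theorem N6811 : nd 6811 = n10475 := ndS (p := 3209) (l := 3) rfl N3209 D10475
theorem N6812 : nd 6812 = n10476 := ndS (p := 3209) (l := 6) rfl N3209 D10476
theorem N6813 : nd 6813 = n10477 := ndS (p := 3210) (l := 0) rfl N3210 D10477
theorem N6814 : nd 6814 = n10479 := ndS (p := 3210) (l := 7) rfl N3210 D10479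
theorem N6815 : nd 6815 = n10482 := ndS (p := 3213) (l := 3) rfl N3213 D10482
theorem N6816 : nd 6816 = n10483 := ndS (p := 3213) (l := 5) rfl N3213 D10483
theorem N6817 : nd 6817 = n10484 := ndS (p := 3213) (l := 6) rfl N3213 D10484
theorem N6818 : nd 6818 = n10485 := ndS (p := 3214) (l := 3) rfl N3214 D10485
theorem N6819 : nd 6819 = n10486 := ndS (p := 3214) (l := 5) rfl N3214 D10486
theorem N6820 : nd 6820 = n10487 := ndS (p := 3214) (l := 6) rfl N3214 D10487
theorem N6821 : nd 6821 = n10488 := ndS (p := 3215) (l := 1) rfl N3215 D10488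
theorem N6822 : nd 6822 = n10489 := ndS (p := 3215) (l := 2) rfl N3215 D10489
theorem N6823 : nd 6823 = n10490 := ndS (p := 3215) (l := 6) rfl N3215 D10490
theorem N6824 : nd 6824 = n10491 := ndS (p := 3216) (l := 0) rfl N3216 D10491
theorem N6825 : nd 6825 = n10492 := ndS (p := 3216) (l := 1) rfl N3216 D10492
theorem N6826 : nd 6826 = n10493 := ndS (p := 3216) (l := 6) rfl N3216 D10493
theorem N6827 : nd 6827 = n10494 := ndS (p := 3217) (l := 0) rfl N3217 D10494
theorem N6828 : nd 6828 = n10495 := ndS (p := 3217) (l := 1) rfl N3217 D10495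
theorem N6829 : nd 6829 = n10496 := ndS (p := 3217) (l := 5) rfl N3217 D10496
theorem N6830 : nd 6830 = n10497 := ndS (p := 3217) (l := 7) rfl N3217 D10497
theorem N6831 : nd 6831 = n10500 := ndS (p := 3218) (l := 4) rfl N3218 D10500
theorem N6832 : nd 6832 = n10501 := ndS (p := 3218) (l := 5) rfl N3218 D10501
theorem N6833 : nd 6833 = n10502 := ndS (p := 3218) (l := 6) rfl N3218 D10502
theorem N6834 : nd 6834 = n10509 := ndS (p := 3220) (l := 6) rfl N3220 D10509
theorem N6835 : nd 6835 = n10511 := ndS (p := 3222) (l := 3) rfl N3222 D10511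
theorem N6836 : nd 6836 = n10512 := ndS (p := 3222) (l := 5) rfl N3222 D10512
theorem N6837 : nd 6837 = n10513 := ndS (p := 3222) (l := 6) rfl N3222 D10513
theorem N6838 : nd 6838 = n10514 := ndS (p := 3223) (l := 0) rfl N3223 D10514
theorem N6839 : nd 6839 = n10515 := ndS (p := 3223) (l := 1) rfl N3223 D10515
theorem N6840 : nd 6840 = n10531 := ndS (p := 3224) (l := 4) rfl N3224 D10531
theorem N6841 : nd 6841 = n10534 := ndS (p := 3226) (l := 3) rfl N3226 D10534
theorem N6842 : nd 6842 = n10535 := ndS (p := 3226) (l := 6) rfl N3226 D10535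
theorem N6843 : nd 6843 = n10544 := ndS (p := 3228) (l := 6) rfl N3228 D10544
theorem N6844 : nd 6844 = n10549 := ndS (p := 3231) (l := 0) rfl N3231 D10549
theorem N6845 : nd 6845 = n10550 := ndS (p := 3231) (l := 1) rfl N3231 D10550
theorem N6846 : nd 6846 = n10551 := ndS (p := 3231) (l := 2) rfl N3231 D10551
theorem N6847 : nd 6847 = n10552 := ndS (p := 3231) (l := 5) rfl N3231 D10552
theorem N6848 : nd 6848 = n10553 := ndS (p := 3231) (l := 6) rfl N3231 D10553
theorem N6849 : nd 6849 = n10554 := ndS (p := 3232) (l := 6) rfl N3232 D10554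
theorem N6850 : nd 6850 = n10555 := ndS (p := 3233) (l := 0) rfl N3233 D10555
theorem N6851 : nd 6851 = n10556 := ndS (p := 3233) (l := 1) rfl N3233 D10556
theorem N6852 : nd 6852 = n10557 := ndS (p := 3233) (l := 5) rfl N3233 D10557
theorem N6853 : nd 6853 = n10566 := ndS (p := 3234) (l := 4) rfl N3234 D10566
theorem N6854 : nd 6854 = n10568 := ndS (p := 3234) (l := 6) rfl N3234 D10568
theorem N6855 : nd 6855 = n10600 := ndS (p := 3235) (l := 6) rfl N3235 D10600
theorem N6856 : nd 6856 = n10601 := ndS (p := 3236) (l := 0) rfl N3236 D10601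
theorem N6857 : nd 6857 = n10602 := ndS (p := 3236) (l := 3) rfl N3236 D10602
theorem N6858 : nd 6858 = n10603 := ndS (p := 3236) (l := 5) rfl N3236 D10603
theorem N6859 : nd 6859 = n10604 := ndS (p := 3236) (l := 6) rfl N3236 D10604
theorem N6860 : nd 6860 = n10606 := ndS (p := 3237) (l := 1) rfl N3237 D10606
theorem N6861 : nd 6861 = n10609 := ndS (p := 3238) (l := 6) rfl N3238 D10609
theorem N6862 : nd 6862 = n10610 := ndS (p := 3239) (l := 3) rfl N3239 D10610
theorem N6863 : nd 6863 = n10611 := ndS (p := 3239) (l := 5) rfl N3239 D10611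
theorem N6864 : nd 6864 = n10612 := ndS (p := 3239) (l := 6) rfl N3239 D10612
theorem N6865 : nd 6865 = n10617 := ndS (p := 3241) (l := 3) rfl N3241 D10617
theorem N6866 : nd 6866 = n10618 := ndS (p := 3241) (l := 5) rfl N3241 D10618
theorem N6867 : nd 6867 = n10619 := ndS (p := 3241) (l := 6) rfl N3241 D10619
theorem N6868 : nd 6868 = n10620 := ndS (p := 3242) (l := 3) rfl N3242 D10620
theorem N6869 : nd 6869 = n10621 := ndS (p := 3242) (l := 5) rfl N3242 D10621
theorem N6870 : nd 6870 = n10622 := ndS (p := 3242) (l := 6) rfl N3242 D10622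
theorem N6871 : nd 6871 = n10623 := ndS (p := 3243) (l := 0) rfl N3243 D10623
theorem N6872 : nd 6872 = n10624 := ndS (p := 3243) (l := 1) rfl N3243 D10624
theorem N6873 : nd 6873 = n10625 := ndS (p := 3243) (l := 2) rfl N3243 D10625
theorem N6874 : nd 6874 = n10626 := ndS (p := 3243) (l := 5) rfl N3243 D10626
theorem N6875 : nd 6875 = n10627 := ndS (p := 3243) (l := 6) rfl N3243 D10627
theorem N6876 : nd 6876 = n10628 := ndS (p := 3244) (l := 6) rfl N3244 D10628
theorem N6877 : nd 6877 = n10629 := ndS (p := 3245) (l := 0) rfl N3245 D10629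
theorem N6878 : nd 6878 = n10630 := ndS (p := 3245) (l := 1) rfl N3245 D10630
theorem N6879 : nd 6879 = n10631 := ndS (p := 3245) (l := 5) rfl N3245 D10631
theorem N6880 : nd 6880 = n10632 := ndS (p := 3245) (l := 7) rfl N3245 D10632
theorem N6881 : nd 6881 = n10634 := ndS (p := 3246) (l := 3) rfl N3246 D10634
theorem N6882 : nd 6882 = n10635 := ndS (p := 3246) (l := 4) rfl N3246 D10635
theorem N6883 : nd 6883 = n10636 := ndS (p := 3246) (l := 5) rfl N3246 D10636
theorem N6884 : nd 6884 = n10638 := ndS (p := 3247) (l := 3) rfl N3247 D10638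
theorem N6885 : nd 6885 = n10639 := ndS (p := 3247) (l := 4) rfl N3247 D10639
theorem N6886 : nd 6886 = n10640 := ndS (p := 3247) (l := 6) rfl N3247 D10640
theorem N6887 : nd 6887 = n10641 := ndS (p := 3249) (l := 6) rfl N3249 D10641
theorem N6888 : nd 6888 = n10642 := ndS (p := 3250) (l := 3) rfl N3250 D10642
theorem N6889 : nd 6889 = n10643 := ndS (p := 3250) (l := 5) rfl N3250 D10643
theorem N6890 : nd 6890 = n10644 := ndS (p := 3250) (l := 6) rfl N3250 D10644
theorem N6891 : nd 6891 = n10645 := ndS (p := 3251) (l := 0) rfl N3251 D10645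
theorem N6892 : nd 6892 = n10646 := ndS (p := 3251) (l := 1) rfl N3251 D10646
theorem N6893 : nd 6893 = n10648 := ndS (p := 3251) (l := 7) rfl N3251 D10648
theorem N6894 : nd 6894 = n10649 := ndS (p := 3252) (l := 3) rfl N3252 D10649
theorem N6895 : nd 6895 = n10650 := ndS (p := 3252) (l := 6) rfl N3252 D10650
theorem N6896 : nd 6896 = n10651 := ndS (p := 3253) (l := 3) rfl N3253 D10651
theorem N6897 : nd 6897 = n10652 := ndS (p := 3253) (l := 6) rfl N3253 D10652
theorem N6898 : nd 6898 = n10653 := ndS (p := 3254) (l := 1) rfl N3254 D10653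
theorem N6899 : nd 6899 = n10654 := ndS (p := 3254) (l := 2) rfl N3254 D10654
theorem N6900 : nd 6900 = n10655 := ndS (p := 3254) (l := 5) rfl N3254 D10655
theorem N6901 : nd 6901 = n10656 := ndS (p := 3254) (l := 6) rfl N3254 D10656
theorem N6902 : nd 6902 = n10657 := ndS (p := 3255) (l := 0) rfl N3255 D10657
theorem N6903 : nd 6903 = n10658 := ndS (p := 3255) (l := 1) rfl N3255 D10658
theorem N6904 : nd 6904 = n10659 := ndS (p := 3255) (l := 6) rfl N3255 D10659
theorem N6905 : nd 6905 = n10660 := ndS (p := 3256) (l := 0) rfl N3256 D10660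
theorem N6906 : nd 6906 = n10661 := ndS (p := 3256) (l := 1) rfl N3256 D10661
theorem N6907 : nd 6907 = n10662 := ndS (p := 3256) (l := 5) rfl N3256 D10662
theorem N6908 : nd 6908 = n10663 := ndS (p := 3256) (l := 7) rfl N3256 D10663
theorem N6909 : nd 6909 = n10666 := ndS (p := 3257) (l := 4) rfl N3257 D10666
theorem N6910 : nd 6910 = n10667 := ndS (p := 3257) (l := 5) rfl N3257 D10667
theorem N6911 : nd 6911 = n10668 := ndS (p := 3257) (l := 6) rfl N3257 D10668
theorem N6912 : nd 6912 = n10671 := ndS (p := 3258) (l := 4) rfl N3258 D10671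
theorem N6913 : nd 6913 = n10672 := ndS (p := 3258) (l := 5) rfl N3258 D10672
theorem N6914 : nd 6914 = n10673 := ndS (p := 3258) (l := 6) rfl N3258 D10673
theorem N6915 : nd 6915 = n10678 := ndS (p := 3260) (l := 6) rfl N3260 D10678
theorem N6916 : nd 6916 = n10679 := ndS (p := 3261) (l := 3) rfl N3261 D10679
theorem N6917 : nd 6917 = n10680 := ndS (p := 3261) (l := 5) rfl N3261 D10680
theorem N6918 : nd 6918 = n10681 := ndS (p := 3261) (l := 6) rfl N3261 D10681
theorem N6919 : nd 6919 = n10682 := ndS (p := 3262) (l := 0) rfl N3262 D10682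
theorem N6920 : nd 6920 = n10683 := ndS (p := 3262) (l := 1) rfl N3262 D10683
theorem N6921 : nd 6921 = n10684 := ndS (p := 3262) (l := 5) rfl N3262 D10684
theorem N6922 : nd 6922 = n10685 := ndS (p := 3262) (l := 7) rfl N3262 D10685
theorem N6923 : nd 6923 = n10686 := ndS (p := 3263) (l := 0) rfl N3263 D10686
theorem N6924 : nd 6924 = n10687 := ndS (p := 3263) (l := 1) rfl N3263 D10687
theorem N6925 : nd 6925 = n10688 := ndS (p := 3263) (l := 2) rfl N3263 D10688
theorem N6926 : nd 6926 = n10689 := ndS (p := 3263) (l := 5) rfl N3263 D10689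
theorem N6927 : nd 6927 = n10690 := ndS (p := 3263) (l := 6) rfl N3263 D10690
theorem N6928 : nd 6928 = n10691 := ndS (p := 3264) (l := 6) rfl N3264 D10691
theorem N6929 : nd 6929 = n10692 := ndS (p := 3265) (l := 0) rfl N3265 D10692
theorem N6930 : nd 6930 = n10693 := ndS (p := 3265) (l := 1) rfl N3265 D10693
theorem N6931 : nd 6931 = n10694 := ndS (p := 3265) (l := 5) rfl N3265 D10694
theorem N6932 : nd 6932 = n10695 := ndS (p := 3265) (l := 7) rfl N3265 D10695
theorem N6933 : nd 6933 = n10703 := ndS (p := 3266) (l := 4) rfl N3266 D10703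
theorem N6934 : nd 6934 = n10705 := ndS (p := 3266) (l := 6) rfl N3266 D10705
theorem N6935 : nd 6935 = n10706 := ndS (p := 3267) (l := 0) rfl N3267 D10706
theorem N6936 : nd 6936 = n10707 := ndS (p := 3267) (l := 1) rfl N3267 D10707
theorem N6937 : nd 6937 = n10708 := ndS (p := 3267) (l := 4) rfl N3267 D10708
theorem N6938 : nd 6938 = n10709 := ndS (p := 3267) (l := 7) rfl N3267 D10709
theorem N6939 : nd 6939 = n10710 := ndS (p := 3269) (l := 0) rfl N3269 D10710
theorem N6940 : nd 6940 = n10711 := ndS (p := 3269) (l := 1) rfl N3269 D10711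
theorem N6941 : nd 6941 = n10712 := ndS (p := 3269) (l := 2) rfl N3269 D10712
theorem N6942 : nd 6942 = n10713 := ndS (p := 3269) (l := 4) rfl N3269 D10713
theorem N6943 : nd 6943 = n10714 := ndS (p := 3269) (l := 5) rfl N3269 D10714
theorem N6944 : nd 6944 = n10715 := ndS (p := 3269) (l := 6) rfl N3269 D10715
theorem N6945 : nd 6945 = n10716 := ndS (p := 3270) (l := 6) rfl N3270 D10716
theorem N6946 : nd 6946 = n10717 := ndS (p := 3271) (l := 0) rfl N3271 D10717
theorem N6947 : nd 6947 = n10718 := ndS (p := 3271) (l := 6) rfl N3271 D10718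
theorem N6948 : nd 6948 = n10721 := ndS (p := 3272) (l := 5) rfl N3272 D10721
theorem N6949 : nd 6949 = n10722 := ndS (p := 3272) (l := 7) rfl N3272 D10722
theorem N6950 : nd 6950 = n10723 := ndS (p := 3273) (l := 0) rfl N3273 D10723
theorem N6951 : nd 6951 = n10724 := ndS (p := 3273) (l := 1) rfl N3273 D10724
theorem N6952 : nd 6952 = n10725 := ndS (p := 3273) (l := 2) rfl N3273 D10725
theorem N6953 : nd 6953 = n10726 := ndS (p := 3273) (l := 4) rfl N3273 D10726
theorem N6954 : nd 6954 = n10727 := ndS (p := 3273) (l := 5) rfl N3273 D10727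
theorem N6955 : nd 6955 = n10728 := ndS (p := 3273) (l := 6) rfl N3273 D10728
theorem N6956 : nd 6956 = n10729 := ndS (p := 3274) (l := 6) rfl N3274 D10729
theorem N6957 : nd 6957 = n10730 := ndS (p := 3275) (l := 6) rfl N3275 D10730
theorem N6958 : nd 6958 = n10733 := ndS (p := 3276) (l := 5) rfl N3276 D10733
theorem N6959 : nd 6959 = n10734 := ndS (p := 3276) (l := 7) rfl N3276 D10734
theorem N6960 : nd 6960 = n10735 := ndS (p := 3277) (l := 3) rfl N3277 D10735
theorem N6961 : nd 6961 = n10736 := ndS (p := 3277) (l := 5) rfl N3277 D10736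
theorem N6962 : nd 6962 = n10737 := ndS (p := 3277) (l := 6) rfl N3277 D10737
theorem N6963 : nd 6963 = n10738 := ndS (p := 3278) (l := 5) rfl N3278 D10738
theorem N6964 : nd 6964 = n10739 := ndS (p := 3278) (l := 6) rfl N3278 D10739
theorem N6965 : nd 6965 = n10740 := ndS (p := 3279) (l := 0) rfl N3279 D10740
theorem N6966 : nd 6966 = n10741 := ndS (p := 3279) (l := 4) rfl N3279 D10741
theorem N6967 : nd 6967 = n10742 := ndS (p := 3279) (l := 6) rfl N3279 D10742
theorem N6968 : nd 6968 = n10743 := ndS (p := 3280) (l := 0) rfl N3280 D10743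
theorem N6969 : nd 6969 = n10744 := ndS (p := 3280) (l := 1) rfl N3280 D10744
theorem N6970 : nd 6970 = n10745 := ndS (p := 3280) (l := 5) rfl N3280 D10745
theorem N6971 : nd 6971 = n10746 := ndS (p := 3280) (l := 7) rfl N3280 D10746
theorem N6972 : nd 6972 = n10747 := ndS (p := 3281) (l := 3) rfl N3281 D10747
theorem N6973 : nd 6973 = n10748 := ndS (p := 3281) (l := 6) rfl N3281 D10748
theorem N6974 : nd 6974 = n10749 := ndS (p := 3282) (l := 3) rfl N3282 D10749
theorem N6975 : nd 6975 = n10750 := ndS (p := 3282) (l := 6) rfl N3282 D10750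
theorem N6976 : nd 6976 = n10751 := ndS (p := 3283) (l := 3) rfl N3283 D10751
theorem N6977 : nd 6977 = n10752 := ndS (p := 3283) (l := 6) rfl N3283 D10752
theorem N6978 : nd 6978 = n10753 := ndS (p := 3284) (l := 0) rfl N3284 D10753
theorem N6979 : nd 6979 = n10754 := ndS (p := 3284) (l := 1) rfl N3284 D10754
theorem N6980 : nd 6980 = n10755 := ndS (p := 3284) (l := 5) rfl N3284 D10755
theorem N6981 : nd 6981 = n10756 := ndS (p := 3284) (l := 7) rfl N3284 D10756
theorem N6982 : nd 6982 = n10757 := ndS (p := 3285) (l := 6) rfl N3285 D10757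
theorem N6983 : nd 6983 = n10759 := ndS (p := 3286) (l := 3) rfl N3286 D10759
theorem N6984 : nd 6984 = n10760 := ndS (p := 3286) (l := 4) rfl N3286 D10760
theorem N6985 : nd 6985 = n10761 := ndS (p := 3286) (l := 5) rfl N3286 D10761
theorem N6986 : nd 6986 = n10762 := ndS (p := 3286) (l := 6) rfl N3286 D10762
theorem N6987 : nd 6987 = n10764 := ndS (p := 3287) (l := 3) rfl N3287 D10764
theorem N6988 : nd 6988 = n10765 := ndS (p := 3287) (l := 4) rfl N3287 D10765
theorem N6989 : nd 6989 = n10766 := ndS (p := 3287) (l := 5) rfl N3287 D10766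
theorem N6990 : nd 6990 = n10767 := ndS (p := 3287) (l := 6) rfl N3287 D10767
theorem N6991 : nd 6991 = n10768 := ndS (p := 3288) (l := 0) rfl N3288 D10768
theorem N6992 : nd 6992 = n10769 := ndS (p := 3288) (l := 1) rfl N3288 D10769
theorem N6993 : nd 6993 = n10770 := ndS (p := 3288) (l := 4) rfl N3288 D10770
theorem N6994 : nd 6994 = n10771 := ndS (p := 3288) (l := 7) rfl N3288 D10771
theorem N6995 : nd 6995 = n10772 := ndS (p := 3289) (l := 6) rfl N3289 D10772
theorem N6996 : nd 6996 = n10773 := ndS (p := 3290) (l := 0) rfl N3290 D10773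
theorem N6997 : nd 6997 = n10774 := ndS (p := 3290) (l := 1) rfl N3290 D10774
theorem N6998 : nd 6998 = n10775 := ndS (p := 3290) (l := 5) rfl N3290 D10775
theorem N6999 : nd 6999 = n10782 := ndS (p := 3291) (l := 0) rfl N3291 D10782
theorem N7000 : nd 7000 = n10784 := ndS (p := 3291) (l := 2) rfl N3291 D10784
theorem N7001 : nd 7001 = n10785 := ndS (p := 3291) (l := 4) rfl N3291 D10785
theorem N7002 : nd 7002 = n10786 := ndS (p := 3291) (l := 5) rfl N3291 D10786
theorem N7003 : nd 7003 = n10787 := ndS (p := 3291) (l := 6) rfl N3291 D10787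
theorem N7004 : nd 7004 = n10789 := ndS (p := 3292) (l := 0) rfl N3292 D10789
theorem N7005 : nd 7005 = n10791 := ndS (p := 3292) (l := 3) rfl N3292 D10791
theorem N7006 : nd 7006 = n10792 := ndS (p := 3292) (l := 5) rfl N3292 D10792
theorem N7007 : nd 7007 = n10793 := ndS (p := 3292) (l := 6) rfl N3292 D10793
theorem N7008 : nd 7008 = n10795 := ndS (p := 3293) (l := 0) rfl N3293 D10795
theorem N7009 : nd 7009 = n10796 := ndS (p := 3293) (l := 1) rfl N3293 D10796
theorem N7010 : nd 7010 = n10797 := ndS (p := 3293) (l := 4) rfl N3293 D10797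
theorem N7011 : nd 7011 = n10798 := ndS (p := 3293) (l := 6) rfl N3293 D10798
theorem N7012 : nd 7012 = n10805 := ndS (p := 3295) (l := 1) rfl N3295 D10805
theorem N7013 : nd 7013 = n10806 := ndS (p := 3295) (l := 2) rfl N3295 D10806
theorem N7014 : nd 7014 = n10807 := ndS (p := 3295) (l := 4) rfl N3295 D10807
theorem N7015 : nd 7015 = n10808 := ndS (p := 3295) (l := 5) rfl N3295 D10808
theorem N7016 : nd 7016 = n10809 := ndS (p := 3295) (l := 6) rfl N3295 D10809
theorem N7017 : nd 7017 = n10810 := ndS (p := 3296) (l := 3) rfl N3296 D10810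
theorem N7018 : nd 7018 = n10811 := ndS (p := 3296) (l := 5) rfl N3296 D10811
theorem N7019 : nd 7019 = n10812 := ndS (p := 3296) (l := 6) rfl N3296 D10812
theorem N7020 : nd 7020 = n10813 := ndS (p := 3297) (l := 4) rfl N3297 D10813
theorem N7021 : nd 7021 = n10816 := ndS (p := 3298) (l := 5) rfl N3298 D10816
theorem N7022 : nd 7022 = n10817 := ndS (p := 3299) (l := 5) rfl N3299 D10817
theorem N7023 : nd 7023 = n10819 := ndS (p := 3300) (l := 3) rfl N3300 D10819
theorem N7024 : nd 7024 = n10820 := ndS (p := 3300) (l := 4) rfl N3300 D10820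
theorem N7025 : nd 7025 = n10822 := ndS (p := 3300) (l := 6) rfl N3300 D10822
theorem N7026 : nd 7026 = n10824 := ndS (p := 3301) (l := 3) rfl N3301 D10824
theorem N7027 : nd 7027 = n10825 := ndS (p := 3301) (l := 4) rfl N3301 D10825
theorem N7028 : nd 7028 = n10828 := ndS (p := 3302) (l := 0) rfl N3302 D10828
theorem N7029 : nd 7029 = n10830 := ndS (p := 3302) (l := 4) rfl N3302 D10830
theorem N7030 : nd 7030 = n10832 := ndS (p := 3304) (l := 3) rfl N3304 D10832
theorem N7031 : nd 7031 = n10833 := ndS (p := 3304) (l := 5) rfl N3304 D10833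
theorem N7032 : nd 7032 = n10837 := ndS (p := 3306) (l := 5) rfl N3306 D10837
theorem N7033 : nd 7033 = n10840 := ndS (p := 3307) (l := 3) rfl N3307 D10840
theorem N7034 : nd 7034 = n10841 := ndS (p := 3307) (l := 4) rfl N3307 D10841
theorem N7035 : nd 7035 = n10842 := ndS (p := 3307) (l := 6) rfl N3307 D10842
theorem N7036 : nd 7036 = n10843 := ndS (p := 3308) (l := 0) rfl N3308 D10843
theorem N7037 : nd 7037 = n10844 := ndS (p := 3308) (l := 1) rfl N3308 D10844
theorem N7038 : nd 7038 = n10845 := ndS (p := 3308) (l := 3) rfl N3308 D10845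
theorem N7039 : nd 7039 = n10846 := ndS (p := 3308) (l := 5) rfl N3308 D10846
theorem N7040 : nd 7040 = n10847 := ndS (p := 3309) (l := 3) rfl N3309 D10847
theorem N7041 : nd 7041 = n10848 := ndS (p := 3309) (l := 5) rfl N3309 D10848
theorem N7042 : nd 7042 = n10849 := ndS (p := 3309) (l := 6) rfl N3309 D10849
theorem N7043 : nd 7043 = n10850 := ndS (p := 3310) (l := 0) rfl N3310 D10850
theorem N7044 : nd 7044 = n10851 := ndS (p := 3310) (l := 1) rfl N3310 D10851
theorem N7045 : nd 7045 = n10853 := ndS (p := 3310) (l := 7) rfl N3310 D10853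
theorem N7046 : nd 7046 = n10854 := ndS (p := 3311) (l := 3) rfl N3311 D10854
theorem N7047 : nd 7047 = n10855 := ndS (p := 3311) (l := 6) rfl N3311 D10855
theorem N7048 : nd 7048 = n10856 := ndS (p := 3312) (l := 3) rfl N3312 D10856
theorem N7049 : nd 7049 = n10857 := ndS (p := 3312) (l := 6) rfl N3312 D10857
theorem N7050 : nd 7050 = n10858 := ndS (p := 3313) (l := 4) rfl N3313 D10858
theorem N7051 : nd 7051 = n10859 := ndS (p := 3313) (l := 6) rfl N3313 D10859
theorem N7052 : nd 7052 = n10860 := ndS (p := 3314) (l := 0) rfl N3314 D10860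
theorem N7053 : nd 7053 = n10861 := ndS (p := 3314) (l := 1) rfl N3314 D10861
theorem N7054 : nd 7054 = n10862 := ndS (p := 3314) (l := 5) rfl N3314 D10862
theorem N7055 : nd 7055 = n10863 := ndS (p := 3314) (l := 7) rfl N3314 D10863
theorem N7056 : nd 7056 = n10865 := ndS (p := 3315) (l := 3) rfl N3315 D10865
theorem N7057 : nd 7057 = n10866 := ndS (p := 3315) (l := 4) rfl N3315 D10866
theorem N7058 : nd 7058 = n10867 := ndS (p := 3315) (l := 5) rfl N3315 D10867
theorem N7059 : nd 7059 = n10868 := ndS (p := 3315) (l := 6) rfl N3315 D10868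
theorem N7060 : nd 7060 = n10870 := ndS (p := 3316) (l := 3) rfl N3316 D10870
theorem N7061 : nd 7061 = n10871 := ndS (p := 3316) (l := 4) rfl N3316 D10871
theorem N7062 : nd 7062 = n10872 := ndS (p := 3316) (l := 5) rfl N3316 D10872
theorem N7063 : nd 7063 = n10873 := ndS (p := 3316) (l := 6) rfl N3316 D10873
theorem N7064 : nd 7064 = n10881 := ndS (p := 3318) (l := 4) rfl N3318 D10881
theorem N7065 : nd 7065 = n10882 := ndS (p := 3318) (l := 5) rfl N3318 D10882
theorem N7066 : nd 7066 = n10901 := ndS (p := 3322) (l := 3) rfl N3322 D10901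
theorem N7067 : nd 7067 = n10902 := ndS (p := 3322) (l := 5) rfl N3322 D10902
theorem N7068 : nd 7068 = n10903 := ndS (p := 3322) (l := 6) rfl N3322 D10903
theorem N7069 : nd 7069 = n10904 := ndS (p := 3323) (l := 0) rfl N3323 D10904
theorem N7070 : nd 7070 = n10905 := ndS (p := 3323) (l := 1) rfl N3323 D10905
theorem N7071 : nd 7071 = n10906 := ndS (p := 3323) (l := 5) rfl N3323 D10906
theorem N7072 : nd 7072 = n10907 := ndS (p := 3323) (l := 7) rfl N3323 D10907
theorem N7073 : nd 7073 = n10908 := ndS (p := 3324) (l := 3) rfl N3324 D10908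
theorem N7074 : nd 7074 = n10909 := ndS (p := 3324) (l := 6) rfl N3324 D10909
theorem N7075 : nd 7075 = n10910 := ndS (p := 3325) (l := 3) rfl N3325 D10910
theorem N7076 : nd 7076 = n10911 := ndS (p := 3325) (l := 6) rfl N3325 D10911
theorem N7077 : nd 7077 = n10912 := ndS (p := 3326) (l := 4) rfl N3326 D10912
theorem N7078 : nd 7078 = n10913 := ndS (p := 3326) (l := 6) rfl N3326 D10913
theorem N7079 : nd 7079 = n10914 := ndS (p := 3327) (l := 0) rfl N3327 D10914
theorem N7080 : nd 7080 = n10915 := ndS (p := 3327) (l := 1) rfl N3327 D10915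
theorem N7081 : nd 7081 = n10916 := ndS (p := 3327) (l := 5) rfl N3327 D10916
theorem N7082 : nd 7082 = n10917 := ndS (p := 3327) (l := 7) rfl N3327 D10917
theorem N7083 : nd 7083 = n10919 := ndS (p := 3328) (l := 3) rfl N3328 D10919
theorem N7084 : nd 7084 = n10920 := ndS (p := 3328) (l := 4) rfl N3328 D10920
theorem N7085 : nd 7085 = n10924 := ndS (p := 3329) (l := 3) rfl N3329 D10924
theorem N7086 : nd 7086 = n10925 := ndS (p := 3329) (l := 4) rfl N3329 D10925
theorem N7087 : nd 7087 = n10927 := ndS (p := 3329) (l := 6) rfl N3329 D10927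
theorem N7088 : nd 7088 = n10928 := ndS (p := 3330) (l := 0) rfl N3330 D10928
theorem N7089 : nd 7089 = n10929 := ndS (p := 3330) (l := 1) rfl N3330 D10929
theorem N7090 : nd 7090 = n10930 := ndS (p := 3330) (l := 4) rfl N3330 D10930
theorem N7091 : nd 7091 = n10931 := ndS (p := 3330) (l := 7) rfl N3330 D10931
theorem N7092 : nd 7092 = n10946 := ndS (p := 3332) (l := 4) rfl N3332 D10946
theorem N7093 : nd 7093 = n10952 := ndS (p := 3335) (l := 3) rfl N3335 D10952
theorem N7094 : nd 7094 = n10958 := ndS (p := 3337) (l := 1) rfl N3337 D10958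
theorem N7095 : nd 7095 = n10959 := ndS (p := 3337) (l := 5) rfl N3337 D10959
theorem N7096 : nd 7096 = n10960 := ndS (p := 3337) (l := 6) rfl N3337 D10960
theorem N7097 : nd 7097 = n10965 := ndS (p := 3339) (l := 6) rfl N3339 D10965
theorem N7098 : nd 7098 = n10966 := ndS (p := 3340) (l := 3) rfl N3340 D10966
theorem N7099 : nd 7099 = n10967 := ndS (p := 3340) (l := 5) rfl N3340 D10967
theorem N7100 : nd 7100 = n10968 := ndS (p := 3340) (l := 6) rfl N3340 D10968
theorem N7101 : nd 7101 = n10973 := ndS (p := 3342) (l := 0) rfl N3342 D10973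
theorem N7102 : nd 7102 = n10975 := ndS (p := 3342) (l := 5) rfl N3342 D10975
theorem N7103 : nd 7103 = n10976 := ndS (p := 3342) (l := 7) rfl N3342 D10976
theorem N7104 : nd 7104 = n10978 := ndS (p := 3343) (l := 3) rfl N3343 D10978
theorem N7105 : nd 7105 = n10979 := ndS (p := 3343) (l := 4) rfl N3343 D10979
theorem N7106 : nd 7106 = n10981 := ndS (p := 3343) (l := 6) rfl N3343 D10981
theorem N7107 : nd 7107 = n10983 := ndS (p := 3344) (l := 3) rfl N3344 D10983
theorem N7108 : nd 7108 = n10984 := ndS (p := 3344) (l := 4) rfl N3344 D10984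
theorem N7109 : nd 7109 = n10987 := ndS (p := 3345) (l := 0) rfl N3345 D10987
theorem N7110 : nd 7110 = n10989 := ndS (p := 3345) (l := 4) rfl N3345 D10989
theorem N7111 : nd 7111 = n10990 := ndS (p := 3345) (l := 7) rfl N3345 D10990
theorem N7112 : nd 7112 = n10994 := ndS (p := 3347) (l := 4) rfl N3347 D10994
theorem N7113 : nd 7113 = n11003 := ndS (p := 3349) (l := 4) rfl N3349 D11003
theorem N7114 : nd 7114 = n11008 := ndS (p := 3350) (l := 3) rfl N3350 D11008
theorem N7115 : nd 7115 = n11021 := ndS (p := 3352) (l := 4) rfl N3352 D11021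
theorem N7116 : nd 7116 = n11029 := ndS (p := 3353) (l := 4) rfl N3353 D11029
theorem N7117 : nd 7117 = n11030 := ndS (p := 3353) (l := 5) rfl N3353 D11030
theorem N7118 : nd 7118 = n11031 := ndS (p := 3353) (l := 6) rfl N3353 D11031
theorem N7119 : nd 7119 = n11032 := ndS (p := 3354) (l := 0) rfl N3354 D11032
theorem N7120 : nd 7120 = n11034 := ndS (p := 3354) (l := 3) rfl N3354 D11034
theorem N7121 : nd 7121 = n11035 := ndS (p := 3354) (l := 5) rfl N3354 D11035
theorem N7122 : nd 7122 = n11036 := ndS (p := 3354) (l := 6) rfl N3354 D11036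
theorem N7123 : nd 7123 = n11037 := ndS (p := 3355) (l := 0) rfl N3355 D11037
theorem N7124 : nd 7124 = n11039 := ndS (p := 3355) (l := 4) rfl N3355 D11039
theorem N7125 : nd 7125 = n11041 := ndS (p := 3356) (l := 0) rfl N3356 D11041
theorem N7126 : nd 7126 = n11042 := ndS (p := 3356) (l := 1) rfl N3356 D11042
theorem N7127 : nd 7127 = n11060 := ndS (p := 3358) (l := 4) rfl N3358 D11060
theorem N7128 : nd 7128 = n11063 := ndS (p := 3359) (l := 4) rfl N3359 D11063
theorem N7129 : nd 7129 = n11064 := ndS (p := 3359) (l := 6) rfl N3359 D11064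
theorem N7130 : nd 7130 = n11066 := ndS (p := 3360) (l := 1) rfl N3360 D11066
theorem N7131 : nd 7131 = n11067 := ndS (p := 3360) (l := 3) rfl N3360 D11067
theorem N7132 : nd 7132 = n11068 := ndS (p := 3360) (l := 5) rfl N3360 D11068
theorem N7133 : nd 7133 = n11069 := ndS (p := 3360) (l := 6) rfl N3360 D11069
theorem N7134 : nd 7134 = n11079 := ndS (p := 3363) (l := 3) rfl N3363 D11079
theorem N7135 : nd 7135 = n11084 := ndS (p := 3364) (l := 5) rfl N3364 D11084
theorem N7136 : nd 7136 = n11090 := ndS (p := 3365) (l := 4) rfl N3365 D11090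
theorem N7137 : nd 7137 = n11091 := ndS (p := 3365) (l := 6) rfl N3365 D11091
theorem N7138 : nd 7138 = n11097 := ndS (p := 3367) (l := 1) rfl N3367 D11097
theorem N7139 : nd 7139 = n11098 := ndS (p := 3367) (l := 2) rfl N3367 D11098
theorem N7140 : nd 7140 = n11101 := ndS (p := 3368) (l := 5) rfl N3368 D11101
theorem N7141 : nd 7141 = n11102 := ndS (p := 3368) (l := 7) rfl N3368 D11102
theorem N7142 : nd 7142 = n11103 := ndS (p := 3369) (l := 3) rfl N3369 D11103
theorem N7143 : nd 7143 = n11104 := ndS (p := 3369) (l := 5) rfl N3369 D11104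
theorem N7144 : nd 7144 = n11105 := ndS (p := 3369) (l := 6) rfl N3369 D11105
theorem N7145 : nd 7145 = n11106 := ndS (p := 3370) (l := 5) rfl N3370 D11106
theorem N7146 : nd 7146 = n11107 := ndS (p := 3370) (l := 6) rfl N3370 D11107
theorem N7147 : nd 7147 = n11108 := ndS (p := 3371) (l := 0) rfl N3371 D11108
theorem N7148 : nd 7148 = n11109 := ndS (p := 3371) (l := 1) rfl N3371 D11109
theorem N7149 : nd 7149 = n11110 := ndS (p := 3371) (l := 4) rfl N3371 D11110
theorem N7150 : nd 7150 = n11111 := ndS (p := 3371) (l := 7) rfl N3371 D11111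
theorem N7151 : nd 7151 = n11112 := ndS (p := 3373) (l := 3) rfl N3373 D11112
theorem N7152 : nd 7152 = n11113 := ndS (p := 3373) (l := 5) rfl N3373 D11113
theorem N7153 : nd 7153 = n11114 := ndS (p := 3373) (l := 6) rfl N3373 D11114
theorem N7154 : nd 7154 = n11115 := ndS (p := 3374) (l := 4) rfl N3374 D11115
theorem N7155 : nd 7155 = n11116 := ndS (p := 3374) (l := 6) rfl N3374 D11116
theorem N7156 : nd 7156 = n11117 := ndS (p := 3375) (l := 7) rfl N3375 D11117
theorem N7157 : nd 7157 = n11118 := ndS (p := 3376) (l := 4) rfl N3376 D11118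
theorem N7158 : nd 7158 = n11119 := ndS (p := 3376) (l := 6) rfl N3376 D11119
theorem N7159 : nd 7159 = n11120 := ndS (p := 3377) (l := 0) rfl N3377 D11120
theorem N7160 : nd 7160 = n11121 := ndS (p := 3377) (l := 1) rfl N3377 D11121
theorem N7161 : nd 7161 = n11122 := ndS (p := 3377) (l := 3) rfl N3377 D11122
theorem N7162 : nd 7162 = n11123 := ndS (p := 3377) (l := 5) rfl N3377 D11123
theorem N7163 : nd 7163 = n11124 := ndS (p := 3377) (l := 7) rfl N3377 D11124
theorem N7164 : nd 7164 = n11125 := ndS (p := 3379) (l := 3) rfl N3379 D11125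
theorem N7165 : nd 7165 = n11126 := ndS (p := 3379) (l := 5) rfl N3379 D11126
theorem N7166 : nd 7166 = n11127 := ndS (p := 3379) (l := 6) rfl N3379 D11127
theorem N7167 : nd 7167 = n11128 := ndS (p := 3381) (l := 3) rfl N3381 D11128
theorem N7168 : nd 7168 = n11129 := ndS (p := 3381) (l := 5) rfl N3381 D11129
theorem N7169 : nd 7169 = n11130 := ndS (p := 3382) (l := 3) rfl N3382 D11130
theorem N7170 : nd 7170 = n11131 := ndS (p := 3382) (l := 5) rfl N3382 D11131
theorem N7171 : nd 7171 = n11132 := ndS (p := 3382) (l := 6) rfl N3382 D11132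
theorem N7172 : nd 7172 = n11133 := ndS (p := 3383) (l := 0) rfl N3383 D11133
theorem N7173 : nd 7173 = n11134 := ndS (p := 3383) (l := 1) rfl N3383 D11134
theorem N7174 : nd 7174 = n11135 := ndS (p := 3383) (l := 2) rfl N3383 D11135
theorem N7175 : nd 7175 = n11136 := ndS (p := 3383) (l := 5) rfl N3383 D11136
theorem N7176 : nd 7176 = n11137 := ndS (p := 3384) (l := 6) rfl N3384 D11137
theorem N7177 : nd 7177 = n11138 := ndS (p := 3385) (l := 6) rfl N3385 D11138
theorem N7178 : nd 7178 = n11141 := ndS (p := 3386) (l := 5) rfl N3386 D11141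
theorem N7179 : nd 7179 = n11145 := ndS (p := 3387) (l := 5) rfl N3387 D11145
theorem N7180 : nd 7180 = n11147 := ndS (p := 3388) (l := 0) rfl N3388 D11147
theorem N7181 : nd 7181 = n11148 := ndS (p := 3388) (l := 1) rfl N3388 D11148
theorem N7182 : nd 7182 = n11149 := ndS (p := 3388) (l := 5) rfl N3388 D11149
theorem N7183 : nd 7183 = n11150 := ndS (p := 3388) (l := 7) rfl N3388 D11150
theorem N7184 : nd 7184 = n11152 := ndS (p := 3389) (l := 3) rfl N3389 D11152
theorem N7185 : nd 7185 = n11153 := ndS (p := 3389) (l := 4) rfl N3389 D11153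
theorem N7186 : nd 7186 = n11154 := ndS (p := 3389) (l := 5) rfl N3389 D11154
theorem N7187 : nd 7187 = n11155 := ndS (p := 3389) (l := 6) rfl N3389 D11155
theorem N7188 : nd 7188 = n11157 := ndS (p := 3390) (l := 3) rfl N3390 D11157
theorem N7189 : nd 7189 = n11158 := ndS (p := 3390) (l := 5) rfl N3390 D11158
theorem N7190 : nd 7190 = n11159 := ndS (p := 3390) (l := 6) rfl N3390 D11159
theorem N7191 : nd 7191 = n11160 := ndS (p := 3391) (l := 0) rfl N3391 D11160
theorem N7192 : nd 7192 = n11161 := ndS (p := 3391) (l := 1) rfl N3391 D11161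
theorem N7193 : nd 7193 = n11162 := ndS (p := 3391) (l := 4) rfl N3391 D11162
theorem N7194 : nd 7194 = n11163 := ndS (p := 3391) (l := 7) rfl N3391 D11163
theorem N7195 : nd 7195 = n11164 := ndS (p := 3393) (l := 3) rfl N3393 D11164
theorem N7196 : nd 7196 = n11165 := ndS (p := 3393) (l := 6) rfl N3393 D11165
theorem N7197 : nd 7197 = n11166 := ndS (p := 3394) (l := 6) rfl N3394 D11166
theorem N7198 : nd 7198 = n11167 := ndS (p := 3395) (l := 3) rfl N3395 D11167
theorem N7199 : nd 7199 = n11168 := ndS (p := 3395) (l := 5) rfl N3395 D11168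
theorem N7200 : nd 7200 = n11169 := ndS (p := 3396) (l := 6) rfl N3396 D11169
theorem N7201 : nd 7201 = n11170 := ndS (p := 3397) (l := 3) rfl N3397 D11170
theorem N7202 : nd 7202 = n11171 := ndS (p := 3397) (l := 6) rfl N3397 D11171
theorem N7203 : nd 7203 = n11172 := ndS (p := 3400) (l := 4) rfl N3400 D11172
theorem N7204 : nd 7204 = n11173 := ndS (p := 3402) (l := 3) rfl N3402 D11173
theorem N7205 : nd 7205 = n11174 := ndS (p := 3404) (l := 6) rfl N3404 D11174
theorem N7206 : nd 7206 = n11175 := ndS (p := 3406) (l := 0) rfl N3406 D11175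
theorem N7207 : nd 7207 = n11176 := ndS (p := 3406) (l := 1) rfl N3406 D11176
theorem N7208 : nd 7208 = n11177 := ndS (p := 3406) (l := 2) rfl N3406 D11177
theorem N7209 : nd 7209 = n11178 := ndS (p := 3406) (l := 5) rfl N3406 D11178
theorem N7210 : nd 7210 = n11179 := ndS (p := 3406) (l := 7) rfl N3406 D11179
theorem N7211 : nd 7211 = n11180 := ndS (p := 3407) (l := 4) rfl N3407 D11180
theorem N7212 : nd 7212 = n11181 := ndS (p := 3407) (l := 6) rfl N3407 D11181
theorem N7213 : nd 7213 = n11182 := ndS (p := 3407) (l := 7) rfl N3407 D11182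
theorem N7214 : nd 7214 = n11184 := ndS (p := 3409) (l := 3) rfl N3409 D11184
theorem N7215 : nd 7215 = n11185 := ndS (p := 3409) (l := 4) rfl N3409 D11185
theorem N7216 : nd 7216 = n11186 := ndS (p := 3409) (l := 5) rfl N3409 D11186
theorem N7217 : nd 7217 = n11187 := ndS (p := 3409) (l := 6) rfl N3409 D11187
theorem N7218 : nd 7218 = n11189 := ndS (p := 3410) (l := 3) rfl N3410 D11189
theorem N7219 : nd 7219 = n11190 := ndS (p := 3410) (l := 4) rfl N3410 D11190
theorem N7220 : nd 7220 = n11191 := ndS (p := 3410) (l := 5) rfl N3410 D11191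
theorem N7221 : nd 7221 = n11192 := ndS (p := 3410) (l := 6) rfl N3410 D11192
theorem N7222 : nd 7222 = n11193 := ndS (p := 3411) (l := 5) rfl N3411 D11193
theorem N7223 : nd 7223 = n11194 := ndS (p := 3412) (l := 0) rfl N3412 D11194
theorem N7224 : nd 7224 = n11195 := ndS (p := 3412) (l := 1) rfl N3412 D11195
theorem N7225 : nd 7225 = n11196 := ndS (p := 3412) (l := 4) rfl N3412 D11196
theorem N7226 : nd 7226 = n11197 := ndS (p := 3412) (l := 6) rfl N3412 D11197
theorem N7227 : nd 7227 = n11198 := ndS (p := 3413) (l := 0) rfl N3413 D11198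
theorem N7228 : nd 7228 = n11199 := ndS (p := 3413) (l := 1) rfl N3413 D11199
theorem N7229 : nd 7229 = n11200 := ndS (p := 3413) (l := 7) rfl N3413 D11200
theorem N7230 : nd 7230 = n11201 := ndS (p := 3414) (l := 5) rfl N3414 D11201
theorem N7231 : nd 7231 = n11202 := ndS (p := 3415) (l := 0) rfl N3415 D11202
theorem N7232 : nd 7232 = n11203 := ndS (p := 3415) (l := 7) rfl N3415 D11203
theorem N7233 : nd 7233 = n11204 := ndS (p := 3417) (l := 4) rfl N3417 D11204
theorem N7234 : nd 7234 = n11205 := ndS (p := 3417) (l := 6) rfl N3417 D11205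
theorem N7235 : nd 7235 = n11206 := ndS (p := 3418) (l := 7) rfl N3418 D11206
theorem N7236 : nd 7236 = n11207 := ndS (p := 3419) (l := 5) rfl N3419 D11207
theorem N7237 : nd 7237 = n11208 := ndS (p := 3419) (l := 6) rfl N3419 D11208
theorem N7238 : nd 7238 = n11209 := ndS (p := 3420) (l := 3) rfl N3420 D11209
theorem N7239 : nd 7239 = n11210 := ndS (p := 3420) (l := 5) rfl N3420 D11210
theorem N7240 : nd 7240 = n11211 := ndS (p := 3420) (l := 7) rfl N3420 D11211
theorem N7241 : nd 7241 = n11212 := ndS (p := 3422) (l := 0) rfl N3422 D11212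
theorem N7242 : nd 7242 = n11213 := ndS (p := 3422) (l := 1) rfl N3422 D11213
theorem N7243 : nd 7243 = n11214 := ndS (p := 3422) (l := 2) rfl N3422 D11214
theorem N7244 : nd 7244 = n11215 := ndS (p := 3422) (l := 5) rfl N3422 D11215
theorem N7245 : nd 7245 = n11216 := ndS (p := 3423) (l := 6) rfl N3423 D11216
theorem N7246 : nd 7246 = n11217 := ndS (p := 3424) (l := 0) rfl N3424 D11217
theorem N7247 : nd 7247 = n11218 := ndS (p := 3424) (l := 1) rfl N3424 D11218
theorem N7248 : nd 7248 = n11219 := ndS (p := 3424) (l := 4) rfl N3424 D11219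
theorem N7249 : nd 7249 = n11220 := ndS (p := 3424) (l := 7) rfl N3424 D11220
theorem N7250 : nd 7250 = n11221 := ndS (p := 3426) (l := 4) rfl N3426 D11221
theorem N7251 : nd 7251 = n11222 := ndS (p := 3428) (l := 6) rfl N3428 D11222
theorem N7252 : nd 7252 = n11223 := ndS (p := 3429) (l := 3) rfl N3429 D11223
theorem N7253 : nd 7253 = n11224 := ndS (p := 3429) (l := 5) rfl N3429 D11224
theorem N7254 : nd 7254 = n11225 := ndS (p := 3429) (l := 7) rfl N3429 D11225
theorem N7255 : nd 7255 = n11226 := ndS (p := 3430) (l := 6) rfl N3430 D11226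
theorem N7256 : nd 7256 = n11227 := ndS (p := 3431) (l := 3) rfl N3431 D11227
theorem N7257 : nd 7257 = n11228 := ndS (p := 3431) (l := 6) rfl N3431 D11228
theorem N7258 : nd 7258 = n11229 := ndS (p := 3432) (l := 0) rfl N3432 D11229
theorem N7259 : nd 7259 = n11230 := ndS (p := 3432) (l := 7) rfl N3432 D11230
theorem N7260 : nd 7260 = n11231 := ndS (p := 3433) (l := 0) rfl N3433 D11231
theorem N7261 : nd 7261 = n11232 := ndS (p := 3433) (l := 7) rfl N3433 D11232
theorem N7262 : nd 7262 = n11233 := ndS (p := 3434) (l := 0) rfl N3434 D11233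
theorem N7263 : nd 7263 = n11234 := ndS (p := 3434) (l := 1) rfl N3434 D11234
theorem N7264 : nd 7264 = n11235 := ndS (p := 3434) (l := 2) rfl N3434 D11235
theorem N7265 : nd 7265 = n11236 := ndS (p := 3434) (l := 5) rfl N3434 D11236
theorem N7266 : nd 7266 = n11237 := ndS (p := 3434) (l := 7) rfl N3434 D11237
theorem N7267 : nd 7267 = n11238 := ndS (p := 3435) (l := 4) rfl N3435 D11238
theorem N7268 : nd 7268 = n11239 := ndS (p := 3435) (l := 6) rfl N3435 D11239
theorem N7269 : nd 7269 = n11240 := ndS (p := 3436) (l := 6) rfl N3436 D11240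
theorem N7270 : nd 7270 = n11241 := ndS (p := 3437) (l := 1) rfl N3437 D11241
theorem N7271 : nd 7271 = n11242 := ndS (p := 3438) (l := 5) rfl N3438 D11242
theorem N7272 : nd 7272 = n11243 := ndS (p := 3439) (l := 0) rfl N3439 D11243
theorem N7273 : nd 7273 = n11245 := ndS (p := 3439) (l := 5) rfl N3439 D11245
theorem N7274 : nd 7274 = n11246 := ndS (p := 3439) (l := 7) rfl N3439 D11246
theorem N7275 : nd 7275 = n11247 := ndS (p := 3440) (l := 0) rfl N3440 D11247
theorem N7276 : nd 7276 = n11248 := ndS (p := 3440) (l := 1) rfl N3440 D11248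
theorem N7277 : nd 7277 = n11249 := ndS (p := 3440) (l := 4) rfl N3440 D11249
theorem N7278 : nd 7278 = n11250 := ndS (p := 3440) (l := 7) rfl N3440 D11250
theorem N7279 : nd 7279 = n11251 := ndS (p := 3442) (l := 4) rfl N3442 D11251
theorem N7280 : nd 7280 = n11253 := ndS (p := 3443) (l := 1) rfl N3443 D11253
theorem N7281 : nd 7281 = n11254 := ndS (p := 3443) (l := 7) rfl N3443 D11254
theorem N7282 : nd 7282 = n11255 := ndS (p := 3445) (l := 7) rfl N3445 D11255
theorem N7283 : nd 7283 = n11257 := ndS (p := 3446) (l := 5) rfl N3446 D11257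
theorem N7284 : nd 7284 = n11258 := ndS (p := 3446) (l := 6) rfl N3446 D11258
theorem N7285 : nd 7285 = n11259 := ndS (p := 3447) (l := 0) rfl N3447 D11259
theorem N7286 : nd 7286 = n11260 := ndS (p := 3447) (l := 1) rfl N3447 D11260
theorem N7287 : nd 7287 = n11261 := ndS (p := 3447) (l := 4) rfl N3447 D11261
theorem N7288 : nd 7288 = n11262 := ndS (p := 3447) (l := 6) rfl N3447 D11262
theorem N7289 : nd 7289 = n11263 := ndS (p := 3449) (l := 5) rfl N3449 D11263
theorem N7290 : nd 7290 = n11264 := ndS (p := 3449) (l := 6) rfl N3449 D11264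
theorem N7291 : nd 7291 = n11265 := ndS (p := 3450) (l := 4) rfl N3450 D11265
theorem N7292 : nd 7292 = n11266 := ndS (p := 3451) (l := 5) rfl N3451 D11266
theorem N7293 : nd 7293 = n11267 := ndS (p := 3452) (l := 4) rfl N3452 D11267
theorem N7294 : nd 7294 = n11268 := ndS (p := 3453) (l := 4) rfl N3453 D11268
theorem N7295 : nd 7295 = n11269 := ndS (p := 3453) (l := 6) rfl N3453 D11269
theorem N7296 : nd 7296 = n11270 := ndS (p := 3454) (l := 0) rfl N3454 D11270
theorem N7297 : nd 7297 = n11271 := ndS (p := 3454) (l := 1) rfl N3454 D11271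
theorem N7298 : nd 7298 = n11272 := ndS (p := 3454) (l := 3) rfl N3454 D11272
theorem N7299 : nd 7299 = n11273 := ndS (p := 3454) (l := 5) rfl N3454 D11273
theorem N7300 : nd 7300 = n11274 := ndS (p := 3454) (l := 7) rfl N3454 D11274
theorem N7301 : nd 7301 = n11275 := ndS (p := 3456) (l := 3) rfl N3456 D11275
theorem N7302 : nd 7302 = n11276 := ndS (p := 3456) (l := 5) rfl N3456 D11276
theorem N7303 : nd 7303 = n11277 := ndS (p := 3457) (l := 5) rfl N3457 D11277
theorem N7304 : nd 7304 = n11278 := ndS (p := 3457) (l := 6) rfl N3457 D11278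
theorem N7305 : nd 7305 = n11279 := ndS (p := 3458) (l := 0) rfl N3458 D11279
theorem N7306 : nd 7306 = n11280 := ndS (p := 3458) (l := 1) rfl N3458 D11280
theorem N7307 : nd 7307 = n11281 := ndS (p := 3458) (l := 4) rfl N3458 D11281
theorem N7308 : nd 7308 = n11282 := ndS (p := 3458) (l := 7) rfl N3458 D11282
theorem N7309 : nd 7309 = n11283 := ndS (p := 3460) (l := 5) rfl N3460 D11283
theorem N7310 : nd 7310 = n11284 := ndS (p := 3460) (l := 6) rfl N3460 D11284
theorem N7311 : nd 7311 = n11285 := ndS (p := 3461) (l := 0) rfl N3461 D11285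
theorem N7312 : nd 7312 = n11286 := ndS (p := 3461) (l := 1) rfl N3461 D11286
theorem N7313 : nd 7313 = n11287 := ndS (p := 3461) (l := 4) rfl N3461 D11287
theorem N7314 : nd 7314 = n11288 := ndS (p := 3461) (l := 6) rfl N3461 D11288
theorem N7315 : nd 7315 = n11290 := ndS (p := 3463) (l := 5) rfl N3463 D11290
theorem N7316 : nd 7316 = n11291 := ndS (p := 3463) (l := 6) rfl N3463 D11291
theorem N7317 : nd 7317 = n11292 := ndS (p := 3464) (l := 4) rfl N3464 D11292
theorem N7318 : nd 7318 = n11293 := ndS (p := 3465) (l := 5) rfl N3465 D11293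
theorem N7319 : nd 7319 = n11294 := ndS (p := 3466) (l := 4) rfl N3466 D11294
theorem N7320 : nd 7320 = n11295 := ndS (p := 3467) (l := 4) rfl N3467 D11295
theorem N7321 : nd 7321 = n11296 := ndS (p := 3467) (l := 6) rfl N3467 D11296
theorem N7322 : nd 7322 = n11297 := ndS (p := 3468) (l := 0) rfl N3468 D11297
theorem N7323 : nd 7323 = n11298 := ndS (p := 3468) (l := 1) rfl N3468 D11298
theorem N7324 : nd 7324 = n11299 := ndS (p := 3468) (l := 3) rfl N3468 D11299
theorem N7325 : nd 7325 = n11300 := ndS (p := 3468) (l := 5) rfl N3468 D11300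
theorem N7326 : nd 7326 = n11301 := ndS (p := 3468) (l := 7) rfl N3468 D11301
theorem N7327 : nd 7327 = n11302 := ndS (p := 3469) (l := 6) rfl N3469 D11302
theorem N7328 : nd 7328 = n11303 := ndS (p := 3470) (l := 0) rfl N3470 D11303
theorem N7329 : nd 7329 = n11304 := ndS (p := 3470) (l := 1) rfl N3470 D11304
theorem N7330 : nd 7330 = n11305 := ndS (p := 3470) (l := 4) rfl N3470 D11305
theorem N7331 : nd 7331 = n11306 := ndS (p := 3470) (l := 7) rfl N3470 D11306
theorem N7332 : nd 7332 = n11308 := ndS (p := 3472) (l := 1) rfl N3472 D11308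
theorem N7333 : nd 7333 = n11309 := ndS (p := 3472) (l := 5) rfl N3472 D11309
theorem N7334 : nd 7334 = n11310 := ndS (p := 3472) (l := 7) rfl N3472 D11310
theorem N7335 : nd 7335 = n11311 := ndS (p := 3473) (l := 0) rfl N3473 D11311
theorem N7336 : nd 7336 = n11312 := ndS (p := 3473) (l := 1) rfl N3473 D11312
theorem N7337 : nd 7337 = n11313 := ndS (p := 3473) (l := 4) rfl N3473 D11313
theorem N7338 : nd 7338 = n11314 := ndS (p := 3473) (l := 7) rfl N3473 D11314
theorem N7339 : nd 7339 = n11315 := ndS (p := 3475) (l := 4) rfl N3475 D11315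
theorem N7340 : nd 7340 = n11316 := ndS (p := 3475) (l := 5) rfl N3475 D11316
theorem N7341 : nd 7341 = n11317 := ndS (p := 3475) (l := 6) rfl N3475 D11317
theorem N7342 : nd 7342 = n11318 := ndS (p := 3476) (l := 0) rfl N3476 D11318
theorem N7343 : nd 7343 = n11319 := ndS (p := 3476) (l := 4) rfl N3476 D11319
theorem N7344 : nd 7344 = n11320 := ndS (p := 3476) (l := 7) rfl N3476 D11320
theorem N7345 : nd 7345 = n11324 := ndS (p := 3478) (l := 5) rfl N3478 D11324
theorem N7346 : nd 7346 = n11325 := ndS (p := 3478) (l := 6) rfl N3478 D11325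
theorem N7347 : nd 7347 = n11327 := ndS (p := 3479) (l := 3) rfl N3479 D11327
theorem N7348 : nd 7348 = n11329 := ndS (p := 3479) (l := 5) rfl N3479 D11329
theorem N7349 : nd 7349 = n11330 := ndS (p := 3479) (l := 6) rfl N3479 D11330
theorem N7350 : nd 7350 = n11331 := ndS (p := 3480) (l := 0) rfl N3480 D11331
theorem N7351 : nd 7351 = n11332 := ndS (p := 3480) (l := 1) rfl N3480 D11332
theorem N7352 : nd 7352 = n11333 := ndS (p := 3480) (l := 4) rfl N3480 D11333
theorem N7353 : nd 7353 = n11334 := ndS (p := 3480) (l := 7) rfl N3480 D11334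
theorem N7354 : nd 7354 = n11335 := ndS (p := 3482) (l := 5) rfl N3482 D11335
theorem N7355 : nd 7355 = n11336 := ndS (p := 3482) (l := 6) rfl N3482 D11336
theorem N7356 : nd 7356 = n11337 := ndS (p := 3483) (l := 0) rfl N3483 D11337
theorem N7357 : nd 7357 = n11338 := ndS (p := 3483) (l := 1) rfl N3483 D11338
theorem N7358 : nd 7358 = n11339 := ndS (p := 3483) (l := 4) rfl N3483 D11339
theorem N7359 : nd 7359 = n11340 := ndS (p := 3483) (l := 6) rfl N3483 D11340
theorem N7360 : nd 7360 = n11341 := ndS (p := 3484) (l := 1) rfl N3484 D11341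
theorem N7361 : nd 7361 = n11342 := ndS (p := 3484) (l := 5) rfl N3484 D11342
theorem N7362 : nd 7362 = n11343 := ndS (p := 3484) (l := 7) rfl N3484 D11343
theorem N7363 : nd 7363 = n11345 := ndS (p := 3485) (l := 1) rfl N3485 D11345
theorem N7364 : nd 7364 = n11346 := ndS (p := 3485) (l := 2) rfl N3485 D11346
theorem N7365 : nd 7365 = n11347 := ndS (p := 3485) (l := 5) rfl N3485 D11347
theorem N7366 : nd 7366 = n11348 := ndS (p := 3485) (l := 6) rfl N3485 D11348
theorem N7367 : nd 7367 = n11349 := ndS (p := 3486) (l := 4) rfl N3486 D11349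
theorem N7368 : nd 7368 = n11350 := ndS (p := 3486) (l := 6) rfl N3486 D11350
theorem N7369 : nd 7369 = n11351 := ndS (p := 3487) (l := 0) rfl N3487 D11351
theorem N7370 : nd 7370 = n11352 := ndS (p := 3487) (l := 5) rfl N3487 D11352
theorem N7371 : nd 7371 = n11353 := ndS (p := 3487) (l := 7) rfl N3487 D11353
theorem N7372 : nd 7372 = n11354 := ndS (p := 3488) (l := 3) rfl N3488 D11354
theorem N7373 : nd 7373 = n11355 := ndS (p := 3488) (l := 4) rfl N3488 D11355
theorem N7374 : nd 7374 = n11356 := ndS (p := 3488) (l := 6) rfl N3488 D11356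
theorem N7375 : nd 7375 = n11357 := ndS (p := 3489) (l := 3) rfl N3489 D11357
theorem N7376 : nd 7376 = n11358 := ndS (p := 3489) (l := 4) rfl N3489 D11358
theorem N7377 : nd 7377 = n11359 := ndS (p := 3489) (l := 6) rfl N3489 D11359
theorem N7378 : nd 7378 = n11360 := ndS (p := 3490) (l := 0) rfl N3490 D11360
theorem N7379 : nd 7379 = n11361 := ndS (p := 3490) (l := 1) rfl N3490 D11361
theorem N7380 : nd 7380 = n11362 := ndS (p := 3490) (l := 3) rfl N3490 D11362
theorem N7381 : nd 7381 = n11363 := ndS (p := 3490) (l := 5) rfl N3490 D11363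
theorem N7382 : nd 7382 = n11364 := ndS (p := 3490) (l := 7) rfl N3490 D11364
theorem N7383 : nd 7383 = n11365 := ndS (p := 3491) (l := 6) rfl N3491 D11365
theorem N7384 : nd 7384 = n11366 := ndS (p := 3492) (l := 0) rfl N3492 D11366
theorem N7385 : nd 7385 = n11367 := ndS (p := 3492) (l := 1) rfl N3492 D11367
theorem N7386 : nd 7386 = n11368 := ndS (p := 3492) (l := 4) rfl N3492 D11368
theorem N7387 : nd 7387 = n11369 := ndS (p := 3492) (l := 6) rfl N3492 D11369
theorem N7388 : nd 7388 = n11370 := ndS (p := 3493) (l := 1) rfl N3493 D11370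
theorem N7389 : nd 7389 = n11371 := ndS (p := 3493) (l := 5) rfl N3493 D11371
theorem N7390 : nd 7390 = n11372 := ndS (p := 3493) (l := 7) rfl N3493 D11372
theorem N7391 : nd 7391 = n11373 := ndS (p := 3494) (l := 4) rfl N3494 D11373
theorem N7392 : nd 7392 = n11374 := ndS (p := 3495) (l := 0) rfl N3495 D11374
theorem N7393 : nd 7393 = n11375 := ndS (p := 3495) (l := 6) rfl N3495 D11375
theorem N7394 : nd 7394 = n11376 := ndS (p := 3497) (l := 5) rfl N3497 D11376
theorem N7395 : nd 7395 = n11377 := ndS (p := 3498) (l := 4) rfl N3498 D11377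
theorem N7396 : nd 7396 = n11378 := ndS (p := 3500) (l := 5) rfl N3500 D11378
theorem N7397 : nd 7397 = n11379 := ndS (p := 3500) (l := 6) rfl N3500 D11379
theorem N7398 : nd 7398 = n11380 := ndS (p := 3501) (l := 4) rfl N3501 D11380
theorem N7399 : nd 7399 = n11381 := ndS (p := 3501) (l := 6) rfl N3501 D11381
theorem N7400 : nd 7400 = n11382 := ndS (p := 3502) (l := 0) rfl N3502 D11382
theorem N7401 : nd 7401 = n11383 := ndS (p := 3502) (l := 5) rfl N3502 D11383
theorem N7402 : nd 7402 = n11384 := ndS (p := 3502) (l := 7) rfl N3502 D11384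
theorem N7403 : nd 7403 = n11385 := ndS (p := 3503) (l := 3) rfl N3503 D11385
theorem N7404 : nd 7404 = n11386 := ndS (p := 3503) (l := 5) rfl N3503 D11386
theorem N7405 : nd 7405 = n11387 := ndS (p := 3505) (l := 4) rfl N3505 D11387
theorem N7406 : nd 7406 = n11388 := ndS (p := 3507) (l := 1) rfl N3507 D11388
theorem N7407 : nd 7407 = n11389 := ndS (p := 3507) (l := 4) rfl N3507 D11389
theorem N7408 : nd 7408 = n11390 := ndS (p := 3507) (l := 6) rfl N3507 D11390
theorem N7409 : nd 7409 = n11391 := ndS (p := 3509) (l := 4) rfl N3509 D11391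
theorem N7410 : nd 7410 = n11392 := ndS (p := 3512) (l := 6) rfl N3512 D11392
theorem N7411 : nd 7411 = n11393 := ndS (p := 3513) (l := 3) rfl N3513 D11393
theorem N7412 : nd 7412 = n11394 := ndS (p := 3513) (l := 5) rfl N3513 D11394
theorem N7413 : nd 7413 = n11395 := ndS (p := 3513) (l := 7) rfl N3513 D11395
theorem N7414 : nd 7414 = n11396 := ndS (p := 3515) (l := 6) rfl N3515 D11396
theorem N7415 : nd 7415 = n11397 := ndS (p := 3516) (l := 6) rfl N3516 D11397
theorem N7416 : nd 7416 = n11400 := ndS (p := 3517) (l := 5) rfl N3517 D11400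
theorem N7417 : nd 7417 = n11404 := ndS (p := 3518) (l := 5) rfl N3518 D11404
theorem N7418 : nd 7418 = n11406 := ndS (p := 3519) (l := 0) rfl N3519 D11406
theorem N7419 : nd 7419 = n11407 := ndS (p := 3519) (l := 1) rfl N3519 D11407
theorem N7420 : nd 7420 = n11408 := ndS (p := 3519) (l := 5) rfl N3519 D11408
theorem N7421 : nd 7421 = n11409 := ndS (p := 3519) (l := 7) rfl N3519 D11409
theorem N7422 : nd 7422 = n11411 := ndS (p := 3520) (l := 3) rfl N3520 D11411
theorem N7423 : nd 7423 = n11412 := ndS (p := 3520) (l := 4) rfl N3520 D11412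
theorem N7424 : nd 7424 = n11413 := ndS (p := 3520) (l := 5) rfl N3520 D11413
theorem N7425 : nd 7425 = n11414 := ndS (p := 3520) (l := 6) rfl N3520 D11414
theorem N7426 : nd 7426 = n11416 := ndS (p := 3521) (l := 3) rfl N3521 D11416
theorem N7427 : nd 7427 = n11417 := ndS (p := 3521) (l := 5) rfl N3521 D11417
theorem N7428 : nd 7428 = n11418 := ndS (p := 3521) (l := 6) rfl N3521 D11418
theorem N7429 : nd 7429 = n11419 := ndS (p := 3522) (l := 0) rfl N3522 D11419
theorem N7430 : nd 7430 = n11420 := ndS (p := 3522) (l := 1) rfl N3522 D11420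
theorem N7431 : nd 7431 = n11421 := ndS (p := 3522) (l := 4) rfl N3522 D11421
theorem N7432 : nd 7432 = n11422 := ndS (p := 3522) (l := 7) rfl N3522 D11422
theorem N7433 : nd 7433 = n11423 := ndS (p := 3524) (l := 3) rfl N3524 D11423
theorem N7434 : nd 7434 = n11424 := ndS (p := 3524) (l := 6) rfl N3524 D11424
theorem N7435 : nd 7435 = n11425 := ndS (p := 3525) (l := 6) rfl N3525 D11425
theorem N7436 : nd 7436 = n11426 := ndS (p := 3526) (l := 3) rfl N3526 D11426
theorem N7437 : nd 7437 = n11427 := ndS (p := 3526) (l := 5) rfl N3526 D11427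
theorem N7438 : nd 7438 = n11428 := ndS (p := 3526) (l := 7) rfl N3526 D11428
theorem N7439 : nd 7439 = n11429 := ndS (p := 3527) (l := 6) rfl N3527 D11429
theorem N7440 : nd 7440 = n11430 := ndS (p := 3528) (l := 0) rfl N3528 D11430
theorem N7441 : nd 7441 = n11431 := ndS (p := 3528) (l := 4) rfl N3528 D11431
theorem N7442 : nd 7442 = n11432 := ndS (p := 3528) (l := 6) rfl N3528 D11432
theorem N7443 : nd 7443 = n11433 := ndS (p := 3532) (l := 3) rfl N3532 D11433
theorem N7444 : nd 7444 = n11434 := ndS (p := 3532) (l := 5) rfl N3532 D11434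
theorem N7445 : nd 7445 = n11435 := ndS (p := 3532) (l := 6) rfl N3532 D11435
theorem N7446 : nd 7446 = n11436 := ndS (p := 3534) (l := 3) rfl N3534 D11436
theorem N7447 : nd 7447 = n11437 := ndS (p := 3534) (l := 5) rfl N3534 D11437
theorem N7448 : nd 7448 = n11438 := ndS (p := 3537) (l := 3) rfl N3537 D11438
theorem N7449 : nd 7449 = n11439 := ndS (p := 3537) (l := 5) rfl N3537 D11439
theorem N7450 : nd 7450 = n11440 := ndS (p := 3538) (l := 3) rfl N3538 D11440
theorem N7451 : nd 7451 = n11441 := ndS (p := 3538) (l := 5) rfl N3538 D11441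
theorem N7452 : nd 7452 = n11442 := ndS (p := 3538) (l := 6) rfl N3538 D11442
theorem N7453 : nd 7453 = n11443 := ndS (p := 3540) (l := 0) rfl N3540 D11443
theorem N7454 : nd 7454 = n11444 := ndS (p := 3540) (l := 1) rfl N3540 D11444
theorem N7455 : nd 7455 = n11445 := ndS (p := 3540) (l := 2) rfl N3540 D11445
theorem N7456 : nd 7456 = n11446 := ndS (p := 3540) (l := 5) rfl N3540 D11446
theorem N7457 : nd 7457 = n11447 := ndS (p := 3540) (l := 7) rfl N3540 D11447
theorem N7458 : nd 7458 = n11448 := ndS (p := 3541) (l := 4) rfl N3541 D11448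
theorem N7459 : nd 7459 = n11449 := ndS (p := 3541) (l := 6) rfl N3541 D11449
theorem N7460 : nd 7460 = n11450 := ndS (p := 3541) (l := 7) rfl N3541 D11450
theorem N7461 : nd 7461 = n11451 := ndS (p := 3543) (l := 6) rfl N3543 D11451
theorem N7462 : nd 7462 = n11452 := ndS (p := 3544) (l := 6) rfl N3544 D11452
theorem N7463 : nd 7463 = n11455 := ndS (p := 3545) (l := 5) rfl N3545 D11455
theorem N7464 : nd 7464 = n11459 := ndS (p := 3546) (l := 5) rfl N3546 D11459
theorem N7465 : nd 7465 = n11461 := ndS (p := 3547) (l := 0) rfl N3547 D11461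
theorem N7466 : nd 7466 = n11462 := ndS (p := 3547) (l := 1) rfl N3547 D11462
theorem N7467 : nd 7467 = n11463 := ndS (p := 3547) (l := 5) rfl N3547 D11463
theorem N7468 : nd 7468 = n11464 := ndS (p := 3547) (l := 7) rfl N3547 D11464
theorem N7469 : nd 7469 = n11466 := ndS (p := 3548) (l := 3) rfl N3548 D11466
theorem N7470 : nd 7470 = n11467 := ndS (p := 3548) (l := 4) rfl N3548 D11467
theorem N7471 : nd 7471 = n11468 := ndS (p := 3548) (l := 5) rfl N3548 D11468
theorem N7472 : nd 7472 = n11469 := ndS (p := 3548) (l := 6) rfl N3548 D11469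
theorem N7473 : nd 7473 = n11471 := ndS (p := 3549) (l := 3) rfl N3549 D11471
theorem N7474 : nd 7474 = n11472 := ndS (p := 3549) (l := 4) rfl N3549 D11472
theorem N7475 : nd 7475 = n11473 := ndS (p := 3549) (l := 5) rfl N3549 D11473
theorem N7476 : nd 7476 = n11474 := ndS (p := 3549) (l := 6) rfl N3549 D11474
theorem N7477 : nd 7477 = n11475 := ndS (p := 3550) (l := 0) rfl N3550 D11475
theorem N7478 : nd 7478 = n11476 := ndS (p := 3550) (l := 1) rfl N3550 D11476
theorem N7479 : nd 7479 = n11477 := ndS (p := 3550) (l := 4) rfl N3550 D11477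
theorem N7480 : nd 7480 = n11478 := ndS (p := 3550) (l := 7) rfl N3550 D11478
theorem N7481 : nd 7481 = n11479 := ndS (p := 3552) (l := 5) rfl N3552 D11479
theorem N7482 : nd 7482 = n11480 := ndS (p := 3553) (l := 1) rfl N3553 D11480
theorem N7483 : nd 7483 = n11481 := ndS (p := 3553) (l := 4) rfl N3553 D11481
theorem N7484 : nd 7484 = n11482 := ndS (p := 3553) (l := 6) rfl N3553 D11482
theorem N7485 : nd 7485 = n11486 := ndS (p := 3554) (l := 5) rfl N3554 D11486
theorem N7486 : nd 7486 = n11487 := ndS (p := 3554) (l := 6) rfl N3554 D11487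
theorem N7487 : nd 7487 = n11488 := ndS (p := 3555) (l := 4) rfl N3555 D11488
theorem N7488 : nd 7488 = n11489 := ndS (p := 3555) (l := 6) rfl N3555 D11489
theorem N7489 : nd 7489 = n11490 := ndS (p := 3557) (l := 3) rfl N3557 D11490
theorem N7490 : nd 7490 = n11491 := ndS (p := 3557) (l := 6) rfl N3557 D11491
theorem N7491 : nd 7491 = n11492 := ndS (p := 3558) (l := 3) rfl N3558 D11492
theorem N7492 : nd 7492 = n11493 := ndS (p := 3558) (l := 5) rfl N3558 D11493
theorem N7493 : nd 7493 = n11494 := ndS (p := 3558) (l := 7) rfl N3558 D11494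
theorem N7494 : nd 7494 = n11495 := ndS (p := 3559) (l := 6) rfl N3559 D11495
theorem N7495 : nd 7495 = n11497 := ndS (p := 3562) (l := 3) rfl N3562 D11497
theorem N7496 : nd 7496 = n11498 := ndS (p := 3562) (l := 6) rfl N3562 D11498
theorem N7497 : nd 7497 = n11499 := ndS (p := 3564) (l := 3) rfl N3564 D11499
theorem N7498 : nd 7498 = n11500 := ndS (p := 3567) (l := 0) rfl N3567 D11500
theorem N7499 : nd 7499 = n11501 := ndS (p := 3567) (l := 1) rfl N3567 D11501
theorem N7500 : nd 7500 = n11502 := ndS (p := 3567) (l := 2) rfl N3567 D11502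
theorem N7501 : nd 7501 = n11503 := ndS (p := 3567) (l := 5) rfl N3567 D11503
theorem N7502 : nd 7502 = n11504 := ndS (p := 3567) (l := 7) rfl N3567 D11504
theorem N7503 : nd 7503 = n11506 := ndS (p := 3568) (l := 1) rfl N3568 D11506
theorem N7504 : nd 7504 = n11507 := ndS (p := 3568) (l := 4) rfl N3568 D11507
theorem N7505 : nd 7505 = n11508 := ndS (p := 3568) (l := 6) rfl N3568 D11508
theorem N7506 : nd 7506 = n11509 := ndS (p := 3568) (l := 7) rfl N3568 D11509
theorem N7507 : nd 7507 = n11510 := ndS (p := 3571) (l := 6) rfl N3571 D11510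
theorem N7508 : nd 7508 = n11511 := ndS (p := 3572) (l := 0) rfl N3572 D11511
theorem N7509 : nd 7509 = n11512 := ndS (p := 3572) (l := 1) rfl N3572 D11512
theorem N7510 : nd 7510 = n11513 := ndS (p := 3572) (l := 5) rfl N3572 D11513
theorem N7511 : nd 7511 = n11514 := ndS (p := 3572) (l := 7) rfl N3572 D11514
theorem N7512 : nd 7512 = n11518 := ndS (p := 3573) (l := 5) rfl N3573 D11518
theorem N7513 : nd 7513 = n11519 := ndS (p := 3573) (l := 6) rfl N3573 D11519
theorem N7514 : nd 7514 = n11525 := ndS (p := 3574) (l := 0) rfl N3574 D11525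
theorem N7515 : nd 7515 = n11527 := ndS (p := 3574) (l := 4) rfl N3574 D11527
theorem N7516 : nd 7516 = n11528 := ndS (p := 3574) (l := 7) rfl N3574 D11528
theorem N7517 : nd 7517 = n11530 := ndS (p := 3576) (l := 1) rfl N3576 D11530
theorem N7518 : nd 7518 = n11531 := ndS (p := 3576) (l := 5) rfl N3576 D11531
theorem N7519 : nd 7519 = n11532 := ndS (p := 3576) (l := 7) rfl N3576 D11532
theorem N7520 : nd 7520 = n11534 := ndS (p := 3577) (l := 1) rfl N3577 D11534
theorem N7521 : nd 7521 = n11535 := ndS (p := 3577) (l := 5) rfl N3577 D11535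
theorem N7522 : nd 7522 = n11536 := ndS (p := 3577) (l := 7) rfl N3577 D11536
theorem N7523 : nd 7523 = n11545 := ndS (p := 3578) (l := 5) rfl N3578 D11545
theorem N7524 : nd 7524 = n11546 := ndS (p := 3578) (l := 6) rfl N3578 D11546
theorem N7525 : nd 7525 = n11548 := ndS (p := 3579) (l := 1) rfl N3579 D11548
theorem N7526 : nd 7526 = n11549 := ndS (p := 3579) (l := 4) rfl N3579 D11549
theorem N7527 : nd 7527 = n11550 := ndS (p := 3579) (l := 7) rfl N3579 D11550
theorem N7528 : nd 7528 = n11552 := ndS (p := 3581) (l := 3) rfl N3581 D11552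
theorem N7529 : nd 7529 = n11553 := ndS (p := 3581) (l := 4) rfl N3581 D11553
theorem N7530 : nd 7530 = n11554 := ndS (p := 3581) (l := 5) rfl N3581 D11554
theorem N7531 : nd 7531 = n11555 := ndS (p := 3581) (l := 6) rfl N3581 D11555
theorem N7532 : nd 7532 = n11557 := ndS (p := 3582) (l := 5) rfl N3582 D11557
theorem N7533 : nd 7533 = n11558 := ndS (p := 3582) (l := 6) rfl N3582 D11558
theorem N7534 : nd 7534 = n11559 := ndS (p := 3583) (l := 0) rfl N3583 D11559
theorem N7535 : nd 7535 = n11560 := ndS (p := 3583) (l := 1) rfl N3583 D11560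
theorem N7536 : nd 7536 = n11561 := ndS (p := 3583) (l := 4) rfl N3583 D11561
theorem N7537 : nd 7537 = n11562 := ndS (p := 3583) (l := 7) rfl N3583 D11562
theorem N7538 : nd 7538 = n11572 := ndS (p := 3585) (l := 5) rfl N3585 D11572
theorem N7539 : nd 7539 = n11573 := ndS (p := 3585) (l := 6) rfl N3585 D11573
theorem N7540 : nd 7540 = n11575 := ndS (p := 3586) (l := 0) rfl N3586 D11575
theorem N7541 : nd 7541 = n11577 := ndS (p := 3586) (l := 5) rfl N3586 D11577
theorem N7542 : nd 7542 = n11578 := ndS (p := 3586) (l := 6) rfl N3586 D11578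
theorem N7543 : nd 7543 = n11580 := ndS (p := 3587) (l := 0) rfl N3587 D11580
theorem N7544 : nd 7544 = n11581 := ndS (p := 3587) (l := 1) rfl N3587 D11581
theorem N7545 : nd 7545 = n11582 := ndS (p := 3587) (l := 4) rfl N3587 D11582
theorem N7546 : nd 7546 = n11583 := ndS (p := 3587) (l := 6) rfl N3587 D11583
theorem N7547 : nd 7547 = n11586 := ndS (p := 3588) (l := 1) rfl N3588 D11586
theorem N7548 : nd 7548 = n11587 := ndS (p := 3588) (l := 5) rfl N3588 D11587
theorem N7549 : nd 7549 = n11588 := ndS (p := 3588) (l := 7) rfl N3588 D11588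
theorem N7550 : nd 7550 = n11591 := ndS (p := 3589) (l := 1) rfl N3589 D11591
theorem N7551 : nd 7551 = n11592 := ndS (p := 3589) (l := 2) rfl N3589 D11592
theorem N7552 : nd 7552 = n11593 := ndS (p := 3589) (l := 4) rfl N3589 D11593
theorem N7553 : nd 7553 = n11594 := ndS (p := 3589) (l := 5) rfl N3589 D11594
theorem N7554 : nd 7554 = n11595 := ndS (p := 3589) (l := 6) rfl N3589 D11595
theorem N7555 : nd 7555 = n11596 := ndS (p := 3590) (l := 3) rfl N3590 D11596
theorem N7556 : nd 7556 = n11597 := ndS (p := 3590) (l := 5) rfl N3590 D11597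
theorem N7557 : nd 7557 = n11598 := ndS (p := 3590) (l := 6) rfl N3590 D11598
theorem N7558 : nd 7558 = n11599 := ndS (p := 3591) (l := 4) rfl N3591 D11599
theorem N7559 : nd 7559 = n11600 := ndS (p := 3591) (l := 6) rfl N3591 D11600
theorem N7560 : nd 7560 = n11603 := ndS (p := 3592) (l := 5) rfl N3592 D11603
theorem N7561 : nd 7561 = n11604 := ndS (p := 3592) (l := 7) rfl N3592 D11604
theorem N7562 : nd 7562 = n11606 := ndS (p := 3593) (l := 3) rfl N3593 D11606
theorem N7563 : nd 7563 = n11607 := ndS (p := 3593) (l := 4) rfl N3593 D11607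
theorem N7564 : nd 7564 = n11608 := ndS (p := 3593) (l := 5) rfl N3593 D11608
theorem N7565 : nd 7565 = n11609 := ndS (p := 3593) (l := 6) rfl N3593 D11609
theorem N7566 : nd 7566 = n11611 := ndS (p := 3594) (l := 3) rfl N3594 D11611
theorem N7567 : nd 7567 = n11612 := ndS (p := 3594) (l := 4) rfl N3594 D11612
theorem N7568 : nd 7568 = n11613 := ndS (p := 3594) (l := 5) rfl N3594 D11613
theorem N7569 : nd 7569 = n11614 := ndS (p := 3594) (l := 6) rfl N3594 D11614
theorem N7570 : nd 7570 = n11615 := ndS (p := 3595) (l := 0) rfl N3595 D11615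
theorem N7571 : nd 7571 = n11616 := ndS (p := 3595) (l := 1) rfl N3595 D11616
theorem N7572 : nd 7572 = n11617 := ndS (p := 3595) (l := 3) rfl N3595 D11617
theorem N7573 : nd 7573 = n11618 := ndS (p := 3595) (l := 5) rfl N3595 D11618
theorem N7574 : nd 7574 = n11619 := ndS (p := 3595) (l := 7) rfl N3595 D11619
theorem N7575 : nd 7575 = n11620 := ndS (p := 3596) (l := 6) rfl N3596 D11620
theorem N7576 : nd 7576 = n11621 := ndS (p := 3597) (l := 5) rfl N3597 D11621
theorem N7577 : nd 7577 = n11622 := ndS (p := 3598) (l := 5) rfl N3598 D11622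
theorem N7578 : nd 7578 = n11623 := ndS (p := 3598) (l := 6) rfl N3598 D11623
theorem N7579 : nd 7579 = n11624 := ndS (p := 3599) (l := 0) rfl N3599 D11624
theorem N7580 : nd 7580 = n11626 := ndS (p := 3599) (l := 5) rfl N3599 D11626
theorem N7581 : nd 7581 = n11627 := ndS (p := 3599) (l := 6) rfl N3599 D11627
theorem N7582 : nd 7582 = n11628 := ndS (p := 3600) (l := 0) rfl N3600 D11628
theorem N7583 : nd 7583 = n11629 := ndS (p := 3600) (l := 1) rfl N3600 D11629
theorem N7584 : nd 7584 = n11630 := ndS (p := 3600) (l := 4) rfl N3600 D11630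
theorem N7585 : nd 7585 = n11631 := ndS (p := 3600) (l := 6) rfl N3600 D11631
theorem N7586 : nd 7586 = n11632 := ndS (p := 3601) (l := 0) rfl N3601 D11632
theorem N7587 : nd 7587 = n11633 := ndS (p := 3601) (l := 1) rfl N3601 D11633
theorem N7588 : nd 7588 = n11634 := ndS (p := 3601) (l := 7) rfl N3601 D11634
theorem N7589 : nd 7589 = n11636 := ndS (p := 3602) (l := 4) rfl N3602 D11636
theorem N7590 : nd 7590 = n11637 := ndS (p := 3602) (l := 6) rfl N3602 D11637
theorem N7591 : nd 7591 = n11638 := ndS (p := 3603) (l := 1) rfl N3603 D11638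
theorem N7592 : nd 7592 = n11639 := ndS (p := 3603) (l := 3) rfl N3603 D11639
theorem N7593 : nd 7593 = n11640 := ndS (p := 3603) (l := 6) rfl N3603 D11640
theorem N7594 : nd 7594 = n11641 := ndS (p := 3604) (l := 0) rfl N3604 D11641
theorem N7595 : nd 7595 = n11642 := ndS (p := 3604) (l := 1) rfl N3604 D11642
theorem N7596 : nd 7596 = n11643 := ndS (p := 3604) (l := 7) rfl N3604 D11643
theorem N7597 : nd 7597 = n11652 := ndS (p := 3607) (l := 4) rfl N3607 D11652
theorem N7598 : nd 7598 = n11653 := ndS (p := 3607) (l := 5) rfl N3607 D11653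
theorem N7599 : nd 7599 = n11655 := ndS (p := 3608) (l := 5) rfl N3608 D11655
theorem N7600 : nd 7600 = n11656 := ndS (p := 3608) (l := 6) rfl N3608 D11656
theorem N7601 : nd 7601 = n11657 := ndS (p := 3609) (l := 0) rfl N3609 D11657
theorem N7602 : nd 7602 = n11659 := ndS (p := 3609) (l := 4) rfl N3609 D11659
theorem N7603 : nd 7603 = n11660 := ndS (p := 3609) (l := 6) rfl N3609 D11660
theorem N7604 : nd 7604 = n11663 := ndS (p := 3610) (l := 5) rfl N3610 D11663
theorem N7605 : nd 7605 = n11664 := ndS (p := 3610) (l := 7) rfl N3610 D11664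
theorem N7606 : nd 7606 = n11665 := ndS (p := 3611) (l := 3) rfl N3611 D11665
theorem N7607 : nd 7607 = n11666 := ndS (p := 3611) (l := 6) rfl N3611 D11666
theorem N7608 : nd 7608 = n11667 := ndS (p := 3612) (l := 0) rfl N3612 D11667
theorem N7609 : nd 7609 = n11668 := ndS (p := 3612) (l := 5) rfl N3612 D11668
theorem N7610 : nd 7610 = n11669 := ndS (p := 3612) (l := 7) rfl N3612 D11669
theorem N7611 : nd 7611 = n11670 := ndS (p := 3613) (l := 4) rfl N3613 D11670
theorem N7612 : nd 7612 = n11673 := ndS (p := 3615) (l := 2) rfl N3615 D11673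
theorem N7613 : nd 7613 = n11674 := ndS (p := 3615) (l := 4) rfl N3615 D11674
theorem N7614 : nd 7614 = n11675 := ndS (p := 3615) (l := 6) rfl N3615 D11675
theorem N7615 : nd 7615 = n11676 := ndS (p := 3616) (l := 3) rfl N3616 D11676
theorem N7616 : nd 7616 = n11677 := ndS (p := 3616) (l := 6) rfl N3616 D11677
theorem N7617 : nd 7617 = n11678 := ndS (p := 3617) (l := 0) rfl N3617 D11678
theorem N7618 : nd 7618 = n11679 := ndS (p := 3617) (l := 1) rfl N3617 D11679
theorem N7619 : nd 7619 = n11680 := ndS (p := 3617) (l := 5) rfl N3617 D11680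
theorem N7620 : nd 7620 = n11681 := ndS (p := 3617) (l := 7) rfl N3617 D11681
theorem N7621 : nd 7621 = n11684 := ndS (p := 3618) (l := 2) rfl N3618 D11684
theorem N7622 : nd 7622 = n11685 := ndS (p := 3618) (l := 4) rfl N3618 D11685
theorem N7623 : nd 7623 = n11686 := ndS (p := 3618) (l := 6) rfl N3618 D11686
theorem N7624 : nd 7624 = n11687 := ndS (p := 3619) (l := 3) rfl N3619 D11687
theorem N7625 : nd 7625 = n11688 := ndS (p := 3619) (l := 6) rfl N3619 D11688
theorem N7626 : nd 7626 = n11689 := ndS (p := 3620) (l := 0) rfl N3620 D11689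
theorem N7627 : nd 7627 = n11690 := ndS (p := 3620) (l := 1) rfl N3620 D11690
theorem N7628 : nd 7628 = n11691 := ndS (p := 3620) (l := 7) rfl N3620 D11691
theorem N7629 : nd 7629 = n11692 := ndS (p := 3621) (l := 3) rfl N3621 D11692
theorem N7630 : nd 7630 = n11693 := ndS (p := 3621) (l := 6) rfl N3621 D11693
theorem N7631 : nd 7631 = n11696 := ndS (p := 3623) (l := 0) rfl N3623 D11696
theorem N7632 : nd 7632 = n11697 := ndS (p := 3623) (l := 1) rfl N3623 D11697
theorem N7633 : nd 7633 = n11698 := ndS (p := 3623) (l := 2) rfl N3623 D11698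
theorem N7634 : nd 7634 = n11699 := ndS (p := 3623) (l := 5) rfl N3623 D11699
theorem N7635 : nd 7635 = n11700 := ndS (p := 3623) (l := 7) rfl N3623 D11700
theorem N7636 : nd 7636 = n11701 := ndS (p := 3624) (l := 6) rfl N3624 D11701
theorem N7637 : nd 7637 = n11702 := ndS (p := 3625) (l := 6) rfl N3625 D11702
theorem N7638 : nd 7638 = n11703 := ndS (p := 3626) (l := 0) rfl N3626 D11703
theorem N7639 : nd 7639 = n11704 := ndS (p := 3627) (l := 4) rfl N3627 D11704
theorem N7640 : nd 7640 = n11705 := ndS (p := 3628) (l := 3) rfl N3628 D11705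
theorem N7641 : nd 7641 = n11706 := ndS (p := 3628) (l := 6) rfl N3628 D11706
theorem N7642 : nd 7642 = n11707 := ndS (p := 3631) (l := 4) rfl N3631 D11707
theorem N7643 : nd 7643 = n11708 := ndS (p := 3632) (l := 4) rfl N3632 D11708
theorem N7644 : nd 7644 = n11710 := ndS (p := 3634) (l := 3) rfl N3634 D11710
theorem N7645 : nd 7645 = n11711 := ndS (p := 3634) (l := 4) rfl N3634 D11711
theorem N7646 : nd 7646 = n11712 := ndS (p := 3634) (l := 5) rfl N3634 D11712
theorem N7647 : nd 7647 = n11718 := ndS (p := 3635) (l := 5) rfl N3635 D11718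
theorem N7648 : nd 7648 = n11719 := ndS (p := 3635) (l := 6) rfl N3635 D11719
theorem N7649 : nd 7649 = n11720 := ndS (p := 3636) (l := 0) rfl N3636 D11720
theorem N7650 : nd 7650 = n11721 := ndS (p := 3636) (l := 1) rfl N3636 D11721
theorem N7651 : nd 7651 = n11722 := ndS (p := 3636) (l := 4) rfl N3636 D11722
theorem N7652 : nd 7652 = n11723 := ndS (p := 3636) (l := 6) rfl N3636 D11723
theorem N7653 : nd 7653 = n11724 := ndS (p := 3637) (l := 0) rfl N3637 D11724
theorem N7654 : nd 7654 = n11725 := ndS (p := 3637) (l := 1) rfl N3637 D11725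
theorem N7655 : nd 7655 = n11726 := ndS (p := 3637) (l := 7) rfl N3637 D11726
theorem N7656 : nd 7656 = n11727 := ndS (p := 3638) (l := 3) rfl N3638 D11727
theorem N7657 : nd 7657 = n11728 := ndS (p := 3638) (l := 4) rfl N3638 D11728
theorem N7658 : nd 7658 = n11729 := ndS (p := 3638) (l := 6) rfl N3638 D11729
theorem N7659 : nd 7659 = n11730 := ndS (p := 3639) (l := 3) rfl N3639 D11730
theorem N7660 : nd 7660 = n11731 := ndS (p := 3639) (l := 4) rfl N3639 D11731
theorem N7661 : nd 7661 = n11732 := ndS (p := 3639) (l := 6) rfl N3639 D11732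
theorem N7662 : nd 7662 = n11733 := ndS (p := 3640) (l := 3) rfl N3640 D11733
theorem N7663 : nd 7663 = n11734 := ndS (p := 3640) (l := 6) rfl N3640 D11734
theorem N7664 : nd 7664 = n11735 := ndS (p := 3641) (l := 0) rfl N3641 D11735
theorem N7665 : nd 7665 = n11736 := ndS (p := 3641) (l := 1) rfl N3641 D11736
theorem N7666 : nd 7666 = n11737 := ndS (p := 3641) (l := 7) rfl N3641 D11737
theorem N7667 : nd 7667 = n11738 := ndS (p := 3645) (l := 3) rfl N3645 D11738
theorem N7668 : nd 7668 = n11739 := ndS (p := 3646) (l := 0) rfl N3646 D11739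
theorem N7669 : nd 7669 = n11741 := ndS (p := 3646) (l := 2) rfl N3646 D11741
theorem N7670 : nd 7670 = n11748 := ndS (p := 3648) (l := 3) rfl N3648 D11748
theorem N7671 : nd 7671 = n11749 := ndS (p := 3648) (l := 5) rfl N3648 D11749
theorem N7672 : nd 7672 = n11751 := ndS (p := 3649) (l := 5) rfl N3649 D11751
theorem N7673 : nd 7673 = n11752 := ndS (p := 3649) (l := 6) rfl N3649 D11752
theorem N7674 : nd 7674 = n11753 := ndS (p := 3650) (l := 0) rfl N3650 D11753
theorem N7675 : nd 7675 = n11754 := ndS (p := 3650) (l := 1) rfl N3650 D11754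
theorem N7676 : nd 7676 = n11755 := ndS (p := 3650) (l := 4) rfl N3650 D11755
theorem N7677 : nd 7677 = n11756 := ndS (p := 3650) (l := 6) rfl N3650 D11756
theorem N7678 : nd 7678 = n11757 := ndS (p := 3651) (l := 0) rfl N3651 D11757
theorem N7679 : nd 7679 = n11758 := ndS (p := 3651) (l := 1) rfl N3651 D11758
theorem N7680 : nd 7680 = n11759 := ndS (p := 3651) (l := 7) rfl N3651 D11759
theorem N7681 : nd 7681 = n11760 := ndS (p := 3652) (l := 3) rfl N3652 D11760
theorem N7682 : nd 7682 = n11761 := ndS (p := 3652) (l := 6) rfl N3652 D11761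
theorem N7683 : nd 7683 = n11762 := ndS (p := 3653) (l := 0) rfl N3653 D11762
theorem N7684 : nd 7684 = n11763 := ndS (p := 3653) (l := 7) rfl N3653 D11763
theorem N7685 : nd 7685 = n11764 := ndS (p := 3656) (l := 0) rfl N3656 D11764
theorem N7686 : nd 7686 = n11765 := ndS (p := 3656) (l := 1) rfl N3656 D11765
theorem N7687 : nd 7687 = n11766 := ndS (p := 3656) (l := 2) rfl N3656 D11766
theorem N7688 : nd 7688 = n11767 := ndS (p := 3657) (l := 6) rfl N3657 D11767
theorem N7689 : nd 7689 = n11768 := ndS (p := 3658) (l := 5) rfl N3658 D11768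
theorem N7690 : nd 7690 = n11769 := ndS (p := 3659) (l := 4) rfl N3659 D11769
theorem N7691 : nd 7691 = n11770 := ndS (p := 3660) (l := 4) rfl N3660 D11770
theorem N7692 : nd 7692 = n11771 := ndS (p := 3661) (l := 6) rfl N3661 D11771
theorem N7693 : nd 7693 = n11772 := ndS (p := 3662) (l := 3) rfl N3662 D11772
theorem N7694 : nd 7694 = n11773 := ndS (p := 3662) (l := 5) rfl N3662 D11773
theorem N7695 : nd 7695 = n11774 := ndS (p := 3662) (l := 7) rfl N3662 D11774
theorem N7696 : nd 7696 = n11775 := ndS (p := 3664) (l := 6) rfl N3664 D11775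
theorem N7697 : nd 7697 = n11776 := ndS (p := 3665) (l := 0) rfl N3665 D11776
theorem N7698 : nd 7698 = n11778 := ndS (p := 3665) (l := 5) rfl N3665 D11778
theorem N7699 : nd 7699 = n11779 := ndS (p := 3665) (l := 7) rfl N3665 D11779
theorem N7700 : nd 7700 = n11780 := ndS (p := 3666) (l := 6) rfl N3666 D11780
theorem N7701 : nd 7701 = n11782 := ndS (p := 3667) (l := 1) rfl N3667 D11782
theorem N7702 : nd 7702 = n11783 := ndS (p := 3667) (l := 5) rfl N3667 D11783
theorem N7703 : nd 7703 = n11784 := ndS (p := 3667) (l := 7) rfl N3667 D11784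
theorem N7704 : nd 7704 = n11785 := ndS (p := 3668) (l := 0) rfl N3668 D11785
theorem N7705 : nd 7705 = n11786 := ndS (p := 3668) (l := 5) rfl N3668 D11786
theorem N7706 : nd 7706 = n11787 := ndS (p := 3668) (l := 7) rfl N3668 D11787
theorem N7707 : nd 7707 = n11790 := ndS (p := 3669) (l := 5) rfl N3669 D11790
theorem N7708 : nd 7708 = n11791 := ndS (p := 3669) (l := 7) rfl N3669 D11791
theorem N7709 : nd 7709 = n11792 := ndS (p := 3670) (l := 4) rfl N3670 D11792
theorem N7710 : nd 7710 = n11793 := ndS (p := 3670) (l := 5) rfl N3670 D11793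
theorem N7711 : nd 7711 = n11794 := ndS (p := 3670) (l := 6) rfl N3670 D11794
theorem N7712 : nd 7712 = n11795 := ndS (p := 3671) (l := 3) rfl N3671 D11795
theorem N7713 : nd 7713 = n11796 := ndS (p := 3671) (l := 4) rfl N3671 D11796
theorem N7714 : nd 7714 = n11797 := ndS (p := 3671) (l := 5) rfl N3671 D11797
theorem N7715 : nd 7715 = n11798 := ndS (p := 3671) (l := 6) rfl N3671 D11798
theorem N7716 : nd 7716 = n11799 := ndS (p := 3672) (l := 0) rfl N3672 D11799
theorem N7717 : nd 7717 = n11800 := ndS (p := 3672) (l := 1) rfl N3672 D11800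
theorem N7718 : nd 7718 = n11801 := ndS (p := 3672) (l := 4) rfl N3672 D11801
theorem N7719 : nd 7719 = n11802 := ndS (p := 3672) (l := 7) rfl N3672 D11802
theorem N7720 : nd 7720 = n11806 := ndS (p := 3674) (l := 5) rfl N3674 D11806
theorem N7721 : nd 7721 = n11813 := ndS (p := 3675) (l := 0) rfl N3675 D11813
theorem N7722 : nd 7722 = n11815 := ndS (p := 3675) (l := 4) rfl N3675 D11815
theorem N7723 : nd 7723 = n11816 := ndS (p := 3675) (l := 7) rfl N3675 D11816
theorem N7724 : nd 7724 = n11817 := ndS (p := 3677) (l := 4) rfl N3677 D11817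
theorem N7725 : nd 7725 = n11818 := ndS (p := 3677) (l := 6) rfl N3677 D11818
theorem N7726 : nd 7726 = n11819 := ndS (p := 3678) (l := 5) rfl N3678 D11819
theorem N7727 : nd 7727 = n11820 := ndS (p := 3678) (l := 7) rfl N3678 D11820
theorem N7728 : nd 7728 = n11821 := ndS (p := 3679) (l := 3) rfl N3679 D11821
theorem N7729 : nd 7729 = n11822 := ndS (p := 3679) (l := 4) rfl N3679 D11822
theorem N7730 : nd 7730 = n11823 := ndS (p := 3679) (l := 6) rfl N3679 D11823
theorem N7731 : nd 7731 = n11824 := ndS (p := 3680) (l := 4) rfl N3680 D11824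
theorem N7732 : nd 7732 = n11825 := ndS (p := 3680) (l := 6) rfl N3680 D11825
theorem N7733 : nd 7733 = n11826 := ndS (p := 3681) (l := 3) rfl N3681 D11826
theorem N7734 : nd 7734 = n11827 := ndS (p := 3681) (l := 5) rfl N3681 D11827
theorem N7735 : nd 7735 = n11828 := ndS (p := 3681) (l := 7) rfl N3681 D11828
theorem N7736 : nd 7736 = n11829 := ndS (p := 3682) (l := 6) rfl N3682 D11829
theorem N7737 : nd 7737 = n11830 := ndS (p := 3683) (l := 3) rfl N3683 D11830
theorem N7738 : nd 7738 = n11832 := ndS (p := 3686) (l := 5) rfl N3686 D11832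
theorem N7739 : nd 7739 = n11833 := ndS (p := 3686) (l := 6) rfl N3686 D11833
theorem N7740 : nd 7740 = n11834 := ndS (p := 3687) (l := 0) rfl N3687 D11834
theorem N7741 : nd 7741 = n11835 := ndS (p := 3687) (l := 4) rfl N3687 D11835
theorem N7742 : nd 7742 = n11836 := ndS (p := 3687) (l := 7) rfl N3687 D11836
theorem N7743 : nd 7743 = n11837 := ndS (p := 3689) (l := 6) rfl N3689 D11837
theorem N7744 : nd 7744 = n11839 := ndS (p := 3690) (l := 5) rfl N3690 D11839
theorem N7745 : nd 7745 = n11840 := ndS (p := 3690) (l := 7) rfl N3690 D11840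
theorem N7746 : nd 7746 = n11842 := ndS (p := 3691) (l := 5) rfl N3691 D11842
theorem N7747 : nd 7747 = n11843 := ndS (p := 3691) (l := 6) rfl N3691 D11843
theorem N7748 : nd 7748 = n11845 := ndS (p := 3692) (l := 1) rfl N3692 D11845
theorem N7749 : nd 7749 = n11846 := ndS (p := 3692) (l := 4) rfl N3692 D11846
theorem N7750 : nd 7750 = n11847 := ndS (p := 3692) (l := 7) rfl N3692 D11847
theorem N7751 : nd 7751 = n11848 := ndS (p := 3694) (l := 3) rfl N3694 D11848
theorem N7752 : nd 7752 = n11849 := ndS (p := 3694) (l := 5) rfl N3694 D11849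
theorem N7753 : nd 7753 = n11850 := ndS (p := 3694) (l := 6) rfl N3694 D11850
theorem N7754 : nd 7754 = n11851 := ndS (p := 3695) (l := 5) rfl N3695 D11851
theorem N7755 : nd 7755 = n11852 := ndS (p := 3695) (l := 6) rfl N3695 D11852
theorem N7756 : nd 7756 = n11853 := ndS (p := 3696) (l := 0) rfl N3696 D11853
theorem N7757 : nd 7757 = n11854 := ndS (p := 3696) (l := 1) rfl N3696 D11854
theorem N7758 : nd 7758 = n11855 := ndS (p := 3696) (l := 4) rfl N3696 D11855
theorem N7759 : nd 7759 = n11856 := ndS (p := 3696) (l := 7) rfl N3696 D11856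
theorem N7760 : nd 7760 = n11857 := ndS (p := 3698) (l := 0) rfl N3698 D11857
theorem N7761 : nd 7761 = n11858 := ndS (p := 3698) (l := 1) rfl N3698 D11858
theorem N7762 : nd 7762 = n11859 := ndS (p := 3698) (l := 4) rfl N3698 D11859
theorem N7763 : nd 7763 = n11860 := ndS (p := 3698) (l := 6) rfl N3698 D11860
theorem N7764 : nd 7764 = n11862 := ndS (p := 3699) (l := 1) rfl N3699 D11862
theorem N7765 : nd 7765 = n11863 := ndS (p := 3699) (l := 5) rfl N3699 D11863
theorem N7766 : nd 7766 = n11864 := ndS (p := 3699) (l := 7) rfl N3699 D11864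
theorem N7767 : nd 7767 = n11865 := ndS (p := 3700) (l := 4) rfl N3700 D11865
theorem N7768 : nd 7768 = n11866 := ndS (p := 3700) (l := 5) rfl N3700 D11866
theorem N7769 : nd 7769 = n11867 := ndS (p := 3700) (l := 6) rfl N3700 D11867
theorem N7770 : nd 7770 = n11868 := ndS (p := 3701) (l := 5) rfl N3701 D11868
theorem N7771 : nd 7771 = n11869 := ndS (p := 3701) (l := 6) rfl N3701 D11869
theorem N7772 : nd 7772 = n11870 := ndS (p := 3702) (l := 4) rfl N3702 D11870
theorem N7773 : nd 7773 = n11871 := ndS (p := 3702) (l := 6) rfl N3702 D11871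
theorem N7774 : nd 7774 = n11872 := ndS (p := 3703) (l := 0) rfl N3703 D11872
theorem N7775 : nd 7775 = n11874 := ndS (p := 3703) (l := 7) rfl N3703 D11874
theorem N7776 : nd 7776 = n11875 := ndS (p := 3704) (l := 4) rfl N3704 D11875
theorem N7777 : nd 7777 = n11876 := ndS (p := 3704) (l := 6) rfl N3704 D11876
theorem N7778 : nd 7778 = n11877 := ndS (p := 3705) (l := 3) rfl N3705 D11877
theorem N7779 : nd 7779 = n11878 := ndS (p := 3705) (l := 4) rfl N3705 D11878
theorem N7780 : nd 7780 = n11880 := ndS (p := 3705) (l := 6) rfl N3705 D11880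
theorem N7781 : nd 7781 = n11881 := ndS (p := 3706) (l := 0) rfl N3706 D11881
theorem N7782 : nd 7782 = n11882 := ndS (p := 3706) (l := 1) rfl N3706 D11882
theorem N7783 : nd 7783 = n11883 := ndS (p := 3706) (l := 3) rfl N3706 D11883
theorem N7784 : nd 7784 = n11884 := ndS (p := 3706) (l := 5) rfl N3706 D11884
theorem N7785 : nd 7785 = n11885 := ndS (p := 3706) (l := 7) rfl N3706 D11885
theorem N7786 : nd 7786 = n11886 := ndS (p := 3707) (l := 6) rfl N3707 D11886
theorem N7787 : nd 7787 = n11888 := ndS (p := 3708) (l := 4) rfl N3708 D11888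
theorem N7788 : nd 7788 = n11889 := ndS (p := 3708) (l := 5) rfl N3708 D11889
theorem N7789 : nd 7789 = n11895 := ndS (p := 3709) (l := 5) rfl N3709 D11895
theorem N7790 : nd 7790 = n11896 := ndS (p := 3709) (l := 6) rfl N3709 D11896
theorem N7791 : nd 7791 = n11897 := ndS (p := 3710) (l := 0) rfl N3710 D11897
theorem N7792 : nd 7792 = n11898 := ndS (p := 3710) (l := 1) rfl N3710 D11898
theorem N7793 : nd 7793 = n11899 := ndS (p := 3710) (l := 4) rfl N3710 D11899
theorem N7794 : nd 7794 = n11900 := ndS (p := 3710) (l := 6) rfl N3710 D11900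
theorem N7795 : nd 7795 = n11901 := ndS (p := 3711) (l := 0) rfl N3711 D11901
theorem N7796 : nd 7796 = n11902 := ndS (p := 3711) (l := 1) rfl N3711 D11902
theorem N7797 : nd 7797 = n11903 := ndS (p := 3711) (l := 7) rfl N3711 D11903
theorem N7798 : nd 7798 = n11904 := ndS (p := 3712) (l := 3) rfl N3712 D11904
theorem N7799 : nd 7799 = n11905 := ndS (p := 3712) (l := 4) rfl N3712 D11905
theorem N7800 : nd 7800 = n11906 := ndS (p := 3712) (l := 6) rfl N3712 D11906
theorem N7801 : nd 7801 = n11907 := ndS (p := 3713) (l := 4) rfl N3713 D11907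
theorem N7802 : nd 7802 = n11908 := ndS (p := 3713) (l := 6) rfl N3713 D11908
theorem N7803 : nd 7803 = n11909 := ndS (p := 3714) (l := 3) rfl N3714 D11909
theorem N7804 : nd 7804 = n11910 := ndS (p := 3714) (l := 6) rfl N3714 D11910
theorem N7805 : nd 7805 = n11911 := ndS (p := 3715) (l := 0) rfl N3715 D11911
theorem N7806 : nd 7806 = n11912 := ndS (p := 3715) (l := 1) rfl N3715 D11912
theorem N7807 : nd 7807 = n11913 := ndS (p := 3715) (l := 7) rfl N3715 D11913
theorem N7808 : nd 7808 = n11914 := ndS (p := 3718) (l := 5) rfl N3718 D11914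
theorem N7809 : nd 7809 = n11915 := ndS (p := 3719) (l := 5) rfl N3719 D11915
theorem N7810 : nd 7810 = n11916 := ndS (p := 3719) (l := 6) rfl N3719 D11916
theorem N7811 : nd 7811 = n11917 := ndS (p := 3720) (l := 0) rfl N3720 D11917
theorem N7812 : nd 7812 = n11918 := ndS (p := 3720) (l := 1) rfl N3720 D11918
theorem N7813 : nd 7813 = n11919 := ndS (p := 3720) (l := 4) rfl N3720 D11919
theorem N7814 : nd 7814 = n11920 := ndS (p := 3720) (l := 6) rfl N3720 D11920
theorem N7815 : nd 7815 = n11921 := ndS (p := 3721) (l := 0) rfl N3721 D11921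
theorem N7816 : nd 7816 = n11922 := ndS (p := 3721) (l := 1) rfl N3721 D11922
theorem N7817 : nd 7817 = n11923 := ndS (p := 3721) (l := 7) rfl N3721 D11923
theorem N7818 : nd 7818 = n11924 := ndS (p := 3722) (l := 3) rfl N3722 D11924
theorem N7819 : nd 7819 = n11925 := ndS (p := 3722) (l := 6) rfl N3722 D11925
theorem N7820 : nd 7820 = n11926 := ndS (p := 3723) (l := 0) rfl N3723 D11926
theorem N7821 : nd 7821 = n11927 := ndS (p := 3723) (l := 7) rfl N3723 D11927
theorem N7822 : nd 7822 = n11930 := ndS (p := 3726) (l := 2) rfl N3726 D11930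
theorem N7823 : nd 7823 = n11931 := ndS (p := 3726) (l := 4) rfl N3726 D11931
theorem N7824 : nd 7824 = n11932 := ndS (p := 3726) (l := 6) rfl N3726 D11932
theorem N7825 : nd 7825 = n11933 := ndS (p := 3727) (l := 3) rfl N3727 D11933
theorem N7826 : nd 7826 = n11934 := ndS (p := 3727) (l := 6) rfl N3727 D11934
theorem N7827 : nd 7827 = n11935 := ndS (p := 3728) (l := 0) rfl N3728 D11935
theorem N7828 : nd 7828 = n11936 := ndS (p := 3728) (l := 1) rfl N3728 D11936
theorem N7829 : nd 7829 = n11937 := ndS (p := 3728) (l := 7) rfl N3728 D11937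
theorem N7830 : nd 7830 = n11938 := ndS (p := 3729) (l := 2) rfl N3729 D11938
theorem N7831 : nd 7831 = n11939 := ndS (p := 3729) (l := 4) rfl N3729 D11939
theorem N7832 : nd 7832 = n11940 := ndS (p := 3729) (l := 6) rfl N3729 D11940
theorem N7833 : nd 7833 = n11941 := ndS (p := 3730) (l := 3) rfl N3730 D11941
theorem N7834 : nd 7834 = n11942 := ndS (p := 3730) (l := 6) rfl N3730 D11942
theorem N7835 : nd 7835 = n11943 := ndS (p := 3731) (l := 0) rfl N3731 D11943
theorem N7836 : nd 7836 = n11944 := ndS (p := 3731) (l := 1) rfl N3731 D11944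
theorem N7837 : nd 7837 = n11945 := ndS (p := 3731) (l := 7) rfl N3731 D11945
theorem N7838 : nd 7838 = n11946 := ndS (p := 3732) (l := 3) rfl N3732 D11946
theorem N7839 : nd 7839 = n11947 := ndS (p := 3732) (l := 6) rfl N3732 D11947
theorem N7840 : nd 7840 = n11948 := ndS (p := 3733) (l := 3) rfl N3733 D11948
theorem N7841 : nd 7841 = n11949 := ndS (p := 3733) (l := 6) rfl N3733 D11949
theorem N7842 : nd 7842 = n11950 := ndS (p := 3734) (l := 0) rfl N3734 D11950
theorem N7843 : nd 7843 = n11951 := ndS (p := 3734) (l := 1) rfl N3734 D11951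
theorem N7844 : nd 7844 = n11952 := ndS (p := 3734) (l := 2) rfl N3734 D11952
theorem N7845 : nd 7845 = n11953 := ndS (p := 3735) (l := 0) rfl N3735 D11953
theorem N7846 : nd 7846 = n11954 := ndS (p := 3736) (l := 3) rfl N3736 D11954
theorem N7847 : nd 7847 = n11955 := ndS (p := 3736) (l := 4) rfl N3736 D11955
theorem N7848 : nd 7848 = n11956 := ndS (p := 3736) (l := 5) rfl N3736 D11956
theorem N7849 : nd 7849 = n11957 := ndS (p := 3737) (l := 5) rfl N3737 D11957
theorem N7850 : nd 7850 = n11958 := ndS (p := 3737) (l := 6) rfl N3737 D11958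
theorem N7851 : nd 7851 = n11959 := ndS (p := 3738) (l := 0) rfl N3738 D11959
theorem N7852 : nd 7852 = n11960 := ndS (p := 3738) (l := 1) rfl N3738 D11960
theorem N7853 : nd 7853 = n11961 := ndS (p := 3738) (l := 4) rfl N3738 D11961
theorem N7854 : nd 7854 = n11962 := ndS (p := 3738) (l := 6) rfl N3738 D11962
theorem N7855 : nd 7855 = n11963 := ndS (p := 3739) (l := 0) rfl N3739 D11963
theorem N7856 : nd 7856 = n11964 := ndS (p := 3739) (l := 1) rfl N3739 D11964
theorem N7857 : nd 7857 = n11965 := ndS (p := 3739) (l := 7) rfl N3739 D11965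
theorem N7858 : nd 7858 = n11966 := ndS (p := 3740) (l := 3) rfl N3740 D11966
theorem N7859 : nd 7859 = n11967 := ndS (p := 3740) (l := 6) rfl N3740 D11967
theorem N7860 : nd 7860 = n11968 := ndS (p := 3741) (l := 3) rfl N3741 D11968
theorem N7861 : nd 7861 = n11969 := ndS (p := 3741) (l := 6) rfl N3741 D11969
theorem N7862 : nd 7862 = n11970 := ndS (p := 3742) (l := 0) rfl N3742 D11970
theorem N7863 : nd 7863 = n11971 := ndS (p := 3742) (l := 1) rfl N3742 D11971
theorem N7864 : nd 7864 = n11972 := ndS (p := 3742) (l := 7) rfl N3742 D11972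
theorem N7865 : nd 7865 = n11973 := ndS (p := 3743) (l := 3) rfl N3743 D11973
theorem N7866 : nd 7866 = n11974 := ndS (p := 3745) (l := 4) rfl N3745 D11974
theorem N7867 : nd 7867 = n11975 := ndS (p := 3746) (l := 3) rfl N3746 D11975
theorem N7868 : nd 7868 = n11976 := ndS (p := 3747) (l := 0) rfl N3747 D11976
theorem N7869 : nd 7869 = n11978 := ndS (p := 3747) (l := 2) rfl N3747 D11978
theorem N7870 : nd 7870 = n11979 := ndS (p := 3747) (l := 6) rfl N3747 D11979
theorem N7871 : nd 7871 = n11980 := ndS (p := 3750) (l := 0) rfl N3750 D11980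
theorem N7872 : nd 7872 = n11981 := ndS (p := 3750) (l := 1) rfl N3750 D11981
theorem N7873 : nd 7873 = n11982 := ndS (p := 3750) (l := 4) rfl N3750 D11982
theorem N7874 : nd 7874 = n11983 := ndS (p := 3750) (l := 6) rfl N3750 D11983
theorem N7875 : nd 7875 = n11984 := ndS (p := 3751) (l := 0) rfl N3751 D11984
theorem N7876 : nd 7876 = n11985 := ndS (p := 3751) (l := 5) rfl N3751 D11985
theorem N7877 : nd 7877 = n11986 := ndS (p := 3751) (l := 7) rfl N3751 D11986
theorem N7878 : nd 7878 = n11987 := ndS (p := 3754) (l := 4) rfl N3754 D11987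
theorem N7879 : nd 7879 = n11988 := ndS (p := 3756) (l := 4) rfl N3756 D11988
theorem N7880 : nd 7880 = n11989 := ndS (p := 3756) (l := 5) rfl N3756 D11989
theorem N7881 : nd 7881 = n11990 := ndS (p := 3757) (l := 5) rfl N3757 D11990
theorem N7882 : nd 7882 = n11991 := ndS (p := 3757) (l := 6) rfl N3757 D11991
theorem N7883 : nd 7883 = n11992 := ndS (p := 3758) (l := 0) rfl N3758 D11992
theorem N7884 : nd 7884 = n11993 := ndS (p := 3758) (l := 1) rfl N3758 D11993
theorem N7885 : nd 7885 = n11994 := ndS (p := 3758) (l := 4) rfl N3758 D11994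
theorem N7886 : nd 7886 = n11995 := ndS (p := 3758) (l := 6) rfl N3758 D11995
theorem N7887 : nd 7887 = n11996 := ndS (p := 3759) (l := 0) rfl N3759 D11996
theorem N7888 : nd 7888 = n11997 := ndS (p := 3759) (l := 1) rfl N3759 D11997
theorem N7889 : nd 7889 = n11998 := ndS (p := 3759) (l := 5) rfl N3759 D11998
theorem N7890 : nd 7890 = n11999 := ndS (p := 3759) (l := 7) rfl N3759 D11999
theorem N7891 : nd 7891 = n12000 := ndS (p := 3760) (l := 3) rfl N3760 D12000
theorem N7892 : nd 7892 = n12001 := ndS (p := 3760) (l := 6) rfl N3760 D12001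
theorem N7893 : nd 7893 = n12002 := ndS (p := 3761) (l := 0) rfl N3761 D12002
theorem N7894 : nd 7894 = n12003 := ndS (p := 3761) (l := 5) rfl N3761 D12003
theorem N7895 : nd 7895 = n12004 := ndS (p := 3761) (l := 7) rfl N3761 D12004
theorem N7896 : nd 7896 = n12005 := ndS (p := 3764) (l := 0) rfl N3764 D12005
theorem N7897 : nd 7897 = n12006 := ndS (p := 3764) (l := 1) rfl N3764 D12006
theorem N7898 : nd 7898 = n12007 := ndS (p := 3764) (l := 2) rfl N3764 D12007
theorem N7899 : nd 7899 = n12008 := ndS (p := 3765) (l := 3) rfl N3765 D12008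
theorem N7900 : nd 7900 = n12009 := ndS (p := 3766) (l := 5) rfl N3766 D12009
theorem N7901 : nd 7901 = n12010 := ndS (p := 3767) (l := 0) rfl N3767 D12010
theorem N7902 : nd 7902 = n12011 := ndS (p := 3767) (l := 4) rfl N3767 D12011
theorem N7903 : nd 7903 = n12012 := ndS (p := 3767) (l := 7) rfl N3767 D12012
theorem N7904 : nd 7904 = n12013 := ndS (p := 3769) (l := 5) rfl N3769 D12013
theorem N7905 : nd 7905 = n12014 := ndS (p := 3770) (l := 4) rfl N3770 D12014
theorem N7906 : nd 7906 = n12015 := ndS (p := 3771) (l := 4) rfl N3771 D12015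
theorem N7907 : nd 7907 = n12016 := ndS (p := 3772) (l := 0) rfl N3772 D12016
theorem N7908 : nd 7908 = n12017 := ndS (p := 3772) (l := 3) rfl N3772 D12017
theorem N7909 : nd 7909 = n12018 := ndS (p := 3772) (l := 5) rfl N3772 D12018
theorem N7910 : nd 7910 = n12019 := ndS (p := 3772) (l := 7) rfl N3772 D12019
theorem N7911 : nd 7911 = n12020 := ndS (p := 3774) (l := 5) rfl N3774 D12020
theorem N7912 : nd 7912 = n12021 := ndS (p := 3774) (l := 7) rfl N3774 D12021
theorem N7913 : nd 7913 = n12022 := ndS (p := 3775) (l := 5) rfl N3775 D12022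
theorem N7914 : nd 7914 = n12023 := ndS (p := 3775) (l := 6) rfl N3775 D12023
theorem N7915 : nd 7915 = n12024 := ndS (p := 3776) (l := 4) rfl N3776 D12024
theorem N7916 : nd 7916 = n12025 := ndS (p := 3776) (l := 7) rfl N3776 D12025
theorem N7917 : nd 7917 = n12026 := ndS (p := 3778) (l := 5) rfl N3778 D12026
theorem N7918 : nd 7918 = n12027 := ndS (p := 3778) (l := 6) rfl N3778 D12027
theorem N7919 : nd 7919 = n12028 := ndS (p := 3779) (l := 4) rfl N3779 D12028
theorem N7920 : nd 7920 = n12029 := ndS (p := 3781) (l := 0) rfl N3781 D12029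
theorem N7921 : nd 7921 = n12030 := ndS (p := 3781) (l := 1) rfl N3781 D12030
theorem N7922 : nd 7922 = n12031 := ndS (p := 3781) (l := 3) rfl N3781 D12031
theorem N7923 : nd 7923 = n12032 := ndS (p := 3781) (l := 5) rfl N3781 D12032
theorem N7924 : nd 7924 = n12033 := ndS (p := 3781) (l := 7) rfl N3781 D12033
theorem N7925 : nd 7925 = n12034 := ndS (p := 3783) (l := 5) rfl N3783 D12034
theorem N7926 : nd 7926 = n12035 := ndS (p := 3784) (l := 0) rfl N3784 D12035
theorem N7927 : nd 7927 = n12036 := ndS (p := 3784) (l := 1) rfl N3784 D12036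
theorem N7928 : nd 7928 = n12037 := ndS (p := 3784) (l := 4) rfl N3784 D12037
theorem N7929 : nd 7929 = n12038 := ndS (p := 3784) (l := 7) rfl N3784 D12038
theorem N7930 : nd 7930 = n12039 := ndS (p := 3786) (l := 5) rfl N3786 D12039
theorem N7931 : nd 7931 = n12040 := ndS (p := 3786) (l := 7) rfl N3786 D12040
theorem N7932 : nd 7932 = n12041 := ndS (p := 3787) (l := 5) rfl N3787 D12041
theorem N7933 : nd 7933 = n12042 := ndS (p := 3788) (l := 0) rfl N3788 D12042
theorem N7934 : nd 7934 = n12043 := ndS (p := 3788) (l := 4) rfl N3788 D12043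
theorem N7935 : nd 7935 = n12044 := ndS (p := 3788) (l := 7) rfl N3788 D12044
theorem N7936 : nd 7936 = n12045 := ndS (p := 3790) (l := 5) rfl N3790 D12045
theorem N7937 : nd 7937 = n12046 := ndS (p := 3790) (l := 7) rfl N3790 D12046
theorem N7938 : nd 7938 = n12047 := ndS (p := 3791) (l := 5) rfl N3791 D12047
theorem N7939 : nd 7939 = n12050 := ndS (p := 3792) (l := 5) rfl N3792 D12050
theorem N7940 : nd 7940 = n12052 := ndS (p := 3793) (l := 4) rfl N3793 D12052
theorem N7941 : nd 7941 = n12053 := ndS (p := 3793) (l := 5) rfl N3793 D12053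
theorem N7942 : nd 7942 = n12054 := ndS (p := 3793) (l := 6) rfl N3793 D12054
theorem N7943 : nd 7943 = n12055 := ndS (p := 3794) (l := 0) rfl N3794 D12055
theorem N7944 : nd 7944 = n12057 := ndS (p := 3794) (l := 4) rfl N3794 D12057
theorem N7945 : nd 7945 = n12058 := ndS (p := 3794) (l := 7) rfl N3794 D12058
theorem N7946 : nd 7946 = n12067 := ndS (p := 3796) (l := 5) rfl N3796 D12067
theorem N7947 : nd 7947 = n12068 := ndS (p := 3796) (l := 6) rfl N3796 D12068
theorem N7948 : nd 7948 = n12070 := ndS (p := 3797) (l := 1) rfl N3797 D12070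
theorem N7949 : nd 7949 = n12071 := ndS (p := 3797) (l := 4) rfl N3797 D12071
theorem N7950 : nd 7950 = n12072 := ndS (p := 3797) (l := 7) rfl N3797 D12072
theorem N7951 : nd 7951 = n12073 := ndS (p := 3799) (l := 1) rfl N3799 D12073
theorem N7952 : nd 7952 = n12074 := ndS (p := 3799) (l := 4) rfl N3799 D12074
theorem N7953 : nd 7953 = n12075 := ndS (p := 3799) (l := 6) rfl N3799 D12075
theorem N7954 : nd 7954 = n12076 := ndS (p := 3800) (l := 1) rfl N3800 D12076
theorem N7955 : nd 7955 = n12077 := ndS (p := 3800) (l := 7) rfl N3800 D12077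
theorem N7956 : nd 7956 = n12078 := ndS (p := 3801) (l := 5) rfl N3801 D12078
theorem N7957 : nd 7957 = n12079 := ndS (p := 3801) (l := 6) rfl N3801 D12079
theorem N7958 : nd 7958 = n12080 := ndS (p := 3802) (l := 4) rfl N3802 D12080
theorem N7959 : nd 7959 = n12081 := ndS (p := 3802) (l := 6) rfl N3802 D12081
theorem N7960 : nd 7960 = n12082 := ndS (p := 3804) (l := 4) rfl N3804 D12082
theorem N7961 : nd 7961 = n12083 := ndS (p := 3804) (l := 6) rfl N3804 D12083
theorem N7962 : nd 7962 = n12084 := ndS (p := 3805) (l := 3) rfl N3805 D12084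
theorem N7963 : nd 7963 = n12085 := ndS (p := 3805) (l := 4) rfl N3805 D12085
theorem N7964 : nd 7964 = n12086 := ndS (p := 3805) (l := 6) rfl N3805 D12086
theorem N7965 : nd 7965 = n12087 := ndS (p := 3806) (l := 0) rfl N3806 D12087
theorem N7966 : nd 7966 = n12088 := ndS (p := 3806) (l := 1) rfl N3806 D12088
theorem N7967 : nd 7967 = n12089 := ndS (p := 3806) (l := 3) rfl N3806 D12089
theorem N7968 : nd 7968 = n12090 := ndS (p := 3806) (l := 5) rfl N3806 D12090
theorem N7969 : nd 7969 = n12091 := ndS (p := 3806) (l := 7) rfl N3806 D12091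
theorem N7970 : nd 7970 = n12092 := ndS (p := 3807) (l := 6) rfl N3807 D12092
theorem N7971 : nd 7971 = n12093 := ndS (p := 3808) (l := 5) rfl N3808 D12093
theorem N7972 : nd 7972 = n12094 := ndS (p := 3808) (l := 6) rfl N3808 D12094
theorem N7973 : nd 7973 = n12095 := ndS (p := 3809) (l := 4) rfl N3809 D12095
theorem N7974 : nd 7974 = n12096 := ndS (p := 3809) (l := 6) rfl N3809 D12096
theorem N7975 : nd 7975 = n12097 := ndS (p := 3810) (l := 7) rfl N3810 D12097
theorem N7976 : nd 7976 = n12098 := ndS (p := 3811) (l := 4) rfl N3811 D12098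
theorem N7977 : nd 7977 = n12099 := ndS (p := 3812) (l := 1) rfl N3812 D12099
theorem N7978 : nd 7978 = n12100 := ndS (p := 3812) (l := 3) rfl N3812 D12100
theorem N7979 : nd 7979 = n12101 := ndS (p := 3812) (l := 5) rfl N3812 D12101
theorem N7980 : nd 7980 = n12102 := ndS (p := 3812) (l := 6) rfl N3812 D12102
theorem N7981 : nd 7981 = n12103 := ndS (p := 3813) (l := 1) rfl N3813 D12103
theorem N7982 : nd 7982 = n12104 := ndS (p := 3816) (l := 5) rfl N3816 D12104
theorem N7983 : nd 7983 = n12105 := ndS (p := 3816) (l := 6) rfl N3816 D12105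
theorem N7984 : nd 7984 = n12106 := ndS (p := 3817) (l := 4) rfl N3817 D12106
theorem N7985 : nd 7985 = n12107 := ndS (p := 3817) (l := 6) rfl N3817 D12107
theorem N7986 : nd 7986 = n12108 := ndS (p := 3819) (l := 3) rfl N3819 D12108
theorem N7987 : nd 7987 = n12109 := ndS (p := 3819) (l := 5) rfl N3819 D12109
theorem N7988 : nd 7988 = n12110 := ndS (p := 3820) (l := 3) rfl N3820 D12110
theorem N7989 : nd 7989 = n12111 := ndS (p := 3820) (l := 5) rfl N3820 D12111
theorem N7990 : nd 7990 = n12112 := ndS (p := 3820) (l := 6) rfl N3820 D12112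
theorem N7991 : nd 7991 = n12113 := ndS (p := 3821) (l := 0) rfl N3821 D12113
theorem N7992 : nd 7992 = n12114 := ndS (p := 3821) (l := 1) rfl N3821 D12114
theorem N7993 : nd 7993 = n12115 := ndS (p := 3821) (l := 7) rfl N3821 D12115
theorem N7994 : nd 7994 = n12116 := ndS (p := 3822) (l := 3) rfl N3822 D12116
theorem N7995 : nd 7995 = n12117 := ndS (p := 3822) (l := 5) rfl N3822 D12117
theorem N7996 : nd 7996 = n12118 := ndS (p := 3822) (l := 6) rfl N3822 D12118
theorem N7997 : nd 7997 = n12119 := ndS (p := 3823) (l := 0) rfl N3823 D12119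
theorem N7998 : nd 7998 = n12120 := ndS (p := 3823) (l := 7) rfl N3823 D12120
theorem N7999 : nd 7999 = n12121 := ndS (p := 3824) (l := 5) rfl N3824 D12121
theorem N8000 : nd 8000 = n12122 := ndS (p := 3824) (l := 6) rfl N3824 D12122
theorem N8001 : nd 8001 = n12123 := ndS (p := 3825) (l := 3) rfl N3825 D12123
theorem N8002 : nd 8002 = n12124 := ndS (p := 3825) (l := 5) rfl N3825 D12124
theorem N8003 : nd 8003 = n12125 := ndS (p := 3825) (l := 6) rfl N3825 D12125
theorem N8004 : nd 8004 = n12126 := ndS (p := 3826) (l := 0) rfl N3826 D12126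
theorem N8005 : nd 8005 = n12127 := ndS (p := 3826) (l := 1) rfl N3826 D12127
theorem N8006 : nd 8006 = n12128 := ndS (p := 3826) (l := 2) rfl N3826 D12128
theorem N8007 : nd 8007 = n12129 := ndS (p := 3826) (l := 5) rfl N3826 D12129
theorem N8008 : nd 8008 = n12130 := ndS (p := 3826) (l := 7) rfl N3826 D12130
theorem N8009 : nd 8009 = n12131 := ndS (p := 3827) (l := 0) rfl N3827 D12131
theorem N8010 : nd 8010 = n12132 := ndS (p := 3827) (l := 1) rfl N3827 D12132
theorem N8011 : nd 8011 = n12133 := ndS (p := 3827) (l := 4) rfl N3827 D12133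
theorem N8012 : nd 8012 = n12134 := ndS (p := 3827) (l := 6) rfl N3827 D12134
theorem N8013 : nd 8013 = n12135 := ndS (p := 3827) (l := 7) rfl N3827 D12135
theorem N8014 : nd 8014 = n12136 := ndS (p := 3828) (l := 6) rfl N3828 D12136
theorem N8015 : nd 8015 = n12137 := ndS (p := 3830) (l := 3) rfl N3830 D12137
theorem N8016 : nd 8016 = n12138 := ndS (p := 3830) (l := 5) rfl N3830 D12138
theorem N8017 : nd 8017 = n12139 := ndS (p := 3830) (l := 6) rfl N3830 D12139
theorem N8018 : nd 8018 = n12140 := ndS (p := 3831) (l := 3) rfl N3831 D12140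
theorem N8019 : nd 8019 = n12141 := ndS (p := 3831) (l := 5) rfl N3831 D12141
theorem N8020 : nd 8020 = n12142 := ndS (p := 3832) (l := 0) rfl N3832 D12142
theorem N8021 : nd 8021 = n12143 := ndS (p := 3832) (l := 1) rfl N3832 D12143
theorem N8022 : nd 8022 = n12144 := ndS (p := 3832) (l := 2) rfl N3832 D12144
theorem N8023 : nd 8023 = n12145 := ndS (p := 3832) (l := 5) rfl N3832 D12145
theorem N8024 : nd 8024 = n12146 := ndS (p := 3832) (l := 6) rfl N3832 D12146
theorem N8025 : nd 8025 = n12147 := ndS (p := 3833) (l := 6) rfl N3833 D12147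
theorem N8026 : nd 8026 = n12148 := ndS (p := 3834) (l := 0) rfl N3834 D12148
theorem N8027 : nd 8027 = n12149 := ndS (p := 3834) (l := 1) rfl N3834 D12149
theorem N8028 : nd 8028 = n12150 := ndS (p := 3834) (l := 5) rfl N3834 D12150
theorem N8029 : nd 8029 = n12151 := ndS (p := 3834) (l := 7) rfl N3834 D12151
theorem N8030 : nd 8030 = n12152 := ndS (p := 3835) (l := 5) rfl N3835 D12152
theorem N8031 : nd 8031 = n12153 := ndS (p := 3835) (l := 6) rfl N3835 D12153
theorem N8032 : nd 8032 = n12154 := ndS (p := 3837) (l := 0) rfl N3837 D12154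
theorem N8033 : nd 8033 = n12155 := ndS (p := 3837) (l := 1) rfl N3837 D12155
theorem N8034 : nd 8034 = n12156 := ndS (p := 3837) (l := 2) rfl N3837 D12156
theorem N8035 : nd 8035 = n12157 := ndS (p := 3837) (l := 5) rfl N3837 D12157
theorem N8036 : nd 8036 = n12158 := ndS (p := 3837) (l := 6) rfl N3837 D12158
theorem N8037 : nd 8037 = n12159 := ndS (p := 3838) (l := 6) rfl N3838 D12159
theorem N8038 : nd 8038 = n12161 := ndS (p := 3839) (l := 1) rfl N3839 D12161
theorem N8039 : nd 8039 = n12162 := ndS (p := 3839) (l := 5) rfl N3839 D12162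
theorem N8040 : nd 8040 = n12163 := ndS (p := 3839) (l := 7) rfl N3839 D12163
theorem N8041 : nd 8041 = n12164 := ndS (p := 3840) (l := 4) rfl N3840 D12164
theorem N8042 : nd 8042 = n12165 := ndS (p := 3842) (l := 0) rfl N3842 D12165
theorem N8043 : nd 8043 = n12166 := ndS (p := 3842) (l := 1) rfl N3842 D12166
theorem N8044 : nd 8044 = n12167 := ndS (p := 3842) (l := 2) rfl N3842 D12167
theorem N8045 : nd 8045 = n12168 := ndS (p := 3842) (l := 5) rfl N3842 D12168
theorem N8046 : nd 8046 = n12169 := ndS (p := 3843) (l := 6) rfl N3843 D12169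
theorem N8047 : nd 8047 = n12170 := ndS (p := 3844) (l := 0) rfl N3844 D12170
theorem N8048 : nd 8048 = n12171 := ndS (p := 3844) (l := 1) rfl N3844 D12171
theorem N8049 : nd 8049 = n12172 := ndS (p := 3844) (l := 2) rfl N3844 D12172
theorem N8050 : nd 8050 = n12173 := ndS (p := 3844) (l := 5) rfl N3844 D12173
theorem N8051 : nd 8051 = n12174 := ndS (p := 3844) (l := 6) rfl N3844 D12174
theorem N8052 : nd 8052 = n12175 := ndS (p := 3845) (l := 6) rfl N3845 D12175
theorem N8053 : nd 8053 = n12176 := ndS (p := 3846) (l := 0) rfl N3846 D12176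
theorem N8054 : nd 8054 = n12177 := ndS (p := 3846) (l := 1) rfl N3846 D12177
theorem N8055 : nd 8055 = n12178 := ndS (p := 3846) (l := 5) rfl N3846 D12178
theorem N8056 : nd 8056 = n12179 := ndS (p := 3846) (l := 7) rfl N3846 D12179
theorem N8057 : nd 8057 = n12180 := ndS (p := 3847) (l := 4) rfl N3847 D12180
theorem N8058 : nd 8058 = n12181 := ndS (p := 3848) (l := 4) rfl N3848 D12181
theorem N8059 : nd 8059 = n12182 := ndS (p := 3850) (l := 6) rfl N3850 D12182
theorem N8060 : nd 8060 = n12183 := ndS (p := 3851) (l := 5) rfl N3851 D12183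
theorem N8061 : nd 8061 = n12184 := ndS (p := 3851) (l := 7) rfl N3851 D12184
theorem N8062 : nd 8062 = n12185 := ndS (p := 3852) (l := 0) rfl N3852 D12185
theorem N8063 : nd 8063 = n12186 := ndS (p := 3852) (l := 1) rfl N3852 D12186
theorem N8064 : nd 8064 = n12187 := ndS (p := 3852) (l := 2) rfl N3852 D12187
theorem N8065 : nd 8065 = n12188 := ndS (p := 3852) (l := 5) rfl N3852 D12188
theorem N8066 : nd 8066 = n12189 := ndS (p := 3852) (l := 6) rfl N3852 D12189
theorem N8067 : nd 8067 = n12190 := ndS (p := 3853) (l := 6) rfl N3853 D12190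
theorem N8068 : nd 8068 = n12191 := ndS (p := 3854) (l := 5) rfl N3854 D12191
theorem N8069 : nd 8069 = n12192 := ndS (p := 3854) (l := 7) rfl N3854 D12192
theorem N8070 : nd 8070 = n12193 := ndS (p := 3855) (l := 0) rfl N3855 D12193
theorem N8071 : nd 8071 = n12194 := ndS (p := 3855) (l := 2) rfl N3855 D12194
theorem N8072 : nd 8072 = n12195 := ndS (p := 3855) (l := 3) rfl N3855 D12195
theorem N8073 : nd 8073 = n12196 := ndS (p := 3855) (l := 4) rfl N3855 D12196
theorem N8074 : nd 8074 = n12197 := ndS (p := 3855) (l := 5) rfl N3855 D12197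
theorem N8075 : nd 8075 = n12198 := ndS (p := 3855) (l := 6) rfl N3855 D12198
theorem N8076 : nd 8076 = n12199 := ndS (p := 3855) (l := 7) rfl N3855 D12199
theorem N8077 : nd 8077 = n12200 := ndS (p := 3856) (l := 3) rfl N3856 D12200
theorem N8078 : nd 8078 = n12201 := ndS (p := 3856) (l := 4) rfl N3856 D12201
theorem N8079 : nd 8079 = n12202 := ndS (p := 3856) (l := 5) rfl N3856 D12202
theorem N8080 : nd 8080 = n12203 := ndS (p := 3856) (l := 6) rfl N3856 D12203
theorem N8081 : nd 8081 = n12206 := ndS (p := 3857) (l := 5) rfl N3857 D12206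
theorem N8082 : nd 8082 = n12207 := ndS (p := 3858) (l := 0) rfl N3858 D12207
theorem N8083 : nd 8083 = n12208 := ndS (p := 3858) (l := 1) rfl N3858 D12208
theorem N8084 : nd 8084 = n12209 := ndS (p := 3858) (l := 4) rfl N3858 D12209
theorem N8085 : nd 8085 = n12210 := ndS (p := 3858) (l := 6) rfl N3858 D12210
theorem N8086 : nd 8086 = n12211 := ndS (p := 3858) (l := 7) rfl N3858 D12211
theorem N8087 : nd 8087 = n12212 := ndS (p := 3859) (l := 6) rfl N3859 D12212
theorem N8088 : nd 8088 = n12213 := ndS (p := 3860) (l := 3) rfl N3860 D12213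
theorem N8089 : nd 8089 = n12214 := ndS (p := 3860) (l := 6) rfl N3860 D12214
theorem N8090 : nd 8090 = n12215 := ndS (p := 3861) (l := 3) rfl N3861 D12215
theorem N8091 : nd 8091 = n12216 := ndS (p := 3861) (l := 6) rfl N3861 D12216
theorem N8092 : nd 8092 = n12217 := ndS (p := 3862) (l := 0) rfl N3862 D12217
theorem N8093 : nd 8093 = n12218 := ndS (p := 3862) (l := 1) rfl N3862 D12218
theorem N8094 : nd 8094 = n12219 := ndS (p := 3862) (l := 7) rfl N3862 D12219
theorem N8095 : nd 8095 = n12220 := ndS (p := 3863) (l := 6) rfl N3863 D12220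
theorem N8096 : nd 8096 = n12221 := ndS (p := 3864) (l := 0) rfl N3864 D12221
theorem N8097 : nd 8097 = n12222 := ndS (p := 3864) (l := 1) rfl N3864 D12222
theorem N8098 : nd 8098 = n12223 := ndS (p := 3864) (l := 5) rfl N3864 D12223
theorem N8099 : nd 8099 = n12224 := ndS (p := 3865) (l := 4) rfl N3865 D12224
theorem N8100 : nd 8100 = n12225 := ndS (p := 3865) (l := 5) rfl N3865 D12225
theorem N8101 : nd 8101 = n12226 := ndS (p := 3866) (l := 4) rfl N3866 D12226
theorem N8102 : nd 8102 = n12227 := ndS (p := 3866) (l := 5) rfl N3866 D12227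
theorem N8103 : nd 8103 = n12228 := ndS (p := 3866) (l := 6) rfl N3866 D12228
theorem N8104 : nd 8104 = n12229 := ndS (p := 3867) (l := 0) rfl N3867 D12229
theorem N8105 : nd 8105 = n12230 := ndS (p := 3867) (l := 1) rfl N3867 D12230
theorem N8106 : nd 8106 = n12231 := ndS (p := 3867) (l := 5) rfl N3867 D12231
theorem N8107 : nd 8107 = n12232 := ndS (p := 3867) (l := 7) rfl N3867 D12232
theorem N8108 : nd 8108 = n12233 := ndS (p := 3868) (l := 5) rfl N3868 D12233
theorem N8109 : nd 8109 = n12234 := ndS (p := 3868) (l := 6) rfl N3868 D12234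
theorem N8110 : nd 8110 = n12235 := ndS (p := 3869) (l := 0) rfl N3869 D12235
theorem N8111 : nd 8111 = n12236 := ndS (p := 3869) (l := 4) rfl N3869 D12236
theorem N8112 : nd 8112 = n12237 := ndS (p := 3869) (l := 7) rfl N3869 D12237
theorem N8113 : nd 8113 = n12238 := ndS (p := 3871) (l := 5) rfl N3871 D12238
theorem N8114 : nd 8114 = n12239 := ndS (p := 3871) (l := 6) rfl N3871 D12239
theorem N8115 : nd 8115 = n12241 := ndS (p := 3872) (l := 1) rfl N3872 D12241
theorem N8116 : nd 8116 = n12242 := ndS (p := 3872) (l := 4) rfl N3872 D12242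
theorem N8117 : nd 8117 = n12243 := ndS (p := 3872) (l := 7) rfl N3872 D12243
theorem N8118 : nd 8118 = n12244 := ndS (p := 3874) (l := 5) rfl N3874 D12244
theorem N8119 : nd 8119 = n12245 := ndS (p := 3874) (l := 6) rfl N3874 D12245
theorem N8120 : nd 8120 = n12246 := ndS (p := 3875) (l := 1) rfl N3875 D12246
theorem N8121 : nd 8121 = n12247 := ndS (p := 3875) (l := 4) rfl N3875 D12247
theorem N8122 : nd 8122 = n12248 := ndS (p := 3875) (l := 7) rfl N3875 D12248
theorem N8123 : nd 8123 = n12249 := ndS (p := 3877) (l := 5) rfl N3877 D12249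
theorem N8124 : nd 8124 = n12250 := ndS (p := 3877) (l := 6) rfl N3877 D12250
theorem N8125 : nd 8125 = n12251 := ndS (p := 3878) (l := 0) rfl N3878 D12251
theorem N8126 : nd 8126 = n12252 := ndS (p := 3878) (l := 1) rfl N3878 D12252
theorem N8127 : nd 8127 = n12253 := ndS (p := 3878) (l := 4) rfl N3878 D12253
theorem N8128 : nd 8128 = n12254 := ndS (p := 3878) (l := 6) rfl N3878 D12254
theorem N8129 : nd 8129 = n12256 := ndS (p := 3879) (l := 1) rfl N3879 D12256
theorem N8130 : nd 8130 = n12257 := ndS (p := 3879) (l := 5) rfl N3879 D12257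
theorem N8131 : nd 8131 = n12258 := ndS (p := 3879) (l := 7) rfl N3879 D12258
theorem N8132 : nd 8132 = n12259 := ndS (p := 3880) (l := 4) rfl N3880 D12259
theorem N8133 : nd 8133 = n12260 := ndS (p := 3880) (l := 6) rfl N3880 D12260
theorem N8134 : nd 8134 = n12262 := ndS (p := 3881) (l := 7) rfl N3881 D12262
theorem N8135 : nd 8135 = n12263 := ndS (p := 3882) (l := 3) rfl N3882 D12263
theorem N8136 : nd 8136 = n12264 := ndS (p := 3882) (l := 4) rfl N3882 D12264
theorem N8137 : nd 8137 = n12265 := ndS (p := 3882) (l := 6) rfl N3882 D12265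
theorem N8138 : nd 8138 = n12266 := ndS (p := 3883) (l := 4) rfl N3883 D12266
theorem N8139 : nd 8139 = n12267 := ndS (p := 3883) (l := 6) rfl N3883 D12267
theorem N8140 : nd 8140 = n12268 := ndS (p := 3884) (l := 0) rfl N3884 D12268
theorem N8141 : nd 8141 = n12269 := ndS (p := 3884) (l := 1) rfl N3884 D12269
theorem N8142 : nd 8142 = n12270 := ndS (p := 3884) (l := 3) rfl N3884 D12270
theorem N8143 : nd 8143 = n12271 := ndS (p := 3884) (l := 5) rfl N3884 D12271
theorem N8144 : nd 8144 = n12272 := ndS (p := 3884) (l := 7) rfl N3884 D12272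
theorem N8145 : nd 8145 = n12273 := ndS (p := 3885) (l := 6) rfl N3885 D12273
theorem N8146 : nd 8146 = n12274 := ndS (p := 3886) (l := 0) rfl N3886 D12274
theorem N8147 : nd 8147 = n12275 := ndS (p := 3886) (l := 1) rfl N3886 D12275
theorem N8148 : nd 8148 = n12276 := ndS (p := 3886) (l := 4) rfl N3886 D12276
theorem N8149 : nd 8149 = n12277 := ndS (p := 3886) (l := 6) rfl N3886 D12277
theorem N8150 : nd 8150 = n12278 := ndS (p := 3887) (l := 0) rfl N3887 D12278
theorem N8151 : nd 8151 = n12279 := ndS (p := 3887) (l := 1) rfl N3887 D12279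
theorem N8152 : nd 8152 = n12280 := ndS (p := 3887) (l := 7) rfl N3887 D12280
theorem N8153 : nd 8153 = n12281 := ndS (p := 3888) (l := 4) rfl N3888 D12281
theorem N8154 : nd 8154 = n12282 := ndS (p := 3888) (l := 6) rfl N3888 D12282
theorem N8155 : nd 8155 = n12283 := ndS (p := 3889) (l := 3) rfl N3889 D12283
theorem N8156 : nd 8156 = n12284 := ndS (p := 3889) (l := 5) rfl N3889 D12284
theorem N8157 : nd 8157 = n12286 := ndS (p := 3890) (l := 0) rfl N3890 D12286
theorem N8158 : nd 8158 = n12287 := ndS (p := 3890) (l := 1) rfl N3890 D12287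
theorem N8159 : nd 8159 = n12288 := ndS (p := 3890) (l := 7) rfl N3890 D12288
theorem N8160 : nd 8160 = n12289 := ndS (p := 3893) (l := 4) rfl N3893 D12289
theorem N8161 : nd 8161 = n12290 := ndS (p := 3893) (l := 5) rfl N3893 D12290
theorem N8162 : nd 8162 = n12291 := ndS (p := 3894) (l := 0) rfl N3894 D12291
theorem N8163 : nd 8163 = n12292 := ndS (p := 3894) (l := 4) rfl N3894 D12292
theorem N8164 : nd 8164 = n12293 := ndS (p := 3894) (l := 6) rfl N3894 D12293
theorem N8165 : nd 8165 = n12295 := ndS (p := 3896) (l := 3) rfl N3896 D12295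
theorem N8166 : nd 8166 = n12296 := ndS (p := 3896) (l := 5) rfl N3896 D12296
theorem N8167 : nd 8167 = n12297 := ndS (p := 3896) (l := 6) rfl N3896 D12297
theorem N8168 : nd 8168 = n12298 := ndS (p := 3897) (l := 0) rfl N3897 D12298
theorem N8169 : nd 8169 = n12299 := ndS (p := 3897) (l := 7) rfl N3897 D12299
theorem N8170 : nd 8170 = n12300 := ndS (p := 3898) (l := 4) rfl N3898 D12300
theorem N8171 : nd 8171 = n12301 := ndS (p := 3898) (l := 6) rfl N3898 D12301
theorem N8172 : nd 8172 = n12302 := ndS (p := 3899) (l := 3) rfl N3899 D12302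
theorem N8173 : nd 8173 = n12303 := ndS (p := 3899) (l := 5) rfl N3899 D12303
theorem N8174 : nd 8174 = n12304 := ndS (p := 3899) (l := 6) rfl N3899 D12304
theorem N8175 : nd 8175 = n12305 := ndS (p := 3900) (l := 0) rfl N3900 D12305
theorem N8176 : nd 8176 = n12306 := ndS (p := 3900) (l := 1) rfl N3900 D12306
theorem N8177 : nd 8177 = n12307 := ndS (p := 3900) (l := 5) rfl N3900 D12307
theorem N8178 : nd 8178 = n12308 := ndS (p := 3900) (l := 7) rfl N3900 D12308
theorem N8179 : nd 8179 = n12309 := ndS (p := 3901) (l := 2) rfl N3901 D12309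
theorem N8180 : nd 8180 = n12310 := ndS (p := 3901) (l := 4) rfl N3901 D12310
theorem N8181 : nd 8181 = n12311 := ndS (p := 3901) (l := 6) rfl N3901 D12311
theorem N8182 : nd 8182 = n12312 := ndS (p := 3902) (l := 3) rfl N3902 D12312
theorem N8183 : nd 8183 = n12313 := ndS (p := 3902) (l := 5) rfl N3902 D12313
theorem N8184 : nd 8184 = n12314 := ndS (p := 3902) (l := 6) rfl N3902 D12314
theorem N8185 : nd 8185 = n12315 := ndS (p := 3903) (l := 0) rfl N3903 D12315
theorem N8186 : nd 8186 = n12316 := ndS (p := 3903) (l := 1) rfl N3903 D12316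
theorem N8187 : nd 8187 = n12317 := ndS (p := 3903) (l := 7) rfl N3903 D12317
theorem N8188 : nd 8188 = n12318 := ndS (p := 3904) (l := 3) rfl N3904 D12318
theorem N8189 : nd 8189 = n12319 := ndS (p := 3904) (l := 5) rfl N3904 D12319
theorem N8190 : nd 8190 = n12320 := ndS (p := 3904) (l := 6) rfl N3904 D12320
theorem N8191 : nd 8191 = n12321 := ndS (p := 3905) (l := 3) rfl N3905 D12321
theorem N8192 : nd 8192 = n12322 := ndS (p := 3905) (l := 5) rfl N3905 D12322
theorem N8193 : nd 8193 = n12323 := ndS (p := 3905) (l := 6) rfl N3905 D12323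
theorem N8194 : nd 8194 = n12324 := ndS (p := 3906) (l := 0) rfl N3906 D12324
theorem N8195 : nd 8195 = n12325 := ndS (p := 3906) (l := 1) rfl N3906 D12325
theorem N8196 : nd 8196 = n12326 := ndS (p := 3906) (l := 2) rfl N3906 D12326
theorem N8197 : nd 8197 = n12327 := ndS (p := 3906) (l := 5) rfl N3906 D12327
theorem N8198 : nd 8198 = n12328 := ndS (p := 3906) (l := 7) rfl N3906 D12328
theorem N8199 : nd 8199 = n12329 := ndS (p := 3907) (l := 0) rfl N3907 D12329
theorem N8200 : nd 8200 = n12330 := ndS (p := 3907) (l := 1) rfl N3907 D12330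
theorem N8201 : nd 8201 = n12331 := ndS (p := 3907) (l := 6) rfl N3907 D12331
theorem N8202 : nd 8202 = n12332 := ndS (p := 3908) (l := 6) rfl N3908 D12332
theorem N8203 : nd 8203 = n12333 := ndS (p := 3909) (l := 0) rfl N3909 D12333
theorem N8204 : nd 8204 = n12334 := ndS (p := 3909) (l := 1) rfl N3909 D12334
theorem N8205 : nd 8205 = n12337 := ndS (p := 3914) (l := 3) rfl N3914 D12337
theorem N8206 : nd 8206 = n12338 := ndS (p := 3914) (l := 6) rfl N3914 D12338
theorem N8207 : nd 8207 = n12339 := ndS (p := 3915) (l := 3) rfl N3915 D12339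
theorem N8208 : nd 8208 = n12340 := ndS (p := 3915) (l := 6) rfl N3915 D12340
theorem N8209 : nd 8209 = n12341 := ndS (p := 3916) (l := 0) rfl N3916 D12341
theorem N8210 : nd 8210 = n12342 := ndS (p := 3916) (l := 1) rfl N3916 D12342
theorem N8211 : nd 8211 = n12343 := ndS (p := 3916) (l := 7) rfl N3916 D12343
theorem N8212 : nd 8212 = n12344 := ndS (p := 3918) (l := 3) rfl N3918 D12344
theorem N8213 : nd 8213 = n12345 := ndS (p := 3919) (l := 3) rfl N3919 D12345
theorem N8214 : nd 8214 = n12346 := ndS (p := 3920) (l := 3) rfl N3920 D12346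
theorem N8215 : nd 8215 = n12350 := ndS (p := 3921) (l := 5) rfl N3921 D12350
theorem N8216 : nd 8216 = n12352 := ndS (p := 3922) (l := 6) rfl N3922 D12352
theorem N8217 : nd 8217 = n12353 := ndS (p := 3923) (l := 1) rfl N3923 D12353
theorem N8218 : nd 8218 = n12354 := ndS (p := 3923) (l := 5) rfl N3923 D12354
theorem N8219 : nd 8219 = n12355 := ndS (p := 3924) (l := 4) rfl N3924 D12355
theorem N8220 : nd 8220 = n12356 := ndS (p := 3925) (l := 4) rfl N3925 D12356
theorem N8221 : nd 8221 = n12357 := ndS (p := 3926) (l := 5) rfl N3926 D12357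
theorem N8222 : nd 8222 = n12358 := ndS (p := 3927) (l := 0) rfl N3927 D12358
theorem N8223 : nd 8223 = n12359 := ndS (p := 3927) (l := 1) rfl N3927 D12359
theorem N8224 : nd 8224 = n12360 := ndS (p := 3927) (l := 4) rfl N3927 D12360
theorem N8225 : nd 8225 = n12361 := ndS (p := 3927) (l := 6) rfl N3927 D12361
theorem N8226 : nd 8226 = n12362 := ndS (p := 3928) (l := 0) rfl N3928 D12362
theorem N8227 : nd 8227 = n12363 := ndS (p := 3928) (l := 1) rfl N3928 D12363
theorem N8228 : nd 8228 = n12364 := ndS (p := 3929) (l := 3) rfl N3929 D12364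
theorem N8229 : nd 8229 = n12365 := ndS (p := 3929) (l := 6) rfl N3929 D12365
theorem N8230 : nd 8230 = n12366 := ndS (p := 3930) (l := 0) rfl N3930 D12366
theorem N8231 : nd 8231 = n12367 := ndS (p := 3930) (l := 1) rfl N3930 D12367
theorem N8232 : nd 8232 = n12368 := ndS (p := 3930) (l := 7) rfl N3930 D12368
theorem N8233 : nd 8233 = n12369 := ndS (p := 3931) (l := 0) rfl N3931 D12369
theorem N8234 : nd 8234 = n12370 := ndS (p := 3931) (l := 1) rfl N3931 D12370
theorem N8235 : nd 8235 = n12371 := ndS (p := 3931) (l := 2) rfl N3931 D12371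
theorem N8236 : nd 8236 = n12372 := ndS (p := 3931) (l := 5) rfl N3931 D12372
theorem N8237 : nd 8237 = n12373 := ndS (p := 3932) (l := 6) rfl N3932 D12373
theorem N8238 : nd 8238 = n12378 := ndS (p := 3935) (l := 0) rfl N3935 D12378
theorem N8239 : nd 8239 = n12379 := ndS (p := 3935) (l := 1) rfl N3935 D12379
theorem N8240 : nd 8240 = n12381 := ndS (p := 3935) (l := 5) rfl N3935 D12381
theorem N8241 : nd 8241 = n12383 := ndS (p := 3936) (l := 6) rfl N3936 D12383
theorem N8242 : nd 8242 = n12388 := ndS (p := 3937) (l := 4) rfl N3937 D12388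
theorem N8243 : nd 8243 = n12389 := ndS (p := 3938) (l := 4) rfl N3938 D12389
theorem N8244 : nd 8244 = n12390 := ndS (p := 3940) (l := 0) rfl N3940 D12390
theorem N8245 : nd 8245 = n12391 := ndS (p := 3940) (l := 1) rfl N3940 D12391
theorem N8246 : nd 8246 = n12392 := ndS (p := 3940) (l := 2) rfl N3940 D12392
theorem N8247 : nd 8247 = n12393 := ndS (p := 3940) (l := 5) rfl N3940 D12393
theorem N8248 : nd 8248 = n12394 := ndS (p := 3940) (l := 6) rfl N3940 D12394
theorem N8249 : nd 8249 = n12395 := ndS (p := 3941) (l := 6) rfl N3941 D12395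
theorem N8250 : nd 8250 = n12396 := ndS (p := 3942) (l := 5) rfl N3942 D12396
theorem N8251 : nd 8251 = n12397 := ndS (p := 3942) (l := 7) rfl N3942 D12397
theorem N8252 : nd 8252 = n12398 := ndS (p := 3943) (l := 4) rfl N3943 D12398
theorem N8253 : nd 8253 = n12399 := ndS (p := 3945) (l := 0) rfl N3945 D12399
theorem N8254 : nd 8254 = n12400 := ndS (p := 3945) (l := 1) rfl N3945 D12400
theorem N8255 : nd 8255 = n12401 := ndS (p := 3945) (l := 2) rfl N3945 D12401
theorem N8256 : nd 8256 = n12402 := ndS (p := 3945) (l := 5) rfl N3945 D12402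
theorem N8257 : nd 8257 = n12403 := ndS (p := 3945) (l := 6) rfl N3945 D12403
theorem N8258 : nd 8258 = n12404 := ndS (p := 3946) (l := 6) rfl N3946 D12404
theorem N8259 : nd 8259 = n12405 := ndS (p := 3947) (l := 5) rfl N3947 D12405
theorem N8260 : nd 8260 = n12406 := ndS (p := 3947) (l := 7) rfl N3947 D12406
theorem N8261 : nd 8261 = n12407 := ndS (p := 3948) (l := 0) rfl N3948 D12407
theorem N8262 : nd 8262 = n12408 := ndS (p := 3948) (l := 1) rfl N3948 D12408
theorem N8263 : nd 8263 = n12409 := ndS (p := 3948) (l := 2) rfl N3948 D12409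
theorem N8264 : nd 8264 = n12410 := ndS (p := 3948) (l := 4) rfl N3948 D12410
theorem N8265 : nd 8265 = n12411 := ndS (p := 3948) (l := 5) rfl N3948 D12411
theorem N8266 : nd 8266 = n12412 := ndS (p := 3948) (l := 6) rfl N3948 D12412
theorem N8267 : nd 8267 = n12413 := ndS (p := 3949) (l := 6) rfl N3949 D12413
theorem N8268 : nd 8268 = n12414 := ndS (p := 3950) (l := 5) rfl N3950 D12414
theorem N8269 : nd 8269 = n12415 := ndS (p := 3950) (l := 7) rfl N3950 D12415
theorem N8270 : nd 8270 = n12416 := ndS (p := 3951) (l := 0) rfl N3951 D12416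
theorem N8271 : nd 8271 = n12418 := ndS (p := 3951) (l := 3) rfl N3951 D12418
theorem N8272 : nd 8272 = n12419 := ndS (p := 3951) (l := 4) rfl N3951 D12419
theorem N8273 : nd 8273 = n12420 := ndS (p := 3951) (l := 5) rfl N3951 D12420
theorem N8274 : nd 8274 = n12422 := ndS (p := 3951) (l := 7) rfl N3951 D12422
theorem N8275 : nd 8275 = n12424 := ndS (p := 3952) (l := 4) rfl N3952 D12424
theorem N8276 : nd 8276 = n12425 := ndS (p := 3952) (l := 5) rfl N3952 D12425
theorem N8277 : nd 8277 = n12426 := ndS (p := 3952) (l := 6) rfl N3952 D12426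
theorem N8278 : nd 8278 = n12429 := ndS (p := 3953) (l := 5) rfl N3953 D12429
theorem N8279 : nd 8279 = n12430 := ndS (p := 3954) (l := 0) rfl N3954 D12430
theorem N8280 : nd 8280 = n12431 := ndS (p := 3954) (l := 1) rfl N3954 D12431
theorem N8281 : nd 8281 = n12432 := ndS (p := 3954) (l := 4) rfl N3954 D12432
theorem N8282 : nd 8282 = n12433 := ndS (p := 3954) (l := 6) rfl N3954 D12433
theorem N8283 : nd 8283 = n12434 := ndS (p := 3954) (l := 7) rfl N3954 D12434
theorem N8284 : nd 8284 = n12435 := ndS (p := 3955) (l := 6) rfl N3955 D12435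
theorem N8285 : nd 8285 = n12436 := ndS (p := 3956) (l := 3) rfl N3956 D12436
theorem N8286 : nd 8286 = n12437 := ndS (p := 3956) (l := 6) rfl N3956 D12437
theorem N8287 : nd 8287 = n12438 := ndS (p := 3957) (l := 3) rfl N3957 D12438
theorem N8288 : nd 8288 = n12439 := ndS (p := 3957) (l := 6) rfl N3957 D12439
theorem N8289 : nd 8289 = n12440 := ndS (p := 3958) (l := 3) rfl N3958 D12440
theorem N8290 : nd 8290 = n12441 := ndS (p := 3958) (l := 6) rfl N3958 D12441
theorem N8291 : nd 8291 = n12442 := ndS (p := 3959) (l := 0) rfl N3959 D12442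
theorem N8292 : nd 8292 = n12443 := ndS (p := 3959) (l := 1) rfl N3959 D12443
theorem N8293 : nd 8293 = n12444 := ndS (p := 3959) (l := 7) rfl N3959 D12444
theorem N8294 : nd 8294 = n12445 := ndS (p := 3960) (l := 6) rfl N3960 D12445
theorem N8295 : nd 8295 = n12446 := ndS (p := 3961) (l := 5) rfl N3961 D12446
theorem N8296 : nd 8296 = n12458 := ndS (p := 3964) (l := 6) rfl N3964 D12458
theorem N8297 : nd 8297 = n12469 := ndS (p := 3965) (l := 5) rfl N3965 D12469
theorem N8298 : nd 8298 = n12471 := ndS (p := 3966) (l := 0) rfl N3966 D12471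
theorem N8299 : nd 8299 = n12472 := ndS (p := 3966) (l := 1) rfl N3966 D12472
theorem N8300 : nd 8300 = n12473 := ndS (p := 3966) (l := 4) rfl N3966 D12473
theorem N8301 : nd 8301 = n12474 := ndS (p := 3966) (l := 6) rfl N3966 D12474
theorem N8302 : nd 8302 = n12477 := ndS (p := 3967) (l := 5) rfl N3967 D12477
theorem N8303 : nd 8303 = n12481 := ndS (p := 3968) (l := 5) rfl N3968 D12481
theorem N8304 : nd 8304 = n12482 := ndS (p := 3968) (l := 7) rfl N3968 D12482
theorem N8305 : nd 8305 = n12483 := ndS (p := 3969) (l := 0) rfl N3969 D12483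
theorem N8306 : nd 8306 = n12484 := ndS (p := 3969) (l := 1) rfl N3969 D12484
theorem N8307 : nd 8307 = n12485 := ndS (p := 3969) (l := 4) rfl N3969 D12485
theorem N8308 : nd 8308 = n12487 := ndS (p := 3970) (l := 3) rfl N3970 D12487
theorem N8309 : nd 8309 = n12488 := ndS (p := 3970) (l := 5) rfl N3970 D12488
theorem N8310 : nd 8310 = n12489 := ndS (p := 3971) (l := 4) rfl N3971 D12489
theorem N8311 : nd 8311 = n12490 := ndS (p := 3972) (l := 3) rfl N3972 D12490
theorem N8312 : nd 8312 = n12491 := ndS (p := 3972) (l := 5) rfl N3972 D12491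
theorem N8313 : nd 8313 = n12492 := ndS (p := 3972) (l := 6) rfl N3972 D12492
theorem N8314 : nd 8314 = n12493 := ndS (p := 3973) (l := 4) rfl N3973 D12493
theorem N8315 : nd 8315 = n12495 := ndS (p := 3975) (l := 3) rfl N3975 D12495
theorem N8316 : nd 8316 = n12496 := ndS (p := 3975) (l := 4) rfl N3975 D12496
theorem N8317 : nd 8317 = n12498 := ndS (p := 3975) (l := 6) rfl N3975 D12498
theorem N8318 : nd 8318 = n12500 := ndS (p := 3976) (l := 3) rfl N3976 D12500
theorem N8319 : nd 8319 = n12503 := ndS (p := 3977) (l := 5) rfl N3977 D12503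
theorem N8320 : nd 8320 = n12505 := ndS (p := 3978) (l := 0) rfl N3978 D12505
theorem N8321 : nd 8321 = n12506 := ndS (p := 3978) (l := 1) rfl N3978 D12506
theorem N8322 : nd 8322 = n12507 := ndS (p := 3978) (l := 4) rfl N3978 D12507
theorem N8323 : nd 8323 = n12508 := ndS (p := 3978) (l := 6) rfl N3978 D12508
theorem N8324 : nd 8324 = n12515 := ndS (p := 3979) (l := 5) rfl N3979 D12515
theorem N8325 : nd 8325 = n12516 := ndS (p := 3979) (l := 7) rfl N3979 D12516
theorem N8326 : nd 8326 = n12519 := ndS (p := 3980) (l := 4) rfl N3980 D12519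
theorem N8327 : nd 8327 = n12522 := ndS (p := 3981) (l := 5) rfl N3981 D12522
theorem N8328 : nd 8328 = n12523 := ndS (p := 3982) (l := 3) rfl N3982 D12523
theorem N8329 : nd 8329 = n12524 := ndS (p := 3982) (l := 5) rfl N3982 D12524
theorem N8330 : nd 8330 = n12531 := ndS (p := 3983) (l := 3) rfl N3983 D12531
theorem N8331 : nd 8331 = n12536 := ndS (p := 3984) (l := 3) rfl N3984 D12536
theorem N8332 : nd 8332 = n12540 := ndS (p := 3985) (l := 5) rfl N3985 D12540
theorem N8333 : nd 8333 = n12543 := ndS (p := 3986) (l := 6) rfl N3986 D12543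
theorem N8334 : nd 8334 = n12546 := ndS (p := 3987) (l := 7) rfl N3987 D12546
theorem N8335 : nd 8335 = n12548 := ndS (p := 3988) (l := 3) rfl N3988 D12548
theorem N8336 : nd 8336 = n12552 := ndS (p := 3989) (l := 3) rfl N3989 D12552
theorem N8337 : nd 8337 = n12554 := ndS (p := 3989) (l := 6) rfl N3989 D12554
theorem N8338 : nd 8338 = n12555 := ndS (p := 3990) (l := 5) rfl N3990 D12555
theorem N8339 : nd 8339 = n12556 := ndS (p := 3990) (l := 6) rfl N3990 D12556
theorem N8340 : nd 8340 = n12559 := ndS (p := 3991) (l := 4) rfl N3991 D12559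
theorem N8341 : nd 8341 = n12560 := ndS (p := 3991) (l := 6) rfl N3991 D12560
theorem N8342 : nd 8342 = n12562 := ndS (p := 3992) (l := 1) rfl N3992 D12562
theorem N8343 : nd 8343 = n12563 := ndS (p := 3992) (l := 5) rfl N3992 D12563
theorem N8344 : nd 8344 = n12564 := ndS (p := 3992) (l := 7) rfl N3992 D12564
theorem N8345 : nd 8345 = n12567 := ndS (p := 3993) (l := 5) rfl N3993 D12567
theorem N8346 : nd 8346 = n12568 := ndS (p := 3993) (l := 7) rfl N3993 D12568
theorem N8347 : nd 8347 = n12569 := ndS (p := 3994) (l := 3) rfl N3994 D12569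
theorem N8348 : nd 8348 = n12570 := ndS (p := 3994) (l := 5) rfl N3994 D12570
theorem N8349 : nd 8349 = n12571 := ndS (p := 3995) (l := 3) rfl N3995 D12571
theorem N8350 : nd 8350 = n12572 := ndS (p := 3995) (l := 5) rfl N3995 D12572
theorem N8351 : nd 8351 = n12573 := ndS (p := 3996) (l := 0) rfl N3996 D12573
theorem N8352 : nd 8352 = n12576 := ndS (p := 3996) (l := 7) rfl N3996 D12576
theorem N8353 : nd 8353 = n12577 := ndS (p := 3998) (l := 3) rfl N3998 D12577
theorem N8354 : nd 8354 = n12578 := ndS (p := 3998) (l := 5) rfl N3998 D12578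
theorem N8355 : nd 8355 = n12579 := ndS (p := 3999) (l := 3) rfl N3999 D12579
theorem N8356 : nd 8356 = n12580 := ndS (p := 3999) (l := 5) rfl N3999 D12580
theorem N8357 : nd 8357 = n12583 := ndS (p := 4000) (l := 4) rfl N4000 D12583
theorem N8358 : nd 8358 = n12584 := ndS (p := 4000) (l := 5) rfl N4000 D12584
theorem N8359 : nd 8359 = n12588 := ndS (p := 4001) (l := 4) rfl N4001 D12588
theorem N8360 : nd 8360 = n12589 := ndS (p := 4001) (l := 5) rfl N4001 D12589
theorem N8361 : nd 8361 = n12591 := ndS (p := 4002) (l := 5) rfl N4002 D12591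
theorem N8362 : nd 8362 = n12592 := ndS (p := 4002) (l := 6) rfl N4002 D12592
theorem N8363 : nd 8363 = n12595 := ndS (p := 4003) (l := 4) rfl N4003 D12595
theorem N8364 : nd 8364 = n12596 := ndS (p := 4003) (l := 6) rfl N4003 D12596
theorem N8365 : nd 8365 = n12597 := ndS (p := 4004) (l := 0) rfl N4004 D12597
theorem N8366 : nd 8366 = n12598 := ndS (p := 4004) (l := 1) rfl N4004 D12598
theorem N8367 : nd 8367 = n12599 := ndS (p := 4004) (l := 5) rfl N4004 D12599
theorem N8368 : nd 8368 = n12600 := ndS (p := 4004) (l := 7) rfl N4004 D12600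
theorem N8369 : nd 8369 = n12601 := ndS (p := 4005) (l := 0) rfl N4005 D12601
theorem N8370 : nd 8370 = n12602 := ndS (p := 4005) (l := 1) rfl N4005 D12602
theorem N8371 : nd 8371 = n12603 := ndS (p := 4005) (l := 5) rfl N4005 D12603
theorem N8372 : nd 8372 = n12604 := ndS (p := 4005) (l := 7) rfl N4005 D12604
theorem N8373 : nd 8373 = n12605 := ndS (p := 4006) (l := 4) rfl N4006 D12605
theorem N8374 : nd 8374 = n12606 := ndS (p := 4006) (l := 7) rfl N4006 D12606
theorem N8375 : nd 8375 = n12608 := ndS (p := 4008) (l := 4) rfl N4008 D12608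
theorem N8376 : nd 8376 = n12609 := ndS (p := 4008) (l := 5) rfl N4008 D12609
theorem N8377 : nd 8377 = n12612 := ndS (p := 4009) (l := 3) rfl N4009 D12612
theorem N8378 : nd 8378 = n12613 := ndS (p := 4009) (l := 4) rfl N4009 D12613
theorem N8379 : nd 8379 = n12614 := ndS (p := 4009) (l := 5) rfl N4009 D12614
theorem N8380 : nd 8380 = n12615 := ndS (p := 4009) (l := 6) rfl N4009 D12615
theorem N8381 : nd 8381 = n12616 := ndS (p := 4010) (l := 4) rfl N4010 D12616
theorem N8382 : nd 8382 = n12617 := ndS (p := 4010) (l := 5) rfl N4010 D12617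
theorem N8383 : nd 8383 = n12618 := ndS (p := 4010) (l := 6) rfl N4010 D12618
theorem N8384 : nd 8384 = n12619 := ndS (p := 4011) (l := 0) rfl N4011 D12619
theorem N8385 : nd 8385 = n12620 := ndS (p := 4011) (l := 1) rfl N4011 D12620
theorem N8386 : nd 8386 = n12621 := ndS (p := 4011) (l := 5) rfl N4011 D12621
theorem N8387 : nd 8387 = n12622 := ndS (p := 4011) (l := 6) rfl N4011 D12622
theorem N8388 : nd 8388 = n12625 := ndS (p := 4012) (l := 4) rfl N4012 D12625
theorem N8389 : nd 8389 = n12626 := ndS (p := 4012) (l := 6) rfl N4012 D12626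
theorem N8390 : nd 8390 = n12627 := ndS (p := 4013) (l := 0) rfl N4013 D12627
theorem N8391 : nd 8391 = n12628 := ndS (p := 4013) (l := 1) rfl N4013 D12628
theorem N8392 : nd 8392 = n12629 := ndS (p := 4013) (l := 5) rfl N4013 D12629
theorem N8393 : nd 8393 = n12630 := ndS (p := 4013) (l := 7) rfl N4013 D12630
theorem N8394 : nd 8394 = n12631 := ndS (p := 4014) (l := 0) rfl N4014 D12631
theorem N8395 : nd 8395 = n12632 := ndS (p := 4014) (l := 1) rfl N4014 D12632
theorem N8396 : nd 8396 = n12633 := ndS (p := 4014) (l := 5) rfl N4014 D12633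
theorem N8397 : nd 8397 = n12634 := ndS (p := 4014) (l := 7) rfl N4014 D12634
theorem N8398 : nd 8398 = n12635 := ndS (p := 4015) (l := 0) rfl N4015 D12635
theorem N8399 : nd 8399 = n12638 := ndS (p := 4015) (l := 7) rfl N4015 D12638
theorem N8400 : nd 8400 = n12639 := ndS (p := 4017) (l := 6) rfl N4017 D12639
theorem N8401 : nd 8401 = n12643 := ndS (p := 4018) (l := 4) rfl N4018 D12643
theorem N8402 : nd 8402 = n12644 := ndS (p := 4018) (l := 5) rfl N4018 D12644
theorem N8403 : nd 8403 = n12647 := ndS (p := 4019) (l := 1) rfl N4019 D12647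
theorem N8404 : nd 8404 = n12648 := ndS (p := 4019) (l := 2) rfl N4019 D12648
theorem N8405 : nd 8405 = n12649 := ndS (p := 4019) (l := 4) rfl N4019 D12649
theorem N8406 : nd 8406 = n12650 := ndS (p := 4019) (l := 5) rfl N4019 D12650
theorem N8407 : nd 8407 = n12651 := ndS (p := 4019) (l := 6) rfl N4019 D12651
theorem N8408 : nd 8408 = n12652 := ndS (p := 4019) (l := 7) rfl N4019 D12652
theorem N8409 : nd 8409 = n12653 := ndS (p := 4020) (l := 0) rfl N4020 D12653
theorem N8410 : nd 8410 = n12654 := ndS (p := 4020) (l := 1) rfl N4020 D12654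
theorem N8411 : nd 8411 = n12655 := ndS (p := 4020) (l := 3) rfl N4020 D12655
theorem N8412 : nd 8412 = n12656 := ndS (p := 4020) (l := 5) rfl N4020 D12656
theorem N8413 : nd 8413 = n12657 := ndS (p := 4020) (l := 6) rfl N4020 D12657
theorem N8414 : nd 8414 = n12658 := ndS (p := 4020) (l := 7) rfl N4020 D12658
theorem N8415 : nd 8415 = n12659 := ndS (p := 4021) (l := 0) rfl N4021 D12659
theorem N8416 : nd 8416 = n12661 := ndS (p := 4021) (l := 4) rfl N4021 D12661
theorem N8417 : nd 8417 = n12662 := ndS (p := 4021) (l := 6) rfl N4021 D12662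
theorem N8418 : nd 8418 = n12663 := ndS (p := 4021) (l := 7) rfl N4021 D12663
theorem N8419 : nd 8419 = n12664 := ndS (p := 4022) (l := 0) rfl N4022 D12664
theorem N8420 : nd 8420 = n12666 := ndS (p := 4022) (l := 5) rfl N4022 D12666
theorem N8421 : nd 8421 = n12667 := ndS (p := 4022) (l := 7) rfl N4022 D12667
theorem N8422 : nd 8422 = n12668 := ndS (p := 4023) (l := 6) rfl N4023 D12668
theorem N8423 : nd 8423 = n12671 := ndS (p := 4024) (l := 2) rfl N4024 D12671
theorem N8424 : nd 8424 = n12673 := ndS (p := 4024) (l := 5) rfl N4024 D12673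
theorem N8425 : nd 8425 = n12675 := ndS (p := 4025) (l := 3) rfl N4025 D12675
theorem N8426 : nd 8426 = n12676 := ndS (p := 4025) (l := 5) rfl N4025 D12676
theorem N8427 : nd 8427 = n12677 := ndS (p := 4025) (l := 6) rfl N4025 D12677
theorem N8428 : nd 8428 = n12678 := ndS (p := 4026) (l := 4) rfl N4026 D12678
theorem N8429 : nd 8429 = n12679 := ndS (p := 4026) (l := 6) rfl N4026 D12679
theorem N8430 : nd 8430 = n12681 := ndS (p := 4027) (l := 1) rfl N4027 D12681
theorem N8431 : nd 8431 = n12682 := ndS (p := 4027) (l := 5) rfl N4027 D12682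
theorem N8432 : nd 8432 = n12683 := ndS (p := 4027) (l := 7) rfl N4027 D12683
theorem N8433 : nd 8433 = n12694 := ndS (p := 4028) (l := 4) rfl N4028 D12694
theorem N8434 : nd 8434 = n12695 := ndS (p := 4028) (l := 6) rfl N4028 D12695
theorem N8435 : nd 8435 = n12697 := ndS (p := 4029) (l := 3) rfl N4029 D12697
theorem N8436 : nd 8436 = n12698 := ndS (p := 4029) (l := 4) rfl N4029 D12698
theorem N8437 : nd 8437 = n12700 := ndS (p := 4029) (l := 6) rfl N4029 D12700
theorem N8438 : nd 8438 = n12703 := ndS (p := 4030) (l := 4) rfl N4030 D12703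
theorem N8439 : nd 8439 = n12705 := ndS (p := 4030) (l := 6) rfl N4030 D12705
theorem N8440 : nd 8440 = n12706 := ndS (p := 4031) (l := 0) rfl N4031 D12706
theorem N8441 : nd 8441 = n12707 := ndS (p := 4031) (l := 1) rfl N4031 D12707
theorem N8442 : nd 8442 = n12708 := ndS (p := 4031) (l := 5) rfl N4031 D12708
theorem N8443 : nd 8443 = n12709 := ndS (p := 4031) (l := 6) rfl N4031 D12709
theorem N8444 : nd 8444 = n12710 := ndS (p := 4032) (l := 0) rfl N4032 D12710
theorem N8445 : nd 8445 = n12711 := ndS (p := 4032) (l := 1) rfl N4032 D12711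
theorem N8446 : nd 8446 = n12712 := ndS (p := 4032) (l := 7) rfl N4032 D12712
theorem N8447 : nd 8447 = n12713 := ndS (p := 4033) (l := 0) rfl N4033 D12713
theorem N8448 : nd 8448 = n12715 := ndS (p := 4033) (l := 5) rfl N4033 D12715
theorem N8449 : nd 8449 = n12718 := ndS (p := 4034) (l := 2) rfl N4034 D12718
theorem N8450 : nd 8450 = n12719 := ndS (p := 4034) (l := 4) rfl N4034 D12719
theorem N8451 : nd 8451 = n12720 := ndS (p := 4034) (l := 6) rfl N4034 D12720
theorem N8452 : nd 8452 = n12721 := ndS (p := 4035) (l := 0) rfl N4035 D12721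
theorem N8453 : nd 8453 = n12722 := ndS (p := 4035) (l := 1) rfl N4035 D12722
theorem N8454 : nd 8454 = n12723 := ndS (p := 4035) (l := 5) rfl N4035 D12723
theorem N8455 : nd 8455 = n12724 := ndS (p := 4035) (l := 7) rfl N4035 D12724
theorem N8456 : nd 8456 = n12727 := ndS (p := 4036) (l := 2) rfl N4036 D12727
theorem N8457 : nd 8457 = n12728 := ndS (p := 4036) (l := 4) rfl N4036 D12728
theorem N8458 : nd 8458 = n12729 := ndS (p := 4036) (l := 6) rfl N4036 D12729
theorem N8459 : nd 8459 = n12730 := ndS (p := 4037) (l := 0) rfl N4037 D12730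
theorem N8460 : nd 8460 = n12731 := ndS (p := 4037) (l := 1) rfl N4037 D12731
theorem N8461 : nd 8461 = n12732 := ndS (p := 4037) (l := 5) rfl N4037 D12732
theorem N8462 : nd 8462 = n12733 := ndS (p := 4037) (l := 7) rfl N4037 D12733
theorem N8463 : nd 8463 = n12735 := ndS (p := 4038) (l := 3) rfl N4038 D12735
theorem N8464 : nd 8464 = n12737 := ndS (p := 4038) (l := 5) rfl N4038 D12737
theorem N8465 : nd 8465 = n12738 := ndS (p := 4038) (l := 6) rfl N4038 D12738
theorem N8466 : nd 8466 = n12740 := ndS (p := 4039) (l := 3) rfl N4039 D12740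
theorem N8467 : nd 8467 = n12742 := ndS (p := 4039) (l := 5) rfl N4039 D12742
theorem N8468 : nd 8468 = n12745 := ndS (p := 4041) (l := 5) rfl N4041 D12745
theorem N8469 : nd 8469 = n12746 := ndS (p := 4042) (l := 3) rfl N4042 D12746
theorem N8470 : nd 8470 = n12747 := ndS (p := 4042) (l := 5) rfl N4042 D12747
theorem N8471 : nd 8471 = n12749 := ndS (p := 4043) (l := 0) rfl N4043 D12749
theorem N8472 : nd 8472 = n12750 := ndS (p := 4043) (l := 1) rfl N4043 D12750
theorem N8473 : nd 8473 = n12751 := ndS (p := 4043) (l := 4) rfl N4043 D12751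
theorem N8474 : nd 8474 = n12753 := ndS (p := 4044) (l := 5) rfl N4044 D12753
theorem N8475 : nd 8475 = n12755 := ndS (p := 4045) (l := 5) rfl N4045 D12755
theorem N8476 : nd 8476 = n12756 := ndS (p := 4046) (l := 4) rfl N4046 D12756
theorem N8477 : nd 8477 = n12758 := ndS (p := 4047) (l := 5) rfl N4047 D12758
theorem N8478 : nd 8478 = n12760 := ndS (p := 4048) (l := 4) rfl N4048 D12760
theorem N8479 : nd 8479 = n12761 := ndS (p := 4050) (l := 0) rfl N4050 D12761
theorem N8480 : nd 8480 = n12762 := ndS (p := 4050) (l := 1) rfl N4050 D12762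
theorem N8481 : nd 8481 = n12763 := ndS (p := 4050) (l := 2) rfl N4050 D12763
theorem N8482 : nd 8482 = n12764 := ndS (p := 4050) (l := 5) rfl N4050 D12764
theorem N8483 : nd 8483 = n12765 := ndS (p := 4051) (l := 6) rfl N4051 D12765
theorem N8484 : nd 8484 = n12768 := ndS (p := 4052) (l := 3) rfl N4052 D12768
theorem N8485 : nd 8485 = n12769 := ndS (p := 4053) (l := 0) rfl N4053 D12769
theorem N8486 : nd 8486 = n12770 := ndS (p := 4053) (l := 1) rfl N4053 D12770
theorem N8487 : nd 8487 = n12771 := ndS (p := 4053) (l := 2) rfl N4053 D12771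
theorem N8488 : nd 8488 = n12772 := ndS (p := 4053) (l := 5) rfl N4053 D12772
theorem N8489 : nd 8489 = n12773 := ndS (p := 4053) (l := 7) rfl N4053 D12773
theorem N8490 : nd 8490 = n12774 := ndS (p := 4054) (l := 4) rfl N4054 D12774
theorem N8491 : nd 8491 = n12775 := ndS (p := 4054) (l := 6) rfl N4054 D12775
theorem N8492 : nd 8492 = n12776 := ndS (p := 4054) (l := 7) rfl N4054 D12776
theorem N8493 : nd 8493 = n12778 := ndS (p := 4056) (l := 3) rfl N4056 D12778
theorem N8494 : nd 8494 = n12779 := ndS (p := 4056) (l := 4) rfl N4056 D12779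
theorem N8495 : nd 8495 = n12781 := ndS (p := 4056) (l := 6) rfl N4056 D12781
theorem N8496 : nd 8496 = n12790 := ndS (p := 4058) (l := 4) rfl N4058 D12790
theorem N8497 : nd 8497 = n12791 := ndS (p := 4058) (l := 6) rfl N4058 D12791
theorem N8498 : nd 8498 = n12792 := ndS (p := 4059) (l := 0) rfl N4059 D12792
theorem N8499 : nd 8499 = n12793 := ndS (p := 4059) (l := 1) rfl N4059 D12793
theorem N8500 : nd 8500 = n12794 := ndS (p := 4059) (l := 7) rfl N4059 D12794
theorem N8501 : nd 8501 = n12795 := ndS (p := 4060) (l := 0) rfl N4060 D12795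
theorem N8502 : nd 8502 = n12796 := ndS (p := 4060) (l := 5) rfl N4060 D12796
theorem N8503 : nd 8503 = n12797 := ndS (p := 4060) (l := 6) rfl N4060 D12797
theorem N8504 : nd 8504 = n12798 := ndS (p := 4061) (l := 5) rfl N4061 D12798
theorem N8505 : nd 8505 = n12799 := ndS (p := 4062) (l := 6) rfl N4062 D12799
theorem N8506 : nd 8506 = n12800 := ndS (p := 4063) (l := 5) rfl N4063 D12800
theorem N8507 : nd 8507 = n12801 := ndS (p := 4063) (l := 6) rfl N4063 D12801
theorem N8508 : nd 8508 = n12802 := ndS (p := 4064) (l := 5) rfl N4064 D12802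
theorem N8509 : nd 8509 = n12803 := ndS (p := 4065) (l := 4) rfl N4065 D12803
theorem N8510 : nd 8510 = n12804 := ndS (p := 4065) (l := 6) rfl N4065 D12804
theorem N8511 : nd 8511 = n12805 := ndS (p := 4066) (l := 4) rfl N4066 D12805
theorem N8512 : nd 8512 = n12808 := ndS (p := 4067) (l := 4) rfl N4067 D12808
theorem N8513 : nd 8513 = n12809 := ndS (p := 4067) (l := 6) rfl N4067 D12809
theorem N8514 : nd 8514 = n12810 := ndS (p := 4068) (l := 0) rfl N4068 D12810
theorem N8515 : nd 8515 = n12811 := ndS (p := 4068) (l := 1) rfl N4068 D12811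
theorem N8516 : nd 8516 = n12812 := ndS (p := 4068) (l := 3) rfl N4068 D12812
theorem N8517 : nd 8517 = n12813 := ndS (p := 4068) (l := 5) rfl N4068 D12813
theorem N8518 : nd 8518 = n12814 := ndS (p := 4068) (l := 6) rfl N4068 D12814
theorem N8519 : nd 8519 = n12815 := ndS (p := 4069) (l := 0) rfl N4069 D12815
theorem N8520 : nd 8520 = n12816 := ndS (p := 4069) (l := 1) rfl N4069 D12816
theorem N8521 : nd 8521 = n12817 := ndS (p := 4069) (l := 7) rfl N4069 D12817
theorem N8522 : nd 8522 = n12820 := ndS (p := 4070) (l := 2) rfl N4070 D12820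
theorem N8523 : nd 8523 = n12821 := ndS (p := 4070) (l := 6) rfl N4070 D12821
theorem N8524 : nd 8524 = n12822 := ndS (p := 4071) (l := 0) rfl N4071 D12822
theorem N8525 : nd 8525 = n12823 := ndS (p := 4071) (l := 1) rfl N4071 D12823
theorem N8526 : nd 8526 = n12824 := ndS (p := 4071) (l := 5) rfl N4071 D12824
theorem N8527 : nd 8527 = n12825 := ndS (p := 4071) (l := 7) rfl N4071 D12825
theorem N8528 : nd 8528 = n12827 := ndS (p := 4072) (l := 3) rfl N4072 D12827
theorem N8529 : nd 8529 = n12828 := ndS (p := 4072) (l := 4) rfl N4072 D12828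
theorem N8530 : nd 8530 = n12829 := ndS (p := 4072) (l := 5) rfl N4072 D12829
theorem N8531 : nd 8531 = n12830 := ndS (p := 4072) (l := 6) rfl N4072 D12830
theorem N8532 : nd 8532 = n12832 := ndS (p := 4073) (l := 3) rfl N4073 D12832
theorem N8533 : nd 8533 = n12833 := ndS (p := 4073) (l := 4) rfl N4073 D12833
theorem N8534 : nd 8534 = n12834 := ndS (p := 4073) (l := 5) rfl N4073 D12834
theorem N8535 : nd 8535 = n12835 := ndS (p := 4073) (l := 6) rfl N4073 D12835
theorem N8536 : nd 8536 = n12836 := ndS (p := 4075) (l := 3) rfl N4075 D12836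
theorem N8537 : nd 8537 = n12839 := ndS (p := 4077) (l := 4) rfl N4077 D12839
theorem N8538 : nd 8538 = n12843 := ndS (p := 4078) (l := 3) rfl N4078 D12843
theorem N8539 : nd 8539 = n12844 := ndS (p := 4078) (l := 4) rfl N4078 D12844
theorem N8540 : nd 8540 = n12846 := ndS (p := 4078) (l := 6) rfl N4078 D12846
theorem N8541 : nd 8541 = n12847 := ndS (p := 4079) (l := 6) rfl N4079 D12847
theorem N8542 : nd 8542 = n12849 := ndS (p := 4080) (l := 1) rfl N4080 D12849
theorem N8543 : nd 8543 = n12850 := ndS (p := 4080) (l := 5) rfl N4080 D12850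
theorem N8544 : nd 8544 = n12851 := ndS (p := 4080) (l := 7) rfl N4080 D12851
theorem N8545 : nd 8545 = n12852 := ndS (p := 4081) (l := 0) rfl N4081 D12852
theorem N8546 : nd 8546 = n12853 := ndS (p := 4081) (l := 1) rfl N4081 D12853
theorem N8547 : nd 8547 = n12854 := ndS (p := 4081) (l := 4) rfl N4081 D12854
theorem N8548 : nd 8548 = n12855 := ndS (p := 4081) (l := 7) rfl N4081 D12855
theorem N8549 : nd 8549 = n12857 := ndS (p := 4085) (l := 4) rfl N4085 D12857
theorem N8550 : nd 8550 = n12858 := ndS (p := 4085) (l := 5) rfl N4085 D12858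
theorem N8551 : nd 8551 = n12859 := ndS (p := 4085) (l := 6) rfl N4085 D12859
theorem N8552 : nd 8552 = n12860 := ndS (p := 4087) (l := 5) rfl N4087 D12860
theorem N8553 : nd 8553 = n12861 := ndS (p := 4088) (l := 6) rfl N4088 D12861
theorem N8554 : nd 8554 = n12862 := ndS (p := 4093) (l := 4) rfl N4093 D12862
theorem N8555 : nd 8555 = n12863 := ndS (p := 4093) (l := 6) rfl N4093 D12863
theorem N8556 : nd 8556 = n12864 := ndS (p := 4094) (l := 1) rfl N4094 D12864
theorem N8557 : nd 8557 = n12865 := ndS (p := 4094) (l := 5) rfl N4094 D12865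
theorem N8558 : nd 8558 = n12866 := ndS (p := 4094) (l := 7) rfl N4094 D12866
theorem N8559 : nd 8559 = n12867 := ndS (p := 4095) (l := 4) rfl N4095 D12867
theorem N8560 : nd 8560 = n12869 := ndS (p := 4096) (l := 4) rfl N4096 D12869
theorem N8561 : nd 8561 = n12870 := ndS (p := 4096) (l := 6) rfl N4096 D12870
theorem N8562 : nd 8562 = n12871 := ndS (p := 4097) (l := 0) rfl N4097 D12871
theorem N8563 : nd 8563 = n12872 := ndS (p := 4097) (l := 1) rfl N4097 D12872
theorem N8564 : nd 8564 = n12873 := ndS (p := 4097) (l := 5) rfl N4097 D12873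
theorem N8565 : nd 8565 = n12874 := ndS (p := 4097) (l := 6) rfl N4097 D12874
theorem N8566 : nd 8566 = n12875 := ndS (p := 4098) (l := 0) rfl N4098 D12875
theorem N8567 : nd 8567 = n12876 := ndS (p := 4098) (l := 1) rfl N4098 D12876
theorem N8568 : nd 8568 = n12877 := ndS (p := 4098) (l := 5) rfl N4098 D12877
theorem N8569 : nd 8569 = n12878 := ndS (p := 4098) (l := 7) rfl N4098 D12878
theorem N8570 : nd 8570 = n12879 := ndS (p := 4099) (l := 4) rfl N4099 D12879
theorem N8571 : nd 8571 = n12880 := ndS (p := 4099) (l := 5) rfl N4099 D12880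
theorem N8572 : nd 8572 = n12881 := ndS (p := 4100) (l := 4) rfl N4100 D12881
theorem N8573 : nd 8573 = n12882 := ndS (p := 4100) (l := 5) rfl N4100 D12882
theorem N8574 : nd 8574 = n12883 := ndS (p := 4101) (l := 4) rfl N4101 D12883
theorem N8575 : nd 8575 = n12884 := ndS (p := 4101) (l := 7) rfl N4101 D12884
theorem N8576 : nd 8576 = n12886 := ndS (p := 4103) (l := 3) rfl N4103 D12886
theorem N8577 : nd 8577 = n12888 := ndS (p := 4103) (l := 5) rfl N4103 D12888
theorem N8578 : nd 8578 = n12890 := ndS (p := 4104) (l := 3) rfl N4104 D12890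
theorem N8579 : nd 8579 = n12892 := ndS (p := 4104) (l := 5) rfl N4104 D12892
theorem N8580 : nd 8580 = n12894 := ndS (p := 4105) (l := 0) rfl N4105 D12894
theorem N8581 : nd 8581 = n12895 := ndS (p := 4105) (l := 1) rfl N4105 D12895
theorem N8582 : nd 8582 = n12896 := ndS (p := 4105) (l := 4) rfl N4105 D12896
theorem N8583 : nd 8583 = n12897 := ndS (p := 4105) (l := 7) rfl N4105 D12897
theorem N8584 : nd 8584 = n12898 := ndS (p := 4107) (l := 4) rfl N4107 D12898
theorem N8585 : nd 8585 = n12901 := ndS (p := 4108) (l := 1) rfl N4108 D12901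
theorem N8586 : nd 8586 = n12902 := ndS (p := 4108) (l := 2) rfl N4108 D12902
theorem N8587 : nd 8587 = n12903 := ndS (p := 4108) (l := 5) rfl N4108 D12903
theorem N8588 : nd 8588 = n12904 := ndS (p := 4109) (l := 4) rfl N4109 D12904
theorem N8589 : nd 8589 = n12905 := ndS (p := 4109) (l := 6) rfl N4109 D12905
theorem N8590 : nd 8590 = n12906 := ndS (p := 4110) (l := 3) rfl N4110 D12906
theorem N8591 : nd 8591 = n12907 := ndS (p := 4110) (l := 5) rfl N4110 D12907
theorem N8592 : nd 8592 = n12908 := ndS (p := 4111) (l := 6) rfl N4111 D12908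
theorem N8593 : nd 8593 = n12909 := ndS (p := 4112) (l := 1) rfl N4112 D12909
theorem N8594 : nd 8594 = n12910 := ndS (p := 4112) (l := 2) rfl N4112 D12910
theorem N8595 : nd 8595 = n12911 := ndS (p := 4112) (l := 5) rfl N4112 D12911
theorem N8596 : nd 8596 = n12912 := ndS (p := 4113) (l := 4) rfl N4113 D12912
theorem N8597 : nd 8597 = n12913 := ndS (p := 4113) (l := 6) rfl N4113 D12913
theorem N8598 : nd 8598 = n12915 := ndS (p := 4114) (l := 1) rfl N4114 D12915
theorem N8599 : nd 8599 = n12916 := ndS (p := 4115) (l := 0) rfl N4115 D12916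
theorem N8600 : nd 8600 = n12917 := ndS (p := 4115) (l := 1) rfl N4115 D12917
theorem N8601 : nd 8601 = n12918 := ndS (p := 4115) (l := 2) rfl N4115 D12918
theorem N8602 : nd 8602 = n12919 := ndS (p := 4115) (l := 5) rfl N4115 D12919
theorem N8603 : nd 8603 = n12920 := ndS (p := 4115) (l := 6) rfl N4115 D12920
theorem N8604 : nd 8604 = n12921 := ndS (p := 4116) (l := 6) rfl N4116 D12921
theorem N8605 : nd 8605 = n12922 := ndS (p := 4117) (l := 5) rfl N4117 D12922
theorem N8606 : nd 8606 = n12923 := ndS (p := 4117) (l := 7) rfl N4117 D12923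
theorem N8607 : nd 8607 = n12924 := ndS (p := 4118) (l := 5) rfl N4118 D12924
theorem N8608 : nd 8608 = n12925 := ndS (p := 4119) (l := 5) rfl N4119 D12925
theorem N8609 : nd 8609 = n12927 := ndS (p := 4121) (l := 4) rfl N4121 D12927
theorem N8610 : nd 8610 = n12929 := ndS (p := 4121) (l := 6) rfl N4121 D12929
theorem N8611 : nd 8611 = n12931 := ndS (p := 4122) (l := 3) rfl N4122 D12931
theorem N8612 : nd 8612 = n12932 := ndS (p := 4122) (l := 4) rfl N4122 D12932
theorem N8613 : nd 8613 = n12934 := ndS (p := 4122) (l := 6) rfl N4122 D12934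
theorem N8614 : nd 8614 = n12935 := ndS (p := 4123) (l := 6) rfl N4123 D12935
theorem N8615 : nd 8615 = n12936 := ndS (p := 4124) (l := 0) rfl N4124 D12936
theorem N8616 : nd 8616 = n12938 := ndS (p := 4124) (l := 5) rfl N4124 D12938
theorem N8617 : nd 8617 = n12939 := ndS (p := 4124) (l := 7) rfl N4124 D12939
theorem N8618 : nd 8618 = n12940 := ndS (p := 4125) (l := 0) rfl N4125 D12940
theorem N8619 : nd 8619 = n12941 := ndS (p := 4125) (l := 1) rfl N4125 D12941
theorem N8620 : nd 8620 = n12942 := ndS (p := 4125) (l := 4) rfl N4125 D12942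
theorem N8621 : nd 8621 = n12943 := ndS (p := 4125) (l := 7) rfl N4125 D12943
theorem N8622 : nd 8622 = n12945 := ndS (p := 4131) (l := 6) rfl N4131 D12945
theorem N8623 : nd 8623 = n12946 := ndS (p := 4132) (l := 6) rfl N4132 D12946
theorem N8624 : nd 8624 = n12947 := ndS (p := 4133) (l := 5) rfl N4133 D12947
theorem N8625 : nd 8625 = n12948 := ndS (p := 4134) (l := 4) rfl N4134 D12948
theorem N8626 : nd 8626 = n12949 := ndS (p := 4134) (l := 6) rfl N4134 D12949
theorem N8627 : nd 8627 = n12950 := ndS (p := 4135) (l := 5) rfl N4135 D12950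
theorem N8628 : nd 8628 = n12951 := ndS (p := 4136) (l := 3) rfl N4136 D12951
theorem N8629 : nd 8629 = n12952 := ndS (p := 4136) (l := 4) rfl N4136 D12952
theorem N8630 : nd 8630 = n12953 := ndS (p := 4136) (l := 6) rfl N4136 D12953
theorem N8631 : nd 8631 = n12954 := ndS (p := 4137) (l := 3) rfl N4137 D12954
theorem N8632 : nd 8632 = n12955 := ndS (p := 4137) (l := 4) rfl N4137 D12955
theorem N8633 : nd 8633 = n12956 := ndS (p := 4137) (l := 6) rfl N4137 D12956
theorem N8634 : nd 8634 = n12957 := ndS (p := 4138) (l := 0) rfl N4138 D12957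
theorem N8635 : nd 8635 = n12958 := ndS (p := 4138) (l := 1) rfl N4138 D12958
theorem N8636 : nd 8636 = n12959 := ndS (p := 4138) (l := 5) rfl N4138 D12959
theorem N8637 : nd 8637 = n12960 := ndS (p := 4138) (l := 6) rfl N4138 D12960
theorem N8638 : nd 8638 = n12962 := ndS (p := 4139) (l := 1) rfl N4139 D12962
theorem N8639 : nd 8639 = n12963 := ndS (p := 4139) (l := 5) rfl N4139 D12963
theorem N8640 : nd 8640 = n12964 := ndS (p := 4139) (l := 7) rfl N4139 D12964
theorem N8641 : nd 8641 = n12965 := ndS (p := 4140) (l := 3) rfl N4140 D12965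
theorem N8642 : nd 8642 = n12966 := ndS (p := 4140) (l := 4) rfl N4140 D12966
theorem N8643 : nd 8643 = n12967 := ndS (p := 4141) (l := 0) rfl N4141 D12967
theorem N8644 : nd 8644 = n12968 := ndS (p := 4141) (l := 1) rfl N4141 D12968
theorem N8645 : nd 8645 = n12972 := ndS (p := 4143) (l := 3) rfl N4143 D12972
theorem N8646 : nd 8646 = n12974 := ndS (p := 4143) (l := 5) rfl N4143 D12974
theorem N8647 : nd 8647 = n12977 := ndS (p := 4144) (l := 3) rfl N4144 D12977
theorem N8648 : nd 8648 = n12979 := ndS (p := 4144) (l := 5) rfl N4144 D12979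
theorem N8649 : nd 8649 = n12980 := ndS (p := 4144) (l := 6) rfl N4144 D12980
theorem N8650 : nd 8650 = n12981 := ndS (p := 4145) (l := 0) rfl N4145 D12981
theorem N8651 : nd 8651 = n12982 := ndS (p := 4145) (l := 1) rfl N4145 D12982
theorem N8652 : nd 8652 = n12983 := ndS (p := 4145) (l := 4) rfl N4145 D12983
theorem N8653 : nd 8653 = n12984 := ndS (p := 4145) (l := 7) rfl N4145 D12984
theorem N8654 : nd 8654 = n12985 := ndS (p := 4147) (l := 3) rfl N4147 D12985
theorem N8655 : nd 8655 = n12987 := ndS (p := 4149) (l := 5) rfl N4149 D12987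
theorem N8656 : nd 8656 = n12988 := ndS (p := 4149) (l := 6) rfl N4149 D12988
theorem N8657 : nd 8657 = n12989 := ndS (p := 4150) (l := 5) rfl N4150 D12989
theorem N8658 : nd 8658 = n12994 := ndS (p := 4152) (l := 5) rfl N4152 D12994
theorem N8659 : nd 8659 = n13000 := ndS (p := 4154) (l := 3) rfl N4154 D13000
theorem N8660 : nd 8660 = n13002 := ndS (p := 4154) (l := 5) rfl N4154 D13002
theorem N8661 : nd 8661 = n13003 := ndS (p := 4154) (l := 6) rfl N4154 D13003
theorem N8662 : nd 8662 = n13005 := ndS (p := 4155) (l := 3) rfl N4155 D13005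
theorem N8663 : nd 8663 = n13007 := ndS (p := 4155) (l := 6) rfl N4155 D13007
theorem N8664 : nd 8664 = n13008 := ndS (p := 4157) (l := 5) rfl N4157 D13008
theorem N8665 : nd 8665 = n13009 := ndS (p := 4159) (l := 5) rfl N4159 D13009
theorem N8666 : nd 8666 = n13010 := ndS (p := 4160) (l := 4) rfl N4160 D13010
theorem N8667 : nd 8667 = n13013 := ndS (p := 4162) (l := 0) rfl N4162 D13013
theorem N8668 : nd 8668 = n13014 := ndS (p := 4162) (l := 1) rfl N4162 D13014
theorem N8669 : nd 8669 = n13015 := ndS (p := 4162) (l := 5) rfl N4162 D13015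
theorem N8670 : nd 8670 = n13024 := ndS (p := 4164) (l := 3) rfl N4164 D13024
theorem N8671 : nd 8671 = n13042 := ndS (p := 4165) (l := 5) rfl N4165 D13042
theorem N8672 : nd 8672 = n13043 := ndS (p := 4165) (l := 6) rfl N4165 D13043
theorem N8673 : nd 8673 = n13044 := ndS (p := 4166) (l := 4) rfl N4166 D13044
theorem N8674 : nd 8674 = n13045 := ndS (p := 4166) (l := 6) rfl N4166 D13045
theorem N8675 : nd 8675 = n13046 := ndS (p := 4167) (l := 5) rfl N4167 D13046
theorem N8676 : nd 8676 = n13047 := ndS (p := 4168) (l := 5) rfl N4168 D13047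
theorem N8677 : nd 8677 = n13048 := ndS (p := 4169) (l := 4) rfl N4169 D13048
theorem N8678 : nd 8678 = n13049 := ndS (p := 4169) (l := 6) rfl N4169 D13049
theorem N8679 : nd 8679 = n13050 := ndS (p := 4170) (l := 4) rfl N4170 D13050
theorem N8680 : nd 8680 = n13051 := ndS (p := 4170) (l := 6) rfl N4170 D13051
theorem N8681 : nd 8681 = n13052 := ndS (p := 4171) (l := 4) rfl N4171 D13052
theorem N8682 : nd 8682 = n13053 := ndS (p := 4171) (l := 6) rfl N4171 D13053
theorem N8683 : nd 8683 = n13054 := ndS (p := 4172) (l := 3) rfl N4172 D13054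
theorem N8684 : nd 8684 = n13055 := ndS (p := 4172) (l := 4) rfl N4172 D13055
theorem N8685 : nd 8685 = n13056 := ndS (p := 4172) (l := 6) rfl N4172 D13056
theorem N8686 : nd 8686 = n13057 := ndS (p := 4173) (l := 0) rfl N4173 D13057
theorem N8687 : nd 8687 = n13058 := ndS (p := 4173) (l := 5) rfl N4173 D13058
theorem N8688 : nd 8688 = n13059 := ndS (p := 4173) (l := 6) rfl N4173 D13059
theorem N8689 : nd 8689 = n13060 := ndS (p := 4174) (l := 0) rfl N4174 D13060
theorem N8690 : nd 8690 = n13061 := ndS (p := 4174) (l := 1) rfl N4174 D13061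
theorem N8691 : nd 8691 = n13064 := ndS (p := 4175) (l := 3) rfl N4175 D13064
theorem N8692 : nd 8692 = n13066 := ndS (p := 4175) (l := 6) rfl N4175 D13066
theorem N8693 : nd 8693 = n13070 := ndS (p := 4176) (l := 6) rfl N4176 D13070
theorem N8694 : nd 8694 = n13075 := ndS (p := 4178) (l := 6) rfl N4178 D13075
theorem N8695 : nd 8695 = n13077 := ndS (p := 4179) (l := 3) rfl N4179 D13077
theorem N8696 : nd 8696 = n13080 := ndS (p := 4179) (l := 6) rfl N4179 D13080
theorem N8697 : nd 8697 = n13086 := ndS (p := 4181) (l := 4) rfl N4181 D13086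
theorem N8698 : nd 8698 = n13087 := ndS (p := 4181) (l := 6) rfl N4181 D13087
theorem N8699 : nd 8699 = n13088 := ndS (p := 4182) (l := 5) rfl N4182 D13088
theorem N8700 : nd 8700 = n13089 := ndS (p := 4184) (l := 5) rfl N4184 D13089
theorem N8701 : nd 8701 = n13091 := ndS (p := 4185) (l := 4) rfl N4185 D13091
theorem N8702 : nd 8702 = n13092 := ndS (p := 4185) (l := 6) rfl N4185 D13092
theorem N8703 : nd 8703 = n13093 := ndS (p := 4186) (l := 5) rfl N4186 D13093
theorem N8704 : nd 8704 = n13094 := ndS (p := 4186) (l := 6) rfl N4186 D13094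
theorem N8705 : nd 8705 = n13095 := ndS (p := 4187) (l := 0) rfl N4187 D13095
theorem N8706 : nd 8706 = n13096 := ndS (p := 4187) (l := 4) rfl N4187 D13096
theorem N8707 : nd 8707 = n13097 := ndS (p := 4187) (l := 6) rfl N4187 D13097
theorem N8708 : nd 8708 = n13098 := ndS (p := 4187) (l := 7) rfl N4187 D13098
theorem N8709 : nd 8709 = n13099 := ndS (p := 4188) (l := 6) rfl N4188 D13099
theorem N8710 : nd 8710 = n13100 := ndS (p := 4189) (l := 0) rfl N4189 D13100
theorem N8711 : nd 8711 = n13101 := ndS (p := 4189) (l := 1) rfl N4189 D13101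
theorem N8712 : nd 8712 = n13102 := ndS (p := 4189) (l := 3) rfl N4189 D13102
theorem N8713 : nd 8713 = n13103 := ndS (p := 4189) (l := 5) rfl N4189 D13103
theorem N8714 : nd 8714 = n13104 := ndS (p := 4189) (l := 6) rfl N4189 D13104
theorem N8715 : nd 8715 = n13112 := ndS (p := 4192) (l := 4) rfl N4192 D13112
theorem N8716 : nd 8716 = n13114 := ndS (p := 4193) (l := 1) rfl N4193 D13114
theorem N8717 : nd 8717 = n13116 := ndS (p := 4194) (l := 3) rfl N4194 D13116
theorem N8718 : nd 8718 = n13117 := ndS (p := 4194) (l := 5) rfl N4194 D13117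
theorem N8719 : nd 8719 = n13125 := ndS (p := 4196) (l := 3) rfl N4196 D13125
theorem N8720 : nd 8720 = n13126 := ndS (p := 4196) (l := 4) rfl N4196 D13126
theorem N8721 : nd 8721 = n13127 := ndS (p := 4196) (l := 6) rfl N4196 D13127
theorem N8722 : nd 8722 = n13128 := ndS (p := 4197) (l := 4) rfl N4197 D13128
theorem N8723 : nd 8723 = n13129 := ndS (p := 4197) (l := 6) rfl N4197 D13129
theorem N8724 : nd 8724 = n13130 := ndS (p := 4198) (l := 0) rfl N4198 D13130
theorem N8725 : nd 8725 = n13131 := ndS (p := 4198) (l := 1) rfl N4198 D13131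
theorem N8726 : nd 8726 = n13132 := ndS (p := 4198) (l := 3) rfl N4198 D13132
theorem N8727 : nd 8727 = n13133 := ndS (p := 4198) (l := 5) rfl N4198 D13133
theorem N8728 : nd 8728 = n13134 := ndS (p := 4198) (l := 6) rfl N4198 D13134
theorem N8729 : nd 8729 = n13136 := ndS (p := 4199) (l := 1) rfl N4199 D13136
theorem N8730 : nd 8730 = n13137 := ndS (p := 4199) (l := 7) rfl N4199 D13137
theorem N8731 : nd 8731 = n13138 := ndS (p := 4200) (l := 4) rfl N4200 D13138
theorem N8732 : nd 8732 = n13139 := ndS (p := 4200) (l := 6) rfl N4200 D13139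
theorem N8733 : nd 8733 = n13140 := ndS (p := 4201) (l := 0) rfl N4201 D13140
theorem N8734 : nd 8734 = n13141 := ndS (p := 4201) (l := 1) rfl N4201 D13141
theorem N8735 : nd 8735 = n13142 := ndS (p := 4201) (l := 3) rfl N4201 D13142
theorem N8736 : nd 8736 = n13143 := ndS (p := 4201) (l := 5) rfl N4201 D13143
theorem N8737 : nd 8737 = n13144 := ndS (p := 4201) (l := 6) rfl N4201 D13144
theorem N8738 : nd 8738 = n13145 := ndS (p := 4202) (l := 0) rfl N4202 D13145
theorem N8739 : nd 8739 = n13146 := ndS (p := 4202) (l := 1) rfl N4202 D13146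
theorem N8740 : nd 8740 = n13147 := ndS (p := 4202) (l := 5) rfl N4202 D13147
theorem N8741 : nd 8741 = n13148 := ndS (p := 4202) (l := 7) rfl N4202 D13148
theorem N8742 : nd 8742 = n13149 := ndS (p := 4203) (l := 2) rfl N4203 D13149
theorem N8743 : nd 8743 = n13150 := ndS (p := 4203) (l := 4) rfl N4203 D13150
theorem N8744 : nd 8744 = n13152 := ndS (p := 4204) (l := 3) rfl N4204 D13152
theorem N8745 : nd 8745 = n13153 := ndS (p := 4204) (l := 5) rfl N4204 D13153
theorem N8746 : nd 8746 = n13154 := ndS (p := 4204) (l := 6) rfl N4204 D13154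
theorem N8747 : nd 8747 = n13156 := ndS (p := 4205) (l := 1) rfl N4205 D13156
theorem N8748 : nd 8748 = n13157 := ndS (p := 4205) (l := 5) rfl N4205 D13157
theorem N8749 : nd 8749 = n13158 := ndS (p := 4205) (l := 7) rfl N4205 D13158
theorem N8750 : nd 8750 = n13160 := ndS (p := 4206) (l := 3) rfl N4206 D13160
theorem N8751 : nd 8751 = n13161 := ndS (p := 4206) (l := 5) rfl N4206 D13161
theorem N8752 : nd 8752 = n13162 := ndS (p := 4206) (l := 6) rfl N4206 D13162
theorem N8753 : nd 8753 = n13164 := ndS (p := 4207) (l := 3) rfl N4207 D13164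
theorem N8754 : nd 8754 = n13165 := ndS (p := 4207) (l := 5) rfl N4207 D13165
theorem N8755 : nd 8755 = n13166 := ndS (p := 4207) (l := 6) rfl N4207 D13166
theorem N8756 : nd 8756 = n13167 := ndS (p := 4208) (l := 0) rfl N4208 D13167
theorem N8757 : nd 8757 = n13168 := ndS (p := 4208) (l := 1) rfl N4208 D13168
theorem N8758 : nd 8758 = n13169 := ndS (p := 4208) (l := 2) rfl N4208 D13169
theorem N8759 : nd 8759 = n13170 := ndS (p := 4208) (l := 5) rfl N4208 D13170
theorem N8760 : nd 8760 = n13171 := ndS (p := 4208) (l := 6) rfl N4208 D13171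
theorem N8761 : nd 8761 = n13172 := ndS (p := 4209) (l := 0) rfl N4209 D13172
theorem N8762 : nd 8762 = n13173 := ndS (p := 4209) (l := 1) rfl N4209 D13173
theorem N8763 : nd 8763 = n13174 := ndS (p := 4209) (l := 4) rfl N4209 D13174
theorem N8764 : nd 8764 = n13175 := ndS (p := 4209) (l := 6) rfl N4209 D13175
theorem N8765 : nd 8765 = n13176 := ndS (p := 4209) (l := 7) rfl N4209 D13176
theorem N8766 : nd 8766 = n13177 := ndS (p := 4210) (l := 0) rfl N4210 D13177
theorem N8767 : nd 8767 = n13178 := ndS (p := 4210) (l := 1) rfl N4210 D13178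
theorem N8768 : nd 8768 = n13179 := ndS (p := 4210) (l := 5) rfl N4210 D13179
theorem N8769 : nd 8769 = n13180 := ndS (p := 4210) (l := 7) rfl N4210 D13180
theorem N8770 : nd 8770 = n13181 := ndS (p := 4211) (l := 6) rfl N4211 D13181
theorem N8771 : nd 8771 = n13183 := ndS (p := 4212) (l := 3) rfl N4212 D13183
theorem N8772 : nd 8772 = n13184 := ndS (p := 4212) (l := 4) rfl N4212 D13184
theorem N8773 : nd 8773 = n13186 := ndS (p := 4212) (l := 6) rfl N4212 D13186
theorem N8774 : nd 8774 = n13189 := ndS (p := 4213) (l := 4) rfl N4213 D13189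
theorem N8775 : nd 8775 = n13191 := ndS (p := 4213) (l := 6) rfl N4213 D13191
theorem N8776 : nd 8776 = n13192 := ndS (p := 4214) (l := 6) rfl N4214 D13192
theorem N8777 : nd 8777 = n13193 := ndS (p := 4215) (l := 0) rfl N4215 D13193
theorem N8778 : nd 8778 = n13195 := ndS (p := 4215) (l := 5) rfl N4215 D13195
theorem N8779 : nd 8779 = n13196 := ndS (p := 4216) (l := 4) rfl N4216 D13196
theorem N8780 : nd 8780 = n13197 := ndS (p := 4216) (l := 5) rfl N4216 D13197
theorem N8781 : nd 8781 = n13198 := ndS (p := 4217) (l := 3) rfl N4217 D13198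
theorem N8782 : nd 8782 = n13199 := ndS (p := 4217) (l := 4) rfl N4217 D13199
theorem N8783 : nd 8783 = n13200 := ndS (p := 4217) (l := 5) rfl N4217 D13200
theorem N8784 : nd 8784 = n13201 := ndS (p := 4218) (l := 1) rfl N4218 D13201
theorem N8785 : nd 8785 = n13202 := ndS (p := 4218) (l := 4) rfl N4218 D13202
theorem N8786 : nd 8786 = n13203 := ndS (p := 4219) (l := 4) rfl N4219 D13203
theorem N8787 : nd 8787 = n13204 := ndS (p := 4219) (l := 6) rfl N4219 D13204
theorem N8788 : nd 8788 = n13205 := ndS (p := 4220) (l := 0) rfl N4220 D13205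
theorem N8789 : nd 8789 = n13206 := ndS (p := 4220) (l := 1) rfl N4220 D13206
theorem N8790 : nd 8790 = n13207 := ndS (p := 4220) (l := 5) rfl N4220 D13207
theorem N8791 : nd 8791 = n13208 := ndS (p := 4220) (l := 6) rfl N4220 D13208
theorem N8792 : nd 8792 = n13209 := ndS (p := 4221) (l := 0) rfl N4221 D13209
theorem N8793 : nd 8793 = n13210 := ndS (p := 4221) (l := 1) rfl N4221 D13210
theorem N8794 : nd 8794 = n13211 := ndS (p := 4221) (l := 5) rfl N4221 D13211
theorem N8795 : nd 8795 = n13212 := ndS (p := 4221) (l := 7) rfl N4221 D13212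
theorem N8796 : nd 8796 = n13214 := ndS (p := 4222) (l := 3) rfl N4222 D13214
theorem N8797 : nd 8797 = n13216 := ndS (p := 4222) (l := 5) rfl N4222 D13216
theorem N8798 : nd 8798 = n13220 := ndS (p := 4223) (l := 5) rfl N4223 D13220
theorem N8799 : nd 8799 = n13221 := ndS (p := 4223) (l := 6) rfl N4223 D13221
theorem N8800 : nd 8800 = n13222 := ndS (p := 4224) (l := 0) rfl N4224 D13222
theorem N8801 : nd 8801 = n13223 := ndS (p := 4224) (l := 1) rfl N4224 D13223
theorem N8802 : nd 8802 = n13224 := ndS (p := 4224) (l := 4) rfl N4224 D13224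
theorem N8803 : nd 8803 = n13225 := ndS (p := 4224) (l := 7) rfl N4224 D13225
theorem N8804 : nd 8804 = n13226 := ndS (p := 4226) (l := 4) rfl N4226 D13226
theorem N8805 : nd 8805 = n13227 := ndS (p := 4226) (l := 6) rfl N4226 D13227
theorem N8806 : nd 8806 = n13228 := ndS (p := 4227) (l := 5) rfl N4227 D13228
theorem N8807 : nd 8807 = n13229 := ndS (p := 4227) (l := 6) rfl N4227 D13229
theorem N8808 : nd 8808 = n13230 := ndS (p := 4228) (l := 0) rfl N4228 D13230
theorem N8809 : nd 8809 = n13231 := ndS (p := 4228) (l := 1) rfl N4228 D13231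
theorem N8810 : nd 8810 = n13232 := ndS (p := 4228) (l := 5) rfl N4228 D13232
theorem N8811 : nd 8811 = n13233 := ndS (p := 4228) (l := 7) rfl N4228 D13233
theorem N8812 : nd 8812 = n13237 := ndS (p := 4229) (l := 5) rfl N4229 D13237
theorem N8813 : nd 8813 = n13240 := ndS (p := 4230) (l := 3) rfl N4230 D13240
theorem N8814 : nd 8814 = n13242 := ndS (p := 4230) (l := 5) rfl N4230 D13242
theorem N8815 : nd 8815 = n13244 := ndS (p := 4231) (l := 0) rfl N4231 D13244
theorem N8816 : nd 8816 = n13245 := ndS (p := 4231) (l := 1) rfl N4231 D13245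
theorem N8817 : nd 8817 = n13246 := ndS (p := 4231) (l := 4) rfl N4231 D13246
theorem N8818 : nd 8818 = n13247 := ndS (p := 4231) (l := 7) rfl N4231 D13247
theorem N8819 : nd 8819 = n13249 := ndS (p := 4233) (l := 3) rfl N4233 D13249
theorem N8820 : nd 8820 = n13250 := ndS (p := 4233) (l := 4) rfl N4233 D13250
theorem N8821 : nd 8821 = n13252 := ndS (p := 4233) (l := 6) rfl N4233 D13252
theorem N8822 : nd 8822 = n13254 := ndS (p := 4234) (l := 3) rfl N4234 D13254
theorem N8823 : nd 8823 = n13255 := ndS (p := 4234) (l := 4) rfl N4234 D13255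
theorem N8824 : nd 8824 = n13257 := ndS (p := 4234) (l := 6) rfl N4234 D13257
theorem N8825 : nd 8825 = n13258 := ndS (p := 4235) (l := 6) rfl N4235 D13258
theorem N8826 : nd 8826 = n13259 := ndS (p := 4236) (l := 0) rfl N4236 D13259
theorem N8827 : nd 8827 = n13260 := ndS (p := 4236) (l := 1) rfl N4236 D13260
theorem N8828 : nd 8828 = n13261 := ndS (p := 4236) (l := 5) rfl N4236 D13261
theorem N8829 : nd 8829 = n13262 := ndS (p := 4236) (l := 7) rfl N4236 D13262
theorem N8830 : nd 8830 = n13264 := ndS (p := 4237) (l := 3) rfl N4237 D13264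
theorem N8831 : nd 8831 = n13266 := ndS (p := 4237) (l := 5) rfl N4237 D13266
theorem N8832 : nd 8832 = n13267 := ndS (p := 4237) (l := 6) rfl N4237 D13267
theorem N8833 : nd 8833 = n13269 := ndS (p := 4238) (l := 3) rfl N4238 D13269
theorem N8834 : nd 8834 = n13271 := ndS (p := 4238) (l := 5) rfl N4238 D13271
theorem N8835 : nd 8835 = n13272 := ndS (p := 4238) (l := 6) rfl N4238 D13272
theorem N8836 : nd 8836 = n13273 := ndS (p := 4239) (l := 0) rfl N4239 D13273
theorem N8837 : nd 8837 = n13274 := ndS (p := 4239) (l := 1) rfl N4239 D13274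
theorem N8838 : nd 8838 = n13275 := ndS (p := 4239) (l := 4) rfl N4239 D13275
theorem N8839 : nd 8839 = n13276 := ndS (p := 4239) (l := 7) rfl N4239 D13276
theorem N8840 : nd 8840 = n13277 := ndS (p := 4241) (l := 0) rfl N4241 D13277
theorem N8841 : nd 8841 = n13280 := ndS (p := 4241) (l := 4) rfl N4241 D13280
theorem N8842 : nd 8842 = n13282 := ndS (p := 4242) (l := 0) rfl N4242 D13282
theorem N8843 : nd 8843 = n13284 := ndS (p := 4242) (l := 3) rfl N4242 D13284
theorem N8844 : nd 8844 = n13285 := ndS (p := 4242) (l := 5) rfl N4242 D13285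
theorem N8845 : nd 8845 = n13286 := ndS (p := 4243) (l := 4) rfl N4243 D13286
theorem N8846 : nd 8846 = n13288 := ndS (p := 4244) (l := 1) rfl N4244 D13288
theorem N8847 : nd 8847 = n13289 := ndS (p := 4244) (l := 2) rfl N4244 D13289
theorem N8848 : nd 8848 = n13290 := ndS (p := 4244) (l := 4) rfl N4244 D13290
theorem N8849 : nd 8849 = n13291 := ndS (p := 4244) (l := 6) rfl N4244 D13291
theorem N8850 : nd 8850 = n13292 := ndS (p := 4245) (l := 3) rfl N4245 D13292
theorem N8851 : nd 8851 = n13293 := ndS (p := 4245) (l := 5) rfl N4245 D13293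
theorem N8852 : nd 8852 = n13294 := ndS (p := 4245) (l := 6) rfl N4245 D13294
theorem N8853 : nd 8853 = n13295 := ndS (p := 4247) (l := 5) rfl N4247 D13295
theorem N8854 : nd 8854 = n13299 := ndS (p := 4248) (l := 5) rfl N4248 D13299
theorem N8855 : nd 8855 = n13300 := ndS (p := 4248) (l := 6) rfl N4248 D13300
theorem N8856 : nd 8856 = n13302 := ndS (p := 4249) (l := 3) rfl N4249 D13302
theorem N8857 : nd 8857 = n13304 := ndS (p := 4249) (l := 5) rfl N4249 D13304
theorem N8858 : nd 8858 = n13306 := ndS (p := 4250) (l := 0) rfl N4250 D13306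
theorem N8859 : nd 8859 = n13307 := ndS (p := 4250) (l := 1) rfl N4250 D13307
theorem N8860 : nd 8860 = n13308 := ndS (p := 4250) (l := 4) rfl N4250 D13308
theorem N8861 : nd 8861 = n13309 := ndS (p := 4251) (l := 4) rfl N4251 D13309
theorem N8862 : nd 8862 = n13310 := ndS (p := 4251) (l := 6) rfl N4251 D13310
theorem N8863 : nd 8863 = n13311 := ndS (p := 4252) (l := 3) rfl N4252 D13311
theorem N8864 : nd 8864 = n13312 := ndS (p := 4252) (l := 4) rfl N4252 D13312
theorem N8865 : nd 8865 = n13313 := ndS (p := 4252) (l := 6) rfl N4252 D13313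
theorem N8866 : nd 8866 = n13314 := ndS (p := 4253) (l := 3) rfl N4253 D13314
theorem N8867 : nd 8867 = n13315 := ndS (p := 4254) (l := 6) rfl N4254 D13315
theorem N8868 : nd 8868 = n13316 := ndS (p := 4255) (l := 0) rfl N4255 D13316
theorem N8869 : nd 8869 = n13317 := ndS (p := 4255) (l := 1) rfl N4255 D13317
theorem N8870 : nd 8870 = n13318 := ndS (p := 4255) (l := 5) rfl N4255 D13318
theorem N8871 : nd 8871 = n13319 := ndS (p := 4255) (l := 7) rfl N4255 D13319
theorem N8872 : nd 8872 = n13320 := ndS (p := 4256) (l := 5) rfl N4256 D13320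
theorem N8873 : nd 8873 = n13321 := ndS (p := 4256) (l := 6) rfl N4256 D13321
theorem N8874 : nd 8874 = n13323 := ndS (p := 4257) (l := 1) rfl N4257 D13323
theorem N8875 : nd 8875 = n13324 := ndS (p := 4257) (l := 4) rfl N4257 D13324
theorem N8876 : nd 8876 = n13325 := ndS (p := 4257) (l := 7) rfl N4257 D13325
theorem N8877 : nd 8877 = n13326 := ndS (p := 4259) (l := 3) rfl N4259 D13326
theorem N8878 : nd 8878 = n13327 := ndS (p := 4259) (l := 5) rfl N4259 D13327
theorem N8879 : nd 8879 = n13328 := ndS (p := 4259) (l := 6) rfl N4259 D13328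
theorem N8880 : nd 8880 = n13330 := ndS (p := 4260) (l := 5) rfl N4260 D13330
theorem N8881 : nd 8881 = n13331 := ndS (p := 4260) (l := 6) rfl N4260 D13331
theorem N8882 : nd 8882 = n13332 := ndS (p := 4261) (l := 0) rfl N4261 D13332
theorem N8883 : nd 8883 = n13333 := ndS (p := 4261) (l := 1) rfl N4261 D13333
theorem N8884 : nd 8884 = n13334 := ndS (p := 4261) (l := 4) rfl N4261 D13334
theorem N8885 : nd 8885 = n13335 := ndS (p := 4261) (l := 7) rfl N4261 D13335
theorem N8886 : nd 8886 = n13336 := ndS (p := 4263) (l := 5) rfl N4263 D13336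
theorem N8887 : nd 8887 = n13337 := ndS (p := 4263) (l := 6) rfl N4263 D13337
theorem N8888 : nd 8888 = n13339 := ndS (p := 4264) (l := 5) rfl N4264 D13339
theorem N8889 : nd 8889 = n13340 := ndS (p := 4264) (l := 6) rfl N4264 D13340
theorem N8890 : nd 8890 = n13341 := ndS (p := 4265) (l := 0) rfl N4265 D13341
theorem N8891 : nd 8891 = n13342 := ndS (p := 4265) (l := 4) rfl N4265 D13342
theorem N8892 : nd 8892 = n13343 := ndS (p := 4265) (l := 6) rfl N4265 D13343
theorem N8893 : nd 8893 = n13346 := ndS (p := 4266) (l := 5) rfl N4266 D13346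
theorem N8894 : nd 8894 = n13347 := ndS (p := 4266) (l := 7) rfl N4266 D13347
theorem N8895 : nd 8895 = n13348 := ndS (p := 4267) (l := 2) rfl N4267 D13348
theorem N8896 : nd 8896 = n13349 := ndS (p := 4267) (l := 5) rfl N4267 D13349
theorem N8897 : nd 8897 = n13350 := ndS (p := 4267) (l := 6) rfl N4267 D13350
theorem N8898 : nd 8898 = n13351 := ndS (p := 4268) (l := 5) rfl N4268 D13351
theorem N8899 : nd 8899 = n13352 := ndS (p := 4268) (l := 6) rfl N4268 D13352
theorem N8900 : nd 8900 = n13353 := ndS (p := 4269) (l := 4) rfl N4269 D13353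
theorem N8901 : nd 8901 = n13354 := ndS (p := 4269) (l := 6) rfl N4269 D13354
theorem N8902 : nd 8902 = n13355 := ndS (p := 4270) (l := 7) rfl N4270 D13355
theorem N8903 : nd 8903 = n13357 := ndS (p := 4271) (l := 3) rfl N4271 D13357
theorem N8904 : nd 8904 = n13358 := ndS (p := 4271) (l := 4) rfl N4271 D13358
theorem N8905 : nd 8905 = n13359 := ndS (p := 4271) (l := 6) rfl N4271 D13359
theorem N8906 : nd 8906 = n13361 := ndS (p := 4272) (l := 3) rfl N4272 D13361
theorem N8907 : nd 8907 = n13362 := ndS (p := 4272) (l := 4) rfl N4272 D13362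
theorem N8908 : nd 8908 = n13364 := ndS (p := 4272) (l := 6) rfl N4272 D13364
theorem N8909 : nd 8909 = n13365 := ndS (p := 4273) (l := 0) rfl N4273 D13365
theorem N8910 : nd 8910 = n13366 := ndS (p := 4273) (l := 1) rfl N4273 D13366
theorem N8911 : nd 8911 = n13367 := ndS (p := 4273) (l := 3) rfl N4273 D13367
theorem N8912 : nd 8912 = n13368 := ndS (p := 4273) (l := 5) rfl N4273 D13368
theorem N8913 : nd 8913 = n13369 := ndS (p := 4273) (l := 7) rfl N4273 D13369
theorem N8914 : nd 8914 = n13370 := ndS (p := 4274) (l := 6) rfl N4274 D13370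
theorem N8915 : nd 8915 = n13373 := ndS (p := 4275) (l := 2) rfl N4275 D13373
theorem N8916 : nd 8916 = n13374 := ndS (p := 4275) (l := 4) rfl N4275 D13374
theorem N8917 : nd 8917 = n13375 := ndS (p := 4275) (l := 6) rfl N4275 D13375
theorem N8918 : nd 8918 = n13376 := ndS (p := 4276) (l := 0) rfl N4276 D13376
theorem N8919 : nd 8919 = n13377 := ndS (p := 4276) (l := 1) rfl N4276 D13377
theorem N8920 : nd 8920 = n13378 := ndS (p := 4276) (l := 7) rfl N4276 D13378
theorem N8921 : nd 8921 = n13379 := ndS (p := 4277) (l := 2) rfl N4277 D13379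
theorem N8922 : nd 8922 = n13380 := ndS (p := 4277) (l := 4) rfl N4277 D13380
theorem N8923 : nd 8923 = n13381 := ndS (p := 4277) (l := 6) rfl N4277 D13381
theorem N8924 : nd 8924 = n13382 := ndS (p := 4278) (l := 0) rfl N4278 D13382
theorem N8925 : nd 8925 = n13383 := ndS (p := 4278) (l := 1) rfl N4278 D13383
theorem N8926 : nd 8926 = n13384 := ndS (p := 4278) (l := 7) rfl N4278 D13384
theorem N8927 : nd 8927 = n13385 := ndS (p := 4279) (l := 0) rfl N4279 D13385
theorem N8928 : nd 8928 = n13386 := ndS (p := 4279) (l := 1) rfl N4279 D13386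
theorem N8929 : nd 8929 = n13387 := ndS (p := 4279) (l := 2) rfl N4279 D13387
theorem N8930 : nd 8930 = n13388 := ndS (p := 4279) (l := 5) rfl N4279 D13388
theorem N8931 : nd 8931 = n13389 := ndS (p := 4279) (l := 7) rfl N4279 D13389
theorem N8932 : nd 8932 = n13390 := ndS (p := 4280) (l := 6) rfl N4280 D13390
theorem N8933 : nd 8933 = n13391 := ndS (p := 4281) (l := 6) rfl N4281 D13391
theorem N8934 : nd 8934 = n13392 := ndS (p := 4282) (l := 0) rfl N4282 D13392
theorem N8935 : nd 8935 = n13393 := ndS (p := 4283) (l := 4) rfl N4283 D13393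
theorem N8936 : nd 8936 = n13394 := ndS (p := 4283) (l := 6) rfl N4283 D13394
theorem N8937 : nd 8937 = n13395 := ndS (p := 4284) (l := 1) rfl N4284 D13395
theorem N8938 : nd 8938 = n13396 := ndS (p := 4284) (l := 7) rfl N4284 D13396
theorem N8939 : nd 8939 = n13397 := ndS (p := 4285) (l := 3) rfl N4285 D13397
theorem N8940 : nd 8940 = n13398 := ndS (p := 4288) (l := 0) rfl N4288 D13398
theorem N8941 : nd 8941 = n13399 := ndS (p := 4288) (l := 2) rfl N4288 D13399
theorem N8942 : nd 8942 = n13403 := ndS (p := 4290) (l := 3) rfl N4290 D13403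
theorem N8943 : nd 8943 = n13405 := ndS (p := 4291) (l := 1) rfl N4291 D13405
theorem N8944 : nd 8944 = n13406 := ndS (p := 4291) (l := 2) rfl N4291 D13406
theorem N8945 : nd 8945 = n13412 := ndS (p := 4296) (l := 3) rfl N4296 D13412
theorem N8946 : nd 8946 = n13413 := ndS (p := 4296) (l := 6) rfl N4296 D13413
theorem N8947 : nd 8947 = n13414 := ndS (p := 4297) (l := 3) rfl N4297 D13414
theorem N8948 : nd 8948 = n13415 := ndS (p := 4297) (l := 6) rfl N4297 D13415
theorem N8949 : nd 8949 = n13416 := ndS (p := 4298) (l := 0) rfl N4298 D13416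
theorem N8950 : nd 8950 = n13417 := ndS (p := 4298) (l := 1) rfl N4298 D13417
theorem N8951 : nd 8951 = n13418 := ndS (p := 4298) (l := 3) rfl N4298 D13418
theorem N8952 : nd 8952 = n13419 := ndS (p := 4298) (l := 5) rfl N4298 D13419
theorem N8953 : nd 8953 = n13420 := ndS (p := 4298) (l := 7) rfl N4298 D13420
theorem N8954 : nd 8954 = n13421 := ndS (p := 4299) (l := 6) rfl N4299 D13421
theorem N8955 : nd 8955 = n13422 := ndS (p := 4300) (l := 2) rfl N4300 D13422
theorem N8956 : nd 8956 = n13423 := ndS (p := 4300) (l := 4) rfl N4300 D13423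
theorem N8957 : nd 8957 = n13424 := ndS (p := 4300) (l := 6) rfl N4300 D13424
theorem N8958 : nd 8958 = n13425 := ndS (p := 4301) (l := 0) rfl N4301 D13425
theorem N8959 : nd 8959 = n13426 := ndS (p := 4301) (l := 1) rfl N4301 D13426
theorem N8960 : nd 8960 = n13427 := ndS (p := 4301) (l := 7) rfl N4301 D13427
theorem N8961 : nd 8961 = n13428 := ndS (p := 4302) (l := 2) rfl N4302 D13428
theorem N8962 : nd 8962 = n13429 := ndS (p := 4302) (l := 4) rfl N4302 D13429
theorem N8963 : nd 8963 = n13430 := ndS (p := 4302) (l := 6) rfl N4302 D13430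
theorem N8964 : nd 8964 = n13431 := ndS (p := 4303) (l := 0) rfl N4303 D13431
theorem N8965 : nd 8965 = n13432 := ndS (p := 4303) (l := 1) rfl N4303 D13432
theorem N8966 : nd 8966 = n13434 := ndS (p := 4304) (l := 0) rfl N4304 D13434
theorem N8967 : nd 8967 = n13435 := ndS (p := 4304) (l := 1) rfl N4304 D13435
theorem N8968 : nd 8968 = n13436 := ndS (p := 4304) (l := 2) rfl N4304 D13436
theorem N8969 : nd 8969 = n13437 := ndS (p := 4305) (l := 0) rfl N4305 D13437
theorem N8970 : nd 8970 = n13438 := ndS (p := 4306) (l := 0) rfl N4306 D13438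
theorem N8971 : nd 8971 = n13440 := ndS (p := 4306) (l := 2) rfl N4306 D13440
theorem N8972 : nd 8972 = n13441 := ndS (p := 4308) (l := 4) rfl N4308 D13441
theorem N8973 : nd 8973 = n13442 := ndS (p := 4309) (l := 4) rfl N4309 D13442
theorem N8974 : nd 8974 = n13443 := ndS (p := 4311) (l := 6) rfl N4311 D13443
theorem N8975 : nd 8975 = n13444 := ndS (p := 4314) (l := 3) rfl N4314 D13444
theorem N8976 : nd 8976 = n13445 := ndS (p := 4315) (l := 3) rfl N4315 D13445
theorem N8977 : nd 8977 = n13446 := ndS (p := 4316) (l := 3) rfl N4316 D13446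
theorem N8978 : nd 8978 = n13447 := ndS (p := 4317) (l := 3) rfl N4317 D13447
theorem N8979 : nd 8979 = n13448 := ndS (p := 4318) (l := 0) rfl N4318 D13448
theorem N8980 : nd 8980 = n13449 := ndS (p := 4318) (l := 1) rfl N4318 D13449
theorem N8981 : nd 8981 = n13450 := ndS (p := 4318) (l := 5) rfl N4318 D13450
theorem N8982 : nd 8982 = n13451 := ndS (p := 4318) (l := 7) rfl N4318 D13451
theorem N8983 : nd 8983 = n13452 := ndS (p := 4319) (l := 0) rfl N4319 D13452
theorem N8984 : nd 8984 = n13453 := ndS (p := 4319) (l := 5) rfl N4319 D13453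
theorem N8985 : nd 8985 = n13454 := ndS (p := 4319) (l := 7) rfl N4319 D13454
theorem N8986 : nd 8986 = n13455 := ndS (p := 4320) (l := 5) rfl N4320 D13455
theorem N8987 : nd 8987 = n13456 := ndS (p := 4321) (l := 0) rfl N4321 D13456
theorem N8988 : nd 8988 = n13457 := ndS (p := 4321) (l := 4) rfl N4321 D13457
theorem N8989 : nd 8989 = n13458 := ndS (p := 4321) (l := 7) rfl N4321 D13458
theorem N8990 : nd 8990 = n13459 := ndS (p := 4323) (l := 1) rfl N4323 D13459
theorem N8991 : nd 8991 = n13460 := ndS (p := 4323) (l := 5) rfl N4323 D13460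
theorem N8992 : nd 8992 = n13461 := ndS (p := 4323) (l := 7) rfl N4323 D13461
theorem N8993 : nd 8993 = n13462 := ndS (p := 4324) (l := 5) rfl N4324 D13462
theorem N8994 : nd 8994 = n13463 := ndS (p := 4324) (l := 6) rfl N4324 D13463
theorem N8995 : nd 8995 = n13465 := ndS (p := 4325) (l := 1) rfl N4325 D13465
theorem N8996 : nd 8996 = n13466 := ndS (p := 4325) (l := 4) rfl N4325 D13466
theorem N8997 : nd 8997 = n13467 := ndS (p := 4325) (l := 7) rfl N4325 D13467
theorem N8998 : nd 8998 = n13468 := ndS (p := 4327) (l := 5) rfl N4327 D13468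
theorem N8999 : nd 8999 = n13469 := ndS (p := 4327) (l := 6) rfl N4327 D13469
theorem N9000 : nd 9000 = n13470 := ndS (p := 4328) (l := 5) rfl N4328 D13470
theorem N9001 : nd 9001 = n13471 := ndS (p := 4329) (l := 0) rfl N4329 D13471
theorem N9002 : nd 9002 = n13472 := ndS (p := 4329) (l := 1) rfl N4329 D13472
theorem N9003 : nd 9003 = n13473 := ndS (p := 4329) (l := 4) rfl N4329 D13473
theorem N9004 : nd 9004 = n13474 := ndS (p := 4329) (l := 7) rfl N4329 D13474
theorem N9005 : nd 9005 = n13475 := ndS (p := 4331) (l := 5) rfl N4331 D13475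
theorem N9006 : nd 9006 = n13476 := ndS (p := 4331) (l := 6) rfl N4331 D13476
theorem N9007 : nd 9007 = n13477 := ndS (p := 4332) (l := 0) rfl N4332 D13477
theorem N9008 : nd 9008 = n13478 := ndS (p := 4332) (l := 5) rfl N4332 D13478
theorem N9009 : nd 9009 = n13479 := ndS (p := 4332) (l := 6) rfl N4332 D13479
theorem N9010 : nd 9010 = n13480 := ndS (p := 4333) (l := 0) rfl N4333 D13480
theorem N9011 : nd 9011 = n13481 := ndS (p := 4333) (l := 4) rfl N4333 D13481
theorem N9012 : nd 9012 = n13482 := ndS (p := 4333) (l := 6) rfl N4333 D13482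
theorem N9013 : nd 9013 = n13483 := ndS (p := 4334) (l := 5) rfl N4334 D13483
theorem N9014 : nd 9014 = n13484 := ndS (p := 4334) (l := 7) rfl N4334 D13484
theorem N9015 : nd 9015 = n13485 := ndS (p := 4335) (l := 4) rfl N4335 D13485
theorem N9016 : nd 9016 = n13486 := ndS (p := 4335) (l := 5) rfl N4335 D13486
theorem N9017 : nd 9017 = n13487 := ndS (p := 4335) (l := 6) rfl N4335 D13487
theorem N9018 : nd 9018 = n13488 := ndS (p := 4336) (l := 5) rfl N4336 D13488
theorem N9019 : nd 9019 = n13489 := ndS (p := 4336) (l := 6) rfl N4336 D13489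
theorem N9020 : nd 9020 = n13490 := ndS (p := 4337) (l := 4) rfl N4337 D13490
theorem N9021 : nd 9021 = n13491 := ndS (p := 4337) (l := 6) rfl N4337 D13491
theorem N9022 : nd 9022 = n13493 := ndS (p := 4339) (l := 3) rfl N4339 D13493
theorem N9023 : nd 9023 = n13494 := ndS (p := 4339) (l := 4) rfl N4339 D13494
theorem N9024 : nd 9024 = n13495 := ndS (p := 4339) (l := 6) rfl N4339 D13495
theorem N9025 : nd 9025 = n13497 := ndS (p := 4340) (l := 3) rfl N4340 D13497
theorem N9026 : nd 9026 = n13498 := ndS (p := 4340) (l := 4) rfl N4340 D13498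
theorem N9027 : nd 9027 = n13500 := ndS (p := 4340) (l := 6) rfl N4340 D13500
theorem N9028 : nd 9028 = n13501 := ndS (p := 4341) (l := 0) rfl N4341 D13501
theorem N9029 : nd 9029 = n13502 := ndS (p := 4341) (l := 1) rfl N4341 D13502
theorem N9030 : nd 9030 = n13503 := ndS (p := 4341) (l := 3) rfl N4341 D13503
theorem N9031 : nd 9031 = n13504 := ndS (p := 4341) (l := 5) rfl N4341 D13504
theorem N9032 : nd 9032 = n13505 := ndS (p := 4341) (l := 7) rfl N4341 D13505
theorem N9033 : nd 9033 = n13506 := ndS (p := 4342) (l := 6) rfl N4342 D13506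
theorem N9034 : nd 9034 = n13507 := ndS (p := 4343) (l := 6) rfl N4343 D13507
theorem N9035 : nd 9035 = n13508 := ndS (p := 4344) (l := 0) rfl N4344 D13508
theorem N9036 : nd 9036 = n13509 := ndS (p := 4344) (l := 1) rfl N4344 D13509
theorem N9037 : nd 9037 = n13510 := ndS (p := 4344) (l := 5) rfl N4344 D13510
theorem N9038 : nd 9038 = n13511 := ndS (p := 4344) (l := 7) rfl N4344 D13511
theorem N9039 : nd 9039 = n13512 := ndS (p := 4345) (l := 2) rfl N4345 D13512
theorem N9040 : nd 9040 = n13513 := ndS (p := 4345) (l := 4) rfl N4345 D13513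
theorem N9041 : nd 9041 = n13514 := ndS (p := 4345) (l := 6) rfl N4345 D13514
theorem N9042 : nd 9042 = n13515 := ndS (p := 4346) (l := 0) rfl N4346 D13515
theorem N9043 : nd 9043 = n13516 := ndS (p := 4346) (l := 1) rfl N4346 D13516
theorem N9044 : nd 9044 = n13517 := ndS (p := 4346) (l := 7) rfl N4346 D13517
theorem N9045 : nd 9045 = n13518 := ndS (p := 4347) (l := 0) rfl N4347 D13518
theorem N9046 : nd 9046 = n13519 := ndS (p := 4347) (l := 1) rfl N4347 D13519
theorem N9047 : nd 9047 = n13520 := ndS (p := 4347) (l := 2) rfl N4347 D13520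
theorem N9048 : nd 9048 = n13521 := ndS (p := 4347) (l := 5) rfl N4347 D13521
theorem N9049 : nd 9049 = n13522 := ndS (p := 4347) (l := 7) rfl N4347 D13522
theorem N9050 : nd 9050 = n13523 := ndS (p := 4348) (l := 6) rfl N4348 D13523
theorem N9051 : nd 9051 = n13524 := ndS (p := 4349) (l := 6) rfl N4349 D13524
theorem N9052 : nd 9052 = n13525 := ndS (p := 4350) (l := 0) rfl N4350 D13525
theorem N9053 : nd 9053 = n13526 := ndS (p := 4350) (l := 1) rfl N4350 D13526
theorem N9054 : nd 9054 = n13527 := ndS (p := 4351) (l := 4) rfl N4351 D13527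
theorem N9055 : nd 9055 = n13528 := ndS (p := 4352) (l := 4) rfl N4352 D13528
theorem N9056 : nd 9056 = n13529 := ndS (p := 4353) (l := 3) rfl N4353 D13529
theorem N9057 : nd 9057 = n13530 := ndS (p := 4353) (l := 6) rfl N4353 D13530
theorem N9058 : nd 9058 = n13531 := ndS (p := 4354) (l := 1) rfl N4354 D13531
theorem N9059 : nd 9059 = n13532 := ndS (p := 4356) (l := 4) rfl N4356 D13532
theorem N9060 : nd 9060 = n13533 := ndS (p := 4358) (l := 0) rfl N4358 D13533
theorem N9061 : nd 9061 = n13534 := ndS (p := 4358) (l := 1) rfl N4358 D13534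
theorem N9062 : nd 9062 = n13535 := ndS (p := 4358) (l := 2) rfl N4358 D13535
theorem N9063 : nd 9063 = n13536 := ndS (p := 4358) (l := 6) rfl N4358 D13536
theorem N9064 : nd 9064 = n13537 := ndS (p := 4359) (l := 5) rfl N4359 D13537
theorem N9065 : nd 9065 = n13538 := ndS (p := 4361) (l := 0) rfl N4361 D13538
theorem N9066 : nd 9066 = n13539 := ndS (p := 4361) (l := 4) rfl N4361 D13539
theorem N9067 : nd 9067 = n13540 := ndS (p := 4361) (l := 6) rfl N4361 D13540
theorem N9068 : nd 9068 = n13541 := ndS (p := 4363) (l := 4) rfl N4363 D13541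
theorem N9069 : nd 9069 = n13542 := ndS (p := 4364) (l := 3) rfl N4364 D13542
theorem N9070 : nd 9070 = n13543 := ndS (p := 4364) (l := 5) rfl N4364 D13543
theorem N9071 : nd 9071 = n13545 := ndS (p := 4365) (l := 1) rfl N4365 D13545
theorem N9072 : nd 9072 = n13546 := ndS (p := 4365) (l := 2) rfl N4365 D13546
theorem N9073 : nd 9073 = n13547 := ndS (p := 4366) (l := 0) rfl N4366 D13547
theorem N9074 : nd 9074 = n13548 := ndS (p := 4366) (l := 1) rfl N4366 D13548
theorem N9075 : nd 9075 = n13549 := ndS (p := 4366) (l := 7) rfl N4366 D13549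
theorem N9076 : nd 9076 = n13550 := ndS (p := 4370) (l := 5) rfl N4370 D13550
theorem N9077 : nd 9077 = n13551 := ndS (p := 4370) (l := 6) rfl N4370 D13551
theorem N9078 : nd 9078 = n13552 := ndS (p := 4371) (l := 7) rfl N4371 D13552
theorem N9079 : nd 9079 = n13553 := ndS (p := 4373) (l := 0) rfl N4373 D13553
theorem N9080 : nd 9080 = n13554 := ndS (p := 4373) (l := 2) rfl N4373 D13554
theorem N9081 : nd 9081 = n13555 := ndS (p := 4373) (l := 3) rfl N4373 D13555
theorem N9082 : nd 9082 = n13556 := ndS (p := 4373) (l := 4) rfl N4373 D13556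
theorem N9083 : nd 9083 = n13557 := ndS (p := 4373) (l := 5) rfl N4373 D13557
theorem N9084 : nd 9084 = n13559 := ndS (p := 4373) (l := 7) rfl N4373 D13559
theorem N9085 : nd 9085 = n13560 := ndS (p := 4374) (l := 3) rfl N4374 D13560
theorem N9086 : nd 9086 = n13561 := ndS (p := 4374) (l := 4) rfl N4374 D13561
theorem N9087 : nd 9087 = n13562 := ndS (p := 4374) (l := 5) rfl N4374 D13562
theorem N9088 : nd 9088 = n13563 := ndS (p := 4374) (l := 6) rfl N4374 D13563
theorem N9089 : nd 9089 = n13566 := ndS (p := 4375) (l := 5) rfl N4375 D13566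
theorem N9090 : nd 9090 = n13567 := ndS (p := 4376) (l := 0) rfl N4376 D13567
theorem N9091 : nd 9091 = n13568 := ndS (p := 4376) (l := 1) rfl N4376 D13568
theorem N9092 : nd 9092 = n13569 := ndS (p := 4376) (l := 4) rfl N4376 D13569
theorem N9093 : nd 9093 = n13570 := ndS (p := 4376) (l := 6) rfl N4376 D13570
theorem N9094 : nd 9094 = n13571 := ndS (p := 4376) (l := 7) rfl N4376 D13571
theorem N9095 : nd 9095 = n13572 := ndS (p := 4377) (l := 6) rfl N4377 D13572
theorem N9096 : nd 9096 = n13573 := ndS (p := 4378) (l := 3) rfl N4378 D13573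
theorem N9097 : nd 9097 = n13574 := ndS (p := 4378) (l := 6) rfl N4378 D13574
theorem N9098 : nd 9098 = n13575 := ndS (p := 4379) (l := 0) rfl N4379 D13575
theorem N9099 : nd 9099 = n13576 := ndS (p := 4379) (l := 1) rfl N4379 D13576
theorem N9100 : nd 9100 = n13577 := ndS (p := 4379) (l := 7) rfl N4379 D13577
theorem N9101 : nd 9101 = n13578 := ndS (p := 4380) (l := 6) rfl N4380 D13578
theorem N9102 : nd 9102 = n13579 := ndS (p := 4381) (l := 5) rfl N4381 D13579
theorem N9103 : nd 9103 = n13580 := ndS (p := 4382) (l := 6) rfl N4382 D13580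
theorem N9104 : nd 9104 = n13581 := ndS (p := 4383) (l := 0) rfl N4383 D13581
theorem N9105 : nd 9105 = n13582 := ndS (p := 4383) (l := 1) rfl N4383 D13582
theorem N9106 : nd 9106 = n13583 := ndS (p := 4383) (l := 5) rfl N4383 D13583
theorem N9107 : nd 9107 = n13584 := ndS (p := 4383) (l := 7) rfl N4383 D13584
theorem N9108 : nd 9108 = n13585 := ndS (p := 4384) (l := 4) rfl N4384 D13585
theorem N9109 : nd 9109 = n13586 := ndS (p := 4384) (l := 5) rfl N4384 D13586
theorem N9110 : nd 9110 = n13587 := ndS (p := 4386) (l := 5) rfl N4386 D13587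
theorem N9111 : nd 9111 = n13588 := ndS (p := 4386) (l := 6) rfl N4386 D13588
theorem N9112 : nd 9112 = n13591 := ndS (p := 4387) (l := 3) rfl N4387 D13591
theorem N9113 : nd 9113 = n13593 := ndS (p := 4387) (l := 5) rfl N4387 D13593
theorem N9114 : nd 9114 = n13594 := ndS (p := 4387) (l := 6) rfl N4387 D13594
theorem N9115 : nd 9115 = n13596 := ndS (p := 4388) (l := 1) rfl N4388 D13596
theorem N9116 : nd 9116 = n13598 := ndS (p := 4388) (l := 5) rfl N4388 D13598
theorem N9117 : nd 9117 = n13599 := ndS (p := 4388) (l := 6) rfl N4388 D13599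
theorem N9118 : nd 9118 = n13601 := ndS (p := 4389) (l := 0) rfl N4389 D13601
theorem N9119 : nd 9119 = n13603 := ndS (p := 4389) (l := 3) rfl N4389 D13603
theorem N9120 : nd 9120 = n13604 := ndS (p := 4389) (l := 5) rfl N4389 D13604
theorem N9121 : nd 9121 = n13605 := ndS (p := 4389) (l := 6) rfl N4389 D13605
theorem N9122 : nd 9122 = n13606 := ndS (p := 4389) (l := 7) rfl N4389 D13606
theorem N9123 : nd 9123 = n13607 := ndS (p := 4390) (l := 0) rfl N4390 D13607
theorem N9124 : nd 9124 = n13609 := ndS (p := 4390) (l := 4) rfl N4390 D13609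
theorem N9125 : nd 9125 = n13610 := ndS (p := 4390) (l := 6) rfl N4390 D13610
theorem N9126 : nd 9126 = n13611 := ndS (p := 4390) (l := 7) rfl N4390 D13611
theorem N9127 : nd 9127 = n13612 := ndS (p := 4391) (l := 0) rfl N4391 D13612
theorem N9128 : nd 9128 = n13614 := ndS (p := 4391) (l := 5) rfl N4391 D13614
theorem N9129 : nd 9129 = n13615 := ndS (p := 4391) (l := 7) rfl N4391 D13615
theorem N9130 : nd 9130 = n13616 := ndS (p := 4392) (l := 6) rfl N4392 D13616
theorem N9131 : nd 9131 = n13617 := ndS (p := 4393) (l := 0) rfl N4393 D13617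
theorem N9132 : nd 9132 = n13619 := ndS (p := 4393) (l := 2) rfl N4393 D13619
theorem N9133 : nd 9133 = n13620 := ndS (p := 4393) (l := 4) rfl N4393 D13620
theorem N9134 : nd 9134 = n13621 := ndS (p := 4393) (l := 5) rfl N4393 D13621
theorem N9135 : nd 9135 = n13622 := ndS (p := 4393) (l := 6) rfl N4393 D13622
theorem N9136 : nd 9136 = n13623 := ndS (p := 4394) (l := 5) rfl N4394 D13623
theorem N9137 : nd 9137 = n13624 := ndS (p := 4394) (l := 6) rfl N4394 D13624
theorem N9138 : nd 9138 = n13625 := ndS (p := 4395) (l := 4) rfl N4395 D13625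
theorem N9139 : nd 9139 = n13626 := ndS (p := 4395) (l := 6) rfl N4395 D13626
theorem N9140 : nd 9140 = n13628 := ndS (p := 4396) (l := 1) rfl N4396 D13628
theorem N9141 : nd 9141 = n13629 := ndS (p := 4396) (l := 5) rfl N4396 D13629
theorem N9142 : nd 9142 = n13630 := ndS (p := 4396) (l := 7) rfl N4396 D13630
theorem N9143 : nd 9143 = n13639 := ndS (p := 4397) (l := 0) rfl N4397 D13639
theorem N9144 : nd 9144 = n13640 := ndS (p := 4397) (l := 1) rfl N4397 D13640
theorem N9145 : nd 9145 = n13641 := ndS (p := 4397) (l := 4) rfl N4397 D13641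
theorem N9146 : nd 9146 = n13642 := ndS (p := 4397) (l := 6) rfl N4397 D13642
theorem N9147 : nd 9147 = n13644 := ndS (p := 4398) (l := 3) rfl N4398 D13644
theorem N9148 : nd 9148 = n13645 := ndS (p := 4398) (l := 4) rfl N4398 D13645
theorem N9149 : nd 9149 = n13647 := ndS (p := 4398) (l := 6) rfl N4398 D13647
theorem N9150 : nd 9150 = n13649 := ndS (p := 4399) (l := 3) rfl N4399 D13649
theorem N9151 : nd 9151 = n13650 := ndS (p := 4399) (l := 4) rfl N4399 D13650
theorem N9152 : nd 9152 = n13652 := ndS (p := 4399) (l := 6) rfl N4399 D13652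
theorem N9153 : nd 9153 = n13653 := ndS (p := 4400) (l := 0) rfl N4400 D13653
theorem N9154 : nd 9154 = n13654 := ndS (p := 4400) (l := 1) rfl N4400 D13654
theorem N9155 : nd 9155 = n13655 := ndS (p := 4400) (l := 5) rfl N4400 D13655
theorem N9156 : nd 9156 = n13656 := ndS (p := 4400) (l := 6) rfl N4400 D13656
theorem N9157 : nd 9157 = n13657 := ndS (p := 4400) (l := 7) rfl N4400 D13657
theorem N9158 : nd 9158 = n13658 := ndS (p := 4401) (l := 0) rfl N4401 D13658
theorem N9159 : nd 9159 = n13659 := ndS (p := 4401) (l := 1) rfl N4401 D13659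
theorem N9160 : nd 9160 = n13660 := ndS (p := 4401) (l := 7) rfl N4401 D13660
theorem N9161 : nd 9161 = n13661 := ndS (p := 4402) (l := 6) rfl N4402 D13661
theorem N9162 : nd 9162 = n13662 := ndS (p := 4403) (l := 0) rfl N4403 D13662
theorem N9163 : nd 9163 = n13664 := ndS (p := 4403) (l := 5) rfl N4403 D13664
theorem N9164 : nd 9164 = n13666 := ndS (p := 4404) (l := 3) rfl N4404 D13666
theorem N9165 : nd 9165 = n13668 := ndS (p := 4404) (l := 5) rfl N4404 D13668
theorem N9166 : nd 9166 = n13669 := ndS (p := 4404) (l := 6) rfl N4404 D13669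
theorem N9167 : nd 9167 = n13671 := ndS (p := 4405) (l := 3) rfl N4405 D13671
theorem N9168 : nd 9168 = n13673 := ndS (p := 4405) (l := 5) rfl N4405 D13673
theorem N9169 : nd 9169 = n13678 := ndS (p := 4407) (l := 5) rfl N4407 D13678
theorem N9170 : nd 9170 = n13679 := ndS (p := 4408) (l := 0) rfl N4408 D13679
theorem N9171 : nd 9171 = n13680 := ndS (p := 4408) (l := 1) rfl N4408 D13680
theorem N9172 : nd 9172 = n13681 := ndS (p := 4408) (l := 4) rfl N4408 D13681
theorem N9173 : nd 9173 = n13682 := ndS (p := 4409) (l := 5) rfl N4409 D13682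
theorem N9174 : nd 9174 = n13683 := ndS (p := 4410) (l := 4) rfl N4410 D13683
theorem N9175 : nd 9175 = n13684 := ndS (p := 4411) (l := 4) rfl N4411 D13684
theorem N9176 : nd 9176 = n13685 := ndS (p := 4411) (l := 5) rfl N4411 D13685
theorem N9177 : nd 9177 = n13686 := ndS (p := 4411) (l := 6) rfl N4411 D13686
theorem N9178 : nd 9178 = n13687 := ndS (p := 4412) (l := 4) rfl N4412 D13687
theorem N9179 : nd 9179 = n13688 := ndS (p := 4414) (l := 5) rfl N4414 D13688
theorem N9180 : nd 9180 = n13689 := ndS (p := 4415) (l := 4) rfl N4415 D13689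
theorem N9181 : nd 9181 = n13690 := ndS (p := 4416) (l := 5) rfl N4416 D13690
theorem N9182 : nd 9182 = n13691 := ndS (p := 4417) (l := 4) rfl N4417 D13691
theorem N9183 : nd 9183 = n13693 := ndS (p := 4418) (l := 5) rfl N4418 D13693
theorem N9184 : nd 9184 = n13695 := ndS (p := 4419) (l := 5) rfl N4419 D13695
theorem N9185 : nd 9185 = n13697 := ndS (p := 4420) (l := 0) rfl N4420 D13697
theorem N9186 : nd 9186 = n13698 := ndS (p := 4420) (l := 4) rfl N4420 D13698
theorem N9187 : nd 9187 = n13699 := ndS (p := 4420) (l := 7) rfl N4420 D13699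
theorem N9188 : nd 9188 = n13703 := ndS (p := 4422) (l := 4) rfl N4422 D13703
theorem N9189 : nd 9189 = n13704 := ndS (p := 4422) (l := 5) rfl N4422 D13704
theorem N9190 : nd 9190 = n13705 := ndS (p := 4422) (l := 6) rfl N4422 D13705
theorem N9191 : nd 9191 = n13706 := ndS (p := 4423) (l := 5) rfl N4423 D13706
theorem N9192 : nd 9192 = n13707 := ndS (p := 4423) (l := 6) rfl N4423 D13707
theorem N9193 : nd 9193 = n13708 := ndS (p := 4424) (l := 0) rfl N4424 D13708
theorem N9194 : nd 9194 = n13709 := ndS (p := 4424) (l := 1) rfl N4424 D13709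
theorem N9195 : nd 9195 = n13710 := ndS (p := 4424) (l := 4) rfl N4424 D13710
theorem N9196 : nd 9196 = n13711 := ndS (p := 4424) (l := 6) rfl N4424 D13711
theorem N9197 : nd 9197 = n13712 := ndS (p := 4426) (l := 5) rfl N4426 D13712
theorem N9198 : nd 9198 = n13713 := ndS (p := 4426) (l := 6) rfl N4426 D13713
theorem N9199 : nd 9199 = n13714 := ndS (p := 4427) (l := 5) rfl N4427 D13714
theorem N9200 : nd 9200 = n13715 := ndS (p := 4427) (l := 6) rfl N4427 D13715
theorem N9201 : nd 9201 = n13716 := ndS (p := 4428) (l := 4) rfl N4428 D13716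
theorem N9202 : nd 9202 = n13717 := ndS (p := 4428) (l := 6) rfl N4428 D13717
theorem N9203 : nd 9203 = n13719 := ndS (p := 4429) (l := 5) rfl N4429 D13719
theorem N9204 : nd 9204 = n13721 := ndS (p := 4430) (l := 3) rfl N4430 D13721
theorem N9205 : nd 9205 = n13722 := ndS (p := 4430) (l := 4) rfl N4430 D13722
theorem N9206 : nd 9206 = n13723 := ndS (p := 4430) (l := 6) rfl N4430 D13723
theorem N9207 : nd 9207 = n13724 := ndS (p := 4431) (l := 3) rfl N4431 D13724
theorem N9208 : nd 9208 = n13725 := ndS (p := 4431) (l := 4) rfl N4431 D13725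
theorem N9209 : nd 9209 = n13726 := ndS (p := 4431) (l := 6) rfl N4431 D13726
theorem N9210 : nd 9210 = n13727 := ndS (p := 4432) (l := 0) rfl N4432 D13727
theorem N9211 : nd 9211 = n13728 := ndS (p := 4432) (l := 1) rfl N4432 D13728
theorem N9212 : nd 9212 = n13729 := ndS (p := 4432) (l := 3) rfl N4432 D13729
theorem N9213 : nd 9213 = n13730 := ndS (p := 4432) (l := 5) rfl N4432 D13730
theorem N9214 : nd 9214 = n13731 := ndS (p := 4432) (l := 7) rfl N4432 D13731
theorem N9215 : nd 9215 = n13732 := ndS (p := 4433) (l := 6) rfl N4433 D13732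
theorem N9216 : nd 9216 = n13733 := ndS (p := 4434) (l := 0) rfl N4434 D13733
theorem N9217 : nd 9217 = n13734 := ndS (p := 4434) (l := 1) rfl N4434 D13734
theorem N9218 : nd 9218 = n13735 := ndS (p := 4434) (l := 4) rfl N4434 D13735
theorem N9219 : nd 9219 = n13736 := ndS (p := 4434) (l := 6) rfl N4434 D13736
theorem N9220 : nd 9220 = n13737 := ndS (p := 4435) (l := 3) rfl N4435 D13737
theorem N9221 : nd 9221 = n13738 := ndS (p := 4435) (l := 4) rfl N4435 D13738
theorem N9222 : nd 9222 = n13739 := ndS (p := 4435) (l := 6) rfl N4435 D13739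
theorem N9223 : nd 9223 = n13740 := ndS (p := 4436) (l := 4) rfl N4436 D13740
theorem N9224 : nd 9224 = n13741 := ndS (p := 4436) (l := 6) rfl N4436 D13741
theorem N9225 : nd 9225 = n13742 := ndS (p := 4437) (l := 0) rfl N4437 D13742
theorem N9226 : nd 9226 = n13743 := ndS (p := 4437) (l := 1) rfl N4437 D13743
theorem N9227 : nd 9227 = n13744 := ndS (p := 4437) (l := 3) rfl N4437 D13744
theorem N9228 : nd 9228 = n13745 := ndS (p := 4437) (l := 5) rfl N4437 D13745
theorem N9229 : nd 9229 = n13746 := ndS (p := 4437) (l := 6) rfl N4437 D13746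
theorem N9230 : nd 9230 = n13747 := ndS (p := 4438) (l := 0) rfl N4438 D13747
theorem N9231 : nd 9231 = n13748 := ndS (p := 4438) (l := 1) rfl N4438 D13748
theorem N9232 : nd 9232 = n13749 := ndS (p := 4438) (l := 7) rfl N4438 D13749
theorem N9233 : nd 9233 = n13750 := ndS (p := 4439) (l := 5) rfl N4439 D13750
theorem N9234 : nd 9234 = n13751 := ndS (p := 4440) (l := 5) rfl N4440 D13751
theorem N9235 : nd 9235 = n13752 := ndS (p := 4440) (l := 6) rfl N4440 D13752
theorem N9236 : nd 9236 = n13753 := ndS (p := 4441) (l := 0) rfl N4441 D13753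
theorem N9237 : nd 9237 = n13754 := ndS (p := 4441) (l := 1) rfl N4441 D13754
theorem N9238 : nd 9238 = n13755 := ndS (p := 4441) (l := 4) rfl N4441 D13755
theorem N9239 : nd 9239 = n13756 := ndS (p := 4441) (l := 6) rfl N4441 D13756
theorem N9240 : nd 9240 = n13757 := ndS (p := 4442) (l := 0) rfl N4442 D13757
theorem N9241 : nd 9241 = n13758 := ndS (p := 4442) (l := 1) rfl N4442 D13758
theorem N9242 : nd 9242 = n13759 := ndS (p := 4442) (l := 5) rfl N4442 D13759
theorem N9243 : nd 9243 = n13760 := ndS (p := 4443) (l := 3) rfl N4443 D13760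
theorem N9244 : nd 9244 = n13761 := ndS (p := 4443) (l := 5) rfl N4443 D13761
theorem N9245 : nd 9245 = n13762 := ndS (p := 4443) (l := 6) rfl N4443 D13762
theorem N9246 : nd 9246 = n13763 := ndS (p := 4444) (l := 0) rfl N4444 D13763
theorem N9247 : nd 9247 = n13764 := ndS (p := 4444) (l := 5) rfl N4444 D13764
theorem N9248 : nd 9248 = n13765 := ndS (p := 4444) (l := 7) rfl N4444 D13765
theorem N9249 : nd 9249 = n13766 := ndS (p := 4445) (l := 4) rfl N4445 D13766
theorem N9250 : nd 9250 = n13767 := ndS (p := 4446) (l := 4) rfl N4446 D13767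
theorem N9251 : nd 9251 = n13768 := ndS (p := 4446) (l := 6) rfl N4446 D13768
theorem N9252 : nd 9252 = n13769 := ndS (p := 4447) (l := 3) rfl N4447 D13769
theorem N9253 : nd 9253 = n13770 := ndS (p := 4447) (l := 5) rfl N4447 D13770
theorem N9254 : nd 9254 = n13771 := ndS (p := 4447) (l := 6) rfl N4447 D13771
theorem N9255 : nd 9255 = n13772 := ndS (p := 4448) (l := 0) rfl N4448 D13772
theorem N9256 : nd 9256 = n13773 := ndS (p := 4448) (l := 1) rfl N4448 D13773
theorem N9257 : nd 9257 = n13774 := ndS (p := 4448) (l := 7) rfl N4448 D13774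
theorem N9258 : nd 9258 = n13775 := ndS (p := 4449) (l := 2) rfl N4449 D13775
theorem N9259 : nd 9259 = n13776 := ndS (p := 4449) (l := 4) rfl N4449 D13776
theorem N9260 : nd 9260 = n13777 := ndS (p := 4449) (l := 6) rfl N4449 D13777
theorem N9261 : nd 9261 = n13778 := ndS (p := 4450) (l := 3) rfl N4450 D13778
theorem N9262 : nd 9262 = n13779 := ndS (p := 4450) (l := 5) rfl N4450 D13779
theorem N9263 : nd 9263 = n13780 := ndS (p := 4450) (l := 6) rfl N4450 D13780
theorem N9264 : nd 9264 = n13781 := ndS (p := 4451) (l := 0) rfl N4451 D13781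
theorem N9265 : nd 9265 = n13782 := ndS (p := 4451) (l := 1) rfl N4451 D13782
theorem N9266 : nd 9266 = n13783 := ndS (p := 4451) (l := 7) rfl N4451 D13783
theorem N9267 : nd 9267 = n13784 := ndS (p := 4452) (l := 3) rfl N4452 D13784
theorem N9268 : nd 9268 = n13785 := ndS (p := 4452) (l := 5) rfl N4452 D13785
theorem N9269 : nd 9269 = n13786 := ndS (p := 4452) (l := 6) rfl N4452 D13786
theorem N9270 : nd 9270 = n13787 := ndS (p := 4453) (l := 3) rfl N4453 D13787
theorem N9271 : nd 9271 = n13788 := ndS (p := 4453) (l := 5) rfl N4453 D13788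
theorem N9272 : nd 9272 = n13789 := ndS (p := 4453) (l := 6) rfl N4453 D13789
theorem N9273 : nd 9273 = n13790 := ndS (p := 4454) (l := 0) rfl N4454 D13790
theorem N9274 : nd 9274 = n13791 := ndS (p := 4454) (l := 1) rfl N4454 D13791
theorem N9275 : nd 9275 = n13792 := ndS (p := 4454) (l := 2) rfl N4454 D13792
theorem N9276 : nd 9276 = n13793 := ndS (p := 4454) (l := 5) rfl N4454 D13793
theorem N9277 : nd 9277 = n13794 := ndS (p := 4454) (l := 7) rfl N4454 D13794
theorem N9278 : nd 9278 = n13795 := ndS (p := 4455) (l := 0) rfl N4455 D13795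
theorem N9279 : nd 9279 = n13796 := ndS (p := 4455) (l := 1) rfl N4455 D13796
theorem N9280 : nd 9280 = n13797 := ndS (p := 4455) (l := 6) rfl N4455 D13797
theorem N9281 : nd 9281 = n13798 := ndS (p := 4456) (l := 6) rfl N4456 D13798
theorem N9282 : nd 9282 = n13799 := ndS (p := 4457) (l := 0) rfl N4457 D13799
theorem N9283 : nd 9283 = n13800 := ndS (p := 4458) (l := 5) rfl N4458 D13800
theorem N9284 : nd 9284 = n13801 := ndS (p := 4459) (l := 0) rfl N4459 D13801
theorem N9285 : nd 9285 = n13802 := ndS (p := 4459) (l := 1) rfl N4459 D13802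
theorem N9286 : nd 9286 = n13803 := ndS (p := 4459) (l := 4) rfl N4459 D13803
theorem N9287 : nd 9287 = n13804 := ndS (p := 4459) (l := 6) rfl N4459 D13804
theorem N9288 : nd 9288 = n13805 := ndS (p := 4460) (l := 4) rfl N4460 D13805
theorem N9289 : nd 9289 = n13806 := ndS (p := 4461) (l := 3) rfl N4461 D13806
theorem N9290 : nd 9290 = n13807 := ndS (p := 4461) (l := 4) rfl N4461 D13807
theorem N9291 : nd 9291 = n13808 := ndS (p := 4462) (l := 0) rfl N4462 D13808
theorem N9292 : nd 9292 = n13809 := ndS (p := 4462) (l := 1) rfl N4462 D13809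
theorem N9293 : nd 9293 = n13810 := ndS (p := 4462) (l := 3) rfl N4462 D13810
theorem N9294 : nd 9294 = n13811 := ndS (p := 4462) (l := 5) rfl N4462 D13811
theorem N9295 : nd 9295 = n13812 := ndS (p := 4463) (l := 0) rfl N4463 D13812
theorem N9296 : nd 9296 = n13813 := ndS (p := 4463) (l := 1) rfl N4463 D13813
theorem N9297 : nd 9297 = n13814 := ndS (p := 4463) (l := 4) rfl N4463 D13814
theorem N9298 : nd 9298 = n13815 := ndS (p := 4463) (l := 6) rfl N4463 D13815
theorem N9299 : nd 9299 = n13816 := ndS (p := 4464) (l := 3) rfl N4464 D13816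
theorem N9300 : nd 9300 = n13817 := ndS (p := 4464) (l := 4) rfl N4464 D13817
theorem N9301 : nd 9301 = n13818 := ndS (p := 4464) (l := 6) rfl N4464 D13818
theorem N9302 : nd 9302 = n13819 := ndS (p := 4465) (l := 3) rfl N4465 D13819
theorem N9303 : nd 9303 = n13820 := ndS (p := 4465) (l := 4) rfl N4465 D13820
theorem N9304 : nd 9304 = n13821 := ndS (p := 4466) (l := 3) rfl N4466 D13821
theorem N9305 : nd 9305 = n13822 := ndS (p := 4466) (l := 6) rfl N4466 D13822
theorem N9306 : nd 9306 = n13823 := ndS (p := 4467) (l := 0) rfl N4467 D13823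
theorem N9307 : nd 9307 = n13824 := ndS (p := 4467) (l := 1) rfl N4467 D13824
theorem N9308 : nd 9308 = n13825 := ndS (p := 4467) (l := 7) rfl N4467 D13825
theorem N9309 : nd 9309 = n13828 := ndS (p := 4469) (l := 5) rfl N4469 D13828
theorem N9310 : nd 9310 = n13829 := ndS (p := 4470) (l := 3) rfl N4470 D13829
theorem N9311 : nd 9311 = n13830 := ndS (p := 4470) (l := 5) rfl N4470 D13830
theorem N9312 : nd 9312 = n13832 := ndS (p := 4471) (l := 5) rfl N4471 D13832
theorem N9313 : nd 9313 = n13833 := ndS (p := 4471) (l := 6) rfl N4471 D13833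
theorem N9314 : nd 9314 = n13834 := ndS (p := 4472) (l := 3) rfl N4472 D13834
theorem N9315 : nd 9315 = n13835 := ndS (p := 4472) (l := 5) rfl N4472 D13835
theorem N9316 : nd 9316 = n13836 := ndS (p := 4473) (l := 0) rfl N4473 D13836
theorem N9317 : nd 9317 = n13838 := ndS (p := 4473) (l := 2) rfl N4473 D13838
theorem N9318 : nd 9318 = n13839 := ndS (p := 4473) (l := 5) rfl N4473 D13839
theorem N9319 : nd 9319 = n13840 := ndS (p := 4474) (l := 6) rfl N4474 D13840
theorem N9320 : nd 9320 = n13841 := ndS (p := 4475) (l := 0) rfl N4475 D13841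
theorem N9321 : nd 9321 = n13842 := ndS (p := 4475) (l := 1) rfl N4475 D13842
theorem N9322 : nd 9322 = n13843 := ndS (p := 4475) (l := 4) rfl N4475 D13843
theorem N9323 : nd 9323 = n13844 := ndS (p := 4475) (l := 6) rfl N4475 D13844
theorem N9324 : nd 9324 = n13846 := ndS (p := 4476) (l := 5) rfl N4476 D13846
theorem N9325 : nd 9325 = n13847 := ndS (p := 4477) (l := 3) rfl N4477 D13847
theorem N9326 : nd 9326 = n13848 := ndS (p := 4477) (l := 6) rfl N4477 D13848
theorem N9327 : nd 9327 = n13849 := ndS (p := 4478) (l := 0) rfl N4478 D13849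
theorem N9328 : nd 9328 = n13850 := ndS (p := 4478) (l := 5) rfl N4478 D13850
theorem N9329 : nd 9329 = n13851 := ndS (p := 4478) (l := 7) rfl N4478 D13851
theorem N9330 : nd 9330 = n13852 := ndS (p := 4479) (l := 4) rfl N4479 D13852
theorem N9331 : nd 9331 = n13853 := ndS (p := 4480) (l := 0) rfl N4480 D13853
theorem N9332 : nd 9332 = n13854 := ndS (p := 4480) (l := 1) rfl N4480 D13854
theorem N9333 : nd 9333 = n13855 := ndS (p := 4480) (l := 2) rfl N4480 D13855
theorem N9334 : nd 9334 = n13856 := ndS (p := 4480) (l := 5) rfl N4480 D13856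
theorem N9335 : nd 9335 = n13857 := ndS (p := 4481) (l := 6) rfl N4481 D13857
theorem N9336 : nd 9336 = n13858 := ndS (p := 4482) (l := 3) rfl N4482 D13858
theorem N9337 : nd 9337 = n13859 := ndS (p := 4482) (l := 5) rfl N4482 D13859
theorem N9338 : nd 9338 = n13860 := ndS (p := 4483) (l := 3) rfl N4483 D13860
theorem N9339 : nd 9339 = n13861 := ndS (p := 4483) (l := 5) rfl N4483 D13861
theorem N9340 : nd 9340 = n13862 := ndS (p := 4483) (l := 6) rfl N4483 D13862
theorem N9341 : nd 9341 = n13866 := ndS (p := 4485) (l := 5) rfl N4485 D13866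
theorem N9342 : nd 9342 = n13867 := ndS (p := 4485) (l := 6) rfl N4485 D13867
theorem N9343 : nd 9343 = n13868 := ndS (p := 4486) (l := 0) rfl N4486 D13868
theorem N9344 : nd 9344 = n13869 := ndS (p := 4486) (l := 1) rfl N4486 D13869
theorem N9345 : nd 9345 = n13870 := ndS (p := 4486) (l := 6) rfl N4486 D13870
theorem N9346 : nd 9346 = n13872 := ndS (p := 4488) (l := 1) rfl N4488 D13872
theorem N9347 : nd 9347 = n13873 := ndS (p := 4488) (l := 2) rfl N4488 D13873
theorem N9348 : nd 9348 = n13874 := ndS (p := 4488) (l := 5) rfl N4488 D13874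
theorem N9349 : nd 9349 = n13875 := ndS (p := 4488) (l := 6) rfl N4488 D13875
theorem N9350 : nd 9350 = n13876 := ndS (p := 4489) (l := 6) rfl N4489 D13876
theorem N9351 : nd 9351 = n13877 := ndS (p := 4490) (l := 5) rfl N4490 D13877
theorem N9352 : nd 9352 = n13881 := ndS (p := 4491) (l := 5) rfl N4491 D13881
theorem N9353 : nd 9353 = n13882 := ndS (p := 4491) (l := 6) rfl N4491 D13882
theorem N9354 : nd 9354 = n13883 := ndS (p := 4492) (l := 0) rfl N4492 D13883
theorem N9355 : nd 9355 = n13884 := ndS (p := 4492) (l := 1) rfl N4492 D13884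
theorem N9356 : nd 9356 = n13885 := ndS (p := 4492) (l := 6) rfl N4492 D13885
theorem N9357 : nd 9357 = n13887 := ndS (p := 4494) (l := 1) rfl N4494 D13887
theorem N9358 : nd 9358 = n13888 := ndS (p := 4494) (l := 2) rfl N4494 D13888
theorem N9359 : nd 9359 = n13889 := ndS (p := 4494) (l := 4) rfl N4494 D13889
theorem N9360 : nd 9360 = n13890 := ndS (p := 4494) (l := 5) rfl N4494 D13890
theorem N9361 : nd 9361 = n13891 := ndS (p := 4494) (l := 6) rfl N4494 D13891
theorem N9362 : nd 9362 = n13892 := ndS (p := 4495) (l := 6) rfl N4495 D13892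
theorem N9363 : nd 9363 = n13893 := ndS (p := 4496) (l := 5) rfl N4496 D13893
theorem N9364 : nd 9364 = n13895 := ndS (p := 4497) (l := 2) rfl N4497 D13895
theorem N9365 : nd 9365 = n13896 := ndS (p := 4497) (l := 3) rfl N4497 D13896
theorem N9366 : nd 9366 = n13897 := ndS (p := 4497) (l := 4) rfl N4497 D13897
theorem N9367 : nd 9367 = n13898 := ndS (p := 4497) (l := 5) rfl N4497 D13898
theorem N9368 : nd 9368 = n13899 := ndS (p := 4497) (l := 6) rfl N4497 D13899
theorem N9369 : nd 9369 = n13900 := ndS (p := 4497) (l := 7) rfl N4497 D13900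
theorem N9370 : nd 9370 = n13901 := ndS (p := 4498) (l := 3) rfl N4498 D13901
theorem N9371 : nd 9371 = n13902 := ndS (p := 4498) (l := 4) rfl N4498 D13902
theorem N9372 : nd 9372 = n13903 := ndS (p := 4498) (l := 5) rfl N4498 D13903
theorem N9373 : nd 9373 = n13907 := ndS (p := 4499) (l := 5) rfl N4499 D13907
theorem N9374 : nd 9374 = n13908 := ndS (p := 4500) (l := 0) rfl N4500 D13908
theorem N9375 : nd 9375 = n13909 := ndS (p := 4500) (l := 1) rfl N4500 D13909
theorem N9376 : nd 9376 = n13910 := ndS (p := 4500) (l := 4) rfl N4500 D13910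
theorem N9377 : nd 9377 = n13911 := ndS (p := 4500) (l := 6) rfl N4500 D13911
theorem N9378 : nd 9378 = n13912 := ndS (p := 4500) (l := 7) rfl N4500 D13912
theorem N9379 : nd 9379 = n13913 := ndS (p := 4502) (l := 3) rfl N4502 D13913
theorem N9380 : nd 9380 = n13914 := ndS (p := 4502) (l := 6) rfl N4502 D13914
theorem N9381 : nd 9381 = n13915 := ndS (p := 4503) (l := 3) rfl N4503 D13915
theorem N9382 : nd 9382 = n13916 := ndS (p := 4503) (l := 6) rfl N4503 D13916
theorem N9383 : nd 9383 = n13917 := ndS (p := 4504) (l := 3) rfl N4504 D13917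
theorem N9384 : nd 9384 = n13918 := ndS (p := 4504) (l := 6) rfl N4504 D13918
theorem N9385 : nd 9385 = n13919 := ndS (p := 4505) (l := 0) rfl N4505 D13919
theorem N9386 : nd 9386 = n13920 := ndS (p := 4505) (l := 1) rfl N4505 D13920
theorem N9387 : nd 9387 = n13921 := ndS (p := 4505) (l := 7) rfl N4505 D13921
theorem N9388 : nd 9388 = n13922 := ndS (p := 4506) (l := 6) rfl N4506 D13922
theorem N9389 : nd 9389 = n13944 := ndS (p := 4512) (l := 5) rfl N4512 D13944
theorem N9390 : nd 9390 = n13945 := ndS (p := 4512) (l := 6) rfl N4512 D13945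
theorem N9391 : nd 9391 = n13946 := ndS (p := 4513) (l := 0) rfl N4513 D13946
theorem N9392 : nd 9392 = n13947 := ndS (p := 4513) (l := 1) rfl N4513 D13947
theorem N9393 : nd 9393 = n13948 := ndS (p := 4513) (l := 4) rfl N4513 D13948
theorem N9394 : nd 9394 = n13949 := ndS (p := 4513) (l := 6) rfl N4513 D13949
theorem N9395 : nd 9395 = n13950 := ndS (p := 4515) (l := 5) rfl N4515 D13950
theorem N9396 : nd 9396 = n13951 := ndS (p := 4515) (l := 6) rfl N4515 D13951
theorem N9397 : nd 9397 = n13952 := ndS (p := 4516) (l := 4) rfl N4516 D13952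
theorem N9398 : nd 9398 = n13953 := ndS (p := 4516) (l := 6) rfl N4516 D13953
theorem N9399 : nd 9399 = n13954 := ndS (p := 4517) (l := 5) rfl N4517 D13954
theorem N9400 : nd 9400 = n13955 := ndS (p := 4518) (l := 3) rfl N4518 D13955
theorem N9401 : nd 9401 = n13956 := ndS (p := 4518) (l := 4) rfl N4518 D13956
theorem N9402 : nd 9402 = n13957 := ndS (p := 4518) (l := 6) rfl N4518 D13957
theorem N9403 : nd 9403 = n13958 := ndS (p := 4519) (l := 3) rfl N4519 D13958
theorem N9404 : nd 9404 = n13959 := ndS (p := 4519) (l := 4) rfl N4519 D13959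
theorem N9405 : nd 9405 = n13960 := ndS (p := 4519) (l := 6) rfl N4519 D13960
theorem N9406 : nd 9406 = n13961 := ndS (p := 4520) (l := 0) rfl N4520 D13961
theorem N9407 : nd 9407 = n13962 := ndS (p := 4520) (l := 1) rfl N4520 D13962
theorem N9408 : nd 9408 = n13963 := ndS (p := 4520) (l := 3) rfl N4520 D13963
theorem N9409 : nd 9409 = n13964 := ndS (p := 4520) (l := 5) rfl N4520 D13964
theorem N9410 : nd 9410 = n13965 := ndS (p := 4520) (l := 7) rfl N4520 D13965
theorem N9411 : nd 9411 = n13966 := ndS (p := 4521) (l := 6) rfl N4521 D13966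
theorem N9412 : nd 9412 = n13967 := ndS (p := 4522) (l := 4) rfl N4522 D13967
theorem N9413 : nd 9413 = n13968 := ndS (p := 4522) (l := 5) rfl N4522 D13968
theorem N9414 : nd 9414 = n13969 := ndS (p := 4523) (l := 5) rfl N4523 D13969
theorem N9415 : nd 9415 = n13970 := ndS (p := 4524) (l := 5) rfl N4524 D13970
theorem N9416 : nd 9416 = n13971 := ndS (p := 4525) (l := 0) rfl N4525 D13971
theorem N9417 : nd 9417 = n13972 := ndS (p := 4525) (l := 1) rfl N4525 D13972
theorem N9418 : nd 9418 = n13973 := ndS (p := 4525) (l := 4) rfl N4525 D13973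
theorem N9419 : nd 9419 = n13974 := ndS (p := 4525) (l := 6) rfl N4525 D13974
theorem N9420 : nd 9420 = n13975 := ndS (p := 4526) (l := 3) rfl N4526 D13975
theorem N9421 : nd 9421 = n13976 := ndS (p := 4526) (l := 4) rfl N4526 D13976
theorem N9422 : nd 9422 = n13977 := ndS (p := 4526) (l := 6) rfl N4526 D13977
theorem N9423 : nd 9423 = n13978 := ndS (p := 4527) (l := 4) rfl N4527 D13978
theorem N9424 : nd 9424 = n13979 := ndS (p := 4528) (l := 3) rfl N4528 D13979
theorem N9425 : nd 9425 = n13980 := ndS (p := 4528) (l := 5) rfl N4528 D13980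
theorem N9426 : nd 9426 = n13981 := ndS (p := 4528) (l := 6) rfl N4528 D13981
theorem N9427 : nd 9427 = n13982 := ndS (p := 4529) (l := 0) rfl N4529 D13982
theorem N9428 : nd 9428 = n13983 := ndS (p := 4529) (l := 1) rfl N4529 D13983
theorem N9429 : nd 9429 = n13984 := ndS (p := 4529) (l := 7) rfl N4529 D13984
theorem N9430 : nd 9430 = n13985 := ndS (p := 4530) (l := 0) rfl N4530 D13985
theorem N9431 : nd 9431 = n13986 := ndS (p := 4530) (l := 1) rfl N4530 D13986
theorem N9432 : nd 9432 = n13987 := ndS (p := 4530) (l := 4) rfl N4530 D13987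
theorem N9433 : nd 9433 = n13988 := ndS (p := 4530) (l := 6) rfl N4530 D13988
theorem N9434 : nd 9434 = n13991 := ndS (p := 4531) (l := 5) rfl N4531 D13991
theorem N9435 : nd 9435 = n13992 := ndS (p := 4532) (l := 3) rfl N4532 D13992
theorem N9436 : nd 9436 = n13993 := ndS (p := 4532) (l := 5) rfl N4532 D13993
theorem N9437 : nd 9437 = n13994 := ndS (p := 4532) (l := 6) rfl N4532 D13994
theorem N9438 : nd 9438 = n13995 := ndS (p := 4533) (l := 0) rfl N4533 D13995
theorem N9439 : nd 9439 = n13996 := ndS (p := 4533) (l := 5) rfl N4533 D13996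
theorem N9440 : nd 9440 = n13997 := ndS (p := 4533) (l := 7) rfl N4533 D13997
theorem N9441 : nd 9441 = n13998 := ndS (p := 4534) (l := 4) rfl N4534 D13998
theorem N9442 : nd 9442 = n13999 := ndS (p := 4535) (l := 2) rfl N4535 D13999
theorem N9443 : nd 9443 = n14000 := ndS (p := 4535) (l := 4) rfl N4535 D14000
theorem N9444 : nd 9444 = n14001 := ndS (p := 4535) (l := 6) rfl N4535 D14001
theorem N9445 : nd 9445 = n14002 := ndS (p := 4536) (l := 3) rfl N4536 D14002
theorem N9446 : nd 9446 = n14003 := ndS (p := 4536) (l := 5) rfl N4536 D14003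
theorem N9447 : nd 9447 = n14004 := ndS (p := 4536) (l := 6) rfl N4536 D14004
theorem N9448 : nd 9448 = n14005 := ndS (p := 4537) (l := 0) rfl N4537 D14005
theorem N9449 : nd 9449 = n14006 := ndS (p := 4537) (l := 1) rfl N4537 D14006
theorem N9450 : nd 9450 = n14007 := ndS (p := 4537) (l := 7) rfl N4537 D14007
theorem N9451 : nd 9451 = n14008 := ndS (p := 4538) (l := 4) rfl N4538 D14008
theorem N9452 : nd 9452 = n14009 := ndS (p := 4538) (l := 6) rfl N4538 D14009
theorem N9453 : nd 9453 = n14010 := ndS (p := 4539) (l := 3) rfl N4539 D14010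
theorem N9454 : nd 9454 = n14011 := ndS (p := 4539) (l := 5) rfl N4539 D14011
theorem N9455 : nd 9455 = n14012 := ndS (p := 4539) (l := 6) rfl N4539 D14012
theorem N9456 : nd 9456 = n14013 := ndS (p := 4540) (l := 0) rfl N4540 D14013
theorem N9457 : nd 9457 = n14014 := ndS (p := 4540) (l := 1) rfl N4540 D14014
theorem N9458 : nd 9458 = n14015 := ndS (p := 4540) (l := 7) rfl N4540 D14015
theorem N9459 : nd 9459 = n14016 := ndS (p := 4541) (l := 3) rfl N4541 D14016
theorem N9460 : nd 9460 = n14017 := ndS (p := 4541) (l := 5) rfl N4541 D14017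
theorem N9461 : nd 9461 = n14018 := ndS (p := 4541) (l := 6) rfl N4541 D14018
theorem N9462 : nd 9462 = n14019 := ndS (p := 4542) (l := 3) rfl N4542 D14019
theorem N9463 : nd 9463 = n14020 := ndS (p := 4542) (l := 5) rfl N4542 D14020
theorem N9464 : nd 9464 = n14021 := ndS (p := 4542) (l := 6) rfl N4542 D14021
theorem N9465 : nd 9465 = n14022 := ndS (p := 4543) (l := 0) rfl N4543 D14022
theorem N9466 : nd 9466 = n14023 := ndS (p := 4543) (l := 1) rfl N4543 D14023
theorem N9467 : nd 9467 = n14024 := ndS (p := 4543) (l := 2) rfl N4543 D14024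
theorem N9468 : nd 9468 = n14025 := ndS (p := 4543) (l := 5) rfl N4543 D14025
theorem N9469 : nd 9469 = n14026 := ndS (p := 4543) (l := 7) rfl N4543 D14026
theorem N9470 : nd 9470 = n14027 := ndS (p := 4544) (l := 0) rfl N4544 D14027
theorem N9471 : nd 9471 = n14028 := ndS (p := 4544) (l := 1) rfl N4544 D14028
theorem N9472 : nd 9472 = n14029 := ndS (p := 4544) (l := 6) rfl N4544 D14029
theorem N9473 : nd 9473 = n14030 := ndS (p := 4545) (l := 6) rfl N4545 D14030
theorem N9474 : nd 9474 = n14031 := ndS (p := 4546) (l := 0) rfl N4546 D14031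
theorem N9475 : nd 9475 = n14032 := ndS (p := 4547) (l := 0) rfl N4547 D14032
theorem N9476 : nd 9476 = n14033 := ndS (p := 4547) (l := 1) rfl N4547 D14033
theorem N9477 : nd 9477 = n14034 := ndS (p := 4547) (l := 4) rfl N4547 D14034
theorem N9478 : nd 9478 = n14035 := ndS (p := 4547) (l := 6) rfl N4547 D14035
theorem N9479 : nd 9479 = n14036 := ndS (p := 4548) (l := 3) rfl N4548 D14036
theorem N9480 : nd 9480 = n14037 := ndS (p := 4548) (l := 6) rfl N4548 D14037
theorem N9481 : nd 9481 = n14038 := ndS (p := 4549) (l := 3) rfl N4549 D14038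
theorem N9482 : nd 9482 = n14039 := ndS (p := 4550) (l := 3) rfl N4550 D14039
theorem N9483 : nd 9483 = n14040 := ndS (p := 4550) (l := 6) rfl N4550 D14040
theorem N9484 : nd 9484 = n14041 := ndS (p := 4551) (l := 0) rfl N4551 D14041
theorem N9485 : nd 9485 = n14042 := ndS (p := 4551) (l := 1) rfl N4551 D14042
theorem N9486 : nd 9486 = n14043 := ndS (p := 4551) (l := 7) rfl N4551 D14043
theorem N9487 : nd 9487 = n14044 := ndS (p := 4552) (l := 3) rfl N4552 D14044
theorem N9488 : nd 9488 = n14046 := ndS (p := 4554) (l := 3) rfl N4554 D14046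
theorem N9489 : nd 9489 = n14047 := ndS (p := 4555) (l := 3) rfl N4555 D14047
theorem N9490 : nd 9490 = n14048 := ndS (p := 4556) (l := 0) rfl N4556 D14048
theorem N9491 : nd 9491 = n14049 := ndS (p := 4556) (l := 1) rfl N4556 D14049
theorem N9492 : nd 9492 = n14050 := ndS (p := 4556) (l := 2) rfl N4556 D14050
theorem N9493 : nd 9493 = n14051 := ndS (p := 4556) (l := 5) rfl N4556 D14051
theorem N9494 : nd 9494 = n14052 := ndS (p := 4557) (l := 6) rfl N4557 D14052
theorem N9495 : nd 9495 = n14053 := ndS (p := 4558) (l := 5) rfl N4558 D14053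
theorem N9496 : nd 9496 = n14054 := ndS (p := 4558) (l := 6) rfl N4558 D14054
theorem N9497 : nd 9497 = n14055 := ndS (p := 4559) (l := 0) rfl N4559 D14055
theorem N9498 : nd 9498 = n14056 := ndS (p := 4559) (l := 1) rfl N4559 D14056
theorem N9499 : nd 9499 = n14057 := ndS (p := 4559) (l := 4) rfl N4559 D14057
theorem N9500 : nd 9500 = n14058 := ndS (p := 4559) (l := 6) rfl N4559 D14058
theorem N9501 : nd 9501 = n14059 := ndS (p := 4560) (l := 5) rfl N4560 D14059
theorem N9502 : nd 9502 = n14060 := ndS (p := 4561) (l := 4) rfl N4561 D14060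
theorem N9503 : nd 9503 = n14061 := ndS (p := 4562) (l := 4) rfl N4562 D14061
theorem N9504 : nd 9504 = n14062 := ndS (p := 4562) (l := 6) rfl N4562 D14062
theorem N9505 : nd 9505 = n14063 := ndS (p := 4563) (l := 0) rfl N4563 D14063
theorem N9506 : nd 9506 = n14064 := ndS (p := 4563) (l := 1) rfl N4563 D14064
theorem N9507 : nd 9507 = n14065 := ndS (p := 4563) (l := 3) rfl N4563 D14065
theorem N9508 : nd 9508 = n14066 := ndS (p := 4563) (l := 5) rfl N4563 D14066
theorem N9509 : nd 9509 = n14067 := ndS (p := 4564) (l := 4) rfl N4564 D14067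
theorem N9510 : nd 9510 = n14068 := ndS (p := 4565) (l := 0) rfl N4565 D14068
theorem N9511 : nd 9511 = n14069 := ndS (p := 4565) (l := 1) rfl N4565 D14069
theorem N9512 : nd 9512 = n14070 := ndS (p := 4565) (l := 4) rfl N4565 D14070
theorem N9513 : nd 9513 = n14071 := ndS (p := 4565) (l := 6) rfl N4565 D14071
theorem N9514 : nd 9514 = n14072 := ndS (p := 4566) (l := 5) rfl N4566 D14072
theorem N9515 : nd 9515 = n14073 := ndS (p := 4567) (l := 3) rfl N4567 D14073
theorem N9516 : nd 9516 = n14074 := ndS (p := 4567) (l := 6) rfl N4567 D14074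
theorem N9517 : nd 9517 = n14075 := ndS (p := 4568) (l := 0) rfl N4568 D14075
theorem N9518 : nd 9518 = n14076 := ndS (p := 4568) (l := 5) rfl N4568 D14076
theorem N9519 : nd 9519 = n14077 := ndS (p := 4568) (l := 7) rfl N4568 D14077
theorem N9520 : nd 9520 = n14078 := ndS (p := 4569) (l := 4) rfl N4569 D14078
theorem N9521 : nd 9521 = n14079 := ndS (p := 4570) (l := 0) rfl N4570 D14079
theorem N9522 : nd 9522 = n14082 := ndS (p := 4570) (l := 5) rfl N4570 D14082
theorem N9523 : nd 9523 = n14083 := ndS (p := 4571) (l := 6) rfl N4571 D14083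
theorem N9524 : nd 9524 = n14085 := ndS (p := 4572) (l := 5) rfl N4572 D14085
theorem N9525 : nd 9525 = n14089 := ndS (p := 4573) (l := 5) rfl N4573 D14089
theorem N9526 : nd 9526 = n14090 := ndS (p := 4573) (l := 6) rfl N4573 D14090
theorem N9527 : nd 9527 = n14091 := ndS (p := 4574) (l := 6) rfl N4574 D14091
theorem N9528 : nd 9528 = n14092 := ndS (p := 4576) (l := 1) rfl N4576 D14092
theorem N9529 : nd 9529 = n14093 := ndS (p := 4576) (l := 3) rfl N4576 D14093
theorem N9530 : nd 9530 = n14094 := ndS (p := 4576) (l := 5) rfl N4576 D14094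
theorem N9531 : nd 9531 = n14095 := ndS (p := 4576) (l := 6) rfl N4576 D14095
theorem N9532 : nd 9532 = n14098 := ndS (p := 4578) (l := 2) rfl N4578 D14098
theorem N9533 : nd 9533 = n14099 := ndS (p := 4578) (l := 5) rfl N4578 D14099
theorem N9534 : nd 9534 = n14100 := ndS (p := 4578) (l := 6) rfl N4578 D14100
theorem N9535 : nd 9535 = n14101 := ndS (p := 4579) (l := 6) rfl N4579 D14101
theorem N9536 : nd 9536 = n14102 := ndS (p := 4580) (l := 5) rfl N4580 D14102
theorem N9537 : nd 9537 = n14103 := ndS (p := 4581) (l := 0) rfl N4581 D14103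
theorem N9538 : nd 9538 = n14104 := ndS (p := 4581) (l := 1) rfl N4581 D14104
theorem N9539 : nd 9539 = n14105 := ndS (p := 4581) (l := 2) rfl N4581 D14105
theorem N9540 : nd 9540 = n14106 := ndS (p := 4581) (l := 4) rfl N4581 D14106
theorem N9541 : nd 9541 = n14107 := ndS (p := 4581) (l := 5) rfl N4581 D14107
theorem N9542 : nd 9542 = n14108 := ndS (p := 4581) (l := 6) rfl N4581 D14108
theorem N9543 : nd 9543 = n14109 := ndS (p := 4582) (l := 6) rfl N4582 D14109
theorem N9544 : nd 9544 = n14111 := ndS (p := 4584) (l := 1) rfl N4584 D14111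
theorem N9545 : nd 9545 = n14112 := ndS (p := 4584) (l := 2) rfl N4584 D14112
theorem N9546 : nd 9546 = n14113 := ndS (p := 4584) (l := 5) rfl N4584 D14113
theorem N9547 : nd 9547 = n14114 := ndS (p := 4584) (l := 6) rfl N4584 D14114
theorem N9548 : nd 9548 = n14115 := ndS (p := 4585) (l := 6) rfl N4585 D14115
theorem N9549 : nd 9549 = n14116 := ndS (p := 4586) (l := 5) rfl N4586 D14116
theorem N9550 : nd 9550 = n14119 := ndS (p := 4587) (l := 3) rfl N4587 D14119
theorem N9551 : nd 9551 = n14121 := ndS (p := 4587) (l := 5) rfl N4587 D14121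
theorem N9552 : nd 9552 = n14133 := ndS (p := 4588) (l := 4) rfl N4588 D14133
theorem N9553 : nd 9553 = n14134 := ndS (p := 4588) (l := 6) rfl N4588 D14134
theorem N9554 : nd 9554 = n14136 := ndS (p := 4589) (l := 3) rfl N4589 D14136
theorem N9555 : nd 9555 = n14137 := ndS (p := 4589) (l := 6) rfl N4589 D14137
theorem N9556 : nd 9556 = n14138 := ndS (p := 4590) (l := 3) rfl N4590 D14138
theorem N9557 : nd 9557 = n14139 := ndS (p := 4590) (l := 6) rfl N4590 D14139
theorem N9558 : nd 9558 = n14140 := ndS (p := 4591) (l := 3) rfl N4591 D14140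
theorem N9559 : nd 9559 = n14141 := ndS (p := 4591) (l := 6) rfl N4591 D14141
theorem N9560 : nd 9560 = n14142 := ndS (p := 4592) (l := 0) rfl N4592 D14142
theorem N9561 : nd 9561 = n14143 := ndS (p := 4592) (l := 1) rfl N4592 D14143
theorem N9562 : nd 9562 = n14144 := ndS (p := 4592) (l := 7) rfl N4592 D14144
theorem N9563 : nd 9563 = n14145 := ndS (p := 4593) (l := 6) rfl N4593 D14145
theorem N9564 : nd 9564 = n14146 := ndS (p := 4594) (l := 5) rfl N4594 D14146
theorem N9565 : nd 9565 = n14147 := ndS (p := 4595) (l := 4) rfl N4595 D14147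
theorem N9566 : nd 9566 = n14148 := ndS (p := 4596) (l := 5) rfl N4596 D14148
theorem N9567 : nd 9567 = n14149 := ndS (p := 4597) (l := 5) rfl N4597 D14149
theorem N9568 : nd 9568 = n14150 := ndS (p := 4598) (l := 4) rfl N4598 D14150
theorem N9569 : nd 9569 = n14151 := ndS (p := 4599) (l := 4) rfl N4599 D14151
theorem N9570 : nd 9570 = n14152 := ndS (p := 4599) (l := 5) rfl N4599 D14152
theorem N9571 : nd 9571 = n14153 := ndS (p := 4600) (l := 5) rfl N4600 D14153
theorem N9572 : nd 9572 = n14154 := ndS (p := 4601) (l := 0) rfl N4601 D14154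
theorem N9573 : nd 9573 = n14155 := ndS (p := 4601) (l := 4) rfl N4601 D14155
theorem N9574 : nd 9574 = n14156 := ndS (p := 4601) (l := 7) rfl N4601 D14156
theorem N9575 : nd 9575 = n14157 := ndS (p := 4603) (l := 5) rfl N4603 D14157
theorem N9576 : nd 9576 = n14158 := ndS (p := 4603) (l := 6) rfl N4603 D14158
theorem N9577 : nd 9577 = n14159 := ndS (p := 4604) (l := 0) rfl N4604 D14159
theorem N9578 : nd 9578 = n14160 := ndS (p := 4604) (l := 5) rfl N4604 D14160
theorem N9579 : nd 9579 = n14161 := ndS (p := 4604) (l := 6) rfl N4604 D14161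
theorem N9580 : nd 9580 = n14162 := ndS (p := 4605) (l := 0) rfl N4605 D14162
theorem N9581 : nd 9581 = n14163 := ndS (p := 4605) (l := 4) rfl N4605 D14163
theorem N9582 : nd 9582 = n14164 := ndS (p := 4605) (l := 6) rfl N4605 D14164
theorem N9583 : nd 9583 = n14165 := ndS (p := 4607) (l := 5) rfl N4607 D14165
theorem N9584 : nd 9584 = n14166 := ndS (p := 4607) (l := 6) rfl N4607 D14166
theorem N9585 : nd 9585 = n14167 := ndS (p := 4608) (l := 3) rfl N4608 D14167
theorem N9586 : nd 9586 = n14168 := ndS (p := 4608) (l := 5) rfl N4608 D14168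
theorem N9587 : nd 9587 = n14169 := ndS (p := 4608) (l := 6) rfl N4608 D14169
theorem N9588 : nd 9588 = n14170 := ndS (p := 4609) (l := 4) rfl N4609 D14170
theorem N9589 : nd 9589 = n14171 := ndS (p := 4609) (l := 6) rfl N4609 D14171
theorem N9590 : nd 9590 = n14173 := ndS (p := 4610) (l := 5) rfl N4610 D14173
theorem N9591 : nd 9591 = n14174 := ndS (p := 4611) (l := 3) rfl N4611 D14174
theorem N9592 : nd 9592 = n14175 := ndS (p := 4611) (l := 4) rfl N4611 D14175
theorem N9593 : nd 9593 = n14176 := ndS (p := 4611) (l := 6) rfl N4611 D14176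
theorem N9594 : nd 9594 = n14177 := ndS (p := 4612) (l := 3) rfl N4612 D14177
theorem N9595 : nd 9595 = n14178 := ndS (p := 4612) (l := 4) rfl N4612 D14178
theorem N9596 : nd 9596 = n14179 := ndS (p := 4612) (l := 6) rfl N4612 D14179
theorem N9597 : nd 9597 = n14180 := ndS (p := 4613) (l := 0) rfl N4613 D14180
theorem N9598 : nd 9598 = n14181 := ndS (p := 4613) (l := 1) rfl N4613 D14181
theorem N9599 : nd 9599 = n14182 := ndS (p := 4613) (l := 3) rfl N4613 D14182
theorem N9600 : nd 9600 = n14183 := ndS (p := 4613) (l := 5) rfl N4613 D14183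
theorem N9601 : nd 9601 = n14184 := ndS (p := 4613) (l := 7) rfl N4613 D14184
theorem N9602 : nd 9602 = n14185 := ndS (p := 4614) (l := 6) rfl N4614 D14185
theorem N9603 : nd 9603 = n14186 := ndS (p := 4615) (l := 4) rfl N4615 D14186
theorem N9604 : nd 9604 = n14187 := ndS (p := 4615) (l := 6) rfl N4615 D14187
theorem N9605 : nd 9605 = n14188 := ndS (p := 4616) (l := 0) rfl N4616 D14188
theorem N9606 : nd 9606 = n14189 := ndS (p := 4616) (l := 1) rfl N4616 D14189
theorem N9607 : nd 9607 = n14190 := ndS (p := 4616) (l := 7) rfl N4616 D14190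
theorem N9608 : nd 9608 = n14191 := ndS (p := 4617) (l := 4) rfl N4617 D14191
theorem N9609 : nd 9609 = n14192 := ndS (p := 4617) (l := 6) rfl N4617 D14192
theorem N9610 : nd 9610 = n14193 := ndS (p := 4618) (l := 0) rfl N4618 D14193
theorem N9611 : nd 9611 = n14194 := ndS (p := 4618) (l := 1) rfl N4618 D14194
theorem N9612 : nd 9612 = n14195 := ndS (p := 4618) (l := 7) rfl N4618 D14195
theorem N9613 : nd 9613 = n14196 := ndS (p := 4619) (l := 0) rfl N4619 D14196
theorem N9614 : nd 9614 = n14197 := ndS (p := 4619) (l := 1) rfl N4619 D14197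
theorem N9615 : nd 9615 = n14198 := ndS (p := 4619) (l := 2) rfl N4619 D14198
theorem N9616 : nd 9616 = n14199 := ndS (p := 4619) (l := 5) rfl N4619 D14199
theorem N9617 : nd 9617 = n14200 := ndS (p := 4619) (l := 7) rfl N4619 D14200
theorem N9618 : nd 9618 = n14201 := ndS (p := 4620) (l := 6) rfl N4620 D14201
theorem N9619 : nd 9619 = n14202 := ndS (p := 4621) (l := 6) rfl N4621 D14202
theorem N9620 : nd 9620 = n14203 := ndS (p := 4622) (l := 0) rfl N4622 D14203
theorem N9621 : nd 9621 = n14204 := ndS (p := 4623) (l := 5) rfl N4623 D14204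
theorem N9622 : nd 9622 = n14205 := ndS (p := 4624) (l := 4) rfl N4624 D14205
theorem N9623 : nd 9623 = n14206 := ndS (p := 4625) (l := 5) rfl N4625 D14206
theorem N9624 : nd 9624 = n14207 := ndS (p := 4625) (l := 7) rfl N4625 D14207
theorem N9625 : nd 9625 = n14208 := ndS (p := 4626) (l := 5) rfl N4626 D14208
theorem N9626 : nd 9626 = n14209 := ndS (p := 4627) (l := 5) rfl N4627 D14209
theorem N9627 : nd 9627 = n14210 := ndS (p := 4628) (l := 0) rfl N4628 D14210
theorem N9628 : nd 9628 = n14211 := ndS (p := 4628) (l := 4) rfl N4628 D14211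
theorem N9629 : nd 9629 = n14212 := ndS (p := 4628) (l := 7) rfl N4628 D14212
theorem N9630 : nd 9630 = n14213 := ndS (p := 4630) (l := 5) rfl N4630 D14213
theorem N9631 : nd 9631 = n14214 := ndS (p := 4631) (l := 5) rfl N4631 D14214
theorem N9632 : nd 9632 = n14215 := ndS (p := 4632) (l := 5) rfl N4632 D14215
theorem N9633 : nd 9633 = n14216 := ndS (p := 4632) (l := 6) rfl N4632 D14216
theorem N9634 : nd 9634 = n14217 := ndS (p := 4633) (l := 3) rfl N4633 D14217
theorem N9635 : nd 9635 = n14218 := ndS (p := 4633) (l := 5) rfl N4633 D14218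
theorem N9636 : nd 9636 = n14219 := ndS (p := 4633) (l := 6) rfl N4633 D14219
theorem N9637 : nd 9637 = n14220 := ndS (p := 4634) (l := 0) rfl N4634 D14220
theorem N9638 : nd 9638 = n14221 := ndS (p := 4634) (l := 1) rfl N4634 D14221
theorem N9639 : nd 9639 = n14222 := ndS (p := 4634) (l := 4) rfl N4634 D14222
theorem N9640 : nd 9640 = n14223 := ndS (p := 4634) (l := 7) rfl N4634 D14223
theorem N9641 : nd 9641 = n14224 := ndS (p := 4636) (l := 0) rfl N4636 D14224
theorem N9642 : nd 9642 = n14225 := ndS (p := 4636) (l := 4) rfl N4636 D14225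
theorem N9643 : nd 9643 = n14226 := ndS (p := 4636) (l := 6) rfl N4636 D14226
theorem N9644 : nd 9644 = n14227 := ndS (p := 4638) (l := 5) rfl N4638 D14227
theorem N9645 : nd 9645 = n14228 := ndS (p := 4638) (l := 6) rfl N4638 D14228
theorem N9646 : nd 9646 = n14229 := ndS (p := 4639) (l := 4) rfl N4639 D14229
theorem N9647 : nd 9647 = n14230 := ndS (p := 4639) (l := 6) rfl N4639 D14230
theorem N9648 : nd 9648 = n14232 := ndS (p := 4640) (l := 5) rfl N4640 D14232
theorem N9649 : nd 9649 = n14233 := ndS (p := 4641) (l := 4) rfl N4641 D14233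
theorem N9650 : nd 9650 = n14234 := ndS (p := 4641) (l := 6) rfl N4641 D14234
theorem N9651 : nd 9651 = n14235 := ndS (p := 4642) (l := 3) rfl N4642 D14235
theorem N9652 : nd 9652 = n14236 := ndS (p := 4642) (l := 4) rfl N4642 D14236
theorem N9653 : nd 9653 = n14237 := ndS (p := 4642) (l := 6) rfl N4642 D14237
theorem N9654 : nd 9654 = n14238 := ndS (p := 4643) (l := 0) rfl N4643 D14238
theorem N9655 : nd 9655 = n14239 := ndS (p := 4643) (l := 1) rfl N4643 D14239
theorem N9656 : nd 9656 = n14240 := ndS (p := 4643) (l := 3) rfl N4643 D14240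
theorem N9657 : nd 9657 = n14241 := ndS (p := 4643) (l := 5) rfl N4643 D14241
theorem N9658 : nd 9658 = n14242 := ndS (p := 4643) (l := 7) rfl N4643 D14242
theorem N9659 : nd 9659 = n14243 := ndS (p := 4644) (l := 6) rfl N4644 D14243
theorem N9660 : nd 9660 = n14244 := ndS (p := 4645) (l := 4) rfl N4645 D14244
theorem N9661 : nd 9661 = n14245 := ndS (p := 4645) (l := 6) rfl N4645 D14245
theorem N9662 : nd 9662 = n14246 := ndS (p := 4646) (l := 0) rfl N4646 D14246
theorem N9663 : nd 9663 = n14247 := ndS (p := 4646) (l := 1) rfl N4646 D14247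
theorem N9664 : nd 9664 = n14248 := ndS (p := 4646) (l := 7) rfl N4646 D14248
theorem N9665 : nd 9665 = n14249 := ndS (p := 4647) (l := 4) rfl N4647 D14249
theorem N9666 : nd 9666 = n14250 := ndS (p := 4647) (l := 6) rfl N4647 D14250
theorem N9667 : nd 9667 = n14251 := ndS (p := 4648) (l := 0) rfl N4648 D14251
theorem N9668 : nd 9668 = n14252 := ndS (p := 4648) (l := 1) rfl N4648 D14252
theorem N9669 : nd 9669 = n14253 := ndS (p := 4648) (l := 7) rfl N4648 D14253
theorem N9670 : nd 9670 = n14254 := ndS (p := 4649) (l := 0) rfl N4649 D14254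
theorem N9671 : nd 9671 = n14255 := ndS (p := 4649) (l := 1) rfl N4649 D14255
theorem N9672 : nd 9672 = n14256 := ndS (p := 4649) (l := 2) rfl N4649 D14256
theorem N9673 : nd 9673 = n14257 := ndS (p := 4649) (l := 5) rfl N4649 D14257
theorem N9674 : nd 9674 = n14258 := ndS (p := 4649) (l := 7) rfl N4649 D14258
theorem N9675 : nd 9675 = n14259 := ndS (p := 4650) (l := 6) rfl N4650 D14259
theorem N9676 : nd 9676 = n14260 := ndS (p := 4651) (l := 6) rfl N4651 D14260
theorem N9677 : nd 9677 = n14261 := ndS (p := 4652) (l := 0) rfl N4652 D14261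
theorem N9678 : nd 9678 = n14262 := ndS (p := 4653) (l := 5) rfl N4653 D14262
theorem N9679 : nd 9679 = n14263 := ndS (p := 4653) (l := 6) rfl N4653 D14263
theorem N9680 : nd 9680 = n14264 := ndS (p := 4654) (l := 5) rfl N4654 D14264
theorem N9681 : nd 9681 = n14265 := ndS (p := 4654) (l := 6) rfl N4654 D14265
theorem N9682 : nd 9682 = n14266 := ndS (p := 4655) (l := 0) rfl N4655 D14266
theorem N9683 : nd 9683 = n14267 := ndS (p := 4655) (l := 1) rfl N4655 D14267
theorem N9684 : nd 9684 = n14268 := ndS (p := 4655) (l := 4) rfl N4655 D14268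
theorem N9685 : nd 9685 = n14269 := ndS (p := 4655) (l := 7) rfl N4655 D14269
theorem N9686 : nd 9686 = n14270 := ndS (p := 4657) (l := 5) rfl N4657 D14270
theorem N9687 : nd 9687 = n14271 := ndS (p := 4657) (l := 6) rfl N4657 D14271
theorem N9688 : nd 9688 = n14272 := ndS (p := 4658) (l := 0) rfl N4658 D14272
theorem N9689 : nd 9689 = n14274 := ndS (p := 4658) (l := 4) rfl N4658 D14274
theorem N9690 : nd 9690 = n14275 := ndS (p := 4658) (l := 7) rfl N4658 D14275
theorem N9691 : nd 9691 = n14276 := ndS (p := 4660) (l := 4) rfl N4660 D14276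
theorem N9692 : nd 9692 = n14277 := ndS (p := 4660) (l := 6) rfl N4660 D14277
theorem N9693 : nd 9693 = n14278 := ndS (p := 4662) (l := 4) rfl N4662 D14278
theorem N9694 : nd 9694 = n14279 := ndS (p := 4662) (l := 5) rfl N4662 D14279
theorem N9695 : nd 9695 = n14280 := ndS (p := 4662) (l := 6) rfl N4662 D14280
theorem N9696 : nd 9696 = n14281 := ndS (p := 4663) (l := 0) rfl N4663 D14281
theorem N9697 : nd 9697 = n14282 := ndS (p := 4663) (l := 1) rfl N4663 D14282
theorem N9698 : nd 9698 = n14283 := ndS (p := 4663) (l := 3) rfl N4663 D14283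
theorem N9699 : nd 9699 = n14284 := ndS (p := 4663) (l := 5) rfl N4663 D14284
theorem N9700 : nd 9700 = n14285 := ndS (p := 4663) (l := 7) rfl N4663 D14285
theorem N9701 : nd 9701 = n14286 := ndS (p := 4664) (l := 6) rfl N4664 D14286
theorem N9702 : nd 9702 = n14287 := ndS (p := 4665) (l := 0) rfl N4665 D14287
theorem N9703 : nd 9703 = n14288 := ndS (p := 4665) (l := 1) rfl N4665 D14288
theorem N9704 : nd 9704 = n14289 := ndS (p := 4665) (l := 4) rfl N4665 D14289
theorem N9705 : nd 9705 = n14290 := ndS (p := 4665) (l := 7) rfl N4665 D14290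
theorem N9706 : nd 9706 = n14291 := ndS (p := 4667) (l := 4) rfl N4667 D14291
theorem N9707 : nd 9707 = n14292 := ndS (p := 4667) (l := 6) rfl N4667 D14292
theorem N9708 : nd 9708 = n14293 := ndS (p := 4668) (l := 0) rfl N4668 D14293
theorem N9709 : nd 9709 = n14294 := ndS (p := 4668) (l := 5) rfl N4668 D14294
theorem N9710 : nd 9710 = n14295 := ndS (p := 4668) (l := 7) rfl N4668 D14295
theorem N9711 : nd 9711 = n14296 := ndS (p := 4669) (l := 4) rfl N4669 D14296
theorem N9712 : nd 9712 = n14297 := ndS (p := 4669) (l := 6) rfl N4669 D14297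
theorem N9713 : nd 9713 = n14298 := ndS (p := 4670) (l := 0) rfl N4670 D14298
theorem N9714 : nd 9714 = n14299 := ndS (p := 4670) (l := 1) rfl N4670 D14299
theorem N9715 : nd 9715 = n14300 := ndS (p := 4670) (l := 3) rfl N4670 D14300
theorem N9716 : nd 9716 = n14301 := ndS (p := 4670) (l := 5) rfl N4670 D14301
theorem N9717 : nd 9717 = n14302 := ndS (p := 4670) (l := 7) rfl N4670 D14302
theorem N9718 : nd 9718 = n14303 := ndS (p := 4671) (l := 6) rfl N4671 D14303
theorem N9719 : nd 9719 = n14304 := ndS (p := 4672) (l := 5) rfl N4672 D14304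
theorem N9720 : nd 9720 = n14305 := ndS (p := 4673) (l := 0) rfl N4673 D14305
theorem N9721 : nd 9721 = n14306 := ndS (p := 4673) (l := 4) rfl N4673 D14306
theorem N9722 : nd 9722 = n14307 := ndS (p := 4673) (l := 7) rfl N4673 D14307
theorem N9723 : nd 9723 = n14308 := ndS (p := 4675) (l := 5) rfl N4675 D14308
theorem N9724 : nd 9724 = n14309 := ndS (p := 4675) (l := 6) rfl N4675 D14309
theorem N9725 : nd 9725 = n14310 := ndS (p := 4676) (l := 1) rfl N4676 D14310
theorem N9726 : nd 9726 = n14311 := ndS (p := 4676) (l := 4) rfl N4676 D14311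
theorem N9727 : nd 9727 = n14312 := ndS (p := 4676) (l := 6) rfl N4676 D14312
theorem N9728 : nd 9728 = n14313 := ndS (p := 4678) (l := 5) rfl N4678 D14313
theorem N9729 : nd 9729 = n14314 := ndS (p := 4678) (l := 6) rfl N4678 D14314
theorem N9730 : nd 9730 = n14315 := ndS (p := 4679) (l := 4) rfl N4679 D14315
theorem N9731 : nd 9731 = n14316 := ndS (p := 4679) (l := 6) rfl N4679 D14316
theorem N9732 : nd 9732 = n14318 := ndS (p := 4681) (l := 3) rfl N4681 D14318
theorem N9733 : nd 9733 = n14319 := ndS (p := 4681) (l := 4) rfl N4681 D14319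
theorem N9734 : nd 9734 = n14320 := ndS (p := 4681) (l := 5) rfl N4681 D14320
theorem N9735 : nd 9735 = n14321 := ndS (p := 4681) (l := 6) rfl N4681 D14321
theorem N9736 : nd 9736 = n14323 := ndS (p := 4682) (l := 3) rfl N4682 D14323
theorem N9737 : nd 9737 = n14324 := ndS (p := 4682) (l := 4) rfl N4682 D14324
theorem N9738 : nd 9738 = n14325 := ndS (p := 4682) (l := 6) rfl N4682 D14325
theorem N9739 : nd 9739 = n14326 := ndS (p := 4683) (l := 0) rfl N4683 D14326
theorem N9740 : nd 9740 = n14327 := ndS (p := 4683) (l := 1) rfl N4683 D14327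
theorem N9741 : nd 9741 = n14328 := ndS (p := 4683) (l := 3) rfl N4683 D14328
theorem N9742 : nd 9742 = n14329 := ndS (p := 4683) (l := 5) rfl N4683 D14329
theorem N9743 : nd 9743 = n14330 := ndS (p := 4683) (l := 7) rfl N4683 D14330
theorem N9744 : nd 9744 = n14331 := ndS (p := 4684) (l := 6) rfl N4684 D14331
theorem N9745 : nd 9745 = n14332 := ndS (p := 4685) (l := 4) rfl N4685 D14332
theorem N9746 : nd 9746 = n14333 := ndS (p := 4686) (l := 4) rfl N4686 D14333
theorem N9747 : nd 9747 = n14334 := ndS (p := 4687) (l := 5) rfl N4687 D14334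
theorem N9748 : nd 9748 = n14335 := ndS (p := 4688) (l := 5) rfl N4688 D14335
theorem N9749 : nd 9749 = n14336 := ndS (p := 4688) (l := 6) rfl N4688 D14336
theorem N9750 : nd 9750 = n14337 := ndS (p := 4689) (l := 0) rfl N4689 D14337
theorem N9751 : nd 9751 = n14339 := ndS (p := 4689) (l := 4) rfl N4689 D14339
theorem N9752 : nd 9752 = n14340 := ndS (p := 4689) (l := 7) rfl N4689 D14340
theorem N9753 : nd 9753 = n14341 := ndS (p := 4691) (l := 5) rfl N4691 D14341
theorem N9754 : nd 9754 = n14342 := ndS (p := 4691) (l := 6) rfl N4691 D14342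
theorem N9755 : nd 9755 = n14343 := ndS (p := 4692) (l := 0) rfl N4692 D14343
theorem N9756 : nd 9756 = n14344 := ndS (p := 4692) (l := 1) rfl N4692 D14344
theorem N9757 : nd 9757 = n14345 := ndS (p := 4692) (l := 4) rfl N4692 D14345
theorem N9758 : nd 9758 = n14346 := ndS (p := 4692) (l := 6) rfl N4692 D14346
theorem N9759 : nd 9759 = n14347 := ndS (p := 4694) (l := 4) rfl N4694 D14347
theorem N9760 : nd 9760 = n14348 := ndS (p := 4694) (l := 6) rfl N4694 D14348
theorem N9761 : nd 9761 = n14349 := ndS (p := 4696) (l := 3) rfl N4696 D14349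
theorem N9762 : nd 9762 = n14350 := ndS (p := 4696) (l := 4) rfl N4696 D14350
theorem N9763 : nd 9763 = n14351 := ndS (p := 4696) (l := 6) rfl N4696 D14351
theorem N9764 : nd 9764 = n14352 := ndS (p := 4697) (l := 4) rfl N4697 D14352
theorem N9765 : nd 9765 = n14353 := ndS (p := 4697) (l := 6) rfl N4697 D14353
theorem N9766 : nd 9766 = n14354 := ndS (p := 4698) (l := 0) rfl N4698 D14354
theorem N9767 : nd 9767 = n14355 := ndS (p := 4698) (l := 1) rfl N4698 D14355
theorem N9768 : nd 9768 = n14356 := ndS (p := 4698) (l := 3) rfl N4698 D14356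
theorem N9769 : nd 9769 = n14357 := ndS (p := 4698) (l := 5) rfl N4698 D14357
theorem N9770 : nd 9770 = n14358 := ndS (p := 4698) (l := 7) rfl N4698 D14358
theorem N9771 : nd 9771 = n14359 := ndS (p := 4699) (l := 6) rfl N4699 D14359
theorem N9772 : nd 9772 = n14360 := ndS (p := 4700) (l := 5) rfl N4700 D14360
theorem N9773 : nd 9773 = n14361 := ndS (p := 4701) (l := 0) rfl N4701 D14361
theorem N9774 : nd 9774 = n14362 := ndS (p := 4701) (l := 1) rfl N4701 D14362
theorem N9775 : nd 9775 = n14363 := ndS (p := 4701) (l := 4) rfl N4701 D14363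
theorem N9776 : nd 9776 = n14364 := ndS (p := 4701) (l := 6) rfl N4701 D14364
theorem N9777 : nd 9777 = n14366 := ndS (p := 4702) (l := 1) rfl N4702 D14366
theorem N9778 : nd 9778 = n14367 := ndS (p := 4702) (l := 5) rfl N4702 D14367
theorem N9779 : nd 9779 = n14368 := ndS (p := 4702) (l := 7) rfl N4702 D14368
theorem N9780 : nd 9780 = n14369 := ndS (p := 4703) (l := 5) rfl N4703 D14369
theorem N9781 : nd 9781 = n14370 := ndS (p := 4704) (l := 5) rfl N4704 D14370
theorem N9782 : nd 9782 = n14371 := ndS (p := 4704) (l := 6) rfl N4704 D14371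
theorem N9783 : nd 9783 = n14372 := ndS (p := 4705) (l := 0) rfl N4705 D14372
theorem N9784 : nd 9784 = n14373 := ndS (p := 4705) (l := 1) rfl N4705 D14373
theorem N9785 : nd 9785 = n14374 := ndS (p := 4705) (l := 4) rfl N4705 D14374
theorem N9786 : nd 9786 = n14375 := ndS (p := 4705) (l := 6) rfl N4705 D14375
theorem N9787 : nd 9787 = n14376 := ndS (p := 4706) (l := 1) rfl N4706 D14376
theorem N9788 : nd 9788 = n14377 := ndS (p := 4706) (l := 5) rfl N4706 D14377
theorem N9789 : nd 9789 = n14378 := ndS (p := 4706) (l := 7) rfl N4706 D14378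
theorem N9790 : nd 9790 = n14379 := ndS (p := 4707) (l := 4) rfl N4707 D14379
theorem N9791 : nd 9791 = n14380 := ndS (p := 4707) (l := 6) rfl N4707 D14380
theorem N9792 : nd 9792 = n14381 := ndS (p := 4708) (l := 4) rfl N4708 D14381
theorem N9793 : nd 9793 = n14382 := ndS (p := 4708) (l := 6) rfl N4708 D14382
theorem N9794 : nd 9794 = n14383 := ndS (p := 4709) (l := 0) rfl N4709 D14383
theorem N9795 : nd 9795 = n14384 := ndS (p := 4709) (l := 1) rfl N4709 D14384
theorem N9796 : nd 9796 = n14385 := ndS (p := 4709) (l := 3) rfl N4709 D14385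
theorem N9797 : nd 9797 = n14386 := ndS (p := 4709) (l := 5) rfl N4709 D14386
theorem N9798 : nd 9798 = n14387 := ndS (p := 4709) (l := 6) rfl N4709 D14387
theorem N9799 : nd 9799 = n14388 := ndS (p := 4710) (l := 0) rfl N4710 D14388
theorem N9800 : nd 9800 = n14389 := ndS (p := 4710) (l := 1) rfl N4710 D14389
theorem N9801 : nd 9801 = n14390 := ndS (p := 4710) (l := 5) rfl N4710 D14390
theorem N9802 : nd 9802 = n14391 := ndS (p := 4710) (l := 7) rfl N4710 D14391
theorem N9803 : nd 9803 = n14392 := ndS (p := 4711) (l := 5) rfl N4711 D14392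
theorem N9804 : nd 9804 = n14393 := ndS (p := 4712) (l := 4) rfl N4712 D14393
theorem N9805 : nd 9805 = n14394 := ndS (p := 4714) (l := 5) rfl N4714 D14394
theorem N9806 : nd 9806 = n14395 := ndS (p := 4715) (l := 5) rfl N4715 D14395
theorem N9807 : nd 9807 = n14396 := ndS (p := 4715) (l := 6) rfl N4715 D14396
theorem N9808 : nd 9808 = n14397 := ndS (p := 4716) (l := 0) rfl N4716 D14397
theorem N9809 : nd 9809 = n14398 := ndS (p := 4716) (l := 1) rfl N4716 D14398
theorem N9810 : nd 9810 = n14399 := ndS (p := 4716) (l := 4) rfl N4716 D14399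
theorem N9811 : nd 9811 = n14400 := ndS (p := 4716) (l := 6) rfl N4716 D14400
theorem N9812 : nd 9812 = n14401 := ndS (p := 4717) (l := 0) rfl N4717 D14401
theorem N9813 : nd 9813 = n14403 := ndS (p := 4717) (l := 5) rfl N4717 D14403
theorem N9814 : nd 9814 = n14404 := ndS (p := 4717) (l := 7) rfl N4717 D14404
theorem N9815 : nd 9815 = n14405 := ndS (p := 4718) (l := 4) rfl N4718 D14405
theorem N9816 : nd 9816 = n14406 := ndS (p := 4718) (l := 6) rfl N4718 D14406
theorem N9817 : nd 9817 = n14407 := ndS (p := 4719) (l := 0) rfl N4719 D14407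
theorem N9818 : nd 9818 = n14408 := ndS (p := 4719) (l := 5) rfl N4719 D14408
theorem N9819 : nd 9819 = n14409 := ndS (p := 4719) (l := 7) rfl N4719 D14409
theorem N9820 : nd 9820 = n14410 := ndS (p := 4720) (l := 3) rfl N4720 D14410
theorem N9821 : nd 9821 = n14411 := ndS (p := 4720) (l := 5) rfl N4720 D14411
theorem N9822 : nd 9822 = n14412 := ndS (p := 4720) (l := 6) rfl N4720 D14412
theorem N9823 : nd 9823 = n14413 := ndS (p := 4721) (l := 0) rfl N4721 D14413
theorem N9824 : nd 9824 = n14414 := ndS (p := 4721) (l := 1) rfl N4721 D14414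
theorem N9825 : nd 9825 = n14415 := ndS (p := 4721) (l := 5) rfl N4721 D14415
theorem N9826 : nd 9826 = n14416 := ndS (p := 4721) (l := 7) rfl N4721 D14416
theorem N9827 : nd 9827 = n14417 := ndS (p := 4722) (l := 4) rfl N4722 D14417
theorem N9828 : nd 9828 = n14426 := ndS (p := 4724) (l := 2) rfl N4724 D14426
theorem N9829 : nd 9829 = n14427 := ndS (p := 4724) (l := 4) rfl N4724 D14427
theorem N9830 : nd 9830 = n14428 := ndS (p := 4724) (l := 5) rfl N4724 D14428
theorem N9831 : nd 9831 = n14429 := ndS (p := 4724) (l := 6) rfl N4724 D14429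
theorem N9832 : nd 9832 = n14431 := ndS (p := 4725) (l := 0) rfl N4725 D14431
theorem N9833 : nd 9833 = n14432 := ndS (p := 4725) (l := 1) rfl N4725 D14432
theorem N9834 : nd 9834 = n14433 := ndS (p := 4725) (l := 3) rfl N4725 D14433
theorem N9835 : nd 9835 = n14434 := ndS (p := 4725) (l := 5) rfl N4725 D14434
theorem N9836 : nd 9836 = n14435 := ndS (p := 4725) (l := 6) rfl N4725 D14435
theorem N9837 : nd 9837 = n14437 := ndS (p := 4726) (l := 0) rfl N4726 D14437
theorem N9838 : nd 9838 = n14438 := ndS (p := 4726) (l := 4) rfl N4726 D14438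
theorem N9839 : nd 9839 = n14439 := ndS (p := 4726) (l := 6) rfl N4726 D14439
theorem N9840 : nd 9840 = n14441 := ndS (p := 4727) (l := 0) rfl N4727 D14441
theorem N9841 : nd 9841 = n14442 := ndS (p := 4727) (l := 1) rfl N4727 D14442
theorem N9842 : nd 9842 = n14443 := ndS (p := 4727) (l := 5) rfl N4727 D14443
theorem N9843 : nd 9843 = n14444 := ndS (p := 4727) (l := 7) rfl N4727 D14444
theorem N9844 : nd 9844 = n14446 := ndS (p := 4728) (l := 2) rfl N4728 D14446
theorem N9845 : nd 9845 = n14447 := ndS (p := 4728) (l := 4) rfl N4728 D14447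
theorem N9846 : nd 9846 = n14448 := ndS (p := 4728) (l := 6) rfl N4728 D14448
theorem N9847 : nd 9847 = n14449 := ndS (p := 4729) (l := 3) rfl N4729 D14449
theorem N9848 : nd 9848 = n14450 := ndS (p := 4729) (l := 5) rfl N4729 D14450
theorem N9849 : nd 9849 = n14451 := ndS (p := 4729) (l := 6) rfl N4729 D14451
theorem N9850 : nd 9850 = n14452 := ndS (p := 4730) (l := 4) rfl N4730 D14452
theorem N9851 : nd 9851 = n14453 := ndS (p := 4731) (l := 0) rfl N4731 D14453
theorem N9852 : nd 9852 = n14454 := ndS (p := 4731) (l := 1) rfl N4731 D14454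
theorem N9853 : nd 9853 = n14455 := ndS (p := 4731) (l := 5) rfl N4731 D14455
theorem N9854 : nd 9854 = n14456 := ndS (p := 4731) (l := 7) rfl N4731 D14456
theorem N9855 : nd 9855 = n14458 := ndS (p := 4732) (l := 3) rfl N4732 D14458
theorem N9856 : nd 9856 = n14459 := ndS (p := 4732) (l := 4) rfl N4732 D14459
theorem N9857 : nd 9857 = n14460 := ndS (p := 4732) (l := 5) rfl N4732 D14460
theorem N9858 : nd 9858 = n14461 := ndS (p := 4732) (l := 6) rfl N4732 D14461
theorem N9859 : nd 9859 = n14463 := ndS (p := 4733) (l := 3) rfl N4733 D14463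
theorem N9860 : nd 9860 = n14464 := ndS (p := 4733) (l := 4) rfl N4733 D14464
theorem N9861 : nd 9861 = n14465 := ndS (p := 4733) (l := 5) rfl N4733 D14465
theorem N9862 : nd 9862 = n14466 := ndS (p := 4733) (l := 6) rfl N4733 D14466
theorem N9863 : nd 9863 = n14467 := ndS (p := 4734) (l := 0) rfl N4734 D14467
theorem N9864 : nd 9864 = n14468 := ndS (p := 4734) (l := 1) rfl N4734 D14468
theorem N9865 : nd 9865 = n14469 := ndS (p := 4734) (l := 2) rfl N4734 D14469
theorem N9866 : nd 9866 = n14470 := ndS (p := 4734) (l := 5) rfl N4734 D14470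
theorem N9867 : nd 9867 = n14471 := ndS (p := 4734) (l := 7) rfl N4734 D14471
theorem N9868 : nd 9868 = n14472 := ndS (p := 4735) (l := 0) rfl N4735 D14472
theorem N9869 : nd 9869 = n14473 := ndS (p := 4735) (l := 1) rfl N4735 D14473
theorem N9870 : nd 9870 = n14474 := ndS (p := 4735) (l := 4) rfl N4735 D14474
theorem N9871 : nd 9871 = n14475 := ndS (p := 4735) (l := 6) rfl N4735 D14475
theorem N9872 : nd 9872 = n14476 := ndS (p := 4735) (l := 7) rfl N4735 D14476
theorem N9873 : nd 9873 = n14477 := ndS (p := 4736) (l := 6) rfl N4736 D14477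
theorem N9874 : nd 9874 = n14478 := ndS (p := 4737) (l := 0) rfl N4737 D14478
theorem N9875 : nd 9875 = n14479 := ndS (p := 4737) (l := 1) rfl N4737 D14479
theorem N9876 : nd 9876 = n14480 := ndS (p := 4738) (l := 0) rfl N4738 D14480
theorem N9877 : nd 9877 = n14481 := ndS (p := 4738) (l := 1) rfl N4738 D14481
theorem N9878 : nd 9878 = n14482 := ndS (p := 4738) (l := 4) rfl N4738 D14482
theorem N9879 : nd 9879 = n14483 := ndS (p := 4738) (l := 6) rfl N4738 D14483
theorem N9880 : nd 9880 = n14484 := ndS (p := 4740) (l := 4) rfl N4740 D14484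
theorem N9881 : nd 9881 = n14485 := ndS (p := 4741) (l := 1) rfl N4741 D14485
theorem N9882 : nd 9882 = n14486 := ndS (p := 4741) (l := 3) rfl N4741 D14486
theorem N9883 : nd 9883 = n14487 := ndS (p := 4741) (l := 5) rfl N4741 D14487
theorem N9884 : nd 9884 = n14488 := ndS (p := 4741) (l := 6) rfl N4741 D14488
theorem N9885 : nd 9885 = n14489 := ndS (p := 4742) (l := 0) rfl N4742 D14489
theorem N9886 : nd 9886 = n14490 := ndS (p := 4742) (l := 1) rfl N4742 D14490
theorem N9887 : nd 9887 = n14491 := ndS (p := 4742) (l := 7) rfl N4742 D14491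
theorem N9888 : nd 9888 = n14492 := ndS (p := 4743) (l := 0) rfl N4743 D14492
theorem N9889 : nd 9889 = n14493 := ndS (p := 4743) (l := 4) rfl N4743 D14493
theorem N9890 : nd 9890 = n14494 := ndS (p := 4743) (l := 6) rfl N4743 D14494
theorem N9891 : nd 9891 = n14496 := ndS (p := 4745) (l := 3) rfl N4745 D14496
theorem N9892 : nd 9892 = n14497 := ndS (p := 4745) (l := 5) rfl N4745 D14497
theorem N9893 : nd 9893 = n14498 := ndS (p := 4745) (l := 6) rfl N4745 D14498
theorem N9894 : nd 9894 = n14499 := ndS (p := 4746) (l := 0) rfl N4746 D14499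
theorem N9895 : nd 9895 = n14500 := ndS (p := 4746) (l := 7) rfl N4746 D14500
theorem N9896 : nd 9896 = n14501 := ndS (p := 4747) (l := 4) rfl N4747 D14501
theorem N9897 : nd 9897 = n14502 := ndS (p := 4747) (l := 6) rfl N4747 D14502
theorem N9898 : nd 9898 = n14503 := ndS (p := 4748) (l := 3) rfl N4748 D14503
theorem N9899 : nd 9899 = n14504 := ndS (p := 4748) (l := 5) rfl N4748 D14504
theorem N9900 : nd 9900 = n14505 := ndS (p := 4748) (l := 6) rfl N4748 D14505
theorem N9901 : nd 9901 = n14506 := ndS (p := 4749) (l := 0) rfl N4749 D14506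
theorem N9902 : nd 9902 = n14507 := ndS (p := 4749) (l := 1) rfl N4749 D14507
theorem N9903 : nd 9903 = n14508 := ndS (p := 4749) (l := 7) rfl N4749 D14508
theorem N9904 : nd 9904 = n14509 := ndS (p := 4750) (l := 4) rfl N4750 D14509
theorem N9905 : nd 9905 = n14510 := ndS (p := 4750) (l := 6) rfl N4750 D14510
theorem N9906 : nd 9906 = n14511 := ndS (p := 4751) (l := 3) rfl N4751 D14511
theorem N9907 : nd 9907 = n14512 := ndS (p := 4751) (l := 5) rfl N4751 D14512
theorem N9908 : nd 9908 = n14514 := ndS (p := 4752) (l := 0) rfl N4752 D14514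
theorem N9909 : nd 9909 = n14515 := ndS (p := 4752) (l := 1) rfl N4752 D14515
theorem N9910 : nd 9910 = n14516 := ndS (p := 4752) (l := 7) rfl N4752 D14516
theorem N9911 : nd 9911 = n14517 := ndS (p := 4753) (l := 3) rfl N4753 D14517
theorem N9912 : nd 9912 = n14518 := ndS (p := 4753) (l := 5) rfl N4753 D14518
theorem N9913 : nd 9913 = n14519 := ndS (p := 4753) (l := 6) rfl N4753 D14519
theorem N9914 : nd 9914 = n14520 := ndS (p := 4754) (l := 3) rfl N4754 D14520
theorem N9915 : nd 9915 = n14521 := ndS (p := 4754) (l := 5) rfl N4754 D14521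
theorem N9916 : nd 9916 = n14523 := ndS (p := 4755) (l := 0) rfl N4755 D14523
theorem N9917 : nd 9917 = n14524 := ndS (p := 4755) (l := 1) rfl N4755 D14524
theorem N9918 : nd 9918 = n14525 := ndS (p := 4755) (l := 2) rfl N4755 D14525
theorem N9919 : nd 9919 = n14526 := ndS (p := 4755) (l := 5) rfl N4755 D14526
theorem N9920 : nd 9920 = n14527 := ndS (p := 4755) (l := 7) rfl N4755 D14527
theorem N9921 : nd 9921 = n14528 := ndS (p := 4756) (l := 0) rfl N4756 D14528
theorem N9922 : nd 9922 = n14530 := ndS (p := 4756) (l := 6) rfl N4756 D14530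
theorem N9923 : nd 9923 = n14531 := ndS (p := 4757) (l := 6) rfl N4757 D14531
theorem N9924 : nd 9924 = n14532 := ndS (p := 4759) (l := 5) rfl N4759 D14532
theorem N9925 : nd 9925 = n14533 := ndS (p := 4760) (l := 4) rfl N4760 D14533
theorem N9926 : nd 9926 = n14534 := ndS (p := 4760) (l := 6) rfl N4760 D14534
theorem N9927 : nd 9927 = n14535 := ndS (p := 4761) (l := 4) rfl N4761 D14535
theorem N9928 : nd 9928 = n14536 := ndS (p := 4761) (l := 6) rfl N4761 D14536
theorem N9929 : nd 9929 = n14538 := ndS (p := 4762) (l := 1) rfl N4762 D14538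
theorem N9930 : nd 9930 = n14539 := ndS (p := 4762) (l := 7) rfl N4762 D14539
theorem N9931 : nd 9931 = n14540 := ndS (p := 4763) (l := 4) rfl N4763 D14540
theorem N9932 : nd 9932 = n14541 := ndS (p := 4763) (l := 6) rfl N4763 D14541
theorem N9933 : nd 9933 = n14542 := ndS (p := 4764) (l := 3) rfl N4764 D14542
theorem N9934 : nd 9934 = n14543 := ndS (p := 4764) (l := 4) rfl N4764 D14543
theorem N9935 : nd 9935 = n14544 := ndS (p := 4764) (l := 6) rfl N4764 D14544
theorem N9936 : nd 9936 = n14545 := ndS (p := 4765) (l := 0) rfl N4765 D14545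
theorem N9937 : nd 9937 = n14546 := ndS (p := 4765) (l := 1) rfl N4765 D14546
theorem N9938 : nd 9938 = n14547 := ndS (p := 4765) (l := 3) rfl N4765 D14547
theorem N9939 : nd 9939 = n14548 := ndS (p := 4765) (l := 5) rfl N4765 D14548
theorem N9940 : nd 9940 = n14549 := ndS (p := 4765) (l := 6) rfl N4765 D14549
theorem N9941 : nd 9941 = n14550 := ndS (p := 4766) (l := 0) rfl N4766 D14550
theorem N9942 : nd 9942 = n14551 := ndS (p := 4766) (l := 1) rfl N4766 D14551
theorem N9943 : nd 9943 = n14552 := ndS (p := 4766) (l := 7) rfl N4766 D14552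
theorem N9944 : nd 9944 = n14553 := ndS (p := 4767) (l := 4) rfl N4767 D14553
theorem N9945 : nd 9945 = n14554 := ndS (p := 4767) (l := 5) rfl N4767 D14554
theorem N9946 : nd 9946 = n14555 := ndS (p := 4768) (l := 3) rfl N4768 D14555
theorem N9947 : nd 9947 = n14556 := ndS (p := 4768) (l := 4) rfl N4768 D14556
theorem N9948 : nd 9948 = n14557 := ndS (p := 4768) (l := 5) rfl N4768 D14557
theorem N9949 : nd 9949 = n14558 := ndS (p := 4768) (l := 6) rfl N4768 D14558
theorem N9950 : nd 9950 = n14559 := ndS (p := 4770) (l := 4) rfl N4770 D14559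
theorem N9951 : nd 9951 = n14560 := ndS (p := 4770) (l := 6) rfl N4770 D14560
theorem N9952 : nd 9952 = n14561 := ndS (p := 4771) (l := 3) rfl N4771 D14561
theorem N9953 : nd 9953 = n14562 := ndS (p := 4771) (l := 5) rfl N4771 D14562
theorem N9954 : nd 9954 = n14563 := ndS (p := 4771) (l := 6) rfl N4771 D14563
theorem N9955 : nd 9955 = n14564 := ndS (p := 4772) (l := 0) rfl N4772 D14564
theorem N9956 : nd 9956 = n14565 := ndS (p := 4772) (l := 1) rfl N4772 D14565
theorem N9957 : nd 9957 = n14566 := ndS (p := 4772) (l := 7) rfl N4772 D14566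
theorem N9958 : nd 9958 = n14567 := ndS (p := 4773) (l := 3) rfl N4773 D14567
theorem N9959 : nd 9959 = n14568 := ndS (p := 4773) (l := 5) rfl N4773 D14568
theorem N9960 : nd 9960 = n14569 := ndS (p := 4773) (l := 6) rfl N4773 D14569
theorem N9961 : nd 9961 = n14570 := ndS (p := 4775) (l := 3) rfl N4775 D14570
theorem N9962 : nd 9962 = n14571 := ndS (p := 4775) (l := 5) rfl N4775 D14571
theorem N9963 : nd 9963 = n14572 := ndS (p := 4775) (l := 6) rfl N4775 D14572
theorem N9964 : nd 9964 = n14573 := ndS (p := 4776) (l := 3) rfl N4776 D14573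
theorem N9965 : nd 9965 = n14574 := ndS (p := 4776) (l := 5) rfl N4776 D14574
theorem N9966 : nd 9966 = n14575 := ndS (p := 4776) (l := 6) rfl N4776 D14575
theorem N9967 : nd 9967 = n14576 := ndS (p := 4777) (l := 0) rfl N4777 D14576
theorem N9968 : nd 9968 = n14577 := ndS (p := 4777) (l := 1) rfl N4777 D14577
theorem N9969 : nd 9969 = n14578 := ndS (p := 4777) (l := 2) rfl N4777 D14578
theorem N9970 : nd 9970 = n14579 := ndS (p := 4777) (l := 5) rfl N4777 D14579
theorem N9971 : nd 9971 = n14580 := ndS (p := 4777) (l := 6) rfl N4777 D14580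
theorem N9972 : nd 9972 = n14587 := ndS (p := 4780) (l := 3) rfl N4780 D14587
theorem N9973 : nd 9973 = n14592 := ndS (p := 4781) (l := 6) rfl N4781 D14592
theorem N9974 : nd 9974 = n14593 := ndS (p := 4783) (l := 4) rfl N4783 D14593
theorem N9975 : nd 9975 = n14594 := ndS (p := 4784) (l := 4) rfl N4784 D14594
theorem N9976 : nd 9976 = n14595 := ndS (p := 4784) (l := 6) rfl N4784 D14595
theorem N9977 : nd 9977 = n14596 := ndS (p := 4785) (l := 5) rfl N4785 D14596
theorem N9978 : nd 9978 = n14597 := ndS (p := 4785) (l := 6) rfl N4785 D14597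
theorem N9979 : nd 9979 = n14598 := ndS (p := 4786) (l := 4) rfl N4786 D14598
theorem N9980 : nd 9980 = n14599 := ndS (p := 4786) (l := 6) rfl N4786 D14599
theorem N9981 : nd 9981 = n14600 := ndS (p := 4787) (l := 0) rfl N4787 D14600
theorem N9982 : nd 9982 = n14601 := ndS (p := 4787) (l := 7) rfl N4787 D14601
theorem N9983 : nd 9983 = n14602 := ndS (p := 4788) (l := 3) rfl N4788 D14602
theorem N9984 : nd 9984 = n14603 := ndS (p := 4788) (l := 5) rfl N4788 D14603
theorem N9985 : nd 9985 = n14604 := ndS (p := 4789) (l := 0) rfl N4789 D14604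
theorem N9986 : nd 9986 = n14605 := ndS (p := 4789) (l := 1) rfl N4789 D14605
theorem N9987 : nd 9987 = n14606 := ndS (p := 4789) (l := 4) rfl N4789 D14606
theorem N9988 : nd 9988 = n14607 := ndS (p := 4789) (l := 6) rfl N4789 D14607
theorem N9989 : nd 9989 = n14608 := ndS (p := 4790) (l := 0) rfl N4790 D14608
theorem N9990 : nd 9990 = n14609 := ndS (p := 4790) (l := 1) rfl N4790 D14609
theorem N9991 : nd 9991 = n14610 := ndS (p := 4790) (l := 5) rfl N4790 D14610
theorem N9992 : nd 9992 = n14611 := ndS (p := 4790) (l := 7) rfl N4790 D14611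
theorem N9993 : nd 9993 = n14612 := ndS (p := 4791) (l := 4) rfl N4791 D14612
theorem N9994 : nd 9994 = n14613 := ndS (p := 4791) (l := 5) rfl N4791 D14613
theorem N9995 : nd 9995 = n14614 := ndS (p := 4791) (l := 6) rfl N4791 D14614
theorem N9996 : nd 9996 = n14615 := ndS (p := 4792) (l := 4) rfl N4792 D14615
theorem N9997 : nd 9997 = n14616 := ndS (p := 4792) (l := 6) rfl N4792 D14616
theorem N9998 : nd 9998 = n14617 := ndS (p := 4793) (l := 0) rfl N4793 D14617
theorem N9999 : nd 9999 = n14618 := ndS (p := 4793) (l := 1) rfl N4793 D14618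
theorem N10000 : nd 10000 = n14619 := ndS (p := 4793) (l := 3) rfl N4793 D14619

end Cfsg.Agent.Helper17.ONTC
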