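import Cfsg.Agent.Helper17.ONTC.Fin9

set_option autoImplicit false
set_option linter.all false
set_option maxRecDepth 100000

noncomputable section

namespace Cfsg.Agent.Helper17.ONTC

theorem N90001 : nd 90001 = n192929 := ndS (p := 53965) (l := 0) rfl N53965 D192929
theorem N90002 : nd 90002 = n192930 := ndS (p := 53965) (l := 1) rfl N53965 D192930
theorem N90003 : nd 90003 = n192931 := ndS (p := 53965) (l := 2) rfl N53965 D192931
theorem N90004 : nd 90004 = n192932 := ndS (p := 53965) (l := 4) rfl N53965 D192932
theorem N90005 : nd 90005 = n192933 := ndS (p := 53965) (l := 6) rfl N53965 D192933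
theorem N90006 : nd 90006 = n192936 := ndS (p := 53966) (l := 5) rfl N53966 D192936
theorem N90007 : nd 90007 = n192937 := ndS (p := 53966) (l := 7) rfl N53966 D192937
theorem N90008 : nd 90008 = n192938 := ndS (p := 53967) (l := 0) rfl N53967 D192938
theorem N90009 : nd 90009 = n192939 := ndS (p := 53967) (l := 2) rfl N53967 D192939
theorem N90010 : nd 90010 = n192940 := ndS (p := 53967) (l := 4) rfl N53967 D192940
theorem N90011 : nd 90011 = n192941 := ndS (p := 53967) (l := 6) rfl N53967 D192941
theorem N90012 : nd 90012 = n192942 := ndS (p := 53968) (l := 5) rfl N53968 D192942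
theorem N90013 : nd 90013 = n192943 := ndS (p := 53968) (l := 7) rfl N53968 D192943
theorem N90014 : nd 90014 = n192944 := ndS (p := 53969) (l := 2) rfl N53969 D192944
theorem N90015 : nd 90015 = n192945 := ndS (p := 53969) (l := 6) rfl N53969 D192945
theorem N90016 : nd 90016 = n192946 := ndS (p := 53972) (l := 6) rfl N53972 D192946
theorem N90017 : nd 90017 = n192947 := ndS (p := 53973) (l := 0) rfl N53973 D192947
theorem N90018 : nd 90018 = n192948 := ndS (p := 53973) (l := 1) rfl N53973 D192948
theorem N90019 : nd 90019 = n192949 := ndS (p := 53974) (l := 3) rfl N53974 D192949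
theorem N90020 : nd 90020 = n192950 := ndS (p := 53974) (l := 5) rfl N53974 D192950
theorem N90021 : nd 90021 = n192951 := ndS (p := 53974) (l := 6) rfl N53974 D192951
theorem N90022 : nd 90022 = n192952 := ndS (p := 53975) (l := 6) rfl N53975 D192952
theorem N90023 : nd 90023 = n192953 := ndS (p := 53976) (l := 4) rfl N53976 D192953
theorem N90024 : nd 90024 = n192954 := ndS (p := 53979) (l := 5) rfl N53979 D192954
theorem N90025 : nd 90025 = n192955 := ndS (p := 53981) (l := 1) rfl N53981 D192955
theorem N90026 : nd 90026 = n192956 := ndS (p := 53981) (l := 4) rfl N53981 D192956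
theorem N90027 : nd 90027 = n192957 := ndS (p := 53981) (l := 7) rfl N53981 D192957
theorem N90028 : nd 90028 = n192958 := ndS (p := 53983) (l := 4) rfl N53983 D192958
theorem N90029 : nd 90029 = n192959 := ndS (p := 53983) (l := 6) rfl N53983 D192959
theorem N90030 : nd 90030 = n192960 := ndS (p := 53985) (l := 0) rfl N53985 D192960
theorem N90031 : nd 90031 = n192961 := ndS (p := 53985) (l := 3) rfl N53985 D192961
theorem N90032 : nd 90032 = n192962 := ndS (p := 53987) (l := 4) rfl N53987 D192962
theorem N90033 : nd 90033 = n192963 := ndS (p := 53988) (l := 4) rfl N53988 D192963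
theorem N90034 : nd 90034 = n192964 := ndS (p := 53988) (l := 6) rfl N53988 D192964
theorem N90035 : nd 90035 = n192965 := ndS (p := 53989) (l := 4) rfl N53989 D192965
theorem N90036 : nd 90036 = n192966 := ndS (p := 53989) (l := 6) rfl N53989 D192966
theorem N90037 : nd 90037 = n192967 := ndS (p := 53990) (l := 4) rfl N53990 D192967
theorem N90038 : nd 90038 = n192968 := ndS (p := 53990) (l := 6) rfl N53990 D192968
theorem N90039 : nd 90039 = n192969 := ndS (p := 53991) (l := 4) rfl N53991 D192969
theorem N90040 : nd 90040 = n192970 := ndS (p := 53991) (l := 6) rfl N53991 D192970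
theorem N90041 : nd 90041 = n192971 := ndS (p := 53992) (l := 3) rfl N53992 D192971
theorem N90042 : nd 90042 = n192972 := ndS (p := 53992) (l := 5) rfl N53992 D192972
theorem N90043 : nd 90043 = n192973 := ndS (p := 53992) (l := 7) rfl N53992 D192973
theorem N90044 : nd 90044 = n192974 := ndS (p := 53993) (l := 6) rfl N53993 D192974
theorem N90045 : nd 90045 = n192975 := ndS (p := 53994) (l := 1) rfl N53994 D192975
theorem N90046 : nd 90046 = n192976 := ndS (p := 53994) (l := 4) rfl N53994 D192976
theorem N90047 : nd 90047 = n192977 := ndS (p := 53996) (l := 4) rfl N53996 D192977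
theorem N90048 : nd 90048 = n192978 := ndS (p := 53996) (l := 6) rfl N53996 D192978
theorem N90049 : nd 90049 = n192979 := ndS (p := 53997) (l := 4) rfl N53997 D192979
theorem N90050 : nd 90050 = n192980 := ndS (p := 53997) (l := 6) rfl N53997 D192980
theorem N90051 : nd 90051 = n192981 := ndS (p := 53998) (l := 3) rfl N53998 D192981
theorem N90052 : nd 90052 = n192982 := ndS (p := 53998) (l := 5) rfl N53998 D192982
theorem N90053 : nd 90053 = n192983 := ndS (p := 53999) (l := 4) rfl N53999 D192983
theorem N90054 : nd 90054 = n192984 := ndS (p := 53999) (l := 7) rfl N53999 D192984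
theorem N90055 : nd 90055 = n192985 := ndS (p := 54001) (l := 5) rfl N54001 D192985
theorem N90056 : nd 90056 = n192986 := ndS (p := 54001) (l := 6) rfl N54001 D192986
theorem N90057 : nd 90057 = n192987 := ndS (p := 54002) (l := 1) rfl N54002 D192987
theorem N90058 : nd 90058 = n192988 := ndS (p := 54002) (l := 4) rfl N54002 D192988
theorem N90059 : nd 90059 = n192989 := ndS (p := 54002) (l := 6) rfl N54002 D192989
theorem N90060 : nd 90060 = n192990 := ndS (p := 54003) (l := 1) rfl N54003 D192990
theorem N90061 : nd 90061 = n192991 := ndS (p := 54003) (l := 7) rfl N54003 D192991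
theorem N90062 : nd 90062 = n192992 := ndS (p := 54006) (l := 4) rfl N54006 D192992
theorem N90063 : nd 90063 = n192993 := ndS (p := 54006) (l := 6) rfl N54006 D192993
theorem N90064 : nd 90064 = n192994 := ndS (p := 54007) (l := 4) rfl N54007 D192994
theorem N90065 : nd 90065 = n192995 := ndS (p := 54007) (l := 6) rfl N54007 D192995
theorem N90066 : nd 90066 = n192996 := ndS (p := 54008) (l := 3) rfl N54008 D192996
theorem N90067 : nd 90067 = n192997 := ndS (p := 54008) (l := 7) rfl N54008 D192997
theorem N90068 : nd 90068 = n192998 := ndS (p := 54009) (l := 6) rfl N54009 D192998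
theorem N90069 : nd 90069 = n192999 := ndS (p := 54010) (l := 1) rfl N54010 D192999
theorem N90070 : nd 90070 = n193000 := ndS (p := 54010) (l := 4) rfl N54010 D193000
theorem N90071 : nd 90071 = n193001 := ndS (p := 54010) (l := 6) rfl N54010 D193001
theorem N90072 : nd 90072 = n193002 := ndS (p := 54011) (l := 6) rfl N54011 D193002
theorem N90073 : nd 90073 = n193003 := ndS (p := 54012) (l := 3) rfl N54012 D193003
theorem N90074 : nd 90074 = n193004 := ndS (p := 54012) (l := 5) rfl N54012 D193004
theorem N90075 : nd 90075 = n193005 := ndS (p := 54012) (l := 6) rfl N54012 D193005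
theorem N90076 : nd 90076 = n193006 := ndS (p := 54013) (l := 0) rfl N54013 D193006
theorem N90077 : nd 90077 = n193008 := ndS (p := 54013) (l := 7) rfl N54013 D193008
theorem N90078 : nd 90078 = n193009 := ndS (p := 54014) (l := 5) rfl N54014 D193009
theorem N90079 : nd 90079 = n193010 := ndS (p := 54014) (l := 6) rfl N54014 D193010
theorem N90080 : nd 90080 = n193011 := ndS (p := 54015) (l := 6) rfl N54015 D193011
theorem N90081 : nd 90081 = n193012 := ndS (p := 54017) (l := 5) rfl N54017 D193012
theorem N90082 : nd 90082 = n193013 := ndS (p := 54017) (l := 6) rfl N54017 D193013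
theorem N90083 : nd 90083 = n193015 := ndS (p := 54018) (l := 1) rfl N54018 D193015
theorem N90084 : nd 90084 = n193016 := ndS (p := 54018) (l := 7) rfl N54018 D193016
theorem N90085 : nd 90085 = n193017 := ndS (p := 54019) (l := 5) rfl N54019 D193017
theorem N90086 : nd 90086 = n193018 := ndS (p := 54019) (l := 6) rfl N54019 D193018
theorem N90087 : nd 90087 = n193019 := ndS (p := 54020) (l := 3) rfl N54020 D193019
theorem N90088 : nd 90088 = n193020 := ndS (p := 54020) (l := 5) rfl N54020 D193020
theorem N90089 : nd 90089 = n193021 := ndS (p := 54020) (l := 6) rfl N54020 D193021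
theorem N90090 : nd 90090 = n193022 := ndS (p := 54022) (l := 0) rfl N54022 D193022
theorem N90091 : nd 90091 = n193023 := ndS (p := 54022) (l := 5) rfl N54022 D193023
theorem N90092 : nd 90092 = n193024 := ndS (p := 54022) (l := 7) rfl N54022 D193024
theorem N90093 : nd 90093 = n193025 := ndS (p := 54023) (l := 6) rfl N54023 D193025
theorem N90094 : nd 90094 = n193026 := ndS (p := 54024) (l := 3) rfl N54024 D193026
theorem N90095 : nd 90095 = n193027 := ndS (p := 54024) (l := 5) rfl N54024 D193027
theorem N90096 : nd 90096 = n193028 := ndS (p := 54024) (l := 6) rfl N54024 D193028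
theorem N90097 : nd 90097 = n193029 := ndS (p := 54026) (l := 0) rfl N54026 D193029
theorem N90098 : nd 90098 = n193030 := ndS (p := 54026) (l := 1) rfl N54026 D193030
theorem N90099 : nd 90099 = n193031 := ndS (p := 54026) (l := 7) rfl N54026 D193031
theorem N90100 : nd 90100 = n193032 := ndS (p := 54027) (l := 3) rfl N54027 D193032
theorem N90101 : nd 90101 = n193033 := ndS (p := 54027) (l := 5) rfl N54027 D193033
theorem N90102 : nd 90102 = n193035 := ndS (p := 54028) (l := 3) rfl N54028 D193035
theorem N90103 : nd 90103 = n193036 := ndS (p := 54028) (l := 5) rfl N54028 D193036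
theorem N90104 : nd 90104 = n193037 := ndS (p := 54028) (l := 6) rfl N54028 D193037
theorem N90105 : nd 90105 = n193038 := ndS (p := 54029) (l := 0) rfl N54029 D193038
theorem N90106 : nd 90106 = n193039 := ndS (p := 54029) (l := 1) rfl N54029 D193039
theorem N90107 : nd 90107 = n193040 := ndS (p := 54029) (l := 2) rfl N54029 D193040
theorem N90108 : nd 90108 = n193041 := ndS (p := 54029) (l := 5) rfl N54029 D193041
theorem N90109 : nd 90109 = n193042 := ndS (p := 54029) (l := 7) rfl N54029 D193042
theorem N90110 : nd 90110 = n193043 := ndS (p := 54030) (l := 0) rfl N54030 D193043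
theorem N90111 : nd 90111 = n193044 := ndS (p := 54030) (l := 1) rfl N54030 D193044
theorem N90112 : nd 90112 = n193045 := ndS (p := 54030) (l := 4) rfl N54030 D193045
theorem N90113 : nd 90113 = n193046 := ndS (p := 54030) (l := 6) rfl N54030 D193046
theorem N90114 : nd 90114 = n193047 := ndS (p := 54030) (l := 7) rfl N54030 D193047
theorem N90115 : nd 90115 = n193048 := ndS (p := 54031) (l := 6) rfl N54031 D193048
theorem N90116 : nd 90116 = n193049 := ndS (p := 54032) (l := 1) rfl N54032 D193049
theorem N90117 : nd 90117 = n193050 := ndS (p := 54033) (l := 6) rfl N54033 D193050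
theorem N90118 : nd 90118 = n193051 := ndS (p := 54034) (l := 4) rfl N54034 D193051
theorem N90119 : nd 90119 = n193052 := ndS (p := 54040) (l := 1) rfl N54040 D193052
theorem N90120 : nd 90120 = n193053 := ndS (p := 54042) (l := 3) rfl N54042 D193053
theorem N90121 : nd 90121 = n193054 := ndS (p := 54042) (l := 6) rfl N54042 D193054
theorem N90122 : nd 90122 = n193055 := ndS (p := 54046) (l := 0) rfl N54046 D193055
theorem N90123 : nd 90123 = n193056 := ndS (p := 54046) (l := 1) rfl N54046 D193056
theorem N90124 : nd 90124 = n193057 := ndS (p := 54046) (l := 5) rfl N54046 D193057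
theorem N90125 : nd 90125 = n193058 := ndS (p := 54046) (l := 7) rfl N54046 D193058
theorem N90126 : nd 90126 = n193059 := ndS (p := 54047) (l := 6) rfl N54047 D193059
theorem N90127 : nd 90127 = n193060 := ndS (p := 54049) (l := 6) rfl N54049 D193060
theorem N90128 : nd 90128 = n193061 := ndS (p := 54050) (l := 3) rfl N54050 D193061
theorem N90129 : nd 90129 = n193062 := ndS (p := 54050) (l := 6) rfl N54050 D193062
theorem N90130 : nd 90130 = n193063 := ndS (p := 54051) (l := 0) rfl N54051 D193063
theorem N90131 : nd 90131 = n193064 := ndS (p := 54051) (l := 7) rfl N54051 D193064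
theorem N90132 : nd 90132 = n193065 := ndS (p := 54052) (l := 6) rfl N54052 D193065
theorem N90133 : nd 90133 = n193066 := ndS (p := 54054) (l := 3) rfl N54054 D193066
theorem N90134 : nd 90134 = n193067 := ndS (p := 54054) (l := 4) rfl N54054 D193067
theorem N90135 : nd 90135 = n193068 := ndS (p := 54054) (l := 5) rfl N54054 D193068
theorem N90136 : nd 90136 = n193069 := ndS (p := 54055) (l := 4) rfl N54055 D193069
theorem N90137 : nd 90137 = n193070 := ndS (p := 54055) (l := 5) rfl N54055 D193070
theorem N90138 : nd 90138 = n193071 := ndS (p := 54056) (l := 1) rfl N54056 D193071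
theorem N90139 : nd 90139 = n193072 := ndS (p := 54056) (l := 4) rfl N54056 D193072
theorem N90140 : nd 90140 = n193073 := ndS (p := 54056) (l := 7) rfl N54056 D193073
theorem N90141 : nd 90141 = n193074 := ndS (p := 54058) (l := 1) rfl N54058 D193074
theorem N90142 : nd 90142 = n193075 := ndS (p := 54058) (l := 5) rfl N54058 D193075
theorem N90143 : nd 90143 = n193076 := ndS (p := 54058) (l := 6) rfl N54058 D193076
theorem N90144 : nd 90144 = n193077 := ndS (p := 54059) (l := 0) rfl N54059 D193077
theorem N90145 : nd 90145 = n193078 := ndS (p := 54059) (l := 1) rfl N54059 D193078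
theorem N90146 : nd 90146 = n193079 := ndS (p := 54059) (l := 7) rfl N54059 D193079
theorem N90147 : nd 90147 = n193080 := ndS (p := 54060) (l := 5) rfl N54060 D193080
theorem N90148 : nd 90148 = n193081 := ndS (p := 54060) (l := 6) rfl N54060 D193081
theorem N90149 : nd 90149 = n193082 := ndS (p := 54061) (l := 5) rfl N54061 D193082
theorem N90150 : nd 90150 = n193083 := ndS (p := 54063) (l := 5) rfl N54063 D193083
theorem N90151 : nd 90151 = n193084 := ndS (p := 54063) (l := 7) rfl N54063 D193084
theorem N90152 : nd 90152 = n193085 := ndS (p := 54064) (l := 7) rfl N54064 D193085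
theorem N90153 : nd 90153 = n193086 := ndS (p := 54065) (l := 0) rfl N54065 D193086
theorem N90154 : nd 90154 = n193087 := ndS (p := 54065) (l := 2) rfl N54065 D193087
theorem N90155 : nd 90155 = n193088 := ndS (p := 54065) (l := 4) rfl N54065 D193088
theorem N90156 : nd 90156 = n193089 := ndS (p := 54065) (l := 5) rfl N54065 D193089
theorem N90157 : nd 90157 = n193090 := ndS (p := 54065) (l := 6) rfl N54065 D193090
theorem N90158 : nd 90158 = n193091 := ndS (p := 54065) (l := 7) rfl N54065 D193091
theorem N90159 : nd 90159 = n193092 := ndS (p := 54066) (l := 4) rfl N54066 D193092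
theorem N90160 : nd 90160 = n193093 := ndS (p := 54066) (l := 5) rfl N54066 D193093
theorem N90161 : nd 90161 = n193094 := ndS (p := 54066) (l := 6) rfl N54066 D193094
theorem N90162 : nd 90162 = n193097 := ndS (p := 54068) (l := 6) rfl N54068 D193097
theorem N90163 : nd 90163 = n193098 := ndS (p := 54069) (l := 0) rfl N54069 D193098
theorem N90164 : nd 90164 = n193099 := ndS (p := 54069) (l := 1) rfl N54069 D193099
theorem N90165 : nd 90165 = n193100 := ndS (p := 54071) (l := 3) rfl N54071 D193100
theorem N90166 : nd 90166 = n193101 := ndS (p := 54071) (l := 6) rfl N54071 D193101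
theorem N90167 : nd 90167 = n193102 := ndS (p := 54073) (l := 5) rfl N54073 D193102
theorem N90168 : nd 90168 = n193103 := ndS (p := 54073) (l := 7) rfl N54073 D193103
theorem N90169 : nd 90169 = n193104 := ndS (p := 54075) (l := 1) rfl N54075 D193104
theorem N90170 : nd 90170 = n193105 := ndS (p := 54075) (l := 4) rfl N54075 D193105
theorem N90171 : nd 90171 = n193106 := ndS (p := 54075) (l := 7) rfl N54075 D193106
theorem N90172 : nd 90172 = n193107 := ndS (p := 54078) (l := 1) rfl N54078 D193107
theorem N90173 : nd 90173 = n193108 := ndS (p := 54078) (l := 7) rfl N54078 D193108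
theorem N90174 : nd 90174 = n193109 := ndS (p := 54079) (l := 5) rfl N54079 D193109
theorem N90175 : nd 90175 = n193110 := ndS (p := 54080) (l := 3) rfl N54080 D193110
theorem N90176 : nd 90176 = n193111 := ndS (p := 54080) (l := 5) rfl N54080 D193111
theorem N90177 : nd 90177 = n193112 := ndS (p := 54080) (l := 6) rfl N54080 D193112
theorem N90178 : nd 90178 = n193113 := ndS (p := 54081) (l := 0) rfl N54081 D193113
theorem N90179 : nd 90179 = n193114 := ndS (p := 54081) (l := 1) rfl N54081 D193114
theorem N90180 : nd 90180 = n193115 := ndS (p := 54081) (l := 4) rfl N54081 D193115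
theorem N90181 : nd 90181 = n193116 := ndS (p := 54081) (l := 7) rfl N54081 D193116
theorem N90182 : nd 90182 = n193117 := ndS (p := 54083) (l := 5) rfl N54083 D193117
theorem N90183 : nd 90183 = n193118 := ndS (p := 54084) (l := 4) rfl N54084 D193118
theorem N90184 : nd 90184 = n193119 := ndS (p := 54084) (l := 6) rfl N54084 D193119
theorem N90185 : nd 90185 = n193120 := ndS (p := 54086) (l := 6) rfl N54086 D193120
theorem N90186 : nd 90186 = n193121 := ndS (p := 54087) (l := 6) rfl N54087 D193121
theorem N90187 : nd 90187 = n193122 := ndS (p := 54088) (l := 5) rfl N54088 D193122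
theorem N90188 : nd 90188 = n193123 := ndS (p := 54089) (l := 4) rfl N54089 D193123
theorem N90189 : nd 90189 = n193124 := ndS (p := 54090) (l := 4) rfl N54090 D193124
theorem N90190 : nd 90190 = n193125 := ndS (p := 54090) (l := 6) rfl N54090 D193125
theorem N90191 : nd 90191 = n193126 := ndS (p := 54091) (l := 1) rfl N54091 D193126
theorem N90192 : nd 90192 = n193127 := ndS (p := 54091) (l := 3) rfl N54091 D193127
theorem N90193 : nd 90193 = n193128 := ndS (p := 54091) (l := 5) rfl N54091 D193128
theorem N90194 : nd 90194 = n193129 := ndS (p := 54093) (l := 3) rfl N54093 D193129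
theorem N90195 : nd 90195 = n193130 := ndS (p := 54095) (l := 3) rfl N54095 D193130
theorem N90196 : nd 90196 = n193131 := ndS (p := 54095) (l := 6) rfl N54095 D193131
theorem N90197 : nd 90197 = n193132 := ndS (p := 54096) (l := 0) rfl N54096 D193132
theorem N90198 : nd 90198 = n193133 := ndS (p := 54096) (l := 1) rfl N54096 D193133
theorem N90199 : nd 90199 = n193134 := ndS (p := 54096) (l := 7) rfl N54096 D193134
theorem N90200 : nd 90200 = n193135 := ndS (p := 54097) (l := 5) rfl N54097 D193135
theorem N90201 : nd 90201 = n193136 := ndS (p := 54098) (l := 6) rfl N54098 D193136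
theorem N90202 : nd 90202 = n193137 := ndS (p := 54099) (l := 4) rfl N54099 D193137
theorem N90203 : nd 90203 = n193138 := ndS (p := 54099) (l := 6) rfl N54099 D193138
theorem N90204 : nd 90204 = n193139 := ndS (p := 54101) (l := 4) rfl N54101 D193139
theorem N90205 : nd 90205 = n193140 := ndS (p := 54101) (l := 6) rfl N54101 D193140
theorem N90206 : nd 90206 = n193141 := ndS (p := 54102) (l := 0) rfl N54102 D193141
theorem N90207 : nd 90207 = n193142 := ndS (p := 54102) (l := 1) rfl N54102 D193142
theorem N90208 : nd 90208 = n193143 := ndS (p := 54102) (l := 3) rfl N54102 D193143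
theorem N90209 : nd 90209 = n193144 := ndS (p := 54103) (l := 0) rfl N54103 D193144
theorem N90210 : nd 90210 = n193145 := ndS (p := 54103) (l := 4) rfl N54103 D193145
theorem N90211 : nd 90211 = n193146 := ndS (p := 54103) (l := 6) rfl N54103 D193146
theorem N90212 : nd 90212 = n193147 := ndS (p := 54104) (l := 7) rfl N54104 D193147
theorem N90213 : nd 90213 = n193148 := ndS (p := 54105) (l := 4) rfl N54105 D193148
theorem N90214 : nd 90214 = n193149 := ndS (p := 54106) (l := 3) rfl N54106 D193149
theorem N90215 : nd 90215 = n193150 := ndS (p := 54108) (l := 4) rfl N54108 D193150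
theorem N90216 : nd 90216 = n193151 := ndS (p := 54108) (l := 6) rfl N54108 D193151
theorem N90217 : nd 90217 = n193152 := ndS (p := 54109) (l := 3) rfl N54109 D193152
theorem N90218 : nd 90218 = n193153 := ndS (p := 54109) (l := 6) rfl N54109 D193153
theorem N90219 : nd 90219 = n193154 := ndS (p := 54110) (l := 1) rfl N54110 D193154
theorem N90220 : nd 90220 = n193155 := ndS (p := 54110) (l := 7) rfl N54110 D193155
theorem N90221 : nd 90221 = n193156 := ndS (p := 54111) (l := 4) rfl N54111 D193156
theorem N90222 : nd 90222 = n193157 := ndS (p := 54111) (l := 6) rfl N54111 D193157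
theorem N90223 : nd 90223 = n193158 := ndS (p := 54112) (l := 3) rfl N54112 D193158
theorem N90224 : nd 90224 = n193159 := ndS (p := 54112) (l := 6) rfl N54112 D193159
theorem N90225 : nd 90225 = n193160 := ndS (p := 54113) (l := 0) rfl N54113 D193160
theorem N90226 : nd 90226 = n193161 := ndS (p := 54113) (l := 7) rfl N54113 D193161
theorem N90227 : nd 90227 = n193162 := ndS (p := 54114) (l := 3) rfl N54114 D193162
theorem N90228 : nd 90228 = n193163 := ndS (p := 54114) (l := 6) rfl N54114 D193163
theorem N90229 : nd 90229 = n193164 := ndS (p := 54118) (l := 0) rfl N54118 D193164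
theorem N90230 : nd 90230 = n193165 := ndS (p := 54118) (l := 1) rfl N54118 D193165
theorem N90231 : nd 90231 = n193166 := ndS (p := 54119) (l := 6) rfl N54119 D193166
theorem N90232 : nd 90232 = n193167 := ndS (p := 54121) (l := 5) rfl N54121 D193167
theorem N90233 : nd 90233 = n193168 := ndS (p := 54121) (l := 6) rfl N54121 D193168
theorem N90234 : nd 90234 = n193169 := ndS (p := 54122) (l := 5) rfl N54122 D193169
theorem N90235 : nd 90235 = n193170 := ndS (p := 54123) (l := 1) rfl N54123 D193170
theorem N90236 : nd 90236 = n193171 := ndS (p := 54123) (l := 7) rfl N54123 D193171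
theorem N90237 : nd 90237 = n193172 := ndS (p := 54125) (l := 4) rfl N54125 D193172
theorem N90238 : nd 90238 = n193173 := ndS (p := 54125) (l := 6) rfl N54125 D193173
theorem N90239 : nd 90239 = n193174 := ndS (p := 54126) (l := 4) rfl N54126 D193174
theorem N90240 : nd 90240 = n193175 := ndS (p := 54127) (l := 4) rfl N54127 D193175
theorem N90241 : nd 90241 = n193176 := ndS (p := 54127) (l := 6) rfl N54127 D193176
theorem N90242 : nd 90242 = n193177 := ndS (p := 54128) (l := 7) rfl N54128 D193177
theorem N90243 : nd 90243 = n193178 := ndS (p := 54142) (l := 5) rfl N54142 D193178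
theorem N90244 : nd 90244 = n193179 := ndS (p := 54144) (l := 0) rfl N54144 D193179
theorem N90245 : nd 90245 = n193180 := ndS (p := 54145) (l := 4) rfl N54145 D193180
theorem N90246 : nd 90246 = n193181 := ndS (p := 54145) (l := 6) rfl N54145 D193181
theorem N90247 : nd 90247 = n193182 := ndS (p := 54146) (l := 0) rfl N54146 D193182
theorem N90248 : nd 90248 = n193183 := ndS (p := 54146) (l := 1) rfl N54146 D193183
theorem N90249 : nd 90249 = n193184 := ndS (p := 54146) (l := 5) rfl N54146 D193184
theorem N90250 : nd 90250 = n193185 := ndS (p := 54146) (l := 7) rfl N54146 D193185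
theorem N90251 : nd 90251 = n193186 := ndS (p := 54147) (l := 5) rfl N54147 D193186
theorem N90252 : nd 90252 = n193187 := ndS (p := 54150) (l := 4) rfl N54150 D193187
theorem N90253 : nd 90253 = n193188 := ndS (p := 54151) (l := 3) rfl N54151 D193188
theorem N90254 : nd 90254 = n193189 := ndS (p := 54151) (l := 6) rfl N54151 D193189
theorem N90255 : nd 90255 = n193190 := ndS (p := 54152) (l := 0) rfl N54152 D193190
theorem N90256 : nd 90256 = n193191 := ndS (p := 54152) (l := 1) rfl N54152 D193191
theorem N90257 : nd 90257 = n193192 := ndS (p := 54152) (l := 5) rfl N54152 D193192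
theorem N90258 : nd 90258 = n193193 := ndS (p := 54152) (l := 7) rfl N54152 D193193
theorem N90259 : nd 90259 = n193194 := ndS (p := 54154) (l := 4) rfl N54154 D193194
theorem N90260 : nd 90260 = n193195 := ndS (p := 54156) (l := 4) rfl N54156 D193195
theorem N90261 : nd 90261 = n193196 := ndS (p := 54156) (l := 6) rfl N54156 D193196
theorem N90262 : nd 90262 = n193197 := ndS (p := 54158) (l := 6) rfl N54158 D193197
theorem N90263 : nd 90263 = n193198 := ndS (p := 54159) (l := 0) rfl N54159 D193198
theorem N90264 : nd 90264 = n193199 := ndS (p := 54159) (l := 5) rfl N54159 D193199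
theorem N90265 : nd 90265 = n193200 := ndS (p := 54159) (l := 7) rfl N54159 D193200
theorem N90266 : nd 90266 = n193201 := ndS (p := 54160) (l := 4) rfl N54160 D193201
theorem N90267 : nd 90267 = n193202 := ndS (p := 54161) (l := 2) rfl N54161 D193202
theorem N90268 : nd 90268 = n193203 := ndS (p := 54161) (l := 4) rfl N54161 D193203
theorem N90269 : nd 90269 = n193204 := ndS (p := 54161) (l := 6) rfl N54161 D193204
theorem N90270 : nd 90270 = n193205 := ndS (p := 54162) (l := 3) rfl N54162 D193205
theorem N90271 : nd 90271 = n193206 := ndS (p := 54162) (l := 6) rfl N54162 D193206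
theorem N90272 : nd 90272 = n193207 := ndS (p := 54163) (l := 0) rfl N54163 D193207
theorem N90273 : nd 90273 = n193208 := ndS (p := 54163) (l := 1) rfl N54163 D193208
theorem N90274 : nd 90274 = n193210 := ndS (p := 54164) (l := 5) rfl N54164 D193210
theorem N90275 : nd 90275 = n193212 := ndS (p := 54165) (l := 3) rfl N54165 D193212
theorem N90276 : nd 90276 = n193213 := ndS (p := 54165) (l := 5) rfl N54165 D193213
theorem N90277 : nd 90277 = n193214 := ndS (p := 54165) (l := 6) rfl N54165 D193214
theorem N90278 : nd 90278 = n193215 := ndS (p := 54166) (l := 0) rfl N54166 D193215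
theorem N90279 : nd 90279 = n193216 := ndS (p := 54166) (l := 1) rfl N54166 D193216
theorem N90280 : nd 90280 = n193217 := ndS (p := 54166) (l := 2) rfl N54166 D193217
theorem N90281 : nd 90281 = n193218 := ndS (p := 54166) (l := 7) rfl N54166 D193218
theorem N90282 : nd 90282 = n193219 := ndS (p := 54167) (l := 0) rfl N54167 D193219
theorem N90283 : nd 90283 = n193220 := ndS (p := 54167) (l := 7) rfl N54167 D193220
theorem N90284 : nd 90284 = n193221 := ndS (p := 54168) (l := 6) rfl N54168 D193221
theorem N90285 : nd 90285 = n193222 := ndS (p := 54171) (l := 4) rfl N54171 D193222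
theorem N90286 : nd 90286 = n193223 := ndS (p := 54172) (l := 4) rfl N54172 D193223
theorem N90287 : nd 90287 = n193224 := ndS (p := 54174) (l := 4) rfl N54174 D193224
theorem N90288 : nd 90288 = n193225 := ndS (p := 54174) (l := 6) rfl N54174 D193225
theorem N90289 : nd 90289 = n193226 := ndS (p := 54175) (l := 1) rfl N54175 D193226
theorem N90290 : nd 90290 = n193227 := ndS (p := 54175) (l := 3) rfl N54175 D193227
theorem N90291 : nd 90291 = n193228 := ndS (p := 54175) (l := 5) rfl N54175 D193228
theorem N90292 : nd 90292 = n193229 := ndS (p := 54175) (l := 6) rfl N54175 D193229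
theorem N90293 : nd 90293 = n193230 := ndS (p := 54179) (l := 6) rfl N54179 D193230
theorem N90294 : nd 90294 = n193231 := ndS (p := 54180) (l := 0) rfl N54180 D193231
theorem N90295 : nd 90295 = n193232 := ndS (p := 54180) (l := 1) rfl N54180 D193232
theorem N90296 : nd 90296 = n193233 := ndS (p := 54180) (l := 7) rfl N54180 D193233
theorem N90297 : nd 90297 = n193234 := ndS (p := 54181) (l := 3) rfl N54181 D193234
theorem N90298 : nd 90298 = n193235 := ndS (p := 54181) (l := 6) rfl N54181 D193235
theorem N90299 : nd 90299 = n193236 := ndS (p := 54183) (l := 3) rfl N54183 D193236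
theorem N90300 : nd 90300 = n193237 := ndS (p := 54183) (l := 6) rfl N54183 D193237
theorem N90301 : nd 90301 = n193238 := ndS (p := 54184) (l := 6) rfl N54184 D193238
theorem N90302 : nd 90302 = n193239 := ndS (p := 54185) (l := 0) rfl N54185 D193239
theorem N90303 : nd 90303 = n193240 := ndS (p := 54185) (l := 1) rfl N54185 D193240
theorem N90304 : nd 90304 = n193241 := ndS (p := 54185) (l := 2) rfl N54185 D193241
theorem N90305 : nd 90305 = n193242 := ndS (p := 54185) (l := 6) rfl N54185 D193242
theorem N90306 : nd 90306 = n193243 := ndS (p := 54187) (l := 4) rfl N54187 D193243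
theorem N90307 : nd 90307 = n193244 := ndS (p := 54188) (l := 4) rfl N54188 D193244
theorem N90308 : nd 90308 = n193245 := ndS (p := 54188) (l := 6) rfl N54188 D193245
theorem N90309 : nd 90309 = n193246 := ndS (p := 54189) (l := 0) rfl N54189 D193246
theorem N90310 : nd 90310 = n193247 := ndS (p := 54189) (l := 7) rfl N54189 D193247
theorem N90311 : nd 90311 = n193248 := ndS (p := 54192) (l := 4) rfl N54192 D193248
theorem N90312 : nd 90312 = n193249 := ndS (p := 54192) (l := 6) rfl N54192 D193249
theorem N90313 : nd 90313 = n193250 := ndS (p := 54195) (l := 6) rfl N54195 D193250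
theorem N90314 : nd 90314 = n193251 := ndS (p := 54196) (l := 3) rfl N54196 D193251
theorem N90315 : nd 90315 = n193252 := ndS (p := 54196) (l := 5) rfl N54196 D193252
theorem N90316 : nd 90316 = n193253 := ndS (p := 54198) (l := 2) rfl N54198 D193253
theorem N90317 : nd 90317 = n193254 := ndS (p := 54199) (l := 5) rfl N54199 D193254
theorem N90318 : nd 90318 = n193255 := ndS (p := 54201) (l := 4) rfl N54201 D193255
theorem N90319 : nd 90319 = n193256 := ndS (p := 54201) (l := 6) rfl N54201 D193256
theorem N90320 : nd 90320 = n193257 := ndS (p := 54202) (l := 1) rfl N54202 D193257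
theorem N90321 : nd 90321 = n193258 := ndS (p := 54202) (l := 3) rfl N54202 D193258
theorem N90322 : nd 90322 = n193259 := ndS (p := 54202) (l := 5) rfl N54202 D193259
theorem N90323 : nd 90323 = n193260 := ndS (p := 54202) (l := 6) rfl N54202 D193260
theorem N90324 : nd 90324 = n193262 := ndS (p := 54203) (l := 1) rfl N54203 D193262
theorem N90325 : nd 90325 = n193263 := ndS (p := 54203) (l := 7) rfl N54203 D193263
theorem N90326 : nd 90326 = n193264 := ndS (p := 54205) (l := 0) rfl N54205 D193264
theorem N90327 : nd 90327 = n193265 := ndS (p := 54205) (l := 1) rfl N54205 D193265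
theorem N90328 : nd 90328 = n193266 := ndS (p := 54205) (l := 2) rfl N54205 D193266
theorem N90329 : nd 90329 = n193267 := ndS (p := 54205) (l := 5) rfl N54205 D193267
theorem N90330 : nd 90330 = n193268 := ndS (p := 54205) (l := 6) rfl N54205 D193268
theorem N90331 : nd 90331 = n193269 := ndS (p := 54206) (l := 6) rfl N54206 D193269
theorem N90332 : nd 90332 = n193270 := ndS (p := 54207) (l := 0) rfl N54207 D193270
theorem N90333 : nd 90333 = n193271 := ndS (p := 54207) (l := 1) rfl N54207 D193271
theorem N90334 : nd 90334 = n193272 := ndS (p := 54207) (l := 5) rfl N54207 D193272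
theorem N90335 : nd 90335 = n193273 := ndS (p := 54207) (l := 7) rfl N54207 D193273
theorem N90336 : nd 90336 = n193274 := ndS (p := 54208) (l := 5) rfl N54208 D193274
theorem N90337 : nd 90337 = n193275 := ndS (p := 54209) (l := 4) rfl N54209 D193275
theorem N90338 : nd 90338 = n193276 := ndS (p := 54209) (l := 5) rfl N54209 D193276
theorem N90339 : nd 90339 = n193277 := ndS (p := 54209) (l := 6) rfl N54209 D193277
theorem N90340 : nd 90340 = n193278 := ndS (p := 54211) (l := 4) rfl N54211 D193278
theorem N90341 : nd 90341 = n193279 := ndS (p := 54211) (l := 6) rfl N54211 D193279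
theorem N90342 : nd 90342 = n193280 := ndS (p := 54212) (l := 3) rfl N54212 D193280
theorem N90343 : nd 90343 = n193281 := ndS (p := 54212) (l := 5) rfl N54212 D193281
theorem N90344 : nd 90344 = n193282 := ndS (p := 54212) (l := 6) rfl N54212 D193282
theorem N90345 : nd 90345 = n193283 := ndS (p := 54213) (l := 0) rfl N54213 D193283
theorem N90346 : nd 90346 = n193284 := ndS (p := 54213) (l := 1) rfl N54213 D193284
theorem N90347 : nd 90347 = n193285 := ndS (p := 54213) (l := 7) rfl N54213 D193285
theorem N90348 : nd 90348 = n193286 := ndS (p := 54214) (l := 0) rfl N54214 D193286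
theorem N90349 : nd 90349 = n193287 := ndS (p := 54214) (l := 1) rfl N54214 D193287
theorem N90350 : nd 90350 = n193288 := ndS (p := 54214) (l := 2) rfl N54214 D193288
theorem N90351 : nd 90351 = n193289 := ndS (p := 54214) (l := 5) rfl N54214 D193289
theorem N90352 : nd 90352 = n193290 := ndS (p := 54216) (l := 0) rfl N54216 D193290
theorem N90353 : nd 90353 = n193291 := ndS (p := 54216) (l := 1) rfl N54216 D193291
theorem N90354 : nd 90354 = n193292 := ndS (p := 54217) (l := 4) rfl N54217 D193292
theorem N90355 : nd 90355 = n193293 := ndS (p := 54217) (l := 5) rfl N54217 D193293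
theorem N90356 : nd 90356 = n193294 := ndS (p := 54218) (l := 4) rfl N54218 D193294
theorem N90357 : nd 90357 = n193295 := ndS (p := 54218) (l := 5) rfl N54218 D193295
theorem N90358 : nd 90358 = n193296 := ndS (p := 54221) (l := 6) rfl N54221 D193296
theorem N90359 : nd 90359 = n193297 := ndS (p := 54223) (l := 0) rfl N54223 D193297
theorem N90360 : nd 90360 = n193299 := ndS (p := 54223) (l := 2) rfl N54223 D193299
theorem N90361 : nd 90361 = n193300 := ndS (p := 54223) (l := 4) rfl N54223 D193300
theorem N90362 : nd 90362 = n193301 := ndS (p := 54223) (l := 5) rfl N54223 D193301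
theorem N90363 : nd 90363 = n193302 := ndS (p := 54223) (l := 6) rfl N54223 D193302
theorem N90364 : nd 90364 = n193303 := ndS (p := 54224) (l := 6) rfl N54224 D193303
theorem N90365 : nd 90365 = n193305 := ndS (p := 54225) (l := 5) rfl N54225 D193305
theorem N90366 : nd 90366 = n193306 := ndS (p := 54225) (l := 7) rfl N54225 D193306
theorem N90367 : nd 90367 = n193307 := ndS (p := 54226) (l := 0) rfl N54226 D193307
theorem N90368 : nd 90368 = n193308 := ndS (p := 54226) (l := 2) rfl N54226 D193308
theorem N90369 : nd 90369 = n193309 := ndS (p := 54226) (l := 4) rfl N54226 D193309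
theorem N90370 : nd 90370 = n193310 := ndS (p := 54226) (l := 5) rfl N54226 D193310
theorem N90371 : nd 90371 = n193311 := ndS (p := 54226) (l := 6) rfl N54226 D193311
theorem N90372 : nd 90372 = n193312 := ndS (p := 54226) (l := 7) rfl N54226 D193312
theorem N90373 : nd 90373 = n193313 := ndS (p := 54227) (l := 3) rfl N54227 D193313
theorem N90374 : nd 90374 = n193314 := ndS (p := 54227) (l := 4) rfl N54227 D193314
theorem N90375 : nd 90375 = n193315 := ndS (p := 54227) (l := 5) rfl N54227 D193315
theorem N90376 : nd 90376 = n193316 := ndS (p := 54227) (l := 6) rfl N54227 D193316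
theorem N90377 : nd 90377 = n193317 := ndS (p := 54228) (l := 5) rfl N54228 D193317
theorem N90378 : nd 90378 = n193318 := ndS (p := 54229) (l := 0) rfl N54229 D193318
theorem N90379 : nd 90379 = n193319 := ndS (p := 54229) (l := 1) rfl N54229 D193319
theorem N90380 : nd 90380 = n193320 := ndS (p := 54229) (l := 4) rfl N54229 D193320
theorem N90381 : nd 90381 = n193321 := ndS (p := 54231) (l := 0) rfl N54231 D193321
theorem N90382 : nd 90382 = n193322 := ndS (p := 54231) (l := 1) rfl N54231 D193322
theorem N90383 : nd 90383 = n193323 := ndS (p := 54231) (l := 7) rfl N54231 D193323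
theorem N90384 : nd 90384 = n193324 := ndS (p := 54232) (l := 0) rfl N54232 D193324
theorem N90385 : nd 90385 = n193325 := ndS (p := 54232) (l := 1) rfl N54232 D193325
theorem N90386 : nd 90386 = n193326 := ndS (p := 54232) (l := 5) rfl N54232 D193326
theorem N90387 : nd 90387 = n193328 := ndS (p := 54233) (l := 3) rfl N54233 D193328
theorem N90388 : nd 90388 = n193329 := ndS (p := 54233) (l := 6) rfl N54233 D193329
theorem N90389 : nd 90389 = n193331 := ndS (p := 54234) (l := 3) rfl N54234 D193331
theorem N90390 : nd 90390 = n193332 := ndS (p := 54234) (l := 5) rfl N54234 D193332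
theorem N90391 : nd 90391 = n193333 := ndS (p := 54234) (l := 6) rfl N54234 D193333
theorem N90392 : nd 90392 = n193334 := ndS (p := 54235) (l := 5) rfl N54235 D193334
theorem N90393 : nd 90393 = n193335 := ndS (p := 54236) (l := 1) rfl N54236 D193335
theorem N90394 : nd 90394 = n193336 := ndS (p := 54236) (l := 4) rfl N54236 D193336
theorem N90395 : nd 90395 = n193337 := ndS (p := 54236) (l := 7) rfl N54236 D193337
theorem N90396 : nd 90396 = n193338 := ndS (p := 54238) (l := 5) rfl N54238 D193338
theorem N90397 : nd 90397 = n193339 := ndS (p := 54242) (l := 5) rfl N54242 D193339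
theorem N90398 : nd 90398 = n193340 := ndS (p := 54243) (l := 0) rfl N54243 D193340
theorem N90399 : nd 90399 = n193341 := ndS (p := 54243) (l := 1) rfl N54243 D193341
theorem N90400 : nd 90400 = n193342 := ndS (p := 54243) (l := 4) rfl N54243 D193342
theorem N90401 : nd 90401 = n193343 := ndS (p := 54243) (l := 7) rfl N54243 D193343
theorem N90402 : nd 90402 = n193344 := ndS (p := 54245) (l := 1) rfl N54245 D193344
theorem N90403 : nd 90403 = n193345 := ndS (p := 54247) (l := 5) rfl N54247 D193345
theorem N90404 : nd 90404 = n193346 := ndS (p := 54249) (l := 6) rfl N54249 D193346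
theorem N90405 : nd 90405 = n193347 := ndS (p := 54251) (l := 4) rfl N54251 D193347
theorem N90406 : nd 90406 = n193348 := ndS (p := 54251) (l := 6) rfl N54251 D193348
theorem N90407 : nd 90407 = n193350 := ndS (p := 54252) (l := 1) rfl N54252 D193350
theorem N90408 : nd 90408 = n193351 := ndS (p := 54252) (l := 5) rfl N54252 D193351
theorem N90409 : nd 90409 = n193352 := ndS (p := 54254) (l := 5) rfl N54254 D193352
theorem N90410 : nd 90410 = n193353 := ndS (p := 54255) (l := 0) rfl N54255 D193353
theorem N90411 : nd 90411 = n193354 := ndS (p := 54255) (l := 1) rfl N54255 D193354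
theorem N90412 : nd 90412 = n193355 := ndS (p := 54257) (l := 6) rfl N54257 D193355
theorem N90413 : nd 90413 = n193356 := ndS (p := 54258) (l := 4) rfl N54258 D193356
theorem N90414 : nd 90414 = n193357 := ndS (p := 54259) (l := 3) rfl N54259 D193357
theorem N90415 : nd 90415 = n193358 := ndS (p := 54260) (l := 1) rfl N54260 D193358
theorem N90416 : nd 90416 = n193359 := ndS (p := 54261) (l := 3) rfl N54261 D193359
theorem N90417 : nd 90417 = n193360 := ndS (p := 54263) (l := 4) rfl N54263 D193360
theorem N90418 : nd 90418 = n193361 := ndS (p := 54263) (l := 5) rfl N54263 D193361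
theorem N90419 : nd 90419 = n193362 := ndS (p := 54265) (l := 0) rfl N54265 D193362
theorem N90420 : nd 90420 = n193363 := ndS (p := 54265) (l := 1) rfl N54265 D193363
theorem N90421 : nd 90421 = n193364 := ndS (p := 54267) (l := 3) rfl N54267 D193364
theorem N90422 : nd 90422 = n193365 := ndS (p := 54267) (l := 5) rfl N54267 D193365
theorem N90423 : nd 90423 = n193366 := ndS (p := 54267) (l := 6) rfl N54267 D193366
theorem N90424 : nd 90424 = n193367 := ndS (p := 54268) (l := 0) rfl N54268 D193367
theorem N90425 : nd 90425 = n193368 := ndS (p := 54268) (l := 1) rfl N54268 D193368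
theorem N90426 : nd 90426 = n193369 := ndS (p := 54268) (l := 2) rfl N54268 D193369
theorem N90427 : nd 90427 = n193370 := ndS (p := 54269) (l := 0) rfl N54269 D193370
theorem N90428 : nd 90428 = n193371 := ndS (p := 54269) (l := 1) rfl N54269 D193371
theorem N90429 : nd 90429 = n193372 := ndS (p := 54272) (l := 5) rfl N54272 D193372
theorem N90430 : nd 90430 = n193373 := ndS (p := 54273) (l := 0) rfl N54273 D193373
theorem N90431 : nd 90431 = n193374 := ndS (p := 54273) (l := 1) rfl N54273 D193374
theorem N90432 : nd 90432 = n193375 := ndS (p := 54273) (l := 4) rfl N54273 D193375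
theorem N90433 : nd 90433 = n193376 := ndS (p := 54275) (l := 1) rfl N54275 D193376
theorem N90434 : nd 90434 = n193377 := ndS (p := 54275) (l := 6) rfl N54275 D193377
theorem N90435 : nd 90435 = n193378 := ndS (p := 54277) (l := 5) rfl N54277 D193378
theorem N90436 : nd 90436 = n193379 := ndS (p := 54279) (l := 5) rfl N54279 D193379
theorem N90437 : nd 90437 = n193380 := ndS (p := 54280) (l := 3) rfl N54280 D193380
theorem N90438 : nd 90438 = n193381 := ndS (p := 54280) (l := 4) rfl N54280 D193381
theorem N90439 : nd 90439 = n193382 := ndS (p := 54280) (l := 6) rfl N54280 D193382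
theorem N90440 : nd 90440 = n193383 := ndS (p := 54281) (l := 4) rfl N54281 D193383
theorem N90441 : nd 90441 = n193384 := ndS (p := 54281) (l := 6) rfl N54281 D193384
theorem N90442 : nd 90442 = n193385 := ndS (p := 54282) (l := 0) rfl N54282 D193385
theorem N90443 : nd 90443 = n193386 := ndS (p := 54282) (l := 1) rfl N54282 D193386
theorem N90444 : nd 90444 = n193387 := ndS (p := 54284) (l := 3) rfl N54284 D193387
theorem N90445 : nd 90445 = n193388 := ndS (p := 54284) (l := 4) rfl N54284 D193388
theorem N90446 : nd 90446 = n193389 := ndS (p := 54284) (l := 6) rfl N54284 D193389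
theorem N90447 : nd 90447 = n193390 := ndS (p := 54286) (l := 3) rfl N54286 D193390
theorem N90448 : nd 90448 = n193391 := ndS (p := 54286) (l := 6) rfl N54286 D193391
theorem N90449 : nd 90449 = n193392 := ndS (p := 54287) (l := 1) rfl N54287 D193392
theorem N90450 : nd 90450 = n193393 := ndS (p := 54287) (l := 7) rfl N54287 D193393
theorem N90451 : nd 90451 = n193394 := ndS (p := 54290) (l := 5) rfl N54290 D193394
theorem N90452 : nd 90452 = n193395 := ndS (p := 54291) (l := 4) rfl N54291 D193395
theorem N90453 : nd 90453 = n193396 := ndS (p := 54293) (l := 4) rfl N54293 D193396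
theorem N90454 : nd 90454 = n193397 := ndS (p := 54293) (l := 6) rfl N54293 D193397
theorem N90455 : nd 90455 = n193398 := ndS (p := 54294) (l := 0) rfl N54294 D193398
theorem N90456 : nd 90456 = n193399 := ndS (p := 54294) (l := 7) rfl N54294 D193399
theorem N90457 : nd 90457 = n193400 := ndS (p := 54295) (l := 6) rfl N54295 D193400
theorem N90458 : nd 90458 = n193401 := ndS (p := 54300) (l := 6) rfl N54300 D193401
theorem N90459 : nd 90459 = n193402 := ndS (p := 54301) (l := 4) rfl N54301 D193402
theorem N90460 : nd 90460 = n193403 := ndS (p := 54301) (l := 7) rfl N54301 D193403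
theorem N90461 : nd 90461 = n193404 := ndS (p := 54303) (l := 5) rfl N54303 D193404
theorem N90462 : nd 90462 = n193405 := ndS (p := 54303) (l := 6) rfl N54303 D193405
theorem N90463 : nd 90463 = n193406 := ndS (p := 54304) (l := 5) rfl N54304 D193406
theorem N90464 : nd 90464 = n193407 := ndS (p := 54305) (l := 4) rfl N54305 D193407
theorem N90465 : nd 90465 = n193408 := ndS (p := 54307) (l := 5) rfl N54307 D193408
theorem N90466 : nd 90466 = n193409 := ndS (p := 54309) (l := 4) rfl N54309 D193409
theorem N90467 : nd 90467 = n193410 := ndS (p := 54309) (l := 6) rfl N54309 D193410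
theorem N90468 : nd 90468 = n193411 := ndS (p := 54310) (l := 1) rfl N54310 D193411
theorem N90469 : nd 90469 = n193412 := ndS (p := 54310) (l := 5) rfl N54310 D193412
theorem N90470 : nd 90470 = n193413 := ndS (p := 54312) (l := 4) rfl N54312 D193413
theorem N90471 : nd 90471 = n193414 := ndS (p := 54313) (l := 4) rfl N54313 D193414
theorem N90472 : nd 90472 = n193415 := ndS (p := 54313) (l := 6) rfl N54313 D193415
theorem N90473 : nd 90473 = n193416 := ndS (p := 54314) (l := 0) rfl N54314 D193416
theorem N90474 : nd 90474 = n193417 := ndS (p := 54314) (l := 1) rfl N54314 D193417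
theorem N90475 : nd 90475 = n193418 := ndS (p := 54314) (l := 3) rfl N54314 D193418
theorem N90476 : nd 90476 = n193419 := ndS (p := 54314) (l := 5) rfl N54314 D193419
theorem N90477 : nd 90477 = n193420 := ndS (p := 54314) (l := 7) rfl N54314 D193420
theorem N90478 : nd 90478 = n193421 := ndS (p := 54315) (l := 6) rfl N54315 D193421
theorem N90479 : nd 90479 = n193422 := ndS (p := 54316) (l := 4) rfl N54316 D193422
theorem N90480 : nd 90480 = n193423 := ndS (p := 54317) (l := 4) rfl N54317 D193423
theorem N90481 : nd 90481 = n193424 := ndS (p := 54318) (l := 0) rfl N54318 D193424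
theorem N90482 : nd 90482 = n193425 := ndS (p := 54318) (l := 1) rfl N54318 D193425
theorem N90483 : nd 90483 = n193426 := ndS (p := 54318) (l := 5) rfl N54318 D193426
theorem N90484 : nd 90484 = n193427 := ndS (p := 54321) (l := 4) rfl N54321 D193427
theorem N90485 : nd 90485 = n193428 := ndS (p := 54322) (l := 3) rfl N54322 D193428
theorem N90486 : nd 90486 = n193429 := ndS (p := 54322) (l := 5) rfl N54322 D193429
theorem N90487 : nd 90487 = n193430 := ndS (p := 54322) (l := 6) rfl N54322 D193430
theorem N90488 : nd 90488 = n193431 := ndS (p := 54324) (l := 0) rfl N54324 D193431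
theorem N90489 : nd 90489 = n193432 := ndS (p := 54324) (l := 5) rfl N54324 D193432
theorem N90490 : nd 90490 = n193433 := ndS (p := 54326) (l := 3) rfl N54326 D193433
theorem N90491 : nd 90491 = n193434 := ndS (p := 54326) (l := 5) rfl N54326 D193434
theorem N90492 : nd 90492 = n193435 := ndS (p := 54328) (l := 6) rfl N54328 D193435
theorem N90493 : nd 90493 = n193436 := ndS (p := 54329) (l := 0) rfl N54329 D193436
theorem N90494 : nd 90494 = n193437 := ndS (p := 54329) (l := 1) rfl N54329 D193437
theorem N90495 : nd 90495 = n193438 := ndS (p := 54329) (l := 2) rfl N54329 D193438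
theorem N90496 : nd 90496 = n193439 := ndS (p := 54329) (l := 5) rfl N54329 D193439
theorem N90497 : nd 90497 = n193440 := ndS (p := 54329) (l := 7) rfl N54329 D193440
theorem N90498 : nd 90498 = n193441 := ndS (p := 54330) (l := 0) rfl N54330 D193441
theorem N90499 : nd 90499 = n193442 := ndS (p := 54330) (l := 1) rfl N54330 D193442
theorem N90500 : nd 90500 = n193443 := ndS (p := 54331) (l := 6) rfl N54331 D193443
theorem N90501 : nd 90501 = n193444 := ndS (p := 54334) (l := 5) rfl N54334 D193444
theorem N90502 : nd 90502 = n193445 := ndS (p := 54334) (l := 7) rfl N54334 D193445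
theorem N90503 : nd 90503 = n193446 := ndS (p := 54335) (l := 5) rfl N54335 D193446
theorem N90504 : nd 90504 = n193447 := ndS (p := 54336) (l := 0) rfl N54336 D193447
theorem N90505 : nd 90505 = n193448 := ndS (p := 54337) (l := 0) rfl N54337 D193448
theorem N90506 : nd 90506 = n193449 := ndS (p := 54337) (l := 5) rfl N54337 D193449
theorem N90507 : nd 90507 = n193451 := ndS (p := 54340) (l := 1) rfl N54340 D193451
theorem N90508 : nd 90508 = n193452 := ndS (p := 54340) (l := 5) rfl N54340 D193452
theorem N90509 : nd 90509 = n193453 := ndS (p := 54340) (l := 7) rfl N54340 D193453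
theorem N90510 : nd 90510 = n193454 := ndS (p := 54342) (l := 5) rfl N54342 D193454
theorem N90511 : nd 90511 = n193455 := ndS (p := 54343) (l := 1) rfl N54343 D193455
theorem N90512 : nd 90512 = n193456 := ndS (p := 54343) (l := 4) rfl N54343 D193456
theorem N90513 : nd 90513 = n193457 := ndS (p := 54345) (l := 4) rfl N54345 D193457
theorem N90514 : nd 90514 = n193458 := ndS (p := 54345) (l := 6) rfl N54345 D193458
theorem N90515 : nd 90515 = n193459 := ndS (p := 54347) (l := 1) rfl N54347 D193459
theorem N90516 : nd 90516 = n193460 := ndS (p := 54347) (l := 4) rfl N54347 D193460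
theorem N90517 : nd 90517 = n193461 := ndS (p := 54348) (l := 0) rfl N54348 D193461
theorem N90518 : nd 90518 = n193462 := ndS (p := 54348) (l := 5) rfl N54348 D193462
theorem N90519 : nd 90519 = n193463 := ndS (p := 54349) (l := 4) rfl N54349 D193463
theorem N90520 : nd 90520 = n193464 := ndS (p := 54349) (l := 6) rfl N54349 D193464
theorem N90521 : nd 90521 = n193465 := ndS (p := 54350) (l := 4) rfl N54350 D193465
theorem N90522 : nd 90522 = n193466 := ndS (p := 54352) (l := 5) rfl N54352 D193466
theorem N90523 : nd 90523 = n193467 := ndS (p := 54356) (l := 5) rfl N54356 D193467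
theorem N90524 : nd 90524 = n193468 := ndS (p := 54359) (l := 3) rfl N54359 D193468
theorem N90525 : nd 90525 = n193469 := ndS (p := 54359) (l := 5) rfl N54359 D193469
theorem N90526 : nd 90526 = n193470 := ndS (p := 54360) (l := 0) rfl N54360 D193470
theorem N90527 : nd 90527 = n193471 := ndS (p := 54360) (l := 2) rfl N54360 D193471
theorem N90528 : nd 90528 = n193472 := ndS (p := 54360) (l := 5) rfl N54360 D193472
theorem N90529 : nd 90529 = n193473 := ndS (p := 54361) (l := 0) rfl N54361 D193473
theorem N90530 : nd 90530 = n193474 := ndS (p := 54361) (l := 1) rfl N54361 D193474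
theorem N90531 : nd 90531 = n193475 := ndS (p := 54361) (l := 6) rfl N54361 D193475
theorem N90532 : nd 90532 = n193476 := ndS (p := 54362) (l := 1) rfl N54362 D193476
theorem N90533 : nd 90533 = n193477 := ndS (p := 54362) (l := 7) rfl N54362 D193477
theorem N90534 : nd 90534 = n193478 := ndS (p := 54363) (l := 4) rfl N54363 D193478
theorem N90535 : nd 90535 = n193479 := ndS (p := 54364) (l := 4) rfl N54364 D193479
theorem N90536 : nd 90536 = n193480 := ndS (p := 54367) (l := 4) rfl N54367 D193480
theorem N90537 : nd 90537 = n193481 := ndS (p := 54368) (l := 5) rfl N54368 D193481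
theorem N90538 : nd 90538 = n193482 := ndS (p := 54370) (l := 0) rfl N54370 D193482
theorem N90539 : nd 90539 = n193483 := ndS (p := 54370) (l := 5) rfl N54370 D193483
theorem N90540 : nd 90540 = n193484 := ndS (p := 54370) (l := 7) rfl N54370 D193484
theorem N90541 : nd 90541 = n193485 := ndS (p := 54374) (l := 4) rfl N54374 D193485
theorem N90542 : nd 90542 = n193486 := ndS (p := 54374) (l := 7) rfl N54374 D193486
theorem N90543 : nd 90543 = n193487 := ndS (p := 54378) (l := 4) rfl N54378 D193487
theorem N90544 : nd 90544 = n193488 := ndS (p := 54380) (l := 6) rfl N54380 D193488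
theorem N90545 : nd 90545 = n193489 := ndS (p := 54381) (l := 0) rfl N54381 D193489
theorem N90546 : nd 90546 = n193490 := ndS (p := 54381) (l := 5) rfl N54381 D193490
theorem N90547 : nd 90547 = n193491 := ndS (p := 54381) (l := 7) rfl N54381 D193491
theorem N90548 : nd 90548 = n193492 := ndS (p := 54382) (l := 4) rfl N54382 D193492
theorem N90549 : nd 90549 = n193493 := ndS (p := 54383) (l := 0) rfl N54383 D193493
theorem N90550 : nd 90550 = n193494 := ndS (p := 54383) (l := 1) rfl N54383 D193494
theorem N90551 : nd 90551 = n193495 := ndS (p := 54383) (l := 4) rfl N54383 D193495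
theorem N90552 : nd 90552 = n193496 := ndS (p := 54383) (l := 7) rfl N54383 D193496
theorem N90553 : nd 90553 = n193497 := ndS (p := 54385) (l := 3) rfl N54385 D193497
theorem N90554 : nd 90554 = n193498 := ndS (p := 54385) (l := 5) rfl N54385 D193498
theorem N90555 : nd 90555 = n193499 := ndS (p := 54387) (l := 4) rfl N54387 D193499
theorem N90556 : nd 90556 = n193500 := ndS (p := 54387) (l := 5) rfl N54387 D193500
theorem N90557 : nd 90557 = n193501 := ndS (p := 54387) (l := 6) rfl N54387 D193501
theorem N90558 : nd 90558 = n193502 := ndS (p := 54388) (l := 0) rfl N54388 D193502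
theorem N90559 : nd 90559 = n193503 := ndS (p := 54388) (l := 3) rfl N54388 D193503
theorem N90560 : nd 90560 = n193504 := ndS (p := 54388) (l := 5) rfl N54388 D193504
theorem N90561 : nd 90561 = n193505 := ndS (p := 54388) (l := 6) rfl N54388 D193505
theorem N90562 : nd 90562 = n193506 := ndS (p := 54389) (l := 4) rfl N54389 D193506
theorem N90563 : nd 90563 = n193507 := ndS (p := 54390) (l := 0) rfl N54390 D193507
theorem N90564 : nd 90564 = n193508 := ndS (p := 54390) (l := 7) rfl N54390 D193508
theorem N90565 : nd 90565 = n193509 := ndS (p := 54391) (l := 3) rfl N54391 D193509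
theorem N90566 : nd 90566 = n193510 := ndS (p := 54392) (l := 3) rfl N54392 D193510
theorem N90567 : nd 90567 = n193511 := ndS (p := 54393) (l := 2) rfl N54393 D193511
theorem N90568 : nd 90568 = n193512 := ndS (p := 54393) (l := 5) rfl N54393 D193512
theorem N90569 : nd 90569 = n193513 := ndS (p := 54393) (l := 6) rfl N54393 D193513
theorem N90570 : nd 90570 = n193514 := ndS (p := 54394) (l := 0) rfl N54394 D193514
theorem N90571 : nd 90571 = n193515 := ndS (p := 54394) (l := 1) rfl N54394 D193515
theorem N90572 : nd 90572 = n193516 := ndS (p := 54394) (l := 6) rfl N54394 D193516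
theorem N90573 : nd 90573 = n193517 := ndS (p := 54395) (l := 0) rfl N54395 D193517
theorem N90574 : nd 90574 = n193518 := ndS (p := 54395) (l := 1) rfl N54395 D193518
theorem N90575 : nd 90575 = n193519 := ndS (p := 54395) (l := 5) rfl N54395 D193519
theorem N90576 : nd 90576 = n193520 := ndS (p := 54395) (l := 7) rfl N54395 D193520
theorem N90577 : nd 90577 = n193521 := ndS (p := 54397) (l := 3) rfl N54397 D193521
theorem N90578 : nd 90578 = n193522 := ndS (p := 54397) (l := 4) rfl N54397 D193522
theorem N90579 : nd 90579 = n193523 := ndS (p := 54397) (l := 5) rfl N54397 D193523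
theorem N90580 : nd 90580 = n193524 := ndS (p := 54398) (l := 4) rfl N54398 D193524
theorem N90581 : nd 90581 = n193525 := ndS (p := 54405) (l := 3) rfl N54405 D193525
theorem N90582 : nd 90582 = n193526 := ndS (p := 54407) (l := 0) rfl N54407 D193526
theorem N90583 : nd 90583 = n193527 := ndS (p := 54407) (l := 1) rfl N54407 D193527
theorem N90584 : nd 90584 = n193528 := ndS (p := 54407) (l := 2) rfl N54407 D193528
theorem N90585 : nd 90585 = n193529 := ndS (p := 54407) (l := 5) rfl N54407 D193529
theorem N90586 : nd 90586 = n193530 := ndS (p := 54407) (l := 6) rfl N54407 D193530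
theorem N90587 : nd 90587 = n193531 := ndS (p := 54408) (l := 0) rfl N54408 D193531
theorem N90588 : nd 90588 = n193532 := ndS (p := 54408) (l := 6) rfl N54408 D193532
theorem N90589 : nd 90589 = n193534 := ndS (p := 54409) (l := 5) rfl N54409 D193534
theorem N90590 : nd 90590 = n193535 := ndS (p := 54409) (l := 7) rfl N54409 D193535
theorem N90591 : nd 90591 = n193536 := ndS (p := 54410) (l := 6) rfl N54410 D193536
theorem N90592 : nd 90592 = n193537 := ndS (p := 54411) (l := 6) rfl N54411 D193537
theorem N90593 : nd 90593 = n193538 := ndS (p := 54413) (l := 0) rfl N54413 D193538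
theorem N90594 : nd 90594 = n193539 := ndS (p := 54413) (l := 4) rfl N54413 D193539
theorem N90595 : nd 90595 = n193540 := ndS (p := 54413) (l := 6) rfl N54413 D193540
theorem N90596 : nd 90596 = n193541 := ndS (p := 54414) (l := 3) rfl N54414 D193541
theorem N90597 : nd 90597 = n193542 := ndS (p := 54414) (l := 4) rfl N54414 D193542
theorem N90598 : nd 90598 = n193543 := ndS (p := 54414) (l := 6) rfl N54414 D193543
theorem N90599 : nd 90599 = n193544 := ndS (p := 54418) (l := 6) rfl N54418 D193544
theorem N90600 : nd 90600 = n193545 := ndS (p := 54419) (l := 6) rfl N54419 D193545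
theorem N90601 : nd 90601 = n193546 := ndS (p := 54423) (l := 4) rfl N54423 D193546
theorem N90602 : nd 90602 = n193547 := ndS (p := 54424) (l := 3) rfl N54424 D193547
theorem N90603 : nd 90603 = n193548 := ndS (p := 54425) (l := 0) rfl N54425 D193548
theorem N90604 : nd 90604 = n193549 := ndS (p := 54425) (l := 1) rfl N54425 D193549
theorem N90605 : nd 90605 = n193550 := ndS (p := 54427) (l := 3) rfl N54427 D193550
theorem N90606 : nd 90606 = n193551 := ndS (p := 54428) (l := 4) rfl N54428 D193551
theorem N90607 : nd 90607 = n193552 := ndS (p := 54429) (l := 1) rfl N54429 D193552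
theorem N90608 : nd 90608 = n193553 := ndS (p := 54429) (l := 3) rfl N54429 D193553
theorem N90609 : nd 90609 = n193554 := ndS (p := 54429) (l := 5) rfl N54429 D193554
theorem N90610 : nd 90610 = n193555 := ndS (p := 54429) (l := 6) rfl N54429 D193555
theorem N90611 : nd 90611 = n193556 := ndS (p := 54430) (l := 0) rfl N54430 D193556
theorem N90612 : nd 90612 = n193557 := ndS (p := 54430) (l := 1) rfl N54430 D193557
theorem N90613 : nd 90613 = n193558 := ndS (p := 54431) (l := 0) rfl N54431 D193558
theorem N90614 : nd 90614 = n193559 := ndS (p := 54431) (l := 1) rfl N54431 D193559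
theorem N90615 : nd 90615 = n193560 := ndS (p := 54431) (l := 4) rfl N54431 D193560
theorem N90616 : nd 90616 = n193561 := ndS (p := 54431) (l := 6) rfl N54431 D193561
theorem N90617 : nd 90617 = n193562 := ndS (p := 54435) (l := 5) rfl N54435 D193562
theorem N90618 : nd 90618 = n193563 := ndS (p := 54438) (l := 0) rfl N54438 D193563
theorem N90619 : nd 90619 = n193564 := ndS (p := 54438) (l := 6) rfl N54438 D193564
theorem N90620 : nd 90620 = n193565 := ndS (p := 54439) (l := 1) rfl N54439 D193565
theorem N90621 : nd 90621 = n193566 := ndS (p := 54440) (l := 4) rfl N54440 D193566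
theorem N90622 : nd 90622 = n193567 := ndS (p := 54440) (l := 6) rfl N54440 D193567
theorem N90623 : nd 90623 = n193568 := ndS (p := 54441) (l := 3) rfl N54441 D193568
theorem N90624 : nd 90624 = n193569 := ndS (p := 54441) (l := 5) rfl N54441 D193569
theorem N90625 : nd 90625 = n193570 := ndS (p := 54442) (l := 1) rfl N54442 D193570
theorem N90626 : nd 90626 = n193571 := ndS (p := 54442) (l := 7) rfl N54442 D193571
theorem N90627 : nd 90627 = n193572 := ndS (p := 54443) (l := 3) rfl N54443 D193572
theorem N90628 : nd 90628 = n193574 := ndS (p := 54444) (l := 5) rfl N54444 D193574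
theorem N90629 : nd 90629 = n193575 := ndS (p := 54444) (l := 6) rfl N54444 D193575
theorem N90630 : nd 90630 = n193577 := ndS (p := 54445) (l := 1) rfl N54445 D193577
theorem N90631 : nd 90631 = n193578 := ndS (p := 54445) (l := 2) rfl N54445 D193578
theorem N90632 : nd 90632 = n193579 := ndS (p := 54445) (l := 5) rfl N54445 D193579
theorem N90633 : nd 90633 = n193580 := ndS (p := 54446) (l := 0) rfl N54446 D193580
theorem N90634 : nd 90634 = n193581 := ndS (p := 54446) (l := 1) rfl N54446 D193581
theorem N90635 : nd 90635 = n193582 := ndS (p := 54446) (l := 6) rfl N54446 D193582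
theorem N90636 : nd 90636 = n193583 := ndS (p := 54453) (l := 4) rfl N54453 D193583
theorem N90637 : nd 90637 = n193584 := ndS (p := 54453) (l := 5) rfl N54453 D193584
theorem N90638 : nd 90638 = n193585 := ndS (p := 54455) (l := 0) rfl N54455 D193585
theorem N90639 : nd 90639 = n193586 := ndS (p := 54455) (l := 2) rfl N54455 D193586
theorem N90640 : nd 90640 = n193587 := ndS (p := 54455) (l := 6) rfl N54455 D193587
theorem N90641 : nd 90641 = n193588 := ndS (p := 54456) (l := 5) rfl N54456 D193588
theorem N90642 : nd 90642 = n193589 := ndS (p := 54457) (l := 4) rfl N54457 D193589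
theorem N90643 : nd 90643 = n193590 := ndS (p := 54458) (l := 0) rfl N54458 D193590
theorem N90644 : nd 90644 = n193591 := ndS (p := 54458) (l := 5) rfl N54458 D193591
theorem N90645 : nd 90645 = n193592 := ndS (p := 54460) (l := 5) rfl N54460 D193592
theorem N90646 : nd 90646 = n193593 := ndS (p := 54461) (l := 3) rfl N54461 D193593
theorem N90647 : nd 90647 = n193594 := ndS (p := 54461) (l := 6) rfl N54461 D193594
theorem N90648 : nd 90648 = n193595 := ndS (p := 54462) (l := 1) rfl N54462 D193595
theorem N90649 : nd 90649 = n193596 := ndS (p := 54463) (l := 3) rfl N54463 D193596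
theorem N90650 : nd 90650 = n193597 := ndS (p := 54466) (l := 6) rfl N54466 D193597
theorem N90651 : nd 90651 = n193598 := ndS (p := 54467) (l := 0) rfl N54467 D193598
theorem N90652 : nd 90652 = n193599 := ndS (p := 54467) (l := 1) rfl N54467 D193599
theorem N90653 : nd 90653 = n193600 := ndS (p := 54467) (l := 5) rfl N54467 D193600
theorem N90654 : nd 90654 = n193601 := ndS (p := 54467) (l := 7) rfl N54467 D193601
theorem N90655 : nd 90655 = n193602 := ndS (p := 54468) (l := 4) rfl N54468 D193602
theorem N90656 : nd 90656 = n193603 := ndS (p := 54468) (l := 5) rfl N54468 D193603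
theorem N90657 : nd 90657 = n193604 := ndS (p := 54469) (l := 4) rfl N54469 D193604
theorem N90658 : nd 90658 = n193605 := ndS (p := 54471) (l := 1) rfl N54471 D193605
theorem N90659 : nd 90659 = n193606 := ndS (p := 54471) (l := 2) rfl N54471 D193606
theorem N90660 : nd 90660 = n193607 := ndS (p := 54471) (l := 5) rfl N54471 D193607
theorem N90661 : nd 90661 = n193608 := ndS (p := 54471) (l := 6) rfl N54471 D193608
theorem N90662 : nd 90662 = n193609 := ndS (p := 54473) (l := 0) rfl N54473 D193609
theorem N90663 : nd 90663 = n193610 := ndS (p := 54473) (l := 1) rfl N54473 D193610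
theorem N90664 : nd 90664 = n193611 := ndS (p := 54473) (l := 5) rfl N54473 D193611
theorem N90665 : nd 90665 = n193612 := ndS (p := 54474) (l := 0) rfl N54474 D193612
theorem N90666 : nd 90666 = n193614 := ndS (p := 54474) (l := 2) rfl N54474 D193614
theorem N90667 : nd 90667 = n193615 := ndS (p := 54474) (l := 4) rfl N54474 D193615
theorem N90668 : nd 90668 = n193616 := ndS (p := 54474) (l := 6) rfl N54474 D193616
theorem N90669 : nd 90669 = n193617 := ndS (p := 54475) (l := 5) rfl N54475 D193617
theorem N90670 : nd 90670 = n193618 := ndS (p := 54475) (l := 7) rfl N54475 D193618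
theorem N90671 : nd 90671 = n193619 := ndS (p := 54476) (l := 4) rfl N54476 D193619
theorem N90672 : nd 90672 = n193620 := ndS (p := 54476) (l := 6) rfl N54476 D193620
theorem N90673 : nd 90673 = n193621 := ndS (p := 54477) (l := 5) rfl N54477 D193621
theorem N90674 : nd 90674 = n193623 := ndS (p := 54478) (l := 3) rfl N54478 D193623
theorem N90675 : nd 90675 = n193624 := ndS (p := 54478) (l := 4) rfl N54478 D193624
theorem N90676 : nd 90676 = n193625 := ndS (p := 54478) (l := 6) rfl N54478 D193625
theorem N90677 : nd 90677 = n193626 := ndS (p := 54479) (l := 4) rfl N54479 D193626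
theorem N90678 : nd 90678 = n193627 := ndS (p := 54479) (l := 6) rfl N54479 D193627
theorem N90679 : nd 90679 = n193628 := ndS (p := 54480) (l := 6) rfl N54480 D193628
theorem N90680 : nd 90680 = n193629 := ndS (p := 54481) (l := 0) rfl N54481 D193629
theorem N90681 : nd 90681 = n193630 := ndS (p := 54481) (l := 7) rfl N54481 D193630
theorem N90682 : nd 90682 = n193631 := ndS (p := 54485) (l := 6) rfl N54485 D193631
theorem N90683 : nd 90683 = n193632 := ndS (p := 54486) (l := 6) rfl N54486 D193632
theorem N90684 : nd 90684 = n193633 := ndS (p := 54488) (l := 5) rfl N54488 D193633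
theorem N90685 : nd 90685 = n193634 := ndS (p := 54489) (l := 6) rfl N54489 D193634
theorem N90686 : nd 90686 = n193635 := ndS (p := 54490) (l := 4) rfl N54490 D193635
theorem N90687 : nd 90687 = n193636 := ndS (p := 54491) (l := 3) rfl N54491 D193636
theorem N90688 : nd 90688 = n193637 := ndS (p := 54495) (l := 6) rfl N54495 D193637
theorem N90689 : nd 90689 = n193638 := ndS (p := 54499) (l := 6) rfl N54499 D193638
theorem N90690 : nd 90690 = n193639 := ndS (p := 54500) (l := 3) rfl N54500 D193639
theorem N90691 : nd 90691 = n193640 := ndS (p := 54501) (l := 3) rfl N54501 D193640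
theorem N90692 : nd 90692 = n193641 := ndS (p := 54501) (l := 6) rfl N54501 D193641
theorem N90693 : nd 90693 = n193642 := ndS (p := 54502) (l := 0) rfl N54502 D193642
theorem N90694 : nd 90694 = n193643 := ndS (p := 54502) (l := 1) rfl N54502 D193643
theorem N90695 : nd 90695 = n193644 := ndS (p := 54502) (l := 7) rfl N54502 D193644
theorem N90696 : nd 90696 = n193645 := ndS (p := 54504) (l := 1) rfl N54504 D193645
theorem N90697 : nd 90697 = n193646 := ndS (p := 54504) (l := 2) rfl N54504 D193646
theorem N90698 : nd 90698 = n193647 := ndS (p := 54506) (l := 3) rfl N54506 D193647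
theorem N90699 : nd 90699 = n193648 := ndS (p := 54506) (l := 6) rfl N54506 D193648
theorem N90700 : nd 90700 = n193649 := ndS (p := 54507) (l := 3) rfl N54507 D193649
theorem N90701 : nd 90701 = n193650 := ndS (p := 54508) (l := 1) rfl N54508 D193650
theorem N90702 : nd 90702 = n193651 := ndS (p := 54508) (l := 7) rfl N54508 D193651
theorem N90703 : nd 90703 = n193652 := ndS (p := 54510) (l := 0) rfl N54510 D193652
theorem N90704 : nd 90704 = n193653 := ndS (p := 54510) (l := 1) rfl N54510 D193653
theorem N90705 : nd 90705 = n193654 := ndS (p := 54510) (l := 4) rfl N54510 D193654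
theorem N90706 : nd 90706 = n193655 := ndS (p := 54511) (l := 4) rfl N54511 D193655
theorem N90707 : nd 90707 = n193656 := ndS (p := 54513) (l := 4) rfl N54513 D193656
theorem N90708 : nd 90708 = n193657 := ndS (p := 54514) (l := 3) rfl N54514 D193657
theorem N90709 : nd 90709 = n193658 := ndS (p := 54514) (l := 4) rfl N54514 D193658
theorem N90710 : nd 90710 = n193659 := ndS (p := 54514) (l := 6) rfl N54514 D193659
theorem N90711 : nd 90711 = n193660 := ndS (p := 54519) (l := 4) rfl N54519 D193660
theorem N90712 : nd 90712 = n193661 := ndS (p := 54519) (l := 6) rfl N54519 D193661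
theorem N90713 : nd 90713 = n193662 := ndS (p := 54520) (l := 3) rfl N54520 D193662
theorem N90714 : nd 90714 = n193663 := ndS (p := 54520) (l := 6) rfl N54520 D193663
theorem N90715 : nd 90715 = n193664 := ndS (p := 54524) (l := 0) rfl N54524 D193664
theorem N90716 : nd 90716 = n193665 := ndS (p := 54524) (l := 1) rfl N54524 D193665
theorem N90717 : nd 90717 = n193666 := ndS (p := 54524) (l := 7) rfl N54524 D193666
theorem N90718 : nd 90718 = n193667 := ndS (p := 54527) (l := 5) rfl N54527 D193667
theorem N90719 : nd 90719 = n193668 := ndS (p := 54530) (l := 3) rfl N54530 D193668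
theorem N90720 : nd 90720 = n193669 := ndS (p := 54530) (l := 5) rfl N54530 D193669
theorem N90721 : nd 90721 = n193670 := ndS (p := 54531) (l := 0) rfl N54531 D193670
theorem N90722 : nd 90722 = n193671 := ndS (p := 54531) (l := 1) rfl N54531 D193671
theorem N90723 : nd 90723 = n193672 := ndS (p := 54531) (l := 4) rfl N54531 D193672
theorem N90724 : nd 90724 = n193673 := ndS (p := 54532) (l := 3) rfl N54532 D193673
theorem N90725 : nd 90725 = n193674 := ndS (p := 54532) (l := 4) rfl N54532 D193674
theorem N90726 : nd 90726 = n193675 := ndS (p := 54533) (l := 3) rfl N54533 D193675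
theorem N90727 : nd 90727 = n193676 := ndS (p := 54533) (l := 4) rfl N54533 D193676
theorem N90728 : nd 90728 = n193677 := ndS (p := 54534) (l := 7) rfl N54534 D193677
theorem N90729 : nd 90729 = n193678 := ndS (p := 54536) (l := 3) rfl N54536 D193678
theorem N90730 : nd 90730 = n193681 := ndS (p := 54538) (l := 4) rfl N54538 D193681
theorem N90731 : nd 90731 = n193682 := ndS (p := 54538) (l := 5) rfl N54538 D193682
theorem N90732 : nd 90732 = n193683 := ndS (p := 54541) (l := 6) rfl N54541 D193683
theorem N90733 : nd 90733 = n193684 := ndS (p := 54542) (l := 3) rfl N54542 D193684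
theorem N90734 : nd 90734 = n193685 := ndS (p := 54542) (l := 4) rfl N54542 D193685
theorem N90735 : nd 90735 = n193686 := ndS (p := 54542) (l := 6) rfl N54542 D193686
theorem N90736 : nd 90736 = n193687 := ndS (p := 54543) (l := 7) rfl N54543 D193687
theorem N90737 : nd 90737 = n193689 := ndS (p := 54546) (l := 4) rfl N54546 D193689
theorem N90738 : nd 90738 = n193690 := ndS (p := 54546) (l := 6) rfl N54546 D193690
theorem N90739 : nd 90739 = n193691 := ndS (p := 54547) (l := 0) rfl N54547 D193691
theorem N90740 : nd 90740 = n193692 := ndS (p := 54547) (l := 6) rfl N54547 D193692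
theorem N90741 : nd 90741 = n193693 := ndS (p := 54548) (l := 0) rfl N54548 D193693
theorem N90742 : nd 90742 = n193694 := ndS (p := 54548) (l := 1) rfl N54548 D193694
theorem N90743 : nd 90743 = n193695 := ndS (p := 54548) (l := 5) rfl N54548 D193695
theorem N90744 : nd 90744 = n193696 := ndS (p := 54548) (l := 7) rfl N54548 D193696
theorem N90745 : nd 90745 = n193697 := ndS (p := 54549) (l := 0) rfl N54549 D193697
theorem N90746 : nd 90746 = n193698 := ndS (p := 54549) (l := 1) rfl N54549 D193698
theorem N90747 : nd 90747 = n193699 := ndS (p := 54549) (l := 7) rfl N54549 D193699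
theorem N90748 : nd 90748 = n193700 := ndS (p := 54552) (l := 4) rfl N54552 D193700
theorem N90749 : nd 90749 = n193701 := ndS (p := 54552) (l := 6) rfl N54552 D193701
theorem N90750 : nd 90750 = n193702 := ndS (p := 54553) (l := 0) rfl N54553 D193702
theorem N90751 : nd 90751 = n193703 := ndS (p := 54553) (l := 5) rfl N54553 D193703
theorem N90752 : nd 90752 = n193704 := ndS (p := 54553) (l := 6) rfl N54553 D193704
theorem N90753 : nd 90753 = n193705 := ndS (p := 54554) (l := 1) rfl N54554 D193705
theorem N90754 : nd 90754 = n193706 := ndS (p := 54554) (l := 5) rfl N54554 D193706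
theorem N90755 : nd 90755 = n193707 := ndS (p := 54554) (l := 7) rfl N54554 D193707
theorem N90756 : nd 90756 = n193708 := ndS (p := 54555) (l := 0) rfl N54555 D193708
theorem N90757 : nd 90757 = n193709 := ndS (p := 54555) (l := 4) rfl N54555 D193709
theorem N90758 : nd 90758 = n193710 := ndS (p := 54555) (l := 7) rfl N54555 D193710
theorem N90759 : nd 90759 = n193711 := ndS (p := 54558) (l := 4) rfl N54558 D193711
theorem N90760 : nd 90760 = n193712 := ndS (p := 54558) (l := 6) rfl N54558 D193712
theorem N90761 : nd 90761 = n193713 := ndS (p := 54559) (l := 4) rfl N54559 D193713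
theorem N90762 : nd 90762 = n193714 := ndS (p := 54559) (l := 7) rfl N54559 D193714
theorem N90763 : nd 90763 = n193715 := ndS (p := 54560) (l := 0) rfl N54560 D193715
theorem N90764 : nd 90764 = n193716 := ndS (p := 54560) (l := 1) rfl N54560 D193716
theorem N90765 : nd 90765 = n193717 := ndS (p := 54560) (l := 3) rfl N54560 D193717
theorem N90766 : nd 90766 = n193718 := ndS (p := 54560) (l := 5) rfl N54560 D193718
theorem N90767 : nd 90767 = n193719 := ndS (p := 54560) (l := 7) rfl N54560 D193719
theorem N90768 : nd 90768 = n193720 := ndS (p := 54561) (l := 4) rfl N54561 D193720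
theorem N90769 : nd 90769 = n193721 := ndS (p := 54561) (l := 7) rfl N54561 D193721
theorem N90770 : nd 90770 = n193723 := ndS (p := 54562) (l := 7) rfl N54562 D193723
theorem N90771 : nd 90771 = n193724 := ndS (p := 54563) (l := 6) rfl N54563 D193724
theorem N90772 : nd 90772 = n193725 := ndS (p := 54564) (l := 4) rfl N54564 D193725
theorem N90773 : nd 90773 = n193726 := ndS (p := 54565) (l := 3) rfl N54565 D193726
theorem N90774 : nd 90774 = n193727 := ndS (p := 54565) (l := 5) rfl N54565 D193727
theorem N90775 : nd 90775 = n193728 := ndS (p := 54565) (l := 6) rfl N54565 D193728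
theorem N90776 : nd 90776 = n193729 := ndS (p := 54566) (l := 4) rfl N54566 D193729
theorem N90777 : nd 90777 = n193731 := ndS (p := 54567) (l := 1) rfl N54567 D193731
theorem N90778 : nd 90778 = n193732 := ndS (p := 54567) (l := 7) rfl N54567 D193732
theorem N90779 : nd 90779 = n193733 := ndS (p := 54571) (l := 5) rfl N54571 D193733
theorem N90780 : nd 90780 = n193734 := ndS (p := 54571) (l := 6) rfl N54571 D193734
theorem N90781 : nd 90781 = n193735 := ndS (p := 54573) (l := 0) rfl N54573 D193735
theorem N90782 : nd 90782 = n193736 := ndS (p := 54574) (l := 6) rfl N54574 D193736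
theorem N90783 : nd 90783 = n193737 := ndS (p := 54576) (l := 5) rfl N54576 D193737
theorem N90784 : nd 90784 = n193738 := ndS (p := 54576) (l := 6) rfl N54576 D193738
theorem N90785 : nd 90785 = n193739 := ndS (p := 54577) (l := 3) rfl N54577 D193739
theorem N90786 : nd 90786 = n193740 := ndS (p := 54577) (l := 5) rfl N54577 D193740
theorem N90787 : nd 90787 = n193741 := ndS (p := 54577) (l := 6) rfl N54577 D193741
theorem N90788 : nd 90788 = n193742 := ndS (p := 54578) (l := 5) rfl N54578 D193742
theorem N90789 : nd 90789 = n193743 := ndS (p := 54579) (l := 6) rfl N54579 D193743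
theorem N90790 : nd 90790 = n193744 := ndS (p := 54580) (l := 0) rfl N54580 D193744
theorem N90791 : nd 90791 = n193745 := ndS (p := 54580) (l := 1) rfl N54580 D193745
theorem N90792 : nd 90792 = n193746 := ndS (p := 54583) (l := 4) rfl N54583 D193746
theorem N90793 : nd 90793 = n193747 := ndS (p := 54583) (l := 6) rfl N54583 D193747
theorem N90794 : nd 90794 = n193748 := ndS (p := 54584) (l := 3) rfl N54584 D193748
theorem N90795 : nd 90795 = n193749 := ndS (p := 54584) (l := 4) rfl N54584 D193749
theorem N90796 : nd 90796 = n193750 := ndS (p := 54584) (l := 6) rfl N54584 D193750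
theorem N90797 : nd 90797 = n193751 := ndS (p := 54585) (l := 4) rfl N54585 D193751
theorem N90798 : nd 90798 = n193752 := ndS (p := 54585) (l := 6) rfl N54585 D193752
theorem N90799 : nd 90799 = n193753 := ndS (p := 54586) (l := 0) rfl N54586 D193753
theorem N90800 : nd 90800 = n193754 := ndS (p := 54586) (l := 1) rfl N54586 D193754
theorem N90801 : nd 90801 = n193755 := ndS (p := 54586) (l := 3) rfl N54586 D193755
theorem N90802 : nd 90802 = n193756 := ndS (p := 54586) (l := 5) rfl N54586 D193756
theorem N90803 : nd 90803 = n193757 := ndS (p := 54587) (l := 0) rfl N54587 D193757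
theorem N90804 : nd 90804 = n193758 := ndS (p := 54587) (l := 1) rfl N54587 D193758
theorem N90805 : nd 90805 = n193759 := ndS (p := 54587) (l := 2) rfl N54587 D193759
theorem N90806 : nd 90806 = n193760 := ndS (p := 54589) (l := 3) rfl N54589 D193760
theorem N90807 : nd 90807 = n193761 := ndS (p := 54589) (l := 4) rfl N54589 D193761
theorem N90808 : nd 90808 = n193762 := ndS (p := 54589) (l := 6) rfl N54589 D193762
theorem N90809 : nd 90809 = n193763 := ndS (p := 54590) (l := 5) rfl N54590 D193763
theorem N90810 : nd 90810 = n193764 := ndS (p := 54591) (l := 1) rfl N54591 D193764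
theorem N90811 : nd 90811 = n193765 := ndS (p := 54591) (l := 5) rfl N54591 D193765
theorem N90812 : nd 90812 = n193766 := ndS (p := 54591) (l := 7) rfl N54591 D193766
theorem N90813 : nd 90813 = n193767 := ndS (p := 54592) (l := 1) rfl N54592 D193767
theorem N90814 : nd 90814 = n193768 := ndS (p := 54595) (l := 7) rfl N54595 D193768
theorem N90815 : nd 90815 = n193769 := ndS (p := 54596) (l := 3) rfl N54596 D193769
theorem N90816 : nd 90816 = n193770 := ndS (p := 54597) (l := 3) rfl N54597 D193770
theorem N90817 : nd 90817 = n193771 := ndS (p := 54597) (l := 6) rfl N54597 D193771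
theorem N90818 : nd 90818 = n193772 := ndS (p := 54598) (l := 3) rfl N54598 D193772
theorem N90819 : nd 90819 = n193773 := ndS (p := 54598) (l := 4) rfl N54598 D193773
theorem N90820 : nd 90820 = n193774 := ndS (p := 54598) (l := 5) rfl N54598 D193774
theorem N90821 : nd 90821 = n193775 := ndS (p := 54599) (l := 4) rfl N54599 D193775
theorem N90822 : nd 90822 = n193776 := ndS (p := 54600) (l := 0) rfl N54600 D193776
theorem N90823 : nd 90823 = n193777 := ndS (p := 54600) (l := 1) rfl N54600 D193777
theorem N90824 : nd 90824 = n193778 := ndS (p := 54600) (l := 7) rfl N54600 D193778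
theorem N90825 : nd 90825 = n193779 := ndS (p := 54602) (l := 3) rfl N54602 D193779
theorem N90826 : nd 90826 = n193780 := ndS (p := 54603) (l := 6) rfl N54603 D193780
theorem N90827 : nd 90827 = n193781 := ndS (p := 54604) (l := 3) rfl N54604 D193781
theorem N90828 : nd 90828 = n193782 := ndS (p := 54604) (l := 6) rfl N54604 D193782
theorem N90829 : nd 90829 = n193783 := ndS (p := 54605) (l := 0) rfl N54605 D193783
theorem N90830 : nd 90830 = n193784 := ndS (p := 54605) (l := 1) rfl N54605 D193784
theorem N90831 : nd 90831 = n193785 := ndS (p := 54605) (l := 7) rfl N54605 D193785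
theorem N90832 : nd 90832 = n193786 := ndS (p := 54606) (l := 6) rfl N54606 D193786
theorem N90833 : nd 90833 = n193787 := ndS (p := 54607) (l := 1) rfl N54607 D193787
theorem N90834 : nd 90834 = n193788 := ndS (p := 54607) (l := 5) rfl N54607 D193788
theorem N90835 : nd 90835 = n193789 := ndS (p := 54607) (l := 7) rfl N54607 D193789
theorem N90836 : nd 90836 = n193790 := ndS (p := 54608) (l := 4) rfl N54608 D193790
theorem N90837 : nd 90837 = n193791 := ndS (p := 54609) (l := 3) rfl N54609 D193791
theorem N90838 : nd 90838 = n193792 := ndS (p := 54609) (l := 4) rfl N54609 D193792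
theorem N90839 : nd 90839 = n193793 := ndS (p := 54612) (l := 0) rfl N54612 D193793
theorem N90840 : nd 90840 = n193794 := ndS (p := 54612) (l := 1) rfl N54612 D193794
theorem N90841 : nd 90841 = n193795 := ndS (p := 54613) (l := 6) rfl N54613 D193795
theorem N90842 : nd 90842 = n193796 := ndS (p := 54614) (l := 3) rfl N54614 D193796
theorem N90843 : nd 90843 = n193797 := ndS (p := 54614) (l := 5) rfl N54614 D193797
theorem N90844 : nd 90844 = n193798 := ndS (p := 54615) (l := 5) rfl N54615 D193798
theorem N90845 : nd 90845 = n193799 := ndS (p := 54615) (l := 6) rfl N54615 D193799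
theorem N90846 : nd 90846 = n193800 := ndS (p := 54616) (l := 1) rfl N54616 D193800
theorem N90847 : nd 90847 = n193801 := ndS (p := 54616) (l := 7) rfl N54616 D193801
theorem N90848 : nd 90848 = n193802 := ndS (p := 54617) (l := 6) rfl N54617 D193802
theorem N90849 : nd 90849 = n193803 := ndS (p := 54620) (l := 4) rfl N54620 D193803
theorem N90850 : nd 90850 = n193804 := ndS (p := 54623) (l := 0) rfl N54623 D193804
theorem N90851 : nd 90851 = n193805 := ndS (p := 54623) (l := 1) rfl N54623 D193805
theorem N90852 : nd 90852 = n193806 := ndS (p := 54623) (l := 2) rfl N54623 D193806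
theorem N90853 : nd 90853 = n193807 := ndS (p := 54623) (l := 4) rfl N54623 D193807
theorem N90854 : nd 90854 = n193808 := ndS (p := 54625) (l := 0) rfl N54625 D193808
theorem N90855 : nd 90855 = n193809 := ndS (p := 54625) (l := 1) rfl N54625 D193809
theorem N90856 : nd 90856 = n193810 := ndS (p := 54625) (l := 2) rfl N54625 D193810
theorem N90857 : nd 90857 = n193811 := ndS (p := 54625) (l := 5) rfl N54625 D193811
theorem N90858 : nd 90858 = n193812 := ndS (p := 54625) (l := 6) rfl N54625 D193812
theorem N90859 : nd 90859 = n193813 := ndS (p := 54626) (l := 6) rfl N54626 D193813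
theorem N90860 : nd 90860 = n193814 := ndS (p := 54627) (l := 5) rfl N54627 D193814
theorem N90861 : nd 90861 = n193815 := ndS (p := 54627) (l := 7) rfl N54627 D193815
theorem N90862 : nd 90862 = n193816 := ndS (p := 54628) (l := 3) rfl N54628 D193816
theorem N90863 : nd 90863 = n193817 := ndS (p := 54628) (l := 4) rfl N54628 D193817
theorem N90864 : nd 90864 = n193818 := ndS (p := 54629) (l := 3) rfl N54629 D193818
theorem N90865 : nd 90865 = n193819 := ndS (p := 54629) (l := 4) rfl N54629 D193819
theorem N90866 : nd 90866 = n193820 := ndS (p := 54630) (l := 5) rfl N54630 D193820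
theorem N90867 : nd 90867 = n193821 := ndS (p := 54631) (l := 1) rfl N54631 D193821
theorem N90868 : nd 90868 = n193822 := ndS (p := 54631) (l := 6) rfl N54631 D193822
theorem N90869 : nd 90869 = n193823 := ndS (p := 54632) (l := 0) rfl N54632 D193823
theorem N90870 : nd 90870 = n193824 := ndS (p := 54632) (l := 1) rfl N54632 D193824
theorem N90871 : nd 90871 = n193825 := ndS (p := 54632) (l := 7) rfl N54632 D193825
theorem N90872 : nd 90872 = n193826 := ndS (p := 54633) (l := 5) rfl N54633 D193826
theorem N90873 : nd 90873 = n193827 := ndS (p := 54634) (l := 4) rfl N54634 D193827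
theorem N90874 : nd 90874 = n193828 := ndS (p := 54634) (l := 6) rfl N54634 D193828
theorem N90875 : nd 90875 = n193829 := ndS (p := 54635) (l := 4) rfl N54635 D193829
theorem N90876 : nd 90876 = n193830 := ndS (p := 54637) (l := 3) rfl N54637 D193830
theorem N90877 : nd 90877 = n193831 := ndS (p := 54637) (l := 4) rfl N54637 D193831
theorem N90878 : nd 90878 = n193832 := ndS (p := 54637) (l := 6) rfl N54637 D193832
theorem N90879 : nd 90879 = n193833 := ndS (p := 54638) (l := 4) rfl N54638 D193833
theorem N90880 : nd 90880 = n193834 := ndS (p := 54638) (l := 6) rfl N54638 D193834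
theorem N90881 : nd 90881 = n193835 := ndS (p := 54639) (l := 1) rfl N54639 D193835
theorem N90882 : nd 90882 = n193836 := ndS (p := 54639) (l := 5) rfl N54639 D193836
theorem N90883 : nd 90883 = n193837 := ndS (p := 54642) (l := 4) rfl N54642 D193837
theorem N90884 : nd 90884 = n193838 := ndS (p := 54642) (l := 6) rfl N54642 D193838
theorem N90885 : nd 90885 = n193839 := ndS (p := 54643) (l := 3) rfl N54643 D193839
theorem N90886 : nd 90886 = n193840 := ndS (p := 54643) (l := 6) rfl N54643 D193840
theorem N90887 : nd 90887 = n193841 := ndS (p := 54644) (l := 1) rfl N54644 D193841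
theorem N90888 : nd 90888 = n193842 := ndS (p := 54644) (l := 7) rfl N54644 D193842
theorem N90889 : nd 90889 = n193843 := ndS (p := 54645) (l := 3) rfl N54645 D193843
theorem N90890 : nd 90890 = n193844 := ndS (p := 54647) (l := 4) rfl N54647 D193844
theorem N90891 : nd 90891 = n193845 := ndS (p := 54647) (l := 6) rfl N54647 D193845
theorem N90892 : nd 90892 = n193846 := ndS (p := 54648) (l := 3) rfl N54648 D193846
theorem N90893 : nd 90893 = n193847 := ndS (p := 54648) (l := 6) rfl N54648 D193847
theorem N90894 : nd 90894 = n193848 := ndS (p := 54649) (l := 0) rfl N54649 D193848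
theorem N90895 : nd 90895 = n193849 := ndS (p := 54649) (l := 1) rfl N54649 D193849
theorem N90896 : nd 90896 = n193850 := ndS (p := 54651) (l := 4) rfl N54651 D193850
theorem N90897 : nd 90897 = n193851 := ndS (p := 54651) (l := 6) rfl N54651 D193851
theorem N90898 : nd 90898 = n193852 := ndS (p := 54652) (l := 4) rfl N54652 D193852
theorem N90899 : nd 90899 = n193853 := ndS (p := 54652) (l := 6) rfl N54652 D193853
theorem N90900 : nd 90900 = n193854 := ndS (p := 54653) (l := 6) rfl N54653 D193854
theorem N90901 : nd 90901 = n193855 := ndS (p := 54654) (l := 4) rfl N54654 D193855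
theorem N90902 : nd 90902 = n193856 := ndS (p := 54654) (l := 6) rfl N54654 D193856
theorem N90903 : nd 90903 = n193857 := ndS (p := 54655) (l := 0) rfl N54655 D193857
theorem N90904 : nd 90904 = n193858 := ndS (p := 54655) (l := 5) rfl N54655 D193858
theorem N90905 : nd 90905 = n193859 := ndS (p := 54656) (l := 1) rfl N54656 D193859
theorem N90906 : nd 90906 = n193860 := ndS (p := 54656) (l := 7) rfl N54656 D193860
theorem N90907 : nd 90907 = n193861 := ndS (p := 54657) (l := 5) rfl N54657 D193861
theorem N90908 : nd 90908 = n193862 := ndS (p := 54657) (l := 6) rfl N54657 D193862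
theorem N90909 : nd 90909 = n193863 := ndS (p := 54658) (l := 5) rfl N54658 D193863
theorem N90910 : nd 90910 = n193864 := ndS (p := 54660) (l := 5) rfl N54660 D193864
theorem N90911 : nd 90911 = n193865 := ndS (p := 54661) (l := 4) rfl N54661 D193865
theorem N90912 : nd 90912 = n193866 := ndS (p := 54661) (l := 6) rfl N54661 D193866
theorem N90913 : nd 90913 = n193867 := ndS (p := 54662) (l := 5) rfl N54662 D193867
theorem N90914 : nd 90914 = n193868 := ndS (p := 54663) (l := 3) rfl N54663 D193868
theorem N90915 : nd 90915 = n193869 := ndS (p := 54663) (l := 5) rfl N54663 D193869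
theorem N90916 : nd 90916 = n193870 := ndS (p := 54663) (l := 6) rfl N54663 D193870
theorem N90917 : nd 90917 = n193871 := ndS (p := 54664) (l := 0) rfl N54664 D193871
theorem N90918 : nd 90918 = n193872 := ndS (p := 54666) (l := 1) rfl N54666 D193872
theorem N90919 : nd 90919 = n193873 := ndS (p := 54666) (l := 5) rfl N54666 D193873
theorem N90920 : nd 90920 = n193874 := ndS (p := 54667) (l := 0) rfl N54667 D193874
theorem N90921 : nd 90921 = n193875 := ndS (p := 54667) (l := 1) rfl N54667 D193875
theorem N90922 : nd 90922 = n193876 := ndS (p := 54667) (l := 7) rfl N54667 D193876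
theorem N90923 : nd 90923 = n193877 := ndS (p := 54668) (l := 5) rfl N54668 D193877
theorem N90924 : nd 90924 = n193878 := ndS (p := 54668) (l := 6) rfl N54668 D193878
theorem N90925 : nd 90925 = n193879 := ndS (p := 54669) (l := 5) rfl N54669 D193879
theorem N90926 : nd 90926 = n193880 := ndS (p := 54669) (l := 6) rfl N54669 D193880
theorem N90927 : nd 90927 = n193881 := ndS (p := 54671) (l := 7) rfl N54671 D193881
theorem N90928 : nd 90928 = n193882 := ndS (p := 54672) (l := 3) rfl N54672 D193882
theorem N90929 : nd 90929 = n193883 := ndS (p := 54672) (l := 5) rfl N54672 D193883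
theorem N90930 : nd 90930 = n193884 := ndS (p := 54672) (l := 6) rfl N54672 D193884
theorem N90931 : nd 90931 = n193885 := ndS (p := 54673) (l := 5) rfl N54673 D193885
theorem N90932 : nd 90932 = n193886 := ndS (p := 54673) (l := 6) rfl N54673 D193886
theorem N90933 : nd 90933 = n193887 := ndS (p := 54674) (l := 0) rfl N54674 D193887
theorem N90934 : nd 90934 = n193888 := ndS (p := 54674) (l := 1) rfl N54674 D193888
theorem N90935 : nd 90935 = n193889 := ndS (p := 54674) (l := 2) rfl N54674 D193889
theorem N90936 : nd 90936 = n193890 := ndS (p := 54675) (l := 0) rfl N54675 D193890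
theorem N90937 : nd 90937 = n193891 := ndS (p := 54675) (l := 1) rfl N54675 D193891
theorem N90938 : nd 90938 = n193892 := ndS (p := 54675) (l := 4) rfl N54675 D193892
theorem N90939 : nd 90939 = n193893 := ndS (p := 54675) (l := 6) rfl N54675 D193893
theorem N90940 : nd 90940 = n193894 := ndS (p := 54676) (l := 0) rfl N54676 D193894
theorem N90941 : nd 90941 = n193895 := ndS (p := 54676) (l := 7) rfl N54676 D193895
theorem N90942 : nd 90942 = n193896 := ndS (p := 54677) (l := 4) rfl N54677 D193896
theorem N90943 : nd 90943 = n193897 := ndS (p := 54677) (l := 6) rfl N54677 D193897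
theorem N90944 : nd 90944 = n193898 := ndS (p := 54678) (l := 4) rfl N54678 D193898
theorem N90945 : nd 90945 = n193899 := ndS (p := 54679) (l := 1) rfl N54679 D193899
theorem N90946 : nd 90946 = n193900 := ndS (p := 54682) (l := 2) rfl N54682 D193900
theorem N90947 : nd 90947 = n193901 := ndS (p := 54684) (l := 3) rfl N54684 D193901
theorem N90948 : nd 90948 = n193902 := ndS (p := 54684) (l := 5) rfl N54684 D193902
theorem N90949 : nd 90949 = n193903 := ndS (p := 54685) (l := 4) rfl N54685 D193903
theorem N90950 : nd 90950 = n193904 := ndS (p := 54685) (l := 6) rfl N54685 D193904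
theorem N90951 : nd 90951 = n193905 := ndS (p := 54686) (l := 0) rfl N54686 D193905
theorem N90952 : nd 90952 = n193906 := ndS (p := 54686) (l := 5) rfl N54686 D193906
theorem N90953 : nd 90953 = n193907 := ndS (p := 54686) (l := 6) rfl N54686 D193907
theorem N90954 : nd 90954 = n193908 := ndS (p := 54687) (l := 0) rfl N54687 D193908
theorem N90955 : nd 90955 = n193909 := ndS (p := 54687) (l := 1) rfl N54687 D193909
theorem N90956 : nd 90956 = n193910 := ndS (p := 54687) (l := 7) rfl N54687 D193910
theorem N90957 : nd 90957 = n193911 := ndS (p := 54688) (l := 2) rfl N54688 D193911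
theorem N90958 : nd 90958 = n193912 := ndS (p := 54688) (l := 6) rfl N54688 D193912
theorem N90959 : nd 90959 = n193913 := ndS (p := 54689) (l := 5) rfl N54689 D193913
theorem N90960 : nd 90960 = n193914 := ndS (p := 54689) (l := 7) rfl N54689 D193914
theorem N90961 : nd 90961 = n193916 := ndS (p := 54690) (l := 3) rfl N54690 D193916
theorem N90962 : nd 90962 = n193918 := ndS (p := 54690) (l := 5) rfl N54690 D193918
theorem N90963 : nd 90963 = n193919 := ndS (p := 54690) (l := 6) rfl N54690 D193919
theorem N90964 : nd 90964 = n193921 := ndS (p := 54691) (l := 5) rfl N54691 D193921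
theorem N90965 : nd 90965 = n193922 := ndS (p := 54691) (l := 6) rfl N54691 D193922
theorem N90966 : nd 90966 = n193923 := ndS (p := 54693) (l := 4) rfl N54693 D193923
theorem N90967 : nd 90967 = n193924 := ndS (p := 54693) (l := 5) rfl N54693 D193924
theorem N90968 : nd 90968 = n193925 := ndS (p := 54693) (l := 6) rfl N54693 D193925
theorem N90969 : nd 90969 = n193926 := ndS (p := 54694) (l := 0) rfl N54694 D193926
theorem N90970 : nd 90970 = n193927 := ndS (p := 54694) (l := 1) rfl N54694 D193927
theorem N90971 : nd 90971 = n193928 := ndS (p := 54694) (l := 3) rfl N54694 D193928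
theorem N90972 : nd 90972 = n193929 := ndS (p := 54694) (l := 5) rfl N54694 D193929
theorem N90973 : nd 90973 = n193930 := ndS (p := 54694) (l := 6) rfl N54694 D193930
theorem N90974 : nd 90974 = n193931 := ndS (p := 54695) (l := 1) rfl N54695 D193931
theorem N90975 : nd 90975 = n193932 := ndS (p := 54696) (l := 0) rfl N54696 D193932
theorem N90976 : nd 90976 = n193933 := ndS (p := 54696) (l := 1) rfl N54696 D193933
theorem N90977 : nd 90977 = n193934 := ndS (p := 54696) (l := 7) rfl N54696 D193934
theorem N90978 : nd 90978 = n193935 := ndS (p := 54697) (l := 1) rfl N54697 D193935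
theorem N90979 : nd 90979 = n193936 := ndS (p := 54697) (l := 2) rfl N54697 D193936
theorem N90980 : nd 90980 = n193937 := ndS (p := 54697) (l := 6) rfl N54697 D193937
theorem N90981 : nd 90981 = n193938 := ndS (p := 54698) (l := 1) rfl N54698 D193938
theorem N90982 : nd 90982 = n193939 := ndS (p := 54698) (l := 5) rfl N54698 D193939
theorem N90983 : nd 90983 = n193940 := ndS (p := 54698) (l := 7) rfl N54698 D193940
theorem N90984 : nd 90984 = n193942 := ndS (p := 54699) (l := 5) rfl N54699 D193942
theorem N90985 : nd 90985 = n193943 := ndS (p := 54700) (l := 3) rfl N54700 D193943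
theorem N90986 : nd 90986 = n193945 := ndS (p := 54700) (l := 5) rfl N54700 D193945
theorem N90987 : nd 90987 = n193946 := ndS (p := 54700) (l := 6) rfl N54700 D193946
theorem N90988 : nd 90988 = n193947 := ndS (p := 54702) (l := 3) rfl N54702 D193947
theorem N90989 : nd 90989 = n193948 := ndS (p := 54702) (l := 4) rfl N54702 D193948
theorem N90990 : nd 90990 = n193949 := ndS (p := 54702) (l := 6) rfl N54702 D193949
theorem N90991 : nd 90991 = n193950 := ndS (p := 54703) (l := 4) rfl N54703 D193950
theorem N90992 : nd 90992 = n193951 := ndS (p := 54703) (l := 6) rfl N54703 D193951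
theorem N90993 : nd 90993 = n193952 := ndS (p := 54704) (l := 6) rfl N54704 D193952
theorem N90994 : nd 90994 = n193953 := ndS (p := 54705) (l := 1) rfl N54705 D193953
theorem N90995 : nd 90995 = n193954 := ndS (p := 54705) (l := 7) rfl N54705 D193954
theorem N90996 : nd 90996 = n193955 := ndS (p := 54707) (l := 2) rfl N54707 D193955
theorem N90997 : nd 90997 = n193956 := ndS (p := 54707) (l := 4) rfl N54707 D193956
theorem N90998 : nd 90998 = n193957 := ndS (p := 54707) (l := 5) rfl N54707 D193957
theorem N90999 : nd 90999 = n193958 := ndS (p := 54707) (l := 6) rfl N54707 D193958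
theorem N91000 : nd 91000 = n193959 := ndS (p := 54708) (l := 3) rfl N54708 D193959
theorem N91001 : nd 91001 = n193960 := ndS (p := 54708) (l := 6) rfl N54708 D193960
theorem N91002 : nd 91002 = n193961 := ndS (p := 54709) (l := 1) rfl N54709 D193961
theorem N91003 : nd 91003 = n193962 := ndS (p := 54709) (l := 6) rfl N54709 D193962
theorem N91004 : nd 91004 = n193964 := ndS (p := 54710) (l := 5) rfl N54710 D193964
theorem N91005 : nd 91005 = n193965 := ndS (p := 54710) (l := 7) rfl N54710 D193965
theorem N91006 : nd 91006 = n193966 := ndS (p := 54711) (l := 2) rfl N54711 D193966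
theorem N91007 : nd 91007 = n193967 := ndS (p := 54711) (l := 6) rfl N54711 D193967
theorem N91008 : nd 91008 = n193968 := ndS (p := 54713) (l := 0) rfl N54713 D193968
theorem N91009 : nd 91009 = n193970 := ndS (p := 54713) (l := 5) rfl N54713 D193970
theorem N91010 : nd 91010 = n193971 := ndS (p := 54713) (l := 7) rfl N54713 D193971
theorem N91011 : nd 91011 = n193972 := ndS (p := 54714) (l := 5) rfl N54714 D193972
theorem N91012 : nd 91012 = n193973 := ndS (p := 54716) (l := 3) rfl N54716 D193973
theorem N91013 : nd 91013 = n193974 := ndS (p := 54719) (l := 1) rfl N54719 D193974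
theorem N91014 : nd 91014 = n193975 := ndS (p := 54723) (l := 0) rfl N54723 D193975
theorem N91015 : nd 91015 = n193976 := ndS (p := 54723) (l := 1) rfl N54723 D193976
theorem N91016 : nd 91016 = n193977 := ndS (p := 54723) (l := 7) rfl N54723 D193977
theorem N91017 : nd 91017 = n193978 := ndS (p := 54727) (l := 4) rfl N54727 D193978
theorem N91018 : nd 91018 = n193979 := ndS (p := 54727) (l := 6) rfl N54727 D193979
theorem N91019 : nd 91019 = n193980 := ndS (p := 54728) (l := 1) rfl N54728 D193980
theorem N91020 : nd 91020 = n193981 := ndS (p := 54732) (l := 0) rfl N54732 D193981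
theorem N91021 : nd 91021 = n193982 := ndS (p := 54732) (l := 1) rfl N54732 D193982
theorem N91022 : nd 91022 = n193983 := ndS (p := 54732) (l := 7) rfl N54732 D193983
theorem N91023 : nd 91023 = n193984 := ndS (p := 54734) (l := 5) rfl N54734 D193984
theorem N91024 : nd 91024 = n193985 := ndS (p := 54735) (l := 6) rfl N54735 D193985
theorem N91025 : nd 91025 = n193986 := ndS (p := 54737) (l := 3) rfl N54737 D193986
theorem N91026 : nd 91026 = n193987 := ndS (p := 54737) (l := 4) rfl N54737 D193987
theorem N91027 : nd 91027 = n193988 := ndS (p := 54737) (l := 6) rfl N54737 D193988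
theorem N91028 : nd 91028 = n193989 := ndS (p := 54738) (l := 4) rfl N54738 D193989
theorem N91029 : nd 91029 = n193990 := ndS (p := 54739) (l := 4) rfl N54739 D193990
theorem N91030 : nd 91030 = n193991 := ndS (p := 54740) (l := 6) rfl N54740 D193991
theorem N91031 : nd 91031 = n193992 := ndS (p := 54742) (l := 3) rfl N54742 D193992
theorem N91032 : nd 91032 = n193993 := ndS (p := 54742) (l := 5) rfl N54742 D193993
theorem N91033 : nd 91033 = n193994 := ndS (p := 54743) (l := 4) rfl N54743 D193994
theorem N91034 : nd 91034 = n193995 := ndS (p := 54743) (l := 6) rfl N54743 D193995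
theorem N91035 : nd 91035 = n193996 := ndS (p := 54744) (l := 3) rfl N54744 D193996
theorem N91036 : nd 91036 = n193997 := ndS (p := 54744) (l := 5) rfl N54744 D193997
theorem N91037 : nd 91037 = n193998 := ndS (p := 54744) (l := 6) rfl N54744 D193998
theorem N91038 : nd 91038 = n193999 := ndS (p := 54745) (l := 0) rfl N54745 D193999
theorem N91039 : nd 91039 = n194000 := ndS (p := 54745) (l := 7) rfl N54745 D194000
theorem N91040 : nd 91040 = n194001 := ndS (p := 54748) (l := 4) rfl N54748 D194001
theorem N91041 : nd 91041 = n194002 := ndS (p := 54749) (l := 7) rfl N54749 D194002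
theorem N91042 : nd 91042 = n194003 := ndS (p := 54750) (l := 4) rfl N54750 D194003
theorem N91043 : nd 91043 = n194004 := ndS (p := 54750) (l := 6) rfl N54750 D194004
theorem N91044 : nd 91044 = n194005 := ndS (p := 54754) (l := 3) rfl N54754 D194005
theorem N91045 : nd 91045 = n194006 := ndS (p := 54754) (l := 5) rfl N54754 D194006
theorem N91046 : nd 91046 = n194007 := ndS (p := 54754) (l := 6) rfl N54754 D194007
theorem N91047 : nd 91047 = n194008 := ndS (p := 54757) (l := 4) rfl N54757 D194008
theorem N91048 : nd 91048 = n194009 := ndS (p := 54760) (l := 1) rfl N54760 D194009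
theorem N91049 : nd 91049 = n194010 := ndS (p := 54761) (l := 3) rfl N54761 D194010
theorem N91050 : nd 91050 = n194011 := ndS (p := 54761) (l := 5) rfl N54761 D194011
theorem N91051 : nd 91051 = n194012 := ndS (p := 54762) (l := 1) rfl N54762 D194012
theorem N91052 : nd 91052 = n194013 := ndS (p := 54762) (l := 5) rfl N54762 D194013
theorem N91053 : nd 91053 = n194014 := ndS (p := 54763) (l := 4) rfl N54763 D194014
theorem N91054 : nd 91054 = n194015 := ndS (p := 54764) (l := 0) rfl N54764 D194015
theorem N91055 : nd 91055 = n194016 := ndS (p := 54764) (l := 1) rfl N54764 D194016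
theorem N91056 : nd 91056 = n194017 := ndS (p := 54765) (l := 4) rfl N54765 D194017
theorem N91057 : nd 91057 = n194018 := ndS (p := 54766) (l := 0) rfl N54766 D194018
theorem N91058 : nd 91058 = n194019 := ndS (p := 54766) (l := 7) rfl N54766 D194019
theorem N91059 : nd 91059 = n194020 := ndS (p := 54767) (l := 5) rfl N54767 D194020
theorem N91060 : nd 91060 = n194021 := ndS (p := 54767) (l := 6) rfl N54767 D194021
theorem N91061 : nd 91061 = n194023 := ndS (p := 54768) (l := 1) rfl N54768 D194023
theorem N91062 : nd 91062 = n194024 := ndS (p := 54768) (l := 7) rfl N54768 D194024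
theorem N91063 : nd 91063 = n194025 := ndS (p := 54769) (l := 3) rfl N54769 D194025
theorem N91064 : nd 91064 = n194026 := ndS (p := 54770) (l := 5) rfl N54770 D194026
theorem N91065 : nd 91065 = n194027 := ndS (p := 54771) (l := 0) rfl N54771 D194027
theorem N91066 : nd 91066 = n194028 := ndS (p := 54771) (l := 1) rfl N54771 D194028
theorem N91067 : nd 91067 = n194029 := ndS (p := 54771) (l := 2) rfl N54771 D194029
theorem N91068 : nd 91068 = n194030 := ndS (p := 54771) (l := 5) rfl N54771 D194030
theorem N91069 : nd 91069 = n194031 := ndS (p := 54772) (l := 0) rfl N54772 D194031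
theorem N91070 : nd 91070 = n194032 := ndS (p := 54772) (l := 1) rfl N54772 D194032
theorem N91071 : nd 91071 = n194033 := ndS (p := 54772) (l := 6) rfl N54772 D194033
theorem N91072 : nd 91072 = n194034 := ndS (p := 54773) (l := 4) rfl N54773 D194034
theorem N91073 : nd 91073 = n194035 := ndS (p := 54773) (l := 5) rfl N54773 D194035
theorem N91074 : nd 91074 = n194036 := ndS (p := 54773) (l := 6) rfl N54773 D194036
theorem N91075 : nd 91075 = n194037 := ndS (p := 54774) (l := 4) rfl N54774 D194037
theorem N91076 : nd 91076 = n194038 := ndS (p := 54774) (l := 5) rfl N54774 D194038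
theorem N91077 : nd 91077 = n194039 := ndS (p := 54775) (l := 0) rfl N54775 D194039
theorem N91078 : nd 91078 = n194040 := ndS (p := 54775) (l := 1) rfl N54775 D194040
theorem N91079 : nd 91079 = n194041 := ndS (p := 54775) (l := 4) rfl N54775 D194041
theorem N91080 : nd 91080 = n194042 := ndS (p := 54775) (l := 7) rfl N54775 D194042
theorem N91081 : nd 91081 = n194043 := ndS (p := 54777) (l := 4) rfl N54777 D194043
theorem N91082 : nd 91082 = n194044 := ndS (p := 54777) (l := 6) rfl N54777 D194044
theorem N91083 : nd 91083 = n194045 := ndS (p := 54778) (l := 0) rfl N54778 D194045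
theorem N91084 : nd 91084 = n194046 := ndS (p := 54778) (l := 1) rfl N54778 D194046
theorem N91085 : nd 91085 = n194047 := ndS (p := 54778) (l := 3) rfl N54778 D194047
theorem N91086 : nd 91086 = n194048 := ndS (p := 54778) (l := 5) rfl N54778 D194048
theorem N91087 : nd 91087 = n194049 := ndS (p := 54778) (l := 7) rfl N54778 D194049
theorem N91088 : nd 91088 = n194050 := ndS (p := 54779) (l := 6) rfl N54779 D194050
theorem N91089 : nd 91089 = n194051 := ndS (p := 54780) (l := 5) rfl N54780 D194051
theorem N91090 : nd 91090 = n194052 := ndS (p := 54781) (l := 4) rfl N54781 D194052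
theorem N91091 : nd 91091 = n194053 := ndS (p := 54781) (l := 5) rfl N54781 D194053
theorem N91092 : nd 91092 = n194054 := ndS (p := 54781) (l := 6) rfl N54781 D194054
theorem N91093 : nd 91093 = n194055 := ndS (p := 54783) (l := 5) rfl N54783 D194055
theorem N91094 : nd 91094 = n194056 := ndS (p := 54784) (l := 0) rfl N54784 D194056
theorem N91095 : nd 91095 = n194057 := ndS (p := 54784) (l := 4) rfl N54784 D194057
theorem N91096 : nd 91096 = n194058 := ndS (p := 54784) (l := 7) rfl N54784 D194058
theorem N91097 : nd 91097 = n194059 := ndS (p := 54786) (l := 3) rfl N54786 D194059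
theorem N91098 : nd 91098 = n194060 := ndS (p := 54786) (l := 5) rfl N54786 D194060
theorem N91099 : nd 91099 = n194061 := ndS (p := 54787) (l := 4) rfl N54787 D194061
theorem N91100 : nd 91100 = n194063 := ndS (p := 54788) (l := 1) rfl N54788 D194063
theorem N91101 : nd 91101 = n194064 := ndS (p := 54788) (l := 5) rfl N54788 D194064
theorem N91102 : nd 91102 = n194065 := ndS (p := 54788) (l := 7) rfl N54788 D194065
theorem N91103 : nd 91103 = n194066 := ndS (p := 54789) (l := 6) rfl N54789 D194066
theorem N91104 : nd 91104 = n194067 := ndS (p := 54790) (l := 5) rfl N54790 D194067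
theorem N91105 : nd 91105 = n194068 := ndS (p := 54792) (l := 4) rfl N54792 D194068
theorem N91106 : nd 91106 = n194069 := ndS (p := 54793) (l := 3) rfl N54793 D194069
theorem N91107 : nd 91107 = n194070 := ndS (p := 54793) (l := 4) rfl N54793 D194070
theorem N91108 : nd 91108 = n194071 := ndS (p := 54793) (l := 6) rfl N54793 D194071
theorem N91109 : nd 91109 = n194072 := ndS (p := 54794) (l := 3) rfl N54794 D194072
theorem N91110 : nd 91110 = n194073 := ndS (p := 54794) (l := 5) rfl N54794 D194073
theorem N91111 : nd 91111 = n194074 := ndS (p := 54794) (l := 7) rfl N54794 D194074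
theorem N91112 : nd 91112 = n194075 := ndS (p := 54796) (l := 2) rfl N54796 D194075
theorem N91113 : nd 91113 = n194076 := ndS (p := 54798) (l := 5) rfl N54798 D194076
theorem N91114 : nd 91114 = n194077 := ndS (p := 54800) (l := 6) rfl N54800 D194077
theorem N91115 : nd 91115 = n194078 := ndS (p := 54802) (l := 6) rfl N54802 D194078
theorem N91116 : nd 91116 = n194079 := ndS (p := 54803) (l := 3) rfl N54803 D194079
theorem N91117 : nd 91117 = n194080 := ndS (p := 54803) (l := 5) rfl N54803 D194080
theorem N91118 : nd 91118 = n194081 := ndS (p := 54804) (l := 6) rfl N54804 D194081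
theorem N91119 : nd 91119 = n194082 := ndS (p := 54805) (l := 3) rfl N54805 D194082
theorem N91120 : nd 91120 = n194083 := ndS (p := 54806) (l := 3) rfl N54806 D194083
theorem N91121 : nd 91121 = n194084 := ndS (p := 54806) (l := 5) rfl N54806 D194084
theorem N91122 : nd 91122 = n194085 := ndS (p := 54806) (l := 6) rfl N54806 D194085
theorem N91123 : nd 91123 = n194086 := ndS (p := 54807) (l := 0) rfl N54807 D194086
theorem N91124 : nd 91124 = n194087 := ndS (p := 54807) (l := 1) rfl N54807 D194087
theorem N91125 : nd 91125 = n194088 := ndS (p := 54807) (l := 5) rfl N54807 D194088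
theorem N91126 : nd 91126 = n194089 := ndS (p := 54807) (l := 7) rfl N54807 D194089
theorem N91127 : nd 91127 = n194090 := ndS (p := 54808) (l := 4) rfl N54808 D194090
theorem N91128 : nd 91128 = n194091 := ndS (p := 54809) (l := 6) rfl N54809 D194091
theorem N91129 : nd 91129 = n194092 := ndS (p := 54810) (l := 3) rfl N54810 D194092
theorem N91130 : nd 91130 = n194093 := ndS (p := 54810) (l := 6) rfl N54810 D194093
theorem N91131 : nd 91131 = n194094 := ndS (p := 54811) (l := 0) rfl N54811 D194094
theorem N91132 : nd 91132 = n194095 := ndS (p := 54811) (l := 1) rfl N54811 D194095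
theorem N91133 : nd 91133 = n194096 := ndS (p := 54811) (l := 7) rfl N54811 D194096
theorem N91134 : nd 91134 = n194097 := ndS (p := 54814) (l := 0) rfl N54814 D194097
theorem N91135 : nd 91135 = n194098 := ndS (p := 54814) (l := 1) rfl N54814 D194098
theorem N91136 : nd 91136 = n194099 := ndS (p := 54814) (l := 2) rfl N54814 D194099
theorem N91137 : nd 91137 = n194100 := ndS (p := 54814) (l := 6) rfl N54814 D194100
theorem N91138 : nd 91138 = n194101 := ndS (p := 54815) (l := 7) rfl N54815 D194101
theorem N91139 : nd 91139 = n194102 := ndS (p := 54816) (l := 3) rfl N54816 D194102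
theorem N91140 : nd 91140 = n194103 := ndS (p := 54816) (l := 5) rfl N54816 D194103
theorem N91141 : nd 91141 = n194104 := ndS (p := 54816) (l := 6) rfl N54816 D194104
theorem N91142 : nd 91142 = n194105 := ndS (p := 54817) (l := 3) rfl N54817 D194105
theorem N91143 : nd 91143 = n194106 := ndS (p := 54817) (l := 5) rfl N54817 D194106
theorem N91144 : nd 91144 = n194107 := ndS (p := 54817) (l := 6) rfl N54817 D194107
theorem N91145 : nd 91145 = n194108 := ndS (p := 54818) (l := 0) rfl N54818 D194108
theorem N91146 : nd 91146 = n194109 := ndS (p := 54818) (l := 1) rfl N54818 D194109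
theorem N91147 : nd 91147 = n194110 := ndS (p := 54818) (l := 7) rfl N54818 D194110
theorem N91148 : nd 91148 = n194111 := ndS (p := 54820) (l := 3) rfl N54820 D194111
theorem N91149 : nd 91149 = n194112 := ndS (p := 54820) (l := 4) rfl N54820 D194112
theorem N91150 : nd 91150 = n194113 := ndS (p := 54821) (l := 4) rfl N54821 D194113
theorem N91151 : nd 91151 = n194114 := ndS (p := 54821) (l := 6) rfl N54821 D194114
theorem N91152 : nd 91152 = n194115 := ndS (p := 54822) (l := 0) rfl N54822 D194115
theorem N91153 : nd 91153 = n194116 := ndS (p := 54822) (l := 1) rfl N54822 D194116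
theorem N91154 : nd 91154 = n194117 := ndS (p := 54822) (l := 6) rfl N54822 D194117
theorem N91155 : nd 91155 = n194118 := ndS (p := 54823) (l := 0) rfl N54823 D194118
theorem N91156 : nd 91156 = n194119 := ndS (p := 54823) (l := 1) rfl N54823 D194119
theorem N91157 : nd 91157 = n194120 := ndS (p := 54823) (l := 7) rfl N54823 D194120
theorem N91158 : nd 91158 = n194121 := ndS (p := 54824) (l := 0) rfl N54824 D194121
theorem N91159 : nd 91159 = n194122 := ndS (p := 54824) (l := 1) rfl N54824 D194122
theorem N91160 : nd 91160 = n194123 := ndS (p := 54824) (l := 2) rfl N54824 D194123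
theorem N91161 : nd 91161 = n194124 := ndS (p := 54824) (l := 6) rfl N54824 D194124
theorem N91162 : nd 91162 = n194125 := ndS (p := 54825) (l := 5) rfl N54825 D194125
theorem N91163 : nd 91163 = n194126 := ndS (p := 54825) (l := 7) rfl N54825 D194126
theorem N91164 : nd 91164 = n194127 := ndS (p := 54826) (l := 3) rfl N54826 D194127
theorem N91165 : nd 91165 = n194128 := ndS (p := 54826) (l := 4) rfl N54826 D194128
theorem N91166 : nd 91166 = n194129 := ndS (p := 54826) (l := 6) rfl N54826 D194129
theorem N91167 : nd 91167 = n194130 := ndS (p := 54827) (l := 3) rfl N54827 D194130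
theorem N91168 : nd 91168 = n194131 := ndS (p := 54827) (l := 4) rfl N54827 D194131
theorem N91169 : nd 91169 = n194132 := ndS (p := 54829) (l := 2) rfl N54829 D194132
theorem N91170 : nd 91170 = n194133 := ndS (p := 54834) (l := 5) rfl N54834 D194133
theorem N91171 : nd 91171 = n194134 := ndS (p := 54836) (l := 0) rfl N54836 D194134
theorem N91172 : nd 91172 = n194135 := ndS (p := 54836) (l := 2) rfl N54836 D194135
theorem N91173 : nd 91173 = n194136 := ndS (p := 54836) (l := 6) rfl N54836 D194136
theorem N91174 : nd 91174 = n194137 := ndS (p := 54837) (l := 0) rfl N54837 D194137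
theorem N91175 : nd 91175 = n194138 := ndS (p := 54837) (l := 1) rfl N54837 D194138
theorem N91176 : nd 91176 = n194139 := ndS (p := 54837) (l := 5) rfl N54837 D194139
theorem N91177 : nd 91177 = n194140 := ndS (p := 54837) (l := 7) rfl N54837 D194140
theorem N91178 : nd 91178 = n194141 := ndS (p := 54838) (l := 5) rfl N54838 D194141
theorem N91179 : nd 91179 = n194142 := ndS (p := 54839) (l := 3) rfl N54839 D194142
theorem N91180 : nd 91180 = n194143 := ndS (p := 54839) (l := 5) rfl N54839 D194143
theorem N91181 : nd 91181 = n194144 := ndS (p := 54839) (l := 6) rfl N54839 D194144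
theorem N91182 : nd 91182 = n194145 := ndS (p := 54841) (l := 1) rfl N54841 D194145
theorem N91183 : nd 91183 = n194146 := ndS (p := 54841) (l := 2) rfl N54841 D194146
theorem N91184 : nd 91184 = n194148 := ndS (p := 54843) (l := 3) rfl N54843 D194148
theorem N91185 : nd 91185 = n194149 := ndS (p := 54843) (l := 4) rfl N54843 D194149
theorem N91186 : nd 91186 = n194151 := ndS (p := 54843) (l := 6) rfl N54843 D194151
theorem N91187 : nd 91187 = n194153 := ndS (p := 54844) (l := 3) rfl N54844 D194153
theorem N91188 : nd 91188 = n194154 := ndS (p := 54844) (l := 4) rfl N54844 D194154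
theorem N91189 : nd 91189 = n194157 := ndS (p := 54845) (l := 6) rfl N54845 D194157
theorem N91190 : nd 91190 = n194158 := ndS (p := 54846) (l := 1) rfl N54846 D194158
theorem N91191 : nd 91191 = n194159 := ndS (p := 54846) (l := 5) rfl N54846 D194159
theorem N91192 : nd 91192 = n194160 := ndS (p := 54849) (l := 3) rfl N54849 D194160
theorem N91193 : nd 91193 = n194161 := ndS (p := 54849) (l := 4) rfl N54849 D194161
theorem N91194 : nd 91194 = n194162 := ndS (p := 54849) (l := 6) rfl N54849 D194162
theorem N91195 : nd 91195 = n194163 := ndS (p := 54855) (l := 4) rfl N54855 D194163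
theorem N91196 : nd 91196 = n194164 := ndS (p := 54855) (l := 6) rfl N54855 D194164
theorem N91197 : nd 91197 = n194166 := ndS (p := 54857) (l := 1) rfl N54857 D194166
theorem N91198 : nd 91198 = n194167 := ndS (p := 54857) (l := 5) rfl N54857 D194167
theorem N91199 : nd 91199 = n194168 := ndS (p := 54857) (l := 6) rfl N54857 D194168
theorem N91200 : nd 91200 = n194169 := ndS (p := 54858) (l := 0) rfl N54858 D194169
theorem N91201 : nd 91201 = n194170 := ndS (p := 54858) (l := 1) rfl N54858 D194170
theorem N91202 : nd 91202 = n194171 := ndS (p := 54858) (l := 7) rfl N54858 D194171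
theorem N91203 : nd 91203 = n194172 := ndS (p := 54860) (l := 3) rfl N54860 D194172
theorem N91204 : nd 91204 = n194173 := ndS (p := 54860) (l := 5) rfl N54860 D194173
theorem N91205 : nd 91205 = n194174 := ndS (p := 54860) (l := 6) rfl N54860 D194174
theorem N91206 : nd 91206 = n194175 := ndS (p := 54861) (l := 5) rfl N54861 D194175
theorem N91207 : nd 91207 = n194176 := ndS (p := 54861) (l := 6) rfl N54861 D194176
theorem N91208 : nd 91208 = n194177 := ndS (p := 54862) (l := 4) rfl N54862 D194177
theorem N91209 : nd 91209 = n194178 := ndS (p := 54865) (l := 3) rfl N54865 D194178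
theorem N91210 : nd 91210 = n194179 := ndS (p := 54865) (l := 5) rfl N54865 D194179
theorem N91211 : nd 91211 = n194180 := ndS (p := 54868) (l := 4) rfl N54868 D194180
theorem N91212 : nd 91212 = n194181 := ndS (p := 54868) (l := 6) rfl N54868 D194181
theorem N91213 : nd 91213 = n194182 := ndS (p := 54869) (l := 6) rfl N54869 D194182
theorem N91214 : nd 91214 = n194183 := ndS (p := 54870) (l := 1) rfl N54870 D194183
theorem N91215 : nd 91215 = n194184 := ndS (p := 54870) (l := 5) rfl N54870 D194184
theorem N91216 : nd 91216 = n194186 := ndS (p := 54871) (l := 0) rfl N54871 D194186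
theorem N91217 : nd 91217 = n194187 := ndS (p := 54871) (l := 1) rfl N54871 D194187
theorem N91218 : nd 91218 = n194188 := ndS (p := 54871) (l := 7) rfl N54871 D194188
theorem N91219 : nd 91219 = n194189 := ndS (p := 54872) (l := 5) rfl N54872 D194189
theorem N91220 : nd 91220 = n194190 := ndS (p := 54872) (l := 6) rfl N54872 D194190
theorem N91221 : nd 91221 = n194191 := ndS (p := 54873) (l := 5) rfl N54873 D194191
theorem N91222 : nd 91222 = n194192 := ndS (p := 54873) (l := 6) rfl N54873 D194192
theorem N91223 : nd 91223 = n194193 := ndS (p := 54878) (l := 4) rfl N54878 D194193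
theorem N91224 : nd 91224 = n194194 := ndS (p := 54880) (l := 4) rfl N54880 D194194
theorem N91225 : nd 91225 = n194195 := ndS (p := 54882) (l := 5) rfl N54882 D194195
theorem N91226 : nd 91226 = n194196 := ndS (p := 54882) (l := 6) rfl N54882 D194196
theorem N91227 : nd 91227 = n194197 := ndS (p := 54883) (l := 3) rfl N54883 D194197
theorem N91228 : nd 91228 = n194198 := ndS (p := 54883) (l := 6) rfl N54883 D194198
theorem N91229 : nd 91229 = n194199 := ndS (p := 54888) (l := 3) rfl N54888 D194199
theorem N91230 : nd 91230 = n194200 := ndS (p := 54888) (l := 6) rfl N54888 D194200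
theorem N91231 : nd 91231 = n194201 := ndS (p := 54889) (l := 1) rfl N54889 D194201
theorem N91232 : nd 91232 = n194202 := ndS (p := 54889) (l := 7) rfl N54889 D194202
theorem N91233 : nd 91233 = n194203 := ndS (p := 54890) (l := 0) rfl N54890 D194203
theorem N91234 : nd 91234 = n194204 := ndS (p := 54890) (l := 1) rfl N54890 D194204
theorem N91235 : nd 91235 = n194205 := ndS (p := 54890) (l := 2) rfl N54890 D194205
theorem N91236 : nd 91236 = n194206 := ndS (p := 54890) (l := 6) rfl N54890 D194206
theorem N91237 : nd 91237 = n194207 := ndS (p := 54891) (l := 0) rfl N54891 D194207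
theorem N91238 : nd 91238 = n194208 := ndS (p := 54891) (l := 1) rfl N54891 D194208
theorem N91239 : nd 91239 = n194209 := ndS (p := 54891) (l := 5) rfl N54891 D194209
theorem N91240 : nd 91240 = n194210 := ndS (p := 54891) (l := 7) rfl N54891 D194210
theorem N91241 : nd 91241 = n194211 := ndS (p := 54892) (l := 4) rfl N54892 D194211
theorem N91242 : nd 91242 = n194212 := ndS (p := 54893) (l := 4) rfl N54893 D194212
theorem N91243 : nd 91243 = n194213 := ndS (p := 54893) (l := 6) rfl N54893 D194213
theorem N91244 : nd 91244 = n194215 := ndS (p := 54895) (l := 3) rfl N54895 D194215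
theorem N91245 : nd 91245 = n194216 := ndS (p := 54895) (l := 4) rfl N54895 D194216
theorem N91246 : nd 91246 = n194218 := ndS (p := 54895) (l := 6) rfl N54895 D194218
theorem N91247 : nd 91247 = n194220 := ndS (p := 54896) (l := 3) rfl N54896 D194220
theorem N91248 : nd 91248 = n194221 := ndS (p := 54896) (l := 4) rfl N54896 D194221
theorem N91249 : nd 91249 = n194222 := ndS (p := 54896) (l := 6) rfl N54896 D194222
theorem N91250 : nd 91250 = n194223 := ndS (p := 54897) (l := 6) rfl N54897 D194223
theorem N91251 : nd 91251 = n194225 := ndS (p := 54898) (l := 7) rfl N54898 D194225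
theorem N91252 : nd 91252 = n194226 := ndS (p := 54902) (l := 0) rfl N54902 D194226
theorem N91253 : nd 91253 = n194227 := ndS (p := 54903) (l := 1) rfl N54903 D194227
theorem N91254 : nd 91254 = n194228 := ndS (p := 54906) (l := 4) rfl N54906 D194228
theorem N91255 : nd 91255 = n194229 := ndS (p := 54910) (l := 5) rfl N54910 D194229
theorem N91256 : nd 91256 = n194230 := ndS (p := 54911) (l := 4) rfl N54911 D194230
theorem N91257 : nd 91257 = n194231 := ndS (p := 54911) (l := 6) rfl N54911 D194231
theorem N91258 : nd 91258 = n194232 := ndS (p := 54912) (l := 5) rfl N54912 D194232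
theorem N91259 : nd 91259 = n194233 := ndS (p := 54912) (l := 6) rfl N54912 D194233
theorem N91260 : nd 91260 = n194234 := ndS (p := 54913) (l := 4) rfl N54913 D194234
theorem N91261 : nd 91261 = n194235 := ndS (p := 54913) (l := 6) rfl N54913 D194235
theorem N91262 : nd 91262 = n194236 := ndS (p := 54915) (l := 3) rfl N54915 D194236
theorem N91263 : nd 91263 = n194237 := ndS (p := 54915) (l := 4) rfl N54915 D194237
theorem N91264 : nd 91264 = n194238 := ndS (p := 54915) (l := 6) rfl N54915 D194238
theorem N91265 : nd 91265 = n194239 := ndS (p := 54916) (l := 4) rfl N54916 D194239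
theorem N91266 : nd 91266 = n194240 := ndS (p := 54916) (l := 6) rfl N54916 D194240
theorem N91267 : nd 91267 = n194241 := ndS (p := 54917) (l := 3) rfl N54917 D194241
theorem N91268 : nd 91268 = n194242 := ndS (p := 54917) (l := 5) rfl N54917 D194242
theorem N91269 : nd 91269 = n194244 := ndS (p := 54920) (l := 4) rfl N54920 D194244
theorem N91270 : nd 91270 = n194245 := ndS (p := 54921) (l := 5) rfl N54921 D194245
theorem N91271 : nd 91271 = n194246 := ndS (p := 54922) (l := 6) rfl N54922 D194246
theorem N91272 : nd 91272 = n194247 := ndS (p := 54923) (l := 6) rfl N54923 D194247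
theorem N91273 : nd 91273 = n194248 := ndS (p := 54924) (l := 0) rfl N54924 D194248
theorem N91274 : nd 91274 = n194249 := ndS (p := 54924) (l := 1) rfl N54924 D194249
theorem N91275 : nd 91275 = n194250 := ndS (p := 54924) (l := 7) rfl N54924 D194250
theorem N91276 : nd 91276 = n194251 := ndS (p := 54925) (l := 4) rfl N54925 D194251
theorem N91277 : nd 91277 = n194252 := ndS (p := 54926) (l := 0) rfl N54926 D194252
theorem N91278 : nd 91278 = n194253 := ndS (p := 54926) (l := 1) rfl N54926 D194253
theorem N91279 : nd 91279 = n194254 := ndS (p := 54926) (l := 7) rfl N54926 D194254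
theorem N91280 : nd 91280 = n194256 := ndS (p := 54929) (l := 1) rfl N54929 D194256
theorem N91281 : nd 91281 = n194257 := ndS (p := 54933) (l := 6) rfl N54933 D194257
theorem N91282 : nd 91282 = n194258 := ndS (p := 54934) (l := 0) rfl N54934 D194258
theorem N91283 : nd 91283 = n194259 := ndS (p := 54936) (l := 6) rfl N54936 D194259
theorem N91284 : nd 91284 = n194260 := ndS (p := 54937) (l := 5) rfl N54937 D194260
theorem N91285 : nd 91285 = n194261 := ndS (p := 54939) (l := 4) rfl N54939 D194261
theorem N91286 : nd 91286 = n194262 := ndS (p := 54940) (l := 5) rfl N54940 D194262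
theorem N91287 : nd 91287 = n194263 := ndS (p := 54941) (l := 5) rfl N54941 D194263
theorem N91288 : nd 91288 = n194264 := ndS (p := 54943) (l := 5) rfl N54943 D194264
theorem N91289 : nd 91289 = n194265 := ndS (p := 54943) (l := 6) rfl N54943 D194265
theorem N91290 : nd 91290 = n194266 := ndS (p := 54944) (l := 4) rfl N54944 D194266
theorem N91291 : nd 91291 = n194267 := ndS (p := 54944) (l := 6) rfl N54944 D194267
theorem N91292 : nd 91292 = n194268 := ndS (p := 54946) (l := 4) rfl N54946 D194268
theorem N91293 : nd 91293 = n194269 := ndS (p := 54947) (l := 6) rfl N54947 D194269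
theorem N91294 : nd 91294 = n194270 := ndS (p := 54948) (l := 6) rfl N54948 D194270
theorem N91295 : nd 91295 = n194271 := ndS (p := 54950) (l := 6) rfl N54950 D194271
theorem N91296 : nd 91296 = n194272 := ndS (p := 54951) (l := 0) rfl N54951 D194272
theorem N91297 : nd 91297 = n194273 := ndS (p := 54951) (l := 1) rfl N54951 D194273
theorem N91298 : nd 91298 = n194274 := ndS (p := 54953) (l := 6) rfl N54953 D194274
theorem N91299 : nd 91299 = n194275 := ndS (p := 54955) (l := 6) rfl N54955 D194275
theorem N91300 : nd 91300 = n194276 := ndS (p := 54957) (l := 6) rfl N54957 D194276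
theorem N91301 : nd 91301 = n194277 := ndS (p := 54958) (l := 0) rfl N54958 D194277
theorem N91302 : nd 91302 = n194278 := ndS (p := 54958) (l := 1) rfl N54958 D194278
theorem N91303 : nd 91303 = n194279 := ndS (p := 54958) (l := 3) rfl N54958 D194279
theorem N91304 : nd 91304 = n194280 := ndS (p := 54959) (l := 4) rfl N54959 D194280
theorem N91305 : nd 91305 = n194281 := ndS (p := 54960) (l := 7) rfl N54960 D194281
theorem N91306 : nd 91306 = n194282 := ndS (p := 54961) (l := 1) rfl N54961 D194282
theorem N91307 : nd 91307 = n194283 := ndS (p := 54961) (l := 2) rfl N54961 D194283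
theorem N91308 : nd 91308 = n194284 := ndS (p := 54964) (l := 4) rfl N54964 D194284
theorem N91309 : nd 91309 = n194285 := ndS (p := 54967) (l := 3) rfl N54967 D194285
theorem N91310 : nd 91310 = n194286 := ndS (p := 54969) (l := 5) rfl N54969 D194286
theorem N91311 : nd 91311 = n194287 := ndS (p := 54972) (l := 4) rfl N54972 D194287
theorem N91312 : nd 91312 = n194288 := ndS (p := 54972) (l := 6) rfl N54972 D194288
theorem N91313 : nd 91313 = n194289 := ndS (p := 54973) (l := 0) rfl N54973 D194289
theorem N91314 : nd 91314 = n194290 := ndS (p := 54973) (l := 5) rfl N54973 D194290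
theorem N91315 : nd 91315 = n194291 := ndS (p := 54974) (l := 4) rfl N54974 D194291
theorem N91316 : nd 91316 = n194292 := ndS (p := 54975) (l := 0) rfl N54975 D194292
theorem N91317 : nd 91317 = n194293 := ndS (p := 54975) (l := 1) rfl N54975 D194293
theorem N91318 : nd 91318 = n194294 := ndS (p := 54976) (l := 6) rfl N54976 D194294
theorem N91319 : nd 91319 = n194295 := ndS (p := 54978) (l := 0) rfl N54978 D194295
theorem N91320 : nd 91320 = n194296 := ndS (p := 54978) (l := 1) rfl N54978 D194296
theorem N91321 : nd 91321 = n194297 := ndS (p := 54978) (l := 6) rfl N54978 D194297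
theorem N91322 : nd 91322 = n194298 := ndS (p := 54979) (l := 0) rfl N54979 D194298
theorem N91323 : nd 91323 = n194299 := ndS (p := 54979) (l := 1) rfl N54979 D194299
theorem N91324 : nd 91324 = n194300 := ndS (p := 54979) (l := 7) rfl N54979 D194300
theorem N91325 : nd 91325 = n194301 := ndS (p := 54981) (l := 4) rfl N54981 D194301
theorem N91326 : nd 91326 = n194302 := ndS (p := 54982) (l := 3) rfl N54982 D194302
theorem N91327 : nd 91327 = n194303 := ndS (p := 54982) (l := 6) rfl N54982 D194303
theorem N91328 : nd 91328 = n194304 := ndS (p := 54984) (l := 4) rfl N54984 D194304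
theorem N91329 : nd 91329 = n194305 := ndS (p := 54984) (l := 6) rfl N54984 D194305
theorem N91330 : nd 91330 = n194306 := ndS (p := 54985) (l := 0) rfl N54985 D194306
theorem N91331 : nd 91331 = n194307 := ndS (p := 54985) (l := 3) rfl N54985 D194307
theorem N91332 : nd 91332 = n194308 := ndS (p := 54985) (l := 6) rfl N54985 D194308
theorem N91333 : nd 91333 = n194309 := ndS (p := 54986) (l := 0) rfl N54986 D194309
theorem N91334 : nd 91334 = n194310 := ndS (p := 54987) (l := 3) rfl N54987 D194310
theorem N91335 : nd 91335 = n194311 := ndS (p := 54988) (l := 7) rfl N54988 D194311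
theorem N91336 : nd 91336 = n194312 := ndS (p := 54990) (l := 2) rfl N54990 D194312
theorem N91337 : nd 91337 = n194313 := ndS (p := 54990) (l := 5) rfl N54990 D194313
theorem N91338 : nd 91338 = n194314 := ndS (p := 54990) (l := 7) rfl N54990 D194314
theorem N91339 : nd 91339 = n194315 := ndS (p := 54991) (l := 0) rfl N54991 D194315
theorem N91340 : nd 91340 = n194316 := ndS (p := 54991) (l := 4) rfl N54991 D194316
theorem N91341 : nd 91341 = n194317 := ndS (p := 54991) (l := 7) rfl N54991 D194317
theorem N91342 : nd 91342 = n194318 := ndS (p := 54992) (l := 6) rfl N54992 D194318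
theorem N91343 : nd 91343 = n194319 := ndS (p := 54995) (l := 4) rfl N54995 D194319
theorem N91344 : nd 91344 = n194320 := ndS (p := 54995) (l := 6) rfl N54995 D194320
theorem N91345 : nd 91345 = n194321 := ndS (p := 54996) (l := 4) rfl N54996 D194321
theorem N91346 : nd 91346 = n194322 := ndS (p := 54997) (l := 4) rfl N54997 D194322
theorem N91347 : nd 91347 = n194323 := ndS (p := 54997) (l := 6) rfl N54997 D194323
theorem N91348 : nd 91348 = n194324 := ndS (p := 54998) (l := 4) rfl N54998 D194324
theorem N91349 : nd 91349 = n194325 := ndS (p := 54999) (l := 0) rfl N54999 D194325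
theorem N91350 : nd 91350 = n194326 := ndS (p := 54999) (l := 5) rfl N54999 D194326
theorem N91351 : nd 91351 = n194327 := ndS (p := 55002) (l := 4) rfl N55002 D194327
theorem N91352 : nd 91352 = n194328 := ndS (p := 55002) (l := 6) rfl N55002 D194328
theorem N91353 : nd 91353 = n194329 := ndS (p := 55004) (l := 0) rfl N55004 D194329
theorem N91354 : nd 91354 = n194330 := ndS (p := 55004) (l := 7) rfl N55004 D194330
theorem N91355 : nd 91355 = n194331 := ndS (p := 55005) (l := 6) rfl N55005 D194331
theorem N91356 : nd 91356 = n194332 := ndS (p := 55006) (l := 2) rfl N55006 D194332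
theorem N91357 : nd 91357 = n194333 := ndS (p := 55006) (l := 6) rfl N55006 D194333
theorem N91358 : nd 91358 = n194334 := ndS (p := 55008) (l := 3) rfl N55008 D194334
theorem N91359 : nd 91359 = n194335 := ndS (p := 55008) (l := 5) rfl N55008 D194335
theorem N91360 : nd 91360 = n194336 := ndS (p := 55009) (l := 5) rfl N55009 D194336
theorem N91361 : nd 91361 = n194337 := ndS (p := 55009) (l := 6) rfl N55009 D194337
theorem N91362 : nd 91362 = n194338 := ndS (p := 55012) (l := 4) rfl N55012 D194338
theorem N91363 : nd 91363 = n194339 := ndS (p := 55012) (l := 6) rfl N55012 D194339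
theorem N91364 : nd 91364 = n194340 := ndS (p := 55014) (l := 4) rfl N55014 D194340
theorem N91365 : nd 91365 = n194341 := ndS (p := 55015) (l := 6) rfl N55015 D194341
theorem N91366 : nd 91366 = n194342 := ndS (p := 55016) (l := 0) rfl N55016 D194342
theorem N91367 : nd 91367 = n194343 := ndS (p := 55016) (l := 1) rfl N55016 D194343
theorem N91368 : nd 91368 = n194344 := ndS (p := 55016) (l := 5) rfl N55016 D194344
theorem N91369 : nd 91369 = n194345 := ndS (p := 55016) (l := 6) rfl N55016 D194345
theorem N91370 : nd 91370 = n194346 := ndS (p := 55017) (l := 0) rfl N55017 D194346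
theorem N91371 : nd 91371 = n194347 := ndS (p := 55017) (l := 1) rfl N55017 D194347
theorem N91372 : nd 91372 = n194348 := ndS (p := 55017) (l := 5) rfl N55017 D194348
theorem N91373 : nd 91373 = n194349 := ndS (p := 55017) (l := 7) rfl N55017 D194349
theorem N91374 : nd 91374 = n194350 := ndS (p := 55020) (l := 4) rfl N55020 D194350
theorem N91375 : nd 91375 = n194351 := ndS (p := 55021) (l := 0) rfl N55021 D194351
theorem N91376 : nd 91376 = n194352 := ndS (p := 55021) (l := 2) rfl N55021 D194352
theorem N91377 : nd 91377 = n194353 := ndS (p := 55021) (l := 6) rfl N55021 D194353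
theorem N91378 : nd 91378 = n194354 := ndS (p := 55022) (l := 0) rfl N55022 D194354
theorem N91379 : nd 91379 = n194356 := ndS (p := 55022) (l := 5) rfl N55022 D194356
theorem N91380 : nd 91380 = n194357 := ndS (p := 55022) (l := 7) rfl N55022 D194357
theorem N91381 : nd 91381 = n194359 := ndS (p := 55023) (l := 4) rfl N55023 D194359
theorem N91382 : nd 91382 = n194360 := ndS (p := 55023) (l := 5) rfl N55023 D194360
theorem N91383 : nd 91383 = n194361 := ndS (p := 55023) (l := 6) rfl N55023 D194361
theorem N91384 : nd 91384 = n194362 := ndS (p := 55024) (l := 4) rfl N55024 D194362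
theorem N91385 : nd 91385 = n194363 := ndS (p := 55025) (l := 0) rfl N55025 D194363
theorem N91386 : nd 91386 = n194364 := ndS (p := 55025) (l := 1) rfl N55025 D194364
theorem N91387 : nd 91387 = n194365 := ndS (p := 55025) (l := 7) rfl N55025 D194365
theorem N91388 : nd 91388 = n194366 := ndS (p := 55027) (l := 4) rfl N55027 D194366
theorem N91389 : nd 91389 = n194367 := ndS (p := 55027) (l := 6) rfl N55027 D194367
theorem N91390 : nd 91390 = n194368 := ndS (p := 55028) (l := 0) rfl N55028 D194368
theorem N91391 : nd 91391 = n194369 := ndS (p := 55028) (l := 1) rfl N55028 D194369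
theorem N91392 : nd 91392 = n194370 := ndS (p := 55028) (l := 5) rfl N55028 D194370
theorem N91393 : nd 91393 = n194371 := ndS (p := 55028) (l := 6) rfl N55028 D194371
theorem N91394 : nd 91394 = n194373 := ndS (p := 55029) (l := 7) rfl N55029 D194373
theorem N91395 : nd 91395 = n194374 := ndS (p := 55032) (l := 0) rfl N55032 D194374
theorem N91396 : nd 91396 = n194375 := ndS (p := 55032) (l := 7) rfl N55032 D194375
theorem N91397 : nd 91397 = n194376 := ndS (p := 55033) (l := 3) rfl N55033 D194376
theorem N91398 : nd 91398 = n194377 := ndS (p := 55033) (l := 5) rfl N55033 D194377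
theorem N91399 : nd 91399 = n194378 := ndS (p := 55034) (l := 5) rfl N55034 D194378
theorem N91400 : nd 91400 = n194379 := ndS (p := 55034) (l := 6) rfl N55034 D194379
theorem N91401 : nd 91401 = n194380 := ndS (p := 55037) (l := 5) rfl N55037 D194380
theorem N91402 : nd 91402 = n194381 := ndS (p := 55038) (l := 0) rfl N55038 D194381
theorem N91403 : nd 91403 = n194382 := ndS (p := 55039) (l := 1) rfl N55039 D194382
theorem N91404 : nd 91404 = n194383 := ndS (p := 55040) (l := 5) rfl N55040 D194383
theorem N91405 : nd 91405 = n194384 := ndS (p := 55040) (l := 7) rfl N55040 D194384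
theorem N91406 : nd 91406 = n194385 := ndS (p := 55041) (l := 6) rfl N55041 D194385
theorem N91407 : nd 91407 = n194386 := ndS (p := 55042) (l := 3) rfl N55042 D194386
theorem N91408 : nd 91408 = n194387 := ndS (p := 55046) (l := 0) rfl N55046 D194387
theorem N91409 : nd 91409 = n194388 := ndS (p := 55050) (l := 6) rfl N55050 D194388
theorem N91410 : nd 91410 = n194390 := ndS (p := 55051) (l := 5) rfl N55051 D194390
theorem N91411 : nd 91411 = n194391 := ndS (p := 55052) (l := 5) rfl N55052 D194391
theorem N91412 : nd 91412 = n194392 := ndS (p := 55053) (l := 6) rfl N55053 D194392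
theorem N91413 : nd 91413 = n194394 := ndS (p := 55059) (l := 6) rfl N55059 D194394
theorem N91414 : nd 91414 = n194395 := ndS (p := 55060) (l := 3) rfl N55060 D194395
theorem N91415 : nd 91415 = n194396 := ndS (p := 55062) (l := 3) rfl N55062 D194396
theorem N91416 : nd 91416 = n194397 := ndS (p := 55064) (l := 7) rfl N55064 D194397
theorem N91417 : nd 91417 = n194398 := ndS (p := 55065) (l := 6) rfl N55065 D194398
theorem N91418 : nd 91418 = n194399 := ndS (p := 55068) (l := 3) rfl N55068 D194399
theorem N91419 : nd 91419 = n194400 := ndS (p := 55073) (l := 3) rfl N55073 D194400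
theorem N91420 : nd 91420 = n194401 := ndS (p := 55075) (l := 4) rfl N55075 D194401
theorem N91421 : nd 91421 = n194402 := ndS (p := 55076) (l := 0) rfl N55076 D194402
theorem N91422 : nd 91422 = n194403 := ndS (p := 55076) (l := 7) rfl N55076 D194403
theorem N91423 : nd 91423 = n194404 := ndS (p := 55077) (l := 4) rfl N55077 D194404
theorem N91424 : nd 91424 = n194405 := ndS (p := 55077) (l := 6) rfl N55077 D194405
theorem N91425 : nd 91425 = n194406 := ndS (p := 55078) (l := 3) rfl N55078 D194406
theorem N91426 : nd 91426 = n194407 := ndS (p := 55078) (l := 6) rfl N55078 D194407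
theorem N91427 : nd 91427 = n194408 := ndS (p := 55079) (l := 0) rfl N55079 D194408
theorem N91428 : nd 91428 = n194409 := ndS (p := 55079) (l := 1) rfl N55079 D194409
theorem N91429 : nd 91429 = n194410 := ndS (p := 55079) (l := 7) rfl N55079 D194410
theorem N91430 : nd 91430 = n194411 := ndS (p := 55080) (l := 1) rfl N55080 D194411
theorem N91431 : nd 91431 = n194412 := ndS (p := 55086) (l := 4) rfl N55086 D194412
theorem N91432 : nd 91432 = n194413 := ndS (p := 55087) (l := 3) rfl N55087 D194413
theorem N91433 : nd 91433 = n194414 := ndS (p := 55088) (l := 5) rfl N55088 D194414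
theorem N91434 : nd 91434 = n194415 := ndS (p := 55089) (l := 3) rfl N55089 D194415
theorem N91435 : nd 91435 = n194416 := ndS (p := 55090) (l := 4) rfl N55090 D194416
theorem N91436 : nd 91436 = n194417 := ndS (p := 55093) (l := 7) rfl N55093 D194417
theorem N91437 : nd 91437 = n194418 := ndS (p := 55094) (l := 4) rfl N55094 D194418
theorem N91438 : nd 91438 = n194419 := ndS (p := 55094) (l := 5) rfl N55094 D194419
theorem N91439 : nd 91439 = n194420 := ndS (p := 55096) (l := 0) rfl N55096 D194420
theorem N91440 : nd 91440 = n194421 := ndS (p := 55096) (l := 1) rfl N55096 D194421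
theorem N91441 : nd 91441 = n194422 := ndS (p := 55096) (l := 7) rfl N55096 D194422
theorem N91442 : nd 91442 = n194423 := ndS (p := 55099) (l := 7) rfl N55099 D194423
theorem N91443 : nd 91443 = n194424 := ndS (p := 55100) (l := 6) rfl N55100 D194424
theorem N91444 : nd 91444 = n194425 := ndS (p := 55101) (l := 0) rfl N55101 D194425
theorem N91445 : nd 91445 = n194426 := ndS (p := 55101) (l := 1) rfl N55101 D194426
theorem N91446 : nd 91446 = n194427 := ndS (p := 55101) (l := 5) rfl N55101 D194427
theorem N91447 : nd 91447 = n194428 := ndS (p := 55101) (l := 7) rfl N55101 D194428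
theorem N91448 : nd 91448 = n194429 := ndS (p := 55102) (l := 3) rfl N55102 D194429
theorem N91449 : nd 91449 = n194430 := ndS (p := 55105) (l := 3) rfl N55105 D194430
theorem N91450 : nd 91450 = n194431 := ndS (p := 55105) (l := 6) rfl N55105 D194431
theorem N91451 : nd 91451 = n194432 := ndS (p := 55106) (l := 0) rfl N55106 D194432
theorem N91452 : nd 91452 = n194433 := ndS (p := 55106) (l := 1) rfl N55106 D194433
theorem N91453 : nd 91453 = n194434 := ndS (p := 55106) (l := 7) rfl N55106 D194434
theorem N91454 : nd 91454 = n194435 := ndS (p := 55107) (l := 5) rfl N55107 D194435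
theorem N91455 : nd 91455 = n194436 := ndS (p := 55109) (l := 6) rfl N55109 D194436
theorem N91456 : nd 91456 = n194437 := ndS (p := 55111) (l := 4) rfl N55111 D194437
theorem N91457 : nd 91457 = n194438 := ndS (p := 55113) (l := 5) rfl N55113 D194438
theorem N91458 : nd 91458 = n194439 := ndS (p := 55115) (l := 4) rfl N55115 D194439
theorem N91459 : nd 91459 = n194440 := ndS (p := 55115) (l := 6) rfl N55115 D194440
theorem N91460 : nd 91460 = n194441 := ndS (p := 55116) (l := 5) rfl N55116 D194441
theorem N91461 : nd 91461 = n194442 := ndS (p := 55116) (l := 6) rfl N55116 D194442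
theorem N91462 : nd 91462 = n194443 := ndS (p := 55117) (l := 4) rfl N55117 D194443
theorem N91463 : nd 91463 = n194444 := ndS (p := 55117) (l := 6) rfl N55117 D194444
theorem N91464 : nd 91464 = n194445 := ndS (p := 55119) (l := 4) rfl N55119 D194445
theorem N91465 : nd 91465 = n194446 := ndS (p := 55119) (l := 6) rfl N55119 D194446
theorem N91466 : nd 91466 = n194447 := ndS (p := 55120) (l := 4) rfl N55120 D194447
theorem N91467 : nd 91467 = n194448 := ndS (p := 55121) (l := 1) rfl N55121 D194448
theorem N91468 : nd 91468 = n194449 := ndS (p := 55121) (l := 3) rfl N55121 D194449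
theorem N91469 : nd 91469 = n194450 := ndS (p := 55121) (l := 5) rfl N55121 D194450
theorem N91470 : nd 91470 = n194451 := ndS (p := 55121) (l := 7) rfl N55121 D194451
theorem N91471 : nd 91471 = n194452 := ndS (p := 55122) (l := 6) rfl N55122 D194452
theorem N91472 : nd 91472 = n194453 := ndS (p := 55124) (l := 3) rfl N55124 D194453
theorem N91473 : nd 91473 = n194454 := ndS (p := 55125) (l := 1) rfl N55125 D194454
theorem N91474 : nd 91474 = n194455 := ndS (p := 55127) (l := 6) rfl N55127 D194455
theorem N91475 : nd 91475 = n194456 := ndS (p := 55130) (l := 4) rfl N55130 D194456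
theorem N91476 : nd 91476 = n194457 := ndS (p := 55131) (l := 0) rfl N55131 D194457
theorem N91477 : nd 91477 = n194458 := ndS (p := 55131) (l := 1) rfl N55131 D194458
theorem N91478 : nd 91478 = n194459 := ndS (p := 55131) (l := 3) rfl N55131 D194459
theorem N91479 : nd 91479 = n194460 := ndS (p := 55131) (l := 5) rfl N55131 D194460
theorem N91480 : nd 91480 = n194461 := ndS (p := 55131) (l := 7) rfl N55131 D194461
theorem N91481 : nd 91481 = n194462 := ndS (p := 55132) (l := 6) rfl N55132 D194462
theorem N91482 : nd 91482 = n194463 := ndS (p := 55134) (l := 0) rfl N55134 D194463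
theorem N91483 : nd 91483 = n194464 := ndS (p := 55134) (l := 1) rfl N55134 D194464
theorem N91484 : nd 91484 = n194465 := ndS (p := 55134) (l := 7) rfl N55134 D194465
theorem N91485 : nd 91485 = n194466 := ndS (p := 55136) (l := 0) rfl N55136 D194466
theorem N91486 : nd 91486 = n194467 := ndS (p := 55136) (l := 1) rfl N55136 D194467
theorem N91487 : nd 91487 = n194468 := ndS (p := 55137) (l := 6) rfl N55137 D194468
theorem N91488 : nd 91488 = n194469 := ndS (p := 55138) (l := 2) rfl N55138 D194469
theorem N91489 : nd 91489 = n194470 := ndS (p := 55138) (l := 7) rfl N55138 D194470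
theorem N91490 : nd 91490 = n194471 := ndS (p := 55139) (l := 6) rfl N55139 D194471
theorem N91491 : nd 91491 = n194472 := ndS (p := 55140) (l := 0) rfl N55140 D194472
theorem N91492 : nd 91492 = n194473 := ndS (p := 55140) (l := 1) rfl N55140 D194473
theorem N91493 : nd 91493 = n194474 := ndS (p := 55142) (l := 0) rfl N55142 D194474
theorem N91494 : nd 91494 = n194475 := ndS (p := 55142) (l := 1) rfl N55142 D194475
theorem N91495 : nd 91495 = n194476 := ndS (p := 55142) (l := 7) rfl N55142 D194476
theorem N91496 : nd 91496 = n194477 := ndS (p := 55143) (l := 6) rfl N55143 D194477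
theorem N91497 : nd 91497 = n194478 := ndS (p := 55144) (l := 0) rfl N55144 D194478
theorem N91498 : nd 91498 = n194479 := ndS (p := 55144) (l := 7) rfl N55144 D194479
theorem N91499 : nd 91499 = n194480 := ndS (p := 55145) (l := 1) rfl N55145 D194480
theorem N91500 : nd 91500 = n194481 := ndS (p := 55145) (l := 2) rfl N55145 D194481
theorem N91501 : nd 91501 = n194482 := ndS (p := 55147) (l := 4) rfl N55147 D194482
theorem N91502 : nd 91502 = n194483 := ndS (p := 55150) (l := 4) rfl N55150 D194483
theorem N91503 : nd 91503 = n194484 := ndS (p := 55152) (l := 4) rfl N55152 D194484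
theorem N91504 : nd 91504 = n194485 := ndS (p := 55152) (l := 6) rfl N55152 D194485
theorem N91505 : nd 91505 = n194486 := ndS (p := 55155) (l := 3) rfl N55155 D194486
theorem N91506 : nd 91506 = n194487 := ndS (p := 55155) (l := 4) rfl N55155 D194487
theorem N91507 : nd 91507 = n194488 := ndS (p := 55155) (l := 6) rfl N55155 D194488
theorem N91508 : nd 91508 = n194489 := ndS (p := 55156) (l := 4) rfl N55156 D194489
theorem N91509 : nd 91509 = n194490 := ndS (p := 55157) (l := 1) rfl N55157 D194490
theorem N91510 : nd 91510 = n194491 := ndS (p := 55157) (l := 3) rfl N55157 D194491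
theorem N91511 : nd 91511 = n194492 := ndS (p := 55157) (l := 5) rfl N55157 D194492
theorem N91512 : nd 91512 = n194493 := ndS (p := 55158) (l := 4) rfl N55158 D194493
theorem N91513 : nd 91513 = n194494 := ndS (p := 55158) (l := 6) rfl N55158 D194494
theorem N91514 : nd 91514 = n194495 := ndS (p := 55160) (l := 0) rfl N55160 D194495
theorem N91515 : nd 91515 = n194496 := ndS (p := 55160) (l := 1) rfl N55160 D194496
theorem N91516 : nd 91516 = n194497 := ndS (p := 55160) (l := 2) rfl N55160 D194497
theorem N91517 : nd 91517 = n194498 := ndS (p := 55164) (l := 7) rfl N55164 D194498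
theorem N91518 : nd 91518 = n194499 := ndS (p := 55166) (l := 4) rfl N55166 D194499
theorem N91519 : nd 91519 = n194500 := ndS (p := 55166) (l := 6) rfl N55166 D194500
theorem N91520 : nd 91520 = n194501 := ndS (p := 55169) (l := 0) rfl N55169 D194501
theorem N91521 : nd 91521 = n194502 := ndS (p := 55169) (l := 1) rfl N55169 D194502
theorem N91522 : nd 91522 = n194503 := ndS (p := 55169) (l := 7) rfl N55169 D194503
theorem N91523 : nd 91523 = n194504 := ndS (p := 55170) (l := 6) rfl N55170 D194504
theorem N91524 : nd 91524 = n194505 := ndS (p := 55172) (l := 4) rfl N55172 D194505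
theorem N91525 : nd 91525 = n194506 := ndS (p := 55173) (l := 0) rfl N55173 D194506
theorem N91526 : nd 91526 = n194507 := ndS (p := 55174) (l := 0) rfl N55174 D194507
theorem N91527 : nd 91527 = n194508 := ndS (p := 55176) (l := 0) rfl N55176 D194508
theorem N91528 : nd 91528 = n194509 := ndS (p := 55176) (l := 1) rfl N55176 D194509
theorem N91529 : nd 91529 = n194510 := ndS (p := 55177) (l := 6) rfl N55177 D194510
theorem N91530 : nd 91530 = n194511 := ndS (p := 55183) (l := 3) rfl N55183 D194511
theorem N91531 : nd 91531 = n194512 := ndS (p := 55184) (l := 0) rfl N55184 D194512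
theorem N91532 : nd 91532 = n194513 := ndS (p := 55184) (l := 4) rfl N55184 D194513
theorem N91533 : nd 91533 = n194514 := ndS (p := 55184) (l := 7) rfl N55184 D194514
theorem N91534 : nd 91534 = n194515 := ndS (p := 55186) (l := 0) rfl N55186 D194515
theorem N91535 : nd 91535 = n194516 := ndS (p := 55186) (l := 2) rfl N55186 D194516
theorem N91536 : nd 91536 = n194517 := ndS (p := 55187) (l := 1) rfl N55187 D194517
theorem N91537 : nd 91537 = n194518 := ndS (p := 55189) (l := 1) rfl N55189 D194518
theorem N91538 : nd 91538 = n194519 := ndS (p := 55189) (l := 2) rfl N55189 D194519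
theorem N91539 : nd 91539 = n194520 := ndS (p := 55189) (l := 4) rfl N55189 D194520
theorem N91540 : nd 91540 = n194521 := ndS (p := 55189) (l := 5) rfl N55189 D194521
theorem N91541 : nd 91541 = n194522 := ndS (p := 55189) (l := 6) rfl N55189 D194522
theorem N91542 : nd 91542 = n194523 := ndS (p := 55190) (l := 4) rfl N55190 D194523
theorem N91543 : nd 91543 = n194524 := ndS (p := 55193) (l := 3) rfl N55193 D194524
theorem N91544 : nd 91544 = n194525 := ndS (p := 55194) (l := 0) rfl N55194 D194525
theorem N91545 : nd 91545 = n194526 := ndS (p := 55194) (l := 3) rfl N55194 D194526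
theorem N91546 : nd 91546 = n194527 := ndS (p := 55194) (l := 5) rfl N55194 D194527
theorem N91547 : nd 91547 = n194528 := ndS (p := 55194) (l := 7) rfl N55194 D194528
theorem N91548 : nd 91548 = n194529 := ndS (p := 55196) (l := 4) rfl N55196 D194529
theorem N91549 : nd 91549 = n194530 := ndS (p := 55199) (l := 0) rfl N55199 D194530
theorem N91550 : nd 91550 = n194531 := ndS (p := 55202) (l := 4) rfl N55202 D194531
theorem N91551 : nd 91551 = n194532 := ndS (p := 55202) (l := 6) rfl N55202 D194532
theorem N91552 : nd 91552 = n194533 := ndS (p := 55203) (l := 4) rfl N55203 D194533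
theorem N91553 : nd 91553 = n194534 := ndS (p := 55204) (l := 1) rfl N55204 D194534
theorem N91554 : nd 91554 = n194535 := ndS (p := 55208) (l := 6) rfl N55208 D194535
theorem N91555 : nd 91555 = n194536 := ndS (p := 55209) (l := 3) rfl N55209 D194536
theorem N91556 : nd 91556 = n194537 := ndS (p := 55209) (l := 6) rfl N55209 D194537
theorem N91557 : nd 91557 = n194538 := ndS (p := 55211) (l := 0) rfl N55211 D194538
theorem N91558 : nd 91558 = n194539 := ndS (p := 55211) (l := 7) rfl N55211 D194539
theorem N91559 : nd 91559 = n194540 := ndS (p := 55212) (l := 1) rfl N55212 D194540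
theorem N91560 : nd 91560 = n194541 := ndS (p := 55212) (l := 2) rfl N55212 D194541
theorem N91561 : nd 91561 = n194542 := ndS (p := 55213) (l := 5) rfl N55213 D194542
theorem N91562 : nd 91562 = n194543 := ndS (p := 55214) (l := 5) rfl N55214 D194543
theorem N91563 : nd 91563 = n194544 := ndS (p := 55215) (l := 5) rfl N55215 D194544
theorem N91564 : nd 91564 = n194545 := ndS (p := 55220) (l := 5) rfl N55220 D194545
theorem N91565 : nd 91565 = n194546 := ndS (p := 55220) (l := 6) rfl N55220 D194546
theorem N91566 : nd 91566 = n194547 := ndS (p := 55221) (l := 7) rfl N55221 D194547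
theorem N91567 : nd 91567 = n194548 := ndS (p := 55222) (l := 5) rfl N55222 D194548
theorem N91568 : nd 91568 = n194549 := ndS (p := 55223) (l := 3) rfl N55223 D194549
theorem N91569 : nd 91569 = n194550 := ndS (p := 55223) (l := 5) rfl N55223 D194550
theorem N91570 : nd 91570 = n194551 := ndS (p := 55223) (l := 6) rfl N55223 D194551
theorem N91571 : nd 91571 = n194552 := ndS (p := 55224) (l := 3) rfl N55224 D194552
theorem N91572 : nd 91572 = n194553 := ndS (p := 55224) (l := 5) rfl N55224 D194553
theorem N91573 : nd 91573 = n194554 := ndS (p := 55224) (l := 6) rfl N55224 D194554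
theorem N91574 : nd 91574 = n194555 := ndS (p := 55225) (l := 2) rfl N55225 D194555
theorem N91575 : nd 91575 = n194556 := ndS (p := 55225) (l := 7) rfl N55225 D194556
theorem N91576 : nd 91576 = n194557 := ndS (p := 55226) (l := 1) rfl N55226 D194557
theorem N91577 : nd 91577 = n194558 := ndS (p := 55226) (l := 4) rfl N55226 D194558
theorem N91578 : nd 91578 = n194559 := ndS (p := 55226) (l := 7) rfl N55226 D194559
theorem N91579 : nd 91579 = n194560 := ndS (p := 55227) (l := 6) rfl N55227 D194560
theorem N91580 : nd 91580 = n194561 := ndS (p := 55230) (l := 4) rfl N55230 D194561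
theorem N91581 : nd 91581 = n194562 := ndS (p := 55230) (l := 6) rfl N55230 D194562
theorem N91582 : nd 91582 = n194563 := ndS (p := 55231) (l := 0) rfl N55231 D194563
theorem N91583 : nd 91583 = n194564 := ndS (p := 55231) (l := 1) rfl N55231 D194564
theorem N91584 : nd 91584 = n194565 := ndS (p := 55231) (l := 7) rfl N55231 D194565
theorem N91585 : nd 91585 = n194566 := ndS (p := 55232) (l := 3) rfl N55232 D194566
theorem N91586 : nd 91586 = n194567 := ndS (p := 55232) (l := 6) rfl N55232 D194567
theorem N91587 : nd 91587 = n194568 := ndS (p := 55233) (l := 3) rfl N55233 D194568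
theorem N91588 : nd 91588 = n194569 := ndS (p := 55234) (l := 5) rfl N55234 D194569
theorem N91589 : nd 91589 = n194570 := ndS (p := 55235) (l := 3) rfl N55235 D194570
theorem N91590 : nd 91590 = n194571 := ndS (p := 55235) (l := 5) rfl N55235 D194571
theorem N91591 : nd 91591 = n194572 := ndS (p := 55236) (l := 4) rfl N55236 D194572
theorem N91592 : nd 91592 = n194573 := ndS (p := 55236) (l := 5) rfl N55236 D194573
theorem N91593 : nd 91593 = n194574 := ndS (p := 55236) (l := 6) rfl N55236 D194574
theorem N91594 : nd 91594 = n194575 := ndS (p := 55240) (l := 6) rfl N55240 D194575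
theorem N91595 : nd 91595 = n194576 := ndS (p := 55242) (l := 3) rfl N55242 D194576
theorem N91596 : nd 91596 = n194577 := ndS (p := 55245) (l := 0) rfl N55245 D194577
theorem N91597 : nd 91597 = n194578 := ndS (p := 55245) (l := 1) rfl N55245 D194578
theorem N91598 : nd 91598 = n194579 := ndS (p := 55245) (l := 5) rfl N55245 D194579
theorem N91599 : nd 91599 = n194580 := ndS (p := 55246) (l := 4) rfl N55246 D194580
theorem N91600 : nd 91600 = n194581 := ndS (p := 55246) (l := 5) rfl N55246 D194581
theorem N91601 : nd 91601 = n194582 := ndS (p := 55246) (l := 6) rfl N55246 D194582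
theorem N91602 : nd 91602 = n194583 := ndS (p := 55247) (l := 3) rfl N55247 D194583
theorem N91603 : nd 91603 = n194584 := ndS (p := 55247) (l := 4) rfl N55247 D194584
theorem N91604 : nd 91604 = n194585 := ndS (p := 55250) (l := 3) rfl N55250 D194585
theorem N91605 : nd 91605 = n194586 := ndS (p := 55250) (l := 6) rfl N55250 D194586
theorem N91606 : nd 91606 = n194587 := ndS (p := 55252) (l := 3) rfl N55252 D194587
theorem N91607 : nd 91607 = n194588 := ndS (p := 55252) (l := 4) rfl N55252 D194588
theorem N91608 : nd 91608 = n194589 := ndS (p := 55253) (l := 4) rfl N55253 D194589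
theorem N91609 : nd 91609 = n194590 := ndS (p := 55253) (l := 6) rfl N55253 D194590
theorem N91610 : nd 91610 = n194591 := ndS (p := 55257) (l := 7) rfl N55257 D194591
theorem N91611 : nd 91611 = n194592 := ndS (p := 55260) (l := 5) rfl N55260 D194592
theorem N91612 : nd 91612 = n194593 := ndS (p := 55262) (l := 0) rfl N55262 D194593
theorem N91613 : nd 91613 = n194594 := ndS (p := 55265) (l := 0) rfl N55265 D194594
theorem N91614 : nd 91614 = n194595 := ndS (p := 55265) (l := 1) rfl N55265 D194595
theorem N91615 : nd 91615 = n194596 := ndS (p := 55265) (l := 5) rfl N55265 D194596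
theorem N91616 : nd 91616 = n194598 := ndS (p := 55266) (l := 3) rfl N55266 D194598
theorem N91617 : nd 91617 = n194599 := ndS (p := 55266) (l := 4) rfl N55266 D194599
theorem N91618 : nd 91618 = n194600 := ndS (p := 55266) (l := 5) rfl N55266 D194600
theorem N91619 : nd 91619 = n194601 := ndS (p := 55266) (l := 6) rfl N55266 D194601
theorem N91620 : nd 91620 = n194604 := ndS (p := 55267) (l := 4) rfl N55267 D194604
theorem N91621 : nd 91621 = n194605 := ndS (p := 55267) (l := 5) rfl N55267 D194605
theorem N91622 : nd 91622 = n194607 := ndS (p := 55269) (l := 0) rfl N55269 D194607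
theorem N91623 : nd 91623 = n194608 := ndS (p := 55269) (l := 1) rfl N55269 D194608
theorem N91624 : nd 91624 = n194609 := ndS (p := 55269) (l := 6) rfl N55269 D194609
theorem N91625 : nd 91625 = n194610 := ndS (p := 55270) (l := 3) rfl N55270 D194610
theorem N91626 : nd 91626 = n194611 := ndS (p := 55270) (l := 6) rfl N55270 D194611
theorem N91627 : nd 91627 = n194612 := ndS (p := 55271) (l := 0) rfl N55271 D194612
theorem N91628 : nd 91628 = n194613 := ndS (p := 55271) (l := 1) rfl N55271 D194613
theorem N91629 : nd 91629 = n194614 := ndS (p := 55271) (l := 7) rfl N55271 D194614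
theorem N91630 : nd 91630 = n194615 := ndS (p := 55272) (l := 6) rfl N55272 D194615
theorem N91631 : nd 91631 = n194616 := ndS (p := 55274) (l := 6) rfl N55274 D194616
theorem N91632 : nd 91632 = n194617 := ndS (p := 55275) (l := 3) rfl N55275 D194617
theorem N91633 : nd 91633 = n194618 := ndS (p := 55275) (l := 6) rfl N55275 D194618
theorem N91634 : nd 91634 = n194619 := ndS (p := 55277) (l := 6) rfl N55277 D194619
theorem N91635 : nd 91635 = n194620 := ndS (p := 55278) (l := 3) rfl N55278 D194620
theorem N91636 : nd 91636 = n194621 := ndS (p := 55278) (l := 6) rfl N55278 D194621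
theorem N91637 : nd 91637 = n194622 := ndS (p := 55279) (l := 0) rfl N55279 D194622
theorem N91638 : nd 91638 = n194623 := ndS (p := 55279) (l := 1) rfl N55279 D194623
theorem N91639 : nd 91639 = n194624 := ndS (p := 55279) (l := 7) rfl N55279 D194624
theorem N91640 : nd 91640 = n194625 := ndS (p := 55281) (l := 3) rfl N55281 D194625
theorem N91641 : nd 91641 = n194626 := ndS (p := 55281) (l := 6) rfl N55281 D194626
theorem N91642 : nd 91642 = n194627 := ndS (p := 55282) (l := 0) rfl N55282 D194627
theorem N91643 : nd 91643 = n194628 := ndS (p := 55282) (l := 1) rfl N55282 D194628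
theorem N91644 : nd 91644 = n194629 := ndS (p := 55283) (l := 1) rfl N55283 D194629
theorem N91645 : nd 91645 = n194630 := ndS (p := 55283) (l := 6) rfl N55283 D194630
theorem N91646 : nd 91646 = n194631 := ndS (p := 55284) (l := 7) rfl N55284 D194631
theorem N91647 : nd 91647 = n194632 := ndS (p := 55285) (l := 3) rfl N55285 D194632
theorem N91648 : nd 91648 = n194633 := ndS (p := 55285) (l := 5) rfl N55285 D194633
theorem N91649 : nd 91649 = n194634 := ndS (p := 55286) (l := 5) rfl N55286 D194634
theorem N91650 : nd 91650 = n194635 := ndS (p := 55286) (l := 6) rfl N55286 D194635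
theorem N91651 : nd 91651 = n194636 := ndS (p := 55289) (l := 6) rfl N55289 D194636
theorem N91652 : nd 91652 = n194637 := ndS (p := 55290) (l := 6) rfl N55290 D194637
theorem N91653 : nd 91653 = n194638 := ndS (p := 55291) (l := 0) rfl N55291 D194638
theorem N91654 : nd 91654 = n194639 := ndS (p := 55291) (l := 1) rfl N55291 D194639
theorem N91655 : nd 91655 = n194640 := ndS (p := 55291) (l := 5) rfl N55291 D194640
theorem N91656 : nd 91656 = n194641 := ndS (p := 55291) (l := 7) rfl N55291 D194641
theorem N91657 : nd 91657 = n194642 := ndS (p := 55294) (l := 6) rfl N55294 D194642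
theorem N91658 : nd 91658 = n194643 := ndS (p := 55295) (l := 5) rfl N55295 D194643
theorem N91659 : nd 91659 = n194644 := ndS (p := 55295) (l := 7) rfl N55295 D194644
theorem N91660 : nd 91660 = n194645 := ndS (p := 55296) (l := 4) rfl N55296 D194645
theorem N91661 : nd 91661 = n194646 := ndS (p := 55296) (l := 5) rfl N55296 D194646
theorem N91662 : nd 91662 = n194647 := ndS (p := 55296) (l := 6) rfl N55296 D194647
theorem N91663 : nd 91663 = n194648 := ndS (p := 55297) (l := 3) rfl N55297 D194648
theorem N91664 : nd 91664 = n194649 := ndS (p := 55297) (l := 4) rfl N55297 D194649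
theorem N91665 : nd 91665 = n194650 := ndS (p := 55298) (l := 0) rfl N55298 D194650
theorem N91666 : nd 91666 = n194651 := ndS (p := 55298) (l := 1) rfl N55298 D194651
theorem N91667 : nd 91667 = n194652 := ndS (p := 55298) (l := 7) rfl N55298 D194652
theorem N91668 : nd 91668 = n194653 := ndS (p := 55300) (l := 0) rfl N55300 D194653
theorem N91669 : nd 91669 = n194654 := ndS (p := 55302) (l := 3) rfl N55302 D194654
theorem N91670 : nd 91670 = n194655 := ndS (p := 55304) (l := 4) rfl N55304 D194655
theorem N91671 : nd 91671 = n194656 := ndS (p := 55304) (l := 6) rfl N55304 D194656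
theorem N91672 : nd 91672 = n194657 := ndS (p := 55305) (l := 0) rfl N55305 D194657
theorem N91673 : nd 91673 = n194658 := ndS (p := 55305) (l := 1) rfl N55305 D194658
theorem N91674 : nd 91674 = n194659 := ndS (p := 55305) (l := 7) rfl N55305 D194659
theorem N91675 : nd 91675 = n194660 := ndS (p := 55307) (l := 6) rfl N55307 D194660
theorem N91676 : nd 91676 = n194661 := ndS (p := 55309) (l := 1) rfl N55309 D194661
theorem N91677 : nd 91677 = n194662 := ndS (p := 55309) (l := 7) rfl N55309 D194662
theorem N91678 : nd 91678 = n194663 := ndS (p := 55310) (l := 4) rfl N55310 D194663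
theorem N91679 : nd 91679 = n194664 := ndS (p := 55311) (l := 3) rfl N55311 D194664
theorem N91680 : nd 91680 = n194665 := ndS (p := 55313) (l := 3) rfl N55313 D194665
theorem N91681 : nd 91681 = n194666 := ndS (p := 55315) (l := 6) rfl N55315 D194666
theorem N91682 : nd 91682 = n194667 := ndS (p := 55318) (l := 0) rfl N55318 D194667
theorem N91683 : nd 91683 = n194668 := ndS (p := 55318) (l := 1) rfl N55318 D194668
theorem N91684 : nd 91684 = n194670 := ndS (p := 55319) (l := 3) rfl N55319 D194670
theorem N91685 : nd 91685 = n194671 := ndS (p := 55319) (l := 4) rfl N55319 D194671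
theorem N91686 : nd 91686 = n194672 := ndS (p := 55319) (l := 5) rfl N55319 D194672
theorem N91687 : nd 91687 = n194673 := ndS (p := 55319) (l := 6) rfl N55319 D194673
theorem N91688 : nd 91688 = n194674 := ndS (p := 55320) (l := 3) rfl N55320 D194674
theorem N91689 : nd 91689 = n194675 := ndS (p := 55320) (l := 4) rfl N55320 D194675
theorem N91690 : nd 91690 = n194676 := ndS (p := 55320) (l := 5) rfl N55320 D194676
theorem N91691 : nd 91691 = n194677 := ndS (p := 55320) (l := 6) rfl N55320 D194677
theorem N91692 : nd 91692 = n194678 := ndS (p := 55322) (l := 4) rfl N55322 D194678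
theorem N91693 : nd 91693 = n194679 := ndS (p := 55323) (l := 4) rfl N55323 D194679
theorem N91694 : nd 91694 = n194680 := ndS (p := 55324) (l := 0) rfl N55324 D194680
theorem N91695 : nd 91695 = n194681 := ndS (p := 55324) (l := 1) rfl N55324 D194681
theorem N91696 : nd 91696 = n194682 := ndS (p := 55325) (l := 3) rfl N55325 D194682
theorem N91697 : nd 91697 = n194683 := ndS (p := 55325) (l := 6) rfl N55325 D194683
theorem N91698 : nd 91698 = n194684 := ndS (p := 55326) (l := 3) rfl N55326 D194684
theorem N91699 : nd 91699 = n194685 := ndS (p := 55326) (l := 6) rfl N55326 D194685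
theorem N91700 : nd 91700 = n194686 := ndS (p := 55328) (l := 0) rfl N55328 D194686
theorem N91701 : nd 91701 = n194687 := ndS (p := 55328) (l := 1) rfl N55328 D194687
theorem N91702 : nd 91702 = n194688 := ndS (p := 55328) (l := 5) rfl N55328 D194688
theorem N91703 : nd 91703 = n194689 := ndS (p := 55329) (l := 3) rfl N55329 D194689
theorem N91704 : nd 91704 = n194690 := ndS (p := 55329) (l := 6) rfl N55329 D194690
theorem N91705 : nd 91705 = n194691 := ndS (p := 55330) (l := 3) rfl N55330 D194691
theorem N91706 : nd 91706 = n194692 := ndS (p := 55333) (l := 4) rfl N55333 D194692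
theorem N91707 : nd 91707 = n194693 := ndS (p := 55334) (l := 3) rfl N55334 D194693
theorem N91708 : nd 91708 = n194694 := ndS (p := 55335) (l := 5) rfl N55335 D194694
theorem N91709 : nd 91709 = n194695 := ndS (p := 55336) (l := 4) rfl N55336 D194695
theorem N91710 : nd 91710 = n194696 := ndS (p := 55336) (l := 6) rfl N55336 D194696
theorem N91711 : nd 91711 = n194697 := ndS (p := 55341) (l := 5) rfl N55341 D194697
theorem N91712 : nd 91712 = n194698 := ndS (p := 55342) (l := 6) rfl N55342 D194698
theorem N91713 : nd 91713 = n194699 := ndS (p := 55343) (l := 6) rfl N55343 D194699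
theorem N91714 : nd 91714 = n194700 := ndS (p := 55344) (l := 0) rfl N55344 D194700
theorem N91715 : nd 91715 = n194701 := ndS (p := 55344) (l := 1) rfl N55344 D194701
theorem N91716 : nd 91716 = n194702 := ndS (p := 55344) (l := 7) rfl N55344 D194702
theorem N91717 : nd 91717 = n194703 := ndS (p := 55346) (l := 6) rfl N55346 D194703
theorem N91718 : nd 91718 = n194704 := ndS (p := 55347) (l := 0) rfl N55347 D194704
theorem N91719 : nd 91719 = n194705 := ndS (p := 55347) (l := 1) rfl N55347 D194705
theorem N91720 : nd 91720 = n194706 := ndS (p := 55347) (l := 7) rfl N55347 D194706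
theorem N91721 : nd 91721 = n194707 := ndS (p := 55348) (l := 0) rfl N55348 D194707
theorem N91722 : nd 91722 = n194708 := ndS (p := 55348) (l := 7) rfl N55348 D194708
theorem N91723 : nd 91723 = n194709 := ndS (p := 55349) (l := 4) rfl N55349 D194709
theorem N91724 : nd 91724 = n194710 := ndS (p := 55351) (l := 0) rfl N55351 D194710
theorem N91725 : nd 91725 = n194711 := ndS (p := 55353) (l := 5) rfl N55353 D194711
theorem N91726 : nd 91726 = n194712 := ndS (p := 55354) (l := 4) rfl N55354 D194712
theorem N91727 : nd 91727 = n194713 := ndS (p := 55355) (l := 5) rfl N55355 D194713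
theorem N91728 : nd 91728 = n194714 := ndS (p := 55355) (l := 7) rfl N55355 D194714
theorem N91729 : nd 91729 = n194715 := ndS (p := 55357) (l := 3) rfl N55357 D194715
theorem N91730 : nd 91730 = n194716 := ndS (p := 55358) (l := 7) rfl N55358 D194716
theorem N91731 : nd 91731 = n194717 := ndS (p := 55359) (l := 0) rfl N55359 D194717
theorem N91732 : nd 91732 = n194718 := ndS (p := 55359) (l := 7) rfl N55359 D194718
theorem N91733 : nd 91733 = n194719 := ndS (p := 55361) (l := 0) rfl N55361 D194719
theorem N91734 : nd 91734 = n194720 := ndS (p := 55361) (l := 7) rfl N55361 D194720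
theorem N91735 : nd 91735 = n194721 := ndS (p := 55363) (l := 4) rfl N55363 D194721
theorem N91736 : nd 91736 = n194722 := ndS (p := 55364) (l := 6) rfl N55364 D194722
theorem N91737 : nd 91737 = n194723 := ndS (p := 55365) (l := 3) rfl N55365 D194723
theorem N91738 : nd 91738 = n194724 := ndS (p := 55365) (l := 6) rfl N55365 D194724
theorem N91739 : nd 91739 = n194725 := ndS (p := 55366) (l := 0) rfl N55366 D194725
theorem N91740 : nd 91740 = n194726 := ndS (p := 55371) (l := 6) rfl N55371 D194726
theorem N91741 : nd 91741 = n194727 := ndS (p := 55372) (l := 3) rfl N55372 D194727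
theorem N91742 : nd 91742 = n194728 := ndS (p := 55372) (l := 6) rfl N55372 D194728
theorem N91743 : nd 91743 = n194729 := ndS (p := 55373) (l := 0) rfl N55373 D194729
theorem N91744 : nd 91744 = n194730 := ndS (p := 55373) (l := 7) rfl N55373 D194730
theorem N91745 : nd 91745 = n194731 := ndS (p := 55375) (l := 0) rfl N55375 D194731
theorem N91746 : nd 91746 = n194732 := ndS (p := 55375) (l := 1) rfl N55375 D194732
theorem N91747 : nd 91747 = n194733 := ndS (p := 55375) (l := 7) rfl N55375 D194733
theorem N91748 : nd 91748 = n194734 := ndS (p := 55377) (l := 5) rfl N55377 D194734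
theorem N91749 : nd 91749 = n194735 := ndS (p := 55378) (l := 3) rfl N55378 D194735
theorem N91750 : nd 91750 = n194736 := ndS (p := 55378) (l := 4) rfl N55378 D194736
theorem N91751 : nd 91751 = n194737 := ndS (p := 55378) (l := 6) rfl N55378 D194737
theorem N91752 : nd 91752 = n194738 := ndS (p := 55380) (l := 0) rfl N55380 D194738
theorem N91753 : nd 91753 = n194739 := ndS (p := 55380) (l := 1) rfl N55380 D194739
theorem N91754 : nd 91754 = n194740 := ndS (p := 55381) (l := 1) rfl N55381 D194740
theorem N91755 : nd 91755 = n194741 := ndS (p := 55381) (l := 3) rfl N55381 D194741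
theorem N91756 : nd 91756 = n194742 := ndS (p := 55381) (l := 5) rfl N55381 D194742
theorem N91757 : nd 91757 = n194743 := ndS (p := 55382) (l := 0) rfl N55382 D194743
theorem N91758 : nd 91758 = n194744 := ndS (p := 55382) (l := 1) rfl N55382 D194744
theorem N91759 : nd 91759 = n194745 := ndS (p := 55383) (l := 5) rfl N55383 D194745
theorem N91760 : nd 91760 = n194746 := ndS (p := 55384) (l := 3) rfl N55384 D194746
theorem N91761 : nd 91761 = n194747 := ndS (p := 55385) (l := 5) rfl N55385 D194747
theorem N91762 : nd 91762 = n194748 := ndS (p := 55386) (l := 4) rfl N55386 D194748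
theorem N91763 : nd 91763 = n194749 := ndS (p := 55386) (l := 6) rfl N55386 D194749
theorem N91764 : nd 91764 = n194750 := ndS (p := 55387) (l := 1) rfl N55387 D194750
theorem N91765 : nd 91765 = n194751 := ndS (p := 55387) (l := 7) rfl N55387 D194751
theorem N91766 : nd 91766 = n194752 := ndS (p := 55388) (l := 4) rfl N55388 D194752
theorem N91767 : nd 91767 = n194753 := ndS (p := 55389) (l := 5) rfl N55389 D194753
theorem N91768 : nd 91768 = n194754 := ndS (p := 55390) (l := 4) rfl N55390 D194754
theorem N91769 : nd 91769 = n194755 := ndS (p := 55391) (l := 6) rfl N55391 D194755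
theorem N91770 : nd 91770 = n194756 := ndS (p := 55392) (l := 0) rfl N55392 D194756
theorem N91771 : nd 91771 = n194757 := ndS (p := 55392) (l := 1) rfl N55392 D194757
theorem N91772 : nd 91772 = n194758 := ndS (p := 55392) (l := 5) rfl N55392 D194758
theorem N91773 : nd 91773 = n194760 := ndS (p := 55393) (l := 3) rfl N55393 D194760
theorem N91774 : nd 91774 = n194761 := ndS (p := 55393) (l := 4) rfl N55393 D194761
theorem N91775 : nd 91775 = n194762 := ndS (p := 55393) (l := 5) rfl N55393 D194762
theorem N91776 : nd 91776 = n194763 := ndS (p := 55393) (l := 6) rfl N55393 D194763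
theorem N91777 : nd 91777 = n194765 := ndS (p := 55394) (l := 3) rfl N55394 D194765
theorem N91778 : nd 91778 = n194766 := ndS (p := 55394) (l := 4) rfl N55394 D194766
theorem N91779 : nd 91779 = n194767 := ndS (p := 55394) (l := 5) rfl N55394 D194767
theorem N91780 : nd 91780 = n194768 := ndS (p := 55394) (l := 6) rfl N55394 D194768
theorem N91781 : nd 91781 = n194769 := ndS (p := 55396) (l := 6) rfl N55396 D194769
theorem N91782 : nd 91782 = n194770 := ndS (p := 55398) (l := 1) rfl N55398 D194770
theorem N91783 : nd 91783 = n194771 := ndS (p := 55398) (l := 7) rfl N55398 D194771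
theorem N91784 : nd 91784 = n194772 := ndS (p := 55399) (l := 2) rfl N55399 D194772
theorem N91785 : nd 91785 = n194773 := ndS (p := 55400) (l := 6) rfl N55400 D194773
theorem N91786 : nd 91786 = n194774 := ndS (p := 55401) (l := 1) rfl N55401 D194774
theorem N91787 : nd 91787 = n194775 := ndS (p := 55401) (l := 7) rfl N55401 D194775
theorem N91788 : nd 91788 = n194776 := ndS (p := 55402) (l := 3) rfl N55402 D194776
theorem N91789 : nd 91789 = n194777 := ndS (p := 55403) (l := 6) rfl N55403 D194777
theorem N91790 : nd 91790 = n194778 := ndS (p := 55404) (l := 0) rfl N55404 D194778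
theorem N91791 : nd 91791 = n194779 := ndS (p := 55404) (l := 1) rfl N55404 D194779
theorem N91792 : nd 91792 = n194780 := ndS (p := 55405) (l := 0) rfl N55405 D194780
theorem N91793 : nd 91793 = n194781 := ndS (p := 55407) (l := 4) rfl N55407 D194781
theorem N91794 : nd 91794 = n194782 := ndS (p := 55409) (l := 2) rfl N55409 D194782
theorem N91795 : nd 91795 = n194783 := ndS (p := 55411) (l := 3) rfl N55411 D194783
theorem N91796 : nd 91796 = n194784 := ndS (p := 55411) (l := 6) rfl N55411 D194784
theorem N91797 : nd 91797 = n194785 := ndS (p := 55412) (l := 5) rfl N55412 D194785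
theorem N91798 : nd 91798 = n194786 := ndS (p := 55413) (l := 6) rfl N55413 D194786
theorem N91799 : nd 91799 = n194787 := ndS (p := 55415) (l := 3) rfl N55415 D194787
theorem N91800 : nd 91800 = n194788 := ndS (p := 55417) (l := 3) rfl N55417 D194788
theorem N91801 : nd 91801 = n194789 := ndS (p := 55417) (l := 6) rfl N55417 D194789
theorem N91802 : nd 91802 = n194790 := ndS (p := 55418) (l := 1) rfl N55418 D194790
theorem N91803 : nd 91803 = n194791 := ndS (p := 55418) (l := 7) rfl N55418 D194791
theorem N91804 : nd 91804 = n194792 := ndS (p := 55419) (l := 0) rfl N55419 D194792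
theorem N91805 : nd 91805 = n194793 := ndS (p := 55419) (l := 4) rfl N55419 D194793
theorem N91806 : nd 91806 = n194794 := ndS (p := 55419) (l := 6) rfl N55419 D194794
theorem N91807 : nd 91807 = n194795 := ndS (p := 55420) (l := 6) rfl N55420 D194795
theorem N91808 : nd 91808 = n194796 := ndS (p := 55421) (l := 4) rfl N55421 D194796
theorem N91809 : nd 91809 = n194797 := ndS (p := 55421) (l := 6) rfl N55421 D194797
theorem N91810 : nd 91810 = n194798 := ndS (p := 55423) (l := 4) rfl N55423 D194798
theorem N91811 : nd 91811 = n194799 := ndS (p := 55423) (l := 6) rfl N55423 D194799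
theorem N91812 : nd 91812 = n194800 := ndS (p := 55424) (l := 6) rfl N55424 D194800
theorem N91813 : nd 91813 = n194801 := ndS (p := 55425) (l := 3) rfl N55425 D194801
theorem N91814 : nd 91814 = n194802 := ndS (p := 55425) (l := 6) rfl N55425 D194802
theorem N91815 : nd 91815 = n194803 := ndS (p := 55426) (l := 1) rfl N55426 D194803
theorem N91816 : nd 91816 = n194804 := ndS (p := 55426) (l := 3) rfl N55426 D194804
theorem N91817 : nd 91817 = n194805 := ndS (p := 55426) (l := 5) rfl N55426 D194805
theorem N91818 : nd 91818 = n194806 := ndS (p := 55426) (l := 6) rfl N55426 D194806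
theorem N91819 : nd 91819 = n194807 := ndS (p := 55427) (l := 0) rfl N55427 D194807
theorem N91820 : nd 91820 = n194808 := ndS (p := 55427) (l := 1) rfl N55427 D194808
theorem N91821 : nd 91821 = n194809 := ndS (p := 55427) (l := 7) rfl N55427 D194809
theorem N91822 : nd 91822 = n194810 := ndS (p := 55428) (l := 0) rfl N55428 D194810
theorem N91823 : nd 91823 = n194811 := ndS (p := 55428) (l := 2) rfl N55428 D194811
theorem N91824 : nd 91824 = n194812 := ndS (p := 55428) (l := 6) rfl N55428 D194812
theorem N91825 : nd 91825 = n194813 := ndS (p := 55429) (l := 5) rfl N55429 D194813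
theorem N91826 : nd 91826 = n194814 := ndS (p := 55429) (l := 7) rfl N55429 D194814
theorem N91827 : nd 91827 = n194815 := ndS (p := 55430) (l := 4) rfl N55430 D194815
theorem N91828 : nd 91828 = n194816 := ndS (p := 55431) (l := 6) rfl N55431 D194816
theorem N91829 : nd 91829 = n194817 := ndS (p := 55433) (l := 5) rfl N55433 D194817
theorem N91830 : nd 91830 = n194818 := ndS (p := 55435) (l := 3) rfl N55435 D194818
theorem N91831 : nd 91831 = n194819 := ndS (p := 55435) (l := 6) rfl N55435 D194819
theorem N91832 : nd 91832 = n194820 := ndS (p := 55437) (l := 4) rfl N55437 D194820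
theorem N91833 : nd 91833 = n194821 := ndS (p := 55438) (l := 5) rfl N55438 D194821
theorem N91834 : nd 91834 = n194822 := ndS (p := 55439) (l := 4) rfl N55439 D194822
theorem N91835 : nd 91835 = n194823 := ndS (p := 55439) (l := 6) rfl N55439 D194823
theorem N91836 : nd 91836 = n194824 := ndS (p := 55440) (l := 4) rfl N55440 D194824
theorem N91837 : nd 91837 = n194825 := ndS (p := 55440) (l := 6) rfl N55440 D194825
theorem N91838 : nd 91838 = n194826 := ndS (p := 55442) (l := 4) rfl N55442 D194826
theorem N91839 : nd 91839 = n194827 := ndS (p := 55443) (l := 4) rfl N55443 D194827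
theorem N91840 : nd 91840 = n194828 := ndS (p := 55445) (l := 1) rfl N55445 D194828
theorem N91841 : nd 91841 = n194829 := ndS (p := 55445) (l := 3) rfl N55445 D194829
theorem N91842 : nd 91842 = n194830 := ndS (p := 55445) (l := 5) rfl N55445 D194830
theorem N91843 : nd 91843 = n194831 := ndS (p := 55447) (l := 0) rfl N55447 D194831
theorem N91844 : nd 91844 = n194832 := ndS (p := 55447) (l := 1) rfl N55447 D194832
theorem N91845 : nd 91845 = n194833 := ndS (p := 55447) (l := 2) rfl N55447 D194833
theorem N91846 : nd 91846 = n194834 := ndS (p := 55447) (l := 6) rfl N55447 D194834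
theorem N91847 : nd 91847 = n194835 := ndS (p := 55448) (l := 1) rfl N55448 D194835
theorem N91848 : nd 91848 = n194836 := ndS (p := 55448) (l := 5) rfl N55448 D194836
theorem N91849 : nd 91849 = n194837 := ndS (p := 55448) (l := 7) rfl N55448 D194837
theorem N91850 : nd 91850 = n194838 := ndS (p := 55449) (l := 6) rfl N55449 D194838
theorem N91851 : nd 91851 = n194839 := ndS (p := 55450) (l := 6) rfl N55450 D194839
theorem N91852 : nd 91852 = n194840 := ndS (p := 55453) (l := 6) rfl N55453 D194840
theorem N91853 : nd 91853 = n194841 := ndS (p := 55454) (l := 7) rfl N55454 D194841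
theorem N91854 : nd 91854 = n194842 := ndS (p := 55455) (l := 2) rfl N55455 D194842
theorem N91855 : nd 91855 = n194843 := ndS (p := 55455) (l := 4) rfl N55455 D194843
theorem N91856 : nd 91856 = n194844 := ndS (p := 55455) (l := 6) rfl N55455 D194844
theorem N91857 : nd 91857 = n194845 := ndS (p := 55456) (l := 3) rfl N55456 D194845
theorem N91858 : nd 91858 = n194846 := ndS (p := 55456) (l := 6) rfl N55456 D194846
theorem N91859 : nd 91859 = n194847 := ndS (p := 55457) (l := 7) rfl N55457 D194847
theorem N91860 : nd 91860 = n194848 := ndS (p := 55459) (l := 0) rfl N55459 D194848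
theorem N91861 : nd 91861 = n194849 := ndS (p := 55459) (l := 1) rfl N55459 D194849
theorem N91862 : nd 91862 = n194850 := ndS (p := 55462) (l := 3) rfl N55462 D194850
theorem N91863 : nd 91863 = n194851 := ndS (p := 55462) (l := 6) rfl N55462 D194851
theorem N91864 : nd 91864 = n194852 := ndS (p := 55464) (l := 4) rfl N55464 D194852
theorem N91865 : nd 91865 = n194853 := ndS (p := 55465) (l := 1) rfl N55465 D194853
theorem N91866 : nd 91866 = n194854 := ndS (p := 55465) (l := 3) rfl N55465 D194854
theorem N91867 : nd 91867 = n194855 := ndS (p := 55465) (l := 5) rfl N55465 D194855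
theorem N91868 : nd 91868 = n194856 := ndS (p := 55465) (l := 6) rfl N55465 D194856
theorem N91869 : nd 91869 = n194857 := ndS (p := 55467) (l := 0) rfl N55467 D194857
theorem N91870 : nd 91870 = n194858 := ndS (p := 55467) (l := 2) rfl N55467 D194858
theorem N91871 : nd 91871 = n194859 := ndS (p := 55467) (l := 6) rfl N55467 D194859
theorem N91872 : nd 91872 = n194860 := ndS (p := 55469) (l := 5) rfl N55469 D194860
theorem N91873 : nd 91873 = n194861 := ndS (p := 55469) (l := 6) rfl N55469 D194861
theorem N91874 : nd 91874 = n194862 := ndS (p := 55472) (l := 6) rfl N55472 D194862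
theorem N91875 : nd 91875 = n194863 := ndS (p := 55473) (l := 3) rfl N55473 D194863
theorem N91876 : nd 91876 = n194864 := ndS (p := 55473) (l := 5) rfl N55473 D194864
theorem N91877 : nd 91877 = n194865 := ndS (p := 55474) (l := 0) rfl N55474 D194865
theorem N91878 : nd 91878 = n194866 := ndS (p := 55474) (l := 1) rfl N55474 D194866
theorem N91879 : nd 91879 = n194867 := ndS (p := 55474) (l := 7) rfl N55474 D194867
theorem N91880 : nd 91880 = n194868 := ndS (p := 55475) (l := 1) rfl N55475 D194868
theorem N91881 : nd 91881 = n194869 := ndS (p := 55475) (l := 2) rfl N55475 D194869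
theorem N91882 : nd 91882 = n194870 := ndS (p := 55476) (l := 4) rfl N55476 D194870
theorem N91883 : nd 91883 = n194871 := ndS (p := 55476) (l := 5) rfl N55476 D194871
theorem N91884 : nd 91884 = n194872 := ndS (p := 55477) (l := 3) rfl N55477 D194872
theorem N91885 : nd 91885 = n194873 := ndS (p := 55477) (l := 4) rfl N55477 D194873
theorem N91886 : nd 91886 = n194874 := ndS (p := 55477) (l := 5) rfl N55477 D194874
theorem N91887 : nd 91887 = n194875 := ndS (p := 55477) (l := 6) rfl N55477 D194875
theorem N91888 : nd 91888 = n194876 := ndS (p := 55479) (l := 0) rfl N55479 D194876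
theorem N91889 : nd 91889 = n194877 := ndS (p := 55479) (l := 2) rfl N55479 D194877
theorem N91890 : nd 91890 = n194878 := ndS (p := 55479) (l := 6) rfl N55479 D194878
theorem N91891 : nd 91891 = n194879 := ndS (p := 55481) (l := 2) rfl N55481 D194879
theorem N91892 : nd 91892 = n194880 := ndS (p := 55481) (l := 4) rfl N55481 D194880
theorem N91893 : nd 91893 = n194881 := ndS (p := 55482) (l := 7) rfl N55482 D194881
theorem N91894 : nd 91894 = n194882 := ndS (p := 55483) (l := 5) rfl N55483 D194882
theorem N91895 : nd 91895 = n194883 := ndS (p := 55485) (l := 0) rfl N55485 D194883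
theorem N91896 : nd 91896 = n194884 := ndS (p := 55485) (l := 1) rfl N55485 D194884
theorem N91897 : nd 91897 = n194885 := ndS (p := 55485) (l := 4) rfl N55485 D194885
theorem N91898 : nd 91898 = n194886 := ndS (p := 55486) (l := 0) rfl N55486 D194886
theorem N91899 : nd 91899 = n194887 := ndS (p := 55486) (l := 2) rfl N55486 D194887
theorem N91900 : nd 91900 = n194888 := ndS (p := 55486) (l := 4) rfl N55486 D194888
theorem N91901 : nd 91901 = n194889 := ndS (p := 55487) (l := 7) rfl N55487 D194889
theorem N91902 : nd 91902 = n194890 := ndS (p := 55488) (l := 1) rfl N55488 D194890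
theorem N91903 : nd 91903 = n194891 := ndS (p := 55488) (l := 2) rfl N55488 D194891
theorem N91904 : nd 91904 = n194892 := ndS (p := 55488) (l := 6) rfl N55488 D194892
theorem N91905 : nd 91905 = n194893 := ndS (p := 55489) (l := 0) rfl N55489 D194893
theorem N91906 : nd 91906 = n194894 := ndS (p := 55489) (l := 5) rfl N55489 D194894
theorem N91907 : nd 91907 = n194895 := ndS (p := 55489) (l := 7) rfl N55489 D194895
theorem N91908 : nd 91908 = n194896 := ndS (p := 55490) (l := 4) rfl N55490 D194896
theorem N91909 : nd 91909 = n194897 := ndS (p := 55494) (l := 3) rfl N55494 D194897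
theorem N91910 : nd 91910 = n194898 := ndS (p := 55495) (l := 5) rfl N55495 D194898
theorem N91911 : nd 91911 = n194899 := ndS (p := 55496) (l := 4) rfl N55496 D194899
theorem N91912 : nd 91912 = n194900 := ndS (p := 55496) (l := 6) rfl N55496 D194900
theorem N91913 : nd 91913 = n194901 := ndS (p := 55497) (l := 7) rfl N55497 D194901
theorem N91914 : nd 91914 = n194902 := ndS (p := 55498) (l := 3) rfl N55498 D194902
theorem N91915 : nd 91915 = n194903 := ndS (p := 55502) (l := 3) rfl N55502 D194903
theorem N91916 : nd 91916 = n194904 := ndS (p := 55502) (l := 6) rfl N55502 D194904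
theorem N91917 : nd 91917 = n194905 := ndS (p := 55503) (l := 3) rfl N55503 D194905
theorem N91918 : nd 91918 = n194906 := ndS (p := 55504) (l := 0) rfl N55504 D194906
theorem N91919 : nd 91919 = n194907 := ndS (p := 55507) (l := 4) rfl N55507 D194907
theorem N91920 : nd 91920 = n194908 := ndS (p := 55507) (l := 6) rfl N55507 D194908
theorem N91921 : nd 91921 = n194909 := ndS (p := 55508) (l := 0) rfl N55508 D194909
theorem N91922 : nd 91922 = n194910 := ndS (p := 55508) (l := 1) rfl N55508 D194910
theorem N91923 : nd 91923 = n194911 := ndS (p := 55508) (l := 7) rfl N55508 D194911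
theorem N91924 : nd 91924 = n194912 := ndS (p := 55510) (l := 6) rfl N55510 D194912
theorem N91925 : nd 91925 = n194913 := ndS (p := 55512) (l := 4) rfl N55512 D194913
theorem N91926 : nd 91926 = n194914 := ndS (p := 55512) (l := 6) rfl N55512 D194914
theorem N91927 : nd 91927 = n194915 := ndS (p := 55513) (l := 4) rfl N55513 D194915
theorem N91928 : nd 91928 = n194916 := ndS (p := 55514) (l := 6) rfl N55514 D194916
theorem N91929 : nd 91929 = n194917 := ndS (p := 55515) (l := 0) rfl N55515 D194917
theorem N91930 : nd 91930 = n194918 := ndS (p := 55515) (l := 1) rfl N55515 D194918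
theorem N91931 : nd 91931 = n194919 := ndS (p := 55515) (l := 3) rfl N55515 D194919
theorem N91932 : nd 91932 = n194920 := ndS (p := 55515) (l := 5) rfl N55515 D194920
theorem N91933 : nd 91933 = n194921 := ndS (p := 55516) (l := 6) rfl N55516 D194921
theorem N91934 : nd 91934 = n194922 := ndS (p := 55517) (l := 1) rfl N55517 D194922
theorem N91935 : nd 91935 = n194923 := ndS (p := 55517) (l := 5) rfl N55517 D194923
theorem N91936 : nd 91936 = n194924 := ndS (p := 55517) (l := 7) rfl N55517 D194924
theorem N91937 : nd 91937 = n194925 := ndS (p := 55519) (l := 6) rfl N55519 D194925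
theorem N91938 : nd 91938 = n194926 := ndS (p := 55521) (l := 5) rfl N55521 D194926
theorem N91939 : nd 91939 = n194927 := ndS (p := 55522) (l := 5) rfl N55522 D194927
theorem N91940 : nd 91940 = n194928 := ndS (p := 55523) (l := 6) rfl N55523 D194928
theorem N91941 : nd 91941 = n194929 := ndS (p := 55524) (l := 1) rfl N55524 D194929
theorem N91942 : nd 91942 = n194930 := ndS (p := 55525) (l := 0) rfl N55525 D194930
theorem N91943 : nd 91943 = n194931 := ndS (p := 55525) (l := 1) rfl N55525 D194931
theorem N91944 : nd 91944 = n194932 := ndS (p := 55526) (l := 3) rfl N55526 D194932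
theorem N91945 : nd 91945 = n194933 := ndS (p := 55526) (l := 5) rfl N55526 D194933
theorem N91946 : nd 91946 = n194934 := ndS (p := 55526) (l := 6) rfl N55526 D194934
theorem N91947 : nd 91947 = n194935 := ndS (p := 55527) (l := 3) rfl N55527 D194935
theorem N91948 : nd 91948 = n194936 := ndS (p := 55529) (l := 4) rfl N55529 D194936
theorem N91949 : nd 91949 = n194937 := ndS (p := 55529) (l := 6) rfl N55529 D194937
theorem N91950 : nd 91950 = n194938 := ndS (p := 55532) (l := 4) rfl N55532 D194938
theorem N91951 : nd 91951 = n194939 := ndS (p := 55532) (l := 6) rfl N55532 D194939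
theorem N91952 : nd 91952 = n194940 := ndS (p := 55533) (l := 3) rfl N55533 D194940
theorem N91953 : nd 91953 = n194941 := ndS (p := 55533) (l := 4) rfl N55533 D194941
theorem N91954 : nd 91954 = n194942 := ndS (p := 55533) (l := 6) rfl N55533 D194942
theorem N91955 : nd 91955 = n194943 := ndS (p := 55535) (l := 3) rfl N55535 D194943
theorem N91956 : nd 91956 = n194944 := ndS (p := 55535) (l := 5) rfl N55535 D194944
theorem N91957 : nd 91957 = n194945 := ndS (p := 55535) (l := 6) rfl N55535 D194945
theorem N91958 : nd 91958 = n194946 := ndS (p := 55536) (l := 0) rfl N55536 D194946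
theorem N91959 : nd 91959 = n194947 := ndS (p := 55536) (l := 1) rfl N55536 D194947
theorem N91960 : nd 91960 = n194948 := ndS (p := 55536) (l := 7) rfl N55536 D194948
theorem N91961 : nd 91961 = n194949 := ndS (p := 55537) (l := 0) rfl N55537 D194949
theorem N91962 : nd 91962 = n194950 := ndS (p := 55537) (l := 1) rfl N55537 D194950
theorem N91963 : nd 91963 = n194951 := ndS (p := 55537) (l := 2) rfl N55537 D194951
theorem N91964 : nd 91964 = n194952 := ndS (p := 55537) (l := 6) rfl N55537 D194952
theorem N91965 : nd 91965 = n194953 := ndS (p := 55538) (l := 5) rfl N55538 D194953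
theorem N91966 : nd 91966 = n194954 := ndS (p := 55538) (l := 7) rfl N55538 D194954
theorem N91967 : nd 91967 = n194955 := ndS (p := 55539) (l := 5) rfl N55539 D194955
theorem N91968 : nd 91968 = n194956 := ndS (p := 55540) (l := 6) rfl N55540 D194956
theorem N91969 : nd 91969 = n194957 := ndS (p := 55544) (l := 0) rfl N55544 D194957
theorem N91970 : nd 91970 = n194958 := ndS (p := 55544) (l := 1) rfl N55544 D194958
theorem N91971 : nd 91971 = n194959 := ndS (p := 55548) (l := 3) rfl N55548 D194959
theorem N91972 : nd 91972 = n194960 := ndS (p := 55550) (l := 4) rfl N55550 D194960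
theorem N91973 : nd 91973 = n194961 := ndS (p := 55550) (l := 6) rfl N55550 D194961
theorem N91974 : nd 91974 = n194962 := ndS (p := 55551) (l := 1) rfl N55551 D194962
theorem N91975 : nd 91975 = n194963 := ndS (p := 55551) (l := 3) rfl N55551 D194963
theorem N91976 : nd 91976 = n194964 := ndS (p := 55551) (l := 5) rfl N55551 D194964
theorem N91977 : nd 91977 = n194965 := ndS (p := 55551) (l := 6) rfl N55551 D194965
theorem N91978 : nd 91978 = n194966 := ndS (p := 55552) (l := 0) rfl N55552 D194966
theorem N91979 : nd 91979 = n194967 := ndS (p := 55553) (l := 1) rfl N55553 D194967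
theorem N91980 : nd 91980 = n194968 := ndS (p := 55558) (l := 4) rfl N55558 D194968
theorem N91981 : nd 91981 = n194969 := ndS (p := 55559) (l := 6) rfl N55559 D194969
theorem N91982 : nd 91982 = n194970 := ndS (p := 55560) (l := 7) rfl N55560 D194970
theorem N91983 : nd 91983 = n194971 := ndS (p := 55561) (l := 0) rfl N55561 D194971
theorem N91984 : nd 91984 = n194972 := ndS (p := 55561) (l := 2) rfl N55561 D194972
theorem N91985 : nd 91985 = n194973 := ndS (p := 55561) (l := 6) rfl N55561 D194973
theorem N91986 : nd 91986 = n194974 := ndS (p := 55565) (l := 5) rfl N55565 D194974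
theorem N91987 : nd 91987 = n194975 := ndS (p := 55566) (l := 3) rfl N55566 D194975
theorem N91988 : nd 91988 = n194976 := ndS (p := 55566) (l := 5) rfl N55566 D194976
theorem N91989 : nd 91989 = n194977 := ndS (p := 55566) (l := 6) rfl N55566 D194977
theorem N91990 : nd 91990 = n194978 := ndS (p := 55567) (l := 5) rfl N55567 D194978
theorem N91991 : nd 91991 = n194979 := ndS (p := 55568) (l := 1) rfl N55568 D194979
theorem N91992 : nd 91992 = n194980 := ndS (p := 55568) (l := 4) rfl N55568 D194980
theorem N91993 : nd 91993 = n194981 := ndS (p := 55568) (l := 6) rfl N55568 D194981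
theorem N91994 : nd 91994 = n194982 := ndS (p := 55569) (l := 0) rfl N55569 D194982
theorem N91995 : nd 91995 = n194983 := ndS (p := 55569) (l := 1) rfl N55569 D194983
theorem N91996 : nd 91996 = n194984 := ndS (p := 55570) (l := 5) rfl N55570 D194984
theorem N91997 : nd 91997 = n194985 := ndS (p := 55572) (l := 0) rfl N55572 D194985
theorem N91998 : nd 91998 = n194986 := ndS (p := 55572) (l := 4) rfl N55572 D194986
theorem N91999 : nd 91999 = n194987 := ndS (p := 55573) (l := 3) rfl N55573 D194987
theorem N92000 : nd 92000 = n194988 := ndS (p := 55575) (l := 7) rfl N55575 D194988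
theorem N92001 : nd 92001 = n194989 := ndS (p := 55576) (l := 1) rfl N55576 D194989
theorem N92002 : nd 92002 = n194990 := ndS (p := 55576) (l := 2) rfl N55576 D194990
theorem N92003 : nd 92003 = n194991 := ndS (p := 55576) (l := 5) rfl N55576 D194991
theorem N92004 : nd 92004 = n194992 := ndS (p := 55577) (l := 3) rfl N55577 D194992
theorem N92005 : nd 92005 = n194993 := ndS (p := 55580) (l := 3) rfl N55580 D194993
theorem N92006 : nd 92006 = n194994 := ndS (p := 55580) (l := 5) rfl N55580 D194994
theorem N92007 : nd 92007 = n194995 := ndS (p := 55580) (l := 6) rfl N55580 D194995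
theorem N92008 : nd 92008 = n194996 := ndS (p := 55581) (l := 3) rfl N55581 D194996
theorem N92009 : nd 92009 = n194997 := ndS (p := 55581) (l := 5) rfl N55581 D194997
theorem N92010 : nd 92010 = n194998 := ndS (p := 55581) (l := 6) rfl N55581 D194998
theorem N92011 : nd 92011 = n194999 := ndS (p := 55584) (l := 4) rfl N55584 D194999
theorem N92012 : nd 92012 = n195000 := ndS (p := 55588) (l := 0) rfl N55588 D195000
theorem N92013 : nd 92013 = n195001 := ndS (p := 55588) (l := 1) rfl N55588 D195001
theorem N92014 : nd 92014 = n195002 := ndS (p := 55591) (l := 3) rfl N55591 D195002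
theorem N92015 : nd 92015 = n195003 := ndS (p := 55596) (l := 0) rfl N55596 D195003
theorem N92016 : nd 92016 = n195004 := ndS (p := 55596) (l := 7) rfl N55596 D195004
theorem N92017 : nd 92017 = n195005 := ndS (p := 55601) (l := 0) rfl N55601 D195005
theorem N92018 : nd 92018 = n195006 := ndS (p := 55601) (l := 1) rfl N55601 D195006
theorem N92019 : nd 92019 = n195007 := ndS (p := 55601) (l := 2) rfl N55601 D195007
theorem N92020 : nd 92020 = n195008 := ndS (p := 55601) (l := 6) rfl N55601 D195008
theorem N92021 : nd 92021 = n195009 := ndS (p := 55602) (l := 0) rfl N55602 D195009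
theorem N92022 : nd 92022 = n195010 := ndS (p := 55602) (l := 1) rfl N55602 D195010
theorem N92023 : nd 92023 = n195011 := ndS (p := 55602) (l := 7) rfl N55602 D195011
theorem N92024 : nd 92024 = n195012 := ndS (p := 55603) (l := 3) rfl N55603 D195012
theorem N92025 : nd 92025 = n195013 := ndS (p := 55603) (l := 4) rfl N55603 D195013
theorem N92026 : nd 92026 = n195014 := ndS (p := 55603) (l := 5) rfl N55603 D195014
theorem N92027 : nd 92027 = n195015 := ndS (p := 55603) (l := 6) rfl N55603 D195015
theorem N92028 : nd 92028 = n195016 := ndS (p := 55604) (l := 0) rfl N55604 D195016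
theorem N92029 : nd 92029 = n195017 := ndS (p := 55604) (l := 7) rfl N55604 D195017
theorem N92030 : nd 92030 = n195018 := ndS (p := 55606) (l := 3) rfl N55606 D195018
theorem N92031 : nd 92031 = n195019 := ndS (p := 55607) (l := 4) rfl N55607 D195019
theorem N92032 : nd 92032 = n195020 := ndS (p := 55608) (l := 0) rfl N55608 D195020
theorem N92033 : nd 92033 = n195021 := ndS (p := 55608) (l := 1) rfl N55608 D195021
theorem N92034 : nd 92034 = n195022 := ndS (p := 55608) (l := 7) rfl N55608 D195022
theorem N92035 : nd 92035 = n195023 := ndS (p := 55610) (l := 6) rfl N55610 D195023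
theorem N92036 : nd 92036 = n195025 := ndS (p := 55612) (l := 3) rfl N55612 D195025
theorem N92037 : nd 92037 = n195026 := ndS (p := 55612) (l := 4) rfl N55612 D195026
theorem N92038 : nd 92038 = n195027 := ndS (p := 55612) (l := 5) rfl N55612 D195027
theorem N92039 : nd 92039 = n195028 := ndS (p := 55612) (l := 6) rfl N55612 D195028
theorem N92040 : nd 92040 = n195030 := ndS (p := 55613) (l := 4) rfl N55613 D195030
theorem N92041 : nd 92041 = n195031 := ndS (p := 55613) (l := 5) rfl N55613 D195031
theorem N92042 : nd 92042 = n195034 := ndS (p := 55615) (l := 6) rfl N55615 D195034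
theorem N92043 : nd 92043 = n195035 := ndS (p := 55616) (l := 0) rfl N55616 D195035
theorem N92044 : nd 92044 = n195036 := ndS (p := 55616) (l := 1) rfl N55616 D195036
theorem N92045 : nd 92045 = n195037 := ndS (p := 55616) (l := 7) rfl N55616 D195037
theorem N92046 : nd 92046 = n195038 := ndS (p := 55620) (l := 6) rfl N55620 D195038
theorem N92047 : nd 92047 = n195039 := ndS (p := 55623) (l := 3) rfl N55623 D195039
theorem N92048 : nd 92048 = n195040 := ndS (p := 55623) (l := 4) rfl N55623 D195040
theorem N92049 : nd 92049 = n195041 := ndS (p := 55623) (l := 6) rfl N55623 D195041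
theorem N92050 : nd 92050 = n195042 := ndS (p := 55625) (l := 0) rfl N55625 D195042
theorem N92051 : nd 92051 = n195043 := ndS (p := 55629) (l := 3) rfl N55629 D195043
theorem N92052 : nd 92052 = n195044 := ndS (p := 55629) (l := 6) rfl N55629 D195044
theorem N92053 : nd 92053 = n195045 := ndS (p := 55631) (l := 3) rfl N55631 D195045
theorem N92054 : nd 92054 = n195046 := ndS (p := 55631) (l := 4) rfl N55631 D195046
theorem N92055 : nd 92055 = n195047 := ndS (p := 55632) (l := 4) rfl N55632 D195047
theorem N92056 : nd 92056 = n195048 := ndS (p := 55632) (l := 6) rfl N55632 D195048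
theorem N92057 : nd 92057 = n195049 := ndS (p := 55633) (l := 6) rfl N55633 D195049
theorem N92058 : nd 92058 = n195050 := ndS (p := 55634) (l := 0) rfl N55634 D195050
theorem N92059 : nd 92059 = n195051 := ndS (p := 55634) (l := 1) rfl N55634 D195051
theorem N92060 : nd 92060 = n195052 := ndS (p := 55634) (l := 5) rfl N55634 D195052
theorem N92061 : nd 92061 = n195053 := ndS (p := 55634) (l := 7) rfl N55634 D195053
theorem N92062 : nd 92062 = n195054 := ndS (p := 55635) (l := 0) rfl N55635 D195054
theorem N92063 : nd 92063 = n195055 := ndS (p := 55635) (l := 1) rfl N55635 D195055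
theorem N92064 : nd 92064 = n195056 := ndS (p := 55635) (l := 4) rfl N55635 D195056
theorem N92065 : nd 92065 = n195057 := ndS (p := 55635) (l := 7) rfl N55635 D195057
theorem N92066 : nd 92066 = n195058 := ndS (p := 55637) (l := 6) rfl N55637 D195058
theorem N92067 : nd 92067 = n195059 := ndS (p := 55638) (l := 5) rfl N55638 D195059
theorem N92068 : nd 92068 = n195060 := ndS (p := 55641) (l := 4) rfl N55641 D195060
theorem N92069 : nd 92069 = n195061 := ndS (p := 55642) (l := 3) rfl N55642 D195061
theorem N92070 : nd 92070 = n195062 := ndS (p := 55642) (l := 5) rfl N55642 D195062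
theorem N92071 : nd 92071 = n195063 := ndS (p := 55642) (l := 6) rfl N55642 D195063
theorem N92072 : nd 92072 = n195064 := ndS (p := 55644) (l := 6) rfl N55644 D195064
theorem N92073 : nd 92073 = n195065 := ndS (p := 55648) (l := 6) rfl N55648 D195065
theorem N92074 : nd 92074 = n195066 := ndS (p := 55651) (l := 0) rfl N55651 D195066
theorem N92075 : nd 92075 = n195067 := ndS (p := 55656) (l := 5) rfl N55656 D195067
theorem N92076 : nd 92076 = n195068 := ndS (p := 55656) (l := 6) rfl N55656 D195068
theorem N92077 : nd 92077 = n195069 := ndS (p := 55657) (l := 4) rfl N55657 D195069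
theorem N92078 : nd 92078 = n195070 := ndS (p := 55657) (l := 6) rfl N55657 D195070
theorem N92079 : nd 92079 = n195071 := ndS (p := 55658) (l := 0) rfl N55658 D195071
theorem N92080 : nd 92080 = n195072 := ndS (p := 55658) (l := 1) rfl N55658 D195072
theorem N92081 : nd 92081 = n195073 := ndS (p := 55658) (l := 5) rfl N55658 D195073
theorem N92082 : nd 92082 = n195074 := ndS (p := 55662) (l := 6) rfl N55662 D195074
theorem N92083 : nd 92083 = n195075 := ndS (p := 55663) (l := 3) rfl N55663 D195075
theorem N92084 : nd 92084 = n195076 := ndS (p := 55663) (l := 4) rfl N55663 D195076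
theorem N92085 : nd 92085 = n195077 := ndS (p := 55663) (l := 6) rfl N55663 D195077
theorem N92086 : nd 92086 = n195078 := ndS (p := 55664) (l := 1) rfl N55664 D195078
theorem N92087 : nd 92087 = n195079 := ndS (p := 55664) (l := 6) rfl N55664 D195079
theorem N92088 : nd 92088 = n195080 := ndS (p := 55665) (l := 0) rfl N55665 D195080
theorem N92089 : nd 92089 = n195081 := ndS (p := 55665) (l := 1) rfl N55665 D195081
theorem N92090 : nd 92090 = n195082 := ndS (p := 55665) (l := 3) rfl N55665 D195082
theorem N92091 : nd 92091 = n195083 := ndS (p := 55665) (l := 6) rfl N55665 D195083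
theorem N92092 : nd 92092 = n195084 := ndS (p := 55665) (l := 7) rfl N55665 D195084
theorem N92093 : nd 92093 = n195085 := ndS (p := 55666) (l := 0) rfl N55666 D195085
theorem N92094 : nd 92094 = n195086 := ndS (p := 55666) (l := 5) rfl N55666 D195086
theorem N92095 : nd 92095 = n195087 := ndS (p := 55666) (l := 7) rfl N55666 D195087
theorem N92096 : nd 92096 = n195088 := ndS (p := 55667) (l := 6) rfl N55667 D195088
theorem N92097 : nd 92097 = n195089 := ndS (p := 55668) (l := 0) rfl N55668 D195089
theorem N92098 : nd 92098 = n195090 := ndS (p := 55669) (l := 5) rfl N55669 D195090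
theorem N92099 : nd 92099 = n195091 := ndS (p := 55671) (l := 6) rfl N55671 D195091
theorem N92100 : nd 92100 = n195092 := ndS (p := 55672) (l := 3) rfl N55672 D195092
theorem N92101 : nd 92101 = n195093 := ndS (p := 55673) (l := 3) rfl N55673 D195093
theorem N92102 : nd 92102 = n195094 := ndS (p := 55674) (l := 1) rfl N55674 D195094
theorem N92103 : nd 92103 = n195095 := ndS (p := 55675) (l := 1) rfl N55675 D195095
theorem N92104 : nd 92104 = n195096 := ndS (p := 55675) (l := 5) rfl N55675 D195096
theorem N92105 : nd 92105 = n195098 := ndS (p := 55676) (l := 3) rfl N55676 D195098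
theorem N92106 : nd 92106 = n195099 := ndS (p := 55676) (l := 5) rfl N55676 D195099
theorem N92107 : nd 92107 = n195102 := ndS (p := 55677) (l := 3) rfl N55677 D195102
theorem N92108 : nd 92108 = n195103 := ndS (p := 55677) (l := 5) rfl N55677 D195103
theorem N92109 : nd 92109 = n195104 := ndS (p := 55677) (l := 6) rfl N55677 D195104
theorem N92110 : nd 92110 = n195105 := ndS (p := 55679) (l := 0) rfl N55679 D195105
theorem N92111 : nd 92111 = n195106 := ndS (p := 55679) (l := 1) rfl N55679 D195106
theorem N92112 : nd 92112 = n195107 := ndS (p := 55679) (l := 4) rfl N55679 D195107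
theorem N92113 : nd 92113 = n195108 := ndS (p := 55680) (l := 5) rfl N55680 D195108
theorem N92114 : nd 92114 = n195109 := ndS (p := 55681) (l := 4) rfl N55681 D195109
theorem N92115 : nd 92115 = n195110 := ndS (p := 55683) (l := 4) rfl N55683 D195110
theorem N92116 : nd 92116 = n195111 := ndS (p := 55685) (l := 7) rfl N55685 D195111
theorem N92117 : nd 92117 = n195112 := ndS (p := 55688) (l := 6) rfl N55688 D195112
theorem N92118 : nd 92118 = n195113 := ndS (p := 55690) (l := 3) rfl N55690 D195113
theorem N92119 : nd 92119 = n195114 := ndS (p := 55690) (l := 6) rfl N55690 D195114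
theorem N92120 : nd 92120 = n195115 := ndS (p := 55698) (l := 6) rfl N55698 D195115
theorem N92121 : nd 92121 = n195119 := ndS (p := 55700) (l := 5) rfl N55700 D195119
theorem N92122 : nd 92122 = n195120 := ndS (p := 55700) (l := 6) rfl N55700 D195120
theorem N92123 : nd 92123 = n195121 := ndS (p := 55701) (l := 3) rfl N55701 D195121
theorem N92124 : nd 92124 = n195122 := ndS (p := 55701) (l := 5) rfl N55701 D195122
theorem N92125 : nd 92125 = n195123 := ndS (p := 55701) (l := 6) rfl N55701 D195123
theorem N92126 : nd 92126 = n195124 := ndS (p := 55702) (l := 4) rfl N55702 D195124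
theorem N92127 : nd 92127 = n195125 := ndS (p := 55702) (l := 7) rfl N55702 D195125
theorem N92128 : nd 92128 = n195126 := ndS (p := 55704) (l := 3) rfl N55704 D195126
theorem N92129 : nd 92129 = n195127 := ndS (p := 55706) (l := 6) rfl N55706 D195127
theorem N92130 : nd 92130 = n195128 := ndS (p := 55707) (l := 3) rfl N55707 D195128
theorem N92131 : nd 92131 = n195129 := ndS (p := 55707) (l := 6) rfl N55707 D195129
theorem N92132 : nd 92132 = n195130 := ndS (p := 55709) (l := 6) rfl N55709 D195130
theorem N92133 : nd 92133 = n195131 := ndS (p := 55711) (l := 6) rfl N55711 D195131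
theorem N92134 : nd 92134 = n195132 := ndS (p := 55712) (l := 6) rfl N55712 D195132
theorem N92135 : nd 92135 = n195133 := ndS (p := 55714) (l := 6) rfl N55714 D195133
theorem N92136 : nd 92136 = n195134 := ndS (p := 55717) (l := 3) rfl N55717 D195134
theorem N92137 : nd 92137 = n195135 := ndS (p := 55718) (l := 0) rfl N55718 D195135
theorem N92138 : nd 92138 = n195136 := ndS (p := 55718) (l := 1) rfl N55718 D195136
theorem N92139 : nd 92139 = n195137 := ndS (p := 55718) (l := 5) rfl N55718 D195137
theorem N92140 : nd 92140 = n195138 := ndS (p := 55719) (l := 0) rfl N55719 D195138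
theorem N92141 : nd 92141 = n195139 := ndS (p := 55720) (l := 3) rfl N55720 D195139
theorem N92142 : nd 92142 = n195140 := ndS (p := 55720) (l := 6) rfl N55720 D195140
theorem N92143 : nd 92143 = n195141 := ndS (p := 55721) (l := 1) rfl N55721 D195141
theorem N92144 : nd 92144 = n195142 := ndS (p := 55721) (l := 7) rfl N55721 D195142
theorem N92145 : nd 92145 = n195143 := ndS (p := 55723) (l := 6) rfl N55723 D195143
theorem N92146 : nd 92146 = n195144 := ndS (p := 55727) (l := 5) rfl N55727 D195144
theorem N92147 : nd 92147 = n195145 := ndS (p := 55727) (l := 6) rfl N55727 D195145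
theorem N92148 : nd 92148 = n195146 := ndS (p := 55728) (l := 1) rfl N55728 D195146
theorem N92149 : nd 92149 = n195147 := ndS (p := 55728) (l := 6) rfl N55728 D195147
theorem N92150 : nd 92150 = n195148 := ndS (p := 55728) (l := 7) rfl N55728 D195148
theorem N92151 : nd 92151 = n195149 := ndS (p := 55729) (l := 0) rfl N55729 D195149
theorem N92152 : nd 92152 = n195151 := ndS (p := 55729) (l := 5) rfl N55729 D195151
theorem N92153 : nd 92153 = n195152 := ndS (p := 55729) (l := 7) rfl N55729 D195152
theorem N92154 : nd 92154 = n195153 := ndS (p := 55730) (l := 6) rfl N55730 D195153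
theorem N92155 : nd 92155 = n195154 := ndS (p := 55731) (l := 4) rfl N55731 D195154
theorem N92156 : nd 92156 = n195155 := ndS (p := 55732) (l := 4) rfl N55732 D195155
theorem N92157 : nd 92157 = n195156 := ndS (p := 55733) (l := 6) rfl N55733 D195156
theorem N92158 : nd 92158 = n195157 := ndS (p := 55734) (l := 0) rfl N55734 D195157
theorem N92159 : nd 92159 = n195158 := ndS (p := 55735) (l := 4) rfl N55735 D195158
theorem N92160 : nd 92160 = n195159 := ndS (p := 55735) (l := 6) rfl N55735 D195159
theorem N92161 : nd 92161 = n195160 := ndS (p := 55736) (l := 6) rfl N55736 D195160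
theorem N92162 : nd 92162 = n195161 := ndS (p := 55737) (l := 0) rfl N55737 D195161
theorem N92163 : nd 92163 = n195162 := ndS (p := 55737) (l := 7) rfl N55737 D195162
theorem N92164 : nd 92164 = n195163 := ndS (p := 55738) (l := 5) rfl N55738 D195163
theorem N92165 : nd 92165 = n195164 := ndS (p := 55738) (l := 6) rfl N55738 D195164
theorem N92166 : nd 92166 = n195165 := ndS (p := 55739) (l := 1) rfl N55739 D195165
theorem N92167 : nd 92167 = n195166 := ndS (p := 55739) (l := 7) rfl N55739 D195166
theorem N92168 : nd 92168 = n195167 := ndS (p := 55741) (l := 6) rfl N55741 D195167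
theorem N92169 : nd 92169 = n195168 := ndS (p := 55742) (l := 1) rfl N55742 D195168
theorem N92170 : nd 92170 = n195169 := ndS (p := 55742) (l := 7) rfl N55742 D195169
theorem N92171 : nd 92171 = n195170 := ndS (p := 55747) (l := 3) rfl N55747 D195170
theorem N92172 : nd 92172 = n195171 := ndS (p := 55749) (l := 0) rfl N55749 D195171
theorem N92173 : nd 92173 = n195172 := ndS (p := 55749) (l := 5) rfl N55749 D195172
theorem N92174 : nd 92174 = n195173 := ndS (p := 55749) (l := 7) rfl N55749 D195173
theorem N92175 : nd 92175 = n195174 := ndS (p := 55750) (l := 3) rfl N55750 D195174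
theorem N92176 : nd 92176 = n195175 := ndS (p := 55750) (l := 5) rfl N55750 D195175
theorem N92177 : nd 92177 = n195176 := ndS (p := 55751) (l := 3) rfl N55751 D195176
theorem N92178 : nd 92178 = n195177 := ndS (p := 55751) (l := 5) rfl N55751 D195177
theorem N92179 : nd 92179 = n195178 := ndS (p := 55752) (l := 0) rfl N55752 D195178
theorem N92180 : nd 92180 = n195179 := ndS (p := 55752) (l := 1) rfl N55752 D195179
theorem N92181 : nd 92181 = n195180 := ndS (p := 55752) (l := 4) rfl N55752 D195180
theorem N92182 : nd 92182 = n195181 := ndS (p := 55752) (l := 7) rfl N55752 D195181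
theorem N92183 : nd 92183 = n195182 := ndS (p := 55755) (l := 3) rfl N55755 D195182
theorem N92184 : nd 92184 = n195183 := ndS (p := 55755) (l := 5) rfl N55755 D195183
theorem N92185 : nd 92185 = n195184 := ndS (p := 55755) (l := 6) rfl N55755 D195184
theorem N92186 : nd 92186 = n195185 := ndS (p := 55759) (l := 3) rfl N55759 D195185
theorem N92187 : nd 92187 = n195186 := ndS (p := 55759) (l := 5) rfl N55759 D195186
theorem N92188 : nd 92188 = n195187 := ndS (p := 55761) (l := 5) rfl N55761 D195187
theorem N92189 : nd 92189 = n195188 := ndS (p := 55762) (l := 5) rfl N55762 D195188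
theorem N92190 : nd 92190 = n195189 := ndS (p := 55765) (l := 6) rfl N55765 D195189
theorem N92191 : nd 92191 = n195190 := ndS (p := 55769) (l := 1) rfl N55769 D195190
theorem N92192 : nd 92192 = n195191 := ndS (p := 55769) (l := 5) rfl N55769 D195191
theorem N92193 : nd 92193 = n195192 := ndS (p := 55769) (l := 6) rfl N55769 D195192
theorem N92194 : nd 92194 = n195193 := ndS (p := 55774) (l := 6) rfl N55774 D195193
theorem N92195 : nd 92195 = n195194 := ndS (p := 55775) (l := 1) rfl N55775 D195194
theorem N92196 : nd 92196 = n195195 := ndS (p := 55775) (l := 5) rfl N55775 D195195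
theorem N92197 : nd 92197 = n195196 := ndS (p := 55775) (l := 7) rfl N55775 D195196
theorem N92198 : nd 92198 = n195197 := ndS (p := 55776) (l := 4) rfl N55776 D195197
theorem N92199 : nd 92199 = n195198 := ndS (p := 55776) (l := 6) rfl N55776 D195198
theorem N92200 : nd 92200 = n195199 := ndS (p := 55778) (l := 1) rfl N55778 D195199
theorem N92201 : nd 92201 = n195200 := ndS (p := 55779) (l := 4) rfl N55779 D195200
theorem N92202 : nd 92202 = n195201 := ndS (p := 55781) (l := 5) rfl N55781 D195201
theorem N92203 : nd 92203 = n195202 := ndS (p := 55783) (l := 3) rfl N55783 D195202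
theorem N92204 : nd 92204 = n195203 := ndS (p := 55784) (l := 5) rfl N55784 D195203
theorem N92205 : nd 92205 = n195204 := ndS (p := 55786) (l := 6) rfl N55786 D195204
theorem N92206 : nd 92206 = n195205 := ndS (p := 55790) (l := 6) rfl N55790 D195205
theorem N92207 : nd 92207 = n195206 := ndS (p := 55791) (l := 3) rfl N55791 D195206
theorem N92208 : nd 92208 = n195207 := ndS (p := 55791) (l := 5) rfl N55791 D195207
theorem N92209 : nd 92209 = n195208 := ndS (p := 55791) (l := 7) rfl N55791 D195208
theorem N92210 : nd 92210 = n195209 := ndS (p := 55793) (l := 0) rfl N55793 D195209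
theorem N92211 : nd 92211 = n195210 := ndS (p := 55793) (l := 1) rfl N55793 D195210
theorem N92212 : nd 92212 = n195211 := ndS (p := 55793) (l := 2) rfl N55793 D195211
theorem N92213 : nd 92213 = n195212 := ndS (p := 55800) (l := 1) rfl N55800 D195212
theorem N92214 : nd 92214 = n195213 := ndS (p := 55801) (l := 3) rfl N55801 D195213
theorem N92215 : nd 92215 = n195214 := ndS (p := 55801) (l := 5) rfl N55801 D195214
theorem N92216 : nd 92216 = n195215 := ndS (p := 55801) (l := 6) rfl N55801 D195215
theorem N92217 : nd 92217 = n195216 := ndS (p := 55802) (l := 5) rfl N55802 D195216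
theorem N92218 : nd 92218 = n195217 := ndS (p := 55805) (l := 7) rfl N55805 D195217
theorem N92219 : nd 92219 = n195218 := ndS (p := 55806) (l := 6) rfl N55806 D195218
theorem N92220 : nd 92220 = n195219 := ndS (p := 55809) (l := 4) rfl N55809 D195219
theorem N92221 : nd 92221 = n195220 := ndS (p := 55810) (l := 4) rfl N55810 D195220
theorem N92222 : nd 92222 = n195221 := ndS (p := 55811) (l := 4) rfl N55811 D195221
theorem N92223 : nd 92223 = n195222 := ndS (p := 55813) (l := 5) rfl N55813 D195222
theorem N92224 : nd 92224 = n195223 := ndS (p := 55813) (l := 6) rfl N55813 D195223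
theorem N92225 : nd 92225 = n195224 := ndS (p := 55814) (l := 0) rfl N55814 D195224
theorem N92226 : nd 92226 = n195225 := ndS (p := 55814) (l := 1) rfl N55814 D195225
theorem N92227 : nd 92227 = n195226 := ndS (p := 55814) (l := 4) rfl N55814 D195226
theorem N92228 : nd 92228 = n195228 := ndS (p := 55816) (l := 1) rfl N55816 D195228
theorem N92229 : nd 92229 = n195229 := ndS (p := 55816) (l := 2) rfl N55816 D195229
theorem N92230 : nd 92230 = n195230 := ndS (p := 55816) (l := 4) rfl N55816 D195230
theorem N92231 : nd 92231 = n195231 := ndS (p := 55817) (l := 6) rfl N55817 D195231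
theorem N92232 : nd 92232 = n195232 := ndS (p := 55818) (l := 4) rfl N55818 D195232
theorem N92233 : nd 92233 = n195233 := ndS (p := 55818) (l := 6) rfl N55818 D195233
theorem N92234 : nd 92234 = n195234 := ndS (p := 55819) (l := 5) rfl N55819 D195234
theorem N92235 : nd 92235 = n195235 := ndS (p := 55821) (l := 6) rfl N55821 D195235
theorem N92236 : nd 92236 = n195236 := ndS (p := 55822) (l := 4) rfl N55822 D195236
theorem N92237 : nd 92237 = n195237 := ndS (p := 55823) (l := 7) rfl N55823 D195237
theorem N92238 : nd 92238 = n195238 := ndS (p := 55824) (l := 4) rfl N55824 D195238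
theorem N92239 : nd 92239 = n195239 := ndS (p := 55824) (l := 6) rfl N55824 D195239
theorem N92240 : nd 92240 = n195240 := ndS (p := 55825) (l := 4) rfl N55825 D195240
theorem N92241 : nd 92241 = n195241 := ndS (p := 55826) (l := 0) rfl N55826 D195241
theorem N92242 : nd 92242 = n195242 := ndS (p := 55826) (l := 1) rfl N55826 D195242
theorem N92243 : nd 92243 = n195243 := ndS (p := 55826) (l := 3) rfl N55826 D195243
theorem N92244 : nd 92244 = n195244 := ndS (p := 55826) (l := 5) rfl N55826 D195244
theorem N92245 : nd 92245 = n195245 := ndS (p := 55830) (l := 6) rfl N55830 D195245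
theorem N92246 : nd 92246 = n195246 := ndS (p := 55831) (l := 1) rfl N55831 D195246
theorem N92247 : nd 92247 = n195247 := ndS (p := 55832) (l := 5) rfl N55832 D195247
theorem N92248 : nd 92248 = n195248 := ndS (p := 55833) (l := 3) rfl N55833 D195248
theorem N92249 : nd 92249 = n195249 := ndS (p := 55833) (l := 5) rfl N55833 D195249
theorem N92250 : nd 92250 = n195250 := ndS (p := 55835) (l := 0) rfl N55835 D195250
theorem N92251 : nd 92251 = n195251 := ndS (p := 55835) (l := 1) rfl N55835 D195251
theorem N92252 : nd 92252 = n195252 := ndS (p := 55835) (l := 2) rfl N55835 D195252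
theorem N92253 : nd 92253 = n195253 := ndS (p := 55835) (l := 5) rfl N55835 D195253
theorem N92254 : nd 92254 = n195254 := ndS (p := 55835) (l := 6) rfl N55835 D195254
theorem N92255 : nd 92255 = n195255 := ndS (p := 55836) (l := 6) rfl N55836 D195255
theorem N92256 : nd 92256 = n195256 := ndS (p := 55837) (l := 5) rfl N55837 D195256
theorem N92257 : nd 92257 = n195257 := ndS (p := 55838) (l := 1) rfl N55838 D195257
theorem N92258 : nd 92258 = n195258 := ndS (p := 55838) (l := 2) rfl N55838 D195258
theorem N92259 : nd 92259 = n195259 := ndS (p := 55838) (l := 5) rfl N55838 D195259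
theorem N92260 : nd 92260 = n195260 := ndS (p := 55838) (l := 6) rfl N55838 D195260
theorem N92261 : nd 92261 = n195261 := ndS (p := 55839) (l := 6) rfl N55839 D195261
theorem N92262 : nd 92262 = n195262 := ndS (p := 55840) (l := 5) rfl N55840 D195262
theorem N92263 : nd 92263 = n195263 := ndS (p := 55840) (l := 7) rfl N55840 D195263
theorem N92264 : nd 92264 = n195264 := ndS (p := 55841) (l := 6) rfl N55841 D195264
theorem N92265 : nd 92265 = n195265 := ndS (p := 55842) (l := 3) rfl N55842 D195265
theorem N92266 : nd 92266 = n195266 := ndS (p := 55842) (l := 5) rfl N55842 D195266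
theorem N92267 : nd 92267 = n195267 := ndS (p := 55842) (l := 6) rfl N55842 D195267
theorem N92268 : nd 92268 = n195268 := ndS (p := 55843) (l := 5) rfl N55843 D195268
theorem N92269 : nd 92269 = n195269 := ndS (p := 55844) (l := 0) rfl N55844 D195269
theorem N92270 : nd 92270 = n195270 := ndS (p := 55844) (l := 4) rfl N55844 D195270
theorem N92271 : nd 92271 = n195271 := ndS (p := 55844) (l := 6) rfl N55844 D195271
theorem N92272 : nd 92272 = n195272 := ndS (p := 55845) (l := 3) rfl N55845 D195272
theorem N92273 : nd 92273 = n195273 := ndS (p := 55845) (l := 6) rfl N55845 D195273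
theorem N92274 : nd 92274 = n195274 := ndS (p := 55847) (l := 0) rfl N55847 D195274
theorem N92275 : nd 92275 = n195275 := ndS (p := 55847) (l := 1) rfl N55847 D195275
theorem N92276 : nd 92276 = n195276 := ndS (p := 55847) (l := 7) rfl N55847 D195276
theorem N92277 : nd 92277 = n195277 := ndS (p := 55848) (l := 3) rfl N55848 D195277
theorem N92278 : nd 92278 = n195278 := ndS (p := 55848) (l := 5) rfl N55848 D195278
theorem N92279 : nd 92279 = n195279 := ndS (p := 55848) (l := 6) rfl N55848 D195279
theorem N92280 : nd 92280 = n195280 := ndS (p := 55849) (l := 5) rfl N55849 D195280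
theorem N92281 : nd 92281 = n195281 := ndS (p := 55850) (l := 5) rfl N55850 D195281
theorem N92282 : nd 92282 = n195282 := ndS (p := 55851) (l := 0) rfl N55851 D195282
theorem N92283 : nd 92283 = n195283 := ndS (p := 55851) (l := 1) rfl N55851 D195283
theorem N92284 : nd 92284 = n195284 := ndS (p := 55851) (l := 4) rfl N55851 D195284
theorem N92285 : nd 92285 = n195285 := ndS (p := 55852) (l := 3) rfl N55852 D195285
theorem N92286 : nd 92286 = n195286 := ndS (p := 55853) (l := 0) rfl N55853 D195286
theorem N92287 : nd 92287 = n195287 := ndS (p := 55853) (l := 1) rfl N55853 D195287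
theorem N92288 : nd 92288 = n195288 := ndS (p := 55854) (l := 0) rfl N55854 D195288
theorem N92289 : nd 92289 = n195289 := ndS (p := 55854) (l := 2) rfl N55854 D195289
theorem N92290 : nd 92290 = n195290 := ndS (p := 55854) (l := 5) rfl N55854 D195290
theorem N92291 : nd 92291 = n195291 := ndS (p := 55854) (l := 6) rfl N55854 D195291
theorem N92292 : nd 92292 = n195292 := ndS (p := 55856) (l := 5) rfl N55856 D195292
theorem N92293 : nd 92293 = n195293 := ndS (p := 55857) (l := 0) rfl N55857 D195293
theorem N92294 : nd 92294 = n195294 := ndS (p := 55857) (l := 6) rfl N55857 D195294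
theorem N92295 : nd 92295 = n195295 := ndS (p := 55858) (l := 6) rfl N55858 D195295
theorem N92296 : nd 92296 = n195296 := ndS (p := 55859) (l := 0) rfl N55859 D195296
theorem N92297 : nd 92297 = n195297 := ndS (p := 55859) (l := 5) rfl N55859 D195297
theorem N92298 : nd 92298 = n195298 := ndS (p := 55860) (l := 0) rfl N55860 D195298
theorem N92299 : nd 92299 = n195299 := ndS (p := 55860) (l := 2) rfl N55860 D195299
theorem N92300 : nd 92300 = n195300 := ndS (p := 55860) (l := 5) rfl N55860 D195300
theorem N92301 : nd 92301 = n195301 := ndS (p := 55860) (l := 6) rfl N55860 D195301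
theorem N92302 : nd 92302 = n195302 := ndS (p := 55861) (l := 6) rfl N55861 D195302
theorem N92303 : nd 92303 = n195303 := ndS (p := 55865) (l := 6) rfl N55865 D195303
theorem N92304 : nd 92304 = n195304 := ndS (p := 55866) (l := 0) rfl N55866 D195304
theorem N92305 : nd 92305 = n195305 := ndS (p := 55866) (l := 1) rfl N55866 D195305
theorem N92306 : nd 92306 = n195306 := ndS (p := 55866) (l := 5) rfl N55866 D195306
theorem N92307 : nd 92307 = n195307 := ndS (p := 55866) (l := 7) rfl N55866 D195307
theorem N92308 : nd 92308 = n195308 := ndS (p := 55869) (l := 2) rfl N55869 D195308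
theorem N92309 : nd 92309 = n195309 := ndS (p := 55869) (l := 4) rfl N55869 D195309
theorem N92310 : nd 92310 = n195310 := ndS (p := 55869) (l := 7) rfl N55869 D195310
theorem N92311 : nd 92311 = n195311 := ndS (p := 55870) (l := 3) rfl N55870 D195311
theorem N92312 : nd 92312 = n195312 := ndS (p := 55870) (l := 4) rfl N55870 D195312
theorem N92313 : nd 92313 = n195313 := ndS (p := 55870) (l := 5) rfl N55870 D195313
theorem N92314 : nd 92314 = n195314 := ndS (p := 55870) (l := 6) rfl N55870 D195314
theorem N92315 : nd 92315 = n195315 := ndS (p := 55871) (l := 5) rfl N55871 D195315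
theorem N92316 : nd 92316 = n195316 := ndS (p := 55872) (l := 0) rfl N55872 D195316
theorem N92317 : nd 92317 = n195317 := ndS (p := 55872) (l := 1) rfl N55872 D195317
theorem N92318 : nd 92318 = n195318 := ndS (p := 55872) (l := 4) rfl N55872 D195318
theorem N92319 : nd 92319 = n195319 := ndS (p := 55872) (l := 6) rfl N55872 D195319
theorem N92320 : nd 92320 = n195320 := ndS (p := 55873) (l := 6) rfl N55873 D195320
theorem N92321 : nd 92321 = n195321 := ndS (p := 55874) (l := 0) rfl N55874 D195321
theorem N92322 : nd 92322 = n195322 := ndS (p := 55874) (l := 1) rfl N55874 D195322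
theorem N92323 : nd 92323 = n195323 := ndS (p := 55874) (l := 7) rfl N55874 D195323
theorem N92324 : nd 92324 = n195324 := ndS (p := 55875) (l := 5) rfl N55875 D195324
theorem N92325 : nd 92325 = n195325 := ndS (p := 55876) (l := 2) rfl N55876 D195325
theorem N92326 : nd 92326 = n195326 := ndS (p := 55876) (l := 6) rfl N55876 D195326
theorem N92327 : nd 92327 = n195327 := ndS (p := 55877) (l := 5) rfl N55877 D195327
theorem N92328 : nd 92328 = n195328 := ndS (p := 55879) (l := 1) rfl N55879 D195328
theorem N92329 : nd 92329 = n195329 := ndS (p := 55879) (l := 2) rfl N55879 D195329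
theorem N92330 : nd 92330 = n195330 := ndS (p := 55879) (l := 6) rfl N55879 D195330
theorem N92331 : nd 92331 = n195331 := ndS (p := 55880) (l := 5) rfl N55880 D195331
theorem N92332 : nd 92332 = n195332 := ndS (p := 55881) (l := 6) rfl N55881 D195332
theorem N92333 : nd 92333 = n195333 := ndS (p := 55883) (l := 0) rfl N55883 D195333
theorem N92334 : nd 92334 = n195334 := ndS (p := 55883) (l := 1) rfl N55883 D195334
theorem N92335 : nd 92335 = n195335 := ndS (p := 55883) (l := 5) rfl N55883 D195335
theorem N92336 : nd 92336 = n195336 := ndS (p := 55883) (l := 6) rfl N55883 D195336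
theorem N92337 : nd 92337 = n195337 := ndS (p := 55884) (l := 6) rfl N55884 D195337
theorem N92338 : nd 92338 = n195338 := ndS (p := 55885) (l := 1) rfl N55885 D195338
theorem N92339 : nd 92339 = n195339 := ndS (p := 55885) (l := 5) rfl N55885 D195339
theorem N92340 : nd 92340 = n195340 := ndS (p := 55885) (l := 7) rfl N55885 D195340
theorem N92341 : nd 92341 = n195341 := ndS (p := 55886) (l := 4) rfl N55886 D195341
theorem N92342 : nd 92342 = n195342 := ndS (p := 55887) (l := 4) rfl N55887 D195342
theorem N92343 : nd 92343 = n195343 := ndS (p := 55889) (l := 0) rfl N55889 D195343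
theorem N92344 : nd 92344 = n195344 := ndS (p := 55889) (l := 1) rfl N55889 D195344
theorem N92345 : nd 92345 = n195345 := ndS (p := 55889) (l := 2) rfl N55889 D195345
theorem N92346 : nd 92346 = n195346 := ndS (p := 55889) (l := 5) rfl N55889 D195346
theorem N92347 : nd 92347 = n195347 := ndS (p := 55889) (l := 6) rfl N55889 D195347
theorem N92348 : nd 92348 = n195348 := ndS (p := 55890) (l := 6) rfl N55890 D195348
theorem N92349 : nd 92349 = n195349 := ndS (p := 55891) (l := 5) rfl N55891 D195349
theorem N92350 : nd 92350 = n195350 := ndS (p := 55891) (l := 7) rfl N55891 D195350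
theorem N92351 : nd 92351 = n195351 := ndS (p := 55892) (l := 1) rfl N55892 D195351
theorem N92352 : nd 92352 = n195352 := ndS (p := 55892) (l := 2) rfl N55892 D195352
theorem N92353 : nd 92353 = n195353 := ndS (p := 55892) (l := 5) rfl N55892 D195353
theorem N92354 : nd 92354 = n195354 := ndS (p := 55892) (l := 6) rfl N55892 D195354
theorem N92355 : nd 92355 = n195355 := ndS (p := 55893) (l := 6) rfl N55893 D195355
theorem N92356 : nd 92356 = n195356 := ndS (p := 55894) (l := 5) rfl N55894 D195356
theorem N92357 : nd 92357 = n195357 := ndS (p := 55895) (l := 3) rfl N55895 D195357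
theorem N92358 : nd 92358 = n195358 := ndS (p := 55895) (l := 6) rfl N55895 D195358
theorem N92359 : nd 92359 = n195359 := ndS (p := 55896) (l := 3) rfl N55896 D195359
theorem N92360 : nd 92360 = n195361 := ndS (p := 55897) (l := 6) rfl N55897 D195361
theorem N92361 : nd 92361 = n195362 := ndS (p := 55899) (l := 0) rfl N55899 D195362
theorem N92362 : nd 92362 = n195363 := ndS (p := 55899) (l := 1) rfl N55899 D195363
theorem N92363 : nd 92363 = n195364 := ndS (p := 55899) (l := 5) rfl N55899 D195364
theorem N92364 : nd 92364 = n195365 := ndS (p := 55899) (l := 7) rfl N55899 D195365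
theorem N92365 : nd 92365 = n195366 := ndS (p := 55900) (l := 3) rfl N55900 D195366
theorem N92366 : nd 92366 = n195367 := ndS (p := 55900) (l := 6) rfl N55900 D195367
theorem N92367 : nd 92367 = n195368 := ndS (p := 55901) (l := 1) rfl N55901 D195368
theorem N92368 : nd 92368 = n195369 := ndS (p := 55901) (l := 5) rfl N55901 D195369
theorem N92369 : nd 92369 = n195370 := ndS (p := 55902) (l := 5) rfl N55902 D195370
theorem N92370 : nd 92370 = n195371 := ndS (p := 55903) (l := 5) rfl N55903 D195371
theorem N92371 : nd 92371 = n195372 := ndS (p := 55903) (l := 6) rfl N55903 D195372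
theorem N92372 : nd 92372 = n195373 := ndS (p := 55904) (l := 0) rfl N55904 D195373
theorem N92373 : nd 92373 = n195374 := ndS (p := 55904) (l := 1) rfl N55904 D195374
theorem N92374 : nd 92374 = n195375 := ndS (p := 55904) (l := 4) rfl N55904 D195375
theorem N92375 : nd 92375 = n195376 := ndS (p := 55904) (l := 7) rfl N55904 D195376
theorem N92376 : nd 92376 = n195377 := ndS (p := 55906) (l := 3) rfl N55906 D195377
theorem N92377 : nd 92377 = n195378 := ndS (p := 55906) (l := 5) rfl N55906 D195378
theorem N92378 : nd 92378 = n195379 := ndS (p := 55908) (l := 0) rfl N55908 D195379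
theorem N92379 : nd 92379 = n195380 := ndS (p := 55908) (l := 5) rfl N55908 D195380
theorem N92380 : nd 92380 = n195381 := ndS (p := 55908) (l := 7) rfl N55908 D195381
theorem N92381 : nd 92381 = n195382 := ndS (p := 55911) (l := 0) rfl N55911 D195382
theorem N92382 : nd 92382 = n195383 := ndS (p := 55911) (l := 1) rfl N55911 D195383
theorem N92383 : nd 92383 = n195384 := ndS (p := 55911) (l := 2) rfl N55911 D195384
theorem N92384 : nd 92384 = n195385 := ndS (p := 55911) (l := 6) rfl N55911 D195385
theorem N92385 : nd 92385 = n195386 := ndS (p := 55912) (l := 5) rfl N55912 D195386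
theorem N92386 : nd 92386 = n195387 := ndS (p := 55914) (l := 5) rfl N55914 D195387
theorem N92387 : nd 92387 = n195388 := ndS (p := 55914) (l := 6) rfl N55914 D195388
theorem N92388 : nd 92388 = n195389 := ndS (p := 55915) (l := 5) rfl N55915 D195389
theorem N92389 : nd 92389 = n195390 := ndS (p := 55915) (l := 6) rfl N55915 D195390
theorem N92390 : nd 92390 = n195391 := ndS (p := 55916) (l := 6) rfl N55916 D195391
theorem N92391 : nd 92391 = n195392 := ndS (p := 55917) (l := 0) rfl N55917 D195392
theorem N92392 : nd 92392 = n195393 := ndS (p := 55917) (l := 1) rfl N55917 D195393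
theorem N92393 : nd 92393 = n195394 := ndS (p := 55917) (l := 6) rfl N55917 D195394
theorem N92394 : nd 92394 = n195395 := ndS (p := 55918) (l := 0) rfl N55918 D195395
theorem N92395 : nd 92395 = n195396 := ndS (p := 55918) (l := 1) rfl N55918 D195396
theorem N92396 : nd 92396 = n195397 := ndS (p := 55918) (l := 5) rfl N55918 D195397
theorem N92397 : nd 92397 = n195398 := ndS (p := 55918) (l := 7) rfl N55918 D195398
theorem N92398 : nd 92398 = n195399 := ndS (p := 55919) (l := 0) rfl N55919 D195399
theorem N92399 : nd 92399 = n195400 := ndS (p := 55919) (l := 1) rfl N55919 D195400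
theorem N92400 : nd 92400 = n195401 := ndS (p := 55919) (l := 5) rfl N55919 D195401
theorem N92401 : nd 92401 = n195402 := ndS (p := 55919) (l := 7) rfl N55919 D195402
theorem N92402 : nd 92402 = n195403 := ndS (p := 55920) (l := 5) rfl N55920 D195403
theorem N92403 : nd 92403 = n195404 := ndS (p := 55921) (l := 5) rfl N55921 D195404
theorem N92404 : nd 92404 = n195405 := ndS (p := 55922) (l := 0) rfl N55922 D195405
theorem N92405 : nd 92405 = n195406 := ndS (p := 55922) (l := 1) rfl N55922 D195406
theorem N92406 : nd 92406 = n195407 := ndS (p := 55922) (l := 4) rfl N55922 D195407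
theorem N92407 : nd 92407 = n195408 := ndS (p := 55922) (l := 7) rfl N55922 D195408
theorem N92408 : nd 92408 = n195409 := ndS (p := 55924) (l := 3) rfl N55924 D195409
theorem N92409 : nd 92409 = n195410 := ndS (p := 55924) (l := 5) rfl N55924 D195410
theorem N92410 : nd 92410 = n195411 := ndS (p := 55926) (l := 0) rfl N55926 D195411
theorem N92411 : nd 92411 = n195412 := ndS (p := 55926) (l := 1) rfl N55926 D195412
theorem N92412 : nd 92412 = n195413 := ndS (p := 55926) (l := 2) rfl N55926 D195413
theorem N92413 : nd 92413 = n195414 := ndS (p := 55926) (l := 6) rfl N55926 D195414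
theorem N92414 : nd 92414 = n195415 := ndS (p := 55927) (l := 5) rfl N55927 D195415
theorem N92415 : nd 92415 = n195416 := ndS (p := 55928) (l := 3) rfl N55928 D195416
theorem N92416 : nd 92416 = n195417 := ndS (p := 55928) (l := 6) rfl N55928 D195417
theorem N92417 : nd 92417 = n195418 := ndS (p := 55929) (l := 3) rfl N55929 D195418
theorem N92418 : nd 92418 = n195419 := ndS (p := 55930) (l := 6) rfl N55930 D195419
theorem N92419 : nd 92419 = n195420 := ndS (p := 55932) (l := 0) rfl N55932 D195420
theorem N92420 : nd 92420 = n195421 := ndS (p := 55932) (l := 1) rfl N55932 D195421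
theorem N92421 : nd 92421 = n195422 := ndS (p := 55932) (l := 7) rfl N55932 D195422
theorem N92422 : nd 92422 = n195423 := ndS (p := 55933) (l := 6) rfl N55933 D195423
theorem N92423 : nd 92423 = n195424 := ndS (p := 55934) (l := 0) rfl N55934 D195424
theorem N92424 : nd 92424 = n195425 := ndS (p := 55934) (l := 1) rfl N55934 D195425
theorem N92425 : nd 92425 = n195426 := ndS (p := 55935) (l := 3) rfl N55935 D195426
theorem N92426 : nd 92426 = n195427 := ndS (p := 55936) (l := 6) rfl N55936 D195427
theorem N92427 : nd 92427 = n195428 := ndS (p := 55939) (l := 4) rfl N55939 D195428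
theorem N92428 : nd 92428 = n195429 := ndS (p := 55940) (l := 5) rfl N55940 D195429
theorem N92429 : nd 92429 = n195430 := ndS (p := 55940) (l := 6) rfl N55940 D195430
theorem N92430 : nd 92430 = n195431 := ndS (p := 55943) (l := 3) rfl N55943 D195431
theorem N92431 : nd 92431 = n195435 := ndS (p := 55945) (l := 5) rfl N55945 D195435
theorem N92432 : nd 92432 = n195436 := ndS (p := 55946) (l := 0) rfl N55946 D195436
theorem N92433 : nd 92433 = n195437 := ndS (p := 55946) (l := 1) rfl N55946 D195437
theorem N92434 : nd 92434 = n195438 := ndS (p := 55946) (l := 4) rfl N55946 D195438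
theorem N92435 : nd 92435 = n195439 := ndS (p := 55946) (l := 6) rfl N55946 D195439
theorem N92436 : nd 92436 = n195440 := ndS (p := 55947) (l := 0) rfl N55947 D195440
theorem N92437 : nd 92437 = n195441 := ndS (p := 55947) (l := 1) rfl N55947 D195441
theorem N92438 : nd 92438 = n195442 := ndS (p := 55947) (l := 5) rfl N55947 D195442
theorem N92439 : nd 92439 = n195443 := ndS (p := 55947) (l := 7) rfl N55947 D195443
theorem N92440 : nd 92440 = n195444 := ndS (p := 55948) (l := 0) rfl N55948 D195444
theorem N92441 : nd 92441 = n195445 := ndS (p := 55948) (l := 1) rfl N55948 D195445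
theorem N92442 : nd 92442 = n195446 := ndS (p := 55948) (l := 5) rfl N55948 D195446
theorem N92443 : nd 92443 = n195447 := ndS (p := 55948) (l := 7) rfl N55948 D195447
theorem N92444 : nd 92444 = n195448 := ndS (p := 55949) (l := 3) rfl N55949 D195448
theorem N92445 : nd 92445 = n195449 := ndS (p := 55949) (l := 5) rfl N55949 D195449
theorem N92446 : nd 92446 = n195450 := ndS (p := 55949) (l := 6) rfl N55949 D195450
theorem N92447 : nd 92447 = n195451 := ndS (p := 55950) (l := 3) rfl N55950 D195451
theorem N92448 : nd 92448 = n195452 := ndS (p := 55950) (l := 5) rfl N55950 D195452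
theorem N92449 : nd 92449 = n195453 := ndS (p := 55951) (l := 0) rfl N55951 D195453
theorem N92450 : nd 92450 = n195454 := ndS (p := 55951) (l := 1) rfl N55951 D195454
theorem N92451 : nd 92451 = n195455 := ndS (p := 55951) (l := 7) rfl N55951 D195455
theorem N92452 : nd 92452 = n195456 := ndS (p := 55953) (l := 5) rfl N55953 D195456
theorem N92453 : nd 92453 = n195457 := ndS (p := 55953) (l := 6) rfl N55953 D195457
theorem N92454 : nd 92454 = n195458 := ndS (p := 55955) (l := 3) rfl N55955 D195458
theorem N92455 : nd 92455 = n195459 := ndS (p := 55955) (l := 5) rfl N55955 D195459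
theorem N92456 : nd 92456 = n195460 := ndS (p := 55957) (l := 4) rfl N55957 D195460
theorem N92457 : nd 92457 = n195461 := ndS (p := 55957) (l := 5) rfl N55957 D195461
theorem N92458 : nd 92458 = n195462 := ndS (p := 55957) (l := 6) rfl N55957 D195462
theorem N92459 : nd 92459 = n195463 := ndS (p := 55958) (l := 5) rfl N55958 D195463
theorem N92460 : nd 92460 = n195465 := ndS (p := 55959) (l := 5) rfl N55959 D195465
theorem N92461 : nd 92461 = n195466 := ndS (p := 55960) (l := 0) rfl N55960 D195466
theorem N92462 : nd 92462 = n195467 := ndS (p := 55960) (l := 1) rfl N55960 D195467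
theorem N92463 : nd 92463 = n195468 := ndS (p := 55960) (l := 4) rfl N55960 D195468
theorem N92464 : nd 92464 = n195469 := ndS (p := 55960) (l := 6) rfl N55960 D195469
theorem N92465 : nd 92465 = n195470 := ndS (p := 55961) (l := 0) rfl N55961 D195470
theorem N92466 : nd 92466 = n195471 := ndS (p := 55962) (l := 0) rfl N55962 D195471
theorem N92467 : nd 92467 = n195472 := ndS (p := 55962) (l := 1) rfl N55962 D195472
theorem N92468 : nd 92468 = n195473 := ndS (p := 55962) (l := 5) rfl N55962 D195473
theorem N92469 : nd 92469 = n195474 := ndS (p := 55962) (l := 7) rfl N55962 D195474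
theorem N92470 : nd 92470 = n195475 := ndS (p := 55965) (l := 3) rfl N55965 D195475
theorem N92471 : nd 92471 = n195476 := ndS (p := 55965) (l := 5) rfl N55965 D195476
theorem N92472 : nd 92472 = n195477 := ndS (p := 55966) (l := 3) rfl N55966 D195477
theorem N92473 : nd 92473 = n195478 := ndS (p := 55966) (l := 5) rfl N55966 D195478
theorem N92474 : nd 92474 = n195479 := ndS (p := 55966) (l := 6) rfl N55966 D195479
theorem N92475 : nd 92475 = n195480 := ndS (p := 55967) (l := 5) rfl N55967 D195480
theorem N92476 : nd 92476 = n195481 := ndS (p := 55967) (l := 6) rfl N55967 D195481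
theorem N92477 : nd 92477 = n195482 := ndS (p := 55968) (l := 0) rfl N55968 D195482
theorem N92478 : nd 92478 = n195483 := ndS (p := 55968) (l := 1) rfl N55968 D195483
theorem N92479 : nd 92479 = n195484 := ndS (p := 55968) (l := 4) rfl N55968 D195484
theorem N92480 : nd 92480 = n195485 := ndS (p := 55968) (l := 6) rfl N55968 D195485
theorem N92481 : nd 92481 = n195486 := ndS (p := 55969) (l := 0) rfl N55969 D195486
theorem N92482 : nd 92482 = n195487 := ndS (p := 55969) (l := 1) rfl N55969 D195487
theorem N92483 : nd 92483 = n195488 := ndS (p := 55969) (l := 5) rfl N55969 D195488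
theorem N92484 : nd 92484 = n195489 := ndS (p := 55969) (l := 7) rfl N55969 D195489
theorem N92485 : nd 92485 = n195490 := ndS (p := 55970) (l := 1) rfl N55970 D195490
theorem N92486 : nd 92486 = n195491 := ndS (p := 55970) (l := 5) rfl N55970 D195491
theorem N92487 : nd 92487 = n195492 := ndS (p := 55970) (l := 7) rfl N55970 D195492
theorem N92488 : nd 92488 = n195493 := ndS (p := 55971) (l := 0) rfl N55971 D195493
theorem N92489 : nd 92489 = n195494 := ndS (p := 55971) (l := 1) rfl N55971 D195494
theorem N92490 : nd 92490 = n195495 := ndS (p := 55971) (l := 7) rfl N55971 D195495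
theorem N92491 : nd 92491 = n195496 := ndS (p := 55973) (l := 1) rfl N55973 D195496
theorem N92492 : nd 92492 = n195497 := ndS (p := 55973) (l := 6) rfl N55973 D195497
theorem N92493 : nd 92493 = n195498 := ndS (p := 55977) (l := 4) rfl N55977 D195498
theorem N92494 : nd 92494 = n195499 := ndS (p := 55978) (l := 5) rfl N55978 D195499
theorem N92495 : nd 92495 = n195500 := ndS (p := 55979) (l := 4) rfl N55979 D195500
theorem N92496 : nd 92496 = n195501 := ndS (p := 55981) (l := 6) rfl N55981 D195501
theorem N92497 : nd 92497 = n195502 := ndS (p := 55982) (l := 0) rfl N55982 D195502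
theorem N92498 : nd 92498 = n195503 := ndS (p := 55982) (l := 3) rfl N55982 D195503
theorem N92499 : nd 92499 = n195504 := ndS (p := 55983) (l := 4) rfl N55983 D195504
theorem N92500 : nd 92500 = n195505 := ndS (p := 55983) (l := 6) rfl N55983 D195505
theorem N92501 : nd 92501 = n195506 := ndS (p := 55984) (l := 5) rfl N55984 D195506
theorem N92502 : nd 92502 = n195507 := ndS (p := 55985) (l := 2) rfl N55985 D195507
theorem N92503 : nd 92503 = n195508 := ndS (p := 55985) (l := 6) rfl N55985 D195508
theorem N92504 : nd 92504 = n195509 := ndS (p := 55986) (l := 0) rfl N55986 D195509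
theorem N92505 : nd 92505 = n195510 := ndS (p := 55986) (l := 1) rfl N55986 D195510
theorem N92506 : nd 92506 = n195511 := ndS (p := 55986) (l := 5) rfl N55986 D195511
theorem N92507 : nd 92507 = n195512 := ndS (p := 55986) (l := 7) rfl N55986 D195512
theorem N92508 : nd 92508 = n195513 := ndS (p := 55988) (l := 5) rfl N55988 D195513
theorem N92509 : nd 92509 = n195514 := ndS (p := 55989) (l := 4) rfl N55989 D195514
theorem N92510 : nd 92510 = n195515 := ndS (p := 55989) (l := 5) rfl N55989 D195515
theorem N92511 : nd 92511 = n195516 := ndS (p := 55989) (l := 6) rfl N55989 D195516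
theorem N92512 : nd 92512 = n195517 := ndS (p := 55990) (l := 6) rfl N55990 D195517
theorem N92513 : nd 92513 = n195518 := ndS (p := 55992) (l := 0) rfl N55992 D195518
theorem N92514 : nd 92514 = n195519 := ndS (p := 55992) (l := 5) rfl N55992 D195519
theorem N92515 : nd 92515 = n195520 := ndS (p := 55993) (l := 3) rfl N55993 D195520
theorem N92516 : nd 92516 = n195521 := ndS (p := 55993) (l := 5) rfl N55993 D195521
theorem N92517 : nd 92517 = n195522 := ndS (p := 55993) (l := 6) rfl N55993 D195522
theorem N92518 : nd 92518 = n195523 := ndS (p := 55994) (l := 3) rfl N55994 D195523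
theorem N92519 : nd 92519 = n195524 := ndS (p := 55994) (l := 5) rfl N55994 D195524
theorem N92520 : nd 92520 = n195525 := ndS (p := 55994) (l := 6) rfl N55994 D195525
theorem N92521 : nd 92521 = n195527 := ndS (p := 55995) (l := 1) rfl N55995 D195527
theorem N92522 : nd 92522 = n195528 := ndS (p := 55996) (l := 6) rfl N55996 D195528
theorem N92523 : nd 92523 = n195529 := ndS (p := 55997) (l := 3) rfl N55997 D195529
theorem N92524 : nd 92524 = n195530 := ndS (p := 55997) (l := 6) rfl N55997 D195530
theorem N92525 : nd 92525 = n195531 := ndS (p := 56000) (l := 0) rfl N56000 D195531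
theorem N92526 : nd 92526 = n195532 := ndS (p := 56000) (l := 1) rfl N56000 D195532
theorem N92527 : nd 92527 = n195533 := ndS (p := 56000) (l := 5) rfl N56000 D195533
theorem N92528 : nd 92528 = n195534 := ndS (p := 56000) (l := 7) rfl N56000 D195534
theorem N92529 : nd 92529 = n195535 := ndS (p := 56002) (l := 3) rfl N56002 D195535
theorem N92530 : nd 92530 = n195536 := ndS (p := 56002) (l := 5) rfl N56002 D195536
theorem N92531 : nd 92531 = n195537 := ndS (p := 56002) (l := 6) rfl N56002 D195537
theorem N92532 : nd 92532 = n195538 := ndS (p := 56003) (l := 4) rfl N56003 D195538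
theorem N92533 : nd 92533 = n195539 := ndS (p := 56006) (l := 3) rfl N56006 D195539
theorem N92534 : nd 92534 = n195540 := ndS (p := 56008) (l := 6) rfl N56008 D195540
theorem N92535 : nd 92535 = n195541 := ndS (p := 56009) (l := 3) rfl N56009 D195541
theorem N92536 : nd 92536 = n195542 := ndS (p := 56009) (l := 5) rfl N56009 D195542
theorem N92537 : nd 92537 = n195543 := ndS (p := 56009) (l := 6) rfl N56009 D195543
theorem N92538 : nd 92538 = n195544 := ndS (p := 56011) (l := 4) rfl N56011 D195544
theorem N92539 : nd 92539 = n195545 := ndS (p := 56013) (l := 6) rfl N56013 D195545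
theorem N92540 : nd 92540 = n195547 := ndS (p := 56014) (l := 5) rfl N56014 D195547
theorem N92541 : nd 92541 = n195548 := ndS (p := 56015) (l := 1) rfl N56015 D195548
theorem N92542 : nd 92542 = n195549 := ndS (p := 56015) (l := 2) rfl N56015 D195549
theorem N92543 : nd 92543 = n195550 := ndS (p := 56015) (l := 5) rfl N56015 D195550
theorem N92544 : nd 92544 = n195551 := ndS (p := 56015) (l := 6) rfl N56015 D195551
theorem N92545 : nd 92545 = n195552 := ndS (p := 56016) (l := 0) rfl N56016 D195552
theorem N92546 : nd 92546 = n195553 := ndS (p := 56016) (l := 1) rfl N56016 D195553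
theorem N92547 : nd 92547 = n195554 := ndS (p := 56016) (l := 4) rfl N56016 D195554
theorem N92548 : nd 92548 = n195555 := ndS (p := 56016) (l := 6) rfl N56016 D195555
theorem N92549 : nd 92549 = n195556 := ndS (p := 56018) (l := 6) rfl N56018 D195556
theorem N92550 : nd 92550 = n195557 := ndS (p := 56020) (l := 4) rfl N56020 D195557
theorem N92551 : nd 92551 = n195558 := ndS (p := 56023) (l := 5) rfl N56023 D195558
theorem N92552 : nd 92552 = n195559 := ndS (p := 56023) (l := 6) rfl N56023 D195559
theorem N92553 : nd 92553 = n195560 := ndS (p := 56024) (l := 6) rfl N56024 D195560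
theorem N92554 : nd 92554 = n195561 := ndS (p := 56025) (l := 0) rfl N56025 D195561
theorem N92555 : nd 92555 = n195562 := ndS (p := 56025) (l := 5) rfl N56025 D195562
theorem N92556 : nd 92556 = n195563 := ndS (p := 56026) (l := 3) rfl N56026 D195563
theorem N92557 : nd 92557 = n195564 := ndS (p := 56030) (l := 0) rfl N56030 D195564
theorem N92558 : nd 92558 = n195565 := ndS (p := 56030) (l := 6) rfl N56030 D195565
theorem N92559 : nd 92559 = n195566 := ndS (p := 56034) (l := 6) rfl N56034 D195566
theorem N92560 : nd 92560 = n195567 := ndS (p := 56035) (l := 6) rfl N56035 D195567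
theorem N92561 : nd 92561 = n195568 := ndS (p := 56036) (l := 0) rfl N56036 D195568
theorem N92562 : nd 92562 = n195569 := ndS (p := 56036) (l := 7) rfl N56036 D195569
theorem N92563 : nd 92563 = n195570 := ndS (p := 56037) (l := 6) rfl N56037 D195570
theorem N92564 : nd 92564 = n195571 := ndS (p := 56038) (l := 4) rfl N56038 D195571
theorem N92565 : nd 92565 = n195572 := ndS (p := 56038) (l := 6) rfl N56038 D195572
theorem N92566 : nd 92566 = n195573 := ndS (p := 56040) (l := 3) rfl N56040 D195573
theorem N92567 : nd 92567 = n195574 := ndS (p := 56040) (l := 6) rfl N56040 D195574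
theorem N92568 : nd 92568 = n195575 := ndS (p := 56042) (l := 0) rfl N56042 D195575
theorem N92569 : nd 92569 = n195576 := ndS (p := 56046) (l := 3) rfl N56046 D195576
theorem N92570 : nd 92570 = n195577 := ndS (p := 56046) (l := 5) rfl N56046 D195577
theorem N92571 : nd 92571 = n195578 := ndS (p := 56047) (l := 7) rfl N56047 D195578
theorem N92572 : nd 92572 = n195579 := ndS (p := 56048) (l := 4) rfl N56048 D195579
theorem N92573 : nd 92573 = n195580 := ndS (p := 56057) (l := 1) rfl N56057 D195580
theorem N92574 : nd 92574 = n195581 := ndS (p := 56058) (l := 3) rfl N56058 D195581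
theorem N92575 : nd 92575 = n195582 := ndS (p := 56058) (l := 4) rfl N56058 D195582
theorem N92576 : nd 92576 = n195583 := ndS (p := 56059) (l := 4) rfl N56059 D195583
theorem N92577 : nd 92577 = n195584 := ndS (p := 56059) (l := 6) rfl N56059 D195584
theorem N92578 : nd 92578 = n195585 := ndS (p := 56066) (l := 0) rfl N56066 D195585
theorem N92579 : nd 92579 = n195586 := ndS (p := 56066) (l := 2) rfl N56066 D195586
theorem N92580 : nd 92580 = n195587 := ndS (p := 56070) (l := 3) rfl N56070 D195587
theorem N92581 : nd 92581 = n195588 := ndS (p := 56075) (l := 2) rfl N56075 D195588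
theorem N92582 : nd 92582 = n195589 := ndS (p := 56075) (l := 4) rfl N56075 D195589
theorem N92583 : nd 92583 = n195590 := ndS (p := 56075) (l := 6) rfl N56075 D195590
theorem N92584 : nd 92584 = n195591 := ndS (p := 56080) (l := 3) rfl N56080 D195591
theorem N92585 : nd 92585 = n195592 := ndS (p := 56082) (l := 0) rfl N56082 D195592
theorem N92586 : nd 92586 = n195593 := ndS (p := 56083) (l := 4) rfl N56083 D195593
theorem N92587 : nd 92587 = n195594 := ndS (p := 56086) (l := 4) rfl N56086 D195594
theorem N92588 : nd 92588 = n195595 := ndS (p := 56087) (l := 7) rfl N56087 D195595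
theorem N92589 : nd 92589 = n195596 := ndS (p := 56091) (l := 6) rfl N56091 D195596
theorem N92590 : nd 92590 = n195597 := ndS (p := 56096) (l := 4) rfl N56096 D195597
theorem N92591 : nd 92591 = n195598 := ndS (p := 56097) (l := 5) rfl N56097 D195598
theorem N92592 : nd 92592 = n195599 := ndS (p := 56099) (l := 6) rfl N56099 D195599
theorem N92593 : nd 92593 = n195600 := ndS (p := 56100) (l := 6) rfl N56100 D195600
theorem N92594 : nd 92594 = n195601 := ndS (p := 56105) (l := 0) rfl N56105 D195601
theorem N92595 : nd 92595 = n195602 := ndS (p := 56105) (l := 1) rfl N56105 D195602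
theorem N92596 : nd 92596 = n195603 := ndS (p := 56105) (l := 5) rfl N56105 D195603
theorem N92597 : nd 92597 = n195604 := ndS (p := 56107) (l := 6) rfl N56107 D195604
theorem N92598 : nd 92598 = n195605 := ndS (p := 56114) (l := 5) rfl N56114 D195605
theorem N92599 : nd 92599 = n195606 := ndS (p := 56120) (l := 1) rfl N56120 D195606
theorem N92600 : nd 92600 = n195607 := ndS (p := 56120) (l := 5) rfl N56120 D195607
theorem N92601 : nd 92601 = n195608 := ndS (p := 56122) (l := 5) rfl N56122 D195608
theorem N92602 : nd 92602 = n195609 := ndS (p := 56126) (l := 5) rfl N56126 D195609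
theorem N92603 : nd 92603 = n195610 := ndS (p := 56132) (l := 4) rfl N56132 D195610
theorem N92604 : nd 92604 = n195611 := ndS (p := 56140) (l := 4) rfl N56140 D195611
theorem N92605 : nd 92605 = n195612 := ndS (p := 56143) (l := 5) rfl N56143 D195612
theorem N92606 : nd 92606 = n195613 := ndS (p := 56143) (l := 6) rfl N56143 D195613
theorem N92607 : nd 92607 = n195614 := ndS (p := 56146) (l := 0) rfl N56146 D195614
theorem N92608 : nd 92608 = n195615 := ndS (p := 56146) (l := 1) rfl N56146 D195615
theorem N92609 : nd 92609 = n195616 := ndS (p := 56149) (l := 3) rfl N56149 D195616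
theorem N92610 : nd 92610 = n195617 := ndS (p := 56150) (l := 3) rfl N56150 D195617
theorem N92611 : nd 92611 = n195618 := ndS (p := 56155) (l := 3) rfl N56155 D195618
theorem N92612 : nd 92612 = n195619 := ndS (p := 56156) (l := 0) rfl N56156 D195619
theorem N92613 : nd 92613 = n195620 := ndS (p := 56156) (l := 1) rfl N56156 D195620
theorem N92614 : nd 92614 = n195621 := ndS (p := 56156) (l := 2) rfl N56156 D195621
theorem N92615 : nd 92615 = n195622 := ndS (p := 56156) (l := 6) rfl N56156 D195622
theorem N92616 : nd 92616 = n195623 := ndS (p := 56157) (l := 0) rfl N56157 D195623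
theorem N92617 : nd 92617 = n195624 := ndS (p := 56157) (l := 1) rfl N56157 D195624
theorem N92618 : nd 92618 = n195625 := ndS (p := 56157) (l := 5) rfl N56157 D195625
theorem N92619 : nd 92619 = n195626 := ndS (p := 56157) (l := 7) rfl N56157 D195626
theorem N92620 : nd 92620 = n195627 := ndS (p := 56158) (l := 6) rfl N56158 D195627
theorem N92621 : nd 92621 = n195628 := ndS (p := 56160) (l := 3) rfl N56160 D195628
theorem N92622 : nd 92622 = n195629 := ndS (p := 56160) (l := 4) rfl N56160 D195629
theorem N92623 : nd 92623 = n195630 := ndS (p := 56161) (l := 6) rfl N56161 D195630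
theorem N92624 : nd 92624 = n195631 := ndS (p := 56162) (l := 0) rfl N56162 D195631
theorem N92625 : nd 92625 = n195632 := ndS (p := 56162) (l := 1) rfl N56162 D195632
theorem N92626 : nd 92626 = n195633 := ndS (p := 56163) (l := 3) rfl N56163 D195633
theorem N92627 : nd 92627 = n195634 := ndS (p := 56163) (l := 4) rfl N56163 D195634
theorem N92628 : nd 92628 = n195635 := ndS (p := 56163) (l := 6) rfl N56163 D195635
theorem N92629 : nd 92629 = n195636 := ndS (p := 56164) (l := 3) rfl N56164 D195636
theorem N92630 : nd 92630 = n195637 := ndS (p := 56164) (l := 4) rfl N56164 D195637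
theorem N92631 : nd 92631 = n195638 := ndS (p := 56164) (l := 6) rfl N56164 D195638
theorem N92632 : nd 92632 = n195639 := ndS (p := 56167) (l := 7) rfl N56167 D195639
theorem N92633 : nd 92633 = n195640 := ndS (p := 56169) (l := 4) rfl N56169 D195640
theorem N92634 : nd 92634 = n195641 := ndS (p := 56169) (l := 6) rfl N56169 D195641
theorem N92635 : nd 92635 = n195642 := ndS (p := 56174) (l := 0) rfl N56174 D195642
theorem N92636 : nd 92636 = n195644 := ndS (p := 56176) (l := 5) rfl N56176 D195644
theorem N92637 : nd 92637 = n195645 := ndS (p := 56176) (l := 6) rfl N56176 D195645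
theorem N92638 : nd 92638 = n195646 := ndS (p := 56177) (l := 5) rfl N56177 D195646
theorem N92639 : nd 92639 = n195647 := ndS (p := 56178) (l := 5) rfl N56178 D195647
theorem N92640 : nd 92640 = n195648 := ndS (p := 56180) (l := 6) rfl N56180 D195648
theorem N92641 : nd 92641 = n195649 := ndS (p := 56182) (l := 5) rfl N56182 D195649
theorem N92642 : nd 92642 = n195650 := ndS (p := 56182) (l := 6) rfl N56182 D195650
theorem N92643 : nd 92643 = n195651 := ndS (p := 56184) (l := 6) rfl N56184 D195651
theorem N92644 : nd 92644 = n195652 := ndS (p := 56185) (l := 5) rfl N56185 D195652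
theorem N92645 : nd 92645 = n195653 := ndS (p := 56185) (l := 6) rfl N56185 D195653
theorem N92646 : nd 92646 = n195654 := ndS (p := 56186) (l := 0) rfl N56186 D195654
theorem N92647 : nd 92647 = n195655 := ndS (p := 56186) (l := 1) rfl N56186 D195655
theorem N92648 : nd 92648 = n195656 := ndS (p := 56186) (l := 7) rfl N56186 D195656
theorem N92649 : nd 92649 = n195657 := ndS (p := 56188) (l := 6) rfl N56188 D195657
theorem N92650 : nd 92650 = n195658 := ndS (p := 56189) (l := 0) rfl N56189 D195658
theorem N92651 : nd 92651 = n195659 := ndS (p := 56189) (l := 1) rfl N56189 D195659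
theorem N92652 : nd 92652 = n195660 := ndS (p := 56189) (l := 4) rfl N56189 D195660
theorem N92653 : nd 92653 = n195661 := ndS (p := 56191) (l := 4) rfl N56191 D195661
theorem N92654 : nd 92654 = n195662 := ndS (p := 56192) (l := 4) rfl N56192 D195662
theorem N92655 : nd 92655 = n195663 := ndS (p := 56192) (l := 6) rfl N56192 D195663
theorem N92656 : nd 92656 = n195664 := ndS (p := 56193) (l := 0) rfl N56193 D195664
theorem N92657 : nd 92657 = n195665 := ndS (p := 56193) (l := 5) rfl N56193 D195665
theorem N92658 : nd 92658 = n195666 := ndS (p := 56193) (l := 7) rfl N56193 D195666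
theorem N92659 : nd 92659 = n195667 := ndS (p := 56195) (l := 0) rfl N56195 D195667
theorem N92660 : nd 92660 = n195668 := ndS (p := 56195) (l := 4) rfl N56195 D195668
theorem N92661 : nd 92661 = n195669 := ndS (p := 56197) (l := 3) rfl N56197 D195669
theorem N92662 : nd 92662 = n195670 := ndS (p := 56197) (l := 6) rfl N56197 D195670
theorem N92663 : nd 92663 = n195671 := ndS (p := 56199) (l := 3) rfl N56199 D195671
theorem N92664 : nd 92664 = n195672 := ndS (p := 56200) (l := 1) rfl N56200 D195672
theorem N92665 : nd 92665 = n195673 := ndS (p := 56200) (l := 7) rfl N56200 D195673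
theorem N92666 : nd 92666 = n195674 := ndS (p := 56202) (l := 4) rfl N56202 D195674
theorem N92667 : nd 92667 = n195675 := ndS (p := 56203) (l := 5) rfl N56203 D195675
theorem N92668 : nd 92668 = n195676 := ndS (p := 56204) (l := 6) rfl N56204 D195676
theorem N92669 : nd 92669 = n195677 := ndS (p := 56206) (l := 3) rfl N56206 D195677
theorem N92670 : nd 92670 = n195678 := ndS (p := 56206) (l := 6) rfl N56206 D195678
theorem N92671 : nd 92671 = n195679 := ndS (p := 56207) (l := 5) rfl N56207 D195679
theorem N92672 : nd 92672 = n195680 := ndS (p := 56211) (l := 7) rfl N56211 D195680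
theorem N92673 : nd 92673 = n195681 := ndS (p := 56212) (l := 5) rfl N56212 D195681
theorem N92674 : nd 92674 = n195682 := ndS (p := 56213) (l := 5) rfl N56213 D195682
theorem N92675 : nd 92675 = n195683 := ndS (p := 56215) (l := 4) rfl N56215 D195683
theorem N92676 : nd 92676 = n195684 := ndS (p := 56219) (l := 3) rfl N56219 D195684
theorem N92677 : nd 92677 = n195685 := ndS (p := 56219) (l := 5) rfl N56219 D195685
theorem N92678 : nd 92678 = n195686 := ndS (p := 56219) (l := 6) rfl N56219 D195686
theorem N92679 : nd 92679 = n195687 := ndS (p := 56220) (l := 1) rfl N56220 D195687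
theorem N92680 : nd 92680 = n195688 := ndS (p := 56221) (l := 3) rfl N56221 D195688
theorem N92681 : nd 92681 = n195689 := ndS (p := 56221) (l := 7) rfl N56221 D195689
theorem N92682 : nd 92682 = n195690 := ndS (p := 56222) (l := 0) rfl N56222 D195690
theorem N92683 : nd 92683 = n195691 := ndS (p := 56222) (l := 4) rfl N56222 D195691
theorem N92684 : nd 92684 = n195692 := ndS (p := 56222) (l := 7) rfl N56222 D195692
theorem N92685 : nd 92685 = n195693 := ndS (p := 56223) (l := 7) rfl N56223 D195693
theorem N92686 : nd 92686 = n195694 := ndS (p := 56225) (l := 0) rfl N56225 D195694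
theorem N92687 : nd 92687 = n195695 := ndS (p := 56225) (l := 2) rfl N56225 D195695
theorem N92688 : nd 92688 = n195696 := ndS (p := 56225) (l := 5) rfl N56225 D195696
theorem N92689 : nd 92689 = n195697 := ndS (p := 56225) (l := 6) rfl N56225 D195697
theorem N92690 : nd 92690 = n195698 := ndS (p := 56226) (l := 5) rfl N56226 D195698
theorem N92691 : nd 92691 = n195699 := ndS (p := 56226) (l := 6) rfl N56226 D195699
theorem N92692 : nd 92692 = n195700 := ndS (p := 56227) (l := 4) rfl N56227 D195700
theorem N92693 : nd 92693 = n195701 := ndS (p := 56227) (l := 6) rfl N56227 D195701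
theorem N92694 : nd 92694 = n195702 := ndS (p := 56229) (l := 4) rfl N56229 D195702
theorem N92695 : nd 92695 = n195703 := ndS (p := 56229) (l := 6) rfl N56229 D195703
theorem N92696 : nd 92696 = n195704 := ndS (p := 56230) (l := 4) rfl N56230 D195704
theorem N92697 : nd 92697 = n195705 := ndS (p := 56231) (l := 3) rfl N56231 D195705
theorem N92698 : nd 92698 = n195706 := ndS (p := 56231) (l := 4) rfl N56231 D195706
theorem N92699 : nd 92699 = n195707 := ndS (p := 56231) (l := 6) rfl N56231 D195707
theorem N92700 : nd 92700 = n195708 := ndS (p := 56232) (l := 0) rfl N56232 D195708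
theorem N92701 : nd 92701 = n195709 := ndS (p := 56232) (l := 1) rfl N56232 D195709
theorem N92702 : nd 92702 = n195710 := ndS (p := 56232) (l := 5) rfl N56232 D195710
theorem N92703 : nd 92703 = n195711 := ndS (p := 56232) (l := 6) rfl N56232 D195711
theorem N92704 : nd 92704 = n195712 := ndS (p := 56233) (l := 0) rfl N56233 D195712
theorem N92705 : nd 92705 = n195713 := ndS (p := 56233) (l := 1) rfl N56233 D195713
theorem N92706 : nd 92706 = n195714 := ndS (p := 56233) (l := 7) rfl N56233 D195714
theorem N92707 : nd 92707 = n195715 := ndS (p := 56234) (l := 5) rfl N56234 D195715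
theorem N92708 : nd 92708 = n195716 := ndS (p := 56235) (l := 3) rfl N56235 D195716
theorem N92709 : nd 92709 = n195717 := ndS (p := 56235) (l := 5) rfl N56235 D195717
theorem N92710 : nd 92710 = n195718 := ndS (p := 56235) (l := 6) rfl N56235 D195718
theorem N92711 : nd 92711 = n195719 := ndS (p := 56239) (l := 4) rfl N56239 D195719
theorem N92712 : nd 92712 = n195720 := ndS (p := 56239) (l := 6) rfl N56239 D195720
theorem N92713 : nd 92713 = n195721 := ndS (p := 56240) (l := 4) rfl N56240 D195721
theorem N92714 : nd 92714 = n195722 := ndS (p := 56241) (l := 4) rfl N56241 D195722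
theorem N92715 : nd 92715 = n195723 := ndS (p := 56242) (l := 0) rfl N56242 D195723
theorem N92716 : nd 92716 = n195724 := ndS (p := 56242) (l := 1) rfl N56242 D195724
theorem N92717 : nd 92717 = n195725 := ndS (p := 56242) (l := 3) rfl N56242 D195725
theorem N92718 : nd 92718 = n195726 := ndS (p := 56242) (l := 5) rfl N56242 D195726
theorem N92719 : nd 92719 = n195727 := ndS (p := 56242) (l := 6) rfl N56242 D195727
theorem N92720 : nd 92720 = n195728 := ndS (p := 56243) (l := 0) rfl N56243 D195728
theorem N92721 : nd 92721 = n195729 := ndS (p := 56243) (l := 7) rfl N56243 D195729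
theorem N92722 : nd 92722 = n195730 := ndS (p := 56245) (l := 4) rfl N56245 D195730
theorem N92723 : nd 92723 = n195733 := ndS (p := 56246) (l := 6) rfl N56246 D195733
theorem N92724 : nd 92724 = n195734 := ndS (p := 56247) (l := 7) rfl N56247 D195734
theorem N92725 : nd 92725 = n195735 := ndS (p := 56248) (l := 6) rfl N56248 D195735
theorem N92726 : nd 92726 = n195736 := ndS (p := 56249) (l := 4) rfl N56249 D195736
theorem N92727 : nd 92727 = n195737 := ndS (p := 56249) (l := 6) rfl N56249 D195737
theorem N92728 : nd 92728 = n195738 := ndS (p := 56250) (l := 1) rfl N56250 D195738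
theorem N92729 : nd 92729 = n195739 := ndS (p := 56250) (l := 3) rfl N56250 D195739
theorem N92730 : nd 92730 = n195740 := ndS (p := 56250) (l := 5) rfl N56250 D195740
theorem N92731 : nd 92731 = n195741 := ndS (p := 56250) (l := 6) rfl N56250 D195741
theorem N92732 : nd 92732 = n195742 := ndS (p := 56251) (l := 0) rfl N56251 D195742
theorem N92733 : nd 92733 = n195743 := ndS (p := 56251) (l := 1) rfl N56251 D195743
theorem N92734 : nd 92734 = n195744 := ndS (p := 56251) (l := 7) rfl N56251 D195744
theorem N92735 : nd 92735 = n195745 := ndS (p := 56252) (l := 6) rfl N56252 D195745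
theorem N92736 : nd 92736 = n195746 := ndS (p := 56253) (l := 0) rfl N56253 D195746
theorem N92737 : nd 92737 = n195747 := ndS (p := 56253) (l := 1) rfl N56253 D195747
theorem N92738 : nd 92738 = n195748 := ndS (p := 56253) (l := 3) rfl N56253 D195748
theorem N92739 : nd 92739 = n195749 := ndS (p := 56253) (l := 5) rfl N56253 D195749
theorem N92740 : nd 92740 = n195750 := ndS (p := 56253) (l := 6) rfl N56253 D195750
theorem N92741 : nd 92741 = n195751 := ndS (p := 56254) (l := 0) rfl N56254 D195751
theorem N92742 : nd 92742 = n195753 := ndS (p := 56254) (l := 5) rfl N56254 D195753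
theorem N92743 : nd 92743 = n195754 := ndS (p := 56254) (l := 7) rfl N56254 D195754
theorem N92744 : nd 92744 = n195755 := ndS (p := 56255) (l := 5) rfl N56255 D195755
theorem N92745 : nd 92745 = n195756 := ndS (p := 56255) (l := 6) rfl N56255 D195756
theorem N92746 : nd 92746 = n195757 := ndS (p := 56256) (l := 1) rfl N56256 D195757
theorem N92747 : nd 92747 = n195758 := ndS (p := 56256) (l := 5) rfl N56256 D195758
theorem N92748 : nd 92748 = n195759 := ndS (p := 56256) (l := 7) rfl N56256 D195759
theorem N92749 : nd 92749 = n195760 := ndS (p := 56257) (l := 3) rfl N56257 D195760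
theorem N92750 : nd 92750 = n195761 := ndS (p := 56257) (l := 5) rfl N56257 D195761
theorem N92751 : nd 92751 = n195762 := ndS (p := 56257) (l := 6) rfl N56257 D195762
theorem N92752 : nd 92752 = n195763 := ndS (p := 56258) (l := 3) rfl N56258 D195763
theorem N92753 : nd 92753 = n195764 := ndS (p := 56258) (l := 5) rfl N56258 D195764
theorem N92754 : nd 92754 = n195765 := ndS (p := 56258) (l := 6) rfl N56258 D195765
theorem N92755 : nd 92755 = n195766 := ndS (p := 56259) (l := 0) rfl N56259 D195766
theorem N92756 : nd 92756 = n195767 := ndS (p := 56259) (l := 2) rfl N56259 D195767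
theorem N92757 : nd 92757 = n195768 := ndS (p := 56259) (l := 5) rfl N56259 D195768
theorem N92758 : nd 92758 = n195769 := ndS (p := 56259) (l := 6) rfl N56259 D195769
theorem N92759 : nd 92759 = n195770 := ndS (p := 56260) (l := 1) rfl N56260 D195770
theorem N92760 : nd 92760 = n195771 := ndS (p := 56260) (l := 4) rfl N56260 D195771
theorem N92761 : nd 92761 = n195772 := ndS (p := 56260) (l := 6) rfl N56260 D195772
theorem N92762 : nd 92762 = n195773 := ndS (p := 56260) (l := 7) rfl N56260 D195773
theorem N92763 : nd 92763 = n195774 := ndS (p := 56261) (l := 0) rfl N56261 D195774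
theorem N92764 : nd 92764 = n195775 := ndS (p := 56261) (l := 7) rfl N56261 D195775
theorem N92765 : nd 92765 = n195776 := ndS (p := 56262) (l := 6) rfl N56262 D195776
theorem N92766 : nd 92766 = n195777 := ndS (p := 56263) (l := 4) rfl N56263 D195777
theorem N92767 : nd 92767 = n195778 := ndS (p := 56264) (l := 5) rfl N56264 D195778
theorem N92768 : nd 92768 = n195779 := ndS (p := 56265) (l := 6) rfl N56265 D195779
theorem N92769 : nd 92769 = n195780 := ndS (p := 56266) (l := 0) rfl N56266 D195780
theorem N92770 : nd 92770 = n195781 := ndS (p := 56266) (l := 5) rfl N56266 D195781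
theorem N92771 : nd 92771 = n195782 := ndS (p := 56267) (l := 4) rfl N56267 D195782
theorem N92772 : nd 92772 = n195783 := ndS (p := 56268) (l := 3) rfl N56268 D195783
theorem N92773 : nd 92773 = n195784 := ndS (p := 56268) (l := 4) rfl N56268 D195784
theorem N92774 : nd 92774 = n195785 := ndS (p := 56268) (l := 6) rfl N56268 D195785
theorem N92775 : nd 92775 = n195786 := ndS (p := 56269) (l := 3) rfl N56269 D195786
theorem N92776 : nd 92776 = n195787 := ndS (p := 56269) (l := 4) rfl N56269 D195787
theorem N92777 : nd 92777 = n195788 := ndS (p := 56269) (l := 6) rfl N56269 D195788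
theorem N92778 : nd 92778 = n195789 := ndS (p := 56270) (l := 6) rfl N56270 D195789
theorem N92779 : nd 92779 = n195790 := ndS (p := 56271) (l := 1) rfl N56271 D195790
theorem N92780 : nd 92780 = n195791 := ndS (p := 56271) (l := 5) rfl N56271 D195791
theorem N92781 : nd 92781 = n195792 := ndS (p := 56271) (l := 7) rfl N56271 D195792
theorem N92782 : nd 92782 = n195793 := ndS (p := 56272) (l := 4) rfl N56272 D195793
theorem N92783 : nd 92783 = n195794 := ndS (p := 56272) (l := 7) rfl N56272 D195794
theorem N92784 : nd 92784 = n195795 := ndS (p := 56276) (l := 1) rfl N56276 D195795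
theorem N92785 : nd 92785 = n195796 := ndS (p := 56277) (l := 1) rfl N56277 D195796
theorem N92786 : nd 92786 = n195797 := ndS (p := 56278) (l := 0) rfl N56278 D195797
theorem N92787 : nd 92787 = n195798 := ndS (p := 56279) (l := 5) rfl N56279 D195798
theorem N92788 : nd 92788 = n195799 := ndS (p := 56280) (l := 3) rfl N56280 D195799
theorem N92789 : nd 92789 = n195800 := ndS (p := 56280) (l := 5) rfl N56280 D195800
theorem N92790 : nd 92790 = n195801 := ndS (p := 56280) (l := 6) rfl N56280 D195801
theorem N92791 : nd 92791 = n195802 := ndS (p := 56281) (l := 3) rfl N56281 D195802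
theorem N92792 : nd 92792 = n195803 := ndS (p := 56281) (l := 5) rfl N56281 D195803
theorem N92793 : nd 92793 = n195804 := ndS (p := 56281) (l := 6) rfl N56281 D195804
theorem N92794 : nd 92794 = n195805 := ndS (p := 56282) (l := 0) rfl N56282 D195805
theorem N92795 : nd 92795 = n195806 := ndS (p := 56282) (l := 1) rfl N56282 D195806
theorem N92796 : nd 92796 = n195807 := ndS (p := 56285) (l := 1) rfl N56285 D195807
theorem N92797 : nd 92797 = n195808 := ndS (p := 56287) (l := 5) rfl N56287 D195808
theorem N92798 : nd 92798 = n195809 := ndS (p := 56288) (l := 5) rfl N56288 D195809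
theorem N92799 : nd 92799 = n195810 := ndS (p := 56289) (l := 0) rfl N56289 D195810
theorem N92800 : nd 92800 = n195811 := ndS (p := 56290) (l := 4) rfl N56290 D195811
theorem N92801 : nd 92801 = n195812 := ndS (p := 56292) (l := 0) rfl N56292 D195812
theorem N92802 : nd 92802 = n195813 := ndS (p := 56292) (l := 1) rfl N56292 D195813
theorem N92803 : nd 92803 = n195814 := ndS (p := 56294) (l := 4) rfl N56294 D195814
theorem N92804 : nd 92804 = n195815 := ndS (p := 56297) (l := 5) rfl N56297 D195815
theorem N92805 : nd 92805 = n195816 := ndS (p := 56300) (l := 5) rfl N56300 D195816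
theorem N92806 : nd 92806 = n195817 := ndS (p := 56300) (l := 6) rfl N56300 D195817
theorem N92807 : nd 92807 = n195818 := ndS (p := 56301) (l := 5) rfl N56301 D195818
theorem N92808 : nd 92808 = n195819 := ndS (p := 56303) (l := 5) rfl N56303 D195819
theorem N92809 : nd 92809 = n195820 := ndS (p := 56305) (l := 0) rfl N56305 D195820
theorem N92810 : nd 92810 = n195821 := ndS (p := 56305) (l := 1) rfl N56305 D195821
theorem N92811 : nd 92811 = n195822 := ndS (p := 56305) (l := 7) rfl N56305 D195822
theorem N92812 : nd 92812 = n195823 := ndS (p := 56307) (l := 5) rfl N56307 D195823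
theorem N92813 : nd 92813 = n195824 := ndS (p := 56308) (l := 0) rfl N56308 D195824
theorem N92814 : nd 92814 = n195825 := ndS (p := 56308) (l := 1) rfl N56308 D195825
theorem N92815 : nd 92815 = n195826 := ndS (p := 56308) (l := 4) rfl N56308 D195826
theorem N92816 : nd 92816 = n195827 := ndS (p := 56308) (l := 6) rfl N56308 D195827
theorem N92817 : nd 92817 = n195828 := ndS (p := 56309) (l := 1) rfl N56309 D195828
theorem N92818 : nd 92818 = n195829 := ndS (p := 56309) (l := 7) rfl N56309 D195829
theorem N92819 : nd 92819 = n195830 := ndS (p := 56312) (l := 6) rfl N56312 D195830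
theorem N92820 : nd 92820 = n195831 := ndS (p := 56314) (l := 5) rfl N56314 D195831
theorem N92821 : nd 92821 = n195832 := ndS (p := 56316) (l := 1) rfl N56316 D195832
theorem N92822 : nd 92822 = n195833 := ndS (p := 56316) (l := 4) rfl N56316 D195833
theorem N92823 : nd 92823 = n195834 := ndS (p := 56317) (l := 4) rfl N56317 D195834
theorem N92824 : nd 92824 = n195835 := ndS (p := 56317) (l := 6) rfl N56317 D195835
theorem N92825 : nd 92825 = n195836 := ndS (p := 56318) (l := 4) rfl N56318 D195836
theorem N92826 : nd 92826 = n195837 := ndS (p := 56319) (l := 0) rfl N56319 D195837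
theorem N92827 : nd 92827 = n195838 := ndS (p := 56319) (l := 1) rfl N56319 D195838
theorem N92828 : nd 92828 = n195839 := ndS (p := 56319) (l := 3) rfl N56319 D195839
theorem N92829 : nd 92829 = n195840 := ndS (p := 56319) (l := 5) rfl N56319 D195840
theorem N92830 : nd 92830 = n195841 := ndS (p := 56321) (l := 3) rfl N56321 D195841
theorem N92831 : nd 92831 = n195842 := ndS (p := 56321) (l := 6) rfl N56321 D195842
theorem N92832 : nd 92832 = n195843 := ndS (p := 56322) (l := 3) rfl N56322 D195843
theorem N92833 : nd 92833 = n195844 := ndS (p := 56322) (l := 5) rfl N56322 D195844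
theorem N92834 : nd 92834 = n195845 := ndS (p := 56322) (l := 7) rfl N56322 D195845
theorem N92835 : nd 92835 = n195846 := ndS (p := 56325) (l := 4) rfl N56325 D195846
theorem N92836 : nd 92836 = n195847 := ndS (p := 56325) (l := 6) rfl N56325 D195847
theorem N92837 : nd 92837 = n195848 := ndS (p := 56326) (l := 0) rfl N56326 D195848
theorem N92838 : nd 92838 = n195849 := ndS (p := 56326) (l := 5) rfl N56326 D195849
theorem N92839 : nd 92839 = n195850 := ndS (p := 56326) (l := 6) rfl N56326 D195850
theorem N92840 : nd 92840 = n195851 := ndS (p := 56327) (l := 6) rfl N56327 D195851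
theorem N92841 : nd 92841 = n195852 := ndS (p := 56328) (l := 1) rfl N56328 D195852
theorem N92842 : nd 92842 = n195853 := ndS (p := 56328) (l := 7) rfl N56328 D195853
theorem N92843 : nd 92843 = n195854 := ndS (p := 56329) (l := 3) rfl N56329 D195854
theorem N92844 : nd 92844 = n195855 := ndS (p := 56329) (l := 6) rfl N56329 D195855
theorem N92845 : nd 92845 = n195856 := ndS (p := 56331) (l := 3) rfl N56331 D195856
theorem N92846 : nd 92846 = n195857 := ndS (p := 56332) (l := 1) rfl N56332 D195857
theorem N92847 : nd 92847 = n195858 := ndS (p := 56332) (l := 7) rfl N56332 D195858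
theorem N92848 : nd 92848 = n195859 := ndS (p := 56336) (l := 4) rfl N56336 D195859
theorem N92849 : nd 92849 = n195860 := ndS (p := 56336) (l := 5) rfl N56336 D195860
theorem N92850 : nd 92850 = n195861 := ndS (p := 56336) (l := 6) rfl N56336 D195861
theorem N92851 : nd 92851 = n195862 := ndS (p := 56338) (l := 4) rfl N56338 D195862
theorem N92852 : nd 92852 = n195863 := ndS (p := 56338) (l := 6) rfl N56338 D195863
theorem N92853 : nd 92853 = n195864 := ndS (p := 56339) (l := 5) rfl N56339 D195864
theorem N92854 : nd 92854 = n195865 := ndS (p := 56339) (l := 7) rfl N56339 D195865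
theorem N92855 : nd 92855 = n195866 := ndS (p := 56340) (l := 3) rfl N56340 D195866
theorem N92856 : nd 92856 = n195867 := ndS (p := 56341) (l := 5) rfl N56341 D195867
theorem N92857 : nd 92857 = n195868 := ndS (p := 56345) (l := 4) rfl N56345 D195868
theorem N92858 : nd 92858 = n195869 := ndS (p := 56345) (l := 6) rfl N56345 D195869
theorem N92859 : nd 92859 = n195870 := ndS (p := 56346) (l := 0) rfl N56346 D195870
theorem N92860 : nd 92860 = n195871 := ndS (p := 56346) (l := 1) rfl N56346 D195871
theorem N92861 : nd 92861 = n195872 := ndS (p := 56346) (l := 7) rfl N56346 D195872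
theorem N92862 : nd 92862 = n195873 := ndS (p := 56348) (l := 0) rfl N56348 D195873
theorem N92863 : nd 92863 = n195874 := ndS (p := 56348) (l := 1) rfl N56348 D195874
theorem N92864 : nd 92864 = n195875 := ndS (p := 56348) (l := 7) rfl N56348 D195875
theorem N92865 : nd 92865 = n195876 := ndS (p := 56349) (l := 0) rfl N56349 D195876
theorem N92866 : nd 92866 = n195878 := ndS (p := 56349) (l := 2) rfl N56349 D195878
theorem N92867 : nd 92867 = n195879 := ndS (p := 56357) (l := 0) rfl N56357 D195879
theorem N92868 : nd 92868 = n195880 := ndS (p := 56357) (l := 1) rfl N56357 D195880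
theorem N92869 : nd 92869 = n195881 := ndS (p := 56362) (l := 0) rfl N56362 D195881
theorem N92870 : nd 92870 = n195882 := ndS (p := 56362) (l := 2) rfl N56362 D195882
theorem N92871 : nd 92871 = n195883 := ndS (p := 56362) (l := 3) rfl N56362 D195883
theorem N92872 : nd 92872 = n195884 := ndS (p := 56362) (l := 4) rfl N56362 D195884
theorem N92873 : nd 92873 = n195885 := ndS (p := 56362) (l := 5) rfl N56362 D195885
theorem N92874 : nd 92874 = n195886 := ndS (p := 56362) (l := 6) rfl N56362 D195886
theorem N92875 : nd 92875 = n195887 := ndS (p := 56362) (l := 7) rfl N56362 D195887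
theorem N92876 : nd 92876 = n195888 := ndS (p := 56363) (l := 3) rfl N56363 D195888
theorem N92877 : nd 92877 = n195889 := ndS (p := 56363) (l := 4) rfl N56363 D195889
theorem N92878 : nd 92878 = n195890 := ndS (p := 56363) (l := 5) rfl N56363 D195890
theorem N92879 : nd 92879 = n195891 := ndS (p := 56363) (l := 6) rfl N56363 D195891
theorem N92880 : nd 92880 = n195892 := ndS (p := 56364) (l := 5) rfl N56364 D195892
theorem N92881 : nd 92881 = n195893 := ndS (p := 56365) (l := 0) rfl N56365 D195893
theorem N92882 : nd 92882 = n195894 := ndS (p := 56365) (l := 1) rfl N56365 D195894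
theorem N92883 : nd 92883 = n195895 := ndS (p := 56365) (l := 4) rfl N56365 D195895
theorem N92884 : nd 92884 = n195896 := ndS (p := 56367) (l := 5) rfl N56367 D195896
theorem N92885 : nd 92885 = n195897 := ndS (p := 56370) (l := 6) rfl N56370 D195897
theorem N92886 : nd 92886 = n195898 := ndS (p := 56371) (l := 0) rfl N56371 D195898
theorem N92887 : nd 92887 = n195899 := ndS (p := 56371) (l := 1) rfl N56371 D195899
theorem N92888 : nd 92888 = n195900 := ndS (p := 56371) (l := 5) rfl N56371 D195900
theorem N92889 : nd 92889 = n195901 := ndS (p := 56371) (l := 7) rfl N56371 D195901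
theorem N92890 : nd 92890 = n195902 := ndS (p := 56372) (l := 1) rfl N56372 D195902
theorem N92891 : nd 92891 = n195903 := ndS (p := 56372) (l := 4) rfl N56372 D195903
theorem N92892 : nd 92892 = n195904 := ndS (p := 56372) (l := 7) rfl N56372 D195904
theorem N92893 : nd 92893 = n195905 := ndS (p := 56374) (l := 4) rfl N56374 D195905
theorem N92894 : nd 92894 = n195906 := ndS (p := 56379) (l := 4) rfl N56379 D195906
theorem N92895 : nd 92895 = n195907 := ndS (p := 56380) (l := 3) rfl N56380 D195907
theorem N92896 : nd 92896 = n195908 := ndS (p := 56380) (l := 4) rfl N56380 D195908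
theorem N92897 : nd 92897 = n195909 := ndS (p := 56381) (l := 6) rfl N56381 D195909
theorem N92898 : nd 92898 = n195910 := ndS (p := 56382) (l := 0) rfl N56382 D195910
theorem N92899 : nd 92899 = n195911 := ndS (p := 56382) (l := 1) rfl N56382 D195911
theorem N92900 : nd 92900 = n195912 := ndS (p := 56382) (l := 5) rfl N56382 D195912
theorem N92901 : nd 92901 = n195913 := ndS (p := 56382) (l := 7) rfl N56382 D195913
theorem N92902 : nd 92902 = n195914 := ndS (p := 56383) (l := 3) rfl N56383 D195914
theorem N92903 : nd 92903 = n195915 := ndS (p := 56383) (l := 5) rfl N56383 D195915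
theorem N92904 : nd 92904 = n195916 := ndS (p := 56384) (l := 3) rfl N56384 D195916
theorem N92905 : nd 92905 = n195917 := ndS (p := 56384) (l := 5) rfl N56384 D195917
theorem N92906 : nd 92906 = n195918 := ndS (p := 56385) (l := 7) rfl N56385 D195918
theorem N92907 : nd 92907 = n195919 := ndS (p := 56388) (l := 1) rfl N56388 D195919
theorem N92908 : nd 92908 = n195920 := ndS (p := 56388) (l := 6) rfl N56388 D195920
theorem N92909 : nd 92909 = n195921 := ndS (p := 56389) (l := 0) rfl N56389 D195921
theorem N92910 : nd 92910 = n195922 := ndS (p := 56389) (l := 3) rfl N56389 D195922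
theorem N92911 : nd 92911 = n195923 := ndS (p := 56389) (l := 5) rfl N56389 D195923
theorem N92912 : nd 92912 = n195924 := ndS (p := 56390) (l := 0) rfl N56390 D195924
theorem N92913 : nd 92913 = n195926 := ndS (p := 56390) (l := 7) rfl N56390 D195926
theorem N92914 : nd 92914 = n195927 := ndS (p := 56391) (l := 0) rfl N56391 D195927
theorem N92915 : nd 92915 = n195928 := ndS (p := 56391) (l := 2) rfl N56391 D195928
theorem N92916 : nd 92916 = n195929 := ndS (p := 56391) (l := 4) rfl N56391 D195929
theorem N92917 : nd 92917 = n195930 := ndS (p := 56391) (l := 6) rfl N56391 D195930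
theorem N92918 : nd 92918 = n195931 := ndS (p := 56392) (l := 5) rfl N56392 D195931
theorem N92919 : nd 92919 = n195932 := ndS (p := 56393) (l := 1) rfl N56393 D195932
theorem N92920 : nd 92920 = n195933 := ndS (p := 56393) (l := 7) rfl N56393 D195933
theorem N92921 : nd 92921 = n195934 := ndS (p := 56395) (l := 4) rfl N56395 D195934
theorem N92922 : nd 92922 = n195935 := ndS (p := 56397) (l := 4) rfl N56397 D195935
theorem N92923 : nd 92923 = n195936 := ndS (p := 56399) (l := 2) rfl N56399 D195936
theorem N92924 : nd 92924 = n195937 := ndS (p := 56400) (l := 4) rfl N56400 D195937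
theorem N92925 : nd 92925 = n195938 := ndS (p := 56401) (l := 4) rfl N56401 D195938
theorem N92926 : nd 92926 = n195940 := ndS (p := 56404) (l := 0) rfl N56404 D195940
theorem N92927 : nd 92927 = n195941 := ndS (p := 56404) (l := 7) rfl N56404 D195941
theorem N92928 : nd 92928 = n195942 := ndS (p := 56407) (l := 3) rfl N56407 D195942
theorem N92929 : nd 92929 = n195943 := ndS (p := 56408) (l := 3) rfl N56408 D195943
theorem N92930 : nd 92930 = n195944 := ndS (p := 56408) (l := 6) rfl N56408 D195944
theorem N92931 : nd 92931 = n195945 := ndS (p := 56410) (l := 0) rfl N56410 D195945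
theorem N92932 : nd 92932 = n195946 := ndS (p := 56410) (l := 1) rfl N56410 D195946
theorem N92933 : nd 92933 = n195947 := ndS (p := 56411) (l := 1) rfl N56411 D195947
theorem N92934 : nd 92934 = n195948 := ndS (p := 56412) (l := 5) rfl N56412 D195948
theorem N92935 : nd 92935 = n195949 := ndS (p := 56413) (l := 4) rfl N56413 D195949
theorem N92936 : nd 92936 = n195950 := ndS (p := 56413) (l := 5) rfl N56413 D195950
theorem N92937 : nd 92937 = n195951 := ndS (p := 56414) (l := 4) rfl N56414 D195951
theorem N92938 : nd 92938 = n195952 := ndS (p := 56415) (l := 3) rfl N56415 D195952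
theorem N92939 : nd 92939 = n195953 := ndS (p := 56415) (l := 4) rfl N56415 D195953
theorem N92940 : nd 92940 = n195954 := ndS (p := 56415) (l := 6) rfl N56415 D195954
theorem N92941 : nd 92941 = n195955 := ndS (p := 56416) (l := 6) rfl N56416 D195955
theorem N92942 : nd 92942 = n195956 := ndS (p := 56417) (l := 0) rfl N56417 D195956
theorem N92943 : nd 92943 = n195957 := ndS (p := 56417) (l := 5) rfl N56417 D195957
theorem N92944 : nd 92944 = n195958 := ndS (p := 56417) (l := 7) rfl N56417 D195958
theorem N92945 : nd 92945 = n195959 := ndS (p := 56418) (l := 0) rfl N56418 D195959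
theorem N92946 : nd 92946 = n195960 := ndS (p := 56420) (l := 5) rfl N56420 D195960
theorem N92947 : nd 92947 = n195961 := ndS (p := 56422) (l := 6) rfl N56422 D195961
theorem N92948 : nd 92948 = n195962 := ndS (p := 56423) (l := 0) rfl N56423 D195962
theorem N92949 : nd 92949 = n195963 := ndS (p := 56423) (l := 1) rfl N56423 D195963
theorem N92950 : nd 92950 = n195964 := ndS (p := 56423) (l := 7) rfl N56423 D195964
theorem N92951 : nd 92951 = n195966 := ndS (p := 56424) (l := 3) rfl N56424 D195966
theorem N92952 : nd 92952 = n195967 := ndS (p := 56424) (l := 4) rfl N56424 D195967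
theorem N92953 : nd 92953 = n195968 := ndS (p := 56424) (l := 5) rfl N56424 D195968
theorem N92954 : nd 92954 = n195969 := ndS (p := 56424) (l := 6) rfl N56424 D195969
theorem N92955 : nd 92955 = n195970 := ndS (p := 56425) (l := 3) rfl N56425 D195970
theorem N92956 : nd 92956 = n195971 := ndS (p := 56425) (l := 4) rfl N56425 D195971
theorem N92957 : nd 92957 = n195972 := ndS (p := 56425) (l := 6) rfl N56425 D195972
theorem N92958 : nd 92958 = n195973 := ndS (p := 56428) (l := 1) rfl N56428 D195973
theorem N92959 : nd 92959 = n195974 := ndS (p := 56429) (l := 3) rfl N56429 D195974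
theorem N92960 : nd 92960 = n195975 := ndS (p := 56429) (l := 6) rfl N56429 D195975
theorem N92961 : nd 92961 = n195976 := ndS (p := 56430) (l := 3) rfl N56430 D195976
theorem N92962 : nd 92962 = n195977 := ndS (p := 56430) (l := 6) rfl N56430 D195977
theorem N92963 : nd 92963 = n195978 := ndS (p := 56432) (l := 4) rfl N56432 D195978
theorem N92964 : nd 92964 = n195979 := ndS (p := 56432) (l := 5) rfl N56432 D195979
theorem N92965 : nd 92965 = n195980 := ndS (p := 56433) (l := 3) rfl N56433 D195980
theorem N92966 : nd 92966 = n195981 := ndS (p := 56433) (l := 4) rfl N56433 D195981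
theorem N92967 : nd 92967 = n195982 := ndS (p := 56434) (l := 0) rfl N56434 D195982
theorem N92968 : nd 92968 = n195983 := ndS (p := 56434) (l := 1) rfl N56434 D195983
theorem N92969 : nd 92969 = n195984 := ndS (p := 56434) (l := 4) rfl N56434 D195984
theorem N92970 : nd 92970 = n195985 := ndS (p := 56434) (l := 7) rfl N56434 D195985
theorem N92971 : nd 92971 = n195986 := ndS (p := 56436) (l := 3) rfl N56436 D195986
theorem N92972 : nd 92972 = n195987 := ndS (p := 56437) (l := 5) rfl N56437 D195987
theorem N92973 : nd 92973 = n195988 := ndS (p := 56438) (l := 7) rfl N56438 D195988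
theorem N92974 : nd 92974 = n195989 := ndS (p := 56439) (l := 3) rfl N56439 D195989
theorem N92975 : nd 92975 = n195990 := ndS (p := 56439) (l := 6) rfl N56439 D195990
theorem N92976 : nd 92976 = n195992 := ndS (p := 56440) (l := 6) rfl N56440 D195992
theorem N92977 : nd 92977 = n195993 := ndS (p := 56442) (l := 4) rfl N56442 D195993
theorem N92978 : nd 92978 = n195994 := ndS (p := 56443) (l := 6) rfl N56443 D195994
theorem N92979 : nd 92979 = n195995 := ndS (p := 56444) (l := 6) rfl N56444 D195995
theorem N92980 : nd 92980 = n195996 := ndS (p := 56445) (l := 6) rfl N56445 D195996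
theorem N92981 : nd 92981 = n195997 := ndS (p := 56446) (l := 1) rfl N56446 D195997
theorem N92982 : nd 92982 = n195998 := ndS (p := 56446) (l := 5) rfl N56446 D195998
theorem N92983 : nd 92983 = n195999 := ndS (p := 56446) (l := 7) rfl N56446 D195999
theorem N92984 : nd 92984 = n196000 := ndS (p := 56447) (l := 4) rfl N56447 D196000
theorem N92985 : nd 92985 = n196001 := ndS (p := 56448) (l := 5) rfl N56448 D196001
theorem N92986 : nd 92986 = n196002 := ndS (p := 56449) (l := 3) rfl N56449 D196002
theorem N92987 : nd 92987 = n196003 := ndS (p := 56450) (l := 0) rfl N56450 D196003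
theorem N92988 : nd 92988 = n196004 := ndS (p := 56450) (l := 1) rfl N56450 D196004
theorem N92989 : nd 92989 = n196005 := ndS (p := 56450) (l := 7) rfl N56450 D196005
theorem N92990 : nd 92990 = n196006 := ndS (p := 56453) (l := 0) rfl N56453 D196006
theorem N92991 : nd 92991 = n196007 := ndS (p := 56453) (l := 1) rfl N56453 D196007
theorem N92992 : nd 92992 = n196008 := ndS (p := 56454) (l := 3) rfl N56454 D196008
theorem N92993 : nd 92993 = n196009 := ndS (p := 56455) (l := 3) rfl N56455 D196009
theorem N92994 : nd 92994 = n196010 := ndS (p := 56455) (l := 6) rfl N56455 D196010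
theorem N92995 : nd 92995 = n196011 := ndS (p := 56457) (l := 5) rfl N56457 D196011
theorem N92996 : nd 92996 = n196012 := ndS (p := 56462) (l := 6) rfl N56462 D196012
theorem N92997 : nd 92997 = n196013 := ndS (p := 56463) (l := 1) rfl N56463 D196013
theorem N92998 : nd 92998 = n196014 := ndS (p := 56463) (l := 7) rfl N56463 D196014
theorem N92999 : nd 92999 = n196015 := ndS (p := 56464) (l := 5) rfl N56464 D196015
theorem N93000 : nd 93000 = n196016 := ndS (p := 56467) (l := 4) rfl N56467 D196016
theorem N93001 : nd 93001 = n196017 := ndS (p := 56469) (l := 1) rfl N56469 D196017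
theorem N93002 : nd 93002 = n196018 := ndS (p := 56470) (l := 5) rfl N56470 D196018
theorem N93003 : nd 93003 = n196019 := ndS (p := 56471) (l := 5) rfl N56471 D196019
theorem N93004 : nd 93004 = n196020 := ndS (p := 56472) (l := 4) rfl N56472 D196020
theorem N93005 : nd 93005 = n196021 := ndS (p := 56474) (l := 4) rfl N56474 D196021
theorem N93006 : nd 93006 = n196022 := ndS (p := 56475) (l := 3) rfl N56475 D196022
theorem N93007 : nd 93007 = n196023 := ndS (p := 56476) (l := 2) rfl N56476 D196023
theorem N93008 : nd 93008 = n196024 := ndS (p := 56476) (l := 4) rfl N56476 D196024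
theorem N93009 : nd 93009 = n196025 := ndS (p := 56477) (l := 3) rfl N56477 D196025
theorem N93010 : nd 93010 = n196026 := ndS (p := 56481) (l := 5) rfl N56481 D196026
theorem N93011 : nd 93011 = n196027 := ndS (p := 56482) (l := 0) rfl N56482 D196027
theorem N93012 : nd 93012 = n196028 := ndS (p := 56483) (l := 5) rfl N56483 D196028
theorem N93013 : nd 93013 = n196029 := ndS (p := 56485) (l := 6) rfl N56485 D196029
theorem N93014 : nd 93014 = n196030 := ndS (p := 56487) (l := 0) rfl N56487 D196030
theorem N93015 : nd 93015 = n196031 := ndS (p := 56487) (l := 1) rfl N56487 D196031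
theorem N93016 : nd 93016 = n196032 := ndS (p := 56493) (l := 3) rfl N56493 D196032
theorem N93017 : nd 93017 = n196033 := ndS (p := 56493) (l := 6) rfl N56493 D196033
theorem N93018 : nd 93018 = n196034 := ndS (p := 56496) (l := 3) rfl N56496 D196034
theorem N93019 : nd 93019 = n196035 := ndS (p := 56497) (l := 5) rfl N56497 D196035
theorem N93020 : nd 93020 = n196036 := ndS (p := 56498) (l := 0) rfl N56498 D196036
theorem N93021 : nd 93021 = n196037 := ndS (p := 56498) (l := 1) rfl N56498 D196037
theorem N93022 : nd 93022 = n196038 := ndS (p := 56498) (l := 4) rfl N56498 D196038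
theorem N93023 : nd 93023 = n196039 := ndS (p := 56498) (l := 6) rfl N56498 D196039
theorem N93024 : nd 93024 = n196040 := ndS (p := 56499) (l := 5) rfl N56499 D196040
theorem N93025 : nd 93025 = n196041 := ndS (p := 56500) (l := 5) rfl N56500 D196041
theorem N93026 : nd 93026 = n196042 := ndS (p := 56500) (l := 7) rfl N56500 D196042
theorem N93027 : nd 93027 = n196043 := ndS (p := 56501) (l := 0) rfl N56501 D196043
theorem N93028 : nd 93028 = n196044 := ndS (p := 56501) (l := 4) rfl N56501 D196044
theorem N93029 : nd 93029 = n196045 := ndS (p := 56501) (l := 7) rfl N56501 D196045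
theorem N93030 : nd 93030 = n196046 := ndS (p := 56503) (l := 5) rfl N56503 D196046
theorem N93031 : nd 93031 = n196047 := ndS (p := 56505) (l := 5) rfl N56505 D196047
theorem N93032 : nd 93032 = n196048 := ndS (p := 56508) (l := 3) rfl N56508 D196048
theorem N93033 : nd 93033 = n196049 := ndS (p := 56510) (l := 5) rfl N56510 D196049
theorem N93034 : nd 93034 = n196050 := ndS (p := 56511) (l := 6) rfl N56511 D196050
theorem N93035 : nd 93035 = n196051 := ndS (p := 56512) (l := 5) rfl N56512 D196051
theorem N93036 : nd 93036 = n196052 := ndS (p := 56513) (l := 5) rfl N56513 D196052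
theorem N93037 : nd 93037 = n196053 := ndS (p := 56513) (l := 7) rfl N56513 D196053
theorem N93038 : nd 93038 = n196054 := ndS (p := 56514) (l := 3) rfl N56514 D196054
theorem N93039 : nd 93039 = n196055 := ndS (p := 56514) (l := 5) rfl N56514 D196055
theorem N93040 : nd 93040 = n196056 := ndS (p := 56515) (l := 3) rfl N56515 D196056
theorem N93041 : nd 93041 = n196057 := ndS (p := 56515) (l := 5) rfl N56515 D196057
theorem N93042 : nd 93042 = n196058 := ndS (p := 56516) (l := 1) rfl N56516 D196058
theorem N93043 : nd 93043 = n196059 := ndS (p := 56516) (l := 4) rfl N56516 D196059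
theorem N93044 : nd 93044 = n196060 := ndS (p := 56516) (l := 7) rfl N56516 D196060
theorem N93045 : nd 93045 = n196061 := ndS (p := 56518) (l := 5) rfl N56518 D196061
theorem N93046 : nd 93046 = n196062 := ndS (p := 56520) (l := 6) rfl N56520 D196062
theorem N93047 : nd 93047 = n196063 := ndS (p := 56524) (l := 3) rfl N56524 D196063
theorem N93048 : nd 93048 = n196064 := ndS (p := 56524) (l := 6) rfl N56524 D196064
theorem N93049 : nd 93049 = n196065 := ndS (p := 56525) (l := 5) rfl N56525 D196065
theorem N93050 : nd 93050 = n196066 := ndS (p := 56533) (l := 5) rfl N56533 D196066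
theorem N93051 : nd 93051 = n196067 := ndS (p := 56539) (l := 1) rfl N56539 D196067
theorem N93052 : nd 93052 = n196068 := ndS (p := 56539) (l := 4) rfl N56539 D196068
theorem N93053 : nd 93053 = n196069 := ndS (p := 56539) (l := 7) rfl N56539 D196069
theorem N93054 : nd 93054 = n196070 := ndS (p := 56541) (l := 3) rfl N56541 D196070
theorem N93055 : nd 93055 = n196071 := ndS (p := 56541) (l := 4) rfl N56541 D196071
theorem N93056 : nd 93056 = n196072 := ndS (p := 56541) (l := 5) rfl N56541 D196072
theorem N93057 : nd 93057 = n196073 := ndS (p := 56542) (l := 4) rfl N56542 D196073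
theorem N93058 : nd 93058 = n196074 := ndS (p := 56545) (l := 7) rfl N56545 D196074
theorem N93059 : nd 93059 = n196075 := ndS (p := 56549) (l := 3) rfl N56549 D196075
theorem N93060 : nd 93060 = n196076 := ndS (p := 56549) (l := 6) rfl N56549 D196076
theorem N93061 : nd 93061 = n196077 := ndS (p := 56550) (l := 1) rfl N56550 D196077
theorem N93062 : nd 93062 = n196078 := ndS (p := 56550) (l := 5) rfl N56550 D196078
theorem N93063 : nd 93063 = n196079 := ndS (p := 56551) (l := 0) rfl N56551 D196079
theorem N93064 : nd 93064 = n196080 := ndS (p := 56551) (l := 3) rfl N56551 D196080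
theorem N93065 : nd 93065 = n196081 := ndS (p := 56551) (l := 5) rfl N56551 D196081
theorem N93066 : nd 93066 = n196082 := ndS (p := 56551) (l := 6) rfl N56551 D196082
theorem N93067 : nd 93067 = n196083 := ndS (p := 56551) (l := 7) rfl N56551 D196083
theorem N93068 : nd 93068 = n196084 := ndS (p := 56552) (l := 6) rfl N56552 D196084
theorem N93069 : nd 93069 = n196085 := ndS (p := 56553) (l := 0) rfl N56553 D196085
theorem N93070 : nd 93070 = n196086 := ndS (p := 56553) (l := 7) rfl N56553 D196086
theorem N93071 : nd 93071 = n196087 := ndS (p := 56554) (l := 6) rfl N56554 D196087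
theorem N93072 : nd 93072 = n196088 := ndS (p := 56555) (l := 2) rfl N56555 D196088
theorem N93073 : nd 93073 = n196089 := ndS (p := 56555) (l := 6) rfl N56555 D196089
theorem N93074 : nd 93074 = n196090 := ndS (p := 56556) (l := 5) rfl N56556 D196090
theorem N93075 : nd 93075 = n196092 := ndS (p := 56558) (l := 1) rfl N56558 D196092
theorem N93076 : nd 93076 = n196093 := ndS (p := 56558) (l := 5) rfl N56558 D196093
theorem N93077 : nd 93077 = n196094 := ndS (p := 56558) (l := 7) rfl N56558 D196094
theorem N93078 : nd 93078 = n196095 := ndS (p := 56559) (l := 6) rfl N56559 D196095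
theorem N93079 : nd 93079 = n196096 := ndS (p := 56560) (l := 6) rfl N56560 D196096
theorem N93080 : nd 93080 = n196097 := ndS (p := 56564) (l := 5) rfl N56564 D196097
theorem N93081 : nd 93081 = n196098 := ndS (p := 56565) (l := 4) rfl N56565 D196098
theorem N93082 : nd 93082 = n196099 := ndS (p := 56567) (l := 2) rfl N56567 D196099
theorem N93083 : nd 93083 = n196100 := ndS (p := 56567) (l := 6) rfl N56567 D196100
theorem N93084 : nd 93084 = n196101 := ndS (p := 56568) (l := 0) rfl N56568 D196101
theorem N93085 : nd 93085 = n196102 := ndS (p := 56568) (l := 1) rfl N56568 D196102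
theorem N93086 : nd 93086 = n196103 := ndS (p := 56568) (l := 5) rfl N56568 D196103
theorem N93087 : nd 93087 = n196104 := ndS (p := 56568) (l := 7) rfl N56568 D196104
theorem N93088 : nd 93088 = n196105 := ndS (p := 56570) (l := 5) rfl N56570 D196105
theorem N93089 : nd 93089 = n196106 := ndS (p := 56572) (l := 4) rfl N56572 D196106
theorem N93090 : nd 93090 = n196107 := ndS (p := 56573) (l := 5) rfl N56573 D196107
theorem N93091 : nd 93091 = n196108 := ndS (p := 56576) (l := 4) rfl N56576 D196108
theorem N93092 : nd 93092 = n196109 := ndS (p := 56576) (l := 6) rfl N56576 D196109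
theorem N93093 : nd 93093 = n196110 := ndS (p := 56577) (l := 3) rfl N56577 D196110
theorem N93094 : nd 93094 = n196111 := ndS (p := 56578) (l := 6) rfl N56578 D196111
theorem N93095 : nd 93095 = n196112 := ndS (p := 56579) (l := 1) rfl N56579 D196112
theorem N93096 : nd 93096 = n196113 := ndS (p := 56579) (l := 5) rfl N56579 D196113
theorem N93097 : nd 93097 = n196114 := ndS (p := 56579) (l := 7) rfl N56579 D196114
theorem N93098 : nd 93098 = n196115 := ndS (p := 56580) (l := 7) rfl N56580 D196115
theorem N93099 : nd 93099 = n196116 := ndS (p := 56583) (l := 5) rfl N56583 D196116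
theorem N93100 : nd 93100 = n196117 := ndS (p := 56586) (l := 3) rfl N56586 D196117
theorem N93101 : nd 93101 = n196118 := ndS (p := 56586) (l := 4) rfl N56586 D196118
theorem N93102 : nd 93102 = n196119 := ndS (p := 56586) (l := 6) rfl N56586 D196119
theorem N93103 : nd 93103 = n196120 := ndS (p := 56587) (l := 3) rfl N56587 D196120
theorem N93104 : nd 93104 = n196121 := ndS (p := 56587) (l := 4) rfl N56587 D196121
theorem N93105 : nd 93105 = n196122 := ndS (p := 56588) (l := 6) rfl N56588 D196122
theorem N93106 : nd 93106 = n196123 := ndS (p := 56589) (l := 0) rfl N56589 D196123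
theorem N93107 : nd 93107 = n196124 := ndS (p := 56589) (l := 1) rfl N56589 D196124
theorem N93108 : nd 93108 = n196125 := ndS (p := 56589) (l := 5) rfl N56589 D196125
theorem N93109 : nd 93109 = n196126 := ndS (p := 56589) (l := 7) rfl N56589 D196126
theorem N93110 : nd 93110 = n196127 := ndS (p := 56590) (l := 4) rfl N56590 D196127
theorem N93111 : nd 93111 = n196128 := ndS (p := 56595) (l := 0) rfl N56595 D196128
theorem N93112 : nd 93112 = n196129 := ndS (p := 56595) (l := 1) rfl N56595 D196129
theorem N93113 : nd 93113 = n196130 := ndS (p := 56595) (l := 5) rfl N56595 D196130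
theorem N93114 : nd 93114 = n196131 := ndS (p := 56597) (l := 3) rfl N56597 D196131
theorem N93115 : nd 93115 = n196132 := ndS (p := 56597) (l := 5) rfl N56597 D196132
theorem N93116 : nd 93116 = n196133 := ndS (p := 56597) (l := 6) rfl N56597 D196133
theorem N93117 : nd 93117 = n196134 := ndS (p := 56598) (l := 5) rfl N56598 D196134
theorem N93118 : nd 93118 = n196135 := ndS (p := 56598) (l := 6) rfl N56598 D196135
theorem N93119 : nd 93119 = n196136 := ndS (p := 56601) (l := 6) rfl N56601 D196136
theorem N93120 : nd 93120 = n196137 := ndS (p := 56604) (l := 3) rfl N56604 D196137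
theorem N93121 : nd 93121 = n196138 := ndS (p := 56604) (l := 6) rfl N56604 D196138
theorem N93122 : nd 93122 = n196139 := ndS (p := 56609) (l := 4) rfl N56609 D196139
theorem N93123 : nd 93123 = n196140 := ndS (p := 56610) (l := 0) rfl N56610 D196140
theorem N93124 : nd 93124 = n196141 := ndS (p := 56610) (l := 7) rfl N56610 D196141
theorem N93125 : nd 93125 = n196142 := ndS (p := 56611) (l := 6) rfl N56611 D196142
theorem N93126 : nd 93126 = n196143 := ndS (p := 56612) (l := 3) rfl N56612 D196143
theorem N93127 : nd 93127 = n196144 := ndS (p := 56612) (l := 6) rfl N56612 D196144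
theorem N93128 : nd 93128 = n196145 := ndS (p := 56614) (l := 3) rfl N56614 D196145
theorem N93129 : nd 93129 = n196146 := ndS (p := 56614) (l := 5) rfl N56614 D196146
theorem N93130 : nd 93130 = n196147 := ndS (p := 56614) (l := 6) rfl N56614 D196147
theorem N93131 : nd 93131 = n196148 := ndS (p := 56616) (l := 0) rfl N56616 D196148
theorem N93132 : nd 93132 = n196149 := ndS (p := 56616) (l := 1) rfl N56616 D196149
theorem N93133 : nd 93133 = n196150 := ndS (p := 56616) (l := 4) rfl N56616 D196150
theorem N93134 : nd 93134 = n196151 := ndS (p := 56616) (l := 7) rfl N56616 D196151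
theorem N93135 : nd 93135 = n196152 := ndS (p := 56618) (l := 3) rfl N56618 D196152
theorem N93136 : nd 93136 = n196153 := ndS (p := 56619) (l := 4) rfl N56619 D196153
theorem N93137 : nd 93137 = n196154 := ndS (p := 56620) (l := 6) rfl N56620 D196154
theorem N93138 : nd 93138 = n196155 := ndS (p := 56622) (l := 6) rfl N56622 D196155
theorem N93139 : nd 93139 = n196156 := ndS (p := 56623) (l := 5) rfl N56623 D196156
theorem N93140 : nd 93140 = n196157 := ndS (p := 56624) (l := 3) rfl N56624 D196157
theorem N93141 : nd 93141 = n196158 := ndS (p := 56624) (l := 5) rfl N56624 D196158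
theorem N93142 : nd 93142 = n196159 := ndS (p := 56624) (l := 6) rfl N56624 D196159
theorem N93143 : nd 93143 = n196160 := ndS (p := 56624) (l := 7) rfl N56624 D196160
theorem N93144 : nd 93144 = n196161 := ndS (p := 56625) (l := 0) rfl N56625 D196161
theorem N93145 : nd 93145 = n196162 := ndS (p := 56625) (l := 7) rfl N56625 D196162
theorem N93146 : nd 93146 = n196163 := ndS (p := 56626) (l := 6) rfl N56626 D196163
theorem N93147 : nd 93147 = n196164 := ndS (p := 56629) (l := 6) rfl N56629 D196164
theorem N93148 : nd 93148 = n196165 := ndS (p := 56630) (l := 3) rfl N56630 D196165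
theorem N93149 : nd 93149 = n196166 := ndS (p := 56630) (l := 5) rfl N56630 D196166
theorem N93150 : nd 93150 = n196167 := ndS (p := 56630) (l := 6) rfl N56630 D196167
theorem N93151 : nd 93151 = n196168 := ndS (p := 56631) (l := 1) rfl N56631 D196168
theorem N93152 : nd 93152 = n196169 := ndS (p := 56631) (l := 7) rfl N56631 D196169
theorem N93153 : nd 93153 = n196170 := ndS (p := 56633) (l := 4) rfl N56633 D196170
theorem N93154 : nd 93154 = n196171 := ndS (p := 56634) (l := 3) rfl N56634 D196171
theorem N93155 : nd 93155 = n196172 := ndS (p := 56634) (l := 5) rfl N56634 D196172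
theorem N93156 : nd 93156 = n196173 := ndS (p := 56635) (l := 7) rfl N56635 D196173
theorem N93157 : nd 93157 = n196174 := ndS (p := 56636) (l := 0) rfl N56636 D196174
theorem N93158 : nd 93158 = n196175 := ndS (p := 56636) (l := 1) rfl N56636 D196175
theorem N93159 : nd 93159 = n196176 := ndS (p := 56636) (l := 3) rfl N56636 D196176
theorem N93160 : nd 93160 = n196177 := ndS (p := 56636) (l := 6) rfl N56636 D196177
theorem N93161 : nd 93161 = n196178 := ndS (p := 56637) (l := 7) rfl N56637 D196178
theorem N93162 : nd 93162 = n196179 := ndS (p := 56640) (l := 5) rfl N56640 D196179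
theorem N93163 : nd 93163 = n196180 := ndS (p := 56641) (l := 0) rfl N56641 D196180
theorem N93164 : nd 93164 = n196181 := ndS (p := 56641) (l := 1) rfl N56641 D196181
theorem N93165 : nd 93165 = n196182 := ndS (p := 56642) (l := 5) rfl N56642 D196182
theorem N93166 : nd 93166 = n196183 := ndS (p := 56643) (l := 6) rfl N56643 D196183
theorem N93167 : nd 93167 = n196184 := ndS (p := 56645) (l := 3) rfl N56645 D196184
theorem N93168 : nd 93168 = n196185 := ndS (p := 56645) (l := 6) rfl N56645 D196185
theorem N93169 : nd 93169 = n196186 := ndS (p := 56646) (l := 6) rfl N56646 D196186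
theorem N93170 : nd 93170 = n196187 := ndS (p := 56647) (l := 0) rfl N56647 D196187
theorem N93171 : nd 93171 = n196188 := ndS (p := 56647) (l := 5) rfl N56647 D196188
theorem N93172 : nd 93172 = n196189 := ndS (p := 56648) (l := 4) rfl N56648 D196189
theorem N93173 : nd 93173 = n196190 := ndS (p := 56649) (l := 0) rfl N56649 D196190
theorem N93174 : nd 93174 = n196191 := ndS (p := 56649) (l := 1) rfl N56649 D196191
theorem N93175 : nd 93175 = n196192 := ndS (p := 56649) (l := 5) rfl N56649 D196192
theorem N93176 : nd 93176 = n196193 := ndS (p := 56650) (l := 7) rfl N56650 D196193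
theorem N93177 : nd 93177 = n196194 := ndS (p := 56655) (l := 6) rfl N56655 D196194
theorem N93178 : nd 93178 = n196195 := ndS (p := 56658) (l := 4) rfl N56658 D196195
theorem N93179 : nd 93179 = n196196 := ndS (p := 56658) (l := 6) rfl N56658 D196196
theorem N93180 : nd 93180 = n196197 := ndS (p := 56659) (l := 3) rfl N56659 D196197
theorem N93181 : nd 93181 = n196198 := ndS (p := 56659) (l := 4) rfl N56659 D196198
theorem N93182 : nd 93182 = n196199 := ndS (p := 56663) (l := 5) rfl N56663 D196199
theorem N93183 : nd 93183 = n196200 := ndS (p := 56664) (l := 1) rfl N56664 D196200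
theorem N93184 : nd 93184 = n196201 := ndS (p := 56664) (l := 4) rfl N56664 D196201
theorem N93185 : nd 93185 = n196202 := ndS (p := 56664) (l := 7) rfl N56664 D196202
theorem N93186 : nd 93186 = n196203 := ndS (p := 56666) (l := 0) rfl N56666 D196203
theorem N93187 : nd 93187 = n196204 := ndS (p := 56666) (l := 2) rfl N56666 D196204
theorem N93188 : nd 93188 = n196205 := ndS (p := 56666) (l := 4) rfl N56666 D196205
theorem N93189 : nd 93189 = n196206 := ndS (p := 56666) (l := 6) rfl N56666 D196206
theorem N93190 : nd 93190 = n196207 := ndS (p := 56667) (l := 3) rfl N56667 D196207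
theorem N93191 : nd 93191 = n196208 := ndS (p := 56667) (l := 6) rfl N56667 D196208
theorem N93192 : nd 93192 = n196209 := ndS (p := 56669) (l := 4) rfl N56669 D196209
theorem N93193 : nd 93193 = n196210 := ndS (p := 56669) (l := 6) rfl N56669 D196210
theorem N93194 : nd 93194 = n196211 := ndS (p := 56670) (l := 3) rfl N56670 D196211
theorem N93195 : nd 93195 = n196212 := ndS (p := 56671) (l := 7) rfl N56671 D196212
theorem N93196 : nd 93196 = n196213 := ndS (p := 56672) (l := 5) rfl N56672 D196213
theorem N93197 : nd 93197 = n196214 := ndS (p := 56673) (l := 5) rfl N56673 D196214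
theorem N93198 : nd 93198 = n196215 := ndS (p := 56674) (l := 6) rfl N56674 D196215
theorem N93199 : nd 93199 = n196216 := ndS (p := 56675) (l := 1) rfl N56675 D196216
theorem N93200 : nd 93200 = n196217 := ndS (p := 56677) (l := 4) rfl N56677 D196217
theorem N93201 : nd 93201 = n196218 := ndS (p := 56681) (l := 4) rfl N56681 D196218
theorem N93202 : nd 93202 = n196219 := ndS (p := 56682) (l := 1) rfl N56682 D196219
theorem N93203 : nd 93203 = n196220 := ndS (p := 56682) (l := 6) rfl N56682 D196220
theorem N93204 : nd 93204 = n196221 := ndS (p := 56683) (l := 6) rfl N56683 D196221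
theorem N93205 : nd 93205 = n196222 := ndS (p := 56683) (l := 7) rfl N56683 D196222
theorem N93206 : nd 93206 = n196223 := ndS (p := 56684) (l := 0) rfl N56684 D196223
theorem N93207 : nd 93207 = n196224 := ndS (p := 56684) (l := 7) rfl N56684 D196224
theorem N93208 : nd 93208 = n196225 := ndS (p := 56685) (l := 6) rfl N56685 D196225
theorem N93209 : nd 93209 = n196226 := ndS (p := 56686) (l := 4) rfl N56686 D196226
theorem N93210 : nd 93210 = n196227 := ndS (p := 56686) (l := 6) rfl N56686 D196227
theorem N93211 : nd 93211 = n196229 := ndS (p := 56688) (l := 1) rfl N56688 D196229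
theorem N93212 : nd 93212 = n196230 := ndS (p := 56688) (l := 5) rfl N56688 D196230
theorem N93213 : nd 93213 = n196231 := ndS (p := 56688) (l := 7) rfl N56688 D196231
theorem N93214 : nd 93214 = n196232 := ndS (p := 56691) (l := 3) rfl N56691 D196232
theorem N93215 : nd 93215 = n196233 := ndS (p := 56691) (l := 6) rfl N56691 D196233
theorem N93216 : nd 93216 = n196234 := ndS (p := 56692) (l := 3) rfl N56692 D196234
theorem N93217 : nd 93217 = n196235 := ndS (p := 56692) (l := 6) rfl N56692 D196235
theorem N93218 : nd 93218 = n196236 := ndS (p := 56694) (l := 0) rfl N56694 D196236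
theorem N93219 : nd 93219 = n196237 := ndS (p := 56694) (l := 1) rfl N56694 D196237
theorem N93220 : nd 93220 = n196238 := ndS (p := 56694) (l := 4) rfl N56694 D196238
theorem N93221 : nd 93221 = n196239 := ndS (p := 56695) (l := 4) rfl N56695 D196239
theorem N93222 : nd 93222 = n196240 := ndS (p := 56696) (l := 4) rfl N56696 D196240
theorem N93223 : nd 93223 = n196241 := ndS (p := 56698) (l := 0) rfl N56698 D196241
theorem N93224 : nd 93224 = n196242 := ndS (p := 56698) (l := 2) rfl N56698 D196242
theorem N93225 : nd 93225 = n196243 := ndS (p := 56698) (l := 6) rfl N56698 D196243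
theorem N93226 : nd 93226 = n196244 := ndS (p := 56699) (l := 5) rfl N56699 D196244
theorem N93227 : nd 93227 = n196245 := ndS (p := 56701) (l := 4) rfl N56701 D196245
theorem N93228 : nd 93228 = n196246 := ndS (p := 56701) (l := 6) rfl N56701 D196246
theorem N93229 : nd 93229 = n196247 := ndS (p := 56702) (l := 3) rfl N56702 D196247
theorem N93230 : nd 93230 = n196248 := ndS (p := 56702) (l := 4) rfl N56702 D196248
theorem N93231 : nd 93231 = n196249 := ndS (p := 56702) (l := 6) rfl N56702 D196249
theorem N93232 : nd 93232 = n196250 := ndS (p := 56707) (l := 0) rfl N56707 D196250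
theorem N93233 : nd 93233 = n196251 := ndS (p := 56707) (l := 1) rfl N56707 D196251
theorem N93234 : nd 93234 = n196252 := ndS (p := 56709) (l := 4) rfl N56709 D196252
theorem N93235 : nd 93235 = n196253 := ndS (p := 56713) (l := 5) rfl N56713 D196253
theorem N93236 : nd 93236 = n196254 := ndS (p := 56714) (l := 0) rfl N56714 D196254
theorem N93237 : nd 93237 = n196255 := ndS (p := 56714) (l := 1) rfl N56714 D196255
theorem N93238 : nd 93238 = n196256 := ndS (p := 56714) (l := 5) rfl N56714 D196256
theorem N93239 : nd 93239 = n196257 := ndS (p := 56714) (l := 6) rfl N56714 D196257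
theorem N93240 : nd 93240 = n196258 := ndS (p := 56716) (l := 0) rfl N56716 D196258
theorem N93241 : nd 93241 = n196259 := ndS (p := 56718) (l := 5) rfl N56718 D196259
theorem N93242 : nd 93242 = n196260 := ndS (p := 56718) (l := 6) rfl N56718 D196260
theorem N93243 : nd 93243 = n196261 := ndS (p := 56720) (l := 1) rfl N56720 D196261
theorem N93244 : nd 93244 = n196262 := ndS (p := 56722) (l := 3) rfl N56722 D196262
theorem N93245 : nd 93245 = n196263 := ndS (p := 56722) (l := 6) rfl N56722 D196263
theorem N93246 : nd 93246 = n196264 := ndS (p := 56723) (l := 3) rfl N56723 D196264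
theorem N93247 : nd 93247 = n196265 := ndS (p := 56723) (l := 6) rfl N56723 D196265
theorem N93248 : nd 93248 = n196266 := ndS (p := 56725) (l := 3) rfl N56725 D196266
theorem N93249 : nd 93249 = n196267 := ndS (p := 56725) (l := 5) rfl N56725 D196267
theorem N93250 : nd 93250 = n196268 := ndS (p := 56728) (l := 4) rfl N56728 D196268
theorem N93251 : nd 93251 = n196269 := ndS (p := 56729) (l := 4) rfl N56729 D196269
theorem N93252 : nd 93252 = n196270 := ndS (p := 56731) (l := 0) rfl N56731 D196270
theorem N93253 : nd 93253 = n196271 := ndS (p := 56731) (l := 2) rfl N56731 D196271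
theorem N93254 : nd 93254 = n196272 := ndS (p := 56731) (l := 6) rfl N56731 D196272
theorem N93255 : nd 93255 = n196273 := ndS (p := 56732) (l := 5) rfl N56732 D196273
theorem N93256 : nd 93256 = n196274 := ndS (p := 56735) (l := 3) rfl N56735 D196274
theorem N93257 : nd 93257 = n196275 := ndS (p := 56735) (l := 6) rfl N56735 D196275
theorem N93258 : nd 93258 = n196276 := ndS (p := 56736) (l := 3) rfl N56736 D196276
theorem N93259 : nd 93259 = n196277 := ndS (p := 56736) (l := 6) rfl N56736 D196277
theorem N93260 : nd 93260 = n196278 := ndS (p := 56737) (l := 5) rfl N56737 D196278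
theorem N93261 : nd 93261 = n196279 := ndS (p := 56738) (l := 0) rfl N56738 D196279
theorem N93262 : nd 93262 = n196280 := ndS (p := 56739) (l := 3) rfl N56739 D196280
theorem N93263 : nd 93263 = n196281 := ndS (p := 56741) (l := 4) rfl N56741 D196281
theorem N93264 : nd 93264 = n196282 := ndS (p := 56741) (l := 6) rfl N56741 D196282
theorem N93265 : nd 93265 = n196283 := ndS (p := 56742) (l := 3) rfl N56742 D196283
theorem N93266 : nd 93266 = n196284 := ndS (p := 56742) (l := 4) rfl N56742 D196284
theorem N93267 : nd 93267 = n196285 := ndS (p := 56743) (l := 5) rfl N56743 D196285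
theorem N93268 : nd 93268 = n196286 := ndS (p := 56744) (l := 4) rfl N56744 D196286
theorem N93269 : nd 93269 = n196287 := ndS (p := 56744) (l := 6) rfl N56744 D196287
theorem N93270 : nd 93270 = n196288 := ndS (p := 56745) (l := 5) rfl N56745 D196288
theorem N93271 : nd 93271 = n196289 := ndS (p := 56746) (l := 5) rfl N56746 D196289
theorem N93272 : nd 93272 = n196290 := ndS (p := 56747) (l := 3) rfl N56747 D196290
theorem N93273 : nd 93273 = n196291 := ndS (p := 56747) (l := 5) rfl N56747 D196291
theorem N93274 : nd 93274 = n196292 := ndS (p := 56748) (l := 3) rfl N56748 D196292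
theorem N93275 : nd 93275 = n196293 := ndS (p := 56748) (l := 5) rfl N56748 D196293
theorem N93276 : nd 93276 = n196294 := ndS (p := 56751) (l := 3) rfl N56751 D196294
theorem N93277 : nd 93277 = n196295 := ndS (p := 56751) (l := 5) rfl N56751 D196295
theorem N93278 : nd 93278 = n196296 := ndS (p := 56752) (l := 4) rfl N56752 D196296
theorem N93279 : nd 93279 = n196297 := ndS (p := 56753) (l := 3) rfl N56753 D196297
theorem N93280 : nd 93280 = n196298 := ndS (p := 56753) (l := 5) rfl N56753 D196298
theorem N93281 : nd 93281 = n196299 := ndS (p := 56755) (l := 3) rfl N56755 D196299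
theorem N93282 : nd 93282 = n196300 := ndS (p := 56755) (l := 4) rfl N56755 D196300
theorem N93283 : nd 93283 = n196301 := ndS (p := 56755) (l := 5) rfl N56755 D196301
theorem N93284 : nd 93284 = n196302 := ndS (p := 56755) (l := 6) rfl N56755 D196302
theorem N93285 : nd 93285 = n196303 := ndS (p := 56756) (l := 3) rfl N56756 D196303
theorem N93286 : nd 93286 = n196304 := ndS (p := 56756) (l := 5) rfl N56756 D196304
theorem N93287 : nd 93287 = n196305 := ndS (p := 56757) (l := 5) rfl N56757 D196305
theorem N93288 : nd 93288 = n196306 := ndS (p := 56757) (l := 6) rfl N56757 D196306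
theorem N93289 : nd 93289 = n196307 := ndS (p := 56758) (l := 0) rfl N56758 D196307
theorem N93290 : nd 93290 = n196308 := ndS (p := 56758) (l := 1) rfl N56758 D196308
theorem N93291 : nd 93291 = n196309 := ndS (p := 56758) (l := 4) rfl N56758 D196309
theorem N93292 : nd 93292 = n196310 := ndS (p := 56758) (l := 6) rfl N56758 D196310
theorem N93293 : nd 93293 = n196311 := ndS (p := 56759) (l := 0) rfl N56759 D196311
theorem N93294 : nd 93294 = n196312 := ndS (p := 56759) (l := 1) rfl N56759 D196312
theorem N93295 : nd 93295 = n196313 := ndS (p := 56759) (l := 5) rfl N56759 D196313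
theorem N93296 : nd 93296 = n196314 := ndS (p := 56759) (l := 7) rfl N56759 D196314
theorem N93297 : nd 93297 = n196315 := ndS (p := 56760) (l := 0) rfl N56760 D196315
theorem N93298 : nd 93298 = n196316 := ndS (p := 56760) (l := 1) rfl N56760 D196316
theorem N93299 : nd 93299 = n196317 := ndS (p := 56760) (l := 5) rfl N56760 D196317
theorem N93300 : nd 93300 = n196318 := ndS (p := 56760) (l := 7) rfl N56760 D196318
theorem N93301 : nd 93301 = n196319 := ndS (p := 56761) (l := 4) rfl N56761 D196319
theorem N93302 : nd 93302 = n196320 := ndS (p := 56761) (l := 7) rfl N56761 D196320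
theorem N93303 : nd 93303 = n196321 := ndS (p := 56763) (l := 5) rfl N56763 D196321
theorem N93304 : nd 93304 = n196322 := ndS (p := 56764) (l := 3) rfl N56764 D196322
theorem N93305 : nd 93305 = n196323 := ndS (p := 56764) (l := 5) rfl N56764 D196323
theorem N93306 : nd 93306 = n196324 := ndS (p := 56765) (l := 1) rfl N56765 D196324
theorem N93307 : nd 93307 = n196325 := ndS (p := 56765) (l := 6) rfl N56765 D196325
theorem N93308 : nd 93308 = n196326 := ndS (p := 56766) (l := 0) rfl N56766 D196326
theorem N93309 : nd 93309 = n196327 := ndS (p := 56766) (l := 1) rfl N56766 D196327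
theorem N93310 : nd 93310 = n196328 := ndS (p := 56766) (l := 5) rfl N56766 D196328
theorem N93311 : nd 93311 = n196329 := ndS (p := 56766) (l := 7) rfl N56766 D196329
theorem N93312 : nd 93312 = n196330 := ndS (p := 56767) (l := 0) rfl N56767 D196330
theorem N93313 : nd 93313 = n196331 := ndS (p := 56767) (l := 1) rfl N56767 D196331
theorem N93314 : nd 93314 = n196332 := ndS (p := 56767) (l := 4) rfl N56767 D196332
theorem N93315 : nd 93315 = n196333 := ndS (p := 56768) (l := 6) rfl N56768 D196333
theorem N93316 : nd 93316 = n196334 := ndS (p := 56769) (l := 3) rfl N56769 D196334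
theorem N93317 : nd 93317 = n196335 := ndS (p := 56769) (l := 6) rfl N56769 D196335
theorem N93318 : nd 93318 = n196336 := ndS (p := 56771) (l := 3) rfl N56771 D196336
theorem N93319 : nd 93319 = n196337 := ndS (p := 56771) (l := 5) rfl N56771 D196337
theorem N93320 : nd 93320 = n196338 := ndS (p := 56771) (l := 6) rfl N56771 D196338
theorem N93321 : nd 93321 = n196339 := ndS (p := 56772) (l := 4) rfl N56772 D196339
theorem N93322 : nd 93322 = n196340 := ndS (p := 56772) (l := 6) rfl N56772 D196340
theorem N93323 : nd 93323 = n196341 := ndS (p := 56773) (l := 0) rfl N56773 D196341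
theorem N93324 : nd 93324 = n196342 := ndS (p := 56773) (l := 7) rfl N56773 D196342
theorem N93325 : nd 93325 = n196343 := ndS (p := 56774) (l := 6) rfl N56774 D196343
theorem N93326 : nd 93326 = n196344 := ndS (p := 56775) (l := 0) rfl N56775 D196344
theorem N93327 : nd 93327 = n196345 := ndS (p := 56775) (l := 2) rfl N56775 D196345
theorem N93328 : nd 93328 = n196346 := ndS (p := 56775) (l := 4) rfl N56775 D196346
theorem N93329 : nd 93329 = n196347 := ndS (p := 56775) (l := 5) rfl N56775 D196347
theorem N93330 : nd 93330 = n196348 := ndS (p := 56775) (l := 6) rfl N56775 D196348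
theorem N93331 : nd 93331 = n196349 := ndS (p := 56776) (l := 5) rfl N56776 D196349
theorem N93332 : nd 93332 = n196350 := ndS (p := 56776) (l := 6) rfl N56776 D196350
theorem N93333 : nd 93333 = n196351 := ndS (p := 56778) (l := 1) rfl N56778 D196351
theorem N93334 : nd 93334 = n196352 := ndS (p := 56778) (l := 5) rfl N56778 D196352
theorem N93335 : nd 93335 = n196353 := ndS (p := 56778) (l := 7) rfl N56778 D196353
theorem N93336 : nd 93336 = n196354 := ndS (p := 56779) (l := 4) rfl N56779 D196354
theorem N93337 : nd 93337 = n196355 := ndS (p := 56779) (l := 6) rfl N56779 D196355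
theorem N93338 : nd 93338 = n196356 := ndS (p := 56780) (l := 6) rfl N56780 D196356
theorem N93339 : nd 93339 = n196357 := ndS (p := 56782) (l := 0) rfl N56782 D196357
theorem N93340 : nd 93340 = n196358 := ndS (p := 56782) (l := 1) rfl N56782 D196358
theorem N93341 : nd 93341 = n196359 := ndS (p := 56782) (l := 5) rfl N56782 D196359
theorem N93342 : nd 93342 = n196361 := ndS (p := 56783) (l := 2) rfl N56783 D196361
theorem N93343 : nd 93343 = n196362 := ndS (p := 56783) (l := 4) rfl N56783 D196362
theorem N93344 : nd 93344 = n196363 := ndS (p := 56783) (l := 6) rfl N56783 D196363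
theorem N93345 : nd 93345 = n196364 := ndS (p := 56784) (l := 0) rfl N56784 D196364
theorem N93346 : nd 93346 = n196365 := ndS (p := 56784) (l := 5) rfl N56784 D196365
theorem N93347 : nd 93347 = n196366 := ndS (p := 56784) (l := 7) rfl N56784 D196366
theorem N93348 : nd 93348 = n196367 := ndS (p := 56785) (l := 2) rfl N56785 D196367
theorem N93349 : nd 93349 = n196368 := ndS (p := 56785) (l := 6) rfl N56785 D196368
theorem N93350 : nd 93350 = n196369 := ndS (p := 56786) (l := 0) rfl N56786 D196369
theorem N93351 : nd 93351 = n196370 := ndS (p := 56786) (l := 5) rfl N56786 D196370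
theorem N93352 : nd 93352 = n196371 := ndS (p := 56786) (l := 7) rfl N56786 D196371
theorem N93353 : nd 93353 = n196372 := ndS (p := 56787) (l := 0) rfl N56787 D196372
theorem N93354 : nd 93354 = n196373 := ndS (p := 56787) (l := 1) rfl N56787 D196373
theorem N93355 : nd 93355 = n196374 := ndS (p := 56787) (l := 2) rfl N56787 D196374
theorem N93356 : nd 93356 = n196375 := ndS (p := 56790) (l := 3) rfl N56790 D196375
theorem N93357 : nd 93357 = n196376 := ndS (p := 56790) (l := 4) rfl N56790 D196376
theorem N93358 : nd 93358 = n196377 := ndS (p := 56790) (l := 5) rfl N56790 D196377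
theorem N93359 : nd 93359 = n196379 := ndS (p := 56791) (l := 1) rfl N56791 D196379
theorem N93360 : nd 93360 = n196380 := ndS (p := 56791) (l := 5) rfl N56791 D196380
theorem N93361 : nd 93361 = n196381 := ndS (p := 56792) (l := 5) rfl N56792 D196381
theorem N93362 : nd 93362 = n196382 := ndS (p := 56793) (l := 3) rfl N56793 D196382
theorem N93363 : nd 93363 = n196383 := ndS (p := 56793) (l := 5) rfl N56793 D196383
theorem N93364 : nd 93364 = n196384 := ndS (p := 56793) (l := 6) rfl N56793 D196384
theorem N93365 : nd 93365 = n196385 := ndS (p := 56794) (l := 0) rfl N56794 D196385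
theorem N93366 : nd 93366 = n196386 := ndS (p := 56794) (l := 1) rfl N56794 D196386
theorem N93367 : nd 93367 = n196387 := ndS (p := 56794) (l := 4) rfl N56794 D196387
theorem N93368 : nd 93368 = n196388 := ndS (p := 56795) (l := 3) rfl N56795 D196388
theorem N93369 : nd 93369 = n196389 := ndS (p := 56795) (l := 5) rfl N56795 D196389
theorem N93370 : nd 93370 = n196390 := ndS (p := 56796) (l := 4) rfl N56796 D196390
theorem N93371 : nd 93371 = n196391 := ndS (p := 56800) (l := 0) rfl N56800 D196391
theorem N93372 : nd 93372 = n196392 := ndS (p := 56800) (l := 1) rfl N56800 D196392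
theorem N93373 : nd 93373 = n196393 := ndS (p := 56800) (l := 2) rfl N56800 D196393
theorem N93374 : nd 93374 = n196394 := ndS (p := 56800) (l := 5) rfl N56800 D196394
theorem N93375 : nd 93375 = n196395 := ndS (p := 56801) (l := 6) rfl N56801 D196395
theorem N93376 : nd 93376 = n196396 := ndS (p := 56802) (l := 3) rfl N56802 D196396
theorem N93377 : nd 93377 = n196397 := ndS (p := 56802) (l := 4) rfl N56802 D196397
theorem N93378 : nd 93378 = n196398 := ndS (p := 56802) (l := 6) rfl N56802 D196398
theorem N93379 : nd 93379 = n196399 := ndS (p := 56803) (l := 3) rfl N56803 D196399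
theorem N93380 : nd 93380 = n196400 := ndS (p := 56803) (l := 4) rfl N56803 D196400
theorem N93381 : nd 93381 = n196401 := ndS (p := 56804) (l := 6) rfl N56804 D196401
theorem N93382 : nd 93382 = n196402 := ndS (p := 56805) (l := 0) rfl N56805 D196402
theorem N93383 : nd 93383 = n196403 := ndS (p := 56806) (l := 1) rfl N56806 D196403
theorem N93384 : nd 93384 = n196404 := ndS (p := 56806) (l := 5) rfl N56806 D196404
theorem N93385 : nd 93385 = n196405 := ndS (p := 56806) (l := 7) rfl N56806 D196405
theorem N93386 : nd 93386 = n196406 := ndS (p := 56807) (l := 5) rfl N56807 D196406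
theorem N93387 : nd 93387 = n196407 := ndS (p := 56809) (l := 3) rfl N56809 D196407
theorem N93388 : nd 93388 = n196408 := ndS (p := 56809) (l := 6) rfl N56809 D196408
theorem N93389 : nd 93389 = n196409 := ndS (p := 56810) (l := 4) rfl N56810 D196409
theorem N93390 : nd 93390 = n196410 := ndS (p := 56810) (l := 7) rfl N56810 D196410
theorem N93391 : nd 93391 = n196411 := ndS (p := 56813) (l := 0) rfl N56813 D196411
theorem N93392 : nd 93392 = n196412 := ndS (p := 56814) (l := 6) rfl N56814 D196412
theorem N93393 : nd 93393 = n196413 := ndS (p := 56817) (l := 4) rfl N56817 D196413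
theorem N93394 : nd 93394 = n196414 := ndS (p := 56818) (l := 3) rfl N56818 D196414
theorem N93395 : nd 93395 = n196415 := ndS (p := 56818) (l := 4) rfl N56818 D196415
theorem N93396 : nd 93396 = n196416 := ndS (p := 56818) (l := 6) rfl N56818 D196416
theorem N93397 : nd 93397 = n196417 := ndS (p := 56819) (l := 6) rfl N56819 D196417
theorem N93398 : nd 93398 = n196418 := ndS (p := 56821) (l := 0) rfl N56821 D196418
theorem N93399 : nd 93399 = n196419 := ndS (p := 56821) (l := 5) rfl N56821 D196419
theorem N93400 : nd 93400 = n196420 := ndS (p := 56822) (l := 1) rfl N56822 D196420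
theorem N93401 : nd 93401 = n196421 := ndS (p := 56822) (l := 5) rfl N56822 D196421
theorem N93402 : nd 93402 = n196422 := ndS (p := 56823) (l := 0) rfl N56823 D196422
theorem N93403 : nd 93403 = n196423 := ndS (p := 56823) (l := 1) rfl N56823 D196423
theorem N93404 : nd 93404 = n196424 := ndS (p := 56823) (l := 4) rfl N56823 D196424
theorem N93405 : nd 93405 = n196425 := ndS (p := 56824) (l := 3) rfl N56824 D196425
theorem N93406 : nd 93406 = n196426 := ndS (p := 56824) (l := 5) rfl N56824 D196426
theorem N93407 : nd 93407 = n196427 := ndS (p := 56828) (l := 3) rfl N56828 D196427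
theorem N93408 : nd 93408 = n196428 := ndS (p := 56828) (l := 4) rfl N56828 D196428
theorem N93409 : nd 93409 = n196429 := ndS (p := 56830) (l := 1) rfl N56830 D196429
theorem N93410 : nd 93410 = n196430 := ndS (p := 56830) (l := 7) rfl N56830 D196430
theorem N93411 : nd 93411 = n196431 := ndS (p := 56831) (l := 3) rfl N56831 D196431
theorem N93412 : nd 93412 = n196432 := ndS (p := 56831) (l := 5) rfl N56831 D196432
theorem N93413 : nd 93413 = n196433 := ndS (p := 56832) (l := 3) rfl N56832 D196433
theorem N93414 : nd 93414 = n196434 := ndS (p := 56832) (l := 5) rfl N56832 D196434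
theorem N93415 : nd 93415 = n196435 := ndS (p := 56833) (l := 1) rfl N56833 D196435
theorem N93416 : nd 93416 = n196436 := ndS (p := 56833) (l := 4) rfl N56833 D196436
theorem N93417 : nd 93417 = n196437 := ndS (p := 56833) (l := 7) rfl N56833 D196437
theorem N93418 : nd 93418 = n196438 := ndS (p := 56836) (l := 3) rfl N56836 D196438
theorem N93419 : nd 93419 = n196439 := ndS (p := 56836) (l := 5) rfl N56836 D196439
theorem N93420 : nd 93420 = n196440 := ndS (p := 56837) (l := 4) rfl N56837 D196440
theorem N93421 : nd 93421 = n196441 := ndS (p := 56840) (l := 4) rfl N56840 D196441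
theorem N93422 : nd 93422 = n196442 := ndS (p := 56841) (l := 3) rfl N56841 D196442
theorem N93423 : nd 93423 = n196443 := ndS (p := 56841) (l := 4) rfl N56841 D196443
theorem N93424 : nd 93424 = n196444 := ndS (p := 56841) (l := 6) rfl N56841 D196444
theorem N93425 : nd 93425 = n196445 := ndS (p := 56842) (l := 6) rfl N56842 D196445
theorem N93426 : nd 93426 = n196446 := ndS (p := 56844) (l := 1) rfl N56844 D196446
theorem N93427 : nd 93427 = n196447 := ndS (p := 56844) (l := 5) rfl N56844 D196447
theorem N93428 : nd 93428 = n196448 := ndS (p := 56844) (l := 7) rfl N56844 D196448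
theorem N93429 : nd 93429 = n196449 := ndS (p := 56848) (l := 3) rfl N56848 D196449
theorem N93430 : nd 93430 = n196450 := ndS (p := 56848) (l := 6) rfl N56848 D196450
theorem N93431 : nd 93431 = n196451 := ndS (p := 56852) (l := 3) rfl N56852 D196451
theorem N93432 : nd 93432 = n196452 := ndS (p := 56852) (l := 6) rfl N56852 D196452
theorem N93433 : nd 93433 = n196453 := ndS (p := 56853) (l := 3) rfl N56853 D196453
theorem N93434 : nd 93434 = n196454 := ndS (p := 56853) (l := 6) rfl N56853 D196454
theorem N93435 : nd 93435 = n196455 := ndS (p := 56854) (l := 0) rfl N56854 D196455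
theorem N93436 : nd 93436 = n196456 := ndS (p := 56854) (l := 1) rfl N56854 D196456
theorem N93437 : nd 93437 = n196457 := ndS (p := 56854) (l := 5) rfl N56854 D196457
theorem N93438 : nd 93438 = n196458 := ndS (p := 56855) (l := 4) rfl N56855 D196458
theorem N93439 : nd 93439 = n196459 := ndS (p := 56857) (l := 3) rfl N56857 D196459
theorem N93440 : nd 93440 = n196460 := ndS (p := 56857) (l := 5) rfl N56857 D196460
theorem N93441 : nd 93441 = n196461 := ndS (p := 56858) (l := 3) rfl N56858 D196461
theorem N93442 : nd 93442 = n196462 := ndS (p := 56858) (l := 5) rfl N56858 D196462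
theorem N93443 : nd 93443 = n196463 := ndS (p := 56858) (l := 6) rfl N56858 D196463
theorem N93444 : nd 93444 = n196464 := ndS (p := 56859) (l := 0) rfl N56859 D196464
theorem N93445 : nd 93445 = n196465 := ndS (p := 56859) (l := 1) rfl N56859 D196465
theorem N93446 : nd 93446 = n196466 := ndS (p := 56860) (l := 5) rfl N56860 D196466
theorem N93447 : nd 93447 = n196467 := ndS (p := 56860) (l := 7) rfl N56860 D196467
theorem N93448 : nd 93448 = n196468 := ndS (p := 56862) (l := 6) rfl N56862 D196468
theorem N93449 : nd 93449 = n196469 := ndS (p := 56864) (l := 1) rfl N56864 D196469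
theorem N93450 : nd 93450 = n196470 := ndS (p := 56864) (l := 2) rfl N56864 D196470
theorem N93451 : nd 93451 = n196471 := ndS (p := 56864) (l := 5) rfl N56864 D196471
theorem N93452 : nd 93452 = n196472 := ndS (p := 56864) (l := 6) rfl N56864 D196472
theorem N93453 : nd 93453 = n196473 := ndS (p := 56864) (l := 7) rfl N56864 D196473
theorem N93454 : nd 93454 = n196474 := ndS (p := 56865) (l := 3) rfl N56865 D196474
theorem N93455 : nd 93455 = n196475 := ndS (p := 56866) (l := 0) rfl N56866 D196475
theorem N93456 : nd 93456 = n196476 := ndS (p := 56867) (l := 0) rfl N56867 D196476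
theorem N93457 : nd 93457 = n196477 := ndS (p := 56867) (l := 5) rfl N56867 D196477
theorem N93458 : nd 93458 = n196478 := ndS (p := 56867) (l := 7) rfl N56867 D196478
theorem N93459 : nd 93459 = n196479 := ndS (p := 56869) (l := 4) rfl N56869 D196479
theorem N93460 : nd 93460 = n196480 := ndS (p := 56869) (l := 6) rfl N56869 D196480
theorem N93461 : nd 93461 = n196481 := ndS (p := 56872) (l := 1) rfl N56872 D196481
theorem N93462 : nd 93462 = n196482 := ndS (p := 56873) (l := 6) rfl N56873 D196482
theorem N93463 : nd 93463 = n196483 := ndS (p := 56874) (l := 3) rfl N56874 D196483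
theorem N93464 : nd 93464 = n196484 := ndS (p := 56875) (l := 3) rfl N56875 D196484
theorem N93465 : nd 93465 = n196485 := ndS (p := 56875) (l := 6) rfl N56875 D196485
theorem N93466 : nd 93466 = n196486 := ndS (p := 56876) (l := 0) rfl N56876 D196486
theorem N93467 : nd 93467 = n196487 := ndS (p := 56877) (l := 0) rfl N56877 D196487
theorem N93468 : nd 93468 = n196488 := ndS (p := 56877) (l := 1) rfl N56877 D196488
theorem N93469 : nd 93469 = n196489 := ndS (p := 56878) (l := 6) rfl N56878 D196489
theorem N93470 : nd 93470 = n196490 := ndS (p := 56879) (l := 0) rfl N56879 D196490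
theorem N93471 : nd 93471 = n196491 := ndS (p := 56879) (l := 1) rfl N56879 D196491
theorem N93472 : nd 93472 = n196492 := ndS (p := 56879) (l := 5) rfl N56879 D196492
theorem N93473 : nd 93473 = n196493 := ndS (p := 56879) (l := 7) rfl N56879 D196493
theorem N93474 : nd 93474 = n196494 := ndS (p := 56880) (l := 0) rfl N56880 D196494
theorem N93475 : nd 93475 = n196495 := ndS (p := 56880) (l := 1) rfl N56880 D196495
theorem N93476 : nd 93476 = n196496 := ndS (p := 56880) (l := 2) rfl N56880 D196496
theorem N93477 : nd 93477 = n196497 := ndS (p := 56881) (l := 0) rfl N56881 D196497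
theorem N93478 : nd 93478 = n196498 := ndS (p := 56881) (l := 1) rfl N56881 D196498
theorem N93479 : nd 93479 = n196499 := ndS (p := 56881) (l := 5) rfl N56881 D196499
theorem N93480 : nd 93480 = n196500 := ndS (p := 56881) (l := 7) rfl N56881 D196500
theorem N93481 : nd 93481 = n196501 := ndS (p := 56882) (l := 3) rfl N56882 D196501
theorem N93482 : nd 93482 = n196502 := ndS (p := 56882) (l := 4) rfl N56882 D196502
theorem N93483 : nd 93483 = n196503 := ndS (p := 56882) (l := 6) rfl N56882 D196503
theorem N93484 : nd 93484 = n196504 := ndS (p := 56883) (l := 3) rfl N56883 D196504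
theorem N93485 : nd 93485 = n196505 := ndS (p := 56883) (l := 4) rfl N56883 D196505
theorem N93486 : nd 93486 = n196506 := ndS (p := 56883) (l := 6) rfl N56883 D196506
theorem N93487 : nd 93487 = n196507 := ndS (p := 56886) (l := 0) rfl N56886 D196507
theorem N93488 : nd 93488 = n196508 := ndS (p := 56886) (l := 1) rfl N56886 D196508
theorem N93489 : nd 93489 = n196509 := ndS (p := 56886) (l := 2) rfl N56886 D196509
theorem N93490 : nd 93490 = n196510 := ndS (p := 56887) (l := 0) rfl N56887 D196510
theorem N93491 : nd 93491 = n196511 := ndS (p := 56887) (l := 1) rfl N56887 D196511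
theorem N93492 : nd 93492 = n196512 := ndS (p := 56887) (l := 2) rfl N56887 D196512
theorem N93493 : nd 93493 = n196513 := ndS (p := 56887) (l := 6) rfl N56887 D196513
theorem N93494 : nd 93494 = n196514 := ndS (p := 56888) (l := 5) rfl N56888 D196514
theorem N93495 : nd 93495 = n196515 := ndS (p := 56889) (l := 4) rfl N56889 D196515
theorem N93496 : nd 93496 = n196516 := ndS (p := 56889) (l := 6) rfl N56889 D196516
theorem N93497 : nd 93497 = n196517 := ndS (p := 56891) (l := 5) rfl N56891 D196517
theorem N93498 : nd 93498 = n196518 := ndS (p := 56891) (l := 6) rfl N56891 D196518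
theorem N93499 : nd 93499 = n196519 := ndS (p := 56892) (l := 0) rfl N56892 D196519
theorem N93500 : nd 93500 = n196520 := ndS (p := 56892) (l := 1) rfl N56892 D196520
theorem N93501 : nd 93501 = n196521 := ndS (p := 56892) (l := 4) rfl N56892 D196521
theorem N93502 : nd 93502 = n196522 := ndS (p := 56892) (l := 6) rfl N56892 D196522
theorem N93503 : nd 93503 = n196523 := ndS (p := 56893) (l := 0) rfl N56893 D196523
theorem N93504 : nd 93504 = n196524 := ndS (p := 56893) (l := 1) rfl N56893 D196524
theorem N93505 : nd 93505 = n196525 := ndS (p := 56893) (l := 5) rfl N56893 D196525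
theorem N93506 : nd 93506 = n196526 := ndS (p := 56893) (l := 7) rfl N56893 D196526
theorem N93507 : nd 93507 = n196527 := ndS (p := 56894) (l := 3) rfl N56894 D196527
theorem N93508 : nd 93508 = n196528 := ndS (p := 56894) (l := 6) rfl N56894 D196528
theorem N93509 : nd 93509 = n196529 := ndS (p := 56895) (l := 0) rfl N56895 D196529
theorem N93510 : nd 93510 = n196530 := ndS (p := 56895) (l := 1) rfl N56895 D196530
theorem N93511 : nd 93511 = n196531 := ndS (p := 56895) (l := 5) rfl N56895 D196531
theorem N93512 : nd 93512 = n196532 := ndS (p := 56895) (l := 7) rfl N56895 D196532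
theorem N93513 : nd 93513 = n196533 := ndS (p := 56896) (l := 3) rfl N56896 D196533
theorem N93514 : nd 93514 = n196534 := ndS (p := 56897) (l := 4) rfl N56897 D196534
theorem N93515 : nd 93515 = n196535 := ndS (p := 56897) (l := 7) rfl N56897 D196535
theorem N93516 : nd 93516 = n196536 := ndS (p := 56899) (l := 6) rfl N56899 D196536
theorem N93517 : nd 93517 = n196537 := ndS (p := 56900) (l := 0) rfl N56900 D196537
theorem N93518 : nd 93518 = n196538 := ndS (p := 56900) (l := 1) rfl N56900 D196538
theorem N93519 : nd 93519 = n196539 := ndS (p := 56900) (l := 5) rfl N56900 D196539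
theorem N93520 : nd 93520 = n196540 := ndS (p := 56900) (l := 7) rfl N56900 D196540
theorem N93521 : nd 93521 = n196541 := ndS (p := 56901) (l := 3) rfl N56901 D196541
theorem N93522 : nd 93522 = n196542 := ndS (p := 56901) (l := 5) rfl N56901 D196542
theorem N93523 : nd 93523 = n196543 := ndS (p := 56902) (l := 3) rfl N56902 D196543
theorem N93524 : nd 93524 = n196544 := ndS (p := 56902) (l := 5) rfl N56902 D196544
theorem N93525 : nd 93525 = n196545 := ndS (p := 56903) (l := 0) rfl N56903 D196545
theorem N93526 : nd 93526 = n196546 := ndS (p := 56903) (l := 4) rfl N56903 D196546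
theorem N93527 : nd 93527 = n196547 := ndS (p := 56903) (l := 7) rfl N56903 D196547
theorem N93528 : nd 93528 = n196548 := ndS (p := 56907) (l := 4) rfl N56907 D196548
theorem N93529 : nd 93529 = n196549 := ndS (p := 56907) (l := 6) rfl N56907 D196549
theorem N93530 : nd 93530 = n196550 := ndS (p := 56908) (l := 3) rfl N56908 D196550
theorem N93531 : nd 93531 = n196551 := ndS (p := 56908) (l := 4) rfl N56908 D196551
theorem N93532 : nd 93532 = n196552 := ndS (p := 56909) (l := 6) rfl N56909 D196552
theorem N93533 : nd 93533 = n196553 := ndS (p := 56910) (l := 0) rfl N56910 D196553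
theorem N93534 : nd 93534 = n196554 := ndS (p := 56910) (l := 1) rfl N56910 D196554
theorem N93535 : nd 93535 = n196555 := ndS (p := 56910) (l := 5) rfl N56910 D196555
theorem N93536 : nd 93536 = n196556 := ndS (p := 56911) (l := 3) rfl N56911 D196556
theorem N93537 : nd 93537 = n196557 := ndS (p := 56911) (l := 5) rfl N56911 D196557
theorem N93538 : nd 93538 = n196558 := ndS (p := 56912) (l := 0) rfl N56912 D196558
theorem N93539 : nd 93539 = n196559 := ndS (p := 56912) (l := 1) rfl N56912 D196559
theorem N93540 : nd 93540 = n196560 := ndS (p := 56912) (l := 4) rfl N56912 D196560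
theorem N93541 : nd 93541 = n196561 := ndS (p := 56913) (l := 0) rfl N56913 D196561
theorem N93542 : nd 93542 = n196562 := ndS (p := 56913) (l := 1) rfl N56913 D196562
theorem N93543 : nd 93543 = n196563 := ndS (p := 56913) (l := 3) rfl N56913 D196563
theorem N93544 : nd 93544 = n196564 := ndS (p := 56913) (l := 5) rfl N56913 D196564
theorem N93545 : nd 93545 = n196565 := ndS (p := 56913) (l := 6) rfl N56913 D196565
theorem N93546 : nd 93546 = n196566 := ndS (p := 56914) (l := 0) rfl N56914 D196566
theorem N93547 : nd 93547 = n196567 := ndS (p := 56914) (l := 5) rfl N56914 D196567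
theorem N93548 : nd 93548 = n196568 := ndS (p := 56914) (l := 7) rfl N56914 D196568
theorem N93549 : nd 93549 = n196569 := ndS (p := 56916) (l := 3) rfl N56916 D196569
theorem N93550 : nd 93550 = n196570 := ndS (p := 56916) (l := 5) rfl N56916 D196570
theorem N93551 : nd 93551 = n196571 := ndS (p := 56916) (l := 6) rfl N56916 D196571
theorem N93552 : nd 93552 = n196572 := ndS (p := 56917) (l := 1) rfl N56917 D196572
theorem N93553 : nd 93553 = n196573 := ndS (p := 56917) (l := 5) rfl N56917 D196573
theorem N93554 : nd 93554 = n196574 := ndS (p := 56919) (l := 4) rfl N56919 D196574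
theorem N93555 : nd 93555 = n196575 := ndS (p := 56922) (l := 5) rfl N56922 D196575
theorem N93556 : nd 93556 = n196576 := ndS (p := 56924) (l := 5) rfl N56924 D196576
theorem N93557 : nd 93557 = n196577 := ndS (p := 56925) (l := 6) rfl N56925 D196577
theorem N93558 : nd 93558 = n196578 := ndS (p := 56926) (l := 5) rfl N56926 D196578
theorem N93559 : nd 93559 = n196579 := ndS (p := 56927) (l := 3) rfl N56927 D196579
theorem N93560 : nd 93560 = n196580 := ndS (p := 56927) (l := 6) rfl N56927 D196580
theorem N93561 : nd 93561 = n196581 := ndS (p := 56928) (l := 3) rfl N56928 D196581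
theorem N93562 : nd 93562 = n196582 := ndS (p := 56929) (l := 6) rfl N56929 D196582
theorem N93563 : nd 93563 = n196583 := ndS (p := 56933) (l := 1) rfl N56933 D196583
theorem N93564 : nd 93564 = n196584 := ndS (p := 56933) (l := 2) rfl N56933 D196584
theorem N93565 : nd 93565 = n196585 := ndS (p := 56933) (l := 6) rfl N56933 D196585
theorem N93566 : nd 93566 = n196586 := ndS (p := 56934) (l := 6) rfl N56934 D196586
theorem N93567 : nd 93567 = n196587 := ndS (p := 56935) (l := 5) rfl N56935 D196587
theorem N93568 : nd 93568 = n196588 := ndS (p := 56937) (l := 3) rfl N56937 D196588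
theorem N93569 : nd 93569 = n196589 := ndS (p := 56937) (l := 6) rfl N56937 D196589
theorem N93570 : nd 93570 = n196590 := ndS (p := 56942) (l := 3) rfl N56942 D196590
theorem N93571 : nd 93571 = n196591 := ndS (p := 56948) (l := 3) rfl N56948 D196591
theorem N93572 : nd 93572 = n196592 := ndS (p := 56948) (l := 4) rfl N56948 D196592
theorem N93573 : nd 93573 = n196593 := ndS (p := 56948) (l := 6) rfl N56948 D196593
theorem N93574 : nd 93574 = n196594 := ndS (p := 56949) (l := 3) rfl N56949 D196594
theorem N93575 : nd 93575 = n196595 := ndS (p := 56949) (l := 6) rfl N56949 D196595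
theorem N93576 : nd 93576 = n196596 := ndS (p := 56950) (l := 5) rfl N56950 D196596
theorem N93577 : nd 93577 = n196597 := ndS (p := 56951) (l := 1) rfl N56951 D196597
theorem N93578 : nd 93578 = n196598 := ndS (p := 56951) (l := 4) rfl N56951 D196598
theorem N93579 : nd 93579 = n196599 := ndS (p := 56951) (l := 6) rfl N56951 D196599
theorem N93580 : nd 93580 = n196600 := ndS (p := 56952) (l := 0) rfl N56952 D196600
theorem N93581 : nd 93581 = n196601 := ndS (p := 56952) (l := 1) rfl N56952 D196601
theorem N93582 : nd 93582 = n196602 := ndS (p := 56953) (l := 0) rfl N56953 D196602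
theorem N93583 : nd 93583 = n196604 := ndS (p := 56953) (l := 5) rfl N56953 D196604
theorem N93584 : nd 93584 = n196605 := ndS (p := 56953) (l := 7) rfl N56953 D196605
theorem N93585 : nd 93585 = n196606 := ndS (p := 56954) (l := 0) rfl N56954 D196606
theorem N93586 : nd 93586 = n196607 := ndS (p := 56954) (l := 1) rfl N56954 D196607
theorem N93587 : nd 93587 = n196608 := ndS (p := 56954) (l := 4) rfl N56954 D196608
theorem N93588 : nd 93588 = n196609 := ndS (p := 56957) (l := 5) rfl N56957 D196609
theorem N93589 : nd 93589 = n196610 := ndS (p := 56959) (l := 0) rfl N56959 D196610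
theorem N93590 : nd 93590 = n196611 := ndS (p := 56959) (l := 1) rfl N56959 D196611
theorem N93591 : nd 93591 = n196612 := ndS (p := 56959) (l := 5) rfl N56959 D196612
theorem N93592 : nd 93592 = n196613 := ndS (p := 56959) (l := 6) rfl N56959 D196613
theorem N93593 : nd 93593 = n196614 := ndS (p := 56960) (l := 5) rfl N56960 D196614
theorem N93594 : nd 93594 = n196616 := ndS (p := 56961) (l := 6) rfl N56961 D196616
theorem N93595 : nd 93595 = n196617 := ndS (p := 56962) (l := 5) rfl N56962 D196617
theorem N93596 : nd 93596 = n196618 := ndS (p := 56962) (l := 6) rfl N56962 D196618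
theorem N93597 : nd 93597 = n196619 := ndS (p := 56963) (l := 1) rfl N56963 D196619
theorem N93598 : nd 93598 = n196620 := ndS (p := 56963) (l := 5) rfl N56963 D196620
theorem N93599 : nd 93599 = n196621 := ndS (p := 56963) (l := 7) rfl N56963 D196621
theorem N93600 : nd 93600 = n196622 := ndS (p := 56964) (l := 4) rfl N56964 D196622
theorem N93601 : nd 93601 = n196623 := ndS (p := 56964) (l := 6) rfl N56964 D196623
theorem N93602 : nd 93602 = n196624 := ndS (p := 56965) (l := 3) rfl N56965 D196624
theorem N93603 : nd 93603 = n196625 := ndS (p := 56965) (l := 4) rfl N56965 D196625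
theorem N93604 : nd 93604 = n196626 := ndS (p := 56966) (l := 3) rfl N56966 D196626
theorem N93605 : nd 93605 = n196627 := ndS (p := 56967) (l := 3) rfl N56967 D196627
theorem N93606 : nd 93606 = n196628 := ndS (p := 56968) (l := 1) rfl N56968 D196628
theorem N93607 : nd 93607 = n196629 := ndS (p := 56968) (l := 5) rfl N56968 D196629
theorem N93608 : nd 93608 = n196630 := ndS (p := 56969) (l := 6) rfl N56969 D196630
theorem N93609 : nd 93609 = n196631 := ndS (p := 56970) (l := 0) rfl N56970 D196631
theorem N93610 : nd 93610 = n196632 := ndS (p := 56970) (l := 1) rfl N56970 D196632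
theorem N93611 : nd 93611 = n196633 := ndS (p := 56970) (l := 4) rfl N56970 D196633
theorem N93612 : nd 93612 = n196634 := ndS (p := 56970) (l := 6) rfl N56970 D196634
theorem N93613 : nd 93613 = n196635 := ndS (p := 56972) (l := 3) rfl N56972 D196635
theorem N93614 : nd 93614 = n196636 := ndS (p := 56972) (l := 5) rfl N56972 D196636
theorem N93615 : nd 93615 = n196637 := ndS (p := 56973) (l := 2) rfl N56973 D196637
theorem N93616 : nd 93616 = n196638 := ndS (p := 56973) (l := 5) rfl N56973 D196638
theorem N93617 : nd 93617 = n196639 := ndS (p := 56974) (l := 4) rfl N56974 D196639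
theorem N93618 : nd 93618 = n196640 := ndS (p := 56974) (l := 6) rfl N56974 D196640
theorem N93619 : nd 93619 = n196641 := ndS (p := 56975) (l := 3) rfl N56975 D196641
theorem N93620 : nd 93620 = n196642 := ndS (p := 56978) (l := 1) rfl N56978 D196642
theorem N93621 : nd 93621 = n196643 := ndS (p := 56978) (l := 2) rfl N56978 D196643
theorem N93622 : nd 93622 = n196644 := ndS (p := 56979) (l := 4) rfl N56979 D196644
theorem N93623 : nd 93623 = n196645 := ndS (p := 56982) (l := 3) rfl N56982 D196645
theorem N93624 : nd 93624 = n196646 := ndS (p := 56985) (l := 1) rfl N56985 D196646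
theorem N93625 : nd 93625 = n196647 := ndS (p := 56985) (l := 2) rfl N56985 D196647
theorem N93626 : nd 93626 = n196648 := ndS (p := 56985) (l := 6) rfl N56985 D196648
theorem N93627 : nd 93627 = n196649 := ndS (p := 56986) (l := 5) rfl N56986 D196649
theorem N93628 : nd 93628 = n196650 := ndS (p := 56987) (l := 3) rfl N56987 D196650
theorem N93629 : nd 93629 = n196651 := ndS (p := 56987) (l := 4) rfl N56987 D196651
theorem N93630 : nd 93630 = n196652 := ndS (p := 56987) (l := 6) rfl N56987 D196652
theorem N93631 : nd 93631 = n196653 := ndS (p := 56989) (l := 5) rfl N56989 D196653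
theorem N93632 : nd 93632 = n196654 := ndS (p := 56989) (l := 6) rfl N56989 D196654
theorem N93633 : nd 93633 = n196655 := ndS (p := 56990) (l := 4) rfl N56990 D196655
theorem N93634 : nd 93634 = n196656 := ndS (p := 56991) (l := 1) rfl N56991 D196656
theorem N93635 : nd 93635 = n196657 := ndS (p := 56991) (l := 7) rfl N56991 D196657
theorem N93636 : nd 93636 = n196658 := ndS (p := 56992) (l := 5) rfl N56992 D196658
theorem N93637 : nd 93637 = n196659 := ndS (p := 56992) (l := 7) rfl N56992 D196659
theorem N93638 : nd 93638 = n196660 := ndS (p := 56994) (l := 3) rfl N56994 D196660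
theorem N93639 : nd 93639 = n196661 := ndS (p := 56994) (l := 5) rfl N56994 D196661
theorem N93640 : nd 93640 = n196662 := ndS (p := 56994) (l := 6) rfl N56994 D196662
theorem N93641 : nd 93641 = n196663 := ndS (p := 56995) (l := 7) rfl N56995 D196663
theorem N93642 : nd 93642 = n196664 := ndS (p := 56999) (l := 6) rfl N56999 D196664
theorem N93643 : nd 93643 = n196665 := ndS (p := 57000) (l := 1) rfl N57000 D196665
theorem N93644 : nd 93644 = n196666 := ndS (p := 57000) (l := 3) rfl N57000 D196666
theorem N93645 : nd 93645 = n196667 := ndS (p := 57000) (l := 5) rfl N57000 D196667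
theorem N93646 : nd 93646 = n196668 := ndS (p := 57000) (l := 6) rfl N57000 D196668
theorem N93647 : nd 93647 = n196669 := ndS (p := 57002) (l := 2) rfl N57002 D196669
theorem N93648 : nd 93648 = n196670 := ndS (p := 57003) (l := 5) rfl N57003 D196670
theorem N93649 : nd 93649 = n196671 := ndS (p := 57008) (l := 0) rfl N57008 D196671
theorem N93650 : nd 93650 = n196672 := ndS (p := 57008) (l := 2) rfl N57008 D196672
theorem N93651 : nd 93651 = n196673 := ndS (p := 57008) (l := 5) rfl N57008 D196673
theorem N93652 : nd 93652 = n196674 := ndS (p := 57009) (l := 0) rfl N57009 D196674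
theorem N93653 : nd 93653 = n196675 := ndS (p := 57009) (l := 4) rfl N57009 D196675
theorem N93654 : nd 93654 = n196676 := ndS (p := 57010) (l := 1) rfl N57010 D196676
theorem N93655 : nd 93655 = n196677 := ndS (p := 57010) (l := 2) rfl N57010 D196677
theorem N93656 : nd 93656 = n196678 := ndS (p := 57010) (l := 5) rfl N57010 D196678
theorem N93657 : nd 93657 = n196679 := ndS (p := 57010) (l := 6) rfl N57010 D196679
theorem N93658 : nd 93658 = n196680 := ndS (p := 57013) (l := 3) rfl N57013 D196680
theorem N93659 : nd 93659 = n196681 := ndS (p := 57013) (l := 4) rfl N57013 D196681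
theorem N93660 : nd 93660 = n196682 := ndS (p := 57013) (l := 6) rfl N57013 D196682
theorem N93661 : nd 93661 = n196683 := ndS (p := 57014) (l := 3) rfl N57014 D196683
theorem N93662 : nd 93662 = n196684 := ndS (p := 57014) (l := 6) rfl N57014 D196684
theorem N93663 : nd 93663 = n196685 := ndS (p := 57015) (l := 0) rfl N57015 D196685
theorem N93664 : nd 93664 = n196686 := ndS (p := 57015) (l := 1) rfl N57015 D196686
theorem N93665 : nd 93665 = n196687 := ndS (p := 57018) (l := 4) rfl N57018 D196687
theorem N93666 : nd 93666 = n196690 := ndS (p := 57020) (l := 0) rfl N57020 D196690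
theorem N93667 : nd 93667 = n196691 := ndS (p := 57020) (l := 1) rfl N57020 D196691
theorem N93668 : nd 93668 = n196692 := ndS (p := 57022) (l := 3) rfl N57022 D196692
theorem N93669 : nd 93669 = n196693 := ndS (p := 57022) (l := 6) rfl N57022 D196693
theorem N93670 : nd 93670 = n196694 := ndS (p := 57024) (l := 1) rfl N57024 D196694
theorem N93671 : nd 93671 = n196695 := ndS (p := 57024) (l := 2) rfl N57024 D196695
theorem N93672 : nd 93672 = n196696 := ndS (p := 57024) (l := 6) rfl N57024 D196696
theorem N93673 : nd 93673 = n196697 := ndS (p := 57025) (l := 4) rfl N57025 D196697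
theorem N93674 : nd 93674 = n196698 := ndS (p := 57025) (l := 6) rfl N57025 D196698
theorem N93675 : nd 93675 = n196699 := ndS (p := 57026) (l := 5) rfl N57026 D196699
theorem N93676 : nd 93676 = n196700 := ndS (p := 57030) (l := 0) rfl N57030 D196700
theorem N93677 : nd 93677 = n196701 := ndS (p := 57030) (l := 1) rfl N57030 D196701
theorem N93678 : nd 93678 = n196702 := ndS (p := 57030) (l := 2) rfl N57030 D196702
theorem N93679 : nd 93679 = n196703 := ndS (p := 57030) (l := 7) rfl N57030 D196703
theorem N93680 : nd 93680 = n196704 := ndS (p := 57036) (l := 6) rfl N57036 D196704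
theorem N93681 : nd 93681 = n196705 := ndS (p := 57037) (l := 5) rfl N57037 D196705
theorem N93682 : nd 93682 = n196706 := ndS (p := 57037) (l := 6) rfl N57037 D196706
theorem N93683 : nd 93683 = n196707 := ndS (p := 57038) (l := 0) rfl N57038 D196707
theorem N93684 : nd 93684 = n196708 := ndS (p := 57038) (l := 1) rfl N57038 D196708
theorem N93685 : nd 93685 = n196709 := ndS (p := 57038) (l := 4) rfl N57038 D196709
theorem N93686 : nd 93686 = n196710 := ndS (p := 57038) (l := 6) rfl N57038 D196710
theorem N93687 : nd 93687 = n196711 := ndS (p := 57039) (l := 0) rfl N57039 D196711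
theorem N93688 : nd 93688 = n196712 := ndS (p := 57039) (l := 1) rfl N57039 D196712
theorem N93689 : nd 93689 = n196713 := ndS (p := 57039) (l := 5) rfl N57039 D196713
theorem N93690 : nd 93690 = n196714 := ndS (p := 57039) (l := 7) rfl N57039 D196714
theorem N93691 : nd 93691 = n196715 := ndS (p := 57040) (l := 0) rfl N57040 D196715
theorem N93692 : nd 93692 = n196716 := ndS (p := 57040) (l := 1) rfl N57040 D196716
theorem N93693 : nd 93693 = n196717 := ndS (p := 57040) (l := 5) rfl N57040 D196717
theorem N93694 : nd 93694 = n196718 := ndS (p := 57040) (l := 7) rfl N57040 D196718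
theorem N93695 : nd 93695 = n196719 := ndS (p := 57041) (l := 3) rfl N57041 D196719
theorem N93696 : nd 93696 = n196720 := ndS (p := 57041) (l := 5) rfl N57041 D196720
theorem N93697 : nd 93697 = n196721 := ndS (p := 57041) (l := 6) rfl N57041 D196721
theorem N93698 : nd 93698 = n196722 := ndS (p := 57042) (l := 0) rfl N57042 D196722
theorem N93699 : nd 93699 = n196723 := ndS (p := 57044) (l := 1) rfl N57044 D196723
theorem N93700 : nd 93700 = n196724 := ndS (p := 57045) (l := 0) rfl N57045 D196724
theorem N93701 : nd 93701 = n196725 := ndS (p := 57045) (l := 1) rfl N57045 D196725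
theorem N93702 : nd 93702 = n196726 := ndS (p := 57045) (l := 5) rfl N57045 D196726
theorem N93703 : nd 93703 = n196727 := ndS (p := 57046) (l := 6) rfl N57046 D196727
theorem N93704 : nd 93704 = n196728 := ndS (p := 57047) (l := 5) rfl N57047 D196728
theorem N93705 : nd 93705 = n196729 := ndS (p := 57047) (l := 6) rfl N57047 D196729
theorem N93706 : nd 93706 = n196730 := ndS (p := 57050) (l := 3) rfl N57050 D196730
theorem N93707 : nd 93707 = n196731 := ndS (p := 57050) (l := 4) rfl N57050 D196731
theorem N93708 : nd 93708 = n196732 := ndS (p := 57050) (l := 6) rfl N57050 D196732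
theorem N93709 : nd 93709 = n196733 := ndS (p := 57053) (l := 0) rfl N57053 D196733
theorem N93710 : nd 93710 = n196734 := ndS (p := 57053) (l := 2) rfl N57053 D196734
theorem N93711 : nd 93711 = n196735 := ndS (p := 57053) (l := 4) rfl N57053 D196735
theorem N93712 : nd 93712 = n196736 := ndS (p := 57053) (l := 5) rfl N57053 D196736
theorem N93713 : nd 93713 = n196737 := ndS (p := 57053) (l := 6) rfl N57053 D196737
theorem N93714 : nd 93714 = n196738 := ndS (p := 57056) (l := 1) rfl N57056 D196738
theorem N93715 : nd 93715 = n196739 := ndS (p := 57056) (l := 2) rfl N57056 D196739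
theorem N93716 : nd 93716 = n196740 := ndS (p := 57056) (l := 5) rfl N57056 D196740
theorem N93717 : nd 93717 = n196741 := ndS (p := 57057) (l := 4) rfl N57057 D196741
theorem N93718 : nd 93718 = n196742 := ndS (p := 57057) (l := 6) rfl N57057 D196742
theorem N93719 : nd 93719 = n196743 := ndS (p := 57058) (l := 3) rfl N57058 D196743
theorem N93720 : nd 93720 = n196744 := ndS (p := 57059) (l := 3) rfl N57059 D196744
theorem N93721 : nd 93721 = n196745 := ndS (p := 57060) (l := 6) rfl N57060 D196745
theorem N93722 : nd 93722 = n196746 := ndS (p := 57061) (l := 2) rfl N57061 D196746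
theorem N93723 : nd 93723 = n196747 := ndS (p := 57061) (l := 5) rfl N57061 D196747
theorem N93724 : nd 93724 = n196748 := ndS (p := 57064) (l := 5) rfl N57064 D196748
theorem N93725 : nd 93725 = n196749 := ndS (p := 57064) (l := 6) rfl N57064 D196749
theorem N93726 : nd 93726 = n196753 := ndS (p := 57068) (l := 5) rfl N57068 D196753
theorem N93727 : nd 93727 = n196754 := ndS (p := 57069) (l := 4) rfl N57069 D196754
theorem N93728 : nd 93728 = n196755 := ndS (p := 57069) (l := 6) rfl N57069 D196755
theorem N93729 : nd 93729 = n196756 := ndS (p := 57070) (l := 5) rfl N57070 D196756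
theorem N93730 : nd 93730 = n196757 := ndS (p := 57071) (l := 1) rfl N57071 D196757
theorem N93731 : nd 93731 = n196758 := ndS (p := 57073) (l := 5) rfl N57073 D196758
theorem N93732 : nd 93732 = n196759 := ndS (p := 57075) (l := 3) rfl N57075 D196759
theorem N93733 : nd 93733 = n196760 := ndS (p := 57076) (l := 0) rfl N57076 D196760
theorem N93734 : nd 93734 = n196761 := ndS (p := 57076) (l := 7) rfl N57076 D196761
theorem N93735 : nd 93735 = n196762 := ndS (p := 57078) (l := 3) rfl N57078 D196762
theorem N93736 : nd 93736 = n196763 := ndS (p := 57078) (l := 6) rfl N57078 D196763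
theorem N93737 : nd 93737 = n196764 := ndS (p := 57079) (l := 3) rfl N57079 D196764
theorem N93738 : nd 93738 = n196765 := ndS (p := 57081) (l := 6) rfl N57081 D196765
theorem N93739 : nd 93739 = n196766 := ndS (p := 57083) (l := 0) rfl N57083 D196766
theorem N93740 : nd 93740 = n196767 := ndS (p := 57083) (l := 3) rfl N57083 D196767
theorem N93741 : nd 93741 = n196768 := ndS (p := 57084) (l := 6) rfl N57084 D196768
theorem N93742 : nd 93742 = n196769 := ndS (p := 57086) (l := 1) rfl N57086 D196769
theorem N93743 : nd 93743 = n196770 := ndS (p := 57086) (l := 5) rfl N57086 D196770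
theorem N93744 : nd 93744 = n196771 := ndS (p := 57088) (l := 3) rfl N57088 D196771
theorem N93745 : nd 93745 = n196772 := ndS (p := 57088) (l := 6) rfl N57088 D196772
theorem N93746 : nd 93746 = n196773 := ndS (p := 57089) (l := 6) rfl N57089 D196773
theorem N93747 : nd 93747 = n196774 := ndS (p := 57090) (l := 5) rfl N57090 D196774
theorem N93748 : nd 93748 = n196776 := ndS (p := 57091) (l := 1) rfl N57091 D196776
theorem N93749 : nd 93749 = n196777 := ndS (p := 57091) (l := 4) rfl N57091 D196777
theorem N93750 : nd 93750 = n196778 := ndS (p := 57092) (l := 3) rfl N57092 D196778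
theorem N93751 : nd 93751 = n196779 := ndS (p := 57094) (l := 5) rfl N57094 D196779
theorem N93752 : nd 93752 = n196780 := ndS (p := 57095) (l := 6) rfl N57095 D196780
theorem N93753 : nd 93753 = n196781 := ndS (p := 57096) (l := 5) rfl N57096 D196781
theorem N93754 : nd 93754 = n196782 := ndS (p := 57097) (l := 4) rfl N57097 D196782
theorem N93755 : nd 93755 = n196783 := ndS (p := 57098) (l := 5) rfl N57098 D196783
theorem N93756 : nd 93756 = n196784 := ndS (p := 57098) (l := 6) rfl N57098 D196784
theorem N93757 : nd 93757 = n196786 := ndS (p := 57101) (l := 6) rfl N57101 D196786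
theorem N93758 : nd 93758 = n196787 := ndS (p := 57102) (l := 6) rfl N57102 D196787
theorem N93759 : nd 93759 = n196788 := ndS (p := 57103) (l := 0) rfl N57103 D196788
theorem N93760 : nd 93760 = n196789 := ndS (p := 57103) (l := 1) rfl N57103 D196789
theorem N93761 : nd 93761 = n196790 := ndS (p := 57103) (l := 5) rfl N57103 D196790
theorem N93762 : nd 93762 = n196791 := ndS (p := 57105) (l := 3) rfl N57105 D196791
theorem N93763 : nd 93763 = n196792 := ndS (p := 57105) (l := 6) rfl N57105 D196792
theorem N93764 : nd 93764 = n196793 := ndS (p := 57107) (l := 5) rfl N57107 D196793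
theorem N93765 : nd 93765 = n196794 := ndS (p := 57108) (l := 0) rfl N57108 D196794
theorem N93766 : nd 93766 = n196795 := ndS (p := 57108) (l := 4) rfl N57108 D196795
theorem N93767 : nd 93767 = n196796 := ndS (p := 57108) (l := 6) rfl N57108 D196796
theorem N93768 : nd 93768 = n196797 := ndS (p := 57108) (l := 7) rfl N57108 D196797
theorem N93769 : nd 93769 = n196798 := ndS (p := 57109) (l := 0) rfl N57109 D196798
theorem N93770 : nd 93770 = n196799 := ndS (p := 57109) (l := 1) rfl N57109 D196799
theorem N93771 : nd 93771 = n196800 := ndS (p := 57111) (l := 3) rfl N57111 D196800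
theorem N93772 : nd 93772 = n196801 := ndS (p := 57111) (l := 5) rfl N57111 D196801
theorem N93773 : nd 93773 = n196802 := ndS (p := 57114) (l := 0) rfl N57114 D196802
theorem N93774 : nd 93774 = n196803 := ndS (p := 57114) (l := 4) rfl N57114 D196803
theorem N93775 : nd 93775 = n196804 := ndS (p := 57114) (l := 7) rfl N57114 D196804
theorem N93776 : nd 93776 = n196805 := ndS (p := 57118) (l := 5) rfl N57118 D196805
theorem N93777 : nd 93777 = n196806 := ndS (p := 57118) (l := 6) rfl N57118 D196806
theorem N93778 : nd 93778 = n196807 := ndS (p := 57119) (l := 3) rfl N57119 D196807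
theorem N93779 : nd 93779 = n196808 := ndS (p := 57119) (l := 5) rfl N57119 D196808
theorem N93780 : nd 93780 = n196809 := ndS (p := 57119) (l := 6) rfl N57119 D196809
theorem N93781 : nd 93781 = n196810 := ndS (p := 57120) (l := 0) rfl N57120 D196810
theorem N93782 : nd 93782 = n196811 := ndS (p := 57120) (l := 6) rfl N57120 D196811
theorem N93783 : nd 93783 = n196812 := ndS (p := 57121) (l := 0) rfl N57121 D196812
theorem N93784 : nd 93784 = n196813 := ndS (p := 57121) (l := 1) rfl N57121 D196813
theorem N93785 : nd 93785 = n196814 := ndS (p := 57121) (l := 5) rfl N57121 D196814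
theorem N93786 : nd 93786 = n196815 := ndS (p := 57121) (l := 7) rfl N57121 D196815
theorem N93787 : nd 93787 = n196816 := ndS (p := 57123) (l := 4) rfl N57123 D196816
theorem N93788 : nd 93788 = n196817 := ndS (p := 57126) (l := 1) rfl N57126 D196817
theorem N93789 : nd 93789 = n196818 := ndS (p := 57126) (l := 5) rfl N57126 D196818
theorem N93790 : nd 93790 = n196819 := ndS (p := 57126) (l := 7) rfl N57126 D196819
theorem N93791 : nd 93791 = n196820 := ndS (p := 57127) (l := 5) rfl N57127 D196820
theorem N93792 : nd 93792 = n196822 := ndS (p := 57130) (l := 6) rfl N57130 D196822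
theorem N93793 : nd 93793 = n196823 := ndS (p := 57131) (l := 0) rfl N57131 D196823
theorem N93794 : nd 93794 = n196824 := ndS (p := 57131) (l := 1) rfl N57131 D196824
theorem N93795 : nd 93795 = n196825 := ndS (p := 57131) (l := 7) rfl N57131 D196825
theorem N93796 : nd 93796 = n196826 := ndS (p := 57132) (l := 6) rfl N57132 D196826
theorem N93797 : nd 93797 = n196827 := ndS (p := 57133) (l := 1) rfl N57133 D196827
theorem N93798 : nd 93798 = n196828 := ndS (p := 57133) (l := 3) rfl N57133 D196828
theorem N93799 : nd 93799 = n196829 := ndS (p := 57133) (l := 5) rfl N57133 D196829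
theorem N93800 : nd 93800 = n196830 := ndS (p := 57133) (l := 6) rfl N57133 D196830
theorem N93801 : nd 93801 = n196831 := ndS (p := 57134) (l := 0) rfl N57134 D196831
theorem N93802 : nd 93802 = n196832 := ndS (p := 57134) (l := 5) rfl N57134 D196832
theorem N93803 : nd 93803 = n196833 := ndS (p := 57134) (l := 7) rfl N57134 D196833
theorem N93804 : nd 93804 = n196834 := ndS (p := 57135) (l := 2) rfl N57135 D196834
theorem N93805 : nd 93805 = n196835 := ndS (p := 57135) (l := 6) rfl N57135 D196835
theorem N93806 : nd 93806 = n196836 := ndS (p := 57136) (l := 6) rfl N57136 D196836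
theorem N93807 : nd 93807 = n196837 := ndS (p := 57137) (l := 1) rfl N57137 D196837
theorem N93808 : nd 93808 = n196838 := ndS (p := 57137) (l := 7) rfl N57137 D196838
theorem N93809 : nd 93809 = n196839 := ndS (p := 57140) (l := 1) rfl N57140 D196839
theorem N93810 : nd 93810 = n196840 := ndS (p := 57140) (l := 7) rfl N57140 D196840
theorem N93811 : nd 93811 = n196841 := ndS (p := 57141) (l := 3) rfl N57141 D196841
theorem N93812 : nd 93812 = n196842 := ndS (p := 57142) (l := 3) rfl N57142 D196842
theorem N93813 : nd 93813 = n196843 := ndS (p := 57142) (l := 4) rfl N57142 D196843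
theorem N93814 : nd 93814 = n196844 := ndS (p := 57142) (l := 6) rfl N57142 D196844
theorem N93815 : nd 93815 = n196845 := ndS (p := 57144) (l := 5) rfl N57144 D196845
theorem N93816 : nd 93816 = n196846 := ndS (p := 57144) (l := 6) rfl N57144 D196846
theorem N93817 : nd 93817 = n196847 := ndS (p := 57145) (l := 4) rfl N57145 D196847
theorem N93818 : nd 93818 = n196848 := ndS (p := 57146) (l := 0) rfl N57146 D196848
theorem N93819 : nd 93819 = n196850 := ndS (p := 57146) (l := 4) rfl N57146 D196850
theorem N93820 : nd 93820 = n196851 := ndS (p := 57147) (l := 0) rfl N57147 D196851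
theorem N93821 : nd 93821 = n196852 := ndS (p := 57147) (l := 2) rfl N57147 D196852
theorem N93822 : nd 93822 = n196853 := ndS (p := 57147) (l := 5) rfl N57147 D196853
theorem N93823 : nd 93823 = n196854 := ndS (p := 57147) (l := 6) rfl N57147 D196854
theorem N93824 : nd 93824 = n196855 := ndS (p := 57148) (l := 1) rfl N57148 D196855
theorem N93825 : nd 93825 = n196856 := ndS (p := 57148) (l := 4) rfl N57148 D196856
theorem N93826 : nd 93826 = n196857 := ndS (p := 57148) (l := 6) rfl N57148 D196857
theorem N93827 : nd 93827 = n196858 := ndS (p := 57150) (l := 4) rfl N57150 D196858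
theorem N93828 : nd 93828 = n196859 := ndS (p := 57150) (l := 6) rfl N57150 D196859
theorem N93829 : nd 93829 = n196860 := ndS (p := 57152) (l := 5) rfl N57152 D196860
theorem N93830 : nd 93830 = n196861 := ndS (p := 57152) (l := 6) rfl N57152 D196861
theorem N93831 : nd 93831 = n196862 := ndS (p := 57153) (l := 0) rfl N57153 D196862
theorem N93832 : nd 93832 = n196863 := ndS (p := 57153) (l := 1) rfl N57153 D196863
theorem N93833 : nd 93833 = n196864 := ndS (p := 57153) (l := 4) rfl N57153 D196864
theorem N93834 : nd 93834 = n196865 := ndS (p := 57153) (l := 6) rfl N57153 D196865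
theorem N93835 : nd 93835 = n196866 := ndS (p := 57155) (l := 4) rfl N57155 D196866
theorem N93836 : nd 93836 = n196867 := ndS (p := 57155) (l := 6) rfl N57155 D196867
theorem N93837 : nd 93837 = n196868 := ndS (p := 57156) (l := 4) rfl N57156 D196868
theorem N93838 : nd 93838 = n196869 := ndS (p := 57156) (l := 6) rfl N57156 D196869
theorem N93839 : nd 93839 = n196870 := ndS (p := 57158) (l := 3) rfl N57158 D196870
theorem N93840 : nd 93840 = n196871 := ndS (p := 57158) (l := 6) rfl N57158 D196871
theorem N93841 : nd 93841 = n196872 := ndS (p := 57159) (l := 3) rfl N57159 D196872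
theorem N93842 : nd 93842 = n196873 := ndS (p := 57159) (l := 6) rfl N57159 D196873
theorem N93843 : nd 93843 = n196874 := ndS (p := 57160) (l := 0) rfl N57160 D196874
theorem N93844 : nd 93844 = n196875 := ndS (p := 57160) (l := 3) rfl N57160 D196875
theorem N93845 : nd 93845 = n196876 := ndS (p := 57161) (l := 6) rfl N57161 D196876
theorem N93846 : nd 93846 = n196877 := ndS (p := 57162) (l := 0) rfl N57162 D196877
theorem N93847 : nd 93847 = n196878 := ndS (p := 57163) (l := 5) rfl N57163 D196878
theorem N93848 : nd 93848 = n196879 := ndS (p := 57164) (l := 4) rfl N57164 D196879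
theorem N93849 : nd 93849 = n196880 := ndS (p := 57167) (l := 3) rfl N57167 D196880
theorem N93850 : nd 93850 = n196881 := ndS (p := 57167) (l := 6) rfl N57167 D196881
theorem N93851 : nd 93851 = n196882 := ndS (p := 57168) (l := 4) rfl N57168 D196882
theorem N93852 : nd 93852 = n196883 := ndS (p := 57171) (l := 4) rfl N57171 D196883
theorem N93853 : nd 93853 = n196884 := ndS (p := 57171) (l := 6) rfl N57171 D196884
theorem N93854 : nd 93854 = n196885 := ndS (p := 57172) (l := 5) rfl N57172 D196885
theorem N93855 : nd 93855 = n196886 := ndS (p := 57174) (l := 4) rfl N57174 D196886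
theorem N93856 : nd 93856 = n196887 := ndS (p := 57174) (l := 6) rfl N57174 D196887
theorem N93857 : nd 93857 = n196888 := ndS (p := 57175) (l := 4) rfl N57175 D196888
theorem N93858 : nd 93858 = n196889 := ndS (p := 57176) (l := 6) rfl N57176 D196889
theorem N93859 : nd 93859 = n196890 := ndS (p := 57177) (l := 0) rfl N57177 D196890
theorem N93860 : nd 93860 = n196891 := ndS (p := 57177) (l := 1) rfl N57177 D196891
theorem N93861 : nd 93861 = n196892 := ndS (p := 57177) (l := 5) rfl N57177 D196892
theorem N93862 : nd 93862 = n196893 := ndS (p := 57177) (l := 7) rfl N57177 D196893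
theorem N93863 : nd 93863 = n196894 := ndS (p := 57178) (l := 3) rfl N57178 D196894
theorem N93864 : nd 93864 = n196895 := ndS (p := 57178) (l := 5) rfl N57178 D196895
theorem N93865 : nd 93865 = n196896 := ndS (p := 57179) (l := 3) rfl N57179 D196896
theorem N93866 : nd 93866 = n196897 := ndS (p := 57179) (l := 5) rfl N57179 D196897
theorem N93867 : nd 93867 = n196898 := ndS (p := 57180) (l := 4) rfl N57180 D196898
theorem N93868 : nd 93868 = n196899 := ndS (p := 57182) (l := 4) rfl N57182 D196899
theorem N93869 : nd 93869 = n196900 := ndS (p := 57185) (l := 4) rfl N57185 D196900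
theorem N93870 : nd 93870 = n196901 := ndS (p := 57185) (l := 6) rfl N57185 D196901
theorem N93871 : nd 93871 = n196902 := ndS (p := 57186) (l := 4) rfl N57186 D196902
theorem N93872 : nd 93872 = n196903 := ndS (p := 57186) (l := 6) rfl N57186 D196903
theorem N93873 : nd 93873 = n196904 := ndS (p := 57187) (l := 6) rfl N57187 D196904
theorem N93874 : nd 93874 = n196905 := ndS (p := 57188) (l := 0) rfl N57188 D196905
theorem N93875 : nd 93875 = n196906 := ndS (p := 57188) (l := 1) rfl N57188 D196906
theorem N93876 : nd 93876 = n196907 := ndS (p := 57188) (l := 5) rfl N57188 D196907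
theorem N93877 : nd 93877 = n196908 := ndS (p := 57188) (l := 7) rfl N57188 D196908
theorem N93878 : nd 93878 = n196909 := ndS (p := 57189) (l := 3) rfl N57189 D196909
theorem N93879 : nd 93879 = n196910 := ndS (p := 57189) (l := 5) rfl N57189 D196910
theorem N93880 : nd 93880 = n196911 := ndS (p := 57190) (l := 0) rfl N57190 D196911
theorem N93881 : nd 93881 = n196912 := ndS (p := 57190) (l := 4) rfl N57190 D196912
theorem N93882 : nd 93882 = n196913 := ndS (p := 57190) (l := 7) rfl N57190 D196913
theorem N93883 : nd 93883 = n196914 := ndS (p := 57192) (l := 1) rfl N57192 D196914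
theorem N93884 : nd 93884 = n196915 := ndS (p := 57192) (l := 6) rfl N57192 D196915
theorem N93885 : nd 93885 = n196916 := ndS (p := 57193) (l := 0) rfl N57193 D196916
theorem N93886 : nd 93886 = n196917 := ndS (p := 57193) (l := 5) rfl N57193 D196917
theorem N93887 : nd 93887 = n196918 := ndS (p := 57194) (l := 2) rfl N57194 D196918
theorem N93888 : nd 93888 = n196919 := ndS (p := 57194) (l := 6) rfl N57194 D196919
theorem N93889 : nd 93889 = n196920 := ndS (p := 57195) (l := 1) rfl N57195 D196920
theorem N93890 : nd 93890 = n196921 := ndS (p := 57195) (l := 5) rfl N57195 D196921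
theorem N93891 : nd 93891 = n196922 := ndS (p := 57195) (l := 7) rfl N57195 D196922
theorem N93892 : nd 93892 = n196923 := ndS (p := 57196) (l := 3) rfl N57196 D196923
theorem N93893 : nd 93893 = n196924 := ndS (p := 57196) (l := 5) rfl N57196 D196924
theorem N93894 : nd 93894 = n196925 := ndS (p := 57197) (l := 5) rfl N57197 D196925
theorem N93895 : nd 93895 = n196926 := ndS (p := 57199) (l := 3) rfl N57199 D196926
theorem N93896 : nd 93896 = n196927 := ndS (p := 57199) (l := 6) rfl N57199 D196927
theorem N93897 : nd 93897 = n196928 := ndS (p := 57204) (l := 2) rfl N57204 D196928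
theorem N93898 : nd 93898 = n196929 := ndS (p := 57204) (l := 5) rfl N57204 D196929
theorem N93899 : nd 93899 = n196930 := ndS (p := 57204) (l := 6) rfl N57204 D196930
theorem N93900 : nd 93900 = n196931 := ndS (p := 57205) (l := 6) rfl N57205 D196931
theorem N93901 : nd 93901 = n196932 := ndS (p := 57209) (l := 0) rfl N57209 D196932
theorem N93902 : nd 93902 = n196933 := ndS (p := 57209) (l := 1) rfl N57209 D196933
theorem N93903 : nd 93903 = n196934 := ndS (p := 57209) (l := 5) rfl N57209 D196934
theorem N93904 : nd 93904 = n196935 := ndS (p := 57210) (l := 3) rfl N57210 D196935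
theorem N93905 : nd 93905 = n196937 := ndS (p := 57210) (l := 6) rfl N57210 D196937
theorem N93906 : nd 93906 = n196938 := ndS (p := 57213) (l := 5) rfl N57213 D196938
theorem N93907 : nd 93907 = n196939 := ndS (p := 57213) (l := 6) rfl N57213 D196939
theorem N93908 : nd 93908 = n196940 := ndS (p := 57214) (l := 3) rfl N57214 D196940
theorem N93909 : nd 93909 = n196941 := ndS (p := 57214) (l := 5) rfl N57214 D196941
theorem N93910 : nd 93910 = n196942 := ndS (p := 57214) (l := 6) rfl N57214 D196942
theorem N93911 : nd 93911 = n196943 := ndS (p := 57217) (l := 3) rfl N57217 D196943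
theorem N93912 : nd 93912 = n196944 := ndS (p := 57217) (l := 5) rfl N57217 D196944
theorem N93913 : nd 93913 = n196945 := ndS (p := 57218) (l := 4) rfl N57218 D196945
theorem N93914 : nd 93914 = n196946 := ndS (p := 57221) (l := 1) rfl N57221 D196946
theorem N93915 : nd 93915 = n196947 := ndS (p := 57221) (l := 6) rfl N57221 D196947
theorem N93916 : nd 93916 = n196948 := ndS (p := 57222) (l := 3) rfl N57222 D196948
theorem N93917 : nd 93917 = n196949 := ndS (p := 57222) (l := 5) rfl N57222 D196949
theorem N93918 : nd 93918 = n196950 := ndS (p := 57222) (l := 6) rfl N57222 D196950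
theorem N93919 : nd 93919 = n196951 := ndS (p := 57223) (l := 0) rfl N57223 D196951
theorem N93920 : nd 93920 = n196953 := ndS (p := 57223) (l := 5) rfl N57223 D196953
theorem N93921 : nd 93921 = n196954 := ndS (p := 57223) (l := 7) rfl N57223 D196954
theorem N93922 : nd 93922 = n196955 := ndS (p := 57224) (l := 2) rfl N57224 D196955
theorem N93923 : nd 93923 = n196956 := ndS (p := 57224) (l := 4) rfl N57224 D196956
theorem N93924 : nd 93924 = n196957 := ndS (p := 57224) (l := 6) rfl N57224 D196957
theorem N93925 : nd 93925 = n196958 := ndS (p := 57225) (l := 5) rfl N57225 D196958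
theorem N93926 : nd 93926 = n196959 := ndS (p := 57225) (l := 6) rfl N57225 D196959
theorem N93927 : nd 93927 = n196961 := ndS (p := 57226) (l := 1) rfl N57226 D196961
theorem N93928 : nd 93928 = n196962 := ndS (p := 57226) (l := 5) rfl N57226 D196962
theorem N93929 : nd 93929 = n196963 := ndS (p := 57226) (l := 7) rfl N57226 D196963
theorem N93930 : nd 93930 = n196964 := ndS (p := 57227) (l := 0) rfl N57227 D196964
theorem N93931 : nd 93931 = n196965 := ndS (p := 57227) (l := 1) rfl N57227 D196965
theorem N93932 : nd 93932 = n196966 := ndS (p := 57227) (l := 5) rfl N57227 D196966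
theorem N93933 : nd 93933 = n196968 := ndS (p := 57228) (l := 3) rfl N57228 D196968
theorem N93934 : nd 93934 = n196969 := ndS (p := 57228) (l := 4) rfl N57228 D196969
theorem N93935 : nd 93935 = n196970 := ndS (p := 57228) (l := 5) rfl N57228 D196970
theorem N93936 : nd 93936 = n196971 := ndS (p := 57228) (l := 6) rfl N57228 D196971
theorem N93937 : nd 93937 = n196972 := ndS (p := 57229) (l := 3) rfl N57229 D196972
theorem N93938 : nd 93938 = n196973 := ndS (p := 57229) (l := 4) rfl N57229 D196973
theorem N93939 : nd 93939 = n196974 := ndS (p := 57229) (l := 5) rfl N57229 D196974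
theorem N93940 : nd 93940 = n196975 := ndS (p := 57230) (l := 0) rfl N57230 D196975
theorem N93941 : nd 93941 = n196976 := ndS (p := 57230) (l := 1) rfl N57230 D196976
theorem N93942 : nd 93942 = n196977 := ndS (p := 57230) (l := 7) rfl N57230 D196977
theorem N93943 : nd 93943 = n196978 := ndS (p := 57232) (l := 3) rfl N57232 D196978
theorem N93944 : nd 93944 = n196979 := ndS (p := 57232) (l := 6) rfl N57232 D196979
theorem N93945 : nd 93945 = n196980 := ndS (p := 57233) (l := 0) rfl N57233 D196980
theorem N93946 : nd 93946 = n196981 := ndS (p := 57233) (l := 1) rfl N57233 D196981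
theorem N93947 : nd 93947 = n196982 := ndS (p := 57233) (l := 5) rfl N57233 D196982
theorem N93948 : nd 93948 = n196983 := ndS (p := 57233) (l := 7) rfl N57233 D196983
theorem N93949 : nd 93949 = n196984 := ndS (p := 57234) (l := 6) rfl N57234 D196984
theorem N93950 : nd 93950 = n196985 := ndS (p := 57237) (l := 0) rfl N57237 D196985
theorem N93951 : nd 93951 = n196986 := ndS (p := 57238) (l := 0) rfl N57238 D196986
theorem N93952 : nd 93952 = n196987 := ndS (p := 57238) (l := 2) rfl N57238 D196987
theorem N93953 : nd 93953 = n196988 := ndS (p := 57238) (l := 5) rfl N57238 D196988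
theorem N93954 : nd 93954 = n196989 := ndS (p := 57238) (l := 6) rfl N57238 D196989
theorem N93955 : nd 93955 = n196990 := ndS (p := 57239) (l := 1) rfl N57239 D196990
theorem N93956 : nd 93956 = n196991 := ndS (p := 57239) (l := 4) rfl N57239 D196991
theorem N93957 : nd 93957 = n196992 := ndS (p := 57241) (l := 5) rfl N57241 D196992
theorem N93958 : nd 93958 = n196993 := ndS (p := 57242) (l := 2) rfl N57242 D196993
theorem N93959 : nd 93959 = n196994 := ndS (p := 57242) (l := 5) rfl N57242 D196994
theorem N93960 : nd 93960 = n196995 := ndS (p := 57243) (l := 4) rfl N57243 D196995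
theorem N93961 : nd 93961 = n196996 := ndS (p := 57243) (l := 6) rfl N57243 D196996
theorem N93962 : nd 93962 = n196997 := ndS (p := 57244) (l := 5) rfl N57244 D196997
theorem N93963 : nd 93963 = n196998 := ndS (p := 57245) (l := 3) rfl N57245 D196998
theorem N93964 : nd 93964 = n196999 := ndS (p := 57245) (l := 5) rfl N57245 D196999
theorem N93965 : nd 93965 = n197000 := ndS (p := 57246) (l := 4) rfl N57246 D197000
theorem N93966 : nd 93966 = n197001 := ndS (p := 57248) (l := 3) rfl N57248 D197001
theorem N93967 : nd 93967 = n197002 := ndS (p := 57248) (l := 5) rfl N57248 D197002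
theorem N93968 : nd 93968 = n197003 := ndS (p := 57249) (l := 7) rfl N57249 D197003
theorem N93969 : nd 93969 = n197004 := ndS (p := 57250) (l := 4) rfl N57250 D197004
theorem N93970 : nd 93970 = n197005 := ndS (p := 57250) (l := 6) rfl N57250 D197005
theorem N93971 : nd 93971 = n197006 := ndS (p := 57250) (l := 7) rfl N57250 D197006
theorem N93972 : nd 93972 = n197007 := ndS (p := 57252) (l := 3) rfl N57252 D197007
theorem N93973 : nd 93973 = n197008 := ndS (p := 57252) (l := 4) rfl N57252 D197008
theorem N93974 : nd 93974 = n197009 := ndS (p := 57252) (l := 6) rfl N57252 D197009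
theorem N93975 : nd 93975 = n197010 := ndS (p := 57253) (l := 3) rfl N57253 D197010
theorem N93976 : nd 93976 = n197011 := ndS (p := 57254) (l := 5) rfl N57254 D197011
theorem N93977 : nd 93977 = n197012 := ndS (p := 57256) (l := 0) rfl N57256 D197012
theorem N93978 : nd 93978 = n197013 := ndS (p := 57256) (l := 1) rfl N57256 D197013
theorem N93979 : nd 93979 = n197014 := ndS (p := 57256) (l := 7) rfl N57256 D197014
theorem N93980 : nd 93980 = n197015 := ndS (p := 57258) (l := 3) rfl N57258 D197015
theorem N93981 : nd 93981 = n197016 := ndS (p := 57258) (l := 5) rfl N57258 D197016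
theorem N93982 : nd 93982 = n197017 := ndS (p := 57258) (l := 6) rfl N57258 D197017
theorem N93983 : nd 93983 = n197018 := ndS (p := 57259) (l := 0) rfl N57259 D197018
theorem N93984 : nd 93984 = n197019 := ndS (p := 57259) (l := 1) rfl N57259 D197019
theorem N93985 : nd 93985 = n197020 := ndS (p := 57259) (l := 7) rfl N57259 D197020
theorem N93986 : nd 93986 = n197021 := ndS (p := 57260) (l := 6) rfl N57260 D197021
theorem N93987 : nd 93987 = n197022 := ndS (p := 57261) (l := 7) rfl N57261 D197022
theorem N93988 : nd 93988 = n197023 := ndS (p := 57262) (l := 4) rfl N57262 D197023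
theorem N93989 : nd 93989 = n197024 := ndS (p := 57264) (l := 3) rfl N57264 D197024
theorem N93990 : nd 93990 = n197025 := ndS (p := 57264) (l := 5) rfl N57264 D197025
theorem N93991 : nd 93991 = n197026 := ndS (p := 57264) (l := 6) rfl N57264 D197026
theorem N93992 : nd 93992 = n197027 := ndS (p := 57265) (l := 0) rfl N57265 D197027
theorem N93993 : nd 93993 = n197028 := ndS (p := 57265) (l := 7) rfl N57265 D197028
theorem N93994 : nd 93994 = n197029 := ndS (p := 57266) (l := 5) rfl N57266 D197029
theorem N93995 : nd 93995 = n197030 := ndS (p := 57266) (l := 6) rfl N57266 D197030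
theorem N93996 : nd 93996 = n197031 := ndS (p := 57267) (l := 1) rfl N57267 D197031
theorem N93997 : nd 93997 = n197032 := ndS (p := 57267) (l := 7) rfl N57267 D197032
theorem N93998 : nd 93998 = n197033 := ndS (p := 57270) (l := 3) rfl N57270 D197033
theorem N93999 : nd 93999 = n197034 := ndS (p := 57270) (l := 6) rfl N57270 D197034
theorem N94000 : nd 94000 = n197035 := ndS (p := 57271) (l := 5) rfl N57271 D197035
theorem N94001 : nd 94001 = n197036 := ndS (p := 57271) (l := 7) rfl N57271 D197036
theorem N94002 : nd 94002 = n197037 := ndS (p := 57272) (l := 5) rfl N57272 D197037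
theorem N94003 : nd 94003 = n197038 := ndS (p := 57273) (l := 5) rfl N57273 D197038
theorem N94004 : nd 94004 = n197039 := ndS (p := 57274) (l := 0) rfl N57274 D197039
theorem N94005 : nd 94005 = n197040 := ndS (p := 57274) (l := 1) rfl N57274 D197040
theorem N94006 : nd 94006 = n197041 := ndS (p := 57274) (l := 7) rfl N57274 D197041
theorem N94007 : nd 94007 = n197042 := ndS (p := 57277) (l := 3) rfl N57277 D197042
theorem N94008 : nd 94008 = n197043 := ndS (p := 57277) (l := 6) rfl N57277 D197043
theorem N94009 : nd 94009 = n197044 := ndS (p := 57278) (l := 1) rfl N57278 D197044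
theorem N94010 : nd 94010 = n197045 := ndS (p := 57279) (l := 3) rfl N57279 D197045
theorem N94011 : nd 94011 = n197046 := ndS (p := 57279) (l := 6) rfl N57279 D197046
theorem N94012 : nd 94012 = n197047 := ndS (p := 57280) (l := 3) rfl N57280 D197047
theorem N94013 : nd 94013 = n197048 := ndS (p := 57280) (l := 6) rfl N57280 D197048
theorem N94014 : nd 94014 = n197049 := ndS (p := 57281) (l := 2) rfl N57281 D197049
theorem N94015 : nd 94015 = n197050 := ndS (p := 57281) (l := 4) rfl N57281 D197050
theorem N94016 : nd 94016 = n197051 := ndS (p := 57281) (l := 6) rfl N57281 D197051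
theorem N94017 : nd 94017 = n197052 := ndS (p := 57282) (l := 1) rfl N57282 D197052
theorem N94018 : nd 94018 = n197053 := ndS (p := 57282) (l := 7) rfl N57282 D197053
theorem N94019 : nd 94019 = n197054 := ndS (p := 57283) (l := 4) rfl N57283 D197054
theorem N94020 : nd 94020 = n197055 := ndS (p := 57283) (l := 6) rfl N57283 D197055
theorem N94021 : nd 94021 = n197056 := ndS (p := 57284) (l := 7) rfl N57284 D197056
theorem N94022 : nd 94022 = n197057 := ndS (p := 57286) (l := 5) rfl N57286 D197057
theorem N94023 : nd 94023 = n197058 := ndS (p := 57286) (l := 6) rfl N57286 D197058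
theorem N94024 : nd 94024 = n197059 := ndS (p := 57287) (l := 0) rfl N57287 D197059
theorem N94025 : nd 94025 = n197060 := ndS (p := 57287) (l := 1) rfl N57287 D197060
theorem N94026 : nd 94026 = n197061 := ndS (p := 57287) (l := 2) rfl N57287 D197061
theorem N94027 : nd 94027 = n197062 := ndS (p := 57287) (l := 6) rfl N57287 D197062
theorem N94028 : nd 94028 = n197063 := ndS (p := 57290) (l := 1) rfl N57290 D197063
theorem N94029 : nd 94029 = n197064 := ndS (p := 57290) (l := 5) rfl N57290 D197064
theorem N94030 : nd 94030 = n197065 := ndS (p := 57292) (l := 5) rfl N57292 D197065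
theorem N94031 : nd 94031 = n197066 := ndS (p := 57294) (l := 3) rfl N57294 D197066
theorem N94032 : nd 94032 = n197067 := ndS (p := 57294) (l := 6) rfl N57294 D197067
theorem N94033 : nd 94033 = n197068 := ndS (p := 57296) (l := 1) rfl N57296 D197068
theorem N94034 : nd 94034 = n197069 := ndS (p := 57296) (l := 6) rfl N57296 D197069
theorem N94035 : nd 94035 = n197070 := ndS (p := 57297) (l := 6) rfl N57297 D197070
theorem N94036 : nd 94036 = n197071 := ndS (p := 57298) (l := 3) rfl N57298 D197071
theorem N94037 : nd 94037 = n197072 := ndS (p := 57298) (l := 6) rfl N57298 D197072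
theorem N94038 : nd 94038 = n197073 := ndS (p := 57304) (l := 7) rfl N57304 D197073
theorem N94039 : nd 94039 = n197074 := ndS (p := 57305) (l := 6) rfl N57305 D197074
theorem N94040 : nd 94040 = n197075 := ndS (p := 57307) (l := 5) rfl N57307 D197075
theorem N94041 : nd 94041 = n197076 := ndS (p := 57310) (l := 7) rfl N57310 D197076
theorem N94042 : nd 94042 = n197077 := ndS (p := 57314) (l := 6) rfl N57314 D197077
theorem N94043 : nd 94043 = n197078 := ndS (p := 57315) (l := 1) rfl N57315 D197078
theorem N94044 : nd 94044 = n197079 := ndS (p := 57321) (l := 6) rfl N57321 D197079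
theorem N94045 : nd 94045 = n197080 := ndS (p := 57323) (l := 6) rfl N57323 D197080
theorem N94046 : nd 94046 = n197081 := ndS (p := 57324) (l := 5) rfl N57324 D197081
theorem N94047 : nd 94047 = n197082 := ndS (p := 57325) (l := 6) rfl N57325 D197082
theorem N94048 : nd 94048 = n197083 := ndS (p := 57328) (l := 6) rfl N57328 D197083
theorem N94049 : nd 94049 = n197084 := ndS (p := 57329) (l := 1) rfl N57329 D197084
theorem N94050 : nd 94050 = n197085 := ndS (p := 57329) (l := 7) rfl N57329 D197085
theorem N94051 : nd 94051 = n197086 := ndS (p := 57330) (l := 4) rfl N57330 D197086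
theorem N94052 : nd 94052 = n197087 := ndS (p := 57333) (l := 0) rfl N57333 D197087
theorem N94053 : nd 94053 = n197088 := ndS (p := 57333) (l := 2) rfl N57333 D197088
theorem N94054 : nd 94054 = n197089 := ndS (p := 57333) (l := 5) rfl N57333 D197089
theorem N94055 : nd 94055 = n197090 := ndS (p := 57333) (l := 6) rfl N57333 D197090
theorem N94056 : nd 94056 = n197091 := ndS (p := 57334) (l := 6) rfl N57334 D197091
theorem N94057 : nd 94057 = n197092 := ndS (p := 57338) (l := 3) rfl N57338 D197092
theorem N94058 : nd 94058 = n197093 := ndS (p := 57338) (l := 5) rfl N57338 D197093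
theorem N94059 : nd 94059 = n197094 := ndS (p := 57338) (l := 6) rfl N57338 D197094
theorem N94060 : nd 94060 = n197095 := ndS (p := 57340) (l := 0) rfl N57340 D197095
theorem N94061 : nd 94061 = n197096 := ndS (p := 57340) (l := 1) rfl N57340 D197096
theorem N94062 : nd 94062 = n197097 := ndS (p := 57341) (l := 3) rfl N57341 D197097
theorem N94063 : nd 94063 = n197098 := ndS (p := 57341) (l := 6) rfl N57341 D197098
theorem N94064 : nd 94064 = n197099 := ndS (p := 57342) (l := 3) rfl N57342 D197099
theorem N94065 : nd 94065 = n197100 := ndS (p := 57343) (l := 6) rfl N57343 D197100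
theorem N94066 : nd 94066 = n197101 := ndS (p := 57345) (l := 3) rfl N57345 D197101
theorem N94067 : nd 94067 = n197102 := ndS (p := 57346) (l := 6) rfl N57346 D197102
theorem N94068 : nd 94068 = n197103 := ndS (p := 57347) (l := 5) rfl N57347 D197103
theorem N94069 : nd 94069 = n197104 := ndS (p := 57350) (l := 6) rfl N57350 D197104
theorem N94070 : nd 94070 = n197105 := ndS (p := 57351) (l := 1) rfl N57351 D197105
theorem N94071 : nd 94071 = n197106 := ndS (p := 57351) (l := 5) rfl N57351 D197106
theorem N94072 : nd 94072 = n197107 := ndS (p := 57351) (l := 7) rfl N57351 D197107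
theorem N94073 : nd 94073 = n197108 := ndS (p := 57354) (l := 1) rfl N57354 D197108
theorem N94074 : nd 94074 = n197109 := ndS (p := 57354) (l := 7) rfl N57354 D197109
theorem N94075 : nd 94075 = n197110 := ndS (p := 57357) (l := 6) rfl N57357 D197110
theorem N94076 : nd 94076 = n197111 := ndS (p := 57359) (l := 0) rfl N57359 D197111
theorem N94077 : nd 94077 = n197112 := ndS (p := 57359) (l := 1) rfl N57359 D197112
theorem N94078 : nd 94078 = n197113 := ndS (p := 57359) (l := 2) rfl N57359 D197113
theorem N94079 : nd 94079 = n197114 := ndS (p := 57359) (l := 6) rfl N57359 D197114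
theorem N94080 : nd 94080 = n197115 := ndS (p := 57362) (l := 3) rfl N57362 D197115
theorem N94081 : nd 94081 = n197116 := ndS (p := 57363) (l := 5) rfl N57363 D197116
theorem N94082 : nd 94082 = n197117 := ndS (p := 57363) (l := 6) rfl N57363 D197117
theorem N94083 : nd 94083 = n197118 := ndS (p := 57364) (l := 0) rfl N57364 D197118
theorem N94084 : nd 94084 = n197119 := ndS (p := 57364) (l := 4) rfl N57364 D197119
theorem N94085 : nd 94085 = n197120 := ndS (p := 57364) (l := 6) rfl N57364 D197120
theorem N94086 : nd 94086 = n197121 := ndS (p := 57365) (l := 1) rfl N57365 D197121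
theorem N94087 : nd 94087 = n197122 := ndS (p := 57365) (l := 5) rfl N57365 D197122
theorem N94088 : nd 94088 = n197123 := ndS (p := 57365) (l := 7) rfl N57365 D197123
theorem N94089 : nd 94089 = n197124 := ndS (p := 57366) (l := 3) rfl N57366 D197124
theorem N94090 : nd 94090 = n197125 := ndS (p := 57367) (l := 6) rfl N57367 D197125
theorem N94091 : nd 94091 = n197126 := ndS (p := 57368) (l := 0) rfl N57368 D197126
theorem N94092 : nd 94092 = n197127 := ndS (p := 57369) (l := 3) rfl N57369 D197127
theorem N94093 : nd 94093 = n197128 := ndS (p := 57371) (l := 7) rfl N57371 D197128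
theorem N94094 : nd 94094 = n197129 := ndS (p := 57373) (l := 3) rfl N57373 D197129
theorem N94095 : nd 94095 = n197130 := ndS (p := 57381) (l := 5) rfl N57381 D197130
theorem N94096 : nd 94096 = n197131 := ndS (p := 57382) (l := 5) rfl N57382 D197131
theorem N94097 : nd 94097 = n197132 := ndS (p := 57383) (l := 5) rfl N57383 D197132
theorem N94098 : nd 94098 = n197133 := ndS (p := 57384) (l := 4) rfl N57384 D197133
theorem N94099 : nd 94099 = n197134 := ndS (p := 57387) (l := 5) rfl N57387 D197134
theorem N94100 : nd 94100 = n197135 := ndS (p := 57393) (l := 3) rfl N57393 D197135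
theorem N94101 : nd 94101 = n197136 := ndS (p := 57397) (l := 1) rfl N57397 D197136
theorem N94102 : nd 94102 = n197137 := ndS (p := 57397) (l := 5) rfl N57397 D197137
theorem N94103 : nd 94103 = n197138 := ndS (p := 57398) (l := 4) rfl N57398 D197138
theorem N94104 : nd 94104 = n197139 := ndS (p := 57399) (l := 4) rfl N57399 D197139
theorem N94105 : nd 94105 = n197140 := ndS (p := 57401) (l := 7) rfl N57401 D197140
theorem N94106 : nd 94106 = n197141 := ndS (p := 57402) (l := 4) rfl N57402 D197141
theorem N94107 : nd 94107 = n197142 := ndS (p := 57403) (l := 3) rfl N57403 D197142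
theorem N94108 : nd 94108 = n197143 := ndS (p := 57405) (l := 1) rfl N57405 D197143
theorem N94109 : nd 94109 = n197144 := ndS (p := 57406) (l := 3) rfl N57406 D197144
theorem N94110 : nd 94110 = n197145 := ndS (p := 57408) (l := 3) rfl N57408 D197145
theorem N94111 : nd 94111 = n197146 := ndS (p := 57408) (l := 5) rfl N57408 D197146
theorem N94112 : nd 94112 = n197147 := ndS (p := 57408) (l := 6) rfl N57408 D197147
theorem N94113 : nd 94113 = n197148 := ndS (p := 57411) (l := 4) rfl N57411 D197148
theorem N94114 : nd 94114 = n197149 := ndS (p := 57412) (l := 5) rfl N57412 D197149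
theorem N94115 : nd 94115 = n197150 := ndS (p := 57413) (l := 3) rfl N57413 D197150
theorem N94116 : nd 94116 = n197151 := ndS (p := 57413) (l := 5) rfl N57413 D197151
theorem N94117 : nd 94117 = n197152 := ndS (p := 57414) (l := 4) rfl N57414 D197152
theorem N94118 : nd 94118 = n197153 := ndS (p := 57416) (l := 3) rfl N57416 D197153
theorem N94119 : nd 94119 = n197154 := ndS (p := 57416) (l := 5) rfl N57416 D197154
theorem N94120 : nd 94120 = n197155 := ndS (p := 57417) (l := 5) rfl N57417 D197155
theorem N94121 : nd 94121 = n197156 := ndS (p := 57419) (l := 2) rfl N57419 D197156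
theorem N94122 : nd 94122 = n197157 := ndS (p := 57423) (l := 0) rfl N57423 D197157
theorem N94123 : nd 94123 = n197158 := ndS (p := 57423) (l := 4) rfl N57423 D197158
theorem N94124 : nd 94124 = n197159 := ndS (p := 57426) (l := 6) rfl N57426 D197159
theorem N94125 : nd 94125 = n197160 := ndS (p := 57427) (l := 4) rfl N57427 D197160
theorem N94126 : nd 94126 = n197161 := ndS (p := 57427) (l := 6) rfl N57427 D197161
theorem N94127 : nd 94127 = n197162 := ndS (p := 57433) (l := 6) rfl N57433 D197162
theorem N94128 : nd 94128 = n197163 := ndS (p := 57434) (l := 3) rfl N57434 D197163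
theorem N94129 : nd 94129 = n197164 := ndS (p := 57435) (l := 1) rfl N57435 D197164
theorem N94130 : nd 94130 = n197165 := ndS (p := 57435) (l := 5) rfl N57435 D197165
theorem N94131 : nd 94131 = n197166 := ndS (p := 57435) (l := 7) rfl N57435 D197166
theorem N94132 : nd 94132 = n197167 := ndS (p := 57436) (l := 6) rfl N57436 D197167
theorem N94133 : nd 94133 = n197168 := ndS (p := 57438) (l := 5) rfl N57438 D197168
theorem N94134 : nd 94134 = n197169 := ndS (p := 57441) (l := 6) rfl N57441 D197169
theorem N94135 : nd 94135 = n197170 := ndS (p := 57442) (l := 1) rfl N57442 D197170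
theorem N94136 : nd 94136 = n197171 := ndS (p := 57442) (l := 5) rfl N57442 D197171
theorem N94137 : nd 94137 = n197172 := ndS (p := 57445) (l := 3) rfl N57445 D197172
theorem N94138 : nd 94138 = n197173 := ndS (p := 57445) (l := 6) rfl N57445 D197173
theorem N94139 : nd 94139 = n197174 := ndS (p := 57446) (l := 0) rfl N57446 D197174
theorem N94140 : nd 94140 = n197175 := ndS (p := 57446) (l := 1) rfl N57446 D197175
theorem N94141 : nd 94141 = n197176 := ndS (p := 57446) (l := 5) rfl N57446 D197176
theorem N94142 : nd 94142 = n197177 := ndS (p := 57446) (l := 7) rfl N57446 D197177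
theorem N94143 : nd 94143 = n197178 := ndS (p := 57449) (l := 2) rfl N57449 D197178
theorem N94144 : nd 94144 = n197179 := ndS (p := 57449) (l := 5) rfl N57449 D197179
theorem N94145 : nd 94145 = n197180 := ndS (p := 57449) (l := 6) rfl N57449 D197180
theorem N94146 : nd 94146 = n197181 := ndS (p := 57450) (l := 6) rfl N57450 D197181
theorem N94147 : nd 94147 = n197182 := ndS (p := 57451) (l := 5) rfl N57451 D197182
theorem N94148 : nd 94148 = n197183 := ndS (p := 57452) (l := 4) rfl N57452 D197183
theorem N94149 : nd 94149 = n197184 := ndS (p := 57455) (l := 6) rfl N57455 D197184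
theorem N94150 : nd 94150 = n197185 := ndS (p := 57460) (l := 6) rfl N57460 D197185
theorem N94151 : nd 94151 = n197186 := ndS (p := 57465) (l := 5) rfl N57465 D197186
theorem N94152 : nd 94152 = n197187 := ndS (p := 57466) (l := 6) rfl N57466 D197187
theorem N94153 : nd 94153 = n197188 := ndS (p := 57468) (l := 3) rfl N57468 D197188
theorem N94154 : nd 94154 = n197189 := ndS (p := 57469) (l := 4) rfl N57469 D197189
theorem N94155 : nd 94155 = n197190 := ndS (p := 57469) (l := 6) rfl N57469 D197190
theorem N94156 : nd 94156 = n197191 := ndS (p := 57471) (l := 3) rfl N57471 D197191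
theorem N94157 : nd 94157 = n197192 := ndS (p := 57472) (l := 6) rfl N57472 D197192
theorem N94158 : nd 94158 = n197193 := ndS (p := 57473) (l := 0) rfl N57473 D197193
theorem N94159 : nd 94159 = n197194 := ndS (p := 57473) (l := 1) rfl N57473 D197194
theorem N94160 : nd 94160 = n197195 := ndS (p := 57473) (l := 7) rfl N57473 D197195
theorem N94161 : nd 94161 = n197196 := ndS (p := 57475) (l := 5) rfl N57475 D197196
theorem N94162 : nd 94162 = n197197 := ndS (p := 57476) (l := 4) rfl N57476 D197197
theorem N94163 : nd 94163 = n197198 := ndS (p := 57476) (l := 7) rfl N57476 D197198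
theorem N94164 : nd 94164 = n197199 := ndS (p := 57477) (l := 6) rfl N57477 D197199
theorem N94165 : nd 94165 = n197200 := ndS (p := 57478) (l := 1) rfl N57478 D197200
theorem N94166 : nd 94166 = n197201 := ndS (p := 57478) (l := 5) rfl N57478 D197201
theorem N94167 : nd 94167 = n197202 := ndS (p := 57482) (l := 3) rfl N57482 D197202
theorem N94168 : nd 94168 = n197203 := ndS (p := 57482) (l := 5) rfl N57482 D197203
theorem N94169 : nd 94169 = n197204 := ndS (p := 57483) (l := 2) rfl N57483 D197204
theorem N94170 : nd 94170 = n197205 := ndS (p := 57488) (l := 0) rfl N57488 D197205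
theorem N94171 : nd 94171 = n197206 := ndS (p := 57488) (l := 1) rfl N57488 D197206
theorem N94172 : nd 94172 = n197207 := ndS (p := 57488) (l := 2) rfl N57488 D197207
theorem N94173 : nd 94173 = n197208 := ndS (p := 57488) (l := 6) rfl N57488 D197208
theorem N94174 : nd 94174 = n197209 := ndS (p := 57489) (l := 6) rfl N57489 D197209
theorem N94175 : nd 94175 = n197210 := ndS (p := 57490) (l := 5) rfl N57490 D197210
theorem N94176 : nd 94176 = n197211 := ndS (p := 57491) (l := 3) rfl N57491 D197211
theorem N94177 : nd 94177 = n197212 := ndS (p := 57493) (l := 6) rfl N57493 D197212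
theorem N94178 : nd 94178 = n197213 := ndS (p := 57495) (l := 1) rfl N57495 D197213
theorem N94179 : nd 94179 = n197214 := ndS (p := 57497) (l := 5) rfl N57497 D197214
theorem N94180 : nd 94180 = n197215 := ndS (p := 57498) (l := 0) rfl N57498 D197215
theorem N94181 : nd 94181 = n197216 := ndS (p := 57498) (l := 1) rfl N57498 D197216
theorem N94182 : nd 94182 = n197217 := ndS (p := 57500) (l := 0) rfl N57500 D197217
theorem N94183 : nd 94183 = n197218 := ndS (p := 57500) (l := 1) rfl N57500 D197218
theorem N94184 : nd 94184 = n197219 := ndS (p := 57500) (l := 2) rfl N57500 D197219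
theorem N94185 : nd 94185 = n197220 := ndS (p := 57501) (l := 6) rfl N57501 D197220
theorem N94186 : nd 94186 = n197221 := ndS (p := 57502) (l := 0) rfl N57502 D197221
theorem N94187 : nd 94187 = n197222 := ndS (p := 57502) (l := 1) rfl N57502 D197222
theorem N94188 : nd 94188 = n197223 := ndS (p := 57502) (l := 2) rfl N57502 D197223
theorem N94189 : nd 94189 = n197224 := ndS (p := 57503) (l := 6) rfl N57503 D197224
theorem N94190 : nd 94190 = n197225 := ndS (p := 57504) (l := 0) rfl N57504 D197225
theorem N94191 : nd 94191 = n197226 := ndS (p := 57504) (l := 1) rfl N57504 D197226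
theorem N94192 : nd 94192 = n197227 := ndS (p := 57504) (l := 2) rfl N57504 D197227
theorem N94193 : nd 94193 = n197228 := ndS (p := 57504) (l := 6) rfl N57504 D197228
theorem N94194 : nd 94194 = n197229 := ndS (p := 57505) (l := 6) rfl N57505 D197229
theorem N94195 : nd 94195 = n197230 := ndS (p := 57506) (l := 0) rfl N57506 D197230
theorem N94196 : nd 94196 = n197231 := ndS (p := 57506) (l := 5) rfl N57506 D197231
theorem N94197 : nd 94197 = n197232 := ndS (p := 57506) (l := 7) rfl N57506 D197232
theorem N94198 : nd 94198 = n197233 := ndS (p := 57509) (l := 2) rfl N57509 D197233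
theorem N94199 : nd 94199 = n197234 := ndS (p := 57509) (l := 3) rfl N57509 D197234
theorem N94200 : nd 94200 = n197235 := ndS (p := 57509) (l := 6) rfl N57509 D197235
theorem N94201 : nd 94201 = n197236 := ndS (p := 57509) (l := 7) rfl N57509 D197236
theorem N94202 : nd 94202 = n197237 := ndS (p := 57510) (l := 3) rfl N57510 D197237
theorem N94203 : nd 94203 = n197238 := ndS (p := 57510) (l := 4) rfl N57510 D197238
theorem N94204 : nd 94204 = n197239 := ndS (p := 57510) (l := 6) rfl N57510 D197239
theorem N94205 : nd 94205 = n197240 := ndS (p := 57511) (l := 5) rfl N57511 D197240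
theorem N94206 : nd 94206 = n197241 := ndS (p := 57512) (l := 0) rfl N57512 D197241
theorem N94207 : nd 94207 = n197242 := ndS (p := 57512) (l := 4) rfl N57512 D197242
theorem N94208 : nd 94208 = n197243 := ndS (p := 57512) (l := 6) rfl N57512 D197243
theorem N94209 : nd 94209 = n197244 := ndS (p := 57513) (l := 6) rfl N57513 D197244
theorem N94210 : nd 94210 = n197245 := ndS (p := 57514) (l := 0) rfl N57514 D197245
theorem N94211 : nd 94211 = n197246 := ndS (p := 57514) (l := 1) rfl N57514 D197246
theorem N94212 : nd 94212 = n197247 := ndS (p := 57514) (l := 7) rfl N57514 D197247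
theorem N94213 : nd 94213 = n197248 := ndS (p := 57515) (l := 5) rfl N57515 D197248
theorem N94214 : nd 94214 = n197249 := ndS (p := 57516) (l := 0) rfl N57516 D197249
theorem N94215 : nd 94215 = n197250 := ndS (p := 57516) (l := 1) rfl N57516 D197250
theorem N94216 : nd 94216 = n197251 := ndS (p := 57520) (l := 1) rfl N57520 D197251
theorem N94217 : nd 94217 = n197252 := ndS (p := 57520) (l := 7) rfl N57520 D197252
theorem N94218 : nd 94218 = n197253 := ndS (p := 57521) (l := 6) rfl N57521 D197253
theorem N94219 : nd 94219 = n197254 := ndS (p := 57526) (l := 5) rfl N57526 D197254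
theorem N94220 : nd 94220 = n197255 := ndS (p := 57529) (l := 6) rfl N57529 D197255
theorem N94221 : nd 94221 = n197256 := ndS (p := 57530) (l := 0) rfl N57530 D197256
theorem N94222 : nd 94222 = n197257 := ndS (p := 57530) (l := 1) rfl N57530 D197257
theorem N94223 : nd 94223 = n197258 := ndS (p := 57530) (l := 2) rfl N57530 D197258
theorem N94224 : nd 94224 = n197259 := ndS (p := 57530) (l := 5) rfl N57530 D197259
theorem N94225 : nd 94225 = n197260 := ndS (p := 57530) (l := 6) rfl N57530 D197260
theorem N94226 : nd 94226 = n197261 := ndS (p := 57533) (l := 2) rfl N57533 D197261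
theorem N94227 : nd 94227 = n197262 := ndS (p := 57533) (l := 6) rfl N57533 D197262
theorem N94228 : nd 94228 = n197263 := ndS (p := 57534) (l := 6) rfl N57534 D197263
theorem N94229 : nd 94229 = n197264 := ndS (p := 57535) (l := 5) rfl N57535 D197264
theorem N94230 : nd 94230 = n197265 := ndS (p := 57536) (l := 4) rfl N57536 D197265
theorem N94231 : nd 94231 = n197266 := ndS (p := 57536) (l := 6) rfl N57536 D197266
theorem N94232 : nd 94232 = n197267 := ndS (p := 57537) (l := 3) rfl N57537 D197267
theorem N94233 : nd 94233 = n197268 := ndS (p := 57537) (l := 5) rfl N57537 D197268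
theorem N94234 : nd 94234 = n197269 := ndS (p := 57537) (l := 6) rfl N57537 D197269
theorem N94235 : nd 94235 = n197270 := ndS (p := 57539) (l := 4) rfl N57539 D197270
theorem N94236 : nd 94236 = n197271 := ndS (p := 57539) (l := 6) rfl N57539 D197271
theorem N94237 : nd 94237 = n197272 := ndS (p := 57540) (l := 0) rfl N57540 D197272
theorem N94238 : nd 94238 = n197273 := ndS (p := 57540) (l := 5) rfl N57540 D197273
theorem N94239 : nd 94239 = n197274 := ndS (p := 57541) (l := 3) rfl N57541 D197274
theorem N94240 : nd 94240 = n197275 := ndS (p := 57541) (l := 6) rfl N57541 D197275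
theorem N94241 : nd 94241 = n197276 := ndS (p := 57542) (l := 0) rfl N57542 D197276
theorem N94242 : nd 94242 = n197277 := ndS (p := 57542) (l := 1) rfl N57542 D197277
theorem N94243 : nd 94243 = n197278 := ndS (p := 57542) (l := 5) rfl N57542 D197278
theorem N94244 : nd 94244 = n197279 := ndS (p := 57542) (l := 7) rfl N57542 D197279
theorem N94245 : nd 94245 = n197280 := ndS (p := 57543) (l := 3) rfl N57543 D197280
theorem N94246 : nd 94246 = n197281 := ndS (p := 57544) (l := 3) rfl N57544 D197281
theorem N94247 : nd 94247 = n197282 := ndS (p := 57544) (l := 6) rfl N57544 D197282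
theorem N94248 : nd 94248 = n197283 := ndS (p := 57545) (l := 1) rfl N57545 D197283
theorem N94249 : nd 94249 = n197284 := ndS (p := 57545) (l := 4) rfl N57545 D197284
theorem N94250 : nd 94250 = n197285 := ndS (p := 57545) (l := 7) rfl N57545 D197285
theorem N94251 : nd 94251 = n197286 := ndS (p := 57547) (l := 3) rfl N57547 D197286
theorem N94252 : nd 94252 = n197287 := ndS (p := 57549) (l := 0) rfl N57549 D197287
theorem N94253 : nd 94253 = n197288 := ndS (p := 57549) (l := 2) rfl N57549 D197288
theorem N94254 : nd 94254 = n197289 := ndS (p := 57551) (l := 0) rfl N57551 D197289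
theorem N94255 : nd 94255 = n197290 := ndS (p := 57551) (l := 2) rfl N57551 D197290
theorem N94256 : nd 94256 = n197291 := ndS (p := 57551) (l := 6) rfl N57551 D197291
theorem N94257 : nd 94257 = n197292 := ndS (p := 57553) (l := 3) rfl N57553 D197292
theorem N94258 : nd 94258 = n197293 := ndS (p := 57553) (l := 4) rfl N57553 D197293
theorem N94259 : nd 94259 = n197294 := ndS (p := 57553) (l := 6) rfl N57553 D197294
theorem N94260 : nd 94260 = n197295 := ndS (p := 57554) (l := 6) rfl N57554 D197295
theorem N94261 : nd 94261 = n197296 := ndS (p := 57555) (l := 6) rfl N57555 D197296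
theorem N94262 : nd 94262 = n197297 := ndS (p := 57556) (l := 0) rfl N57556 D197297
theorem N94263 : nd 94263 = n197298 := ndS (p := 57557) (l := 0) rfl N57557 D197298
theorem N94264 : nd 94264 = n197299 := ndS (p := 57557) (l := 5) rfl N57557 D197299
theorem N94265 : nd 94265 = n197300 := ndS (p := 57558) (l := 0) rfl N57558 D197300
theorem N94266 : nd 94266 = n197301 := ndS (p := 57558) (l := 1) rfl N57558 D197301
theorem N94267 : nd 94267 = n197302 := ndS (p := 57558) (l := 5) rfl N57558 D197302
theorem N94268 : nd 94268 = n197303 := ndS (p := 57558) (l := 7) rfl N57558 D197303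
theorem N94269 : nd 94269 = n197304 := ndS (p := 57559) (l := 3) rfl N57559 D197304
theorem N94270 : nd 94270 = n197305 := ndS (p := 57559) (l := 5) rfl N57559 D197305
theorem N94271 : nd 94271 = n197306 := ndS (p := 57559) (l := 6) rfl N57559 D197306
theorem N94272 : nd 94272 = n197307 := ndS (p := 57560) (l := 0) rfl N57560 D197307
theorem N94273 : nd 94273 = n197308 := ndS (p := 57560) (l := 1) rfl N57560 D197308
theorem N94274 : nd 94274 = n197309 := ndS (p := 57560) (l := 4) rfl N57560 D197309
theorem N94275 : nd 94275 = n197310 := ndS (p := 57561) (l := 5) rfl N57561 D197310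
theorem N94276 : nd 94276 = n197311 := ndS (p := 57562) (l := 5) rfl N57562 D197311
theorem N94277 : nd 94277 = n197312 := ndS (p := 57562) (l := 6) rfl N57562 D197312
theorem N94278 : nd 94278 = n197313 := ndS (p := 57564) (l := 0) rfl N57564 D197313
theorem N94279 : nd 94279 = n197314 := ndS (p := 57564) (l := 1) rfl N57564 D197314
theorem N94280 : nd 94280 = n197315 := ndS (p := 57564) (l := 2) rfl N57564 D197315
theorem N94281 : nd 94281 = n197316 := ndS (p := 57564) (l := 6) rfl N57564 D197316
theorem N94282 : nd 94282 = n197317 := ndS (p := 57565) (l := 5) rfl N57565 D197317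
theorem N94283 : nd 94283 = n197318 := ndS (p := 57566) (l := 4) rfl N57566 D197318
theorem N94284 : nd 94284 = n197319 := ndS (p := 57566) (l := 6) rfl N57566 D197319
theorem N94285 : nd 94285 = n197320 := ndS (p := 57567) (l := 3) rfl N57567 D197320
theorem N94286 : nd 94286 = n197321 := ndS (p := 57567) (l := 4) rfl N57567 D197321
theorem N94287 : nd 94287 = n197322 := ndS (p := 57568) (l := 6) rfl N57568 D197322
theorem N94288 : nd 94288 = n197323 := ndS (p := 57569) (l := 6) rfl N57569 D197323
theorem N94289 : nd 94289 = n197324 := ndS (p := 57570) (l := 0) rfl N57570 D197324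
theorem N94290 : nd 94290 = n197325 := ndS (p := 57570) (l := 1) rfl N57570 D197325
theorem N94291 : nd 94291 = n197326 := ndS (p := 57570) (l := 5) rfl N57570 D197326
theorem N94292 : nd 94292 = n197327 := ndS (p := 57570) (l := 7) rfl N57570 D197327
theorem N94293 : nd 94293 = n197328 := ndS (p := 57571) (l := 3) rfl N57571 D197328
theorem N94294 : nd 94294 = n197329 := ndS (p := 57571) (l := 6) rfl N57571 D197329
theorem N94295 : nd 94295 = n197330 := ndS (p := 57573) (l := 0) rfl N57573 D197330
theorem N94296 : nd 94296 = n197331 := ndS (p := 57573) (l := 1) rfl N57573 D197331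
theorem N94297 : nd 94297 = n197332 := ndS (p := 57573) (l := 5) rfl N57573 D197332
theorem N94298 : nd 94298 = n197333 := ndS (p := 57573) (l := 7) rfl N57573 D197333
theorem N94299 : nd 94299 = n197334 := ndS (p := 57574) (l := 3) rfl N57574 D197334
theorem N94300 : nd 94300 = n197335 := ndS (p := 57574) (l := 5) rfl N57574 D197335
theorem N94301 : nd 94301 = n197336 := ndS (p := 57575) (l := 3) rfl N57575 D197336
theorem N94302 : nd 94302 = n197337 := ndS (p := 57575) (l := 5) rfl N57575 D197337
theorem N94303 : nd 94303 = n197338 := ndS (p := 57575) (l := 6) rfl N57575 D197338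
theorem N94304 : nd 94304 = n197339 := ndS (p := 57576) (l := 1) rfl N57576 D197339
theorem N94305 : nd 94305 = n197340 := ndS (p := 57576) (l := 4) rfl N57576 D197340
theorem N94306 : nd 94306 = n197341 := ndS (p := 57576) (l := 7) rfl N57576 D197341
theorem N94307 : nd 94307 = n197342 := ndS (p := 57578) (l := 3) rfl N57578 D197342
theorem N94308 : nd 94308 = n197343 := ndS (p := 57578) (l := 5) rfl N57578 D197343
theorem N94309 : nd 94309 = n197344 := ndS (p := 57580) (l := 5) rfl N57580 D197344
theorem N94310 : nd 94310 = n197345 := ndS (p := 57581) (l := 6) rfl N57581 D197345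
theorem N94311 : nd 94311 = n197346 := ndS (p := 57584) (l := 3) rfl N57584 D197346
theorem N94312 : nd 94312 = n197347 := ndS (p := 57585) (l := 6) rfl N57585 D197347
theorem N94313 : nd 94313 = n197348 := ndS (p := 57586) (l := 6) rfl N57586 D197348
theorem N94314 : nd 94314 = n197349 := ndS (p := 57588) (l := 0) rfl N57588 D197349
theorem N94315 : nd 94315 = n197350 := ndS (p := 57588) (l := 5) rfl N57588 D197350
theorem N94316 : nd 94316 = n197351 := ndS (p := 57588) (l := 7) rfl N57588 D197351
theorem N94317 : nd 94317 = n197352 := ndS (p := 57589) (l := 0) rfl N57589 D197352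
theorem N94318 : nd 94318 = n197353 := ndS (p := 57589) (l := 1) rfl N57589 D197353
theorem N94319 : nd 94319 = n197354 := ndS (p := 57589) (l := 5) rfl N57589 D197354
theorem N94320 : nd 94320 = n197355 := ndS (p := 57589) (l := 7) rfl N57589 D197355
theorem N94321 : nd 94321 = n197356 := ndS (p := 57590) (l := 5) rfl N57590 D197356
theorem N94322 : nd 94322 = n197357 := ndS (p := 57590) (l := 6) rfl N57590 D197357
theorem N94323 : nd 94323 = n197358 := ndS (p := 57591) (l := 3) rfl N57591 D197358
theorem N94324 : nd 94324 = n197359 := ndS (p := 57591) (l := 5) rfl N57591 D197359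
theorem N94325 : nd 94325 = n197360 := ndS (p := 57592) (l := 4) rfl N57592 D197360
theorem N94326 : nd 94326 = n197361 := ndS (p := 57592) (l := 7) rfl N57592 D197361
theorem N94327 : nd 94327 = n197362 := ndS (p := 57594) (l := 3) rfl N57594 D197362
theorem N94328 : nd 94328 = n197363 := ndS (p := 57594) (l := 5) rfl N57594 D197363
theorem N94329 : nd 94329 = n197364 := ndS (p := 57595) (l := 4) rfl N57595 D197364
theorem N94330 : nd 94330 = n197365 := ndS (p := 57595) (l := 6) rfl N57595 D197365
theorem N94331 : nd 94331 = n197366 := ndS (p := 57596) (l := 3) rfl N57596 D197366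
theorem N94332 : nd 94332 = n197367 := ndS (p := 57597) (l := 6) rfl N57597 D197367
theorem N94333 : nd 94333 = n197368 := ndS (p := 57598) (l := 0) rfl N57598 D197368
theorem N94334 : nd 94334 = n197369 := ndS (p := 57598) (l := 1) rfl N57598 D197369
theorem N94335 : nd 94335 = n197370 := ndS (p := 57598) (l := 5) rfl N57598 D197370
theorem N94336 : nd 94336 = n197371 := ndS (p := 57598) (l := 7) rfl N57598 D197371
theorem N94337 : nd 94337 = n197372 := ndS (p := 57599) (l := 3) rfl N57599 D197372
theorem N94338 : nd 94338 = n197373 := ndS (p := 57599) (l := 6) rfl N57599 D197373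
theorem N94339 : nd 94339 = n197374 := ndS (p := 57600) (l := 0) rfl N57600 D197374
theorem N94340 : nd 94340 = n197375 := ndS (p := 57600) (l := 1) rfl N57600 D197375
theorem N94341 : nd 94341 = n197376 := ndS (p := 57600) (l := 5) rfl N57600 D197376
theorem N94342 : nd 94342 = n197377 := ndS (p := 57600) (l := 7) rfl N57600 D197377
theorem N94343 : nd 94343 = n197378 := ndS (p := 57601) (l := 1) rfl N57601 D197378
theorem N94344 : nd 94344 = n197379 := ndS (p := 57601) (l := 4) rfl N57601 D197379
theorem N94345 : nd 94345 = n197380 := ndS (p := 57601) (l := 7) rfl N57601 D197380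
theorem N94346 : nd 94346 = n197381 := ndS (p := 57603) (l := 0) rfl N57603 D197381
theorem N94347 : nd 94347 = n197382 := ndS (p := 57603) (l := 1) rfl N57603 D197382
theorem N94348 : nd 94348 = n197383 := ndS (p := 57603) (l := 5) rfl N57603 D197383
theorem N94349 : nd 94349 = n197384 := ndS (p := 57603) (l := 7) rfl N57603 D197384
theorem N94350 : nd 94350 = n197385 := ndS (p := 57604) (l := 4) rfl N57604 D197385
theorem N94351 : nd 94351 = n197386 := ndS (p := 57604) (l := 7) rfl N57604 D197386
theorem N94352 : nd 94352 = n197387 := ndS (p := 57606) (l := 5) rfl N57606 D197387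
theorem N94353 : nd 94353 = n197388 := ndS (p := 57606) (l := 6) rfl N57606 D197388
theorem N94354 : nd 94354 = n197389 := ndS (p := 57607) (l := 1) rfl N57607 D197389
theorem N94355 : nd 94355 = n197390 := ndS (p := 57607) (l := 6) rfl N57607 D197390
theorem N94356 : nd 94356 = n197391 := ndS (p := 57608) (l := 4) rfl N57608 D197391
theorem N94357 : nd 94357 = n197392 := ndS (p := 57608) (l := 6) rfl N57608 D197392
theorem N94358 : nd 94358 = n197393 := ndS (p := 57609) (l := 0) rfl N57609 D197393
theorem N94359 : nd 94359 = n197394 := ndS (p := 57609) (l := 5) rfl N57609 D197394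
theorem N94360 : nd 94360 = n197395 := ndS (p := 57609) (l := 7) rfl N57609 D197395
theorem N94361 : nd 94361 = n197396 := ndS (p := 57611) (l := 2) rfl N57611 D197396
theorem N94362 : nd 94362 = n197397 := ndS (p := 57611) (l := 5) rfl N57611 D197397
theorem N94363 : nd 94363 = n197398 := ndS (p := 57612) (l := 6) rfl N57612 D197398
theorem N94364 : nd 94364 = n197399 := ndS (p := 57613) (l := 6) rfl N57613 D197399
theorem N94365 : nd 94365 = n197400 := ndS (p := 57614) (l := 3) rfl N57614 D197400
theorem N94366 : nd 94366 = n197401 := ndS (p := 57614) (l := 4) rfl N57614 D197401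
theorem N94367 : nd 94367 = n197402 := ndS (p := 57614) (l := 6) rfl N57614 D197402
theorem N94368 : nd 94368 = n197403 := ndS (p := 57615) (l := 3) rfl N57615 D197403
theorem N94369 : nd 94369 = n197404 := ndS (p := 57615) (l := 4) rfl N57615 D197404
theorem N94370 : nd 94370 = n197405 := ndS (p := 57615) (l := 6) rfl N57615 D197405
theorem N94371 : nd 94371 = n197406 := ndS (p := 57616) (l := 3) rfl N57616 D197406
theorem N94372 : nd 94372 = n197407 := ndS (p := 57616) (l := 6) rfl N57616 D197407
theorem N94373 : nd 94373 = n197408 := ndS (p := 57617) (l := 0) rfl N57617 D197408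
theorem N94374 : nd 94374 = n197409 := ndS (p := 57617) (l := 7) rfl N57617 D197409
theorem N94375 : nd 94375 = n197410 := ndS (p := 57618) (l := 6) rfl N57618 D197410
theorem N94376 : nd 94376 = n197411 := ndS (p := 57619) (l := 0) rfl N57619 D197411
theorem N94377 : nd 94377 = n197412 := ndS (p := 57619) (l := 5) rfl N57619 D197412
theorem N94378 : nd 94378 = n197413 := ndS (p := 57620) (l := 6) rfl N57620 D197413
theorem N94379 : nd 94379 = n197414 := ndS (p := 57621) (l := 0) rfl N57621 D197414
theorem N94380 : nd 94380 = n197415 := ndS (p := 57621) (l := 1) rfl N57621 D197415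
theorem N94381 : nd 94381 = n197416 := ndS (p := 57621) (l := 5) rfl N57621 D197416
theorem N94382 : nd 94382 = n197417 := ndS (p := 57621) (l := 7) rfl N57621 D197417
theorem N94383 : nd 94383 = n197418 := ndS (p := 57622) (l := 0) rfl N57622 D197418
theorem N94384 : nd 94384 = n197419 := ndS (p := 57622) (l := 1) rfl N57622 D197419
theorem N94385 : nd 94385 = n197420 := ndS (p := 57622) (l := 5) rfl N57622 D197420
theorem N94386 : nd 94386 = n197421 := ndS (p := 57622) (l := 7) rfl N57622 D197421
theorem N94387 : nd 94387 = n197422 := ndS (p := 57623) (l := 0) rfl N57623 D197422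
theorem N94388 : nd 94388 = n197423 := ndS (p := 57623) (l := 1) rfl N57623 D197423
theorem N94389 : nd 94389 = n197424 := ndS (p := 57623) (l := 2) rfl N57623 D197424
theorem N94390 : nd 94390 = n197425 := ndS (p := 57624) (l := 0) rfl N57624 D197425
theorem N94391 : nd 94391 = n197426 := ndS (p := 57624) (l := 1) rfl N57624 D197426
theorem N94392 : nd 94392 = n197427 := ndS (p := 57624) (l := 7) rfl N57624 D197427
theorem N94393 : nd 94393 = n197428 := ndS (p := 57625) (l := 4) rfl N57625 D197428
theorem N94394 : nd 94394 = n197429 := ndS (p := 57625) (l := 5) rfl N57625 D197429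
theorem N94395 : nd 94395 = n197430 := ndS (p := 57625) (l := 6) rfl N57625 D197430
theorem N94396 : nd 94396 = n197431 := ndS (p := 57626) (l := 4) rfl N57626 D197431
theorem N94397 : nd 94397 = n197432 := ndS (p := 57626) (l := 5) rfl N57626 D197432
theorem N94398 : nd 94398 = n197433 := ndS (p := 57626) (l := 6) rfl N57626 D197433
theorem N94399 : nd 94399 = n197434 := ndS (p := 57627) (l := 6) rfl N57627 D197434
theorem N94400 : nd 94400 = n197435 := ndS (p := 57628) (l := 0) rfl N57628 D197435
theorem N94401 : nd 94401 = n197436 := ndS (p := 57628) (l := 1) rfl N57628 D197436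
theorem N94402 : nd 94402 = n197437 := ndS (p := 57628) (l := 5) rfl N57628 D197437
theorem N94403 : nd 94403 = n197438 := ndS (p := 57629) (l := 3) rfl N57629 D197438
theorem N94404 : nd 94404 = n197439 := ndS (p := 57629) (l := 5) rfl N57629 D197439
theorem N94405 : nd 94405 = n197440 := ndS (p := 57629) (l := 6) rfl N57629 D197440
theorem N94406 : nd 94406 = n197441 := ndS (p := 57630) (l := 0) rfl N57630 D197441
theorem N94407 : nd 94407 = n197442 := ndS (p := 57630) (l := 1) rfl N57630 D197442
theorem N94408 : nd 94408 = n197443 := ndS (p := 57631) (l := 6) rfl N57631 D197443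
theorem N94409 : nd 94409 = n197444 := ndS (p := 57632) (l := 4) rfl N57632 D197444
theorem N94410 : nd 94410 = n197445 := ndS (p := 57635) (l := 4) rfl N57635 D197445
theorem N94411 : nd 94411 = n197446 := ndS (p := 57636) (l := 6) rfl N57636 D197446
theorem N94412 : nd 94412 = n197447 := ndS (p := 57637) (l := 3) rfl N57637 D197447
theorem N94413 : nd 94413 = n197448 := ndS (p := 57641) (l := 7) rfl N57641 D197448
theorem N94414 : nd 94414 = n197449 := ndS (p := 57643) (l := 0) rfl N57643 D197449
theorem N94415 : nd 94415 = n197450 := ndS (p := 57643) (l := 1) rfl N57643 D197450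
theorem N94416 : nd 94416 = n197451 := ndS (p := 57643) (l := 2) rfl N57643 D197451
theorem N94417 : nd 94417 = n197452 := ndS (p := 57644) (l := 0) rfl N57644 D197452
theorem N94418 : nd 94418 = n197453 := ndS (p := 57644) (l := 1) rfl N57644 D197453
theorem N94419 : nd 94419 = n197454 := ndS (p := 57644) (l := 2) rfl N57644 D197454
theorem N94420 : nd 94420 = n197455 := ndS (p := 57644) (l := 6) rfl N57644 D197455
theorem N94421 : nd 94421 = n197456 := ndS (p := 57647) (l := 3) rfl N57647 D197456
theorem N94422 : nd 94422 = n197457 := ndS (p := 57647) (l := 6) rfl N57647 D197457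
theorem N94423 : nd 94423 = n197458 := ndS (p := 57651) (l := 0) rfl N57651 D197458
theorem N94424 : nd 94424 = n197459 := ndS (p := 57651) (l := 1) rfl N57651 D197459
theorem N94425 : nd 94425 = n197460 := ndS (p := 57651) (l := 5) rfl N57651 D197460
theorem N94426 : nd 94426 = n197461 := ndS (p := 57651) (l := 7) rfl N57651 D197461
theorem N94427 : nd 94427 = n197462 := ndS (p := 57652) (l := 0) rfl N57652 D197462
theorem N94428 : nd 94428 = n197463 := ndS (p := 57652) (l := 1) rfl N57652 D197463
theorem N94429 : nd 94429 = n197464 := ndS (p := 57652) (l := 4) rfl N57652 D197464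
theorem N94430 : nd 94430 = n197465 := ndS (p := 57653) (l := 1) rfl N57653 D197465
theorem N94431 : nd 94431 = n197466 := ndS (p := 57653) (l := 3) rfl N57653 D197466
theorem N94432 : nd 94432 = n197467 := ndS (p := 57653) (l := 5) rfl N57653 D197467
theorem N94433 : nd 94433 = n197468 := ndS (p := 57654) (l := 6) rfl N57654 D197468
theorem N94434 : nd 94434 = n197469 := ndS (p := 57655) (l := 5) rfl N57655 D197469
theorem N94435 : nd 94435 = n197470 := ndS (p := 57655) (l := 6) rfl N57655 D197470
theorem N94436 : nd 94436 = n197471 := ndS (p := 57657) (l := 5) rfl N57657 D197471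
theorem N94437 : nd 94437 = n197472 := ndS (p := 57657) (l := 7) rfl N57657 D197472
theorem N94438 : nd 94438 = n197473 := ndS (p := 57658) (l := 3) rfl N57658 D197473
theorem N94439 : nd 94439 = n197474 := ndS (p := 57658) (l := 5) rfl N57658 D197474
theorem N94440 : nd 94440 = n197475 := ndS (p := 57659) (l := 3) rfl N57659 D197475
theorem N94441 : nd 94441 = n197476 := ndS (p := 57659) (l := 5) rfl N57659 D197476
theorem N94442 : nd 94442 = n197477 := ndS (p := 57659) (l := 6) rfl N57659 D197477
theorem N94443 : nd 94443 = n197478 := ndS (p := 57660) (l := 1) rfl N57660 D197478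
theorem N94444 : nd 94444 = n197479 := ndS (p := 57660) (l := 7) rfl N57660 D197479
theorem N94445 : nd 94445 = n197480 := ndS (p := 57662) (l := 5) rfl N57662 D197480
theorem N94446 : nd 94446 = n197481 := ndS (p := 57663) (l := 3) rfl N57663 D197481
theorem N94447 : nd 94447 = n197482 := ndS (p := 57663) (l := 5) rfl N57663 D197482
theorem N94448 : nd 94448 = n197483 := ndS (p := 57664) (l := 4) rfl N57664 D197483
theorem N94449 : nd 94449 = n197484 := ndS (p := 57665) (l := 6) rfl N57665 D197484
theorem N94450 : nd 94450 = n197485 := ndS (p := 57666) (l := 3) rfl N57666 D197485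
theorem N94451 : nd 94451 = n197486 := ndS (p := 57666) (l := 5) rfl N57666 D197486
theorem N94452 : nd 94452 = n197487 := ndS (p := 57666) (l := 6) rfl N57666 D197487
theorem N94453 : nd 94453 = n197488 := ndS (p := 57671) (l := 6) rfl N57671 D197488
theorem N94454 : nd 94454 = n197489 := ndS (p := 57672) (l := 6) rfl N57672 D197489
theorem N94455 : nd 94455 = n197490 := ndS (p := 57675) (l := 0) rfl N57675 D197490
theorem N94456 : nd 94456 = n197491 := ndS (p := 57675) (l := 5) rfl N57675 D197491
theorem N94457 : nd 94457 = n197492 := ndS (p := 57676) (l := 3) rfl N57676 D197492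
theorem N94458 : nd 94458 = n197493 := ndS (p := 57676) (l := 6) rfl N57676 D197493
theorem N94459 : nd 94459 = n197494 := ndS (p := 57678) (l := 0) rfl N57678 D197494
theorem N94460 : nd 94460 = n197495 := ndS (p := 57678) (l := 1) rfl N57678 D197495
theorem N94461 : nd 94461 = n197496 := ndS (p := 57678) (l := 5) rfl N57678 D197496
theorem N94462 : nd 94462 = n197497 := ndS (p := 57678) (l := 7) rfl N57678 D197497
theorem N94463 : nd 94463 = n197498 := ndS (p := 57680) (l := 4) rfl N57680 D197498
theorem N94464 : nd 94464 = n197499 := ndS (p := 57682) (l := 5) rfl N57682 D197499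
theorem N94465 : nd 94465 = n197500 := ndS (p := 57687) (l := 3) rfl N57687 D197500
theorem N94466 : nd 94466 = n197501 := ndS (p := 57687) (l := 5) rfl N57687 D197501
theorem N94467 : nd 94467 = n197502 := ndS (p := 57691) (l := 6) rfl N57691 D197502
theorem N94468 : nd 94468 = n197503 := ndS (p := 57692) (l := 5) rfl N57692 D197503
theorem N94469 : nd 94469 = n197504 := ndS (p := 57693) (l := 3) rfl N57693 D197504
theorem N94470 : nd 94470 = n197505 := ndS (p := 57694) (l := 3) rfl N57694 D197505
theorem N94471 : nd 94471 = n197506 := ndS (p := 57694) (l := 4) rfl N57694 D197506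
theorem N94472 : nd 94472 = n197507 := ndS (p := 57696) (l := 0) rfl N57696 D197507
theorem N94473 : nd 94473 = n197508 := ndS (p := 57697) (l := 6) rfl N57697 D197508
theorem N94474 : nd 94474 = n197509 := ndS (p := 57702) (l := 0) rfl N57702 D197509
theorem N94475 : nd 94475 = n197510 := ndS (p := 57702) (l := 5) rfl N57702 D197510
theorem N94476 : nd 94476 = n197511 := ndS (p := 57707) (l := 4) rfl N57707 D197511
theorem N94477 : nd 94477 = n197512 := ndS (p := 57709) (l := 0) rfl N57709 D197512
theorem N94478 : nd 94478 = n197513 := ndS (p := 57709) (l := 1) rfl N57709 D197513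
theorem N94479 : nd 94479 = n197514 := ndS (p := 57709) (l := 2) rfl N57709 D197514
theorem N94480 : nd 94480 = n197515 := ndS (p := 57713) (l := 2) rfl N57713 D197515
theorem N94481 : nd 94481 = n197516 := ndS (p := 57717) (l := 7) rfl N57717 D197516
theorem N94482 : nd 94482 = n197517 := ndS (p := 57718) (l := 5) rfl N57718 D197517
theorem N94483 : nd 94483 = n197518 := ndS (p := 57720) (l := 6) rfl N57720 D197518
theorem N94484 : nd 94484 = n197520 := ndS (p := 57722) (l := 3) rfl N57722 D197520
theorem N94485 : nd 94485 = n197521 := ndS (p := 57722) (l := 4) rfl N57722 D197521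
theorem N94486 : nd 94486 = n197522 := ndS (p := 57722) (l := 5) rfl N57722 D197522
theorem N94487 : nd 94487 = n197523 := ndS (p := 57722) (l := 6) rfl N57722 D197523
theorem N94488 : nd 94488 = n197524 := ndS (p := 57723) (l := 3) rfl N57723 D197524
theorem N94489 : nd 94489 = n197525 := ndS (p := 57723) (l := 4) rfl N57723 D197525
theorem N94490 : nd 94490 = n197526 := ndS (p := 57723) (l := 5) rfl N57723 D197526
theorem N94491 : nd 94491 = n197527 := ndS (p := 57725) (l := 0) rfl N57725 D197527
theorem N94492 : nd 94492 = n197528 := ndS (p := 57725) (l := 1) rfl N57725 D197528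
theorem N94493 : nd 94493 = n197529 := ndS (p := 57725) (l := 4) rfl N57725 D197529
theorem N94494 : nd 94494 = n197530 := ndS (p := 57726) (l := 0) rfl N57726 D197530
theorem N94495 : nd 94495 = n197531 := ndS (p := 57727) (l := 5) rfl N57727 D197531
theorem N94496 : nd 94496 = n197533 := ndS (p := 57728) (l := 5) rfl N57728 D197533
theorem N94497 : nd 94497 = n197534 := ndS (p := 57728) (l := 6) rfl N57728 D197534
theorem N94498 : nd 94498 = n197535 := ndS (p := 57729) (l := 3) rfl N57729 D197535
theorem N94499 : nd 94499 = n197536 := ndS (p := 57729) (l := 5) rfl N57729 D197536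
theorem N94500 : nd 94500 = n197537 := ndS (p := 57731) (l := 6) rfl N57731 D197537
theorem N94501 : nd 94501 = n197538 := ndS (p := 57732) (l := 5) rfl N57732 D197538
theorem N94502 : nd 94502 = n197539 := ndS (p := 57733) (l := 0) rfl N57733 D197539
theorem N94503 : nd 94503 = n197540 := ndS (p := 57733) (l := 1) rfl N57733 D197540
theorem N94504 : nd 94504 = n197541 := ndS (p := 57733) (l := 5) rfl N57733 D197541
theorem N94505 : nd 94505 = n197542 := ndS (p := 57735) (l := 6) rfl N57735 D197542
theorem N94506 : nd 94506 = n197543 := ndS (p := 57736) (l := 4) rfl N57736 D197543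
theorem N94507 : nd 94507 = n197544 := ndS (p := 57738) (l := 3) rfl N57738 D197544
theorem N94508 : nd 94508 = n197545 := ndS (p := 57739) (l := 3) rfl N57739 D197545
theorem N94509 : nd 94509 = n197546 := ndS (p := 57739) (l := 6) rfl N57739 D197546
theorem N94510 : nd 94510 = n197547 := ndS (p := 57741) (l := 3) rfl N57741 D197547
theorem N94511 : nd 94511 = n197548 := ndS (p := 57741) (l := 6) rfl N57741 D197548
theorem N94512 : nd 94512 = n197549 := ndS (p := 57742) (l := 3) rfl N57742 D197549
theorem N94513 : nd 94513 = n197550 := ndS (p := 57743) (l := 5) rfl N57743 D197550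
theorem N94514 : nd 94514 = n197551 := ndS (p := 57743) (l := 6) rfl N57743 D197551
theorem N94515 : nd 94515 = n197552 := ndS (p := 57744) (l := 0) rfl N57744 D197552
theorem N94516 : nd 94516 = n197553 := ndS (p := 57744) (l := 1) rfl N57744 D197553
theorem N94517 : nd 94517 = n197554 := ndS (p := 57744) (l := 6) rfl N57744 D197554
theorem N94518 : nd 94518 = n197555 := ndS (p := 57745) (l := 0) rfl N57745 D197555
theorem N94519 : nd 94519 = n197556 := ndS (p := 57750) (l := 3) rfl N57750 D197556
theorem N94520 : nd 94520 = n197557 := ndS (p := 57750) (l := 5) rfl N57750 D197557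
theorem N94521 : nd 94521 = n197558 := ndS (p := 57751) (l := 3) rfl N57751 D197558
theorem N94522 : nd 94522 = n197559 := ndS (p := 57751) (l := 5) rfl N57751 D197559
theorem N94523 : nd 94523 = n197560 := ndS (p := 57751) (l := 6) rfl N57751 D197560
theorem N94524 : nd 94524 = n197561 := ndS (p := 57752) (l := 3) rfl N57752 D197561
theorem N94525 : nd 94525 = n197562 := ndS (p := 57753) (l := 6) rfl N57753 D197562
theorem N94526 : nd 94526 = n197563 := ndS (p := 57754) (l := 0) rfl N57754 D197563
theorem N94527 : nd 94527 = n197564 := ndS (p := 57754) (l := 1) rfl N57754 D197564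
theorem N94528 : nd 94528 = n197565 := ndS (p := 57755) (l := 5) rfl N57755 D197565
theorem N94529 : nd 94529 = n197566 := ndS (p := 57756) (l := 3) rfl N57756 D197566
theorem N94530 : nd 94530 = n197567 := ndS (p := 57756) (l := 5) rfl N57756 D197567
theorem N94531 : nd 94531 = n197568 := ndS (p := 57757) (l := 5) rfl N57757 D197568
theorem N94532 : nd 94532 = n197569 := ndS (p := 57758) (l := 0) rfl N57758 D197569
theorem N94533 : nd 94533 = n197570 := ndS (p := 57762) (l := 6) rfl N57762 D197570
theorem N94534 : nd 94534 = n197571 := ndS (p := 57763) (l := 3) rfl N57763 D197571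
theorem N94535 : nd 94535 = n197572 := ndS (p := 57763) (l := 6) rfl N57763 D197572
theorem N94536 : nd 94536 = n197573 := ndS (p := 57764) (l := 6) rfl N57764 D197573
theorem N94537 : nd 94537 = n197574 := ndS (p := 57765) (l := 6) rfl N57765 D197574
theorem N94538 : nd 94538 = n197575 := ndS (p := 57766) (l := 0) rfl N57766 D197575
theorem N94539 : nd 94539 = n197577 := ndS (p := 57766) (l := 5) rfl N57766 D197577
theorem N94540 : nd 94540 = n197578 := ndS (p := 57766) (l := 7) rfl N57766 D197578
theorem N94541 : nd 94541 = n197579 := ndS (p := 57771) (l := 6) rfl N57771 D197579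
theorem N94542 : nd 94542 = n197580 := ndS (p := 57772) (l := 0) rfl N57772 D197580
theorem N94543 : nd 94543 = n197581 := ndS (p := 57772) (l := 1) rfl N57772 D197581
theorem N94544 : nd 94544 = n197582 := ndS (p := 57772) (l := 5) rfl N57772 D197582
theorem N94545 : nd 94545 = n197583 := ndS (p := 57773) (l := 2) rfl N57773 D197583
theorem N94546 : nd 94546 = n197584 := ndS (p := 57773) (l := 6) rfl N57773 D197584
theorem N94547 : nd 94547 = n197585 := ndS (p := 57774) (l := 0) rfl N57774 D197585
theorem N94548 : nd 94548 = n197586 := ndS (p := 57774) (l := 1) rfl N57774 D197586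
theorem N94549 : nd 94549 = n197587 := ndS (p := 57774) (l := 7) rfl N57774 D197587
theorem N94550 : nd 94550 = n197588 := ndS (p := 57775) (l := 2) rfl N57775 D197588
theorem N94551 : nd 94551 = n197589 := ndS (p := 57775) (l := 4) rfl N57775 D197589
theorem N94552 : nd 94552 = n197590 := ndS (p := 57775) (l := 6) rfl N57775 D197590
theorem N94553 : nd 94553 = n197591 := ndS (p := 57776) (l := 0) rfl N57776 D197591
theorem N94554 : nd 94554 = n197592 := ndS (p := 57776) (l := 1) rfl N57776 D197592
theorem N94555 : nd 94555 = n197593 := ndS (p := 57776) (l := 7) rfl N57776 D197593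
theorem N94556 : nd 94556 = n197594 := ndS (p := 57777) (l := 0) rfl N57777 D197594
theorem N94557 : nd 94557 = n197595 := ndS (p := 57777) (l := 1) rfl N57777 D197595
theorem N94558 : nd 94558 = n197596 := ndS (p := 57777) (l := 2) rfl N57777 D197596
theorem N94559 : nd 94559 = n197597 := ndS (p := 57778) (l := 1) rfl N57778 D197597
theorem N94560 : nd 94560 = n197598 := ndS (p := 57778) (l := 5) rfl N57778 D197598
theorem N94561 : nd 94561 = n197599 := ndS (p := 57778) (l := 7) rfl N57778 D197599
theorem N94562 : nd 94562 = n197600 := ndS (p := 57779) (l := 6) rfl N57779 D197600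
theorem N94563 : nd 94563 = n197601 := ndS (p := 57781) (l := 6) rfl N57781 D197601
theorem N94564 : nd 94564 = n197602 := ndS (p := 57782) (l := 0) rfl N57782 D197602
theorem N94565 : nd 94565 = n197603 := ndS (p := 57782) (l := 1) rfl N57782 D197603
theorem N94566 : nd 94566 = n197604 := ndS (p := 57782) (l := 5) rfl N57782 D197604
theorem N94567 : nd 94567 = n197605 := ndS (p := 57783) (l := 4) rfl N57783 D197605
theorem N94568 : nd 94568 = n197606 := ndS (p := 57785) (l := 5) rfl N57785 D197606
theorem N94569 : nd 94569 = n197607 := ndS (p := 57787) (l := 6) rfl N57787 D197607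
theorem N94570 : nd 94570 = n197608 := ndS (p := 57789) (l := 3) rfl N57789 D197608
theorem N94571 : nd 94571 = n197609 := ndS (p := 57789) (l := 4) rfl N57789 D197609
theorem N94572 : nd 94572 = n197610 := ndS (p := 57789) (l := 5) rfl N57789 D197610
theorem N94573 : nd 94573 = n197611 := ndS (p := 57789) (l := 6) rfl N57789 D197611
theorem N94574 : nd 94574 = n197612 := ndS (p := 57790) (l := 4) rfl N57790 D197612
theorem N94575 : nd 94575 = n197613 := ndS (p := 57791) (l := 5) rfl N57791 D197613
theorem N94576 : nd 94576 = n197614 := ndS (p := 57792) (l := 0) rfl N57792 D197614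
theorem N94577 : nd 94577 = n197615 := ndS (p := 57792) (l := 4) rfl N57792 D197615
theorem N94578 : nd 94578 = n197616 := ndS (p := 57792) (l := 6) rfl N57792 D197616
theorem N94579 : nd 94579 = n197617 := ndS (p := 57793) (l := 0) rfl N57793 D197617
theorem N94580 : nd 94580 = n197618 := ndS (p := 57793) (l := 1) rfl N57793 D197618
theorem N94581 : nd 94581 = n197619 := ndS (p := 57793) (l := 7) rfl N57793 D197619
theorem N94582 : nd 94582 = n197620 := ndS (p := 57794) (l := 0) rfl N57794 D197620
theorem N94583 : nd 94583 = n197621 := ndS (p := 57794) (l := 1) rfl N57794 D197621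
theorem N94584 : nd 94584 = n197622 := ndS (p := 57796) (l := 0) rfl N57796 D197622
theorem N94585 : nd 94585 = n197623 := ndS (p := 57796) (l := 5) rfl N57796 D197623
theorem N94586 : nd 94586 = n197624 := ndS (p := 57798) (l := 5) rfl N57798 D197624
theorem N94587 : nd 94587 = n197625 := ndS (p := 57799) (l := 0) rfl N57799 D197625
theorem N94588 : nd 94588 = n197626 := ndS (p := 57799) (l := 1) rfl N57799 D197626
theorem N94589 : nd 94589 = n197627 := ndS (p := 57799) (l := 6) rfl N57799 D197627
theorem N94590 : nd 94590 = n197628 := ndS (p := 57802) (l := 5) rfl N57802 D197628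
theorem N94591 : nd 94591 = n197629 := ndS (p := 57803) (l := 5) rfl N57803 D197629
theorem N94592 : nd 94592 = n197630 := ndS (p := 57804) (l := 3) rfl N57804 D197630
theorem N94593 : nd 94593 = n197631 := ndS (p := 57805) (l := 3) rfl N57805 D197631
theorem N94594 : nd 94594 = n197632 := ndS (p := 57805) (l := 6) rfl N57805 D197632
theorem N94595 : nd 94595 = n197633 := ndS (p := 57806) (l := 5) rfl N57806 D197633
theorem N94596 : nd 94596 = n197634 := ndS (p := 57807) (l := 1) rfl N57807 D197634
theorem N94597 : nd 94597 = n197635 := ndS (p := 57807) (l := 6) rfl N57807 D197635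
theorem N94598 : nd 94598 = n197636 := ndS (p := 57808) (l := 0) rfl N57808 D197636
theorem N94599 : nd 94599 = n197637 := ndS (p := 57810) (l := 3) rfl N57810 D197637
theorem N94600 : nd 94600 = n197638 := ndS (p := 57812) (l := 6) rfl N57812 D197638
theorem N94601 : nd 94601 = n197639 := ndS (p := 57813) (l := 5) rfl N57813 D197639
theorem N94602 : nd 94602 = n197640 := ndS (p := 57815) (l := 0) rfl N57815 D197640
theorem N94603 : nd 94603 = n197641 := ndS (p := 57815) (l := 1) rfl N57815 D197641
theorem N94604 : nd 94604 = n197642 := ndS (p := 57817) (l := 3) rfl N57817 D197642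
theorem N94605 : nd 94605 = n197643 := ndS (p := 57819) (l := 5) rfl N57819 D197643
theorem N94606 : nd 94606 = n197644 := ndS (p := 57821) (l := 3) rfl N57821 D197644
theorem N94607 : nd 94607 = n197645 := ndS (p := 57821) (l := 5) rfl N57821 D197645
theorem N94608 : nd 94608 = n197646 := ndS (p := 57823) (l := 3) rfl N57823 D197646
theorem N94609 : nd 94609 = n197647 := ndS (p := 57823) (l := 5) rfl N57823 D197647
theorem N94610 : nd 94610 = n197648 := ndS (p := 57824) (l := 5) rfl N57824 D197648
theorem N94611 : nd 94611 = n197649 := ndS (p := 57824) (l := 6) rfl N57824 D197649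
theorem N94612 : nd 94612 = n197650 := ndS (p := 57825) (l := 1) rfl N57825 D197650
theorem N94613 : nd 94613 = n197651 := ndS (p := 57825) (l := 6) rfl N57825 D197651
theorem N94614 : nd 94614 = n197652 := ndS (p := 57826) (l := 1) rfl N57826 D197652
theorem N94615 : nd 94615 = n197653 := ndS (p := 57826) (l := 5) rfl N57826 D197653
theorem N94616 : nd 94616 = n197654 := ndS (p := 57826) (l := 7) rfl N57826 D197654
theorem N94617 : nd 94617 = n197655 := ndS (p := 57830) (l := 3) rfl N57830 D197655
theorem N94618 : nd 94618 = n197656 := ndS (p := 57832) (l := 6) rfl N57832 D197656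
theorem N94619 : nd 94619 = n197657 := ndS (p := 57833) (l := 1) rfl N57833 D197657
theorem N94620 : nd 94620 = n197658 := ndS (p := 57834) (l := 1) rfl N57834 D197658
theorem N94621 : nd 94621 = n197659 := ndS (p := 57834) (l := 7) rfl N57834 D197659
theorem N94622 : nd 94622 = n197660 := ndS (p := 57837) (l := 6) rfl N57837 D197660
theorem N94623 : nd 94623 = n197661 := ndS (p := 57838) (l := 5) rfl N57838 D197661
theorem N94624 : nd 94624 = n197662 := ndS (p := 57838) (l := 6) rfl N57838 D197662
theorem N94625 : nd 94625 = n197663 := ndS (p := 57839) (l := 1) rfl N57839 D197663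
theorem N94626 : nd 94626 = n197664 := ndS (p := 57839) (l := 2) rfl N57839 D197664
theorem N94627 : nd 94627 = n197665 := ndS (p := 57839) (l := 7) rfl N57839 D197665
theorem N94628 : nd 94628 = n197666 := ndS (p := 57840) (l := 6) rfl N57840 D197666
theorem N94629 : nd 94629 = n197667 := ndS (p := 57841) (l := 0) rfl N57841 D197667
theorem N94630 : nd 94630 = n197668 := ndS (p := 57841) (l := 4) rfl N57841 D197668
theorem N94631 : nd 94631 = n197669 := ndS (p := 57841) (l := 7) rfl N57841 D197669
theorem N94632 : nd 94632 = n197670 := ndS (p := 57842) (l := 0) rfl N57842 D197670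
theorem N94633 : nd 94633 = n197671 := ndS (p := 57842) (l := 7) rfl N57842 D197671
theorem N94634 : nd 94634 = n197672 := ndS (p := 57844) (l := 4) rfl N57844 D197672
theorem N94635 : nd 94635 = n197673 := ndS (p := 57844) (l := 6) rfl N57844 D197673
theorem N94636 : nd 94636 = n197674 := ndS (p := 57845) (l := 4) rfl N57845 D197674
theorem N94637 : nd 94637 = n197675 := ndS (p := 57845) (l := 6) rfl N57845 D197675
theorem N94638 : nd 94638 = n197676 := ndS (p := 57846) (l := 4) rfl N57846 D197676
theorem N94639 : nd 94639 = n197677 := ndS (p := 57847) (l := 0) rfl N57847 D197677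
theorem N94640 : nd 94640 = n197678 := ndS (p := 57847) (l := 1) rfl N57847 D197678
theorem N94641 : nd 94641 = n197679 := ndS (p := 57847) (l := 3) rfl N57847 D197679
theorem N94642 : nd 94642 = n197680 := ndS (p := 57847) (l := 5) rfl N57847 D197680
theorem N94643 : nd 94643 = n197681 := ndS (p := 57847) (l := 7) rfl N57847 D197681
theorem N94644 : nd 94644 = n197682 := ndS (p := 57848) (l := 6) rfl N57848 D197682
theorem N94645 : nd 94645 = n197683 := ndS (p := 57849) (l := 0) rfl N57849 D197683
theorem N94646 : nd 94646 = n197684 := ndS (p := 57849) (l := 1) rfl N57849 D197684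
theorem N94647 : nd 94647 = n197685 := ndS (p := 57849) (l := 5) rfl N57849 D197685
theorem N94648 : nd 94648 = n197686 := ndS (p := 57850) (l := 2) rfl N57850 D197686
theorem N94649 : nd 94649 = n197687 := ndS (p := 57850) (l := 6) rfl N57850 D197687
theorem N94650 : nd 94650 = n197688 := ndS (p := 57851) (l := 0) rfl N57851 D197688
theorem N94651 : nd 94651 = n197689 := ndS (p := 57851) (l := 1) rfl N57851 D197689
theorem N94652 : nd 94652 = n197690 := ndS (p := 57852) (l := 6) rfl N57852 D197690
theorem N94653 : nd 94653 = n197691 := ndS (p := 57854) (l := 0) rfl N57854 D197691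
theorem N94654 : nd 94654 = n197692 := ndS (p := 57854) (l := 1) rfl N57854 D197692
theorem N94655 : nd 94655 = n197693 := ndS (p := 57854) (l := 2) rfl N57854 D197693
theorem N94656 : nd 94656 = n197694 := ndS (p := 57854) (l := 6) rfl N57854 D197694
theorem N94657 : nd 94657 = n197695 := ndS (p := 57855) (l := 0) rfl N57855 D197695
theorem N94658 : nd 94658 = n197696 := ndS (p := 57855) (l := 5) rfl N57855 D197696
theorem N94659 : nd 94659 = n197697 := ndS (p := 57855) (l := 7) rfl N57855 D197697
theorem N94660 : nd 94660 = n197698 := ndS (p := 57856) (l := 5) rfl N57856 D197698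
theorem N94661 : nd 94661 = n197699 := ndS (p := 57858) (l := 6) rfl N57858 D197699
theorem N94662 : nd 94662 = n197700 := ndS (p := 57859) (l := 5) rfl N57859 D197700
theorem N94663 : nd 94663 = n197701 := ndS (p := 57860) (l := 4) rfl N57860 D197701
theorem N94664 : nd 94664 = n197702 := ndS (p := 57863) (l := 6) rfl N57863 D197702
theorem N94665 : nd 94665 = n197703 := ndS (p := 57865) (l := 2) rfl N57865 D197703
theorem N94666 : nd 94666 = n197704 := ndS (p := 57866) (l := 5) rfl N57866 D197704
theorem N94667 : nd 94667 = n197705 := ndS (p := 57867) (l := 6) rfl N57867 D197705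
theorem N94668 : nd 94668 = n197706 := ndS (p := 57869) (l := 0) rfl N57869 D197706
theorem N94669 : nd 94669 = n197707 := ndS (p := 57869) (l := 1) rfl N57869 D197707
theorem N94670 : nd 94670 = n197708 := ndS (p := 57870) (l := 3) rfl N57870 D197708
theorem N94671 : nd 94671 = n197709 := ndS (p := 57870) (l := 6) rfl N57870 D197709
theorem N94672 : nd 94672 = n197710 := ndS (p := 57872) (l := 5) rfl N57872 D197710
theorem N94673 : nd 94673 = n197711 := ndS (p := 57873) (l := 1) rfl N57873 D197711
theorem N94674 : nd 94674 = n197712 := ndS (p := 57873) (l := 4) rfl N57873 D197712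
theorem N94675 : nd 94675 = n197713 := ndS (p := 57873) (l := 6) rfl N57873 D197713
theorem N94676 : nd 94676 = n197714 := ndS (p := 57875) (l := 5) rfl N57875 D197714
theorem N94677 : nd 94677 = n197715 := ndS (p := 57875) (l := 7) rfl N57875 D197715
theorem N94678 : nd 94678 = n197716 := ndS (p := 57876) (l := 3) rfl N57876 D197716
theorem N94679 : nd 94679 = n197717 := ndS (p := 57876) (l := 5) rfl N57876 D197717
theorem N94680 : nd 94680 = n197718 := ndS (p := 57877) (l := 5) rfl N57877 D197718
theorem N94681 : nd 94681 = n197719 := ndS (p := 57878) (l := 4) rfl N57878 D197719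
theorem N94682 : nd 94682 = n197720 := ndS (p := 57878) (l := 7) rfl N57878 D197720
theorem N94683 : nd 94683 = n197721 := ndS (p := 57880) (l := 5) rfl N57880 D197721
theorem N94684 : nd 94684 = n197722 := ndS (p := 57882) (l := 4) rfl N57882 D197722
theorem N94685 : nd 94685 = n197723 := ndS (p := 57882) (l := 6) rfl N57882 D197723
theorem N94686 : nd 94686 = n197724 := ndS (p := 57883) (l := 3) rfl N57883 D197724
theorem N94687 : nd 94687 = n197725 := ndS (p := 57883) (l := 6) rfl N57883 D197725
theorem N94688 : nd 94688 = n197726 := ndS (p := 57884) (l := 5) rfl N57884 D197726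
theorem N94689 : nd 94689 = n197727 := ndS (p := 57884) (l := 6) rfl N57884 D197727
theorem N94690 : nd 94690 = n197728 := ndS (p := 57885) (l := 0) rfl N57885 D197728
theorem N94691 : nd 94691 = n197729 := ndS (p := 57885) (l := 4) rfl N57885 D197729
theorem N94692 : nd 94692 = n197730 := ndS (p := 57885) (l := 6) rfl N57885 D197730
theorem N94693 : nd 94693 = n197731 := ndS (p := 57886) (l := 7) rfl N57886 D197731
theorem N94694 : nd 94694 = n197732 := ndS (p := 57887) (l := 5) rfl N57887 D197732
theorem N94695 : nd 94695 = n197733 := ndS (p := 57888) (l := 1) rfl N57888 D197733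
theorem N94696 : nd 94696 = n197734 := ndS (p := 57888) (l := 4) rfl N57888 D197734
theorem N94697 : nd 94697 = n197735 := ndS (p := 57888) (l := 7) rfl N57888 D197735
theorem N94698 : nd 94698 = n197736 := ndS (p := 57890) (l := 3) rfl N57890 D197736
theorem N94699 : nd 94699 = n197737 := ndS (p := 57890) (l := 5) rfl N57890 D197737
theorem N94700 : nd 94700 = n197738 := ndS (p := 57892) (l := 3) rfl N57892 D197738
theorem N94701 : nd 94701 = n197739 := ndS (p := 57892) (l := 6) rfl N57892 D197739
theorem N94702 : nd 94702 = n197740 := ndS (p := 57894) (l := 5) rfl N57894 D197740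
theorem N94703 : nd 94703 = n197741 := ndS (p := 57895) (l := 6) rfl N57895 D197741
theorem N94704 : nd 94704 = n197742 := ndS (p := 57896) (l := 5) rfl N57896 D197742
theorem N94705 : nd 94705 = n197745 := ndS (p := 57897) (l := 5) rfl N57897 D197745
theorem N94706 : nd 94706 = n197746 := ndS (p := 57897) (l := 7) rfl N57897 D197746
theorem N94707 : nd 94707 = n197747 := ndS (p := 57898) (l := 3) rfl N57898 D197747
theorem N94708 : nd 94708 = n197748 := ndS (p := 57898) (l := 5) rfl N57898 D197748
theorem N94709 : nd 94709 = n197749 := ndS (p := 57900) (l := 0) rfl N57900 D197749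
theorem N94710 : nd 94710 = n197750 := ndS (p := 57900) (l := 1) rfl N57900 D197750
theorem N94711 : nd 94711 = n197751 := ndS (p := 57900) (l := 4) rfl N57900 D197751
theorem N94712 : nd 94712 = n197752 := ndS (p := 57900) (l := 7) rfl N57900 D197752
theorem N94713 : nd 94713 = n197753 := ndS (p := 57906) (l := 5) rfl N57906 D197753
theorem N94714 : nd 94714 = n197754 := ndS (p := 57906) (l := 6) rfl N57906 D197754
theorem N94715 : nd 94715 = n197755 := ndS (p := 57907) (l := 4) rfl N57907 D197755
theorem N94716 : nd 94716 = n197756 := ndS (p := 57907) (l := 6) rfl N57907 D197756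
theorem N94717 : nd 94717 = n197757 := ndS (p := 57908) (l := 0) rfl N57908 D197757
theorem N94718 : nd 94718 = n197758 := ndS (p := 57908) (l := 1) rfl N57908 D197758
theorem N94719 : nd 94719 = n197759 := ndS (p := 57908) (l := 5) rfl N57908 D197759
theorem N94720 : nd 94720 = n197760 := ndS (p := 57908) (l := 7) rfl N57908 D197760
theorem N94721 : nd 94721 = n197761 := ndS (p := 57909) (l := 1) rfl N57909 D197761
theorem N94722 : nd 94722 = n197762 := ndS (p := 57910) (l := 6) rfl N57910 D197762
theorem N94723 : nd 94723 = n197763 := ndS (p := 57911) (l := 3) rfl N57911 D197763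
theorem N94724 : nd 94724 = n197764 := ndS (p := 57914) (l := 6) rfl N57914 D197764
theorem N94725 : nd 94725 = n197765 := ndS (p := 57916) (l := 3) rfl N57916 D197765
theorem N94726 : nd 94726 = n197766 := ndS (p := 57916) (l := 4) rfl N57916 D197766
theorem N94727 : nd 94727 = n197767 := ndS (p := 57916) (l := 6) rfl N57916 D197767
theorem N94728 : nd 94728 = n197768 := ndS (p := 57917) (l := 5) rfl N57917 D197768
theorem N94729 : nd 94729 = n197769 := ndS (p := 57918) (l := 5) rfl N57918 D197769
theorem N94730 : nd 94730 = n197770 := ndS (p := 57919) (l := 4) rfl N57919 D197770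
theorem N94731 : nd 94731 = n197771 := ndS (p := 57920) (l := 0) rfl N57920 D197771
theorem N94732 : nd 94732 = n197772 := ndS (p := 57920) (l := 1) rfl N57920 D197772
theorem N94733 : nd 94733 = n197773 := ndS (p := 57921) (l := 0) rfl N57921 D197773
theorem N94734 : nd 94734 = n197774 := ndS (p := 57922) (l := 1) rfl N57922 D197774
theorem N94735 : nd 94735 = n197775 := ndS (p := 57922) (l := 4) rfl N57922 D197775
theorem N94736 : nd 94736 = n197777 := ndS (p := 57924) (l := 3) rfl N57924 D197777
theorem N94737 : nd 94737 = n197778 := ndS (p := 57924) (l := 4) rfl N57924 D197778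
theorem N94738 : nd 94738 = n197779 := ndS (p := 57924) (l := 5) rfl N57924 D197779
theorem N94739 : nd 94739 = n197780 := ndS (p := 57925) (l := 3) rfl N57925 D197780
theorem N94740 : nd 94740 = n197781 := ndS (p := 57925) (l := 4) rfl N57925 D197781
theorem N94741 : nd 94741 = n197782 := ndS (p := 57925) (l := 5) rfl N57925 D197782
theorem N94742 : nd 94742 = n197783 := ndS (p := 57925) (l := 6) rfl N57925 D197783
theorem N94743 : nd 94743 = n197784 := ndS (p := 57927) (l := 0) rfl N57927 D197784
theorem N94744 : nd 94744 = n197785 := ndS (p := 57927) (l := 1) rfl N57927 D197785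
theorem N94745 : nd 94745 = n197786 := ndS (p := 57927) (l := 7) rfl N57927 D197786
theorem N94746 : nd 94746 = n197787 := ndS (p := 57930) (l := 3) rfl N57930 D197787
theorem N94747 : nd 94747 = n197788 := ndS (p := 57930) (l := 5) rfl N57930 D197788
theorem N94748 : nd 94748 = n197789 := ndS (p := 57930) (l := 6) rfl N57930 D197789
theorem N94749 : nd 94749 = n197790 := ndS (p := 57931) (l := 1) rfl N57931 D197790
theorem N94750 : nd 94750 = n197791 := ndS (p := 57931) (l := 2) rfl N57931 D197791
theorem N94751 : nd 94751 = n197792 := ndS (p := 57931) (l := 5) rfl N57931 D197792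
theorem N94752 : nd 94752 = n197793 := ndS (p := 57931) (l := 6) rfl N57931 D197793
theorem N94753 : nd 94753 = n197794 := ndS (p := 57931) (l := 7) rfl N57931 D197794
theorem N94754 : nd 94754 = n197795 := ndS (p := 57932) (l := 3) rfl N57932 D197795
theorem N94755 : nd 94755 = n197796 := ndS (p := 57932) (l := 5) rfl N57932 D197796
theorem N94756 : nd 94756 = n197797 := ndS (p := 57932) (l := 6) rfl N57932 D197797
theorem N94757 : nd 94757 = n197798 := ndS (p := 57933) (l := 0) rfl N57933 D197798
theorem N94758 : nd 94758 = n197799 := ndS (p := 57936) (l := 0) rfl N57936 D197799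
theorem N94759 : nd 94759 = n197800 := ndS (p := 57936) (l := 5) rfl N57936 D197800
theorem N94760 : nd 94760 = n197801 := ndS (p := 57936) (l := 6) rfl N57936 D197801
theorem N94761 : nd 94761 = n197802 := ndS (p := 57937) (l := 5) rfl N57937 D197802
theorem N94762 : nd 94762 = n197803 := ndS (p := 57937) (l := 6) rfl N57937 D197803
theorem N94763 : nd 94763 = n197804 := ndS (p := 57940) (l := 4) rfl N57940 D197804
theorem N94764 : nd 94764 = n197805 := ndS (p := 57940) (l := 6) rfl N57940 D197805
theorem N94765 : nd 94765 = n197807 := ndS (p := 57941) (l := 3) rfl N57941 D197807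
theorem N94766 : nd 94766 = n197808 := ndS (p := 57941) (l := 4) rfl N57941 D197808
theorem N94767 : nd 94767 = n197809 := ndS (p := 57941) (l := 6) rfl N57941 D197809
theorem N94768 : nd 94768 = n197811 := ndS (p := 57942) (l := 3) rfl N57942 D197811
theorem N94769 : nd 94769 = n197812 := ndS (p := 57942) (l := 4) rfl N57942 D197812
theorem N94770 : nd 94770 = n197813 := ndS (p := 57942) (l := 6) rfl N57942 D197813
theorem N94771 : nd 94771 = n197814 := ndS (p := 57943) (l := 0) rfl N57943 D197814
theorem N94772 : nd 94772 = n197815 := ndS (p := 57943) (l := 1) rfl N57943 D197815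
theorem N94773 : nd 94773 = n197816 := ndS (p := 57943) (l := 5) rfl N57943 D197816
theorem N94774 : nd 94774 = n197817 := ndS (p := 57944) (l := 0) rfl N57944 D197817
theorem N94775 : nd 94775 = n197818 := ndS (p := 57945) (l := 2) rfl N57945 D197818
theorem N94776 : nd 94776 = n197819 := ndS (p := 57945) (l := 6) rfl N57945 D197819
theorem N94777 : nd 94777 = n197820 := ndS (p := 57946) (l := 5) rfl N57946 D197820
theorem N94778 : nd 94778 = n197821 := ndS (p := 57946) (l := 7) rfl N57946 D197821
theorem N94779 : nd 94779 = n197822 := ndS (p := 57949) (l := 3) rfl N57949 D197822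
theorem N94780 : nd 94780 = n197823 := ndS (p := 57949) (l := 5) rfl N57949 D197823
theorem N94781 : nd 94781 = n197824 := ndS (p := 57951) (l := 0) rfl N57951 D197824
theorem N94782 : nd 94782 = n197825 := ndS (p := 57951) (l := 1) rfl N57951 D197825
theorem N94783 : nd 94783 = n197826 := ndS (p := 57951) (l := 2) rfl N57951 D197826
theorem N94784 : nd 94784 = n197828 := ndS (p := 57952) (l := 4) rfl N57952 D197828
theorem N94785 : nd 94785 = n197830 := ndS (p := 57953) (l := 3) rfl N57953 D197830
theorem N94786 : nd 94786 = n197831 := ndS (p := 57953) (l := 4) rfl N57953 D197831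
theorem N94787 : nd 94787 = n197832 := ndS (p := 57954) (l := 5) rfl N57954 D197832
theorem N94788 : nd 94788 = n197833 := ndS (p := 57955) (l := 0) rfl N57955 D197833
theorem N94789 : nd 94789 = n197834 := ndS (p := 57955) (l := 1) rfl N57955 D197834
theorem N94790 : nd 94790 = n197835 := ndS (p := 57955) (l := 4) rfl N57955 D197835
theorem N94791 : nd 94791 = n197836 := ndS (p := 57955) (l := 6) rfl N57955 D197836
theorem N94792 : nd 94792 = n197837 := ndS (p := 57956) (l := 0) rfl N57956 D197837
theorem N94793 : nd 94793 = n197838 := ndS (p := 57956) (l := 1) rfl N57956 D197838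
theorem N94794 : nd 94794 = n197839 := ndS (p := 57957) (l := 0) rfl N57957 D197839
theorem N94795 : nd 94795 = n197840 := ndS (p := 57957) (l := 1) rfl N57957 D197840
theorem N94796 : nd 94796 = n197841 := ndS (p := 57957) (l := 7) rfl N57957 D197841
theorem N94797 : nd 94797 = n197842 := ndS (p := 57962) (l := 7) rfl N57962 D197842
theorem N94798 : nd 94798 = n197843 := ndS (p := 57964) (l := 5) rfl N57964 D197843
theorem N94799 : nd 94799 = n197845 := ndS (p := 57966) (l := 4) rfl N57966 D197845
theorem N94800 : nd 94800 = n197846 := ndS (p := 57966) (l := 5) rfl N57966 D197846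
theorem N94801 : nd 94801 = n197847 := ndS (p := 57966) (l := 6) rfl N57966 D197847
theorem N94802 : nd 94802 = n197848 := ndS (p := 57967) (l := 3) rfl N57967 D197848
theorem N94803 : nd 94803 = n197849 := ndS (p := 57967) (l := 4) rfl N57967 D197849
theorem N94804 : nd 94804 = n197850 := ndS (p := 57967) (l := 5) rfl N57967 D197850
theorem N94805 : nd 94805 = n197851 := ndS (p := 57967) (l := 6) rfl N57967 D197851
theorem N94806 : nd 94806 = n197852 := ndS (p := 57969) (l := 5) rfl N57969 D197852
theorem N94807 : nd 94807 = n197853 := ndS (p := 57970) (l := 7) rfl N57970 D197853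
theorem N94808 : nd 94808 = n197854 := ndS (p := 57973) (l := 6) rfl N57973 D197854
theorem N94809 : nd 94809 = n197855 := ndS (p := 57975) (l := 3) rfl N57975 D197855
theorem N94810 : nd 94810 = n197856 := ndS (p := 57975) (l := 4) rfl N57975 D197856
theorem N94811 : nd 94811 = n197857 := ndS (p := 57975) (l := 6) rfl N57975 D197857
theorem N94812 : nd 94812 = n197858 := ndS (p := 57976) (l := 4) rfl N57976 D197858
theorem N94813 : nd 94813 = n197859 := ndS (p := 57980) (l := 3) rfl N57980 D197859
theorem N94814 : nd 94814 = n197860 := ndS (p := 57984) (l := 3) rfl N57984 D197860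
theorem N94815 : nd 94815 = n197861 := ndS (p := 57985) (l := 3) rfl N57985 D197861
theorem N94816 : nd 94816 = n197862 := ndS (p := 57986) (l := 3) rfl N57986 D197862
theorem N94817 : nd 94817 = n197863 := ndS (p := 57987) (l := 4) rfl N57987 D197863
theorem N94818 : nd 94818 = n197864 := ndS (p := 57988) (l := 3) rfl N57988 D197864
theorem N94819 : nd 94819 = n197865 := ndS (p := 57988) (l := 5) rfl N57988 D197865
theorem N94820 : nd 94820 = n197866 := ndS (p := 57988) (l := 6) rfl N57988 D197866
theorem N94821 : nd 94821 = n197867 := ndS (p := 57989) (l := 3) rfl N57989 D197867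
theorem N94822 : nd 94822 = n197868 := ndS (p := 57989) (l := 5) rfl N57989 D197868
theorem N94823 : nd 94823 = n197869 := ndS (p := 57989) (l := 6) rfl N57989 D197869
theorem N94824 : nd 94824 = n197870 := ndS (p := 57990) (l := 5) rfl N57990 D197870
theorem N94825 : nd 94825 = n197871 := ndS (p := 57991) (l := 0) rfl N57991 D197871
theorem N94826 : nd 94826 = n197872 := ndS (p := 57993) (l := 5) rfl N57993 D197872
theorem N94827 : nd 94827 = n197873 := ndS (p := 57994) (l := 3) rfl N57994 D197873
theorem N94828 : nd 94828 = n197874 := ndS (p := 57994) (l := 5) rfl N57994 D197874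
theorem N94829 : nd 94829 = n197875 := ndS (p := 57995) (l := 5) rfl N57995 D197875
theorem N94830 : nd 94830 = n197876 := ndS (p := 57995) (l := 6) rfl N57995 D197876
theorem N94831 : nd 94831 = n197877 := ndS (p := 57996) (l := 1) rfl N57996 D197877
theorem N94832 : nd 94832 = n197878 := ndS (p := 57996) (l := 4) rfl N57996 D197878
theorem N94833 : nd 94833 = n197879 := ndS (p := 57997) (l := 0) rfl N57997 D197879
theorem N94834 : nd 94834 = n197880 := ndS (p := 57997) (l := 1) rfl N57997 D197880
theorem N94835 : nd 94835 = n197882 := ndS (p := 57998) (l := 1) rfl N57998 D197882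
theorem N94836 : nd 94836 = n197883 := ndS (p := 57998) (l := 5) rfl N57998 D197883
theorem N94837 : nd 94837 = n197884 := ndS (p := 57998) (l := 6) rfl N57998 D197884
theorem N94838 : nd 94838 = n197885 := ndS (p := 57999) (l := 1) rfl N57999 D197885
theorem N94839 : nd 94839 = n197886 := ndS (p := 57999) (l := 3) rfl N57999 D197886
theorem N94840 : nd 94840 = n197887 := ndS (p := 57999) (l := 5) rfl N57999 D197887
theorem N94841 : nd 94841 = n197888 := ndS (p := 57999) (l := 6) rfl N57999 D197888
theorem N94842 : nd 94842 = n197889 := ndS (p := 58000) (l := 6) rfl N58000 D197889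
theorem N94843 : nd 94843 = n197890 := ndS (p := 58001) (l := 0) rfl N58001 D197890
theorem N94844 : nd 94844 = n197892 := ndS (p := 58001) (l := 5) rfl N58001 D197892
theorem N94845 : nd 94845 = n197893 := ndS (p := 58001) (l := 7) rfl N58001 D197893
theorem N94846 : nd 94846 = n197894 := ndS (p := 58002) (l := 0) rfl N58002 D197894
theorem N94847 : nd 94847 = n197896 := ndS (p := 58002) (l := 2) rfl N58002 D197896
theorem N94848 : nd 94848 = n197897 := ndS (p := 58002) (l := 4) rfl N58002 D197897
theorem N94849 : nd 94849 = n197899 := ndS (p := 58002) (l := 6) rfl N58002 D197899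
theorem N94850 : nd 94850 = n197900 := ndS (p := 58003) (l := 5) rfl N58003 D197900
theorem N94851 : nd 94851 = n197901 := ndS (p := 58003) (l := 6) rfl N58003 D197901
theorem N94852 : nd 94852 = n197902 := ndS (p := 58004) (l := 4) rfl N58004 D197902
theorem N94853 : nd 94853 = n197903 := ndS (p := 58005) (l := 1) rfl N58005 D197903
theorem N94854 : nd 94854 = n197904 := ndS (p := 58005) (l := 5) rfl N58005 D197904
theorem N94855 : nd 94855 = n197905 := ndS (p := 58005) (l := 7) rfl N58005 D197905
theorem N94856 : nd 94856 = n197906 := ndS (p := 58006) (l := 4) rfl N58006 D197906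
theorem N94857 : nd 94857 = n197907 := ndS (p := 58006) (l := 6) rfl N58006 D197907
theorem N94858 : nd 94858 = n197908 := ndS (p := 58007) (l := 0) rfl N58007 D197908
theorem N94859 : nd 94859 = n197909 := ndS (p := 58007) (l := 5) rfl N58007 D197909
theorem N94860 : nd 94860 = n197910 := ndS (p := 58007) (l := 7) rfl N58007 D197910
theorem N94861 : nd 94861 = n197911 := ndS (p := 58009) (l := 3) rfl N58009 D197911
theorem N94862 : nd 94862 = n197912 := ndS (p := 58009) (l := 4) rfl N58009 D197912
theorem N94863 : nd 94863 = n197913 := ndS (p := 58009) (l := 6) rfl N58009 D197913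
theorem N94864 : nd 94864 = n197915 := ndS (p := 58010) (l := 1) rfl N58010 D197915
theorem N94865 : nd 94865 = n197916 := ndS (p := 58010) (l := 6) rfl N58010 D197916
theorem N94866 : nd 94866 = n197917 := ndS (p := 58011) (l := 0) rfl N58011 D197917
theorem N94867 : nd 94867 = n197918 := ndS (p := 58011) (l := 1) rfl N58011 D197918
theorem N94868 : nd 94868 = n197919 := ndS (p := 58011) (l := 5) rfl N58011 D197919
theorem N94869 : nd 94869 = n197920 := ndS (p := 58011) (l := 7) rfl N58011 D197920
theorem N94870 : nd 94870 = n197921 := ndS (p := 58012) (l := 3) rfl N58012 D197921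
theorem N94871 : nd 94871 = n197922 := ndS (p := 58012) (l := 5) rfl N58012 D197922
theorem N94872 : nd 94872 = n197923 := ndS (p := 58013) (l := 5) rfl N58013 D197923
theorem N94873 : nd 94873 = n197924 := ndS (p := 58014) (l := 1) rfl N58014 D197924
theorem N94874 : nd 94874 = n197925 := ndS (p := 58014) (l := 7) rfl N58014 D197925
theorem N94875 : nd 94875 = n197927 := ndS (p := 58018) (l := 2) rfl N58018 D197927
theorem N94876 : nd 94876 = n197928 := ndS (p := 58020) (l := 3) rfl N58020 D197928
theorem N94877 : nd 94877 = n197929 := ndS (p := 58020) (l := 5) rfl N58020 D197929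
theorem N94878 : nd 94878 = n197930 := ndS (p := 58021) (l := 3) rfl N58021 D197930
theorem N94879 : nd 94879 = n197931 := ndS (p := 58022) (l := 0) rfl N58022 D197931
theorem N94880 : nd 94880 = n197932 := ndS (p := 58022) (l := 1) rfl N58022 D197932
theorem N94881 : nd 94881 = n197933 := ndS (p := 58022) (l := 4) rfl N58022 D197933
theorem N94882 : nd 94882 = n197934 := ndS (p := 58022) (l := 7) rfl N58022 D197934
theorem N94883 : nd 94883 = n197935 := ndS (p := 58024) (l := 0) rfl N58024 D197935
theorem N94884 : nd 94884 = n197937 := ndS (p := 58024) (l := 5) rfl N58024 D197937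
theorem N94885 : nd 94885 = n197938 := ndS (p := 58025) (l := 4) rfl N58025 D197938
theorem N94886 : nd 94886 = n197939 := ndS (p := 58026) (l := 1) rfl N58026 D197939
theorem N94887 : nd 94887 = n197940 := ndS (p := 58026) (l := 2) rfl N58026 D197940
theorem N94888 : nd 94888 = n197941 := ndS (p := 58026) (l := 4) rfl N58026 D197941
theorem N94889 : nd 94889 = n197942 := ndS (p := 58026) (l := 5) rfl N58026 D197942
theorem N94890 : nd 94890 = n197943 := ndS (p := 58026) (l := 6) rfl N58026 D197943
theorem N94891 : nd 94891 = n197944 := ndS (p := 58027) (l := 4) rfl N58027 D197944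
theorem N94892 : nd 94892 = n197945 := ndS (p := 58027) (l := 6) rfl N58027 D197945
theorem N94893 : nd 94893 = n197946 := ndS (p := 58028) (l := 5) rfl N58028 D197946
theorem N94894 : nd 94894 = n197947 := ndS (p := 58029) (l := 3) rfl N58029 D197947
theorem N94895 : nd 94895 = n197948 := ndS (p := 58029) (l := 4) rfl N58029 D197948
theorem N94896 : nd 94896 = n197949 := ndS (p := 58030) (l := 3) rfl N58030 D197949
theorem N94897 : nd 94897 = n197950 := ndS (p := 58030) (l := 4) rfl N58030 D197950
theorem N94898 : nd 94898 = n197951 := ndS (p := 58030) (l := 6) rfl N58030 D197951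
theorem N94899 : nd 94899 = n197952 := ndS (p := 58031) (l := 0) rfl N58031 D197952
theorem N94900 : nd 94900 = n197953 := ndS (p := 58031) (l := 1) rfl N58031 D197953
theorem N94901 : nd 94901 = n197954 := ndS (p := 58031) (l := 3) rfl N58031 D197954
theorem N94902 : nd 94902 = n197955 := ndS (p := 58031) (l := 5) rfl N58031 D197955
theorem N94903 : nd 94903 = n197956 := ndS (p := 58031) (l := 7) rfl N58031 D197956
theorem N94904 : nd 94904 = n197957 := ndS (p := 58032) (l := 6) rfl N58032 D197957
theorem N94905 : nd 94905 = n197958 := ndS (p := 58033) (l := 3) rfl N58033 D197958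
theorem N94906 : nd 94906 = n197959 := ndS (p := 58033) (l := 5) rfl N58033 D197959
theorem N94907 : nd 94907 = n197960 := ndS (p := 58034) (l := 5) rfl N58034 D197960
theorem N94908 : nd 94908 = n197961 := ndS (p := 58036) (l := 5) rfl N58036 D197961
theorem N94909 : nd 94909 = n197962 := ndS (p := 58038) (l := 4) rfl N58038 D197962
theorem N94910 : nd 94910 = n197963 := ndS (p := 58038) (l := 6) rfl N58038 D197963
theorem N94911 : nd 94911 = n197964 := ndS (p := 58042) (l := 3) rfl N58042 D197964
theorem N94912 : nd 94912 = n197965 := ndS (p := 58042) (l := 6) rfl N58042 D197965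
theorem N94913 : nd 94913 = n197966 := ndS (p := 58043) (l := 3) rfl N58043 D197966
theorem N94914 : nd 94914 = n197967 := ndS (p := 58044) (l := 0) rfl N58044 D197967
theorem N94915 : nd 94915 = n197968 := ndS (p := 58045) (l := 0) rfl N58045 D197968
theorem N94916 : nd 94916 = n197969 := ndS (p := 58045) (l := 4) rfl N58045 D197969
theorem N94917 : nd 94917 = n197970 := ndS (p := 58047) (l := 6) rfl N58047 D197970
theorem N94918 : nd 94918 = n197971 := ndS (p := 58049) (l := 5) rfl N58049 D197971
theorem N94919 : nd 94919 = n197972 := ndS (p := 58051) (l := 3) rfl N58051 D197972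
theorem N94920 : nd 94920 = n197973 := ndS (p := 58051) (l := 6) rfl N58051 D197973
theorem N94921 : nd 94921 = n197974 := ndS (p := 58053) (l := 7) rfl N58053 D197974
theorem N94922 : nd 94922 = n197975 := ndS (p := 58055) (l := 5) rfl N58055 D197975
theorem N94923 : nd 94923 = n197976 := ndS (p := 58057) (l := 1) rfl N58057 D197976
theorem N94924 : nd 94924 = n197977 := ndS (p := 58058) (l := 5) rfl N58058 D197977
theorem N94925 : nd 94925 = n197978 := ndS (p := 58062) (l := 4) rfl N58062 D197978
theorem N94926 : nd 94926 = n197979 := ndS (p := 58063) (l := 4) rfl N58063 D197979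
theorem N94927 : nd 94927 = n197980 := ndS (p := 58063) (l := 6) rfl N58063 D197980
theorem N94928 : nd 94928 = n197981 := ndS (p := 58066) (l := 0) rfl N58066 D197981
theorem N94929 : nd 94929 = n197982 := ndS (p := 58066) (l := 1) rfl N58066 D197982
theorem N94930 : nd 94930 = n197983 := ndS (p := 58066) (l := 7) rfl N58066 D197983
theorem N94931 : nd 94931 = n197984 := ndS (p := 58067) (l := 1) rfl N58067 D197984
theorem N94932 : nd 94932 = n197985 := ndS (p := 58067) (l := 5) rfl N58067 D197985
theorem N94933 : nd 94933 = n197986 := ndS (p := 58069) (l := 0) rfl N58069 D197986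
theorem N94934 : nd 94934 = n197987 := ndS (p := 58069) (l := 1) rfl N58069 D197987
theorem N94935 : nd 94935 = n197988 := ndS (p := 58069) (l := 4) rfl N58069 D197988
theorem N94936 : nd 94936 = n197989 := ndS (p := 58069) (l := 7) rfl N58069 D197989
theorem N94937 : nd 94937 = n197990 := ndS (p := 58073) (l := 2) rfl N58073 D197990
theorem N94938 : nd 94938 = n197991 := ndS (p := 58073) (l := 6) rfl N58073 D197991
theorem N94939 : nd 94939 = n197992 := ndS (p := 58074) (l := 5) rfl N58074 D197992
theorem N94940 : nd 94940 = n197993 := ndS (p := 58075) (l := 6) rfl N58075 D197993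
theorem N94941 : nd 94941 = n197994 := ndS (p := 58076) (l := 3) rfl N58076 D197994
theorem N94942 : nd 94942 = n197995 := ndS (p := 58079) (l := 0) rfl N58079 D197995
theorem N94943 : nd 94943 = n197996 := ndS (p := 58079) (l := 1) rfl N58079 D197996
theorem N94944 : nd 94944 = n197997 := ndS (p := 58079) (l := 4) rfl N58079 D197997
theorem N94945 : nd 94945 = n197998 := ndS (p := 58079) (l := 7) rfl N58079 D197998
theorem N94946 : nd 94946 = n197999 := ndS (p := 58084) (l := 3) rfl N58084 D197999
theorem N94947 : nd 94947 = n198000 := ndS (p := 58086) (l := 0) rfl N58086 D198000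
theorem N94948 : nd 94948 = n198001 := ndS (p := 58086) (l := 1) rfl N58086 D198001
theorem N94949 : nd 94949 = n198002 := ndS (p := 58086) (l := 2) rfl N58086 D198002
theorem N94950 : nd 94950 = n198003 := ndS (p := 58087) (l := 1) rfl N58087 D198003
theorem N94951 : nd 94951 = n198004 := ndS (p := 58087) (l := 2) rfl N58087 D198004
theorem N94952 : nd 94952 = n198005 := ndS (p := 58087) (l := 4) rfl N58087 D198005
theorem N94953 : nd 94953 = n198006 := ndS (p := 58087) (l := 6) rfl N58087 D198006
theorem N94954 : nd 94954 = n198007 := ndS (p := 58088) (l := 6) rfl N58088 D198007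
theorem N94955 : nd 94955 = n198008 := ndS (p := 58089) (l := 4) rfl N58089 D198008
theorem N94956 : nd 94956 = n198009 := ndS (p := 58093) (l := 4) rfl N58093 D198009
theorem N94957 : nd 94957 = n198010 := ndS (p := 58093) (l := 6) rfl N58093 D198010
theorem N94958 : nd 94958 = n198011 := ndS (p := 58094) (l := 1) rfl N58094 D198011
theorem N94959 : nd 94959 = n198012 := ndS (p := 58094) (l := 5) rfl N58094 D198012
theorem N94960 : nd 94960 = n198013 := ndS (p := 58095) (l := 4) rfl N58095 D198013
theorem N94961 : nd 94961 = n198014 := ndS (p := 58096) (l := 5) rfl N58096 D198014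
theorem N94962 : nd 94962 = n198015 := ndS (p := 58096) (l := 7) rfl N58096 D198015
theorem N94963 : nd 94963 = n198016 := ndS (p := 58097) (l := 3) rfl N58097 D198016
theorem N94964 : nd 94964 = n198017 := ndS (p := 58097) (l := 6) rfl N58097 D198017
theorem N94965 : nd 94965 = n198018 := ndS (p := 58098) (l := 6) rfl N58098 D198018
theorem N94966 : nd 94966 = n198019 := ndS (p := 58099) (l := 0) rfl N58099 D198019
theorem N94967 : nd 94967 = n198020 := ndS (p := 58099) (l := 6) rfl N58099 D198020
theorem N94968 : nd 94968 = n198021 := ndS (p := 58101) (l := 3) rfl N58101 D198021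
theorem N94969 : nd 94969 = n198022 := ndS (p := 58101) (l := 5) rfl N58101 D198022
theorem N94970 : nd 94970 = n198023 := ndS (p := 58101) (l := 6) rfl N58101 D198023
theorem N94971 : nd 94971 = n198024 := ndS (p := 58103) (l := 7) rfl N58103 D198024
theorem N94972 : nd 94972 = n198025 := ndS (p := 58106) (l := 1) rfl N58106 D198025
theorem N94973 : nd 94973 = n198026 := ndS (p := 58106) (l := 7) rfl N58106 D198026
theorem N94974 : nd 94974 = n198027 := ndS (p := 58108) (l := 2) rfl N58108 D198027
theorem N94975 : nd 94975 = n198028 := ndS (p := 58108) (l := 5) rfl N58108 D198028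
theorem N94976 : nd 94976 = n198029 := ndS (p := 58108) (l := 6) rfl N58108 D198029
theorem N94977 : nd 94977 = n198030 := ndS (p := 58109) (l := 0) rfl N58109 D198030
theorem N94978 : nd 94978 = n198031 := ndS (p := 58109) (l := 1) rfl N58109 D198031
theorem N94979 : nd 94979 = n198032 := ndS (p := 58109) (l := 4) rfl N58109 D198032
theorem N94980 : nd 94980 = n198033 := ndS (p := 58109) (l := 6) rfl N58109 D198033
theorem N94981 : nd 94981 = n198035 := ndS (p := 58111) (l := 1) rfl N58111 D198035
theorem N94982 : nd 94982 = n198036 := ndS (p := 58112) (l := 4) rfl N58112 D198036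
theorem N94983 : nd 94983 = n198037 := ndS (p := 58113) (l := 3) rfl N58113 D198037
theorem N94984 : nd 94984 = n198038 := ndS (p := 58113) (l := 4) rfl N58113 D198038
theorem N94985 : nd 94985 = n198039 := ndS (p := 58114) (l := 3) rfl N58114 D198039
theorem N94986 : nd 94986 = n198040 := ndS (p := 58114) (l := 4) rfl N58114 D198040
theorem N94987 : nd 94987 = n198041 := ndS (p := 58114) (l := 6) rfl N58114 D198041
theorem N94988 : nd 94988 = n198042 := ndS (p := 58115) (l := 1) rfl N58115 D198042
theorem N94989 : nd 94989 = n198043 := ndS (p := 58115) (l := 3) rfl N58115 D198043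
theorem N94990 : nd 94990 = n198044 := ndS (p := 58115) (l := 5) rfl N58115 D198044
theorem N94991 : nd 94991 = n198045 := ndS (p := 58115) (l := 7) rfl N58115 D198045
theorem N94992 : nd 94992 = n198046 := ndS (p := 58116) (l := 6) rfl N58116 D198046
theorem N94993 : nd 94993 = n198047 := ndS (p := 58117) (l := 3) rfl N58117 D198047
theorem N94994 : nd 94994 = n198048 := ndS (p := 58117) (l := 5) rfl N58117 D198048
theorem N94995 : nd 94995 = n198049 := ndS (p := 58118) (l := 0) rfl N58118 D198049
theorem N94996 : nd 94996 = n198050 := ndS (p := 58118) (l := 1) rfl N58118 D198050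
theorem N94997 : nd 94997 = n198051 := ndS (p := 58118) (l := 4) rfl N58118 D198051
theorem N94998 : nd 94998 = n198052 := ndS (p := 58119) (l := 1) rfl N58119 D198052
theorem N94999 : nd 94999 = n198053 := ndS (p := 58119) (l := 5) rfl N58119 D198053
theorem N95000 : nd 95000 = n198054 := ndS (p := 58120) (l := 4) rfl N58120 D198054
theorem N95001 : nd 95001 = n198055 := ndS (p := 58120) (l := 6) rfl N58120 D198055
theorem N95002 : nd 95002 = n198056 := ndS (p := 58121) (l := 5) rfl N58121 D198056
theorem N95003 : nd 95003 = n198057 := ndS (p := 58122) (l := 3) rfl N58122 D198057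
theorem N95004 : nd 95004 = n198058 := ndS (p := 58122) (l := 5) rfl N58122 D198058
theorem N95005 : nd 95005 = n198059 := ndS (p := 58123) (l := 3) rfl N58123 D198059
theorem N95006 : nd 95006 = n198060 := ndS (p := 58123) (l := 5) rfl N58123 D198060
theorem N95007 : nd 95007 = n198061 := ndS (p := 58123) (l := 6) rfl N58123 D198061
theorem N95008 : nd 95008 = n198062 := ndS (p := 58125) (l := 0) rfl N58125 D198062
theorem N95009 : nd 95009 = n198063 := ndS (p := 58125) (l := 1) rfl N58125 D198063
theorem N95010 : nd 95010 = n198064 := ndS (p := 58125) (l := 2) rfl N58125 D198064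
theorem N95011 : nd 95011 = n198065 := ndS (p := 58125) (l := 5) rfl N58125 D198065
theorem N95012 : nd 95012 = n198066 := ndS (p := 58125) (l := 7) rfl N58125 D198066
theorem N95013 : nd 95013 = n198067 := ndS (p := 58126) (l := 0) rfl N58126 D198067
theorem N95014 : nd 95014 = n198068 := ndS (p := 58126) (l := 4) rfl N58126 D198068
theorem N95015 : nd 95015 = n198069 := ndS (p := 58126) (l := 6) rfl N58126 D198069
theorem N95016 : nd 95016 = n198070 := ndS (p := 58126) (l := 7) rfl N58126 D198070
theorem N95017 : nd 95017 = n198071 := ndS (p := 58128) (l := 4) rfl N58128 D198071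
theorem N95018 : nd 95018 = n198072 := ndS (p := 58128) (l := 5) rfl N58128 D198072
theorem N95019 : nd 95019 = n198073 := ndS (p := 58129) (l := 5) rfl N58129 D198073
theorem N95020 : nd 95020 = n198074 := ndS (p := 58130) (l := 5) rfl N58130 D198074
theorem N95021 : nd 95021 = n198075 := ndS (p := 58132) (l := 0) rfl N58132 D198075
theorem N95022 : nd 95022 = n198076 := ndS (p := 58132) (l := 7) rfl N58132 D198076
theorem N95023 : nd 95023 = n198077 := ndS (p := 58133) (l := 4) rfl N58133 D198077
theorem N95024 : nd 95024 = n198078 := ndS (p := 58133) (l := 6) rfl N58133 D198078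
theorem N95025 : nd 95025 = n198079 := ndS (p := 58134) (l := 3) rfl N58134 D198079
theorem N95026 : nd 95026 = n198080 := ndS (p := 58135) (l := 5) rfl N58135 D198080
theorem N95027 : nd 95027 = n198081 := ndS (p := 58136) (l := 0) rfl N58136 D198081
theorem N95028 : nd 95028 = n198082 := ndS (p := 58136) (l := 1) rfl N58136 D198082
theorem N95029 : nd 95029 = n198083 := ndS (p := 58136) (l := 6) rfl N58136 D198083
theorem N95030 : nd 95030 = n198084 := ndS (p := 58137) (l := 0) rfl N58137 D198084
theorem N95031 : nd 95031 = n198085 := ndS (p := 58137) (l := 1) rfl N58137 D198085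
theorem N95032 : nd 95032 = n198086 := ndS (p := 58140) (l := 4) rfl N58140 D198086
theorem N95033 : nd 95033 = n198087 := ndS (p := 58141) (l := 4) rfl N58141 D198087
theorem N95034 : nd 95034 = n198088 := ndS (p := 58143) (l := 3) rfl N58143 D198088
theorem N95035 : nd 95035 = n198089 := ndS (p := 58143) (l := 5) rfl N58143 D198089
theorem N95036 : nd 95036 = n198090 := ndS (p := 58143) (l := 6) rfl N58143 D198090
theorem N95037 : nd 95037 = n198091 := ndS (p := 58145) (l := 4) rfl N58145 D198091
theorem N95038 : nd 95038 = n198092 := ndS (p := 58145) (l := 5) rfl N58145 D198092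
theorem N95039 : nd 95039 = n198093 := ndS (p := 58146) (l := 3) rfl N58146 D198093
theorem N95040 : nd 95040 = n198094 := ndS (p := 58146) (l := 4) rfl N58146 D198094
theorem N95041 : nd 95041 = n198095 := ndS (p := 58146) (l := 5) rfl N58146 D198095
theorem N95042 : nd 95042 = n198096 := ndS (p := 58146) (l := 6) rfl N58146 D198096
theorem N95043 : nd 95043 = n198097 := ndS (p := 58149) (l := 5) rfl N58149 D198097
theorem N95044 : nd 95044 = n198098 := ndS (p := 58151) (l := 4) rfl N58151 D198098
theorem N95045 : nd 95045 = n198099 := ndS (p := 58152) (l := 5) rfl N58152 D198099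
theorem N95046 : nd 95046 = n198100 := ndS (p := 58153) (l := 4) rfl N58153 D198100
theorem N95047 : nd 95047 = n198101 := ndS (p := 58153) (l := 6) rfl N58153 D198101
theorem N95048 : nd 95048 = n198103 := ndS (p := 58154) (l := 1) rfl N58154 D198103
theorem N95049 : nd 95049 = n198104 := ndS (p := 58154) (l := 5) rfl N58154 D198104
theorem N95050 : nd 95050 = n198105 := ndS (p := 58154) (l := 7) rfl N58154 D198105
theorem N95051 : nd 95051 = n198106 := ndS (p := 58156) (l := 3) rfl N58156 D198106
theorem N95052 : nd 95052 = n198107 := ndS (p := 58156) (l := 6) rfl N58156 D198107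
theorem N95053 : nd 95053 = n198108 := ndS (p := 58157) (l := 0) rfl N58157 D198108
theorem N95054 : nd 95054 = n198109 := ndS (p := 58157) (l := 1) rfl N58157 D198109
theorem N95055 : nd 95055 = n198110 := ndS (p := 58157) (l := 6) rfl N58157 D198110
theorem N95056 : nd 95056 = n198111 := ndS (p := 58158) (l := 0) rfl N58158 D198111
theorem N95057 : nd 95057 = n198112 := ndS (p := 58158) (l := 5) rfl N58158 D198112
theorem N95058 : nd 95058 = n198113 := ndS (p := 58158) (l := 7) rfl N58158 D198113
theorem N95059 : nd 95059 = n198114 := ndS (p := 58159) (l := 3) rfl N58159 D198114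
theorem N95060 : nd 95060 = n198115 := ndS (p := 58159) (l := 6) rfl N58159 D198115
theorem N95061 : nd 95061 = n198116 := ndS (p := 58160) (l := 6) rfl N58160 D198116
theorem N95062 : nd 95062 = n198117 := ndS (p := 58161) (l := 0) rfl N58161 D198117
theorem N95063 : nd 95063 = n198118 := ndS (p := 58161) (l := 1) rfl N58161 D198118
theorem N95064 : nd 95064 = n198119 := ndS (p := 58163) (l := 2) rfl N58163 D198119
theorem N95065 : nd 95065 = n198120 := ndS (p := 58164) (l := 2) rfl N58164 D198120
theorem N95066 : nd 95066 = n198122 := ndS (p := 58165) (l := 3) rfl N58165 D198122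
theorem N95067 : nd 95067 = n198124 := ndS (p := 58165) (l := 5) rfl N58165 D198124
theorem N95068 : nd 95068 = n198125 := ndS (p := 58165) (l := 6) rfl N58165 D198125
theorem N95069 : nd 95069 = n198127 := ndS (p := 58166) (l := 3) rfl N58166 D198127
theorem N95070 : nd 95070 = n198129 := ndS (p := 58166) (l := 5) rfl N58166 D198129
theorem N95071 : nd 95071 = n198130 := ndS (p := 58167) (l := 0) rfl N58167 D198130
theorem N95072 : nd 95072 = n198131 := ndS (p := 58167) (l := 1) rfl N58167 D198131
theorem N95073 : nd 95073 = n198132 := ndS (p := 58167) (l := 4) rfl N58167 D198132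
theorem N95074 : nd 95074 = n198133 := ndS (p := 58167) (l := 7) rfl N58167 D198133
theorem N95075 : nd 95075 = n198134 := ndS (p := 58169) (l := 0) rfl N58169 D198134
theorem N95076 : nd 95076 = n198135 := ndS (p := 58170) (l := 4) rfl N58170 D198135
theorem N95077 : nd 95077 = n198136 := ndS (p := 58170) (l := 6) rfl N58170 D198136
theorem N95078 : nd 95078 = n198137 := ndS (p := 58171) (l := 1) rfl N58171 D198137
theorem N95079 : nd 95079 = n198138 := ndS (p := 58171) (l := 2) rfl N58171 D198138
theorem N95080 : nd 95080 = n198139 := ndS (p := 58171) (l := 5) rfl N58171 D198139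
theorem N95081 : nd 95081 = n198140 := ndS (p := 58171) (l := 6) rfl N58171 D198140
theorem N95082 : nd 95082 = n198141 := ndS (p := 58172) (l := 4) rfl N58172 D198141
theorem N95083 : nd 95083 = n198142 := ndS (p := 58172) (l := 6) rfl N58172 D198142
theorem N95084 : nd 95084 = n198143 := ndS (p := 58174) (l := 3) rfl N58174 D198143
theorem N95085 : nd 95085 = n198144 := ndS (p := 58174) (l := 4) rfl N58174 D198144
theorem N95086 : nd 95086 = n198145 := ndS (p := 58174) (l := 6) rfl N58174 D198145
theorem N95087 : nd 95087 = n198146 := ndS (p := 58175) (l := 3) rfl N58175 D198146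
theorem N95088 : nd 95088 = n198147 := ndS (p := 58175) (l := 4) rfl N58175 D198147
theorem N95089 : nd 95089 = n198148 := ndS (p := 58175) (l := 6) rfl N58175 D198148
theorem N95090 : nd 95090 = n198149 := ndS (p := 58176) (l := 0) rfl N58176 D198149
theorem N95091 : nd 95091 = n198150 := ndS (p := 58176) (l := 1) rfl N58176 D198150
theorem N95092 : nd 95092 = n198152 := ndS (p := 58176) (l := 5) rfl N58176 D198152
theorem N95093 : nd 95093 = n198153 := ndS (p := 58176) (l := 7) rfl N58176 D198153
theorem N95094 : nd 95094 = n198154 := ndS (p := 58179) (l := 6) rfl N58179 D198154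
theorem N95095 : nd 95095 = n198155 := ndS (p := 58181) (l := 4) rfl N58181 D198155
theorem N95096 : nd 95096 = n198156 := ndS (p := 58182) (l := 0) rfl N58182 D198156
theorem N95097 : nd 95097 = n198157 := ndS (p := 58183) (l := 2) rfl N58183 D198157
theorem N95098 : nd 95098 = n198158 := ndS (p := 58184) (l := 0) rfl N58184 D198158
theorem N95099 : nd 95099 = n198159 := ndS (p := 58184) (l := 4) rfl N58184 D198159
theorem N95100 : nd 95100 = n198160 := ndS (p := 58184) (l := 6) rfl N58184 D198160
theorem N95101 : nd 95101 = n198161 := ndS (p := 58187) (l := 3) rfl N58187 D198161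
theorem N95102 : nd 95102 = n198162 := ndS (p := 58189) (l := 7) rfl N58189 D198162
theorem N95103 : nd 95103 = n198163 := ndS (p := 58190) (l := 6) rfl N58190 D198163
theorem N95104 : nd 95104 = n198164 := ndS (p := 58191) (l := 3) rfl N58191 D198164
theorem N95105 : nd 95105 = n198165 := ndS (p := 58192) (l := 4) rfl N58192 D198165
theorem N95106 : nd 95106 = n198166 := ndS (p := 58195) (l := 6) rfl N58195 D198166
theorem N95107 : nd 95107 = n198167 := ndS (p := 58196) (l := 3) rfl N58196 D198167
theorem N95108 : nd 95108 = n198168 := ndS (p := 58196) (l := 5) rfl N58196 D198168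
theorem N95109 : nd 95109 = n198169 := ndS (p := 58198) (l := 2) rfl N58198 D198169
theorem N95110 : nd 95110 = n198170 := ndS (p := 58199) (l := 3) rfl N58199 D198170
theorem N95111 : nd 95111 = n198171 := ndS (p := 58200) (l := 6) rfl N58200 D198171
theorem N95112 : nd 95112 = n198172 := ndS (p := 58202) (l := 1) rfl N58202 D198172
theorem N95113 : nd 95113 = n198173 := ndS (p := 58202) (l := 5) rfl N58202 D198173
theorem N95114 : nd 95114 = n198174 := ndS (p := 58203) (l := 6) rfl N58203 D198174
theorem N95115 : nd 95115 = n198175 := ndS (p := 58205) (l := 4) rfl N58205 D198175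
theorem N95116 : nd 95116 = n198176 := ndS (p := 58205) (l := 6) rfl N58205 D198176
theorem N95117 : nd 95117 = n198177 := ndS (p := 58206) (l := 4) rfl N58206 D198177
theorem N95118 : nd 95118 = n198178 := ndS (p := 58207) (l := 0) rfl N58207 D198178
theorem N95119 : nd 95119 = n198179 := ndS (p := 58207) (l := 1) rfl N58207 D198179
theorem N95120 : nd 95120 = n198180 := ndS (p := 58207) (l := 6) rfl N58207 D198180
theorem N95121 : nd 95121 = n198181 := ndS (p := 58208) (l := 1) rfl N58208 D198181
theorem N95122 : nd 95122 = n198182 := ndS (p := 58208) (l := 7) rfl N58208 D198182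
theorem N95123 : nd 95123 = n198183 := ndS (p := 58209) (l := 6) rfl N58209 D198183
theorem N95124 : nd 95124 = n198184 := ndS (p := 58211) (l := 3) rfl N58211 D198184
theorem N95125 : nd 95125 = n198185 := ndS (p := 58211) (l := 5) rfl N58211 D198185
theorem N95126 : nd 95126 = n198186 := ndS (p := 58212) (l := 6) rfl N58212 D198186
theorem N95127 : nd 95127 = n198187 := ndS (p := 58214) (l := 5) rfl N58214 D198187
theorem N95128 : nd 95128 = n198188 := ndS (p := 58214) (l := 6) rfl N58214 D198188
theorem N95129 : nd 95129 = n198189 := ndS (p := 58216) (l := 6) rfl N58216 D198189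
theorem N95130 : nd 95130 = n198190 := ndS (p := 58217) (l := 1) rfl N58217 D198190
theorem N95131 : nd 95131 = n198191 := ndS (p := 58218) (l := 6) rfl N58218 D198191
theorem N95132 : nd 95132 = n198192 := ndS (p := 58219) (l := 3) rfl N58219 D198192
theorem N95133 : nd 95133 = n198193 := ndS (p := 58219) (l := 6) rfl N58219 D198193
theorem N95134 : nd 95134 = n198194 := ndS (p := 58222) (l := 1) rfl N58222 D198194
theorem N95135 : nd 95135 = n198195 := ndS (p := 58224) (l := 5) rfl N58224 D198195
theorem N95136 : nd 95136 = n198196 := ndS (p := 58228) (l := 3) rfl N58228 D198196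
theorem N95137 : nd 95137 = n198197 := ndS (p := 58228) (l := 6) rfl N58228 D198197
theorem N95138 : nd 95138 = n198198 := ndS (p := 58231) (l := 1) rfl N58231 D198198
theorem N95139 : nd 95139 = n198199 := ndS (p := 58232) (l := 1) rfl N58232 D198199
theorem N95140 : nd 95140 = n198200 := ndS (p := 58232) (l := 3) rfl N58232 D198200
theorem N95141 : nd 95141 = n198201 := ndS (p := 58232) (l := 5) rfl N58232 D198201
theorem N95142 : nd 95142 = n198202 := ndS (p := 58232) (l := 6) rfl N58232 D198202
theorem N95143 : nd 95143 = n198203 := ndS (p := 58234) (l := 0) rfl N58234 D198203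
theorem N95144 : nd 95144 = n198204 := ndS (p := 58235) (l := 4) rfl N58235 D198204
theorem N95145 : nd 95145 = n198205 := ndS (p := 58235) (l := 5) rfl N58235 D198205
theorem N95146 : nd 95146 = n198206 := ndS (p := 58236) (l := 5) rfl N58236 D198206
theorem N95147 : nd 95147 = n198207 := ndS (p := 58237) (l := 6) rfl N58237 D198207
theorem N95148 : nd 95148 = n198208 := ndS (p := 58240) (l := 0) rfl N58240 D198208
theorem N95149 : nd 95149 = n198209 := ndS (p := 58240) (l := 1) rfl N58240 D198209
theorem N95150 : nd 95150 = n198210 := ndS (p := 58240) (l := 7) rfl N58240 D198210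
theorem N95151 : nd 95151 = n198211 := ndS (p := 58241) (l := 5) rfl N58241 D198211
theorem N95152 : nd 95152 = n198212 := ndS (p := 58241) (l := 6) rfl N58241 D198212
theorem N95153 : nd 95153 = n198213 := ndS (p := 58244) (l := 1) rfl N58244 D198213
theorem N95154 : nd 95154 = n198214 := ndS (p := 58244) (l := 7) rfl N58244 D198214
theorem N95155 : nd 95155 = n198215 := ndS (p := 58245) (l := 3) rfl N58245 D198215
theorem N95156 : nd 95156 = n198216 := ndS (p := 58246) (l := 3) rfl N58246 D198216
theorem N95157 : nd 95157 = n198217 := ndS (p := 58247) (l := 5) rfl N58247 D198217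
theorem N95158 : nd 95158 = n198219 := ndS (p := 58248) (l := 3) rfl N58248 D198219
theorem N95159 : nd 95159 = n198220 := ndS (p := 58248) (l := 5) rfl N58248 D198220
theorem N95160 : nd 95160 = n198221 := ndS (p := 58248) (l := 6) rfl N58248 D198221
theorem N95161 : nd 95161 = n198223 := ndS (p := 58249) (l := 3) rfl N58249 D198223
theorem N95162 : nd 95162 = n198224 := ndS (p := 58249) (l := 4) rfl N58249 D198224
theorem N95163 : nd 95163 = n198225 := ndS (p := 58249) (l := 5) rfl N58249 D198225
theorem N95164 : nd 95164 = n198226 := ndS (p := 58249) (l := 6) rfl N58249 D198226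
theorem N95165 : nd 95165 = n198227 := ndS (p := 58250) (l := 0) rfl N58250 D198227
theorem N95166 : nd 95166 = n198229 := ndS (p := 58250) (l := 4) rfl N58250 D198229
theorem N95167 : nd 95167 = n198230 := ndS (p := 58250) (l := 7) rfl N58250 D198230
theorem N95168 : nd 95168 = n198231 := ndS (p := 58252) (l := 5) rfl N58252 D198231
theorem N95169 : nd 95169 = n198232 := ndS (p := 58256) (l := 6) rfl N58256 D198232
theorem N95170 : nd 95170 = n198233 := ndS (p := 58257) (l := 3) rfl N58257 D198233
theorem N95171 : nd 95171 = n198234 := ndS (p := 58258) (l := 4) rfl N58258 D198234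
theorem N95172 : nd 95172 = n198235 := ndS (p := 58261) (l := 6) rfl N58261 D198235
theorem N95173 : nd 95173 = n198236 := ndS (p := 58262) (l := 0) rfl N58262 D198236
theorem N95174 : nd 95174 = n198237 := ndS (p := 58262) (l := 1) rfl N58262 D198237
theorem N95175 : nd 95175 = n198238 := ndS (p := 58262) (l := 7) rfl N58262 D198238
theorem N95176 : nd 95176 = n198239 := ndS (p := 58264) (l := 5) rfl N58264 D198239
theorem N95177 : nd 95177 = n198240 := ndS (p := 58265) (l := 5) rfl N58265 D198240
theorem N95178 : nd 95178 = n198241 := ndS (p := 58267) (l := 5) rfl N58267 D198241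
theorem N95179 : nd 95179 = n198242 := ndS (p := 58268) (l := 5) rfl N58268 D198242
theorem N95180 : nd 95180 = n198243 := ndS (p := 58268) (l := 6) rfl N58268 D198243
theorem N95181 : nd 95181 = n198244 := ndS (p := 58270) (l := 1) rfl N58270 D198244
theorem N95182 : nd 95182 = n198245 := ndS (p := 58271) (l := 4) rfl N58271 D198245
theorem N95183 : nd 95183 = n198246 := ndS (p := 58272) (l := 1) rfl N58272 D198246
theorem N95184 : nd 95184 = n198247 := ndS (p := 58272) (l := 7) rfl N58272 D198247
theorem N95185 : nd 95185 = n198248 := ndS (p := 58273) (l := 3) rfl N58273 D198248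
theorem N95186 : nd 95186 = n198249 := ndS (p := 58273) (l := 4) rfl N58273 D198249
theorem N95187 : nd 95187 = n198250 := ndS (p := 58273) (l := 6) rfl N58273 D198250
theorem N95188 : nd 95188 = n198251 := ndS (p := 58274) (l := 3) rfl N58274 D198251
theorem N95189 : nd 95189 = n198252 := ndS (p := 58274) (l := 4) rfl N58274 D198252
theorem N95190 : nd 95190 = n198253 := ndS (p := 58275) (l := 0) rfl N58275 D198253
theorem N95191 : nd 95191 = n198254 := ndS (p := 58275) (l := 6) rfl N58275 D198254
theorem N95192 : nd 95192 = n198255 := ndS (p := 58277) (l := 3) rfl N58277 D198255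
theorem N95193 : nd 95193 = n198256 := ndS (p := 58277) (l := 5) rfl N58277 D198256
theorem N95194 : nd 95194 = n198257 := ndS (p := 58277) (l := 6) rfl N58277 D198257
theorem N95195 : nd 95195 = n198258 := ndS (p := 58278) (l := 5) rfl N58278 D198258
theorem N95196 : nd 95196 = n198259 := ndS (p := 58279) (l := 0) rfl N58279 D198259
theorem N95197 : nd 95197 = n198260 := ndS (p := 58279) (l := 1) rfl N58279 D198260
theorem N95198 : nd 95198 = n198261 := ndS (p := 58279) (l := 4) rfl N58279 D198261
theorem N95199 : nd 95199 = n198262 := ndS (p := 58281) (l := 3) rfl N58281 D198262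
theorem N95200 : nd 95200 = n198263 := ndS (p := 58285) (l := 6) rfl N58285 D198263
theorem N95201 : nd 95201 = n198264 := ndS (p := 58286) (l := 3) rfl N58286 D198264
theorem N95202 : nd 95202 = n198265 := ndS (p := 58289) (l := 4) rfl N58289 D198265
theorem N95203 : nd 95203 = n198266 := ndS (p := 58290) (l := 5) rfl N58290 D198266
theorem N95204 : nd 95204 = n198267 := ndS (p := 58290) (l := 6) rfl N58290 D198267
theorem N95205 : nd 95205 = n198268 := ndS (p := 58291) (l := 4) rfl N58291 D198268
theorem N95206 : nd 95206 = n198269 := ndS (p := 58291) (l := 6) rfl N58291 D198269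
theorem N95207 : nd 95207 = n198270 := ndS (p := 58292) (l := 5) rfl N58292 D198270
theorem N95208 : nd 95208 = n198271 := ndS (p := 58293) (l := 5) rfl N58293 D198271
theorem N95209 : nd 95209 = n198273 := ndS (p := 58294) (l := 5) rfl N58294 D198273
theorem N95210 : nd 95210 = n198274 := ndS (p := 58294) (l := 6) rfl N58294 D198274
theorem N95211 : nd 95211 = n198275 := ndS (p := 58295) (l := 1) rfl N58295 D198275
theorem N95212 : nd 95212 = n198276 := ndS (p := 58295) (l := 6) rfl N58295 D198276
theorem N95213 : nd 95213 = n198277 := ndS (p := 58296) (l := 0) rfl N58296 D198277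
theorem N95214 : nd 95214 = n198278 := ndS (p := 58296) (l := 1) rfl N58296 D198278
theorem N95215 : nd 95215 = n198279 := ndS (p := 58297) (l := 4) rfl N58297 D198279
theorem N95216 : nd 95216 = n198280 := ndS (p := 58298) (l := 0) rfl N58298 D198280
theorem N95217 : nd 95217 = n198281 := ndS (p := 58298) (l := 5) rfl N58298 D198281
theorem N95218 : nd 95218 = n198282 := ndS (p := 58298) (l := 6) rfl N58298 D198282
theorem N95219 : nd 95219 = n198283 := ndS (p := 58299) (l := 7) rfl N58299 D198283
theorem N95220 : nd 95220 = n198284 := ndS (p := 58301) (l := 0) rfl N58301 D198284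
theorem N95221 : nd 95221 = n198285 := ndS (p := 58301) (l := 4) rfl N58301 D198285
theorem N95222 : nd 95222 = n198286 := ndS (p := 58302) (l := 5) rfl N58302 D198286
theorem N95223 : nd 95223 = n198287 := ndS (p := 58303) (l := 5) rfl N58303 D198287
theorem N95224 : nd 95224 = n198288 := ndS (p := 58304) (l := 5) rfl N58304 D198288
theorem N95225 : nd 95225 = n198289 := ndS (p := 58305) (l := 0) rfl N58305 D198289
theorem N95226 : nd 95226 = n198290 := ndS (p := 58305) (l := 4) rfl N58305 D198290
theorem N95227 : nd 95227 = n198291 := ndS (p := 58305) (l := 6) rfl N58305 D198291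
theorem N95228 : nd 95228 = n198292 := ndS (p := 58306) (l := 3) rfl N58306 D198292
theorem N95229 : nd 95229 = n198293 := ndS (p := 58306) (l := 5) rfl N58306 D198293
theorem N95230 : nd 95230 = n198294 := ndS (p := 58306) (l := 6) rfl N58306 D198294
theorem N95231 : nd 95231 = n198295 := ndS (p := 58307) (l := 7) rfl N58307 D198295
theorem N95232 : nd 95232 = n198296 := ndS (p := 58308) (l := 3) rfl N58308 D198296
theorem N95233 : nd 95233 = n198297 := ndS (p := 58308) (l := 4) rfl N58308 D198297
theorem N95234 : nd 95234 = n198298 := ndS (p := 58309) (l := 0) rfl N58309 D198298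
theorem N95235 : nd 95235 = n198299 := ndS (p := 58309) (l := 3) rfl N58309 D198299
theorem N95236 : nd 95236 = n198300 := ndS (p := 58311) (l := 2) rfl N58311 D198300
theorem N95237 : nd 95237 = n198301 := ndS (p := 58311) (l := 6) rfl N58311 D198301
theorem N95238 : nd 95238 = n198302 := ndS (p := 58312) (l := 0) rfl N58312 D198302
theorem N95239 : nd 95239 = n198304 := ndS (p := 58314) (l := 2) rfl N58314 D198304
theorem N95240 : nd 95240 = n198305 := ndS (p := 58315) (l := 3) rfl N58315 D198305
theorem N95241 : nd 95241 = n198306 := ndS (p := 58315) (l := 5) rfl N58315 D198306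
theorem N95242 : nd 95242 = n198307 := ndS (p := 58316) (l := 3) rfl N58316 D198307
theorem N95243 : nd 95243 = n198308 := ndS (p := 58318) (l := 0) rfl N58318 D198308
theorem N95244 : nd 95244 = n198309 := ndS (p := 58318) (l := 1) rfl N58318 D198309
theorem N95245 : nd 95245 = n198310 := ndS (p := 58318) (l := 2) rfl N58318 D198310
theorem N95246 : nd 95246 = n198311 := ndS (p := 58320) (l := 0) rfl N58320 D198311
theorem N95247 : nd 95247 = n198312 := ndS (p := 58323) (l := 6) rfl N58323 D198312
theorem N95248 : nd 95248 = n198313 := ndS (p := 58325) (l := 0) rfl N58325 D198313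
theorem N95249 : nd 95249 = n198314 := ndS (p := 58325) (l := 1) rfl N58325 D198314
theorem N95250 : nd 95250 = n198315 := ndS (p := 58325) (l := 5) rfl N58325 D198315
theorem N95251 : nd 95251 = n198316 := ndS (p := 58326) (l := 3) rfl N58326 D198316
theorem N95252 : nd 95252 = n198317 := ndS (p := 58328) (l := 0) rfl N58328 D198317
theorem N95253 : nd 95253 = n198318 := ndS (p := 58328) (l := 1) rfl N58328 D198318
theorem N95254 : nd 95254 = n198319 := ndS (p := 58328) (l := 4) rfl N58328 D198319
theorem N95255 : nd 95255 = n198320 := ndS (p := 58328) (l := 7) rfl N58328 D198320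
theorem N95256 : nd 95256 = n198321 := ndS (p := 58332) (l := 0) rfl N58332 D198321
theorem N95257 : nd 95257 = n198322 := ndS (p := 58332) (l := 5) rfl N58332 D198322
theorem N95258 : nd 95258 = n198323 := ndS (p := 58332) (l := 7) rfl N58332 D198323
theorem N95259 : nd 95259 = n198324 := ndS (p := 58336) (l := 4) rfl N58336 D198324
theorem N95260 : nd 95260 = n198325 := ndS (p := 58336) (l := 6) rfl N58336 D198325
theorem N95261 : nd 95261 = n198326 := ndS (p := 58337) (l := 3) rfl N58337 D198326
theorem N95262 : nd 95262 = n198327 := ndS (p := 58337) (l := 4) rfl N58337 D198327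
theorem N95263 : nd 95263 = n198328 := ndS (p := 58337) (l := 6) rfl N58337 D198328
theorem N95264 : nd 95264 = n198329 := ndS (p := 58341) (l := 0) rfl N58341 D198329
theorem N95265 : nd 95265 = n198330 := ndS (p := 58343) (l := 5) rfl N58343 D198330
theorem N95266 : nd 95266 = n198331 := ndS (p := 58345) (l := 6) rfl N58345 D198331
theorem N95267 : nd 95267 = n198332 := ndS (p := 58346) (l := 5) rfl N58346 D198332
theorem N95268 : nd 95268 = n198333 := ndS (p := 58348) (l := 0) rfl N58348 D198333
theorem N95269 : nd 95269 = n198336 := ndS (p := 58349) (l := 4) rfl N58349 D198336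
theorem N95270 : nd 95270 = n198337 := ndS (p := 58349) (l := 5) rfl N58349 D198337
theorem N95271 : nd 95271 = n198338 := ndS (p := 58349) (l := 6) rfl N58349 D198338
theorem N95272 : nd 95272 = n198339 := ndS (p := 58350) (l := 5) rfl N58350 D198339
theorem N95273 : nd 95273 = n198340 := ndS (p := 58350) (l := 6) rfl N58350 D198340
theorem N95274 : nd 95274 = n198341 := ndS (p := 58351) (l := 4) rfl N58351 D198341
theorem N95275 : nd 95275 = n198342 := ndS (p := 58351) (l := 6) rfl N58351 D198342
theorem N95276 : nd 95276 = n198343 := ndS (p := 58353) (l := 5) rfl N58353 D198343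
theorem N95277 : nd 95277 = n198344 := ndS (p := 58353) (l := 6) rfl N58353 D198344
theorem N95278 : nd 95278 = n198345 := ndS (p := 58354) (l := 4) rfl N58354 D198345
theorem N95279 : nd 95279 = n198346 := ndS (p := 58354) (l := 6) rfl N58354 D198346
theorem N95280 : nd 95280 = n198347 := ndS (p := 58355) (l := 5) rfl N58355 D198347
theorem N95281 : nd 95281 = n198348 := ndS (p := 58356) (l := 6) rfl N58356 D198348
theorem N95282 : nd 95282 = n198349 := ndS (p := 58357) (l := 0) rfl N58357 D198349
theorem N95283 : nd 95283 = n198350 := ndS (p := 58357) (l := 1) rfl N58357 D198350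
theorem N95284 : nd 95284 = n198351 := ndS (p := 58357) (l := 6) rfl N58357 D198351
theorem N95285 : nd 95285 = n198352 := ndS (p := 58360) (l := 0) rfl N58360 D198352
theorem N95286 : nd 95286 = n198353 := ndS (p := 58361) (l := 6) rfl N58361 D198353
theorem N95287 : nd 95287 = n198354 := ndS (p := 58362) (l := 1) rfl N58362 D198354
theorem N95288 : nd 95288 = n198355 := ndS (p := 58362) (l := 4) rfl N58362 D198355
theorem N95289 : nd 95289 = n198356 := ndS (p := 58364) (l := 5) rfl N58364 D198356
theorem N95290 : nd 95290 = n198357 := ndS (p := 58365) (l := 6) rfl N58365 D198357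
theorem N95291 : nd 95291 = n198358 := ndS (p := 58367) (l := 3) rfl N58367 D198358
theorem N95292 : nd 95292 = n198359 := ndS (p := 58367) (l := 5) rfl N58367 D198359
theorem N95293 : nd 95293 = n198360 := ndS (p := 58368) (l := 5) rfl N58368 D198360
theorem N95294 : nd 95294 = n198361 := ndS (p := 58371) (l := 5) rfl N58371 D198361
theorem N95295 : nd 95295 = n198362 := ndS (p := 58371) (l := 6) rfl N58371 D198362
theorem N95296 : nd 95296 = n198363 := ndS (p := 58372) (l := 5) rfl N58372 D198363
theorem N95297 : nd 95297 = n198364 := ndS (p := 58373) (l := 0) rfl N58373 D198364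
theorem N95298 : nd 95298 = n198365 := ndS (p := 58373) (l := 1) rfl N58373 D198365
theorem N95299 : nd 95299 = n198366 := ndS (p := 58373) (l := 4) rfl N58373 D198366
theorem N95300 : nd 95300 = n198367 := ndS (p := 58374) (l := 5) rfl N58374 D198367
theorem N95301 : nd 95301 = n198368 := ndS (p := 58375) (l := 4) rfl N58375 D198368
theorem N95302 : nd 95302 = n198369 := ndS (p := 58377) (l := 3) rfl N58377 D198369
theorem N95303 : nd 95303 = n198370 := ndS (p := 58377) (l := 5) rfl N58377 D198370
theorem N95304 : nd 95304 = n198371 := ndS (p := 58379) (l := 4) rfl N58379 D198371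
theorem N95305 : nd 95305 = n198372 := ndS (p := 58381) (l := 0) rfl N58381 D198372
theorem N95306 : nd 95306 = n198373 := ndS (p := 58381) (l := 1) rfl N58381 D198373
theorem N95307 : nd 95307 = n198374 := ndS (p := 58381) (l := 5) rfl N58381 D198374
theorem N95308 : nd 95308 = n198375 := ndS (p := 58382) (l := 3) rfl N58382 D198375
theorem N95309 : nd 95309 = n198376 := ndS (p := 58383) (l := 6) rfl N58383 D198376
theorem N95310 : nd 95310 = n198377 := ndS (p := 58384) (l := 0) rfl N58384 D198377
theorem N95311 : nd 95311 = n198378 := ndS (p := 58384) (l := 1) rfl N58384 D198378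
theorem N95312 : nd 95312 = n198379 := ndS (p := 58384) (l := 4) rfl N58384 D198379
theorem N95313 : nd 95313 = n198380 := ndS (p := 58386) (l := 5) rfl N58386 D198380
theorem N95314 : nd 95314 = n198381 := ndS (p := 58387) (l := 5) rfl N58387 D198381
theorem N95315 : nd 95315 = n198382 := ndS (p := 58387) (l := 6) rfl N58387 D198382
theorem N95316 : nd 95316 = n198383 := ndS (p := 58389) (l := 2) rfl N58389 D198383
theorem N95317 : nd 95317 = n198384 := ndS (p := 58389) (l := 5) rfl N58389 D198384
theorem N95318 : nd 95318 = n198385 := ndS (p := 58389) (l := 6) rfl N58389 D198385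
theorem N95319 : nd 95319 = n198386 := ndS (p := 58390) (l := 6) rfl N58390 D198386
theorem N95320 : nd 95320 = n198387 := ndS (p := 58391) (l := 5) rfl N58391 D198387
theorem N95321 : nd 95321 = n198388 := ndS (p := 58392) (l := 5) rfl N58392 D198388
theorem N95322 : nd 95322 = n198389 := ndS (p := 58395) (l := 3) rfl N58395 D198389
theorem N95323 : nd 95323 = n198390 := ndS (p := 58395) (l := 6) rfl N58395 D198390
theorem N95324 : nd 95324 = n198391 := ndS (p := 58396) (l := 6) rfl N58396 D198391
theorem N95325 : nd 95325 = n198392 := ndS (p := 58397) (l := 6) rfl N58397 D198392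
theorem N95326 : nd 95326 = n198393 := ndS (p := 58398) (l := 0) rfl N58398 D198393
theorem N95327 : nd 95327 = n198394 := ndS (p := 58398) (l := 1) rfl N58398 D198394
theorem N95328 : nd 95328 = n198395 := ndS (p := 58398) (l := 5) rfl N58398 D198395
theorem N95329 : nd 95329 = n198396 := ndS (p := 58398) (l := 7) rfl N58398 D198396
theorem N95330 : nd 95330 = n198397 := ndS (p := 58399) (l := 0) rfl N58399 D198397
theorem N95331 : nd 95331 = n198398 := ndS (p := 58399) (l := 4) rfl N58399 D198398
theorem N95332 : nd 95332 = n198399 := ndS (p := 58399) (l := 7) rfl N58399 D198399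
theorem N95333 : nd 95333 = n198400 := ndS (p := 58401) (l := 5) rfl N58401 D198400
theorem N95334 : nd 95334 = n198401 := ndS (p := 58405) (l := 5) rfl N58405 D198401
theorem N95335 : nd 95335 = n198402 := ndS (p := 58405) (l := 6) rfl N58405 D198402
theorem N95336 : nd 95336 = n198403 := ndS (p := 58407) (l := 5) rfl N58407 D198403
theorem N95337 : nd 95337 = n198404 := ndS (p := 58407) (l := 7) rfl N58407 D198404
theorem N95338 : nd 95338 = n198405 := ndS (p := 58408) (l := 0) rfl N58408 D198405
theorem N95339 : nd 95339 = n198406 := ndS (p := 58408) (l := 1) rfl N58408 D198406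
theorem N95340 : nd 95340 = n198407 := ndS (p := 58408) (l := 5) rfl N58408 D198407
theorem N95341 : nd 95341 = n198408 := ndS (p := 58408) (l := 7) rfl N58408 D198408
theorem N95342 : nd 95342 = n198409 := ndS (p := 58409) (l := 6) rfl N58409 D198409
theorem N95343 : nd 95343 = n198410 := ndS (p := 58410) (l := 3) rfl N58410 D198410
theorem N95344 : nd 95344 = n198411 := ndS (p := 58411) (l := 0) rfl N58411 D198411
theorem N95345 : nd 95345 = n198412 := ndS (p := 58411) (l := 4) rfl N58411 D198412
theorem N95346 : nd 95346 = n198413 := ndS (p := 58411) (l := 7) rfl N58411 D198413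
theorem N95347 : nd 95347 = n198414 := ndS (p := 58413) (l := 6) rfl N58413 D198414
theorem N95348 : nd 95348 = n198415 := ndS (p := 58414) (l := 4) rfl N58414 D198415
theorem N95349 : nd 95349 = n198416 := ndS (p := 58416) (l := 4) rfl N58416 D198416
theorem N95350 : nd 95350 = n198417 := ndS (p := 58418) (l := 6) rfl N58418 D198417
theorem N95351 : nd 95351 = n198418 := ndS (p := 58419) (l := 0) rfl N58419 D198418
theorem N95352 : nd 95352 = n198419 := ndS (p := 58419) (l := 6) rfl N58419 D198419
theorem N95353 : nd 95353 = n198420 := ndS (p := 58420) (l := 5) rfl N58420 D198420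
theorem N95354 : nd 95354 = n198421 := ndS (p := 58420) (l := 7) rfl N58420 D198421
theorem N95355 : nd 95355 = n198422 := ndS (p := 58421) (l := 5) rfl N58421 D198422
theorem N95356 : nd 95356 = n198424 := ndS (p := 58422) (l := 5) rfl N58422 D198424
theorem N95357 : nd 95357 = n198426 := ndS (p := 58423) (l := 1) rfl N58423 D198426
theorem N95358 : nd 95358 = n198427 := ndS (p := 58423) (l := 4) rfl N58423 D198427
theorem N95359 : nd 95359 = n198428 := ndS (p := 58423) (l := 7) rfl N58423 D198428
theorem N95360 : nd 95360 = n198429 := ndS (p := 58425) (l := 4) rfl N58425 D198429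
theorem N95361 : nd 95361 = n198430 := ndS (p := 58426) (l := 3) rfl N58426 D198430
theorem N95362 : nd 95362 = n198431 := ndS (p := 58426) (l := 4) rfl N58426 D198431
theorem N95363 : nd 95363 = n198432 := ndS (p := 58426) (l := 6) rfl N58426 D198432
theorem N95364 : nd 95364 = n198433 := ndS (p := 58427) (l := 6) rfl N58427 D198433
theorem N95365 : nd 95365 = n198434 := ndS (p := 58428) (l := 6) rfl N58428 D198434
theorem N95366 : nd 95366 = n198435 := ndS (p := 58429) (l := 0) rfl N58429 D198435
theorem N95367 : nd 95367 = n198437 := ndS (p := 58429) (l := 5) rfl N58429 D198437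
theorem N95368 : nd 95368 = n198438 := ndS (p := 58429) (l := 7) rfl N58429 D198438
theorem N95369 : nd 95369 = n198439 := ndS (p := 58430) (l := 0) rfl N58430 D198439
theorem N95370 : nd 95370 = n198440 := ndS (p := 58430) (l := 5) rfl N58430 D198440
theorem N95371 : nd 95371 = n198441 := ndS (p := 58430) (l := 7) rfl N58430 D198441
theorem N95372 : nd 95372 = n198442 := ndS (p := 58431) (l := 0) rfl N58431 D198442
theorem N95373 : nd 95373 = n198443 := ndS (p := 58431) (l := 4) rfl N58431 D198443
theorem N95374 : nd 95374 = n198444 := ndS (p := 58431) (l := 7) rfl N58431 D198444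
theorem N95375 : nd 95375 = n198445 := ndS (p := 58433) (l := 3) rfl N58433 D198445
theorem N95376 : nd 95376 = n198446 := ndS (p := 58433) (l := 5) rfl N58433 D198446
theorem N95377 : nd 95377 = n198447 := ndS (p := 58434) (l := 3) rfl N58434 D198447
theorem N95378 : nd 95378 = n198448 := ndS (p := 58434) (l := 5) rfl N58434 D198448
theorem N95379 : nd 95379 = n198449 := ndS (p := 58434) (l := 6) rfl N58434 D198449
theorem N95380 : nd 95380 = n198450 := ndS (p := 58435) (l := 5) rfl N58435 D198450
theorem N95381 : nd 95381 = n198451 := ndS (p := 58435) (l := 6) rfl N58435 D198451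
theorem N95382 : nd 95382 = n198452 := ndS (p := 58436) (l := 0) rfl N58436 D198452
theorem N95383 : nd 95383 = n198453 := ndS (p := 58436) (l := 1) rfl N58436 D198453
theorem N95384 : nd 95384 = n198454 := ndS (p := 58436) (l := 6) rfl N58436 D198454
theorem N95385 : nd 95385 = n198455 := ndS (p := 58437) (l := 5) rfl N58437 D198455
theorem N95386 : nd 95386 = n198456 := ndS (p := 58438) (l := 0) rfl N58438 D198456
theorem N95387 : nd 95387 = n198457 := ndS (p := 58438) (l := 1) rfl N58438 D198457
theorem N95388 : nd 95388 = n198458 := ndS (p := 58438) (l := 5) rfl N58438 D198458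
theorem N95389 : nd 95389 = n198459 := ndS (p := 58438) (l := 7) rfl N58438 D198459
theorem N95390 : nd 95390 = n198460 := ndS (p := 58439) (l := 0) rfl N58439 D198460
theorem N95391 : nd 95391 = n198461 := ndS (p := 58439) (l := 4) rfl N58439 D198461
theorem N95392 : nd 95392 = n198462 := ndS (p := 58440) (l := 1) rfl N58440 D198462
theorem N95393 : nd 95393 = n198463 := ndS (p := 58440) (l := 2) rfl N58440 D198463
theorem N95394 : nd 95394 = n198464 := ndS (p := 58442) (l := 5) rfl N58442 D198464
theorem N95395 : nd 95395 = n198465 := ndS (p := 58445) (l := 0) rfl N58445 D198465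
theorem N95396 : nd 95396 = n198466 := ndS (p := 58445) (l := 7) rfl N58445 D198466
theorem N95397 : nd 95397 = n198467 := ndS (p := 58447) (l := 5) rfl N58447 D198467
theorem N95398 : nd 95398 = n198468 := ndS (p := 58448) (l := 6) rfl N58448 D198468
theorem N95399 : nd 95399 = n198470 := ndS (p := 58450) (l := 3) rfl N58450 D198470
theorem N95400 : nd 95400 = n198471 := ndS (p := 58450) (l := 4) rfl N58450 D198471
theorem N95401 : nd 95401 = n198472 := ndS (p := 58450) (l := 5) rfl N58450 D198472
theorem N95402 : nd 95402 = n198473 := ndS (p := 58450) (l := 6) rfl N58450 D198473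
theorem N95403 : nd 95403 = n198475 := ndS (p := 58451) (l := 3) rfl N58451 D198475
theorem N95404 : nd 95404 = n198476 := ndS (p := 58451) (l := 4) rfl N58451 D198476
theorem N95405 : nd 95405 = n198477 := ndS (p := 58451) (l := 5) rfl N58451 D198477
theorem N95406 : nd 95406 = n198478 := ndS (p := 58451) (l := 6) rfl N58451 D198478
theorem N95407 : nd 95407 = n198479 := ndS (p := 58452) (l := 0) rfl N58452 D198479
theorem N95408 : nd 95408 = n198480 := ndS (p := 58452) (l := 1) rfl N58452 D198480
theorem N95409 : nd 95409 = n198481 := ndS (p := 58452) (l := 4) rfl N58452 D198481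
theorem N95410 : nd 95410 = n198482 := ndS (p := 58452) (l := 7) rfl N58452 D198482
theorem N95411 : nd 95411 = n198484 := ndS (p := 58454) (l := 2) rfl N58454 D198484
theorem N95412 : nd 95412 = n198485 := ndS (p := 58454) (l := 5) rfl N58454 D198485
theorem N95413 : nd 95413 = n198486 := ndS (p := 58456) (l := 4) rfl N58456 D198486
theorem N95414 : nd 95414 = n198490 := ndS (p := 58457) (l := 2) rfl N58457 D198490
theorem N95415 : nd 95415 = n198491 := ndS (p := 58457) (l := 4) rfl N58457 D198491
theorem N95416 : nd 95416 = n198492 := ndS (p := 58457) (l := 5) rfl N58457 D198492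
theorem N95417 : nd 95417 = n198493 := ndS (p := 58457) (l := 6) rfl N58457 D198493
theorem N95418 : nd 95418 = n198494 := ndS (p := 58458) (l := 6) rfl N58458 D198494
theorem N95419 : nd 95419 = n198495 := ndS (p := 58459) (l := 4) rfl N58459 D198495
theorem N95420 : nd 95420 = n198496 := ndS (p := 58459) (l := 6) rfl N58459 D198496
theorem N95421 : nd 95421 = n198497 := ndS (p := 58460) (l := 5) rfl N58460 D198497
theorem N95422 : nd 95422 = n198498 := ndS (p := 58461) (l := 3) rfl N58461 D198498
theorem N95423 : nd 95423 = n198499 := ndS (p := 58461) (l := 4) rfl N58461 D198499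
theorem N95424 : nd 95424 = n198500 := ndS (p := 58461) (l := 6) rfl N58461 D198500
theorem N95425 : nd 95425 = n198501 := ndS (p := 58462) (l := 3) rfl N58462 D198501
theorem N95426 : nd 95426 = n198502 := ndS (p := 58462) (l := 4) rfl N58462 D198502
theorem N95427 : nd 95427 = n198503 := ndS (p := 58462) (l := 6) rfl N58462 D198503
theorem N95428 : nd 95428 = n198504 := ndS (p := 58463) (l := 0) rfl N58463 D198504
theorem N95429 : nd 95429 = n198505 := ndS (p := 58463) (l := 1) rfl N58463 D198505
theorem N95430 : nd 95430 = n198506 := ndS (p := 58463) (l := 3) rfl N58463 D198506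
theorem N95431 : nd 95431 = n198507 := ndS (p := 58463) (l := 5) rfl N58463 D198507
theorem N95432 : nd 95432 = n198508 := ndS (p := 58463) (l := 7) rfl N58463 D198508
theorem N95433 : nd 95433 = n198509 := ndS (p := 58467) (l := 1) rfl N58467 D198509
theorem N95434 : nd 95434 = n198510 := ndS (p := 58467) (l := 4) rfl N58467 D198510
theorem N95435 : nd 95435 = n198511 := ndS (p := 58468) (l := 5) rfl N58468 D198511
theorem N95436 : nd 95436 = n198512 := ndS (p := 58468) (l := 6) rfl N58468 D198512
theorem N95437 : nd 95437 = n198513 := ndS (p := 58469) (l := 4) rfl N58469 D198513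
theorem N95438 : nd 95438 = n198514 := ndS (p := 58469) (l := 6) rfl N58469 D198514
theorem N95439 : nd 95439 = n198515 := ndS (p := 58470) (l := 5) rfl N58470 D198515
theorem N95440 : nd 95440 = n198516 := ndS (p := 58475) (l := 3) rfl N58475 D198516
theorem N95441 : nd 95441 = n198517 := ndS (p := 58476) (l := 4) rfl N58476 D198517
theorem N95442 : nd 95442 = n198518 := ndS (p := 58476) (l := 6) rfl N58476 D198518
theorem N95443 : nd 95443 = n198519 := ndS (p := 58477) (l := 3) rfl N58477 D198519
theorem N95444 : nd 95444 = n198520 := ndS (p := 58479) (l := 1) rfl N58479 D198520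
theorem N95445 : nd 95445 = n198521 := ndS (p := 58480) (l := 0) rfl N58480 D198521
theorem N95446 : nd 95446 = n198522 := ndS (p := 58480) (l := 4) rfl N58480 D198522
theorem N95447 : nd 95447 = n198523 := ndS (p := 58481) (l := 5) rfl N58481 D198523
theorem N95448 : nd 95448 = n198524 := ndS (p := 58482) (l := 4) rfl N58482 D198524
theorem N95449 : nd 95449 = n198525 := ndS (p := 58482) (l := 6) rfl N58482 D198525
theorem N95450 : nd 95450 = n198526 := ndS (p := 58483) (l := 3) rfl N58483 D198526
theorem N95451 : nd 95451 = n198527 := ndS (p := 58485) (l := 4) rfl N58485 D198527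
theorem N95452 : nd 95452 = n198528 := ndS (p := 58488) (l := 6) rfl N58488 D198528
theorem N95453 : nd 95453 = n198529 := ndS (p := 58489) (l := 1) rfl N58489 D198529
theorem N95454 : nd 95454 = n198530 := ndS (p := 58489) (l := 5) rfl N58489 D198530
theorem N95455 : nd 95455 = n198531 := ndS (p := 58491) (l := 4) rfl N58491 D198531
theorem N95456 : nd 95456 = n198532 := ndS (p := 58492) (l := 4) rfl N58492 D198532
theorem N95457 : nd 95457 = n198533 := ndS (p := 58493) (l := 4) rfl N58493 D198533
theorem N95458 : nd 95458 = n198534 := ndS (p := 58493) (l := 6) rfl N58493 D198534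
theorem N95459 : nd 95459 = n198535 := ndS (p := 58494) (l := 3) rfl N58494 D198535
theorem N95460 : nd 95460 = n198536 := ndS (p := 58494) (l := 4) rfl N58494 D198536
theorem N95461 : nd 95461 = n198537 := ndS (p := 58494) (l := 5) rfl N58494 D198537
theorem N95462 : nd 95462 = n198538 := ndS (p := 58494) (l := 6) rfl N58494 D198538
theorem N95463 : nd 95463 = n198539 := ndS (p := 58496) (l := 4) rfl N58496 D198539
theorem N95464 : nd 95464 = n198540 := ndS (p := 58499) (l := 3) rfl N58499 D198540
theorem N95465 : nd 95465 = n198541 := ndS (p := 58500) (l := 6) rfl N58500 D198541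
theorem N95466 : nd 95466 = n198542 := ndS (p := 58501) (l := 7) rfl N58501 D198542
theorem N95467 : nd 95467 = n198543 := ndS (p := 58503) (l := 4) rfl N58503 D198543
theorem N95468 : nd 95468 = n198544 := ndS (p := 58505) (l := 1) rfl N58505 D198544
theorem N95469 : nd 95469 = n198545 := ndS (p := 58507) (l := 6) rfl N58507 D198545
theorem N95470 : nd 95470 = n198546 := ndS (p := 58508) (l := 4) rfl N58508 D198546
theorem N95471 : nd 95471 = n198547 := ndS (p := 58510) (l := 0) rfl N58510 D198547
theorem N95472 : nd 95472 = n198548 := ndS (p := 58510) (l := 5) rfl N58510 D198548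
theorem N95473 : nd 95473 = n198549 := ndS (p := 58510) (l := 7) rfl N58510 D198549
theorem N95474 : nd 95474 = n198550 := ndS (p := 58511) (l := 6) rfl N58511 D198550
theorem N95475 : nd 95475 = n198551 := ndS (p := 58513) (l := 4) rfl N58513 D198551
theorem N95476 : nd 95476 = n198552 := ndS (p := 58513) (l := 5) rfl N58513 D198552
theorem N95477 : nd 95477 = n198553 := ndS (p := 58514) (l := 4) rfl N58514 D198553
theorem N95478 : nd 95478 = n198554 := ndS (p := 58514) (l := 5) rfl N58514 D198554
theorem N95479 : nd 95479 = n198555 := ndS (p := 58515) (l := 0) rfl N58515 D198555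
theorem N95480 : nd 95480 = n198556 := ndS (p := 58515) (l := 1) rfl N58515 D198556
theorem N95481 : nd 95481 = n198557 := ndS (p := 58515) (l := 4) rfl N58515 D198557
theorem N95482 : nd 95482 = n198558 := ndS (p := 58515) (l := 7) rfl N58515 D198558
theorem N95483 : nd 95483 = n198559 := ndS (p := 58517) (l := 0) rfl N58517 D198559
theorem N95484 : nd 95484 = n198561 := ndS (p := 58517) (l := 2) rfl N58517 D198561
theorem N95485 : nd 95485 = n198562 := ndS (p := 58517) (l := 5) rfl N58517 D198562
theorem N95486 : nd 95486 = n198563 := ndS (p := 58518) (l := 4) rfl N58518 D198563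
theorem N95487 : nd 95487 = n198564 := ndS (p := 58518) (l := 6) rfl N58518 D198564
theorem N95488 : nd 95488 = n198566 := ndS (p := 58519) (l := 3) rfl N58519 D198566
theorem N95489 : nd 95489 = n198567 := ndS (p := 58519) (l := 4) rfl N58519 D198567
theorem N95490 : nd 95490 = n198568 := ndS (p := 58519) (l := 5) rfl N58519 D198568
theorem N95491 : nd 95491 = n198569 := ndS (p := 58519) (l := 6) rfl N58519 D198569
theorem N95492 : nd 95492 = n198570 := ndS (p := 58520) (l := 3) rfl N58520 D198570
theorem N95493 : nd 95493 = n198571 := ndS (p := 58520) (l := 4) rfl N58520 D198571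
theorem N95494 : nd 95494 = n198572 := ndS (p := 58520) (l := 5) rfl N58520 D198572
theorem N95495 : nd 95495 = n198573 := ndS (p := 58520) (l := 6) rfl N58520 D198573
theorem N95496 : nd 95496 = n198574 := ndS (p := 58521) (l := 0) rfl N58521 D198574
theorem N95497 : nd 95497 = n198575 := ndS (p := 58521) (l := 1) rfl N58521 D198575
theorem N95498 : nd 95498 = n198576 := ndS (p := 58521) (l := 5) rfl N58521 D198576
theorem N95499 : nd 95499 = n198577 := ndS (p := 58523) (l := 0) rfl N58523 D198577
theorem N95500 : nd 95500 = n198578 := ndS (p := 58524) (l := 4) rfl N58524 D198578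
theorem N95501 : nd 95501 = n198579 := ndS (p := 58524) (l := 6) rfl N58524 D198579
theorem N95502 : nd 95502 = n198580 := ndS (p := 58525) (l := 5) rfl N58525 D198580
theorem N95503 : nd 95503 = n198581 := ndS (p := 58526) (l := 4) rfl N58526 D198581
theorem N95504 : nd 95504 = n198582 := ndS (p := 58529) (l := 4) rfl N58529 D198582
theorem N95505 : nd 95505 = n198583 := ndS (p := 58530) (l := 3) rfl N58530 D198583
theorem N95506 : nd 95506 = n198584 := ndS (p := 58530) (l := 5) rfl N58530 D198584
theorem N95507 : nd 95507 = n198585 := ndS (p := 58530) (l := 6) rfl N58530 D198585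
theorem N95508 : nd 95508 = n198586 := ndS (p := 58531) (l := 3) rfl N58531 D198586
theorem N95509 : nd 95509 = n198587 := ndS (p := 58531) (l := 5) rfl N58531 D198587
theorem N95510 : nd 95510 = n198588 := ndS (p := 58532) (l := 1) rfl N58532 D198588
theorem N95511 : nd 95511 = n198589 := ndS (p := 58532) (l := 2) rfl N58532 D198589
theorem N95512 : nd 95512 = n198590 := ndS (p := 58532) (l := 5) rfl N58532 D198590
theorem N95513 : nd 95513 = n198591 := ndS (p := 58532) (l := 7) rfl N58532 D198591
theorem N95514 : nd 95514 = n198592 := ndS (p := 58533) (l := 4) rfl N58533 D198592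
theorem N95515 : nd 95515 = n198593 := ndS (p := 58535) (l := 6) rfl N58535 D198593
theorem N95516 : nd 95516 = n198594 := ndS (p := 58536) (l := 3) rfl N58536 D198594
theorem N95517 : nd 95517 = n198595 := ndS (p := 58539) (l := 3) rfl N58539 D198595
theorem N95518 : nd 95518 = n198596 := ndS (p := 58543) (l := 4) rfl N58543 D198596
theorem N95519 : nd 95519 = n198597 := ndS (p := 58545) (l := 0) rfl N58545 D198597
theorem N95520 : nd 95520 = n198598 := ndS (p := 58545) (l := 2) rfl N58545 D198598
theorem N95521 : nd 95521 = n198599 := ndS (p := 58545) (l := 3) rfl N58545 D198599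
theorem N95522 : nd 95522 = n198600 := ndS (p := 58546) (l := 4) rfl N58546 D198600
theorem N95523 : nd 95523 = n198601 := ndS (p := 58550) (l := 6) rfl N58550 D198601
theorem N95524 : nd 95524 = n198602 := ndS (p := 58551) (l := 3) rfl N58551 D198602
theorem N95525 : nd 95525 = n198603 := ndS (p := 58551) (l := 5) rfl N58551 D198603
theorem N95526 : nd 95526 = n198604 := ndS (p := 58551) (l := 6) rfl N58551 D198604
theorem N95527 : nd 95527 = n198605 := ndS (p := 58553) (l := 5) rfl N58553 D198605
theorem N95528 : nd 95528 = n198606 := ndS (p := 58554) (l := 3) rfl N58554 D198606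
theorem N95529 : nd 95529 = n198607 := ndS (p := 58556) (l := 5) rfl N58556 D198607
theorem N95530 : nd 95530 = n198608 := ndS (p := 58557) (l := 1) rfl N58557 D198608
theorem N95531 : nd 95531 = n198609 := ndS (p := 58559) (l := 0) rfl N58559 D198609
theorem N95532 : nd 95532 = n198610 := ndS (p := 58559) (l := 1) rfl N58559 D198610
theorem N95533 : nd 95533 = n198611 := ndS (p := 58559) (l := 5) rfl N58559 D198611
theorem N95534 : nd 95534 = n198612 := ndS (p := 58559) (l := 7) rfl N58559 D198612
theorem N95535 : nd 95535 = n198613 := ndS (p := 58560) (l := 5) rfl N58560 D198613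
theorem N95536 : nd 95536 = n198614 := ndS (p := 58562) (l := 1) rfl N58562 D198614
theorem N95537 : nd 95537 = n198615 := ndS (p := 58562) (l := 4) rfl N58562 D198615
theorem N95538 : nd 95538 = n198616 := ndS (p := 58562) (l := 7) rfl N58562 D198616
theorem N95539 : nd 95539 = n198617 := ndS (p := 58564) (l := 3) rfl N58564 D198617
theorem N95540 : nd 95540 = n198618 := ndS (p := 58564) (l := 5) rfl N58564 D198618
theorem N95541 : nd 95541 = n198619 := ndS (p := 58565) (l := 3) rfl N58565 D198619
theorem N95542 : nd 95542 = n198620 := ndS (p := 58565) (l := 5) rfl N58565 D198620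
theorem N95543 : nd 95543 = n198621 := ndS (p := 58566) (l := 3) rfl N58566 D198621
theorem N95544 : nd 95544 = n198622 := ndS (p := 58566) (l := 4) rfl N58566 D198622
theorem N95545 : nd 95545 = n198623 := ndS (p := 58566) (l := 6) rfl N58566 D198623
theorem N95546 : nd 95546 = n198624 := ndS (p := 58567) (l := 3) rfl N58567 D198624
theorem N95547 : nd 95547 = n198625 := ndS (p := 58567) (l := 5) rfl N58567 D198625
theorem N95548 : nd 95548 = n198626 := ndS (p := 58567) (l := 6) rfl N58567 D198626
theorem N95549 : nd 95549 = n198627 := ndS (p := 58568) (l := 6) rfl N58568 D198627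
theorem N95550 : nd 95550 = n198628 := ndS (p := 58569) (l := 0) rfl N58569 D198628
theorem N95551 : nd 95551 = n198629 := ndS (p := 58569) (l := 1) rfl N58569 D198629
theorem N95552 : nd 95552 = n198630 := ndS (p := 58569) (l := 5) rfl N58569 D198630
theorem N95553 : nd 95553 = n198631 := ndS (p := 58570) (l := 0) rfl N58570 D198631
theorem N95554 : nd 95554 = n198632 := ndS (p := 58570) (l := 1) rfl N58570 D198632
theorem N95555 : nd 95555 = n198633 := ndS (p := 58570) (l := 4) rfl N58570 D198633
theorem N95556 : nd 95556 = n198634 := ndS (p := 58571) (l := 5) rfl N58571 D198634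
theorem N95557 : nd 95557 = n198635 := ndS (p := 58573) (l := 6) rfl N58573 D198635
theorem N95558 : nd 95558 = n198636 := ndS (p := 58574) (l := 5) rfl N58574 D198636
theorem N95559 : nd 95559 = n198637 := ndS (p := 58575) (l := 0) rfl N58575 D198637
theorem N95560 : nd 95560 = n198638 := ndS (p := 58575) (l := 2) rfl N58575 D198638
theorem N95561 : nd 95561 = n198639 := ndS (p := 58577) (l := 6) rfl N58577 D198639
theorem N95562 : nd 95562 = n198640 := ndS (p := 58578) (l := 3) rfl N58578 D198640
theorem N95563 : nd 95563 = n198641 := ndS (p := 58579) (l := 0) rfl N58579 D198641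
theorem N95564 : nd 95564 = n198642 := ndS (p := 58579) (l := 6) rfl N58579 D198642
theorem N95565 : nd 95565 = n198643 := ndS (p := 58580) (l := 5) rfl N58580 D198643
theorem N95566 : nd 95566 = n198644 := ndS (p := 58582) (l := 2) rfl N58582 D198644
theorem N95567 : nd 95567 = n198645 := ndS (p := 58582) (l := 4) rfl N58582 D198645
theorem N95568 : nd 95568 = n198646 := ndS (p := 58582) (l := 6) rfl N58582 D198646
theorem N95569 : nd 95569 = n198647 := ndS (p := 58583) (l := 0) rfl N58583 D198647
theorem N95570 : nd 95570 = n198648 := ndS (p := 58583) (l := 1) rfl N58583 D198648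
theorem N95571 : nd 95571 = n198649 := ndS (p := 58583) (l := 5) rfl N58583 D198649
theorem N95572 : nd 95572 = n198650 := ndS (p := 58583) (l := 7) rfl N58583 D198650
theorem N95573 : nd 95573 = n198651 := ndS (p := 58584) (l := 6) rfl N58584 D198651
theorem N95574 : nd 95574 = n198652 := ndS (p := 58585) (l := 7) rfl N58585 D198652
theorem N95575 : nd 95575 = n198653 := ndS (p := 58586) (l := 3) rfl N58586 D198653
theorem N95576 : nd 95576 = n198654 := ndS (p := 58586) (l := 4) rfl N58586 D198654
theorem N95577 : nd 95577 = n198655 := ndS (p := 58586) (l := 5) rfl N58586 D198655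
theorem N95578 : nd 95578 = n198656 := ndS (p := 58587) (l := 3) rfl N58587 D198656
theorem N95579 : nd 95579 = n198657 := ndS (p := 58587) (l := 4) rfl N58587 D198657
theorem N95580 : nd 95580 = n198658 := ndS (p := 58587) (l := 5) rfl N58587 D198658
theorem N95581 : nd 95581 = n198659 := ndS (p := 58587) (l := 6) rfl N58587 D198659
theorem N95582 : nd 95582 = n198660 := ndS (p := 58588) (l := 1) rfl N58588 D198660
theorem N95583 : nd 95583 = n198661 := ndS (p := 58588) (l := 4) rfl N58588 D198661
theorem N95584 : nd 95584 = n198662 := ndS (p := 58588) (l := 7) rfl N58588 D198662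
theorem N95585 : nd 95585 = n198663 := ndS (p := 58590) (l := 0) rfl N58590 D198663
theorem N95586 : nd 95586 = n198664 := ndS (p := 58590) (l := 6) rfl N58590 D198664
theorem N95587 : nd 95587 = n198665 := ndS (p := 58591) (l := 5) rfl N58591 D198665
theorem N95588 : nd 95588 = n198666 := ndS (p := 58592) (l := 6) rfl N58592 D198666
theorem N95589 : nd 95589 = n198667 := ndS (p := 58594) (l := 5) rfl N58594 D198667
theorem N95590 : nd 95590 = n198668 := ndS (p := 58594) (l := 6) rfl N58594 D198668
theorem N95591 : nd 95591 = n198669 := ndS (p := 58595) (l := 6) rfl N58595 D198669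
theorem N95592 : nd 95592 = n198670 := ndS (p := 58596) (l := 4) rfl N58596 D198670
theorem N95593 : nd 95593 = n198671 := ndS (p := 58596) (l := 6) rfl N58596 D198671
theorem N95594 : nd 95594 = n198672 := ndS (p := 58599) (l := 3) rfl N58599 D198672
theorem N95595 : nd 95595 = n198673 := ndS (p := 58599) (l := 4) rfl N58599 D198673
theorem N95596 : nd 95596 = n198674 := ndS (p := 58600) (l := 0) rfl N58600 D198674
theorem N95597 : nd 95597 = n198675 := ndS (p := 58600) (l := 1) rfl N58600 D198675
theorem N95598 : nd 95598 = n198676 := ndS (p := 58603) (l := 3) rfl N58603 D198676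
theorem N95599 : nd 95599 = n198677 := ndS (p := 58603) (l := 5) rfl N58603 D198677
theorem N95600 : nd 95600 = n198678 := ndS (p := 58607) (l := 5) rfl N58607 D198678
theorem N95601 : nd 95601 = n198679 := ndS (p := 58608) (l := 2) rfl N58608 D198679
theorem N95602 : nd 95602 = n198680 := ndS (p := 58608) (l := 5) rfl N58608 D198680
theorem N95603 : nd 95603 = n198681 := ndS (p := 58608) (l := 6) rfl N58608 D198681
theorem N95604 : nd 95604 = n198682 := ndS (p := 58609) (l := 4) rfl N58609 D198682
theorem N95605 : nd 95605 = n198683 := ndS (p := 58610) (l := 0) rfl N58610 D198683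
theorem N95606 : nd 95606 = n198684 := ndS (p := 58610) (l := 5) rfl N58610 D198684
theorem N95607 : nd 95607 = n198685 := ndS (p := 58611) (l := 3) rfl N58611 D198685
theorem N95608 : nd 95608 = n198686 := ndS (p := 58611) (l := 5) rfl N58611 D198686
theorem N95609 : nd 95609 = n198687 := ndS (p := 58613) (l := 0) rfl N58613 D198687
theorem N95610 : nd 95610 = n198688 := ndS (p := 58615) (l := 5) rfl N58615 D198688
theorem N95611 : nd 95611 = n198689 := ndS (p := 58616) (l := 3) rfl N58616 D198689
theorem N95612 : nd 95612 = n198690 := ndS (p := 58618) (l := 3) rfl N58618 D198690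
theorem N95613 : nd 95613 = n198691 := ndS (p := 58619) (l := 2) rfl N58619 D198691
theorem N95614 : nd 95614 = n198692 := ndS (p := 58620) (l := 4) rfl N58620 D198692
theorem N95615 : nd 95615 = n198693 := ndS (p := 58621) (l := 5) rfl N58621 D198693
theorem N95616 : nd 95616 = n198694 := ndS (p := 58625) (l := 3) rfl N58625 D198694
theorem N95617 : nd 95617 = n198695 := ndS (p := 58627) (l := 0) rfl N58627 D198695
theorem N95618 : nd 95618 = n198696 := ndS (p := 58627) (l := 1) rfl N58627 D198696
theorem N95619 : nd 95619 = n198697 := ndS (p := 58627) (l := 7) rfl N58627 D198697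
theorem N95620 : nd 95620 = n198698 := ndS (p := 58628) (l := 3) rfl N58628 D198698
theorem N95621 : nd 95621 = n198699 := ndS (p := 58629) (l := 4) rfl N58629 D198699
theorem N95622 : nd 95622 = n198700 := ndS (p := 58629) (l := 7) rfl N58629 D198700
theorem N95623 : nd 95623 = n198701 := ndS (p := 58631) (l := 5) rfl N58631 D198701
theorem N95624 : nd 95624 = n198702 := ndS (p := 58632) (l := 4) rfl N58632 D198702
theorem N95625 : nd 95625 = n198703 := ndS (p := 58632) (l := 6) rfl N58632 D198703
theorem N95626 : nd 95626 = n198704 := ndS (p := 58633) (l := 4) rfl N58633 D198704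
theorem N95627 : nd 95627 = n198705 := ndS (p := 58633) (l := 6) rfl N58633 D198705
theorem N95628 : nd 95628 = n198706 := ndS (p := 58635) (l := 4) rfl N58635 D198706
theorem N95629 : nd 95629 = n198707 := ndS (p := 58635) (l := 6) rfl N58635 D198707
theorem N95630 : nd 95630 = n198708 := ndS (p := 58637) (l := 6) rfl N58637 D198708
theorem N95631 : nd 95631 = n198709 := ndS (p := 58638) (l := 1) rfl N58638 D198709
theorem N95632 : nd 95632 = n198710 := ndS (p := 58638) (l := 5) rfl N58638 D198710
theorem N95633 : nd 95633 = n198711 := ndS (p := 58639) (l := 4) rfl N58639 D198711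
theorem N95634 : nd 95634 = n198712 := ndS (p := 58642) (l := 5) rfl N58642 D198712
theorem N95635 : nd 95635 = n198713 := ndS (p := 58644) (l := 3) rfl N58644 D198713
theorem N95636 : nd 95636 = n198714 := ndS (p := 58647) (l := 6) rfl N58647 D198714
theorem N95637 : nd 95637 = n198715 := ndS (p := 58648) (l := 1) rfl N58648 D198715
theorem N95638 : nd 95638 = n198716 := ndS (p := 58648) (l := 5) rfl N58648 D198716
theorem N95639 : nd 95639 = n198717 := ndS (p := 58648) (l := 7) rfl N58648 D198717
theorem N95640 : nd 95640 = n198718 := ndS (p := 58649) (l := 3) rfl N58649 D198718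
theorem N95641 : nd 95641 = n198719 := ndS (p := 58649) (l := 4) rfl N58649 D198719
theorem N95642 : nd 95642 = n198720 := ndS (p := 58649) (l := 5) rfl N58649 D198720
theorem N95643 : nd 95643 = n198721 := ndS (p := 58650) (l := 5) rfl N58650 D198721
theorem N95644 : nd 95644 = n198722 := ndS (p := 58651) (l := 0) rfl N58651 D198722
theorem N95645 : nd 95645 = n198723 := ndS (p := 58651) (l := 1) rfl N58651 D198723
theorem N95646 : nd 95646 = n198724 := ndS (p := 58651) (l := 7) rfl N58651 D198724
theorem N95647 : nd 95647 = n198726 := ndS (p := 58653) (l := 2) rfl N58653 D198726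
theorem N95648 : nd 95648 = n198727 := ndS (p := 58653) (l := 6) rfl N58653 D198727
theorem N95649 : nd 95649 = n198728 := ndS (p := 58655) (l := 1) rfl N58655 D198728
theorem N95650 : nd 95650 = n198729 := ndS (p := 58655) (l := 2) rfl N58655 D198729
theorem N95651 : nd 95651 = n198730 := ndS (p := 58656) (l := 3) rfl N58656 D198730
theorem N95652 : nd 95652 = n198731 := ndS (p := 58656) (l := 4) rfl N58656 D198731
theorem N95653 : nd 95653 = n198732 := ndS (p := 58656) (l := 6) rfl N58656 D198732
theorem N95654 : nd 95654 = n198733 := ndS (p := 58657) (l := 3) rfl N58657 D198733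
theorem N95655 : nd 95655 = n198734 := ndS (p := 58657) (l := 4) rfl N58657 D198734
theorem N95656 : nd 95656 = n198735 := ndS (p := 58658) (l := 0) rfl N58658 D198735
theorem N95657 : nd 95657 = n198736 := ndS (p := 58658) (l := 3) rfl N58658 D198736
theorem N95658 : nd 95658 = n198737 := ndS (p := 58658) (l := 5) rfl N58658 D198737
theorem N95659 : nd 95659 = n198738 := ndS (p := 58660) (l := 3) rfl N58660 D198738
theorem N95660 : nd 95660 = n198739 := ndS (p := 58660) (l := 5) rfl N58660 D198739
theorem N95661 : nd 95661 = n198740 := ndS (p := 58661) (l := 6) rfl N58661 D198740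
theorem N95662 : nd 95662 = n198741 := ndS (p := 58662) (l := 5) rfl N58662 D198741
theorem N95663 : nd 95663 = n198742 := ndS (p := 58663) (l := 5) rfl N58663 D198742
theorem N95664 : nd 95664 = n198743 := ndS (p := 58664) (l := 6) rfl N58664 D198743
theorem N95665 : nd 95665 = n198744 := ndS (p := 58668) (l := 5) rfl N58668 D198744
theorem N95666 : nd 95666 = n198745 := ndS (p := 58669) (l := 6) rfl N58669 D198745
theorem N95667 : nd 95667 = n198746 := ndS (p := 58671) (l := 2) rfl N58671 D198746
theorem N95668 : nd 95668 = n198747 := ndS (p := 58672) (l := 3) rfl N58672 D198747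
theorem N95669 : nd 95669 = n198748 := ndS (p := 58672) (l := 5) rfl N58672 D198748
theorem N95670 : nd 95670 = n198749 := ndS (p := 58675) (l := 0) rfl N58675 D198749
theorem N95671 : nd 95671 = n198750 := ndS (p := 58675) (l := 1) rfl N58675 D198750
theorem N95672 : nd 95672 = n198751 := ndS (p := 58679) (l := 4) rfl N58679 D198751
theorem N95673 : nd 95673 = n198752 := ndS (p := 58679) (l := 6) rfl N58679 D198752
theorem N95674 : nd 95674 = n198753 := ndS (p := 58680) (l := 5) rfl N58680 D198753
theorem N95675 : nd 95675 = n198754 := ndS (p := 58681) (l := 5) rfl N58681 D198754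
theorem N95676 : nd 95676 = n198755 := ndS (p := 58682) (l := 4) rfl N58682 D198755
theorem N95677 : nd 95677 = n198756 := ndS (p := 58682) (l := 6) rfl N58682 D198756
theorem N95678 : nd 95678 = n198757 := ndS (p := 58683) (l := 5) rfl N58683 D198757
theorem N95679 : nd 95679 = n198758 := ndS (p := 58684) (l := 6) rfl N58684 D198758
theorem N95680 : nd 95680 = n198759 := ndS (p := 58687) (l := 5) rfl N58687 D198759
theorem N95681 : nd 95681 = n198760 := ndS (p := 58688) (l := 5) rfl N58688 D198760
theorem N95682 : nd 95682 = n198761 := ndS (p := 58689) (l := 1) rfl N58689 D198761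
theorem N95683 : nd 95683 = n198762 := ndS (p := 58689) (l := 7) rfl N58689 D198762
theorem N95684 : nd 95684 = n198763 := ndS (p := 58692) (l := 4) rfl N58692 D198763
theorem N95685 : nd 95685 = n198764 := ndS (p := 58692) (l := 6) rfl N58692 D198764
theorem N95686 : nd 95686 = n198765 := ndS (p := 58693) (l := 4) rfl N58693 D198765
theorem N95687 : nd 95687 = n198766 := ndS (p := 58694) (l := 6) rfl N58694 D198766
theorem N95688 : nd 95688 = n198767 := ndS (p := 58694) (l := 7) rfl N58694 D198767
theorem N95689 : nd 95689 = n198768 := ndS (p := 58695) (l := 1) rfl N58695 D198768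
theorem N95690 : nd 95690 = n198769 := ndS (p := 58695) (l := 5) rfl N58695 D198769
theorem N95691 : nd 95691 = n198770 := ndS (p := 58695) (l := 7) rfl N58695 D198770
theorem N95692 : nd 95692 = n198771 := ndS (p := 58696) (l := 6) rfl N58696 D198771
theorem N95693 : nd 95693 = n198772 := ndS (p := 58697) (l := 4) rfl N58697 D198772
theorem N95694 : nd 95694 = n198773 := ndS (p := 58698) (l := 3) rfl N58698 D198773
theorem N95695 : nd 95695 = n198774 := ndS (p := 58700) (l := 2) rfl N58700 D198774
theorem N95696 : nd 95696 = n198775 := ndS (p := 58700) (l := 5) rfl N58700 D198775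
theorem N95697 : nd 95697 = n198776 := ndS (p := 58700) (l := 7) rfl N58700 D198776
theorem N95698 : nd 95698 = n198777 := ndS (p := 58701) (l := 6) rfl N58701 D198777
theorem N95699 : nd 95699 = n198778 := ndS (p := 58701) (l := 7) rfl N58701 D198778
theorem N95700 : nd 95700 = n198779 := ndS (p := 58707) (l := 6) rfl N58707 D198779
theorem N95701 : nd 95701 = n198780 := ndS (p := 58708) (l := 7) rfl N58708 D198780
theorem N95702 : nd 95702 = n198781 := ndS (p := 58710) (l := 5) rfl N58710 D198781
theorem N95703 : nd 95703 = n198782 := ndS (p := 58711) (l := 6) rfl N58711 D198782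
theorem N95704 : nd 95704 = n198783 := ndS (p := 58712) (l := 5) rfl N58712 D198783
theorem N95705 : nd 95705 = n198784 := ndS (p := 58713) (l := 6) rfl N58713 D198784
theorem N95706 : nd 95706 = n198785 := ndS (p := 58715) (l := 2) rfl N58715 D198785
theorem N95707 : nd 95707 = n198786 := ndS (p := 58716) (l := 0) rfl N58716 D198786
theorem N95708 : nd 95708 = n198787 := ndS (p := 58716) (l := 1) rfl N58716 D198787
theorem N95709 : nd 95709 = n198788 := ndS (p := 58716) (l := 6) rfl N58716 D198788
theorem N95710 : nd 95710 = n198789 := ndS (p := 58717) (l := 0) rfl N58717 D198789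
theorem N95711 : nd 95711 = n198790 := ndS (p := 58717) (l := 2) rfl N58717 D198790
theorem N95712 : nd 95712 = n198791 := ndS (p := 58717) (l := 5) rfl N58717 D198791
theorem N95713 : nd 95713 = n198792 := ndS (p := 58719) (l := 0) rfl N58719 D198792
theorem N95714 : nd 95714 = n198793 := ndS (p := 58719) (l := 1) rfl N58719 D198793
theorem N95715 : nd 95715 = n198794 := ndS (p := 58719) (l := 2) rfl N58719 D198794
theorem N95716 : nd 95716 = n198795 := ndS (p := 58719) (l := 5) rfl N58719 D198795
theorem N95717 : nd 95717 = n198796 := ndS (p := 58720) (l := 6) rfl N58720 D198796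
theorem N95718 : nd 95718 = n198797 := ndS (p := 58721) (l := 2) rfl N58721 D198797
theorem N95719 : nd 95719 = n198798 := ndS (p := 58721) (l := 5) rfl N58721 D198798
theorem N95720 : nd 95720 = n198799 := ndS (p := 58723) (l := 3) rfl N58723 D198799
theorem N95721 : nd 95721 = n198800 := ndS (p := 58723) (l := 6) rfl N58723 D198800
theorem N95722 : nd 95722 = n198801 := ndS (p := 58724) (l := 3) rfl N58724 D198801
theorem N95723 : nd 95723 = n198802 := ndS (p := 58725) (l := 3) rfl N58725 D198802
theorem N95724 : nd 95724 = n198803 := ndS (p := 58725) (l := 6) rfl N58725 D198803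
theorem N95725 : nd 95725 = n198804 := ndS (p := 58726) (l := 1) rfl N58726 D198804
theorem N95726 : nd 95726 = n198805 := ndS (p := 58726) (l := 5) rfl N58726 D198805
theorem N95727 : nd 95727 = n198806 := ndS (p := 58730) (l := 3) rfl N58730 D198806
theorem N95728 : nd 95728 = n198807 := ndS (p := 58730) (l := 5) rfl N58730 D198807
theorem N95729 : nd 95729 = n198808 := ndS (p := 58731) (l := 3) rfl N58731 D198808
theorem N95730 : nd 95730 = n198809 := ndS (p := 58731) (l := 5) rfl N58731 D198809
theorem N95731 : nd 95731 = n198810 := ndS (p := 58732) (l := 5) rfl N58732 D198810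
theorem N95732 : nd 95732 = n198811 := ndS (p := 58735) (l := 3) rfl N58735 D198811
theorem N95733 : nd 95733 = n198812 := ndS (p := 58735) (l := 5) rfl N58735 D198812
theorem N95734 : nd 95734 = n198813 := ndS (p := 58738) (l := 5) rfl N58738 D198813
theorem N95735 : nd 95735 = n198814 := ndS (p := 58739) (l := 0) rfl N58739 D198814
theorem N95736 : nd 95736 = n198815 := ndS (p := 58739) (l := 1) rfl N58739 D198815
theorem N95737 : nd 95737 = n198816 := ndS (p := 58739) (l := 4) rfl N58739 D198816
theorem N95738 : nd 95738 = n198817 := ndS (p := 58739) (l := 6) rfl N58739 D198817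
theorem N95739 : nd 95739 = n198818 := ndS (p := 58740) (l := 5) rfl N58740 D198818
theorem N95740 : nd 95740 = n198819 := ndS (p := 58741) (l := 4) rfl N58741 D198819
theorem N95741 : nd 95741 = n198820 := ndS (p := 58742) (l := 5) rfl N58742 D198820
theorem N95742 : nd 95742 = n198821 := ndS (p := 58744) (l := 0) rfl N58744 D198821
theorem N95743 : nd 95743 = n198822 := ndS (p := 58744) (l := 1) rfl N58744 D198822
theorem N95744 : nd 95744 = n198823 := ndS (p := 58744) (l := 5) rfl N58744 D198823
theorem N95745 : nd 95745 = n198824 := ndS (p := 58748) (l := 5) rfl N58748 D198824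
theorem N95746 : nd 95746 = n198825 := ndS (p := 58749) (l := 5) rfl N58749 D198825
theorem N95747 : nd 95747 = n198826 := ndS (p := 58749) (l := 6) rfl N58749 D198826
theorem N95748 : nd 95748 = n198827 := ndS (p := 58751) (l := 5) rfl N58751 D198827
theorem N95749 : nd 95749 = n198828 := ndS (p := 58751) (l := 6) rfl N58751 D198828
theorem N95750 : nd 95750 = n198829 := ndS (p := 58752) (l := 5) rfl N58752 D198829
theorem N95751 : nd 95751 = n198830 := ndS (p := 58752) (l := 6) rfl N58752 D198830
theorem N95752 : nd 95752 = n198831 := ndS (p := 58753) (l := 1) rfl N58753 D198831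
theorem N95753 : nd 95753 = n198832 := ndS (p := 58756) (l := 6) rfl N58756 D198832
theorem N95754 : nd 95754 = n198833 := ndS (p := 58757) (l := 6) rfl N58757 D198833
theorem N95755 : nd 95755 = n198834 := ndS (p := 58762) (l := 6) rfl N58762 D198834
theorem N95756 : nd 95756 = n198835 := ndS (p := 58763) (l := 3) rfl N58763 D198835
theorem N95757 : nd 95757 = n198836 := ndS (p := 58764) (l := 0) rfl N58764 D198836
theorem N95758 : nd 95758 = n198837 := ndS (p := 58764) (l := 1) rfl N58764 D198837
theorem N95759 : nd 95759 = n198838 := ndS (p := 58764) (l := 4) rfl N58764 D198838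
theorem N95760 : nd 95760 = n198839 := ndS (p := 58765) (l := 0) rfl N58765 D198839
theorem N95761 : nd 95761 = n198840 := ndS (p := 58765) (l := 1) rfl N58765 D198840
theorem N95762 : nd 95762 = n198841 := ndS (p := 58765) (l := 7) rfl N58765 D198841
theorem N95763 : nd 95763 = n198842 := ndS (p := 58766) (l := 6) rfl N58766 D198842
theorem N95764 : nd 95764 = n198843 := ndS (p := 58771) (l := 3) rfl N58771 D198843
theorem N95765 : nd 95765 = n198844 := ndS (p := 58772) (l := 6) rfl N58772 D198844
theorem N95766 : nd 95766 = n198845 := ndS (p := 58774) (l := 7) rfl N58774 D198845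
theorem N95767 : nd 95767 = n198846 := ndS (p := 58775) (l := 7) rfl N58775 D198846
theorem N95768 : nd 95768 = n198847 := ndS (p := 58776) (l := 3) rfl N58776 D198847
theorem N95769 : nd 95769 = n198848 := ndS (p := 58776) (l := 5) rfl N58776 D198848
theorem N95770 : nd 95770 = n198849 := ndS (p := 58777) (l := 5) rfl N58777 D198849
theorem N95771 : nd 95771 = n198850 := ndS (p := 58778) (l := 0) rfl N58778 D198850
theorem N95772 : nd 95772 = n198851 := ndS (p := 58778) (l := 4) rfl N58778 D198851
theorem N95773 : nd 95773 = n198852 := ndS (p := 58778) (l := 7) rfl N58778 D198852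
theorem N95774 : nd 95774 = n198853 := ndS (p := 58780) (l := 3) rfl N58780 D198853
theorem N95775 : nd 95775 = n198854 := ndS (p := 58780) (l := 6) rfl N58780 D198854
theorem N95776 : nd 95776 = n198855 := ndS (p := 58781) (l := 4) rfl N58781 D198855
theorem N95777 : nd 95777 = n198856 := ndS (p := 58784) (l := 0) rfl N58784 D198856
theorem N95778 : nd 95778 = n198857 := ndS (p := 58784) (l := 1) rfl N58784 D198857
theorem N95779 : nd 95779 = n198858 := ndS (p := 58786) (l := 0) rfl N58786 D198858
theorem N95780 : nd 95780 = n198859 := ndS (p := 58786) (l := 1) rfl N58786 D198859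
theorem N95781 : nd 95781 = n198860 := ndS (p := 58786) (l := 5) rfl N58786 D198860
theorem N95782 : nd 95782 = n198861 := ndS (p := 58786) (l := 7) rfl N58786 D198861
theorem N95783 : nd 95783 = n198862 := ndS (p := 58787) (l := 3) rfl N58787 D198862
theorem N95784 : nd 95784 = n198863 := ndS (p := 58787) (l := 5) rfl N58787 D198863
theorem N95785 : nd 95785 = n198864 := ndS (p := 58791) (l := 4) rfl N58791 D198864
theorem N95786 : nd 95786 = n198865 := ndS (p := 58791) (l := 5) rfl N58791 D198865
theorem N95787 : nd 95787 = n198866 := ndS (p := 58791) (l := 6) rfl N58791 D198866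
theorem N95788 : nd 95788 = n198867 := ndS (p := 58792) (l := 3) rfl N58792 D198867
theorem N95789 : nd 95789 = n198868 := ndS (p := 58792) (l := 4) rfl N58792 D198868
theorem N95790 : nd 95790 = n198869 := ndS (p := 58792) (l := 5) rfl N58792 D198869
theorem N95791 : nd 95791 = n198870 := ndS (p := 58796) (l := 4) rfl N58796 D198870
theorem N95792 : nd 95792 = n198871 := ndS (p := 58798) (l := 3) rfl N58798 D198871
theorem N95793 : nd 95793 = n198872 := ndS (p := 58798) (l := 5) rfl N58798 D198872
theorem N95794 : nd 95794 = n198873 := ndS (p := 58799) (l := 5) rfl N58799 D198873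
theorem N95795 : nd 95795 = n198874 := ndS (p := 58804) (l := 5) rfl N58804 D198874
theorem N95796 : nd 95796 = n198875 := ndS (p := 58806) (l := 4) rfl N58806 D198875
theorem N95797 : nd 95797 = n198876 := ndS (p := 58810) (l := 0) rfl N58810 D198876
theorem N95798 : nd 95798 = n198877 := ndS (p := 58810) (l := 1) rfl N58810 D198877
theorem N95799 : nd 95799 = n198878 := ndS (p := 58811) (l := 0) rfl N58811 D198878
theorem N95800 : nd 95800 = n198879 := ndS (p := 58811) (l := 1) rfl N58811 D198879
theorem N95801 : nd 95801 = n198880 := ndS (p := 58811) (l := 7) rfl N58811 D198880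
theorem N95802 : nd 95802 = n198881 := ndS (p := 58812) (l := 3) rfl N58812 D198881
theorem N95803 : nd 95803 = n198882 := ndS (p := 58812) (l := 4) rfl N58812 D198882
theorem N95804 : nd 95804 = n198883 := ndS (p := 58812) (l := 5) rfl N58812 D198883
theorem N95805 : nd 95805 = n198884 := ndS (p := 58816) (l := 6) rfl N58816 D198884
theorem N95806 : nd 95806 = n198885 := ndS (p := 58818) (l := 6) rfl N58818 D198885
theorem N95807 : nd 95807 = n198886 := ndS (p := 58822) (l := 3) rfl N58822 D198886
theorem N95808 : nd 95808 = n198887 := ndS (p := 58822) (l := 6) rfl N58822 D198887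
theorem N95809 : nd 95809 = n198888 := ndS (p := 58827) (l := 3) rfl N58827 D198888
theorem N95810 : nd 95810 = n198889 := ndS (p := 58830) (l := 5) rfl N58830 D198889
theorem N95811 : nd 95811 = n198890 := ndS (p := 58831) (l := 4) rfl N58831 D198890
theorem N95812 : nd 95812 = n198891 := ndS (p := 58831) (l := 6) rfl N58831 D198891
theorem N95813 : nd 95813 = n198892 := ndS (p := 58833) (l := 0) rfl N58833 D198892
theorem N95814 : nd 95814 = n198893 := ndS (p := 58833) (l := 1) rfl N58833 D198893
theorem N95815 : nd 95815 = n198894 := ndS (p := 58833) (l := 7) rfl N58833 D198894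
theorem N95816 : nd 95816 = n198895 := ndS (p := 58834) (l := 3) rfl N58834 D198895
theorem N95817 : nd 95817 = n198896 := ndS (p := 58835) (l := 3) rfl N58835 D198896
theorem N95818 : nd 95818 = n198897 := ndS (p := 58839) (l := 4) rfl N58839 D198897
theorem N95819 : nd 95819 = n198898 := ndS (p := 58840) (l := 5) rfl N58840 D198898
theorem N95820 : nd 95820 = n198899 := ndS (p := 58843) (l := 3) rfl N58843 D198899
theorem N95821 : nd 95821 = n198900 := ndS (p := 58845) (l := 0) rfl N58845 D198900
theorem N95822 : nd 95822 = n198901 := ndS (p := 58847) (l := 5) rfl N58847 D198901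
theorem N95823 : nd 95823 = n198902 := ndS (p := 58849) (l := 1) rfl N58849 D198902
theorem N95824 : nd 95824 = n198903 := ndS (p := 58851) (l := 5) rfl N58851 D198903
theorem N95825 : nd 95825 = n198904 := ndS (p := 58853) (l := 4) rfl N58853 D198904
theorem N95826 : nd 95826 = n198905 := ndS (p := 58854) (l := 4) rfl N58854 D198905
theorem N95827 : nd 95827 = n198906 := ndS (p := 58857) (l := 6) rfl N58857 D198906
theorem N95828 : nd 95828 = n198907 := ndS (p := 58858) (l := 5) rfl N58858 D198907
theorem N95829 : nd 95829 = n198908 := ndS (p := 58862) (l := 0) rfl N58862 D198908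
theorem N95830 : nd 95830 = n198909 := ndS (p := 58862) (l := 1) rfl N58862 D198909
theorem N95831 : nd 95831 = n198910 := ndS (p := 58862) (l := 5) rfl N58862 D198910
theorem N95832 : nd 95832 = n198911 := ndS (p := 58862) (l := 7) rfl N58862 D198911
theorem N95833 : nd 95833 = n198912 := ndS (p := 58864) (l := 1) rfl N58864 D198912
theorem N95834 : nd 95834 = n198913 := ndS (p := 58864) (l := 4) rfl N58864 D198913
theorem N95835 : nd 95835 = n198914 := ndS (p := 58867) (l := 4) rfl N58867 D198914
theorem N95836 : nd 95836 = n198915 := ndS (p := 58870) (l := 3) rfl N58870 D198915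
theorem N95837 : nd 95837 = n198916 := ndS (p := 58874) (l := 4) rfl N58874 D198916
theorem N95838 : nd 95838 = n198917 := ndS (p := 58876) (l := 4) rfl N58876 D198917
theorem N95839 : nd 95839 = n198918 := ndS (p := 58876) (l := 6) rfl N58876 D198918
theorem N95840 : nd 95840 = n198919 := ndS (p := 58877) (l := 1) rfl N58877 D198919
theorem N95841 : nd 95841 = n198920 := ndS (p := 58879) (l := 0) rfl N58879 D198920
theorem N95842 : nd 95842 = n198921 := ndS (p := 58880) (l := 1) rfl N58880 D198921
theorem N95843 : nd 95843 = n198922 := ndS (p := 58881) (l := 4) rfl N58881 D198922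
theorem N95844 : nd 95844 = n198923 := ndS (p := 58883) (l := 1) rfl N58883 D198923
theorem N95845 : nd 95845 = n198924 := ndS (p := 58884) (l := 0) rfl N58884 D198924
theorem N95846 : nd 95846 = n198925 := ndS (p := 58887) (l := 0) rfl N58887 D198925
theorem N95847 : nd 95847 = n198926 := ndS (p := 58887) (l := 1) rfl N58887 D198926
theorem N95848 : nd 95848 = n198927 := ndS (p := 58894) (l := 3) rfl N58894 D198927
theorem N95849 : nd 95849 = n198928 := ndS (p := 58894) (l := 5) rfl N58894 D198928
theorem N95850 : nd 95850 = n198929 := ndS (p := 58896) (l := 0) rfl N58896 D198929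
theorem N95851 : nd 95851 = n198930 := ndS (p := 58896) (l := 1) rfl N58896 D198930
theorem N95852 : nd 95852 = n198931 := ndS (p := 58896) (l := 4) rfl N58896 D198931
theorem N95853 : nd 95853 = n198932 := ndS (p := 58896) (l := 6) rfl N58896 D198932
theorem N95854 : nd 95854 = n198933 := ndS (p := 58897) (l := 6) rfl N58897 D198933
theorem N95855 : nd 95855 = n198934 := ndS (p := 58899) (l := 5) rfl N58899 D198934
theorem N95856 : nd 95856 = n198935 := ndS (p := 58900) (l := 0) rfl N58900 D198935
theorem N95857 : nd 95857 = n198936 := ndS (p := 58900) (l := 1) rfl N58900 D198936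
theorem N95858 : nd 95858 = n198937 := ndS (p := 58900) (l := 4) rfl N58900 D198937
theorem N95859 : nd 95859 = n198938 := ndS (p := 58900) (l := 6) rfl N58900 D198938
theorem N95860 : nd 95860 = n198939 := ndS (p := 58901) (l := 0) rfl N58901 D198939
theorem N95861 : nd 95861 = n198940 := ndS (p := 58901) (l := 7) rfl N58901 D198940
theorem N95862 : nd 95862 = n198941 := ndS (p := 58902) (l := 6) rfl N58902 D198941
theorem N95863 : nd 95863 = n198942 := ndS (p := 58903) (l := 5) rfl N58903 D198942
theorem N95864 : nd 95864 = n198943 := ndS (p := 58904) (l := 5) rfl N58904 D198943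
theorem N95865 : nd 95865 = n198944 := ndS (p := 58906) (l := 6) rfl N58906 D198944
theorem N95866 : nd 95866 = n198945 := ndS (p := 58907) (l := 6) rfl N58907 D198945
theorem N95867 : nd 95867 = n198946 := ndS (p := 58908) (l := 0) rfl N58908 D198946
theorem N95868 : nd 95868 = n198947 := ndS (p := 58909) (l := 6) rfl N58909 D198947
theorem N95869 : nd 95869 = n198949 := ndS (p := 58910) (l := 1) rfl N58910 D198949
theorem N95870 : nd 95870 = n198950 := ndS (p := 58910) (l := 7) rfl N58910 D198950
theorem N95871 : nd 95871 = n198951 := ndS (p := 58912) (l := 6) rfl N58912 D198951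
theorem N95872 : nd 95872 = n198952 := ndS (p := 58913) (l := 1) rfl N58913 D198952
theorem N95873 : nd 95873 = n198953 := ndS (p := 58913) (l := 3) rfl N58913 D198953
theorem N95874 : nd 95874 = n198954 := ndS (p := 58913) (l := 5) rfl N58913 D198954
theorem N95875 : nd 95875 = n198955 := ndS (p := 58913) (l := 6) rfl N58913 D198955
theorem N95876 : nd 95876 = n198956 := ndS (p := 58914) (l := 0) rfl N58914 D198956
theorem N95877 : nd 95877 = n198957 := ndS (p := 58914) (l := 7) rfl N58914 D198957
theorem N95878 : nd 95878 = n198958 := ndS (p := 58917) (l := 1) rfl N58917 D198958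
theorem N95879 : nd 95879 = n198959 := ndS (p := 58917) (l := 5) rfl N58917 D198959
theorem N95880 : nd 95880 = n198960 := ndS (p := 58918) (l := 3) rfl N58918 D198960
theorem N95881 : nd 95881 = n198961 := ndS (p := 58919) (l := 6) rfl N58919 D198961
theorem N95882 : nd 95882 = n198962 := ndS (p := 58921) (l := 0) rfl N58921 D198962
theorem N95883 : nd 95883 = n198963 := ndS (p := 58921) (l := 1) rfl N58921 D198963
theorem N95884 : nd 95884 = n198964 := ndS (p := 58922) (l := 0) rfl N58922 D198964
theorem N95885 : nd 95885 = n198965 := ndS (p := 58922) (l := 1) rfl N58922 D198965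
theorem N95886 : nd 95886 = n198966 := ndS (p := 58922) (l := 5) rfl N58922 D198966
theorem N95887 : nd 95887 = n198967 := ndS (p := 58924) (l := 4) rfl N58924 D198967
theorem N95888 : nd 95888 = n198969 := ndS (p := 58928) (l := 3) rfl N58928 D198969
theorem N95889 : nd 95889 = n198970 := ndS (p := 58928) (l := 6) rfl N58928 D198970
theorem N95890 : nd 95890 = n198971 := ndS (p := 58933) (l := 4) rfl N58933 D198971
theorem N95891 : nd 95891 = n198972 := ndS (p := 58933) (l := 6) rfl N58933 D198972
theorem N95892 : nd 95892 = n198973 := ndS (p := 58934) (l := 1) rfl N58934 D198973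
theorem N95893 : nd 95893 = n198974 := ndS (p := 58935) (l := 2) rfl N58935 D198974
theorem N95894 : nd 95894 = n198975 := ndS (p := 58936) (l := 7) rfl N58936 D198975
theorem N95895 : nd 95895 = n198976 := ndS (p := 58938) (l := 5) rfl N58938 D198976
theorem N95896 : nd 95896 = n198977 := ndS (p := 58939) (l := 5) rfl N58939 D198977
theorem N95897 : nd 95897 = n198978 := ndS (p := 58939) (l := 6) rfl N58939 D198978
theorem N95898 : nd 95898 = n198979 := ndS (p := 58944) (l := 5) rfl N58944 D198979
theorem N95899 : nd 95899 = n198980 := ndS (p := 58946) (l := 3) rfl N58946 D198980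
theorem N95900 : nd 95900 = n198981 := ndS (p := 58946) (l := 6) rfl N58946 D198981
theorem N95901 : nd 95901 = n198982 := ndS (p := 58947) (l := 6) rfl N58947 D198982
theorem N95902 : nd 95902 = n198983 := ndS (p := 58952) (l := 1) rfl N58952 D198983
theorem N95903 : nd 95903 = n198984 := ndS (p := 58955) (l := 6) rfl N58955 D198984
theorem N95904 : nd 95904 = n198985 := ndS (p := 58957) (l := 3) rfl N58957 D198985
theorem N95905 : nd 95905 = n198986 := ndS (p := 58957) (l := 6) rfl N58957 D198986
theorem N95906 : nd 95906 = n198987 := ndS (p := 58962) (l := 6) rfl N58962 D198987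
theorem N95907 : nd 95907 = n198988 := ndS (p := 58964) (l := 3) rfl N58964 D198988
theorem N95908 : nd 95908 = n198989 := ndS (p := 58965) (l := 3) rfl N58965 D198989
theorem N95909 : nd 95909 = n198990 := ndS (p := 58966) (l := 5) rfl N58966 D198990
theorem N95910 : nd 95910 = n198991 := ndS (p := 58967) (l := 0) rfl N58967 D198991
theorem N95911 : nd 95911 = n198992 := ndS (p := 58967) (l := 1) rfl N58967 D198992
theorem N95912 : nd 95912 = n198993 := ndS (p := 58968) (l := 0) rfl N58968 D198993
theorem N95913 : nd 95913 = n198994 := ndS (p := 58968) (l := 1) rfl N58968 D198994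
theorem N95914 : nd 95914 = n198995 := ndS (p := 58968) (l := 7) rfl N58968 D198995
theorem N95915 : nd 95915 = n198996 := ndS (p := 58969) (l := 5) rfl N58969 D198996
theorem N95916 : nd 95916 = n198997 := ndS (p := 58970) (l := 5) rfl N58970 D198997
theorem N95917 : nd 95917 = n198998 := ndS (p := 58974) (l := 3) rfl N58974 D198998
theorem N95918 : nd 95918 = n198999 := ndS (p := 58974) (l := 4) rfl N58974 D198999
theorem N95919 : nd 95919 = n199000 := ndS (p := 58974) (l := 6) rfl N58974 D199000
theorem N95920 : nd 95920 = n199001 := ndS (p := 58975) (l := 4) rfl N58975 D199001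
theorem N95921 : nd 95921 = n199002 := ndS (p := 58977) (l := 4) rfl N58977 D199002
theorem N95922 : nd 95922 = n199003 := ndS (p := 58977) (l := 6) rfl N58977 D199003
theorem N95923 : nd 95923 = n199004 := ndS (p := 58979) (l := 0) rfl N58979 D199004
theorem N95924 : nd 95924 = n199005 := ndS (p := 58979) (l := 1) rfl N58979 D199005
theorem N95925 : nd 95925 = n199006 := ndS (p := 58979) (l := 2) rfl N58979 D199006
theorem N95926 : nd 95926 = n199007 := ndS (p := 58979) (l := 6) rfl N58979 D199007
theorem N95927 : nd 95927 = n199008 := ndS (p := 58985) (l := 4) rfl N58985 D199008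
theorem N95928 : nd 95928 = n199009 := ndS (p := 58986) (l := 3) rfl N58986 D199009
theorem N95929 : nd 95929 = n199010 := ndS (p := 58986) (l := 5) rfl N58986 D199010
theorem N95930 : nd 95930 = n199011 := ndS (p := 58986) (l := 6) rfl N58986 D199011
theorem N95931 : nd 95931 = n199012 := ndS (p := 58990) (l := 0) rfl N58990 D199012
theorem N95932 : nd 95932 = n199013 := ndS (p := 58990) (l := 2) rfl N58990 D199013
theorem N95933 : nd 95933 = n199014 := ndS (p := 58992) (l := 5) rfl N58992 D199014
theorem N95934 : nd 95934 = n199015 := ndS (p := 58992) (l := 6) rfl N58992 D199015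
theorem N95935 : nd 95935 = n199016 := ndS (p := 58993) (l := 5) rfl N58993 D199016
theorem N95936 : nd 95936 = n199017 := ndS (p := 58994) (l := 1) rfl N58994 D199017
theorem N95937 : nd 95937 = n199018 := ndS (p := 58996) (l := 4) rfl N58996 D199018
theorem N95938 : nd 95938 = n199019 := ndS (p := 58996) (l := 6) rfl N58996 D199019
theorem N95939 : nd 95939 = n199020 := ndS (p := 58999) (l := 6) rfl N58999 D199020
theorem N95940 : nd 95940 = n199021 := ndS (p := 59002) (l := 6) rfl N59002 D199021
theorem N95941 : nd 95941 = n199022 := ndS (p := 59005) (l := 6) rfl N59005 D199022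
theorem N95942 : nd 95942 = n199023 := ndS (p := 59008) (l := 5) rfl N59008 D199023
theorem N95943 : nd 95943 = n199024 := ndS (p := 59008) (l := 6) rfl N59008 D199024
theorem N95944 : nd 95944 = n199025 := ndS (p := 59009) (l := 1) rfl N59009 D199025
theorem N95945 : nd 95945 = n199026 := ndS (p := 59009) (l := 6) rfl N59009 D199026
theorem N95946 : nd 95946 = n199027 := ndS (p := 59010) (l := 0) rfl N59010 D199027
theorem N95947 : nd 95947 = n199028 := ndS (p := 59010) (l := 1) rfl N59010 D199028
theorem N95948 : nd 95948 = n199029 := ndS (p := 59010) (l := 5) rfl N59010 D199029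
theorem N95949 : nd 95949 = n199030 := ndS (p := 59010) (l := 7) rfl N59010 D199030
theorem N95950 : nd 95950 = n199031 := ndS (p := 59011) (l := 0) rfl N59011 D199031
theorem N95951 : nd 95951 = n199032 := ndS (p := 59011) (l := 1) rfl N59011 D199032
theorem N95952 : nd 95952 = n199033 := ndS (p := 59012) (l := 0) rfl N59012 D199033
theorem N95953 : nd 95953 = n199034 := ndS (p := 59016) (l := 5) rfl N59016 D199034
theorem N95954 : nd 95954 = n199035 := ndS (p := 59018) (l := 6) rfl N59018 D199035
theorem N95955 : nd 95955 = n199036 := ndS (p := 59021) (l := 3) rfl N59021 D199036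
theorem N95956 : nd 95956 = n199037 := ndS (p := 59021) (l := 6) rfl N59021 D199037
theorem N95957 : nd 95957 = n199038 := ndS (p := 59022) (l := 6) rfl N59022 D199038
theorem N95958 : nd 95958 = n199039 := ndS (p := 59024) (l := 1) rfl N59024 D199039
theorem N95959 : nd 95959 = n199040 := ndS (p := 59024) (l := 7) rfl N59024 D199040
theorem N95960 : nd 95960 = n199041 := ndS (p := 59029) (l := 3) rfl N59029 D199041
theorem N95961 : nd 95961 = n199042 := ndS (p := 59029) (l := 6) rfl N59029 D199042
theorem N95962 : nd 95962 = n199043 := ndS (p := 59030) (l := 1) rfl N59030 D199043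
theorem N95963 : nd 95963 = n199044 := ndS (p := 59030) (l := 2) rfl N59030 D199044
theorem N95964 : nd 95964 = n199045 := ndS (p := 59030) (l := 5) rfl N59030 D199045
theorem N95965 : nd 95965 = n199046 := ndS (p := 59030) (l := 6) rfl N59030 D199046
theorem N95966 : nd 95966 = n199047 := ndS (p := 59030) (l := 7) rfl N59030 D199047
theorem N95967 : nd 95967 = n199048 := ndS (p := 59031) (l := 6) rfl N59031 D199048
theorem N95968 : nd 95968 = n199049 := ndS (p := 59032) (l := 4) rfl N59032 D199049
theorem N95969 : nd 95969 = n199050 := ndS (p := 59033) (l := 5) rfl N59033 D199050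
theorem N95970 : nd 95970 = n199051 := ndS (p := 59033) (l := 7) rfl N59033 D199051
theorem N95971 : nd 95971 = n199052 := ndS (p := 59034) (l := 6) rfl N59034 D199052
theorem N95972 : nd 95972 = n199053 := ndS (p := 59035) (l := 2) rfl N59035 D199053
theorem N95973 : nd 95973 = n199054 := ndS (p := 59035) (l := 5) rfl N59035 D199054
theorem N95974 : nd 95974 = n199055 := ndS (p := 59035) (l := 6) rfl N59035 D199055
theorem N95975 : nd 95975 = n199056 := ndS (p := 59036) (l := 4) rfl N59036 D199056
theorem N95976 : nd 95976 = n199057 := ndS (p := 59036) (l := 6) rfl N59036 D199057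
theorem N95977 : nd 95977 = n199058 := ndS (p := 59037) (l := 1) rfl N59037 D199058
theorem N95978 : nd 95978 = n199059 := ndS (p := 59037) (l := 5) rfl N59037 D199059
theorem N95979 : nd 95979 = n199060 := ndS (p := 59037) (l := 7) rfl N59037 D199060
theorem N95980 : nd 95980 = n199061 := ndS (p := 59038) (l := 1) rfl N59038 D199061
theorem N95981 : nd 95981 = n199062 := ndS (p := 59038) (l := 4) rfl N59038 D199062
theorem N95982 : nd 95982 = n199063 := ndS (p := 59038) (l := 6) rfl N59038 D199063
theorem N95983 : nd 95983 = n199064 := ndS (p := 59039) (l := 4) rfl N59039 D199064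
theorem N95984 : nd 95984 = n199065 := ndS (p := 59040) (l := 4) rfl N59040 D199065
theorem N95985 : nd 95985 = n199066 := ndS (p := 59041) (l := 1) rfl N59041 D199066
theorem N95986 : nd 95986 = n199067 := ndS (p := 59041) (l := 3) rfl N59041 D199067
theorem N95987 : nd 95987 = n199068 := ndS (p := 59041) (l := 5) rfl N59041 D199068
theorem N95988 : nd 95988 = n199069 := ndS (p := 59041) (l := 6) rfl N59041 D199069
theorem N95989 : nd 95989 = n199070 := ndS (p := 59042) (l := 0) rfl N59042 D199070
theorem N95990 : nd 95990 = n199071 := ndS (p := 59042) (l := 1) rfl N59042 D199071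
theorem N95991 : nd 95991 = n199072 := ndS (p := 59045) (l := 0) rfl N59045 D199072
theorem N95992 : nd 95992 = n199073 := ndS (p := 59045) (l := 1) rfl N59045 D199073
theorem N95993 : nd 95993 = n199074 := ndS (p := 59046) (l := 1) rfl N59046 D199074
theorem N95994 : nd 95994 = n199075 := ndS (p := 59046) (l := 7) rfl N59046 D199075
theorem N95995 : nd 95995 = n199076 := ndS (p := 59047) (l := 3) rfl N59047 D199076
theorem N95996 : nd 95996 = n199077 := ndS (p := 59047) (l := 4) rfl N59047 D199077
theorem N95997 : nd 95997 = n199078 := ndS (p := 59047) (l := 5) rfl N59047 D199078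
theorem N95998 : nd 95998 = n199079 := ndS (p := 59047) (l := 6) rfl N59047 D199079
theorem N95999 : nd 95999 = n199080 := ndS (p := 59048) (l := 3) rfl N59048 D199080
theorem N96000 : nd 96000 = n199081 := ndS (p := 59048) (l := 4) rfl N59048 D199081
theorem N96001 : nd 96001 = n199082 := ndS (p := 59050) (l := 0) rfl N59050 D199082
theorem N96002 : nd 96002 = n199083 := ndS (p := 59050) (l := 1) rfl N59050 D199083
theorem N96003 : nd 96003 = n199084 := ndS (p := 59052) (l := 0) rfl N59052 D199084
theorem N96004 : nd 96004 = n199085 := ndS (p := 59052) (l := 4) rfl N59052 D199085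
theorem N96005 : nd 96005 = n199086 := ndS (p := 59056) (l := 4) rfl N59056 D199086
theorem N96006 : nd 96006 = n199087 := ndS (p := 59056) (l := 6) rfl N59056 D199087
theorem N96007 : nd 96007 = n199088 := ndS (p := 59057) (l := 3) rfl N59057 D199088
theorem N96008 : nd 96008 = n199089 := ndS (p := 59059) (l := 0) rfl N59059 D199089
theorem N96009 : nd 96009 = n199090 := ndS (p := 59059) (l := 1) rfl N59059 D199090
theorem N96010 : nd 96010 = n199091 := ndS (p := 59059) (l := 6) rfl N59059 D199091
theorem N96011 : nd 96011 = n199092 := ndS (p := 59060) (l := 0) rfl N59060 D199092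
theorem N96012 : nd 96012 = n199093 := ndS (p := 59060) (l := 1) rfl N59060 D199093
theorem N96013 : nd 96013 = n199094 := ndS (p := 59060) (l := 5) rfl N59060 D199094
theorem N96014 : nd 96014 = n199095 := ndS (p := 59060) (l := 7) rfl N59060 D199095
theorem N96015 : nd 96015 = n199096 := ndS (p := 59061) (l := 3) rfl N59061 D199096
theorem N96016 : nd 96016 = n199097 := ndS (p := 59062) (l := 3) rfl N59062 D199097
theorem N96017 : nd 96017 = n199098 := ndS (p := 59063) (l := 7) rfl N59063 D199098
theorem N96018 : nd 96018 = n199099 := ndS (p := 59066) (l := 3) rfl N59066 D199099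
theorem N96019 : nd 96019 = n199100 := ndS (p := 59067) (l := 3) rfl N59067 D199100
theorem N96020 : nd 96020 = n199101 := ndS (p := 59068) (l := 5) rfl N59068 D199101
theorem N96021 : nd 96021 = n199102 := ndS (p := 59068) (l := 6) rfl N59068 D199102
theorem N96022 : nd 96022 = n199103 := ndS (p := 59069) (l := 1) rfl N59069 D199103
theorem N96023 : nd 96023 = n199104 := ndS (p := 59070) (l := 5) rfl N59070 D199104
theorem N96024 : nd 96024 = n199105 := ndS (p := 59071) (l := 5) rfl N59071 D199105
theorem N96025 : nd 96025 = n199106 := ndS (p := 59072) (l := 3) rfl N59072 D199106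
theorem N96026 : nd 96026 = n199107 := ndS (p := 59072) (l := 5) rfl N59072 D199107
theorem N96027 : nd 96027 = n199108 := ndS (p := 59073) (l := 3) rfl N59073 D199108
theorem N96028 : nd 96028 = n199109 := ndS (p := 59073) (l := 5) rfl N59073 D199109
theorem N96029 : nd 96029 = n199110 := ndS (p := 59074) (l := 4) rfl N59074 D199110
theorem N96030 : nd 96030 = n199111 := ndS (p := 59078) (l := 3) rfl N59078 D199111
theorem N96031 : nd 96031 = n199112 := ndS (p := 59078) (l := 5) rfl N59078 D199112
theorem N96032 : nd 96032 = n199113 := ndS (p := 59078) (l := 6) rfl N59078 D199113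
theorem N96033 : nd 96033 = n199114 := ndS (p := 59079) (l := 6) rfl N59079 D199114
theorem N96034 : nd 96034 = n199115 := ndS (p := 59080) (l := 1) rfl N59080 D199115
theorem N96035 : nd 96035 = n199116 := ndS (p := 59080) (l := 6) rfl N59080 D199116
theorem N96036 : nd 96036 = n199117 := ndS (p := 59081) (l := 0) rfl N59081 D199117
theorem N96037 : nd 96037 = n199118 := ndS (p := 59081) (l := 6) rfl N59081 D199118
theorem N96038 : nd 96038 = n199119 := ndS (p := 59081) (l := 7) rfl N59081 D199119
theorem N96039 : nd 96039 = n199120 := ndS (p := 59082) (l := 0) rfl N59082 D199120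
theorem N96040 : nd 96040 = n199121 := ndS (p := 59082) (l := 5) rfl N59082 D199121
theorem N96041 : nd 96041 = n199122 := ndS (p := 59082) (l := 7) rfl N59082 D199122
theorem N96042 : nd 96042 = n199123 := ndS (p := 59084) (l := 0) rfl N59084 D199123
theorem N96043 : nd 96043 = n199124 := ndS (p := 59087) (l := 1) rfl N59087 D199124
theorem N96044 : nd 96044 = n199125 := ndS (p := 59090) (l := 3) rfl N59090 D199125
theorem N96045 : nd 96045 = n199126 := ndS (p := 59091) (l := 0) rfl N59091 D199126
theorem N96046 : nd 96046 = n199127 := ndS (p := 59091) (l := 1) rfl N59091 D199127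
theorem N96047 : nd 96047 = n199128 := ndS (p := 59096) (l := 6) rfl N59096 D199128
theorem N96048 : nd 96048 = n199129 := ndS (p := 59097) (l := 0) rfl N59097 D199129
theorem N96049 : nd 96049 = n199130 := ndS (p := 59097) (l := 3) rfl N59097 D199130
theorem N96050 : nd 96050 = n199131 := ndS (p := 59097) (l := 6) rfl N59097 D199131
theorem N96051 : nd 96051 = n199132 := ndS (p := 59098) (l := 0) rfl N59098 D199132
theorem N96052 : nd 96052 = n199133 := ndS (p := 59098) (l := 5) rfl N59098 D199133
theorem N96053 : nd 96053 = n199134 := ndS (p := 59098) (l := 7) rfl N59098 D199134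
theorem N96054 : nd 96054 = n199135 := ndS (p := 59099) (l := 0) rfl N59099 D199135
theorem N96055 : nd 96055 = n199136 := ndS (p := 59099) (l := 2) rfl N59099 D199136
theorem N96056 : nd 96056 = n199137 := ndS (p := 59099) (l := 4) rfl N59099 D199137
theorem N96057 : nd 96057 = n199138 := ndS (p := 59099) (l := 6) rfl N59099 D199138
theorem N96058 : nd 96058 = n199139 := ndS (p := 59100) (l := 5) rfl N59100 D199139
theorem N96059 : nd 96059 = n199140 := ndS (p := 59101) (l := 5) rfl N59101 D199140
theorem N96060 : nd 96060 = n199141 := ndS (p := 59101) (l := 7) rfl N59101 D199141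
theorem N96061 : nd 96061 = n199142 := ndS (p := 59102) (l := 2) rfl N59102 D199142
theorem N96062 : nd 96062 = n199143 := ndS (p := 59104) (l := 6) rfl N59104 D199143
theorem N96063 : nd 96063 = n199144 := ndS (p := 59105) (l := 6) rfl N59105 D199144
theorem N96064 : nd 96064 = n199145 := ndS (p := 59107) (l := 6) rfl N59107 D199145
theorem N96065 : nd 96065 = n199146 := ndS (p := 59108) (l := 3) rfl N59108 D199146
theorem N96066 : nd 96066 = n199147 := ndS (p := 59110) (l := 6) rfl N59110 D199147
theorem N96067 : nd 96067 = n199148 := ndS (p := 59111) (l := 6) rfl N59111 D199148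
theorem N96068 : nd 96068 = n199149 := ndS (p := 59113) (l := 6) rfl N59113 D199149
theorem N96069 : nd 96069 = n199150 := ndS (p := 59116) (l := 3) rfl N59116 D199150
theorem N96070 : nd 96070 = n199151 := ndS (p := 59116) (l := 6) rfl N59116 D199151
theorem N96071 : nd 96071 = n199152 := ndS (p := 59117) (l := 6) rfl N59117 D199152
theorem N96072 : nd 96072 = n199153 := ndS (p := 59118) (l := 3) rfl N59118 D199153
theorem N96073 : nd 96073 = n199154 := ndS (p := 59120) (l := 1) rfl N59120 D199154
theorem N96074 : nd 96074 = n199155 := ndS (p := 59121) (l := 1) rfl N59121 D199155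
theorem N96075 : nd 96075 = n199156 := ndS (p := 59122) (l := 6) rfl N59122 D199156
theorem N96076 : nd 96076 = n199157 := ndS (p := 59123) (l := 4) rfl N59123 D199157
theorem N96077 : nd 96077 = n199158 := ndS (p := 59127) (l := 6) rfl N59127 D199158
theorem N96078 : nd 96078 = n199159 := ndS (p := 59128) (l := 3) rfl N59128 D199159
theorem N96079 : nd 96079 = n199160 := ndS (p := 59128) (l := 6) rfl N59128 D199160
theorem N96080 : nd 96080 = n199161 := ndS (p := 59131) (l := 6) rfl N59131 D199161
theorem N96081 : nd 96081 = n199162 := ndS (p := 59135) (l := 5) rfl N59135 D199162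
theorem N96082 : nd 96082 = n199163 := ndS (p := 59135) (l := 7) rfl N59135 D199163
theorem N96083 : nd 96083 = n199164 := ndS (p := 59137) (l := 6) rfl N59137 D199164
theorem N96084 : nd 96084 = n199165 := ndS (p := 59138) (l := 0) rfl N59138 D199165
theorem N96085 : nd 96085 = n199166 := ndS (p := 59141) (l := 0) rfl N59141 D199166
theorem N96086 : nd 96086 = n199167 := ndS (p := 59141) (l := 1) rfl N59141 D199167
theorem N96087 : nd 96087 = n199168 := ndS (p := 59143) (l := 4) rfl N59143 D199168
theorem N96088 : nd 96088 = n199169 := ndS (p := 59143) (l := 6) rfl N59143 D199169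
theorem N96089 : nd 96089 = n199170 := ndS (p := 59145) (l := 3) rfl N59145 D199170
theorem N96090 : nd 96090 = n199171 := ndS (p := 59145) (l := 4) rfl N59145 D199171
theorem N96091 : nd 96091 = n199172 := ndS (p := 59145) (l := 6) rfl N59145 D199172
theorem N96092 : nd 96092 = n199173 := ndS (p := 59146) (l := 3) rfl N59146 D199173
theorem N96093 : nd 96093 = n199174 := ndS (p := 59146) (l := 4) rfl N59146 D199174
theorem N96094 : nd 96094 = n199175 := ndS (p := 59146) (l := 6) rfl N59146 D199175
theorem N96095 : nd 96095 = n199176 := ndS (p := 59147) (l := 3) rfl N59147 D199176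
theorem N96096 : nd 96096 = n199177 := ndS (p := 59149) (l := 3) rfl N59149 D199177
theorem N96097 : nd 96097 = n199178 := ndS (p := 59149) (l := 5) rfl N59149 D199178
theorem N96098 : nd 96098 = n199179 := ndS (p := 59151) (l := 1) rfl N59151 D199179
theorem N96099 : nd 96099 = n199180 := ndS (p := 59153) (l := 5) rfl N59153 D199180
theorem N96100 : nd 96100 = n199181 := ndS (p := 59153) (l := 6) rfl N59153 D199181
theorem N96101 : nd 96101 = n199182 := ndS (p := 59156) (l := 5) rfl N59156 D199182
theorem N96102 : nd 96102 = n199183 := ndS (p := 59157) (l := 4) rfl N59157 D199183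
theorem N96103 : nd 96103 = n199184 := ndS (p := 59157) (l := 6) rfl N59157 D199184
theorem N96104 : nd 96104 = n199185 := ndS (p := 59158) (l := 3) rfl N59158 D199185
theorem N96105 : nd 96105 = n199186 := ndS (p := 59158) (l := 6) rfl N59158 D199186
theorem N96106 : nd 96106 = n199187 := ndS (p := 59161) (l := 6) rfl N59161 D199187
theorem N96107 : nd 96107 = n199188 := ndS (p := 59162) (l := 5) rfl N59162 D199188
theorem N96108 : nd 96108 = n199189 := ndS (p := 59163) (l := 6) rfl N59163 D199189
theorem N96109 : nd 96109 = n199190 := ndS (p := 59164) (l := 5) rfl N59164 D199190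
theorem N96110 : nd 96110 = n199191 := ndS (p := 59164) (l := 6) rfl N59164 D199191
theorem N96111 : nd 96111 = n199192 := ndS (p := 59165) (l := 5) rfl N59165 D199192
theorem N96112 : nd 96112 = n199193 := ndS (p := 59166) (l := 1) rfl N59166 D199193
theorem N96113 : nd 96113 = n199194 := ndS (p := 59166) (l := 6) rfl N59166 D199194
theorem N96114 : nd 96114 = n199195 := ndS (p := 59167) (l := 0) rfl N59167 D199195
theorem N96115 : nd 96115 = n199196 := ndS (p := 59167) (l := 1) rfl N59167 D199196
theorem N96116 : nd 96116 = n199197 := ndS (p := 59167) (l := 5) rfl N59167 D199197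
theorem N96117 : nd 96117 = n199198 := ndS (p := 59167) (l := 7) rfl N59167 D199198
theorem N96118 : nd 96118 = n199199 := ndS (p := 59169) (l := 5) rfl N59169 D199199
theorem N96119 : nd 96119 = n199200 := ndS (p := 59170) (l := 0) rfl N59170 D199200
theorem N96120 : nd 96120 = n199201 := ndS (p := 59170) (l := 1) rfl N59170 D199201
theorem N96121 : nd 96121 = n199202 := ndS (p := 59170) (l := 4) rfl N59170 D199202
theorem N96122 : nd 96122 = n199203 := ndS (p := 59170) (l := 6) rfl N59170 D199203
theorem N96123 : nd 96123 = n199204 := ndS (p := 59170) (l := 7) rfl N59170 D199204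
theorem N96124 : nd 96124 = n199205 := ndS (p := 59171) (l := 5) rfl N59171 D199205
theorem N96125 : nd 96125 = n199206 := ndS (p := 59172) (l := 6) rfl N59172 D199206
theorem N96126 : nd 96126 = n199207 := ndS (p := 59173) (l := 1) rfl N59173 D199207
theorem N96127 : nd 96127 = n199208 := ndS (p := 59173) (l := 3) rfl N59173 D199208
theorem N96128 : nd 96128 = n199209 := ndS (p := 59173) (l := 5) rfl N59173 D199209
theorem N96129 : nd 96129 = n199210 := ndS (p := 59173) (l := 6) rfl N59173 D199210
theorem N96130 : nd 96130 = n199211 := ndS (p := 59174) (l := 5) rfl N59174 D199211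
theorem N96131 : nd 96131 = n199212 := ndS (p := 59175) (l := 5) rfl N59175 D199212
theorem N96132 : nd 96132 = n199213 := ndS (p := 59176) (l := 0) rfl N59176 D199213
theorem N96133 : nd 96133 = n199214 := ndS (p := 59176) (l := 4) rfl N59176 D199214
theorem N96134 : nd 96134 = n199215 := ndS (p := 59176) (l := 7) rfl N59176 D199215
theorem N96135 : nd 96135 = n199216 := ndS (p := 59178) (l := 5) rfl N59178 D199216
theorem N96136 : nd 96136 = n199217 := ndS (p := 59180) (l := 6) rfl N59180 D199217
theorem N96137 : nd 96137 = n199218 := ndS (p := 59181) (l := 5) rfl N59181 D199218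
theorem N96138 : nd 96138 = n199219 := ndS (p := 59183) (l := 0) rfl N59183 D199219
theorem N96139 : nd 96139 = n199220 := ndS (p := 59183) (l := 1) rfl N59183 D199220
theorem N96140 : nd 96140 = n199221 := ndS (p := 59183) (l := 5) rfl N59183 D199221
theorem N96141 : nd 96141 = n199222 := ndS (p := 59183) (l := 7) rfl N59183 D199222
theorem N96142 : nd 96142 = n199223 := ndS (p := 59184) (l := 4) rfl N59184 D199223
theorem N96143 : nd 96143 = n199224 := ndS (p := 59184) (l := 6) rfl N59184 D199224
theorem N96144 : nd 96144 = n199225 := ndS (p := 59185) (l := 0) rfl N59185 D199225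
theorem N96145 : nd 96145 = n199226 := ndS (p := 59185) (l := 1) rfl N59185 D199226
theorem N96146 : nd 96146 = n199227 := ndS (p := 59185) (l := 5) rfl N59185 D199227
theorem N96147 : nd 96147 = n199228 := ndS (p := 59185) (l := 7) rfl N59185 D199228
theorem N96148 : nd 96148 = n199229 := ndS (p := 59186) (l := 6) rfl N59186 D199229
theorem N96149 : nd 96149 = n199230 := ndS (p := 59187) (l := 5) rfl N59187 D199230
theorem N96150 : nd 96150 = n199231 := ndS (p := 59188) (l := 5) rfl N59188 D199231
theorem N96151 : nd 96151 = n199233 := ndS (p := 59189) (l := 1) rfl N59189 D199233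
theorem N96152 : nd 96152 = n199234 := ndS (p := 59189) (l := 4) rfl N59189 D199234
theorem N96153 : nd 96153 = n199235 := ndS (p := 59189) (l := 7) rfl N59189 D199235
theorem N96154 : nd 96154 = n199236 := ndS (p := 59191) (l := 0) rfl N59191 D199236
theorem N96155 : nd 96155 = n199237 := ndS (p := 59191) (l := 1) rfl N59191 D199237
theorem N96156 : nd 96156 = n199238 := ndS (p := 59191) (l := 7) rfl N59191 D199238
theorem N96157 : nd 96157 = n199239 := ndS (p := 59192) (l := 6) rfl N59192 D199239
theorem N96158 : nd 96158 = n199240 := ndS (p := 59193) (l := 5) rfl N59193 D199240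
theorem N96159 : nd 96159 = n199241 := ndS (p := 59194) (l := 5) rfl N59194 D199241
theorem N96160 : nd 96160 = n199242 := ndS (p := 59196) (l := 1) rfl N59196 D199242
theorem N96161 : nd 96161 = n199243 := ndS (p := 59196) (l := 5) rfl N59196 D199243
theorem N96162 : nd 96162 = n199244 := ndS (p := 59196) (l := 7) rfl N59196 D199244
theorem N96163 : nd 96163 = n199245 := ndS (p := 59197) (l := 3) rfl N59197 D199245
theorem N96164 : nd 96164 = n199246 := ndS (p := 59197) (l := 4) rfl N59197 D199246
theorem N96165 : nd 96165 = n199247 := ndS (p := 59197) (l := 5) rfl N59197 D199247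
theorem N96166 : nd 96166 = n199248 := ndS (p := 59197) (l := 6) rfl N59197 D199248
theorem N96167 : nd 96167 = n199249 := ndS (p := 59198) (l := 4) rfl N59198 D199249
theorem N96168 : nd 96168 = n199250 := ndS (p := 59198) (l := 5) rfl N59198 D199250
theorem N96169 : nd 96169 = n199251 := ndS (p := 59198) (l := 6) rfl N59198 D199251
theorem N96170 : nd 96170 = n199252 := ndS (p := 59200) (l := 3) rfl N59200 D199252
theorem N96171 : nd 96171 = n199253 := ndS (p := 59200) (l := 5) rfl N59200 D199253
theorem N96172 : nd 96172 = n199254 := ndS (p := 59200) (l := 6) rfl N59200 D199254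
theorem N96173 : nd 96173 = n199255 := ndS (p := 59201) (l := 3) rfl N59201 D199255
theorem N96174 : nd 96174 = n199256 := ndS (p := 59201) (l := 5) rfl N59201 D199256
theorem N96175 : nd 96175 = n199257 := ndS (p := 59201) (l := 6) rfl N59201 D199257
theorem N96176 : nd 96176 = n199258 := ndS (p := 59203) (l := 1) rfl N59203 D199258
theorem N96177 : nd 96177 = n199259 := ndS (p := 59204) (l := 6) rfl N59204 D199259
theorem N96178 : nd 96178 = n199260 := ndS (p := 59205) (l := 4) rfl N59205 D199260
theorem N96179 : nd 96179 = n199261 := ndS (p := 59205) (l := 6) rfl N59205 D199261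
theorem N96180 : nd 96180 = n199262 := ndS (p := 59207) (l := 6) rfl N59207 D199262
theorem N96181 : nd 96181 = n199263 := ndS (p := 59212) (l := 3) rfl N59212 D199263
theorem N96182 : nd 96182 = n199264 := ndS (p := 59212) (l := 4) rfl N59212 D199264
theorem N96183 : nd 96183 = n199265 := ndS (p := 59212) (l := 6) rfl N59212 D199265
theorem N96184 : nd 96184 = n199266 := ndS (p := 59213) (l := 3) rfl N59213 D199266
theorem N96185 : nd 96185 = n199267 := ndS (p := 59214) (l := 5) rfl N59214 D199267
theorem N96186 : nd 96186 = n199268 := ndS (p := 59215) (l := 4) rfl N59215 D199268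
theorem N96187 : nd 96187 = n199269 := ndS (p := 59218) (l := 3) rfl N59218 D199269
theorem N96188 : nd 96188 = n199270 := ndS (p := 59220) (l := 4) rfl N59220 D199270
theorem N96189 : nd 96189 = n199271 := ndS (p := 59220) (l := 7) rfl N59220 D199271
theorem N96190 : nd 96190 = n199272 := ndS (p := 59222) (l := 0) rfl N59222 D199272
theorem N96191 : nd 96191 = n199273 := ndS (p := 59222) (l := 3) rfl N59222 D199273
theorem N96192 : nd 96192 = n199274 := ndS (p := 59224) (l := 4) rfl N59224 D199274
theorem N96193 : nd 96193 = n199275 := ndS (p := 59224) (l := 6) rfl N59224 D199275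
theorem N96194 : nd 96194 = n199276 := ndS (p := 59227) (l := 4) rfl N59227 D199276
theorem N96195 : nd 96195 = n199277 := ndS (p := 59229) (l := 0) rfl N59229 D199277
theorem N96196 : nd 96196 = n199278 := ndS (p := 59229) (l := 1) rfl N59229 D199278
theorem N96197 : nd 96197 = n199279 := ndS (p := 59229) (l := 5) rfl N59229 D199279
theorem N96198 : nd 96198 = n199280 := ndS (p := 59230) (l := 3) rfl N59230 D199280
theorem N96199 : nd 96199 = n199281 := ndS (p := 59230) (l := 5) rfl N59230 D199281
theorem N96200 : nd 96200 = n199282 := ndS (p := 59231) (l := 3) rfl N59231 D199282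
theorem N96201 : nd 96201 = n199283 := ndS (p := 59232) (l := 4) rfl N59232 D199283
theorem N96202 : nd 96202 = n199284 := ndS (p := 59234) (l := 3) rfl N59234 D199284
theorem N96203 : nd 96203 = n199285 := ndS (p := 59234) (l := 5) rfl N59234 D199285
theorem N96204 : nd 96204 = n199286 := ndS (p := 59235) (l := 3) rfl N59235 D199286
theorem N96205 : nd 96205 = n199287 := ndS (p := 59235) (l := 5) rfl N59235 D199287
theorem N96206 : nd 96206 = n199288 := ndS (p := 59237) (l := 5) rfl N59237 D199288
theorem N96207 : nd 96207 = n199289 := ndS (p := 59237) (l := 6) rfl N59237 D199289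
theorem N96208 : nd 96208 = n199290 := ndS (p := 59238) (l := 3) rfl N59238 D199290
theorem N96209 : nd 96209 = n199291 := ndS (p := 59242) (l := 0) rfl N59242 D199291
theorem N96210 : nd 96210 = n199292 := ndS (p := 59243) (l := 4) rfl N59243 D199292
theorem N96211 : nd 96211 = n199293 := ndS (p := 59246) (l := 6) rfl N59246 D199293
theorem N96212 : nd 96212 = n199294 := ndS (p := 59248) (l := 6) rfl N59248 D199294
theorem N96213 : nd 96213 = n199295 := ndS (p := 59250) (l := 1) rfl N59250 D199295
theorem N96214 : nd 96214 = n199296 := ndS (p := 59250) (l := 7) rfl N59250 D199296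
theorem N96215 : nd 96215 = n199297 := ndS (p := 59253) (l := 5) rfl N59253 D199297
theorem N96216 : nd 96216 = n199298 := ndS (p := 59253) (l := 6) rfl N59253 D199298
theorem N96217 : nd 96217 = n199299 := ndS (p := 59254) (l := 5) rfl N59254 D199299
theorem N96218 : nd 96218 = n199300 := ndS (p := 59254) (l := 6) rfl N59254 D199300
theorem N96219 : nd 96219 = n199301 := ndS (p := 59255) (l := 6) rfl N59255 D199301
theorem N96220 : nd 96220 = n199302 := ndS (p := 59256) (l := 1) rfl N59256 D199302
theorem N96221 : nd 96221 = n199303 := ndS (p := 59256) (l := 5) rfl N59256 D199303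
theorem N96222 : nd 96222 = n199304 := ndS (p := 59257) (l := 7) rfl N59257 D199304
theorem N96223 : nd 96223 = n199305 := ndS (p := 59258) (l := 0) rfl N59258 D199305
theorem N96224 : nd 96224 = n199306 := ndS (p := 59260) (l := 5) rfl N59260 D199306
theorem N96225 : nd 96225 = n199307 := ndS (p := 59262) (l := 0) rfl N59262 D199307
theorem N96226 : nd 96226 = n199308 := ndS (p := 59262) (l := 1) rfl N59262 D199308
theorem N96227 : nd 96227 = n199309 := ndS (p := 59263) (l := 4) rfl N59263 D199309
theorem N96228 : nd 96228 = n199310 := ndS (p := 59263) (l := 6) rfl N59263 D199310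
theorem N96229 : nd 96229 = n199311 := ndS (p := 59264) (l := 3) rfl N59264 D199311
theorem N96230 : nd 96230 = n199312 := ndS (p := 59264) (l := 4) rfl N59264 D199312
theorem N96231 : nd 96231 = n199313 := ndS (p := 59264) (l := 6) rfl N59264 D199313
theorem N96232 : nd 96232 = n199314 := ndS (p := 59265) (l := 0) rfl N59265 D199314
theorem N96233 : nd 96233 = n199315 := ndS (p := 59265) (l := 3) rfl N59265 D199315
theorem N96234 : nd 96234 = n199316 := ndS (p := 59265) (l := 7) rfl N59265 D199316
theorem N96235 : nd 96235 = n199317 := ndS (p := 59267) (l := 0) rfl N59267 D199317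
theorem N96236 : nd 96236 = n199318 := ndS (p := 59267) (l := 1) rfl N59267 D199318
theorem N96237 : nd 96237 = n199319 := ndS (p := 59268) (l := 2) rfl N59268 D199319
theorem N96238 : nd 96238 = n199320 := ndS (p := 59269) (l := 5) rfl N59269 D199320
theorem N96239 : nd 96239 = n199321 := ndS (p := 59271) (l := 0) rfl N59271 D199321
theorem N96240 : nd 96240 = n199322 := ndS (p := 59271) (l := 1) rfl N59271 D199322
theorem N96241 : nd 96241 = n199323 := ndS (p := 59271) (l := 2) rfl N59271 D199323
theorem N96242 : nd 96242 = n199324 := ndS (p := 59272) (l := 5) rfl N59272 D199324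
theorem N96243 : nd 96243 = n199325 := ndS (p := 59274) (l := 3) rfl N59274 D199325
theorem N96244 : nd 96244 = n199326 := ndS (p := 59274) (l := 5) rfl N59274 D199326
theorem N96245 : nd 96245 = n199327 := ndS (p := 59274) (l := 6) rfl N59274 D199327
theorem N96246 : nd 96246 = n199328 := ndS (p := 59275) (l := 0) rfl N59275 D199328
theorem N96247 : nd 96247 = n199329 := ndS (p := 59275) (l := 1) rfl N59275 D199329
theorem N96248 : nd 96248 = n199330 := ndS (p := 59275) (l := 4) rfl N59275 D199330
theorem N96249 : nd 96249 = n199331 := ndS (p := 59277) (l := 5) rfl N59277 D199331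
theorem N96250 : nd 96250 = n199332 := ndS (p := 59278) (l := 3) rfl N59278 D199332
theorem N96251 : nd 96251 = n199333 := ndS (p := 59278) (l := 4) rfl N59278 D199333
theorem N96252 : nd 96252 = n199334 := ndS (p := 59278) (l := 6) rfl N59278 D199334
theorem N96253 : nd 96253 = n199335 := ndS (p := 59279) (l := 3) rfl N59279 D199335
theorem N96254 : nd 96254 = n199336 := ndS (p := 59279) (l := 5) rfl N59279 D199336
theorem N96255 : nd 96255 = n199337 := ndS (p := 59281) (l := 0) rfl N59281 D199337
theorem N96256 : nd 96256 = n199338 := ndS (p := 59281) (l := 1) rfl N59281 D199338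
theorem N96257 : nd 96257 = n199339 := ndS (p := 59282) (l := 0) rfl N59282 D199339
theorem N96258 : nd 96258 = n199340 := ndS (p := 59283) (l := 3) rfl N59283 D199340
theorem N96259 : nd 96259 = n199341 := ndS (p := 59283) (l := 4) rfl N59283 D199341
theorem N96260 : nd 96260 = n199342 := ndS (p := 59284) (l := 5) rfl N59284 D199342
theorem N96261 : nd 96261 = n199343 := ndS (p := 59284) (l := 6) rfl N59284 D199343
theorem N96262 : nd 96262 = n199344 := ndS (p := 59285) (l := 0) rfl N59285 D199344
theorem N96263 : nd 96263 = n199345 := ndS (p := 59286) (l := 0) rfl N59286 D199345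
theorem N96264 : nd 96264 = n199346 := ndS (p := 59287) (l := 4) rfl N59287 D199346
theorem N96265 : nd 96265 = n199347 := ndS (p := 59289) (l := 3) rfl N59289 D199347
theorem N96266 : nd 96266 = n199348 := ndS (p := 59289) (l := 6) rfl N59289 D199348
theorem N96267 : nd 96267 = n199349 := ndS (p := 59291) (l := 6) rfl N59291 D199349
theorem N96268 : nd 96268 = n199350 := ndS (p := 59293) (l := 6) rfl N59293 D199350
theorem N96269 : nd 96269 = n199351 := ndS (p := 59294) (l := 6) rfl N59294 D199351
theorem N96270 : nd 96270 = n199352 := ndS (p := 59295) (l := 0) rfl N59295 D199352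
theorem N96271 : nd 96271 = n199353 := ndS (p := 59295) (l := 1) rfl N59295 D199353
theorem N96272 : nd 96272 = n199354 := ndS (p := 59295) (l := 5) rfl N59295 D199354
theorem N96273 : nd 96273 = n199355 := ndS (p := 59295) (l := 7) rfl N59295 D199355
theorem N96274 : nd 96274 = n199356 := ndS (p := 59296) (l := 5) rfl N59296 D199356
theorem N96275 : nd 96275 = n199357 := ndS (p := 59296) (l := 7) rfl N59296 D199357
theorem N96276 : nd 96276 = n199358 := ndS (p := 59297) (l := 4) rfl N59297 D199358
theorem N96277 : nd 96277 = n199359 := ndS (p := 59299) (l := 4) rfl N59299 D199359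
theorem N96278 : nd 96278 = n199360 := ndS (p := 59299) (l := 5) rfl N59299 D199360
theorem N96279 : nd 96279 = n199361 := ndS (p := 59300) (l := 3) rfl N59300 D199361
theorem N96280 : nd 96280 = n199362 := ndS (p := 59300) (l := 4) rfl N59300 D199362
theorem N96281 : nd 96281 = n199363 := ndS (p := 59300) (l := 5) rfl N59300 D199363
theorem N96282 : nd 96282 = n199364 := ndS (p := 59300) (l := 6) rfl N59300 D199364
theorem N96283 : nd 96283 = n199365 := ndS (p := 59301) (l := 6) rfl N59301 D199365
theorem N96284 : nd 96284 = n199366 := ndS (p := 59302) (l := 6) rfl N59302 D199366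
theorem N96285 : nd 96285 = n199368 := ndS (p := 59303) (l := 1) rfl N59303 D199368
theorem N96286 : nd 96286 = n199369 := ndS (p := 59303) (l := 4) rfl N59303 D199369
theorem N96287 : nd 96287 = n199370 := ndS (p := 59303) (l := 6) rfl N59303 D199370
theorem N96288 : nd 96288 = n199371 := ndS (p := 59304) (l := 3) rfl N59304 D199371
theorem N96289 : nd 96289 = n199372 := ndS (p := 59304) (l := 6) rfl N59304 D199372
theorem N96290 : nd 96290 = n199373 := ndS (p := 59304) (l := 7) rfl N59304 D199373
theorem N96291 : nd 96291 = n199374 := ndS (p := 59305) (l := 4) rfl N59305 D199374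
theorem N96292 : nd 96292 = n199375 := ndS (p := 59305) (l := 6) rfl N59305 D199375
theorem N96293 : nd 96293 = n199376 := ndS (p := 59306) (l := 0) rfl N59306 D199376
theorem N96294 : nd 96294 = n199378 := ndS (p := 59306) (l := 5) rfl N59306 D199378
theorem N96295 : nd 96295 = n199379 := ndS (p := 59306) (l := 7) rfl N59306 D199379
theorem N96296 : nd 96296 = n199380 := ndS (p := 59310) (l := 5) rfl N59310 D199380
theorem N96297 : nd 96297 = n199381 := ndS (p := 59311) (l := 0) rfl N59311 D199381
theorem N96298 : nd 96298 = n199382 := ndS (p := 59311) (l := 1) rfl N59311 D199382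
theorem N96299 : nd 96299 = n199383 := ndS (p := 59311) (l := 5) rfl N59311 D199383
theorem N96300 : nd 96300 = n199384 := ndS (p := 59312) (l := 6) rfl N59312 D199384
theorem N96301 : nd 96301 = n199385 := ndS (p := 59313) (l := 5) rfl N59313 D199385
theorem N96302 : nd 96302 = n199386 := ndS (p := 59314) (l := 2) rfl N59314 D199386
theorem N96303 : nd 96303 = n199387 := ndS (p := 59314) (l := 4) rfl N59314 D199387
theorem N96304 : nd 96304 = n199388 := ndS (p := 59315) (l := 5) rfl N59315 D199388
theorem N96305 : nd 96305 = n199389 := ndS (p := 59316) (l := 4) rfl N59316 D199389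
theorem N96306 : nd 96306 = n199390 := ndS (p := 59320) (l := 0) rfl N59320 D199390
theorem N96307 : nd 96307 = n199391 := ndS (p := 59320) (l := 1) rfl N59320 D199391
theorem N96308 : nd 96308 = n199392 := ndS (p := 59321) (l := 3) rfl N59321 D199392
theorem N96309 : nd 96309 = n199393 := ndS (p := 59323) (l := 5) rfl N59323 D199393
theorem N96310 : nd 96310 = n199394 := ndS (p := 59324) (l := 0) rfl N59324 D199394
theorem N96311 : nd 96311 = n199395 := ndS (p := 59324) (l := 1) rfl N59324 D199395
theorem N96312 : nd 96312 = n199396 := ndS (p := 59324) (l := 4) rfl N59324 D199396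
theorem N96313 : nd 96313 = n199397 := ndS (p := 59324) (l := 6) rfl N59324 D199397
theorem N96314 : nd 96314 = n199398 := ndS (p := 59332) (l := 5) rfl N59332 D199398
theorem N96315 : nd 96315 = n199399 := ndS (p := 59332) (l := 6) rfl N59332 D199399
theorem N96316 : nd 96316 = n199400 := ndS (p := 59333) (l := 0) rfl N59333 D199400
theorem N96317 : nd 96317 = n199401 := ndS (p := 59333) (l := 1) rfl N59333 D199401
theorem N96318 : nd 96318 = n199402 := ndS (p := 59334) (l := 0) rfl N59334 D199402
theorem N96319 : nd 96319 = n199403 := ndS (p := 59337) (l := 3) rfl N59337 D199403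
theorem N96320 : nd 96320 = n199404 := ndS (p := 59341) (l := 6) rfl N59341 D199404
theorem N96321 : nd 96321 = n199405 := ndS (p := 59342) (l := 5) rfl N59342 D199405
theorem N96322 : nd 96322 = n199406 := ndS (p := 59343) (l := 3) rfl N59343 D199406
theorem N96323 : nd 96323 = n199407 := ndS (p := 59343) (l := 6) rfl N59343 D199407
theorem N96324 : nd 96324 = n199408 := ndS (p := 59345) (l := 5) rfl N59345 D199408
theorem N96325 : nd 96325 = n199409 := ndS (p := 59346) (l := 4) rfl N59346 D199409
theorem N96326 : nd 96326 = n199410 := ndS (p := 59349) (l := 6) rfl N59349 D199410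
theorem N96327 : nd 96327 = n199411 := ndS (p := 59354) (l := 5) rfl N59354 D199411
theorem N96328 : nd 96328 = n199412 := ndS (p := 59355) (l := 4) rfl N59355 D199412
theorem N96329 : nd 96329 = n199413 := ndS (p := 59355) (l := 6) rfl N59355 D199413
theorem N96330 : nd 96330 = n199414 := ndS (p := 59356) (l := 0) rfl N59356 D199414
theorem N96331 : nd 96331 = n199415 := ndS (p := 59356) (l := 1) rfl N59356 D199415
theorem N96332 : nd 96332 = n199416 := ndS (p := 59356) (l := 5) rfl N59356 D199416
theorem N96333 : nd 96333 = n199417 := ndS (p := 59356) (l := 7) rfl N59356 D199417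
theorem N96334 : nd 96334 = n199418 := ndS (p := 59357) (l := 1) rfl N59357 D199418
theorem N96335 : nd 96335 = n199419 := ndS (p := 59357) (l := 5) rfl N59357 D199419
theorem N96336 : nd 96336 = n199420 := ndS (p := 59358) (l := 3) rfl N59358 D199420
theorem N96337 : nd 96337 = n199421 := ndS (p := 59360) (l := 4) rfl N59360 D199421
theorem N96338 : nd 96338 = n199422 := ndS (p := 59362) (l := 3) rfl N59362 D199422
theorem N96339 : nd 96339 = n199424 := ndS (p := 59363) (l := 3) rfl N59363 D199424
theorem N96340 : nd 96340 = n199425 := ndS (p := 59363) (l := 4) rfl N59363 D199425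
theorem N96341 : nd 96341 = n199426 := ndS (p := 59363) (l := 5) rfl N59363 D199426
theorem N96342 : nd 96342 = n199427 := ndS (p := 59363) (l := 6) rfl N59363 D199427
theorem N96343 : nd 96343 = n199428 := ndS (p := 59364) (l := 4) rfl N59364 D199428
theorem N96344 : nd 96344 = n199429 := ndS (p := 59364) (l := 5) rfl N59364 D199429
theorem N96345 : nd 96345 = n199430 := ndS (p := 59365) (l := 6) rfl N59365 D199430
theorem N96346 : nd 96346 = n199431 := ndS (p := 59366) (l := 1) rfl N59366 D199431
theorem N96347 : nd 96347 = n199432 := ndS (p := 59367) (l := 0) rfl N59367 D199432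
theorem N96348 : nd 96348 = n199433 := ndS (p := 59367) (l := 1) rfl N59367 D199433
theorem N96349 : nd 96349 = n199434 := ndS (p := 59368) (l := 4) rfl N59368 D199434
theorem N96350 : nd 96350 = n199435 := ndS (p := 59368) (l := 5) rfl N59368 D199435
theorem N96351 : nd 96351 = n199436 := ndS (p := 59369) (l := 3) rfl N59369 D199436
theorem N96352 : nd 96352 = n199437 := ndS (p := 59369) (l := 5) rfl N59369 D199437
theorem N96353 : nd 96353 = n199438 := ndS (p := 59369) (l := 6) rfl N59369 D199438
theorem N96354 : nd 96354 = n199439 := ndS (p := 59370) (l := 5) rfl N59370 D199439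
theorem N96355 : nd 96355 = n199440 := ndS (p := 59370) (l := 6) rfl N59370 D199440
theorem N96356 : nd 96356 = n199441 := ndS (p := 59371) (l := 0) rfl N59371 D199441
theorem N96357 : nd 96357 = n199442 := ndS (p := 59371) (l := 1) rfl N59371 D199442
theorem N96358 : nd 96358 = n199443 := ndS (p := 59371) (l := 4) rfl N59371 D199443
theorem N96359 : nd 96359 = n199444 := ndS (p := 59371) (l := 6) rfl N59371 D199444
theorem N96360 : nd 96360 = n199445 := ndS (p := 59372) (l := 0) rfl N59372 D199445
theorem N96361 : nd 96361 = n199446 := ndS (p := 59372) (l := 1) rfl N59372 D199446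
theorem N96362 : nd 96362 = n199447 := ndS (p := 59372) (l := 5) rfl N59372 D199447
theorem N96363 : nd 96363 = n199448 := ndS (p := 59372) (l := 7) rfl N59372 D199448
theorem N96364 : nd 96364 = n199449 := ndS (p := 59373) (l := 0) rfl N59373 D199449
theorem N96365 : nd 96365 = n199450 := ndS (p := 59373) (l := 1) rfl N59373 D199450
theorem N96366 : nd 96366 = n199451 := ndS (p := 59376) (l := 3) rfl N59376 D199451
theorem N96367 : nd 96367 = n199452 := ndS (p := 59376) (l := 5) rfl N59376 D199452
theorem N96368 : nd 96368 = n199453 := ndS (p := 59376) (l := 6) rfl N59376 D199453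
theorem N96369 : nd 96369 = n199455 := ndS (p := 59377) (l := 1) rfl N59377 D199455
theorem N96370 : nd 96370 = n199456 := ndS (p := 59377) (l := 5) rfl N59377 D199456
theorem N96371 : nd 96371 = n199457 := ndS (p := 59377) (l := 6) rfl N59377 D199457
theorem N96372 : nd 96372 = n199458 := ndS (p := 59378) (l := 3) rfl N59378 D199458
theorem N96373 : nd 96373 = n199459 := ndS (p := 59379) (l := 0) rfl N59379 D199459
theorem N96374 : nd 96374 = n199460 := ndS (p := 59379) (l := 4) rfl N59379 D199460
theorem N96375 : nd 96375 = n199461 := ndS (p := 59379) (l := 7) rfl N59379 D199461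
theorem N96376 : nd 96376 = n199462 := ndS (p := 59380) (l := 7) rfl N59380 D199462
theorem N96377 : nd 96377 = n199463 := ndS (p := 59381) (l := 6) rfl N59381 D199463
theorem N96378 : nd 96378 = n199464 := ndS (p := 59382) (l := 0) rfl N59382 D199464
theorem N96379 : nd 96379 = n199465 := ndS (p := 59382) (l := 5) rfl N59382 D199465
theorem N96380 : nd 96380 = n199466 := ndS (p := 59383) (l := 6) rfl N59383 D199466
theorem N96381 : nd 96381 = n199467 := ndS (p := 59384) (l := 4) rfl N59384 D199467
theorem N96382 : nd 96382 = n199468 := ndS (p := 59384) (l := 6) rfl N59384 D199468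
theorem N96383 : nd 96383 = n199469 := ndS (p := 59385) (l := 5) rfl N59385 D199469
theorem N96384 : nd 96384 = n199470 := ndS (p := 59386) (l := 4) rfl N59386 D199470
theorem N96385 : nd 96385 = n199471 := ndS (p := 59387) (l := 3) rfl N59387 D199471
theorem N96386 : nd 96386 = n199472 := ndS (p := 59387) (l := 4) rfl N59387 D199472
theorem N96387 : nd 96387 = n199473 := ndS (p := 59387) (l := 6) rfl N59387 D199473
theorem N96388 : nd 96388 = n199474 := ndS (p := 59388) (l := 3) rfl N59388 D199474
theorem N96389 : nd 96389 = n199475 := ndS (p := 59388) (l := 4) rfl N59388 D199475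
theorem N96390 : nd 96390 = n199476 := ndS (p := 59388) (l := 6) rfl N59388 D199476
theorem N96391 : nd 96391 = n199477 := ndS (p := 59389) (l := 0) rfl N59389 D199477
theorem N96392 : nd 96392 = n199478 := ndS (p := 59389) (l := 1) rfl N59389 D199478
theorem N96393 : nd 96393 = n199479 := ndS (p := 59389) (l := 5) rfl N59389 D199479
theorem N96394 : nd 96394 = n199480 := ndS (p := 59390) (l := 0) rfl N59390 D199480
theorem N96395 : nd 96395 = n199481 := ndS (p := 59390) (l := 7) rfl N59390 D199481
theorem N96396 : nd 96396 = n199482 := ndS (p := 59391) (l := 6) rfl N59391 D199482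
theorem N96397 : nd 96397 = n199483 := ndS (p := 59395) (l := 3) rfl N59395 D199483
theorem N96398 : nd 96398 = n199484 := ndS (p := 59395) (l := 5) rfl N59395 D199484
theorem N96399 : nd 96399 = n199485 := ndS (p := 59395) (l := 6) rfl N59395 D199485
theorem N96400 : nd 96400 = n199486 := ndS (p := 59396) (l := 3) rfl N59396 D199486
theorem N96401 : nd 96401 = n199487 := ndS (p := 59398) (l := 4) rfl N59398 D199487
theorem N96402 : nd 96402 = n199488 := ndS (p := 59398) (l := 6) rfl N59398 D199488
theorem N96403 : nd 96403 = n199489 := ndS (p := 59399) (l := 3) rfl N59399 D199489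
theorem N96404 : nd 96404 = n199490 := ndS (p := 59399) (l := 4) rfl N59399 D199490
theorem N96405 : nd 96405 = n199491 := ndS (p := 59400) (l := 5) rfl N59400 D199491
theorem N96406 : nd 96406 = n199492 := ndS (p := 59401) (l := 4) rfl N59401 D199492
theorem N96407 : nd 96407 = n199493 := ndS (p := 59402) (l := 7) rfl N59402 D199493
theorem N96408 : nd 96408 = n199494 := ndS (p := 59403) (l := 6) rfl N59403 D199494
theorem N96409 : nd 96409 = n199495 := ndS (p := 59404) (l := 3) rfl N59404 D199495
theorem N96410 : nd 96410 = n199496 := ndS (p := 59406) (l := 3) rfl N59406 D199496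
theorem N96411 : nd 96411 = n199497 := ndS (p := 59406) (l := 5) rfl N59406 D199497
theorem N96412 : nd 96412 = n199498 := ndS (p := 59407) (l := 3) rfl N59407 D199498
theorem N96413 : nd 96413 = n199499 := ndS (p := 59407) (l := 5) rfl N59407 D199499
theorem N96414 : nd 96414 = n199500 := ndS (p := 59408) (l := 3) rfl N59408 D199500
theorem N96415 : nd 96415 = n199501 := ndS (p := 59411) (l := 0) rfl N59411 D199501
theorem N96416 : nd 96416 = n199502 := ndS (p := 59411) (l := 7) rfl N59411 D199502
theorem N96417 : nd 96417 = n199503 := ndS (p := 59412) (l := 0) rfl N59412 D199503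
theorem N96418 : nd 96418 = n199504 := ndS (p := 59412) (l := 4) rfl N59412 D199504
theorem N96419 : nd 96419 = n199505 := ndS (p := 59413) (l := 3) rfl N59413 D199505
theorem N96420 : nd 96420 = n199506 := ndS (p := 59413) (l := 4) rfl N59413 D199506
theorem N96421 : nd 96421 = n199507 := ndS (p := 59413) (l := 5) rfl N59413 D199507
theorem N96422 : nd 96422 = n199508 := ndS (p := 59414) (l := 3) rfl N59414 D199508
theorem N96423 : nd 96423 = n199509 := ndS (p := 59414) (l := 5) rfl N59414 D199509
theorem N96424 : nd 96424 = n199510 := ndS (p := 59415) (l := 5) rfl N59415 D199510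
theorem N96425 : nd 96425 = n199511 := ndS (p := 59415) (l := 6) rfl N59415 D199511
theorem N96426 : nd 96426 = n199512 := ndS (p := 59416) (l := 0) rfl N59416 D199512
theorem N96427 : nd 96427 = n199513 := ndS (p := 59416) (l := 1) rfl N59416 D199513
theorem N96428 : nd 96428 = n199514 := ndS (p := 59416) (l := 6) rfl N59416 D199514
theorem N96429 : nd 96429 = n199515 := ndS (p := 59417) (l := 1) rfl N59417 D199515
theorem N96430 : nd 96430 = n199516 := ndS (p := 59417) (l := 7) rfl N59417 D199516
theorem N96431 : nd 96431 = n199517 := ndS (p := 59418) (l := 0) rfl N59418 D199517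
theorem N96432 : nd 96432 = n199518 := ndS (p := 59418) (l := 1) rfl N59418 D199518
theorem N96433 : nd 96433 = n199519 := ndS (p := 59418) (l := 7) rfl N59418 D199519
theorem N96434 : nd 96434 = n199520 := ndS (p := 59420) (l := 5) rfl N59420 D199520
theorem N96435 : nd 96435 = n199521 := ndS (p := 59420) (l := 6) rfl N59420 D199521
theorem N96436 : nd 96436 = n199522 := ndS (p := 59421) (l := 5) rfl N59421 D199522
theorem N96437 : nd 96437 = n199523 := ndS (p := 59421) (l := 6) rfl N59421 D199523
theorem N96438 : nd 96438 = n199524 := ndS (p := 59422) (l := 1) rfl N59422 D199524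
theorem N96439 : nd 96439 = n199525 := ndS (p := 59422) (l := 4) rfl N59422 D199525
theorem N96440 : nd 96440 = n199526 := ndS (p := 59422) (l := 6) rfl N59422 D199526
theorem N96441 : nd 96441 = n199527 := ndS (p := 59423) (l := 5) rfl N59423 D199527
theorem N96442 : nd 96442 = n199528 := ndS (p := 59424) (l := 0) rfl N59424 D199528
theorem N96443 : nd 96443 = n199529 := ndS (p := 59424) (l := 1) rfl N59424 D199529
theorem N96444 : nd 96444 = n199530 := ndS (p := 59424) (l := 5) rfl N59424 D199530
theorem N96445 : nd 96445 = n199531 := ndS (p := 59424) (l := 7) rfl N59424 D199531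
theorem N96446 : nd 96446 = n199532 := ndS (p := 59425) (l := 0) rfl N59425 D199532
theorem N96447 : nd 96447 = n199533 := ndS (p := 59425) (l := 4) rfl N59425 D199533
theorem N96448 : nd 96448 = n199534 := ndS (p := 59426) (l := 6) rfl N59426 D199534
theorem N96449 : nd 96449 = n199535 := ndS (p := 59427) (l := 3) rfl N59427 D199535
theorem N96450 : nd 96450 = n199536 := ndS (p := 59427) (l := 6) rfl N59427 D199536
theorem N96451 : nd 96451 = n199537 := ndS (p := 59428) (l := 6) rfl N59428 D199537
theorem N96452 : nd 96452 = n199538 := ndS (p := 59429) (l := 7) rfl N59429 D199538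
theorem N96453 : nd 96453 = n199539 := ndS (p := 59430) (l := 0) rfl N59430 D199539
theorem N96454 : nd 96454 = n199540 := ndS (p := 59430) (l := 5) rfl N59430 D199540
theorem N96455 : nd 96455 = n199541 := ndS (p := 59430) (l := 6) rfl N59430 D199541
theorem N96456 : nd 96456 = n199542 := ndS (p := 59434) (l := 6) rfl N59434 D199542
theorem N96457 : nd 96457 = n199543 := ndS (p := 59435) (l := 0) rfl N59435 D199543
theorem N96458 : nd 96458 = n199544 := ndS (p := 59435) (l := 1) rfl N59435 D199544
theorem N96459 : nd 96459 = n199545 := ndS (p := 59435) (l := 5) rfl N59435 D199545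
theorem N96460 : nd 96460 = n199546 := ndS (p := 59435) (l := 7) rfl N59435 D199546
theorem N96461 : nd 96461 = n199547 := ndS (p := 59436) (l := 6) rfl N59436 D199547
theorem N96462 : nd 96462 = n199548 := ndS (p := 59437) (l := 3) rfl N59437 D199548
theorem N96463 : nd 96463 = n199549 := ndS (p := 59437) (l := 4) rfl N59437 D199549
theorem N96464 : nd 96464 = n199550 := ndS (p := 59437) (l := 6) rfl N59437 D199550
theorem N96465 : nd 96465 = n199551 := ndS (p := 59438) (l := 0) rfl N59438 D199551
theorem N96466 : nd 96466 = n199552 := ndS (p := 59438) (l := 1) rfl N59438 D199552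
theorem N96467 : nd 96467 = n199553 := ndS (p := 59439) (l := 0) rfl N59439 D199553
theorem N96468 : nd 96468 = n199554 := ndS (p := 59440) (l := 3) rfl N59440 D199554
theorem N96469 : nd 96469 = n199555 := ndS (p := 59440) (l := 5) rfl N59440 D199555
theorem N96470 : nd 96470 = n199556 := ndS (p := 59441) (l := 5) rfl N59441 D199556
theorem N96471 : nd 96471 = n199557 := ndS (p := 59442) (l := 0) rfl N59442 D199557
theorem N96472 : nd 96472 = n199558 := ndS (p := 59442) (l := 1) rfl N59442 D199558
theorem N96473 : nd 96473 = n199559 := ndS (p := 59444) (l := 2) rfl N59444 D199559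
theorem N96474 : nd 96474 = n199560 := ndS (p := 59444) (l := 6) rfl N59444 D199560
theorem N96475 : nd 96475 = n199561 := ndS (p := 59445) (l := 5) rfl N59445 D199561
theorem N96476 : nd 96476 = n199562 := ndS (p := 59446) (l := 2) rfl N59446 D199562
theorem N96477 : nd 96477 = n199563 := ndS (p := 59446) (l := 4) rfl N59446 D199563
theorem N96478 : nd 96478 = n199564 := ndS (p := 59447) (l := 0) rfl N59447 D199564
theorem N96479 : nd 96479 = n199565 := ndS (p := 59447) (l := 7) rfl N59447 D199565
theorem N96480 : nd 96480 = n199566 := ndS (p := 59448) (l := 6) rfl N59448 D199566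
theorem N96481 : nd 96481 = n199567 := ndS (p := 59450) (l := 6) rfl N59450 D199567
theorem N96482 : nd 96482 = n199568 := ndS (p := 59452) (l := 3) rfl N59452 D199568
theorem N96483 : nd 96483 = n199569 := ndS (p := 59454) (l := 0) rfl N59454 D199569
theorem N96484 : nd 96484 = n199570 := ndS (p := 59455) (l := 3) rfl N59455 D199570
theorem N96485 : nd 96485 = n199571 := ndS (p := 59457) (l := 5) rfl N59457 D199571
theorem N96486 : nd 96486 = n199572 := ndS (p := 59458) (l := 3) rfl N59458 D199572
theorem N96487 : nd 96487 = n199573 := ndS (p := 59458) (l := 5) rfl N59458 D199573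
theorem N96488 : nd 96488 = n199574 := ndS (p := 59458) (l := 6) rfl N59458 D199574
theorem N96489 : nd 96489 = n199575 := ndS (p := 59459) (l := 4) rfl N59459 D199575
theorem N96490 : nd 96490 = n199576 := ndS (p := 59461) (l := 4) rfl N59461 D199576
theorem N96491 : nd 96491 = n199577 := ndS (p := 59462) (l := 0) rfl N59462 D199577
theorem N96492 : nd 96492 = n199578 := ndS (p := 59464) (l := 0) rfl N59464 D199578
theorem N96493 : nd 96493 = n199579 := ndS (p := 59465) (l := 3) rfl N59465 D199579
theorem N96494 : nd 96494 = n199580 := ndS (p := 59465) (l := 6) rfl N59465 D199580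
theorem N96495 : nd 96495 = n199581 := ndS (p := 59466) (l := 3) rfl N59466 D199581
theorem N96496 : nd 96496 = n199582 := ndS (p := 59466) (l := 6) rfl N59466 D199582
theorem N96497 : nd 96497 = n199583 := ndS (p := 59468) (l := 1) rfl N59468 D199583
theorem N96498 : nd 96498 = n199584 := ndS (p := 59468) (l := 5) rfl N59468 D199584
theorem N96499 : nd 96499 = n199585 := ndS (p := 59468) (l := 6) rfl N59468 D199585
theorem N96500 : nd 96500 = n199586 := ndS (p := 59470) (l := 4) rfl N59470 D199586
theorem N96501 : nd 96501 = n199587 := ndS (p := 59470) (l := 6) rfl N59470 D199587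
theorem N96502 : nd 96502 = n199588 := ndS (p := 59473) (l := 4) rfl N59473 D199588
theorem N96503 : nd 96503 = n199589 := ndS (p := 59473) (l := 6) rfl N59473 D199589
theorem N96504 : nd 96504 = n199590 := ndS (p := 59474) (l := 1) rfl N59474 D199590
theorem N96505 : nd 96505 = n199591 := ndS (p := 59474) (l := 5) rfl N59474 D199591
theorem N96506 : nd 96506 = n199592 := ndS (p := 59475) (l := 4) rfl N59475 D199592
theorem N96507 : nd 96507 = n199593 := ndS (p := 59476) (l := 5) rfl N59476 D199593
theorem N96508 : nd 96508 = n199594 := ndS (p := 59477) (l := 3) rfl N59477 D199594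
theorem N96509 : nd 96509 = n199595 := ndS (p := 59477) (l := 4) rfl N59477 D199595
theorem N96510 : nd 96510 = n199596 := ndS (p := 59477) (l := 6) rfl N59477 D199596
theorem N96511 : nd 96511 = n199597 := ndS (p := 59478) (l := 4) rfl N59478 D199597
theorem N96512 : nd 96512 = n199598 := ndS (p := 59478) (l := 6) rfl N59478 D199598
theorem N96513 : nd 96513 = n199599 := ndS (p := 59479) (l := 0) rfl N59479 D199599
theorem N96514 : nd 96514 = n199600 := ndS (p := 59479) (l := 1) rfl N59479 D199600
theorem N96515 : nd 96515 = n199602 := ndS (p := 59479) (l := 6) rfl N59479 D199602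
theorem N96516 : nd 96516 = n199604 := ndS (p := 59481) (l := 5) rfl N59481 D199604
theorem N96517 : nd 96517 = n199605 := ndS (p := 59482) (l := 0) rfl N59482 D199605
theorem N96518 : nd 96518 = n199606 := ndS (p := 59482) (l := 4) rfl N59482 D199606
theorem N96519 : nd 96519 = n199607 := ndS (p := 59484) (l := 3) rfl N59484 D199607
theorem N96520 : nd 96520 = n199608 := ndS (p := 59484) (l := 6) rfl N59484 D199608
theorem N96521 : nd 96521 = n199609 := ndS (p := 59490) (l := 1) rfl N59490 D199609
theorem N96522 : nd 96522 = n199610 := ndS (p := 59491) (l := 5) rfl N59491 D199610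
theorem N96523 : nd 96523 = n199611 := ndS (p := 59491) (l := 6) rfl N59491 D199611
theorem N96524 : nd 96524 = n199612 := ndS (p := 59492) (l := 3) rfl N59492 D199612
theorem N96525 : nd 96525 = n199613 := ndS (p := 59492) (l := 5) rfl N59492 D199613
theorem N96526 : nd 96526 = n199614 := ndS (p := 59492) (l := 6) rfl N59492 D199614
theorem N96527 : nd 96527 = n199615 := ndS (p := 59494) (l := 1) rfl N59494 D199615
theorem N96528 : nd 96528 = n199616 := ndS (p := 59495) (l := 4) rfl N59495 D199616
theorem N96529 : nd 96529 = n199617 := ndS (p := 59496) (l := 5) rfl N59496 D199617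
theorem N96530 : nd 96530 = n199618 := ndS (p := 59503) (l := 4) rfl N59503 D199618
theorem N96531 : nd 96531 = n199619 := ndS (p := 59504) (l := 0) rfl N59504 D199619
theorem N96532 : nd 96532 = n199620 := ndS (p := 59504) (l := 1) rfl N59504 D199620
theorem N96533 : nd 96533 = n199621 := ndS (p := 59504) (l := 5) rfl N59504 D199621
theorem N96534 : nd 96534 = n199622 := ndS (p := 59504) (l := 7) rfl N59504 D199622
theorem N96535 : nd 96535 = n199623 := ndS (p := 59506) (l := 3) rfl N59506 D199623
theorem N96536 : nd 96536 = n199624 := ndS (p := 59506) (l := 6) rfl N59506 D199624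
theorem N96537 : nd 96537 = n199625 := ndS (p := 59507) (l := 0) rfl N59507 D199625
theorem N96538 : nd 96538 = n199626 := ndS (p := 59507) (l := 1) rfl N59507 D199626
theorem N96539 : nd 96539 = n199628 := ndS (p := 59509) (l := 4) rfl N59509 D199628
theorem N96540 : nd 96540 = n199629 := ndS (p := 59509) (l := 6) rfl N59509 D199629
theorem N96541 : nd 96541 = n199630 := ndS (p := 59510) (l := 4) rfl N59510 D199630
theorem N96542 : nd 96542 = n199631 := ndS (p := 59510) (l := 5) rfl N59510 D199631
theorem N96543 : nd 96543 = n199632 := ndS (p := 59510) (l := 6) rfl N59510 D199632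
theorem N96544 : nd 96544 = n199633 := ndS (p := 59511) (l := 1) rfl N59511 D199633
theorem N96545 : nd 96545 = n199634 := ndS (p := 59514) (l := 0) rfl N59514 D199634
theorem N96546 : nd 96546 = n199635 := ndS (p := 59514) (l := 1) rfl N59514 D199635
theorem N96547 : nd 96547 = n199636 := ndS (p := 59515) (l := 2) rfl N59515 D199636
theorem N96548 : nd 96548 = n199637 := ndS (p := 59515) (l := 4) rfl N59515 D199637
theorem N96549 : nd 96549 = n199638 := ndS (p := 59515) (l := 6) rfl N59515 D199638
theorem N96550 : nd 96550 = n199639 := ndS (p := 59516) (l := 0) rfl N59516 D199639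
theorem N96551 : nd 96551 = n199640 := ndS (p := 59516) (l := 1) rfl N59516 D199640
theorem N96552 : nd 96552 = n199641 := ndS (p := 59516) (l := 5) rfl N59516 D199641
theorem N96553 : nd 96553 = n199642 := ndS (p := 59516) (l := 7) rfl N59516 D199642
theorem N96554 : nd 96554 = n199643 := ndS (p := 59517) (l := 3) rfl N59517 D199643
theorem N96555 : nd 96555 = n199644 := ndS (p := 59519) (l := 0) rfl N59519 D199644
theorem N96556 : nd 96556 = n199645 := ndS (p := 59519) (l := 5) rfl N59519 D199645
theorem N96557 : nd 96557 = n199646 := ndS (p := 59521) (l := 1) rfl N59521 D199646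
theorem N96558 : nd 96558 = n199647 := ndS (p := 59521) (l := 2) rfl N59521 D199647
theorem N96559 : nd 96559 = n199648 := ndS (p := 59521) (l := 6) rfl N59521 D199648
theorem N96560 : nd 96560 = n199649 := ndS (p := 59526) (l := 0) rfl N59526 D199649
theorem N96561 : nd 96561 = n199650 := ndS (p := 59527) (l := 3) rfl N59527 D199650
theorem N96562 : nd 96562 = n199651 := ndS (p := 59530) (l := 6) rfl N59530 D199651
theorem N96563 : nd 96563 = n199652 := ndS (p := 59532) (l := 0) rfl N59532 D199652
theorem N96564 : nd 96564 = n199653 := ndS (p := 59532) (l := 1) rfl N59532 D199653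
theorem N96565 : nd 96565 = n199654 := ndS (p := 59532) (l := 5) rfl N59532 D199654
theorem N96566 : nd 96566 = n199655 := ndS (p := 59532) (l := 7) rfl N59532 D199655
theorem N96567 : nd 96567 = n199656 := ndS (p := 59536) (l := 1) rfl N59536 D199656
theorem N96568 : nd 96568 = n199657 := ndS (p := 59539) (l := 4) rfl N59539 D199657
theorem N96569 : nd 96569 = n199658 := ndS (p := 59539) (l := 6) rfl N59539 D199658
theorem N96570 : nd 96570 = n199659 := ndS (p := 59540) (l := 3) rfl N59540 D199659
theorem N96571 : nd 96571 = n199660 := ndS (p := 59540) (l := 6) rfl N59540 D199660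
theorem N96572 : nd 96572 = n199662 := ndS (p := 59542) (l := 5) rfl N59542 D199662
theorem N96573 : nd 96573 = n199663 := ndS (p := 59543) (l := 5) rfl N59543 D199663
theorem N96574 : nd 96574 = n199664 := ndS (p := 59543) (l := 7) rfl N59543 D199664
theorem N96575 : nd 96575 = n199665 := ndS (p := 59544) (l := 0) rfl N59544 D199665
theorem N96576 : nd 96576 = n199666 := ndS (p := 59544) (l := 4) rfl N59544 D199666
theorem N96577 : nd 96577 = n199667 := ndS (p := 59546) (l := 3) rfl N59546 D199667
theorem N96578 : nd 96578 = n199668 := ndS (p := 59546) (l := 6) rfl N59546 D199668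
theorem N96579 : nd 96579 = n199669 := ndS (p := 59547) (l := 0) rfl N59547 D199669
theorem N96580 : nd 96580 = n199670 := ndS (p := 59547) (l := 1) rfl N59547 D199670
theorem N96581 : nd 96581 = n199671 := ndS (p := 59549) (l := 5) rfl N59549 D199671
theorem N96582 : nd 96582 = n199672 := ndS (p := 59549) (l := 6) rfl N59549 D199672
theorem N96583 : nd 96583 = n199673 := ndS (p := 59551) (l := 4) rfl N59551 D199673
theorem N96584 : nd 96584 = n199674 := ndS (p := 59553) (l := 1) rfl N59553 D199674
theorem N96585 : nd 96585 = n199675 := ndS (p := 59553) (l := 2) rfl N59553 D199675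
theorem N96586 : nd 96586 = n199676 := ndS (p := 59554) (l := 4) rfl N59554 D199676
theorem N96587 : nd 96587 = n199677 := ndS (p := 59555) (l := 3) rfl N59555 D199677
theorem N96588 : nd 96588 = n199678 := ndS (p := 59557) (l := 0) rfl N59557 D199678
theorem N96589 : nd 96589 = n199679 := ndS (p := 59557) (l := 4) rfl N59557 D199679
theorem N96590 : nd 96590 = n199680 := ndS (p := 59559) (l := 5) rfl N59559 D199680
theorem N96591 : nd 96591 = n199681 := ndS (p := 59560) (l := 4) rfl N59560 D199681
theorem N96592 : nd 96592 = n199682 := ndS (p := 59560) (l := 6) rfl N59560 D199682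
theorem N96593 : nd 96593 = n199683 := ndS (p := 59561) (l := 3) rfl N59561 D199683
theorem N96594 : nd 96594 = n199684 := ndS (p := 59562) (l := 3) rfl N59562 D199684
theorem N96595 : nd 96595 = n199685 := ndS (p := 59562) (l := 6) rfl N59562 D199685
theorem N96596 : nd 96596 = n199686 := ndS (p := 59563) (l := 0) rfl N59563 D199686
theorem N96597 : nd 96597 = n199687 := ndS (p := 59563) (l := 1) rfl N59563 D199687
theorem N96598 : nd 96598 = n199688 := ndS (p := 59563) (l := 2) rfl N59563 D199688
theorem N96599 : nd 96599 = n199689 := ndS (p := 59563) (l := 5) rfl N59563 D199689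
theorem N96600 : nd 96600 = n199690 := ndS (p := 59563) (l := 7) rfl N59563 D199690
theorem N96601 : nd 96601 = n199691 := ndS (p := 59566) (l := 5) rfl N59566 D199691
theorem N96602 : nd 96602 = n199692 := ndS (p := 59566) (l := 6) rfl N59566 D199692
theorem N96603 : nd 96603 = n199693 := ndS (p := 59567) (l := 0) rfl N59567 D199693
theorem N96604 : nd 96604 = n199694 := ndS (p := 59567) (l := 5) rfl N59567 D199694
theorem N96605 : nd 96605 = n199695 := ndS (p := 59567) (l := 6) rfl N59567 D199695
theorem N96606 : nd 96606 = n199696 := ndS (p := 59568) (l := 6) rfl N59568 D199696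
theorem N96607 : nd 96607 = n199697 := ndS (p := 59569) (l := 0) rfl N59569 D199697
theorem N96608 : nd 96608 = n199698 := ndS (p := 59570) (l := 4) rfl N59570 D199698
theorem N96609 : nd 96609 = n199699 := ndS (p := 59570) (l := 5) rfl N59570 D199699
theorem N96610 : nd 96610 = n199700 := ndS (p := 59571) (l := 5) rfl N59571 D199700
theorem N96611 : nd 96611 = n199701 := ndS (p := 59572) (l := 6) rfl N59572 D199701
theorem N96612 : nd 96612 = n199702 := ndS (p := 59573) (l := 5) rfl N59573 D199702
theorem N96613 : nd 96613 = n199703 := ndS (p := 59574) (l := 4) rfl N59574 D199703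
theorem N96614 : nd 96614 = n199704 := ndS (p := 59574) (l := 6) rfl N59574 D199704
theorem N96615 : nd 96615 = n199705 := ndS (p := 59575) (l := 7) rfl N59575 D199705
theorem N96616 : nd 96616 = n199706 := ndS (p := 59576) (l := 5) rfl N59576 D199706
theorem N96617 : nd 96617 = n199707 := ndS (p := 59576) (l := 6) rfl N59576 D199707
theorem N96618 : nd 96618 = n199708 := ndS (p := 59577) (l := 5) rfl N59577 D199708
theorem N96619 : nd 96619 = n199709 := ndS (p := 59578) (l := 1) rfl N59578 D199709
theorem N96620 : nd 96620 = n199710 := ndS (p := 59580) (l := 4) rfl N59580 D199710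
theorem N96621 : nd 96621 = n199711 := ndS (p := 59581) (l := 3) rfl N59581 D199711
theorem N96622 : nd 96622 = n199712 := ndS (p := 59581) (l := 4) rfl N59581 D199712
theorem N96623 : nd 96623 = n199713 := ndS (p := 59581) (l := 6) rfl N59581 D199713
theorem N96624 : nd 96624 = n199714 := ndS (p := 59582) (l := 1) rfl N59582 D199714
theorem N96625 : nd 96625 = n199715 := ndS (p := 59582) (l := 6) rfl N59582 D199715
theorem N96626 : nd 96626 = n199716 := ndS (p := 59583) (l := 1) rfl N59583 D199716
theorem N96627 : nd 96627 = n199718 := ndS (p := 59584) (l := 6) rfl N59584 D199718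
theorem N96628 : nd 96628 = n199719 := ndS (p := 59591) (l := 4) rfl N59591 D199719
theorem N96629 : nd 96629 = n199720 := ndS (p := 59591) (l := 6) rfl N59591 D199720
theorem N96630 : nd 96630 = n199721 := ndS (p := 59592) (l := 0) rfl N59592 D199721
theorem N96631 : nd 96631 = n199722 := ndS (p := 59592) (l := 1) rfl N59592 D199722
theorem N96632 : nd 96632 = n199723 := ndS (p := 59592) (l := 7) rfl N59592 D199723
theorem N96633 : nd 96633 = n199724 := ndS (p := 59594) (l := 5) rfl N59594 D199724
theorem N96634 : nd 96634 = n199725 := ndS (p := 59595) (l := 0) rfl N59595 D199725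
theorem N96635 : nd 96635 = n199726 := ndS (p := 59595) (l := 3) rfl N59595 D199726
theorem N96636 : nd 96636 = n199727 := ndS (p := 59595) (l := 5) rfl N59595 D199727
theorem N96637 : nd 96637 = n199728 := ndS (p := 59597) (l := 5) rfl N59597 D199728
theorem N96638 : nd 96638 = n199729 := ndS (p := 59598) (l := 5) rfl N59598 D199729
theorem N96639 : nd 96639 = n199730 := ndS (p := 59598) (l := 6) rfl N59598 D199730
theorem N96640 : nd 96640 = n199731 := ndS (p := 59599) (l := 4) rfl N59599 D199731
theorem N96641 : nd 96641 = n199732 := ndS (p := 59599) (l := 6) rfl N59599 D199732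
theorem N96642 : nd 96642 = n199733 := ndS (p := 59600) (l := 1) rfl N59600 D199733
theorem N96643 : nd 96643 = n199734 := ndS (p := 59601) (l := 5) rfl N59601 D199734
theorem N96644 : nd 96644 = n199735 := ndS (p := 59602) (l := 6) rfl N59602 D199735
theorem N96645 : nd 96645 = n199736 := ndS (p := 59603) (l := 0) rfl N59603 D199736
theorem N96646 : nd 96646 = n199737 := ndS (p := 59603) (l := 1) rfl N59603 D199737
theorem N96647 : nd 96647 = n199738 := ndS (p := 59603) (l := 5) rfl N59603 D199738
theorem N96648 : nd 96648 = n199739 := ndS (p := 59603) (l := 7) rfl N59603 D199739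
theorem N96649 : nd 96649 = n199740 := ndS (p := 59605) (l := 5) rfl N59605 D199740
theorem N96650 : nd 96650 = n199741 := ndS (p := 59607) (l := 0) rfl N59607 D199741
theorem N96651 : nd 96651 = n199742 := ndS (p := 59607) (l := 1) rfl N59607 D199742
theorem N96652 : nd 96652 = n199743 := ndS (p := 59607) (l := 7) rfl N59607 D199743
theorem N96653 : nd 96653 = n199744 := ndS (p := 59608) (l := 3) rfl N59608 D199744
theorem N96654 : nd 96654 = n199745 := ndS (p := 59610) (l := 0) rfl N59610 D199745
theorem N96655 : nd 96655 = n199746 := ndS (p := 59610) (l := 1) rfl N59610 D199746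
theorem N96656 : nd 96656 = n199747 := ndS (p := 59610) (l := 7) rfl N59610 D199747
theorem N96657 : nd 96657 = n199748 := ndS (p := 59611) (l := 5) rfl N59611 D199748
theorem N96658 : nd 96658 = n199749 := ndS (p := 59611) (l := 6) rfl N59611 D199749
theorem N96659 : nd 96659 = n199750 := ndS (p := 59612) (l := 5) rfl N59612 D199750
theorem N96660 : nd 96660 = n199751 := ndS (p := 59612) (l := 6) rfl N59612 D199751
theorem N96661 : nd 96661 = n199752 := ndS (p := 59613) (l := 0) rfl N59613 D199752
theorem N96662 : nd 96662 = n199753 := ndS (p := 59613) (l := 1) rfl N59613 D199753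
theorem N96663 : nd 96663 = n199754 := ndS (p := 59613) (l := 4) rfl N59613 D199754
theorem N96664 : nd 96664 = n199755 := ndS (p := 59613) (l := 7) rfl N59613 D199755
theorem N96665 : nd 96665 = n199756 := ndS (p := 59619) (l := 3) rfl N59619 D199756
theorem N96666 : nd 96666 = n199757 := ndS (p := 59622) (l := 4) rfl N59622 D199757
theorem N96667 : nd 96667 = n199758 := ndS (p := 59622) (l := 5) rfl N59622 D199758
theorem N96668 : nd 96668 = n199759 := ndS (p := 59625) (l := 5) rfl N59625 D199759
theorem N96669 : nd 96669 = n199760 := ndS (p := 59626) (l := 5) rfl N59626 D199760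
theorem N96670 : nd 96670 = n199761 := ndS (p := 59628) (l := 0) rfl N59628 D199761
theorem N96671 : nd 96671 = n199762 := ndS (p := 59630) (l := 2) rfl N59630 D199762
theorem N96672 : nd 96672 = n199763 := ndS (p := 59630) (l := 4) rfl N59630 D199763
theorem N96673 : nd 96673 = n199764 := ndS (p := 59631) (l := 0) rfl N59631 D199764
theorem N96674 : nd 96674 = n199765 := ndS (p := 59631) (l := 3) rfl N59631 D199765
theorem N96675 : nd 96675 = n199766 := ndS (p := 59632) (l := 2) rfl N59632 D199766
theorem N96676 : nd 96676 = n199767 := ndS (p := 59633) (l := 6) rfl N59633 D199767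
theorem N96677 : nd 96677 = n199768 := ndS (p := 59634) (l := 0) rfl N59634 D199768
theorem N96678 : nd 96678 = n199769 := ndS (p := 59634) (l := 1) rfl N59634 D199769
theorem N96679 : nd 96679 = n199770 := ndS (p := 59634) (l := 5) rfl N59634 D199770
theorem N96680 : nd 96680 = n199771 := ndS (p := 59635) (l := 3) rfl N59635 D199771
theorem N96681 : nd 96681 = n199772 := ndS (p := 59636) (l := 3) rfl N59636 D199772
theorem N96682 : nd 96682 = n199773 := ndS (p := 59636) (l := 6) rfl N59636 D199773
theorem N96683 : nd 96683 = n199774 := ndS (p := 59637) (l := 0) rfl N59637 D199774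
theorem N96684 : nd 96684 = n199775 := ndS (p := 59637) (l := 1) rfl N59637 D199775
theorem N96685 : nd 96685 = n199776 := ndS (p := 59637) (l := 2) rfl N59637 D199776
theorem N96686 : nd 96686 = n199777 := ndS (p := 59638) (l := 4) rfl N59638 D199777
theorem N96687 : nd 96687 = n199778 := ndS (p := 59638) (l := 6) rfl N59638 D199778
theorem N96688 : nd 96688 = n199779 := ndS (p := 59639) (l := 0) rfl N59639 D199779
theorem N96689 : nd 96689 = n199780 := ndS (p := 59639) (l := 1) rfl N59639 D199780
theorem N96690 : nd 96690 = n199781 := ndS (p := 59639) (l := 5) rfl N59639 D199781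
theorem N96691 : nd 96691 = n199782 := ndS (p := 59639) (l := 6) rfl N59639 D199782
theorem N96692 : nd 96692 = n199783 := ndS (p := 59640) (l := 0) rfl N59640 D199783
theorem N96693 : nd 96693 = n199784 := ndS (p := 59640) (l := 1) rfl N59640 D199784
theorem N96694 : nd 96694 = n199785 := ndS (p := 59642) (l := 6) rfl N59642 D199785
theorem N96695 : nd 96695 = n199786 := ndS (p := 59643) (l := 3) rfl N59643 D199786
theorem N96696 : nd 96696 = n199787 := ndS (p := 59644) (l := 3) rfl N59644 D199787
theorem N96697 : nd 96697 = n199788 := ndS (p := 59644) (l := 4) rfl N59644 D199788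
theorem N96698 : nd 96698 = n199789 := ndS (p := 59644) (l := 6) rfl N59644 D199789
theorem N96699 : nd 96699 = n199790 := ndS (p := 59645) (l := 3) rfl N59645 D199790
theorem N96700 : nd 96700 = n199791 := ndS (p := 59645) (l := 4) rfl N59645 D199791
theorem N96701 : nd 96701 = n199792 := ndS (p := 59648) (l := 3) rfl N59648 D199792
theorem N96702 : nd 96702 = n199793 := ndS (p := 59648) (l := 6) rfl N59648 D199793
theorem N96703 : nd 96703 = n199794 := ndS (p := 59649) (l := 3) rfl N59649 D199794
theorem N96704 : nd 96704 = n199795 := ndS (p := 59652) (l := 0) rfl N59652 D199795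
theorem N96705 : nd 96705 = n199796 := ndS (p := 59652) (l := 2) rfl N59652 D199796
theorem N96706 : nd 96706 = n199797 := ndS (p := 59652) (l := 4) rfl N59652 D199797
theorem N96707 : nd 96707 = n199798 := ndS (p := 59652) (l := 5) rfl N59652 D199798
theorem N96708 : nd 96708 = n199799 := ndS (p := 59653) (l := 3) rfl N59653 D199799
theorem N96709 : nd 96709 = n199800 := ndS (p := 59653) (l := 6) rfl N59653 D199800
theorem N96710 : nd 96710 = n199801 := ndS (p := 59654) (l := 0) rfl N59654 D199801
theorem N96711 : nd 96711 = n199802 := ndS (p := 59654) (l := 1) rfl N59654 D199802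
theorem N96712 : nd 96712 = n199803 := ndS (p := 59654) (l := 4) rfl N59654 D199803
theorem N96713 : nd 96713 = n199804 := ndS (p := 59655) (l := 5) rfl N59655 D199804
theorem N96714 : nd 96714 = n199805 := ndS (p := 59656) (l := 2) rfl N59656 D199805
theorem N96715 : nd 96715 = n199806 := ndS (p := 59657) (l := 3) rfl N59657 D199806
theorem N96716 : nd 96716 = n199807 := ndS (p := 59659) (l := 5) rfl N59659 D199807
theorem N96717 : nd 96717 = n199808 := ndS (p := 59660) (l := 3) rfl N59660 D199808
theorem N96718 : nd 96718 = n199809 := ndS (p := 59661) (l := 3) rfl N59661 D199809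
theorem N96719 : nd 96719 = n199810 := ndS (p := 59662) (l := 0) rfl N59662 D199810
theorem N96720 : nd 96720 = n199811 := ndS (p := 59662) (l := 1) rfl N59662 D199811
theorem N96721 : nd 96721 = n199812 := ndS (p := 59663) (l := 4) rfl N59663 D199812
theorem N96722 : nd 96722 = n199813 := ndS (p := 59663) (l := 6) rfl N59663 D199813
theorem N96723 : nd 96723 = n199814 := ndS (p := 59665) (l := 6) rfl N59665 D199814
theorem N96724 : nd 96724 = n199815 := ndS (p := 59667) (l := 3) rfl N59667 D199815
theorem N96725 : nd 96725 = n199816 := ndS (p := 59667) (l := 4) rfl N59667 D199816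
theorem N96726 : nd 96726 = n199817 := ndS (p := 59668) (l := 4) rfl N59668 D199817
theorem N96727 : nd 96727 = n199818 := ndS (p := 59669) (l := 6) rfl N59669 D199818
theorem N96728 : nd 96728 = n199819 := ndS (p := 59670) (l := 0) rfl N59670 D199819
theorem N96729 : nd 96729 = n199820 := ndS (p := 59670) (l := 6) rfl N59670 D199820
theorem N96730 : nd 96730 = n199821 := ndS (p := 59675) (l := 5) rfl N59675 D199821
theorem N96731 : nd 96731 = n199822 := ndS (p := 59676) (l := 6) rfl N59676 D199822
theorem N96732 : nd 96732 = n199823 := ndS (p := 59683) (l := 5) rfl N59683 D199823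
theorem N96733 : nd 96733 = n199824 := ndS (p := 59683) (l := 6) rfl N59683 D199824
theorem N96734 : nd 96734 = n199825 := ndS (p := 59684) (l := 0) rfl N59684 D199825
theorem N96735 : nd 96735 = n199826 := ndS (p := 59684) (l := 4) rfl N59684 D199826
theorem N96736 : nd 96736 = n199827 := ndS (p := 59689) (l := 0) rfl N59689 D199827
theorem N96737 : nd 96737 = n199828 := ndS (p := 59689) (l := 5) rfl N59689 D199828
theorem N96738 : nd 96738 = n199829 := ndS (p := 59690) (l := 3) rfl N59690 D199829
theorem N96739 : nd 96739 = n199830 := ndS (p := 59690) (l := 5) rfl N59690 D199830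
theorem N96740 : nd 96740 = n199831 := ndS (p := 59691) (l := 2) rfl N59691 D199831
theorem N96741 : nd 96741 = n199832 := ndS (p := 59692) (l := 5) rfl N59692 D199832
theorem N96742 : nd 96742 = n199833 := ndS (p := 59694) (l := 6) rfl N59694 D199833
theorem N96743 : nd 96743 = n199834 := ndS (p := 59699) (l := 4) rfl N59699 D199834
theorem N96744 : nd 96744 = n199835 := ndS (p := 59701) (l := 0) rfl N59701 D199835
theorem N96745 : nd 96745 = n199836 := ndS (p := 59701) (l := 1) rfl N59701 D199836
theorem N96746 : nd 96746 = n199837 := ndS (p := 59702) (l := 4) rfl N59702 D199837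
theorem N96747 : nd 96747 = n199838 := ndS (p := 59704) (l := 3) rfl N59704 D199838
theorem N96748 : nd 96748 = n199839 := ndS (p := 59707) (l := 4) rfl N59707 D199839
theorem N96749 : nd 96749 = n199840 := ndS (p := 59707) (l := 6) rfl N59707 D199840
theorem N96750 : nd 96750 = n199841 := ndS (p := 59708) (l := 4) rfl N59708 D199841
theorem N96751 : nd 96751 = n199842 := ndS (p := 59708) (l := 6) rfl N59708 D199842
theorem N96752 : nd 96752 = n199843 := ndS (p := 59711) (l := 3) rfl N59711 D199843
theorem N96753 : nd 96753 = n199844 := ndS (p := 59712) (l := 5) rfl N59712 D199844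
theorem N96754 : nd 96754 = n199845 := ndS (p := 59712) (l := 6) rfl N59712 D199845
theorem N96755 : nd 96755 = n199846 := ndS (p := 59715) (l := 6) rfl N59715 D199846
theorem N96756 : nd 96756 = n199847 := ndS (p := 59717) (l := 6) rfl N59717 D199847
theorem N96757 : nd 96757 = n199848 := ndS (p := 59719) (l := 0) rfl N59719 D199848
theorem N96758 : nd 96758 = n199849 := ndS (p := 59719) (l := 1) rfl N59719 D199849
theorem N96759 : nd 96759 = n199850 := ndS (p := 59719) (l := 7) rfl N59719 D199850
theorem N96760 : nd 96760 = n199851 := ndS (p := 59724) (l := 6) rfl N59724 D199851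
theorem N96761 : nd 96761 = n199852 := ndS (p := 59725) (l := 3) rfl N59725 D199852
theorem N96762 : nd 96762 = n199853 := ndS (p := 59728) (l := 0) rfl N59728 D199853
theorem N96763 : nd 96763 = n199855 := ndS (p := 59728) (l := 2) rfl N59728 D199855
theorem N96764 : nd 96764 = n199856 := ndS (p := 59728) (l := 5) rfl N59728 D199856
theorem N96765 : nd 96765 = n199857 := ndS (p := 59729) (l := 4) rfl N59729 D199857
theorem N96766 : nd 96766 = n199858 := ndS (p := 59729) (l := 6) rfl N59729 D199858
theorem N96767 : nd 96767 = n199859 := ndS (p := 59730) (l := 6) rfl N59730 D199859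
theorem N96768 : nd 96768 = n199860 := ndS (p := 59731) (l := 4) rfl N59731 D199860
theorem N96769 : nd 96769 = n199861 := ndS (p := 59733) (l := 3) rfl N59733 D199861
theorem N96770 : nd 96770 = n199862 := ndS (p := 59734) (l := 3) rfl N59734 D199862
theorem N96771 : nd 96771 = n199863 := ndS (p := 59734) (l := 4) rfl N59734 D199863
theorem N96772 : nd 96772 = n199864 := ndS (p := 59734) (l := 6) rfl N59734 D199864
theorem N96773 : nd 96773 = n199865 := ndS (p := 59736) (l := 3) rfl N59736 D199865
theorem N96774 : nd 96774 = n199866 := ndS (p := 59736) (l := 5) rfl N59736 D199866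
theorem N96775 : nd 96775 = n199867 := ndS (p := 59737) (l := 5) rfl N59737 D199867
theorem N96776 : nd 96776 = n199868 := ndS (p := 59738) (l := 1) rfl N59738 D199868
theorem N96777 : nd 96777 = n199869 := ndS (p := 59738) (l := 4) rfl N59738 D199869
theorem N96778 : nd 96778 = n199870 := ndS (p := 59738) (l := 6) rfl N59738 D199870
theorem N96779 : nd 96779 = n199871 := ndS (p := 59741) (l := 6) rfl N59741 D199871
theorem N96780 : nd 96780 = n199872 := ndS (p := 59744) (l := 0) rfl N59744 D199872
theorem N96781 : nd 96781 = n199873 := ndS (p := 59744) (l := 5) rfl N59744 D199873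
theorem N96782 : nd 96782 = n199874 := ndS (p := 59745) (l := 3) rfl N59745 D199874
theorem N96783 : nd 96783 = n199875 := ndS (p := 59746) (l := 3) rfl N59746 D199875
theorem N96784 : nd 96784 = n199876 := ndS (p := 59749) (l := 3) rfl N59749 D199876
theorem N96785 : nd 96785 = n199877 := ndS (p := 59751) (l := 3) rfl N59751 D199877
theorem N96786 : nd 96786 = n199878 := ndS (p := 59763) (l := 3) rfl N59763 D199878
theorem N96787 : nd 96787 = n199879 := ndS (p := 59764) (l := 4) rfl N59764 D199879
theorem N96788 : nd 96788 = n199880 := ndS (p := 59764) (l := 6) rfl N59764 D199880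
theorem N96789 : nd 96789 = n199881 := ndS (p := 59767) (l := 6) rfl N59767 D199881
theorem N96790 : nd 96790 = n199882 := ndS (p := 59768) (l := 0) rfl N59768 D199882
theorem N96791 : nd 96791 = n199883 := ndS (p := 59768) (l := 1) rfl N59768 D199883
theorem N96792 : nd 96792 = n199884 := ndS (p := 59769) (l := 0) rfl N59769 D199884
theorem N96793 : nd 96793 = n199885 := ndS (p := 59769) (l := 1) rfl N59769 D199885
theorem N96794 : nd 96794 = n199886 := ndS (p := 59769) (l := 5) rfl N59769 D199886
theorem N96795 : nd 96795 = n199887 := ndS (p := 59771) (l := 4) rfl N59771 D199887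
theorem N96796 : nd 96796 = n199888 := ndS (p := 59772) (l := 3) rfl N59772 D199888
theorem N96797 : nd 96797 = n199889 := ndS (p := 59773) (l := 0) rfl N59773 D199889
theorem N96798 : nd 96798 = n199890 := ndS (p := 59773) (l := 1) rfl N59773 D199890
theorem N96799 : nd 96799 = n199891 := ndS (p := 59775) (l := 0) rfl N59775 D199891
theorem N96800 : nd 96800 = n199892 := ndS (p := 59776) (l := 0) rfl N59776 D199892
theorem N96801 : nd 96801 = n199893 := ndS (p := 59776) (l := 1) rfl N59776 D199893
theorem N96802 : nd 96802 = n199894 := ndS (p := 59776) (l := 6) rfl N59776 D199894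
theorem N96803 : nd 96803 = n199895 := ndS (p := 59777) (l := 5) rfl N59777 D199895
theorem N96804 : nd 96804 = n199896 := ndS (p := 59778) (l := 1) rfl N59778 D199896
theorem N96805 : nd 96805 = n199897 := ndS (p := 59778) (l := 2) rfl N59778 D199897
theorem N96806 : nd 96806 = n199898 := ndS (p := 59779) (l := 3) rfl N59779 D199898
theorem N96807 : nd 96807 = n199899 := ndS (p := 59780) (l := 5) rfl N59780 D199899
theorem N96808 : nd 96808 = n199900 := ndS (p := 59781) (l := 4) rfl N59781 D199900
theorem N96809 : nd 96809 = n199901 := ndS (p := 59781) (l := 6) rfl N59781 D199901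
theorem N96810 : nd 96810 = n199902 := ndS (p := 59783) (l := 1) rfl N59783 D199902
theorem N96811 : nd 96811 = n199903 := ndS (p := 59783) (l := 5) rfl N59783 D199903
theorem N96812 : nd 96812 = n199904 := ndS (p := 59783) (l := 7) rfl N59783 D199904
theorem N96813 : nd 96813 = n199905 := ndS (p := 59784) (l := 3) rfl N59784 D199905
theorem N96814 : nd 96814 = n199906 := ndS (p := 59784) (l := 5) rfl N59784 D199906
theorem N96815 : nd 96815 = n199907 := ndS (p := 59785) (l := 0) rfl N59785 D199907
theorem N96816 : nd 96816 = n199908 := ndS (p := 59785) (l := 1) rfl N59785 D199908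
theorem N96817 : nd 96817 = n199909 := ndS (p := 59786) (l := 4) rfl N59786 D199909
theorem N96818 : nd 96818 = n199910 := ndS (p := 59788) (l := 6) rfl N59788 D199910
theorem N96819 : nd 96819 = n199911 := ndS (p := 59790) (l := 7) rfl N59790 D199911
theorem N96820 : nd 96820 = n199912 := ndS (p := 59792) (l := 3) rfl N59792 D199912
theorem N96821 : nd 96821 = n199913 := ndS (p := 59794) (l := 0) rfl N59794 D199913
theorem N96822 : nd 96822 = n199914 := ndS (p := 59794) (l := 7) rfl N59794 D199914
theorem N96823 : nd 96823 = n199915 := ndS (p := 59796) (l := 5) rfl N59796 D199915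
theorem N96824 : nd 96824 = n199916 := ndS (p := 59797) (l := 4) rfl N59797 D199916
theorem N96825 : nd 96825 = n199917 := ndS (p := 59798) (l := 4) rfl N59798 D199917
theorem N96826 : nd 96826 = n199918 := ndS (p := 59800) (l := 6) rfl N59800 D199918
theorem N96827 : nd 96827 = n199919 := ndS (p := 59801) (l := 1) rfl N59801 D199919
theorem N96828 : nd 96828 = n199920 := ndS (p := 59801) (l := 5) rfl N59801 D199920
theorem N96829 : nd 96829 = n199921 := ndS (p := 59802) (l := 4) rfl N59802 D199921
theorem N96830 : nd 96830 = n199922 := ndS (p := 59803) (l := 5) rfl N59803 D199922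
theorem N96831 : nd 96831 = n199923 := ndS (p := 59805) (l := 6) rfl N59805 D199923
theorem N96832 : nd 96832 = n199924 := ndS (p := 59806) (l := 0) rfl N59806 D199924
theorem N96833 : nd 96833 = n199925 := ndS (p := 59806) (l := 1) rfl N59806 D199925
theorem N96834 : nd 96834 = n199926 := ndS (p := 59806) (l := 5) rfl N59806 D199926
theorem N96835 : nd 96835 = n199927 := ndS (p := 59806) (l := 7) rfl N59806 D199927
theorem N96836 : nd 96836 = n199928 := ndS (p := 59807) (l := 4) rfl N59807 D199928
theorem N96837 : nd 96837 = n199929 := ndS (p := 59811) (l := 4) rfl N59811 D199929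
theorem N96838 : nd 96838 = n199930 := ndS (p := 59811) (l := 6) rfl N59811 D199930
theorem N96839 : nd 96839 = n199931 := ndS (p := 59813) (l := 2) rfl N59813 D199931
theorem N96840 : nd 96840 = n199932 := ndS (p := 59814) (l := 7) rfl N59814 D199932
theorem N96841 : nd 96841 = n199933 := ndS (p := 59815) (l := 0) rfl N59815 D199933
theorem N96842 : nd 96842 = n199934 := ndS (p := 59815) (l := 2) rfl N59815 D199934
theorem N96843 : nd 96843 = n199935 := ndS (p := 59815) (l := 6) rfl N59815 D199935
theorem N96844 : nd 96844 = n199936 := ndS (p := 59816) (l := 1) rfl N59816 D199936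
theorem N96845 : nd 96845 = n199937 := ndS (p := 59816) (l := 5) rfl N59816 D199937
theorem N96846 : nd 96846 = n199938 := ndS (p := 59816) (l := 7) rfl N59816 D199938
theorem N96847 : nd 96847 = n199939 := ndS (p := 59818) (l := 6) rfl N59818 D199939
theorem N96848 : nd 96848 = n199940 := ndS (p := 59822) (l := 4) rfl N59822 D199940
theorem N96849 : nd 96849 = n199941 := ndS (p := 59823) (l := 4) rfl N59823 D199941
theorem N96850 : nd 96850 = n199942 := ndS (p := 59827) (l := 2) rfl N59827 D199942
theorem N96851 : nd 96851 = n199943 := ndS (p := 59827) (l := 5) rfl N59827 D199943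
theorem N96852 : nd 96852 = n199944 := ndS (p := 59829) (l := 3) rfl N59829 D199944
theorem N96853 : nd 96853 = n199945 := ndS (p := 59830) (l := 6) rfl N59830 D199945
theorem N96854 : nd 96854 = n199946 := ndS (p := 59833) (l := 3) rfl N59833 D199946
theorem N96855 : nd 96855 = n199947 := ndS (p := 59835) (l := 3) rfl N59835 D199947
theorem N96856 : nd 96856 = n199948 := ndS (p := 59835) (l := 5) rfl N59835 D199948
theorem N96857 : nd 96857 = n199949 := ndS (p := 59840) (l := 4) rfl N59840 D199949
theorem N96858 : nd 96858 = n199950 := ndS (p := 59842) (l := 4) rfl N59842 D199950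
theorem N96859 : nd 96859 = n199951 := ndS (p := 59843) (l := 6) rfl N59843 D199951
theorem N96860 : nd 96860 = n199952 := ndS (p := 59844) (l := 6) rfl N59844 D199952
theorem N96861 : nd 96861 = n199953 := ndS (p := 59845) (l := 1) rfl N59845 D199953
theorem N96862 : nd 96862 = n199954 := ndS (p := 59846) (l := 0) rfl N59846 D199954
theorem N96863 : nd 96863 = n199955 := ndS (p := 59847) (l := 6) rfl N59847 D199955
theorem N96864 : nd 96864 = n199956 := ndS (p := 59848) (l := 3) rfl N59848 D199956
theorem N96865 : nd 96865 = n199957 := ndS (p := 59848) (l := 6) rfl N59848 D199957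
theorem N96866 : nd 96866 = n199958 := ndS (p := 59850) (l := 1) rfl N59850 D199958
theorem N96867 : nd 96867 = n199959 := ndS (p := 59850) (l := 6) rfl N59850 D199959
theorem N96868 : nd 96868 = n199960 := ndS (p := 59851) (l := 5) rfl N59851 D199960
theorem N96869 : nd 96869 = n199961 := ndS (p := 59852) (l := 0) rfl N59852 D199961
theorem N96870 : nd 96870 = n199962 := ndS (p := 59852) (l := 1) rfl N59852 D199962
theorem N96871 : nd 96871 = n199963 := ndS (p := 59852) (l := 5) rfl N59852 D199963
theorem N96872 : nd 96872 = n199964 := ndS (p := 59852) (l := 7) rfl N59852 D199964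
theorem N96873 : nd 96873 = n199965 := ndS (p := 59854) (l := 0) rfl N59854 D199965
theorem N96874 : nd 96874 = n199966 := ndS (p := 59855) (l := 3) rfl N59855 D199966
theorem N96875 : nd 96875 = n199967 := ndS (p := 59855) (l := 5) rfl N59855 D199967
theorem N96876 : nd 96876 = n199968 := ndS (p := 59855) (l := 6) rfl N59855 D199968
theorem N96877 : nd 96877 = n199969 := ndS (p := 59856) (l := 5) rfl N59856 D199969
theorem N96878 : nd 96878 = n199970 := ndS (p := 59857) (l := 1) rfl N59857 D199970
theorem N96879 : nd 96879 = n199971 := ndS (p := 59859) (l := 0) rfl N59859 D199971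
theorem N96880 : nd 96880 = n199972 := ndS (p := 59859) (l := 6) rfl N59859 D199972
theorem N96881 : nd 96881 = n199973 := ndS (p := 59862) (l := 1) rfl N59862 D199973
theorem N96882 : nd 96882 = n199974 := ndS (p := 59862) (l := 2) rfl N59862 D199974
theorem N96883 : nd 96883 = n199975 := ndS (p := 59862) (l := 4) rfl N59862 D199975
theorem N96884 : nd 96884 = n199976 := ndS (p := 59862) (l := 5) rfl N59862 D199976
theorem N96885 : nd 96885 = n199977 := ndS (p := 59863) (l := 4) rfl N59863 D199977
theorem N96886 : nd 96886 = n199978 := ndS (p := 59865) (l := 3) rfl N59865 D199978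
theorem N96887 : nd 96887 = n199979 := ndS (p := 59865) (l := 4) rfl N59865 D199979
theorem N96888 : nd 96888 = n199980 := ndS (p := 59865) (l := 6) rfl N59865 D199980
theorem N96889 : nd 96889 = n199981 := ndS (p := 59868) (l := 4) rfl N59868 D199981
theorem N96890 : nd 96890 = n199982 := ndS (p := 59872) (l := 5) rfl N59872 D199982
theorem N96891 : nd 96891 = n199983 := ndS (p := 59873) (l := 0) rfl N59873 D199983
theorem N96892 : nd 96892 = n199984 := ndS (p := 59873) (l := 3) rfl N59873 D199984
theorem N96893 : nd 96893 = n199985 := ndS (p := 59874) (l := 3) rfl N59874 D199985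
theorem N96894 : nd 96894 = n199986 := ndS (p := 59874) (l := 5) rfl N59874 D199986
theorem N96895 : nd 96895 = n199987 := ndS (p := 59874) (l := 6) rfl N59874 D199987
theorem N96896 : nd 96896 = n199988 := ndS (p := 59878) (l := 5) rfl N59878 D199988
theorem N96897 : nd 96897 = n199989 := ndS (p := 59879) (l := 3) rfl N59879 D199989
theorem N96898 : nd 96898 = n199990 := ndS (p := 59879) (l := 5) rfl N59879 D199990
theorem N96899 : nd 96899 = n199991 := ndS (p := 59882) (l := 6) rfl N59882 D199991
theorem N96900 : nd 96900 = n199992 := ndS (p := 59883) (l := 1) rfl N59883 D199992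
theorem N96901 : nd 96901 = n199993 := ndS (p := 59883) (l := 5) rfl N59883 D199993
theorem N96902 : nd 96902 = n199994 := ndS (p := 59885) (l := 2) rfl N59885 D199994
theorem N96903 : nd 96903 = n199995 := ndS (p := 59886) (l := 4) rfl N59886 D199995
theorem N96904 : nd 96904 = n199996 := ndS (p := 59886) (l := 6) rfl N59886 D199996
theorem N96905 : nd 96905 = n199997 := ndS (p := 59889) (l := 0) rfl N59889 D199997
theorem N96906 : nd 96906 = n199998 := ndS (p := 59889) (l := 2) rfl N59889 D199998
theorem N96907 : nd 96907 = n199999 := ndS (p := 59891) (l := 3) rfl N59891 D199999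
theorem N96908 : nd 96908 = n200000 := ndS (p := 59892) (l := 5) rfl N59892 D200000
theorem N96909 : nd 96909 = n200001 := ndS (p := 59895) (l := 5) rfl N59895 D200001
theorem N96910 : nd 96910 = n200002 := ndS (p := 59895) (l := 7) rfl N59895 D200002
theorem N96911 : nd 96911 = n200003 := ndS (p := 59900) (l := 3) rfl N59900 D200003
theorem N96912 : nd 96912 = n200004 := ndS (p := 59901) (l := 3) rfl N59901 D200004
theorem N96913 : nd 96913 = n200005 := ndS (p := 59901) (l := 6) rfl N59901 D200005
theorem N96914 : nd 96914 = n200006 := ndS (p := 59904) (l := 3) rfl N59904 D200006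
theorem N96915 : nd 96915 = n200007 := ndS (p := 59905) (l := 6) rfl N59905 D200007
theorem N96916 : nd 96916 = n200008 := ndS (p := 59906) (l := 5) rfl N59906 D200008
theorem N96917 : nd 96917 = n200009 := ndS (p := 59909) (l := 0) rfl N59909 D200009
theorem N96918 : nd 96918 = n200010 := ndS (p := 59909) (l := 2) rfl N59909 D200010
theorem N96919 : nd 96919 = n200011 := ndS (p := 59910) (l := 5) rfl N59910 D200011
theorem N96920 : nd 96920 = n200012 := ndS (p := 59912) (l := 3) rfl N59912 D200012
theorem N96921 : nd 96921 = n200013 := ndS (p := 59913) (l := 0) rfl N59913 D200013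
theorem N96922 : nd 96922 = n200014 := ndS (p := 59913) (l := 1) rfl N59913 D200014
theorem N96923 : nd 96923 = n200015 := ndS (p := 59913) (l := 2) rfl N59913 D200015
theorem N96924 : nd 96924 = n200016 := ndS (p := 59913) (l := 6) rfl N59913 D200016
theorem N96925 : nd 96925 = n200017 := ndS (p := 59914) (l := 0) rfl N59914 D200017
theorem N96926 : nd 96926 = n200018 := ndS (p := 59914) (l := 7) rfl N59914 D200018
theorem N96927 : nd 96927 = n200019 := ndS (p := 59915) (l := 5) rfl N59915 D200019
theorem N96928 : nd 96928 = n200020 := ndS (p := 59915) (l := 6) rfl N59915 D200020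
theorem N96929 : nd 96929 = n200021 := ndS (p := 59916) (l := 5) rfl N59916 D200021
theorem N96930 : nd 96930 = n200022 := ndS (p := 59917) (l := 0) rfl N59917 D200022
theorem N96931 : nd 96931 = n200023 := ndS (p := 59917) (l := 1) rfl N59917 D200023
theorem N96932 : nd 96932 = n200024 := ndS (p := 59917) (l := 4) rfl N59917 D200024
theorem N96933 : nd 96933 = n200025 := ndS (p := 59917) (l := 7) rfl N59917 D200025
theorem N96934 : nd 96934 = n200026 := ndS (p := 59919) (l := 0) rfl N59919 D200026
theorem N96935 : nd 96935 = n200027 := ndS (p := 59919) (l := 2) rfl N59919 D200027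
theorem N96936 : nd 96936 = n200028 := ndS (p := 59922) (l := 3) rfl N59922 D200028
theorem N96937 : nd 96937 = n200029 := ndS (p := 59922) (l := 4) rfl N59922 D200029
theorem N96938 : nd 96938 = n200030 := ndS (p := 59922) (l := 6) rfl N59922 D200030
theorem N96939 : nd 96939 = n200031 := ndS (p := 59923) (l := 3) rfl N59923 D200031
theorem N96940 : nd 96940 = n200032 := ndS (p := 59923) (l := 4) rfl N59923 D200032
theorem N96941 : nd 96941 = n200033 := ndS (p := 59923) (l := 6) rfl N59923 D200033
theorem N96942 : nd 96942 = n200034 := ndS (p := 59924) (l := 5) rfl N59924 D200034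
theorem N96943 : nd 96943 = n200035 := ndS (p := 59927) (l := 5) rfl N59927 D200035
theorem N96944 : nd 96944 = n200036 := ndS (p := 59934) (l := 5) rfl N59934 D200036
theorem N96945 : nd 96945 = n200037 := ndS (p := 59942) (l := 5) rfl N59942 D200037
theorem N96946 : nd 96946 = n200038 := ndS (p := 59945) (l := 2) rfl N59945 D200038
theorem N96947 : nd 96947 = n200039 := ndS (p := 59946) (l := 5) rfl N59946 D200039
theorem N96948 : nd 96948 = n200040 := ndS (p := 59948) (l := 5) rfl N59948 D200040
theorem N96949 : nd 96949 = n200041 := ndS (p := 59948) (l := 6) rfl N59948 D200041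
theorem N96950 : nd 96950 = n200042 := ndS (p := 59949) (l := 6) rfl N59949 D200042
theorem N96951 : nd 96951 = n200043 := ndS (p := 59950) (l := 5) rfl N59950 D200043
theorem N96952 : nd 96952 = n200044 := ndS (p := 59952) (l := 5) rfl N59952 D200044
theorem N96953 : nd 96953 = n200045 := ndS (p := 59954) (l := 6) rfl N59954 D200045
theorem N96954 : nd 96954 = n200046 := ndS (p := 59956) (l := 1) rfl N59956 D200046
theorem N96955 : nd 96955 = n200047 := ndS (p := 59957) (l := 6) rfl N59957 D200047
theorem N96956 : nd 96956 = n200048 := ndS (p := 59958) (l := 4) rfl N59958 D200048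
theorem N96957 : nd 96957 = n200049 := ndS (p := 59961) (l := 5) rfl N59961 D200049
theorem N96958 : nd 96958 = n200050 := ndS (p := 59962) (l := 0) rfl N59962 D200050
theorem N96959 : nd 96959 = n200051 := ndS (p := 59962) (l := 4) rfl N59962 D200051
theorem N96960 : nd 96960 = n200052 := ndS (p := 59965) (l := 5) rfl N59965 D200052
theorem N96961 : nd 96961 = n200053 := ndS (p := 59968) (l := 1) rfl N59968 D200053
theorem N96962 : nd 96962 = n200054 := ndS (p := 59968) (l := 7) rfl N59968 D200054
theorem N96963 : nd 96963 = n200055 := ndS (p := 59969) (l := 3) rfl N59969 D200055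
theorem N96964 : nd 96964 = n200056 := ndS (p := 59969) (l := 6) rfl N59969 D200056
theorem N96965 : nd 96965 = n200057 := ndS (p := 59972) (l := 4) rfl N59972 D200057
theorem N96966 : nd 96966 = n200058 := ndS (p := 59973) (l := 4) rfl N59973 D200058
theorem N96967 : nd 96967 = n200059 := ndS (p := 59975) (l := 5) rfl N59975 D200059
theorem N96968 : nd 96968 = n200060 := ndS (p := 59986) (l := 3) rfl N59986 D200060
theorem N96969 : nd 96969 = n200061 := ndS (p := 59986) (l := 4) rfl N59986 D200061
theorem N96970 : nd 96970 = n200062 := ndS (p := 59989) (l := 4) rfl N59989 D200062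
theorem N96971 : nd 96971 = n200063 := ndS (p := 59990) (l := 5) rfl N59990 D200063
theorem N96972 : nd 96972 = n200064 := ndS (p := 59991) (l := 0) rfl N59991 D200064
theorem N96973 : nd 96973 = n200065 := ndS (p := 59991) (l := 4) rfl N59991 D200065
theorem N96974 : nd 96974 = n200066 := ndS (p := 59992) (l := 4) rfl N59992 D200066
theorem N96975 : nd 96975 = n200067 := ndS (p := 59993) (l := 3) rfl N59993 D200067
theorem N96976 : nd 96976 = n200068 := ndS (p := 59993) (l := 4) rfl N59993 D200068
theorem N96977 : nd 96977 = n200069 := ndS (p := 59993) (l := 6) rfl N59993 D200069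
theorem N96978 : nd 96978 = n200070 := ndS (p := 59994) (l := 1) rfl N59994 D200070
theorem N96979 : nd 96979 = n200071 := ndS (p := 59994) (l := 6) rfl N59994 D200071
theorem N96980 : nd 96980 = n200072 := ndS (p := 59997) (l := 1) rfl N59997 D200072
theorem N96981 : nd 96981 = n200073 := ndS (p := 59997) (l := 4) rfl N59997 D200073
theorem N96982 : nd 96982 = n200074 := ndS (p := 60001) (l := 6) rfl N60001 D200074
theorem N96983 : nd 96983 = n200075 := ndS (p := 60002) (l := 2) rfl N60002 D200075
theorem N96984 : nd 96984 = n200076 := ndS (p := 60003) (l := 2) rfl N60003 D200076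
theorem N96985 : nd 96985 = n200077 := ndS (p := 60005) (l := 4) rfl N60005 D200077
theorem N96986 : nd 96986 = n200078 := ndS (p := 60006) (l := 3) rfl N60006 D200078
theorem N96987 : nd 96987 = n200079 := ndS (p := 60006) (l := 4) rfl N60006 D200079
theorem N96988 : nd 96988 = n200080 := ndS (p := 60006) (l := 6) rfl N60006 D200080
theorem N96989 : nd 96989 = n200081 := ndS (p := 60007) (l := 0) rfl N60007 D200081
theorem N96990 : nd 96990 = n200082 := ndS (p := 60007) (l := 1) rfl N60007 D200082
theorem N96991 : nd 96991 = n200083 := ndS (p := 60007) (l := 5) rfl N60007 D200083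
theorem N96992 : nd 96992 = n200084 := ndS (p := 60010) (l := 5) rfl N60010 D200084
theorem N96993 : nd 96993 = n200085 := ndS (p := 60011) (l := 1) rfl N60011 D200085
theorem N96994 : nd 96994 = n200086 := ndS (p := 60012) (l := 3) rfl N60012 D200086
theorem N96995 : nd 96995 = n200087 := ndS (p := 60012) (l := 5) rfl N60012 D200087
theorem N96996 : nd 96996 = n200088 := ndS (p := 60012) (l := 6) rfl N60012 D200088
theorem N96997 : nd 96997 = n200089 := ndS (p := 60016) (l := 6) rfl N60016 D200089
theorem N96998 : nd 96998 = n200090 := ndS (p := 60018) (l := 3) rfl N60018 D200090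
theorem N96999 : nd 96999 = n200091 := ndS (p := 60018) (l := 5) rfl N60018 D200091
theorem N97000 : nd 97000 = n200092 := ndS (p := 60019) (l := 0) rfl N60019 D200092
theorem N97001 : nd 97001 = n200093 := ndS (p := 60019) (l := 1) rfl N60019 D200093
theorem N97002 : nd 97002 = n200094 := ndS (p := 60019) (l := 5) rfl N60019 D200094
theorem N97003 : nd 97003 = n200095 := ndS (p := 60019) (l := 7) rfl N60019 D200095
theorem N97004 : nd 97004 = n200096 := ndS (p := 60020) (l := 0) rfl N60020 D200096
theorem N97005 : nd 97005 = n200097 := ndS (p := 60020) (l := 1) rfl N60020 D200097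
theorem N97006 : nd 97006 = n200098 := ndS (p := 60020) (l := 4) rfl N60020 D200098
theorem N97007 : nd 97007 = n200099 := ndS (p := 60021) (l := 5) rfl N60021 D200099
theorem N97008 : nd 97008 = n200100 := ndS (p := 60026) (l := 6) rfl N60026 D200100
theorem N97009 : nd 97009 = n200101 := ndS (p := 60027) (l := 0) rfl N60027 D200101
theorem N97010 : nd 97010 = n200102 := ndS (p := 60027) (l := 1) rfl N60027 D200102
theorem N97011 : nd 97011 = n200103 := ndS (p := 60027) (l := 3) rfl N60027 D200103
theorem N97012 : nd 97012 = n200104 := ndS (p := 60027) (l := 5) rfl N60027 D200104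
theorem N97013 : nd 97013 = n200105 := ndS (p := 60027) (l := 6) rfl N60027 D200105
theorem N97014 : nd 97014 = n200106 := ndS (p := 60028) (l := 0) rfl N60028 D200106
theorem N97015 : nd 97015 = n200107 := ndS (p := 60028) (l := 5) rfl N60028 D200107
theorem N97016 : nd 97016 = n200108 := ndS (p := 60028) (l := 7) rfl N60028 D200108
theorem N97017 : nd 97017 = n200109 := ndS (p := 60029) (l := 4) rfl N60029 D200109
theorem N97018 : nd 97018 = n200110 := ndS (p := 60029) (l := 6) rfl N60029 D200110
theorem N97019 : nd 97019 = n200111 := ndS (p := 60030) (l := 5) rfl N60030 D200111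
theorem N97020 : nd 97020 = n200112 := ndS (p := 60030) (l := 6) rfl N60030 D200112
theorem N97021 : nd 97021 = n200113 := ndS (p := 60031) (l := 1) rfl N60031 D200113
theorem N97022 : nd 97022 = n200114 := ndS (p := 60031) (l := 7) rfl N60031 D200114
theorem N97023 : nd 97023 = n200115 := ndS (p := 60032) (l := 0) rfl N60032 D200115
theorem N97024 : nd 97024 = n200116 := ndS (p := 60032) (l := 7) rfl N60032 D200116
theorem N97025 : nd 97025 = n200117 := ndS (p := 60033) (l := 3) rfl N60033 D200117
theorem N97026 : nd 97026 = n200118 := ndS (p := 60033) (l := 4) rfl N60033 D200118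
theorem N97027 : nd 97027 = n200119 := ndS (p := 60033) (l := 5) rfl N60033 D200119
theorem N97028 : nd 97028 = n200120 := ndS (p := 60033) (l := 6) rfl N60033 D200120
theorem N97029 : nd 97029 = n200121 := ndS (p := 60034) (l := 4) rfl N60034 D200121
theorem N97030 : nd 97030 = n200122 := ndS (p := 60034) (l := 5) rfl N60034 D200122
theorem N97031 : nd 97031 = n200123 := ndS (p := 60035) (l := 0) rfl N60035 D200123
theorem N97032 : nd 97032 = n200124 := ndS (p := 60035) (l := 1) rfl N60035 D200124
theorem N97033 : nd 97033 = n200125 := ndS (p := 60035) (l := 4) rfl N60035 D200125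
theorem N97034 : nd 97034 = n200126 := ndS (p := 60035) (l := 7) rfl N60035 D200126
theorem N97035 : nd 97035 = n200127 := ndS (p := 60037) (l := 3) rfl N60037 D200127
theorem N97036 : nd 97036 = n200128 := ndS (p := 60037) (l := 6) rfl N60037 D200128
theorem N97037 : nd 97037 = n200129 := ndS (p := 60038) (l := 3) rfl N60038 D200129
theorem N97038 : nd 97038 = n200130 := ndS (p := 60039) (l := 3) rfl N60039 D200130
theorem N97039 : nd 97039 = n200131 := ndS (p := 60039) (l := 5) rfl N60039 D200131
theorem N97040 : nd 97040 = n200132 := ndS (p := 60039) (l := 7) rfl N60039 D200132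
theorem N97041 : nd 97041 = n200133 := ndS (p := 60043) (l := 1) rfl N60043 D200133
theorem N97042 : nd 97042 = n200134 := ndS (p := 60043) (l := 2) rfl N60043 D200134
theorem N97043 : nd 97043 = n200135 := ndS (p := 60043) (l := 7) rfl N60043 D200135
theorem N97044 : nd 97044 = n200136 := ndS (p := 60044) (l := 4) rfl N60044 D200136
theorem N97045 : nd 97045 = n200137 := ndS (p := 60044) (l := 7) rfl N60044 D200137
theorem N97046 : nd 97046 = n200138 := ndS (p := 60046) (l := 3) rfl N60046 D200138
theorem N97047 : nd 97047 = n200139 := ndS (p := 60047) (l := 3) rfl N60047 D200139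
theorem N97048 : nd 97048 = n200140 := ndS (p := 60047) (l := 6) rfl N60047 D200140
theorem N97049 : nd 97049 = n200141 := ndS (p := 60050) (l := 0) rfl N60050 D200141
theorem N97050 : nd 97050 = n200142 := ndS (p := 60050) (l := 1) rfl N60050 D200142
theorem N97051 : nd 97051 = n200143 := ndS (p := 60050) (l := 7) rfl N60050 D200143
theorem N97052 : nd 97052 = n200144 := ndS (p := 60052) (l := 5) rfl N60052 D200144
theorem N97053 : nd 97053 = n200145 := ndS (p := 60052) (l := 7) rfl N60052 D200145
theorem N97054 : nd 97054 = n200146 := ndS (p := 60053) (l := 3) rfl N60053 D200146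
theorem N97055 : nd 97055 = n200147 := ndS (p := 60053) (l := 4) rfl N60053 D200147
theorem N97056 : nd 97056 = n200148 := ndS (p := 60055) (l := 6) rfl N60055 D200148
theorem N97057 : nd 97057 = n200149 := ndS (p := 60057) (l := 5) rfl N60057 D200149
theorem N97058 : nd 97058 = n200150 := ndS (p := 60058) (l := 0) rfl N60058 D200150
theorem N97059 : nd 97059 = n200151 := ndS (p := 60058) (l := 4) rfl N60058 D200151
theorem N97060 : nd 97060 = n200152 := ndS (p := 60059) (l := 7) rfl N60059 D200152
theorem N97061 : nd 97061 = n200153 := ndS (p := 60060) (l := 4) rfl N60060 D200153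
theorem N97062 : nd 97062 = n200154 := ndS (p := 60060) (l := 6) rfl N60060 D200154
theorem N97063 : nd 97063 = n200155 := ndS (p := 60061) (l := 0) rfl N60061 D200155
theorem N97064 : nd 97064 = n200156 := ndS (p := 60061) (l := 5) rfl N60061 D200156
theorem N97065 : nd 97065 = n200157 := ndS (p := 60061) (l := 7) rfl N60061 D200157
theorem N97066 : nd 97066 = n200158 := ndS (p := 60062) (l := 4) rfl N60062 D200158
theorem N97067 : nd 97067 = n200159 := ndS (p := 60065) (l := 3) rfl N60065 D200159
theorem N97068 : nd 97068 = n200160 := ndS (p := 60065) (l := 6) rfl N60065 D200160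
theorem N97069 : nd 97069 = n200161 := ndS (p := 60066) (l := 5) rfl N60066 D200161
theorem N97070 : nd 97070 = n200162 := ndS (p := 60067) (l := 6) rfl N60067 D200162
theorem N97071 : nd 97071 = n200163 := ndS (p := 60069) (l := 0) rfl N60069 D200163
theorem N97072 : nd 97072 = n200164 := ndS (p := 60069) (l := 1) rfl N60069 D200164
theorem N97073 : nd 97073 = n200165 := ndS (p := 60069) (l := 7) rfl N60069 D200165
theorem N97074 : nd 97074 = n200166 := ndS (p := 60072) (l := 5) rfl N60072 D200166
theorem N97075 : nd 97075 = n200167 := ndS (p := 60074) (l := 4) rfl N60074 D200167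
theorem N97076 : nd 97076 = n200168 := ndS (p := 60077) (l := 5) rfl N60077 D200168
theorem N97077 : nd 97077 = n200169 := ndS (p := 60078) (l := 1) rfl N60078 D200169
theorem N97078 : nd 97078 = n200170 := ndS (p := 60079) (l := 5) rfl N60079 D200170
theorem N97079 : nd 97079 = n200171 := ndS (p := 60080) (l := 3) rfl N60080 D200171
theorem N97080 : nd 97080 = n200172 := ndS (p := 60081) (l := 0) rfl N60081 D200172
theorem N97081 : nd 97081 = n200173 := ndS (p := 60081) (l := 7) rfl N60081 D200173
theorem N97082 : nd 97082 = n200174 := ndS (p := 60086) (l := 3) rfl N60086 D200174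
theorem N97083 : nd 97083 = n200175 := ndS (p := 60087) (l := 1) rfl N60087 D200175
theorem N97084 : nd 97084 = n200176 := ndS (p := 60089) (l := 3) rfl N60089 D200176
theorem N97085 : nd 97085 = n200177 := ndS (p := 60091) (l := 6) rfl N60091 D200177
theorem N97086 : nd 97086 = n200178 := ndS (p := 60093) (l := 0) rfl N60093 D200178
theorem N97087 : nd 97087 = n200179 := ndS (p := 60093) (l := 7) rfl N60093 D200179
theorem N97088 : nd 97088 = n200180 := ndS (p := 60096) (l := 5) rfl N60096 D200180
theorem N97089 : nd 97089 = n200181 := ndS (p := 60098) (l := 0) rfl N60098 D200181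
theorem N97090 : nd 97090 = n200182 := ndS (p := 60098) (l := 1) rfl N60098 D200182
theorem N97091 : nd 97091 = n200183 := ndS (p := 60098) (l := 4) rfl N60098 D200183
theorem N97092 : nd 97092 = n200184 := ndS (p := 60098) (l := 7) rfl N60098 D200184
theorem N97093 : nd 97093 = n200185 := ndS (p := 60101) (l := 4) rfl N60101 D200185
theorem N97094 : nd 97094 = n200186 := ndS (p := 60102) (l := 4) rfl N60102 D200186
theorem N97095 : nd 97095 = n200187 := ndS (p := 60102) (l := 6) rfl N60102 D200187
theorem N97096 : nd 97096 = n200188 := ndS (p := 60103) (l := 4) rfl N60103 D200188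
theorem N97097 : nd 97097 = n200189 := ndS (p := 60103) (l := 6) rfl N60103 D200189
theorem N97098 : nd 97098 = n200190 := ndS (p := 60104) (l := 0) rfl N60104 D200190
theorem N97099 : nd 97099 = n200191 := ndS (p := 60104) (l := 1) rfl N60104 D200191
theorem N97100 : nd 97100 = n200192 := ndS (p := 60104) (l := 5) rfl N60104 D200192
theorem N97101 : nd 97101 = n200193 := ndS (p := 60106) (l := 4) rfl N60106 D200193
theorem N97102 : nd 97102 = n200194 := ndS (p := 60108) (l := 3) rfl N60108 D200194
theorem N97103 : nd 97103 = n200195 := ndS (p := 60108) (l := 5) rfl N60108 D200195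
theorem N97104 : nd 97104 = n200196 := ndS (p := 60109) (l := 4) rfl N60109 D200196
theorem N97105 : nd 97105 = n200197 := ndS (p := 60110) (l := 3) rfl N60110 D200197
theorem N97106 : nd 97106 = n200198 := ndS (p := 60110) (l := 5) rfl N60110 D200198
theorem N97107 : nd 97107 = n200199 := ndS (p := 60112) (l := 3) rfl N60112 D200199
theorem N97108 : nd 97108 = n200200 := ndS (p := 60112) (l := 5) rfl N60112 D200200
theorem N97109 : nd 97109 = n200201 := ndS (p := 60113) (l := 5) rfl N60113 D200201
theorem N97110 : nd 97110 = n200202 := ndS (p := 60114) (l := 4) rfl N60114 D200202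
theorem N97111 : nd 97111 = n200203 := ndS (p := 60114) (l := 6) rfl N60114 D200203
theorem N97112 : nd 97112 = n200204 := ndS (p := 60116) (l := 0) rfl N60116 D200204
theorem N97113 : nd 97113 = n200205 := ndS (p := 60116) (l := 1) rfl N60116 D200205
theorem N97114 : nd 97114 = n200206 := ndS (p := 60116) (l := 7) rfl N60116 D200206
theorem N97115 : nd 97115 = n200207 := ndS (p := 60117) (l := 3) rfl N60117 D200207
theorem N97116 : nd 97116 = n200208 := ndS (p := 60117) (l := 5) rfl N60117 D200208
theorem N97117 : nd 97117 = n200209 := ndS (p := 60119) (l := 5) rfl N60119 D200209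
theorem N97118 : nd 97118 = n200210 := ndS (p := 60120) (l := 0) rfl N60120 D200210
theorem N97119 : nd 97119 = n200211 := ndS (p := 60121) (l := 5) rfl N60121 D200211
theorem N97120 : nd 97120 = n200212 := ndS (p := 60122) (l := 4) rfl N60122 D200212
theorem N97121 : nd 97121 = n200213 := ndS (p := 60122) (l := 6) rfl N60122 D200213
theorem N97122 : nd 97122 = n200215 := ndS (p := 60125) (l := 4) rfl N60125 D200215
theorem N97123 : nd 97123 = n200216 := ndS (p := 60125) (l := 7) rfl N60125 D200216
theorem N97124 : nd 97124 = n200217 := ndS (p := 60127) (l := 3) rfl N60127 D200217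
theorem N97125 : nd 97125 = n200218 := ndS (p := 60128) (l := 6) rfl N60128 D200218
theorem N97126 : nd 97126 = n200219 := ndS (p := 60130) (l := 3) rfl N60130 D200219
theorem N97127 : nd 97127 = n200220 := ndS (p := 60130) (l := 5) rfl N60130 D200220
theorem N97128 : nd 97128 = n200221 := ndS (p := 60131) (l := 3) rfl N60131 D200221
theorem N97129 : nd 97129 = n200222 := ndS (p := 60131) (l := 5) rfl N60131 D200222
theorem N97130 : nd 97130 = n200223 := ndS (p := 60131) (l := 6) rfl N60131 D200223
theorem N97131 : nd 97131 = n200224 := ndS (p := 60132) (l := 4) rfl N60132 D200224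
theorem N97132 : nd 97132 = n200225 := ndS (p := 60133) (l := 3) rfl N60133 D200225
theorem N97133 : nd 97133 = n200226 := ndS (p := 60133) (l := 5) rfl N60133 D200226
theorem N97134 : nd 97134 = n200227 := ndS (p := 60134) (l := 4) rfl N60134 D200227
theorem N97135 : nd 97135 = n200228 := ndS (p := 60135) (l := 3) rfl N60135 D200228
theorem N97136 : nd 97136 = n200229 := ndS (p := 60135) (l := 5) rfl N60135 D200229
theorem N97137 : nd 97137 = n200230 := ndS (p := 60137) (l := 3) rfl N60137 D200230
theorem N97138 : nd 97138 = n200231 := ndS (p := 60139) (l := 5) rfl N60139 D200231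
theorem N97139 : nd 97139 = n200232 := ndS (p := 60140) (l := 4) rfl N60140 D200232
theorem N97140 : nd 97140 = n200233 := ndS (p := 60143) (l := 5) rfl N60143 D200233
theorem N97141 : nd 97141 = n200234 := ndS (p := 60143) (l := 6) rfl N60143 D200234
theorem N97142 : nd 97142 = n200235 := ndS (p := 60144) (l := 5) rfl N60144 D200235
theorem N97143 : nd 97143 = n200236 := ndS (p := 60144) (l := 6) rfl N60144 D200236
theorem N97144 : nd 97144 = n200237 := ndS (p := 60145) (l := 3) rfl N60145 D200237
theorem N97145 : nd 97145 = n200238 := ndS (p := 60145) (l := 5) rfl N60145 D200238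
theorem N97146 : nd 97146 = n200239 := ndS (p := 60145) (l := 6) rfl N60145 D200239
theorem N97147 : nd 97147 = n200240 := ndS (p := 60145) (l := 7) rfl N60145 D200240
theorem N97148 : nd 97148 = n200241 := ndS (p := 60146) (l := 0) rfl N60146 D200241
theorem N97149 : nd 97149 = n200242 := ndS (p := 60146) (l := 4) rfl N60146 D200242
theorem N97150 : nd 97150 = n200243 := ndS (p := 60146) (l := 6) rfl N60146 D200243
theorem N97151 : nd 97151 = n200244 := ndS (p := 60146) (l := 7) rfl N60146 D200244
theorem N97152 : nd 97152 = n200245 := ndS (p := 60147) (l := 0) rfl N60147 D200245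
theorem N97153 : nd 97153 = n200246 := ndS (p := 60147) (l := 5) rfl N60147 D200246
theorem N97154 : nd 97154 = n200247 := ndS (p := 60147) (l := 7) rfl N60147 D200247
theorem N97155 : nd 97155 = n200248 := ndS (p := 60149) (l := 5) rfl N60149 D200248
theorem N97156 : nd 97156 = n200249 := ndS (p := 60150) (l := 4) rfl N60150 D200249
theorem N97157 : nd 97157 = n200250 := ndS (p := 60151) (l := 4) rfl N60151 D200250
theorem N97158 : nd 97158 = n200251 := ndS (p := 60152) (l := 3) rfl N60152 D200251
theorem N97159 : nd 97159 = n200252 := ndS (p := 60152) (l := 6) rfl N60152 D200252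
theorem N97160 : nd 97160 = n200253 := ndS (p := 60153) (l := 3) rfl N60153 D200253
theorem N97161 : nd 97161 = n200254 := ndS (p := 60153) (l := 6) rfl N60153 D200254
theorem N97162 : nd 97162 = n200255 := ndS (p := 60154) (l := 0) rfl N60154 D200255
theorem N97163 : nd 97163 = n200256 := ndS (p := 60154) (l := 1) rfl N60154 D200256
theorem N97164 : nd 97164 = n200257 := ndS (p := 60154) (l := 6) rfl N60154 D200257
theorem N97165 : nd 97165 = n200258 := ndS (p := 60156) (l := 5) rfl N60156 D200258
theorem N97166 : nd 97166 = n200259 := ndS (p := 60156) (l := 6) rfl N60156 D200259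
theorem N97167 : nd 97167 = n200260 := ndS (p := 60157) (l := 3) rfl N60157 D200260
theorem N97168 : nd 97168 = n200261 := ndS (p := 60157) (l := 5) rfl N60157 D200261
theorem N97169 : nd 97169 = n200262 := ndS (p := 60157) (l := 6) rfl N60157 D200262
theorem N97170 : nd 97170 = n200263 := ndS (p := 60159) (l := 5) rfl N60159 D200263
theorem N97171 : nd 97171 = n200264 := ndS (p := 60159) (l := 6) rfl N60159 D200264
theorem N97172 : nd 97172 = n200265 := ndS (p := 60161) (l := 3) rfl N60161 D200265
theorem N97173 : nd 97173 = n200266 := ndS (p := 60166) (l := 7) rfl N60166 D200266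
theorem N97174 : nd 97174 = n200267 := ndS (p := 60167) (l := 4) rfl N60167 D200267
theorem N97175 : nd 97175 = n200268 := ndS (p := 60167) (l := 6) rfl N60167 D200268
theorem N97176 : nd 97176 = n200269 := ndS (p := 60169) (l := 0) rfl N60169 D200269
theorem N97177 : nd 97177 = n200270 := ndS (p := 60169) (l := 1) rfl N60169 D200270
theorem N97178 : nd 97178 = n200271 := ndS (p := 60170) (l := 6) rfl N60170 D200271
theorem N97179 : nd 97179 = n200272 := ndS (p := 60171) (l := 3) rfl N60171 D200272
theorem N97180 : nd 97180 = n200273 := ndS (p := 60172) (l := 6) rfl N60172 D200273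
theorem N97181 : nd 97181 = n200274 := ndS (p := 60176) (l := 7) rfl N60176 D200274
theorem N97182 : nd 97182 = n200275 := ndS (p := 60177) (l := 3) rfl N60177 D200275
theorem N97183 : nd 97183 = n200276 := ndS (p := 60178) (l := 1) rfl N60178 D200276
theorem N97184 : nd 97184 = n200277 := ndS (p := 60179) (l := 6) rfl N60179 D200277
theorem N97185 : nd 97185 = n200278 := ndS (p := 60180) (l := 1) rfl N60180 D200278
theorem N97186 : nd 97186 = n200279 := ndS (p := 60180) (l := 7) rfl N60180 D200279
theorem N97187 : nd 97187 = n200280 := ndS (p := 60181) (l := 1) rfl N60181 D200280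
theorem N97188 : nd 97188 = n200281 := ndS (p := 60181) (l := 2) rfl N60181 D200281
theorem N97189 : nd 97189 = n200282 := ndS (p := 60181) (l := 6) rfl N60181 D200282
theorem N97190 : nd 97190 = n200283 := ndS (p := 60185) (l := 6) rfl N60185 D200283
theorem N97191 : nd 97191 = n200284 := ndS (p := 60186) (l := 0) rfl N60186 D200284
theorem N97192 : nd 97192 = n200285 := ndS (p := 60186) (l := 1) rfl N60186 D200285
theorem N97193 : nd 97193 = n200286 := ndS (p := 60188) (l := 0) rfl N60188 D200286
theorem N97194 : nd 97194 = n200287 := ndS (p := 60188) (l := 1) rfl N60188 D200287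
theorem N97195 : nd 97195 = n200288 := ndS (p := 60188) (l := 7) rfl N60188 D200288
theorem N97196 : nd 97196 = n200289 := ndS (p := 60190) (l := 6) rfl N60190 D200289
theorem N97197 : nd 97197 = n200290 := ndS (p := 60192) (l := 3) rfl N60192 D200290
theorem N97198 : nd 97198 = n200291 := ndS (p := 60193) (l := 6) rfl N60193 D200291
theorem N97199 : nd 97199 = n200292 := ndS (p := 60196) (l := 6) rfl N60196 D200292
theorem N97200 : nd 97200 = n200293 := ndS (p := 60200) (l := 6) rfl N60200 D200293
theorem N97201 : nd 97201 = n200294 := ndS (p := 60201) (l := 1) rfl N60201 D200294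
theorem N97202 : nd 97202 = n200295 := ndS (p := 60201) (l := 7) rfl N60201 D200295
theorem N97203 : nd 97203 = n200296 := ndS (p := 60205) (l := 6) rfl N60205 D200296
theorem N97204 : nd 97204 = n200297 := ndS (p := 60207) (l := 5) rfl N60207 D200297
theorem N97205 : nd 97205 = n200298 := ndS (p := 60211) (l := 3) rfl N60211 D200298
theorem N97206 : nd 97206 = n200299 := ndS (p := 60211) (l := 4) rfl N60211 D200299
theorem N97207 : nd 97207 = n200300 := ndS (p := 60211) (l := 6) rfl N60211 D200300
theorem N97208 : nd 97208 = n200301 := ndS (p := 60213) (l := 5) rfl N60213 D200301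
theorem N97209 : nd 97209 = n200302 := ndS (p := 60214) (l := 0) rfl N60214 D200302
theorem N97210 : nd 97210 = n200303 := ndS (p := 60214) (l := 1) rfl N60214 D200303
theorem N97211 : nd 97211 = n200304 := ndS (p := 60214) (l := 6) rfl N60214 D200304
theorem N97212 : nd 97212 = n200305 := ndS (p := 60215) (l := 0) rfl N60215 D200305
theorem N97213 : nd 97213 = n200306 := ndS (p := 60215) (l := 1) rfl N60215 D200306
theorem N97214 : nd 97214 = n200307 := ndS (p := 60215) (l := 7) rfl N60215 D200307
theorem N97215 : nd 97215 = n200308 := ndS (p := 60216) (l := 4) rfl N60216 D200308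
theorem N97216 : nd 97216 = n200309 := ndS (p := 60217) (l := 3) rfl N60217 D200309
theorem N97217 : nd 97217 = n200310 := ndS (p := 60217) (l := 6) rfl N60217 D200310
theorem N97218 : nd 97218 = n200311 := ndS (p := 60220) (l := 5) rfl N60220 D200311
theorem N97219 : nd 97219 = n200312 := ndS (p := 60221) (l := 0) rfl N60221 D200312
theorem N97220 : nd 97220 = n200313 := ndS (p := 60221) (l := 4) rfl N60221 D200313
theorem N97221 : nd 97221 = n200314 := ndS (p := 60225) (l := 5) rfl N60225 D200314
theorem N97222 : nd 97222 = n200315 := ndS (p := 60226) (l := 1) rfl N60226 D200315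
theorem N97223 : nd 97223 = n200316 := ndS (p := 60226) (l := 4) rfl N60226 D200316
theorem N97224 : nd 97224 = n200317 := ndS (p := 60226) (l := 7) rfl N60226 D200317
theorem N97225 : nd 97225 = n200318 := ndS (p := 60228) (l := 6) rfl N60228 D200318
theorem N97226 : nd 97226 = n200319 := ndS (p := 60229) (l := 5) rfl N60229 D200319
theorem N97227 : nd 97227 = n200320 := ndS (p := 60229) (l := 6) rfl N60229 D200320
theorem N97228 : nd 97228 = n200321 := ndS (p := 60230) (l := 2) rfl N60230 D200321
theorem N97229 : nd 97229 = n200322 := ndS (p := 60230) (l := 6) rfl N60230 D200322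
theorem N97230 : nd 97230 = n200323 := ndS (p := 60230) (l := 7) rfl N60230 D200323
theorem N97231 : nd 97231 = n200324 := ndS (p := 60231) (l := 0) rfl N60231 D200324
theorem N97232 : nd 97232 = n200325 := ndS (p := 60231) (l := 7) rfl N60231 D200325
theorem N97233 : nd 97233 = n200326 := ndS (p := 60232) (l := 0) rfl N60232 D200326
theorem N97234 : nd 97234 = n200328 := ndS (p := 60232) (l := 5) rfl N60232 D200328
theorem N97235 : nd 97235 = n200329 := ndS (p := 60232) (l := 7) rfl N60232 D200329
theorem N97236 : nd 97236 = n200330 := ndS (p := 60234) (l := 5) rfl N60234 D200330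
theorem N97237 : nd 97237 = n200331 := ndS (p := 60235) (l := 6) rfl N60235 D200331
theorem N97238 : nd 97238 = n200332 := ndS (p := 60236) (l := 6) rfl N60236 D200332
theorem N97239 : nd 97239 = n200333 := ndS (p := 60239) (l := 4) rfl N60239 D200333
theorem N97240 : nd 97240 = n200334 := ndS (p := 60239) (l := 6) rfl N60239 D200334
theorem N97241 : nd 97241 = n200335 := ndS (p := 60241) (l := 0) rfl N60241 D200335
theorem N97242 : nd 97242 = n200336 := ndS (p := 60241) (l := 1) rfl N60241 D200336
theorem N97243 : nd 97243 = n200337 := ndS (p := 60242) (l := 0) rfl N60242 D200337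
theorem N97244 : nd 97244 = n200338 := ndS (p := 60242) (l := 1) rfl N60242 D200338
theorem N97245 : nd 97245 = n200339 := ndS (p := 60243) (l := 0) rfl N60243 D200339
theorem N97246 : nd 97246 = n200340 := ndS (p := 60243) (l := 1) rfl N60243 D200340
theorem N97247 : nd 97247 = n200341 := ndS (p := 60243) (l := 5) rfl N60243 D200341
theorem N97248 : nd 97248 = n200342 := ndS (p := 60244) (l := 3) rfl N60244 D200342
theorem N97249 : nd 97249 = n200343 := ndS (p := 60244) (l := 6) rfl N60244 D200343
theorem N97250 : nd 97250 = n200344 := ndS (p := 60245) (l := 6) rfl N60245 D200344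
theorem N97251 : nd 97251 = n200345 := ndS (p := 60248) (l := 0) rfl N60248 D200345
theorem N97252 : nd 97252 = n200346 := ndS (p := 60248) (l := 1) rfl N60248 D200346
theorem N97253 : nd 97253 = n200347 := ndS (p := 60250) (l := 3) rfl N60250 D200347
theorem N97254 : nd 97254 = n200348 := ndS (p := 60250) (l := 5) rfl N60250 D200348
theorem N97255 : nd 97255 = n200349 := ndS (p := 60250) (l := 6) rfl N60250 D200349
theorem N97256 : nd 97256 = n200350 := ndS (p := 60251) (l := 6) rfl N60251 D200350
theorem N97257 : nd 97257 = n200351 := ndS (p := 60254) (l := 6) rfl N60254 D200351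
theorem N97258 : nd 97258 = n200352 := ndS (p := 60255) (l := 3) rfl N60255 D200352
theorem N97259 : nd 97259 = n200353 := ndS (p := 60257) (l := 3) rfl N60257 D200353
theorem N97260 : nd 97260 = n200354 := ndS (p := 60257) (l := 5) rfl N60257 D200354
theorem N97261 : nd 97261 = n200355 := ndS (p := 60257) (l := 6) rfl N60257 D200355
theorem N97262 : nd 97262 = n200356 := ndS (p := 60260) (l := 6) rfl N60260 D200356
theorem N97263 : nd 97263 = n200357 := ndS (p := 60261) (l := 3) rfl N60261 D200357
theorem N97264 : nd 97264 = n200358 := ndS (p := 60263) (l := 3) rfl N60263 D200358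
theorem N97265 : nd 97265 = n200359 := ndS (p := 60263) (l := 5) rfl N60263 D200359
theorem N97266 : nd 97266 = n200360 := ndS (p := 60264) (l := 5) rfl N60264 D200360
theorem N97267 : nd 97267 = n200361 := ndS (p := 60264) (l := 6) rfl N60264 D200361
theorem N97268 : nd 97268 = n200362 := ndS (p := 60265) (l := 0) rfl N60265 D200362
theorem N97269 : nd 97269 = n200363 := ndS (p := 60265) (l := 1) rfl N60265 D200363
theorem N97270 : nd 97270 = n200364 := ndS (p := 60266) (l := 3) rfl N60266 D200364
theorem N97271 : nd 97271 = n200365 := ndS (p := 60266) (l := 5) rfl N60266 D200365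
theorem N97272 : nd 97272 = n200366 := ndS (p := 60267) (l := 6) rfl N60267 D200366
theorem N97273 : nd 97273 = n200367 := ndS (p := 60270) (l := 3) rfl N60270 D200367
theorem N97274 : nd 97274 = n200368 := ndS (p := 60271) (l := 6) rfl N60271 D200368
theorem N97275 : nd 97275 = n200369 := ndS (p := 60273) (l := 5) rfl N60273 D200369
theorem N97276 : nd 97276 = n200371 := ndS (p := 60276) (l := 5) rfl N60276 D200371
theorem N97277 : nd 97277 = n200372 := ndS (p := 60277) (l := 3) rfl N60277 D200372
theorem N97278 : nd 97278 = n200373 := ndS (p := 60277) (l := 6) rfl N60277 D200373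
theorem N97279 : nd 97279 = n200374 := ndS (p := 60279) (l := 3) rfl N60279 D200374
theorem N97280 : nd 97280 = n200375 := ndS (p := 60279) (l := 6) rfl N60279 D200375
theorem N97281 : nd 97281 = n200376 := ndS (p := 60280) (l := 3) rfl N60280 D200376
theorem N97282 : nd 97282 = n200377 := ndS (p := 60280) (l := 6) rfl N60280 D200377
theorem N97283 : nd 97283 = n200378 := ndS (p := 60284) (l := 1) rfl N60284 D200378
theorem N97284 : nd 97284 = n200379 := ndS (p := 60288) (l := 5) rfl N60288 D200379
theorem N97285 : nd 97285 = n200380 := ndS (p := 60289) (l := 5) rfl N60289 D200380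
theorem N97286 : nd 97286 = n200381 := ndS (p := 60290) (l := 3) rfl N60290 D200381
theorem N97287 : nd 97287 = n200382 := ndS (p := 60290) (l := 5) rfl N60290 D200382
theorem N97288 : nd 97288 = n200383 := ndS (p := 60290) (l := 6) rfl N60290 D200383
theorem N97289 : nd 97289 = n200384 := ndS (p := 60292) (l := 4) rfl N60292 D200384
theorem N97290 : nd 97290 = n200385 := ndS (p := 60296) (l := 3) rfl N60296 D200385
theorem N97291 : nd 97291 = n200386 := ndS (p := 60296) (l := 4) rfl N60296 D200386
theorem N97292 : nd 97292 = n200387 := ndS (p := 60296) (l := 5) rfl N60296 D200387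
theorem N97293 : nd 97293 = n200388 := ndS (p := 60296) (l := 6) rfl N60296 D200388
theorem N97294 : nd 97294 = n200389 := ndS (p := 60297) (l := 5) rfl N60297 D200389
theorem N97295 : nd 97295 = n200390 := ndS (p := 60297) (l := 6) rfl N60297 D200390
theorem N97296 : nd 97296 = n200391 := ndS (p := 60298) (l := 0) rfl N60298 D200391
theorem N97297 : nd 97297 = n200392 := ndS (p := 60298) (l := 5) rfl N60298 D200392
theorem N97298 : nd 97298 = n200393 := ndS (p := 60298) (l := 6) rfl N60298 D200393
theorem N97299 : nd 97299 = n200394 := ndS (p := 60298) (l := 7) rfl N60298 D200394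
theorem N97300 : nd 97300 = n200395 := ndS (p := 60299) (l := 0) rfl N60299 D200395
theorem N97301 : nd 97301 = n200396 := ndS (p := 60299) (l := 4) rfl N60299 D200396
theorem N97302 : nd 97302 = n200397 := ndS (p := 60299) (l := 6) rfl N60299 D200397
theorem N97303 : nd 97303 = n200398 := ndS (p := 60299) (l := 7) rfl N60299 D200398
theorem N97304 : nd 97304 = n200399 := ndS (p := 60300) (l := 5) rfl N60300 D200399
theorem N97305 : nd 97305 = n200400 := ndS (p := 60302) (l := 2) rfl N60302 D200400
theorem N97306 : nd 97306 = n200401 := ndS (p := 60304) (l := 4) rfl N60304 D200401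
theorem N97307 : nd 97307 = n200402 := ndS (p := 60305) (l := 4) rfl N60305 D200402
theorem N97308 : nd 97308 = n200403 := ndS (p := 60306) (l := 3) rfl N60306 D200403
theorem N97309 : nd 97309 = n200404 := ndS (p := 60306) (l := 4) rfl N60306 D200404
theorem N97310 : nd 97310 = n200405 := ndS (p := 60306) (l := 6) rfl N60306 D200405
theorem N97311 : nd 97311 = n200406 := ndS (p := 60307) (l := 3) rfl N60307 D200406
theorem N97312 : nd 97312 = n200407 := ndS (p := 60307) (l := 4) rfl N60307 D200407
theorem N97313 : nd 97313 = n200408 := ndS (p := 60307) (l := 6) rfl N60307 D200408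
theorem N97314 : nd 97314 = n200409 := ndS (p := 60308) (l := 0) rfl N60308 D200409
theorem N97315 : nd 97315 = n200410 := ndS (p := 60308) (l := 1) rfl N60308 D200410
theorem N97316 : nd 97316 = n200411 := ndS (p := 60310) (l := 3) rfl N60310 D200411
theorem N97317 : nd 97317 = n200412 := ndS (p := 60310) (l := 6) rfl N60310 D200412
theorem N97318 : nd 97318 = n200413 := ndS (p := 60311) (l := 3) rfl N60311 D200413
theorem N97319 : nd 97319 = n200414 := ndS (p := 60311) (l := 5) rfl N60311 D200414
theorem N97320 : nd 97320 = n200415 := ndS (p := 60311) (l := 6) rfl N60311 D200415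
theorem N97321 : nd 97321 = n200416 := ndS (p := 60313) (l := 0) rfl N60313 D200416
theorem N97322 : nd 97322 = n200417 := ndS (p := 60313) (l := 1) rfl N60313 D200417
theorem N97323 : nd 97323 = n200418 := ndS (p := 60313) (l := 4) rfl N60313 D200418
theorem N97324 : nd 97324 = n200419 := ndS (p := 60316) (l := 6) rfl N60316 D200419
theorem N97325 : nd 97325 = n200420 := ndS (p := 60319) (l := 6) rfl N60319 D200420
theorem N97326 : nd 97326 = n200421 := ndS (p := 60320) (l := 1) rfl N60320 D200421
theorem N97327 : nd 97327 = n200422 := ndS (p := 60320) (l := 7) rfl N60320 D200422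
theorem N97328 : nd 97328 = n200423 := ndS (p := 60321) (l := 6) rfl N60321 D200423
theorem N97329 : nd 97329 = n200424 := ndS (p := 60322) (l := 5) rfl N60322 D200424
theorem N97330 : nd 97330 = n200425 := ndS (p := 60326) (l := 6) rfl N60326 D200425
theorem N97331 : nd 97331 = n200426 := ndS (p := 60331) (l := 5) rfl N60331 D200426
theorem N97332 : nd 97332 = n200427 := ndS (p := 60331) (l := 6) rfl N60331 D200427
theorem N97333 : nd 97333 = n200428 := ndS (p := 60332) (l := 1) rfl N60332 D200428
theorem N97334 : nd 97334 = n200429 := ndS (p := 60332) (l := 5) rfl N60332 D200429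
theorem N97335 : nd 97335 = n200430 := ndS (p := 60332) (l := 6) rfl N60332 D200430
theorem N97336 : nd 97336 = n200431 := ndS (p := 60333) (l := 0) rfl N60333 D200431
theorem N97337 : nd 97337 = n200432 := ndS (p := 60333) (l := 6) rfl N60333 D200432
theorem N97338 : nd 97338 = n200433 := ndS (p := 60334) (l := 0) rfl N60334 D200433
theorem N97339 : nd 97339 = n200434 := ndS (p := 60334) (l := 4) rfl N60334 D200434
theorem N97340 : nd 97340 = n200435 := ndS (p := 60334) (l := 6) rfl N60334 D200435
theorem N97341 : nd 97341 = n200436 := ndS (p := 60334) (l := 7) rfl N60334 D200436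
theorem N97342 : nd 97342 = n200437 := ndS (p := 60335) (l := 0) rfl N60335 D200437
theorem N97343 : nd 97343 = n200438 := ndS (p := 60335) (l := 5) rfl N60335 D200438
theorem N97344 : nd 97344 = n200439 := ndS (p := 60335) (l := 7) rfl N60335 D200439
theorem N97345 : nd 97345 = n200440 := ndS (p := 60338) (l := 4) rfl N60338 D200440
theorem N97346 : nd 97346 = n200441 := ndS (p := 60339) (l := 4) rfl N60339 D200441
theorem N97347 : nd 97347 = n200442 := ndS (p := 60339) (l := 6) rfl N60339 D200442
theorem N97348 : nd 97348 = n200443 := ndS (p := 60341) (l := 6) rfl N60341 D200443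
theorem N97349 : nd 97349 = n200444 := ndS (p := 60342) (l := 1) rfl N60342 D200444
theorem N97350 : nd 97350 = n200445 := ndS (p := 60342) (l := 5) rfl N60342 D200445
theorem N97351 : nd 97351 = n200446 := ndS (p := 60343) (l := 0) rfl N60343 D200446
theorem N97352 : nd 97352 = n200447 := ndS (p := 60343) (l := 1) rfl N60343 D200447
theorem N97353 : nd 97353 = n200448 := ndS (p := 60344) (l := 0) rfl N60344 D200448
theorem N97354 : nd 97354 = n200449 := ndS (p := 60344) (l := 1) rfl N60344 D200449
theorem N97355 : nd 97355 = n200450 := ndS (p := 60345) (l := 6) rfl N60345 D200450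
theorem N97356 : nd 97356 = n200451 := ndS (p := 60346) (l := 5) rfl N60346 D200451
theorem N97357 : nd 97357 = n200452 := ndS (p := 60348) (l := 0) rfl N60348 D200452
theorem N97358 : nd 97358 = n200453 := ndS (p := 60348) (l := 1) rfl N60348 D200453
theorem N97359 : nd 97359 = n200454 := ndS (p := 60348) (l := 4) rfl N60348 D200454
theorem N97360 : nd 97360 = n200455 := ndS (p := 60349) (l := 4) rfl N60349 D200455
theorem N97361 : nd 97361 = n200456 := ndS (p := 60352) (l := 4) rfl N60352 D200456
theorem N97362 : nd 97362 = n200457 := ndS (p := 60352) (l := 5) rfl N60352 D200457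
theorem N97363 : nd 97363 = n200458 := ndS (p := 60355) (l := 0) rfl N60355 D200458
theorem N97364 : nd 97364 = n200459 := ndS (p := 60355) (l := 1) rfl N60355 D200459
theorem N97365 : nd 97365 = n200460 := ndS (p := 60357) (l := 5) rfl N60357 D200460
theorem N97366 : nd 97366 = n200461 := ndS (p := 60358) (l := 6) rfl N60358 D200461
theorem N97367 : nd 97367 = n200462 := ndS (p := 60359) (l := 6) rfl N60359 D200462
theorem N97368 : nd 97368 = n200463 := ndS (p := 60360) (l := 4) rfl N60360 D200463
theorem N97369 : nd 97369 = n200464 := ndS (p := 60361) (l := 3) rfl N60361 D200464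
theorem N97370 : nd 97370 = n200465 := ndS (p := 60361) (l := 4) rfl N60361 D200465
theorem N97371 : nd 97371 = n200466 := ndS (p := 60363) (l := 5) rfl N60363 D200466
theorem N97372 : nd 97372 = n200467 := ndS (p := 60365) (l := 5) rfl N60365 D200467
theorem N97373 : nd 97373 = n200468 := ndS (p := 60366) (l := 1) rfl N60366 D200468
theorem N97374 : nd 97374 = n200469 := ndS (p := 60366) (l := 4) rfl N60366 D200469
theorem N97375 : nd 97375 = n200470 := ndS (p := 60367) (l := 0) rfl N60367 D200470
theorem N97376 : nd 97376 = n200471 := ndS (p := 60367) (l := 1) rfl N60367 D200471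
theorem N97377 : nd 97377 = n200472 := ndS (p := 60367) (l := 7) rfl N60367 D200472
theorem N97378 : nd 97378 = n200473 := ndS (p := 60371) (l := 5) rfl N60371 D200473
theorem N97379 : nd 97379 = n200474 := ndS (p := 60377) (l := 3) rfl N60377 D200474
theorem N97380 : nd 97380 = n200475 := ndS (p := 60377) (l := 4) rfl N60377 D200475
theorem N97381 : nd 97381 = n200476 := ndS (p := 60379) (l := 4) rfl N60379 D200476
theorem N97382 : nd 97382 = n200477 := ndS (p := 60381) (l := 0) rfl N60381 D200477
theorem N97383 : nd 97383 = n200478 := ndS (p := 60381) (l := 5) rfl N60381 D200478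
theorem N97384 : nd 97384 = n200479 := ndS (p := 60381) (l := 7) rfl N60381 D200479
theorem N97385 : nd 97385 = n200480 := ndS (p := 60384) (l := 3) rfl N60384 D200480
theorem N97386 : nd 97386 = n200481 := ndS (p := 60385) (l := 5) rfl N60385 D200481
theorem N97387 : nd 97387 = n200482 := ndS (p := 60386) (l := 0) rfl N60386 D200482
theorem N97388 : nd 97388 = n200483 := ndS (p := 60386) (l := 3) rfl N60386 D200483
theorem N97389 : nd 97389 = n200484 := ndS (p := 60386) (l := 5) rfl N60386 D200484
theorem N97390 : nd 97390 = n200485 := ndS (p := 60386) (l := 6) rfl N60386 D200485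
theorem N97391 : nd 97391 = n200486 := ndS (p := 60386) (l := 7) rfl N60386 D200486
theorem N97392 : nd 97392 = n200487 := ndS (p := 60387) (l := 6) rfl N60387 D200487
theorem N97393 : nd 97393 = n200488 := ndS (p := 60388) (l := 5) rfl N60388 D200488
theorem N97394 : nd 97394 = n200489 := ndS (p := 60389) (l := 6) rfl N60389 D200489
theorem N97395 : nd 97395 = n200490 := ndS (p := 60390) (l := 0) rfl N60390 D200490
theorem N97396 : nd 97396 = n200491 := ndS (p := 60390) (l := 2) rfl N60390 D200491
theorem N97397 : nd 97397 = n200492 := ndS (p := 60390) (l := 4) rfl N60390 D200492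
theorem N97398 : nd 97398 = n200493 := ndS (p := 60390) (l := 5) rfl N60390 D200493
theorem N97399 : nd 97399 = n200494 := ndS (p := 60390) (l := 6) rfl N60390 D200494
theorem N97400 : nd 97400 = n200495 := ndS (p := 60391) (l := 5) rfl N60391 D200495
theorem N97401 : nd 97401 = n200496 := ndS (p := 60391) (l := 6) rfl N60391 D200496
theorem N97402 : nd 97402 = n200497 := ndS (p := 60393) (l := 1) rfl N60393 D200497
theorem N97403 : nd 97403 = n200498 := ndS (p := 60393) (l := 5) rfl N60393 D200498
theorem N97404 : nd 97404 = n200499 := ndS (p := 60393) (l := 7) rfl N60393 D200499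
theorem N97405 : nd 97405 = n200500 := ndS (p := 60394) (l := 4) rfl N60394 D200500
theorem N97406 : nd 97406 = n200501 := ndS (p := 60395) (l := 4) rfl N60395 D200501
theorem N97407 : nd 97407 = n200502 := ndS (p := 60395) (l := 6) rfl N60395 D200502
theorem N97408 : nd 97408 = n200503 := ndS (p := 60396) (l := 3) rfl N60396 D200503
theorem N97409 : nd 97409 = n200504 := ndS (p := 60396) (l := 4) rfl N60396 D200504
theorem N97410 : nd 97410 = n200505 := ndS (p := 60397) (l := 0) rfl N60397 D200505
theorem N97411 : nd 97411 = n200506 := ndS (p := 60397) (l := 5) rfl N60397 D200506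
theorem N97412 : nd 97412 = n200507 := ndS (p := 60398) (l := 1) rfl N60398 D200507
theorem N97413 : nd 97413 = n200508 := ndS (p := 60399) (l := 0) rfl N60399 D200508
theorem N97414 : nd 97414 = n200509 := ndS (p := 60399) (l := 1) rfl N60399 D200509
theorem N97415 : nd 97415 = n200510 := ndS (p := 60399) (l := 2) rfl N60399 D200510
theorem N97416 : nd 97416 = n200511 := ndS (p := 60401) (l := 4) rfl N60401 D200511
theorem N97417 : nd 97417 = n200512 := ndS (p := 60401) (l := 5) rfl N60401 D200512
theorem N97418 : nd 97418 = n200513 := ndS (p := 60401) (l := 6) rfl N60401 D200513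
theorem N97419 : nd 97419 = n200514 := ndS (p := 60406) (l := 3) rfl N60406 D200514
theorem N97420 : nd 97420 = n200515 := ndS (p := 60406) (l := 4) rfl N60406 D200515
theorem N97421 : nd 97421 = n200517 := ndS (p := 60406) (l := 6) rfl N60406 D200517
theorem N97422 : nd 97422 = n200518 := ndS (p := 60407) (l := 3) rfl N60407 D200518
theorem N97423 : nd 97423 = n200519 := ndS (p := 60407) (l := 6) rfl N60407 D200519
theorem N97424 : nd 97424 = n200520 := ndS (p := 60408) (l := 5) rfl N60408 D200520
theorem N97425 : nd 97425 = n200521 := ndS (p := 60409) (l := 0) rfl N60409 D200521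
theorem N97426 : nd 97426 = n200522 := ndS (p := 60409) (l := 1) rfl N60409 D200522
theorem N97427 : nd 97427 = n200523 := ndS (p := 60409) (l := 4) rfl N60409 D200523
theorem N97428 : nd 97428 = n200524 := ndS (p := 60409) (l := 6) rfl N60409 D200524
theorem N97429 : nd 97429 = n200525 := ndS (p := 60410) (l := 0) rfl N60410 D200525
theorem N97430 : nd 97430 = n200526 := ndS (p := 60410) (l := 5) rfl N60410 D200526
theorem N97431 : nd 97431 = n200527 := ndS (p := 60411) (l := 0) rfl N60411 D200527
theorem N97432 : nd 97432 = n200528 := ndS (p := 60411) (l := 1) rfl N60411 D200528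
theorem N97433 : nd 97433 = n200529 := ndS (p := 60411) (l := 7) rfl N60411 D200529
theorem N97434 : nd 97434 = n200530 := ndS (p := 60415) (l := 3) rfl N60415 D200530
theorem N97435 : nd 97435 = n200531 := ndS (p := 60415) (l := 6) rfl N60415 D200531
theorem N97436 : nd 97436 = n200532 := ndS (p := 60416) (l := 5) rfl N60416 D200532
theorem N97437 : nd 97437 = n200533 := ndS (p := 60417) (l := 0) rfl N60417 D200533
theorem N97438 : nd 97438 = n200534 := ndS (p := 60417) (l := 1) rfl N60417 D200534
theorem N97439 : nd 97439 = n200535 := ndS (p := 60417) (l := 6) rfl N60417 D200535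
theorem N97440 : nd 97440 = n200536 := ndS (p := 60418) (l := 0) rfl N60418 D200536
theorem N97441 : nd 97441 = n200537 := ndS (p := 60421) (l := 5) rfl N60421 D200537
theorem N97442 : nd 97442 = n200538 := ndS (p := 60422) (l := 5) rfl N60422 D200538
theorem N97443 : nd 97443 = n200539 := ndS (p := 60423) (l := 0) rfl N60423 D200539
theorem N97444 : nd 97444 = n200540 := ndS (p := 60423) (l := 4) rfl N60423 D200540
theorem N97445 : nd 97445 = n200541 := ndS (p := 60423) (l := 6) rfl N60423 D200541
theorem N97446 : nd 97446 = n200542 := ndS (p := 60424) (l := 5) rfl N60424 D200542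
theorem N97447 : nd 97447 = n200543 := ndS (p := 60426) (l := 4) rfl N60426 D200543
theorem N97448 : nd 97448 = n200544 := ndS (p := 60426) (l := 6) rfl N60426 D200544
theorem N97449 : nd 97449 = n200545 := ndS (p := 60427) (l := 5) rfl N60427 D200545
theorem N97450 : nd 97450 = n200546 := ndS (p := 60428) (l := 0) rfl N60428 D200546
theorem N97451 : nd 97451 = n200547 := ndS (p := 60428) (l := 1) rfl N60428 D200547
theorem N97452 : nd 97452 = n200548 := ndS (p := 60428) (l := 4) rfl N60428 D200548
theorem N97453 : nd 97453 = n200549 := ndS (p := 60428) (l := 6) rfl N60428 D200549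
theorem N97454 : nd 97454 = n200550 := ndS (p := 60429) (l := 4) rfl N60429 D200550
theorem N97455 : nd 97455 = n200551 := ndS (p := 60429) (l := 6) rfl N60429 D200551
theorem N97456 : nd 97456 = n200552 := ndS (p := 60430) (l := 3) rfl N60430 D200552
theorem N97457 : nd 97457 = n200553 := ndS (p := 60430) (l := 4) rfl N60430 D200553
theorem N97458 : nd 97458 = n200554 := ndS (p := 60431) (l := 0) rfl N60431 D200554
theorem N97459 : nd 97459 = n200555 := ndS (p := 60431) (l := 1) rfl N60431 D200555
theorem N97460 : nd 97460 = n200556 := ndS (p := 60431) (l := 3) rfl N60431 D200556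
theorem N97461 : nd 97461 = n200557 := ndS (p := 60431) (l := 5) rfl N60431 D200557
theorem N97462 : nd 97462 = n200558 := ndS (p := 60431) (l := 6) rfl N60431 D200558
theorem N97463 : nd 97463 = n200559 := ndS (p := 60432) (l := 0) rfl N60432 D200559
theorem N97464 : nd 97464 = n200560 := ndS (p := 60432) (l := 1) rfl N60432 D200560
theorem N97465 : nd 97465 = n200561 := ndS (p := 60432) (l := 7) rfl N60432 D200561
theorem N97466 : nd 97466 = n200562 := ndS (p := 60433) (l := 6) rfl N60433 D200562
theorem N97467 : nd 97467 = n200563 := ndS (p := 60434) (l := 0) rfl N60434 D200563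
theorem N97468 : nd 97468 = n200564 := ndS (p := 60434) (l := 5) rfl N60434 D200564
theorem N97469 : nd 97469 = n200565 := ndS (p := 60435) (l := 0) rfl N60435 D200565
theorem N97470 : nd 97470 = n200566 := ndS (p := 60435) (l := 1) rfl N60435 D200566
theorem N97471 : nd 97471 = n200567 := ndS (p := 60435) (l := 5) rfl N60435 D200567
theorem N97472 : nd 97472 = n200568 := ndS (p := 60435) (l := 7) rfl N60435 D200568
theorem N97473 : nd 97473 = n200569 := ndS (p := 60436) (l := 3) rfl N60436 D200569
theorem N97474 : nd 97474 = n200570 := ndS (p := 60436) (l := 5) rfl N60436 D200570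
theorem N97475 : nd 97475 = n200571 := ndS (p := 60436) (l := 6) rfl N60436 D200571
theorem N97476 : nd 97476 = n200572 := ndS (p := 60437) (l := 3) rfl N60437 D200572
theorem N97477 : nd 97477 = n200573 := ndS (p := 60437) (l := 6) rfl N60437 D200573
theorem N97478 : nd 97478 = n200574 := ndS (p := 60439) (l := 4) rfl N60439 D200574
theorem N97479 : nd 97479 = n200575 := ndS (p := 60440) (l := 3) rfl N60440 D200575
theorem N97480 : nd 97480 = n200576 := ndS (p := 60440) (l := 6) rfl N60440 D200576
theorem N97481 : nd 97481 = n200577 := ndS (p := 60442) (l := 0) rfl N60442 D200577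
theorem N97482 : nd 97482 = n200578 := ndS (p := 60442) (l := 1) rfl N60442 D200578
theorem N97483 : nd 97483 = n200579 := ndS (p := 60442) (l := 4) rfl N60442 D200579
theorem N97484 : nd 97484 = n200580 := ndS (p := 60443) (l := 4) rfl N60443 D200580
theorem N97485 : nd 97485 = n200581 := ndS (p := 60444) (l := 3) rfl N60444 D200581
theorem N97486 : nd 97486 = n200582 := ndS (p := 60444) (l := 4) rfl N60444 D200582
theorem N97487 : nd 97487 = n200583 := ndS (p := 60444) (l := 6) rfl N60444 D200583
theorem N97488 : nd 97488 = n200584 := ndS (p := 60446) (l := 6) rfl N60446 D200584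
theorem N97489 : nd 97489 = n200585 := ndS (p := 60447) (l := 1) rfl N60447 D200585
theorem N97490 : nd 97490 = n200586 := ndS (p := 60448) (l := 7) rfl N60448 D200586
theorem N97491 : nd 97491 = n200587 := ndS (p := 60450) (l := 1) rfl N60450 D200587
theorem N97492 : nd 97492 = n200588 := ndS (p := 60450) (l := 2) rfl N60450 D200588
theorem N97493 : nd 97493 = n200589 := ndS (p := 60450) (l := 5) rfl N60450 D200589
theorem N97494 : nd 97494 = n200590 := ndS (p := 60450) (l := 6) rfl N60450 D200590
theorem N97495 : nd 97495 = n200591 := ndS (p := 60451) (l := 0) rfl N60451 D200591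
theorem N97496 : nd 97496 = n200592 := ndS (p := 60451) (l := 3) rfl N60451 D200592
theorem N97497 : nd 97497 = n200593 := ndS (p := 60451) (l := 6) rfl N60451 D200593
theorem N97498 : nd 97498 = n200594 := ndS (p := 60453) (l := 5) rfl N60453 D200594
theorem N97499 : nd 97499 = n200595 := ndS (p := 60453) (l := 7) rfl N60453 D200595
theorem N97500 : nd 97500 = n200596 := ndS (p := 60454) (l := 4) rfl N60454 D200596
theorem N97501 : nd 97501 = n200597 := ndS (p := 60456) (l := 6) rfl N60456 D200597
theorem N97502 : nd 97502 = n200598 := ndS (p := 60457) (l := 1) rfl N60457 D200598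
theorem N97503 : nd 97503 = n200599 := ndS (p := 60457) (l := 5) rfl N60457 D200599
theorem N97504 : nd 97504 = n200600 := ndS (p := 60457) (l := 7) rfl N60457 D200600
theorem N97505 : nd 97505 = n200601 := ndS (p := 60458) (l := 3) rfl N60458 D200601
theorem N97506 : nd 97506 = n200602 := ndS (p := 60458) (l := 4) rfl N60458 D200602
theorem N97507 : nd 97507 = n200603 := ndS (p := 60458) (l := 6) rfl N60458 D200603
theorem N97508 : nd 97508 = n200604 := ndS (p := 60460) (l := 6) rfl N60460 D200604
theorem N97509 : nd 97509 = n200605 := ndS (p := 60461) (l := 0) rfl N60461 D200605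
theorem N97510 : nd 97510 = n200606 := ndS (p := 60461) (l := 7) rfl N60461 D200606
theorem N97511 : nd 97511 = n200607 := ndS (p := 60462) (l := 3) rfl N60462 D200607
theorem N97512 : nd 97512 = n200609 := ndS (p := 60464) (l := 0) rfl N60464 D200609
theorem N97513 : nd 97513 = n200610 := ndS (p := 60464) (l := 1) rfl N60464 D200610
theorem N97514 : nd 97514 = n200611 := ndS (p := 60464) (l := 7) rfl N60464 D200611
theorem N97515 : nd 97515 = n200612 := ndS (p := 60466) (l := 3) rfl N60466 D200612
theorem N97516 : nd 97516 = n200613 := ndS (p := 60466) (l := 6) rfl N60466 D200613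
theorem N97517 : nd 97517 = n200614 := ndS (p := 60470) (l := 6) rfl N60470 D200614
theorem N97518 : nd 97518 = n200615 := ndS (p := 60471) (l := 0) rfl N60471 D200615
theorem N97519 : nd 97519 = n200616 := ndS (p := 60472) (l := 3) rfl N60472 D200616
theorem N97520 : nd 97520 = n200617 := ndS (p := 60472) (l := 6) rfl N60472 D200617
theorem N97521 : nd 97521 = n200618 := ndS (p := 60474) (l := 5) rfl N60474 D200618
theorem N97522 : nd 97522 = n200619 := ndS (p := 60476) (l := 5) rfl N60476 D200619
theorem N97523 : nd 97523 = n200620 := ndS (p := 60477) (l := 6) rfl N60477 D200620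
theorem N97524 : nd 97524 = n200621 := ndS (p := 60481) (l := 1) rfl N60481 D200621
theorem N97525 : nd 97525 = n200622 := ndS (p := 60481) (l := 5) rfl N60481 D200622
theorem N97526 : nd 97526 = n200623 := ndS (p := 60481) (l := 6) rfl N60481 D200623
theorem N97527 : nd 97527 = n200624 := ndS (p := 60482) (l := 0) rfl N60482 D200624
theorem N97528 : nd 97528 = n200625 := ndS (p := 60482) (l := 6) rfl N60482 D200625
theorem N97529 : nd 97529 = n200626 := ndS (p := 60483) (l := 4) rfl N60483 D200626
theorem N97530 : nd 97530 = n200627 := ndS (p := 60483) (l := 6) rfl N60483 D200627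
theorem N97531 : nd 97531 = n200628 := ndS (p := 60484) (l := 5) rfl N60484 D200628
theorem N97532 : nd 97532 = n200629 := ndS (p := 60485) (l := 2) rfl N60485 D200629
theorem N97533 : nd 97533 = n200630 := ndS (p := 60485) (l := 5) rfl N60485 D200630
theorem N97534 : nd 97534 = n200631 := ndS (p := 60485) (l := 6) rfl N60485 D200631
theorem N97535 : nd 97535 = n200632 := ndS (p := 60487) (l := 4) rfl N60487 D200632
theorem N97536 : nd 97536 = n200633 := ndS (p := 60489) (l := 4) rfl N60489 D200633
theorem N97537 : nd 97537 = n200634 := ndS (p := 60489) (l := 6) rfl N60489 D200634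
theorem N97538 : nd 97538 = n200635 := ndS (p := 60490) (l := 0) rfl N60490 D200635
theorem N97539 : nd 97539 = n200636 := ndS (p := 60490) (l := 5) rfl N60490 D200636
theorem N97540 : nd 97540 = n200637 := ndS (p := 60490) (l := 7) rfl N60490 D200637
theorem N97541 : nd 97541 = n200638 := ndS (p := 60491) (l := 3) rfl N60491 D200638
theorem N97542 : nd 97542 = n200639 := ndS (p := 60491) (l := 4) rfl N60491 D200639
theorem N97543 : nd 97543 = n200640 := ndS (p := 60491) (l := 6) rfl N60491 D200640
theorem N97544 : nd 97544 = n200641 := ndS (p := 60492) (l := 3) rfl N60492 D200641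
theorem N97545 : nd 97545 = n200642 := ndS (p := 60492) (l := 4) rfl N60492 D200642
theorem N97546 : nd 97546 = n200643 := ndS (p := 60492) (l := 6) rfl N60492 D200643
theorem N97547 : nd 97547 = n200644 := ndS (p := 60493) (l := 1) rfl N60493 D200644
theorem N97548 : nd 97548 = n200645 := ndS (p := 60493) (l := 5) rfl N60493 D200645
theorem N97549 : nd 97549 = n200646 := ndS (p := 60494) (l := 5) rfl N60494 D200646
theorem N97550 : nd 97550 = n200647 := ndS (p := 60494) (l := 7) rfl N60494 D200647
theorem N97551 : nd 97551 = n200648 := ndS (p := 60496) (l := 5) rfl N60496 D200648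
theorem N97552 : nd 97552 = n200650 := ndS (p := 60497) (l := 4) rfl N60497 D200650
theorem N97553 : nd 97553 = n200651 := ndS (p := 60497) (l := 7) rfl N60497 D200651
theorem N97554 : nd 97554 = n200652 := ndS (p := 60499) (l := 6) rfl N60499 D200652
theorem N97555 : nd 97555 = n200653 := ndS (p := 60500) (l := 3) rfl N60500 D200653
theorem N97556 : nd 97556 = n200654 := ndS (p := 60500) (l := 5) rfl N60500 D200654
theorem N97557 : nd 97557 = n200655 := ndS (p := 60500) (l := 6) rfl N60500 D200655
theorem N97558 : nd 97558 = n200657 := ndS (p := 60501) (l := 1) rfl N60501 D200657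
theorem N97559 : nd 97559 = n200658 := ndS (p := 60501) (l := 4) rfl N60501 D200658
theorem N97560 : nd 97560 = n200659 := ndS (p := 60501) (l := 7) rfl N60501 D200659
theorem N97561 : nd 97561 = n200660 := ndS (p := 60503) (l := 0) rfl N60503 D200660
theorem N97562 : nd 97562 = n200661 := ndS (p := 60503) (l := 5) rfl N60503 D200661
theorem N97563 : nd 97563 = n200662 := ndS (p := 60504) (l := 4) rfl N60504 D200662
theorem N97564 : nd 97564 = n200663 := ndS (p := 60504) (l := 6) rfl N60504 D200663
theorem N97565 : nd 97565 = n200664 := ndS (p := 60507) (l := 4) rfl N60507 D200664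
theorem N97566 : nd 97566 = n200665 := ndS (p := 60508) (l := 0) rfl N60508 D200665
theorem N97567 : nd 97567 = n200666 := ndS (p := 60508) (l := 1) rfl N60508 D200666
theorem N97568 : nd 97568 = n200667 := ndS (p := 60508) (l := 3) rfl N60508 D200667
theorem N97569 : nd 97569 = n200668 := ndS (p := 60508) (l := 5) rfl N60508 D200668
theorem N97570 : nd 97570 = n200669 := ndS (p := 60508) (l := 7) rfl N60508 D200669
theorem N97571 : nd 97571 = n200670 := ndS (p := 60509) (l := 6) rfl N60509 D200670
theorem N97572 : nd 97572 = n200671 := ndS (p := 60511) (l := 0) rfl N60511 D200671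
theorem N97573 : nd 97573 = n200672 := ndS (p := 60511) (l := 4) rfl N60511 D200672
theorem N97574 : nd 97574 = n200673 := ndS (p := 60511) (l := 6) rfl N60511 D200673
theorem N97575 : nd 97575 = n200674 := ndS (p := 60513) (l := 3) rfl N60513 D200674
theorem N97576 : nd 97576 = n200675 := ndS (p := 60514) (l := 5) rfl N60514 D200675
theorem N97577 : nd 97577 = n200676 := ndS (p := 60515) (l := 4) rfl N60515 D200676
theorem N97578 : nd 97578 = n200677 := ndS (p := 60515) (l := 6) rfl N60515 D200677
theorem N97579 : nd 97579 = n200678 := ndS (p := 60516) (l := 2) rfl N60516 D200678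
theorem N97580 : nd 97580 = n200679 := ndS (p := 60517) (l := 3) rfl N60517 D200679
theorem N97581 : nd 97581 = n200680 := ndS (p := 60517) (l := 5) rfl N60517 D200680
theorem N97582 : nd 97582 = n200681 := ndS (p := 60517) (l := 6) rfl N60517 D200681
theorem N97583 : nd 97583 = n200682 := ndS (p := 60519) (l := 4) rfl N60519 D200682
theorem N97584 : nd 97584 = n200683 := ndS (p := 60520) (l := 5) rfl N60520 D200683
theorem N97585 : nd 97585 = n200684 := ndS (p := 60521) (l := 6) rfl N60521 D200684
theorem N97586 : nd 97586 = n200685 := ndS (p := 60522) (l := 0) rfl N60522 D200685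
theorem N97587 : nd 97587 = n200686 := ndS (p := 60522) (l := 1) rfl N60522 D200686
theorem N97588 : nd 97588 = n200687 := ndS (p := 60522) (l := 5) rfl N60522 D200687
theorem N97589 : nd 97589 = n200688 := ndS (p := 60522) (l := 7) rfl N60522 D200688
theorem N97590 : nd 97590 = n200689 := ndS (p := 60524) (l := 0) rfl N60524 D200689
theorem N97591 : nd 97591 = n200690 := ndS (p := 60524) (l := 1) rfl N60524 D200690
theorem N97592 : nd 97592 = n200691 := ndS (p := 60524) (l := 5) rfl N60524 D200691
theorem N97593 : nd 97593 = n200692 := ndS (p := 60525) (l := 4) rfl N60525 D200692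
theorem N97594 : nd 97594 = n200693 := ndS (p := 60525) (l := 6) rfl N60525 D200693
theorem N97595 : nd 97595 = n200694 := ndS (p := 60526) (l := 4) rfl N60526 D200694
theorem N97596 : nd 97596 = n200695 := ndS (p := 60527) (l := 1) rfl N60527 D200695
theorem N97597 : nd 97597 = n200696 := ndS (p := 60527) (l := 4) rfl N60527 D200696
theorem N97598 : nd 97598 = n200697 := ndS (p := 60527) (l := 7) rfl N60527 D200697
theorem N97599 : nd 97599 = n200698 := ndS (p := 60529) (l := 3) rfl N60529 D200698
theorem N97600 : nd 97600 = n200699 := ndS (p := 60529) (l := 5) rfl N60529 D200699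
theorem N97601 : nd 97601 = n200700 := ndS (p := 60529) (l := 6) rfl N60529 D200700
theorem N97602 : nd 97602 = n200701 := ndS (p := 60530) (l := 3) rfl N60530 D200701
theorem N97603 : nd 97603 = n200702 := ndS (p := 60530) (l := 5) rfl N60530 D200702
theorem N97604 : nd 97604 = n200703 := ndS (p := 60531) (l := 4) rfl N60531 D200703
theorem N97605 : nd 97605 = n200704 := ndS (p := 60533) (l := 0) rfl N60533 D200704
theorem N97606 : nd 97606 = n200705 := ndS (p := 60533) (l := 1) rfl N60533 D200705
theorem N97607 : nd 97607 = n200706 := ndS (p := 60534) (l := 5) rfl N60534 D200706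
theorem N97608 : nd 97608 = n200707 := ndS (p := 60535) (l := 6) rfl N60535 D200707
theorem N97609 : nd 97609 = n200708 := ndS (p := 60537) (l := 3) rfl N60537 D200708
theorem N97610 : nd 97610 = n200709 := ndS (p := 60537) (l := 6) rfl N60537 D200709
theorem N97611 : nd 97611 = n200710 := ndS (p := 60538) (l := 1) rfl N60538 D200710
theorem N97612 : nd 97612 = n200711 := ndS (p := 60538) (l := 3) rfl N60538 D200711
theorem N97613 : nd 97613 = n200712 := ndS (p := 60538) (l := 5) rfl N60538 D200712
theorem N97614 : nd 97614 = n200713 := ndS (p := 60538) (l := 7) rfl N60538 D200713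
theorem N97615 : nd 97615 = n200714 := ndS (p := 60539) (l := 6) rfl N60539 D200714
theorem N97616 : nd 97616 = n200717 := ndS (p := 60540) (l := 5) rfl N60540 D200717
theorem N97617 : nd 97617 = n200718 := ndS (p := 60542) (l := 5) rfl N60542 D200718
theorem N97618 : nd 97618 = n200719 := ndS (p := 60542) (l := 6) rfl N60542 D200719
theorem N97619 : nd 97619 = n200720 := ndS (p := 60544) (l := 5) rfl N60544 D200720
theorem N97620 : nd 97620 = n200721 := ndS (p := 60545) (l := 6) rfl N60545 D200721
theorem N97621 : nd 97621 = n200722 := ndS (p := 60547) (l := 3) rfl N60547 D200722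
theorem N97622 : nd 97622 = n200723 := ndS (p := 60547) (l := 5) rfl N60547 D200723
theorem N97623 : nd 97623 = n200724 := ndS (p := 60548) (l := 5) rfl N60548 D200724
theorem N97624 : nd 97624 = n200725 := ndS (p := 60549) (l := 2) rfl N60549 D200725
theorem N97625 : nd 97625 = n200726 := ndS (p := 60550) (l := 4) rfl N60550 D200726
theorem N97626 : nd 97626 = n200727 := ndS (p := 60550) (l := 6) rfl N60550 D200727
theorem N97627 : nd 97627 = n200728 := ndS (p := 60551) (l := 0) rfl N60551 D200728
theorem N97628 : nd 97628 = n200729 := ndS (p := 60551) (l := 1) rfl N60551 D200729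
theorem N97629 : nd 97629 = n200730 := ndS (p := 60554) (l := 0) rfl N60554 D200730
theorem N97630 : nd 97630 = n200731 := ndS (p := 60554) (l := 3) rfl N60554 D200731
theorem N97631 : nd 97631 = n200732 := ndS (p := 60557) (l := 1) rfl N60557 D200732
theorem N97632 : nd 97632 = n200733 := ndS (p := 60559) (l := 3) rfl N60559 D200733
theorem N97633 : nd 97633 = n200734 := ndS (p := 60560) (l := 3) rfl N60560 D200734
theorem N97634 : nd 97634 = n200735 := ndS (p := 60560) (l := 4) rfl N60560 D200735
theorem N97635 : nd 97635 = n200736 := ndS (p := 60560) (l := 6) rfl N60560 D200736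
theorem N97636 : nd 97636 = n200737 := ndS (p := 60561) (l := 5) rfl N60561 D200737
theorem N97637 : nd 97637 = n200738 := ndS (p := 60561) (l := 7) rfl N60561 D200738
theorem N97638 : nd 97638 = n200739 := ndS (p := 60562) (l := 6) rfl N60562 D200739
theorem N97639 : nd 97639 = n200740 := ndS (p := 60563) (l := 3) rfl N60563 D200740
theorem N97640 : nd 97640 = n200741 := ndS (p := 60564) (l := 0) rfl N60564 D200741
theorem N97641 : nd 97641 = n200742 := ndS (p := 60564) (l := 4) rfl N60564 D200742
theorem N97642 : nd 97642 = n200743 := ndS (p := 60565) (l := 3) rfl N60565 D200743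
theorem N97643 : nd 97643 = n200744 := ndS (p := 60566) (l := 6) rfl N60566 D200744
theorem N97644 : nd 97644 = n200745 := ndS (p := 60567) (l := 0) rfl N60567 D200745
theorem N97645 : nd 97645 = n200746 := ndS (p := 60567) (l := 1) rfl N60567 D200746
theorem N97646 : nd 97646 = n200747 := ndS (p := 60567) (l := 7) rfl N60567 D200747
theorem N97647 : nd 97647 = n200748 := ndS (p := 60569) (l := 5) rfl N60569 D200748
theorem N97648 : nd 97648 = n200749 := ndS (p := 60569) (l := 6) rfl N60569 D200749
theorem N97649 : nd 97649 = n200750 := ndS (p := 60573) (l := 6) rfl N60573 D200750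
theorem N97650 : nd 97650 = n200751 := ndS (p := 60582) (l := 0) rfl N60582 D200751
theorem N97651 : nd 97651 = n200752 := ndS (p := 60583) (l := 4) rfl N60583 D200752
theorem N97652 : nd 97652 = n200753 := ndS (p := 60583) (l := 5) rfl N60583 D200753
theorem N97653 : nd 97653 = n200754 := ndS (p := 60584) (l := 5) rfl N60584 D200754
theorem N97654 : nd 97654 = n200755 := ndS (p := 60585) (l := 4) rfl N60585 D200755
theorem N97655 : nd 97655 = n200756 := ndS (p := 60585) (l := 6) rfl N60585 D200756
theorem N97656 : nd 97656 = n200757 := ndS (p := 60586) (l := 4) rfl N60586 D200757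
theorem N97657 : nd 97657 = n200758 := ndS (p := 60588) (l := 3) rfl N60588 D200758
theorem N97658 : nd 97658 = n200759 := ndS (p := 60589) (l := 0) rfl N60589 D200759
theorem N97659 : nd 97659 = n200760 := ndS (p := 60589) (l := 1) rfl N60589 D200760
theorem N97660 : nd 97660 = n200761 := ndS (p := 60591) (l := 3) rfl N60591 D200761
theorem N97661 : nd 97661 = n200762 := ndS (p := 60591) (l := 6) rfl N60591 D200762
theorem N97662 : nd 97662 = n200763 := ndS (p := 60592) (l := 4) rfl N60592 D200763
theorem N97663 : nd 97663 = n200764 := ndS (p := 60592) (l := 6) rfl N60592 D200764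
theorem N97664 : nd 97664 = n200765 := ndS (p := 60593) (l := 5) rfl N60593 D200765
theorem N97665 : nd 97665 = n200766 := ndS (p := 60593) (l := 6) rfl N60593 D200766
theorem N97666 : nd 97666 = n200767 := ndS (p := 60594) (l := 3) rfl N60594 D200767
theorem N97667 : nd 97667 = n200768 := ndS (p := 60597) (l := 3) rfl N60597 D200768
theorem N97668 : nd 97668 = n200769 := ndS (p := 60600) (l := 5) rfl N60600 D200769
theorem N97669 : nd 97669 = n200770 := ndS (p := 60602) (l := 4) rfl N60602 D200770
theorem N97670 : nd 97670 = n200771 := ndS (p := 60602) (l := 6) rfl N60602 D200771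
theorem N97671 : nd 97671 = n200772 := ndS (p := 60603) (l := 6) rfl N60603 D200772
theorem N97672 : nd 97672 = n200773 := ndS (p := 60604) (l := 4) rfl N60604 D200773
theorem N97673 : nd 97673 = n200774 := ndS (p := 60604) (l := 6) rfl N60604 D200774
theorem N97674 : nd 97674 = n200775 := ndS (p := 60605) (l := 1) rfl N60605 D200775
theorem N97675 : nd 97675 = n200776 := ndS (p := 60606) (l := 6) rfl N60606 D200776
theorem N97676 : nd 97676 = n200777 := ndS (p := 60607) (l := 4) rfl N60607 D200777
theorem N97677 : nd 97677 = n200778 := ndS (p := 60610) (l := 5) rfl N60610 D200778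
theorem N97678 : nd 97678 = n200779 := ndS (p := 60612) (l := 1) rfl N60612 D200779
theorem N97679 : nd 97679 = n200780 := ndS (p := 60612) (l := 5) rfl N60612 D200780
theorem N97680 : nd 97680 = n200781 := ndS (p := 60613) (l := 3) rfl N60613 D200781
theorem N97681 : nd 97681 = n200782 := ndS (p := 60613) (l := 4) rfl N60613 D200782
theorem N97682 : nd 97682 = n200783 := ndS (p := 60613) (l := 6) rfl N60613 D200783
theorem N97683 : nd 97683 = n200784 := ndS (p := 60614) (l := 3) rfl N60614 D200784
theorem N97684 : nd 97684 = n200785 := ndS (p := 60614) (l := 4) rfl N60614 D200785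
theorem N97685 : nd 97685 = n200786 := ndS (p := 60614) (l := 6) rfl N60614 D200786
theorem N97686 : nd 97686 = n200787 := ndS (p := 60615) (l := 0) rfl N60615 D200787
theorem N97687 : nd 97687 = n200788 := ndS (p := 60615) (l := 1) rfl N60615 D200788
theorem N97688 : nd 97688 = n200789 := ndS (p := 60615) (l := 5) rfl N60615 D200789
theorem N97689 : nd 97689 = n200790 := ndS (p := 60616) (l := 0) rfl N60616 D200790
theorem N97690 : nd 97690 = n200791 := ndS (p := 60616) (l := 1) rfl N60616 D200791
theorem N97691 : nd 97691 = n200792 := ndS (p := 60621) (l := 3) rfl N60621 D200792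
theorem N97692 : nd 97692 = n200793 := ndS (p := 60622) (l := 6) rfl N60622 D200793
theorem N97693 : nd 97693 = n200794 := ndS (p := 60623) (l := 5) rfl N60623 D200794
theorem N97694 : nd 97694 = n200795 := ndS (p := 60624) (l := 6) rfl N60624 D200795
theorem N97695 : nd 97695 = n200796 := ndS (p := 60625) (l := 1) rfl N60625 D200796
theorem N97696 : nd 97696 = n200797 := ndS (p := 60628) (l := 4) rfl N60628 D200797
theorem N97697 : nd 97697 = n200798 := ndS (p := 60628) (l := 6) rfl N60628 D200798
theorem N97698 : nd 97698 = n200799 := ndS (p := 60630) (l := 5) rfl N60630 D200799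
theorem N97699 : nd 97699 = n200800 := ndS (p := 60631) (l := 4) rfl N60631 D200800
theorem N97700 : nd 97700 = n200801 := ndS (p := 60634) (l := 7) rfl N60634 D200801
theorem N97701 : nd 97701 = n200802 := ndS (p := 60635) (l := 0) rfl N60635 D200802
theorem N97702 : nd 97702 = n200803 := ndS (p := 60637) (l := 5) rfl N60637 D200803
theorem N97703 : nd 97703 = n200804 := ndS (p := 60639) (l := 5) rfl N60639 D200804
theorem N97704 : nd 97704 = n200805 := ndS (p := 60644) (l := 5) rfl N60644 D200805
theorem N97705 : nd 97705 = n200807 := ndS (p := 60646) (l := 1) rfl N60646 D200807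
theorem N97706 : nd 97706 = n200808 := ndS (p := 60646) (l := 4) rfl N60646 D200808
theorem N97707 : nd 97707 = n200809 := ndS (p := 60646) (l := 7) rfl N60646 D200809
theorem N97708 : nd 97708 = n200810 := ndS (p := 60648) (l := 5) rfl N60648 D200810
theorem N97709 : nd 97709 = n200811 := ndS (p := 60649) (l := 0) rfl N60649 D200811
theorem N97710 : nd 97710 = n200812 := ndS (p := 60649) (l := 1) rfl N60649 D200812
theorem N97711 : nd 97711 = n200813 := ndS (p := 60649) (l := 7) rfl N60649 D200813
theorem N97712 : nd 97712 = n200814 := ndS (p := 60650) (l := 2) rfl N60650 D200814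
theorem N97713 : nd 97713 = n200815 := ndS (p := 60653) (l := 3) rfl N60653 D200815
theorem N97714 : nd 97714 = n200816 := ndS (p := 60654) (l := 4) rfl N60654 D200816
theorem N97715 : nd 97715 = n200817 := ndS (p := 60655) (l := 5) rfl N60655 D200817
theorem N97716 : nd 97716 = n200818 := ndS (p := 60655) (l := 7) rfl N60655 D200818
theorem N97717 : nd 97717 = n200819 := ndS (p := 60657) (l := 3) rfl N60657 D200819
theorem N97718 : nd 97718 = n200820 := ndS (p := 60657) (l := 5) rfl N60657 D200820
theorem N97719 : nd 97719 = n200821 := ndS (p := 60661) (l := 0) rfl N60661 D200821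
theorem N97720 : nd 97720 = n200822 := ndS (p := 60661) (l := 1) rfl N60661 D200822
theorem N97721 : nd 97721 = n200823 := ndS (p := 60662) (l := 4) rfl N60662 D200823
theorem N97722 : nd 97722 = n200824 := ndS (p := 60662) (l := 6) rfl N60662 D200824
theorem N97723 : nd 97723 = n200825 := ndS (p := 60663) (l := 0) rfl N60663 D200825
theorem N97724 : nd 97724 = n200826 := ndS (p := 60663) (l := 1) rfl N60663 D200826
theorem N97725 : nd 97725 = n200827 := ndS (p := 60663) (l := 6) rfl N60663 D200827
theorem N97726 : nd 97726 = n200828 := ndS (p := 60664) (l := 0) rfl N60664 D200828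
theorem N97727 : nd 97727 = n200829 := ndS (p := 60664) (l := 7) rfl N60664 D200829
theorem N97728 : nd 97728 = n200830 := ndS (p := 60666) (l := 4) rfl N60666 D200830
theorem N97729 : nd 97729 = n200831 := ndS (p := 60667) (l := 0) rfl N60667 D200831
theorem N97730 : nd 97730 = n200832 := ndS (p := 60667) (l := 1) rfl N60667 D200832
theorem N97731 : nd 97731 = n200833 := ndS (p := 60667) (l := 5) rfl N60667 D200833
theorem N97732 : nd 97732 = n200834 := ndS (p := 60667) (l := 6) rfl N60667 D200834
theorem N97733 : nd 97733 = n200835 := ndS (p := 60670) (l := 5) rfl N60670 D200835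
theorem N97734 : nd 97734 = n200836 := ndS (p := 60671) (l := 1) rfl N60671 D200836
theorem N97735 : nd 97735 = n200837 := ndS (p := 60671) (l := 4) rfl N60671 D200837
theorem N97736 : nd 97736 = n200838 := ndS (p := 60671) (l := 7) rfl N60671 D200838
theorem N97737 : nd 97737 = n200839 := ndS (p := 60673) (l := 0) rfl N60673 D200839
theorem N97738 : nd 97738 = n200840 := ndS (p := 60673) (l := 2) rfl N60673 D200840
theorem N97739 : nd 97739 = n200841 := ndS (p := 60673) (l := 4) rfl N60673 D200841
theorem N97740 : nd 97740 = n200842 := ndS (p := 60673) (l := 5) rfl N60673 D200842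
theorem N97741 : nd 97741 = n200843 := ndS (p := 60674) (l := 1) rfl N60674 D200843
theorem N97742 : nd 97742 = n200844 := ndS (p := 60674) (l := 4) rfl N60674 D200844
theorem N97743 : nd 97743 = n200845 := ndS (p := 60676) (l := 1) rfl N60676 D200845
theorem N97744 : nd 97744 = n200846 := ndS (p := 60676) (l := 4) rfl N60676 D200846
theorem N97745 : nd 97745 = n200847 := ndS (p := 60677) (l := 4) rfl N60677 D200847
theorem N97746 : nd 97746 = n200848 := ndS (p := 60678) (l := 0) rfl N60678 D200848
theorem N97747 : nd 97747 = n200849 := ndS (p := 60679) (l := 6) rfl N60679 D200849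
theorem N97748 : nd 97748 = n200850 := ndS (p := 60680) (l := 0) rfl N60680 D200850
theorem N97749 : nd 97749 = n200851 := ndS (p := 60680) (l := 1) rfl N60680 D200851
theorem N97750 : nd 97750 = n200852 := ndS (p := 60680) (l := 6) rfl N60680 D200852
theorem N97751 : nd 97751 = n200853 := ndS (p := 60681) (l := 5) rfl N60681 D200853
theorem N97752 : nd 97752 = n200855 := ndS (p := 60686) (l := 6) rfl N60686 D200855
theorem N97753 : nd 97753 = n200856 := ndS (p := 60687) (l := 0) rfl N60687 D200856
theorem N97754 : nd 97754 = n200857 := ndS (p := 60687) (l := 1) rfl N60687 D200857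
theorem N97755 : nd 97755 = n200858 := ndS (p := 60687) (l := 5) rfl N60687 D200858
theorem N97756 : nd 97756 = n200859 := ndS (p := 60690) (l := 3) rfl N60690 D200859
theorem N97757 : nd 97757 = n200860 := ndS (p := 60691) (l := 6) rfl N60691 D200860
theorem N97758 : nd 97758 = n200861 := ndS (p := 60695) (l := 4) rfl N60695 D200861
theorem N97759 : nd 97759 = n200862 := ndS (p := 60695) (l := 6) rfl N60695 D200862
theorem N97760 : nd 97760 = n200863 := ndS (p := 60697) (l := 6) rfl N60697 D200863
theorem N97761 : nd 97761 = n200864 := ndS (p := 60698) (l := 0) rfl N60698 D200864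
theorem N97762 : nd 97762 = n200865 := ndS (p := 60698) (l := 1) rfl N60698 D200865
theorem N97763 : nd 97763 = n200866 := ndS (p := 60698) (l := 5) rfl N60698 D200866
theorem N97764 : nd 97764 = n200867 := ndS (p := 60699) (l := 4) rfl N60699 D200867
theorem N97765 : nd 97765 = n200868 := ndS (p := 60701) (l := 6) rfl N60701 D200868
theorem N97766 : nd 97766 = n200869 := ndS (p := 60702) (l := 1) rfl N60702 D200869
theorem N97767 : nd 97767 = n200870 := ndS (p := 60702) (l := 3) rfl N60702 D200870
theorem N97768 : nd 97768 = n200871 := ndS (p := 60702) (l := 6) rfl N60702 D200871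
theorem N97769 : nd 97769 = n200872 := ndS (p := 60704) (l := 0) rfl N60704 D200872
theorem N97770 : nd 97770 = n200873 := ndS (p := 60704) (l := 5) rfl N60704 D200873
theorem N97771 : nd 97771 = n200874 := ndS (p := 60704) (l := 7) rfl N60704 D200874
theorem N97772 : nd 97772 = n200875 := ndS (p := 60705) (l := 0) rfl N60705 D200875
theorem N97773 : nd 97773 = n200877 := ndS (p := 60705) (l := 2) rfl N60705 D200877
theorem N97774 : nd 97774 = n200878 := ndS (p := 60705) (l := 4) rfl N60705 D200878
theorem N97775 : nd 97775 = n200879 := ndS (p := 60705) (l := 5) rfl N60705 D200879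
theorem N97776 : nd 97776 = n200880 := ndS (p := 60705) (l := 6) rfl N60705 D200880
theorem N97777 : nd 97777 = n200881 := ndS (p := 60708) (l := 1) rfl N60708 D200881
theorem N97778 : nd 97778 = n200882 := ndS (p := 60708) (l := 7) rfl N60708 D200882
theorem N97779 : nd 97779 = n200884 := ndS (p := 60709) (l := 1) rfl N60709 D200884
theorem N97780 : nd 97780 = n200885 := ndS (p := 60709) (l := 5) rfl N60709 D200885
theorem N97781 : nd 97781 = n200886 := ndS (p := 60709) (l := 7) rfl N60709 D200886
theorem N97782 : nd 97782 = n200887 := ndS (p := 60712) (l := 0) rfl N60712 D200887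
theorem N97783 : nd 97783 = n200888 := ndS (p := 60712) (l := 1) rfl N60712 D200888
theorem N97784 : nd 97784 = n200889 := ndS (p := 60718) (l := 5) rfl N60718 D200889
theorem N97785 : nd 97785 = n200890 := ndS (p := 60718) (l := 6) rfl N60718 D200890
theorem N97786 : nd 97786 = n200891 := ndS (p := 60719) (l := 3) rfl N60719 D200891
theorem N97787 : nd 97787 = n200892 := ndS (p := 60719) (l := 5) rfl N60719 D200892
theorem N97788 : nd 97788 = n200893 := ndS (p := 60719) (l := 6) rfl N60719 D200893
theorem N97789 : nd 97789 = n200894 := ndS (p := 60721) (l := 5) rfl N60721 D200894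
theorem N97790 : nd 97790 = n200895 := ndS (p := 60721) (l := 6) rfl N60721 D200895
theorem N97791 : nd 97791 = n200896 := ndS (p := 60722) (l := 6) rfl N60722 D200896
theorem N97792 : nd 97792 = n200897 := ndS (p := 60724) (l := 3) rfl N60724 D200897
theorem N97793 : nd 97793 = n200898 := ndS (p := 60724) (l := 6) rfl N60724 D200898
theorem N97794 : nd 97794 = n200899 := ndS (p := 60725) (l := 5) rfl N60725 D200899
theorem N97795 : nd 97795 = n200900 := ndS (p := 60726) (l := 4) rfl N60726 D200900
theorem N97796 : nd 97796 = n200901 := ndS (p := 60727) (l := 3) rfl N60727 D200901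
theorem N97797 : nd 97797 = n200902 := ndS (p := 60727) (l := 5) rfl N60727 D200902
theorem N97798 : nd 97798 = n200903 := ndS (p := 60727) (l := 6) rfl N60727 D200903
theorem N97799 : nd 97799 = n200904 := ndS (p := 60728) (l := 0) rfl N60728 D200904
theorem N97800 : nd 97800 = n200905 := ndS (p := 60728) (l := 5) rfl N60728 D200905
theorem N97801 : nd 97801 = n200906 := ndS (p := 60728) (l := 7) rfl N60728 D200906
theorem N97802 : nd 97802 = n200907 := ndS (p := 60729) (l := 3) rfl N60729 D200907
theorem N97803 : nd 97803 = n200908 := ndS (p := 60729) (l := 5) rfl N60729 D200908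
theorem N97804 : nd 97804 = n200909 := ndS (p := 60731) (l := 3) rfl N60731 D200909
theorem N97805 : nd 97805 = n200910 := ndS (p := 60731) (l := 5) rfl N60731 D200910
theorem N97806 : nd 97806 = n200911 := ndS (p := 60731) (l := 6) rfl N60731 D200911
theorem N97807 : nd 97807 = n200912 := ndS (p := 60732) (l := 3) rfl N60732 D200912
theorem N97808 : nd 97808 = n200913 := ndS (p := 60732) (l := 5) rfl N60732 D200913
theorem N97809 : nd 97809 = n200914 := ndS (p := 60734) (l := 1) rfl N60734 D200914
theorem N97810 : nd 97810 = n200915 := ndS (p := 60734) (l := 7) rfl N60734 D200915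
theorem N97811 : nd 97811 = n200916 := ndS (p := 60735) (l := 3) rfl N60735 D200916
theorem N97812 : nd 97812 = n200917 := ndS (p := 60735) (l := 5) rfl N60735 D200917
theorem N97813 : nd 97813 = n200918 := ndS (p := 60736) (l := 0) rfl N60736 D200918
theorem N97814 : nd 97814 = n200919 := ndS (p := 60736) (l := 7) rfl N60736 D200919
theorem N97815 : nd 97815 = n200920 := ndS (p := 60738) (l := 5) rfl N60738 D200920
theorem N97816 : nd 97816 = n200923 := ndS (p := 60740) (l := 5) rfl N60740 D200923
theorem N97817 : nd 97817 = n200924 := ndS (p := 60741) (l := 0) rfl N60741 D200924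
theorem N97818 : nd 97818 = n200925 := ndS (p := 60741) (l := 1) rfl N60741 D200925
theorem N97819 : nd 97819 = n200928 := ndS (p := 60743) (l := 4) rfl N60743 D200928
theorem N97820 : nd 97820 = n200929 := ndS (p := 60743) (l := 5) rfl N60743 D200929
theorem N97821 : nd 97821 = n200930 := ndS (p := 60743) (l := 6) rfl N60743 D200930
theorem N97822 : nd 97822 = n200931 := ndS (p := 60744) (l := 6) rfl N60744 D200931
theorem N97823 : nd 97823 = n200932 := ndS (p := 60745) (l := 4) rfl N60745 D200932
theorem N97824 : nd 97824 = n200933 := ndS (p := 60746) (l := 5) rfl N60746 D200933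
theorem N97825 : nd 97825 = n200934 := ndS (p := 60746) (l := 7) rfl N60746 D200934
theorem N97826 : nd 97826 = n200935 := ndS (p := 60747) (l := 3) rfl N60747 D200935
theorem N97827 : nd 97827 = n200936 := ndS (p := 60747) (l := 4) rfl N60747 D200936
theorem N97828 : nd 97828 = n200937 := ndS (p := 60748) (l := 4) rfl N60748 D200937
theorem N97829 : nd 97829 = n200938 := ndS (p := 60749) (l := 0) rfl N60749 D200938
theorem N97830 : nd 97830 = n200939 := ndS (p := 60749) (l := 5) rfl N60749 D200939
theorem N97831 : nd 97831 = n200940 := ndS (p := 60749) (l := 7) rfl N60749 D200940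
theorem N97832 : nd 97832 = n200941 := ndS (p := 60751) (l := 0) rfl N60751 D200941
theorem N97833 : nd 97833 = n200942 := ndS (p := 60751) (l := 1) rfl N60751 D200942
theorem N97834 : nd 97834 = n200943 := ndS (p := 60751) (l := 2) rfl N60751 D200943
theorem N97835 : nd 97835 = n200944 := ndS (p := 60756) (l := 5) rfl N60756 D200944
theorem N97836 : nd 97836 = n200945 := ndS (p := 60757) (l := 4) rfl N60757 D200945
theorem N97837 : nd 97837 = n200946 := ndS (p := 60760) (l := 1) rfl N60760 D200946
theorem N97838 : nd 97838 = n200947 := ndS (p := 60761) (l := 4) rfl N60761 D200947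
theorem N97839 : nd 97839 = n200948 := ndS (p := 60761) (l := 6) rfl N60761 D200948
theorem N97840 : nd 97840 = n200949 := ndS (p := 60762) (l := 4) rfl N60762 D200949
theorem N97841 : nd 97841 = n200950 := ndS (p := 60762) (l := 6) rfl N60762 D200950
theorem N97842 : nd 97842 = n200951 := ndS (p := 60763) (l := 1) rfl N60763 D200951
theorem N97843 : nd 97843 = n200952 := ndS (p := 60763) (l := 5) rfl N60763 D200952
theorem N97844 : nd 97844 = n200953 := ndS (p := 60763) (l := 7) rfl N60763 D200953
theorem N97845 : nd 97845 = n200954 := ndS (p := 60764) (l := 7) rfl N60764 D200954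
theorem N97846 : nd 97846 = n200955 := ndS (p := 60765) (l := 3) rfl N60765 D200955
theorem N97847 : nd 97847 = n200956 := ndS (p := 60765) (l := 4) rfl N60765 D200956
theorem N97848 : nd 97848 = n200957 := ndS (p := 60769) (l := 6) rfl N60769 D200957
theorem N97849 : nd 97849 = n200958 := ndS (p := 60770) (l := 3) rfl N60770 D200958
theorem N97850 : nd 97850 = n200959 := ndS (p := 60771) (l := 0) rfl N60771 D200959
theorem N97851 : nd 97851 = n200960 := ndS (p := 60771) (l := 1) rfl N60771 D200960
theorem N97852 : nd 97852 = n200961 := ndS (p := 60771) (l := 5) rfl N60771 D200961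
theorem N97853 : nd 97853 = n200962 := ndS (p := 60771) (l := 7) rfl N60771 D200962
theorem N97854 : nd 97854 = n200963 := ndS (p := 60772) (l := 6) rfl N60772 D200963
theorem N97855 : nd 97855 = n200964 := ndS (p := 60773) (l := 2) rfl N60773 D200964
theorem N97856 : nd 97856 = n200965 := ndS (p := 60774) (l := 4) rfl N60774 D200965
theorem N97857 : nd 97857 = n200966 := ndS (p := 60775) (l := 1) rfl N60775 D200966
theorem N97858 : nd 97858 = n200967 := ndS (p := 60782) (l := 5) rfl N60782 D200967
theorem N97859 : nd 97859 = n200968 := ndS (p := 60782) (l := 7) rfl N60782 D200968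
theorem N97860 : nd 97860 = n200969 := ndS (p := 60783) (l := 3) rfl N60783 D200969
theorem N97861 : nd 97861 = n200970 := ndS (p := 60786) (l := 4) rfl N60786 D200970
theorem N97862 : nd 97862 = n200971 := ndS (p := 60787) (l := 6) rfl N60787 D200971
theorem N97863 : nd 97863 = n200972 := ndS (p := 60790) (l := 5) rfl N60790 D200972
theorem N97864 : nd 97864 = n200973 := ndS (p := 60793) (l := 5) rfl N60793 D200973
theorem N97865 : nd 97865 = n200974 := ndS (p := 60796) (l := 3) rfl N60796 D200974
theorem N97866 : nd 97866 = n200975 := ndS (p := 60797) (l := 1) rfl N60797 D200975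
theorem N97867 : nd 97867 = n200976 := ndS (p := 60797) (l := 7) rfl N60797 D200976
theorem N97868 : nd 97868 = n200977 := ndS (p := 60798) (l := 3) rfl N60798 D200977
theorem N97869 : nd 97869 = n200978 := ndS (p := 60798) (l := 6) rfl N60798 D200978
theorem N97870 : nd 97870 = n200979 := ndS (p := 60799) (l := 1) rfl N60799 D200979
theorem N97871 : nd 97871 = n200980 := ndS (p := 60799) (l := 7) rfl N60799 D200980
theorem N97872 : nd 97872 = n200981 := ndS (p := 60800) (l := 3) rfl N60800 D200981
theorem N97873 : nd 97873 = n200982 := ndS (p := 60800) (l := 6) rfl N60800 D200982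
theorem N97874 : nd 97874 = n200983 := ndS (p := 60802) (l := 0) rfl N60802 D200983
theorem N97875 : nd 97875 = n200984 := ndS (p := 60802) (l := 5) rfl N60802 D200984
theorem N97876 : nd 97876 = n200985 := ndS (p := 60803) (l := 0) rfl N60803 D200985
theorem N97877 : nd 97877 = n200986 := ndS (p := 60803) (l := 1) rfl N60803 D200986
theorem N97878 : nd 97878 = n200987 := ndS (p := 60803) (l := 7) rfl N60803 D200987
theorem N97879 : nd 97879 = n200988 := ndS (p := 60804) (l := 6) rfl N60804 D200988
theorem N97880 : nd 97880 = n200989 := ndS (p := 60805) (l := 6) rfl N60805 D200989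
theorem N97881 : nd 97881 = n200990 := ndS (p := 60809) (l := 4) rfl N60809 D200990
theorem N97882 : nd 97882 = n200991 := ndS (p := 60809) (l := 6) rfl N60809 D200991
theorem N97883 : nd 97883 = n200992 := ndS (p := 60811) (l := 4) rfl N60811 D200992
theorem N97884 : nd 97884 = n200993 := ndS (p := 60811) (l := 6) rfl N60811 D200993
theorem N97885 : nd 97885 = n200994 := ndS (p := 60813) (l := 4) rfl N60813 D200994
theorem N97886 : nd 97886 = n200995 := ndS (p := 60813) (l := 6) rfl N60813 D200995
theorem N97887 : nd 97887 = n200996 := ndS (p := 60814) (l := 3) rfl N60814 D200996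
theorem N97888 : nd 97888 = n200997 := ndS (p := 60814) (l := 6) rfl N60814 D200997
theorem N97889 : nd 97889 = n200998 := ndS (p := 60816) (l := 0) rfl N60816 D200998
theorem N97890 : nd 97890 = n200999 := ndS (p := 60816) (l := 5) rfl N60816 D200999
theorem N97891 : nd 97891 = n201000 := ndS (p := 60816) (l := 7) rfl N60816 D201000
theorem N97892 : nd 97892 = n201001 := ndS (p := 60817) (l := 4) rfl N60817 D201001
theorem N97893 : nd 97893 = n201002 := ndS (p := 60817) (l := 6) rfl N60817 D201002
theorem N97894 : nd 97894 = n201003 := ndS (p := 60818) (l := 6) rfl N60818 D201003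
theorem N97895 : nd 97895 = n201004 := ndS (p := 60819) (l := 0) rfl N60819 D201004
theorem N97896 : nd 97896 = n201005 := ndS (p := 60819) (l := 1) rfl N60819 D201005
theorem N97897 : nd 97897 = n201006 := ndS (p := 60819) (l := 7) rfl N60819 D201006
theorem N97898 : nd 97898 = n201007 := ndS (p := 60821) (l := 1) rfl N60821 D201007
theorem N97899 : nd 97899 = n201008 := ndS (p := 60821) (l := 7) rfl N60821 D201008
theorem N97900 : nd 97900 = n201009 := ndS (p := 60822) (l := 3) rfl N60822 D201009
theorem N97901 : nd 97901 = n201010 := ndS (p := 60822) (l := 6) rfl N60822 D201010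
theorem N97902 : nd 97902 = n201011 := ndS (p := 60823) (l := 1) rfl N60823 D201011
theorem N97903 : nd 97903 = n201012 := ndS (p := 60828) (l := 3) rfl N60828 D201012
theorem N97904 : nd 97904 = n201013 := ndS (p := 60828) (l := 5) rfl N60828 D201013
theorem N97905 : nd 97905 = n201014 := ndS (p := 60828) (l := 6) rfl N60828 D201014
theorem N97906 : nd 97906 = n201015 := ndS (p := 60829) (l := 0) rfl N60829 D201015
theorem N97907 : nd 97907 = n201016 := ndS (p := 60830) (l := 1) rfl N60830 D201016
theorem N97908 : nd 97908 = n201017 := ndS (p := 60831) (l := 4) rfl N60831 D201017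
theorem N97909 : nd 97909 = n201018 := ndS (p := 60831) (l := 5) rfl N60831 D201018
theorem N97910 : nd 97910 = n201019 := ndS (p := 60832) (l := 3) rfl N60832 D201019
theorem N97911 : nd 97911 = n201020 := ndS (p := 60832) (l := 5) rfl N60832 D201020
theorem N97912 : nd 97912 = n201021 := ndS (p := 60834) (l := 3) rfl N60834 D201021
theorem N97913 : nd 97913 = n201022 := ndS (p := 60834) (l := 5) rfl N60834 D201022
theorem N97914 : nd 97914 = n201023 := ndS (p := 60834) (l := 6) rfl N60834 D201023
theorem N97915 : nd 97915 = n201024 := ndS (p := 60835) (l := 5) rfl N60835 D201024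
theorem N97916 : nd 97916 = n201025 := ndS (p := 60835) (l := 6) rfl N60835 D201025
theorem N97917 : nd 97917 = n201026 := ndS (p := 60838) (l := 6) rfl N60838 D201026
theorem N97918 : nd 97918 = n201027 := ndS (p := 60840) (l := 0) rfl N60840 D201027
theorem N97919 : nd 97919 = n201028 := ndS (p := 60840) (l := 5) rfl N60840 D201028
theorem N97920 : nd 97920 = n201029 := ndS (p := 60840) (l := 7) rfl N60840 D201029
theorem N97921 : nd 97921 = n201030 := ndS (p := 60841) (l := 6) rfl N60841 D201030
theorem N97922 : nd 97922 = n201031 := ndS (p := 60842) (l := 0) rfl N60842 D201031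
theorem N97923 : nd 97923 = n201032 := ndS (p := 60842) (l := 1) rfl N60842 D201032
theorem N97924 : nd 97924 = n201033 := ndS (p := 60842) (l := 5) rfl N60842 D201033
theorem N97925 : nd 97925 = n201034 := ndS (p := 60842) (l := 7) rfl N60842 D201034
theorem N97926 : nd 97926 = n201035 := ndS (p := 60844) (l := 0) rfl N60844 D201035
theorem N97927 : nd 97927 = n201036 := ndS (p := 60844) (l := 1) rfl N60844 D201036
theorem N97928 : nd 97928 = n201037 := ndS (p := 60844) (l := 2) rfl N60844 D201037
theorem N97929 : nd 97929 = n201038 := ndS (p := 60846) (l := 6) rfl N60846 D201038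
theorem N97930 : nd 97930 = n201039 := ndS (p := 60847) (l := 6) rfl N60847 D201039
theorem N97931 : nd 97931 = n201040 := ndS (p := 60849) (l := 0) rfl N60849 D201040
theorem N97932 : nd 97932 = n201041 := ndS (p := 60851) (l := 1) rfl N60851 D201041
theorem N97933 : nd 97933 = n201042 := ndS (p := 60851) (l := 7) rfl N60851 D201042
theorem N97934 : nd 97934 = n201043 := ndS (p := 60852) (l := 6) rfl N60852 D201043
theorem N97935 : nd 97935 = n201044 := ndS (p := 60853) (l := 6) rfl N60853 D201044
theorem N97936 : nd 97936 = n201045 := ndS (p := 60855) (l := 1) rfl N60855 D201045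
theorem N97937 : nd 97937 = n201046 := ndS (p := 60856) (l := 4) rfl N60856 D201046
theorem N97938 : nd 97938 = n201047 := ndS (p := 60857) (l := 6) rfl N60857 D201047
theorem N97939 : nd 97939 = n201048 := ndS (p := 60860) (l := 6) rfl N60860 D201048
theorem N97940 : nd 97940 = n201049 := ndS (p := 60861) (l := 5) rfl N60861 D201049
theorem N97941 : nd 97941 = n201050 := ndS (p := 60862) (l := 6) rfl N60862 D201050
theorem N97942 : nd 97942 = n201051 := ndS (p := 60863) (l := 7) rfl N60863 D201051
theorem N97943 : nd 97943 = n201052 := ndS (p := 60865) (l := 3) rfl N60865 D201052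
theorem N97944 : nd 97944 = n201053 := ndS (p := 60865) (l := 5) rfl N60865 D201053
theorem N97945 : nd 97945 = n201054 := ndS (p := 60866) (l := 5) rfl N60866 D201054
theorem N97946 : nd 97946 = n201055 := ndS (p := 60866) (l := 6) rfl N60866 D201055
theorem N97947 : nd 97947 = n201056 := ndS (p := 60871) (l := 6) rfl N60871 D201056
theorem N97948 : nd 97948 = n201057 := ndS (p := 60876) (l := 5) rfl N60876 D201057
theorem N97949 : nd 97949 = n201058 := ndS (p := 60877) (l := 6) rfl N60877 D201058
theorem N97950 : nd 97950 = n201059 := ndS (p := 60878) (l := 5) rfl N60878 D201059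
theorem N97951 : nd 97951 = n201060 := ndS (p := 60878) (l := 6) rfl N60878 D201060
theorem N97952 : nd 97952 = n201061 := ndS (p := 60879) (l := 1) rfl N60879 D201061
theorem N97953 : nd 97953 = n201062 := ndS (p := 60879) (l := 5) rfl N60879 D201062
theorem N97954 : nd 97954 = n201063 := ndS (p := 60881) (l := 0) rfl N60881 D201063
theorem N97955 : nd 97955 = n201064 := ndS (p := 60881) (l := 1) rfl N60881 D201064
theorem N97956 : nd 97956 = n201065 := ndS (p := 60881) (l := 4) rfl N60881 D201065
theorem N97957 : nd 97957 = n201066 := ndS (p := 60882) (l := 6) rfl N60882 D201066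
theorem N97958 : nd 97958 = n201067 := ndS (p := 60883) (l := 3) rfl N60883 D201067
theorem N97959 : nd 97959 = n201068 := ndS (p := 60883) (l := 5) rfl N60883 D201068
theorem N97960 : nd 97960 = n201069 := ndS (p := 60883) (l := 6) rfl N60883 D201069
theorem N97961 : nd 97961 = n201070 := ndS (p := 60884) (l := 0) rfl N60884 D201070
theorem N97962 : nd 97962 = n201071 := ndS (p := 60884) (l := 7) rfl N60884 D201071
theorem N97963 : nd 97963 = n201072 := ndS (p := 60886) (l := 5) rfl N60886 D201072
theorem N97964 : nd 97964 = n201073 := ndS (p := 60887) (l := 1) rfl N60887 D201073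
theorem N97965 : nd 97965 = n201074 := ndS (p := 60887) (l := 4) rfl N60887 D201074
theorem N97966 : nd 97966 = n201075 := ndS (p := 60887) (l := 7) rfl N60887 D201075
theorem N97967 : nd 97967 = n201076 := ndS (p := 60895) (l := 7) rfl N60895 D201076
theorem N97968 : nd 97968 = n201077 := ndS (p := 60897) (l := 1) rfl N60897 D201077
theorem N97969 : nd 97969 = n201078 := ndS (p := 60900) (l := 5) rfl N60900 D201078
theorem N97970 : nd 97970 = n201079 := ndS (p := 60901) (l := 3) rfl N60901 D201079
theorem N97971 : nd 97971 = n201080 := ndS (p := 60901) (l := 5) rfl N60901 D201080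
theorem N97972 : nd 97972 = n201081 := ndS (p := 60902) (l := 3) rfl N60902 D201081
theorem N97973 : nd 97973 = n201082 := ndS (p := 60902) (l := 5) rfl N60902 D201082
theorem N97974 : nd 97974 = n201083 := ndS (p := 60905) (l := 6) rfl N60905 D201083
theorem N97975 : nd 97975 = n201084 := ndS (p := 60906) (l := 6) rfl N60906 D201084
theorem N97976 : nd 97976 = n201085 := ndS (p := 60907) (l := 3) rfl N60907 D201085
theorem N97977 : nd 97977 = n201086 := ndS (p := 60907) (l := 5) rfl N60907 D201086
theorem N97978 : nd 97978 = n201087 := ndS (p := 60908) (l := 3) rfl N60908 D201087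
theorem N97979 : nd 97979 = n201088 := ndS (p := 60909) (l := 0) rfl N60909 D201088
theorem N97980 : nd 97980 = n201089 := ndS (p := 60909) (l := 1) rfl N60909 D201089
theorem N97981 : nd 97981 = n201090 := ndS (p := 60911) (l := 5) rfl N60911 D201090
theorem N97982 : nd 97982 = n201091 := ndS (p := 60912) (l := 5) rfl N60912 D201091
theorem N97983 : nd 97983 = n201092 := ndS (p := 60912) (l := 6) rfl N60912 D201092
theorem N97984 : nd 97984 = n201093 := ndS (p := 60913) (l := 0) rfl N60913 D201093
theorem N97985 : nd 97985 = n201094 := ndS (p := 60913) (l := 1) rfl N60913 D201094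
theorem N97986 : nd 97986 = n201095 := ndS (p := 60913) (l := 7) rfl N60913 D201095
theorem N97987 : nd 97987 = n201096 := ndS (p := 60915) (l := 5) rfl N60915 D201096
theorem N97988 : nd 97988 = n201097 := ndS (p := 60916) (l := 0) rfl N60916 D201097
theorem N97989 : nd 97989 = n201098 := ndS (p := 60916) (l := 1) rfl N60916 D201098
theorem N97990 : nd 97990 = n201099 := ndS (p := 60916) (l := 4) rfl N60916 D201099
theorem N97991 : nd 97991 = n201100 := ndS (p := 60916) (l := 6) rfl N60916 D201100
theorem N97992 : nd 97992 = n201101 := ndS (p := 60917) (l := 4) rfl N60917 D201101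
theorem N97993 : nd 97993 = n201102 := ndS (p := 60918) (l := 5) rfl N60918 D201102
theorem N97994 : nd 97994 = n201103 := ndS (p := 60921) (l := 0) rfl N60921 D201103
theorem N97995 : nd 97995 = n201104 := ndS (p := 60921) (l := 3) rfl N60921 D201104
theorem N97996 : nd 97996 = n201105 := ndS (p := 60921) (l := 5) rfl N60921 D201105
theorem N97997 : nd 97997 = n201106 := ndS (p := 60921) (l := 7) rfl N60921 D201106
theorem N97998 : nd 97998 = n201107 := ndS (p := 60926) (l := 6) rfl N60926 D201107
theorem N97999 : nd 97999 = n201108 := ndS (p := 60927) (l := 6) rfl N60927 D201108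
theorem N98000 : nd 98000 = n201109 := ndS (p := 60928) (l := 1) rfl N60928 D201109
theorem N98001 : nd 98001 = n201110 := ndS (p := 60928) (l := 7) rfl N60928 D201110
theorem N98002 : nd 98002 = n201111 := ndS (p := 60929) (l := 3) rfl N60929 D201111
theorem N98003 : nd 98003 = n201112 := ndS (p := 60933) (l := 5) rfl N60933 D201112
theorem N98004 : nd 98004 = n201113 := ndS (p := 60935) (l := 5) rfl N60935 D201113
theorem N98005 : nd 98005 = n201114 := ndS (p := 60936) (l := 1) rfl N60936 D201114
theorem N98006 : nd 98006 = n201115 := ndS (p := 60936) (l := 2) rfl N60936 D201115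
theorem N98007 : nd 98007 = n201116 := ndS (p := 60937) (l := 0) rfl N60937 D201116
theorem N98008 : nd 98008 = n201117 := ndS (p := 60937) (l := 2) rfl N60937 D201117
theorem N98009 : nd 98009 = n201118 := ndS (p := 60937) (l := 6) rfl N60937 D201118
theorem N98010 : nd 98010 = n201119 := ndS (p := 60940) (l := 0) rfl N60940 D201119
theorem N98011 : nd 98011 = n201120 := ndS (p := 60940) (l := 1) rfl N60940 D201120
theorem N98012 : nd 98012 = n201121 := ndS (p := 60940) (l := 4) rfl N60940 D201121
theorem N98013 : nd 98013 = n201122 := ndS (p := 60941) (l := 0) rfl N60941 D201122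
theorem N98014 : nd 98014 = n201123 := ndS (p := 60941) (l := 4) rfl N60941 D201123
theorem N98015 : nd 98015 = n201124 := ndS (p := 60941) (l := 6) rfl N60941 D201124
theorem N98016 : nd 98016 = n201125 := ndS (p := 60942) (l := 1) rfl N60942 D201125
theorem N98017 : nd 98017 = n201126 := ndS (p := 60942) (l := 4) rfl N60942 D201126
theorem N98018 : nd 98018 = n201127 := ndS (p := 60942) (l := 6) rfl N60942 D201127
theorem N98019 : nd 98019 = n201128 := ndS (p := 60943) (l := 5) rfl N60943 D201128
theorem N98020 : nd 98020 = n201129 := ndS (p := 60945) (l := 4) rfl N60945 D201129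
theorem N98021 : nd 98021 = n201130 := ndS (p := 60946) (l := 3) rfl N60946 D201130
theorem N98022 : nd 98022 = n201131 := ndS (p := 60946) (l := 4) rfl N60946 D201131
theorem N98023 : nd 98023 = n201132 := ndS (p := 60947) (l := 3) rfl N60947 D201132
theorem N98024 : nd 98024 = n201133 := ndS (p := 60947) (l := 4) rfl N60947 D201133
theorem N98025 : nd 98025 = n201134 := ndS (p := 60947) (l := 6) rfl N60947 D201134
theorem N98026 : nd 98026 = n201135 := ndS (p := 60948) (l := 0) rfl N60948 D201135
theorem N98027 : nd 98027 = n201136 := ndS (p := 60948) (l := 1) rfl N60948 D201136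
theorem N98028 : nd 98028 = n201137 := ndS (p := 60948) (l := 3) rfl N60948 D201137
theorem N98029 : nd 98029 = n201138 := ndS (p := 60949) (l := 6) rfl N60949 D201138
theorem N98030 : nd 98030 = n201139 := ndS (p := 60955) (l := 0) rfl N60955 D201139
theorem N98031 : nd 98031 = n201140 := ndS (p := 60955) (l := 2) rfl N60955 D201140
theorem N98032 : nd 98032 = n201141 := ndS (p := 60956) (l := 4) rfl N60956 D201141
theorem N98033 : nd 98033 = n201142 := ndS (p := 60957) (l := 1) rfl N60957 D201142
theorem N98034 : nd 98034 = n201143 := ndS (p := 60957) (l := 7) rfl N60957 D201143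
theorem N98035 : nd 98035 = n201144 := ndS (p := 60963) (l := 3) rfl N60963 D201144
theorem N98036 : nd 98036 = n201145 := ndS (p := 60963) (l := 6) rfl N60963 D201145
theorem N98037 : nd 98037 = n201146 := ndS (p := 60969) (l := 4) rfl N60969 D201146
theorem N98038 : nd 98038 = n201147 := ndS (p := 60970) (l := 5) rfl N60970 D201147
theorem N98039 : nd 98039 = n201148 := ndS (p := 60970) (l := 6) rfl N60970 D201148
theorem N98040 : nd 98040 = n201149 := ndS (p := 60971) (l := 0) rfl N60971 D201149
theorem N98041 : nd 98041 = n201150 := ndS (p := 60971) (l := 1) rfl N60971 D201150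
theorem N98042 : nd 98042 = n201151 := ndS (p := 60971) (l := 4) rfl N60971 D201151
theorem N98043 : nd 98043 = n201152 := ndS (p := 60971) (l := 6) rfl N60971 D201152
theorem N98044 : nd 98044 = n201153 := ndS (p := 60973) (l := 4) rfl N60973 D201153
theorem N98045 : nd 98045 = n201154 := ndS (p := 60974) (l := 3) rfl N60974 D201154
theorem N98046 : nd 98046 = n201155 := ndS (p := 60974) (l := 4) rfl N60974 D201155
theorem N98047 : nd 98047 = n201156 := ndS (p := 60974) (l := 6) rfl N60974 D201156
theorem N98048 : nd 98048 = n201157 := ndS (p := 60975) (l := 3) rfl N60975 D201157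
theorem N98049 : nd 98049 = n201158 := ndS (p := 60975) (l := 4) rfl N60975 D201158
theorem N98050 : nd 98050 = n201159 := ndS (p := 60975) (l := 6) rfl N60975 D201159
theorem N98051 : nd 98051 = n201160 := ndS (p := 60976) (l := 0) rfl N60976 D201160
theorem N98052 : nd 98052 = n201161 := ndS (p := 60976) (l := 1) rfl N60976 D201161
theorem N98053 : nd 98053 = n201162 := ndS (p := 60976) (l := 3) rfl N60976 D201162
theorem N98054 : nd 98054 = n201163 := ndS (p := 60976) (l := 5) rfl N60976 D201163
theorem N98055 : nd 98055 = n201164 := ndS (p := 60977) (l := 0) rfl N60977 D201164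
theorem N98056 : nd 98056 = n201165 := ndS (p := 60977) (l := 1) rfl N60977 D201165
theorem N98057 : nd 98057 = n201166 := ndS (p := 60977) (l := 2) rfl N60977 D201166
theorem N98058 : nd 98058 = n201167 := ndS (p := 60980) (l := 1) rfl N60980 D201167
theorem N98059 : nd 98059 = n201168 := ndS (p := 60980) (l := 7) rfl N60980 D201168
theorem N98060 : nd 98060 = n201169 := ndS (p := 60982) (l := 3) rfl N60982 D201169
theorem N98061 : nd 98061 = n201170 := ndS (p := 60982) (l := 5) rfl N60982 D201170
theorem N98062 : nd 98062 = n201171 := ndS (p := 60986) (l := 6) rfl N60986 D201171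
theorem N98063 : nd 98063 = n201172 := ndS (p := 60987) (l := 3) rfl N60987 D201172
theorem N98064 : nd 98064 = n201173 := ndS (p := 60987) (l := 7) rfl N60987 D201173
theorem N98065 : nd 98065 = n201174 := ndS (p := 60989) (l := 0) rfl N60989 D201174
theorem N98066 : nd 98066 = n201175 := ndS (p := 60989) (l := 1) rfl N60989 D201175
theorem N98067 : nd 98067 = n201176 := ndS (p := 60989) (l := 2) rfl N60989 D201176
theorem N98068 : nd 98068 = n201177 := ndS (p := 60990) (l := 5) rfl N60990 D201177
theorem N98069 : nd 98069 = n201178 := ndS (p := 60996) (l := 5) rfl N60996 D201178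
theorem N98070 : nd 98070 = n201179 := ndS (p := 60998) (l := 1) rfl N60998 D201179
theorem N98071 : nd 98071 = n201180 := ndS (p := 61000) (l := 5) rfl N61000 D201180
theorem N98072 : nd 98072 = n201181 := ndS (p := 61003) (l := 6) rfl N61003 D201181
theorem N98073 : nd 98073 = n201182 := ndS (p := 61006) (l := 5) rfl N61006 D201182
theorem N98074 : nd 98074 = n201183 := ndS (p := 61007) (l := 5) rfl N61007 D201183
theorem N98075 : nd 98075 = n201184 := ndS (p := 61008) (l := 0) rfl N61008 D201184
theorem N98076 : nd 98076 = n201185 := ndS (p := 61008) (l := 1) rfl N61008 D201185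
theorem N98077 : nd 98077 = n201186 := ndS (p := 61008) (l := 4) rfl N61008 D201186
theorem N98078 : nd 98078 = n201187 := ndS (p := 61008) (l := 7) rfl N61008 D201187
theorem N98079 : nd 98079 = n201188 := ndS (p := 61010) (l := 0) rfl N61010 D201188
theorem N98080 : nd 98080 = n201189 := ndS (p := 61016) (l := 5) rfl N61016 D201189
theorem N98081 : nd 98081 = n201190 := ndS (p := 61016) (l := 6) rfl N61016 D201190
theorem N98082 : nd 98082 = n201191 := ndS (p := 61017) (l := 7) rfl N61017 D201191
theorem N98083 : nd 98083 = n201192 := ndS (p := 61021) (l := 5) rfl N61021 D201192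
theorem N98084 : nd 98084 = n201193 := ndS (p := 61028) (l := 4) rfl N61028 D201193
theorem N98085 : nd 98085 = n201194 := ndS (p := 61030) (l := 5) rfl N61030 D201194
theorem N98086 : nd 98086 = n201195 := ndS (p := 61031) (l := 0) rfl N61031 D201195
theorem N98087 : nd 98087 = n201196 := ndS (p := 61031) (l := 7) rfl N61031 D201196
theorem N98088 : nd 98088 = n201197 := ndS (p := 61032) (l := 6) rfl N61032 D201197
theorem N98089 : nd 98089 = n201198 := ndS (p := 61036) (l := 6) rfl N61036 D201198
theorem N98090 : nd 98090 = n201199 := ndS (p := 61037) (l := 0) rfl N61037 D201199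
theorem N98091 : nd 98091 = n201200 := ndS (p := 61037) (l := 1) rfl N61037 D201200
theorem N98092 : nd 98092 = n201201 := ndS (p := 61037) (l := 5) rfl N61037 D201201
theorem N98093 : nd 98093 = n201202 := ndS (p := 61038) (l := 6) rfl N61038 D201202
theorem N98094 : nd 98094 = n201203 := ndS (p := 61042) (l := 0) rfl N61042 D201203
theorem N98095 : nd 98095 = n201204 := ndS (p := 61043) (l := 0) rfl N61043 D201204
theorem N98096 : nd 98096 = n201205 := ndS (p := 61043) (l := 7) rfl N61043 D201205
theorem N98097 : nd 98097 = n201206 := ndS (p := 61045) (l := 5) rfl N61045 D201206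
theorem N98098 : nd 98098 = n201207 := ndS (p := 61045) (l := 6) rfl N61045 D201207
theorem N98099 : nd 98099 = n201208 := ndS (p := 61049) (l := 5) rfl N61049 D201208
theorem N98100 : nd 98100 = n201209 := ndS (p := 61050) (l := 5) rfl N61050 D201209
theorem N98101 : nd 98101 = n201210 := ndS (p := 61050) (l := 6) rfl N61050 D201210
theorem N98102 : nd 98102 = n201211 := ndS (p := 61051) (l := 0) rfl N61051 D201211
theorem N98103 : nd 98103 = n201212 := ndS (p := 61051) (l := 1) rfl N61051 D201212
theorem N98104 : nd 98104 = n201213 := ndS (p := 61051) (l := 4) rfl N61051 D201213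
theorem N98105 : nd 98105 = n201214 := ndS (p := 61051) (l := 7) rfl N61051 D201214
theorem N98106 : nd 98106 = n201215 := ndS (p := 61053) (l := 4) rfl N61053 D201215
theorem N98107 : nd 98107 = n201216 := ndS (p := 61053) (l := 5) rfl N61053 D201216
theorem N98108 : nd 98108 = n201217 := ndS (p := 61053) (l := 6) rfl N61053 D201217
theorem N98109 : nd 98109 = n201218 := ndS (p := 61054) (l := 5) rfl N61054 D201218
theorem N98110 : nd 98110 = n201219 := ndS (p := 61054) (l := 6) rfl N61054 D201219
theorem N98111 : nd 98111 = n201220 := ndS (p := 61056) (l := 1) rfl N61056 D201220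
theorem N98112 : nd 98112 = n201221 := ndS (p := 61056) (l := 5) rfl N61056 D201221
theorem N98113 : nd 98113 = n201222 := ndS (p := 61056) (l := 7) rfl N61056 D201222
theorem N98114 : nd 98114 = n201223 := ndS (p := 61058) (l := 5) rfl N61058 D201223
theorem N98115 : nd 98115 = n201224 := ndS (p := 61061) (l := 5) rfl N61061 D201224
theorem N98116 : nd 98116 = n201225 := ndS (p := 61062) (l := 5) rfl N61062 D201225
theorem N98117 : nd 98117 = n201226 := ndS (p := 61062) (l := 6) rfl N61062 D201226
theorem N98118 : nd 98118 = n201227 := ndS (p := 61063) (l := 5) rfl N61063 D201227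
theorem N98119 : nd 98119 = n201228 := ndS (p := 61064) (l := 0) rfl N61064 D201228
theorem N98120 : nd 98120 = n201229 := ndS (p := 61066) (l := 1) rfl N61066 D201229
theorem N98121 : nd 98121 = n201230 := ndS (p := 61066) (l := 7) rfl N61066 D201230
theorem N98122 : nd 98122 = n201231 := ndS (p := 61069) (l := 0) rfl N61069 D201231
theorem N98123 : nd 98123 = n201232 := ndS (p := 61069) (l := 1) rfl N61069 D201232
theorem N98124 : nd 98124 = n201233 := ndS (p := 61074) (l := 5) rfl N61074 D201233
theorem N98125 : nd 98125 = n201234 := ndS (p := 61075) (l := 3) rfl N61075 D201234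
theorem N98126 : nd 98126 = n201235 := ndS (p := 61076) (l := 4) rfl N61076 D201235
theorem N98127 : nd 98127 = n201236 := ndS (p := 61077) (l := 7) rfl N61077 D201236
theorem N98128 : nd 98128 = n201237 := ndS (p := 61078) (l := 5) rfl N61078 D201237
theorem N98129 : nd 98129 = n201238 := ndS (p := 61079) (l := 3) rfl N61079 D201238
theorem N98130 : nd 98130 = n201239 := ndS (p := 61079) (l := 5) rfl N61079 D201239
theorem N98131 : nd 98131 = n201240 := ndS (p := 61079) (l := 6) rfl N61079 D201240
theorem N98132 : nd 98132 = n201241 := ndS (p := 61080) (l := 0) rfl N61080 D201241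
theorem N98133 : nd 98133 = n201242 := ndS (p := 61080) (l := 1) rfl N61080 D201242
theorem N98134 : nd 98134 = n201243 := ndS (p := 61084) (l := 5) rfl N61084 D201243
theorem N98135 : nd 98135 = n201244 := ndS (p := 61086) (l := 5) rfl N61086 D201244
theorem N98136 : nd 98136 = n201245 := ndS (p := 61089) (l := 4) rfl N61089 D201245
theorem N98137 : nd 98137 = n201246 := ndS (p := 61090) (l := 6) rfl N61090 D201246
theorem N98138 : nd 98138 = n201247 := ndS (p := 61092) (l := 6) rfl N61092 D201247
theorem N98139 : nd 98139 = n201248 := ndS (p := 61093) (l := 1) rfl N61093 D201248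
theorem N98140 : nd 98140 = n201249 := ndS (p := 61093) (l := 7) rfl N61093 D201249
theorem N98141 : nd 98141 = n201250 := ndS (p := 61095) (l := 3) rfl N61095 D201250
theorem N98142 : nd 98142 = n201251 := ndS (p := 61095) (l := 6) rfl N61095 D201251
theorem N98143 : nd 98143 = n201252 := ndS (p := 61099) (l := 6) rfl N61099 D201252
theorem N98144 : nd 98144 = n201253 := ndS (p := 61102) (l := 4) rfl N61102 D201253
theorem N98145 : nd 98145 = n201254 := ndS (p := 61102) (l := 5) rfl N61102 D201254
theorem N98146 : nd 98146 = n201255 := ndS (p := 61104) (l := 0) rfl N61104 D201255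
theorem N98147 : nd 98147 = n201256 := ndS (p := 61104) (l := 1) rfl N61104 D201256
theorem N98148 : nd 98148 = n201257 := ndS (p := 61105) (l := 1) rfl N61105 D201257
theorem N98149 : nd 98149 = n201258 := ndS (p := 61108) (l := 0) rfl N61108 D201258
theorem N98150 : nd 98150 = n201259 := ndS (p := 61108) (l := 5) rfl N61108 D201259
theorem N98151 : nd 98151 = n201260 := ndS (p := 61108) (l := 7) rfl N61108 D201260
theorem N98152 : nd 98152 = n201261 := ndS (p := 61109) (l := 0) rfl N61109 D201261
theorem N98153 : nd 98153 = n201262 := ndS (p := 61109) (l := 6) rfl N61109 D201262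
theorem N98154 : nd 98154 = n201263 := ndS (p := 61110) (l := 4) rfl N61110 D201263
theorem N98155 : nd 98155 = n201264 := ndS (p := 61111) (l := 1) rfl N61111 D201264
theorem N98156 : nd 98156 = n201265 := ndS (p := 61111) (l := 3) rfl N61111 D201265
theorem N98157 : nd 98157 = n201266 := ndS (p := 61112) (l := 7) rfl N61112 D201266
theorem N98158 : nd 98158 = n201267 := ndS (p := 61117) (l := 0) rfl N61117 D201267
theorem N98159 : nd 98159 = n201268 := ndS (p := 61119) (l := 6) rfl N61119 D201268
theorem N98160 : nd 98160 = n201269 := ndS (p := 61120) (l := 5) rfl N61120 D201269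
theorem N98161 : nd 98161 = n201270 := ndS (p := 61122) (l := 4) rfl N61122 D201270
theorem N98162 : nd 98162 = n201271 := ndS (p := 61124) (l := 6) rfl N61124 D201271
theorem N98163 : nd 98163 = n201272 := ndS (p := 61126) (l := 3) rfl N61126 D201272
theorem N98164 : nd 98164 = n201273 := ndS (p := 61126) (l := 5) rfl N61126 D201273
theorem N98165 : nd 98165 = n201274 := ndS (p := 61127) (l := 6) rfl N61127 D201274
theorem N98166 : nd 98166 = n201275 := ndS (p := 61128) (l := 1) rfl N61128 D201275
theorem N98167 : nd 98167 = n201276 := ndS (p := 61128) (l := 5) rfl N61128 D201276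
theorem N98168 : nd 98168 = n201277 := ndS (p := 61128) (l := 7) rfl N61128 D201277
theorem N98169 : nd 98169 = n201278 := ndS (p := 61130) (l := 0) rfl N61130 D201278
theorem N98170 : nd 98170 = n201279 := ndS (p := 61132) (l := 4) rfl N61132 D201279
theorem N98171 : nd 98171 = n201280 := ndS (p := 61132) (l := 6) rfl N61132 D201280
theorem N98172 : nd 98172 = n201281 := ndS (p := 61133) (l := 6) rfl N61133 D201281
theorem N98173 : nd 98173 = n201282 := ndS (p := 61134) (l := 5) rfl N61134 D201282
theorem N98174 : nd 98174 = n201283 := ndS (p := 61136) (l := 4) rfl N61136 D201283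
theorem N98175 : nd 98175 = n201284 := ndS (p := 61137) (l := 4) rfl N61137 D201284
theorem N98176 : nd 98176 = n201285 := ndS (p := 61139) (l := 7) rfl N61139 D201285
theorem N98177 : nd 98177 = n201286 := ndS (p := 61141) (l := 4) rfl N61141 D201286
theorem N98178 : nd 98178 = n201287 := ndS (p := 61143) (l := 5) rfl N61143 D201287
theorem N98179 : nd 98179 = n201288 := ndS (p := 61143) (l := 7) rfl N61143 D201288
theorem N98180 : nd 98180 = n201289 := ndS (p := 61144) (l := 5) rfl N61144 D201289
theorem N98181 : nd 98181 = n201290 := ndS (p := 61144) (l := 7) rfl N61144 D201290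
theorem N98182 : nd 98182 = n201291 := ndS (p := 61145) (l := 5) rfl N61145 D201291
theorem N98183 : nd 98183 = n201292 := ndS (p := 61146) (l := 6) rfl N61146 D201292
theorem N98184 : nd 98184 = n201293 := ndS (p := 61147) (l := 0) rfl N61147 D201293
theorem N98185 : nd 98185 = n201294 := ndS (p := 61147) (l := 1) rfl N61147 D201294
theorem N98186 : nd 98186 = n201295 := ndS (p := 61147) (l := 7) rfl N61147 D201295
theorem N98187 : nd 98187 = n201296 := ndS (p := 61149) (l := 4) rfl N61149 D201296
theorem N98188 : nd 98188 = n201297 := ndS (p := 61151) (l := 6) rfl N61151 D201297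
theorem N98189 : nd 98189 = n201298 := ndS (p := 61154) (l := 4) rfl N61154 D201298
theorem N98190 : nd 98190 = n201299 := ndS (p := 61155) (l := 6) rfl N61155 D201299
theorem N98191 : nd 98191 = n201300 := ndS (p := 61157) (l := 6) rfl N61157 D201300
theorem N98192 : nd 98192 = n201301 := ndS (p := 61160) (l := 0) rfl N61160 D201301
theorem N98193 : nd 98193 = n201302 := ndS (p := 61161) (l := 4) rfl N61161 D201302
theorem N98194 : nd 98194 = n201303 := ndS (p := 61162) (l := 6) rfl N61162 D201303
theorem N98195 : nd 98195 = n201304 := ndS (p := 61163) (l := 0) rfl N61163 D201304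
theorem N98196 : nd 98196 = n201305 := ndS (p := 61163) (l := 1) rfl N61163 D201305
theorem N98197 : nd 98197 = n201306 := ndS (p := 61166) (l := 3) rfl N61166 D201306
theorem N98198 : nd 98198 = n201307 := ndS (p := 61166) (l := 6) rfl N61166 D201307
theorem N98199 : nd 98199 = n201308 := ndS (p := 61168) (l := 0) rfl N61168 D201308
theorem N98200 : nd 98200 = n201309 := ndS (p := 61168) (l := 4) rfl N61168 D201309
theorem N98201 : nd 98201 = n201310 := ndS (p := 61168) (l := 6) rfl N61168 D201310
theorem N98202 : nd 98202 = n201311 := ndS (p := 61168) (l := 7) rfl N61168 D201311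
theorem N98203 : nd 98203 = n201312 := ndS (p := 61172) (l := 5) rfl N61172 D201312
theorem N98204 : nd 98204 = n201313 := ndS (p := 61173) (l := 0) rfl N61173 D201313
theorem N98205 : nd 98205 = n201314 := ndS (p := 61173) (l := 1) rfl N61173 D201314
theorem N98206 : nd 98206 = n201315 := ndS (p := 61173) (l := 4) rfl N61173 D201315
theorem N98207 : nd 98207 = n201316 := ndS (p := 61175) (l := 3) rfl N61175 D201316
theorem N98208 : nd 98208 = n201317 := ndS (p := 61176) (l := 4) rfl N61176 D201317
theorem N98209 : nd 98209 = n201318 := ndS (p := 61177) (l := 3) rfl N61177 D201318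
theorem N98210 : nd 98210 = n201319 := ndS (p := 61180) (l := 7) rfl N61180 D201319
theorem N98211 : nd 98211 = n201320 := ndS (p := 61181) (l := 3) rfl N61181 D201320
theorem N98212 : nd 98212 = n201321 := ndS (p := 61183) (l := 4) rfl N61183 D201321
theorem N98213 : nd 98213 = n201322 := ndS (p := 61183) (l := 6) rfl N61183 D201322
theorem N98214 : nd 98214 = n201323 := ndS (p := 61184) (l := 3) rfl N61184 D201323
theorem N98215 : nd 98215 = n201324 := ndS (p := 61184) (l := 6) rfl N61184 D201324
theorem N98216 : nd 98216 = n201325 := ndS (p := 61185) (l := 0) rfl N61185 D201325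
theorem N98217 : nd 98217 = n201326 := ndS (p := 61185) (l := 1) rfl N61185 D201326
theorem N98218 : nd 98218 = n201327 := ndS (p := 61186) (l := 4) rfl N61186 D201327
theorem N98219 : nd 98219 = n201328 := ndS (p := 61187) (l := 3) rfl N61187 D201328
theorem N98220 : nd 98220 = n201329 := ndS (p := 61188) (l := 7) rfl N61188 D201329
theorem N98221 : nd 98221 = n201330 := ndS (p := 61189) (l := 6) rfl N61189 D201330
theorem N98222 : nd 98222 = n201331 := ndS (p := 61193) (l := 6) rfl N61193 D201331
theorem N98223 : nd 98223 = n201332 := ndS (p := 61195) (l := 1) rfl N61195 D201332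
theorem N98224 : nd 98224 = n201333 := ndS (p := 61198) (l := 3) rfl N61198 D201333
theorem N98225 : nd 98225 = n201334 := ndS (p := 61198) (l := 5) rfl N61198 D201334
theorem N98226 : nd 98226 = n201335 := ndS (p := 61199) (l := 1) rfl N61199 D201335
theorem N98227 : nd 98227 = n201336 := ndS (p := 61199) (l := 7) rfl N61199 D201336
theorem N98228 : nd 98228 = n201337 := ndS (p := 61200) (l := 1) rfl N61200 D201337
theorem N98229 : nd 98229 = n201338 := ndS (p := 61200) (l := 2) rfl N61200 D201338
theorem N98230 : nd 98230 = n201339 := ndS (p := 61200) (l := 6) rfl N61200 D201339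
theorem N98231 : nd 98231 = n201340 := ndS (p := 61202) (l := 5) rfl N61202 D201340
theorem N98232 : nd 98232 = n201342 := ndS (p := 61203) (l := 4) rfl N61203 D201342
theorem N98233 : nd 98233 = n201343 := ndS (p := 61205) (l := 3) rfl N61205 D201343
theorem N98234 : nd 98234 = n201344 := ndS (p := 61205) (l := 6) rfl N61205 D201344
theorem N98235 : nd 98235 = n201345 := ndS (p := 61206) (l := 1) rfl N61206 D201345
theorem N98236 : nd 98236 = n201346 := ndS (p := 61207) (l := 6) rfl N61207 D201346
theorem N98237 : nd 98237 = n201347 := ndS (p := 61209) (l := 3) rfl N61209 D201347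
theorem N98238 : nd 98238 = n201348 := ndS (p := 61209) (l := 5) rfl N61209 D201348
theorem N98239 : nd 98239 = n201350 := ndS (p := 61210) (l := 4) rfl N61210 D201350
theorem N98240 : nd 98240 = n201351 := ndS (p := 61210) (l := 5) rfl N61210 D201351
theorem N98241 : nd 98241 = n201352 := ndS (p := 61210) (l := 6) rfl N61210 D201352
theorem N98242 : nd 98242 = n201353 := ndS (p := 61212) (l := 3) rfl N61212 D201353
theorem N98243 : nd 98243 = n201354 := ndS (p := 61213) (l := 0) rfl N61213 D201354
theorem N98244 : nd 98244 = n201355 := ndS (p := 61213) (l := 1) rfl N61213 D201355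
theorem N98245 : nd 98245 = n201356 := ndS (p := 61215) (l := 6) rfl N61215 D201356
theorem N98246 : nd 98246 = n201357 := ndS (p := 61219) (l := 0) rfl N61219 D201357
theorem N98247 : nd 98247 = n201358 := ndS (p := 61219) (l := 2) rfl N61219 D201358
theorem N98248 : nd 98248 = n201359 := ndS (p := 61219) (l := 5) rfl N61219 D201359
theorem N98249 : nd 98249 = n201360 := ndS (p := 61220) (l := 5) rfl N61220 D201360
theorem N98250 : nd 98250 = n201361 := ndS (p := 61221) (l := 5) rfl N61221 D201361
theorem N98251 : nd 98251 = n201362 := ndS (p := 61222) (l := 1) rfl N61222 D201362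
theorem N98252 : nd 98252 = n201363 := ndS (p := 61224) (l := 0) rfl N61224 D201363
theorem N98253 : nd 98253 = n201364 := ndS (p := 61224) (l := 7) rfl N61224 D201364
theorem N98254 : nd 98254 = n201365 := ndS (p := 61225) (l := 1) rfl N61225 D201365
theorem N98255 : nd 98255 = n201366 := ndS (p := 61227) (l := 6) rfl N61227 D201366
theorem N98256 : nd 98256 = n201367 := ndS (p := 61228) (l := 6) rfl N61228 D201367
theorem N98257 : nd 98257 = n201368 := ndS (p := 61229) (l := 6) rfl N61229 D201368
theorem N98258 : nd 98258 = n201369 := ndS (p := 61231) (l := 7) rfl N61231 D201369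
theorem N98259 : nd 98259 = n201370 := ndS (p := 61232) (l := 5) rfl N61232 D201370
theorem N98260 : nd 98260 = n201371 := ndS (p := 61233) (l := 6) rfl N61233 D201371
theorem N98261 : nd 98261 = n201372 := ndS (p := 61235) (l := 1) rfl N61235 D201372
theorem N98262 : nd 98262 = n201373 := ndS (p := 61235) (l := 7) rfl N61235 D201373
theorem N98263 : nd 98263 = n201374 := ndS (p := 61237) (l := 5) rfl N61237 D201374
theorem N98264 : nd 98264 = n201375 := ndS (p := 61237) (l := 6) rfl N61237 D201375
theorem N98265 : nd 98265 = n201376 := ndS (p := 61238) (l := 3) rfl N61238 D201376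
theorem N98266 : nd 98266 = n201377 := ndS (p := 61240) (l := 4) rfl N61240 D201377
theorem N98267 : nd 98267 = n201378 := ndS (p := 61240) (l := 6) rfl N61240 D201378
theorem N98268 : nd 98268 = n201379 := ndS (p := 61241) (l := 0) rfl N61241 D201379
theorem N98269 : nd 98269 = n201380 := ndS (p := 61241) (l := 1) rfl N61241 D201380
theorem N98270 : nd 98270 = n201381 := ndS (p := 61241) (l := 7) rfl N61241 D201381
theorem N98271 : nd 98271 = n201382 := ndS (p := 61243) (l := 3) rfl N61243 D201382
theorem N98272 : nd 98272 = n201383 := ndS (p := 61243) (l := 6) rfl N61243 D201383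
theorem N98273 : nd 98273 = n201384 := ndS (p := 61244) (l := 7) rfl N61244 D201384
theorem N98274 : nd 98274 = n201385 := ndS (p := 61246) (l := 6) rfl N61246 D201385
theorem N98275 : nd 98275 = n201386 := ndS (p := 61247) (l := 5) rfl N61247 D201386
theorem N98276 : nd 98276 = n201387 := ndS (p := 61247) (l := 7) rfl N61247 D201387
theorem N98277 : nd 98277 = n201388 := ndS (p := 61248) (l := 3) rfl N61248 D201388
theorem N98278 : nd 98278 = n201389 := ndS (p := 61248) (l := 6) rfl N61248 D201389
theorem N98279 : nd 98279 = n201390 := ndS (p := 61251) (l := 4) rfl N61251 D201390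
theorem N98280 : nd 98280 = n201391 := ndS (p := 61253) (l := 4) rfl N61253 D201391
theorem N98281 : nd 98281 = n201392 := ndS (p := 61253) (l := 6) rfl N61253 D201392
theorem N98282 : nd 98282 = n201393 := ndS (p := 61254) (l := 1) rfl N61254 D201393
theorem N98283 : nd 98283 = n201394 := ndS (p := 61259) (l := 3) rfl N61259 D201394
theorem N98284 : nd 98284 = n201395 := ndS (p := 61259) (l := 4) rfl N61259 D201395
theorem N98285 : nd 98285 = n201396 := ndS (p := 61259) (l := 6) rfl N61259 D201396
theorem N98286 : nd 98286 = n201397 := ndS (p := 61262) (l := 5) rfl N61262 D201397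
theorem N98287 : nd 98287 = n201398 := ndS (p := 61263) (l := 5) rfl N61263 D201398
theorem N98288 : nd 98288 = n201399 := ndS (p := 61263) (l := 6) rfl N61263 D201399
theorem N98289 : nd 98289 = n201400 := ndS (p := 61265) (l := 0) rfl N61265 D201400
theorem N98290 : nd 98290 = n201401 := ndS (p := 61265) (l := 7) rfl N61265 D201401
theorem N98291 : nd 98291 = n201402 := ndS (p := 61266) (l := 4) rfl N61266 D201402
theorem N98292 : nd 98292 = n201403 := ndS (p := 61268) (l := 5) rfl N61268 D201403
theorem N98293 : nd 98293 = n201404 := ndS (p := 61269) (l := 5) rfl N61269 D201404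
theorem N98294 : nd 98294 = n201405 := ndS (p := 61269) (l := 6) rfl N61269 D201405
theorem N98295 : nd 98295 = n201406 := ndS (p := 61271) (l := 3) rfl N61271 D201406
theorem N98296 : nd 98296 = n201407 := ndS (p := 61272) (l := 6) rfl N61272 D201407
theorem N98297 : nd 98297 = n201408 := ndS (p := 61274) (l := 4) rfl N61274 D201408
theorem N98298 : nd 98298 = n201409 := ndS (p := 61276) (l := 4) rfl N61276 D201409
theorem N98299 : nd 98299 = n201410 := ndS (p := 61279) (l := 6) rfl N61279 D201410
theorem N98300 : nd 98300 = n201411 := ndS (p := 61280) (l := 1) rfl N61280 D201411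
theorem N98301 : nd 98301 = n201412 := ndS (p := 61280) (l := 5) rfl N61280 D201412
theorem N98302 : nd 98302 = n201413 := ndS (p := 61281) (l := 0) rfl N61281 D201413
theorem N98303 : nd 98303 = n201414 := ndS (p := 61281) (l := 5) rfl N61281 D201414
theorem N98304 : nd 98304 = n201415 := ndS (p := 61282) (l := 4) rfl N61282 D201415
theorem N98305 : nd 98305 = n201416 := ndS (p := 61289) (l := 3) rfl N61289 D201416
theorem N98306 : nd 98306 = n201417 := ndS (p := 61289) (l := 4) rfl N61289 D201417
theorem N98307 : nd 98307 = n201418 := ndS (p := 61289) (l := 5) rfl N61289 D201418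
theorem N98308 : nd 98308 = n201419 := ndS (p := 61290) (l := 6) rfl N61290 D201419
theorem N98309 : nd 98309 = n201420 := ndS (p := 61292) (l := 6) rfl N61292 D201420
theorem N98310 : nd 98310 = n201421 := ndS (p := 61294) (l := 4) rfl N61294 D201421
theorem N98311 : nd 98311 = n201422 := ndS (p := 61294) (l := 6) rfl N61294 D201422
theorem N98312 : nd 98312 = n201423 := ndS (p := 61296) (l := 3) rfl N61296 D201423
theorem N98313 : nd 98313 = n201424 := ndS (p := 61297) (l := 1) rfl N61297 D201424
theorem N98314 : nd 98314 = n201425 := ndS (p := 61300) (l := 5) rfl N61300 D201425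
theorem N98315 : nd 98315 = n201426 := ndS (p := 61301) (l := 0) rfl N61301 D201426
theorem N98316 : nd 98316 = n201427 := ndS (p := 61301) (l := 1) rfl N61301 D201427
theorem N98317 : nd 98317 = n201428 := ndS (p := 61301) (l := 4) rfl N61301 D201428
theorem N98318 : nd 98318 = n201429 := ndS (p := 61301) (l := 6) rfl N61301 D201429
theorem N98319 : nd 98319 = n201430 := ndS (p := 61302) (l := 0) rfl N61302 D201430
theorem N98320 : nd 98320 = n201431 := ndS (p := 61302) (l := 1) rfl N61302 D201431
theorem N98321 : nd 98321 = n201432 := ndS (p := 61303) (l := 3) rfl N61303 D201432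
theorem N98322 : nd 98322 = n201433 := ndS (p := 61303) (l := 6) rfl N61303 D201433
theorem N98323 : nd 98323 = n201434 := ndS (p := 61305) (l := 3) rfl N61305 D201434
theorem N98324 : nd 98324 = n201435 := ndS (p := 61308) (l := 2) rfl N61308 D201435
theorem N98325 : nd 98325 = n201436 := ndS (p := 61308) (l := 6) rfl N61308 D201436
theorem N98326 : nd 98326 = n201437 := ndS (p := 61311) (l := 6) rfl N61311 D201437
theorem N98327 : nd 98327 = n201438 := ndS (p := 61312) (l := 0) rfl N61312 D201438
theorem N98328 : nd 98328 = n201439 := ndS (p := 61313) (l := 3) rfl N61313 D201439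
theorem N98329 : nd 98329 = n201440 := ndS (p := 61314) (l := 3) rfl N61314 D201440
theorem N98330 : nd 98330 = n201441 := ndS (p := 61316) (l := 6) rfl N61316 D201441
theorem N98331 : nd 98331 = n201442 := ndS (p := 61317) (l := 0) rfl N61317 D201442
theorem N98332 : nd 98332 = n201443 := ndS (p := 61317) (l := 1) rfl N61317 D201443
theorem N98333 : nd 98333 = n201444 := ndS (p := 61317) (l := 5) rfl N61317 D201444
theorem N98334 : nd 98334 = n201445 := ndS (p := 61317) (l := 7) rfl N61317 D201445
theorem N98335 : nd 98335 = n201446 := ndS (p := 61318) (l := 3) rfl N61318 D201446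
theorem N98336 : nd 98336 = n201447 := ndS (p := 61318) (l := 5) rfl N61318 D201447
theorem N98337 : nd 98337 = n201448 := ndS (p := 61319) (l := 5) rfl N61319 D201448
theorem N98338 : nd 98338 = n201449 := ndS (p := 61319) (l := 6) rfl N61319 D201449
theorem N98339 : nd 98339 = n201450 := ndS (p := 61320) (l := 1) rfl N61320 D201450
theorem N98340 : nd 98340 = n201451 := ndS (p := 61320) (l := 4) rfl N61320 D201451
theorem N98341 : nd 98341 = n201452 := ndS (p := 61320) (l := 7) rfl N61320 D201452
theorem N98342 : nd 98342 = n201453 := ndS (p := 61323) (l := 1) rfl N61323 D201453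
theorem N98343 : nd 98343 = n201454 := ndS (p := 61326) (l := 0) rfl N61326 D201454
theorem N98344 : nd 98344 = n201456 := ndS (p := 61330) (l := 5) rfl N61330 D201456
theorem N98345 : nd 98345 = n201457 := ndS (p := 61331) (l := 5) rfl N61331 D201457
theorem N98346 : nd 98346 = n201458 := ndS (p := 61331) (l := 6) rfl N61331 D201458
theorem N98347 : nd 98347 = n201459 := ndS (p := 61332) (l := 0) rfl N61332 D201459
theorem N98348 : nd 98348 = n201460 := ndS (p := 61332) (l := 1) rfl N61332 D201460
theorem N98349 : nd 98349 = n201461 := ndS (p := 61332) (l := 4) rfl N61332 D201461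
theorem N98350 : nd 98350 = n201462 := ndS (p := 61332) (l := 7) rfl N61332 D201462
theorem N98351 : nd 98351 = n201463 := ndS (p := 61334) (l := 3) rfl N61334 D201463
theorem N98352 : nd 98352 = n201464 := ndS (p := 61334) (l := 5) rfl N61334 D201464
theorem N98353 : nd 98353 = n201465 := ndS (p := 61338) (l := 3) rfl N61338 D201465
theorem N98354 : nd 98354 = n201466 := ndS (p := 61345) (l := 6) rfl N61345 D201466
theorem N98355 : nd 98355 = n201467 := ndS (p := 61347) (l := 5) rfl N61347 D201467
theorem N98356 : nd 98356 = n201468 := ndS (p := 61348) (l := 5) rfl N61348 D201468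
theorem N98357 : nd 98357 = n201469 := ndS (p := 61350) (l := 6) rfl N61350 D201469
theorem N98358 : nd 98358 = n201470 := ndS (p := 61352) (l := 6) rfl N61352 D201470
theorem N98359 : nd 98359 = n201471 := ndS (p := 61355) (l := 3) rfl N61355 D201471
theorem N98360 : nd 98360 = n201472 := ndS (p := 61355) (l := 6) rfl N61355 D201472
theorem N98361 : nd 98361 = n201473 := ndS (p := 61356) (l := 0) rfl N61356 D201473
theorem N98362 : nd 98362 = n201474 := ndS (p := 61357) (l := 3) rfl N61357 D201474
theorem N98363 : nd 98363 = n201475 := ndS (p := 61357) (l := 6) rfl N61357 D201475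
theorem N98364 : nd 98364 = n201476 := ndS (p := 61359) (l := 5) rfl N61359 D201476
theorem N98365 : nd 98365 = n201477 := ndS (p := 61360) (l := 1) rfl N61360 D201477
theorem N98366 : nd 98366 = n201478 := ndS (p := 61360) (l := 5) rfl N61360 D201478
theorem N98367 : nd 98367 = n201479 := ndS (p := 61361) (l := 0) rfl N61361 D201479
theorem N98368 : nd 98368 = n201480 := ndS (p := 61361) (l := 1) rfl N61361 D201480
theorem N98369 : nd 98369 = n201481 := ndS (p := 61367) (l := 5) rfl N61367 D201481
theorem N98370 : nd 98370 = n201482 := ndS (p := 61367) (l := 6) rfl N61367 D201482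
theorem N98371 : nd 98371 = n201483 := ndS (p := 61368) (l := 5) rfl N61368 D201483
theorem N98372 : nd 98372 = n201484 := ndS (p := 61369) (l := 0) rfl N61369 D201484
theorem N98373 : nd 98373 = n201485 := ndS (p := 61369) (l := 1) rfl N61369 D201485
theorem N98374 : nd 98374 = n201486 := ndS (p := 61369) (l := 4) rfl N61369 D201486
theorem N98375 : nd 98375 = n201487 := ndS (p := 61369) (l := 7) rfl N61369 D201487
theorem N98376 : nd 98376 = n201488 := ndS (p := 61373) (l := 3) rfl N61373 D201488
theorem N98377 : nd 98377 = n201489 := ndS (p := 61373) (l := 5) rfl N61373 D201489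
theorem N98378 : nd 98378 = n201490 := ndS (p := 61375) (l := 5) rfl N61375 D201490
theorem N98379 : nd 98379 = n201491 := ndS (p := 61375) (l := 6) rfl N61375 D201491
theorem N98380 : nd 98380 = n201492 := ndS (p := 61377) (l := 6) rfl N61377 D201492
theorem N98381 : nd 98381 = n201493 := ndS (p := 61379) (l := 6) rfl N61379 D201493
theorem N98382 : nd 98382 = n201494 := ndS (p := 61382) (l := 5) rfl N61382 D201494
theorem N98383 : nd 98383 = n201495 := ndS (p := 61383) (l := 4) rfl N61383 D201495
theorem N98384 : nd 98384 = n201496 := ndS (p := 61385) (l := 4) rfl N61385 D201496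
theorem N98385 : nd 98385 = n201497 := ndS (p := 61385) (l := 6) rfl N61385 D201497
theorem N98386 : nd 98386 = n201498 := ndS (p := 61386) (l := 0) rfl N61386 D201498
theorem N98387 : nd 98387 = n201499 := ndS (p := 61386) (l := 3) rfl N61386 D201499
theorem N98388 : nd 98388 = n201500 := ndS (p := 61388) (l := 0) rfl N61388 D201500
theorem N98389 : nd 98389 = n201501 := ndS (p := 61388) (l := 1) rfl N61388 D201501
theorem N98390 : nd 98390 = n201502 := ndS (p := 61388) (l := 7) rfl N61388 D201502
theorem N98391 : nd 98391 = n201503 := ndS (p := 61389) (l := 0) rfl N61389 D201503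
theorem N98392 : nd 98392 = n201504 := ndS (p := 61390) (l := 5) rfl N61390 D201504
theorem N98393 : nd 98393 = n201505 := ndS (p := 61390) (l := 6) rfl N61390 D201505
theorem N98394 : nd 98394 = n201506 := ndS (p := 61391) (l := 5) rfl N61391 D201506
theorem N98395 : nd 98395 = n201507 := ndS (p := 61395) (l := 1) rfl N61395 D201507
theorem N98396 : nd 98396 = n201508 := ndS (p := 61398) (l := 5) rfl N61398 D201508
theorem N98397 : nd 98397 = n201509 := ndS (p := 61403) (l := 5) rfl N61403 D201509
theorem N98398 : nd 98398 = n201510 := ndS (p := 61403) (l := 6) rfl N61403 D201510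
theorem N98399 : nd 98399 = n201511 := ndS (p := 61407) (l := 6) rfl N61407 D201511
theorem N98400 : nd 98400 = n201512 := ndS (p := 61414) (l := 6) rfl N61414 D201512
theorem N98401 : nd 98401 = n201513 := ndS (p := 61415) (l := 6) rfl N61415 D201513
theorem N98402 : nd 98402 = n201514 := ndS (p := 61417) (l := 6) rfl N61417 D201514
theorem N98403 : nd 98403 = n201515 := ndS (p := 61420) (l := 5) rfl N61420 D201515
theorem N98404 : nd 98404 = n201516 := ndS (p := 61423) (l := 0) rfl N61423 D201516
theorem N98405 : nd 98405 = n201517 := ndS (p := 61423) (l := 7) rfl N61423 D201517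
theorem N98406 : nd 98406 = n201518 := ndS (p := 61428) (l := 3) rfl N61428 D201518
theorem N98407 : nd 98407 = n201519 := ndS (p := 61430) (l := 5) rfl N61430 D201519
theorem N98408 : nd 98408 = n201520 := ndS (p := 61432) (l := 0) rfl N61432 D201520
theorem N98409 : nd 98409 = n201521 := ndS (p := 61434) (l := 0) rfl N61434 D201521
theorem N98410 : nd 98410 = n201522 := ndS (p := 61434) (l := 4) rfl N61434 D201522
theorem N98411 : nd 98411 = n201523 := ndS (p := 61438) (l := 5) rfl N61438 D201523
theorem N98412 : nd 98412 = n201524 := ndS (p := 61439) (l := 4) rfl N61439 D201524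
theorem N98413 : nd 98413 = n201525 := ndS (p := 61441) (l := 5) rfl N61441 D201525
theorem N98414 : nd 98414 = n201526 := ndS (p := 61442) (l := 0) rfl N61442 D201526
theorem N98415 : nd 98415 = n201527 := ndS (p := 61442) (l := 1) rfl N61442 D201527
theorem N98416 : nd 98416 = n201528 := ndS (p := 61442) (l := 4) rfl N61442 D201528
theorem N98417 : nd 98417 = n201529 := ndS (p := 61443) (l := 4) rfl N61443 D201529
theorem N98418 : nd 98418 = n201530 := ndS (p := 61444) (l := 5) rfl N61444 D201530
theorem N98419 : nd 98419 = n201531 := ndS (p := 61446) (l := 1) rfl N61446 D201531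
theorem N98420 : nd 98420 = n201532 := ndS (p := 61446) (l := 4) rfl N61446 D201532
theorem N98421 : nd 98421 = n201533 := ndS (p := 61446) (l := 6) rfl N61446 D201533
theorem N98422 : nd 98422 = n201534 := ndS (p := 61448) (l := 5) rfl N61448 D201534
theorem N98423 : nd 98423 = n201535 := ndS (p := 61448) (l := 6) rfl N61448 D201535
theorem N98424 : nd 98424 = n201536 := ndS (p := 61450) (l := 4) rfl N61450 D201536
theorem N98425 : nd 98425 = n201537 := ndS (p := 61450) (l := 6) rfl N61450 D201537
theorem N98426 : nd 98426 = n201538 := ndS (p := 61451) (l := 5) rfl N61451 D201538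
theorem N98427 : nd 98427 = n201539 := ndS (p := 61453) (l := 4) rfl N61453 D201539
theorem N98428 : nd 98428 = n201540 := ndS (p := 61453) (l := 6) rfl N61453 D201540
theorem N98429 : nd 98429 = n201541 := ndS (p := 61454) (l := 1) rfl N61454 D201541
theorem N98430 : nd 98430 = n201542 := ndS (p := 61454) (l := 3) rfl N61454 D201542
theorem N98431 : nd 98431 = n201543 := ndS (p := 61454) (l := 5) rfl N61454 D201543
theorem N98432 : nd 98432 = n201544 := ndS (p := 61455) (l := 4) rfl N61455 D201544
theorem N98433 : nd 98433 = n201545 := ndS (p := 61455) (l := 6) rfl N61455 D201545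
theorem N98434 : nd 98434 = n201546 := ndS (p := 61456) (l := 3) rfl N61456 D201546
theorem N98435 : nd 98435 = n201547 := ndS (p := 61456) (l := 5) rfl N61456 D201547
theorem N98436 : nd 98436 = n201548 := ndS (p := 61456) (l := 6) rfl N61456 D201548
theorem N98437 : nd 98437 = n201549 := ndS (p := 61457) (l := 0) rfl N61457 D201549
theorem N98438 : nd 98438 = n201550 := ndS (p := 61457) (l := 1) rfl N61457 D201550
theorem N98439 : nd 98439 = n201551 := ndS (p := 61457) (l := 7) rfl N61457 D201551
theorem N98440 : nd 98440 = n201552 := ndS (p := 61458) (l := 4) rfl N61458 D201552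
theorem N98441 : nd 98441 = n201553 := ndS (p := 61458) (l := 6) rfl N61458 D201553
theorem N98442 : nd 98442 = n201554 := ndS (p := 61459) (l := 3) rfl N61459 D201554
theorem N98443 : nd 98443 = n201555 := ndS (p := 61459) (l := 5) rfl N61459 D201555
theorem N98444 : nd 98444 = n201556 := ndS (p := 61460) (l := 0) rfl N61460 D201556
theorem N98445 : nd 98445 = n201557 := ndS (p := 61460) (l := 1) rfl N61460 D201557
theorem N98446 : nd 98446 = n201558 := ndS (p := 61460) (l := 7) rfl N61460 D201558
theorem N98447 : nd 98447 = n201559 := ndS (p := 61461) (l := 3) rfl N61461 D201559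
theorem N98448 : nd 98448 = n201560 := ndS (p := 61461) (l := 5) rfl N61461 D201560
theorem N98449 : nd 98449 = n201561 := ndS (p := 61462) (l := 0) rfl N61462 D201561
theorem N98450 : nd 98450 = n201562 := ndS (p := 61462) (l := 1) rfl N61462 D201562
theorem N98451 : nd 98451 = n201563 := ndS (p := 61462) (l := 7) rfl N61462 D201563
theorem N98452 : nd 98452 = n201564 := ndS (p := 61464) (l := 0) rfl N61464 D201564
theorem N98453 : nd 98453 = n201565 := ndS (p := 61464) (l := 1) rfl N61464 D201565
theorem N98454 : nd 98454 = n201566 := ndS (p := 61464) (l := 2) rfl N61464 D201566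
theorem N98455 : nd 98455 = n201567 := ndS (p := 61464) (l := 5) rfl N61464 D201567
theorem N98456 : nd 98456 = n201568 := ndS (p := 61465) (l := 6) rfl N61465 D201568
theorem N98457 : nd 98457 = n201569 := ndS (p := 61466) (l := 6) rfl N61466 D201569
theorem N98458 : nd 98458 = n201570 := ndS (p := 61467) (l := 1) rfl N61467 D201570
theorem N98459 : nd 98459 = n201571 := ndS (p := 61467) (l := 5) rfl N61467 D201571
theorem N98460 : nd 98460 = n201572 := ndS (p := 61468) (l := 5) rfl N61468 D201572
theorem N98461 : nd 98461 = n201573 := ndS (p := 61469) (l := 5) rfl N61469 D201573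
theorem N98462 : nd 98462 = n201574 := ndS (p := 61473) (l := 0) rfl N61473 D201574
theorem N98463 : nd 98463 = n201575 := ndS (p := 61473) (l := 1) rfl N61473 D201575
theorem N98464 : nd 98464 = n201576 := ndS (p := 61475) (l := 5) rfl N61475 D201576
theorem N98465 : nd 98465 = n201577 := ndS (p := 61475) (l := 6) rfl N61475 D201577
theorem N98466 : nd 98466 = n201578 := ndS (p := 61476) (l := 5) rfl N61476 D201578
theorem N98467 : nd 98467 = n201579 := ndS (p := 61477) (l := 1) rfl N61477 D201579
theorem N98468 : nd 98468 = n201580 := ndS (p := 61477) (l := 4) rfl N61477 D201580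
theorem N98469 : nd 98469 = n201581 := ndS (p := 61479) (l := 5) rfl N61479 D201581
theorem N98470 : nd 98470 = n201582 := ndS (p := 61480) (l := 4) rfl N61480 D201582
theorem N98471 : nd 98471 = n201583 := ndS (p := 61482) (l := 5) rfl N61482 D201583
theorem N98472 : nd 98472 = n201584 := ndS (p := 61482) (l := 6) rfl N61482 D201584
theorem N98473 : nd 98473 = n201585 := ndS (p := 61484) (l := 3) rfl N61484 D201585
theorem N98474 : nd 98474 = n201586 := ndS (p := 61484) (l := 6) rfl N61484 D201586
theorem N98475 : nd 98475 = n201587 := ndS (p := 61486) (l := 3) rfl N61486 D201587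
theorem N98476 : nd 98476 = n201588 := ndS (p := 61487) (l := 7) rfl N61487 D201588
theorem N98477 : nd 98477 = n201589 := ndS (p := 61490) (l := 1) rfl N61490 D201589
theorem N98478 : nd 98478 = n201590 := ndS (p := 61493) (l := 5) rfl N61493 D201590
theorem N98479 : nd 98479 = n201591 := ndS (p := 61496) (l := 1) rfl N61496 D201591
theorem N98480 : nd 98480 = n201592 := ndS (p := 61496) (l := 7) rfl N61496 D201592
theorem N98481 : nd 98481 = n201593 := ndS (p := 61497) (l := 7) rfl N61497 D201593
theorem N98482 : nd 98482 = n201594 := ndS (p := 61501) (l := 5) rfl N61501 D201594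
theorem N98483 : nd 98483 = n201595 := ndS (p := 61501) (l := 6) rfl N61501 D201595
theorem N98484 : nd 98484 = n201596 := ndS (p := 61502) (l := 5) rfl N61502 D201596
theorem N98485 : nd 98485 = n201597 := ndS (p := 61503) (l := 1) rfl N61503 D201597
theorem N98486 : nd 98486 = n201598 := ndS (p := 61503) (l := 4) rfl N61503 D201598
theorem N98487 : nd 98487 = n201599 := ndS (p := 61504) (l := 5) rfl N61504 D201599
theorem N98488 : nd 98488 = n201600 := ndS (p := 61505) (l := 0) rfl N61505 D201600
theorem N98489 : nd 98489 = n201601 := ndS (p := 61505) (l := 1) rfl N61505 D201601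
theorem N98490 : nd 98490 = n201602 := ndS (p := 61505) (l := 4) rfl N61505 D201602
theorem N98491 : nd 98491 = n201603 := ndS (p := 61505) (l := 6) rfl N61505 D201603
theorem N98492 : nd 98492 = n201604 := ndS (p := 61507) (l := 5) rfl N61507 D201604
theorem N98493 : nd 98493 = n201605 := ndS (p := 61508) (l := 4) rfl N61508 D201605
theorem N98494 : nd 98494 = n201606 := ndS (p := 61508) (l := 6) rfl N61508 D201606
theorem N98495 : nd 98495 = n201607 := ndS (p := 61509) (l := 4) rfl N61509 D201607
theorem N98496 : nd 98496 = n201608 := ndS (p := 61509) (l := 5) rfl N61509 D201608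
theorem N98497 : nd 98497 = n201609 := ndS (p := 61510) (l := 5) rfl N61510 D201609
theorem N98498 : nd 98498 = n201610 := ndS (p := 61511) (l := 0) rfl N61511 D201610
theorem N98499 : nd 98499 = n201611 := ndS (p := 61511) (l := 1) rfl N61511 D201611
theorem N98500 : nd 98500 = n201612 := ndS (p := 61511) (l := 3) rfl N61511 D201612
theorem N98501 : nd 98501 = n201613 := ndS (p := 61512) (l := 6) rfl N61512 D201613
theorem N98502 : nd 98502 = n201614 := ndS (p := 61513) (l := 4) rfl N61513 D201614
theorem N98503 : nd 98503 = n201615 := ndS (p := 61514) (l := 5) rfl N61514 D201615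
theorem N98504 : nd 98504 = n201616 := ndS (p := 61515) (l := 1) rfl N61515 D201616
theorem N98505 : nd 98505 = n201617 := ndS (p := 61515) (l := 6) rfl N61515 D201617
theorem N98506 : nd 98506 = n201619 := ndS (p := 61517) (l := 4) rfl N61517 D201619
theorem N98507 : nd 98507 = n201620 := ndS (p := 61518) (l := 0) rfl N61518 D201620
theorem N98508 : nd 98508 = n201621 := ndS (p := 61518) (l := 1) rfl N61518 D201621
theorem N98509 : nd 98509 = n201622 := ndS (p := 61518) (l := 6) rfl N61518 D201622
theorem N98510 : nd 98510 = n201623 := ndS (p := 61519) (l := 0) rfl N61519 D201623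
theorem N98511 : nd 98511 = n201624 := ndS (p := 61519) (l := 1) rfl N61519 D201624
theorem N98512 : nd 98512 = n201625 := ndS (p := 61519) (l := 7) rfl N61519 D201625
theorem N98513 : nd 98513 = n201626 := ndS (p := 61523) (l := 5) rfl N61523 D201626
theorem N98514 : nd 98514 = n201627 := ndS (p := 61523) (l := 6) rfl N61523 D201627
theorem N98515 : nd 98515 = n201628 := ndS (p := 61524) (l := 5) rfl N61524 D201628
theorem N98516 : nd 98516 = n201629 := ndS (p := 61524) (l := 6) rfl N61524 D201629
theorem N98517 : nd 98517 = n201630 := ndS (p := 61525) (l := 4) rfl N61525 D201630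
theorem N98518 : nd 98518 = n201631 := ndS (p := 61525) (l := 6) rfl N61525 D201631
theorem N98519 : nd 98519 = n201632 := ndS (p := 61526) (l := 0) rfl N61526 D201632
theorem N98520 : nd 98520 = n201633 := ndS (p := 61526) (l := 1) rfl N61526 D201633
theorem N98521 : nd 98521 = n201634 := ndS (p := 61526) (l := 7) rfl N61526 D201634
theorem N98522 : nd 98522 = n201635 := ndS (p := 61527) (l := 3) rfl N61527 D201635
theorem N98523 : nd 98523 = n201636 := ndS (p := 61527) (l := 6) rfl N61527 D201636
theorem N98524 : nd 98524 = n201637 := ndS (p := 61528) (l := 7) rfl N61528 D201637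
theorem N98525 : nd 98525 = n201638 := ndS (p := 61530) (l := 3) rfl N61530 D201638
theorem N98526 : nd 98526 = n201639 := ndS (p := 61532) (l := 4) rfl N61532 D201639
theorem N98527 : nd 98527 = n201640 := ndS (p := 61532) (l := 6) rfl N61532 D201640
theorem N98528 : nd 98528 = n201641 := ndS (p := 61533) (l := 3) rfl N61533 D201641
theorem N98529 : nd 98529 = n201642 := ndS (p := 61533) (l := 6) rfl N61533 D201642
theorem N98530 : nd 98530 = n201643 := ndS (p := 61534) (l := 7) rfl N61534 D201643
theorem N98531 : nd 98531 = n201644 := ndS (p := 61535) (l := 3) rfl N61535 D201644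
theorem N98532 : nd 98532 = n201645 := ndS (p := 61536) (l := 3) rfl N61536 D201645
theorem N98533 : nd 98533 = n201646 := ndS (p := 61537) (l := 0) rfl N61537 D201646
theorem N98534 : nd 98534 = n201647 := ndS (p := 61537) (l := 1) rfl N61537 D201647
theorem N98535 : nd 98535 = n201648 := ndS (p := 61537) (l := 2) rfl N61537 D201648
theorem N98536 : nd 98536 = n201649 := ndS (p := 61537) (l := 5) rfl N61537 D201649
theorem N98537 : nd 98537 = n201650 := ndS (p := 61537) (l := 7) rfl N61537 D201650
theorem N98538 : nd 98538 = n201651 := ndS (p := 61539) (l := 6) rfl N61539 D201651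
theorem N98539 : nd 98539 = n201652 := ndS (p := 61543) (l := 6) rfl N61543 D201652
theorem N98540 : nd 98540 = n201653 := ndS (p := 61544) (l := 1) rfl N61544 D201653
theorem N98541 : nd 98541 = n201654 := ndS (p := 61544) (l := 7) rfl N61544 D201654
theorem N98542 : nd 98542 = n201655 := ndS (p := 61546) (l := 0) rfl N61546 D201655
theorem N98543 : nd 98543 = n201656 := ndS (p := 61546) (l := 2) rfl N61546 D201656
theorem N98544 : nd 98544 = n201657 := ndS (p := 61548) (l := 5) rfl N61548 D201657
theorem N98545 : nd 98545 = n201658 := ndS (p := 61549) (l := 5) rfl N61549 D201658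
theorem N98546 : nd 98546 = n201659 := ndS (p := 61549) (l := 6) rfl N61549 D201659
theorem N98547 : nd 98547 = n201660 := ndS (p := 61551) (l := 0) rfl N61551 D201660
theorem N98548 : nd 98548 = n201661 := ndS (p := 61551) (l := 1) rfl N61551 D201661
theorem N98549 : nd 98549 = n201662 := ndS (p := 61551) (l := 6) rfl N61551 D201662
theorem N98550 : nd 98550 = n201663 := ndS (p := 61552) (l := 1) rfl N61552 D201663
theorem N98551 : nd 98551 = n201664 := ndS (p := 61552) (l := 7) rfl N61552 D201664
theorem N98552 : nd 98552 = n201665 := ndS (p := 61554) (l := 4) rfl N61554 D201665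
theorem N98553 : nd 98553 = n201666 := ndS (p := 61554) (l := 6) rfl N61554 D201666
theorem N98554 : nd 98554 = n201667 := ndS (p := 61557) (l := 5) rfl N61557 D201667
theorem N98555 : nd 98555 = n201668 := ndS (p := 61558) (l := 0) rfl N61558 D201668
theorem N98556 : nd 98556 = n201669 := ndS (p := 61558) (l := 1) rfl N61558 D201669
theorem N98557 : nd 98557 = n201670 := ndS (p := 61558) (l := 4) rfl N61558 D201670
theorem N98558 : nd 98558 = n201671 := ndS (p := 61558) (l := 6) rfl N61558 D201671
theorem N98559 : nd 98559 = n201672 := ndS (p := 61560) (l := 3) rfl N61560 D201672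
theorem N98560 : nd 98560 = n201673 := ndS (p := 61560) (l := 4) rfl N61560 D201673
theorem N98561 : nd 98561 = n201674 := ndS (p := 61561) (l := 3) rfl N61561 D201674
theorem N98562 : nd 98562 = n201675 := ndS (p := 61561) (l := 6) rfl N61561 D201675
theorem N98563 : nd 98563 = n201676 := ndS (p := 61562) (l := 1) rfl N61562 D201676
theorem N98564 : nd 98564 = n201677 := ndS (p := 61562) (l := 7) rfl N61562 D201677
theorem N98565 : nd 98565 = n201678 := ndS (p := 61565) (l := 4) rfl N61565 D201678
theorem N98566 : nd 98566 = n201679 := ndS (p := 61565) (l := 6) rfl N61565 D201679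
theorem N98567 : nd 98567 = n201680 := ndS (p := 61566) (l := 6) rfl N61566 D201680
theorem N98568 : nd 98568 = n201681 := ndS (p := 61571) (l := 3) rfl N61571 D201681
theorem N98569 : nd 98569 = n201682 := ndS (p := 61571) (l := 5) rfl N61571 D201682
theorem N98570 : nd 98570 = n201683 := ndS (p := 61572) (l := 0) rfl N61572 D201683
theorem N98571 : nd 98571 = n201684 := ndS (p := 61572) (l := 1) rfl N61572 D201684
theorem N98572 : nd 98572 = n201685 := ndS (p := 61572) (l := 2) rfl N61572 D201685
theorem N98573 : nd 98573 = n201686 := ndS (p := 61572) (l := 6) rfl N61572 D201686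
theorem N98574 : nd 98574 = n201687 := ndS (p := 61578) (l := 4) rfl N61578 D201687
theorem N98575 : nd 98575 = n201688 := ndS (p := 61579) (l := 5) rfl N61579 D201688
theorem N98576 : nd 98576 = n201689 := ndS (p := 61582) (l := 4) rfl N61582 D201689
theorem N98577 : nd 98577 = n201690 := ndS (p := 61583) (l := 1) rfl N61583 D201690
theorem N98578 : nd 98578 = n201691 := ndS (p := 61584) (l := 5) rfl N61584 D201691
theorem N98579 : nd 98579 = n201692 := ndS (p := 61585) (l := 0) rfl N61585 D201692
theorem N98580 : nd 98580 = n201693 := ndS (p := 61585) (l := 1) rfl N61585 D201693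
theorem N98581 : nd 98581 = n201694 := ndS (p := 61585) (l := 4) rfl N61585 D201694
theorem N98582 : nd 98582 = n201695 := ndS (p := 61585) (l := 7) rfl N61585 D201695
theorem N98583 : nd 98583 = n201696 := ndS (p := 61587) (l := 0) rfl N61587 D201696
theorem N98584 : nd 98584 = n201697 := ndS (p := 61587) (l := 4) rfl N61587 D201697
theorem N98585 : nd 98585 = n201698 := ndS (p := 61587) (l := 6) rfl N61587 D201698
theorem N98586 : nd 98586 = n201699 := ndS (p := 61589) (l := 3) rfl N61589 D201699
theorem N98587 : nd 98587 = n201700 := ndS (p := 61589) (l := 6) rfl N61589 D201700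
theorem N98588 : nd 98588 = n201701 := ndS (p := 61590) (l := 7) rfl N61590 D201701
theorem N98589 : nd 98589 = n201702 := ndS (p := 61591) (l := 5) rfl N61591 D201702
theorem N98590 : nd 98590 = n201703 := ndS (p := 61592) (l := 6) rfl N61592 D201703
theorem N98591 : nd 98591 = n201704 := ndS (p := 61594) (l := 1) rfl N61594 D201704
theorem N98592 : nd 98592 = n201705 := ndS (p := 61594) (l := 4) rfl N61594 D201705
theorem N98593 : nd 98593 = n201706 := ndS (p := 61597) (l := 3) rfl N61597 D201706
theorem N98594 : nd 98594 = n201707 := ndS (p := 61598) (l := 5) rfl N61598 D201707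
theorem N98595 : nd 98595 = n201708 := ndS (p := 61598) (l := 6) rfl N61598 D201708
theorem N98596 : nd 98596 = n201709 := ndS (p := 61599) (l := 0) rfl N61599 D201709
theorem N98597 : nd 98597 = n201710 := ndS (p := 61599) (l := 4) rfl N61599 D201710
theorem N98598 : nd 98598 = n201712 := ndS (p := 61601) (l := 3) rfl N61601 D201712
theorem N98599 : nd 98599 = n201713 := ndS (p := 61601) (l := 4) rfl N61601 D201713
theorem N98600 : nd 98600 = n201714 := ndS (p := 61601) (l := 6) rfl N61601 D201714
theorem N98601 : nd 98601 = n201715 := ndS (p := 61602) (l := 4) rfl N61602 D201715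
theorem N98602 : nd 98602 = n201716 := ndS (p := 61603) (l := 3) rfl N61603 D201716
theorem N98603 : nd 98603 = n201717 := ndS (p := 61603) (l := 5) rfl N61603 D201717
theorem N98604 : nd 98604 = n201718 := ndS (p := 61604) (l := 0) rfl N61604 D201718
theorem N98605 : nd 98605 = n201719 := ndS (p := 61604) (l := 1) rfl N61604 D201719
theorem N98606 : nd 98606 = n201720 := ndS (p := 61604) (l := 7) rfl N61604 D201720
theorem N98607 : nd 98607 = n201721 := ndS (p := 61606) (l := 0) rfl N61606 D201721
theorem N98608 : nd 98608 = n201722 := ndS (p := 61606) (l := 1) rfl N61606 D201722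
theorem N98609 : nd 98609 = n201723 := ndS (p := 61606) (l := 4) rfl N61606 D201723
theorem N98610 : nd 98610 = n201724 := ndS (p := 61608) (l := 6) rfl N61608 D201724
theorem N98611 : nd 98611 = n201725 := ndS (p := 61609) (l := 5) rfl N61609 D201725
theorem N98612 : nd 98612 = n201726 := ndS (p := 61613) (l := 3) rfl N61613 D201726
theorem N98613 : nd 98613 = n201727 := ndS (p := 61613) (l := 5) rfl N61613 D201727
theorem N98614 : nd 98614 = n201728 := ndS (p := 61613) (l := 6) rfl N61613 D201728
theorem N98615 : nd 98615 = n201729 := ndS (p := 61615) (l := 3) rfl N61615 D201729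
theorem N98616 : nd 98616 = n201730 := ndS (p := 61615) (l := 5) rfl N61615 D201730
theorem N98617 : nd 98617 = n201731 := ndS (p := 61615) (l := 6) rfl N61615 D201731
theorem N98618 : nd 98618 = n201732 := ndS (p := 61616) (l := 3) rfl N61616 D201732
theorem N98619 : nd 98619 = n201733 := ndS (p := 61616) (l := 5) rfl N61616 D201733
theorem N98620 : nd 98620 = n201734 := ndS (p := 61616) (l := 6) rfl N61616 D201734
theorem N98621 : nd 98621 = n201735 := ndS (p := 61617) (l := 0) rfl N61617 D201735
theorem N98622 : nd 98622 = n201737 := ndS (p := 61617) (l := 2) rfl N61617 D201737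
theorem N98623 : nd 98623 = n201738 := ndS (p := 61617) (l := 5) rfl N61617 D201738
theorem N98624 : nd 98624 = n201739 := ndS (p := 61618) (l := 0) rfl N61618 D201739
theorem N98625 : nd 98625 = n201740 := ndS (p := 61618) (l := 1) rfl N61618 D201740
theorem N98626 : nd 98626 = n201741 := ndS (p := 61618) (l := 6) rfl N61618 D201741
theorem N98627 : nd 98627 = n201742 := ndS (p := 61619) (l := 3) rfl N61619 D201742
theorem N98628 : nd 98628 = n201743 := ndS (p := 61620) (l := 3) rfl N61620 D201743
theorem N98629 : nd 98629 = n201744 := ndS (p := 61621) (l := 3) rfl N61621 D201744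
theorem N98630 : nd 98630 = n201745 := ndS (p := 61621) (l := 6) rfl N61621 D201745
theorem N98631 : nd 98631 = n201746 := ndS (p := 61622) (l := 1) rfl N61622 D201746
theorem N98632 : nd 98632 = n201747 := ndS (p := 61622) (l := 6) rfl N61622 D201747
theorem N98633 : nd 98633 = n201748 := ndS (p := 61623) (l := 1) rfl N61623 D201748
theorem N98634 : nd 98634 = n201749 := ndS (p := 61623) (l := 5) rfl N61623 D201749
theorem N98635 : nd 98635 = n201750 := ndS (p := 61623) (l := 7) rfl N61623 D201750
theorem N98636 : nd 98636 = n201751 := ndS (p := 61624) (l := 3) rfl N61624 D201751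
theorem N98637 : nd 98637 = n201752 := ndS (p := 61624) (l := 4) rfl N61624 D201752
theorem N98638 : nd 98638 = n201753 := ndS (p := 61624) (l := 5) rfl N61624 D201753
theorem N98639 : nd 98639 = n201754 := ndS (p := 61627) (l := 3) rfl N61627 D201754
theorem N98640 : nd 98640 = n201755 := ndS (p := 61627) (l := 5) rfl N61627 D201755
theorem N98641 : nd 98641 = n201757 := ndS (p := 61628) (l := 1) rfl N61628 D201757
theorem N98642 : nd 98642 = n201758 := ndS (p := 61628) (l := 7) rfl N61628 D201758
theorem N98643 : nd 98643 = n201759 := ndS (p := 61629) (l := 1) rfl N61629 D201759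
theorem N98644 : nd 98644 = n201760 := ndS (p := 61629) (l := 2) rfl N61629 D201760
theorem N98645 : nd 98645 = n201762 := ndS (p := 61630) (l := 0) rfl N61630 D201762
theorem N98646 : nd 98646 = n201763 := ndS (p := 61630) (l := 1) rfl N61630 D201763
theorem N98647 : nd 98647 = n201764 := ndS (p := 61630) (l := 7) rfl N61630 D201764
theorem N98648 : nd 98648 = n201765 := ndS (p := 61631) (l := 4) rfl N61631 D201765
theorem N98649 : nd 98649 = n201766 := ndS (p := 61631) (l := 6) rfl N61631 D201766
theorem N98650 : nd 98650 = n201767 := ndS (p := 61632) (l := 4) rfl N61632 D201767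
theorem N98651 : nd 98651 = n201768 := ndS (p := 61634) (l := 0) rfl N61634 D201768
theorem N98652 : nd 98652 = n201769 := ndS (p := 61634) (l := 1) rfl N61634 D201769
theorem N98653 : nd 98653 = n201770 := ndS (p := 61634) (l := 7) rfl N61634 D201770
theorem N98654 : nd 98654 = n201771 := ndS (p := 61635) (l := 6) rfl N61635 D201771
theorem N98655 : nd 98655 = n201772 := ndS (p := 61636) (l := 0) rfl N61636 D201772
theorem N98656 : nd 98656 = n201773 := ndS (p := 61636) (l := 1) rfl N61636 D201773
theorem N98657 : nd 98657 = n201774 := ndS (p := 61636) (l := 5) rfl N61636 D201774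
theorem N98658 : nd 98658 = n201775 := ndS (p := 61636) (l := 7) rfl N61636 D201775
theorem N98659 : nd 98659 = n201776 := ndS (p := 61637) (l := 3) rfl N61637 D201776
theorem N98660 : nd 98660 = n201777 := ndS (p := 61637) (l := 4) rfl N61637 D201777
theorem N98661 : nd 98661 = n201778 := ndS (p := 61637) (l := 5) rfl N61637 D201778
theorem N98662 : nd 98662 = n201780 := ndS (p := 61638) (l := 4) rfl N61638 D201780
theorem N98663 : nd 98663 = n201781 := ndS (p := 61638) (l := 5) rfl N61638 D201781
theorem N98664 : nd 98664 = n201782 := ndS (p := 61638) (l := 6) rfl N61638 D201782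
theorem N98665 : nd 98665 = n201783 := ndS (p := 61640) (l := 0) rfl N61640 D201783
theorem N98666 : nd 98666 = n201784 := ndS (p := 61640) (l := 1) rfl N61640 D201784
theorem N98667 : nd 98667 = n201785 := ndS (p := 61640) (l := 6) rfl N61640 D201785
theorem N98668 : nd 98668 = n201786 := ndS (p := 61641) (l := 0) rfl N61641 D201786
theorem N98669 : nd 98669 = n201787 := ndS (p := 61641) (l := 1) rfl N61641 D201787
theorem N98670 : nd 98670 = n201788 := ndS (p := 61641) (l := 5) rfl N61641 D201788
theorem N98671 : nd 98671 = n201789 := ndS (p := 61641) (l := 7) rfl N61641 D201789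
theorem N98672 : nd 98672 = n201791 := ndS (p := 61642) (l := 4) rfl N61642 D201791
theorem N98673 : nd 98673 = n201792 := ndS (p := 61642) (l := 5) rfl N61642 D201792
theorem N98674 : nd 98674 = n201793 := ndS (p := 61642) (l := 6) rfl N61642 D201793
theorem N98675 : nd 98675 = n201794 := ndS (p := 61643) (l := 4) rfl N61643 D201794
theorem N98676 : nd 98676 = n201795 := ndS (p := 61643) (l := 5) rfl N61643 D201795
theorem N98677 : nd 98677 = n201796 := ndS (p := 61647) (l := 0) rfl N61647 D201796
theorem N98678 : nd 98678 = n201797 := ndS (p := 61647) (l := 1) rfl N61647 D201797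
theorem N98679 : nd 98679 = n201798 := ndS (p := 61647) (l := 4) rfl N61647 D201798
theorem N98680 : nd 98680 = n201799 := ndS (p := 61647) (l := 6) rfl N61647 D201799
theorem N98681 : nd 98681 = n201801 := ndS (p := 61648) (l := 7) rfl N61648 D201801
theorem N98682 : nd 98682 = n201802 := ndS (p := 61649) (l := 3) rfl N61649 D201802
theorem N98683 : nd 98683 = n201803 := ndS (p := 61649) (l := 4) rfl N61649 D201803
theorem N98684 : nd 98684 = n201804 := ndS (p := 61649) (l := 5) rfl N61649 D201804
theorem N98685 : nd 98685 = n201805 := ndS (p := 61650) (l := 4) rfl N61650 D201805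
theorem N98686 : nd 98686 = n201806 := ndS (p := 61650) (l := 5) rfl N61650 D201806
theorem N98687 : nd 98687 = n201807 := ndS (p := 61651) (l := 5) rfl N61651 D201807
theorem N98688 : nd 98688 = n201808 := ndS (p := 61652) (l := 0) rfl N61652 D201808
theorem N98689 : nd 98689 = n201809 := ndS (p := 61652) (l := 1) rfl N61652 D201809
theorem N98690 : nd 98690 = n201810 := ndS (p := 61652) (l := 4) rfl N61652 D201810
theorem N98691 : nd 98691 = n201811 := ndS (p := 61652) (l := 6) rfl N61652 D201811
theorem N98692 : nd 98692 = n201812 := ndS (p := 61653) (l := 0) rfl N61653 D201812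
theorem N98693 : nd 98693 = n201813 := ndS (p := 61653) (l := 1) rfl N61653 D201813
theorem N98694 : nd 98694 = n201814 := ndS (p := 61654) (l := 6) rfl N61654 D201814
theorem N98695 : nd 98695 = n201815 := ndS (p := 61656) (l := 6) rfl N61656 D201815
theorem N98696 : nd 98696 = n201816 := ndS (p := 61657) (l := 7) rfl N61657 D201816
theorem N98697 : nd 98697 = n201817 := ndS (p := 61658) (l := 3) rfl N61658 D201817
theorem N98698 : nd 98698 = n201818 := ndS (p := 61658) (l := 4) rfl N61658 D201818
theorem N98699 : nd 98699 = n201819 := ndS (p := 61658) (l := 5) rfl N61658 D201819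
theorem N98700 : nd 98700 = n201820 := ndS (p := 61658) (l := 6) rfl N61658 D201820
theorem N98701 : nd 98701 = n201821 := ndS (p := 61659) (l := 4) rfl N61659 D201821
theorem N98702 : nd 98702 = n201822 := ndS (p := 61659) (l := 6) rfl N61659 D201822
theorem N98703 : nd 98703 = n201823 := ndS (p := 61663) (l := 1) rfl N61663 D201823
theorem N98704 : nd 98704 = n201824 := ndS (p := 61663) (l := 7) rfl N61663 D201824
theorem N98705 : nd 98705 = n201825 := ndS (p := 61664) (l := 2) rfl N61664 D201825
theorem N98706 : nd 98706 = n201826 := ndS (p := 61664) (l := 6) rfl N61664 D201826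
theorem N98707 : nd 98707 = n201827 := ndS (p := 61665) (l := 7) rfl N61665 D201827
theorem N98708 : nd 98708 = n201828 := ndS (p := 61666) (l := 4) rfl N61666 D201828
theorem N98709 : nd 98709 = n201829 := ndS (p := 61668) (l := 0) rfl N61668 D201829
theorem N98710 : nd 98710 = n201830 := ndS (p := 61668) (l := 1) rfl N61668 D201830
theorem N98711 : nd 98711 = n201831 := ndS (p := 61668) (l := 2) rfl N61668 D201831
theorem N98712 : nd 98712 = n201832 := ndS (p := 61669) (l := 1) rfl N61669 D201832
theorem N98713 : nd 98713 = n201833 := ndS (p := 61669) (l := 2) rfl N61669 D201833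
theorem N98714 : nd 98714 = n201834 := ndS (p := 61671) (l := 6) rfl N61671 D201834
theorem N98715 : nd 98715 = n201835 := ndS (p := 61673) (l := 3) rfl N61673 D201835
theorem N98716 : nd 98716 = n201836 := ndS (p := 61674) (l := 3) rfl N61674 D201836
theorem N98717 : nd 98717 = n201837 := ndS (p := 61674) (l := 6) rfl N61674 D201837
theorem N98718 : nd 98718 = n201838 := ndS (p := 61675) (l := 0) rfl N61675 D201838
theorem N98719 : nd 98719 = n201839 := ndS (p := 61675) (l := 1) rfl N61675 D201839
theorem N98720 : nd 98720 = n201840 := ndS (p := 61676) (l := 3) rfl N61676 D201840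
theorem N98721 : nd 98721 = n201841 := ndS (p := 61676) (l := 5) rfl N61676 D201841
theorem N98722 : nd 98722 = n201842 := ndS (p := 61677) (l := 6) rfl N61677 D201842
theorem N98723 : nd 98723 = n201843 := ndS (p := 61679) (l := 0) rfl N61679 D201843
theorem N98724 : nd 98724 = n201844 := ndS (p := 61679) (l := 5) rfl N61679 D201844
theorem N98725 : nd 98725 = n201845 := ndS (p := 61681) (l := 3) rfl N61681 D201845
theorem N98726 : nd 98726 = n201846 := ndS (p := 61681) (l := 6) rfl N61681 D201846
theorem N98727 : nd 98727 = n201847 := ndS (p := 61684) (l := 3) rfl N61684 D201847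
theorem N98728 : nd 98728 = n201848 := ndS (p := 61684) (l := 6) rfl N61684 D201848
theorem N98729 : nd 98729 = n201849 := ndS (p := 61687) (l := 4) rfl N61687 D201849
theorem N98730 : nd 98730 = n201850 := ndS (p := 61690) (l := 6) rfl N61690 D201850
theorem N98731 : nd 98731 = n201851 := ndS (p := 61693) (l := 4) rfl N61693 D201851
theorem N98732 : nd 98732 = n201852 := ndS (p := 61694) (l := 3) rfl N61694 D201852
theorem N98733 : nd 98733 = n201853 := ndS (p := 61694) (l := 5) rfl N61694 D201853
theorem N98734 : nd 98734 = n201854 := ndS (p := 61701) (l := 4) rfl N61701 D201854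
theorem N98735 : nd 98735 = n201855 := ndS (p := 61703) (l := 4) rfl N61703 D201855
theorem N98736 : nd 98736 = n201856 := ndS (p := 61706) (l := 7) rfl N61706 D201856
theorem N98737 : nd 98737 = n201857 := ndS (p := 61709) (l := 3) rfl N61709 D201857
theorem N98738 : nd 98738 = n201858 := ndS (p := 61709) (l := 6) rfl N61709 D201858
theorem N98739 : nd 98739 = n201859 := ndS (p := 61710) (l := 3) rfl N61710 D201859
theorem N98740 : nd 98740 = n201860 := ndS (p := 61710) (l := 6) rfl N61710 D201860
theorem N98741 : nd 98741 = n201861 := ndS (p := 61711) (l := 0) rfl N61711 D201861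
theorem N98742 : nd 98742 = n201862 := ndS (p := 61711) (l := 7) rfl N61711 D201862
theorem N98743 : nd 98743 = n201863 := ndS (p := 61712) (l := 6) rfl N61712 D201863
theorem N98744 : nd 98744 = n201864 := ndS (p := 61713) (l := 6) rfl N61713 D201864
theorem N98745 : nd 98745 = n201865 := ndS (p := 61714) (l := 5) rfl N61714 D201865
theorem N98746 : nd 98746 = n201866 := ndS (p := 61714) (l := 6) rfl N61714 D201866
theorem N98747 : nd 98747 = n201867 := ndS (p := 61715) (l := 1) rfl N61715 D201867
theorem N98748 : nd 98748 = n201868 := ndS (p := 61715) (l := 7) rfl N61715 D201868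
theorem N98749 : nd 98749 = n201869 := ndS (p := 61716) (l := 3) rfl N61716 D201869
theorem N98750 : nd 98750 = n201870 := ndS (p := 61716) (l := 5) rfl N61716 D201870
theorem N98751 : nd 98751 = n201871 := ndS (p := 61717) (l := 4) rfl N61717 D201871
theorem N98752 : nd 98752 = n201872 := ndS (p := 61717) (l := 5) rfl N61717 D201872
theorem N98753 : nd 98753 = n201873 := ndS (p := 61717) (l := 6) rfl N61717 D201873
theorem N98754 : nd 98754 = n201874 := ndS (p := 61721) (l := 6) rfl N61721 D201874
theorem N98755 : nd 98755 = n201875 := ndS (p := 61726) (l := 6) rfl N61726 D201875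
theorem N98756 : nd 98756 = n201876 := ndS (p := 61727) (l := 5) rfl N61727 D201876
theorem N98757 : nd 98757 = n201877 := ndS (p := 61736) (l := 0) rfl N61736 D201877
theorem N98758 : nd 98758 = n201878 := ndS (p := 61736) (l := 4) rfl N61736 D201878
theorem N98759 : nd 98759 = n201879 := ndS (p := 61740) (l := 4) rfl N61740 D201879
theorem N98760 : nd 98760 = n201880 := ndS (p := 61741) (l := 0) rfl N61741 D201880
theorem N98761 : nd 98761 = n201881 := ndS (p := 61741) (l := 7) rfl N61741 D201881
theorem N98762 : nd 98762 = n201882 := ndS (p := 61742) (l := 4) rfl N61742 D201882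
theorem N98763 : nd 98763 = n201883 := ndS (p := 61745) (l := 3) rfl N61745 D201883
theorem N98764 : nd 98764 = n201884 := ndS (p := 61745) (l := 5) rfl N61745 D201884
theorem N98765 : nd 98765 = n201885 := ndS (p := 61746) (l := 0) rfl N61746 D201885
theorem N98766 : nd 98766 = n201886 := ndS (p := 61749) (l := 5) rfl N61749 D201886
theorem N98767 : nd 98767 = n201887 := ndS (p := 61749) (l := 6) rfl N61749 D201887
theorem N98768 : nd 98768 = n201888 := ndS (p := 61751) (l := 1) rfl N61751 D201888
theorem N98769 : nd 98769 = n201889 := ndS (p := 61753) (l := 3) rfl N61753 D201889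
theorem N98770 : nd 98770 = n201890 := ndS (p := 61753) (l := 6) rfl N61753 D201890
theorem N98771 : nd 98771 = n201891 := ndS (p := 61756) (l := 0) rfl N61756 D201891
theorem N98772 : nd 98772 = n201892 := ndS (p := 61758) (l := 5) rfl N61758 D201892
theorem N98773 : nd 98773 = n201893 := ndS (p := 61762) (l := 4) rfl N61762 D201893
theorem N98774 : nd 98774 = n201894 := ndS (p := 61765) (l := 4) rfl N61765 D201894
theorem N98775 : nd 98775 = n201895 := ndS (p := 61766) (l := 3) rfl N61766 D201895
theorem N98776 : nd 98776 = n201896 := ndS (p := 61766) (l := 6) rfl N61766 D201896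
theorem N98777 : nd 98777 = n201897 := ndS (p := 61768) (l := 5) rfl N61768 D201897
theorem N98778 : nd 98778 = n201898 := ndS (p := 61769) (l := 3) rfl N61769 D201898
theorem N98779 : nd 98779 = n201899 := ndS (p := 61770) (l := 0) rfl N61770 D201899
theorem N98780 : nd 98780 = n201900 := ndS (p := 61770) (l := 1) rfl N61770 D201900
theorem N98781 : nd 98781 = n201901 := ndS (p := 61770) (l := 7) rfl N61770 D201901
theorem N98782 : nd 98782 = n201902 := ndS (p := 61772) (l := 3) rfl N61772 D201902
theorem N98783 : nd 98783 = n201903 := ndS (p := 61774) (l := 3) rfl N61774 D201903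
theorem N98784 : nd 98784 = n201904 := ndS (p := 61774) (l := 6) rfl N61774 D201904
theorem N98785 : nd 98785 = n201905 := ndS (p := 61775) (l := 6) rfl N61775 D201905
theorem N98786 : nd 98786 = n201906 := ndS (p := 61777) (l := 0) rfl N61777 D201906
theorem N98787 : nd 98787 = n201907 := ndS (p := 61777) (l := 5) rfl N61777 D201907
theorem N98788 : nd 98788 = n201908 := ndS (p := 61777) (l := 7) rfl N61777 D201908
theorem N98789 : nd 98789 = n201909 := ndS (p := 61778) (l := 0) rfl N61778 D201909
theorem N98790 : nd 98790 = n201910 := ndS (p := 61778) (l := 5) rfl N61778 D201910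
theorem N98791 : nd 98791 = n201911 := ndS (p := 61780) (l := 3) rfl N61780 D201911
theorem N98792 : nd 98792 = n201912 := ndS (p := 61784) (l := 5) rfl N61784 D201912
theorem N98793 : nd 98793 = n201913 := ndS (p := 61784) (l := 6) rfl N61784 D201913
theorem N98794 : nd 98794 = n201914 := ndS (p := 61785) (l := 3) rfl N61785 D201914
theorem N98795 : nd 98795 = n201915 := ndS (p := 61785) (l := 5) rfl N61785 D201915
theorem N98796 : nd 98796 = n201916 := ndS (p := 61787) (l := 1) rfl N61787 D201916
theorem N98797 : nd 98797 = n201917 := ndS (p := 61787) (l := 4) rfl N61787 D201917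
theorem N98798 : nd 98798 = n201918 := ndS (p := 61789) (l := 4) rfl N61789 D201918
theorem N98799 : nd 98799 = n201919 := ndS (p := 61790) (l := 3) rfl N61790 D201919
theorem N98800 : nd 98800 = n201920 := ndS (p := 61790) (l := 6) rfl N61790 D201920
theorem N98801 : nd 98801 = n201921 := ndS (p := 61791) (l := 6) rfl N61791 D201921
theorem N98802 : nd 98802 = n201922 := ndS (p := 61792) (l := 0) rfl N61792 D201922
theorem N98803 : nd 98803 = n201923 := ndS (p := 61792) (l := 1) rfl N61792 D201923
theorem N98804 : nd 98804 = n201924 := ndS (p := 61792) (l := 5) rfl N61792 D201924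
theorem N98805 : nd 98805 = n201925 := ndS (p := 61792) (l := 7) rfl N61792 D201925
theorem N98806 : nd 98806 = n201926 := ndS (p := 61793) (l := 0) rfl N61793 D201926
theorem N98807 : nd 98807 = n201927 := ndS (p := 61793) (l := 1) rfl N61793 D201927
theorem N98808 : nd 98808 = n201928 := ndS (p := 61793) (l := 5) rfl N61793 D201928
theorem N98809 : nd 98809 = n201929 := ndS (p := 61794) (l := 7) rfl N61794 D201929
theorem N98810 : nd 98810 = n201930 := ndS (p := 61796) (l := 6) rfl N61796 D201930
theorem N98811 : nd 98811 = n201931 := ndS (p := 61797) (l := 5) rfl N61797 D201931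
theorem N98812 : nd 98812 = n201932 := ndS (p := 61797) (l := 6) rfl N61797 D201932
theorem N98813 : nd 98813 = n201933 := ndS (p := 61798) (l := 1) rfl N61798 D201933
theorem N98814 : nd 98814 = n201934 := ndS (p := 61798) (l := 6) rfl N61798 D201934
theorem N98815 : nd 98815 = n201935 := ndS (p := 61799) (l := 0) rfl N61799 D201935
theorem N98816 : nd 98816 = n201936 := ndS (p := 61799) (l := 6) rfl N61799 D201936
theorem N98817 : nd 98817 = n201937 := ndS (p := 61800) (l := 4) rfl N61800 D201937
theorem N98818 : nd 98818 = n201938 := ndS (p := 61800) (l := 7) rfl N61800 D201938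
theorem N98819 : nd 98819 = n201939 := ndS (p := 61801) (l := 7) rfl N61801 D201939
theorem N98820 : nd 98820 = n201940 := ndS (p := 61803) (l := 5) rfl N61803 D201940
theorem N98821 : nd 98821 = n201941 := ndS (p := 61803) (l := 6) rfl N61803 D201941
theorem N98822 : nd 98822 = n201942 := ndS (p := 61805) (l := 6) rfl N61805 D201942
theorem N98823 : nd 98823 = n201943 := ndS (p := 61806) (l := 5) rfl N61806 D201943
theorem N98824 : nd 98824 = n201944 := ndS (p := 61808) (l := 3) rfl N61808 D201944
theorem N98825 : nd 98825 = n201945 := ndS (p := 61808) (l := 6) rfl N61808 D201945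
theorem N98826 : nd 98826 = n201946 := ndS (p := 61809) (l := 3) rfl N61809 D201946
theorem N98827 : nd 98827 = n201947 := ndS (p := 61809) (l := 6) rfl N61809 D201947
theorem N98828 : nd 98828 = n201948 := ndS (p := 61811) (l := 0) rfl N61811 D201948
theorem N98829 : nd 98829 = n201949 := ndS (p := 61811) (l := 1) rfl N61811 D201949
theorem N98830 : nd 98830 = n201950 := ndS (p := 61812) (l := 5) rfl N61812 D201950
theorem N98831 : nd 98831 = n201951 := ndS (p := 61813) (l := 2) rfl N61813 D201951
theorem N98832 : nd 98832 = n201952 := ndS (p := 61813) (l := 4) rfl N61813 D201952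
theorem N98833 : nd 98833 = n201953 := ndS (p := 61813) (l := 6) rfl N61813 D201953
theorem N98834 : nd 98834 = n201954 := ndS (p := 61814) (l := 0) rfl N61814 D201954
theorem N98835 : nd 98835 = n201955 := ndS (p := 61814) (l := 1) rfl N61814 D201955
theorem N98836 : nd 98836 = n201956 := ndS (p := 61814) (l := 5) rfl N61814 D201956
theorem N98837 : nd 98837 = n201957 := ndS (p := 61814) (l := 7) rfl N61814 D201957
theorem N98838 : nd 98838 = n201958 := ndS (p := 61815) (l := 6) rfl N61815 D201958
theorem N98839 : nd 98839 = n201959 := ndS (p := 61816) (l := 7) rfl N61816 D201959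
theorem N98840 : nd 98840 = n201960 := ndS (p := 61817) (l := 5) rfl N61817 D201960
theorem N98841 : nd 98841 = n201961 := ndS (p := 61818) (l := 5) rfl N61818 D201961
theorem N98842 : nd 98842 = n201962 := ndS (p := 61820) (l := 4) rfl N61820 D201962
theorem N98843 : nd 98843 = n201964 := ndS (p := 61821) (l := 3) rfl N61821 D201964
theorem N98844 : nd 98844 = n201965 := ndS (p := 61821) (l := 4) rfl N61821 D201965
theorem N98845 : nd 98845 = n201966 := ndS (p := 61821) (l := 6) rfl N61821 D201966
theorem N98846 : nd 98846 = n201967 := ndS (p := 61822) (l := 3) rfl N61822 D201967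
theorem N98847 : nd 98847 = n201968 := ndS (p := 61822) (l := 6) rfl N61822 D201968
theorem N98848 : nd 98848 = n201969 := ndS (p := 61823) (l := 6) rfl N61823 D201969
theorem N98849 : nd 98849 = n201970 := ndS (p := 61824) (l := 0) rfl N61824 D201970
theorem N98850 : nd 98850 = n201971 := ndS (p := 61824) (l := 1) rfl N61824 D201971
theorem N98851 : nd 98851 = n201972 := ndS (p := 61824) (l := 5) rfl N61824 D201972
theorem N98852 : nd 98852 = n201973 := ndS (p := 61825) (l := 4) rfl N61825 D201973
theorem N98853 : nd 98853 = n201974 := ndS (p := 61827) (l := 4) rfl N61827 D201974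
theorem N98854 : nd 98854 = n201975 := ndS (p := 61827) (l := 6) rfl N61827 D201975
theorem N98855 : nd 98855 = n201976 := ndS (p := 61828) (l := 4) rfl N61828 D201976
theorem N98856 : nd 98856 = n201977 := ndS (p := 61828) (l := 6) rfl N61828 D201977
theorem N98857 : nd 98857 = n201978 := ndS (p := 61829) (l := 5) rfl N61829 D201978
theorem N98858 : nd 98858 = n201979 := ndS (p := 61829) (l := 6) rfl N61829 D201979
theorem N98859 : nd 98859 = n201980 := ndS (p := 61830) (l := 6) rfl N61830 D201980
theorem N98860 : nd 98860 = n201981 := ndS (p := 61831) (l := 0) rfl N61831 D201981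
theorem N98861 : nd 98861 = n201982 := ndS (p := 61831) (l := 1) rfl N61831 D201982
theorem N98862 : nd 98862 = n201983 := ndS (p := 61831) (l := 7) rfl N61831 D201983
theorem N98863 : nd 98863 = n201984 := ndS (p := 61832) (l := 0) rfl N61832 D201984
theorem N98864 : nd 98864 = n201985 := ndS (p := 61832) (l := 1) rfl N61832 D201985
theorem N98865 : nd 98865 = n201986 := ndS (p := 61832) (l := 5) rfl N61832 D201986
theorem N98866 : nd 98866 = n201987 := ndS (p := 61833) (l := 6) rfl N61833 D201987
theorem N98867 : nd 98867 = n201988 := ndS (p := 61834) (l := 3) rfl N61834 D201988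
theorem N98868 : nd 98868 = n201989 := ndS (p := 61835) (l := 0) rfl N61835 D201989
theorem N98869 : nd 98869 = n201990 := ndS (p := 61835) (l := 7) rfl N61835 D201990
theorem N98870 : nd 98870 = n201991 := ndS (p := 61837) (l := 3) rfl N61837 D201991
theorem N98871 : nd 98871 = n201992 := ndS (p := 61838) (l := 3) rfl N61838 D201992
theorem N98872 : nd 98872 = n201993 := ndS (p := 61839) (l := 3) rfl N61839 D201993
theorem N98873 : nd 98873 = n201994 := ndS (p := 61841) (l := 6) rfl N61841 D201994
theorem N98874 : nd 98874 = n201995 := ndS (p := 61842) (l := 4) rfl N61842 D201995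
theorem N98875 : nd 98875 = n201996 := ndS (p := 61842) (l := 6) rfl N61842 D201996
theorem N98876 : nd 98876 = n201997 := ndS (p := 61843) (l := 0) rfl N61843 D201997
theorem N98877 : nd 98877 = n201998 := ndS (p := 61843) (l := 1) rfl N61843 D201998
theorem N98878 : nd 98878 = n201999 := ndS (p := 61843) (l := 5) rfl N61843 D201999
theorem N98879 : nd 98879 = n202000 := ndS (p := 61844) (l := 1) rfl N61844 D202000
theorem N98880 : nd 98880 = n202001 := ndS (p := 61844) (l := 5) rfl N61844 D202001
theorem N98881 : nd 98881 = n202002 := ndS (p := 61846) (l := 3) rfl N61846 D202002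
theorem N98882 : nd 98882 = n202003 := ndS (p := 61848) (l := 3) rfl N61848 D202003
theorem N98883 : nd 98883 = n202004 := ndS (p := 61848) (l := 4) rfl N61848 D202004
theorem N98884 : nd 98884 = n202005 := ndS (p := 61848) (l := 6) rfl N61848 D202005
theorem N98885 : nd 98885 = n202006 := ndS (p := 61849) (l := 3) rfl N61849 D202006
theorem N98886 : nd 98886 = n202008 := ndS (p := 61850) (l := 6) rfl N61850 D202008
theorem N98887 : nd 98887 = n202009 := ndS (p := 61851) (l := 4) rfl N61851 D202009
theorem N98888 : nd 98888 = n202010 := ndS (p := 61851) (l := 6) rfl N61851 D202010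
theorem N98889 : nd 98889 = n202011 := ndS (p := 61852) (l := 0) rfl N61852 D202011
theorem N98890 : nd 98890 = n202012 := ndS (p := 61852) (l := 1) rfl N61852 D202012
theorem N98891 : nd 98891 = n202013 := ndS (p := 61852) (l := 5) rfl N61852 D202013
theorem N98892 : nd 98892 = n202014 := ndS (p := 61852) (l := 7) rfl N61852 D202014
theorem N98893 : nd 98893 = n202015 := ndS (p := 61853) (l := 1) rfl N61853 D202015
theorem N98894 : nd 98894 = n202016 := ndS (p := 61853) (l := 5) rfl N61853 D202016
theorem N98895 : nd 98895 = n202017 := ndS (p := 61853) (l := 7) rfl N61853 D202017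
theorem N98896 : nd 98896 = n202018 := ndS (p := 61854) (l := 7) rfl N61854 D202018
theorem N98897 : nd 98897 = n202019 := ndS (p := 61856) (l := 5) rfl N61856 D202019
theorem N98898 : nd 98898 = n202020 := ndS (p := 61857) (l := 3) rfl N61857 D202020
theorem N98899 : nd 98899 = n202021 := ndS (p := 61857) (l := 5) rfl N61857 D202021
theorem N98900 : nd 98900 = n202022 := ndS (p := 61857) (l := 6) rfl N61857 D202022
theorem N98901 : nd 98901 = n202023 := ndS (p := 61858) (l := 5) rfl N61858 D202023
theorem N98902 : nd 98902 = n202024 := ndS (p := 61859) (l := 4) rfl N61859 D202024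
theorem N98903 : nd 98903 = n202025 := ndS (p := 61859) (l := 6) rfl N61859 D202025
theorem N98904 : nd 98904 = n202026 := ndS (p := 61860) (l := 5) rfl N61860 D202026
theorem N98905 : nd 98905 = n202027 := ndS (p := 61861) (l := 5) rfl N61861 D202027
theorem N98906 : nd 98906 = n202029 := ndS (p := 61863) (l := 1) rfl N61863 D202029
theorem N98907 : nd 98907 = n202030 := ndS (p := 61863) (l := 5) rfl N61863 D202030
theorem N98908 : nd 98908 = n202031 := ndS (p := 61864) (l := 1) rfl N61864 D202031
theorem N98909 : nd 98909 = n202032 := ndS (p := 61864) (l := 3) rfl N61864 D202032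
theorem N98910 : nd 98910 = n202033 := ndS (p := 61864) (l := 5) rfl N61864 D202033
theorem N98911 : nd 98911 = n202034 := ndS (p := 61864) (l := 6) rfl N61864 D202034
theorem N98912 : nd 98912 = n202035 := ndS (p := 61865) (l := 6) rfl N61865 D202035
theorem N98913 : nd 98913 = n202036 := ndS (p := 61866) (l := 0) rfl N61866 D202036
theorem N98914 : nd 98914 = n202038 := ndS (p := 61866) (l := 5) rfl N61866 D202038
theorem N98915 : nd 98915 = n202039 := ndS (p := 61866) (l := 7) rfl N61866 D202039
theorem N98916 : nd 98916 = n202040 := ndS (p := 61867) (l := 0) rfl N61867 D202040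
theorem N98917 : nd 98917 = n202041 := ndS (p := 61867) (l := 5) rfl N61867 D202041
theorem N98918 : nd 98918 = n202042 := ndS (p := 61867) (l := 6) rfl N61867 D202042
theorem N98919 : nd 98919 = n202043 := ndS (p := 61868) (l := 5) rfl N61868 D202043
theorem N98920 : nd 98920 = n202044 := ndS (p := 61869) (l := 4) rfl N61869 D202044
theorem N98921 : nd 98921 = n202045 := ndS (p := 61870) (l := 5) rfl N61870 D202045
theorem N98922 : nd 98922 = n202047 := ndS (p := 61872) (l := 0) rfl N61872 D202047
theorem N98923 : nd 98923 = n202048 := ndS (p := 61872) (l := 1) rfl N61872 D202048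
theorem N98924 : nd 98924 = n202049 := ndS (p := 61872) (l := 5) rfl N61872 D202049
theorem N98925 : nd 98925 = n202050 := ndS (p := 61872) (l := 7) rfl N61872 D202050
theorem N98926 : nd 98926 = n202051 := ndS (p := 61873) (l := 3) rfl N61873 D202051
theorem N98927 : nd 98927 = n202052 := ndS (p := 61874) (l := 3) rfl N61874 D202052
theorem N98928 : nd 98928 = n202053 := ndS (p := 61874) (l := 4) rfl N61874 D202053
theorem N98929 : nd 98929 = n202054 := ndS (p := 61875) (l := 0) rfl N61875 D202054
theorem N98930 : nd 98930 = n202055 := ndS (p := 61875) (l := 1) rfl N61875 D202055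
theorem N98931 : nd 98931 = n202056 := ndS (p := 61875) (l := 5) rfl N61875 D202056
theorem N98932 : nd 98932 = n202058 := ndS (p := 61876) (l := 3) rfl N61876 D202058
theorem N98933 : nd 98933 = n202059 := ndS (p := 61876) (l := 4) rfl N61876 D202059
theorem N98934 : nd 98934 = n202060 := ndS (p := 61876) (l := 5) rfl N61876 D202060
theorem N98935 : nd 98935 = n202063 := ndS (p := 61877) (l := 3) rfl N61877 D202063
theorem N98936 : nd 98936 = n202064 := ndS (p := 61877) (l := 4) rfl N61877 D202064
theorem N98937 : nd 98937 = n202065 := ndS (p := 61877) (l := 5) rfl N61877 D202065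
theorem N98938 : nd 98938 = n202066 := ndS (p := 61877) (l := 6) rfl N61877 D202066
theorem N98939 : nd 98939 = n202067 := ndS (p := 61878) (l := 0) rfl N61878 D202067
theorem N98940 : nd 98940 = n202068 := ndS (p := 61878) (l := 1) rfl N61878 D202068
theorem N98941 : nd 98941 = n202069 := ndS (p := 61878) (l := 4) rfl N61878 D202069
theorem N98942 : nd 98942 = n202070 := ndS (p := 61878) (l := 7) rfl N61878 D202070
theorem N98943 : nd 98943 = n202071 := ndS (p := 61882) (l := 2) rfl N61882 D202071
theorem N98944 : nd 98944 = n202072 := ndS (p := 61883) (l := 1) rfl N61883 D202072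
theorem N98945 : nd 98945 = n202073 := ndS (p := 61883) (l := 7) rfl N61883 D202073
theorem N98946 : nd 98946 = n202074 := ndS (p := 61884) (l := 4) rfl N61884 D202074
theorem N98947 : nd 98947 = n202075 := ndS (p := 61884) (l := 5) rfl N61884 D202075
theorem N98948 : nd 98948 = n202076 := ndS (p := 61885) (l := 3) rfl N61885 D202076
theorem N98949 : nd 98949 = n202077 := ndS (p := 61885) (l := 4) rfl N61885 D202077
theorem N98950 : nd 98950 = n202078 := ndS (p := 61885) (l := 5) rfl N61885 D202078
theorem N98951 : nd 98951 = n202079 := ndS (p := 61885) (l := 6) rfl N61885 D202079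
theorem N98952 : nd 98952 = n202080 := ndS (p := 61886) (l := 0) rfl N61886 D202080
theorem N98953 : nd 98953 = n202081 := ndS (p := 61886) (l := 1) rfl N61886 D202081
theorem N98954 : nd 98954 = n202082 := ndS (p := 61886) (l := 4) rfl N61886 D202082
theorem N98955 : nd 98955 = n202083 := ndS (p := 61886) (l := 7) rfl N61886 D202083
theorem N98956 : nd 98956 = n202084 := ndS (p := 61888) (l := 2) rfl N61888 D202084
theorem N98957 : nd 98957 = n202085 := ndS (p := 61888) (l := 5) rfl N61888 D202085
theorem N98958 : nd 98958 = n202086 := ndS (p := 61889) (l := 4) rfl N61889 D202086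
theorem N98959 : nd 98959 = n202088 := ndS (p := 61890) (l := 1) rfl N61890 D202088
theorem N98960 : nd 98960 = n202089 := ndS (p := 61890) (l := 2) rfl N61890 D202089
theorem N98961 : nd 98961 = n202090 := ndS (p := 61890) (l := 5) rfl N61890 D202090
theorem N98962 : nd 98962 = n202091 := ndS (p := 61890) (l := 6) rfl N61890 D202091
theorem N98963 : nd 98963 = n202092 := ndS (p := 61891) (l := 4) rfl N61891 D202092
theorem N98964 : nd 98964 = n202093 := ndS (p := 61891) (l := 6) rfl N61891 D202093
theorem N98965 : nd 98965 = n202094 := ndS (p := 61892) (l := 5) rfl N61892 D202094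
theorem N98966 : nd 98966 = n202095 := ndS (p := 61893) (l := 3) rfl N61893 D202095
theorem N98967 : nd 98967 = n202096 := ndS (p := 61893) (l := 4) rfl N61893 D202096
theorem N98968 : nd 98968 = n202097 := ndS (p := 61893) (l := 6) rfl N61893 D202097
theorem N98969 : nd 98969 = n202098 := ndS (p := 61894) (l := 3) rfl N61894 D202098
theorem N98970 : nd 98970 = n202099 := ndS (p := 61894) (l := 4) rfl N61894 D202099
theorem N98971 : nd 98971 = n202100 := ndS (p := 61894) (l := 6) rfl N61894 D202100
theorem N98972 : nd 98972 = n202101 := ndS (p := 61895) (l := 0) rfl N61895 D202101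
theorem N98973 : nd 98973 = n202102 := ndS (p := 61895) (l := 1) rfl N61895 D202102
theorem N98974 : nd 98974 = n202103 := ndS (p := 61895) (l := 3) rfl N61895 D202103
theorem N98975 : nd 98975 = n202104 := ndS (p := 61895) (l := 5) rfl N61895 D202104
theorem N98976 : nd 98976 = n202105 := ndS (p := 61895) (l := 7) rfl N61895 D202105
theorem N98977 : nd 98977 = n202106 := ndS (p := 61896) (l := 6) rfl N61896 D202106
theorem N98978 : nd 98978 = n202107 := ndS (p := 61897) (l := 5) rfl N61897 D202107
theorem N98979 : nd 98979 = n202108 := ndS (p := 61898) (l := 0) rfl N61898 D202108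
theorem N98980 : nd 98980 = n202109 := ndS (p := 61898) (l := 5) rfl N61898 D202109
theorem N98981 : nd 98981 = n202110 := ndS (p := 61899) (l := 1) rfl N61899 D202110
theorem N98982 : nd 98982 = n202111 := ndS (p := 61900) (l := 4) rfl N61900 D202111
theorem N98983 : nd 98983 = n202112 := ndS (p := 61900) (l := 6) rfl N61900 D202112
theorem N98984 : nd 98984 = n202113 := ndS (p := 61901) (l := 0) rfl N61901 D202113
theorem N98985 : nd 98985 = n202114 := ndS (p := 61901) (l := 5) rfl N61901 D202114
theorem N98986 : nd 98986 = n202115 := ndS (p := 61902) (l := 3) rfl N61902 D202115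
theorem N98987 : nd 98987 = n202116 := ndS (p := 61902) (l := 5) rfl N61902 D202116
theorem N98988 : nd 98988 = n202117 := ndS (p := 61902) (l := 6) rfl N61902 D202117
theorem N98989 : nd 98989 = n202118 := ndS (p := 61904) (l := 3) rfl N61904 D202118
theorem N98990 : nd 98990 = n202119 := ndS (p := 61904) (l := 6) rfl N61904 D202119
theorem N98991 : nd 98991 = n202120 := ndS (p := 61905) (l := 0) rfl N61905 D202120
theorem N98992 : nd 98992 = n202121 := ndS (p := 61905) (l := 1) rfl N61905 D202121
theorem N98993 : nd 98993 = n202122 := ndS (p := 61905) (l := 2) rfl N61905 D202122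
theorem N98994 : nd 98994 = n202123 := ndS (p := 61905) (l := 5) rfl N61905 D202123
theorem N98995 : nd 98995 = n202124 := ndS (p := 61905) (l := 7) rfl N61905 D202124
theorem N98996 : nd 98996 = n202125 := ndS (p := 61906) (l := 4) rfl N61906 D202125
theorem N98997 : nd 98997 = n202126 := ndS (p := 61906) (l := 6) rfl N61906 D202126
theorem N98998 : nd 98998 = n202127 := ndS (p := 61908) (l := 2) rfl N61908 D202127
theorem N98999 : nd 98999 = n202128 := ndS (p := 61908) (l := 6) rfl N61908 D202128
theorem N99000 : nd 99000 = n202129 := ndS (p := 61912) (l := 5) rfl N61912 D202129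
theorem N99001 : nd 99001 = n202130 := ndS (p := 61913) (l := 6) rfl N61913 D202130
theorem N99002 : nd 99002 = n202131 := ndS (p := 61915) (l := 1) rfl N61915 D202131
theorem N99003 : nd 99003 = n202132 := ndS (p := 61915) (l := 6) rfl N61915 D202132
theorem N99004 : nd 99004 = n202133 := ndS (p := 61916) (l := 6) rfl N61916 D202133
theorem N99005 : nd 99005 = n202134 := ndS (p := 61918) (l := 5) rfl N61918 D202134
theorem N99006 : nd 99006 = n202136 := ndS (p := 61919) (l := 6) rfl N61919 D202136
theorem N99007 : nd 99007 = n202137 := ndS (p := 61920) (l := 4) rfl N61920 D202137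
theorem N99008 : nd 99008 = n202138 := ndS (p := 61920) (l := 6) rfl N61920 D202138
theorem N99009 : nd 99009 = n202139 := ndS (p := 61921) (l := 1) rfl N61921 D202139
theorem N99010 : nd 99010 = n202140 := ndS (p := 61921) (l := 5) rfl N61921 D202140
theorem N99011 : nd 99011 = n202141 := ndS (p := 61921) (l := 7) rfl N61921 D202141
theorem N99012 : nd 99012 = n202142 := ndS (p := 61922) (l := 4) rfl N61922 D202142
theorem N99013 : nd 99013 = n202143 := ndS (p := 61922) (l := 6) rfl N61922 D202143
theorem N99014 : nd 99014 = n202144 := ndS (p := 61923) (l := 0) rfl N61923 D202144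
theorem N99015 : nd 99015 = n202145 := ndS (p := 61923) (l := 5) rfl N61923 D202145
theorem N99016 : nd 99016 = n202146 := ndS (p := 61923) (l := 7) rfl N61923 D202146
theorem N99017 : nd 99017 = n202147 := ndS (p := 61925) (l := 3) rfl N61925 D202147
theorem N99018 : nd 99018 = n202148 := ndS (p := 61925) (l := 4) rfl N61925 D202148
theorem N99019 : nd 99019 = n202149 := ndS (p := 61925) (l := 6) rfl N61925 D202149
theorem N99020 : nd 99020 = n202150 := ndS (p := 61926) (l := 0) rfl N61926 D202150
theorem N99021 : nd 99021 = n202151 := ndS (p := 61926) (l := 1) rfl N61926 D202151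
theorem N99022 : nd 99022 = n202152 := ndS (p := 61926) (l := 5) rfl N61926 D202152
theorem N99023 : nd 99023 = n202153 := ndS (p := 61927) (l := 0) rfl N61927 D202153
theorem N99024 : nd 99024 = n202154 := ndS (p := 61927) (l := 1) rfl N61927 D202154
theorem N99025 : nd 99025 = n202155 := ndS (p := 61927) (l := 5) rfl N61927 D202155
theorem N99026 : nd 99026 = n202156 := ndS (p := 61927) (l := 7) rfl N61927 D202156
theorem N99027 : nd 99027 = n202157 := ndS (p := 61928) (l := 3) rfl N61928 D202157
theorem N99028 : nd 99028 = n202158 := ndS (p := 61928) (l := 4) rfl N61928 D202158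
theorem N99029 : nd 99029 = n202159 := ndS (p := 61928) (l := 5) rfl N61928 D202159
theorem N99030 : nd 99030 = n202160 := ndS (p := 61928) (l := 6) rfl N61928 D202160
theorem N99031 : nd 99031 = n202161 := ndS (p := 61930) (l := 0) rfl N61930 D202161
theorem N99032 : nd 99032 = n202162 := ndS (p := 61930) (l := 1) rfl N61930 D202162
theorem N99033 : nd 99033 = n202163 := ndS (p := 61930) (l := 4) rfl N61930 D202163
theorem N99034 : nd 99034 = n202164 := ndS (p := 61930) (l := 7) rfl N61930 D202164
theorem N99035 : nd 99035 = n202165 := ndS (p := 61932) (l := 5) rfl N61932 D202165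
theorem N99036 : nd 99036 = n202166 := ndS (p := 61932) (l := 6) rfl N61932 D202166
theorem N99037 : nd 99037 = n202167 := ndS (p := 61933) (l := 3) rfl N61933 D202167
theorem N99038 : nd 99038 = n202168 := ndS (p := 61933) (l := 4) rfl N61933 D202168
theorem N99039 : nd 99039 = n202169 := ndS (p := 61936) (l := 0) rfl N61936 D202169
theorem N99040 : nd 99040 = n202172 := ndS (p := 61939) (l := 1) rfl N61939 D202172
theorem N99041 : nd 99041 = n202173 := ndS (p := 61939) (l := 2) rfl N61939 D202173
theorem N99042 : nd 99042 = n202174 := ndS (p := 61939) (l := 5) rfl N61939 D202174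
theorem N99043 : nd 99043 = n202175 := ndS (p := 61941) (l := 3) rfl N61941 D202175
theorem N99044 : nd 99044 = n202176 := ndS (p := 61942) (l := 3) rfl N61942 D202176
theorem N99045 : nd 99045 = n202177 := ndS (p := 61942) (l := 4) rfl N61942 D202177
theorem N99046 : nd 99046 = n202178 := ndS (p := 61943) (l := 3) rfl N61943 D202178
theorem N99047 : nd 99047 = n202179 := ndS (p := 61943) (l := 7) rfl N61943 D202179
theorem N99048 : nd 99048 = n202180 := ndS (p := 61944) (l := 6) rfl N61944 D202180
theorem N99049 : nd 99049 = n202181 := ndS (p := 61945) (l := 5) rfl N61945 D202181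
theorem N99050 : nd 99050 = n202182 := ndS (p := 61947) (l := 1) rfl N61947 D202182
theorem N99051 : nd 99051 = n202183 := ndS (p := 61947) (l := 5) rfl N61947 D202183
theorem N99052 : nd 99052 = n202184 := ndS (p := 61949) (l := 3) rfl N61949 D202184
theorem N99053 : nd 99053 = n202185 := ndS (p := 61949) (l := 6) rfl N61949 D202185
theorem N99054 : nd 99054 = n202186 := ndS (p := 61951) (l := 6) rfl N61951 D202186
theorem N99055 : nd 99055 = n202187 := ndS (p := 61952) (l := 0) rfl N61952 D202187
theorem N99056 : nd 99056 = n202188 := ndS (p := 61952) (l := 1) rfl N61952 D202188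
theorem N99057 : nd 99057 = n202189 := ndS (p := 61952) (l := 7) rfl N61952 D202189
theorem N99058 : nd 99058 = n202190 := ndS (p := 61953) (l := 6) rfl N61953 D202190
theorem N99059 : nd 99059 = n202191 := ndS (p := 61956) (l := 4) rfl N61956 D202191
theorem N99060 : nd 99060 = n202192 := ndS (p := 61958) (l := 5) rfl N61958 D202192
theorem N99061 : nd 99061 = n202193 := ndS (p := 61961) (l := 0) rfl N61961 D202193
theorem N99062 : nd 99062 = n202194 := ndS (p := 61961) (l := 1) rfl N61961 D202194
theorem N99063 : nd 99063 = n202195 := ndS (p := 61962) (l := 0) rfl N61962 D202195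
theorem N99064 : nd 99064 = n202196 := ndS (p := 61962) (l := 1) rfl N61962 D202196
theorem N99065 : nd 99065 = n202197 := ndS (p := 61964) (l := 6) rfl N61964 D202197
theorem N99066 : nd 99066 = n202198 := ndS (p := 61966) (l := 6) rfl N61966 D202198
theorem N99067 : nd 99067 = n202199 := ndS (p := 61967) (l := 3) rfl N61967 D202199
theorem N99068 : nd 99068 = n202200 := ndS (p := 61967) (l := 5) rfl N61967 D202200
theorem N99069 : nd 99069 = n202201 := ndS (p := 61967) (l := 6) rfl N61967 D202201
theorem N99070 : nd 99070 = n202202 := ndS (p := 61968) (l := 0) rfl N61968 D202202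
theorem N99071 : nd 99071 = n202203 := ndS (p := 61972) (l := 0) rfl N61972 D202203
theorem N99072 : nd 99072 = n202204 := ndS (p := 61973) (l := 3) rfl N61973 D202204
theorem N99073 : nd 99073 = n202205 := ndS (p := 61974) (l := 6) rfl N61974 D202205
theorem N99074 : nd 99074 = n202206 := ndS (p := 61975) (l := 4) rfl N61975 D202206
theorem N99075 : nd 99075 = n202207 := ndS (p := 61975) (l := 6) rfl N61975 D202207
theorem N99076 : nd 99076 = n202208 := ndS (p := 61976) (l := 4) rfl N61976 D202208
theorem N99077 : nd 99077 = n202209 := ndS (p := 61976) (l := 6) rfl N61976 D202209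
theorem N99078 : nd 99078 = n202210 := ndS (p := 61978) (l := 5) rfl N61978 D202210
theorem N99079 : nd 99079 = n202211 := ndS (p := 61979) (l := 6) rfl N61979 D202211
theorem N99080 : nd 99080 = n202212 := ndS (p := 61980) (l := 0) rfl N61980 D202212
theorem N99081 : nd 99081 = n202213 := ndS (p := 61980) (l := 1) rfl N61980 D202213
theorem N99082 : nd 99082 = n202214 := ndS (p := 61980) (l := 5) rfl N61980 D202214
theorem N99083 : nd 99083 = n202215 := ndS (p := 61980) (l := 7) rfl N61980 D202215
theorem N99084 : nd 99084 = n202216 := ndS (p := 61981) (l := 5) rfl N61981 D202216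
theorem N99085 : nd 99085 = n202217 := ndS (p := 61982) (l := 1) rfl N61982 D202217
theorem N99086 : nd 99086 = n202218 := ndS (p := 61982) (l := 7) rfl N61982 D202218
theorem N99087 : nd 99087 = n202219 := ndS (p := 61984) (l := 2) rfl N61984 D202219
theorem N99088 : nd 99088 = n202220 := ndS (p := 61985) (l := 0) rfl N61985 D202220
theorem N99089 : nd 99089 = n202221 := ndS (p := 61985) (l := 1) rfl N61985 D202221
theorem N99090 : nd 99090 = n202222 := ndS (p := 61985) (l := 6) rfl N61985 D202222
theorem N99091 : nd 99091 = n202223 := ndS (p := 61987) (l := 6) rfl N61987 D202223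
theorem N99092 : nd 99092 = n202224 := ndS (p := 61989) (l := 6) rfl N61989 D202224
theorem N99093 : nd 99093 = n202225 := ndS (p := 61991) (l := 5) rfl N61991 D202225
theorem N99094 : nd 99094 = n202226 := ndS (p := 61991) (l := 7) rfl N61991 D202226
theorem N99095 : nd 99095 = n202227 := ndS (p := 61992) (l := 6) rfl N61992 D202227
theorem N99096 : nd 99096 = n202228 := ndS (p := 61993) (l := 5) rfl N61993 D202228
theorem N99097 : nd 99097 = n202229 := ndS (p := 61994) (l := 6) rfl N61994 D202229
theorem N99098 : nd 99098 = n202230 := ndS (p := 61996) (l := 1) rfl N61996 D202230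
theorem N99099 : nd 99099 = n202231 := ndS (p := 61996) (l := 2) rfl N61996 D202231
theorem N99100 : nd 99100 = n202232 := ndS (p := 61996) (l := 5) rfl N61996 D202232
theorem N99101 : nd 99101 = n202233 := ndS (p := 61996) (l := 6) rfl N61996 D202233
theorem N99102 : nd 99102 = n202234 := ndS (p := 61997) (l := 4) rfl N61997 D202234
theorem N99103 : nd 99103 = n202235 := ndS (p := 61997) (l := 6) rfl N61997 D202235
theorem N99104 : nd 99104 = n202236 := ndS (p := 61998) (l := 0) rfl N61998 D202236
theorem N99105 : nd 99105 = n202237 := ndS (p := 61999) (l := 5) rfl N61999 D202237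
theorem N99106 : nd 99106 = n202238 := ndS (p := 62000) (l := 3) rfl N62000 D202238
theorem N99107 : nd 99107 = n202239 := ndS (p := 62000) (l := 5) rfl N62000 D202239
theorem N99108 : nd 99108 = n202240 := ndS (p := 62002) (l := 4) rfl N62002 D202240
theorem N99109 : nd 99109 = n202241 := ndS (p := 62002) (l := 6) rfl N62002 D202241
theorem N99110 : nd 99110 = n202242 := ndS (p := 62004) (l := 1) rfl N62004 D202242
theorem N99111 : nd 99111 = n202243 := ndS (p := 62004) (l := 5) rfl N62004 D202243
theorem N99112 : nd 99112 = n202244 := ndS (p := 62005) (l := 4) rfl N62005 D202244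
theorem N99113 : nd 99113 = n202245 := ndS (p := 62006) (l := 0) rfl N62006 D202245
theorem N99114 : nd 99114 = n202246 := ndS (p := 62006) (l := 1) rfl N62006 D202246
theorem N99115 : nd 99115 = n202247 := ndS (p := 62006) (l := 5) rfl N62006 D202247
theorem N99116 : nd 99116 = n202248 := ndS (p := 62006) (l := 7) rfl N62006 D202248
theorem N99117 : nd 99117 = n202249 := ndS (p := 62007) (l := 4) rfl N62007 D202249
theorem N99118 : nd 99118 = n202250 := ndS (p := 62008) (l := 5) rfl N62008 D202250
theorem N99119 : nd 99119 = n202251 := ndS (p := 62008) (l := 6) rfl N62008 D202251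
theorem N99120 : nd 99120 = n202252 := ndS (p := 62009) (l := 1) rfl N62009 D202252
theorem N99121 : nd 99121 = n202253 := ndS (p := 62009) (l := 5) rfl N62009 D202253
theorem N99122 : nd 99122 = n202254 := ndS (p := 62010) (l := 3) rfl N62010 D202254
theorem N99123 : nd 99123 = n202255 := ndS (p := 62010) (l := 5) rfl N62010 D202255
theorem N99124 : nd 99124 = n202256 := ndS (p := 62010) (l := 6) rfl N62010 D202256
theorem N99125 : nd 99125 = n202257 := ndS (p := 62011) (l := 5) rfl N62011 D202257
theorem N99126 : nd 99126 = n202258 := ndS (p := 62011) (l := 6) rfl N62011 D202258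
theorem N99127 : nd 99127 = n202259 := ndS (p := 62012) (l := 0) rfl N62012 D202259
theorem N99128 : nd 99128 = n202260 := ndS (p := 62012) (l := 1) rfl N62012 D202260
theorem N99129 : nd 99129 = n202261 := ndS (p := 62012) (l := 7) rfl N62012 D202261
theorem N99130 : nd 99130 = n202262 := ndS (p := 62014) (l := 5) rfl N62014 D202262
theorem N99131 : nd 99131 = n202263 := ndS (p := 62014) (l := 6) rfl N62014 D202263
theorem N99132 : nd 99132 = n202264 := ndS (p := 62015) (l := 5) rfl N62015 D202264
theorem N99133 : nd 99133 = n202265 := ndS (p := 62015) (l := 6) rfl N62015 D202265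
theorem N99134 : nd 99134 = n202266 := ndS (p := 62016) (l := 0) rfl N62016 D202266
theorem N99135 : nd 99135 = n202267 := ndS (p := 62016) (l := 1) rfl N62016 D202267
theorem N99136 : nd 99136 = n202268 := ndS (p := 62016) (l := 4) rfl N62016 D202268
theorem N99137 : nd 99137 = n202269 := ndS (p := 62016) (l := 7) rfl N62016 D202269
theorem N99138 : nd 99138 = n202270 := ndS (p := 62018) (l := 5) rfl N62018 D202270
theorem N99139 : nd 99139 = n202272 := ndS (p := 62019) (l := 6) rfl N62019 D202272
theorem N99140 : nd 99140 = n202273 := ndS (p := 62021) (l := 5) rfl N62021 D202273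
theorem N99141 : nd 99141 = n202274 := ndS (p := 62022) (l := 6) rfl N62022 D202274
theorem N99142 : nd 99142 = n202275 := ndS (p := 62023) (l := 3) rfl N62023 D202275
theorem N99143 : nd 99143 = n202276 := ndS (p := 62023) (l := 6) rfl N62023 D202276
theorem N99144 : nd 99144 = n202277 := ndS (p := 62025) (l := 6) rfl N62025 D202277
theorem N99145 : nd 99145 = n202278 := ndS (p := 62026) (l := 0) rfl N62026 D202278
theorem N99146 : nd 99146 = n202279 := ndS (p := 62026) (l := 5) rfl N62026 D202279
theorem N99147 : nd 99147 = n202280 := ndS (p := 62026) (l := 6) rfl N62026 D202280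
theorem N99148 : nd 99148 = n202281 := ndS (p := 62028) (l := 1) rfl N62028 D202281
theorem N99149 : nd 99149 = n202282 := ndS (p := 62029) (l := 6) rfl N62029 D202282
theorem N99150 : nd 99150 = n202283 := ndS (p := 62030) (l := 1) rfl N62030 D202283
theorem N99151 : nd 99151 = n202284 := ndS (p := 62030) (l := 6) rfl N62030 D202284
theorem N99152 : nd 99152 = n202285 := ndS (p := 62031) (l := 3) rfl N62031 D202285
theorem N99153 : nd 99153 = n202286 := ndS (p := 62031) (l := 5) rfl N62031 D202286
theorem N99154 : nd 99154 = n202287 := ndS (p := 62031) (l := 6) rfl N62031 D202287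
theorem N99155 : nd 99155 = n202288 := ndS (p := 62032) (l := 0) rfl N62032 D202288
theorem N99156 : nd 99156 = n202290 := ndS (p := 62033) (l := 4) rfl N62033 D202290
theorem N99157 : nd 99157 = n202291 := ndS (p := 62033) (l := 5) rfl N62033 D202291
theorem N99158 : nd 99158 = n202292 := ndS (p := 62036) (l := 5) rfl N62036 D202292
theorem N99159 : nd 99159 = n202293 := ndS (p := 62037) (l := 5) rfl N62037 D202293
theorem N99160 : nd 99160 = n202294 := ndS (p := 62037) (l := 6) rfl N62037 D202294
theorem N99161 : nd 99161 = n202295 := ndS (p := 62038) (l := 5) rfl N62038 D202295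
theorem N99162 : nd 99162 = n202296 := ndS (p := 62039) (l := 6) rfl N62039 D202296
theorem N99163 : nd 99163 = n202297 := ndS (p := 62040) (l := 0) rfl N62040 D202297
theorem N99164 : nd 99164 = n202298 := ndS (p := 62040) (l := 1) rfl N62040 D202298
theorem N99165 : nd 99165 = n202299 := ndS (p := 62041) (l := 3) rfl N62041 D202299
theorem N99166 : nd 99166 = n202300 := ndS (p := 62042) (l := 6) rfl N62042 D202300
theorem N99167 : nd 99167 = n202301 := ndS (p := 62046) (l := 6) rfl N62046 D202301
theorem N99168 : nd 99168 = n202302 := ndS (p := 62047) (l := 5) rfl N62047 D202302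
theorem N99169 : nd 99169 = n202303 := ndS (p := 62048) (l := 4) rfl N62048 D202303
theorem N99170 : nd 99170 = n202304 := ndS (p := 62048) (l := 6) rfl N62048 D202304
theorem N99171 : nd 99171 = n202305 := ndS (p := 62049) (l := 0) rfl N62049 D202305
theorem N99172 : nd 99172 = n202306 := ndS (p := 62049) (l := 4) rfl N62049 D202306
theorem N99173 : nd 99173 = n202307 := ndS (p := 62050) (l := 5) rfl N62050 D202307
theorem N99174 : nd 99174 = n202308 := ndS (p := 62051) (l := 4) rfl N62051 D202308
theorem N99175 : nd 99175 = n202309 := ndS (p := 62052) (l := 1) rfl N62052 D202309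
theorem N99176 : nd 99176 = n202310 := ndS (p := 62054) (l := 5) rfl N62054 D202310
theorem N99177 : nd 99177 = n202311 := ndS (p := 62055) (l := 5) rfl N62055 D202311
theorem N99178 : nd 99178 = n202312 := ndS (p := 62056) (l := 3) rfl N62056 D202312
theorem N99179 : nd 99179 = n202313 := ndS (p := 62056) (l := 5) rfl N62056 D202313
theorem N99180 : nd 99180 = n202314 := ndS (p := 62056) (l := 6) rfl N62056 D202314
theorem N99181 : nd 99181 = n202315 := ndS (p := 62057) (l := 4) rfl N62057 D202315
theorem N99182 : nd 99182 = n202316 := ndS (p := 62058) (l := 6) rfl N62058 D202316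
theorem N99183 : nd 99183 = n202317 := ndS (p := 62059) (l := 5) rfl N62059 D202317
theorem N99184 : nd 99184 = n202318 := ndS (p := 62060) (l := 3) rfl N62060 D202318
theorem N99185 : nd 99185 = n202319 := ndS (p := 62060) (l := 5) rfl N62060 D202319
theorem N99186 : nd 99186 = n202320 := ndS (p := 62060) (l := 6) rfl N62060 D202320
theorem N99187 : nd 99187 = n202321 := ndS (p := 62061) (l := 5) rfl N62061 D202321
theorem N99188 : nd 99188 = n202322 := ndS (p := 62061) (l := 6) rfl N62061 D202322
theorem N99189 : nd 99189 = n202323 := ndS (p := 62062) (l := 0) rfl N62062 D202323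
theorem N99190 : nd 99190 = n202324 := ndS (p := 62062) (l := 1) rfl N62062 D202324
theorem N99191 : nd 99191 = n202325 := ndS (p := 62070) (l := 6) rfl N62070 D202325
theorem N99192 : nd 99192 = n202326 := ndS (p := 62071) (l := 5) rfl N62071 D202326
theorem N99193 : nd 99193 = n202327 := ndS (p := 62072) (l := 6) rfl N62072 D202327
theorem N99194 : nd 99194 = n202329 := ndS (p := 62078) (l := 1) rfl N62078 D202329
theorem N99195 : nd 99195 = n202330 := ndS (p := 62078) (l := 7) rfl N62078 D202330
theorem N99196 : nd 99196 = n202331 := ndS (p := 62079) (l := 6) rfl N62079 D202331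
theorem N99197 : nd 99197 = n202332 := ndS (p := 62081) (l := 6) rfl N62081 D202332
theorem N99198 : nd 99198 = n202333 := ndS (p := 62082) (l := 6) rfl N62082 D202333
theorem N99199 : nd 99199 = n202334 := ndS (p := 62083) (l := 5) rfl N62083 D202334
theorem N99200 : nd 99200 = n202335 := ndS (p := 62083) (l := 7) rfl N62083 D202335
theorem N99201 : nd 99201 = n202336 := ndS (p := 62085) (l := 6) rfl N62085 D202336
theorem N99202 : nd 99202 = n202337 := ndS (p := 62086) (l := 6) rfl N62086 D202337
theorem N99203 : nd 99203 = n202338 := ndS (p := 62087) (l := 5) rfl N62087 D202338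
theorem N99204 : nd 99204 = n202339 := ndS (p := 62091) (l := 4) rfl N62091 D202339
theorem N99205 : nd 99205 = n202340 := ndS (p := 62091) (l := 6) rfl N62091 D202340
theorem N99206 : nd 99206 = n202341 := ndS (p := 62092) (l := 5) rfl N62092 D202341
theorem N99207 : nd 99207 = n202342 := ndS (p := 62092) (l := 6) rfl N62092 D202342
theorem N99208 : nd 99208 = n202343 := ndS (p := 62093) (l := 0) rfl N62093 D202343
theorem N99209 : nd 99209 = n202344 := ndS (p := 62093) (l := 1) rfl N62093 D202344
theorem N99210 : nd 99210 = n202345 := ndS (p := 62093) (l := 5) rfl N62093 D202345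
theorem N99211 : nd 99211 = n202346 := ndS (p := 62093) (l := 7) rfl N62093 D202346
theorem N99212 : nd 99212 = n202347 := ndS (p := 62095) (l := 1) rfl N62095 D202347
theorem N99213 : nd 99213 = n202348 := ndS (p := 62098) (l := 5) rfl N62098 D202348
theorem N99214 : nd 99214 = n202349 := ndS (p := 62099) (l := 4) rfl N62099 D202349
theorem N99215 : nd 99215 = n202350 := ndS (p := 62101) (l := 6) rfl N62101 D202350
theorem N99216 : nd 99216 = n202351 := ndS (p := 62103) (l := 1) rfl N62103 D202351
theorem N99217 : nd 99217 = n202352 := ndS (p := 62103) (l := 3) rfl N62103 D202352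
theorem N99218 : nd 99218 = n202353 := ndS (p := 62103) (l := 6) rfl N62103 D202353
theorem N99219 : nd 99219 = n202354 := ndS (p := 62104) (l := 1) rfl N62104 D202354
theorem N99220 : nd 99220 = n202355 := ndS (p := 62104) (l := 7) rfl N62104 D202355
theorem N99221 : nd 99221 = n202356 := ndS (p := 62105) (l := 6) rfl N62105 D202356
theorem N99222 : nd 99222 = n202357 := ndS (p := 62106) (l := 0) rfl N62106 D202357
theorem N99223 : nd 99223 = n202358 := ndS (p := 62106) (l := 1) rfl N62106 D202358
theorem N99224 : nd 99224 = n202359 := ndS (p := 62106) (l := 5) rfl N62106 D202359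
theorem N99225 : nd 99225 = n202360 := ndS (p := 62106) (l := 7) rfl N62106 D202360
theorem N99226 : nd 99226 = n202361 := ndS (p := 62107) (l := 4) rfl N62107 D202361
theorem N99227 : nd 99227 = n202362 := ndS (p := 62108) (l := 6) rfl N62108 D202362
theorem N99228 : nd 99228 = n202363 := ndS (p := 62109) (l := 0) rfl N62109 D202363
theorem N99229 : nd 99229 = n202364 := ndS (p := 62109) (l := 1) rfl N62109 D202364
theorem N99230 : nd 99230 = n202365 := ndS (p := 62110) (l := 3) rfl N62110 D202365
theorem N99231 : nd 99231 = n202366 := ndS (p := 62110) (l := 4) rfl N62110 D202366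
theorem N99232 : nd 99232 = n202367 := ndS (p := 62110) (l := 6) rfl N62110 D202367
theorem N99233 : nd 99233 = n202368 := ndS (p := 62111) (l := 4) rfl N62111 D202368
theorem N99234 : nd 99234 = n202369 := ndS (p := 62114) (l := 1) rfl N62114 D202369
theorem N99235 : nd 99235 = n202370 := ndS (p := 62114) (l := 5) rfl N62114 D202370
theorem N99236 : nd 99236 = n202371 := ndS (p := 62116) (l := 4) rfl N62116 D202371
theorem N99237 : nd 99237 = n202372 := ndS (p := 62116) (l := 5) rfl N62116 D202372
theorem N99238 : nd 99238 = n202373 := ndS (p := 62117) (l := 5) rfl N62117 D202373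
theorem N99239 : nd 99239 = n202374 := ndS (p := 62118) (l := 6) rfl N62118 D202374
theorem N99240 : nd 99240 = n202375 := ndS (p := 62120) (l := 4) rfl N62120 D202375
theorem N99241 : nd 99241 = n202376 := ndS (p := 62120) (l := 6) rfl N62120 D202376
theorem N99242 : nd 99242 = n202377 := ndS (p := 62121) (l := 3) rfl N62121 D202377
theorem N99243 : nd 99243 = n202378 := ndS (p := 62122) (l := 1) rfl N62122 D202378
theorem N99244 : nd 99244 = n202379 := ndS (p := 62125) (l := 5) rfl N62125 D202379
theorem N99245 : nd 99245 = n202381 := ndS (p := 62126) (l := 5) rfl N62126 D202381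
theorem N99246 : nd 99246 = n202382 := ndS (p := 62126) (l := 6) rfl N62126 D202382
theorem N99247 : nd 99247 = n202383 := ndS (p := 62127) (l := 0) rfl N62127 D202383
theorem N99248 : nd 99248 = n202384 := ndS (p := 62127) (l := 1) rfl N62127 D202384
theorem N99249 : nd 99249 = n202385 := ndS (p := 62127) (l := 4) rfl N62127 D202385
theorem N99250 : nd 99250 = n202386 := ndS (p := 62127) (l := 7) rfl N62127 D202386
theorem N99251 : nd 99251 = n202387 := ndS (p := 62129) (l := 4) rfl N62129 D202387
theorem N99252 : nd 99252 = n202388 := ndS (p := 62129) (l := 6) rfl N62129 D202388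
theorem N99253 : nd 99253 = n202389 := ndS (p := 62130) (l := 0) rfl N62130 D202389
theorem N99254 : nd 99254 = n202390 := ndS (p := 62130) (l := 1) rfl N62130 D202390
theorem N99255 : nd 99255 = n202391 := ndS (p := 62130) (l := 5) rfl N62130 D202391
theorem N99256 : nd 99256 = n202392 := ndS (p := 62130) (l := 6) rfl N62130 D202392
theorem N99257 : nd 99257 = n202393 := ndS (p := 62131) (l := 0) rfl N62131 D202393
theorem N99258 : nd 99258 = n202394 := ndS (p := 62131) (l := 1) rfl N62131 D202394
theorem N99259 : nd 99259 = n202395 := ndS (p := 62131) (l := 7) rfl N62131 D202395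
theorem N99260 : nd 99260 = n202396 := ndS (p := 62132) (l := 6) rfl N62132 D202396
theorem N99261 : nd 99261 = n202397 := ndS (p := 62133) (l := 6) rfl N62133 D202397
theorem N99262 : nd 99262 = n202398 := ndS (p := 62135) (l := 3) rfl N62135 D202398
theorem N99263 : nd 99263 = n202399 := ndS (p := 62135) (l := 6) rfl N62135 D202399
theorem N99264 : nd 99264 = n202400 := ndS (p := 62136) (l := 4) rfl N62136 D202400
theorem N99265 : nd 99265 = n202401 := ndS (p := 62139) (l := 6) rfl N62139 D202401
theorem N99266 : nd 99266 = n202402 := ndS (p := 62143) (l := 0) rfl N62143 D202402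
theorem N99267 : nd 99267 = n202403 := ndS (p := 62143) (l := 1) rfl N62143 D202403
theorem N99268 : nd 99268 = n202404 := ndS (p := 62143) (l := 6) rfl N62143 D202404
theorem N99269 : nd 99269 = n202405 := ndS (p := 62144) (l := 5) rfl N62144 D202405
theorem N99270 : nd 99270 = n202406 := ndS (p := 62145) (l := 5) rfl N62145 D202406
theorem N99271 : nd 99271 = n202407 := ndS (p := 62147) (l := 4) rfl N62147 D202407
theorem N99272 : nd 99272 = n202408 := ndS (p := 62147) (l := 6) rfl N62147 D202408
theorem N99273 : nd 99273 = n202409 := ndS (p := 62150) (l := 6) rfl N62150 D202409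
theorem N99274 : nd 99274 = n202410 := ndS (p := 62151) (l := 4) rfl N62151 D202410
theorem N99275 : nd 99275 = n202411 := ndS (p := 62152) (l := 5) rfl N62152 D202411
theorem N99276 : nd 99276 = n202412 := ndS (p := 62152) (l := 6) rfl N62152 D202412
theorem N99277 : nd 99277 = n202413 := ndS (p := 62153) (l := 4) rfl N62153 D202413
theorem N99278 : nd 99278 = n202414 := ndS (p := 62154) (l := 5) rfl N62154 D202414
theorem N99279 : nd 99279 = n202415 := ndS (p := 62158) (l := 6) rfl N62158 D202415
theorem N99280 : nd 99280 = n202416 := ndS (p := 62159) (l := 0) rfl N62159 D202416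
theorem N99281 : nd 99281 = n202417 := ndS (p := 62159) (l := 1) rfl N62159 D202417
theorem N99282 : nd 99282 = n202418 := ndS (p := 62159) (l := 3) rfl N62159 D202418
theorem N99283 : nd 99283 = n202419 := ndS (p := 62159) (l := 5) rfl N62159 D202419
theorem N99284 : nd 99284 = n202420 := ndS (p := 62160) (l := 4) rfl N62160 D202420
theorem N99285 : nd 99285 = n202423 := ndS (p := 62162) (l := 5) rfl N62162 D202423
theorem N99286 : nd 99286 = n202424 := ndS (p := 62162) (l := 6) rfl N62162 D202424
theorem N99287 : nd 99287 = n202425 := ndS (p := 62163) (l := 0) rfl N62163 D202425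
theorem N99288 : nd 99288 = n202426 := ndS (p := 62163) (l := 1) rfl N62163 D202426
theorem N99289 : nd 99289 = n202427 := ndS (p := 62163) (l := 6) rfl N62163 D202427
theorem N99290 : nd 99290 = n202428 := ndS (p := 62164) (l := 5) rfl N62164 D202428
theorem N99291 : nd 99291 = n202429 := ndS (p := 62165) (l := 3) rfl N62165 D202429
theorem N99292 : nd 99292 = n202430 := ndS (p := 62168) (l := 3) rfl N62168 D202430
theorem N99293 : nd 99293 = n202431 := ndS (p := 62171) (l := 5) rfl N62171 D202431
theorem N99294 : nd 99294 = n202432 := ndS (p := 62171) (l := 6) rfl N62171 D202432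
theorem N99295 : nd 99295 = n202433 := ndS (p := 62173) (l := 0) rfl N62173 D202433
theorem N99296 : nd 99296 = n202434 := ndS (p := 62173) (l := 1) rfl N62173 D202434
theorem N99297 : nd 99297 = n202435 := ndS (p := 62173) (l := 7) rfl N62173 D202435
theorem N99298 : nd 99298 = n202436 := ndS (p := 62174) (l := 3) rfl N62174 D202436
theorem N99299 : nd 99299 = n202437 := ndS (p := 62174) (l := 6) rfl N62174 D202437
theorem N99300 : nd 99300 = n202438 := ndS (p := 62175) (l := 3) rfl N62175 D202438
theorem N99301 : nd 99301 = n202439 := ndS (p := 62177) (l := 3) rfl N62177 D202439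
theorem N99302 : nd 99302 = n202440 := ndS (p := 62178) (l := 3) rfl N62178 D202440
theorem N99303 : nd 99303 = n202441 := ndS (p := 62178) (l := 4) rfl N62178 D202441
theorem N99304 : nd 99304 = n202442 := ndS (p := 62178) (l := 6) rfl N62178 D202442
theorem N99305 : nd 99305 = n202443 := ndS (p := 62180) (l := 5) rfl N62180 D202443
theorem N99306 : nd 99306 = n202444 := ndS (p := 62180) (l := 6) rfl N62180 D202444
theorem N99307 : nd 99307 = n202445 := ndS (p := 62181) (l := 4) rfl N62181 D202445
theorem N99308 : nd 99308 = n202446 := ndS (p := 62182) (l := 1) rfl N62182 D202446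
theorem N99309 : nd 99309 = n202447 := ndS (p := 62183) (l := 3) rfl N62183 D202447
theorem N99310 : nd 99310 = n202448 := ndS (p := 62184) (l := 4) rfl N62184 D202448
theorem N99311 : nd 99311 = n202449 := ndS (p := 62185) (l := 3) rfl N62185 D202449
theorem N99312 : nd 99312 = n202450 := ndS (p := 62185) (l := 4) rfl N62185 D202450
theorem N99313 : nd 99313 = n202451 := ndS (p := 62185) (l := 6) rfl N62185 D202451
theorem N99314 : nd 99314 = n202452 := ndS (p := 62188) (l := 3) rfl N62188 D202452
theorem N99315 : nd 99315 = n202453 := ndS (p := 62189) (l := 3) rfl N62189 D202453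
theorem N99316 : nd 99316 = n202454 := ndS (p := 62190) (l := 6) rfl N62190 D202454
theorem N99317 : nd 99317 = n202455 := ndS (p := 62191) (l := 0) rfl N62191 D202455
theorem N99318 : nd 99318 = n202456 := ndS (p := 62191) (l := 1) rfl N62191 D202456
theorem N99319 : nd 99319 = n202457 := ndS (p := 62192) (l := 1) rfl N62192 D202457
theorem N99320 : nd 99320 = n202458 := ndS (p := 62192) (l := 2) rfl N62192 D202458
theorem N99321 : nd 99321 = n202459 := ndS (p := 62192) (l := 6) rfl N62192 D202459
theorem N99322 : nd 99322 = n202460 := ndS (p := 62194) (l := 0) rfl N62194 D202460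
theorem N99323 : nd 99323 = n202461 := ndS (p := 62194) (l := 7) rfl N62194 D202461
theorem N99324 : nd 99324 = n202462 := ndS (p := 62195) (l := 2) rfl N62195 D202462
theorem N99325 : nd 99325 = n202463 := ndS (p := 62195) (l := 6) rfl N62195 D202463
theorem N99326 : nd 99326 = n202464 := ndS (p := 62196) (l := 5) rfl N62196 D202464
theorem N99327 : nd 99327 = n202465 := ndS (p := 62198) (l := 3) rfl N62198 D202465
theorem N99328 : nd 99328 = n202466 := ndS (p := 62199) (l := 4) rfl N62199 D202466
theorem N99329 : nd 99329 = n202467 := ndS (p := 62202) (l := 0) rfl N62202 D202467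
theorem N99330 : nd 99330 = n202468 := ndS (p := 62203) (l := 0) rfl N62203 D202468
theorem N99331 : nd 99331 = n202469 := ndS (p := 62203) (l := 2) rfl N62203 D202469
theorem N99332 : nd 99332 = n202470 := ndS (p := 62204) (l := 2) rfl N62204 D202470
theorem N99333 : nd 99333 = n202471 := ndS (p := 62204) (l := 6) rfl N62204 D202471
theorem N99334 : nd 99334 = n202472 := ndS (p := 62207) (l := 3) rfl N62207 D202472
theorem N99335 : nd 99335 = n202473 := ndS (p := 62207) (l := 6) rfl N62207 D202473
theorem N99336 : nd 99336 = n202474 := ndS (p := 62210) (l := 6) rfl N62210 D202474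
theorem N99337 : nd 99337 = n202475 := ndS (p := 62211) (l := 2) rfl N62211 D202475
theorem N99338 : nd 99338 = n202476 := ndS (p := 62212) (l := 6) rfl N62212 D202476
theorem N99339 : nd 99339 = n202477 := ndS (p := 62213) (l := 0) rfl N62213 D202477
theorem N99340 : nd 99340 = n202478 := ndS (p := 62213) (l := 5) rfl N62213 D202478
theorem N99341 : nd 99341 = n202479 := ndS (p := 62218) (l := 5) rfl N62218 D202479
theorem N99342 : nd 99342 = n202480 := ndS (p := 62219) (l := 4) rfl N62219 D202480
theorem N99343 : nd 99343 = n202481 := ndS (p := 62220) (l := 4) rfl N62220 D202481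
theorem N99344 : nd 99344 = n202482 := ndS (p := 62223) (l := 0) rfl N62223 D202482
theorem N99345 : nd 99345 = n202483 := ndS (p := 62223) (l := 1) rfl N62223 D202483
theorem N99346 : nd 99346 = n202484 := ndS (p := 62223) (l := 7) rfl N62223 D202484
theorem N99347 : nd 99347 = n202485 := ndS (p := 62224) (l := 3) rfl N62224 D202485
theorem N99348 : nd 99348 = n202486 := ndS (p := 62224) (l := 5) rfl N62224 D202486
theorem N99349 : nd 99349 = n202487 := ndS (p := 62226) (l := 5) rfl N62226 D202487
theorem N99350 : nd 99350 = n202488 := ndS (p := 62226) (l := 6) rfl N62226 D202488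
theorem N99351 : nd 99351 = n202489 := ndS (p := 62227) (l := 6) rfl N62227 D202489
theorem N99352 : nd 99352 = n202490 := ndS (p := 62228) (l := 0) rfl N62228 D202490
theorem N99353 : nd 99353 = n202491 := ndS (p := 62228) (l := 1) rfl N62228 D202491
theorem N99354 : nd 99354 = n202492 := ndS (p := 62228) (l := 5) rfl N62228 D202492
theorem N99355 : nd 99355 = n202493 := ndS (p := 62228) (l := 7) rfl N62228 D202493
theorem N99356 : nd 99356 = n202494 := ndS (p := 62229) (l := 5) rfl N62229 D202494
theorem N99357 : nd 99357 = n202495 := ndS (p := 62234) (l := 6) rfl N62234 D202495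
theorem N99358 : nd 99358 = n202496 := ndS (p := 62237) (l := 5) rfl N62237 D202496
theorem N99359 : nd 99359 = n202497 := ndS (p := 62238) (l := 6) rfl N62238 D202497
theorem N99360 : nd 99360 = n202498 := ndS (p := 62245) (l := 4) rfl N62245 D202498
theorem N99361 : nd 99361 = n202499 := ndS (p := 62246) (l := 3) rfl N62246 D202499
theorem N99362 : nd 99362 = n202500 := ndS (p := 62246) (l := 5) rfl N62246 D202500
theorem N99363 : nd 99363 = n202501 := ndS (p := 62247) (l := 4) rfl N62247 D202501
theorem N99364 : nd 99364 = n202502 := ndS (p := 62248) (l := 4) rfl N62248 D202502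
theorem N99365 : nd 99365 = n202503 := ndS (p := 62248) (l := 6) rfl N62248 D202503
theorem N99366 : nd 99366 = n202504 := ndS (p := 62249) (l := 6) rfl N62249 D202504
theorem N99367 : nd 99367 = n202505 := ndS (p := 62250) (l := 6) rfl N62250 D202505
theorem N99368 : nd 99368 = n202506 := ndS (p := 62251) (l := 6) rfl N62251 D202506
theorem N99369 : nd 99369 = n202507 := ndS (p := 62252) (l := 0) rfl N62252 D202507
theorem N99370 : nd 99370 = n202508 := ndS (p := 62252) (l := 1) rfl N62252 D202508
theorem N99371 : nd 99371 = n202509 := ndS (p := 62252) (l := 5) rfl N62252 D202509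
theorem N99372 : nd 99372 = n202510 := ndS (p := 62253) (l := 5) rfl N62253 D202510
theorem N99373 : nd 99373 = n202511 := ndS (p := 62254) (l := 4) rfl N62254 D202511
theorem N99374 : nd 99374 = n202512 := ndS (p := 62257) (l := 5) rfl N62257 D202512
theorem N99375 : nd 99375 = n202513 := ndS (p := 62257) (l := 6) rfl N62257 D202513
theorem N99376 : nd 99376 = n202514 := ndS (p := 62258) (l := 4) rfl N62258 D202514
theorem N99377 : nd 99377 = n202515 := ndS (p := 62258) (l := 6) rfl N62258 D202515
theorem N99378 : nd 99378 = n202516 := ndS (p := 62259) (l := 0) rfl N62259 D202516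
theorem N99379 : nd 99379 = n202517 := ndS (p := 62259) (l := 1) rfl N62259 D202517
theorem N99380 : nd 99380 = n202518 := ndS (p := 62259) (l := 5) rfl N62259 D202518
theorem N99381 : nd 99381 = n202519 := ndS (p := 62260) (l := 0) rfl N62260 D202519
theorem N99382 : nd 99382 = n202520 := ndS (p := 62260) (l := 1) rfl N62260 D202520
theorem N99383 : nd 99383 = n202521 := ndS (p := 62260) (l := 5) rfl N62260 D202521
theorem N99384 : nd 99384 = n202522 := ndS (p := 62260) (l := 7) rfl N62260 D202522
theorem N99385 : nd 99385 = n202523 := ndS (p := 62261) (l := 3) rfl N62261 D202523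
theorem N99386 : nd 99386 = n202524 := ndS (p := 62261) (l := 5) rfl N62261 D202524
theorem N99387 : nd 99387 = n202525 := ndS (p := 62262) (l := 1) rfl N62262 D202525
theorem N99388 : nd 99388 = n202526 := ndS (p := 62262) (l := 4) rfl N62262 D202526
theorem N99389 : nd 99389 = n202527 := ndS (p := 62263) (l := 3) rfl N62263 D202527
theorem N99390 : nd 99390 = n202528 := ndS (p := 62263) (l := 4) rfl N62263 D202528
theorem N99391 : nd 99391 = n202529 := ndS (p := 62264) (l := 3) rfl N62264 D202529
theorem N99392 : nd 99392 = n202530 := ndS (p := 62265) (l := 6) rfl N62265 D202530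
theorem N99393 : nd 99393 = n202531 := ndS (p := 62266) (l := 0) rfl N62266 D202531
theorem N99394 : nd 99394 = n202532 := ndS (p := 62266) (l := 1) rfl N62266 D202532
theorem N99395 : nd 99395 = n202533 := ndS (p := 62266) (l := 5) rfl N62266 D202533
theorem N99396 : nd 99396 = n202534 := ndS (p := 62267) (l := 0) rfl N62267 D202534
theorem N99397 : nd 99397 = n202535 := ndS (p := 62267) (l := 4) rfl N62267 D202535
theorem N99398 : nd 99398 = n202536 := ndS (p := 62268) (l := 3) rfl N62268 D202536
theorem N99399 : nd 99399 = n202537 := ndS (p := 62270) (l := 6) rfl N62270 D202537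
theorem N99400 : nd 99400 = n202538 := ndS (p := 62271) (l := 0) rfl N62271 D202538
theorem N99401 : nd 99401 = n202539 := ndS (p := 62271) (l := 1) rfl N62271 D202539
theorem N99402 : nd 99402 = n202540 := ndS (p := 62271) (l := 5) rfl N62271 D202540
theorem N99403 : nd 99403 = n202541 := ndS (p := 62271) (l := 7) rfl N62271 D202541
theorem N99404 : nd 99404 = n202542 := ndS (p := 62272) (l := 4) rfl N62272 D202542
theorem N99405 : nd 99405 = n202543 := ndS (p := 62274) (l := 6) rfl N62274 D202543
theorem N99406 : nd 99406 = n202544 := ndS (p := 62275) (l := 6) rfl N62275 D202544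
theorem N99407 : nd 99407 = n202545 := ndS (p := 62276) (l := 5) rfl N62276 D202545
theorem N99408 : nd 99408 = n202546 := ndS (p := 62277) (l := 0) rfl N62277 D202546
theorem N99409 : nd 99409 = n202547 := ndS (p := 62277) (l := 2) rfl N62277 D202547
theorem N99410 : nd 99410 = n202548 := ndS (p := 62277) (l := 6) rfl N62277 D202548
theorem N99411 : nd 99411 = n202549 := ndS (p := 62278) (l := 5) rfl N62278 D202549
theorem N99412 : nd 99412 = n202550 := ndS (p := 62278) (l := 7) rfl N62278 D202550
theorem N99413 : nd 99413 = n202551 := ndS (p := 62279) (l := 4) rfl N62279 D202551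
theorem N99414 : nd 99414 = n202552 := ndS (p := 62281) (l := 6) rfl N62281 D202552
theorem N99415 : nd 99415 = n202553 := ndS (p := 62282) (l := 3) rfl N62282 D202553
theorem N99416 : nd 99416 = n202554 := ndS (p := 62282) (l := 4) rfl N62282 D202554
theorem N99417 : nd 99417 = n202555 := ndS (p := 62282) (l := 6) rfl N62282 D202555
theorem N99418 : nd 99418 = n202556 := ndS (p := 62283) (l := 0) rfl N62283 D202556
theorem N99419 : nd 99419 = n202557 := ndS (p := 62283) (l := 1) rfl N62283 D202557
theorem N99420 : nd 99420 = n202558 := ndS (p := 62283) (l := 5) rfl N62283 D202558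
theorem N99421 : nd 99421 = n202559 := ndS (p := 62283) (l := 6) rfl N62283 D202559
theorem N99422 : nd 99422 = n202560 := ndS (p := 62286) (l := 3) rfl N62286 D202560
theorem N99423 : nd 99423 = n202561 := ndS (p := 62287) (l := 2) rfl N62287 D202561
theorem N99424 : nd 99424 = n202562 := ndS (p := 62287) (l := 6) rfl N62287 D202562
theorem N99425 : nd 99425 = n202563 := ndS (p := 62290) (l := 6) rfl N62290 D202563
theorem N99426 : nd 99426 = n202564 := ndS (p := 62293) (l := 1) rfl N62293 D202564
theorem N99427 : nd 99427 = n202565 := ndS (p := 62294) (l := 5) rfl N62294 D202565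
theorem N99428 : nd 99428 = n202566 := ndS (p := 62295) (l := 5) rfl N62295 D202566
theorem N99429 : nd 99429 = n202567 := ndS (p := 62296) (l := 2) rfl N62296 D202567
theorem N99430 : nd 99430 = n202568 := ndS (p := 62296) (l := 6) rfl N62296 D202568
theorem N99431 : nd 99431 = n202569 := ndS (p := 62297) (l := 6) rfl N62297 D202569
theorem N99432 : nd 99432 = n202570 := ndS (p := 62298) (l := 1) rfl N62298 D202570
theorem N99433 : nd 99433 = n202571 := ndS (p := 62298) (l := 5) rfl N62298 D202571
theorem N99434 : nd 99434 = n202572 := ndS (p := 62299) (l := 4) rfl N62299 D202572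
theorem N99435 : nd 99435 = n202573 := ndS (p := 62300) (l := 6) rfl N62300 D202573
theorem N99436 : nd 99436 = n202574 := ndS (p := 62303) (l := 0) rfl N62303 D202574
theorem N99437 : nd 99437 = n202575 := ndS (p := 62303) (l := 1) rfl N62303 D202575
theorem N99438 : nd 99438 = n202576 := ndS (p := 62303) (l := 5) rfl N62303 D202576
theorem N99439 : nd 99439 = n202577 := ndS (p := 62303) (l := 7) rfl N62303 D202577
theorem N99440 : nd 99440 = n202578 := ndS (p := 62304) (l := 6) rfl N62304 D202578
theorem N99441 : nd 99441 = n202579 := ndS (p := 62306) (l := 1) rfl N62306 D202579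
theorem N99442 : nd 99442 = n202580 := ndS (p := 62306) (l := 5) rfl N62306 D202580
theorem N99443 : nd 99443 = n202581 := ndS (p := 62306) (l := 7) rfl N62306 D202581
theorem N99444 : nd 99444 = n202582 := ndS (p := 62310) (l := 3) rfl N62310 D202582
theorem N99445 : nd 99445 = n202583 := ndS (p := 62310) (l := 5) rfl N62310 D202583
theorem N99446 : nd 99446 = n202584 := ndS (p := 62313) (l := 3) rfl N62313 D202584
theorem N99447 : nd 99447 = n202585 := ndS (p := 62315) (l := 6) rfl N62315 D202585
theorem N99448 : nd 99448 = n202586 := ndS (p := 62316) (l := 5) rfl N62316 D202586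
theorem N99449 : nd 99449 = n202587 := ndS (p := 62316) (l := 6) rfl N62316 D202587
theorem N99450 : nd 99450 = n202588 := ndS (p := 62318) (l := 5) rfl N62318 D202588
theorem N99451 : nd 99451 = n202589 := ndS (p := 62319) (l := 3) rfl N62319 D202589
theorem N99452 : nd 99452 = n202590 := ndS (p := 62319) (l := 5) rfl N62319 D202590
theorem N99453 : nd 99453 = n202591 := ndS (p := 62319) (l := 6) rfl N62319 D202591
theorem N99454 : nd 99454 = n202592 := ndS (p := 62320) (l := 4) rfl N62320 D202592
theorem N99455 : nd 99455 = n202593 := ndS (p := 62320) (l := 6) rfl N62320 D202593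
theorem N99456 : nd 99456 = n202594 := ndS (p := 62321) (l := 6) rfl N62321 D202594
theorem N99457 : nd 99457 = n202595 := ndS (p := 62323) (l := 5) rfl N62323 D202595
theorem N99458 : nd 99458 = n202596 := ndS (p := 62324) (l := 0) rfl N62324 D202596
theorem N99459 : nd 99459 = n202597 := ndS (p := 62324) (l := 4) rfl N62324 D202597
theorem N99460 : nd 99460 = n202598 := ndS (p := 62325) (l := 5) rfl N62325 D202598
theorem N99461 : nd 99461 = n202599 := ndS (p := 62328) (l := 4) rfl N62328 D202599
theorem N99462 : nd 99462 = n202600 := ndS (p := 62329) (l := 5) rfl N62329 D202600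
theorem N99463 : nd 99463 = n202601 := ndS (p := 62333) (l := 6) rfl N62333 D202601
theorem N99464 : nd 99464 = n202602 := ndS (p := 62336) (l := 0) rfl N62336 D202602
theorem N99465 : nd 99465 = n202603 := ndS (p := 62337) (l := 3) rfl N62337 D202603
theorem N99466 : nd 99466 = n202604 := ndS (p := 62338) (l := 3) rfl N62338 D202604
theorem N99467 : nd 99467 = n202605 := ndS (p := 62338) (l := 6) rfl N62338 D202605
theorem N99468 : nd 99468 = n202606 := ndS (p := 62340) (l := 1) rfl N62340 D202606
theorem N99469 : nd 99469 = n202607 := ndS (p := 62340) (l := 6) rfl N62340 D202607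
theorem N99470 : nd 99470 = n202608 := ndS (p := 62345) (l := 5) rfl N62345 D202608
theorem N99471 : nd 99471 = n202609 := ndS (p := 62346) (l := 0) rfl N62346 D202609
theorem N99472 : nd 99472 = n202610 := ndS (p := 62346) (l := 1) rfl N62346 D202610
theorem N99473 : nd 99473 = n202611 := ndS (p := 62346) (l := 7) rfl N62346 D202611
theorem N99474 : nd 99474 = n202612 := ndS (p := 62348) (l := 3) rfl N62348 D202612
theorem N99475 : nd 99475 = n202613 := ndS (p := 62350) (l := 1) rfl N62350 D202613
theorem N99476 : nd 99476 = n202614 := ndS (p := 62350) (l := 4) rfl N62350 D202614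
theorem N99477 : nd 99477 = n202615 := ndS (p := 62351) (l := 0) rfl N62351 D202615
theorem N99478 : nd 99478 = n202616 := ndS (p := 62351) (l := 5) rfl N62351 D202616
theorem N99479 : nd 99479 = n202617 := ndS (p := 62353) (l := 4) rfl N62353 D202617
theorem N99480 : nd 99480 = n202618 := ndS (p := 62354) (l := 2) rfl N62354 D202618
theorem N99481 : nd 99481 = n202619 := ndS (p := 62354) (l := 6) rfl N62354 D202619
theorem N99482 : nd 99482 = n202620 := ndS (p := 62355) (l := 4) rfl N62355 D202620
theorem N99483 : nd 99483 = n202621 := ndS (p := 62357) (l := 3) rfl N62357 D202621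
theorem N99484 : nd 99484 = n202622 := ndS (p := 62357) (l := 6) rfl N62357 D202622
theorem N99485 : nd 99485 = n202623 := ndS (p := 62359) (l := 6) rfl N62359 D202623
theorem N99486 : nd 99486 = n202624 := ndS (p := 62360) (l := 5) rfl N62360 D202624
theorem N99487 : nd 99487 = n202625 := ndS (p := 62361) (l := 1) rfl N62361 D202625
theorem N99488 : nd 99488 = n202626 := ndS (p := 62361) (l := 6) rfl N62361 D202626
theorem N99489 : nd 99489 = n202627 := ndS (p := 62364) (l := 4) rfl N62364 D202627
theorem N99490 : nd 99490 = n202628 := ndS (p := 62366) (l := 1) rfl N62366 D202628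
theorem N99491 : nd 99491 = n202629 := ndS (p := 62366) (l := 2) rfl N62366 D202629
theorem N99492 : nd 99492 = n202630 := ndS (p := 62366) (l := 5) rfl N62366 D202630
theorem N99493 : nd 99493 = n202631 := ndS (p := 62369) (l := 1) rfl N62369 D202631
theorem N99494 : nd 99494 = n202632 := ndS (p := 62370) (l := 6) rfl N62370 D202632
theorem N99495 : nd 99495 = n202633 := ndS (p := 62376) (l := 3) rfl N62376 D202633
theorem N99496 : nd 99496 = n202634 := ndS (p := 62376) (l := 6) rfl N62376 D202634
theorem N99497 : nd 99497 = n202635 := ndS (p := 62386) (l := 0) rfl N62386 D202635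
theorem N99498 : nd 99498 = n202636 := ndS (p := 62386) (l := 5) rfl N62386 D202636
theorem N99499 : nd 99499 = n202637 := ndS (p := 62388) (l := 5) rfl N62388 D202637
theorem N99500 : nd 99500 = n202638 := ndS (p := 62389) (l := 3) rfl N62389 D202638
theorem N99501 : nd 99501 = n202639 := ndS (p := 62393) (l := 6) rfl N62393 D202639
theorem N99502 : nd 99502 = n202640 := ndS (p := 62399) (l := 3) rfl N62399 D202640
theorem N99503 : nd 99503 = n202641 := ndS (p := 62399) (l := 5) rfl N62399 D202641
theorem N99504 : nd 99504 = n202642 := ndS (p := 62400) (l := 3) rfl N62400 D202642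
theorem N99505 : nd 99505 = n202643 := ndS (p := 62400) (l := 5) rfl N62400 D202643
theorem N99506 : nd 99506 = n202644 := ndS (p := 62402) (l := 0) rfl N62402 D202644
theorem N99507 : nd 99507 = n202645 := ndS (p := 62402) (l := 2) rfl N62402 D202645
theorem N99508 : nd 99508 = n202646 := ndS (p := 62402) (l := 6) rfl N62402 D202646
theorem N99509 : nd 99509 = n202647 := ndS (p := 62404) (l := 4) rfl N62404 D202647
theorem N99510 : nd 99510 = n202648 := ndS (p := 62405) (l := 5) rfl N62405 D202648
theorem N99511 : nd 99511 = n202649 := ndS (p := 62406) (l := 5) rfl N62406 D202649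
theorem N99512 : nd 99512 = n202650 := ndS (p := 62409) (l := 3) rfl N62409 D202650
theorem N99513 : nd 99513 = n202651 := ndS (p := 62409) (l := 5) rfl N62409 D202651
theorem N99514 : nd 99514 = n202652 := ndS (p := 62409) (l := 6) rfl N62409 D202652
theorem N99515 : nd 99515 = n202653 := ndS (p := 62410) (l := 0) rfl N62410 D202653
theorem N99516 : nd 99516 = n202654 := ndS (p := 62412) (l := 3) rfl N62412 D202654
theorem N99517 : nd 99517 = n202655 := ndS (p := 62412) (l := 6) rfl N62412 D202655
theorem N99518 : nd 99518 = n202656 := ndS (p := 62414) (l := 4) rfl N62414 D202656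
theorem N99519 : nd 99519 = n202657 := ndS (p := 62415) (l := 5) rfl N62415 D202657
theorem N99520 : nd 99520 = n202658 := ndS (p := 62416) (l := 4) rfl N62416 D202658
theorem N99521 : nd 99521 = n202659 := ndS (p := 62416) (l := 6) rfl N62416 D202659
theorem N99522 : nd 99522 = n202660 := ndS (p := 62417) (l := 3) rfl N62417 D202660
theorem N99523 : nd 99523 = n202661 := ndS (p := 62417) (l := 6) rfl N62417 D202661
theorem N99524 : nd 99524 = n202662 := ndS (p := 62419) (l := 3) rfl N62419 D202662
theorem N99525 : nd 99525 = n202663 := ndS (p := 62422) (l := 0) rfl N62422 D202663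
theorem N99526 : nd 99526 = n202664 := ndS (p := 62422) (l := 2) rfl N62422 D202664
theorem N99527 : nd 99527 = n202665 := ndS (p := 62422) (l := 5) rfl N62422 D202665
theorem N99528 : nd 99528 = n202666 := ndS (p := 62423) (l := 0) rfl N62423 D202666
theorem N99529 : nd 99529 = n202667 := ndS (p := 62423) (l := 1) rfl N62423 D202667
theorem N99530 : nd 99530 = n202668 := ndS (p := 62423) (l := 4) rfl N62423 D202668
theorem N99531 : nd 99531 = n202669 := ndS (p := 62425) (l := 1) rfl N62425 D202669
theorem N99532 : nd 99532 = n202670 := ndS (p := 62425) (l := 2) rfl N62425 D202670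
theorem N99533 : nd 99533 = n202671 := ndS (p := 62426) (l := 4) rfl N62426 D202671
theorem N99534 : nd 99534 = n202672 := ndS (p := 62426) (l := 6) rfl N62426 D202672
theorem N99535 : nd 99535 = n202673 := ndS (p := 62427) (l := 5) rfl N62427 D202673
theorem N99536 : nd 99536 = n202674 := ndS (p := 62428) (l := 6) rfl N62428 D202674
theorem N99537 : nd 99537 = n202675 := ndS (p := 62430) (l := 6) rfl N62430 D202675
theorem N99538 : nd 99538 = n202676 := ndS (p := 62431) (l := 0) rfl N62431 D202676
theorem N99539 : nd 99539 = n202677 := ndS (p := 62431) (l := 5) rfl N62431 D202677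
theorem N99540 : nd 99540 = n202678 := ndS (p := 62434) (l := 3) rfl N62434 D202678
theorem N99541 : nd 99541 = n202679 := ndS (p := 62434) (l := 5) rfl N62434 D202679
theorem N99542 : nd 99542 = n202680 := ndS (p := 62435) (l := 6) rfl N62435 D202680
theorem N99543 : nd 99543 = n202681 := ndS (p := 62436) (l := 3) rfl N62436 D202681
theorem N99544 : nd 99544 = n202682 := ndS (p := 62436) (l := 6) rfl N62436 D202682
theorem N99545 : nd 99545 = n202683 := ndS (p := 62439) (l := 3) rfl N62439 D202683
theorem N99546 : nd 99546 = n202684 := ndS (p := 62439) (l := 5) rfl N62439 D202684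
theorem N99547 : nd 99547 = n202685 := ndS (p := 62439) (l := 6) rfl N62439 D202685
theorem N99548 : nd 99548 = n202686 := ndS (p := 62442) (l := 3) rfl N62442 D202686
theorem N99549 : nd 99549 = n202687 := ndS (p := 62442) (l := 5) rfl N62442 D202687
theorem N99550 : nd 99550 = n202688 := ndS (p := 62442) (l := 6) rfl N62442 D202688
theorem N99551 : nd 99551 = n202689 := ndS (p := 62447) (l := 6) rfl N62447 D202689
theorem N99552 : nd 99552 = n202690 := ndS (p := 62448) (l := 5) rfl N62448 D202690
theorem N99553 : nd 99553 = n202691 := ndS (p := 62450) (l := 5) rfl N62450 D202691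
theorem N99554 : nd 99554 = n202692 := ndS (p := 62454) (l := 6) rfl N62454 D202692
theorem N99555 : nd 99555 = n202693 := ndS (p := 62462) (l := 4) rfl N62462 D202693
theorem N99556 : nd 99556 = n202694 := ndS (p := 62463) (l := 3) rfl N62463 D202694
theorem N99557 : nd 99557 = n202695 := ndS (p := 62466) (l := 3) rfl N62466 D202695
theorem N99558 : nd 99558 = n202696 := ndS (p := 62466) (l := 4) rfl N62466 D202696
theorem N99559 : nd 99559 = n202697 := ndS (p := 62466) (l := 6) rfl N62466 D202697
theorem N99560 : nd 99560 = n202698 := ndS (p := 62469) (l := 4) rfl N62469 D202698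
theorem N99561 : nd 99561 = n202699 := ndS (p := 62470) (l := 4) rfl N62470 D202699
theorem N99562 : nd 99562 = n202700 := ndS (p := 62471) (l := 4) rfl N62471 D202700
theorem N99563 : nd 99563 = n202701 := ndS (p := 62474) (l := 2) rfl N62474 D202701
theorem N99564 : nd 99564 = n202702 := ndS (p := 62475) (l := 0) rfl N62475 D202702
theorem N99565 : nd 99565 = n202703 := ndS (p := 62475) (l := 6) rfl N62475 D202703
theorem N99566 : nd 99566 = n202704 := ndS (p := 62476) (l := 3) rfl N62476 D202704
theorem N99567 : nd 99567 = n202705 := ndS (p := 62476) (l := 6) rfl N62476 D202705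
theorem N99568 : nd 99568 = n202706 := ndS (p := 62479) (l := 4) rfl N62479 D202706
theorem N99569 : nd 99569 = n202707 := ndS (p := 62479) (l := 6) rfl N62479 D202707
theorem N99570 : nd 99570 = n202708 := ndS (p := 62480) (l := 0) rfl N62480 D202708
theorem N99571 : nd 99571 = n202709 := ndS (p := 62480) (l := 5) rfl N62480 D202709
theorem N99572 : nd 99572 = n202710 := ndS (p := 62481) (l := 6) rfl N62481 D202710
theorem N99573 : nd 99573 = n202711 := ndS (p := 62486) (l := 5) rfl N62486 D202711
theorem N99574 : nd 99574 = n202712 := ndS (p := 62487) (l := 6) rfl N62487 D202712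
theorem N99575 : nd 99575 = n202713 := ndS (p := 62490) (l := 3) rfl N62490 D202713
theorem N99576 : nd 99576 = n202714 := ndS (p := 62490) (l := 5) rfl N62490 D202714
theorem N99577 : nd 99577 = n202715 := ndS (p := 62491) (l := 3) rfl N62491 D202715
theorem N99578 : nd 99578 = n202716 := ndS (p := 62492) (l := 3) rfl N62492 D202716
theorem N99579 : nd 99579 = n202717 := ndS (p := 62498) (l := 0) rfl N62498 D202717
theorem N99580 : nd 99580 = n202718 := ndS (p := 62502) (l := 5) rfl N62502 D202718
theorem N99581 : nd 99581 = n202719 := ndS (p := 62503) (l := 6) rfl N62503 D202719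
theorem N99582 : nd 99582 = n202720 := ndS (p := 62504) (l := 6) rfl N62504 D202720
theorem N99583 : nd 99583 = n202721 := ndS (p := 62507) (l := 6) rfl N62507 D202721
theorem N99584 : nd 99584 = n202722 := ndS (p := 62509) (l := 3) rfl N62509 D202722
theorem N99585 : nd 99585 = n202723 := ndS (p := 62513) (l := 3) rfl N62513 D202723
theorem N99586 : nd 99586 = n202724 := ndS (p := 62513) (l := 5) rfl N62513 D202724
theorem N99587 : nd 99587 = n202725 := ndS (p := 62517) (l := 5) rfl N62517 D202725
theorem N99588 : nd 99588 = n202726 := ndS (p := 62517) (l := 6) rfl N62517 D202726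
theorem N99589 : nd 99589 = n202727 := ndS (p := 62518) (l := 6) rfl N62518 D202727
theorem N99590 : nd 99590 = n202728 := ndS (p := 62519) (l := 5) rfl N62519 D202728
theorem N99591 : nd 99591 = n202729 := ndS (p := 62521) (l := 5) rfl N62521 D202729
theorem N99592 : nd 99592 = n202730 := ndS (p := 62526) (l := 4) rfl N62526 D202730
theorem N99593 : nd 99593 = n202731 := ndS (p := 62527) (l := 3) rfl N62527 D202731
theorem N99594 : nd 99594 = n202732 := ndS (p := 62527) (l := 5) rfl N62527 D202732
theorem N99595 : nd 99595 = n202733 := ndS (p := 62528) (l := 0) rfl N62528 D202733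
theorem N99596 : nd 99596 = n202734 := ndS (p := 62528) (l := 1) rfl N62528 D202734
theorem N99597 : nd 99597 = n202735 := ndS (p := 62529) (l := 0) rfl N62529 D202735
theorem N99598 : nd 99598 = n202736 := ndS (p := 62530) (l := 1) rfl N62530 D202736
theorem N99599 : nd 99599 = n202737 := ndS (p := 62530) (l := 5) rfl N62530 D202737
theorem N99600 : nd 99600 = n202738 := ndS (p := 62530) (l := 7) rfl N62530 D202738
theorem N99601 : nd 99601 = n202739 := ndS (p := 62533) (l := 4) rfl N62533 D202739
theorem N99602 : nd 99602 = n202740 := ndS (p := 62535) (l := 0) rfl N62535 D202740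
theorem N99603 : nd 99603 = n202741 := ndS (p := 62535) (l := 1) rfl N62535 D202741
theorem N99604 : nd 99604 = n202742 := ndS (p := 62537) (l := 5) rfl N62537 D202742
theorem N99605 : nd 99605 = n202743 := ndS (p := 62544) (l := 5) rfl N62544 D202743
theorem N99606 : nd 99606 = n202744 := ndS (p := 62545) (l := 3) rfl N62545 D202744
theorem N99607 : nd 99607 = n202745 := ndS (p := 62545) (l := 6) rfl N62545 D202745
theorem N99608 : nd 99608 = n202746 := ndS (p := 62546) (l := 6) rfl N62546 D202746
theorem N99609 : nd 99609 = n202747 := ndS (p := 62549) (l := 3) rfl N62549 D202747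
theorem N99610 : nd 99610 = n202748 := ndS (p := 62551) (l := 6) rfl N62551 D202748
theorem N99611 : nd 99611 = n202749 := ndS (p := 62552) (l := 5) rfl N62552 D202749
theorem N99612 : nd 99612 = n202750 := ndS (p := 62566) (l := 0) rfl N62566 D202750
theorem N99613 : nd 99613 = n202751 := ndS (p := 62566) (l := 1) rfl N62566 D202751
theorem N99614 : nd 99614 = n202752 := ndS (p := 62566) (l := 4) rfl N62566 D202752
theorem N99615 : nd 99615 = n202753 := ndS (p := 62569) (l := 2) rfl N62569 D202753
theorem N99616 : nd 99616 = n202754 := ndS (p := 62571) (l := 4) rfl N62571 D202754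
theorem N99617 : nd 99617 = n202755 := ndS (p := 62574) (l := 5) rfl N62574 D202755
theorem N99618 : nd 99618 = n202756 := ndS (p := 62576) (l := 0) rfl N62576 D202756
theorem N99619 : nd 99619 = n202757 := ndS (p := 62578) (l := 6) rfl N62578 D202757
theorem N99620 : nd 99620 = n202758 := ndS (p := 62579) (l := 6) rfl N62579 D202758
theorem N99621 : nd 99621 = n202759 := ndS (p := 62580) (l := 5) rfl N62580 D202759
theorem N99622 : nd 99622 = n202760 := ndS (p := 62584) (l := 6) rfl N62584 D202760
theorem N99623 : nd 99623 = n202761 := ndS (p := 62585) (l := 6) rfl N62585 D202761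
theorem N99624 : nd 99624 = n202762 := ndS (p := 62586) (l := 5) rfl N62586 D202762
theorem N99625 : nd 99625 = n202763 := ndS (p := 62586) (l := 7) rfl N62586 D202763
theorem N99626 : nd 99626 = n202764 := ndS (p := 62587) (l := 0) rfl N62587 D202764
theorem N99627 : nd 99627 = n202765 := ndS (p := 62587) (l := 1) rfl N62587 D202765
theorem N99628 : nd 99628 = n202766 := ndS (p := 62587) (l := 5) rfl N62587 D202766
theorem N99629 : nd 99629 = n202767 := ndS (p := 62587) (l := 7) rfl N62587 D202767
theorem N99630 : nd 99630 = n202768 := ndS (p := 62591) (l := 4) rfl N62591 D202768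
theorem N99631 : nd 99631 = n202769 := ndS (p := 62591) (l := 6) rfl N62591 D202769
theorem N99632 : nd 99632 = n202770 := ndS (p := 62598) (l := 2) rfl N62598 D202770
theorem N99633 : nd 99633 = n202771 := ndS (p := 62598) (l := 6) rfl N62598 D202771
theorem N99634 : nd 99634 = n202772 := ndS (p := 62601) (l := 0) rfl N62601 D202772
theorem N99635 : nd 99635 = n202773 := ndS (p := 62601) (l := 2) rfl N62601 D202773
theorem N99636 : nd 99636 = n202774 := ndS (p := 62601) (l := 6) rfl N62601 D202774
theorem N99637 : nd 99637 = n202775 := ndS (p := 62606) (l := 4) rfl N62606 D202775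
theorem N99638 : nd 99638 = n202776 := ndS (p := 62611) (l := 1) rfl N62611 D202776
theorem N99639 : nd 99639 = n202777 := ndS (p := 62611) (l := 4) rfl N62611 D202777
theorem N99640 : nd 99640 = n202778 := ndS (p := 62612) (l := 0) rfl N62612 D202778
theorem N99641 : nd 99641 = n202779 := ndS (p := 62612) (l := 1) rfl N62612 D202779
theorem N99642 : nd 99642 = n202780 := ndS (p := 62616) (l := 6) rfl N62616 D202780
theorem N99643 : nd 99643 = n202781 := ndS (p := 62618) (l := 0) rfl N62618 D202781
theorem N99644 : nd 99644 = n202782 := ndS (p := 62618) (l := 1) rfl N62618 D202782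
theorem N99645 : nd 99645 = n202783 := ndS (p := 62618) (l := 5) rfl N62618 D202783
theorem N99646 : nd 99646 = n202784 := ndS (p := 62619) (l := 5) rfl N62619 D202784
theorem N99647 : nd 99647 = n202785 := ndS (p := 62619) (l := 7) rfl N62619 D202785
theorem N99648 : nd 99648 = n202786 := ndS (p := 62620) (l := 0) rfl N62620 D202786
theorem N99649 : nd 99649 = n202787 := ndS (p := 62620) (l := 1) rfl N62620 D202787
theorem N99650 : nd 99650 = n202788 := ndS (p := 62620) (l := 4) rfl N62620 D202788
theorem N99651 : nd 99651 = n202789 := ndS (p := 62621) (l := 5) rfl N62621 D202789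
theorem N99652 : nd 99652 = n202790 := ndS (p := 62624) (l := 4) rfl N62624 D202790
theorem N99653 : nd 99653 = n202791 := ndS (p := 62625) (l := 6) rfl N62625 D202791
theorem N99654 : nd 99654 = n202792 := ndS (p := 62626) (l := 5) rfl N62626 D202792
theorem N99655 : nd 99655 = n202793 := ndS (p := 62626) (l := 6) rfl N62626 D202793
theorem N99656 : nd 99656 = n202794 := ndS (p := 62627) (l := 4) rfl N62627 D202794
theorem N99657 : nd 99657 = n202795 := ndS (p := 62627) (l := 6) rfl N62627 D202795
theorem N99658 : nd 99658 = n202796 := ndS (p := 62628) (l := 0) rfl N62628 D202796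
theorem N99659 : nd 99659 = n202797 := ndS (p := 62628) (l := 1) rfl N62628 D202797
theorem N99660 : nd 99660 = n202798 := ndS (p := 62628) (l := 5) rfl N62628 D202798
theorem N99661 : nd 99661 = n202799 := ndS (p := 62628) (l := 7) rfl N62628 D202799
theorem N99662 : nd 99662 = n202800 := ndS (p := 62629) (l := 0) rfl N62629 D202800
theorem N99663 : nd 99663 = n202801 := ndS (p := 62629) (l := 1) rfl N62629 D202801
theorem N99664 : nd 99664 = n202802 := ndS (p := 62629) (l := 5) rfl N62629 D202802
theorem N99665 : nd 99665 = n202803 := ndS (p := 62629) (l := 7) rfl N62629 D202803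
theorem N99666 : nd 99666 = n202804 := ndS (p := 62630) (l := 3) rfl N62630 D202804
theorem N99667 : nd 99667 = n202805 := ndS (p := 62630) (l := 5) rfl N62630 D202805
theorem N99668 : nd 99668 = n202806 := ndS (p := 62631) (l := 5) rfl N62631 D202806
theorem N99669 : nd 99669 = n202807 := ndS (p := 62632) (l := 4) rfl N62632 D202807
theorem N99670 : nd 99670 = n202808 := ndS (p := 62634) (l := 3) rfl N62634 D202808
theorem N99671 : nd 99671 = n202809 := ndS (p := 62634) (l := 5) rfl N62634 D202809
theorem N99672 : nd 99672 = n202810 := ndS (p := 62636) (l := 4) rfl N62636 D202810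
theorem N99673 : nd 99673 = n202811 := ndS (p := 62637) (l := 4) rfl N62637 D202811
theorem N99674 : nd 99674 = n202812 := ndS (p := 62638) (l := 5) rfl N62638 D202812
theorem N99675 : nd 99675 = n202813 := ndS (p := 62638) (l := 6) rfl N62638 D202813
theorem N99676 : nd 99676 = n202814 := ndS (p := 62640) (l := 0) rfl N62640 D202814
theorem N99677 : nd 99677 = n202815 := ndS (p := 62640) (l := 5) rfl N62640 D202815
theorem N99678 : nd 99678 = n202816 := ndS (p := 62641) (l := 0) rfl N62641 D202816
theorem N99679 : nd 99679 = n202817 := ndS (p := 62641) (l := 1) rfl N62641 D202817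
theorem N99680 : nd 99680 = n202818 := ndS (p := 62641) (l := 5) rfl N62641 D202818
theorem N99681 : nd 99681 = n202819 := ndS (p := 62641) (l := 7) rfl N62641 D202819
theorem N99682 : nd 99682 = n202820 := ndS (p := 62642) (l := 0) rfl N62642 D202820
theorem N99683 : nd 99683 = n202821 := ndS (p := 62642) (l := 1) rfl N62642 D202821
theorem N99684 : nd 99684 = n202822 := ndS (p := 62643) (l := 3) rfl N62643 D202822
theorem N99685 : nd 99685 = n202823 := ndS (p := 62645) (l := 5) rfl N62645 D202823
theorem N99686 : nd 99686 = n202824 := ndS (p := 62645) (l := 6) rfl N62645 D202824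
theorem N99687 : nd 99687 = n202825 := ndS (p := 62646) (l := 4) rfl N62646 D202825
theorem N99688 : nd 99688 = n202826 := ndS (p := 62647) (l := 1) rfl N62647 D202826
theorem N99689 : nd 99689 = n202827 := ndS (p := 62647) (l := 5) rfl N62647 D202827
theorem N99690 : nd 99690 = n202828 := ndS (p := 62647) (l := 7) rfl N62647 D202828
theorem N99691 : nd 99691 = n202829 := ndS (p := 62648) (l := 0) rfl N62648 D202829
theorem N99692 : nd 99692 = n202830 := ndS (p := 62648) (l := 1) rfl N62648 D202830
theorem N99693 : nd 99693 = n202831 := ndS (p := 62648) (l := 5) rfl N62648 D202831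
theorem N99694 : nd 99694 = n202832 := ndS (p := 62648) (l := 7) rfl N62648 D202832
theorem N99695 : nd 99695 = n202833 := ndS (p := 62649) (l := 4) rfl N62649 D202833
theorem N99696 : nd 99696 = n202834 := ndS (p := 62651) (l := 1) rfl N62651 D202834
theorem N99697 : nd 99697 = n202835 := ndS (p := 62652) (l := 5) rfl N62652 D202835
theorem N99698 : nd 99698 = n202836 := ndS (p := 62653) (l := 6) rfl N62653 D202836
theorem N99699 : nd 99699 = n202837 := ndS (p := 62654) (l := 1) rfl N62654 D202837
theorem N99700 : nd 99700 = n202838 := ndS (p := 62654) (l := 5) rfl N62654 D202838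
theorem N99701 : nd 99701 = n202839 := ndS (p := 62654) (l := 7) rfl N62654 D202839
theorem N99702 : nd 99702 = n202840 := ndS (p := 62657) (l := 3) rfl N62657 D202840
theorem N99703 : nd 99703 = n202841 := ndS (p := 62657) (l := 6) rfl N62657 D202841
theorem N99704 : nd 99704 = n202842 := ndS (p := 62659) (l := 6) rfl N62659 D202842
theorem N99705 : nd 99705 = n202843 := ndS (p := 62660) (l := 1) rfl N62660 D202843
theorem N99706 : nd 99706 = n202844 := ndS (p := 62660) (l := 5) rfl N62660 D202844
theorem N99707 : nd 99707 = n202845 := ndS (p := 62661) (l := 6) rfl N62661 D202845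
theorem N99708 : nd 99708 = n202846 := ndS (p := 62662) (l := 5) rfl N62662 D202846
theorem N99709 : nd 99709 = n202847 := ndS (p := 62663) (l := 6) rfl N62663 D202847
theorem N99710 : nd 99710 = n202848 := ndS (p := 62665) (l := 3) rfl N62665 D202848
theorem N99711 : nd 99711 = n202849 := ndS (p := 62665) (l := 4) rfl N62665 D202849
theorem N99712 : nd 99712 = n202850 := ndS (p := 62667) (l := 1) rfl N62667 D202850
theorem N99713 : nd 99713 = n202851 := ndS (p := 62668) (l := 0) rfl N62668 D202851
theorem N99714 : nd 99714 = n202852 := ndS (p := 62670) (l := 2) rfl N62670 D202852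
theorem N99715 : nd 99715 = n202853 := ndS (p := 62671) (l := 6) rfl N62671 D202853
theorem N99716 : nd 99716 = n202854 := ndS (p := 62673) (l := 5) rfl N62673 D202854
theorem N99717 : nd 99717 = n202855 := ndS (p := 62674) (l := 3) rfl N62674 D202855
theorem N99718 : nd 99718 = n202856 := ndS (p := 62676) (l := 2) rfl N62676 D202856
theorem N99719 : nd 99719 = n202857 := ndS (p := 62676) (l := 5) rfl N62676 D202857
theorem N99720 : nd 99720 = n202858 := ndS (p := 62676) (l := 6) rfl N62676 D202858
theorem N99721 : nd 99721 = n202859 := ndS (p := 62678) (l := 0) rfl N62678 D202859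
theorem N99722 : nd 99722 = n202860 := ndS (p := 62678) (l := 1) rfl N62678 D202860
theorem N99723 : nd 99723 = n202861 := ndS (p := 62678) (l := 5) rfl N62678 D202861
theorem N99724 : nd 99724 = n202862 := ndS (p := 62680) (l := 5) rfl N62680 D202862
theorem N99725 : nd 99725 = n202863 := ndS (p := 62680) (l := 6) rfl N62680 D202863
theorem N99726 : nd 99726 = n202864 := ndS (p := 62682) (l := 0) rfl N62682 D202864
theorem N99727 : nd 99727 = n202865 := ndS (p := 62682) (l := 5) rfl N62682 D202865
theorem N99728 : nd 99728 = n202866 := ndS (p := 62682) (l := 7) rfl N62682 D202866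
theorem N99729 : nd 99729 = n202867 := ndS (p := 62687) (l := 5) rfl N62687 D202867
theorem N99730 : nd 99730 = n202868 := ndS (p := 62689) (l := 4) rfl N62689 D202868
theorem N99731 : nd 99731 = n202869 := ndS (p := 62692) (l := 3) rfl N62692 D202869
theorem N99732 : nd 99732 = n202870 := ndS (p := 62698) (l := 5) rfl N62698 D202870
theorem N99733 : nd 99733 = n202871 := ndS (p := 62699) (l := 0) rfl N62699 D202871
theorem N99734 : nd 99734 = n202872 := ndS (p := 62699) (l := 6) rfl N62699 D202872
theorem N99735 : nd 99735 = n202873 := ndS (p := 62702) (l := 5) rfl N62702 D202873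
theorem N99736 : nd 99736 = n202874 := ndS (p := 62703) (l := 6) rfl N62703 D202874
theorem N99737 : nd 99737 = n202875 := ndS (p := 62705) (l := 0) rfl N62705 D202875
theorem N99738 : nd 99738 = n202876 := ndS (p := 62706) (l := 5) rfl N62706 D202876
theorem N99739 : nd 99739 = n202877 := ndS (p := 62706) (l := 6) rfl N62706 D202877
theorem N99740 : nd 99740 = n202878 := ndS (p := 62707) (l := 6) rfl N62707 D202878
theorem N99741 : nd 99741 = n202879 := ndS (p := 62708) (l := 0) rfl N62708 D202879
theorem N99742 : nd 99742 = n202880 := ndS (p := 62708) (l := 5) rfl N62708 D202880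
theorem N99743 : nd 99743 = n202881 := ndS (p := 62712) (l := 1) rfl N62712 D202881
theorem N99744 : nd 99744 = n202882 := ndS (p := 62712) (l := 4) rfl N62712 D202882
theorem N99745 : nd 99745 = n202883 := ndS (p := 62712) (l := 6) rfl N62712 D202883
theorem N99746 : nd 99746 = n202884 := ndS (p := 62716) (l := 6) rfl N62716 D202884
theorem N99747 : nd 99747 = n202885 := ndS (p := 62723) (l := 5) rfl N62723 D202885
theorem N99748 : nd 99748 = n202886 := ndS (p := 62724) (l := 5) rfl N62724 D202886
theorem N99749 : nd 99749 = n202887 := ndS (p := 62726) (l := 5) rfl N62726 D202887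
theorem N99750 : nd 99750 = n202888 := ndS (p := 62728) (l := 3) rfl N62728 D202888
theorem N99751 : nd 99751 = n202889 := ndS (p := 62728) (l := 5) rfl N62728 D202889
theorem N99752 : nd 99752 = n202890 := ndS (p := 62729) (l := 4) rfl N62729 D202890
theorem N99753 : nd 99753 = n202891 := ndS (p := 62730) (l := 3) rfl N62730 D202891
theorem N99754 : nd 99754 = n202892 := ndS (p := 62730) (l := 4) rfl N62730 D202892
theorem N99755 : nd 99755 = n202893 := ndS (p := 62735) (l := 4) rfl N62735 D202893
theorem N99756 : nd 99756 = n202894 := ndS (p := 62736) (l := 0) rfl N62736 D202894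
theorem N99757 : nd 99757 = n202895 := ndS (p := 62738) (l := 0) rfl N62738 D202895
theorem N99758 : nd 99758 = n202896 := ndS (p := 62738) (l := 1) rfl N62738 D202896
theorem N99759 : nd 99759 = n202897 := ndS (p := 62738) (l := 5) rfl N62738 D202897
theorem N99760 : nd 99760 = n202898 := ndS (p := 62741) (l := 6) rfl N62741 D202898
theorem N99761 : nd 99761 = n202899 := ndS (p := 62743) (l := 6) rfl N62743 D202899
theorem N99762 : nd 99762 = n202900 := ndS (p := 62744) (l := 0) rfl N62744 D202900
theorem N99763 : nd 99763 = n202901 := ndS (p := 62744) (l := 5) rfl N62744 D202901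
theorem N99764 : nd 99764 = n202902 := ndS (p := 62745) (l := 0) rfl N62745 D202902
theorem N99765 : nd 99765 = n202903 := ndS (p := 62745) (l := 1) rfl N62745 D202903
theorem N99766 : nd 99766 = n202904 := ndS (p := 62745) (l := 5) rfl N62745 D202904
theorem N99767 : nd 99767 = n202905 := ndS (p := 62746) (l := 6) rfl N62746 D202905
theorem N99768 : nd 99768 = n202906 := ndS (p := 62749) (l := 4) rfl N62749 D202906
theorem N99769 : nd 99769 = n202907 := ndS (p := 62751) (l := 2) rfl N62751 D202907
theorem N99770 : nd 99770 = n202908 := ndS (p := 62753) (l := 0) rfl N62753 D202908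
theorem N99771 : nd 99771 = n202909 := ndS (p := 62753) (l := 5) rfl N62753 D202909
theorem N99772 : nd 99772 = n202910 := ndS (p := 62753) (l := 7) rfl N62753 D202910
theorem N99773 : nd 99773 = n202911 := ndS (p := 62754) (l := 5) rfl N62754 D202911
theorem N99774 : nd 99774 = n202912 := ndS (p := 62757) (l := 0) rfl N62757 D202912
theorem N99775 : nd 99775 = n202913 := ndS (p := 62760) (l := 3) rfl N62760 D202913
theorem N99776 : nd 99776 = n202914 := ndS (p := 62760) (l := 6) rfl N62760 D202914
theorem N99777 : nd 99777 = n202915 := ndS (p := 62762) (l := 0) rfl N62762 D202915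
theorem N99778 : nd 99778 = n202916 := ndS (p := 62762) (l := 1) rfl N62762 D202916
theorem N99779 : nd 99779 = n202917 := ndS (p := 62762) (l := 5) rfl N62762 D202917
theorem N99780 : nd 99780 = n202918 := ndS (p := 62762) (l := 7) rfl N62762 D202918
theorem N99781 : nd 99781 = n202919 := ndS (p := 62763) (l := 5) rfl N62763 D202919
theorem N99782 : nd 99782 = n202920 := ndS (p := 62764) (l := 0) rfl N62764 D202920
theorem N99783 : nd 99783 = n202921 := ndS (p := 62764) (l := 1) rfl N62764 D202921
theorem N99784 : nd 99784 = n202922 := ndS (p := 62764) (l := 7) rfl N62764 D202922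
theorem N99785 : nd 99785 = n202923 := ndS (p := 62766) (l := 0) rfl N62766 D202923
theorem N99786 : nd 99786 = n202924 := ndS (p := 62766) (l := 3) rfl N62766 D202924
theorem N99787 : nd 99787 = n202925 := ndS (p := 62766) (l := 5) rfl N62766 D202925
theorem N99788 : nd 99788 = n202926 := ndS (p := 62767) (l := 6) rfl N62767 D202926
theorem N99789 : nd 99789 = n202927 := ndS (p := 62774) (l := 0) rfl N62774 D202927
theorem N99790 : nd 99790 = n202928 := ndS (p := 62777) (l := 6) rfl N62777 D202928
theorem N99791 : nd 99791 = n202929 := ndS (p := 62778) (l := 4) rfl N62778 D202929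
theorem N99792 : nd 99792 = n202930 := ndS (p := 62779) (l := 0) rfl N62779 D202930
theorem N99793 : nd 99793 = n202931 := ndS (p := 62781) (l := 3) rfl N62781 D202931
theorem N99794 : nd 99794 = n202932 := ndS (p := 62782) (l := 5) rfl N62782 D202932
theorem N99795 : nd 99795 = n202933 := ndS (p := 62784) (l := 1) rfl N62784 D202933
theorem N99796 : nd 99796 = n202934 := ndS (p := 62788) (l := 6) rfl N62788 D202934
theorem N99797 : nd 99797 = n202935 := ndS (p := 62789) (l := 0) rfl N62789 D202935
theorem N99798 : nd 99798 = n202936 := ndS (p := 62790) (l := 4) rfl N62790 D202936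
theorem N99799 : nd 99799 = n202937 := ndS (p := 62791) (l := 4) rfl N62791 D202937
theorem N99800 : nd 99800 = n202938 := ndS (p := 62794) (l := 3) rfl N62794 D202938
theorem N99801 : nd 99801 = n202939 := ndS (p := 62795) (l := 1) rfl N62795 D202939
theorem N99802 : nd 99802 = n202940 := ndS (p := 62795) (l := 5) rfl N62795 D202940
theorem N99803 : nd 99803 = n202941 := ndS (p := 62795) (l := 6) rfl N62795 D202941
theorem N99804 : nd 99804 = n202942 := ndS (p := 62803) (l := 3) rfl N62803 D202942
theorem N99805 : nd 99805 = n202943 := ndS (p := 62804) (l := 0) rfl N62804 D202943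
theorem N99806 : nd 99806 = n202944 := ndS (p := 62804) (l := 7) rfl N62804 D202944
theorem N99807 : nd 99807 = n202945 := ndS (p := 62807) (l := 0) rfl N62807 D202945
theorem N99808 : nd 99808 = n202946 := ndS (p := 62807) (l := 1) rfl N62807 D202946
theorem N99809 : nd 99809 = n202947 := ndS (p := 62807) (l := 2) rfl N62807 D202947
theorem N99810 : nd 99810 = n202948 := ndS (p := 62809) (l := 0) rfl N62809 D202948
theorem N99811 : nd 99811 = n202949 := ndS (p := 62810) (l := 3) rfl N62810 D202949
theorem N99812 : nd 99812 = n202950 := ndS (p := 62813) (l := 6) rfl N62813 D202950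
theorem N99813 : nd 99813 = n202951 := ndS (p := 62816) (l := 6) rfl N62816 D202951
theorem N99814 : nd 99814 = n202952 := ndS (p := 62819) (l := 5) rfl N62819 D202952
theorem N99815 : nd 99815 = n202953 := ndS (p := 62821) (l := 6) rfl N62821 D202953
theorem N99816 : nd 99816 = n202954 := ndS (p := 62822) (l := 3) rfl N62822 D202954
theorem N99817 : nd 99817 = n202955 := ndS (p := 62832) (l := 0) rfl N62832 D202955
theorem N99818 : nd 99818 = n202956 := ndS (p := 62832) (l := 7) rfl N62832 D202956
theorem N99819 : nd 99819 = n202957 := ndS (p := 62840) (l := 2) rfl N62840 D202957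
theorem N99820 : nd 99820 = n202958 := ndS (p := 62842) (l := 1) rfl N62842 D202958
theorem N99821 : nd 99821 = n202959 := ndS (p := 62842) (l := 6) rfl N62842 D202959
theorem N99822 : nd 99822 = n202960 := ndS (p := 62843) (l := 0) rfl N62843 D202960
theorem N99823 : nd 99823 = n202961 := ndS (p := 62843) (l := 1) rfl N62843 D202961
theorem N99824 : nd 99824 = n202962 := ndS (p := 62843) (l := 5) rfl N62843 D202962
theorem N99825 : nd 99825 = n202963 := ndS (p := 62843) (l := 7) rfl N62843 D202963
theorem N99826 : nd 99826 = n202964 := ndS (p := 62844) (l := 4) rfl N62844 D202964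
theorem N99827 : nd 99827 = n202965 := ndS (p := 62848) (l := 3) rfl N62848 D202965
theorem N99828 : nd 99828 = n202966 := ndS (p := 62848) (l := 6) rfl N62848 D202966
theorem N99829 : nd 99829 = n202967 := ndS (p := 62850) (l := 1) rfl N62850 D202967
theorem N99830 : nd 99830 = n202968 := ndS (p := 62850) (l := 2) rfl N62850 D202968
theorem N99831 : nd 99831 = n202969 := ndS (p := 62850) (l := 5) rfl N62850 D202969
theorem N99832 : nd 99832 = n202970 := ndS (p := 62850) (l := 6) rfl N62850 D202970
theorem N99833 : nd 99833 = n202971 := ndS (p := 62851) (l := 4) rfl N62851 D202971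
theorem N99834 : nd 99834 = n202972 := ndS (p := 62856) (l := 2) rfl N62856 D202972
theorem N99835 : nd 99835 = n202973 := ndS (p := 62856) (l := 6) rfl N62856 D202973
theorem N99836 : nd 99836 = n202974 := ndS (p := 62861) (l := 3) rfl N62861 D202974
theorem N99837 : nd 99837 = n202975 := ndS (p := 62861) (l := 5) rfl N62861 D202975
theorem N99838 : nd 99838 = n202976 := ndS (p := 62866) (l := 6) rfl N62866 D202976
theorem N99839 : nd 99839 = n202977 := ndS (p := 62870) (l := 4) rfl N62870 D202977
theorem N99840 : nd 99840 = n202978 := ndS (p := 62870) (l := 6) rfl N62870 D202978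
theorem N99841 : nd 99841 = n202979 := ndS (p := 62873) (l := 3) rfl N62873 D202979
theorem N99842 : nd 99842 = n202980 := ndS (p := 62873) (l := 4) rfl N62873 D202980
theorem N99843 : nd 99843 = n202981 := ndS (p := 62873) (l := 5) rfl N62873 D202981
theorem N99844 : nd 99844 = n202982 := ndS (p := 62873) (l := 6) rfl N62873 D202982
theorem N99845 : nd 99845 = n202983 := ndS (p := 62874) (l := 5) rfl N62874 D202983
theorem N99846 : nd 99846 = n202984 := ndS (p := 62877) (l := 6) rfl N62877 D202984
theorem N99847 : nd 99847 = n202985 := ndS (p := 62879) (l := 6) rfl N62879 D202985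
theorem N99848 : nd 99848 = n202986 := ndS (p := 62883) (l := 0) rfl N62883 D202986
theorem N99849 : nd 99849 = n202987 := ndS (p := 62883) (l := 1) rfl N62883 D202987
theorem N99850 : nd 99850 = n202988 := ndS (p := 62883) (l := 3) rfl N62883 D202988
theorem N99851 : nd 99851 = n202989 := ndS (p := 62883) (l := 7) rfl N62883 D202989
theorem N99852 : nd 99852 = n202990 := ndS (p := 62888) (l := 6) rfl N62888 D202990
theorem N99853 : nd 99853 = n202991 := ndS (p := 62889) (l := 5) rfl N62889 D202991
theorem N99854 : nd 99854 = n202992 := ndS (p := 62891) (l := 0) rfl N62891 D202992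
theorem N99855 : nd 99855 = n202993 := ndS (p := 62891) (l := 5) rfl N62891 D202993
theorem N99856 : nd 99856 = n202994 := ndS (p := 62892) (l := 4) rfl N62892 D202994
theorem N99857 : nd 99857 = n202995 := ndS (p := 62892) (l := 6) rfl N62892 D202995
theorem N99858 : nd 99858 = n202996 := ndS (p := 62893) (l := 5) rfl N62893 D202996
theorem N99859 : nd 99859 = n202997 := ndS (p := 62897) (l := 5) rfl N62897 D202997
theorem N99860 : nd 99860 = n202998 := ndS (p := 62898) (l := 5) rfl N62898 D202998
theorem N99861 : nd 99861 = n202999 := ndS (p := 62901) (l := 5) rfl N62901 D202999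
theorem N99862 : nd 99862 = n203000 := ndS (p := 62901) (l := 6) rfl N62901 D203000
theorem N99863 : nd 99863 = n203001 := ndS (p := 62902) (l := 5) rfl N62902 D203001
theorem N99864 : nd 99864 = n203002 := ndS (p := 62903) (l := 6) rfl N62903 D203002
theorem N99865 : nd 99865 = n203004 := ndS (p := 62904) (l := 5) rfl N62904 D203004
theorem N99866 : nd 99866 = n203005 := ndS (p := 62904) (l := 7) rfl N62904 D203005
theorem N99867 : nd 99867 = n203006 := ndS (p := 62906) (l := 4) rfl N62906 D203006
theorem N99868 : nd 99868 = n203007 := ndS (p := 62907) (l := 7) rfl N62907 D203007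
theorem N99869 : nd 99869 = n203008 := ndS (p := 62909) (l := 0) rfl N62909 D203008
theorem N99870 : nd 99870 = n203009 := ndS (p := 62909) (l := 5) rfl N62909 D203009
theorem N99871 : nd 99871 = n203010 := ndS (p := 62911) (l := 6) rfl N62911 D203010
theorem N99872 : nd 99872 = n203011 := ndS (p := 62912) (l := 3) rfl N62912 D203011
theorem N99873 : nd 99873 = n203012 := ndS (p := 62915) (l := 6) rfl N62915 D203012
theorem N99874 : nd 99874 = n203013 := ndS (p := 62916) (l := 5) rfl N62916 D203013
theorem N99875 : nd 99875 = n203014 := ndS (p := 62916) (l := 7) rfl N62916 D203014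
theorem N99876 : nd 99876 = n203015 := ndS (p := 62918) (l := 5) rfl N62918 D203015
theorem N99877 : nd 99877 = n203016 := ndS (p := 62920) (l := 3) rfl N62920 D203016
theorem N99878 : nd 99878 = n203017 := ndS (p := 62920) (l := 6) rfl N62920 D203017
theorem N99879 : nd 99879 = n203018 := ndS (p := 62921) (l := 5) rfl N62921 D203018
theorem N99880 : nd 99880 = n203019 := ndS (p := 62922) (l := 4) rfl N62922 D203019
theorem N99881 : nd 99881 = n203020 := ndS (p := 62923) (l := 3) rfl N62923 D203020
theorem N99882 : nd 99882 = n203021 := ndS (p := 62924) (l := 3) rfl N62924 D203021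
theorem N99883 : nd 99883 = n203022 := ndS (p := 62924) (l := 5) rfl N62924 D203022
theorem N99884 : nd 99884 = n203023 := ndS (p := 62925) (l := 6) rfl N62925 D203023
theorem N99885 : nd 99885 = n203024 := ndS (p := 62926) (l := 0) rfl N62926 D203024
theorem N99886 : nd 99886 = n203025 := ndS (p := 62926) (l := 4) rfl N62926 D203025
theorem N99887 : nd 99887 = n203026 := ndS (p := 62926) (l := 7) rfl N62926 D203026
theorem N99888 : nd 99888 = n203027 := ndS (p := 62928) (l := 3) rfl N62928 D203027
theorem N99889 : nd 99889 = n203028 := ndS (p := 62929) (l := 5) rfl N62929 D203028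
theorem N99890 : nd 99890 = n203029 := ndS (p := 62929) (l := 6) rfl N62929 D203029
theorem N99891 : nd 99891 = n203030 := ndS (p := 62932) (l := 6) rfl N62932 D203030
theorem N99892 : nd 99892 = n203031 := ndS (p := 62933) (l := 0) rfl N62933 D203031
theorem N99893 : nd 99893 = n203032 := ndS (p := 62933) (l := 1) rfl N62933 D203032
theorem N99894 : nd 99894 = n203033 := ndS (p := 62933) (l := 4) rfl N62933 D203033
theorem N99895 : nd 99895 = n203034 := ndS (p := 62936) (l := 5) rfl N62936 D203034
theorem N99896 : nd 99896 = n203035 := ndS (p := 62938) (l := 4) rfl N62938 D203035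
theorem N99897 : nd 99897 = n203036 := ndS (p := 62939) (l := 5) rfl N62939 D203036
theorem N99898 : nd 99898 = n203037 := ndS (p := 62941) (l := 0) rfl N62941 D203037
theorem N99899 : nd 99899 = n203038 := ndS (p := 62941) (l := 4) rfl N62941 D203038
theorem N99900 : nd 99900 = n203039 := ndS (p := 62941) (l := 7) rfl N62941 D203039
theorem N99901 : nd 99901 = n203040 := ndS (p := 62943) (l := 2) rfl N62943 D203040
theorem N99902 : nd 99902 = n203041 := ndS (p := 62943) (l := 5) rfl N62943 D203041
theorem N99903 : nd 99903 = n203042 := ndS (p := 62944) (l := 4) rfl N62944 D203042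
theorem N99904 : nd 99904 = n203043 := ndS (p := 62944) (l := 6) rfl N62944 D203043
theorem N99905 : nd 99905 = n203044 := ndS (p := 62945) (l := 5) rfl N62945 D203044
theorem N99906 : nd 99906 = n203045 := ndS (p := 62946) (l := 4) rfl N62946 D203045
theorem N99907 : nd 99907 = n203046 := ndS (p := 62946) (l := 6) rfl N62946 D203046
theorem N99908 : nd 99908 = n203047 := ndS (p := 62947) (l := 6) rfl N62947 D203047
theorem N99909 : nd 99909 = n203048 := ndS (p := 62948) (l := 0) rfl N62948 D203048
theorem N99910 : nd 99910 = n203049 := ndS (p := 62948) (l := 1) rfl N62948 D203049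
theorem N99911 : nd 99911 = n203050 := ndS (p := 62948) (l := 5) rfl N62948 D203050
theorem N99912 : nd 99912 = n203051 := ndS (p := 62948) (l := 7) rfl N62948 D203051
theorem N99913 : nd 99913 = n203052 := ndS (p := 62949) (l := 4) rfl N62949 D203052
theorem N99914 : nd 99914 = n203053 := ndS (p := 62950) (l := 4) rfl N62950 D203053
theorem N99915 : nd 99915 = n203054 := ndS (p := 62951) (l := 1) rfl N62951 D203054
theorem N99916 : nd 99916 = n203055 := ndS (p := 62952) (l := 3) rfl N62952 D203055
theorem N99917 : nd 99917 = n203056 := ndS (p := 62952) (l := 5) rfl N62952 D203056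
theorem N99918 : nd 99918 = n203057 := ndS (p := 62953) (l := 3) rfl N62953 D203057
theorem N99919 : nd 99919 = n203058 := ndS (p := 62953) (l := 5) rfl N62953 D203058
theorem N99920 : nd 99920 = n203059 := ndS (p := 62954) (l := 0) rfl N62954 D203059
theorem N99921 : nd 99921 = n203060 := ndS (p := 62954) (l := 1) rfl N62954 D203060
theorem N99922 : nd 99922 = n203061 := ndS (p := 62954) (l := 4) rfl N62954 D203061
theorem N99923 : nd 99923 = n203062 := ndS (p := 62954) (l := 7) rfl N62954 D203062
theorem N99924 : nd 99924 = n203063 := ndS (p := 62957) (l := 0) rfl N62957 D203063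
theorem N99925 : nd 99925 = n203064 := ndS (p := 62957) (l := 5) rfl N62957 D203064
theorem N99926 : nd 99926 = n203065 := ndS (p := 62960) (l := 4) rfl N62960 D203065
theorem N99927 : nd 99927 = n203066 := ndS (p := 62961) (l := 3) rfl N62961 D203066
theorem N99928 : nd 99928 = n203067 := ndS (p := 62961) (l := 4) rfl N62961 D203067
theorem N99929 : nd 99929 = n203068 := ndS (p := 62961) (l := 5) rfl N62961 D203068
theorem N99930 : nd 99930 = n203069 := ndS (p := 62961) (l := 6) rfl N62961 D203069
theorem N99931 : nd 99931 = n203070 := ndS (p := 62962) (l := 0) rfl N62962 D203070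
theorem N99932 : nd 99932 = n203071 := ndS (p := 62962) (l := 1) rfl N62962 D203071
theorem N99933 : nd 99933 = n203072 := ndS (p := 62962) (l := 3) rfl N62962 D203072
theorem N99934 : nd 99934 = n203073 := ndS (p := 62963) (l := 6) rfl N62963 D203073
theorem N99935 : nd 99935 = n203074 := ndS (p := 62964) (l := 5) rfl N62964 D203074
theorem N99936 : nd 99936 = n203075 := ndS (p := 62965) (l := 3) rfl N62965 D203075
theorem N99937 : nd 99937 = n203076 := ndS (p := 62965) (l := 5) rfl N62965 D203076
theorem N99938 : nd 99938 = n203077 := ndS (p := 62965) (l := 6) rfl N62965 D203077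
theorem N99939 : nd 99939 = n203078 := ndS (p := 62966) (l := 3) rfl N62966 D203078
theorem N99940 : nd 99940 = n203079 := ndS (p := 62966) (l := 5) rfl N62966 D203079
theorem N99941 : nd 99941 = n203080 := ndS (p := 62967) (l := 0) rfl N62967 D203080
theorem N99942 : nd 99942 = n203081 := ndS (p := 62967) (l := 1) rfl N62967 D203081
theorem N99943 : nd 99943 = n203082 := ndS (p := 62967) (l := 4) rfl N62967 D203082
theorem N99944 : nd 99944 = n203083 := ndS (p := 62969) (l := 3) rfl N62969 D203083
theorem N99945 : nd 99945 = n203084 := ndS (p := 62970) (l := 1) rfl N62970 D203084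
theorem N99946 : nd 99946 = n203085 := ndS (p := 62971) (l := 3) rfl N62971 D203085
theorem N99947 : nd 99947 = n203086 := ndS (p := 62971) (l := 5) rfl N62971 D203086
theorem N99948 : nd 99948 = n203088 := ndS (p := 62972) (l := 2) rfl N62972 D203088
theorem N99949 : nd 99949 = n203089 := ndS (p := 62972) (l := 5) rfl N62972 D203089
theorem N99950 : nd 99950 = n203090 := ndS (p := 62972) (l := 6) rfl N62972 D203090
theorem N99951 : nd 99951 = n203091 := ndS (p := 62973) (l := 0) rfl N62973 D203091
theorem N99952 : nd 99952 = n203092 := ndS (p := 62973) (l := 1) rfl N62973 D203092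
theorem N99953 : nd 99953 = n203093 := ndS (p := 62973) (l := 6) rfl N62973 D203093
theorem N99954 : nd 99954 = n203094 := ndS (p := 62975) (l := 4) rfl N62975 D203094
theorem N99955 : nd 99955 = n203095 := ndS (p := 62976) (l := 0) rfl N62976 D203095
theorem N99956 : nd 99956 = n203096 := ndS (p := 62976) (l := 1) rfl N62976 D203096
theorem N99957 : nd 99957 = n203097 := ndS (p := 62980) (l := 3) rfl N62980 D203097
theorem N99958 : nd 99958 = n203098 := ndS (p := 62980) (l := 5) rfl N62980 D203098
theorem N99959 : nd 99959 = n203099 := ndS (p := 62980) (l := 6) rfl N62980 D203099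
theorem N99960 : nd 99960 = n203100 := ndS (p := 62981) (l := 4) rfl N62981 D203100
theorem N99961 : nd 99961 = n203101 := ndS (p := 62983) (l := 5) rfl N62983 D203101
theorem N99962 : nd 99962 = n203102 := ndS (p := 62985) (l := 4) rfl N62985 D203102
theorem N99963 : nd 99963 = n203103 := ndS (p := 62986) (l := 0) rfl N62986 D203103
theorem N99964 : nd 99964 = n203104 := ndS (p := 62986) (l := 1) rfl N62986 D203104
theorem N99965 : nd 99965 = n203105 := ndS (p := 62986) (l := 5) rfl N62986 D203105
theorem N99966 : nd 99966 = n203106 := ndS (p := 62987) (l := 3) rfl N62987 D203106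
theorem N99967 : nd 99967 = n203107 := ndS (p := 62988) (l := 3) rfl N62988 D203107
theorem N99968 : nd 99968 = n203108 := ndS (p := 62989) (l := 3) rfl N62989 D203108
theorem N99969 : nd 99969 = n203109 := ndS (p := 62989) (l := 6) rfl N62989 D203109
theorem N99970 : nd 99970 = n203110 := ndS (p := 62990) (l := 1) rfl N62990 D203110
theorem N99971 : nd 99971 = n203111 := ndS (p := 62990) (l := 6) rfl N62990 D203111
theorem N99972 : nd 99972 = n203112 := ndS (p := 62991) (l := 0) rfl N62991 D203112
theorem N99973 : nd 99973 = n203113 := ndS (p := 62991) (l := 1) rfl N62991 D203113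
theorem N99974 : nd 99974 = n203114 := ndS (p := 62991) (l := 5) rfl N62991 D203114
theorem N99975 : nd 99975 = n203115 := ndS (p := 62992) (l := 6) rfl N62992 D203115
theorem N99976 : nd 99976 = n203116 := ndS (p := 62993) (l := 5) rfl N62993 D203116
theorem N99977 : nd 99977 = n203117 := ndS (p := 62995) (l := 6) rfl N62995 D203117
theorem N99978 : nd 99978 = n203118 := ndS (p := 62998) (l := 7) rfl N62998 D203118
theorem N99979 : nd 99979 = n203119 := ndS (p := 62999) (l := 6) rfl N62999 D203119
theorem N99980 : nd 99980 = n203120 := ndS (p := 63000) (l := 5) rfl N63000 D203120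
theorem N99981 : nd 99981 = n203121 := ndS (p := 63001) (l := 3) rfl N63001 D203121
theorem N99982 : nd 99982 = n203122 := ndS (p := 63001) (l := 6) rfl N63001 D203122
theorem N99983 : nd 99983 = n203123 := ndS (p := 63002) (l := 0) rfl N63002 D203123
theorem N99984 : nd 99984 = n203124 := ndS (p := 63002) (l := 1) rfl N63002 D203124
theorem N99985 : nd 99985 = n203125 := ndS (p := 63002) (l := 5) rfl N63002 D203125
theorem N99986 : nd 99986 = n203126 := ndS (p := 63002) (l := 7) rfl N63002 D203126
theorem N99987 : nd 99987 = n203127 := ndS (p := 63003) (l := 6) rfl N63003 D203127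
theorem N99988 : nd 99988 = n203128 := ndS (p := 63005) (l := 0) rfl N63005 D203128
theorem N99989 : nd 99989 = n203129 := ndS (p := 63005) (l := 1) rfl N63005 D203129
theorem N99990 : nd 99990 = n203130 := ndS (p := 63007) (l := 6) rfl N63007 D203130
theorem N99991 : nd 99991 = n203131 := ndS (p := 63008) (l := 5) rfl N63008 D203131
theorem N99992 : nd 99992 = n203132 := ndS (p := 63009) (l := 6) rfl N63009 D203132
theorem N99993 : nd 99993 = n203133 := ndS (p := 63010) (l := 4) rfl N63010 D203133
theorem N99994 : nd 99994 = n203134 := ndS (p := 63016) (l := 5) rfl N63016 D203134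
theorem N99995 : nd 99995 = n203135 := ndS (p := 63017) (l := 3) rfl N63017 D203135
theorem N99996 : nd 99996 = n203136 := ndS (p := 63021) (l := 6) rfl N63021 D203136
theorem N99997 : nd 99997 = n203137 := ndS (p := 63024) (l := 6) rfl N63024 D203137
theorem N99998 : nd 99998 = n203138 := ndS (p := 63026) (l := 4) rfl N63026 D203138
theorem N99999 : nd 99999 = n203139 := ndS (p := 63026) (l := 6) rfl N63026 D203139
theorem N100000 : nd 100000 = n203140 := ndS (p := 63027) (l := 5) rfl N63027 D203140

end Cfsg.Agent.Helper17.ONTC
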