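import Cfsg.Agent.Helper17.ONTC.Fin10

set_option autoImplicit false
set_option linter.all false
set_option maxRecDepth 100000

noncomputable section

namespace Cfsg.Agent.Helper17.ONTC

theorem N100001 : nd 100001 = n203141 := ndS (p := 63028) (l := 4) rfl N63028 D203141
theorem N100002 : nd 100002 = n203142 := ndS (p := 63030) (l := 4) rfl N63030 D203142
theorem N100003 : nd 100003 = n203143 := ndS (p := 63035) (l := 4) rfl N63035 D203143
theorem N100004 : nd 100004 = n203144 := ndS (p := 63038) (l := 1) rfl N63038 D203144
theorem N100005 : nd 100005 = n203145 := ndS (p := 63038) (l := 3) rfl N63038 D203145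
theorem N100006 : nd 100006 = n203146 := ndS (p := 63038) (l := 5) rfl N63038 D203146
theorem N100007 : nd 100007 = n203147 := ndS (p := 63039) (l := 4) rfl N63039 D203147
theorem N100008 : nd 100008 = n203148 := ndS (p := 63041) (l := 0) rfl N63041 D203148
theorem N100009 : nd 100009 = n203149 := ndS (p := 63046) (l := 3) rfl N63046 D203149
theorem N100010 : nd 100010 = n203150 := ndS (p := 63047) (l := 3) rfl N63047 D203150
theorem N100011 : nd 100011 = n203151 := ndS (p := 63047) (l := 5) rfl N63047 D203151
theorem N100012 : nd 100012 = n203152 := ndS (p := 63048) (l := 4) rfl N63048 D203152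
theorem N100013 : nd 100013 = n203153 := ndS (p := 63050) (l := 0) rfl N63050 D203153
theorem N100014 : nd 100014 = n203154 := ndS (p := 63050) (l := 2) rfl N63050 D203154
theorem N100015 : nd 100015 = n203155 := ndS (p := 63050) (l := 5) rfl N63050 D203155
theorem N100016 : nd 100016 = n203156 := ndS (p := 63051) (l := 6) rfl N63051 D203156
theorem N100017 : nd 100017 = n203157 := ndS (p := 63057) (l := 6) rfl N63057 D203157
theorem N100018 : nd 100018 = n203158 := ndS (p := 63059) (l := 2) rfl N63059 D203158
theorem N100019 : nd 100019 = n203159 := ndS (p := 63060) (l := 5) rfl N63060 D203159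
theorem N100020 : nd 100020 = n203160 := ndS (p := 63062) (l := 4) rfl N63062 D203160
theorem N100021 : nd 100021 = n203161 := ndS (p := 63069) (l := 3) rfl N63069 D203161
theorem N100022 : nd 100022 = n203162 := ndS (p := 63071) (l := 5) rfl N63071 D203162
theorem N100023 : nd 100023 = n203163 := ndS (p := 63079) (l := 7) rfl N63079 D203163
theorem N100024 : nd 100024 = n203164 := ndS (p := 63081) (l := 3) rfl N63081 D203164
theorem N100025 : nd 100025 = n203165 := ndS (p := 63093) (l := 5) rfl N63093 D203165
theorem N100026 : nd 100026 = n203166 := ndS (p := 63093) (l := 7) rfl N63093 D203166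
theorem N100027 : nd 100027 = n203167 := ndS (p := 63097) (l := 5) rfl N63097 D203167
theorem N100028 : nd 100028 = n203168 := ndS (p := 63098) (l := 5) rfl N63098 D203168
theorem N100029 : nd 100029 = n203169 := ndS (p := 63099) (l := 3) rfl N63099 D203169
theorem N100030 : nd 100030 = n203170 := ndS (p := 63102) (l := 1) rfl N63102 D203170
theorem N100031 : nd 100031 = n203171 := ndS (p := 63111) (l := 3) rfl N63111 D203171
theorem N100032 : nd 100032 = n203172 := ndS (p := 63111) (l := 5) rfl N63111 D203172
theorem N100033 : nd 100033 = n203173 := ndS (p := 63111) (l := 6) rfl N63111 D203173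
theorem N100034 : nd 100034 = n203174 := ndS (p := 63113) (l := 5) rfl N63113 D203174
theorem N100035 : nd 100035 = n203175 := ndS (p := 63116) (l := 0) rfl N63116 D203175
theorem N100036 : nd 100036 = n203176 := ndS (p := 63116) (l := 4) rfl N63116 D203176
theorem N100037 : nd 100037 = n203177 := ndS (p := 63116) (l := 7) rfl N63116 D203177
theorem N100038 : nd 100038 = n203178 := ndS (p := 63120) (l := 0) rfl N63120 D203178
theorem N100039 : nd 100039 = n203179 := ndS (p := 63120) (l := 1) rfl N63120 D203179
theorem N100040 : nd 100040 = n203180 := ndS (p := 63120) (l := 3) rfl N63120 D203180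
theorem N100041 : nd 100041 = n203181 := ndS (p := 63120) (l := 5) rfl N63120 D203181
theorem N100042 : nd 100042 = n203182 := ndS (p := 63120) (l := 7) rfl N63120 D203182
theorem N100043 : nd 100043 = n203183 := ndS (p := 63122) (l := 3) rfl N63122 D203183
theorem N100044 : nd 100044 = n203184 := ndS (p := 63123) (l := 3) rfl N63123 D203184
theorem N100045 : nd 100045 = n203185 := ndS (p := 63124) (l := 0) rfl N63124 D203185
theorem N100046 : nd 100046 = n203186 := ndS (p := 63124) (l := 1) rfl N63124 D203186
theorem N100047 : nd 100047 = n203187 := ndS (p := 63124) (l := 5) rfl N63124 D203187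
theorem N100048 : nd 100048 = n203188 := ndS (p := 63125) (l := 6) rfl N63125 D203188
theorem N100049 : nd 100049 = n203189 := ndS (p := 63128) (l := 5) rfl N63128 D203189
theorem N100050 : nd 100050 = n203190 := ndS (p := 63129) (l := 4) rfl N63129 D203190
theorem N100051 : nd 100051 = n203191 := ndS (p := 63129) (l := 6) rfl N63129 D203191
theorem N100052 : nd 100052 = n203192 := ndS (p := 63131) (l := 4) rfl N63131 D203192
theorem N100053 : nd 100053 = n203193 := ndS (p := 63131) (l := 6) rfl N63131 D203193
theorem N100054 : nd 100054 = n203194 := ndS (p := 63133) (l := 3) rfl N63133 D203194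
theorem N100055 : nd 100055 = n203197 := ndS (p := 63134) (l := 4) rfl N63134 D203197
theorem N100056 : nd 100056 = n203198 := ndS (p := 63135) (l := 0) rfl N63135 D203198
theorem N100057 : nd 100057 = n203199 := ndS (p := 63135) (l := 1) rfl N63135 D203199
theorem N100058 : nd 100058 = n203200 := ndS (p := 63135) (l := 3) rfl N63135 D203200
theorem N100059 : nd 100059 = n203201 := ndS (p := 63135) (l := 5) rfl N63135 D203201
theorem N100060 : nd 100060 = n203202 := ndS (p := 63135) (l := 7) rfl N63135 D203202
theorem N100061 : nd 100061 = n203203 := ndS (p := 63136) (l := 6) rfl N63136 D203203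
theorem N100062 : nd 100062 = n203204 := ndS (p := 63137) (l := 1) rfl N63137 D203204
theorem N100063 : nd 100063 = n203205 := ndS (p := 63138) (l := 0) rfl N63138 D203205
theorem N100064 : nd 100064 = n203206 := ndS (p := 63138) (l := 1) rfl N63138 D203206
theorem N100065 : nd 100065 = n203207 := ndS (p := 63138) (l := 4) rfl N63138 D203207
theorem N100066 : nd 100066 = n203208 := ndS (p := 63138) (l := 6) rfl N63138 D203208
theorem N100067 : nd 100067 = n203209 := ndS (p := 63139) (l := 1) rfl N63139 D203209
theorem N100068 : nd 100068 = n203210 := ndS (p := 63140) (l := 0) rfl N63140 D203210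
theorem N100069 : nd 100069 = n203211 := ndS (p := 63140) (l := 1) rfl N63140 D203211
theorem N100070 : nd 100070 = n203212 := ndS (p := 63140) (l := 5) rfl N63140 D203212
theorem N100071 : nd 100071 = n203213 := ndS (p := 63142) (l := 7) rfl N63142 D203213
theorem N100072 : nd 100072 = n203214 := ndS (p := 63143) (l := 5) rfl N63143 D203214
theorem N100073 : nd 100073 = n203215 := ndS (p := 63143) (l := 6) rfl N63143 D203215
theorem N100074 : nd 100074 = n203216 := ndS (p := 63144) (l := 4) rfl N63144 D203216
theorem N100075 : nd 100075 = n203217 := ndS (p := 63144) (l := 6) rfl N63144 D203217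
theorem N100076 : nd 100076 = n203218 := ndS (p := 63145) (l := 5) rfl N63145 D203218
theorem N100077 : nd 100077 = n203219 := ndS (p := 63145) (l := 7) rfl N63145 D203219
theorem N100078 : nd 100078 = n203220 := ndS (p := 63146) (l := 5) rfl N63146 D203220
theorem N100079 : nd 100079 = n203221 := ndS (p := 63149) (l := 5) rfl N63149 D203221
theorem N100080 : nd 100080 = n203222 := ndS (p := 63149) (l := 6) rfl N63149 D203222
theorem N100081 : nd 100081 = n203223 := ndS (p := 63152) (l := 3) rfl N63152 D203223
theorem N100082 : nd 100082 = n203224 := ndS (p := 63152) (l := 5) rfl N63152 D203224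
theorem N100083 : nd 100083 = n203225 := ndS (p := 63153) (l := 6) rfl N63153 D203225
theorem N100084 : nd 100084 = n203226 := ndS (p := 63154) (l := 5) rfl N63154 D203226
theorem N100085 : nd 100085 = n203227 := ndS (p := 63155) (l := 0) rfl N63155 D203227
theorem N100086 : nd 100086 = n203228 := ndS (p := 63155) (l := 1) rfl N63155 D203228
theorem N100087 : nd 100087 = n203229 := ndS (p := 63155) (l := 4) rfl N63155 D203229
theorem N100088 : nd 100088 = n203230 := ndS (p := 63155) (l := 6) rfl N63155 D203230
theorem N100089 : nd 100089 = n203231 := ndS (p := 63155) (l := 7) rfl N63155 D203231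
theorem N100090 : nd 100090 = n203232 := ndS (p := 63156) (l := 6) rfl N63156 D203232
theorem N100091 : nd 100091 = n203233 := ndS (p := 63159) (l := 0) rfl N63159 D203233
theorem N100092 : nd 100092 = n203234 := ndS (p := 63160) (l := 5) rfl N63160 D203234
theorem N100093 : nd 100093 = n203235 := ndS (p := 63160) (l := 6) rfl N63160 D203235
theorem N100094 : nd 100094 = n203236 := ndS (p := 63161) (l := 6) rfl N63161 D203236
theorem N100095 : nd 100095 = n203237 := ndS (p := 63162) (l := 5) rfl N63162 D203237
theorem N100096 : nd 100096 = n203238 := ndS (p := 63164) (l := 2) rfl N63164 D203238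
theorem N100097 : nd 100097 = n203239 := ndS (p := 63164) (l := 5) rfl N63164 D203239
theorem N100098 : nd 100098 = n203240 := ndS (p := 63164) (l := 6) rfl N63164 D203240
theorem N100099 : nd 100099 = n203241 := ndS (p := 63167) (l := 2) rfl N63167 D203241
theorem N100100 : nd 100100 = n203242 := ndS (p := 63167) (l := 5) rfl N63167 D203242
theorem N100101 : nd 100101 = n203243 := ndS (p := 63168) (l := 6) rfl N63168 D203243
theorem N100102 : nd 100102 = n203244 := ndS (p := 63169) (l := 5) rfl N63169 D203244
theorem N100103 : nd 100103 = n203245 := ndS (p := 63169) (l := 6) rfl N63169 D203245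
theorem N100104 : nd 100104 = n203246 := ndS (p := 63172) (l := 0) rfl N63172 D203246
theorem N100105 : nd 100105 = n203247 := ndS (p := 63172) (l := 1) rfl N63172 D203247
theorem N100106 : nd 100106 = n203248 := ndS (p := 63172) (l := 2) rfl N63172 D203248
theorem N100107 : nd 100107 = n203249 := ndS (p := 63172) (l := 5) rfl N63172 D203249
theorem N100108 : nd 100108 = n203250 := ndS (p := 63174) (l := 3) rfl N63174 D203250
theorem N100109 : nd 100109 = n203251 := ndS (p := 63174) (l := 6) rfl N63174 D203251
theorem N100110 : nd 100110 = n203252 := ndS (p := 63175) (l := 3) rfl N63175 D203252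
theorem N100111 : nd 100111 = n203253 := ndS (p := 63175) (l := 6) rfl N63175 D203253
theorem N100112 : nd 100112 = n203254 := ndS (p := 63176) (l := 0) rfl N63176 D203254
theorem N100113 : nd 100113 = n203255 := ndS (p := 63176) (l := 1) rfl N63176 D203255
theorem N100114 : nd 100114 = n203256 := ndS (p := 63176) (l := 7) rfl N63176 D203256
theorem N100115 : nd 100115 = n203257 := ndS (p := 63178) (l := 0) rfl N63178 D203257
theorem N100116 : nd 100116 = n203258 := ndS (p := 63178) (l := 1) rfl N63178 D203258
theorem N100117 : nd 100117 = n203259 := ndS (p := 63179) (l := 4) rfl N63179 D203259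
theorem N100118 : nd 100118 = n203260 := ndS (p := 63180) (l := 3) rfl N63180 D203260
theorem N100119 : nd 100119 = n203261 := ndS (p := 63180) (l := 4) rfl N63180 D203261
theorem N100120 : nd 100120 = n203262 := ndS (p := 63182) (l := 5) rfl N63182 D203262
theorem N100121 : nd 100121 = n203263 := ndS (p := 63185) (l := 6) rfl N63185 D203263
theorem N100122 : nd 100122 = n203264 := ndS (p := 63188) (l := 4) rfl N63188 D203264
theorem N100123 : nd 100123 = n203265 := ndS (p := 63189) (l := 6) rfl N63189 D203265
theorem N100124 : nd 100124 = n203266 := ndS (p := 63190) (l := 6) rfl N63190 D203266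
theorem N100125 : nd 100125 = n203267 := ndS (p := 63191) (l := 0) rfl N63191 D203267
theorem N100126 : nd 100126 = n203268 := ndS (p := 63192) (l := 6) rfl N63192 D203268
theorem N100127 : nd 100127 = n203269 := ndS (p := 63194) (l := 3) rfl N63194 D203269
theorem N100128 : nd 100128 = n203270 := ndS (p := 63194) (l := 6) rfl N63194 D203270
theorem N100129 : nd 100129 = n203271 := ndS (p := 63196) (l := 3) rfl N63196 D203271
theorem N100130 : nd 100130 = n203272 := ndS (p := 63197) (l := 3) rfl N63197 D203272
theorem N100131 : nd 100131 = n203273 := ndS (p := 63197) (l := 6) rfl N63197 D203273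
theorem N100132 : nd 100132 = n203274 := ndS (p := 63198) (l := 6) rfl N63198 D203274
theorem N100133 : nd 100133 = n203275 := ndS (p := 63199) (l := 5) rfl N63199 D203275
theorem N100134 : nd 100134 = n203276 := ndS (p := 63200) (l := 4) rfl N63200 D203276
theorem N100135 : nd 100135 = n203277 := ndS (p := 63203) (l := 5) rfl N63203 D203277
theorem N100136 : nd 100136 = n203278 := ndS (p := 63209) (l := 6) rfl N63209 D203278
theorem N100137 : nd 100137 = n203279 := ndS (p := 63212) (l := 6) rfl N63212 D203279
theorem N100138 : nd 100138 = n203280 := ndS (p := 63216) (l := 6) rfl N63216 D203280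
theorem N100139 : nd 100139 = n203281 := ndS (p := 63217) (l := 1) rfl N63217 D203281
theorem N100140 : nd 100140 = n203282 := ndS (p := 63217) (l := 5) rfl N63217 D203282
theorem N100141 : nd 100141 = n203283 := ndS (p := 63226) (l := 1) rfl N63226 D203283
theorem N100142 : nd 100142 = n203284 := ndS (p := 63233) (l := 5) rfl N63233 D203284
theorem N100143 : nd 100143 = n203285 := ndS (p := 63238) (l := 0) rfl N63238 D203285
theorem N100144 : nd 100144 = n203286 := ndS (p := 63239) (l := 7) rfl N63239 D203286
theorem N100145 : nd 100145 = n203287 := ndS (p := 63240) (l := 1) rfl N63240 D203287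
theorem N100146 : nd 100146 = n203288 := ndS (p := 63243) (l := 6) rfl N63243 D203288
theorem N100147 : nd 100147 = n203289 := ndS (p := 63244) (l := 6) rfl N63244 D203289
theorem N100148 : nd 100148 = n203290 := ndS (p := 63246) (l := 3) rfl N63246 D203290
theorem N100149 : nd 100149 = n203291 := ndS (p := 63247) (l := 0) rfl N63247 D203291
theorem N100150 : nd 100150 = n203292 := ndS (p := 63247) (l := 1) rfl N63247 D203292
theorem N100151 : nd 100151 = n203293 := ndS (p := 63247) (l := 7) rfl N63247 D203293
theorem N100152 : nd 100152 = n203294 := ndS (p := 63249) (l := 0) rfl N63249 D203294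
theorem N100153 : nd 100153 = n203295 := ndS (p := 63255) (l := 5) rfl N63255 D203295
theorem N100154 : nd 100154 = n203296 := ndS (p := 63255) (l := 6) rfl N63255 D203296
theorem N100155 : nd 100155 = n203297 := ndS (p := 63256) (l := 7) rfl N63256 D203297
theorem N100156 : nd 100156 = n203298 := ndS (p := 63260) (l := 5) rfl N63260 D203298
theorem N100157 : nd 100157 = n203299 := ndS (p := 63260) (l := 6) rfl N63260 D203299
theorem N100158 : nd 100158 = n203300 := ndS (p := 63264) (l := 4) rfl N63264 D203300
theorem N100159 : nd 100159 = n203301 := ndS (p := 63265) (l := 5) rfl N63265 D203301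
theorem N100160 : nd 100160 = n203302 := ndS (p := 63265) (l := 6) rfl N63265 D203302
theorem N100161 : nd 100161 = n203303 := ndS (p := 63266) (l := 5) rfl N63266 D203303
theorem N100162 : nd 100162 = n203304 := ndS (p := 63267) (l := 0) rfl N63267 D203304
theorem N100163 : nd 100163 = n203305 := ndS (p := 63267) (l := 1) rfl N63267 D203305
theorem N100164 : nd 100164 = n203306 := ndS (p := 63267) (l := 4) rfl N63267 D203306
theorem N100165 : nd 100165 = n203307 := ndS (p := 63267) (l := 7) rfl N63267 D203307
theorem N100166 : nd 100166 = n203308 := ndS (p := 63269) (l := 6) rfl N63269 D203308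
theorem N100167 : nd 100167 = n203309 := ndS (p := 63273) (l := 7) rfl N63273 D203309
theorem N100168 : nd 100168 = n203310 := ndS (p := 63277) (l := 7) rfl N63277 D203310
theorem N100169 : nd 100169 = n203311 := ndS (p := 63279) (l := 5) rfl N63279 D203311
theorem N100170 : nd 100170 = n203312 := ndS (p := 63280) (l := 0) rfl N63280 D203312
theorem N100171 : nd 100171 = n203313 := ndS (p := 63280) (l := 1) rfl N63280 D203313
theorem N100172 : nd 100172 = n203314 := ndS (p := 63280) (l := 7) rfl N63280 D203314
theorem N100173 : nd 100173 = n203315 := ndS (p := 63283) (l := 3) rfl N63283 D203315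
theorem N100174 : nd 100174 = n203316 := ndS (p := 63283) (l := 5) rfl N63283 D203316
theorem N100175 : nd 100175 = n203317 := ndS (p := 63283) (l := 7) rfl N63283 D203317
theorem N100176 : nd 100176 = n203318 := ndS (p := 63285) (l := 5) rfl N63285 D203318
theorem N100177 : nd 100177 = n203319 := ndS (p := 63287) (l := 1) rfl N63287 D203319
theorem N100178 : nd 100178 = n203320 := ndS (p := 63288) (l := 4) rfl N63288 D203320
theorem N100179 : nd 100179 = n203321 := ndS (p := 63288) (l := 6) rfl N63288 D203321
theorem N100180 : nd 100180 = n203322 := ndS (p := 63289) (l := 3) rfl N63289 D203322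
theorem N100181 : nd 100181 = n203323 := ndS (p := 63289) (l := 5) rfl N63289 D203323
theorem N100182 : nd 100182 = n203324 := ndS (p := 63290) (l := 5) rfl N63290 D203324
theorem N100183 : nd 100183 = n203325 := ndS (p := 63291) (l := 5) rfl N63291 D203325
theorem N100184 : nd 100184 = n203326 := ndS (p := 63292) (l := 0) rfl N63292 D203326
theorem N100185 : nd 100185 = n203327 := ndS (p := 63292) (l := 1) rfl N63292 D203327
theorem N100186 : nd 100186 = n203328 := ndS (p := 63292) (l := 7) rfl N63292 D203328
theorem N100187 : nd 100187 = n203329 := ndS (p := 63293) (l := 1) rfl N63293 D203329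
theorem N100188 : nd 100188 = n203330 := ndS (p := 63293) (l := 4) rfl N63293 D203330
theorem N100189 : nd 100189 = n203331 := ndS (p := 63293) (l := 7) rfl N63293 D203331
theorem N100190 : nd 100190 = n203332 := ndS (p := 63294) (l := 6) rfl N63294 D203332
theorem N100191 : nd 100191 = n203333 := ndS (p := 63296) (l := 5) rfl N63296 D203333
theorem N100192 : nd 100192 = n203334 := ndS (p := 63297) (l := 5) rfl N63297 D203334
theorem N100193 : nd 100193 = n203335 := ndS (p := 63297) (l := 6) rfl N63297 D203335
theorem N100194 : nd 100194 = n203336 := ndS (p := 63298) (l := 5) rfl N63298 D203336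
theorem N100195 : nd 100195 = n203337 := ndS (p := 63299) (l := 0) rfl N63299 D203337
theorem N100196 : nd 100196 = n203338 := ndS (p := 63299) (l := 4) rfl N63299 D203338
theorem N100197 : nd 100197 = n203339 := ndS (p := 63299) (l := 7) rfl N63299 D203339
theorem N100198 : nd 100198 = n203340 := ndS (p := 63301) (l := 5) rfl N63301 D203340
theorem N100199 : nd 100199 = n203341 := ndS (p := 63302) (l := 5) rfl N63302 D203341
theorem N100200 : nd 100200 = n203342 := ndS (p := 63303) (l := 0) rfl N63303 D203342
theorem N100201 : nd 100201 = n203343 := ndS (p := 63303) (l := 1) rfl N63303 D203343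
theorem N100202 : nd 100202 = n203344 := ndS (p := 63304) (l := 5) rfl N63304 D203344
theorem N100203 : nd 100203 = n203345 := ndS (p := 63304) (l := 6) rfl N63304 D203345
theorem N100204 : nd 100204 = n203346 := ndS (p := 63306) (l := 6) rfl N63306 D203346
theorem N100205 : nd 100205 = n203347 := ndS (p := 63308) (l := 3) rfl N63308 D203347
theorem N100206 : nd 100206 = n203348 := ndS (p := 63308) (l := 4) rfl N63308 D203348
theorem N100207 : nd 100207 = n203349 := ndS (p := 63308) (l := 6) rfl N63308 D203349
theorem N100208 : nd 100208 = n203350 := ndS (p := 63310) (l := 5) rfl N63310 D203350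
theorem N100209 : nd 100209 = n203351 := ndS (p := 63312) (l := 1) rfl N63312 D203351
theorem N100210 : nd 100210 = n203352 := ndS (p := 63312) (l := 3) rfl N63312 D203352
theorem N100211 : nd 100211 = n203353 := ndS (p := 63312) (l := 5) rfl N63312 D203353
theorem N100212 : nd 100212 = n203354 := ndS (p := 63313) (l := 5) rfl N63313 D203354
theorem N100213 : nd 100213 = n203355 := ndS (p := 63313) (l := 6) rfl N63313 D203355
theorem N100214 : nd 100214 = n203356 := ndS (p := 63314) (l := 1) rfl N63314 D203356
theorem N100215 : nd 100215 = n203357 := ndS (p := 63315) (l := 6) rfl N63315 D203357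
theorem N100216 : nd 100216 = n203358 := ndS (p := 63316) (l := 3) rfl N63316 D203358
theorem N100217 : nd 100217 = n203359 := ndS (p := 63317) (l := 1) rfl N63317 D203359
theorem N100218 : nd 100218 = n203360 := ndS (p := 63317) (l := 5) rfl N63317 D203360
theorem N100219 : nd 100219 = n203361 := ndS (p := 63318) (l := 3) rfl N63318 D203361
theorem N100220 : nd 100220 = n203362 := ndS (p := 63318) (l := 5) rfl N63318 D203362
theorem N100221 : nd 100221 = n203363 := ndS (p := 63319) (l := 5) rfl N63319 D203363
theorem N100222 : nd 100222 = n203364 := ndS (p := 63320) (l := 3) rfl N63320 D203364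
theorem N100223 : nd 100223 = n203365 := ndS (p := 63320) (l := 5) rfl N63320 D203365
theorem N100224 : nd 100224 = n203366 := ndS (p := 63321) (l := 5) rfl N63321 D203366
theorem N100225 : nd 100225 = n203367 := ndS (p := 63322) (l := 0) rfl N63322 D203367
theorem N100226 : nd 100226 = n203368 := ndS (p := 63322) (l := 1) rfl N63322 D203368
theorem N100227 : nd 100227 = n203369 := ndS (p := 63324) (l := 0) rfl N63324 D203369
theorem N100228 : nd 100228 = n203370 := ndS (p := 63324) (l := 1) rfl N63324 D203370
theorem N100229 : nd 100229 = n203371 := ndS (p := 63329) (l := 1) rfl N63329 D203371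
theorem N100230 : nd 100230 = n203372 := ndS (p := 63338) (l := 6) rfl N63338 D203372
theorem N100231 : nd 100231 = n203373 := ndS (p := 63340) (l := 6) rfl N63340 D203373
theorem N100232 : nd 100232 = n203374 := ndS (p := 63341) (l := 6) rfl N63341 D203374
theorem N100233 : nd 100233 = n203375 := ndS (p := 63342) (l := 6) rfl N63342 D203375
theorem N100234 : nd 100234 = n203376 := ndS (p := 63343) (l := 1) rfl N63343 D203376
theorem N100235 : nd 100235 = n203377 := ndS (p := 63343) (l := 7) rfl N63343 D203377
theorem N100236 : nd 100236 = n203378 := ndS (p := 63344) (l := 3) rfl N63344 D203378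
theorem N100237 : nd 100237 = n203379 := ndS (p := 63344) (l := 5) rfl N63344 D203379
theorem N100238 : nd 100238 = n203380 := ndS (p := 63344) (l := 6) rfl N63344 D203380
theorem N100239 : nd 100239 = n203381 := ndS (p := 63346) (l := 0) rfl N63346 D203381
theorem N100240 : nd 100240 = n203382 := ndS (p := 63346) (l := 1) rfl N63346 D203382
theorem N100241 : nd 100241 = n203383 := ndS (p := 63346) (l := 2) rfl N63346 D203383
theorem N100242 : nd 100242 = n203384 := ndS (p := 63346) (l := 5) rfl N63346 D203384
theorem N100243 : nd 100243 = n203385 := ndS (p := 63347) (l := 6) rfl N63347 D203385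
theorem N100244 : nd 100244 = n203386 := ndS (p := 63348) (l := 3) rfl N63348 D203386
theorem N100245 : nd 100245 = n203387 := ndS (p := 63348) (l := 6) rfl N63348 D203387
theorem N100246 : nd 100246 = n203388 := ndS (p := 63349) (l := 7) rfl N63349 D203388
theorem N100247 : nd 100247 = n203389 := ndS (p := 63350) (l := 5) rfl N63350 D203389
theorem N100248 : nd 100248 = n203390 := ndS (p := 63350) (l := 6) rfl N63350 D203390
theorem N100249 : nd 100249 = n203391 := ndS (p := 63353) (l := 1) rfl N63353 D203391
theorem N100250 : nd 100250 = n203392 := ndS (p := 63354) (l := 0) rfl N63354 D203392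
theorem N100251 : nd 100251 = n203393 := ndS (p := 63354) (l := 1) rfl N63354 D203393
theorem N100252 : nd 100252 = n203394 := ndS (p := 63354) (l := 5) rfl N63354 D203394
theorem N100253 : nd 100253 = n203395 := ndS (p := 63354) (l := 6) rfl N63354 D203395
theorem N100254 : nd 100254 = n203396 := ndS (p := 63355) (l := 0) rfl N63355 D203396
theorem N100255 : nd 100255 = n203397 := ndS (p := 63355) (l := 1) rfl N63355 D203397
theorem N100256 : nd 100256 = n203398 := ndS (p := 63355) (l := 6) rfl N63355 D203398
theorem N100257 : nd 100257 = n203399 := ndS (p := 63356) (l := 1) rfl N63356 D203399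
theorem N100258 : nd 100258 = n203400 := ndS (p := 63356) (l := 5) rfl N63356 D203400
theorem N100259 : nd 100259 = n203401 := ndS (p := 63358) (l := 5) rfl N63358 D203401
theorem N100260 : nd 100260 = n203402 := ndS (p := 63359) (l := 6) rfl N63359 D203402
theorem N100261 : nd 100261 = n203403 := ndS (p := 63360) (l := 0) rfl N63360 D203403
theorem N100262 : nd 100262 = n203404 := ndS (p := 63360) (l := 2) rfl N63360 D203404
theorem N100263 : nd 100263 = n203405 := ndS (p := 63360) (l := 5) rfl N63360 D203405
theorem N100264 : nd 100264 = n203406 := ndS (p := 63360) (l := 6) rfl N63360 D203406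
theorem N100265 : nd 100265 = n203407 := ndS (p := 63361) (l := 6) rfl N63361 D203407
theorem N100266 : nd 100266 = n203408 := ndS (p := 63362) (l := 5) rfl N63362 D203408
theorem N100267 : nd 100267 = n203409 := ndS (p := 63363) (l := 0) rfl N63363 D203409
theorem N100268 : nd 100268 = n203410 := ndS (p := 63363) (l := 1) rfl N63363 D203410
theorem N100269 : nd 100269 = n203411 := ndS (p := 63363) (l := 2) rfl N63363 D203411
theorem N100270 : nd 100270 = n203412 := ndS (p := 63363) (l := 5) rfl N63363 D203412
theorem N100271 : nd 100271 = n203413 := ndS (p := 63365) (l := 3) rfl N63365 D203413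
theorem N100272 : nd 100272 = n203414 := ndS (p := 63365) (l := 6) rfl N63365 D203414
theorem N100273 : nd 100273 = n203415 := ndS (p := 63366) (l := 3) rfl N63366 D203415
theorem N100274 : nd 100274 = n203416 := ndS (p := 63367) (l := 3) rfl N63367 D203416
theorem N100275 : nd 100275 = n203417 := ndS (p := 63367) (l := 6) rfl N63367 D203417
theorem N100276 : nd 100276 = n203418 := ndS (p := 63368) (l := 0) rfl N63368 D203418
theorem N100277 : nd 100277 = n203419 := ndS (p := 63368) (l := 1) rfl N63368 D203419
theorem N100278 : nd 100278 = n203420 := ndS (p := 63369) (l := 6) rfl N63369 D203420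
theorem N100279 : nd 100279 = n203421 := ndS (p := 63371) (l := 3) rfl N63371 D203421
theorem N100280 : nd 100280 = n203422 := ndS (p := 63373) (l := 4) rfl N63373 D203422
theorem N100281 : nd 100281 = n203423 := ndS (p := 63376) (l := 0) rfl N63376 D203423
theorem N100282 : nd 100282 = n203424 := ndS (p := 63376) (l := 1) rfl N63376 D203424
theorem N100283 : nd 100283 = n203425 := ndS (p := 63383) (l := 0) rfl N63383 D203425
theorem N100284 : nd 100284 = n203426 := ndS (p := 63383) (l := 2) rfl N63383 D203426
theorem N100285 : nd 100285 = n203427 := ndS (p := 63383) (l := 5) rfl N63383 D203427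
theorem N100286 : nd 100286 = n203428 := ndS (p := 63384) (l := 6) rfl N63384 D203428
theorem N100287 : nd 100287 = n203429 := ndS (p := 63392) (l := 5) rfl N63392 D203429
theorem N100288 : nd 100288 = n203430 := ndS (p := 63393) (l := 5) rfl N63393 D203430
theorem N100289 : nd 100289 = n203431 := ndS (p := 63393) (l := 6) rfl N63393 D203431
theorem N100290 : nd 100290 = n203432 := ndS (p := 63394) (l := 4) rfl N63394 D203432
theorem N100291 : nd 100291 = n203433 := ndS (p := 63396) (l := 5) rfl N63396 D203433
theorem N100292 : nd 100292 = n203434 := ndS (p := 63400) (l := 5) rfl N63400 D203434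
theorem N100293 : nd 100293 = n203435 := ndS (p := 63401) (l := 4) rfl N63401 D203435
theorem N100294 : nd 100294 = n203436 := ndS (p := 63404) (l := 3) rfl N63404 D203436
theorem N100295 : nd 100295 = n203437 := ndS (p := 63406) (l := 5) rfl N63406 D203437
theorem N100296 : nd 100296 = n203438 := ndS (p := 63415) (l := 5) rfl N63415 D203438
theorem N100297 : nd 100297 = n203439 := ndS (p := 63416) (l := 0) rfl N63416 D203439
theorem N100298 : nd 100298 = n203440 := ndS (p := 63419) (l := 0) rfl N63419 D203440
theorem N100299 : nd 100299 = n203441 := ndS (p := 63419) (l := 1) rfl N63419 D203441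
theorem N100300 : nd 100300 = n203442 := ndS (p := 63420) (l := 6) rfl N63420 D203442
theorem N100301 : nd 100301 = n203443 := ndS (p := 63421) (l := 3) rfl N63421 D203443
theorem N100302 : nd 100302 = n203444 := ndS (p := 63421) (l := 5) rfl N63421 D203444
theorem N100303 : nd 100303 = n203445 := ndS (p := 63423) (l := 5) rfl N63423 D203445
theorem N100304 : nd 100304 = n203446 := ndS (p := 63426) (l := 1) rfl N63426 D203446
theorem N100305 : nd 100305 = n203447 := ndS (p := 63426) (l := 7) rfl N63426 D203447
theorem N100306 : nd 100306 = n203448 := ndS (p := 63427) (l := 5) rfl N63427 D203448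
theorem N100307 : nd 100307 = n203449 := ndS (p := 63428) (l := 5) rfl N63428 D203449
theorem N100308 : nd 100308 = n203450 := ndS (p := 63432) (l := 4) rfl N63432 D203450
theorem N100309 : nd 100309 = n203451 := ndS (p := 63437) (l := 5) rfl N63437 D203451
theorem N100310 : nd 100310 = n203452 := ndS (p := 63438) (l := 5) rfl N63438 D203452
theorem N100311 : nd 100311 = n203453 := ndS (p := 63446) (l := 6) rfl N63446 D203453
theorem N100312 : nd 100312 = n203454 := ndS (p := 63447) (l := 1) rfl N63447 D203454
theorem N100313 : nd 100313 = n203455 := ndS (p := 63449) (l := 0) rfl N63449 D203455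
theorem N100314 : nd 100314 = n203456 := ndS (p := 63449) (l := 1) rfl N63449 D203456
theorem N100315 : nd 100315 = n203457 := ndS (p := 63450) (l := 5) rfl N63450 D203457
theorem N100316 : nd 100316 = n203458 := ndS (p := 63451) (l := 6) rfl N63451 D203458
theorem N100317 : nd 100317 = n203459 := ndS (p := 63455) (l := 6) rfl N63455 D203459
theorem N100318 : nd 100318 = n203460 := ndS (p := 63456) (l := 6) rfl N63456 D203460
theorem N100319 : nd 100319 = n203461 := ndS (p := 63462) (l := 0) rfl N63462 D203461
theorem N100320 : nd 100320 = n203462 := ndS (p := 63462) (l := 1) rfl N63462 D203462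
theorem N100321 : nd 100321 = n203463 := ndS (p := 63463) (l := 5) rfl N63463 D203463
theorem N100322 : nd 100322 = n203464 := ndS (p := 63463) (l := 6) rfl N63463 D203464
theorem N100323 : nd 100323 = n203465 := ndS (p := 63464) (l := 6) rfl N63464 D203465
theorem N100324 : nd 100324 = n203466 := ndS (p := 63467) (l := 3) rfl N63467 D203466
theorem N100325 : nd 100325 = n203467 := ndS (p := 63467) (l := 5) rfl N63467 D203467
theorem N100326 : nd 100326 = n203468 := ndS (p := 63467) (l := 6) rfl N63467 D203468
theorem N100327 : nd 100327 = n203469 := ndS (p := 63470) (l := 6) rfl N63470 D203469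
theorem N100328 : nd 100328 = n203470 := ndS (p := 63471) (l := 0) rfl N63471 D203470
theorem N100329 : nd 100329 = n203471 := ndS (p := 63471) (l := 1) rfl N63471 D203471
theorem N100330 : nd 100330 = n203472 := ndS (p := 63471) (l := 7) rfl N63471 D203472
theorem N100331 : nd 100331 = n203473 := ndS (p := 63472) (l := 6) rfl N63472 D203473
theorem N100332 : nd 100332 = n203474 := ndS (p := 63473) (l := 0) rfl N63473 D203474
theorem N100333 : nd 100333 = n203475 := ndS (p := 63473) (l := 1) rfl N63473 D203475
theorem N100334 : nd 100334 = n203476 := ndS (p := 63474) (l := 5) rfl N63474 D203476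
theorem N100335 : nd 100335 = n203477 := ndS (p := 63479) (l := 6) rfl N63479 D203477
theorem N100336 : nd 100336 = n203478 := ndS (p := 63482) (l := 5) rfl N63482 D203478
theorem N100337 : nd 100337 = n203479 := ndS (p := 63482) (l := 6) rfl N63482 D203479
theorem N100338 : nd 100338 = n203480 := ndS (p := 63483) (l := 4) rfl N63483 D203480
theorem N100339 : nd 100339 = n203481 := ndS (p := 63485) (l := 5) rfl N63485 D203481
theorem N100340 : nd 100340 = n203482 := ndS (p := 63486) (l := 6) rfl N63486 D203482
theorem N100341 : nd 100341 = n203483 := ndS (p := 63487) (l := 6) rfl N63487 D203483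
theorem N100342 : nd 100342 = n203484 := ndS (p := 63488) (l := 0) rfl N63488 D203484
theorem N100343 : nd 100343 = n203485 := ndS (p := 63490) (l := 3) rfl N63490 D203485
theorem N100344 : nd 100344 = n203486 := ndS (p := 63490) (l := 4) rfl N63490 D203486
theorem N100345 : nd 100345 = n203487 := ndS (p := 63492) (l := 6) rfl N63492 D203487
theorem N100346 : nd 100346 = n203488 := ndS (p := 63495) (l := 2) rfl N63495 D203488
theorem N100347 : nd 100347 = n203489 := ndS (p := 63495) (l := 5) rfl N63495 D203489
theorem N100348 : nd 100348 = n203490 := ndS (p := 63500) (l := 0) rfl N63500 D203490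
theorem N100349 : nd 100349 = n203491 := ndS (p := 63500) (l := 1) rfl N63500 D203491
theorem N100350 : nd 100350 = n203492 := ndS (p := 63503) (l := 5) rfl N63503 D203492
theorem N100351 : nd 100351 = n203493 := ndS (p := 63504) (l := 0) rfl N63504 D203493
theorem N100352 : nd 100352 = n203494 := ndS (p := 63504) (l := 1) rfl N63504 D203494
theorem N100353 : nd 100353 = n203495 := ndS (p := 63504) (l := 4) rfl N63504 D203495
theorem N100354 : nd 100354 = n203496 := ndS (p := 63504) (l := 7) rfl N63504 D203496
theorem N100355 : nd 100355 = n203497 := ndS (p := 63507) (l := 1) rfl N63507 D203497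
theorem N100356 : nd 100356 = n203498 := ndS (p := 63507) (l := 7) rfl N63507 D203498
theorem N100357 : nd 100357 = n203499 := ndS (p := 63509) (l := 6) rfl N63509 D203499
theorem N100358 : nd 100358 = n203500 := ndS (p := 63510) (l := 1) rfl N63510 D203500
theorem N100359 : nd 100359 = n203501 := ndS (p := 63510) (l := 4) rfl N63510 D203501
theorem N100360 : nd 100360 = n203502 := ndS (p := 63510) (l := 6) rfl N63510 D203502
theorem N100361 : nd 100361 = n203503 := ndS (p := 63512) (l := 5) rfl N63512 D203503
theorem N100362 : nd 100362 = n203504 := ndS (p := 63516) (l := 6) rfl N63516 D203504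
theorem N100363 : nd 100363 = n203505 := ndS (p := 63519) (l := 0) rfl N63519 D203505
theorem N100364 : nd 100364 = n203506 := ndS (p := 63519) (l := 4) rfl N63519 D203506
theorem N100365 : nd 100365 = n203507 := ndS (p := 63521) (l := 5) rfl N63521 D203507
theorem N100366 : nd 100366 = n203508 := ndS (p := 63524) (l := 4) rfl N63524 D203508
theorem N100367 : nd 100367 = n203509 := ndS (p := 63526) (l := 5) rfl N63526 D203509
theorem N100368 : nd 100368 = n203510 := ndS (p := 63531) (l := 5) rfl N63531 D203510
theorem N100369 : nd 100369 = n203511 := ndS (p := 63534) (l := 1) rfl N63534 D203511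
theorem N100370 : nd 100370 = n203512 := ndS (p := 63537) (l := 0) rfl N63537 D203512
theorem N100371 : nd 100371 = n203513 := ndS (p := 63537) (l := 4) rfl N63537 D203513
theorem N100372 : nd 100372 = n203514 := ndS (p := 63537) (l := 6) rfl N63537 D203514
theorem N100373 : nd 100373 = n203515 := ndS (p := 63539) (l := 4) rfl N63539 D203515
theorem N100374 : nd 100374 = n203516 := ndS (p := 63541) (l := 7) rfl N63541 D203516
theorem N100375 : nd 100375 = n203517 := ndS (p := 63543) (l := 0) rfl N63543 D203517
theorem N100376 : nd 100376 = n203518 := ndS (p := 63543) (l := 1) rfl N63543 D203518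
theorem N100377 : nd 100377 = n203519 := ndS (p := 63543) (l := 6) rfl N63543 D203519
theorem N100378 : nd 100378 = n203520 := ndS (p := 63549) (l := 5) rfl N63549 D203520
theorem N100379 : nd 100379 = n203521 := ndS (p := 63550) (l := 0) rfl N63550 D203521
theorem N100380 : nd 100380 = n203522 := ndS (p := 63550) (l := 1) rfl N63550 D203522
theorem N100381 : nd 100381 = n203523 := ndS (p := 63550) (l := 7) rfl N63550 D203523
theorem N100382 : nd 100382 = n203524 := ndS (p := 63570) (l := 5) rfl N63570 D203524
theorem N100383 : nd 100383 = n203525 := ndS (p := 63573) (l := 7) rfl N63573 D203525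
theorem N100384 : nd 100384 = n203526 := ndS (p := 63576) (l := 5) rfl N63576 D203526
theorem N100385 : nd 100385 = n203527 := ndS (p := 63576) (l := 6) rfl N63576 D203527
theorem N100386 : nd 100386 = n203528 := ndS (p := 63577) (l := 0) rfl N63577 D203528
theorem N100387 : nd 100387 = n203529 := ndS (p := 63577) (l := 1) rfl N63577 D203529
theorem N100388 : nd 100388 = n203530 := ndS (p := 63577) (l := 7) rfl N63577 D203530
theorem N100389 : nd 100389 = n203531 := ndS (p := 63579) (l := 3) rfl N63579 D203531
theorem N100390 : nd 100390 = n203532 := ndS (p := 63580) (l := 6) rfl N63580 D203532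
theorem N100391 : nd 100391 = n203533 := ndS (p := 63581) (l := 7) rfl N63581 D203533
theorem N100392 : nd 100392 = n203534 := ndS (p := 63583) (l := 6) rfl N63583 D203534
theorem N100393 : nd 100393 = n203535 := ndS (p := 63587) (l := 5) rfl N63587 D203535
theorem N100394 : nd 100394 = n203536 := ndS (p := 63595) (l := 5) rfl N63595 D203536
theorem N100395 : nd 100395 = n203537 := ndS (p := 63596) (l := 5) rfl N63596 D203537
theorem N100396 : nd 100396 = n203538 := ndS (p := 63600) (l := 1) rfl N63600 D203538
theorem N100397 : nd 100397 = n203539 := ndS (p := 63603) (l := 1) rfl N63603 D203539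
theorem N100398 : nd 100398 = n203540 := ndS (p := 63604) (l := 5) rfl N63604 D203540
theorem N100399 : nd 100399 = n203541 := ndS (p := 63605) (l := 4) rfl N63605 D203541
theorem N100400 : nd 100400 = n203542 := ndS (p := 63605) (l := 6) rfl N63605 D203542
theorem N100401 : nd 100401 = n203543 := ndS (p := 63606) (l := 4) rfl N63606 D203543
theorem N100402 : nd 100402 = n203544 := ndS (p := 63607) (l := 1) rfl N63607 D203544
theorem N100403 : nd 100403 = n203545 := ndS (p := 63607) (l := 5) rfl N63607 D203545
theorem N100404 : nd 100404 = n203546 := ndS (p := 63607) (l := 7) rfl N63607 D203546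
theorem N100405 : nd 100405 = n203547 := ndS (p := 63608) (l := 6) rfl N63608 D203547
theorem N100406 : nd 100406 = n203548 := ndS (p := 63609) (l := 6) rfl N63609 D203548
theorem N100407 : nd 100407 = n203549 := ndS (p := 63611) (l := 0) rfl N63611 D203549
theorem N100408 : nd 100408 = n203550 := ndS (p := 63613) (l := 3) rfl N63613 D203550
theorem N100409 : nd 100409 = n203551 := ndS (p := 63613) (l := 4) rfl N63613 D203551
theorem N100410 : nd 100410 = n203552 := ndS (p := 63614) (l := 4) rfl N63614 D203552
theorem N100411 : nd 100411 = n203553 := ndS (p := 63615) (l := 1) rfl N63615 D203553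
theorem N100412 : nd 100412 = n203554 := ndS (p := 63615) (l := 3) rfl N63615 D203554
theorem N100413 : nd 100413 = n203555 := ndS (p := 63615) (l := 6) rfl N63615 D203555
theorem N100414 : nd 100414 = n203556 := ndS (p := 63616) (l := 1) rfl N63616 D203556
theorem N100415 : nd 100415 = n203557 := ndS (p := 63616) (l := 5) rfl N63616 D203557
theorem N100416 : nd 100416 = n203558 := ndS (p := 63616) (l := 7) rfl N63616 D203558
theorem N100417 : nd 100417 = n203559 := ndS (p := 63625) (l := 6) rfl N63625 D203559
theorem N100418 : nd 100418 = n203560 := ndS (p := 63626) (l := 0) rfl N63626 D203560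
theorem N100419 : nd 100419 = n203561 := ndS (p := 63634) (l := 5) rfl N63634 D203561
theorem N100420 : nd 100420 = n203562 := ndS (p := 63637) (l := 3) rfl N63637 D203562
theorem N100421 : nd 100421 = n203563 := ndS (p := 63637) (l := 4) rfl N63637 D203563
theorem N100422 : nd 100422 = n203564 := ndS (p := 63638) (l := 4) rfl N63638 D203564
theorem N100423 : nd 100423 = n203565 := ndS (p := 63639) (l := 6) rfl N63639 D203565
theorem N100424 : nd 100424 = n203566 := ndS (p := 63643) (l := 5) rfl N63643 D203566
theorem N100425 : nd 100425 = n203567 := ndS (p := 63643) (l := 6) rfl N63643 D203567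
theorem N100426 : nd 100426 = n203568 := ndS (p := 63645) (l := 3) rfl N63645 D203568
theorem N100427 : nd 100427 = n203569 := ndS (p := 63645) (l := 5) rfl N63645 D203569
theorem N100428 : nd 100428 = n203570 := ndS (p := 63646) (l := 5) rfl N63646 D203570
theorem N100429 : nd 100429 = n203571 := ndS (p := 63646) (l := 6) rfl N63646 D203571
theorem N100430 : nd 100430 = n203572 := ndS (p := 63647) (l := 5) rfl N63647 D203572
theorem N100431 : nd 100431 = n203573 := ndS (p := 63648) (l := 5) rfl N63648 D203573
theorem N100432 : nd 100432 = n203574 := ndS (p := 63656) (l := 0) rfl N63656 D203574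
theorem N100433 : nd 100433 = n203575 := ndS (p := 63656) (l := 4) rfl N63656 D203575
theorem N100434 : nd 100434 = n203576 := ndS (p := 63656) (l := 6) rfl N63656 D203576
theorem N100435 : nd 100435 = n203577 := ndS (p := 63657) (l := 3) rfl N63657 D203577
theorem N100436 : nd 100436 = n203578 := ndS (p := 63660) (l := 5) rfl N63660 D203578
theorem N100437 : nd 100437 = n203579 := ndS (p := 63660) (l := 6) rfl N63660 D203579
theorem N100438 : nd 100438 = n203580 := ndS (p := 63661) (l := 6) rfl N63661 D203580
theorem N100439 : nd 100439 = n203581 := ndS (p := 63662) (l := 5) rfl N63662 D203581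
theorem N100440 : nd 100440 = n203582 := ndS (p := 63664) (l := 0) rfl N63664 D203582
theorem N100441 : nd 100441 = n203583 := ndS (p := 63664) (l := 1) rfl N63664 D203583
theorem N100442 : nd 100442 = n203584 := ndS (p := 63664) (l := 7) rfl N63664 D203584
theorem N100443 : nd 100443 = n203585 := ndS (p := 63665) (l := 5) rfl N63665 D203585
theorem N100444 : nd 100444 = n203586 := ndS (p := 63665) (l := 6) rfl N63665 D203586
theorem N100445 : nd 100445 = n203587 := ndS (p := 63666) (l := 6) rfl N63666 D203587
theorem N100446 : nd 100446 = n203588 := ndS (p := 63667) (l := 0) rfl N63667 D203588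
theorem N100447 : nd 100447 = n203589 := ndS (p := 63667) (l := 1) rfl N63667 D203589
theorem N100448 : nd 100448 = n203590 := ndS (p := 63667) (l := 7) rfl N63667 D203590
theorem N100449 : nd 100449 = n203591 := ndS (p := 63668) (l := 4) rfl N63668 D203591
theorem N100450 : nd 100450 = n203592 := ndS (p := 63670) (l := 6) rfl N63670 D203592
theorem N100451 : nd 100451 = n203593 := ndS (p := 63672) (l := 0) rfl N63672 D203593
theorem N100452 : nd 100452 = n203594 := ndS (p := 63672) (l := 1) rfl N63672 D203594
theorem N100453 : nd 100453 = n203595 := ndS (p := 63672) (l := 5) rfl N63672 D203595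
theorem N100454 : nd 100454 = n203596 := ndS (p := 63672) (l := 6) rfl N63672 D203596
theorem N100455 : nd 100455 = n203597 := ndS (p := 63673) (l := 6) rfl N63673 D203597
theorem N100456 : nd 100456 = n203598 := ndS (p := 63674) (l := 0) rfl N63674 D203598
theorem N100457 : nd 100457 = n203599 := ndS (p := 63674) (l := 1) rfl N63674 D203599
theorem N100458 : nd 100458 = n203600 := ndS (p := 63674) (l := 5) rfl N63674 D203600
theorem N100459 : nd 100459 = n203601 := ndS (p := 63674) (l := 7) rfl N63674 D203601
theorem N100460 : nd 100460 = n203602 := ndS (p := 63675) (l := 4) rfl N63675 D203602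
theorem N100461 : nd 100461 = n203603 := ndS (p := 63676) (l := 4) rfl N63676 D203603
theorem N100462 : nd 100462 = n203604 := ndS (p := 63679) (l := 0) rfl N63679 D203604
theorem N100463 : nd 100463 = n203605 := ndS (p := 63679) (l := 2) rfl N63679 D203605
theorem N100464 : nd 100464 = n203606 := ndS (p := 63679) (l := 5) rfl N63679 D203606
theorem N100465 : nd 100465 = n203607 := ndS (p := 63679) (l := 6) rfl N63679 D203607
theorem N100466 : nd 100466 = n203608 := ndS (p := 63680) (l := 6) rfl N63680 D203608
theorem N100467 : nd 100467 = n203609 := ndS (p := 63681) (l := 5) rfl N63681 D203609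
theorem N100468 : nd 100468 = n203610 := ndS (p := 63682) (l := 1) rfl N63682 D203610
theorem N100469 : nd 100469 = n203611 := ndS (p := 63682) (l := 2) rfl N63682 D203611
theorem N100470 : nd 100470 = n203612 := ndS (p := 63682) (l := 5) rfl N63682 D203612
theorem N100471 : nd 100471 = n203613 := ndS (p := 63684) (l := 5) rfl N63684 D203613
theorem N100472 : nd 100472 = n203614 := ndS (p := 63685) (l := 5) rfl N63685 D203614
theorem N100473 : nd 100473 = n203615 := ndS (p := 63686) (l := 0) rfl N63686 D203615
theorem N100474 : nd 100474 = n203616 := ndS (p := 63686) (l := 1) rfl N63686 D203616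
theorem N100475 : nd 100475 = n203617 := ndS (p := 63686) (l := 4) rfl N63686 D203617
theorem N100476 : nd 100476 = n203618 := ndS (p := 63686) (l := 6) rfl N63686 D203618
theorem N100477 : nd 100477 = n203619 := ndS (p := 63687) (l := 3) rfl N63687 D203619
theorem N100478 : nd 100478 = n203620 := ndS (p := 63688) (l := 3) rfl N63688 D203620
theorem N100479 : nd 100479 = n203621 := ndS (p := 63688) (l := 6) rfl N63688 D203621
theorem N100480 : nd 100480 = n203622 := ndS (p := 63689) (l := 3) rfl N63689 D203622
theorem N100481 : nd 100481 = n203623 := ndS (p := 63690) (l := 0) rfl N63690 D203623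
theorem N100482 : nd 100482 = n203624 := ndS (p := 63690) (l := 1) rfl N63690 D203624
theorem N100483 : nd 100483 = n203625 := ndS (p := 63690) (l := 7) rfl N63690 D203625
theorem N100484 : nd 100484 = n203626 := ndS (p := 63700) (l := 4) rfl N63700 D203626
theorem N100485 : nd 100485 = n203627 := ndS (p := 63702) (l := 3) rfl N63702 D203627
theorem N100486 : nd 100486 = n203628 := ndS (p := 63703) (l := 4) rfl N63703 D203628
theorem N100487 : nd 100487 = n203629 := ndS (p := 63704) (l := 3) rfl N63704 D203629
theorem N100488 : nd 100488 = n203630 := ndS (p := 63708) (l := 5) rfl N63708 D203630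
theorem N100489 : nd 100489 = n203631 := ndS (p := 63711) (l := 6) rfl N63711 D203631
theorem N100490 : nd 100490 = n203632 := ndS (p := 63712) (l := 5) rfl N63712 D203632
theorem N100491 : nd 100491 = n203633 := ndS (p := 63716) (l := 4) rfl N63716 D203633
theorem N100492 : nd 100492 = n203634 := ndS (p := 63724) (l := 1) rfl N63724 D203634
theorem N100493 : nd 100493 = n203635 := ndS (p := 63739) (l := 4) rfl N63739 D203635
theorem N100494 : nd 100494 = n203636 := ndS (p := 63741) (l := 5) rfl N63741 D203636
theorem N100495 : nd 100495 = n203637 := ndS (p := 63746) (l := 1) rfl N63746 D203637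
theorem N100496 : nd 100496 = n203638 := ndS (p := 63746) (l := 6) rfl N63746 D203638
theorem N100497 : nd 100497 = n203639 := ndS (p := 63747) (l := 7) rfl N63747 D203639
theorem N100498 : nd 100498 = n203640 := ndS (p := 63749) (l := 5) rfl N63749 D203640
theorem N100499 : nd 100499 = n203641 := ndS (p := 63750) (l := 4) rfl N63750 D203641
theorem N100500 : nd 100500 = n203642 := ndS (p := 63751) (l := 3) rfl N63751 D203642
theorem N100501 : nd 100501 = n203643 := ndS (p := 63751) (l := 5) rfl N63751 D203643
theorem N100502 : nd 100502 = n203644 := ndS (p := 63752) (l := 5) rfl N63752 D203644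
theorem N100503 : nd 100503 = n203645 := ndS (p := 63774) (l := 6) rfl N63774 D203645
theorem N100504 : nd 100504 = n203646 := ndS (p := 63775) (l := 0) rfl N63775 D203646
theorem N100505 : nd 100505 = n203647 := ndS (p := 63776) (l := 4) rfl N63776 D203647
theorem N100506 : nd 100506 = n203648 := ndS (p := 63777) (l := 5) rfl N63777 D203648
theorem N100507 : nd 100507 = n203649 := ndS (p := 63788) (l := 6) rfl N63788 D203649
theorem N100508 : nd 100508 = n203650 := ndS (p := 63789) (l := 5) rfl N63789 D203650
theorem N100509 : nd 100509 = n203651 := ndS (p := 63792) (l := 4) rfl N63792 D203651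
theorem N100510 : nd 100510 = n203652 := ndS (p := 63794) (l := 5) rfl N63794 D203652
theorem N100511 : nd 100511 = n203653 := ndS (p := 63795) (l := 0) rfl N63795 D203653
theorem N100512 : nd 100512 = n203654 := ndS (p := 63796) (l := 3) rfl N63796 D203654
theorem N100513 : nd 100513 = n203655 := ndS (p := 63796) (l := 5) rfl N63796 D203655
theorem N100514 : nd 100514 = n203656 := ndS (p := 63801) (l := 0) rfl N63801 D203656
theorem N100515 : nd 100515 = n203657 := ndS (p := 63801) (l := 1) rfl N63801 D203657
theorem N100516 : nd 100516 = n203658 := ndS (p := 63804) (l := 1) rfl N63804 D203658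
theorem N100517 : nd 100517 = n203659 := ndS (p := 63806) (l := 5) rfl N63806 D203659
theorem N100518 : nd 100518 = n203660 := ndS (p := 63808) (l := 6) rfl N63808 D203660
theorem N100519 : nd 100519 = n203661 := ndS (p := 63811) (l := 6) rfl N63811 D203661
theorem N100520 : nd 100520 = n203662 := ndS (p := 63813) (l := 6) rfl N63813 D203662
theorem N100521 : nd 100521 = n203663 := ndS (p := 63814) (l := 6) rfl N63814 D203663
theorem N100522 : nd 100522 = n203664 := ndS (p := 63816) (l := 6) rfl N63816 D203664
theorem N100523 : nd 100523 = n203665 := ndS (p := 63818) (l := 3) rfl N63818 D203665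
theorem N100524 : nd 100524 = n203666 := ndS (p := 63819) (l := 3) rfl N63819 D203666
theorem N100525 : nd 100525 = n203667 := ndS (p := 63819) (l := 6) rfl N63819 D203667
theorem N100526 : nd 100526 = n203668 := ndS (p := 63819) (l := 7) rfl N63819 D203668
theorem N100527 : nd 100527 = n203669 := ndS (p := 63825) (l := 6) rfl N63825 D203669
theorem N100528 : nd 100528 = n203670 := ndS (p := 63827) (l := 3) rfl N63827 D203670
theorem N100529 : nd 100529 = n203671 := ndS (p := 63827) (l := 6) rfl N63827 D203671
theorem N100530 : nd 100530 = n203672 := ndS (p := 63830) (l := 6) rfl N63830 D203672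
theorem N100531 : nd 100531 = n203673 := ndS (p := 63847) (l := 6) rfl N63847 D203673
theorem N100532 : nd 100532 = n203674 := ndS (p := 63853) (l := 0) rfl N63853 D203674
theorem N100533 : nd 100533 = n203675 := ndS (p := 63856) (l := 1) rfl N63856 D203675
theorem N100534 : nd 100534 = n203676 := ndS (p := 63856) (l := 6) rfl N63856 D203676
theorem N100535 : nd 100535 = n203677 := ndS (p := 63867) (l := 4) rfl N63867 D203677
theorem N100536 : nd 100536 = n203678 := ndS (p := 63871) (l := 6) rfl N63871 D203678
theorem N100537 : nd 100537 = n203679 := ndS (p := 63872) (l := 5) rfl N63872 D203679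
theorem N100538 : nd 100538 = n203680 := ndS (p := 63872) (l := 6) rfl N63872 D203680
theorem N100539 : nd 100539 = n203681 := ndS (p := 63873) (l := 6) rfl N63873 D203681
theorem N100540 : nd 100540 = n203682 := ndS (p := 63875) (l := 3) rfl N63875 D203682
theorem N100541 : nd 100541 = n203683 := ndS (p := 63875) (l := 4) rfl N63875 D203683
theorem N100542 : nd 100542 = n203684 := ndS (p := 63875) (l := 5) rfl N63875 D203684
theorem N100543 : nd 100543 = n203685 := ndS (p := 63875) (l := 6) rfl N63875 D203685
theorem N100544 : nd 100544 = n203687 := ndS (p := 63876) (l := 4) rfl N63876 D203687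
theorem N100545 : nd 100545 = n203688 := ndS (p := 63876) (l := 6) rfl N63876 D203688
theorem N100546 : nd 100546 = n203689 := ndS (p := 63877) (l := 5) rfl N63877 D203689
theorem N100547 : nd 100547 = n203690 := ndS (p := 63878) (l := 0) rfl N63878 D203690
theorem N100548 : nd 100548 = n203691 := ndS (p := 63878) (l := 1) rfl N63878 D203691
theorem N100549 : nd 100549 = n203692 := ndS (p := 63878) (l := 4) rfl N63878 D203692
theorem N100550 : nd 100550 = n203693 := ndS (p := 63884) (l := 5) rfl N63884 D203693
theorem N100551 : nd 100551 = n203694 := ndS (p := 63885) (l := 5) rfl N63885 D203694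
theorem N100552 : nd 100552 = n203695 := ndS (p := 63886) (l := 5) rfl N63886 D203695
theorem N100553 : nd 100553 = n203696 := ndS (p := 63887) (l := 0) rfl N63887 D203696
theorem N100554 : nd 100554 = n203697 := ndS (p := 63887) (l := 1) rfl N63887 D203697
theorem N100555 : nd 100555 = n203698 := ndS (p := 63887) (l := 6) rfl N63887 D203698
theorem N100556 : nd 100556 = n203699 := ndS (p := 63888) (l := 3) rfl N63888 D203699
theorem N100557 : nd 100557 = n203700 := ndS (p := 63888) (l := 6) rfl N63888 D203700
theorem N100558 : nd 100558 = n203701 := ndS (p := 63890) (l := 5) rfl N63890 D203701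
theorem N100559 : nd 100559 = n203702 := ndS (p := 63891) (l := 5) rfl N63891 D203702
theorem N100560 : nd 100560 = n203703 := ndS (p := 63892) (l := 5) rfl N63892 D203703
theorem N100561 : nd 100561 = n203704 := ndS (p := 63893) (l := 4) rfl N63893 D203704
theorem N100562 : nd 100562 = n203705 := ndS (p := 63893) (l := 7) rfl N63893 D203705
theorem N100563 : nd 100563 = n203706 := ndS (p := 63895) (l := 5) rfl N63895 D203706
theorem N100564 : nd 100564 = n203707 := ndS (p := 63898) (l := 2) rfl N63898 D203707
theorem N100565 : nd 100565 = n203708 := ndS (p := 63898) (l := 6) rfl N63898 D203708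
theorem N100566 : nd 100566 = n203709 := ndS (p := 63899) (l := 6) rfl N63899 D203709
theorem N100567 : nd 100567 = n203710 := ndS (p := 63901) (l := 1) rfl N63901 D203710
theorem N100568 : nd 100568 = n203711 := ndS (p := 63901) (l := 2) rfl N63901 D203711
theorem N100569 : nd 100569 = n203712 := ndS (p := 63901) (l := 5) rfl N63901 D203712
theorem N100570 : nd 100570 = n203713 := ndS (p := 63903) (l := 6) rfl N63903 D203713
theorem N100571 : nd 100571 = n203714 := ndS (p := 63904) (l := 6) rfl N63904 D203714
theorem N100572 : nd 100572 = n203715 := ndS (p := 63909) (l := 0) rfl N63909 D203715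
theorem N100573 : nd 100573 = n203716 := ndS (p := 63909) (l := 1) rfl N63909 D203716
theorem N100574 : nd 100574 = n203717 := ndS (p := 63910) (l := 0) rfl N63910 D203717
theorem N100575 : nd 100575 = n203718 := ndS (p := 63910) (l := 1) rfl N63910 D203718
theorem N100576 : nd 100576 = n203719 := ndS (p := 63910) (l := 4) rfl N63910 D203719
theorem N100577 : nd 100577 = n203720 := ndS (p := 63910) (l := 7) rfl N63910 D203720
theorem N100578 : nd 100578 = n203721 := ndS (p := 63912) (l := 6) rfl N63912 D203721
theorem N100579 : nd 100579 = n203722 := ndS (p := 63914) (l := 3) rfl N63914 D203722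
theorem N100580 : nd 100580 = n203723 := ndS (p := 63915) (l := 5) rfl N63915 D203723
theorem N100581 : nd 100581 = n203724 := ndS (p := 63916) (l := 6) rfl N63916 D203724
theorem N100582 : nd 100582 = n203725 := ndS (p := 63918) (l := 5) rfl N63918 D203725
theorem N100583 : nd 100583 = n203726 := ndS (p := 63921) (l := 6) rfl N63921 D203726
theorem N100584 : nd 100584 = n203727 := ndS (p := 63922) (l := 7) rfl N63922 D203727
theorem N100585 : nd 100585 = n203728 := ndS (p := 63928) (l := 5) rfl N63928 D203728
theorem N100586 : nd 100586 = n203729 := ndS (p := 63929) (l := 0) rfl N63929 D203729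
theorem N100587 : nd 100587 = n203730 := ndS (p := 63929) (l := 1) rfl N63929 D203730
theorem N100588 : nd 100588 = n203731 := ndS (p := 63929) (l := 4) rfl N63929 D203731
theorem N100589 : nd 100589 = n203732 := ndS (p := 63929) (l := 7) rfl N63929 D203732
theorem N100590 : nd 100590 = n203733 := ndS (p := 63931) (l := 3) rfl N63931 D203733
theorem N100591 : nd 100591 = n203734 := ndS (p := 63932) (l := 3) rfl N63932 D203734
theorem N100592 : nd 100592 = n203735 := ndS (p := 63933) (l := 5) rfl N63933 D203735
theorem N100593 : nd 100593 = n203736 := ndS (p := 63934) (l := 4) rfl N63934 D203736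
theorem N100594 : nd 100594 = n203737 := ndS (p := 63936) (l := 4) rfl N63936 D203737
theorem N100595 : nd 100595 = n203738 := ndS (p := 63939) (l := 7) rfl N63939 D203738
theorem N100596 : nd 100596 = n203739 := ndS (p := 63942) (l := 0) rfl N63942 D203739
theorem N100597 : nd 100597 = n203740 := ndS (p := 63942) (l := 1) rfl N63942 D203740
theorem N100598 : nd 100598 = n203741 := ndS (p := 63942) (l := 7) rfl N63942 D203741
theorem N100599 : nd 100599 = n203742 := ndS (p := 63945) (l := 1) rfl N63945 D203742
theorem N100600 : nd 100600 = n203743 := ndS (p := 63945) (l := 7) rfl N63945 D203743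
theorem N100601 : nd 100601 = n203744 := ndS (p := 63949) (l := 5) rfl N63949 D203744
theorem N100602 : nd 100602 = n203745 := ndS (p := 63951) (l := 5) rfl N63951 D203745
theorem N100603 : nd 100603 = n203746 := ndS (p := 63952) (l := 4) rfl N63952 D203746
theorem N100604 : nd 100604 = n203747 := ndS (p := 63952) (l := 7) rfl N63952 D203747
theorem N100605 : nd 100605 = n203748 := ndS (p := 63954) (l := 0) rfl N63954 D203748
theorem N100606 : nd 100606 = n203749 := ndS (p := 63954) (l := 4) rfl N63954 D203749
theorem N100607 : nd 100607 = n203750 := ndS (p := 63960) (l := 3) rfl N63960 D203750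
theorem N100608 : nd 100608 = n203751 := ndS (p := 63962) (l := 6) rfl N63962 D203751
theorem N100609 : nd 100609 = n203752 := ndS (p := 63963) (l := 5) rfl N63963 D203752
theorem N100610 : nd 100610 = n203753 := ndS (p := 63964) (l := 6) rfl N63964 D203753
theorem N100611 : nd 100611 = n203754 := ndS (p := 63965) (l := 0) rfl N63965 D203754
theorem N100612 : nd 100612 = n203755 := ndS (p := 63965) (l := 1) rfl N63965 D203755
theorem N100613 : nd 100613 = n203756 := ndS (p := 63965) (l := 6) rfl N63965 D203756
theorem N100614 : nd 100614 = n203757 := ndS (p := 63966) (l := 0) rfl N63966 D203757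
theorem N100615 : nd 100615 = n203758 := ndS (p := 63966) (l := 1) rfl N63966 D203758
theorem N100616 : nd 100616 = n203759 := ndS (p := 63966) (l := 5) rfl N63966 D203759
theorem N100617 : nd 100617 = n203760 := ndS (p := 63966) (l := 7) rfl N63966 D203760
theorem N100618 : nd 100618 = n203761 := ndS (p := 63967) (l := 3) rfl N63967 D203761
theorem N100619 : nd 100619 = n203762 := ndS (p := 63967) (l := 6) rfl N63967 D203762
theorem N100620 : nd 100620 = n203763 := ndS (p := 63968) (l := 1) rfl N63968 D203763
theorem N100621 : nd 100621 = n203764 := ndS (p := 63968) (l := 5) rfl N63968 D203764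
theorem N100622 : nd 100622 = n203765 := ndS (p := 63971) (l := 4) rfl N63971 D203765
theorem N100623 : nd 100623 = n203766 := ndS (p := 63976) (l := 6) rfl N63976 D203766
theorem N100624 : nd 100624 = n203767 := ndS (p := 63977) (l := 3) rfl N63977 D203767
theorem N100625 : nd 100625 = n203768 := ndS (p := 63977) (l := 6) rfl N63977 D203768
theorem N100626 : nd 100626 = n203770 := ndS (p := 63978) (l := 5) rfl N63978 D203770
theorem N100627 : nd 100627 = n203771 := ndS (p := 63978) (l := 7) rfl N63978 D203771
theorem N100628 : nd 100628 = n203772 := ndS (p := 63979) (l := 3) rfl N63979 D203772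
theorem N100629 : nd 100629 = n203773 := ndS (p := 63981) (l := 1) rfl N63981 D203773
theorem N100630 : nd 100630 = n203774 := ndS (p := 63981) (l := 2) rfl N63981 D203774
theorem N100631 : nd 100631 = n203775 := ndS (p := 63981) (l := 5) rfl N63981 D203775
theorem N100632 : nd 100632 = n203776 := ndS (p := 63983) (l := 0) rfl N63983 D203776
theorem N100633 : nd 100633 = n203777 := ndS (p := 63983) (l := 1) rfl N63983 D203777
theorem N100634 : nd 100634 = n203778 := ndS (p := 63985) (l := 1) rfl N63985 D203778
theorem N100635 : nd 100635 = n203779 := ndS (p := 63985) (l := 5) rfl N63985 D203779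
theorem N100636 : nd 100636 = n203780 := ndS (p := 63985) (l := 7) rfl N63985 D203780
theorem N100637 : nd 100637 = n203781 := ndS (p := 63986) (l := 4) rfl N63986 D203781
theorem N100638 : nd 100638 = n203782 := ndS (p := 63987) (l := 0) rfl N63987 D203782
theorem N100639 : nd 100639 = n203783 := ndS (p := 63987) (l := 6) rfl N63987 D203783
theorem N100640 : nd 100640 = n203784 := ndS (p := 63990) (l := 3) rfl N63990 D203784
theorem N100641 : nd 100641 = n203785 := ndS (p := 63991) (l := 6) rfl N63991 D203785
theorem N100642 : nd 100642 = n203786 := ndS (p := 63996) (l := 5) rfl N63996 D203786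
theorem N100643 : nd 100643 = n203787 := ndS (p := 63998) (l := 3) rfl N63998 D203787
theorem N100644 : nd 100644 = n203788 := ndS (p := 64000) (l := 5) rfl N64000 D203788
theorem N100645 : nd 100645 = n203789 := ndS (p := 64001) (l := 6) rfl N64001 D203789
theorem N100646 : nd 100646 = n203790 := ndS (p := 64004) (l := 6) rfl N64004 D203790
theorem N100647 : nd 100647 = n203791 := ndS (p := 64005) (l := 3) rfl N64005 D203791
theorem N100648 : nd 100648 = n203792 := ndS (p := 64008) (l := 3) rfl N64008 D203792
theorem N100649 : nd 100649 = n203793 := ndS (p := 64009) (l := 5) rfl N64009 D203793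
theorem N100650 : nd 100650 = n203794 := ndS (p := 64013) (l := 2) rfl N64013 D203794
theorem N100651 : nd 100651 = n203795 := ndS (p := 64015) (l := 1) rfl N64015 D203795
theorem N100652 : nd 100652 = n203796 := ndS (p := 64019) (l := 3) rfl N64019 D203796
theorem N100653 : nd 100653 = n203797 := ndS (p := 64023) (l := 3) rfl N64023 D203797
theorem N100654 : nd 100654 = n203798 := ndS (p := 64026) (l := 3) rfl N64026 D203798
theorem N100655 : nd 100655 = n203799 := ndS (p := 64029) (l := 0) rfl N64029 D203799
theorem N100656 : nd 100656 = n203800 := ndS (p := 64032) (l := 5) rfl N64032 D203800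
theorem N100657 : nd 100657 = n203801 := ndS (p := 64033) (l := 5) rfl N64033 D203801
theorem N100658 : nd 100658 = n203802 := ndS (p := 64033) (l := 6) rfl N64033 D203802
theorem N100659 : nd 100659 = n203803 := ndS (p := 64034) (l := 0) rfl N64034 D203803
theorem N100660 : nd 100660 = n203804 := ndS (p := 64034) (l := 1) rfl N64034 D203804
theorem N100661 : nd 100661 = n203805 := ndS (p := 64034) (l := 4) rfl N64034 D203805
theorem N100662 : nd 100662 = n203806 := ndS (p := 64035) (l := 3) rfl N64035 D203806
theorem N100663 : nd 100663 = n203807 := ndS (p := 64036) (l := 6) rfl N64036 D203807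
theorem N100664 : nd 100664 = n203808 := ndS (p := 64045) (l := 7) rfl N64045 D203808
theorem N100665 : nd 100665 = n203809 := ndS (p := 64046) (l := 6) rfl N64046 D203809
theorem N100666 : nd 100666 = n203810 := ndS (p := 64057) (l := 1) rfl N64057 D203810
theorem N100667 : nd 100667 = n203811 := ndS (p := 64058) (l := 3) rfl N64058 D203811
theorem N100668 : nd 100668 = n203812 := ndS (p := 64061) (l := 6) rfl N64061 D203812
theorem N100669 : nd 100669 = n203813 := ndS (p := 64062) (l := 1) rfl N64062 D203813
theorem N100670 : nd 100670 = n203814 := ndS (p := 64067) (l := 3) rfl N64067 D203814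
theorem N100671 : nd 100671 = n203815 := ndS (p := 64067) (l := 4) rfl N64067 D203815
theorem N100672 : nd 100672 = n203816 := ndS (p := 64074) (l := 3) rfl N64074 D203816
theorem N100673 : nd 100673 = n203817 := ndS (p := 64075) (l := 1) rfl N64075 D203817
theorem N100674 : nd 100674 = n203818 := ndS (p := 64075) (l := 5) rfl N64075 D203818
theorem N100675 : nd 100675 = n203819 := ndS (p := 64076) (l := 3) rfl N64076 D203819
theorem N100676 : nd 100676 = n203820 := ndS (p := 64076) (l := 4) rfl N64076 D203820
theorem N100677 : nd 100677 = n203821 := ndS (p := 64077) (l := 3) rfl N64077 D203821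
theorem N100678 : nd 100678 = n203822 := ndS (p := 64079) (l := 2) rfl N64079 D203822
theorem N100679 : nd 100679 = n203823 := ndS (p := 64079) (l := 6) rfl N64079 D203823
theorem N100680 : nd 100680 = n203824 := ndS (p := 64081) (l := 5) rfl N64081 D203824
theorem N100681 : nd 100681 = n203826 := ndS (p := 64082) (l := 2) rfl N64082 D203826
theorem N100682 : nd 100682 = n203827 := ndS (p := 64082) (l := 4) rfl N64082 D203827
theorem N100683 : nd 100683 = n203828 := ndS (p := 64085) (l := 3) rfl N64085 D203828
theorem N100684 : nd 100684 = n203829 := ndS (p := 64087) (l := 0) rfl N64087 D203829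
theorem N100685 : nd 100685 = n203830 := ndS (p := 64087) (l := 2) rfl N64087 D203830
theorem N100686 : nd 100686 = n203831 := ndS (p := 64087) (l := 5) rfl N64087 D203831
theorem N100687 : nd 100687 = n203832 := ndS (p := 64088) (l := 6) rfl N64088 D203832
theorem N100688 : nd 100688 = n203833 := ndS (p := 64090) (l := 3) rfl N64090 D203833
theorem N100689 : nd 100689 = n203834 := ndS (p := 64090) (l := 4) rfl N64090 D203834
theorem N100690 : nd 100690 = n203835 := ndS (p := 64094) (l := 0) rfl N64094 D203835
theorem N100691 : nd 100691 = n203836 := ndS (p := 64094) (l := 1) rfl N64094 D203836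
theorem N100692 : nd 100692 = n203837 := ndS (p := 64095) (l := 3) rfl N64095 D203837
theorem N100693 : nd 100693 = n203838 := ndS (p := 64097) (l := 0) rfl N64097 D203838
theorem N100694 : nd 100694 = n203839 := ndS (p := 64097) (l := 1) rfl N64097 D203839
theorem N100695 : nd 100695 = n203840 := ndS (p := 64097) (l := 2) rfl N64097 D203840
theorem N100696 : nd 100696 = n203841 := ndS (p := 64097) (l := 5) rfl N64097 D203841
theorem N100697 : nd 100697 = n203842 := ndS (p := 64099) (l := 4) rfl N64099 D203842
theorem N100698 : nd 100698 = n203843 := ndS (p := 64100) (l := 3) rfl N64100 D203843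
theorem N100699 : nd 100699 = n203844 := ndS (p := 64100) (l := 4) rfl N64100 D203844
theorem N100700 : nd 100700 = n203845 := ndS (p := 64104) (l := 3) rfl N64104 D203845
theorem N100701 : nd 100701 = n203846 := ndS (p := 64104) (l := 4) rfl N64104 D203846
theorem N100702 : nd 100702 = n203847 := ndS (p := 64106) (l := 4) rfl N64106 D203847
theorem N100703 : nd 100703 = n203849 := ndS (p := 64109) (l := 1) rfl N64109 D203849
theorem N100704 : nd 100704 = n203850 := ndS (p := 64109) (l := 2) rfl N64109 D203850
theorem N100705 : nd 100705 = n203851 := ndS (p := 64109) (l := 6) rfl N64109 D203851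
theorem N100706 : nd 100706 = n203852 := ndS (p := 64110) (l := 0) rfl N64110 D203852
theorem N100707 : nd 100707 = n203853 := ndS (p := 64110) (l := 1) rfl N64110 D203853
theorem N100708 : nd 100708 = n203854 := ndS (p := 64110) (l := 3) rfl N64110 D203854
theorem N100709 : nd 100709 = n203855 := ndS (p := 64111) (l := 0) rfl N64111 D203855
theorem N100710 : nd 100710 = n203857 := ndS (p := 64113) (l := 4) rfl N64113 D203857
theorem N100711 : nd 100711 = n203858 := ndS (p := 64119) (l := 5) rfl N64119 D203858
theorem N100712 : nd 100712 = n203859 := ndS (p := 64120) (l := 5) rfl N64120 D203859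
theorem N100713 : nd 100713 = n203860 := ndS (p := 64121) (l := 0) rfl N64121 D203860
theorem N100714 : nd 100714 = n203861 := ndS (p := 64121) (l := 1) rfl N64121 D203861
theorem N100715 : nd 100715 = n203862 := ndS (p := 64121) (l := 2) rfl N64121 D203862
theorem N100716 : nd 100716 = n203863 := ndS (p := 64121) (l := 6) rfl N64121 D203863
theorem N100717 : nd 100717 = n203864 := ndS (p := 64122) (l := 5) rfl N64122 D203864
theorem N100718 : nd 100718 = n203865 := ndS (p := 64123) (l := 3) rfl N64123 D203865
theorem N100719 : nd 100719 = n203866 := ndS (p := 64124) (l := 5) rfl N64124 D203866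
theorem N100720 : nd 100720 = n203867 := ndS (p := 64124) (l := 6) rfl N64124 D203867
theorem N100721 : nd 100721 = n203868 := ndS (p := 64125) (l := 4) rfl N64125 D203868
theorem N100722 : nd 100722 = n203869 := ndS (p := 64125) (l := 6) rfl N64125 D203869
theorem N100723 : nd 100723 = n203870 := ndS (p := 64126) (l := 1) rfl N64126 D203870
theorem N100724 : nd 100724 = n203871 := ndS (p := 64127) (l := 0) rfl N64127 D203871
theorem N100725 : nd 100725 = n203872 := ndS (p := 64127) (l := 1) rfl N64127 D203872
theorem N100726 : nd 100726 = n203873 := ndS (p := 64127) (l := 5) rfl N64127 D203873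
theorem N100727 : nd 100727 = n203874 := ndS (p := 64127) (l := 7) rfl N64127 D203874
theorem N100728 : nd 100728 = n203875 := ndS (p := 64128) (l := 1) rfl N64128 D203875
theorem N100729 : nd 100729 = n203876 := ndS (p := 64128) (l := 4) rfl N64128 D203876
theorem N100730 : nd 100730 = n203877 := ndS (p := 64129) (l := 3) rfl N64129 D203877
theorem N100731 : nd 100731 = n203878 := ndS (p := 64129) (l := 5) rfl N64129 D203878
theorem N100732 : nd 100732 = n203879 := ndS (p := 64130) (l := 5) rfl N64130 D203879
theorem N100733 : nd 100733 = n203880 := ndS (p := 64139) (l := 5) rfl N64139 D203880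
theorem N100734 : nd 100734 = n203881 := ndS (p := 64140) (l := 5) rfl N64140 D203881
theorem N100735 : nd 100735 = n203882 := ndS (p := 64144) (l := 3) rfl N64144 D203882
theorem N100736 : nd 100736 = n203883 := ndS (p := 64144) (l := 5) rfl N64144 D203883
theorem N100737 : nd 100737 = n203884 := ndS (p := 64144) (l := 6) rfl N64144 D203884
theorem N100738 : nd 100738 = n203885 := ndS (p := 64148) (l := 1) rfl N64148 D203885
theorem N100739 : nd 100739 = n203886 := ndS (p := 64149) (l := 0) rfl N64149 D203886
theorem N100740 : nd 100740 = n203887 := ndS (p := 64149) (l := 1) rfl N64149 D203887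
theorem N100741 : nd 100741 = n203888 := ndS (p := 64149) (l := 2) rfl N64149 D203888
theorem N100742 : nd 100742 = n203889 := ndS (p := 64150) (l := 5) rfl N64150 D203889
theorem N100743 : nd 100743 = n203890 := ndS (p := 64151) (l := 2) rfl N64151 D203890
theorem N100744 : nd 100744 = n203891 := ndS (p := 64153) (l := 6) rfl N64153 D203891
theorem N100745 : nd 100745 = n203892 := ndS (p := 64154) (l := 4) rfl N64154 D203892
theorem N100746 : nd 100746 = n203893 := ndS (p := 64154) (l := 6) rfl N64154 D203893
theorem N100747 : nd 100747 = n203894 := ndS (p := 64155) (l := 1) rfl N64155 D203894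
theorem N100748 : nd 100748 = n203895 := ndS (p := 64155) (l := 5) rfl N64155 D203895
theorem N100749 : nd 100749 = n203896 := ndS (p := 64156) (l := 0) rfl N64156 D203896
theorem N100750 : nd 100750 = n203897 := ndS (p := 64156) (l := 5) rfl N64156 D203897
theorem N100751 : nd 100751 = n203898 := ndS (p := 64156) (l := 7) rfl N64156 D203898
theorem N100752 : nd 100752 = n203899 := ndS (p := 64158) (l := 3) rfl N64158 D203899
theorem N100753 : nd 100753 = n203900 := ndS (p := 64159) (l := 4) rfl N64159 D203900
theorem N100754 : nd 100754 = n203901 := ndS (p := 64167) (l := 3) rfl N64167 D203901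
theorem N100755 : nd 100755 = n203902 := ndS (p := 64169) (l := 1) rfl N64169 D203902
theorem N100756 : nd 100756 = n203903 := ndS (p := 64169) (l := 5) rfl N64169 D203903
theorem N100757 : nd 100757 = n203904 := ndS (p := 64169) (l := 7) rfl N64169 D203904
theorem N100758 : nd 100758 = n203905 := ndS (p := 64170) (l := 4) rfl N64170 D203905
theorem N100759 : nd 100759 = n203906 := ndS (p := 64173) (l := 5) rfl N64173 D203906
theorem N100760 : nd 100760 = n203907 := ndS (p := 64173) (l := 6) rfl N64173 D203907
theorem N100761 : nd 100761 = n203908 := ndS (p := 64175) (l := 0) rfl N64175 D203908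
theorem N100762 : nd 100762 = n203909 := ndS (p := 64175) (l := 1) rfl N64175 D203909
theorem N100763 : nd 100763 = n203910 := ndS (p := 64177) (l := 6) rfl N64177 D203910
theorem N100764 : nd 100764 = n203911 := ndS (p := 64178) (l := 0) rfl N64178 D203911
theorem N100765 : nd 100765 = n203912 := ndS (p := 64178) (l := 5) rfl N64178 D203912
theorem N100766 : nd 100766 = n203913 := ndS (p := 64179) (l := 6) rfl N64179 D203913
theorem N100767 : nd 100767 = n203914 := ndS (p := 64183) (l := 4) rfl N64183 D203914
theorem N100768 : nd 100768 = n203915 := ndS (p := 64184) (l := 3) rfl N64184 D203915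
theorem N100769 : nd 100769 = n203916 := ndS (p := 64184) (l := 6) rfl N64184 D203916
theorem N100770 : nd 100770 = n203917 := ndS (p := 64186) (l := 3) rfl N64186 D203917
theorem N100771 : nd 100771 = n203918 := ndS (p := 64190) (l := 5) rfl N64190 D203918
theorem N100772 : nd 100772 = n203919 := ndS (p := 64192) (l := 0) rfl N64192 D203919
theorem N100773 : nd 100773 = n203920 := ndS (p := 64192) (l := 7) rfl N64192 D203920
theorem N100774 : nd 100774 = n203921 := ndS (p := 64194) (l := 7) rfl N64194 D203921
theorem N100775 : nd 100775 = n203922 := ndS (p := 64196) (l := 5) rfl N64196 D203922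
theorem N100776 : nd 100776 = n203923 := ndS (p := 64197) (l := 5) rfl N64197 D203923
theorem N100777 : nd 100777 = n203924 := ndS (p := 64197) (l := 6) rfl N64197 D203924
theorem N100778 : nd 100778 = n203925 := ndS (p := 64198) (l := 1) rfl N64198 D203925
theorem N100779 : nd 100779 = n203926 := ndS (p := 64198) (l := 4) rfl N64198 D203926
theorem N100780 : nd 100780 = n203927 := ndS (p := 64199) (l := 5) rfl N64199 D203927
theorem N100781 : nd 100781 = n203928 := ndS (p := 64203) (l := 6) rfl N64203 D203928
theorem N100782 : nd 100782 = n203929 := ndS (p := 64204) (l := 5) rfl N64204 D203929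
theorem N100783 : nd 100783 = n203930 := ndS (p := 64205) (l := 0) rfl N64205 D203930
theorem N100784 : nd 100784 = n203931 := ndS (p := 64205) (l := 4) rfl N64205 D203931
theorem N100785 : nd 100785 = n203932 := ndS (p := 64205) (l := 7) rfl N64205 D203932
theorem N100786 : nd 100786 = n203933 := ndS (p := 64208) (l := 5) rfl N64208 D203933
theorem N100787 : nd 100787 = n203934 := ndS (p := 64209) (l := 6) rfl N64209 D203934
theorem N100788 : nd 100788 = n203935 := ndS (p := 64210) (l := 0) rfl N64210 D203935
theorem N100789 : nd 100789 = n203936 := ndS (p := 64210) (l := 4) rfl N64210 D203936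
theorem N100790 : nd 100790 = n203937 := ndS (p := 64210) (l := 7) rfl N64210 D203937
theorem N100791 : nd 100791 = n203938 := ndS (p := 64226) (l := 5) rfl N64226 D203938
theorem N100792 : nd 100792 = n203939 := ndS (p := 64229) (l := 2) rfl N64229 D203939
theorem N100793 : nd 100793 = n203940 := ndS (p := 64230) (l := 6) rfl N64230 D203940
theorem N100794 : nd 100794 = n203941 := ndS (p := 64236) (l := 3) rfl N64236 D203941
theorem N100795 : nd 100795 = n203942 := ndS (p := 64237) (l := 0) rfl N64237 D203942
theorem N100796 : nd 100796 = n203943 := ndS (p := 64237) (l := 1) rfl N64237 D203943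
theorem N100797 : nd 100797 = n203944 := ndS (p := 64237) (l := 2) rfl N64237 D203944
theorem N100798 : nd 100798 = n203945 := ndS (p := 64237) (l := 5) rfl N64237 D203945
theorem N100799 : nd 100799 = n203946 := ndS (p := 64238) (l := 6) rfl N64238 D203946
theorem N100800 : nd 100800 = n203947 := ndS (p := 64239) (l := 4) rfl N64239 D203947
theorem N100801 : nd 100801 = n203948 := ndS (p := 64240) (l := 4) rfl N64240 D203948
theorem N100802 : nd 100802 = n203949 := ndS (p := 64243) (l := 4) rfl N64243 D203949
theorem N100803 : nd 100803 = n203950 := ndS (p := 64246) (l := 4) rfl N64246 D203950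
theorem N100804 : nd 100804 = n203951 := ndS (p := 64246) (l := 6) rfl N64246 D203951
theorem N100805 : nd 100805 = n203952 := ndS (p := 64247) (l := 6) rfl N64247 D203952
theorem N100806 : nd 100806 = n203953 := ndS (p := 64248) (l := 6) rfl N64248 D203953
theorem N100807 : nd 100807 = n203954 := ndS (p := 64249) (l := 0) rfl N64249 D203954
theorem N100808 : nd 100808 = n203955 := ndS (p := 64249) (l := 1) rfl N64249 D203955
theorem N100809 : nd 100809 = n203956 := ndS (p := 64252) (l := 4) rfl N64252 D203956
theorem N100810 : nd 100810 = n203957 := ndS (p := 64253) (l := 4) rfl N64253 D203957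
theorem N100811 : nd 100811 = n203958 := ndS (p := 64254) (l := 4) rfl N64254 D203958
theorem N100812 : nd 100812 = n203959 := ndS (p := 64255) (l := 0) rfl N64255 D203959
theorem N100813 : nd 100813 = n203960 := ndS (p := 64255) (l := 1) rfl N64255 D203960
theorem N100814 : nd 100814 = n203961 := ndS (p := 64255) (l := 5) rfl N64255 D203961
theorem N100815 : nd 100815 = n203962 := ndS (p := 64261) (l := 6) rfl N64261 D203962
theorem N100816 : nd 100816 = n203963 := ndS (p := 64262) (l := 0) rfl N64262 D203963
theorem N100817 : nd 100817 = n203964 := ndS (p := 64262) (l := 5) rfl N64262 D203964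
theorem N100818 : nd 100818 = n203965 := ndS (p := 64263) (l := 4) rfl N64263 D203965
theorem N100819 : nd 100819 = n203966 := ndS (p := 64275) (l := 5) rfl N64275 D203966
theorem N100820 : nd 100820 = n203967 := ndS (p := 64277) (l := 3) rfl N64277 D203967
theorem N100821 : nd 100821 = n203968 := ndS (p := 64277) (l := 6) rfl N64277 D203968
theorem N100822 : nd 100822 = n203969 := ndS (p := 64279) (l := 0) rfl N64279 D203969
theorem N100823 : nd 100823 = n203970 := ndS (p := 64279) (l := 5) rfl N64279 D203970
theorem N100824 : nd 100824 = n203971 := ndS (p := 64281) (l := 3) rfl N64281 D203971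
theorem N100825 : nd 100825 = n203972 := ndS (p := 64282) (l := 3) rfl N64282 D203972
theorem N100826 : nd 100826 = n203973 := ndS (p := 64285) (l := 0) rfl N64285 D203973
theorem N100827 : nd 100827 = n203974 := ndS (p := 64285) (l := 1) rfl N64285 D203974
theorem N100828 : nd 100828 = n203975 := ndS (p := 64285) (l := 2) rfl N64285 D203975
theorem N100829 : nd 100829 = n203976 := ndS (p := 64285) (l := 5) rfl N64285 D203976
theorem N100830 : nd 100830 = n203977 := ndS (p := 64286) (l := 6) rfl N64286 D203977
theorem N100831 : nd 100831 = n203978 := ndS (p := 64288) (l := 3) rfl N64288 D203978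
theorem N100832 : nd 100832 = n203979 := ndS (p := 64288) (l := 6) rfl N64288 D203979
theorem N100833 : nd 100833 = n203980 := ndS (p := 64289) (l := 3) rfl N64289 D203980
theorem N100834 : nd 100834 = n203981 := ndS (p := 64289) (l := 6) rfl N64289 D203981
theorem N100835 : nd 100835 = n203982 := ndS (p := 64291) (l := 5) rfl N64291 D203982
theorem N100836 : nd 100836 = n203983 := ndS (p := 64292) (l := 4) rfl N64292 D203983
theorem N100837 : nd 100837 = n203984 := ndS (p := 64293) (l := 3) rfl N64293 D203984
theorem N100838 : nd 100838 = n203985 := ndS (p := 64296) (l := 5) rfl N64296 D203985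
theorem N100839 : nd 100839 = n203986 := ndS (p := 64297) (l := 5) rfl N64297 D203986
theorem N100840 : nd 100840 = n203987 := ndS (p := 64297) (l := 6) rfl N64297 D203987
theorem N100841 : nd 100841 = n203988 := ndS (p := 64298) (l := 0) rfl N64298 D203988
theorem N100842 : nd 100842 = n203989 := ndS (p := 64298) (l := 4) rfl N64298 D203989
theorem N100843 : nd 100843 = n203990 := ndS (p := 64299) (l := 3) rfl N64299 D203990
theorem N100844 : nd 100844 = n203991 := ndS (p := 64304) (l := 3) rfl N64304 D203991
theorem N100845 : nd 100845 = n203992 := ndS (p := 64304) (l := 5) rfl N64304 D203992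
theorem N100846 : nd 100846 = n203993 := ndS (p := 64305) (l := 5) rfl N64305 D203993
theorem N100847 : nd 100847 = n203994 := ndS (p := 64305) (l := 6) rfl N64305 D203994
theorem N100848 : nd 100848 = n203995 := ndS (p := 64306) (l := 1) rfl N64306 D203995
theorem N100849 : nd 100849 = n203996 := ndS (p := 64308) (l := 5) rfl N64308 D203996
theorem N100850 : nd 100850 = n203997 := ndS (p := 64311) (l := 0) rfl N64311 D203997
theorem N100851 : nd 100851 = n203998 := ndS (p := 64311) (l := 1) rfl N64311 D203998
theorem N100852 : nd 100852 = n203999 := ndS (p := 64311) (l := 2) rfl N64311 D203999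
theorem N100853 : nd 100853 = n204000 := ndS (p := 64312) (l := 3) rfl N64312 D204000
theorem N100854 : nd 100854 = n204001 := ndS (p := 64314) (l := 4) rfl N64314 D204001
theorem N100855 : nd 100855 = n204002 := ndS (p := 64314) (l := 6) rfl N64314 D204002
theorem N100856 : nd 100856 = n204003 := ndS (p := 64316) (l := 4) rfl N64316 D204003
theorem N100857 : nd 100857 = n204004 := ndS (p := 64316) (l := 6) rfl N64316 D204004
theorem N100858 : nd 100858 = n204005 := ndS (p := 64317) (l := 4) rfl N64317 D204005
theorem N100859 : nd 100859 = n204006 := ndS (p := 64317) (l := 6) rfl N64317 D204006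
theorem N100860 : nd 100860 = n204007 := ndS (p := 64318) (l := 1) rfl N64318 D204007
theorem N100861 : nd 100861 = n204008 := ndS (p := 64318) (l := 3) rfl N64318 D204008
theorem N100862 : nd 100862 = n204009 := ndS (p := 64318) (l := 5) rfl N64318 D204009
theorem N100863 : nd 100863 = n204010 := ndS (p := 64318) (l := 7) rfl N64318 D204010
theorem N100864 : nd 100864 = n204011 := ndS (p := 64320) (l := 1) rfl N64320 D204011
theorem N100865 : nd 100865 = n204012 := ndS (p := 64323) (l := 0) rfl N64323 D204012
theorem N100866 : nd 100866 = n204013 := ndS (p := 64323) (l := 1) rfl N64323 D204013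
theorem N100867 : nd 100867 = n204014 := ndS (p := 64323) (l := 7) rfl N64323 D204014
theorem N100868 : nd 100868 = n204015 := ndS (p := 64324) (l := 3) rfl N64324 D204015
theorem N100869 : nd 100869 = n204016 := ndS (p := 64324) (l := 6) rfl N64324 D204016
theorem N100870 : nd 100870 = n204017 := ndS (p := 64325) (l := 7) rfl N64325 D204017
theorem N100871 : nd 100871 = n204018 := ndS (p := 64326) (l := 4) rfl N64326 D204018
theorem N100872 : nd 100872 = n204019 := ndS (p := 64326) (l := 6) rfl N64326 D204019
theorem N100873 : nd 100873 = n204020 := ndS (p := 64327) (l := 3) rfl N64327 D204020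
theorem N100874 : nd 100874 = n204021 := ndS (p := 64327) (l := 6) rfl N64327 D204021
theorem N100875 : nd 100875 = n204022 := ndS (p := 64329) (l := 6) rfl N64329 D204022
theorem N100876 : nd 100876 = n204023 := ndS (p := 64330) (l := 0) rfl N64330 D204023
theorem N100877 : nd 100877 = n204024 := ndS (p := 64330) (l := 1) rfl N64330 D204024
theorem N100878 : nd 100878 = n204025 := ndS (p := 64330) (l := 7) rfl N64330 D204025
theorem N100879 : nd 100879 = n204026 := ndS (p := 64331) (l := 3) rfl N64331 D204026
theorem N100880 : nd 100880 = n204027 := ndS (p := 64331) (l := 6) rfl N64331 D204027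
theorem N100881 : nd 100881 = n204028 := ndS (p := 64332) (l := 3) rfl N64332 D204028
theorem N100882 : nd 100882 = n204029 := ndS (p := 64332) (l := 6) rfl N64332 D204029
theorem N100883 : nd 100883 = n204030 := ndS (p := 64333) (l := 0) rfl N64333 D204030
theorem N100884 : nd 100884 = n204031 := ndS (p := 64333) (l := 1) rfl N64333 D204031
theorem N100885 : nd 100885 = n204032 := ndS (p := 64333) (l := 2) rfl N64333 D204032
theorem N100886 : nd 100886 = n204033 := ndS (p := 64334) (l := 3) rfl N64334 D204033
theorem N100887 : nd 100887 = n204034 := ndS (p := 64334) (l := 4) rfl N64334 D204034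
theorem N100888 : nd 100888 = n204035 := ndS (p := 64335) (l := 3) rfl N64335 D204035
theorem N100889 : nd 100889 = n204036 := ndS (p := 64335) (l := 6) rfl N64335 D204036
theorem N100890 : nd 100890 = n204037 := ndS (p := 64336) (l := 0) rfl N64336 D204037
theorem N100891 : nd 100891 = n204038 := ndS (p := 64336) (l := 1) rfl N64336 D204038
theorem N100892 : nd 100892 = n204039 := ndS (p := 64337) (l := 5) rfl N64337 D204039
theorem N100893 : nd 100893 = n204040 := ndS (p := 64337) (l := 6) rfl N64337 D204040
theorem N100894 : nd 100894 = n204041 := ndS (p := 64338) (l := 0) rfl N64338 D204041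
theorem N100895 : nd 100895 = n204042 := ndS (p := 64338) (l := 1) rfl N64338 D204042
theorem N100896 : nd 100896 = n204043 := ndS (p := 64338) (l := 4) rfl N64338 D204043
theorem N100897 : nd 100897 = n204044 := ndS (p := 64338) (l := 6) rfl N64338 D204044
theorem N100898 : nd 100898 = n204045 := ndS (p := 64339) (l := 0) rfl N64339 D204045
theorem N100899 : nd 100899 = n204046 := ndS (p := 64340) (l := 3) rfl N64340 D204046
theorem N100900 : nd 100900 = n204047 := ndS (p := 64340) (l := 6) rfl N64340 D204047
theorem N100901 : nd 100901 = n204048 := ndS (p := 64341) (l := 7) rfl N64341 D204048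
theorem N100902 : nd 100902 = n204049 := ndS (p := 64347) (l := 4) rfl N64347 D204049
theorem N100903 : nd 100903 = n204050 := ndS (p := 64347) (l := 5) rfl N64347 D204050
theorem N100904 : nd 100904 = n204051 := ndS (p := 64348) (l := 0) rfl N64348 D204051
theorem N100905 : nd 100905 = n204052 := ndS (p := 64348) (l := 1) rfl N64348 D204052
theorem N100906 : nd 100906 = n204053 := ndS (p := 64348) (l := 4) rfl N64348 D204053
theorem N100907 : nd 100907 = n204054 := ndS (p := 64349) (l := 6) rfl N64349 D204054
theorem N100908 : nd 100908 = n204055 := ndS (p := 64351) (l := 0) rfl N64351 D204055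
theorem N100909 : nd 100909 = n204056 := ndS (p := 64351) (l := 3) rfl N64351 D204056
theorem N100910 : nd 100910 = n204057 := ndS (p := 64351) (l := 5) rfl N64351 D204057
theorem N100911 : nd 100911 = n204058 := ndS (p := 64353) (l := 3) rfl N64353 D204058
theorem N100912 : nd 100912 = n204059 := ndS (p := 64354) (l := 3) rfl N64354 D204059
theorem N100913 : nd 100913 = n204060 := ndS (p := 64355) (l := 2) rfl N64355 D204060
theorem N100914 : nd 100914 = n204061 := ndS (p := 64355) (l := 5) rfl N64355 D204061
theorem N100915 : nd 100915 = n204062 := ndS (p := 64356) (l := 0) rfl N64356 D204062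
theorem N100916 : nd 100916 = n204063 := ndS (p := 64356) (l := 4) rfl N64356 D204063
theorem N100917 : nd 100917 = n204064 := ndS (p := 64356) (l := 6) rfl N64356 D204064
theorem N100918 : nd 100918 = n204066 := ndS (p := 64357) (l := 3) rfl N64357 D204066
theorem N100919 : nd 100919 = n204067 := ndS (p := 64357) (l := 4) rfl N64357 D204067
theorem N100920 : nd 100920 = n204068 := ndS (p := 64357) (l := 5) rfl N64357 D204068
theorem N100921 : nd 100921 = n204070 := ndS (p := 64358) (l := 3) rfl N64358 D204070
theorem N100922 : nd 100922 = n204071 := ndS (p := 64358) (l := 4) rfl N64358 D204071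
theorem N100923 : nd 100923 = n204072 := ndS (p := 64358) (l := 5) rfl N64358 D204072
theorem N100924 : nd 100924 = n204073 := ndS (p := 64358) (l := 6) rfl N64358 D204073
theorem N100925 : nd 100925 = n204074 := ndS (p := 64359) (l := 5) rfl N64359 D204074
theorem N100926 : nd 100926 = n204075 := ndS (p := 64360) (l := 0) rfl N64360 D204075
theorem N100927 : nd 100927 = n204076 := ndS (p := 64360) (l := 1) rfl N64360 D204076
theorem N100928 : nd 100928 = n204077 := ndS (p := 64360) (l := 4) rfl N64360 D204077
theorem N100929 : nd 100929 = n204078 := ndS (p := 64360) (l := 6) rfl N64360 D204078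
theorem N100930 : nd 100930 = n204079 := ndS (p := 64361) (l := 0) rfl N64361 D204079
theorem N100931 : nd 100931 = n204080 := ndS (p := 64361) (l := 7) rfl N64361 D204080
theorem N100932 : nd 100932 = n204081 := ndS (p := 64368) (l := 5) rfl N64368 D204081
theorem N100933 : nd 100933 = n204082 := ndS (p := 64369) (l := 5) rfl N64369 D204082
theorem N100934 : nd 100934 = n204083 := ndS (p := 64370) (l := 5) rfl N64370 D204083
theorem N100935 : nd 100935 = n204084 := ndS (p := 64371) (l := 5) rfl N64371 D204084
theorem N100936 : nd 100936 = n204085 := ndS (p := 64371) (l := 6) rfl N64371 D204085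
theorem N100937 : nd 100937 = n204086 := ndS (p := 64372) (l := 0) rfl N64372 D204086
theorem N100938 : nd 100938 = n204087 := ndS (p := 64372) (l := 1) rfl N64372 D204087
theorem N100939 : nd 100939 = n204088 := ndS (p := 64372) (l := 4) rfl N64372 D204088
theorem N100940 : nd 100940 = n204089 := ndS (p := 64373) (l := 3) rfl N64373 D204089
theorem N100941 : nd 100941 = n204090 := ndS (p := 64375) (l := 6) rfl N64375 D204090
theorem N100942 : nd 100942 = n204091 := ndS (p := 64378) (l := 3) rfl N64378 D204091
theorem N100943 : nd 100943 = n204092 := ndS (p := 64378) (l := 5) rfl N64378 D204092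
theorem N100944 : nd 100944 = n204093 := ndS (p := 64379) (l := 4) rfl N64379 D204093
theorem N100945 : nd 100945 = n204094 := ndS (p := 64382) (l := 6) rfl N64382 D204094
theorem N100946 : nd 100946 = n204095 := ndS (p := 64383) (l := 0) rfl N64383 D204095
theorem N100947 : nd 100947 = n204096 := ndS (p := 64384) (l := 1) rfl N64384 D204096
theorem N100948 : nd 100948 = n204097 := ndS (p := 64384) (l := 3) rfl N64384 D204097
theorem N100949 : nd 100949 = n204098 := ndS (p := 64386) (l := 5) rfl N64386 D204098
theorem N100950 : nd 100950 = n204099 := ndS (p := 64388) (l := 4) rfl N64388 D204099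
theorem N100951 : nd 100951 = n204100 := ndS (p := 64389) (l := 5) rfl N64389 D204100
theorem N100952 : nd 100952 = n204101 := ndS (p := 64389) (l := 6) rfl N64389 D204101
theorem N100953 : nd 100953 = n204102 := ndS (p := 64390) (l := 0) rfl N64390 D204102
theorem N100954 : nd 100954 = n204103 := ndS (p := 64390) (l := 1) rfl N64390 D204103
theorem N100955 : nd 100955 = n204104 := ndS (p := 64390) (l := 4) rfl N64390 D204104
theorem N100956 : nd 100956 = n204105 := ndS (p := 64390) (l := 7) rfl N64390 D204105
theorem N100957 : nd 100957 = n204106 := ndS (p := 64393) (l := 0) rfl N64393 D204106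
theorem N100958 : nd 100958 = n204107 := ndS (p := 64393) (l := 4) rfl N64393 D204107
theorem N100959 : nd 100959 = n204108 := ndS (p := 64394) (l := 5) rfl N64394 D204108
theorem N100960 : nd 100960 = n204109 := ndS (p := 64394) (l := 7) rfl N64394 D204109
theorem N100961 : nd 100961 = n204110 := ndS (p := 64396) (l := 4) rfl N64396 D204110
theorem N100962 : nd 100962 = n204111 := ndS (p := 64396) (l := 6) rfl N64396 D204111
theorem N100963 : nd 100963 = n204112 := ndS (p := 64398) (l := 3) rfl N64398 D204112
theorem N100964 : nd 100964 = n204113 := ndS (p := 64398) (l := 4) rfl N64398 D204113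
theorem N100965 : nd 100965 = n204114 := ndS (p := 64398) (l := 6) rfl N64398 D204114
theorem N100966 : nd 100966 = n204115 := ndS (p := 64399) (l := 4) rfl N64399 D204115
theorem N100967 : nd 100967 = n204116 := ndS (p := 64399) (l := 6) rfl N64399 D204116
theorem N100968 : nd 100968 = n204117 := ndS (p := 64400) (l := 0) rfl N64400 D204117
theorem N100969 : nd 100969 = n204118 := ndS (p := 64400) (l := 1) rfl N64400 D204118
theorem N100970 : nd 100970 = n204119 := ndS (p := 64401) (l := 5) rfl N64401 D204119
theorem N100971 : nd 100971 = n204120 := ndS (p := 64401) (l := 7) rfl N64401 D204120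
theorem N100972 : nd 100972 = n204121 := ndS (p := 64402) (l := 0) rfl N64402 D204121
theorem N100973 : nd 100973 = n204122 := ndS (p := 64402) (l := 1) rfl N64402 D204122
theorem N100974 : nd 100974 = n204123 := ndS (p := 64402) (l := 4) rfl N64402 D204123
theorem N100975 : nd 100975 = n204124 := ndS (p := 64402) (l := 7) rfl N64402 D204124
theorem N100976 : nd 100976 = n204125 := ndS (p := 64404) (l := 7) rfl N64404 D204125
theorem N100977 : nd 100977 = n204126 := ndS (p := 64406) (l := 4) rfl N64406 D204126
theorem N100978 : nd 100978 = n204127 := ndS (p := 64406) (l := 7) rfl N64406 D204127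
theorem N100979 : nd 100979 = n204128 := ndS (p := 64408) (l := 5) rfl N64408 D204128
theorem N100980 : nd 100980 = n204129 := ndS (p := 64409) (l := 0) rfl N64409 D204129
theorem N100981 : nd 100981 = n204130 := ndS (p := 64409) (l := 1) rfl N64409 D204130
theorem N100982 : nd 100982 = n204131 := ndS (p := 64409) (l := 4) rfl N64409 D204131
theorem N100983 : nd 100983 = n204132 := ndS (p := 64410) (l := 5) rfl N64410 D204132
theorem N100984 : nd 100984 = n204133 := ndS (p := 64411) (l := 4) rfl N64411 D204133
theorem N100985 : nd 100985 = n204134 := ndS (p := 64412) (l := 5) rfl N64412 D204134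
theorem N100986 : nd 100986 = n204135 := ndS (p := 64413) (l := 3) rfl N64413 D204135
theorem N100987 : nd 100987 = n204136 := ndS (p := 64413) (l := 4) rfl N64413 D204136
theorem N100988 : nd 100988 = n204137 := ndS (p := 64413) (l := 6) rfl N64413 D204137
theorem N100989 : nd 100989 = n204138 := ndS (p := 64414) (l := 4) rfl N64414 D204138
theorem N100990 : nd 100990 = n204139 := ndS (p := 64415) (l := 0) rfl N64415 D204139
theorem N100991 : nd 100991 = n204140 := ndS (p := 64415) (l := 1) rfl N64415 D204140
theorem N100992 : nd 100992 = n204141 := ndS (p := 64415) (l := 3) rfl N64415 D204141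
theorem N100993 : nd 100993 = n204142 := ndS (p := 64415) (l := 5) rfl N64415 D204142
theorem N100994 : nd 100994 = n204143 := ndS (p := 64415) (l := 7) rfl N64415 D204143
theorem N100995 : nd 100995 = n204144 := ndS (p := 64417) (l := 0) rfl N64417 D204144
theorem N100996 : nd 100996 = n204145 := ndS (p := 64417) (l := 1) rfl N64417 D204145
theorem N100997 : nd 100997 = n204146 := ndS (p := 64417) (l := 2) rfl N64417 D204146
theorem N100998 : nd 100998 = n204147 := ndS (p := 64425) (l := 5) rfl N64425 D204147
theorem N100999 : nd 100999 = n204148 := ndS (p := 64426) (l := 5) rfl N64426 D204148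
theorem N101000 : nd 101000 = n204149 := ndS (p := 64431) (l := 5) rfl N64431 D204149
theorem N101001 : nd 101001 = n204150 := ndS (p := 64433) (l := 5) rfl N64433 D204150
theorem N101002 : nd 101002 = n204151 := ndS (p := 64437) (l := 5) rfl N64437 D204151
theorem N101003 : nd 101003 = n204152 := ndS (p := 64440) (l := 0) rfl N64440 D204152
theorem N101004 : nd 101004 = n204153 := ndS (p := 64440) (l := 1) rfl N64440 D204153
theorem N101005 : nd 101005 = n204154 := ndS (p := 64442) (l := 6) rfl N64442 D204154
theorem N101006 : nd 101006 = n204155 := ndS (p := 64443) (l := 3) rfl N64443 D204155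
theorem N101007 : nd 101007 = n204156 := ndS (p := 64444) (l := 3) rfl N64444 D204156
theorem N101008 : nd 101008 = n204157 := ndS (p := 64446) (l := 2) rfl N64446 D204157
theorem N101009 : nd 101009 = n204158 := ndS (p := 64448) (l := 5) rfl N64448 D204158
theorem N101010 : nd 101010 = n204159 := ndS (p := 64452) (l := 5) rfl N64452 D204159
theorem N101011 : nd 101011 = n204160 := ndS (p := 64453) (l := 6) rfl N64453 D204160
theorem N101012 : nd 101012 = n204161 := ndS (p := 64455) (l := 4) rfl N64455 D204161
theorem N101013 : nd 101013 = n204162 := ndS (p := 64455) (l := 5) rfl N64455 D204162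
theorem N101014 : nd 101014 = n204163 := ndS (p := 64456) (l := 0) rfl N64456 D204163
theorem N101015 : nd 101015 = n204164 := ndS (p := 64456) (l := 1) rfl N64456 D204164
theorem N101016 : nd 101016 = n204165 := ndS (p := 64457) (l := 3) rfl N64457 D204165
theorem N101017 : nd 101017 = n204166 := ndS (p := 64458) (l := 7) rfl N64458 D204166
theorem N101018 : nd 101018 = n204167 := ndS (p := 64459) (l := 5) rfl N64459 D204167
theorem N101019 : nd 101019 = n204168 := ndS (p := 64464) (l := 5) rfl N64464 D204168
theorem N101020 : nd 101020 = n204169 := ndS (p := 64467) (l := 1) rfl N64467 D204169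
theorem N101021 : nd 101021 = n204170 := ndS (p := 64468) (l := 0) rfl N64468 D204170
theorem N101022 : nd 101022 = n204171 := ndS (p := 64468) (l := 1) rfl N64468 D204171
theorem N101023 : nd 101023 = n204172 := ndS (p := 64468) (l := 5) rfl N64468 D204172
theorem N101024 : nd 101024 = n204173 := ndS (p := 64468) (l := 7) rfl N64468 D204173
theorem N101025 : nd 101025 = n204174 := ndS (p := 64471) (l := 4) rfl N64471 D204174
theorem N101026 : nd 101026 = n204175 := ndS (p := 64471) (l := 7) rfl N64471 D204175
theorem N101027 : nd 101027 = n204176 := ndS (p := 64473) (l := 5) rfl N64473 D204176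
theorem N101028 : nd 101028 = n204177 := ndS (p := 64473) (l := 7) rfl N64473 D204177
theorem N101029 : nd 101029 = n204178 := ndS (p := 64476) (l := 4) rfl N64476 D204178
theorem N101030 : nd 101030 = n204179 := ndS (p := 64476) (l := 5) rfl N64476 D204179
theorem N101031 : nd 101031 = n204180 := ndS (p := 64477) (l := 3) rfl N64477 D204180
theorem N101032 : nd 101032 = n204181 := ndS (p := 64477) (l := 5) rfl N64477 D204181
theorem N101033 : nd 101033 = n204182 := ndS (p := 64478) (l := 1) rfl N64478 D204182
theorem N101034 : nd 101034 = n204183 := ndS (p := 64478) (l := 4) rfl N64478 D204183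
theorem N101035 : nd 101035 = n204184 := ndS (p := 64478) (l := 7) rfl N64478 D204184
theorem N101036 : nd 101036 = n204185 := ndS (p := 64480) (l := 5) rfl N64480 D204185
theorem N101037 : nd 101037 = n204186 := ndS (p := 64481) (l := 4) rfl N64481 D204186
theorem N101038 : nd 101038 = n204187 := ndS (p := 64481) (l := 6) rfl N64481 D204187
theorem N101039 : nd 101039 = n204188 := ndS (p := 64483) (l := 5) rfl N64483 D204188
theorem N101040 : nd 101040 = n204189 := ndS (p := 64484) (l := 4) rfl N64484 D204189
theorem N101041 : nd 101041 = n204190 := ndS (p := 64484) (l := 6) rfl N64484 D204190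
theorem N101042 : nd 101042 = n204191 := ndS (p := 64485) (l := 5) rfl N64485 D204191
theorem N101043 : nd 101043 = n204192 := ndS (p := 64486) (l := 3) rfl N64486 D204192
theorem N101044 : nd 101044 = n204193 := ndS (p := 64486) (l := 4) rfl N64486 D204193
theorem N101045 : nd 101045 = n204194 := ndS (p := 64486) (l := 6) rfl N64486 D204194
theorem N101046 : nd 101046 = n204195 := ndS (p := 64487) (l := 4) rfl N64487 D204195
theorem N101047 : nd 101047 = n204196 := ndS (p := 64488) (l := 0) rfl N64488 D204196
theorem N101048 : nd 101048 = n204197 := ndS (p := 64488) (l := 3) rfl N64488 D204197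
theorem N101049 : nd 101049 = n204198 := ndS (p := 64488) (l := 5) rfl N64488 D204198
theorem N101050 : nd 101050 = n204199 := ndS (p := 64490) (l := 5) rfl N64490 D204199
theorem N101051 : nd 101051 = n204200 := ndS (p := 64491) (l := 4) rfl N64491 D204200
theorem N101052 : nd 101052 = n204201 := ndS (p := 64493) (l := 3) rfl N64493 D204201
theorem N101053 : nd 101053 = n204202 := ndS (p := 64493) (l := 4) rfl N64493 D204202
theorem N101054 : nd 101054 = n204203 := ndS (p := 64494) (l := 4) rfl N64494 D204203
theorem N101055 : nd 101055 = n204204 := ndS (p := 64495) (l := 3) rfl N64495 D204204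
theorem N101056 : nd 101056 = n204205 := ndS (p := 64495) (l := 7) rfl N64495 D204205
theorem N101057 : nd 101057 = n204206 := ndS (p := 64497) (l := 5) rfl N64497 D204206
theorem N101058 : nd 101058 = n204207 := ndS (p := 64498) (l := 4) rfl N64498 D204207
theorem N101059 : nd 101059 = n204208 := ndS (p := 64498) (l := 6) rfl N64498 D204208
theorem N101060 : nd 101060 = n204209 := ndS (p := 64499) (l := 3) rfl N64499 D204209
theorem N101061 : nd 101061 = n204210 := ndS (p := 64501) (l := 3) rfl N64501 D204210
theorem N101062 : nd 101062 = n204211 := ndS (p := 64501) (l := 6) rfl N64501 D204211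
theorem N101063 : nd 101063 = n204212 := ndS (p := 64502) (l := 0) rfl N64502 D204212
theorem N101064 : nd 101064 = n204213 := ndS (p := 64502) (l := 1) rfl N64502 D204213
theorem N101065 : nd 101065 = n204214 := ndS (p := 64502) (l := 7) rfl N64502 D204214
theorem N101066 : nd 101066 = n204215 := ndS (p := 64503) (l := 4) rfl N64503 D204215
theorem N101067 : nd 101067 = n204216 := ndS (p := 64503) (l := 6) rfl N64503 D204216
theorem N101068 : nd 101068 = n204217 := ndS (p := 64504) (l := 3) rfl N64504 D204217
theorem N101069 : nd 101069 = n204218 := ndS (p := 64506) (l := 6) rfl N64506 D204218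
theorem N101070 : nd 101070 = n204219 := ndS (p := 64507) (l := 0) rfl N64507 D204219
theorem N101071 : nd 101071 = n204220 := ndS (p := 64507) (l := 7) rfl N64507 D204220
theorem N101072 : nd 101072 = n204221 := ndS (p := 64509) (l := 0) rfl N64509 D204221
theorem N101073 : nd 101073 = n204223 := ndS (p := 64509) (l := 2) rfl N64509 D204223
theorem N101074 : nd 101074 = n204224 := ndS (p := 64511) (l := 3) rfl N64511 D204224
theorem N101075 : nd 101075 = n204225 := ndS (p := 64512) (l := 5) rfl N64512 D204225
theorem N101076 : nd 101076 = n204226 := ndS (p := 64513) (l := 6) rfl N64513 D204226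
theorem N101077 : nd 101077 = n204227 := ndS (p := 64514) (l := 5) rfl N64514 D204227
theorem N101078 : nd 101078 = n204228 := ndS (p := 64515) (l := 0) rfl N64515 D204228
theorem N101079 : nd 101079 = n204229 := ndS (p := 64515) (l := 5) rfl N64515 D204229
theorem N101080 : nd 101080 = n204230 := ndS (p := 64519) (l := 5) rfl N64519 D204230
theorem N101081 : nd 101081 = n204231 := ndS (p := 64520) (l := 3) rfl N64520 D204231
theorem N101082 : nd 101082 = n204232 := ndS (p := 64521) (l := 2) rfl N64521 D204232
theorem N101083 : nd 101083 = n204233 := ndS (p := 64521) (l := 5) rfl N64521 D204233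
theorem N101084 : nd 101084 = n204234 := ndS (p := 64523) (l := 6) rfl N64523 D204234
theorem N101085 : nd 101085 = n204235 := ndS (p := 64525) (l := 4) rfl N64525 D204235
theorem N101086 : nd 101086 = n204236 := ndS (p := 64526) (l := 3) rfl N64526 D204236
theorem N101087 : nd 101087 = n204237 := ndS (p := 64527) (l := 3) rfl N64527 D204237
theorem N101088 : nd 101088 = n204238 := ndS (p := 64527) (l := 5) rfl N64527 D204238
theorem N101089 : nd 101089 = n204239 := ndS (p := 64528) (l := 5) rfl N64528 D204239
theorem N101090 : nd 101090 = n204240 := ndS (p := 64530) (l := 6) rfl N64530 D204240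
theorem N101091 : nd 101091 = n204241 := ndS (p := 64531) (l := 4) rfl N64531 D204241
theorem N101092 : nd 101092 = n204242 := ndS (p := 64532) (l := 3) rfl N64532 D204242
theorem N101093 : nd 101093 = n204243 := ndS (p := 64535) (l := 0) rfl N64535 D204243
theorem N101094 : nd 101094 = n204244 := ndS (p := 64535) (l := 4) rfl N64535 D204244
theorem N101095 : nd 101095 = n204245 := ndS (p := 64535) (l := 7) rfl N64535 D204245
theorem N101096 : nd 101096 = n204246 := ndS (p := 64538) (l := 4) rfl N64538 D204246
theorem N101097 : nd 101097 = n204247 := ndS (p := 64539) (l := 5) rfl N64539 D204247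
theorem N101098 : nd 101098 = n204248 := ndS (p := 64540) (l := 5) rfl N64540 D204248
theorem N101099 : nd 101099 = n204249 := ndS (p := 64543) (l := 6) rfl N64543 D204249
theorem N101100 : nd 101100 = n204250 := ndS (p := 64544) (l := 6) rfl N64544 D204250
theorem N101101 : nd 101101 = n204251 := ndS (p := 64546) (l := 2) rfl N64546 D204251
theorem N101102 : nd 101102 = n204252 := ndS (p := 64546) (l := 5) rfl N64546 D204252
theorem N101103 : nd 101103 = n204253 := ndS (p := 64546) (l := 6) rfl N64546 D204253
theorem N101104 : nd 101104 = n204254 := ndS (p := 64548) (l := 6) rfl N64548 D204254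
theorem N101105 : nd 101105 = n204255 := ndS (p := 64550) (l := 6) rfl N64550 D204255
theorem N101106 : nd 101106 = n204256 := ndS (p := 64553) (l := 3) rfl N64553 D204256
theorem N101107 : nd 101107 = n204257 := ndS (p := 64553) (l := 4) rfl N64553 D204257
theorem N101108 : nd 101108 = n204258 := ndS (p := 64554) (l := 4) rfl N64554 D204258
theorem N101109 : nd 101109 = n204259 := ndS (p := 64555) (l := 0) rfl N64555 D204259
theorem N101110 : nd 101110 = n204260 := ndS (p := 64557) (l := 1) rfl N64557 D204260
theorem N101111 : nd 101111 = n204261 := ndS (p := 64557) (l := 4) rfl N64557 D204261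
theorem N101112 : nd 101112 = n204262 := ndS (p := 64557) (l := 7) rfl N64557 D204262
theorem N101113 : nd 101113 = n204263 := ndS (p := 64559) (l := 5) rfl N64559 D204263
theorem N101114 : nd 101114 = n204264 := ndS (p := 64566) (l := 4) rfl N64566 D204264
theorem N101115 : nd 101115 = n204265 := ndS (p := 64568) (l := 5) rfl N64568 D204265
theorem N101116 : nd 101116 = n204266 := ndS (p := 64570) (l := 4) rfl N64570 D204266
theorem N101117 : nd 101117 = n204267 := ndS (p := 64571) (l := 4) rfl N64571 D204267
theorem N101118 : nd 101118 = n204268 := ndS (p := 64571) (l := 6) rfl N64571 D204268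
theorem N101119 : nd 101119 = n204269 := ndS (p := 64575) (l := 3) rfl N64575 D204269
theorem N101120 : nd 101120 = n204270 := ndS (p := 64576) (l := 3) rfl N64576 D204270
theorem N101121 : nd 101121 = n204271 := ndS (p := 64577) (l := 2) rfl N64577 D204271
theorem N101122 : nd 101122 = n204272 := ndS (p := 64579) (l := 5) rfl N64579 D204272
theorem N101123 : nd 101123 = n204273 := ndS (p := 64580) (l := 0) rfl N64580 D204273
theorem N101124 : nd 101124 = n204274 := ndS (p := 64580) (l := 1) rfl N64580 D204274
theorem N101125 : nd 101125 = n204275 := ndS (p := 64581) (l := 0) rfl N64581 D204275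
theorem N101126 : nd 101126 = n204276 := ndS (p := 64582) (l := 0) rfl N64582 D204276
theorem N101127 : nd 101127 = n204277 := ndS (p := 64582) (l := 3) rfl N64582 D204277
theorem N101128 : nd 101128 = n204278 := ndS (p := 64582) (l := 5) rfl N64582 D204278
theorem N101129 : nd 101129 = n204279 := ndS (p := 64582) (l := 6) rfl N64582 D204279
theorem N101130 : nd 101130 = n204280 := ndS (p := 64584) (l := 5) rfl N64584 D204280
theorem N101131 : nd 101131 = n204281 := ndS (p := 64585) (l := 0) rfl N64585 D204281
theorem N101132 : nd 101132 = n204282 := ndS (p := 64590) (l := 4) rfl N64590 D204282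
theorem N101133 : nd 101133 = n204283 := ndS (p := 64594) (l := 5) rfl N64594 D204283
theorem N101134 : nd 101134 = n204284 := ndS (p := 64596) (l := 3) rfl N64596 D204284
theorem N101135 : nd 101135 = n204285 := ndS (p := 64596) (l := 5) rfl N64596 D204285
theorem N101136 : nd 101136 = n204286 := ndS (p := 64596) (l := 6) rfl N64596 D204286
theorem N101137 : nd 101137 = n204287 := ndS (p := 64600) (l := 5) rfl N64600 D204287
theorem N101138 : nd 101138 = n204288 := ndS (p := 64600) (l := 6) rfl N64600 D204288
theorem N101139 : nd 101139 = n204289 := ndS (p := 64601) (l := 5) rfl N64601 D204289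
theorem N101140 : nd 101140 = n204290 := ndS (p := 64603) (l := 7) rfl N64603 D204290
theorem N101141 : nd 101141 = n204291 := ndS (p := 64604) (l := 6) rfl N64604 D204291
theorem N101142 : nd 101142 = n204292 := ndS (p := 64608) (l := 0) rfl N64608 D204292
theorem N101143 : nd 101143 = n204293 := ndS (p := 64608) (l := 1) rfl N64608 D204293
theorem N101144 : nd 101144 = n204294 := ndS (p := 64608) (l := 2) rfl N64608 D204294
theorem N101145 : nd 101145 = n204295 := ndS (p := 64611) (l := 0) rfl N64611 D204295
theorem N101146 : nd 101146 = n204296 := ndS (p := 64611) (l := 1) rfl N64611 D204296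
theorem N101147 : nd 101147 = n204297 := ndS (p := 64611) (l := 5) rfl N64611 D204297
theorem N101148 : nd 101148 = n204298 := ndS (p := 64611) (l := 6) rfl N64611 D204298
theorem N101149 : nd 101149 = n204299 := ndS (p := 64613) (l := 5) rfl N64613 D204299
theorem N101150 : nd 101150 = n204300 := ndS (p := 64614) (l := 0) rfl N64614 D204300
theorem N101151 : nd 101151 = n204301 := ndS (p := 64614) (l := 1) rfl N64614 D204301
theorem N101152 : nd 101152 = n204302 := ndS (p := 64614) (l := 5) rfl N64614 D204302
theorem N101153 : nd 101153 = n204303 := ndS (p := 64617) (l := 0) rfl N64617 D204303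
theorem N101154 : nd 101154 = n204305 := ndS (p := 64617) (l := 4) rfl N64617 D204305
theorem N101155 : nd 101155 = n204306 := ndS (p := 64617) (l := 6) rfl N64617 D204306
theorem N101156 : nd 101156 = n204307 := ndS (p := 64617) (l := 7) rfl N64617 D204307
theorem N101157 : nd 101157 = n204308 := ndS (p := 64618) (l := 3) rfl N64618 D204308
theorem N101158 : nd 101158 = n204309 := ndS (p := 64618) (l := 6) rfl N64618 D204309
theorem N101159 : nd 101159 = n204310 := ndS (p := 64619) (l := 5) rfl N64619 D204310
theorem N101160 : nd 101160 = n204311 := ndS (p := 64620) (l := 1) rfl N64620 D204311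
theorem N101161 : nd 101161 = n204312 := ndS (p := 64625) (l := 5) rfl N64625 D204312
theorem N101162 : nd 101162 = n204313 := ndS (p := 64626) (l := 5) rfl N64626 D204313
theorem N101163 : nd 101163 = n204314 := ndS (p := 64627) (l := 5) rfl N64627 D204314
theorem N101164 : nd 101164 = n204315 := ndS (p := 64628) (l := 0) rfl N64628 D204315
theorem N101165 : nd 101165 = n204316 := ndS (p := 64628) (l := 4) rfl N64628 D204316
theorem N101166 : nd 101166 = n204317 := ndS (p := 64628) (l := 7) rfl N64628 D204317
theorem N101167 : nd 101167 = n204318 := ndS (p := 64631) (l := 4) rfl N64631 D204318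
theorem N101168 : nd 101168 = n204319 := ndS (p := 64632) (l := 7) rfl N64632 D204319
theorem N101169 : nd 101169 = n204320 := ndS (p := 64633) (l := 5) rfl N64633 D204320
theorem N101170 : nd 101170 = n204321 := ndS (p := 64634) (l := 4) rfl N64634 D204321
theorem N101171 : nd 101171 = n204322 := ndS (p := 64634) (l := 5) rfl N64634 D204322
theorem N101172 : nd 101172 = n204323 := ndS (p := 64635) (l := 4) rfl N64635 D204323
theorem N101173 : nd 101173 = n204324 := ndS (p := 64640) (l := 5) rfl N64640 D204324
theorem N101174 : nd 101174 = n204325 := ndS (p := 64641) (l := 0) rfl N64641 D204325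
theorem N101175 : nd 101175 = n204326 := ndS (p := 64641) (l := 1) rfl N64641 D204326
theorem N101176 : nd 101176 = n204327 := ndS (p := 64641) (l := 5) rfl N64641 D204327
theorem N101177 : nd 101177 = n204328 := ndS (p := 64641) (l := 7) rfl N64641 D204328
theorem N101178 : nd 101178 = n204329 := ndS (p := 64643) (l := 6) rfl N64643 D204329
theorem N101179 : nd 101179 = n204330 := ndS (p := 64645) (l := 5) rfl N64645 D204330
theorem N101180 : nd 101180 = n204331 := ndS (p := 64646) (l := 0) rfl N64646 D204331
theorem N101181 : nd 101181 = n204332 := ndS (p := 64646) (l := 6) rfl N64646 D204332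
theorem N101182 : nd 101182 = n204333 := ndS (p := 64647) (l := 0) rfl N64647 D204333
theorem N101183 : nd 101183 = n204334 := ndS (p := 64647) (l := 4) rfl N64647 D204334
theorem N101184 : nd 101184 = n204335 := ndS (p := 64647) (l := 6) rfl N64647 D204335
theorem N101185 : nd 101185 = n204336 := ndS (p := 64648) (l := 5) rfl N64648 D204336
theorem N101186 : nd 101186 = n204337 := ndS (p := 64649) (l := 5) rfl N64649 D204337
theorem N101187 : nd 101187 = n204338 := ndS (p := 64651) (l := 4) rfl N64651 D204338
theorem N101188 : nd 101188 = n204339 := ndS (p := 64652) (l := 5) rfl N64652 D204339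
theorem N101189 : nd 101189 = n204340 := ndS (p := 64653) (l := 4) rfl N64653 D204340
theorem N101190 : nd 101190 = n204341 := ndS (p := 64655) (l := 0) rfl N64655 D204341
theorem N101191 : nd 101191 = n204342 := ndS (p := 64655) (l := 1) rfl N64655 D204342
theorem N101192 : nd 101192 = n204343 := ndS (p := 64655) (l := 5) rfl N64655 D204343
theorem N101193 : nd 101193 = n204344 := ndS (p := 64655) (l := 7) rfl N64655 D204344
theorem N101194 : nd 101194 = n204345 := ndS (p := 64656) (l := 6) rfl N64656 D204345
theorem N101195 : nd 101195 = n204346 := ndS (p := 64660) (l := 5) rfl N64660 D204346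
theorem N101196 : nd 101196 = n204347 := ndS (p := 64662) (l := 6) rfl N64662 D204347
theorem N101197 : nd 101197 = n204348 := ndS (p := 64664) (l := 5) rfl N64664 D204348
theorem N101198 : nd 101198 = n204349 := ndS (p := 64665) (l := 0) rfl N64665 D204349
theorem N101199 : nd 101199 = n204350 := ndS (p := 64665) (l := 4) rfl N64665 D204350
theorem N101200 : nd 101200 = n204351 := ndS (p := 64666) (l := 5) rfl N64666 D204351
theorem N101201 : nd 101201 = n204352 := ndS (p := 64669) (l := 3) rfl N64669 D204352
theorem N101202 : nd 101202 = n204353 := ndS (p := 64669) (l := 6) rfl N64669 D204353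
theorem N101203 : nd 101203 = n204354 := ndS (p := 64672) (l := 5) rfl N64672 D204354
theorem N101204 : nd 101204 = n204355 := ndS (p := 64674) (l := 5) rfl N64674 D204355
theorem N101205 : nd 101205 = n204356 := ndS (p := 64675) (l := 4) rfl N64675 D204356
theorem N101206 : nd 101206 = n204357 := ndS (p := 64676) (l := 5) rfl N64676 D204357
theorem N101207 : nd 101207 = n204358 := ndS (p := 64677) (l := 4) rfl N64677 D204358
theorem N101208 : nd 101208 = n204359 := ndS (p := 64677) (l := 6) rfl N64677 D204359
theorem N101209 : nd 101209 = n204360 := ndS (p := 64681) (l := 0) rfl N64681 D204360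
theorem N101210 : nd 101210 = n204361 := ndS (p := 64686) (l := 4) rfl N64686 D204361
theorem N101211 : nd 101211 = n204362 := ndS (p := 64688) (l := 4) rfl N64688 D204362
theorem N101212 : nd 101212 = n204363 := ndS (p := 64691) (l := 4) rfl N64691 D204363
theorem N101213 : nd 101213 = n204364 := ndS (p := 64693) (l := 6) rfl N64693 D204364
theorem N101214 : nd 101214 = n204365 := ndS (p := 64696) (l := 4) rfl N64696 D204365
theorem N101215 : nd 101215 = n204366 := ndS (p := 64696) (l := 6) rfl N64696 D204366
theorem N101216 : nd 101216 = n204367 := ndS (p := 64698) (l := 4) rfl N64698 D204367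
theorem N101217 : nd 101217 = n204368 := ndS (p := 64698) (l := 5) rfl N64698 D204368
theorem N101218 : nd 101218 = n204369 := ndS (p := 64699) (l := 5) rfl N64699 D204369
theorem N101219 : nd 101219 = n204370 := ndS (p := 64700) (l := 4) rfl N64700 D204370
theorem N101220 : nd 101220 = n204371 := ndS (p := 64702) (l := 3) rfl N64702 D204371
theorem N101221 : nd 101221 = n204372 := ndS (p := 64702) (l := 5) rfl N64702 D204372
theorem N101222 : nd 101222 = n204373 := ndS (p := 64702) (l := 7) rfl N64702 D204373
theorem N101223 : nd 101223 = n204374 := ndS (p := 64703) (l := 6) rfl N64703 D204374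
theorem N101224 : nd 101224 = n204375 := ndS (p := 64705) (l := 5) rfl N64705 D204375
theorem N101225 : nd 101225 = n204376 := ndS (p := 64706) (l := 5) rfl N64706 D204376
theorem N101226 : nd 101226 = n204377 := ndS (p := 64706) (l := 6) rfl N64706 D204377
theorem N101227 : nd 101227 = n204378 := ndS (p := 64707) (l := 0) rfl N64707 D204378
theorem N101228 : nd 101228 = n204379 := ndS (p := 64707) (l := 1) rfl N64707 D204379
theorem N101229 : nd 101229 = n204380 := ndS (p := 64707) (l := 4) rfl N64707 D204380
theorem N101230 : nd 101230 = n204381 := ndS (p := 64710) (l := 1) rfl N64710 D204381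
theorem N101231 : nd 101231 = n204382 := ndS (p := 64710) (l := 7) rfl N64710 D204382
theorem N101232 : nd 101232 = n204383 := ndS (p := 64712) (l := 4) rfl N64712 D204383
theorem N101233 : nd 101233 = n204384 := ndS (p := 64712) (l := 6) rfl N64712 D204384
theorem N101234 : nd 101234 = n204385 := ndS (p := 64713) (l := 4) rfl N64713 D204385
theorem N101235 : nd 101235 = n204386 := ndS (p := 64715) (l := 4) rfl N64715 D204386
theorem N101236 : nd 101236 = n204387 := ndS (p := 64715) (l := 5) rfl N64715 D204387
theorem N101237 : nd 101237 = n204388 := ndS (p := 64716) (l := 0) rfl N64716 D204388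
theorem N101238 : nd 101238 = n204389 := ndS (p := 64716) (l := 3) rfl N64716 D204389
theorem N101239 : nd 101239 = n204390 := ndS (p := 64717) (l := 1) rfl N64717 D204390
theorem N101240 : nd 101240 = n204391 := ndS (p := 64717) (l := 4) rfl N64717 D204391
theorem N101241 : nd 101241 = n204392 := ndS (p := 64717) (l := 6) rfl N64717 D204392
theorem N101242 : nd 101242 = n204393 := ndS (p := 64718) (l := 5) rfl N64718 D204393
theorem N101243 : nd 101243 = n204394 := ndS (p := 64719) (l := 5) rfl N64719 D204394
theorem N101244 : nd 101244 = n204395 := ndS (p := 64721) (l := 4) rfl N64721 D204395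
theorem N101245 : nd 101245 = n204396 := ndS (p := 64723) (l := 3) rfl N64723 D204396
theorem N101246 : nd 101246 = n204397 := ndS (p := 64723) (l := 5) rfl N64723 D204397
theorem N101247 : nd 101247 = n204398 := ndS (p := 64724) (l := 3) rfl N64724 D204398
theorem N101248 : nd 101248 = n204399 := ndS (p := 64724) (l := 5) rfl N64724 D204399
theorem N101249 : nd 101249 = n204400 := ndS (p := 64724) (l := 7) rfl N64724 D204400
theorem N101250 : nd 101250 = n204401 := ndS (p := 64725) (l := 6) rfl N64725 D204401
theorem N101251 : nd 101251 = n204402 := ndS (p := 64729) (l := 6) rfl N64729 D204402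
theorem N101252 : nd 101252 = n204403 := ndS (p := 64730) (l := 5) rfl N64730 D204403
theorem N101253 : nd 101253 = n204404 := ndS (p := 64732) (l := 5) rfl N64732 D204404
theorem N101254 : nd 101254 = n204405 := ndS (p := 64732) (l := 6) rfl N64732 D204405
theorem N101255 : nd 101255 = n204406 := ndS (p := 64733) (l := 1) rfl N64733 D204406
theorem N101256 : nd 101256 = n204407 := ndS (p := 64733) (l := 7) rfl N64733 D204407
theorem N101257 : nd 101257 = n204408 := ndS (p := 64734) (l := 4) rfl N64734 D204408
theorem N101258 : nd 101258 = n204409 := ndS (p := 64735) (l := 0) rfl N64735 D204409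
theorem N101259 : nd 101259 = n204410 := ndS (p := 64736) (l := 7) rfl N64736 D204410
theorem N101260 : nd 101260 = n204411 := ndS (p := 64742) (l := 0) rfl N64742 D204411
theorem N101261 : nd 101261 = n204412 := ndS (p := 64742) (l := 1) rfl N64742 D204412
theorem N101262 : nd 101262 = n204413 := ndS (p := 64742) (l := 2) rfl N64742 D204413
theorem N101263 : nd 101263 = n204414 := ndS (p := 64742) (l := 5) rfl N64742 D204414
theorem N101264 : nd 101264 = n204415 := ndS (p := 64742) (l := 7) rfl N64742 D204415
theorem N101265 : nd 101265 = n204416 := ndS (p := 64743) (l := 0) rfl N64743 D204416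
theorem N101266 : nd 101266 = n204417 := ndS (p := 64743) (l := 1) rfl N64743 D204417
theorem N101267 : nd 101267 = n204418 := ndS (p := 64743) (l := 4) rfl N64743 D204418
theorem N101268 : nd 101268 = n204419 := ndS (p := 64743) (l := 6) rfl N64743 D204419
theorem N101269 : nd 101269 = n204420 := ndS (p := 64743) (l := 7) rfl N64743 D204420
theorem N101270 : nd 101270 = n204421 := ndS (p := 64744) (l := 6) rfl N64744 D204421
theorem N101271 : nd 101271 = n204422 := ndS (p := 64746) (l := 5) rfl N64746 D204422
theorem N101272 : nd 101272 = n204423 := ndS (p := 64748) (l := 0) rfl N64748 D204423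
theorem N101273 : nd 101273 = n204424 := ndS (p := 64748) (l := 7) rfl N64748 D204424
theorem N101274 : nd 101274 = n204425 := ndS (p := 64750) (l := 0) rfl N64750 D204425
theorem N101275 : nd 101275 = n204426 := ndS (p := 64750) (l := 1) rfl N64750 D204426
theorem N101276 : nd 101276 = n204427 := ndS (p := 64750) (l := 7) rfl N64750 D204427
theorem N101277 : nd 101277 = n204428 := ndS (p := 64753) (l := 0) rfl N64753 D204428
theorem N101278 : nd 101278 = n204429 := ndS (p := 64753) (l := 1) rfl N64753 D204429
theorem N101279 : nd 101279 = n204430 := ndS (p := 64753) (l := 4) rfl N64753 D204430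
theorem N101280 : nd 101280 = n204431 := ndS (p := 64754) (l := 4) rfl N64754 D204431
theorem N101281 : nd 101281 = n204432 := ndS (p := 64754) (l := 6) rfl N64754 D204432
theorem N101282 : nd 101282 = n204433 := ndS (p := 64755) (l := 5) rfl N64755 D204433
theorem N101283 : nd 101283 = n204434 := ndS (p := 64756) (l := 3) rfl N64756 D204434
theorem N101284 : nd 101284 = n204435 := ndS (p := 64756) (l := 5) rfl N64756 D204435
theorem N101285 : nd 101285 = n204436 := ndS (p := 64756) (l := 6) rfl N64756 D204436
theorem N101286 : nd 101286 = n204437 := ndS (p := 64758) (l := 0) rfl N64758 D204437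
theorem N101287 : nd 101287 = n204438 := ndS (p := 64758) (l := 1) rfl N64758 D204438
theorem N101288 : nd 101288 = n204439 := ndS (p := 64758) (l := 3) rfl N64758 D204439
theorem N101289 : nd 101289 = n204440 := ndS (p := 64760) (l := 6) rfl N64760 D204440
theorem N101290 : nd 101290 = n204441 := ndS (p := 64762) (l := 5) rfl N64762 D204441
theorem N101291 : nd 101291 = n204442 := ndS (p := 64764) (l := 6) rfl N64764 D204442
theorem N101292 : nd 101292 = n204443 := ndS (p := 64766) (l := 5) rfl N64766 D204443
theorem N101293 : nd 101293 = n204444 := ndS (p := 64766) (l := 7) rfl N64766 D204444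
theorem N101294 : nd 101294 = n204445 := ndS (p := 64767) (l := 5) rfl N64767 D204445
theorem N101295 : nd 101295 = n204446 := ndS (p := 64768) (l := 4) rfl N64768 D204446
theorem N101296 : nd 101296 = n204447 := ndS (p := 64768) (l := 5) rfl N64768 D204447
theorem N101297 : nd 101297 = n204448 := ndS (p := 64769) (l := 0) rfl N64769 D204448
theorem N101298 : nd 101298 = n204449 := ndS (p := 64769) (l := 4) rfl N64769 D204449
theorem N101299 : nd 101299 = n204450 := ndS (p := 64769) (l := 7) rfl N64769 D204450
theorem N101300 : nd 101300 = n204451 := ndS (p := 64771) (l := 4) rfl N64771 D204451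
theorem N101301 : nd 101301 = n204452 := ndS (p := 64771) (l := 6) rfl N64771 D204452
theorem N101302 : nd 101302 = n204453 := ndS (p := 64773) (l := 4) rfl N64773 D204453
theorem N101303 : nd 101303 = n204454 := ndS (p := 64774) (l := 4) rfl N64774 D204454
theorem N101304 : nd 101304 = n204455 := ndS (p := 64775) (l := 4) rfl N64775 D204455
theorem N101305 : nd 101305 = n204456 := ndS (p := 64775) (l := 6) rfl N64775 D204456
theorem N101306 : nd 101306 = n204457 := ndS (p := 64776) (l := 3) rfl N64776 D204457
theorem N101307 : nd 101307 = n204458 := ndS (p := 64776) (l := 4) rfl N64776 D204458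
theorem N101308 : nd 101308 = n204459 := ndS (p := 64776) (l := 6) rfl N64776 D204459
theorem N101309 : nd 101309 = n204460 := ndS (p := 64777) (l := 0) rfl N64777 D204460
theorem N101310 : nd 101310 = n204461 := ndS (p := 64777) (l := 1) rfl N64777 D204461
theorem N101311 : nd 101311 = n204463 := ndS (p := 64777) (l := 5) rfl N64777 D204463
theorem N101312 : nd 101312 = n204464 := ndS (p := 64777) (l := 7) rfl N64777 D204464
theorem N101313 : nd 101313 = n204465 := ndS (p := 64779) (l := 5) rfl N64779 D204465
theorem N101314 : nd 101314 = n204466 := ndS (p := 64779) (l := 6) rfl N64779 D204466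
theorem N101315 : nd 101315 = n204467 := ndS (p := 64780) (l := 4) rfl N64780 D204467
theorem N101316 : nd 101316 = n204468 := ndS (p := 64780) (l := 6) rfl N64780 D204468
theorem N101317 : nd 101317 = n204469 := ndS (p := 64781) (l := 0) rfl N64781 D204469
theorem N101318 : nd 101318 = n204470 := ndS (p := 64784) (l := 4) rfl N64784 D204470
theorem N101319 : nd 101319 = n204471 := ndS (p := 64784) (l := 6) rfl N64784 D204471
theorem N101320 : nd 101320 = n204472 := ndS (p := 64785) (l := 3) rfl N64785 D204472
theorem N101321 : nd 101321 = n204474 := ndS (p := 64787) (l := 0) rfl N64787 D204474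
theorem N101322 : nd 101322 = n204475 := ndS (p := 64787) (l := 1) rfl N64787 D204475
theorem N101323 : nd 101323 = n204476 := ndS (p := 64787) (l := 3) rfl N64787 D204476
theorem N101324 : nd 101324 = n204477 := ndS (p := 64787) (l := 5) rfl N64787 D204477
theorem N101325 : nd 101325 = n204478 := ndS (p := 64787) (l := 6) rfl N64787 D204478
theorem N101326 : nd 101326 = n204479 := ndS (p := 64788) (l := 5) rfl N64788 D204479
theorem N101327 : nd 101327 = n204480 := ndS (p := 64790) (l := 4) rfl N64790 D204480
theorem N101328 : nd 101328 = n204481 := ndS (p := 64792) (l := 0) rfl N64792 D204481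
theorem N101329 : nd 101329 = n204482 := ndS (p := 64792) (l := 1) rfl N64792 D204482
theorem N101330 : nd 101330 = n204483 := ndS (p := 64792) (l := 4) rfl N64792 D204483
theorem N101331 : nd 101331 = n204484 := ndS (p := 64794) (l := 3) rfl N64794 D204484
theorem N101332 : nd 101332 = n204485 := ndS (p := 64794) (l := 5) rfl N64794 D204485
theorem N101333 : nd 101333 = n204486 := ndS (p := 64796) (l := 0) rfl N64796 D204486
theorem N101334 : nd 101334 = n204487 := ndS (p := 64796) (l := 1) rfl N64796 D204487
theorem N101335 : nd 101335 = n204488 := ndS (p := 64799) (l := 2) rfl N64799 D204488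
theorem N101336 : nd 101336 = n204489 := ndS (p := 64799) (l := 4) rfl N64799 D204489
theorem N101337 : nd 101337 = n204490 := ndS (p := 64799) (l := 5) rfl N64799 D204490
theorem N101338 : nd 101338 = n204491 := ndS (p := 64799) (l := 6) rfl N64799 D204491
theorem N101339 : nd 101339 = n204492 := ndS (p := 64800) (l := 5) rfl N64800 D204492
theorem N101340 : nd 101340 = n204494 := ndS (p := 64805) (l := 1) rfl N64805 D204494
theorem N101341 : nd 101341 = n204495 := ndS (p := 64805) (l := 2) rfl N64805 D204495
theorem N101342 : nd 101342 = n204496 := ndS (p := 64805) (l := 7) rfl N64805 D204496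
theorem N101343 : nd 101343 = n204497 := ndS (p := 64806) (l := 4) rfl N64806 D204497
theorem N101344 : nd 101344 = n204498 := ndS (p := 64806) (l := 6) rfl N64806 D204498
theorem N101345 : nd 101345 = n204499 := ndS (p := 64808) (l := 5) rfl N64808 D204499
theorem N101346 : nd 101346 = n204500 := ndS (p := 64809) (l := 4) rfl N64809 D204500
theorem N101347 : nd 101347 = n204501 := ndS (p := 64811) (l := 4) rfl N64811 D204501
theorem N101348 : nd 101348 = n204502 := ndS (p := 64811) (l := 6) rfl N64811 D204502
theorem N101349 : nd 101349 = n204503 := ndS (p := 64813) (l := 4) rfl N64813 D204503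
theorem N101350 : nd 101350 = n204504 := ndS (p := 64814) (l := 3) rfl N64814 D204504
theorem N101351 : nd 101351 = n204505 := ndS (p := 64814) (l := 4) rfl N64814 D204505
theorem N101352 : nd 101352 = n204506 := ndS (p := 64815) (l := 4) rfl N64815 D204506
theorem N101353 : nd 101353 = n204507 := ndS (p := 64815) (l := 6) rfl N64815 D204507
theorem N101354 : nd 101354 = n204508 := ndS (p := 64816) (l := 0) rfl N64816 D204508
theorem N101355 : nd 101355 = n204509 := ndS (p := 64816) (l := 1) rfl N64816 D204509
theorem N101356 : nd 101356 = n204510 := ndS (p := 64816) (l := 3) rfl N64816 D204510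
theorem N101357 : nd 101357 = n204511 := ndS (p := 64816) (l := 5) rfl N64816 D204511
theorem N101358 : nd 101358 = n204512 := ndS (p := 64817) (l := 4) rfl N64817 D204512
theorem N101359 : nd 101359 = n204513 := ndS (p := 64817) (l := 6) rfl N64817 D204513
theorem N101360 : nd 101360 = n204514 := ndS (p := 64819) (l := 3) rfl N64819 D204514
theorem N101361 : nd 101361 = n204515 := ndS (p := 64820) (l := 6) rfl N64820 D204515
theorem N101362 : nd 101362 = n204516 := ndS (p := 64821) (l := 0) rfl N64821 D204516
theorem N101363 : nd 101363 = n204517 := ndS (p := 64821) (l := 1) rfl N64821 D204517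
theorem N101364 : nd 101364 = n204518 := ndS (p := 64821) (l := 5) rfl N64821 D204518
theorem N101365 : nd 101365 = n204519 := ndS (p := 64821) (l := 7) rfl N64821 D204519
theorem N101366 : nd 101366 = n204520 := ndS (p := 64825) (l := 1) rfl N64825 D204520
theorem N101367 : nd 101367 = n204521 := ndS (p := 64825) (l := 2) rfl N64825 D204521
theorem N101368 : nd 101368 = n204522 := ndS (p := 64829) (l := 3) rfl N64829 D204522
theorem N101369 : nd 101369 = n204523 := ndS (p := 64831) (l := 6) rfl N64831 D204523
theorem N101370 : nd 101370 = n204524 := ndS (p := 64832) (l := 4) rfl N64832 D204524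
theorem N101371 : nd 101371 = n204525 := ndS (p := 64832) (l := 6) rfl N64832 D204525
theorem N101372 : nd 101372 = n204526 := ndS (p := 64835) (l := 0) rfl N64835 D204526
theorem N101373 : nd 101373 = n204527 := ndS (p := 64835) (l := 1) rfl N64835 D204527
theorem N101374 : nd 101374 = n204528 := ndS (p := 64835) (l := 3) rfl N64835 D204528
theorem N101375 : nd 101375 = n204529 := ndS (p := 64835) (l := 6) rfl N64835 D204529
theorem N101376 : nd 101376 = n204530 := ndS (p := 64836) (l := 0) rfl N64836 D204530
theorem N101377 : nd 101377 = n204531 := ndS (p := 64836) (l := 1) rfl N64836 D204531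
theorem N101378 : nd 101378 = n204532 := ndS (p := 64836) (l := 5) rfl N64836 D204532
theorem N101379 : nd 101379 = n204533 := ndS (p := 64836) (l := 7) rfl N64836 D204533
theorem N101380 : nd 101380 = n204534 := ndS (p := 64838) (l := 0) rfl N64838 D204534
theorem N101381 : nd 101381 = n204536 := ndS (p := 64838) (l := 2) rfl N64838 D204536
theorem N101382 : nd 101382 = n204537 := ndS (p := 64838) (l := 6) rfl N64838 D204537
theorem N101383 : nd 101383 = n204538 := ndS (p := 64839) (l := 0) rfl N64839 D204538
theorem N101384 : nd 101384 = n204539 := ndS (p := 64839) (l := 1) rfl N64839 D204539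
theorem N101385 : nd 101385 = n204540 := ndS (p := 64839) (l := 5) rfl N64839 D204540
theorem N101386 : nd 101386 = n204541 := ndS (p := 64839) (l := 7) rfl N64839 D204541
theorem N101387 : nd 101387 = n204543 := ndS (p := 64840) (l := 5) rfl N64840 D204543
theorem N101388 : nd 101388 = n204544 := ndS (p := 64841) (l := 3) rfl N64841 D204544
theorem N101389 : nd 101389 = n204545 := ndS (p := 64842) (l := 1) rfl N64842 D204545
theorem N101390 : nd 101390 = n204546 := ndS (p := 64842) (l := 4) rfl N64842 D204546
theorem N101391 : nd 101391 = n204547 := ndS (p := 64842) (l := 7) rfl N64842 D204547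
theorem N101392 : nd 101392 = n204548 := ndS (p := 64845) (l := 6) rfl N64845 D204548
theorem N101393 : nd 101393 = n204549 := ndS (p := 64846) (l := 0) rfl N64846 D204549
theorem N101394 : nd 101394 = n204550 := ndS (p := 64846) (l := 7) rfl N64846 D204550
theorem N101395 : nd 101395 = n204551 := ndS (p := 64847) (l := 3) rfl N64847 D204551
theorem N101396 : nd 101396 = n204552 := ndS (p := 64849) (l := 6) rfl N64849 D204552
theorem N101397 : nd 101397 = n204553 := ndS (p := 64852) (l := 4) rfl N64852 D204553
theorem N101398 : nd 101398 = n204554 := ndS (p := 64853) (l := 0) rfl N64853 D204554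
theorem N101399 : nd 101399 = n204555 := ndS (p := 64853) (l := 1) rfl N64853 D204555
theorem N101400 : nd 101400 = n204556 := ndS (p := 64853) (l := 3) rfl N64853 D204556
theorem N101401 : nd 101401 = n204557 := ndS (p := 64855) (l := 0) rfl N64855 D204557
theorem N101402 : nd 101402 = n204558 := ndS (p := 64855) (l := 1) rfl N64855 D204558
theorem N101403 : nd 101403 = n204559 := ndS (p := 64855) (l := 2) rfl N64855 D204559
theorem N101404 : nd 101404 = n204560 := ndS (p := 64855) (l := 6) rfl N64855 D204560
theorem N101405 : nd 101405 = n204561 := ndS (p := 64856) (l := 0) rfl N64856 D204561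
theorem N101406 : nd 101406 = n204562 := ndS (p := 64856) (l := 5) rfl N64856 D204562
theorem N101407 : nd 101407 = n204563 := ndS (p := 64856) (l := 7) rfl N64856 D204563
theorem N101408 : nd 101408 = n204564 := ndS (p := 64857) (l := 5) rfl N64857 D204564
theorem N101409 : nd 101409 = n204565 := ndS (p := 64858) (l := 3) rfl N64858 D204565
theorem N101410 : nd 101410 = n204566 := ndS (p := 64858) (l := 5) rfl N64858 D204566
theorem N101411 : nd 101411 = n204567 := ndS (p := 64859) (l := 0) rfl N64859 D204567
theorem N101412 : nd 101412 = n204568 := ndS (p := 64859) (l := 1) rfl N64859 D204568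
theorem N101413 : nd 101413 = n204569 := ndS (p := 64862) (l := 0) rfl N64862 D204569
theorem N101414 : nd 101414 = n204570 := ndS (p := 64862) (l := 1) rfl N64862 D204570
theorem N101415 : nd 101415 = n204571 := ndS (p := 64864) (l := 0) rfl N64864 D204571
theorem N101416 : nd 101416 = n204572 := ndS (p := 64864) (l := 2) rfl N64864 D204572
theorem N101417 : nd 101417 = n204573 := ndS (p := 64864) (l := 5) rfl N64864 D204573
theorem N101418 : nd 101418 = n204574 := ndS (p := 64864) (l := 7) rfl N64864 D204574
theorem N101419 : nd 101419 = n204575 := ndS (p := 64865) (l := 3) rfl N64865 D204575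
theorem N101420 : nd 101420 = n204576 := ndS (p := 64865) (l := 4) rfl N64865 D204576
theorem N101421 : nd 101421 = n204577 := ndS (p := 64865) (l := 5) rfl N64865 D204577
theorem N101422 : nd 101422 = n204578 := ndS (p := 64865) (l := 6) rfl N64865 D204578
theorem N101423 : nd 101423 = n204579 := ndS (p := 64866) (l := 5) rfl N64866 D204579
theorem N101424 : nd 101424 = n204580 := ndS (p := 64867) (l := 0) rfl N64867 D204580
theorem N101425 : nd 101425 = n204582 := ndS (p := 64867) (l := 4) rfl N64867 D204582
theorem N101426 : nd 101426 = n204583 := ndS (p := 64867) (l := 6) rfl N64867 D204583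
theorem N101427 : nd 101427 = n204584 := ndS (p := 64868) (l := 6) rfl N64868 D204584
theorem N101428 : nd 101428 = n204585 := ndS (p := 64869) (l := 1) rfl N64869 D204585
theorem N101429 : nd 101429 = n204586 := ndS (p := 64869) (l := 7) rfl N64869 D204586
theorem N101430 : nd 101430 = n204587 := ndS (p := 64871) (l := 3) rfl N64871 D204587
theorem N101431 : nd 101431 = n204588 := ndS (p := 64871) (l := 5) rfl N64871 D204588
theorem N101432 : nd 101432 = n204589 := ndS (p := 64872) (l := 0) rfl N64872 D204589
theorem N101433 : nd 101433 = n204590 := ndS (p := 64872) (l := 4) rfl N64872 D204590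
theorem N101434 : nd 101434 = n204591 := ndS (p := 64873) (l := 3) rfl N64873 D204591
theorem N101435 : nd 101435 = n204592 := ndS (p := 64874) (l := 0) rfl N64874 D204592
theorem N101436 : nd 101436 = n204593 := ndS (p := 64874) (l := 1) rfl N64874 D204593
theorem N101437 : nd 101437 = n204594 := ndS (p := 64874) (l := 4) rfl N64874 D204594
theorem N101438 : nd 101438 = n204595 := ndS (p := 64874) (l := 6) rfl N64874 D204595
theorem N101439 : nd 101439 = n204596 := ndS (p := 64875) (l := 5) rfl N64875 D204596
theorem N101440 : nd 101440 = n204597 := ndS (p := 64876) (l := 3) rfl N64876 D204597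
theorem N101441 : nd 101441 = n204598 := ndS (p := 64878) (l := 3) rfl N64878 D204598
theorem N101442 : nd 101442 = n204599 := ndS (p := 64878) (l := 5) rfl N64878 D204599
theorem N101443 : nd 101443 = n204600 := ndS (p := 64878) (l := 6) rfl N64878 D204600
theorem N101444 : nd 101444 = n204601 := ndS (p := 64879) (l := 0) rfl N64879 D204601
theorem N101445 : nd 101445 = n204602 := ndS (p := 64879) (l := 1) rfl N64879 D204602
theorem N101446 : nd 101446 = n204603 := ndS (p := 64879) (l := 5) rfl N64879 D204603
theorem N101447 : nd 101447 = n204604 := ndS (p := 64882) (l := 4) rfl N64882 D204604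
theorem N101448 : nd 101448 = n204605 := ndS (p := 64882) (l := 6) rfl N64882 D204605
theorem N101449 : nd 101449 = n204606 := ndS (p := 64883) (l := 3) rfl N64883 D204606
theorem N101450 : nd 101450 = n204607 := ndS (p := 64883) (l := 5) rfl N64883 D204607
theorem N101451 : nd 101451 = n204608 := ndS (p := 64883) (l := 6) rfl N64883 D204608
theorem N101452 : nd 101452 = n204609 := ndS (p := 64885) (l := 6) rfl N64885 D204609
theorem N101453 : nd 101453 = n204610 := ndS (p := 64886) (l := 3) rfl N64886 D204610
theorem N101454 : nd 101454 = n204611 := ndS (p := 64886) (l := 5) rfl N64886 D204611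
theorem N101455 : nd 101455 = n204612 := ndS (p := 64886) (l := 6) rfl N64886 D204612
theorem N101456 : nd 101456 = n204613 := ndS (p := 64887) (l := 1) rfl N64887 D204613
theorem N101457 : nd 101457 = n204614 := ndS (p := 64887) (l := 7) rfl N64887 D204614
theorem N101458 : nd 101458 = n204615 := ndS (p := 64888) (l := 5) rfl N64888 D204615
theorem N101459 : nd 101459 = n204616 := ndS (p := 64888) (l := 6) rfl N64888 D204616
theorem N101460 : nd 101460 = n204617 := ndS (p := 64889) (l := 3) rfl N64889 D204617
theorem N101461 : nd 101461 = n204618 := ndS (p := 64889) (l := 5) rfl N64889 D204618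
theorem N101462 : nd 101462 = n204619 := ndS (p := 64889) (l := 6) rfl N64889 D204619
theorem N101463 : nd 101463 = n204620 := ndS (p := 64890) (l := 0) rfl N64890 D204620
theorem N101464 : nd 101464 = n204621 := ndS (p := 64890) (l := 1) rfl N64890 D204621
theorem N101465 : nd 101465 = n204622 := ndS (p := 64890) (l := 2) rfl N64890 D204622
theorem N101466 : nd 101466 = n204624 := ndS (p := 64891) (l := 6) rfl N64891 D204624
theorem N101467 : nd 101467 = n204625 := ndS (p := 64895) (l := 3) rfl N64895 D204625
theorem N101468 : nd 101468 = n204626 := ndS (p := 64897) (l := 5) rfl N64897 D204626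
theorem N101469 : nd 101469 = n204627 := ndS (p := 64899) (l := 4) rfl N64899 D204627
theorem N101470 : nd 101470 = n204628 := ndS (p := 64899) (l := 6) rfl N64899 D204628
theorem N101471 : nd 101471 = n204629 := ndS (p := 64901) (l := 3) rfl N64901 D204629
theorem N101472 : nd 101472 = n204630 := ndS (p := 64902) (l := 3) rfl N64902 D204630
theorem N101473 : nd 101473 = n204631 := ndS (p := 64904) (l := 4) rfl N64904 D204631
theorem N101474 : nd 101474 = n204632 := ndS (p := 64908) (l := 6) rfl N64908 D204632
theorem N101475 : nd 101475 = n204633 := ndS (p := 64909) (l := 5) rfl N64909 D204633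
theorem N101476 : nd 101476 = n204634 := ndS (p := 64911) (l := 3) rfl N64911 D204634
theorem N101477 : nd 101477 = n204635 := ndS (p := 64911) (l := 6) rfl N64911 D204635
theorem N101478 : nd 101478 = n204636 := ndS (p := 64912) (l := 0) rfl N64912 D204636
theorem N101479 : nd 101479 = n204637 := ndS (p := 64912) (l := 1) rfl N64912 D204637
theorem N101480 : nd 101480 = n204638 := ndS (p := 64912) (l := 5) rfl N64912 D204638
theorem N101481 : nd 101481 = n204639 := ndS (p := 64912) (l := 7) rfl N64912 D204639
theorem N101482 : nd 101482 = n204640 := ndS (p := 64914) (l := 4) rfl N64914 D204640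
theorem N101483 : nd 101483 = n204641 := ndS (p := 64917) (l := 3) rfl N64917 D204641
theorem N101484 : nd 101484 = n204642 := ndS (p := 64917) (l := 4) rfl N64917 D204642
theorem N101485 : nd 101485 = n204643 := ndS (p := 64917) (l := 5) rfl N64917 D204643
theorem N101486 : nd 101486 = n204644 := ndS (p := 64917) (l := 6) rfl N64917 D204644
theorem N101487 : nd 101487 = n204645 := ndS (p := 64918) (l := 3) rfl N64918 D204645
theorem N101488 : nd 101488 = n204646 := ndS (p := 64918) (l := 4) rfl N64918 D204646
theorem N101489 : nd 101489 = n204647 := ndS (p := 64919) (l := 1) rfl N64919 D204647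
theorem N101490 : nd 101490 = n204648 := ndS (p := 64919) (l := 4) rfl N64919 D204648
theorem N101491 : nd 101491 = n204649 := ndS (p := 64919) (l := 7) rfl N64919 D204649
theorem N101492 : nd 101492 = n204650 := ndS (p := 64921) (l := 2) rfl N64921 D204650
theorem N101493 : nd 101493 = n204651 := ndS (p := 64922) (l := 3) rfl N64922 D204651
theorem N101494 : nd 101494 = n204652 := ndS (p := 64923) (l := 0) rfl N64923 D204652
theorem N101495 : nd 101495 = n204653 := ndS (p := 64923) (l := 1) rfl N64923 D204653
theorem N101496 : nd 101496 = n204654 := ndS (p := 64923) (l := 2) rfl N64923 D204654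
theorem N101497 : nd 101497 = n204655 := ndS (p := 64924) (l := 6) rfl N64924 D204655
theorem N101498 : nd 101498 = n204656 := ndS (p := 64925) (l := 5) rfl N64925 D204656
theorem N101499 : nd 101499 = n204657 := ndS (p := 64927) (l := 3) rfl N64927 D204657
theorem N101500 : nd 101500 = n204658 := ndS (p := 64927) (l := 5) rfl N64927 D204658
theorem N101501 : nd 101501 = n204659 := ndS (p := 64928) (l := 0) rfl N64928 D204659
theorem N101502 : nd 101502 = n204660 := ndS (p := 64928) (l := 1) rfl N64928 D204660
theorem N101503 : nd 101503 = n204661 := ndS (p := 64930) (l := 3) rfl N64930 D204661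
theorem N101504 : nd 101504 = n204662 := ndS (p := 64930) (l := 6) rfl N64930 D204662
theorem N101505 : nd 101505 = n204663 := ndS (p := 64931) (l := 0) rfl N64931 D204663
theorem N101506 : nd 101506 = n204664 := ndS (p := 64931) (l := 1) rfl N64931 D204664
theorem N101507 : nd 101507 = n204665 := ndS (p := 64933) (l := 0) rfl N64933 D204665
theorem N101508 : nd 101508 = n204666 := ndS (p := 64933) (l := 1) rfl N64933 D204666
theorem N101509 : nd 101509 = n204667 := ndS (p := 64933) (l := 2) rfl N64933 D204667
theorem N101510 : nd 101510 = n204668 := ndS (p := 64933) (l := 5) rfl N64933 D204668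
theorem N101511 : nd 101511 = n204669 := ndS (p := 64935) (l := 3) rfl N64935 D204669
theorem N101512 : nd 101512 = n204670 := ndS (p := 64937) (l := 0) rfl N64937 D204670
theorem N101513 : nd 101513 = n204672 := ndS (p := 64937) (l := 2) rfl N64937 D204672
theorem N101514 : nd 101514 = n204673 := ndS (p := 64937) (l := 5) rfl N64937 D204673
theorem N101515 : nd 101515 = n204674 := ndS (p := 64938) (l := 6) rfl N64938 D204674
theorem N101516 : nd 101516 = n204675 := ndS (p := 64940) (l := 0) rfl N64940 D204675
theorem N101517 : nd 101517 = n204676 := ndS (p := 64940) (l := 1) rfl N64940 D204676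
theorem N101518 : nd 101518 = n204677 := ndS (p := 64940) (l := 2) rfl N64940 D204677
theorem N101519 : nd 101519 = n204678 := ndS (p := 64940) (l := 5) rfl N64940 D204678
theorem N101520 : nd 101520 = n204679 := ndS (p := 64942) (l := 0) rfl N64942 D204679
theorem N101521 : nd 101521 = n204680 := ndS (p := 64942) (l := 1) rfl N64942 D204680
theorem N101522 : nd 101522 = n204681 := ndS (p := 64942) (l := 2) rfl N64942 D204681
theorem N101523 : nd 101523 = n204682 := ndS (p := 64943) (l := 6) rfl N64943 D204682
theorem N101524 : nd 101524 = n204683 := ndS (p := 64944) (l := 0) rfl N64944 D204683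
theorem N101525 : nd 101525 = n204684 := ndS (p := 64944) (l := 2) rfl N64944 D204684
theorem N101526 : nd 101526 = n204685 := ndS (p := 64946) (l := 4) rfl N64946 D204685
theorem N101527 : nd 101527 = n204686 := ndS (p := 64947) (l := 3) rfl N64947 D204686
theorem N101528 : nd 101528 = n204687 := ndS (p := 64947) (l := 5) rfl N64947 D204687
theorem N101529 : nd 101529 = n204688 := ndS (p := 64949) (l := 4) rfl N64949 D204688
theorem N101530 : nd 101530 = n204689 := ndS (p := 64949) (l := 6) rfl N64949 D204689
theorem N101531 : nd 101531 = n204690 := ndS (p := 64952) (l := 3) rfl N64952 D204690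
theorem N101532 : nd 101532 = n204691 := ndS (p := 64952) (l := 6) rfl N64952 D204691
theorem N101533 : nd 101533 = n204694 := ndS (p := 64953) (l := 7) rfl N64953 D204694
theorem N101534 : nd 101534 = n204695 := ndS (p := 64954) (l := 1) rfl N64954 D204695
theorem N101535 : nd 101535 = n204696 := ndS (p := 64954) (l := 5) rfl N64954 D204696
theorem N101536 : nd 101536 = n204697 := ndS (p := 64955) (l := 6) rfl N64955 D204697
theorem N101537 : nd 101537 = n204699 := ndS (p := 64956) (l := 3) rfl N64956 D204699
theorem N101538 : nd 101538 = n204700 := ndS (p := 64956) (l := 4) rfl N64956 D204700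
theorem N101539 : nd 101539 = n204701 := ndS (p := 64956) (l := 5) rfl N64956 D204701
theorem N101540 : nd 101540 = n204702 := ndS (p := 64956) (l := 6) rfl N64956 D204702
theorem N101541 : nd 101541 = n204703 := ndS (p := 64957) (l := 3) rfl N64957 D204703
theorem N101542 : nd 101542 = n204704 := ndS (p := 64957) (l := 4) rfl N64957 D204704
theorem N101543 : nd 101543 = n204705 := ndS (p := 64957) (l := 5) rfl N64957 D204705
theorem N101544 : nd 101544 = n204706 := ndS (p := 64958) (l := 5) rfl N64958 D204706
theorem N101545 : nd 101545 = n204707 := ndS (p := 64961) (l := 3) rfl N64961 D204707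
theorem N101546 : nd 101546 = n204708 := ndS (p := 64961) (l := 4) rfl N64961 D204708
theorem N101547 : nd 101547 = n204709 := ndS (p := 64961) (l := 5) rfl N64961 D204709
theorem N101548 : nd 101548 = n204710 := ndS (p := 64962) (l := 5) rfl N64962 D204710
theorem N101549 : nd 101549 = n204711 := ndS (p := 64963) (l := 5) rfl N64963 D204711
theorem N101550 : nd 101550 = n204712 := ndS (p := 64964) (l := 0) rfl N64964 D204712
theorem N101551 : nd 101551 = n204713 := ndS (p := 64964) (l := 1) rfl N64964 D204713
theorem N101552 : nd 101552 = n204714 := ndS (p := 64964) (l := 4) rfl N64964 D204714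
theorem N101553 : nd 101553 = n204715 := ndS (p := 64964) (l := 6) rfl N64964 D204715
theorem N101554 : nd 101554 = n204716 := ndS (p := 64965) (l := 1) rfl N64965 D204716
theorem N101555 : nd 101555 = n204717 := ndS (p := 64967) (l := 4) rfl N64967 D204717
theorem N101556 : nd 101556 = n204718 := ndS (p := 64969) (l := 5) rfl N64969 D204718
theorem N101557 : nd 101557 = n204719 := ndS (p := 64970) (l := 4) rfl N64970 D204719
theorem N101558 : nd 101558 = n204720 := ndS (p := 64970) (l := 6) rfl N64970 D204720
theorem N101559 : nd 101559 = n204721 := ndS (p := 64972) (l := 5) rfl N64972 D204721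
theorem N101560 : nd 101560 = n204722 := ndS (p := 64973) (l := 3) rfl N64973 D204722
theorem N101561 : nd 101561 = n204723 := ndS (p := 64973) (l := 5) rfl N64973 D204723
theorem N101562 : nd 101562 = n204724 := ndS (p := 64974) (l := 5) rfl N64974 D204724
theorem N101563 : nd 101563 = n204725 := ndS (p := 64974) (l := 6) rfl N64974 D204725
theorem N101564 : nd 101564 = n204726 := ndS (p := 64975) (l := 0) rfl N64975 D204726
theorem N101565 : nd 101565 = n204727 := ndS (p := 64975) (l := 1) rfl N64975 D204727
theorem N101566 : nd 101566 = n204728 := ndS (p := 64975) (l := 4) rfl N64975 D204728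
theorem N101567 : nd 101567 = n204729 := ndS (p := 64975) (l := 6) rfl N64975 D204729
theorem N101568 : nd 101568 = n204730 := ndS (p := 64976) (l := 1) rfl N64976 D204730
theorem N101569 : nd 101569 = n204731 := ndS (p := 64978) (l := 3) rfl N64978 D204731
theorem N101570 : nd 101570 = n204732 := ndS (p := 64978) (l := 5) rfl N64978 D204732
theorem N101571 : nd 101571 = n204733 := ndS (p := 64980) (l := 5) rfl N64980 D204733
theorem N101572 : nd 101572 = n204734 := ndS (p := 64981) (l := 0) rfl N64981 D204734
theorem N101573 : nd 101573 = n204735 := ndS (p := 64981) (l := 1) rfl N64981 D204735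
theorem N101574 : nd 101574 = n204736 := ndS (p := 64981) (l := 4) rfl N64981 D204736
theorem N101575 : nd 101575 = n204737 := ndS (p := 64981) (l := 6) rfl N64981 D204737
theorem N101576 : nd 101576 = n204738 := ndS (p := 64986) (l := 0) rfl N64986 D204738
theorem N101577 : nd 101577 = n204739 := ndS (p := 64986) (l := 5) rfl N64986 D204739
theorem N101578 : nd 101578 = n204740 := ndS (p := 64987) (l := 4) rfl N64987 D204740
theorem N101579 : nd 101579 = n204741 := ndS (p := 64987) (l := 6) rfl N64987 D204741
theorem N101580 : nd 101580 = n204742 := ndS (p := 64988) (l := 6) rfl N64988 D204742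
theorem N101581 : nd 101581 = n204743 := ndS (p := 64989) (l := 4) rfl N64989 D204743
theorem N101582 : nd 101582 = n204744 := ndS (p := 64989) (l := 6) rfl N64989 D204744
theorem N101583 : nd 101583 = n204745 := ndS (p := 64990) (l := 4) rfl N64990 D204745
theorem N101584 : nd 101584 = n204746 := ndS (p := 64990) (l := 6) rfl N64990 D204746
theorem N101585 : nd 101585 = n204747 := ndS (p := 64991) (l := 0) rfl N64991 D204747
theorem N101586 : nd 101586 = n204748 := ndS (p := 64991) (l := 1) rfl N64991 D204748
theorem N101587 : nd 101587 = n204749 := ndS (p := 64991) (l := 3) rfl N64991 D204749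
theorem N101588 : nd 101588 = n204750 := ndS (p := 64991) (l := 6) rfl N64991 D204750
theorem N101589 : nd 101589 = n204751 := ndS (p := 64992) (l := 0) rfl N64992 D204751
theorem N101590 : nd 101590 = n204752 := ndS (p := 64992) (l := 7) rfl N64992 D204752
theorem N101591 : nd 101591 = n204755 := ndS (p := 64995) (l := 2) rfl N64995 D204755
theorem N101592 : nd 101592 = n204756 := ndS (p := 64995) (l := 4) rfl N64995 D204756
theorem N101593 : nd 101593 = n204758 := ndS (p := 64996) (l := 0) rfl N64996 D204758
theorem N101594 : nd 101594 = n204759 := ndS (p := 64996) (l := 1) rfl N64996 D204759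
theorem N101595 : nd 101595 = n204760 := ndS (p := 64997) (l := 0) rfl N64997 D204760
theorem N101596 : nd 101596 = n204761 := ndS (p := 64997) (l := 1) rfl N64997 D204761
theorem N101597 : nd 101597 = n204762 := ndS (p := 64997) (l := 2) rfl N64997 D204762
theorem N101598 : nd 101598 = n204763 := ndS (p := 64997) (l := 6) rfl N64997 D204763
theorem N101599 : nd 101599 = n204764 := ndS (p := 64998) (l := 0) rfl N64998 D204764
theorem N101600 : nd 101600 = n204765 := ndS (p := 64998) (l := 1) rfl N64998 D204765
theorem N101601 : nd 101601 = n204766 := ndS (p := 64998) (l := 5) rfl N64998 D204766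
theorem N101602 : nd 101602 = n204767 := ndS (p := 64998) (l := 7) rfl N64998 D204767
theorem N101603 : nd 101603 = n204768 := ndS (p := 64999) (l := 3) rfl N64999 D204768
theorem N101604 : nd 101604 = n204770 := ndS (p := 64999) (l := 5) rfl N64999 D204770
theorem N101605 : nd 101605 = n204771 := ndS (p := 65000) (l := 4) rfl N65000 D204771
theorem N101606 : nd 101606 = n204772 := ndS (p := 65004) (l := 4) rfl N65004 D204772
theorem N101607 : nd 101607 = n204773 := ndS (p := 65004) (l := 6) rfl N65004 D204773
theorem N101608 : nd 101608 = n204774 := ndS (p := 65005) (l := 0) rfl N65005 D204774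
theorem N101609 : nd 101609 = n204775 := ndS (p := 65006) (l := 4) rfl N65006 D204775
theorem N101610 : nd 101610 = n204776 := ndS (p := 65006) (l := 6) rfl N65006 D204776
theorem N101611 : nd 101611 = n204777 := ndS (p := 65007) (l := 0) rfl N65007 D204777
theorem N101612 : nd 101612 = n204779 := ndS (p := 65008) (l := 4) rfl N65008 D204779
theorem N101613 : nd 101613 = n204780 := ndS (p := 65010) (l := 4) rfl N65010 D204780
theorem N101614 : nd 101614 = n204781 := ndS (p := 65010) (l := 6) rfl N65010 D204781
theorem N101615 : nd 101615 = n204782 := ndS (p := 65011) (l := 4) rfl N65011 D204782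
theorem N101616 : nd 101616 = n204783 := ndS (p := 65011) (l := 6) rfl N65011 D204783
theorem N101617 : nd 101617 = n204784 := ndS (p := 65012) (l := 5) rfl N65012 D204784
theorem N101618 : nd 101618 = n204785 := ndS (p := 65014) (l := 5) rfl N65014 D204785
theorem N101619 : nd 101619 = n204786 := ndS (p := 65015) (l := 4) rfl N65015 D204786
theorem N101620 : nd 101620 = n204787 := ndS (p := 65015) (l := 6) rfl N65015 D204787
theorem N101621 : nd 101621 = n204788 := ndS (p := 65016) (l := 1) rfl N65016 D204788
theorem N101622 : nd 101622 = n204789 := ndS (p := 65016) (l := 3) rfl N65016 D204789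
theorem N101623 : nd 101623 = n204790 := ndS (p := 65016) (l := 5) rfl N65016 D204790
theorem N101624 : nd 101624 = n204791 := ndS (p := 65016) (l := 6) rfl N65016 D204791
theorem N101625 : nd 101625 = n204792 := ndS (p := 65017) (l := 0) rfl N65017 D204792
theorem N101626 : nd 101626 = n204793 := ndS (p := 65017) (l := 1) rfl N65017 D204793
theorem N101627 : nd 101627 = n204794 := ndS (p := 65018) (l := 4) rfl N65018 D204794
theorem N101628 : nd 101628 = n204795 := ndS (p := 65019) (l := 5) rfl N65019 D204795
theorem N101629 : nd 101629 = n204796 := ndS (p := 65019) (l := 6) rfl N65019 D204796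
theorem N101630 : nd 101630 = n204797 := ndS (p := 65021) (l := 2) rfl N65021 D204797
theorem N101631 : nd 101631 = n204798 := ndS (p := 65021) (l := 6) rfl N65021 D204798
theorem N101632 : nd 101632 = n204799 := ndS (p := 65022) (l := 3) rfl N65022 D204799
theorem N101633 : nd 101633 = n204800 := ndS (p := 65022) (l := 5) rfl N65022 D204800
theorem N101634 : nd 101634 = n204801 := ndS (p := 65022) (l := 6) rfl N65022 D204801
theorem N101635 : nd 101635 = n204802 := ndS (p := 65023) (l := 0) rfl N65023 D204802
theorem N101636 : nd 101636 = n204803 := ndS (p := 65023) (l := 7) rfl N65023 D204803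
theorem N101637 : nd 101637 = n204804 := ndS (p := 65026) (l := 5) rfl N65026 D204804
theorem N101638 : nd 101638 = n204806 := ndS (p := 65027) (l := 3) rfl N65027 D204806
theorem N101639 : nd 101639 = n204807 := ndS (p := 65027) (l := 5) rfl N65027 D204807
theorem N101640 : nd 101640 = n204808 := ndS (p := 65028) (l := 5) rfl N65028 D204808
theorem N101641 : nd 101641 = n204809 := ndS (p := 65029) (l := 0) rfl N65029 D204809
theorem N101642 : nd 101642 = n204810 := ndS (p := 65029) (l := 6) rfl N65029 D204810
theorem N101643 : nd 101643 = n204811 := ndS (p := 65032) (l := 3) rfl N65032 D204811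
theorem N101644 : nd 101644 = n204812 := ndS (p := 65032) (l := 6) rfl N65032 D204812
theorem N101645 : nd 101645 = n204813 := ndS (p := 65033) (l := 0) rfl N65033 D204813
theorem N101646 : nd 101646 = n204814 := ndS (p := 65033) (l := 1) rfl N65033 D204814
theorem N101647 : nd 101647 = n204815 := ndS (p := 65033) (l := 7) rfl N65033 D204815
theorem N101648 : nd 101648 = n204816 := ndS (p := 65034) (l := 3) rfl N65034 D204816
theorem N101649 : nd 101649 = n204817 := ndS (p := 65035) (l := 3) rfl N65035 D204817
theorem N101650 : nd 101650 = n204818 := ndS (p := 65036) (l := 1) rfl N65036 D204818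
theorem N101651 : nd 101651 = n204819 := ndS (p := 65036) (l := 5) rfl N65036 D204819
theorem N101652 : nd 101652 = n204820 := ndS (p := 65040) (l := 4) rfl N65040 D204820
theorem N101653 : nd 101653 = n204821 := ndS (p := 65040) (l := 6) rfl N65040 D204821
theorem N101654 : nd 101654 = n204822 := ndS (p := 65041) (l := 6) rfl N65041 D204822
theorem N101655 : nd 101655 = n204823 := ndS (p := 65042) (l := 0) rfl N65042 D204823
theorem N101656 : nd 101656 = n204824 := ndS (p := 65043) (l := 1) rfl N65043 D204824
theorem N101657 : nd 101657 = n204825 := ndS (p := 65043) (l := 2) rfl N65043 D204825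
theorem N101658 : nd 101658 = n204826 := ndS (p := 65043) (l := 5) rfl N65043 D204826
theorem N101659 : nd 101659 = n204827 := ndS (p := 65044) (l := 6) rfl N65044 D204827
theorem N101660 : nd 101660 = n204828 := ndS (p := 65045) (l := 1) rfl N65045 D204828
theorem N101661 : nd 101661 = n204829 := ndS (p := 65046) (l := 1) rfl N65046 D204829
theorem N101662 : nd 101662 = n204830 := ndS (p := 65046) (l := 6) rfl N65046 D204830
theorem N101663 : nd 101663 = n204831 := ndS (p := 65047) (l := 1) rfl N65047 D204831
theorem N101664 : nd 101664 = n204832 := ndS (p := 65050) (l := 6) rfl N65050 D204832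
theorem N101665 : nd 101665 = n204833 := ndS (p := 65051) (l := 5) rfl N65051 D204833
theorem N101666 : nd 101666 = n204834 := ndS (p := 65051) (l := 6) rfl N65051 D204834
theorem N101667 : nd 101667 = n204836 := ndS (p := 65054) (l := 4) rfl N65054 D204836
theorem N101668 : nd 101668 = n204837 := ndS (p := 65060) (l := 0) rfl N65060 D204837
theorem N101669 : nd 101669 = n204838 := ndS (p := 65062) (l := 3) rfl N65062 D204838
theorem N101670 : nd 101670 = n204839 := ndS (p := 65062) (l := 4) rfl N65062 D204839
theorem N101671 : nd 101671 = n204840 := ndS (p := 65065) (l := 3) rfl N65065 D204840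
theorem N101672 : nd 101672 = n204841 := ndS (p := 65065) (l := 4) rfl N65065 D204841
theorem N101673 : nd 101673 = n204842 := ndS (p := 65066) (l := 4) rfl N65066 D204842
theorem N101674 : nd 101674 = n204843 := ndS (p := 65069) (l := 6) rfl N65069 D204843
theorem N101675 : nd 101675 = n204844 := ndS (p := 65070) (l := 5) rfl N65070 D204844
theorem N101676 : nd 101676 = n204845 := ndS (p := 65071) (l := 4) rfl N65071 D204845
theorem N101677 : nd 101677 = n204846 := ndS (p := 65072) (l := 0) rfl N65072 D204846
theorem N101678 : nd 101678 = n204847 := ndS (p := 65072) (l := 1) rfl N65072 D204847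
theorem N101679 : nd 101679 = n204848 := ndS (p := 65072) (l := 6) rfl N65072 D204848
theorem N101680 : nd 101680 = n204849 := ndS (p := 65076) (l := 6) rfl N65076 D204849
theorem N101681 : nd 101681 = n204850 := ndS (p := 65079) (l := 0) rfl N65079 D204850
theorem N101682 : nd 101682 = n204851 := ndS (p := 65079) (l := 4) rfl N65079 D204851
theorem N101683 : nd 101683 = n204852 := ndS (p := 65079) (l := 6) rfl N65079 D204852
theorem N101684 : nd 101684 = n204853 := ndS (p := 65080) (l := 4) rfl N65080 D204853
theorem N101685 : nd 101685 = n204854 := ndS (p := 65082) (l := 0) rfl N65082 D204854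
theorem N101686 : nd 101686 = n204855 := ndS (p := 65082) (l := 5) rfl N65082 D204855
theorem N101687 : nd 101687 = n204856 := ndS (p := 65091) (l := 5) rfl N65091 D204856
theorem N101688 : nd 101688 = n204857 := ndS (p := 65094) (l := 1) rfl N65094 D204857
theorem N101689 : nd 101689 = n204858 := ndS (p := 65094) (l := 2) rfl N65094 D204858
theorem N101690 : nd 101690 = n204859 := ndS (p := 65094) (l := 5) rfl N65094 D204859
theorem N101691 : nd 101691 = n204860 := ndS (p := 65095) (l := 4) rfl N65095 D204860
theorem N101692 : nd 101692 = n204861 := ndS (p := 65098) (l := 3) rfl N65098 D204861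
theorem N101693 : nd 101693 = n204862 := ndS (p := 65098) (l := 4) rfl N65098 D204862
theorem N101694 : nd 101694 = n204863 := ndS (p := 65101) (l := 4) rfl N65101 D204863
theorem N101695 : nd 101695 = n204864 := ndS (p := 65101) (l := 5) rfl N65101 D204864
theorem N101696 : nd 101696 = n204865 := ndS (p := 65104) (l := 3) rfl N65104 D204865
theorem N101697 : nd 101697 = n204866 := ndS (p := 65104) (l := 5) rfl N65104 D204866
theorem N101698 : nd 101698 = n204867 := ndS (p := 65106) (l := 4) rfl N65106 D204867
theorem N101699 : nd 101699 = n204868 := ndS (p := 65106) (l := 6) rfl N65106 D204868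
theorem N101700 : nd 101700 = n204869 := ndS (p := 65107) (l := 0) rfl N65107 D204869
theorem N101701 : nd 101701 = n204870 := ndS (p := 65110) (l := 1) rfl N65110 D204870
theorem N101702 : nd 101702 = n204871 := ndS (p := 65112) (l := 6) rfl N65112 D204871
theorem N101703 : nd 101703 = n204872 := ndS (p := 65113) (l := 0) rfl N65113 D204872
theorem N101704 : nd 101704 = n204873 := ndS (p := 65113) (l := 1) rfl N65113 D204873
theorem N101705 : nd 101705 = n204874 := ndS (p := 65113) (l := 2) rfl N65113 D204874
theorem N101706 : nd 101706 = n204875 := ndS (p := 65114) (l := 6) rfl N65114 D204875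
theorem N101707 : nd 101707 = n204876 := ndS (p := 65117) (l := 1) rfl N65117 D204876
theorem N101708 : nd 101708 = n204877 := ndS (p := 65121) (l := 6) rfl N65121 D204877
theorem N101709 : nd 101709 = n204878 := ndS (p := 65123) (l := 6) rfl N65123 D204878
theorem N101710 : nd 101710 = n204879 := ndS (p := 65124) (l := 6) rfl N65124 D204879
theorem N101711 : nd 101711 = n204880 := ndS (p := 65125) (l := 5) rfl N65125 D204880
theorem N101712 : nd 101712 = n204881 := ndS (p := 65126) (l := 0) rfl N65126 D204881
theorem N101713 : nd 101713 = n204882 := ndS (p := 65126) (l := 1) rfl N65126 D204882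
theorem N101714 : nd 101714 = n204883 := ndS (p := 65126) (l := 5) rfl N65126 D204883
theorem N101715 : nd 101715 = n204884 := ndS (p := 65130) (l := 6) rfl N65130 D204884
theorem N101716 : nd 101716 = n204885 := ndS (p := 65134) (l := 3) rfl N65134 D204885
theorem N101717 : nd 101717 = n204886 := ndS (p := 65135) (l := 1) rfl N65135 D204886
theorem N101718 : nd 101718 = n204887 := ndS (p := 65135) (l := 7) rfl N65135 D204887
theorem N101719 : nd 101719 = n204888 := ndS (p := 65136) (l := 6) rfl N65136 D204888
theorem N101720 : nd 101720 = n204889 := ndS (p := 65138) (l := 4) rfl N65138 D204889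
theorem N101721 : nd 101721 = n204890 := ndS (p := 65142) (l := 5) rfl N65142 D204890
theorem N101722 : nd 101722 = n204891 := ndS (p := 65145) (l := 3) rfl N65145 D204891
theorem N101723 : nd 101723 = n204892 := ndS (p := 65146) (l := 4) rfl N65146 D204892
theorem N101724 : nd 101724 = n204893 := ndS (p := 65146) (l := 6) rfl N65146 D204893
theorem N101725 : nd 101725 = n204894 := ndS (p := 65147) (l := 3) rfl N65147 D204894
theorem N101726 : nd 101726 = n204895 := ndS (p := 65147) (l := 4) rfl N65147 D204895
theorem N101727 : nd 101727 = n204896 := ndS (p := 65148) (l := 4) rfl N65148 D204896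
theorem N101728 : nd 101728 = n204897 := ndS (p := 65150) (l := 4) rfl N65150 D204897
theorem N101729 : nd 101729 = n204898 := ndS (p := 65150) (l := 6) rfl N65150 D204898
theorem N101730 : nd 101730 = n204899 := ndS (p := 65151) (l := 5) rfl N65151 D204899
theorem N101731 : nd 101731 = n204900 := ndS (p := 65152) (l := 5) rfl N65152 D204900
theorem N101732 : nd 101732 = n204901 := ndS (p := 65153) (l := 6) rfl N65153 D204901
theorem N101733 : nd 101733 = n204902 := ndS (p := 65155) (l := 0) rfl N65155 D204902
theorem N101734 : nd 101734 = n204903 := ndS (p := 65155) (l := 1) rfl N65155 D204903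
theorem N101735 : nd 101735 = n204904 := ndS (p := 65155) (l := 6) rfl N65155 D204904
theorem N101736 : nd 101736 = n204905 := ndS (p := 65157) (l := 5) rfl N65157 D204905
theorem N101737 : nd 101737 = n204906 := ndS (p := 65159) (l := 4) rfl N65159 D204906
theorem N101738 : nd 101738 = n204907 := ndS (p := 65171) (l := 5) rfl N65171 D204907
theorem N101739 : nd 101739 = n204908 := ndS (p := 65172) (l := 5) rfl N65172 D204908
theorem N101740 : nd 101740 = n204909 := ndS (p := 65175) (l := 4) rfl N65175 D204909
theorem N101741 : nd 101741 = n204910 := ndS (p := 65176) (l := 5) rfl N65176 D204910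
theorem N101742 : nd 101742 = n204911 := ndS (p := 65178) (l := 5) rfl N65178 D204911
theorem N101743 : nd 101743 = n204912 := ndS (p := 65179) (l := 1) rfl N65179 D204912
theorem N101744 : nd 101744 = n204913 := ndS (p := 65182) (l := 0) rfl N65182 D204913
theorem N101745 : nd 101745 = n204914 := ndS (p := 65182) (l := 1) rfl N65182 D204914
theorem N101746 : nd 101746 = n204915 := ndS (p := 65182) (l := 7) rfl N65182 D204915
theorem N101747 : nd 101747 = n204916 := ndS (p := 65187) (l := 6) rfl N65187 D204916
theorem N101748 : nd 101748 = n204917 := ndS (p := 65189) (l := 7) rfl N65189 D204917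
theorem N101749 : nd 101749 = n204918 := ndS (p := 65191) (l := 1) rfl N65191 D204918
theorem N101750 : nd 101750 = n204919 := ndS (p := 65191) (l := 5) rfl N65191 D204919
theorem N101751 : nd 101751 = n204920 := ndS (p := 65192) (l := 0) rfl N65192 D204920
theorem N101752 : nd 101752 = n204921 := ndS (p := 65192) (l := 4) rfl N65192 D204921
theorem N101753 : nd 101753 = n204922 := ndS (p := 65194) (l := 6) rfl N65194 D204922
theorem N101754 : nd 101754 = n204923 := ndS (p := 65196) (l := 5) rfl N65196 D204923
theorem N101755 : nd 101755 = n204924 := ndS (p := 65202) (l := 3) rfl N65202 D204924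
theorem N101756 : nd 101756 = n204925 := ndS (p := 65205) (l := 3) rfl N65205 D204925
theorem N101757 : nd 101757 = n204926 := ndS (p := 65206) (l := 3) rfl N65206 D204926
theorem N101758 : nd 101758 = n204927 := ndS (p := 65207) (l := 5) rfl N65207 D204927
theorem N101759 : nd 101759 = n204928 := ndS (p := 65209) (l := 6) rfl N65209 D204928
theorem N101760 : nd 101760 = n204929 := ndS (p := 65214) (l := 6) rfl N65214 D204929
theorem N101761 : nd 101761 = n204930 := ndS (p := 65217) (l := 5) rfl N65217 D204930
theorem N101762 : nd 101762 = n204932 := ndS (p := 65219) (l := 6) rfl N65219 D204932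
theorem N101763 : nd 101763 = n204933 := ndS (p := 65225) (l := 4) rfl N65225 D204933
theorem N101764 : nd 101764 = n204934 := ndS (p := 65225) (l := 6) rfl N65225 D204934
theorem N101765 : nd 101765 = n204935 := ndS (p := 65226) (l := 5) rfl N65226 D204935
theorem N101766 : nd 101766 = n204936 := ndS (p := 65227) (l := 1) rfl N65227 D204936
theorem N101767 : nd 101767 = n204937 := ndS (p := 65227) (l := 6) rfl N65227 D204937
theorem N101768 : nd 101768 = n204938 := ndS (p := 65229) (l := 7) rfl N65229 D204938
theorem N101769 : nd 101769 = n204939 := ndS (p := 65231) (l := 5) rfl N65231 D204939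
theorem N101770 : nd 101770 = n204940 := ndS (p := 65232) (l := 2) rfl N65232 D204940
theorem N101771 : nd 101771 = n204941 := ndS (p := 65232) (l := 5) rfl N65232 D204941
theorem N101772 : nd 101772 = n204942 := ndS (p := 65232) (l := 6) rfl N65232 D204942
theorem N101773 : nd 101773 = n204943 := ndS (p := 65233) (l := 6) rfl N65233 D204943
theorem N101774 : nd 101774 = n204944 := ndS (p := 65234) (l := 1) rfl N65234 D204944
theorem N101775 : nd 101775 = n204945 := ndS (p := 65234) (l := 5) rfl N65234 D204945
theorem N101776 : nd 101776 = n204946 := ndS (p := 65234) (l := 7) rfl N65234 D204946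
theorem N101777 : nd 101777 = n204947 := ndS (p := 65235) (l := 4) rfl N65235 D204947
theorem N101778 : nd 101778 = n204948 := ndS (p := 65236) (l := 4) rfl N65236 D204948
theorem N101779 : nd 101779 = n204949 := ndS (p := 65240) (l := 6) rfl N65240 D204949
theorem N101780 : nd 101780 = n204950 := ndS (p := 65246) (l := 5) rfl N65246 D204950
theorem N101781 : nd 101781 = n204951 := ndS (p := 65250) (l := 6) rfl N65250 D204951
theorem N101782 : nd 101782 = n204952 := ndS (p := 65251) (l := 5) rfl N65251 D204952
theorem N101783 : nd 101783 = n204953 := ndS (p := 65252) (l := 6) rfl N65252 D204953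
theorem N101784 : nd 101784 = n204954 := ndS (p := 65253) (l := 0) rfl N65253 D204954
theorem N101785 : nd 101785 = n204955 := ndS (p := 65253) (l := 1) rfl N65253 D204955
theorem N101786 : nd 101786 = n204956 := ndS (p := 65253) (l := 7) rfl N65253 D204956
theorem N101787 : nd 101787 = n204957 := ndS (p := 65256) (l := 5) rfl N65256 D204957
theorem N101788 : nd 101788 = n204958 := ndS (p := 65256) (l := 6) rfl N65256 D204958
theorem N101789 : nd 101789 = n204959 := ndS (p := 65259) (l := 1) rfl N65259 D204959
theorem N101790 : nd 101790 = n204960 := ndS (p := 65261) (l := 0) rfl N65261 D204960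
theorem N101791 : nd 101791 = n204961 := ndS (p := 65265) (l := 6) rfl N65265 D204961
theorem N101792 : nd 101792 = n204962 := ndS (p := 65268) (l := 2) rfl N65268 D204962
theorem N101793 : nd 101793 = n204963 := ndS (p := 65268) (l := 5) rfl N65268 D204963
theorem N101794 : nd 101794 = n204964 := ndS (p := 65268) (l := 6) rfl N65268 D204964
theorem N101795 : nd 101795 = n204965 := ndS (p := 65275) (l := 0) rfl N65275 D204965
theorem N101796 : nd 101796 = n204966 := ndS (p := 65280) (l := 3) rfl N65280 D204966
theorem N101797 : nd 101797 = n204967 := ndS (p := 65280) (l := 6) rfl N65280 D204967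
theorem N101798 : nd 101798 = n204971 := ndS (p := 65282) (l := 6) rfl N65282 D204971
theorem N101799 : nd 101799 = n204972 := ndS (p := 65283) (l := 5) rfl N65283 D204972
theorem N101800 : nd 101800 = n204973 := ndS (p := 65286) (l := 6) rfl N65286 D204973
theorem N101801 : nd 101801 = n204974 := ndS (p := 65290) (l := 3) rfl N65290 D204974
theorem N101802 : nd 101802 = n204975 := ndS (p := 65291) (l := 6) rfl N65291 D204975
theorem N101803 : nd 101803 = n204976 := ndS (p := 65294) (l := 3) rfl N65294 D204976
theorem N101804 : nd 101804 = n204977 := ndS (p := 65294) (l := 4) rfl N65294 D204977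
theorem N101805 : nd 101805 = n204978 := ndS (p := 65295) (l := 4) rfl N65295 D204978
theorem N101806 : nd 101806 = n204979 := ndS (p := 65300) (l := 0) rfl N65300 D204979
theorem N101807 : nd 101807 = n204980 := ndS (p := 65300) (l := 1) rfl N65300 D204980
theorem N101808 : nd 101808 = n204981 := ndS (p := 65308) (l := 4) rfl N65308 D204981
theorem N101809 : nd 101809 = n204982 := ndS (p := 65311) (l := 3) rfl N65311 D204982
theorem N101810 : nd 101810 = n204983 := ndS (p := 65311) (l := 4) rfl N65311 D204983
theorem N101811 : nd 101811 = n204984 := ndS (p := 65312) (l := 4) rfl N65312 D204984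
theorem N101812 : nd 101812 = n204985 := ndS (p := 65313) (l := 0) rfl N65313 D204985
theorem N101813 : nd 101813 = n204986 := ndS (p := 65313) (l := 1) rfl N65313 D204986
theorem N101814 : nd 101814 = n204987 := ndS (p := 65313) (l := 5) rfl N65313 D204987
theorem N101815 : nd 101815 = n204988 := ndS (p := 65314) (l := 3) rfl N65314 D204988
theorem N101816 : nd 101816 = n204989 := ndS (p := 65316) (l := 4) rfl N65316 D204989
theorem N101817 : nd 101817 = n204990 := ndS (p := 65320) (l := 1) rfl N65320 D204990
theorem N101818 : nd 101818 = n204991 := ndS (p := 65320) (l := 4) rfl N65320 D204991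
theorem N101819 : nd 101819 = n204992 := ndS (p := 65323) (l := 6) rfl N65323 D204992
theorem N101820 : nd 101820 = n204993 := ndS (p := 65326) (l := 5) rfl N65326 D204993
theorem N101821 : nd 101821 = n204994 := ndS (p := 65329) (l := 6) rfl N65329 D204994
theorem N101822 : nd 101822 = n204995 := ndS (p := 65330) (l := 4) rfl N65330 D204995
theorem N101823 : nd 101823 = n204996 := ndS (p := 65331) (l := 5) rfl N65331 D204996
theorem N101824 : nd 101824 = n204997 := ndS (p := 65334) (l := 3) rfl N65334 D204997
theorem N101825 : nd 101825 = n204998 := ndS (p := 65334) (l := 6) rfl N65334 D204998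
theorem N101826 : nd 101826 = n204999 := ndS (p := 65338) (l := 1) rfl N65338 D204999
theorem N101827 : nd 101827 = n205000 := ndS (p := 65338) (l := 3) rfl N65338 D205000
theorem N101828 : nd 101828 = n205001 := ndS (p := 65338) (l := 5) rfl N65338 D205001
theorem N101829 : nd 101829 = n205002 := ndS (p := 65338) (l := 6) rfl N65338 D205002
theorem N101830 : nd 101830 = n205003 := ndS (p := 65338) (l := 7) rfl N65338 D205003
theorem N101831 : nd 101831 = n205004 := ndS (p := 65339) (l := 0) rfl N65339 D205004
theorem N101832 : nd 101832 = n205005 := ndS (p := 65339) (l := 6) rfl N65339 D205005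
theorem N101833 : nd 101833 = n205006 := ndS (p := 65340) (l := 5) rfl N65340 D205006
theorem N101834 : nd 101834 = n205007 := ndS (p := 65342) (l := 6) rfl N65342 D205007
theorem N101835 : nd 101835 = n205008 := ndS (p := 65343) (l := 5) rfl N65343 D205008
theorem N101836 : nd 101836 = n205009 := ndS (p := 65343) (l := 6) rfl N65343 D205009
theorem N101837 : nd 101837 = n205010 := ndS (p := 65347) (l := 3) rfl N65347 D205010
theorem N101838 : nd 101838 = n205011 := ndS (p := 65349) (l := 0) rfl N65349 D205011
theorem N101839 : nd 101839 = n205012 := ndS (p := 65349) (l := 5) rfl N65349 D205012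
theorem N101840 : nd 101840 = n205013 := ndS (p := 65351) (l := 0) rfl N65351 D205013
theorem N101841 : nd 101841 = n205014 := ndS (p := 65351) (l := 1) rfl N65351 D205014
theorem N101842 : nd 101842 = n205015 := ndS (p := 65355) (l := 5) rfl N65355 D205015
theorem N101843 : nd 101843 = n205016 := ndS (p := 65356) (l := 4) rfl N65356 D205016
theorem N101844 : nd 101844 = n205017 := ndS (p := 65358) (l := 3) rfl N65358 D205017
theorem N101845 : nd 101845 = n205018 := ndS (p := 65358) (l := 4) rfl N65358 D205018
theorem N101846 : nd 101846 = n205019 := ndS (p := 65359) (l := 4) rfl N65359 D205019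
theorem N101847 : nd 101847 = n205020 := ndS (p := 65363) (l := 3) rfl N65363 D205020
theorem N101848 : nd 101848 = n205021 := ndS (p := 65363) (l := 6) rfl N65363 D205021
theorem N101849 : nd 101849 = n205022 := ndS (p := 65364) (l := 7) rfl N65364 D205022
theorem N101850 : nd 101850 = n205023 := ndS (p := 65369) (l := 4) rfl N65369 D205023
theorem N101851 : nd 101851 = n205024 := ndS (p := 65371) (l := 6) rfl N65371 D205024
theorem N101852 : nd 101852 = n205025 := ndS (p := 65374) (l := 6) rfl N65374 D205025
theorem N101853 : nd 101853 = n205026 := ndS (p := 65377) (l := 3) rfl N65377 D205026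
theorem N101854 : nd 101854 = n205027 := ndS (p := 65377) (l := 6) rfl N65377 D205027
theorem N101855 : nd 101855 = n205028 := ndS (p := 65379) (l := 1) rfl N65379 D205028
theorem N101856 : nd 101856 = n205029 := ndS (p := 65380) (l := 6) rfl N65380 D205029
theorem N101857 : nd 101857 = n205030 := ndS (p := 65381) (l := 0) rfl N65381 D205030
theorem N101858 : nd 101858 = n205031 := ndS (p := 65381) (l := 1) rfl N65381 D205031
theorem N101859 : nd 101859 = n205032 := ndS (p := 65381) (l := 7) rfl N65381 D205032
theorem N101860 : nd 101860 = n205033 := ndS (p := 65384) (l := 5) rfl N65384 D205033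
theorem N101861 : nd 101861 = n205034 := ndS (p := 65388) (l := 3) rfl N65388 D205034
theorem N101862 : nd 101862 = n205035 := ndS (p := 65388) (l := 6) rfl N65388 D205035
theorem N101863 : nd 101863 = n205036 := ndS (p := 65390) (l := 1) rfl N65390 D205036
theorem N101864 : nd 101864 = n205037 := ndS (p := 65391) (l := 1) rfl N65391 D205037
theorem N101865 : nd 101865 = n205038 := ndS (p := 65391) (l := 2) rfl N65391 D205038
theorem N101866 : nd 101866 = n205039 := ndS (p := 65397) (l := 4) rfl N65397 D205039
theorem N101867 : nd 101867 = n205040 := ndS (p := 65398) (l := 3) rfl N65398 D205040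
theorem N101868 : nd 101868 = n205041 := ndS (p := 65398) (l := 4) rfl N65398 D205041
theorem N101869 : nd 101869 = n205042 := ndS (p := 65400) (l := 0) rfl N65400 D205042
theorem N101870 : nd 101870 = n205043 := ndS (p := 65406) (l := 3) rfl N65406 D205043
theorem N101871 : nd 101871 = n205044 := ndS (p := 65407) (l := 0) rfl N65407 D205044
theorem N101872 : nd 101872 = n205045 := ndS (p := 65407) (l := 5) rfl N65407 D205045
theorem N101873 : nd 101873 = n205046 := ndS (p := 65409) (l := 4) rfl N65409 D205046
theorem N101874 : nd 101874 = n205047 := ndS (p := 65411) (l := 1) rfl N65411 D205047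
theorem N101875 : nd 101875 = n205048 := ndS (p := 65411) (l := 3) rfl N65411 D205048
theorem N101876 : nd 101876 = n205049 := ndS (p := 65411) (l := 5) rfl N65411 D205049
theorem N101877 : nd 101877 = n205050 := ndS (p := 65411) (l := 6) rfl N65411 D205050
theorem N101878 : nd 101878 = n205051 := ndS (p := 65414) (l := 4) rfl N65414 D205051
theorem N101879 : nd 101879 = n205052 := ndS (p := 65415) (l := 3) rfl N65415 D205052
theorem N101880 : nd 101880 = n205053 := ndS (p := 65415) (l := 5) rfl N65415 D205053
theorem N101881 : nd 101881 = n205054 := ndS (p := 65417) (l := 4) rfl N65417 D205054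
theorem N101882 : nd 101882 = n205055 := ndS (p := 65419) (l := 0) rfl N65419 D205055
theorem N101883 : nd 101883 = n205056 := ndS (p := 65420) (l := 1) rfl N65420 D205056
theorem N101884 : nd 101884 = n205057 := ndS (p := 65422) (l := 5) rfl N65422 D205057
theorem N101885 : nd 101885 = n205058 := ndS (p := 65424) (l := 5) rfl N65424 D205058
theorem N101886 : nd 101886 = n205059 := ndS (p := 65426) (l := 4) rfl N65426 D205059
theorem N101887 : nd 101887 = n205060 := ndS (p := 65427) (l := 0) rfl N65427 D205060
theorem N101888 : nd 101888 = n205061 := ndS (p := 65427) (l := 1) rfl N65427 D205061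
theorem N101889 : nd 101889 = n205062 := ndS (p := 65432) (l := 4) rfl N65432 D205062
theorem N101890 : nd 101890 = n205063 := ndS (p := 65433) (l := 5) rfl N65433 D205063
theorem N101891 : nd 101891 = n205064 := ndS (p := 65434) (l := 5) rfl N65434 D205064
theorem N101892 : nd 101892 = n205065 := ndS (p := 65434) (l := 6) rfl N65434 D205065
theorem N101893 : nd 101893 = n205066 := ndS (p := 65435) (l := 5) rfl N65435 D205066
theorem N101894 : nd 101894 = n205067 := ndS (p := 65436) (l := 1) rfl N65436 D205067
theorem N101895 : nd 101895 = n205068 := ndS (p := 65436) (l := 2) rfl N65436 D205068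
theorem N101896 : nd 101896 = n205069 := ndS (p := 65436) (l := 5) rfl N65436 D205069
theorem N101897 : nd 101897 = n205070 := ndS (p := 65436) (l := 6) rfl N65436 D205070
theorem N101898 : nd 101898 = n205071 := ndS (p := 65437) (l := 0) rfl N65437 D205071
theorem N101899 : nd 101899 = n205072 := ndS (p := 65437) (l := 1) rfl N65437 D205072
theorem N101900 : nd 101900 = n205073 := ndS (p := 65437) (l := 4) rfl N65437 D205073
theorem N101901 : nd 101901 = n205074 := ndS (p := 65438) (l := 0) rfl N65438 D205074
theorem N101902 : nd 101902 = n205075 := ndS (p := 65438) (l := 1) rfl N65438 D205075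
theorem N101903 : nd 101903 = n205076 := ndS (p := 65439) (l := 4) rfl N65439 D205076
theorem N101904 : nd 101904 = n205077 := ndS (p := 65443) (l := 7) rfl N65443 D205077
theorem N101905 : nd 101905 = n205078 := ndS (p := 65444) (l := 4) rfl N65444 D205078
theorem N101906 : nd 101906 = n205079 := ndS (p := 65444) (l := 6) rfl N65444 D205079
theorem N101907 : nd 101907 = n205080 := ndS (p := 65448) (l := 0) rfl N65448 D205080
theorem N101908 : nd 101908 = n205081 := ndS (p := 65448) (l := 1) rfl N65448 D205081
theorem N101909 : nd 101909 = n205082 := ndS (p := 65452) (l := 0) rfl N65452 D205082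
theorem N101910 : nd 101910 = n205083 := ndS (p := 65452) (l := 1) rfl N65452 D205083
theorem N101911 : nd 101911 = n205084 := ndS (p := 65452) (l := 2) rfl N65452 D205084
theorem N101912 : nd 101912 = n205085 := ndS (p := 65452) (l := 6) rfl N65452 D205085
theorem N101913 : nd 101913 = n205086 := ndS (p := 65453) (l := 5) rfl N65453 D205086
theorem N101914 : nd 101914 = n205087 := ndS (p := 65454) (l := 5) rfl N65454 D205087
theorem N101915 : nd 101915 = n205088 := ndS (p := 65457) (l := 5) rfl N65457 D205088
theorem N101916 : nd 101916 = n205089 := ndS (p := 65457) (l := 6) rfl N65457 D205089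
theorem N101917 : nd 101917 = n205090 := ndS (p := 65458) (l := 3) rfl N65458 D205090
theorem N101918 : nd 101918 = n205091 := ndS (p := 65458) (l := 6) rfl N65458 D205091
theorem N101919 : nd 101919 = n205092 := ndS (p := 65459) (l := 5) rfl N65459 D205092
theorem N101920 : nd 101920 = n205093 := ndS (p := 65460) (l := 1) rfl N65460 D205093
theorem N101921 : nd 101921 = n205094 := ndS (p := 65460) (l := 4) rfl N65460 D205094
theorem N101922 : nd 101922 = n205095 := ndS (p := 65460) (l := 6) rfl N65460 D205095
theorem N101923 : nd 101923 = n205096 := ndS (p := 65461) (l := 1) rfl N65461 D205096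
theorem N101924 : nd 101924 = n205097 := ndS (p := 65461) (l := 7) rfl N65461 D205097
theorem N101925 : nd 101925 = n205098 := ndS (p := 65462) (l := 6) rfl N65462 D205098
theorem N101926 : nd 101926 = n205099 := ndS (p := 65463) (l := 4) rfl N65463 D205099
theorem N101927 : nd 101927 = n205100 := ndS (p := 65464) (l := 3) rfl N65464 D205100
theorem N101928 : nd 101928 = n205101 := ndS (p := 65464) (l := 6) rfl N65464 D205101
theorem N101929 : nd 101929 = n205102 := ndS (p := 65466) (l := 5) rfl N65466 D205102
theorem N101930 : nd 101930 = n205103 := ndS (p := 65467) (l := 1) rfl N65467 D205103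
theorem N101931 : nd 101931 = n205104 := ndS (p := 65467) (l := 4) rfl N65467 D205104
theorem N101932 : nd 101932 = n205105 := ndS (p := 65468) (l := 3) rfl N65468 D205105
theorem N101933 : nd 101933 = n205106 := ndS (p := 65473) (l := 0) rfl N65473 D205106
theorem N101934 : nd 101934 = n205107 := ndS (p := 65473) (l := 1) rfl N65473 D205107
theorem N101935 : nd 101935 = n205108 := ndS (p := 65474) (l := 4) rfl N65474 D205108
theorem N101936 : nd 101936 = n205109 := ndS (p := 65478) (l := 5) rfl N65478 D205109
theorem N101937 : nd 101937 = n205110 := ndS (p := 65479) (l := 5) rfl N65479 D205110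
theorem N101938 : nd 101938 = n205111 := ndS (p := 65479) (l := 6) rfl N65479 D205111
theorem N101939 : nd 101939 = n205112 := ndS (p := 65480) (l := 1) rfl N65480 D205112
theorem N101940 : nd 101940 = n205113 := ndS (p := 65480) (l := 6) rfl N65480 D205113
theorem N101941 : nd 101941 = n205114 := ndS (p := 65481) (l := 0) rfl N65481 D205114
theorem N101942 : nd 101942 = n205115 := ndS (p := 65481) (l := 1) rfl N65481 D205115
theorem N101943 : nd 101943 = n205116 := ndS (p := 65481) (l := 3) rfl N65481 D205116
theorem N101944 : nd 101944 = n205117 := ndS (p := 65481) (l := 5) rfl N65481 D205117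
theorem N101945 : nd 101945 = n205119 := ndS (p := 65481) (l := 7) rfl N65481 D205119
theorem N101946 : nd 101946 = n205120 := ndS (p := 65482) (l := 0) rfl N65482 D205120
theorem N101947 : nd 101947 = n205121 := ndS (p := 65483) (l := 0) rfl N65483 D205121
theorem N101948 : nd 101948 = n205123 := ndS (p := 65483) (l := 5) rfl N65483 D205123
theorem N101949 : nd 101949 = n205124 := ndS (p := 65483) (l := 7) rfl N65483 D205124
theorem N101950 : nd 101950 = n205125 := ndS (p := 65484) (l := 6) rfl N65484 D205125
theorem N101951 : nd 101951 = n205126 := ndS (p := 65485) (l := 5) rfl N65485 D205126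
theorem N101952 : nd 101952 = n205127 := ndS (p := 65486) (l := 5) rfl N65486 D205127
theorem N101953 : nd 101953 = n205128 := ndS (p := 65488) (l := 1) rfl N65488 D205128
theorem N101954 : nd 101954 = n205129 := ndS (p := 65488) (l := 7) rfl N65488 D205129
theorem N101955 : nd 101955 = n205130 := ndS (p := 65489) (l := 0) rfl N65489 D205130
theorem N101956 : nd 101956 = n205131 := ndS (p := 65489) (l := 1) rfl N65489 D205131
theorem N101957 : nd 101957 = n205132 := ndS (p := 65489) (l := 4) rfl N65489 D205132
theorem N101958 : nd 101958 = n205133 := ndS (p := 65490) (l := 3) rfl N65490 D205133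
theorem N101959 : nd 101959 = n205134 := ndS (p := 65491) (l := 4) rfl N65491 D205134
theorem N101960 : nd 101960 = n205135 := ndS (p := 65492) (l := 0) rfl N65492 D205135
theorem N101961 : nd 101961 = n205136 := ndS (p := 65492) (l := 1) rfl N65492 D205136
theorem N101962 : nd 101962 = n205137 := ndS (p := 65492) (l := 7) rfl N65492 D205137
theorem N101963 : nd 101963 = n205138 := ndS (p := 65495) (l := 5) rfl N65495 D205138
theorem N101964 : nd 101964 = n205139 := ndS (p := 65496) (l := 0) rfl N65496 D205139
theorem N101965 : nd 101965 = n205140 := ndS (p := 65498) (l := 3) rfl N65498 D205140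
theorem N101966 : nd 101966 = n205141 := ndS (p := 65500) (l := 5) rfl N65500 D205141
theorem N101967 : nd 101967 = n205142 := ndS (p := 65501) (l := 1) rfl N65501 D205142
theorem N101968 : nd 101968 = n205143 := ndS (p := 65501) (l := 4) rfl N65501 D205143
theorem N101969 : nd 101969 = n205144 := ndS (p := 65503) (l := 0) rfl N65503 D205144
theorem N101970 : nd 101970 = n205145 := ndS (p := 65503) (l := 1) rfl N65503 D205145
theorem N101971 : nd 101971 = n205146 := ndS (p := 65503) (l := 7) rfl N65503 D205146
theorem N101972 : nd 101972 = n205147 := ndS (p := 65506) (l := 4) rfl N65506 D205147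
theorem N101973 : nd 101973 = n205148 := ndS (p := 65506) (l := 6) rfl N65506 D205148
theorem N101974 : nd 101974 = n205149 := ndS (p := 65507) (l := 3) rfl N65507 D205149
theorem N101975 : nd 101975 = n205150 := ndS (p := 65508) (l := 5) rfl N65508 D205150
theorem N101976 : nd 101976 = n205151 := ndS (p := 65508) (l := 6) rfl N65508 D205151
theorem N101977 : nd 101977 = n205152 := ndS (p := 65509) (l := 6) rfl N65509 D205152
theorem N101978 : nd 101978 = n205153 := ndS (p := 65511) (l := 1) rfl N65511 D205153
theorem N101979 : nd 101979 = n205154 := ndS (p := 65511) (l := 7) rfl N65511 D205154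
theorem N101980 : nd 101980 = n205155 := ndS (p := 65512) (l := 3) rfl N65512 D205155
theorem N101981 : nd 101981 = n205156 := ndS (p := 65512) (l := 5) rfl N65512 D205156
theorem N101982 : nd 101982 = n205157 := ndS (p := 65514) (l := 3) rfl N65514 D205157
theorem N101983 : nd 101983 = n205158 := ndS (p := 65514) (l := 6) rfl N65514 D205158
theorem N101984 : nd 101984 = n205159 := ndS (p := 65516) (l := 6) rfl N65516 D205159
theorem N101985 : nd 101985 = n205160 := ndS (p := 65517) (l := 6) rfl N65517 D205160
theorem N101986 : nd 101986 = n205161 := ndS (p := 65518) (l := 5) rfl N65518 D205161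
theorem N101987 : nd 101987 = n205162 := ndS (p := 65519) (l := 1) rfl N65519 D205162
theorem N101988 : nd 101988 = n205163 := ndS (p := 65519) (l := 5) rfl N65519 D205163
theorem N101989 : nd 101989 = n205164 := ndS (p := 65519) (l := 7) rfl N65519 D205164
theorem N101990 : nd 101990 = n205165 := ndS (p := 65520) (l := 5) rfl N65520 D205165
theorem N101991 : nd 101991 = n205166 := ndS (p := 65521) (l := 4) rfl N65521 D205166
theorem N101992 : nd 101992 = n205167 := ndS (p := 65523) (l := 6) rfl N65523 D205167
theorem N101993 : nd 101993 = n205168 := ndS (p := 65526) (l := 3) rfl N65526 D205168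
theorem N101994 : nd 101994 = n205169 := ndS (p := 65527) (l := 5) rfl N65527 D205169
theorem N101995 : nd 101995 = n205170 := ndS (p := 65527) (l := 6) rfl N65527 D205170
theorem N101996 : nd 101996 = n205171 := ndS (p := 65528) (l := 3) rfl N65528 D205171
theorem N101997 : nd 101997 = n205172 := ndS (p := 65528) (l := 5) rfl N65528 D205172
theorem N101998 : nd 101998 = n205173 := ndS (p := 65528) (l := 6) rfl N65528 D205173
theorem N101999 : nd 101999 = n205174 := ndS (p := 65528) (l := 7) rfl N65528 D205174
theorem N102000 : nd 102000 = n205175 := ndS (p := 65529) (l := 0) rfl N65529 D205175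
theorem N102001 : nd 102001 = n205176 := ndS (p := 65529) (l := 7) rfl N65529 D205176
theorem N102002 : nd 102002 = n205177 := ndS (p := 65532) (l := 0) rfl N65532 D205177
theorem N102003 : nd 102003 = n205178 := ndS (p := 65532) (l := 2) rfl N65532 D205178
theorem N102004 : nd 102004 = n205179 := ndS (p := 65534) (l := 4) rfl N65534 D205179
theorem N102005 : nd 102005 = n205180 := ndS (p := 65535) (l := 5) rfl N65535 D205180
theorem N102006 : nd 102006 = n205181 := ndS (p := 65536) (l := 4) rfl N65536 D205181
theorem N102007 : nd 102007 = n205182 := ndS (p := 65537) (l := 3) rfl N65537 D205182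
theorem N102008 : nd 102008 = n205183 := ndS (p := 65537) (l := 4) rfl N65537 D205183
theorem N102009 : nd 102009 = n205184 := ndS (p := 65538) (l := 3) rfl N65538 D205184
theorem N102010 : nd 102010 = n205185 := ndS (p := 65538) (l := 4) rfl N65538 D205185
theorem N102011 : nd 102011 = n205187 := ndS (p := 65539) (l := 1) rfl N65539 D205187
theorem N102012 : nd 102012 = n205188 := ndS (p := 65541) (l := 3) rfl N65541 D205188
theorem N102013 : nd 102013 = n205189 := ndS (p := 65541) (l := 5) rfl N65541 D205189
theorem N102014 : nd 102014 = n205190 := ndS (p := 65542) (l := 3) rfl N65542 D205190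
theorem N102015 : nd 102015 = n205191 := ndS (p := 65542) (l := 5) rfl N65542 D205191
theorem N102016 : nd 102016 = n205192 := ndS (p := 65546) (l := 6) rfl N65546 D205192
theorem N102017 : nd 102017 = n205193 := ndS (p := 65547) (l := 0) rfl N65547 D205193
theorem N102018 : nd 102018 = n205194 := ndS (p := 65547) (l := 5) rfl N65547 D205194
theorem N102019 : nd 102019 = n205195 := ndS (p := 65549) (l := 6) rfl N65549 D205195
theorem N102020 : nd 102020 = n205196 := ndS (p := 65551) (l := 3) rfl N65551 D205196
theorem N102021 : nd 102021 = n205197 := ndS (p := 65551) (l := 4) rfl N65551 D205197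
theorem N102022 : nd 102022 = n205198 := ndS (p := 65551) (l := 6) rfl N65551 D205198
theorem N102023 : nd 102023 = n205199 := ndS (p := 65555) (l := 4) rfl N65555 D205199
theorem N102024 : nd 102024 = n205200 := ndS (p := 65556) (l := 3) rfl N65556 D205200
theorem N102025 : nd 102025 = n205201 := ndS (p := 65556) (l := 4) rfl N65556 D205201
theorem N102026 : nd 102026 = n205202 := ndS (p := 65557) (l := 5) rfl N65557 D205202
theorem N102027 : nd 102027 = n205203 := ndS (p := 65558) (l := 4) rfl N65558 D205203
theorem N102028 : nd 102028 = n205204 := ndS (p := 65560) (l := 0) rfl N65560 D205204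
theorem N102029 : nd 102029 = n205205 := ndS (p := 65560) (l := 1) rfl N65560 D205205
theorem N102030 : nd 102030 = n205206 := ndS (p := 65561) (l := 3) rfl N65561 D205206
theorem N102031 : nd 102031 = n205207 := ndS (p := 65566) (l := 4) rfl N65566 D205207
theorem N102032 : nd 102032 = n205208 := ndS (p := 65568) (l := 5) rfl N65568 D205208
theorem N102033 : nd 102033 = n205209 := ndS (p := 65568) (l := 6) rfl N65568 D205209
theorem N102034 : nd 102034 = n205210 := ndS (p := 65570) (l := 0) rfl N65570 D205210
theorem N102035 : nd 102035 = n205211 := ndS (p := 65570) (l := 1) rfl N65570 D205211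
theorem N102036 : nd 102036 = n205212 := ndS (p := 65570) (l := 7) rfl N65570 D205212
theorem N102037 : nd 102037 = n205213 := ndS (p := 65576) (l := 4) rfl N65576 D205213
theorem N102038 : nd 102038 = n205214 := ndS (p := 65576) (l := 6) rfl N65576 D205214
theorem N102039 : nd 102039 = n205215 := ndS (p := 65578) (l := 0) rfl N65578 D205215
theorem N102040 : nd 102040 = n205216 := ndS (p := 65578) (l := 5) rfl N65578 D205216
theorem N102041 : nd 102041 = n205217 := ndS (p := 65578) (l := 7) rfl N65578 D205217
theorem N102042 : nd 102042 = n205218 := ndS (p := 65579) (l := 4) rfl N65579 D205218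
theorem N102043 : nd 102043 = n205219 := ndS (p := 65580) (l := 6) rfl N65580 D205219
theorem N102044 : nd 102044 = n205220 := ndS (p := 65581) (l := 1) rfl N65581 D205220
theorem N102045 : nd 102045 = n205221 := ndS (p := 65584) (l := 6) rfl N65584 D205221
theorem N102046 : nd 102046 = n205222 := ndS (p := 65585) (l := 6) rfl N65585 D205222
theorem N102047 : nd 102047 = n205223 := ndS (p := 65586) (l := 6) rfl N65586 D205223
theorem N102048 : nd 102048 = n205224 := ndS (p := 65587) (l := 1) rfl N65587 D205224
theorem N102049 : nd 102049 = n205225 := ndS (p := 65587) (l := 5) rfl N65587 D205225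
theorem N102050 : nd 102050 = n205226 := ndS (p := 65587) (l := 7) rfl N65587 D205226
theorem N102051 : nd 102051 = n205227 := ndS (p := 65588) (l := 6) rfl N65588 D205227
theorem N102052 : nd 102052 = n205228 := ndS (p := 65589) (l := 0) rfl N65589 D205228
theorem N102053 : nd 102053 = n205229 := ndS (p := 65589) (l := 1) rfl N65589 D205229
theorem N102054 : nd 102054 = n205230 := ndS (p := 65589) (l := 5) rfl N65589 D205230
theorem N102055 : nd 102055 = n205231 := ndS (p := 65589) (l := 7) rfl N65589 D205231
theorem N102056 : nd 102056 = n205232 := ndS (p := 65591) (l := 3) rfl N65591 D205232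
theorem N102057 : nd 102057 = n205233 := ndS (p := 65591) (l := 6) rfl N65591 D205233
theorem N102058 : nd 102058 = n205234 := ndS (p := 65592) (l := 1) rfl N65592 D205234
theorem N102059 : nd 102059 = n205235 := ndS (p := 65592) (l := 6) rfl N65592 D205235
theorem N102060 : nd 102060 = n205236 := ndS (p := 65593) (l := 0) rfl N65593 D205236
theorem N102061 : nd 102061 = n205237 := ndS (p := 65593) (l := 5) rfl N65593 D205237
theorem N102062 : nd 102062 = n205238 := ndS (p := 65593) (l := 7) rfl N65593 D205238
theorem N102063 : nd 102063 = n205239 := ndS (p := 65594) (l := 4) rfl N65594 D205239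
theorem N102064 : nd 102064 = n205240 := ndS (p := 65595) (l := 4) rfl N65595 D205240
theorem N102065 : nd 102065 = n205241 := ndS (p := 65596) (l := 0) rfl N65596 D205241
theorem N102066 : nd 102066 = n205242 := ndS (p := 65596) (l := 1) rfl N65596 D205242
theorem N102067 : nd 102067 = n205243 := ndS (p := 65596) (l := 4) rfl N65596 D205243
theorem N102068 : nd 102068 = n205244 := ndS (p := 65596) (l := 7) rfl N65596 D205244
theorem N102069 : nd 102069 = n205245 := ndS (p := 65598) (l := 6) rfl N65598 D205245
theorem N102070 : nd 102070 = n205246 := ndS (p := 65599) (l := 5) rfl N65599 D205246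
theorem N102071 : nd 102071 = n205247 := ndS (p := 65599) (l := 7) rfl N65599 D205247
theorem N102072 : nd 102072 = n205248 := ndS (p := 65600) (l := 5) rfl N65600 D205248
theorem N102073 : nd 102073 = n205249 := ndS (p := 65600) (l := 6) rfl N65600 D205249
theorem N102074 : nd 102074 = n205250 := ndS (p := 65601) (l := 3) rfl N65601 D205250
theorem N102075 : nd 102075 = n205251 := ndS (p := 65601) (l := 5) rfl N65601 D205251
theorem N102076 : nd 102076 = n205252 := ndS (p := 65604) (l := 0) rfl N65604 D205252
theorem N102077 : nd 102077 = n205253 := ndS (p := 65608) (l := 3) rfl N65608 D205253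
theorem N102078 : nd 102078 = n205254 := ndS (p := 65613) (l := 3) rfl N65613 D205254
theorem N102079 : nd 102079 = n205255 := ndS (p := 65615) (l := 3) rfl N65615 D205255
theorem N102080 : nd 102080 = n205256 := ndS (p := 65617) (l := 7) rfl N65617 D205256
theorem N102081 : nd 102081 = n205257 := ndS (p := 65618) (l := 4) rfl N65618 D205257
theorem N102082 : nd 102082 = n205258 := ndS (p := 65619) (l := 3) rfl N65619 D205258
theorem N102083 : nd 102083 = n205259 := ndS (p := 65622) (l := 4) rfl N65622 D205259
theorem N102084 : nd 102084 = n205260 := ndS (p := 65624) (l := 3) rfl N65624 D205260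
theorem N102085 : nd 102085 = n205261 := ndS (p := 65624) (l := 4) rfl N65624 D205261
theorem N102086 : nd 102086 = n205262 := ndS (p := 65624) (l := 6) rfl N65624 D205262
theorem N102087 : nd 102087 = n205263 := ndS (p := 65625) (l := 3) rfl N65625 D205263
theorem N102088 : nd 102088 = n205264 := ndS (p := 65625) (l := 4) rfl N65625 D205264
theorem N102089 : nd 102089 = n205265 := ndS (p := 65625) (l := 6) rfl N65625 D205265
theorem N102090 : nd 102090 = n205266 := ndS (p := 65628) (l := 0) rfl N65628 D205266
theorem N102091 : nd 102091 = n205267 := ndS (p := 65629) (l := 1) rfl N65629 D205267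
theorem N102092 : nd 102092 = n205268 := ndS (p := 65629) (l := 5) rfl N65629 D205268
theorem N102093 : nd 102093 = n205269 := ndS (p := 65629) (l := 6) rfl N65629 D205269
theorem N102094 : nd 102094 = n205270 := ndS (p := 65634) (l := 4) rfl N65634 D205270
theorem N102095 : nd 102095 = n205271 := ndS (p := 65634) (l := 6) rfl N65634 D205271
theorem N102096 : nd 102096 = n205272 := ndS (p := 65635) (l := 5) rfl N65635 D205272
theorem N102097 : nd 102097 = n205273 := ndS (p := 65636) (l := 3) rfl N65636 D205273
theorem N102098 : nd 102098 = n205274 := ndS (p := 65636) (l := 6) rfl N65636 D205274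
theorem N102099 : nd 102099 = n205275 := ndS (p := 65637) (l := 3) rfl N65637 D205275
theorem N102100 : nd 102100 = n205276 := ndS (p := 65639) (l := 1) rfl N65639 D205276
theorem N102101 : nd 102101 = n205277 := ndS (p := 65639) (l := 7) rfl N65639 D205277
theorem N102102 : nd 102102 = n205278 := ndS (p := 65640) (l := 6) rfl N65640 D205278
theorem N102103 : nd 102103 = n205279 := ndS (p := 65642) (l := 0) rfl N65642 D205279
theorem N102104 : nd 102104 = n205280 := ndS (p := 65642) (l := 7) rfl N65642 D205280
theorem N102105 : nd 102105 = n205281 := ndS (p := 65644) (l := 6) rfl N65644 D205281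
theorem N102106 : nd 102106 = n205282 := ndS (p := 65646) (l := 6) rfl N65646 D205282
theorem N102107 : nd 102107 = n205283 := ndS (p := 65648) (l := 4) rfl N65648 D205283
theorem N102108 : nd 102108 = n205284 := ndS (p := 65649) (l := 6) rfl N65649 D205284
theorem N102109 : nd 102109 = n205285 := ndS (p := 65650) (l := 3) rfl N65650 D205285
theorem N102110 : nd 102110 = n205286 := ndS (p := 65650) (l := 5) rfl N65650 D205286
theorem N102111 : nd 102111 = n205287 := ndS (p := 65654) (l := 5) rfl N65654 D205287
theorem N102112 : nd 102112 = n205288 := ndS (p := 65654) (l := 6) rfl N65654 D205288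
theorem N102113 : nd 102113 = n205289 := ndS (p := 65655) (l := 3) rfl N65655 D205289
theorem N102114 : nd 102114 = n205290 := ndS (p := 65655) (l := 5) rfl N65655 D205290
theorem N102115 : nd 102115 = n205291 := ndS (p := 65661) (l := 5) rfl N65661 D205291
theorem N102116 : nd 102116 = n205292 := ndS (p := 65666) (l := 6) rfl N65666 D205292
theorem N102117 : nd 102117 = n205293 := ndS (p := 65668) (l := 0) rfl N65668 D205293
theorem N102118 : nd 102118 = n205294 := ndS (p := 65670) (l := 3) rfl N65670 D205294
theorem N102119 : nd 102119 = n205295 := ndS (p := 65670) (l := 6) rfl N65670 D205295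
theorem N102120 : nd 102120 = n205296 := ndS (p := 65671) (l := 7) rfl N65671 D205296
theorem N102121 : nd 102121 = n205297 := ndS (p := 65673) (l := 2) rfl N65673 D205297
theorem N102122 : nd 102122 = n205298 := ndS (p := 65673) (l := 4) rfl N65673 D205298
theorem N102123 : nd 102123 = n205299 := ndS (p := 65673) (l := 6) rfl N65673 D205299
theorem N102124 : nd 102124 = n205300 := ndS (p := 65674) (l := 0) rfl N65674 D205300
theorem N102125 : nd 102125 = n205301 := ndS (p := 65674) (l := 1) rfl N65674 D205301
theorem N102126 : nd 102126 = n205302 := ndS (p := 65675) (l := 2) rfl N65675 D205302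
theorem N102127 : nd 102127 = n205303 := ndS (p := 65675) (l := 4) rfl N65675 D205303
theorem N102128 : nd 102128 = n205304 := ndS (p := 65677) (l := 3) rfl N65677 D205304
theorem N102129 : nd 102129 = n205305 := ndS (p := 65677) (l := 6) rfl N65677 D205305
theorem N102130 : nd 102130 = n205306 := ndS (p := 65678) (l := 0) rfl N65678 D205306
theorem N102131 : nd 102131 = n205307 := ndS (p := 65678) (l := 1) rfl N65678 D205307
theorem N102132 : nd 102132 = n205308 := ndS (p := 65680) (l := 4) rfl N65680 D205308
theorem N102133 : nd 102133 = n205309 := ndS (p := 65680) (l := 6) rfl N65680 D205309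
theorem N102134 : nd 102134 = n205310 := ndS (p := 65682) (l := 4) rfl N65682 D205310
theorem N102135 : nd 102135 = n205311 := ndS (p := 65684) (l := 3) rfl N65684 D205311
theorem N102136 : nd 102136 = n205312 := ndS (p := 65684) (l := 6) rfl N65684 D205312
theorem N102137 : nd 102137 = n205313 := ndS (p := 65685) (l := 3) rfl N65685 D205313
theorem N102138 : nd 102138 = n205314 := ndS (p := 65685) (l := 7) rfl N65685 D205314
theorem N102139 : nd 102139 = n205315 := ndS (p := 65689) (l := 3) rfl N65689 D205315
theorem N102140 : nd 102140 = n205316 := ndS (p := 65696) (l := 1) rfl N65696 D205316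
theorem N102141 : nd 102141 = n205317 := ndS (p := 65697) (l := 4) rfl N65697 D205317
theorem N102142 : nd 102142 = n205318 := ndS (p := 65705) (l := 1) rfl N65705 D205318
theorem N102143 : nd 102143 = n205319 := ndS (p := 65706) (l := 6) rfl N65706 D205319
theorem N102144 : nd 102144 = n205320 := ndS (p := 65708) (l := 6) rfl N65708 D205320
theorem N102145 : nd 102145 = n205322 := ndS (p := 65709) (l := 5) rfl N65709 D205322
theorem N102146 : nd 102146 = n205323 := ndS (p := 65709) (l := 7) rfl N65709 D205323
theorem N102147 : nd 102147 = n205324 := ndS (p := 65711) (l := 3) rfl N65711 D205324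
theorem N102148 : nd 102148 = n205325 := ndS (p := 65715) (l := 1) rfl N65715 D205325
theorem N102149 : nd 102149 = n205326 := ndS (p := 65718) (l := 5) rfl N65718 D205326
theorem N102150 : nd 102150 = n205327 := ndS (p := 65719) (l := 4) rfl N65719 D205327
theorem N102151 : nd 102151 = n205329 := ndS (p := 65721) (l := 5) rfl N65721 D205329
theorem N102152 : nd 102152 = n205330 := ndS (p := 65722) (l := 5) rfl N65722 D205330
theorem N102153 : nd 102153 = n205331 := ndS (p := 65723) (l := 4) rfl N65723 D205331
theorem N102154 : nd 102154 = n205332 := ndS (p := 65723) (l := 6) rfl N65723 D205332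
theorem N102155 : nd 102155 = n205333 := ndS (p := 65724) (l := 4) rfl N65724 D205333
theorem N102156 : nd 102156 = n205334 := ndS (p := 65725) (l := 3) rfl N65725 D205334
theorem N102157 : nd 102157 = n205335 := ndS (p := 65725) (l := 6) rfl N65725 D205335
theorem N102158 : nd 102158 = n205336 := ndS (p := 65726) (l := 3) rfl N65726 D205336
theorem N102159 : nd 102159 = n205337 := ndS (p := 65726) (l := 4) rfl N65726 D205337
theorem N102160 : nd 102160 = n205338 := ndS (p := 65727) (l := 0) rfl N65727 D205338
theorem N102161 : nd 102161 = n205339 := ndS (p := 65727) (l := 6) rfl N65727 D205339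
theorem N102162 : nd 102162 = n205340 := ndS (p := 65729) (l := 6) rfl N65729 D205340
theorem N102163 : nd 102163 = n205341 := ndS (p := 65732) (l := 0) rfl N65732 D205341
theorem N102164 : nd 102164 = n205342 := ndS (p := 65732) (l := 7) rfl N65732 D205342
theorem N102165 : nd 102165 = n205343 := ndS (p := 65736) (l := 5) rfl N65736 D205343
theorem N102166 : nd 102166 = n205344 := ndS (p := 65737) (l := 6) rfl N65737 D205344
theorem N102167 : nd 102167 = n205345 := ndS (p := 65738) (l := 2) rfl N65738 D205345
theorem N102168 : nd 102168 = n205346 := ndS (p := 65738) (l := 6) rfl N65738 D205346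
theorem N102169 : nd 102169 = n205347 := ndS (p := 65739) (l := 4) rfl N65739 D205347
theorem N102170 : nd 102170 = n205348 := ndS (p := 65739) (l := 6) rfl N65739 D205348
theorem N102171 : nd 102171 = n205349 := ndS (p := 65742) (l := 0) rfl N65742 D205349
theorem N102172 : nd 102172 = n205350 := ndS (p := 65742) (l := 5) rfl N65742 D205350
theorem N102173 : nd 102173 = n205351 := ndS (p := 65742) (l := 7) rfl N65742 D205351
theorem N102174 : nd 102174 = n205352 := ndS (p := 65743) (l := 3) rfl N65743 D205352
theorem N102175 : nd 102175 = n205353 := ndS (p := 65743) (l := 4) rfl N65743 D205353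
theorem N102176 : nd 102176 = n205354 := ndS (p := 65744) (l := 0) rfl N65744 D205354
theorem N102177 : nd 102177 = n205355 := ndS (p := 65745) (l := 3) rfl N65745 D205355
theorem N102178 : nd 102178 = n205356 := ndS (p := 65747) (l := 0) rfl N65747 D205356
theorem N102179 : nd 102179 = n205357 := ndS (p := 65749) (l := 6) rfl N65749 D205357
theorem N102180 : nd 102180 = n205358 := ndS (p := 65750) (l := 7) rfl N65750 D205358
theorem N102181 : nd 102181 = n205359 := ndS (p := 65755) (l := 5) rfl N65755 D205359
theorem N102182 : nd 102182 = n205360 := ndS (p := 65755) (l := 6) rfl N65755 D205360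
theorem N102183 : nd 102183 = n205361 := ndS (p := 65756) (l := 4) rfl N65756 D205361
theorem N102184 : nd 102184 = n205362 := ndS (p := 65756) (l := 7) rfl N65756 D205362
theorem N102185 : nd 102185 = n205363 := ndS (p := 65757) (l := 1) rfl N65757 D205363
theorem N102186 : nd 102186 = n205364 := ndS (p := 65759) (l := 4) rfl N65759 D205364
theorem N102187 : nd 102187 = n205365 := ndS (p := 65759) (l := 6) rfl N65759 D205365
theorem N102188 : nd 102188 = n205366 := ndS (p := 65760) (l := 0) rfl N65760 D205366
theorem N102189 : nd 102189 = n205367 := ndS (p := 65760) (l := 1) rfl N65760 D205367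
theorem N102190 : nd 102190 = n205368 := ndS (p := 65760) (l := 3) rfl N65760 D205368
theorem N102191 : nd 102191 = n205369 := ndS (p := 65760) (l := 7) rfl N65760 D205369
theorem N102192 : nd 102192 = n205370 := ndS (p := 65764) (l := 0) rfl N65764 D205370
theorem N102193 : nd 102193 = n205371 := ndS (p := 65764) (l := 6) rfl N65764 D205371
theorem N102194 : nd 102194 = n205372 := ndS (p := 65767) (l := 3) rfl N65767 D205372
theorem N102195 : nd 102195 = n205373 := ndS (p := 65769) (l := 0) rfl N65769 D205373
theorem N102196 : nd 102196 = n205374 := ndS (p := 65769) (l := 1) rfl N65769 D205374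
theorem N102197 : nd 102197 = n205375 := ndS (p := 65770) (l := 7) rfl N65770 D205375
theorem N102198 : nd 102198 = n205376 := ndS (p := 65772) (l := 3) rfl N65772 D205376
theorem N102199 : nd 102199 = n205377 := ndS (p := 65772) (l := 6) rfl N65772 D205377
theorem N102200 : nd 102200 = n205378 := ndS (p := 65773) (l := 1) rfl N65773 D205378
theorem N102201 : nd 102201 = n205379 := ndS (p := 65777) (l := 3) rfl N65777 D205379
theorem N102202 : nd 102202 = n205380 := ndS (p := 65777) (l := 6) rfl N65777 D205380
theorem N102203 : nd 102203 = n205381 := ndS (p := 65778) (l := 3) rfl N65778 D205381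
theorem N102204 : nd 102204 = n205382 := ndS (p := 65778) (l := 5) rfl N65778 D205382
theorem N102205 : nd 102205 = n205383 := ndS (p := 65778) (l := 6) rfl N65778 D205383
theorem N102206 : nd 102206 = n205384 := ndS (p := 65779) (l := 0) rfl N65779 D205384
theorem N102207 : nd 102207 = n205385 := ndS (p := 65779) (l := 1) rfl N65779 D205385
theorem N102208 : nd 102208 = n205386 := ndS (p := 65779) (l := 5) rfl N65779 D205386
theorem N102209 : nd 102209 = n205387 := ndS (p := 65783) (l := 6) rfl N65783 D205387
theorem N102210 : nd 102210 = n205388 := ndS (p := 65785) (l := 6) rfl N65785 D205388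
theorem N102211 : nd 102211 = n205389 := ndS (p := 65787) (l := 3) rfl N65787 D205389
theorem N102212 : nd 102212 = n205390 := ndS (p := 65788) (l := 3) rfl N65788 D205390
theorem N102213 : nd 102213 = n205391 := ndS (p := 65790) (l := 4) rfl N65790 D205391
theorem N102214 : nd 102214 = n205392 := ndS (p := 65790) (l := 6) rfl N65790 D205392
theorem N102215 : nd 102215 = n205393 := ndS (p := 65791) (l := 5) rfl N65791 D205393
theorem N102216 : nd 102216 = n205394 := ndS (p := 65791) (l := 6) rfl N65791 D205394
theorem N102217 : nd 102217 = n205395 := ndS (p := 65792) (l := 1) rfl N65792 D205395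
theorem N102218 : nd 102218 = n205396 := ndS (p := 65792) (l := 5) rfl N65792 D205396
theorem N102219 : nd 102219 = n205397 := ndS (p := 65792) (l := 7) rfl N65792 D205397
theorem N102220 : nd 102220 = n205398 := ndS (p := 65793) (l := 5) rfl N65793 D205398
theorem N102221 : nd 102221 = n205399 := ndS (p := 65794) (l := 5) rfl N65794 D205399
theorem N102222 : nd 102222 = n205400 := ndS (p := 65794) (l := 6) rfl N65794 D205400
theorem N102223 : nd 102223 = n205401 := ndS (p := 65799) (l := 1) rfl N65799 D205401
theorem N102224 : nd 102224 = n205402 := ndS (p := 65800) (l := 3) rfl N65800 D205402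
theorem N102225 : nd 102225 = n205403 := ndS (p := 65800) (l := 4) rfl N65800 D205403
theorem N102226 : nd 102226 = n205404 := ndS (p := 65800) (l := 6) rfl N65800 D205404
theorem N102227 : nd 102227 = n205405 := ndS (p := 65803) (l := 1) rfl N65803 D205405
theorem N102228 : nd 102228 = n205406 := ndS (p := 65804) (l := 5) rfl N65804 D205406
theorem N102229 : nd 102229 = n205407 := ndS (p := 65805) (l := 3) rfl N65805 D205407
theorem N102230 : nd 102230 = n205408 := ndS (p := 65805) (l := 5) rfl N65805 D205408
theorem N102231 : nd 102231 = n205409 := ndS (p := 65806) (l := 0) rfl N65806 D205409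
theorem N102232 : nd 102232 = n205410 := ndS (p := 65806) (l := 1) rfl N65806 D205410
theorem N102233 : nd 102233 = n205411 := ndS (p := 65808) (l := 0) rfl N65808 D205411
theorem N102234 : nd 102234 = n205412 := ndS (p := 65808) (l := 2) rfl N65808 D205412
theorem N102235 : nd 102235 = n205413 := ndS (p := 65809) (l := 0) rfl N65809 D205413
theorem N102236 : nd 102236 = n205414 := ndS (p := 65809) (l := 6) rfl N65809 D205414
theorem N102237 : nd 102237 = n205415 := ndS (p := 65810) (l := 2) rfl N65810 D205415
theorem N102238 : nd 102238 = n205416 := ndS (p := 65810) (l := 4) rfl N65810 D205416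
theorem N102239 : nd 102239 = n205417 := ndS (p := 65810) (l := 5) rfl N65810 D205417
theorem N102240 : nd 102240 = n205418 := ndS (p := 65810) (l := 6) rfl N65810 D205418
theorem N102241 : nd 102241 = n205419 := ndS (p := 65811) (l := 5) rfl N65811 D205419
theorem N102242 : nd 102242 = n205420 := ndS (p := 65814) (l := 5) rfl N65814 D205420
theorem N102243 : nd 102243 = n205421 := ndS (p := 65815) (l := 3) rfl N65815 D205421
theorem N102244 : nd 102244 = n205422 := ndS (p := 65815) (l := 5) rfl N65815 D205422
theorem N102245 : nd 102245 = n205423 := ndS (p := 65815) (l := 6) rfl N65815 D205423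
theorem N102246 : nd 102246 = n205424 := ndS (p := 65816) (l := 5) rfl N65816 D205424
theorem N102247 : nd 102247 = n205425 := ndS (p := 65817) (l := 0) rfl N65817 D205425
theorem N102248 : nd 102248 = n205426 := ndS (p := 65817) (l := 1) rfl N65817 D205426
theorem N102249 : nd 102249 = n205427 := ndS (p := 65823) (l := 6) rfl N65823 D205427
theorem N102250 : nd 102250 = n205428 := ndS (p := 65829) (l := 5) rfl N65829 D205428
theorem N102251 : nd 102251 = n205429 := ndS (p := 65830) (l := 6) rfl N65830 D205429
theorem N102252 : nd 102252 = n205430 := ndS (p := 65833) (l := 4) rfl N65833 D205430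
theorem N102253 : nd 102253 = n205431 := ndS (p := 65834) (l := 5) rfl N65834 D205431
theorem N102254 : nd 102254 = n205432 := ndS (p := 65835) (l := 4) rfl N65835 D205432
theorem N102255 : nd 102255 = n205433 := ndS (p := 65837) (l := 3) rfl N65837 D205433
theorem N102256 : nd 102256 = n205434 := ndS (p := 65840) (l := 6) rfl N65840 D205434
theorem N102257 : nd 102257 = n205435 := ndS (p := 65842) (l := 4) rfl N65842 D205435
theorem N102258 : nd 102258 = n205436 := ndS (p := 65843) (l := 6) rfl N65843 D205436
theorem N102259 : nd 102259 = n205437 := ndS (p := 65844) (l := 1) rfl N65844 D205437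
theorem N102260 : nd 102260 = n205438 := ndS (p := 65844) (l := 4) rfl N65844 D205438
theorem N102261 : nd 102261 = n205439 := ndS (p := 65844) (l := 7) rfl N65844 D205439
theorem N102262 : nd 102262 = n205440 := ndS (p := 65846) (l := 2) rfl N65846 D205440
theorem N102263 : nd 102263 = n205441 := ndS (p := 65847) (l := 4) rfl N65847 D205441
theorem N102264 : nd 102264 = n205442 := ndS (p := 65850) (l := 3) rfl N65850 D205442
theorem N102265 : nd 102265 = n205443 := ndS (p := 65850) (l := 4) rfl N65850 D205443
theorem N102266 : nd 102266 = n205444 := ndS (p := 65850) (l := 6) rfl N65850 D205444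
theorem N102267 : nd 102267 = n205445 := ndS (p := 65851) (l := 1) rfl N65851 D205445
theorem N102268 : nd 102268 = n205446 := ndS (p := 65851) (l := 5) rfl N65851 D205446
theorem N102269 : nd 102269 = n205447 := ndS (p := 65856) (l := 0) rfl N65856 D205447
theorem N102270 : nd 102270 = n205448 := ndS (p := 65856) (l := 3) rfl N65856 D205448
theorem N102271 : nd 102271 = n205449 := ndS (p := 65856) (l := 5) rfl N65856 D205449
theorem N102272 : nd 102272 = n205450 := ndS (p := 65861) (l := 5) rfl N65861 D205450
theorem N102273 : nd 102273 = n205451 := ndS (p := 65868) (l := 4) rfl N65868 D205451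
theorem N102274 : nd 102274 = n205452 := ndS (p := 65869) (l := 3) rfl N65869 D205452
theorem N102275 : nd 102275 = n205453 := ndS (p := 65869) (l := 6) rfl N65869 D205453
theorem N102276 : nd 102276 = n205454 := ndS (p := 65870) (l := 6) rfl N65870 D205454
theorem N102277 : nd 102277 = n205455 := ndS (p := 65872) (l := 0) rfl N65872 D205455
theorem N102278 : nd 102278 = n205456 := ndS (p := 65875) (l := 2) rfl N65875 D205456
theorem N102279 : nd 102279 = n205457 := ndS (p := 65875) (l := 6) rfl N65875 D205457
theorem N102280 : nd 102280 = n205458 := ndS (p := 65877) (l := 2) rfl N65877 D205458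
theorem N102281 : nd 102281 = n205459 := ndS (p := 65878) (l := 3) rfl N65878 D205459
theorem N102282 : nd 102282 = n205460 := ndS (p := 65878) (l := 4) rfl N65878 D205460
theorem N102283 : nd 102283 = n205461 := ndS (p := 65879) (l := 0) rfl N65879 D205461
theorem N102284 : nd 102284 = n205462 := ndS (p := 65879) (l := 1) rfl N65879 D205462
theorem N102285 : nd 102285 = n205463 := ndS (p := 65879) (l := 5) rfl N65879 D205463
theorem N102286 : nd 102286 = n205464 := ndS (p := 65881) (l := 2) rfl N65881 D205464
theorem N102287 : nd 102287 = n205465 := ndS (p := 65881) (l := 5) rfl N65881 D205465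
theorem N102288 : nd 102288 = n205466 := ndS (p := 65882) (l := 6) rfl N65882 D205466
theorem N102289 : nd 102289 = n205467 := ndS (p := 65885) (l := 6) rfl N65885 D205467
theorem N102290 : nd 102290 = n205468 := ndS (p := 65886) (l := 4) rfl N65886 D205468
theorem N102291 : nd 102291 = n205469 := ndS (p := 65890) (l := 5) rfl N65890 D205469
theorem N102292 : nd 102292 = n205470 := ndS (p := 65891) (l := 6) rfl N65891 D205470
theorem N102293 : nd 102293 = n205471 := ndS (p := 65894) (l := 3) rfl N65894 D205471
theorem N102294 : nd 102294 = n205472 := ndS (p := 65894) (l := 6) rfl N65894 D205472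
theorem N102295 : nd 102295 = n205473 := ndS (p := 65900) (l := 6) rfl N65900 D205473
theorem N102296 : nd 102296 = n205474 := ndS (p := 65901) (l := 4) rfl N65901 D205474
theorem N102297 : nd 102297 = n205475 := ndS (p := 65901) (l := 6) rfl N65901 D205475
theorem N102298 : nd 102298 = n205476 := ndS (p := 65902) (l := 3) rfl N65902 D205476
theorem N102299 : nd 102299 = n205477 := ndS (p := 65903) (l := 0) rfl N65903 D205477
theorem N102300 : nd 102300 = n205478 := ndS (p := 65903) (l := 1) rfl N65903 D205478
theorem N102301 : nd 102301 = n205479 := ndS (p := 65905) (l := 6) rfl N65905 D205479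
theorem N102302 : nd 102302 = n205480 := ndS (p := 65906) (l := 3) rfl N65906 D205480
theorem N102303 : nd 102303 = n205481 := ndS (p := 65908) (l := 0) rfl N65908 D205481
theorem N102304 : nd 102304 = n205482 := ndS (p := 65912) (l := 0) rfl N65912 D205482
theorem N102305 : nd 102305 = n205483 := ndS (p := 65912) (l := 1) rfl N65912 D205483
theorem N102306 : nd 102306 = n205484 := ndS (p := 65912) (l := 5) rfl N65912 D205484
theorem N102307 : nd 102307 = n205485 := ndS (p := 65912) (l := 6) rfl N65912 D205485
theorem N102308 : nd 102308 = n205486 := ndS (p := 65913) (l := 5) rfl N65913 D205486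
theorem N102309 : nd 102309 = n205487 := ndS (p := 65913) (l := 7) rfl N65913 D205487
theorem N102310 : nd 102310 = n205488 := ndS (p := 65914) (l := 6) rfl N65914 D205488
theorem N102311 : nd 102311 = n205489 := ndS (p := 65915) (l := 5) rfl N65915 D205489
theorem N102312 : nd 102312 = n205490 := ndS (p := 65915) (l := 6) rfl N65915 D205490
theorem N102313 : nd 102313 = n205491 := ndS (p := 65916) (l := 1) rfl N65916 D205491
theorem N102314 : nd 102314 = n205492 := ndS (p := 65916) (l := 5) rfl N65916 D205492
theorem N102315 : nd 102315 = n205493 := ndS (p := 65916) (l := 7) rfl N65916 D205493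
theorem N102316 : nd 102316 = n205494 := ndS (p := 65918) (l := 3) rfl N65918 D205494
theorem N102317 : nd 102317 = n205495 := ndS (p := 65918) (l := 4) rfl N65918 D205495
theorem N102318 : nd 102318 = n205496 := ndS (p := 65919) (l := 0) rfl N65919 D205496
theorem N102319 : nd 102319 = n205497 := ndS (p := 65919) (l := 4) rfl N65919 D205497
theorem N102320 : nd 102320 = n205498 := ndS (p := 65921) (l := 3) rfl N65921 D205498
theorem N102321 : nd 102321 = n205499 := ndS (p := 65922) (l := 3) rfl N65922 D205499
theorem N102322 : nd 102322 = n205500 := ndS (p := 65925) (l := 4) rfl N65925 D205500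
theorem N102323 : nd 102323 = n205501 := ndS (p := 65930) (l := 3) rfl N65930 D205501
theorem N102324 : nd 102324 = n205502 := ndS (p := 65930) (l := 5) rfl N65930 D205502
theorem N102325 : nd 102325 = n205503 := ndS (p := 65938) (l := 5) rfl N65938 D205503
theorem N102326 : nd 102326 = n205504 := ndS (p := 65938) (l := 7) rfl N65938 D205504
theorem N102327 : nd 102327 = n205505 := ndS (p := 65939) (l := 4) rfl N65939 D205505
theorem N102328 : nd 102328 = n205506 := ndS (p := 65944) (l := 5) rfl N65944 D205506
theorem N102329 : nd 102329 = n205507 := ndS (p := 65945) (l := 4) rfl N65945 D205507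
theorem N102330 : nd 102330 = n205508 := ndS (p := 65948) (l := 5) rfl N65948 D205508
theorem N102331 : nd 102331 = n205509 := ndS (p := 65951) (l := 6) rfl N65951 D205509
theorem N102332 : nd 102332 = n205510 := ndS (p := 65952) (l := 1) rfl N65952 D205510
theorem N102333 : nd 102333 = n205511 := ndS (p := 65954) (l := 6) rfl N65954 D205511
theorem N102334 : nd 102334 = n205512 := ndS (p := 65955) (l := 1) rfl N65955 D205512
theorem N102335 : nd 102335 = n205513 := ndS (p := 65955) (l := 5) rfl N65955 D205513
theorem N102336 : nd 102336 = n205514 := ndS (p := 65955) (l := 7) rfl N65955 D205514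
theorem N102337 : nd 102337 = n205515 := ndS (p := 65956) (l := 6) rfl N65956 D205515
theorem N102338 : nd 102338 = n205516 := ndS (p := 65957) (l := 5) rfl N65957 D205516
theorem N102339 : nd 102339 = n205517 := ndS (p := 65957) (l := 6) rfl N65957 D205517
theorem N102340 : nd 102340 = n205518 := ndS (p := 65960) (l := 0) rfl N65960 D205518
theorem N102341 : nd 102341 = n205519 := ndS (p := 65960) (l := 7) rfl N65960 D205519
theorem N102342 : nd 102342 = n205520 := ndS (p := 65963) (l := 1) rfl N65963 D205520
theorem N102343 : nd 102343 = n205521 := ndS (p := 65963) (l := 7) rfl N65963 D205521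
theorem N102344 : nd 102344 = n205522 := ndS (p := 65964) (l := 6) rfl N65964 D205522
theorem N102345 : nd 102345 = n205523 := ndS (p := 65965) (l := 5) rfl N65965 D205523
theorem N102346 : nd 102346 = n205524 := ndS (p := 65966) (l := 4) rfl N65966 D205524
theorem N102347 : nd 102347 = n205525 := ndS (p := 65966) (l := 6) rfl N65966 D205525
theorem N102348 : nd 102348 = n205526 := ndS (p := 65967) (l := 6) rfl N65967 D205526
theorem N102349 : nd 102349 = n205527 := ndS (p := 65968) (l := 4) rfl N65968 D205527
theorem N102350 : nd 102350 = n205528 := ndS (p := 65971) (l := 5) rfl N65971 D205528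
theorem N102351 : nd 102351 = n205529 := ndS (p := 65973) (l := 3) rfl N65973 D205529
theorem N102352 : nd 102352 = n205530 := ndS (p := 65973) (l := 6) rfl N65973 D205530
theorem N102353 : nd 102353 = n205531 := ndS (p := 65974) (l := 6) rfl N65974 D205531
theorem N102354 : nd 102354 = n205532 := ndS (p := 65975) (l := 0) rfl N65975 D205532
theorem N102355 : nd 102355 = n205533 := ndS (p := 65975) (l := 7) rfl N65975 D205533
theorem N102356 : nd 102356 = n205534 := ndS (p := 65977) (l := 7) rfl N65977 D205534
theorem N102357 : nd 102357 = n205535 := ndS (p := 65979) (l := 6) rfl N65979 D205535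
theorem N102358 : nd 102358 = n205536 := ndS (p := 65982) (l := 0) rfl N65982 D205536
theorem N102359 : nd 102359 = n205537 := ndS (p := 65982) (l := 1) rfl N65982 D205537
theorem N102360 : nd 102360 = n205538 := ndS (p := 65983) (l := 4) rfl N65983 D205538
theorem N102361 : nd 102361 = n205539 := ndS (p := 65984) (l := 0) rfl N65984 D205539
theorem N102362 : nd 102362 = n205540 := ndS (p := 65984) (l := 1) rfl N65984 D205540
theorem N102363 : nd 102363 = n205541 := ndS (p := 65984) (l := 6) rfl N65984 D205541
theorem N102364 : nd 102364 = n205542 := ndS (p := 65985) (l := 0) rfl N65985 D205542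
theorem N102365 : nd 102365 = n205543 := ndS (p := 65985) (l := 5) rfl N65985 D205543
theorem N102366 : nd 102366 = n205544 := ndS (p := 65988) (l := 0) rfl N65988 D205544
theorem N102367 : nd 102367 = n205545 := ndS (p := 65989) (l := 3) rfl N65989 D205545
theorem N102368 : nd 102368 = n205546 := ndS (p := 65991) (l := 7) rfl N65991 D205546
theorem N102369 : nd 102369 = n205547 := ndS (p := 65994) (l := 0) rfl N65994 D205547
theorem N102370 : nd 102370 = n205548 := ndS (p := 65995) (l := 2) rfl N65995 D205548
theorem N102371 : nd 102371 = n205549 := ndS (p := 65995) (l := 6) rfl N65995 D205549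
theorem N102372 : nd 102372 = n205550 := ndS (p := 65996) (l := 3) rfl N65996 D205550
theorem N102373 : nd 102373 = n205551 := ndS (p := 65996) (l := 6) rfl N65996 D205551
theorem N102374 : nd 102374 = n205552 := ndS (p := 65997) (l := 5) rfl N65997 D205552
theorem N102375 : nd 102375 = n205553 := ndS (p := 65999) (l := 6) rfl N65999 D205553
theorem N102376 : nd 102376 = n205554 := ndS (p := 66002) (l := 6) rfl N66002 D205554
theorem N102377 : nd 102377 = n205555 := ndS (p := 66003) (l := 5) rfl N66003 D205555
theorem N102378 : nd 102378 = n205556 := ndS (p := 66003) (l := 6) rfl N66003 D205556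
theorem N102379 : nd 102379 = n205557 := ndS (p := 66004) (l := 0) rfl N66004 D205557
theorem N102380 : nd 102380 = n205558 := ndS (p := 66004) (l := 7) rfl N66004 D205558
theorem N102381 : nd 102381 = n205559 := ndS (p := 66007) (l := 5) rfl N66007 D205559
theorem N102382 : nd 102382 = n205560 := ndS (p := 66008) (l := 0) rfl N66008 D205560
theorem N102383 : nd 102383 = n205561 := ndS (p := 66008) (l := 4) rfl N66008 D205561
theorem N102384 : nd 102384 = n205562 := ndS (p := 66008) (l := 7) rfl N66008 D205562
theorem N102385 : nd 102385 = n205563 := ndS (p := 66010) (l := 0) rfl N66010 D205563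
theorem N102386 : nd 102386 = n205564 := ndS (p := 66010) (l := 4) rfl N66010 D205564
theorem N102387 : nd 102387 = n205565 := ndS (p := 66010) (l := 6) rfl N66010 D205565
theorem N102388 : nd 102388 = n205566 := ndS (p := 66011) (l := 7) rfl N66011 D205566
theorem N102389 : nd 102389 = n205567 := ndS (p := 66013) (l := 4) rfl N66013 D205567
theorem N102390 : nd 102390 = n205568 := ndS (p := 66014) (l := 0) rfl N66014 D205568
theorem N102391 : nd 102391 = n205569 := ndS (p := 66016) (l := 6) rfl N66016 D205569
theorem N102392 : nd 102392 = n205570 := ndS (p := 66019) (l := 4) rfl N66019 D205570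
theorem N102393 : nd 102393 = n205571 := ndS (p := 66019) (l := 6) rfl N66019 D205571
theorem N102394 : nd 102394 = n205572 := ndS (p := 66020) (l := 4) rfl N66020 D205572
theorem N102395 : nd 102395 = n205573 := ndS (p := 66027) (l := 3) rfl N66027 D205573
theorem N102396 : nd 102396 = n205574 := ndS (p := 66031) (l := 3) rfl N66031 D205574
theorem N102397 : nd 102397 = n205575 := ndS (p := 66033) (l := 3) rfl N66033 D205575
theorem N102398 : nd 102398 = n205576 := ndS (p := 66039) (l := 4) rfl N66039 D205576
theorem N102399 : nd 102399 = n205577 := ndS (p := 66040) (l := 3) rfl N66040 D205577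
theorem N102400 : nd 102400 = n205578 := ndS (p := 66042) (l := 4) rfl N66042 D205578
theorem N102401 : nd 102401 = n205579 := ndS (p := 66043) (l := 4) rfl N66043 D205579
theorem N102402 : nd 102402 = n205580 := ndS (p := 66047) (l := 6) rfl N66047 D205580
theorem N102403 : nd 102403 = n205581 := ndS (p := 66048) (l := 6) rfl N66048 D205581
theorem N102404 : nd 102404 = n205582 := ndS (p := 66049) (l := 5) rfl N66049 D205582
theorem N102405 : nd 102405 = n205583 := ndS (p := 66051) (l := 6) rfl N66051 D205583
theorem N102406 : nd 102406 = n205584 := ndS (p := 66052) (l := 5) rfl N66052 D205584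
theorem N102407 : nd 102407 = n205585 := ndS (p := 66053) (l := 3) rfl N66053 D205585
theorem N102408 : nd 102408 = n205586 := ndS (p := 66053) (l := 4) rfl N66053 D205586
theorem N102409 : nd 102409 = n205587 := ndS (p := 66054) (l := 4) rfl N66054 D205587
theorem N102410 : nd 102410 = n205588 := ndS (p := 66054) (l := 6) rfl N66054 D205588
theorem N102411 : nd 102411 = n205589 := ndS (p := 66055) (l := 6) rfl N66055 D205589
theorem N102412 : nd 102412 = n205590 := ndS (p := 66056) (l := 0) rfl N66056 D205590
theorem N102413 : nd 102413 = n205591 := ndS (p := 66056) (l := 5) rfl N66056 D205591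
theorem N102414 : nd 102414 = n205592 := ndS (p := 66056) (l := 7) rfl N66056 D205592
theorem N102415 : nd 102415 = n205593 := ndS (p := 66058) (l := 5) rfl N66058 D205593
theorem N102416 : nd 102416 = n205594 := ndS (p := 66060) (l := 3) rfl N66060 D205594
theorem N102417 : nd 102417 = n205595 := ndS (p := 66060) (l := 6) rfl N66060 D205595
theorem N102418 : nd 102418 = n205596 := ndS (p := 66061) (l := 0) rfl N66061 D205596
theorem N102419 : nd 102419 = n205597 := ndS (p := 66061) (l := 1) rfl N66061 D205597
theorem N102420 : nd 102420 = n205598 := ndS (p := 66062) (l := 6) rfl N66062 D205598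
theorem N102421 : nd 102421 = n205599 := ndS (p := 66065) (l := 5) rfl N66065 D205599
theorem N102422 : nd 102422 = n205600 := ndS (p := 66070) (l := 4) rfl N66070 D205600
theorem N102423 : nd 102423 = n205601 := ndS (p := 66071) (l := 4) rfl N66071 D205601
theorem N102424 : nd 102424 = n205602 := ndS (p := 66073) (l := 6) rfl N66073 D205602
theorem N102425 : nd 102425 = n205603 := ndS (p := 66075) (l := 6) rfl N66075 D205603
theorem N102426 : nd 102426 = n205604 := ndS (p := 66078) (l := 4) rfl N66078 D205604
theorem N102427 : nd 102427 = n205605 := ndS (p := 66078) (l := 6) rfl N66078 D205605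
theorem N102428 : nd 102428 = n205606 := ndS (p := 66081) (l := 4) rfl N66081 D205606
theorem N102429 : nd 102429 = n205607 := ndS (p := 66081) (l := 6) rfl N66081 D205607
theorem N102430 : nd 102430 = n205608 := ndS (p := 66082) (l := 4) rfl N66082 D205608
theorem N102431 : nd 102431 = n205609 := ndS (p := 66082) (l := 6) rfl N66082 D205609
theorem N102432 : nd 102432 = n205610 := ndS (p := 66083) (l := 5) rfl N66083 D205610
theorem N102433 : nd 102433 = n205611 := ndS (p := 66083) (l := 6) rfl N66083 D205611
theorem N102434 : nd 102434 = n205612 := ndS (p := 66084) (l := 0) rfl N66084 D205612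
theorem N102435 : nd 102435 = n205613 := ndS (p := 66084) (l := 4) rfl N66084 D205613
theorem N102436 : nd 102436 = n205614 := ndS (p := 66086) (l := 0) rfl N66086 D205614
theorem N102437 : nd 102437 = n205615 := ndS (p := 66086) (l := 1) rfl N66086 D205615
theorem N102438 : nd 102438 = n205616 := ndS (p := 66087) (l := 3) rfl N66087 D205616
theorem N102439 : nd 102439 = n205617 := ndS (p := 66088) (l := 3) rfl N66088 D205617
theorem N102440 : nd 102440 = n205618 := ndS (p := 66088) (l := 6) rfl N66088 D205618
theorem N102441 : nd 102441 = n205619 := ndS (p := 66089) (l := 0) rfl N66089 D205619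
theorem N102442 : nd 102442 = n205620 := ndS (p := 66089) (l := 1) rfl N66089 D205620
theorem N102443 : nd 102443 = n205621 := ndS (p := 66091) (l := 4) rfl N66091 D205621
theorem N102444 : nd 102444 = n205622 := ndS (p := 66091) (l := 6) rfl N66091 D205622
theorem N102445 : nd 102445 = n205623 := ndS (p := 66092) (l := 4) rfl N66092 D205623
theorem N102446 : nd 102446 = n205625 := ndS (p := 66093) (l := 5) rfl N66093 D205625
theorem N102447 : nd 102447 = n205626 := ndS (p := 66093) (l := 6) rfl N66093 D205626
theorem N102448 : nd 102448 = n205627 := ndS (p := 66094) (l := 0) rfl N66094 D205627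
theorem N102449 : nd 102449 = n205628 := ndS (p := 66094) (l := 4) rfl N66094 D205628
theorem N102450 : nd 102450 = n205629 := ndS (p := 66094) (l := 6) rfl N66094 D205629
theorem N102451 : nd 102451 = n205630 := ndS (p := 66095) (l := 0) rfl N66095 D205630
theorem N102452 : nd 102452 = n205631 := ndS (p := 66095) (l := 1) rfl N66095 D205631
theorem N102453 : nd 102453 = n205632 := ndS (p := 66095) (l := 5) rfl N66095 D205632
theorem N102454 : nd 102454 = n205633 := ndS (p := 66095) (l := 7) rfl N66095 D205633
theorem N102455 : nd 102455 = n205634 := ndS (p := 66096) (l := 1) rfl N66096 D205634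
theorem N102456 : nd 102456 = n205635 := ndS (p := 66096) (l := 5) rfl N66096 D205635
theorem N102457 : nd 102457 = n205636 := ndS (p := 66096) (l := 7) rfl N66096 D205636
theorem N102458 : nd 102458 = n205637 := ndS (p := 66097) (l := 5) rfl N66097 D205637
theorem N102459 : nd 102459 = n205638 := ndS (p := 66098) (l := 3) rfl N66098 D205638
theorem N102460 : nd 102460 = n205639 := ndS (p := 66098) (l := 5) rfl N66098 D205639
theorem N102461 : nd 102461 = n205640 := ndS (p := 66098) (l := 6) rfl N66098 D205640
theorem N102462 : nd 102462 = n205641 := ndS (p := 66099) (l := 1) rfl N66099 D205641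
theorem N102463 : nd 102463 = n205642 := ndS (p := 66099) (l := 4) rfl N66099 D205642
theorem N102464 : nd 102464 = n205643 := ndS (p := 66099) (l := 7) rfl N66099 D205643
theorem N102465 : nd 102465 = n205644 := ndS (p := 66101) (l := 3) rfl N66101 D205644
theorem N102466 : nd 102466 = n205645 := ndS (p := 66101) (l := 5) rfl N66101 D205645
theorem N102467 : nd 102467 = n205646 := ndS (p := 66103) (l := 3) rfl N66103 D205646
theorem N102468 : nd 102468 = n205647 := ndS (p := 66103) (l := 5) rfl N66103 D205647
theorem N102469 : nd 102469 = n205648 := ndS (p := 66103) (l := 6) rfl N66103 D205648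
theorem N102470 : nd 102470 = n205650 := ndS (p := 66105) (l := 3) rfl N66105 D205650
theorem N102471 : nd 102471 = n205651 := ndS (p := 66105) (l := 4) rfl N66105 D205651
theorem N102472 : nd 102472 = n205653 := ndS (p := 66105) (l := 6) rfl N66105 D205653
theorem N102473 : nd 102473 = n205655 := ndS (p := 66106) (l := 3) rfl N66106 D205655
theorem N102474 : nd 102474 = n205656 := ndS (p := 66106) (l := 5) rfl N66106 D205656
theorem N102475 : nd 102475 = n205657 := ndS (p := 66107) (l := 5) rfl N66107 D205657
theorem N102476 : nd 102476 = n205658 := ndS (p := 66107) (l := 6) rfl N66107 D205658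
theorem N102477 : nd 102477 = n205659 := ndS (p := 66108) (l := 0) rfl N66108 D205659
theorem N102478 : nd 102478 = n205660 := ndS (p := 66108) (l := 1) rfl N66108 D205660
theorem N102479 : nd 102479 = n205661 := ndS (p := 66108) (l := 4) rfl N66108 D205661
theorem N102480 : nd 102480 = n205662 := ndS (p := 66108) (l := 6) rfl N66108 D205662
theorem N102481 : nd 102481 = n205663 := ndS (p := 66109) (l := 0) rfl N66109 D205663
theorem N102482 : nd 102482 = n205664 := ndS (p := 66110) (l := 0) rfl N66110 D205664
theorem N102483 : nd 102483 = n205665 := ndS (p := 66110) (l := 1) rfl N66110 D205665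
theorem N102484 : nd 102484 = n205666 := ndS (p := 66110) (l := 5) rfl N66110 D205666
theorem N102485 : nd 102485 = n205667 := ndS (p := 66110) (l := 7) rfl N66110 D205667
theorem N102486 : nd 102486 = n205668 := ndS (p := 66111) (l := 1) rfl N66111 D205668
theorem N102487 : nd 102487 = n205669 := ndS (p := 66114) (l := 6) rfl N66114 D205669
theorem N102488 : nd 102488 = n205670 := ndS (p := 66115) (l := 6) rfl N66115 D205670
theorem N102489 : nd 102489 = n205671 := ndS (p := 66116) (l := 0) rfl N66116 D205671
theorem N102490 : nd 102490 = n205672 := ndS (p := 66116) (l := 1) rfl N66116 D205672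
theorem N102491 : nd 102491 = n205673 := ndS (p := 66116) (l := 7) rfl N66116 D205673
theorem N102492 : nd 102492 = n205674 := ndS (p := 66117) (l := 4) rfl N66117 D205674
theorem N102493 : nd 102493 = n205675 := ndS (p := 66117) (l := 7) rfl N66117 D205675
theorem N102494 : nd 102494 = n205676 := ndS (p := 66119) (l := 6) rfl N66119 D205676
theorem N102495 : nd 102495 = n205677 := ndS (p := 66120) (l := 3) rfl N66120 D205677
theorem N102496 : nd 102496 = n205678 := ndS (p := 66122) (l := 0) rfl N66122 D205678
theorem N102497 : nd 102497 = n205679 := ndS (p := 66122) (l := 5) rfl N66122 D205679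
theorem N102498 : nd 102498 = n205680 := ndS (p := 66123) (l := 6) rfl N66123 D205680
theorem N102499 : nd 102499 = n205681 := ndS (p := 66124) (l := 4) rfl N66124 D205681
theorem N102500 : nd 102500 = n205682 := ndS (p := 66124) (l := 6) rfl N66124 D205682
theorem N102501 : nd 102501 = n205683 := ndS (p := 66126) (l := 6) rfl N66126 D205683
theorem N102502 : nd 102502 = n205684 := ndS (p := 66127) (l := 1) rfl N66127 D205684
theorem N102503 : nd 102503 = n205685 := ndS (p := 66127) (l := 5) rfl N66127 D205685
theorem N102504 : nd 102504 = n205686 := ndS (p := 66127) (l := 7) rfl N66127 D205686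
theorem N102505 : nd 102505 = n205687 := ndS (p := 66130) (l := 0) rfl N66130 D205687
theorem N102506 : nd 102506 = n205688 := ndS (p := 66130) (l := 5) rfl N66130 D205688
theorem N102507 : nd 102507 = n205689 := ndS (p := 66131) (l := 4) rfl N66131 D205689
theorem N102508 : nd 102508 = n205690 := ndS (p := 66131) (l := 6) rfl N66131 D205690
theorem N102509 : nd 102509 = n205691 := ndS (p := 66132) (l := 0) rfl N66132 D205691
theorem N102510 : nd 102510 = n205692 := ndS (p := 66132) (l := 5) rfl N66132 D205692
theorem N102511 : nd 102511 = n205693 := ndS (p := 66132) (l := 7) rfl N66132 D205693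
theorem N102512 : nd 102512 = n205694 := ndS (p := 66133) (l := 0) rfl N66133 D205694
theorem N102513 : nd 102513 = n205695 := ndS (p := 66133) (l := 1) rfl N66133 D205695
theorem N102514 : nd 102514 = n205696 := ndS (p := 66137) (l := 5) rfl N66137 D205696
theorem N102515 : nd 102515 = n205697 := ndS (p := 66138) (l := 3) rfl N66138 D205697
theorem N102516 : nd 102516 = n205698 := ndS (p := 66138) (l := 5) rfl N66138 D205698
theorem N102517 : nd 102517 = n205699 := ndS (p := 66139) (l := 3) rfl N66139 D205699
theorem N102518 : nd 102518 = n205700 := ndS (p := 66139) (l := 5) rfl N66139 D205700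
theorem N102519 : nd 102519 = n205701 := ndS (p := 66140) (l := 0) rfl N66140 D205701
theorem N102520 : nd 102520 = n205702 := ndS (p := 66140) (l := 1) rfl N66140 D205702
theorem N102521 : nd 102521 = n205703 := ndS (p := 66140) (l := 4) rfl N66140 D205703
theorem N102522 : nd 102522 = n205704 := ndS (p := 66141) (l := 3) rfl N66141 D205704
theorem N102523 : nd 102523 = n205705 := ndS (p := 66141) (l := 5) rfl N66141 D205705
theorem N102524 : nd 102524 = n205706 := ndS (p := 66141) (l := 6) rfl N66141 D205706
theorem N102525 : nd 102525 = n205707 := ndS (p := 66142) (l := 4) rfl N66142 D205707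
theorem N102526 : nd 102526 = n205708 := ndS (p := 66144) (l := 6) rfl N66144 D205708
theorem N102527 : nd 102527 = n205709 := ndS (p := 66145) (l := 5) rfl N66145 D205709
theorem N102528 : nd 102528 = n205710 := ndS (p := 66149) (l := 3) rfl N66149 D205710
theorem N102529 : nd 102529 = n205711 := ndS (p := 66150) (l := 4) rfl N66150 D205711
theorem N102530 : nd 102530 = n205712 := ndS (p := 66150) (l := 6) rfl N66150 D205712
theorem N102531 : nd 102531 = n205713 := ndS (p := 66152) (l := 5) rfl N66152 D205713
theorem N102532 : nd 102532 = n205714 := ndS (p := 66153) (l := 4) rfl N66153 D205714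
theorem N102533 : nd 102533 = n205715 := ndS (p := 66153) (l := 6) rfl N66153 D205715
theorem N102534 : nd 102534 = n205716 := ndS (p := 66154) (l := 4) rfl N66154 D205716
theorem N102535 : nd 102535 = n205717 := ndS (p := 66154) (l := 6) rfl N66154 D205717
theorem N102536 : nd 102536 = n205718 := ndS (p := 66155) (l := 5) rfl N66155 D205718
theorem N102537 : nd 102537 = n205719 := ndS (p := 66155) (l := 6) rfl N66155 D205719
theorem N102538 : nd 102538 = n205720 := ndS (p := 66156) (l := 4) rfl N66156 D205720
theorem N102539 : nd 102539 = n205721 := ndS (p := 66156) (l := 6) rfl N66156 D205721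
theorem N102540 : nd 102540 = n205722 := ndS (p := 66157) (l := 0) rfl N66157 D205722
theorem N102541 : nd 102541 = n205723 := ndS (p := 66157) (l := 1) rfl N66157 D205723
theorem N102542 : nd 102542 = n205724 := ndS (p := 66158) (l := 0) rfl N66158 D205724
theorem N102543 : nd 102543 = n205725 := ndS (p := 66158) (l := 5) rfl N66158 D205725
theorem N102544 : nd 102544 = n205726 := ndS (p := 66158) (l := 7) rfl N66158 D205726
theorem N102545 : nd 102545 = n205727 := ndS (p := 66159) (l := 3) rfl N66159 D205727
theorem N102546 : nd 102546 = n205728 := ndS (p := 66159) (l := 5) rfl N66159 D205728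
theorem N102547 : nd 102547 = n205729 := ndS (p := 66160) (l := 0) rfl N66160 D205729
theorem N102548 : nd 102548 = n205730 := ndS (p := 66160) (l := 1) rfl N66160 D205730
theorem N102549 : nd 102549 = n205731 := ndS (p := 66160) (l := 4) rfl N66160 D205731
theorem N102550 : nd 102550 = n205732 := ndS (p := 66162) (l := 3) rfl N66162 D205732
theorem N102551 : nd 102551 = n205733 := ndS (p := 66163) (l := 4) rfl N66163 D205733
theorem N102552 : nd 102552 = n205734 := ndS (p := 66164) (l := 4) rfl N66164 D205734
theorem N102553 : nd 102553 = n205735 := ndS (p := 66164) (l := 6) rfl N66164 D205735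
theorem N102554 : nd 102554 = n205736 := ndS (p := 66165) (l := 5) rfl N66165 D205736
theorem N102555 : nd 102555 = n205737 := ndS (p := 66166) (l := 4) rfl N66166 D205737
theorem N102556 : nd 102556 = n205738 := ndS (p := 66166) (l := 6) rfl N66166 D205738
theorem N102557 : nd 102557 = n205739 := ndS (p := 66167) (l := 0) rfl N66167 D205739
theorem N102558 : nd 102558 = n205740 := ndS (p := 66167) (l := 1) rfl N66167 D205740
theorem N102559 : nd 102559 = n205741 := ndS (p := 66168) (l := 1) rfl N66168 D205741
theorem N102560 : nd 102560 = n205742 := ndS (p := 66168) (l := 5) rfl N66168 D205742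
theorem N102561 : nd 102561 = n205743 := ndS (p := 66168) (l := 7) rfl N66168 D205743
theorem N102562 : nd 102562 = n205744 := ndS (p := 66169) (l := 5) rfl N66169 D205744
theorem N102563 : nd 102563 = n205745 := ndS (p := 66169) (l := 6) rfl N66169 D205745
theorem N102564 : nd 102564 = n205746 := ndS (p := 66170) (l := 3) rfl N66170 D205746
theorem N102565 : nd 102565 = n205747 := ndS (p := 66170) (l := 5) rfl N66170 D205747
theorem N102566 : nd 102566 = n205748 := ndS (p := 66173) (l := 3) rfl N66173 D205748
theorem N102567 : nd 102567 = n205749 := ndS (p := 66173) (l := 5) rfl N66173 D205749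
theorem N102568 : nd 102568 = n205750 := ndS (p := 66173) (l := 6) rfl N66173 D205750
theorem N102569 : nd 102569 = n205751 := ndS (p := 66175) (l := 3) rfl N66175 D205751
theorem N102570 : nd 102570 = n205752 := ndS (p := 66175) (l := 5) rfl N66175 D205752
theorem N102571 : nd 102571 = n205753 := ndS (p := 66176) (l := 6) rfl N66176 D205753
theorem N102572 : nd 102572 = n205754 := ndS (p := 66178) (l := 6) rfl N66178 D205754
theorem N102573 : nd 102573 = n205755 := ndS (p := 66179) (l := 0) rfl N66179 D205755
theorem N102574 : nd 102574 = n205756 := ndS (p := 66179) (l := 5) rfl N66179 D205756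
theorem N102575 : nd 102575 = n205757 := ndS (p := 66179) (l := 7) rfl N66179 D205757
theorem N102576 : nd 102576 = n205758 := ndS (p := 66180) (l := 1) rfl N66180 D205758
theorem N102577 : nd 102577 = n205759 := ndS (p := 66180) (l := 7) rfl N66180 D205759
theorem N102578 : nd 102578 = n205761 := ndS (p := 66183) (l := 3) rfl N66183 D205761
theorem N102579 : nd 102579 = n205762 := ndS (p := 66183) (l := 4) rfl N66183 D205762
theorem N102580 : nd 102580 = n205763 := ndS (p := 66184) (l := 3) rfl N66184 D205763
theorem N102581 : nd 102581 = n205764 := ndS (p := 66184) (l := 4) rfl N66184 D205764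
theorem N102582 : nd 102582 = n205765 := ndS (p := 66184) (l := 5) rfl N66184 D205765
theorem N102583 : nd 102583 = n205766 := ndS (p := 66184) (l := 6) rfl N66184 D205766
theorem N102584 : nd 102584 = n205767 := ndS (p := 66186) (l := 0) rfl N66186 D205767
theorem N102585 : nd 102585 = n205768 := ndS (p := 66186) (l := 1) rfl N66186 D205768
theorem N102586 : nd 102586 = n205769 := ndS (p := 66186) (l := 4) rfl N66186 D205769
theorem N102587 : nd 102587 = n205770 := ndS (p := 66187) (l := 0) rfl N66187 D205770
theorem N102588 : nd 102588 = n205771 := ndS (p := 66188) (l := 0) rfl N66188 D205771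
theorem N102589 : nd 102589 = n205772 := ndS (p := 66188) (l := 1) rfl N66188 D205772
theorem N102590 : nd 102590 = n205773 := ndS (p := 66188) (l := 5) rfl N66188 D205773
theorem N102591 : nd 102591 = n205774 := ndS (p := 66188) (l := 7) rfl N66188 D205774
theorem N102592 : nd 102592 = n205775 := ndS (p := 66189) (l := 4) rfl N66189 D205775
theorem N102593 : nd 102593 = n205776 := ndS (p := 66191) (l := 6) rfl N66191 D205776
theorem N102594 : nd 102594 = n205777 := ndS (p := 66192) (l := 6) rfl N66192 D205777
theorem N102595 : nd 102595 = n205778 := ndS (p := 66193) (l := 1) rfl N66193 D205778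
theorem N102596 : nd 102596 = n205779 := ndS (p := 66193) (l := 6) rfl N66193 D205779
theorem N102597 : nd 102597 = n205780 := ndS (p := 66194) (l := 6) rfl N66194 D205780
theorem N102598 : nd 102598 = n205781 := ndS (p := 66195) (l := 6) rfl N66195 D205781
theorem N102599 : nd 102599 = n205782 := ndS (p := 66196) (l := 0) rfl N66196 D205782
theorem N102600 : nd 102600 = n205783 := ndS (p := 66196) (l := 5) rfl N66196 D205783
theorem N102601 : nd 102601 = n205784 := ndS (p := 66196) (l := 7) rfl N66196 D205784
theorem N102602 : nd 102602 = n205785 := ndS (p := 66197) (l := 6) rfl N66197 D205785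
theorem N102603 : nd 102603 = n205786 := ndS (p := 66198) (l := 6) rfl N66198 D205786
theorem N102604 : nd 102604 = n205787 := ndS (p := 66199) (l := 5) rfl N66199 D205787
theorem N102605 : nd 102605 = n205788 := ndS (p := 66201) (l := 1) rfl N66201 D205788
theorem N102606 : nd 102606 = n205789 := ndS (p := 66201) (l := 5) rfl N66201 D205789
theorem N102607 : nd 102607 = n205790 := ndS (p := 66201) (l := 7) rfl N66201 D205790
theorem N102608 : nd 102608 = n205791 := ndS (p := 66202) (l := 6) rfl N66202 D205791
theorem N102609 : nd 102609 = n205792 := ndS (p := 66203) (l := 0) rfl N66203 D205792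
theorem N102610 : nd 102610 = n205793 := ndS (p := 66203) (l := 1) rfl N66203 D205793
theorem N102611 : nd 102611 = n205794 := ndS (p := 66203) (l := 5) rfl N66203 D205794
theorem N102612 : nd 102612 = n205795 := ndS (p := 66204) (l := 5) rfl N66204 D205795
theorem N102613 : nd 102613 = n205796 := ndS (p := 66205) (l := 6) rfl N66205 D205796
theorem N102614 : nd 102614 = n205797 := ndS (p := 66206) (l := 0) rfl N66206 D205797
theorem N102615 : nd 102615 = n205798 := ndS (p := 66206) (l := 1) rfl N66206 D205798
theorem N102616 : nd 102616 = n205799 := ndS (p := 66206) (l := 7) rfl N66206 D205799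
theorem N102617 : nd 102617 = n205800 := ndS (p := 66208) (l := 6) rfl N66208 D205800
theorem N102618 : nd 102618 = n205801 := ndS (p := 66209) (l := 5) rfl N66209 D205801
theorem N102619 : nd 102619 = n205802 := ndS (p := 66209) (l := 6) rfl N66209 D205802
theorem N102620 : nd 102620 = n205803 := ndS (p := 66210) (l := 6) rfl N66210 D205803
theorem N102621 : nd 102621 = n205804 := ndS (p := 66211) (l := 5) rfl N66211 D205804
theorem N102622 : nd 102622 = n205805 := ndS (p := 66212) (l := 3) rfl N66212 D205805
theorem N102623 : nd 102623 = n205806 := ndS (p := 66212) (l := 5) rfl N66212 D205806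
theorem N102624 : nd 102624 = n205807 := ndS (p := 66213) (l := 3) rfl N66213 D205807
theorem N102625 : nd 102625 = n205808 := ndS (p := 66213) (l := 5) rfl N66213 D205808
theorem N102626 : nd 102626 = n205809 := ndS (p := 66214) (l := 0) rfl N66214 D205809
theorem N102627 : nd 102627 = n205810 := ndS (p := 66214) (l := 1) rfl N66214 D205810
theorem N102628 : nd 102628 = n205811 := ndS (p := 66214) (l := 4) rfl N66214 D205811
theorem N102629 : nd 102629 = n205812 := ndS (p := 66215) (l := 3) rfl N66215 D205812
theorem N102630 : nd 102630 = n205813 := ndS (p := 66215) (l := 5) rfl N66215 D205813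
theorem N102631 : nd 102631 = n205814 := ndS (p := 66215) (l := 6) rfl N66215 D205814
theorem N102632 : nd 102632 = n205815 := ndS (p := 66216) (l := 4) rfl N66216 D205815
theorem N102633 : nd 102633 = n205816 := ndS (p := 66218) (l := 3) rfl N66218 D205816
theorem N102634 : nd 102634 = n205817 := ndS (p := 66221) (l := 0) rfl N66221 D205817
theorem N102635 : nd 102635 = n205818 := ndS (p := 66221) (l := 6) rfl N66221 D205818
theorem N102636 : nd 102636 = n205819 := ndS (p := 66222) (l := 5) rfl N66222 D205819
theorem N102637 : nd 102637 = n205820 := ndS (p := 66222) (l := 7) rfl N66222 D205820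
theorem N102638 : nd 102638 = n205821 := ndS (p := 66224) (l := 4) rfl N66224 D205821
theorem N102639 : nd 102639 = n205822 := ndS (p := 66224) (l := 6) rfl N66224 D205822
theorem N102640 : nd 102640 = n205823 := ndS (p := 66225) (l := 3) rfl N66225 D205823
theorem N102641 : nd 102641 = n205824 := ndS (p := 66226) (l := 5) rfl N66226 D205824
theorem N102642 : nd 102642 = n205825 := ndS (p := 66227) (l := 4) rfl N66227 D205825
theorem N102643 : nd 102643 = n205826 := ndS (p := 66230) (l := 3) rfl N66230 D205826
theorem N102644 : nd 102644 = n205827 := ndS (p := 66238) (l := 3) rfl N66238 D205827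
theorem N102645 : nd 102645 = n205828 := ndS (p := 66239) (l := 1) rfl N66239 D205828
theorem N102646 : nd 102646 = n205829 := ndS (p := 66239) (l := 7) rfl N66239 D205829
theorem N102647 : nd 102647 = n205830 := ndS (p := 66241) (l := 3) rfl N66241 D205830
theorem N102648 : nd 102648 = n205831 := ndS (p := 66242) (l := 5) rfl N66242 D205831
theorem N102649 : nd 102649 = n205832 := ndS (p := 66243) (l := 6) rfl N66243 D205832
theorem N102650 : nd 102650 = n205833 := ndS (p := 66244) (l := 5) rfl N66244 D205833
theorem N102651 : nd 102651 = n205834 := ndS (p := 66245) (l := 4) rfl N66245 D205834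
theorem N102652 : nd 102652 = n205835 := ndS (p := 66249) (l := 3) rfl N66249 D205835
theorem N102653 : nd 102653 = n205836 := ndS (p := 66249) (l := 4) rfl N66249 D205836
theorem N102654 : nd 102654 = n205837 := ndS (p := 66249) (l := 6) rfl N66249 D205837
theorem N102655 : nd 102655 = n205838 := ndS (p := 66250) (l := 5) rfl N66250 D205838
theorem N102656 : nd 102656 = n205839 := ndS (p := 66250) (l := 7) rfl N66250 D205839
theorem N102657 : nd 102657 = n205840 := ndS (p := 66253) (l := 0) rfl N66253 D205840
theorem N102658 : nd 102658 = n205841 := ndS (p := 66254) (l := 5) rfl N66254 D205841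
theorem N102659 : nd 102659 = n205842 := ndS (p := 66254) (l := 6) rfl N66254 D205842
theorem N102660 : nd 102660 = n205843 := ndS (p := 66255) (l := 1) rfl N66255 D205843
theorem N102661 : nd 102661 = n205844 := ndS (p := 66255) (l := 7) rfl N66255 D205844
theorem N102662 : nd 102662 = n205845 := ndS (p := 66258) (l := 6) rfl N66258 D205845
theorem N102663 : nd 102663 = n205846 := ndS (p := 66261) (l := 4) rfl N66261 D205846
theorem N102664 : nd 102664 = n205847 := ndS (p := 66265) (l := 3) rfl N66265 D205847
theorem N102665 : nd 102665 = n205848 := ndS (p := 66265) (l := 6) rfl N66265 D205848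
theorem N102666 : nd 102666 = n205849 := ndS (p := 66266) (l := 6) rfl N66266 D205849
theorem N102667 : nd 102667 = n205850 := ndS (p := 66267) (l := 5) rfl N66267 D205850
theorem N102668 : nd 102668 = n205851 := ndS (p := 66268) (l := 4) rfl N66268 D205851
theorem N102669 : nd 102669 = n205852 := ndS (p := 66272) (l := 4) rfl N66272 D205852
theorem N102670 : nd 102670 = n205853 := ndS (p := 66272) (l := 6) rfl N66272 D205853
theorem N102671 : nd 102671 = n205854 := ndS (p := 66273) (l := 3) rfl N66273 D205854
theorem N102672 : nd 102672 = n205855 := ndS (p := 66273) (l := 6) rfl N66273 D205855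
theorem N102673 : nd 102673 = n205856 := ndS (p := 66274) (l := 6) rfl N66274 D205856
theorem N102674 : nd 102674 = n205857 := ndS (p := 66275) (l := 5) rfl N66275 D205857
theorem N102675 : nd 102675 = n205858 := ndS (p := 66276) (l := 4) rfl N66276 D205858
theorem N102676 : nd 102676 = n205859 := ndS (p := 66277) (l := 6) rfl N66277 D205859
theorem N102677 : nd 102677 = n205860 := ndS (p := 66279) (l := 4) rfl N66279 D205860
theorem N102678 : nd 102678 = n205861 := ndS (p := 66280) (l := 4) rfl N66280 D205861
theorem N102679 : nd 102679 = n205862 := ndS (p := 66281) (l := 6) rfl N66281 D205862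
theorem N102680 : nd 102680 = n205863 := ndS (p := 66282) (l := 4) rfl N66282 D205863
theorem N102681 : nd 102681 = n205864 := ndS (p := 66282) (l := 6) rfl N66282 D205864
theorem N102682 : nd 102682 = n205865 := ndS (p := 66283) (l := 0) rfl N66283 D205865
theorem N102683 : nd 102683 = n205866 := ndS (p := 66283) (l := 1) rfl N66283 D205866
theorem N102684 : nd 102684 = n205867 := ndS (p := 66283) (l := 7) rfl N66283 D205867
theorem N102685 : nd 102685 = n205868 := ndS (p := 66285) (l := 3) rfl N66285 D205868
theorem N102686 : nd 102686 = n205869 := ndS (p := 66290) (l := 4) rfl N66290 D205869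
theorem N102687 : nd 102687 = n205870 := ndS (p := 66290) (l := 5) rfl N66290 D205870
theorem N102688 : nd 102688 = n205871 := ndS (p := 66291) (l := 5) rfl N66291 D205871
theorem N102689 : nd 102689 = n205872 := ndS (p := 66292) (l := 6) rfl N66292 D205872
theorem N102690 : nd 102690 = n205873 := ndS (p := 66293) (l := 0) rfl N66293 D205873
theorem N102691 : nd 102691 = n205874 := ndS (p := 66293) (l := 1) rfl N66293 D205874
theorem N102692 : nd 102692 = n205875 := ndS (p := 66293) (l := 6) rfl N66293 D205875
theorem N102693 : nd 102693 = n205876 := ndS (p := 66294) (l := 0) rfl N66294 D205876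
theorem N102694 : nd 102694 = n205877 := ndS (p := 66294) (l := 1) rfl N66294 D205877
theorem N102695 : nd 102695 = n205878 := ndS (p := 66294) (l := 5) rfl N66294 D205878
theorem N102696 : nd 102696 = n205879 := ndS (p := 66295) (l := 0) rfl N66295 D205879
theorem N102697 : nd 102697 = n205880 := ndS (p := 66295) (l := 5) rfl N66295 D205880
theorem N102698 : nd 102698 = n205881 := ndS (p := 66295) (l := 7) rfl N66295 D205881
theorem N102699 : nd 102699 = n205882 := ndS (p := 66296) (l := 4) rfl N66296 D205882
theorem N102700 : nd 102700 = n205883 := ndS (p := 66300) (l := 6) rfl N66300 D205883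
theorem N102701 : nd 102701 = n205884 := ndS (p := 66301) (l := 1) rfl N66301 D205884
theorem N102702 : nd 102702 = n205885 := ndS (p := 66301) (l := 3) rfl N66301 D205885
theorem N102703 : nd 102703 = n205886 := ndS (p := 66303) (l := 5) rfl N66303 D205886
theorem N102704 : nd 102704 = n205887 := ndS (p := 66304) (l := 2) rfl N66304 D205887
theorem N102705 : nd 102705 = n205888 := ndS (p := 66304) (l := 4) rfl N66304 D205888
theorem N102706 : nd 102706 = n205889 := ndS (p := 66304) (l := 5) rfl N66304 D205889
theorem N102707 : nd 102707 = n205890 := ndS (p := 66304) (l := 6) rfl N66304 D205890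
theorem N102708 : nd 102708 = n205891 := ndS (p := 66305) (l := 6) rfl N66305 D205891
theorem N102709 : nd 102709 = n205892 := ndS (p := 66307) (l := 5) rfl N66307 D205892
theorem N102710 : nd 102710 = n205893 := ndS (p := 66307) (l := 7) rfl N66307 D205893
theorem N102711 : nd 102711 = n205894 := ndS (p := 66308) (l := 4) rfl N66308 D205894
theorem N102712 : nd 102712 = n205895 := ndS (p := 66309) (l := 0) rfl N66309 D205895
theorem N102713 : nd 102713 = n205896 := ndS (p := 66309) (l := 1) rfl N66309 D205896
theorem N102714 : nd 102714 = n205897 := ndS (p := 66311) (l := 4) rfl N66311 D205897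
theorem N102715 : nd 102715 = n205898 := ndS (p := 66311) (l := 6) rfl N66311 D205898
theorem N102716 : nd 102716 = n205899 := ndS (p := 66312) (l := 0) rfl N66312 D205899
theorem N102717 : nd 102717 = n205900 := ndS (p := 66312) (l := 1) rfl N66312 D205900
theorem N102718 : nd 102718 = n205901 := ndS (p := 66312) (l := 5) rfl N66312 D205901
theorem N102719 : nd 102719 = n205902 := ndS (p := 66312) (l := 6) rfl N66312 D205902
theorem N102720 : nd 102720 = n205903 := ndS (p := 66316) (l := 0) rfl N66316 D205903
theorem N102721 : nd 102721 = n205904 := ndS (p := 66316) (l := 4) rfl N66316 D205904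
theorem N102722 : nd 102722 = n205905 := ndS (p := 66316) (l := 7) rfl N66316 D205905
theorem N102723 : nd 102723 = n205906 := ndS (p := 66318) (l := 4) rfl N66318 D205906
theorem N102724 : nd 102724 = n205907 := ndS (p := 66321) (l := 5) rfl N66321 D205907
theorem N102725 : nd 102725 = n205908 := ndS (p := 66325) (l := 4) rfl N66325 D205908
theorem N102726 : nd 102726 = n205909 := ndS (p := 66327) (l := 4) rfl N66327 D205909
theorem N102727 : nd 102727 = n205910 := ndS (p := 66329) (l := 4) rfl N66329 D205910
theorem N102728 : nd 102728 = n205911 := ndS (p := 66329) (l := 6) rfl N66329 D205911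
theorem N102729 : nd 102729 = n205912 := ndS (p := 66330) (l := 4) rfl N66330 D205912
theorem N102730 : nd 102730 = n205913 := ndS (p := 66331) (l := 3) rfl N66331 D205913
theorem N102731 : nd 102731 = n205914 := ndS (p := 66331) (l := 5) rfl N66331 D205914
theorem N102732 : nd 102732 = n205915 := ndS (p := 66333) (l := 6) rfl N66333 D205915
theorem N102733 : nd 102733 = n205916 := ndS (p := 66335) (l := 3) rfl N66335 D205916
theorem N102734 : nd 102734 = n205917 := ndS (p := 66335) (l := 6) rfl N66335 D205917
theorem N102735 : nd 102735 = n205918 := ndS (p := 66337) (l := 0) rfl N66337 D205918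
theorem N102736 : nd 102736 = n205919 := ndS (p := 66337) (l := 1) rfl N66337 D205919
theorem N102737 : nd 102737 = n205920 := ndS (p := 66337) (l := 2) rfl N66337 D205920
theorem N102738 : nd 102738 = n205921 := ndS (p := 66337) (l := 5) rfl N66337 D205921
theorem N102739 : nd 102739 = n205922 := ndS (p := 66337) (l := 7) rfl N66337 D205922
theorem N102740 : nd 102740 = n205923 := ndS (p := 66338) (l := 4) rfl N66338 D205923
theorem N102741 : nd 102741 = n205924 := ndS (p := 66338) (l := 6) rfl N66338 D205924
theorem N102742 : nd 102742 = n205925 := ndS (p := 66338) (l := 7) rfl N66338 D205925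
theorem N102743 : nd 102743 = n205926 := ndS (p := 66341) (l := 3) rfl N66341 D205926
theorem N102744 : nd 102744 = n205927 := ndS (p := 66341) (l := 6) rfl N66341 D205927
theorem N102745 : nd 102745 = n205928 := ndS (p := 66343) (l := 0) rfl N66343 D205928
theorem N102746 : nd 102746 = n205929 := ndS (p := 66343) (l := 1) rfl N66343 D205929
theorem N102747 : nd 102747 = n205930 := ndS (p := 66343) (l := 7) rfl N66343 D205930
theorem N102748 : nd 102748 = n205931 := ndS (p := 66345) (l := 3) rfl N66345 D205931
theorem N102749 : nd 102749 = n205932 := ndS (p := 66349) (l := 3) rfl N66349 D205932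
theorem N102750 : nd 102750 = n205933 := ndS (p := 66349) (l := 4) rfl N66349 D205933
theorem N102751 : nd 102751 = n205934 := ndS (p := 66349) (l := 6) rfl N66349 D205934
theorem N102752 : nd 102752 = n205935 := ndS (p := 66350) (l := 6) rfl N66350 D205935
theorem N102753 : nd 102753 = n205936 := ndS (p := 66351) (l := 6) rfl N66351 D205936
theorem N102754 : nd 102754 = n205937 := ndS (p := 66352) (l := 0) rfl N66352 D205937
theorem N102755 : nd 102755 = n205938 := ndS (p := 66352) (l := 1) rfl N66352 D205938
theorem N102756 : nd 102756 = n205939 := ndS (p := 66352) (l := 5) rfl N66352 D205939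
theorem N102757 : nd 102757 = n205940 := ndS (p := 66353) (l := 0) rfl N66353 D205940
theorem N102758 : nd 102758 = n205941 := ndS (p := 66354) (l := 1) rfl N66354 D205941
theorem N102759 : nd 102759 = n205942 := ndS (p := 66355) (l := 5) rfl N66355 D205942
theorem N102760 : nd 102760 = n205943 := ndS (p := 66355) (l := 6) rfl N66355 D205943
theorem N102761 : nd 102761 = n205944 := ndS (p := 66360) (l := 3) rfl N66360 D205944
theorem N102762 : nd 102762 = n205945 := ndS (p := 66361) (l := 4) rfl N66361 D205945
theorem N102763 : nd 102763 = n205946 := ndS (p := 66362) (l := 3) rfl N66362 D205946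
theorem N102764 : nd 102764 = n205947 := ndS (p := 66362) (l := 6) rfl N66362 D205947
theorem N102765 : nd 102765 = n205948 := ndS (p := 66367) (l := 6) rfl N66367 D205948
theorem N102766 : nd 102766 = n205949 := ndS (p := 66370) (l := 1) rfl N66370 D205949
theorem N102767 : nd 102767 = n205950 := ndS (p := 66371) (l := 6) rfl N66371 D205950
theorem N102768 : nd 102768 = n205951 := ndS (p := 66378) (l := 4) rfl N66378 D205951
theorem N102769 : nd 102769 = n205952 := ndS (p := 66378) (l := 5) rfl N66378 D205952
theorem N102770 : nd 102770 = n205953 := ndS (p := 66378) (l := 6) rfl N66378 D205953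
theorem N102771 : nd 102771 = n205954 := ndS (p := 66379) (l := 3) rfl N66379 D205954
theorem N102772 : nd 102772 = n205955 := ndS (p := 66379) (l := 5) rfl N66379 D205955
theorem N102773 : nd 102773 = n205956 := ndS (p := 66379) (l := 6) rfl N66379 D205956
theorem N102774 : nd 102774 = n205957 := ndS (p := 66383) (l := 0) rfl N66383 D205957
theorem N102775 : nd 102775 = n205958 := ndS (p := 66384) (l := 4) rfl N66384 D205958
theorem N102776 : nd 102776 = n205959 := ndS (p := 66385) (l := 5) rfl N66385 D205959
theorem N102777 : nd 102777 = n205960 := ndS (p := 66386) (l := 4) rfl N66386 D205960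
theorem N102778 : nd 102778 = n205961 := ndS (p := 66388) (l := 3) rfl N66388 D205961
theorem N102779 : nd 102779 = n205962 := ndS (p := 66389) (l := 1) rfl N66389 D205962
theorem N102780 : nd 102780 = n205963 := ndS (p := 66392) (l := 4) rfl N66392 D205963
theorem N102781 : nd 102781 = n205964 := ndS (p := 66393) (l := 0) rfl N66393 D205964
theorem N102782 : nd 102782 = n205965 := ndS (p := 66393) (l := 1) rfl N66393 D205965
theorem N102783 : nd 102783 = n205966 := ndS (p := 66394) (l := 6) rfl N66394 D205966
theorem N102784 : nd 102784 = n205967 := ndS (p := 66395) (l := 6) rfl N66395 D205967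
theorem N102785 : nd 102785 = n205968 := ndS (p := 66397) (l := 0) rfl N66397 D205968
theorem N102786 : nd 102786 = n205969 := ndS (p := 66397) (l := 2) rfl N66397 D205969
theorem N102787 : nd 102787 = n205970 := ndS (p := 66398) (l := 4) rfl N66398 D205970
theorem N102788 : nd 102788 = n205971 := ndS (p := 66398) (l := 6) rfl N66398 D205971
theorem N102789 : nd 102789 = n205972 := ndS (p := 66402) (l := 4) rfl N66402 D205972
theorem N102790 : nd 102790 = n205973 := ndS (p := 66403) (l := 3) rfl N66403 D205973
theorem N102791 : nd 102791 = n205974 := ndS (p := 66404) (l := 5) rfl N66404 D205974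
theorem N102792 : nd 102792 = n205975 := ndS (p := 66405) (l := 3) rfl N66405 D205975
theorem N102793 : nd 102793 = n205976 := ndS (p := 66407) (l := 1) rfl N66407 D205976
theorem N102794 : nd 102794 = n205977 := ndS (p := 66407) (l := 2) rfl N66407 D205977
theorem N102795 : nd 102795 = n205978 := ndS (p := 66407) (l := 5) rfl N66407 D205978
theorem N102796 : nd 102796 = n205979 := ndS (p := 66408) (l := 6) rfl N66408 D205979
theorem N102797 : nd 102797 = n205980 := ndS (p := 66410) (l := 6) rfl N66410 D205980
theorem N102798 : nd 102798 = n205981 := ndS (p := 66411) (l := 5) rfl N66411 D205981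
theorem N102799 : nd 102799 = n205982 := ndS (p := 66423) (l := 4) rfl N66423 D205982
theorem N102800 : nd 102800 = n205984 := ndS (p := 66428) (l := 2) rfl N66428 D205984
theorem N102801 : nd 102801 = n205985 := ndS (p := 66431) (l := 3) rfl N66431 D205985
theorem N102802 : nd 102802 = n205986 := ndS (p := 66431) (l := 6) rfl N66431 D205986
theorem N102803 : nd 102803 = n205987 := ndS (p := 66432) (l := 0) rfl N66432 D205987
theorem N102804 : nd 102804 = n205988 := ndS (p := 66432) (l := 1) rfl N66432 D205988
theorem N102805 : nd 102805 = n205989 := ndS (p := 66432) (l := 5) rfl N66432 D205989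
theorem N102806 : nd 102806 = n205990 := ndS (p := 66436) (l := 3) rfl N66436 D205990
theorem N102807 : nd 102807 = n205991 := ndS (p := 66436) (l := 6) rfl N66436 D205991
theorem N102808 : nd 102808 = n205992 := ndS (p := 66438) (l := 3) rfl N66438 D205992
theorem N102809 : nd 102809 = n205993 := ndS (p := 66439) (l := 3) rfl N66439 D205993
theorem N102810 : nd 102810 = n205994 := ndS (p := 66439) (l := 6) rfl N66439 D205994
theorem N102811 : nd 102811 = n205995 := ndS (p := 66440) (l := 0) rfl N66440 D205995
theorem N102812 : nd 102812 = n205996 := ndS (p := 66440) (l := 2) rfl N66440 D205996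
theorem N102813 : nd 102813 = n205997 := ndS (p := 66440) (l := 5) rfl N66440 D205997
theorem N102814 : nd 102814 = n205998 := ndS (p := 66440) (l := 7) rfl N66440 D205998
theorem N102815 : nd 102815 = n205999 := ndS (p := 66441) (l := 4) rfl N66441 D205999
theorem N102816 : nd 102816 = n206000 := ndS (p := 66441) (l := 6) rfl N66441 D206000
theorem N102817 : nd 102817 = n206001 := ndS (p := 66441) (l := 7) rfl N66441 D206001
theorem N102818 : nd 102818 = n206002 := ndS (p := 66443) (l := 6) rfl N66443 D206002
theorem N102819 : nd 102819 = n206003 := ndS (p := 66444) (l := 6) rfl N66444 D206003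
theorem N102820 : nd 102820 = n206004 := ndS (p := 66449) (l := 5) rfl N66449 D206004
theorem N102821 : nd 102821 = n206005 := ndS (p := 66450) (l := 4) rfl N66450 D206005
theorem N102822 : nd 102822 = n206006 := ndS (p := 66450) (l := 6) rfl N66450 D206006
theorem N102823 : nd 102823 = n206007 := ndS (p := 66453) (l := 1) rfl N66453 D206007
theorem N102824 : nd 102824 = n206008 := ndS (p := 66455) (l := 4) rfl N66455 D206008
theorem N102825 : nd 102825 = n206009 := ndS (p := 66456) (l := 3) rfl N66456 D206009
theorem N102826 : nd 102826 = n206010 := ndS (p := 66456) (l := 4) rfl N66456 D206010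
theorem N102827 : nd 102827 = n206011 := ndS (p := 66456) (l := 6) rfl N66456 D206011
theorem N102828 : nd 102828 = n206012 := ndS (p := 66457) (l := 1) rfl N66457 D206012
theorem N102829 : nd 102829 = n206013 := ndS (p := 66457) (l := 5) rfl N66457 D206013
theorem N102830 : nd 102830 = n206014 := ndS (p := 66458) (l := 1) rfl N66458 D206014
theorem N102831 : nd 102831 = n206015 := ndS (p := 66458) (l := 7) rfl N66458 D206015
theorem N102832 : nd 102832 = n206016 := ndS (p := 66461) (l := 6) rfl N66461 D206016
theorem N102833 : nd 102833 = n206017 := ndS (p := 66462) (l := 4) rfl N66462 D206017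
theorem N102834 : nd 102834 = n206018 := ndS (p := 66464) (l := 1) rfl N66464 D206018
theorem N102835 : nd 102835 = n206019 := ndS (p := 66464) (l := 5) rfl N66464 D206019
theorem N102836 : nd 102836 = n206020 := ndS (p := 66464) (l := 7) rfl N66464 D206020
theorem N102837 : nd 102837 = n206021 := ndS (p := 66472) (l := 6) rfl N66472 D206021
theorem N102838 : nd 102838 = n206022 := ndS (p := 66480) (l := 2) rfl N66480 D206022
theorem N102839 : nd 102839 = n206023 := ndS (p := 66480) (l := 4) rfl N66480 D206023
theorem N102840 : nd 102840 = n206024 := ndS (p := 66481) (l := 2) rfl N66481 D206024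
theorem N102841 : nd 102841 = n206025 := ndS (p := 66481) (l := 4) rfl N66481 D206025
theorem N102842 : nd 102842 = n206026 := ndS (p := 66482) (l := 4) rfl N66482 D206026
theorem N102843 : nd 102843 = n206027 := ndS (p := 66483) (l := 0) rfl N66483 D206027
theorem N102844 : nd 102844 = n206028 := ndS (p := 66483) (l := 5) rfl N66483 D206028
theorem N102845 : nd 102845 = n206029 := ndS (p := 66486) (l := 3) rfl N66486 D206029
theorem N102846 : nd 102846 = n206030 := ndS (p := 66491) (l := 4) rfl N66491 D206030
theorem N102847 : nd 102847 = n206031 := ndS (p := 66492) (l := 3) rfl N66492 D206031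
theorem N102848 : nd 102848 = n206032 := ndS (p := 66499) (l := 5) rfl N66499 D206032
theorem N102849 : nd 102849 = n206033 := ndS (p := 66500) (l := 1) rfl N66500 D206033
theorem N102850 : nd 102850 = n206034 := ndS (p := 66503) (l := 0) rfl N66503 D206034
theorem N102851 : nd 102851 = n206035 := ndS (p := 66506) (l := 6) rfl N66506 D206035
theorem N102852 : nd 102852 = n206036 := ndS (p := 66511) (l := 5) rfl N66511 D206036
theorem N102853 : nd 102853 = n206037 := ndS (p := 66511) (l := 6) rfl N66511 D206037
theorem N102854 : nd 102854 = n206038 := ndS (p := 66513) (l := 5) rfl N66513 D206038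
theorem N102855 : nd 102855 = n206039 := ndS (p := 66514) (l := 1) rfl N66514 D206039
theorem N102856 : nd 102856 = n206040 := ndS (p := 66516) (l := 4) rfl N66516 D206040
theorem N102857 : nd 102857 = n206041 := ndS (p := 66517) (l := 3) rfl N66517 D206041
theorem N102858 : nd 102858 = n206042 := ndS (p := 66517) (l := 5) rfl N66517 D206042
theorem N102859 : nd 102859 = n206043 := ndS (p := 66518) (l := 2) rfl N66518 D206043
theorem N102860 : nd 102860 = n206044 := ndS (p := 66519) (l := 2) rfl N66519 D206044
theorem N102861 : nd 102861 = n206045 := ndS (p := 66522) (l := 3) rfl N66522 D206045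
theorem N102862 : nd 102862 = n206046 := ndS (p := 66526) (l := 4) rfl N66526 D206046
theorem N102863 : nd 102863 = n206047 := ndS (p := 66527) (l := 4) rfl N66527 D206047
theorem N102864 : nd 102864 = n206048 := ndS (p := 66528) (l := 3) rfl N66528 D206048
theorem N102865 : nd 102865 = n206049 := ndS (p := 66528) (l := 4) rfl N66528 D206049
theorem N102866 : nd 102866 = n206050 := ndS (p := 66528) (l := 6) rfl N66528 D206050
theorem N102867 : nd 102867 = n206051 := ndS (p := 66529) (l := 1) rfl N66529 D206051
theorem N102868 : nd 102868 = n206052 := ndS (p := 66529) (l := 7) rfl N66529 D206052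
theorem N102869 : nd 102869 = n206053 := ndS (p := 66531) (l := 6) rfl N66531 D206053
theorem N102870 : nd 102870 = n206054 := ndS (p := 66537) (l := 0) rfl N66537 D206054
theorem N102871 : nd 102871 = n206055 := ndS (p := 66537) (l := 2) rfl N66537 D206055
theorem N102872 : nd 102872 = n206056 := ndS (p := 66537) (l := 5) rfl N66537 D206056
theorem N102873 : nd 102873 = n206057 := ndS (p := 66537) (l := 6) rfl N66537 D206057
theorem N102874 : nd 102874 = n206058 := ndS (p := 66540) (l := 2) rfl N66540 D206058
theorem N102875 : nd 102875 = n206059 := ndS (p := 66540) (l := 5) rfl N66540 D206059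
theorem N102876 : nd 102876 = n206060 := ndS (p := 66542) (l := 1) rfl N66542 D206060
theorem N102877 : nd 102877 = n206061 := ndS (p := 66549) (l := 3) rfl N66549 D206061
theorem N102878 : nd 102878 = n206062 := ndS (p := 66558) (l := 6) rfl N66558 D206062
theorem N102879 : nd 102879 = n206063 := ndS (p := 66578) (l := 5) rfl N66578 D206063
theorem N102880 : nd 102880 = n206064 := ndS (p := 66580) (l := 0) rfl N66580 D206064
theorem N102881 : nd 102881 = n206065 := ndS (p := 66580) (l := 1) rfl N66580 D206065
theorem N102882 : nd 102882 = n206066 := ndS (p := 66581) (l := 4) rfl N66581 D206066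
theorem N102883 : nd 102883 = n206067 := ndS (p := 66582) (l := 4) rfl N66582 D206067
theorem N102884 : nd 102884 = n206068 := ndS (p := 66582) (l := 6) rfl N66582 D206068
theorem N102885 : nd 102885 = n206069 := ndS (p := 66583) (l := 3) rfl N66583 D206069
theorem N102886 : nd 102886 = n206070 := ndS (p := 66588) (l := 7) rfl N66588 D206070
theorem N102887 : nd 102887 = n206071 := ndS (p := 66589) (l := 4) rfl N66589 D206071
theorem N102888 : nd 102888 = n206072 := ndS (p := 66589) (l := 6) rfl N66589 D206072
theorem N102889 : nd 102889 = n206073 := ndS (p := 66591) (l := 6) rfl N66591 D206073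
theorem N102890 : nd 102890 = n206074 := ndS (p := 66592) (l := 3) rfl N66592 D206074
theorem N102891 : nd 102891 = n206075 := ndS (p := 66593) (l := 1) rfl N66593 D206075
theorem N102892 : nd 102892 = n206076 := ndS (p := 66594) (l := 1) rfl N66594 D206076
theorem N102893 : nd 102893 = n206077 := ndS (p := 66594) (l := 7) rfl N66594 D206077
theorem N102894 : nd 102894 = n206078 := ndS (p := 66595) (l := 3) rfl N66595 D206078
theorem N102895 : nd 102895 = n206079 := ndS (p := 66595) (l := 4) rfl N66595 D206079
theorem N102896 : nd 102896 = n206080 := ndS (p := 66598) (l := 6) rfl N66598 D206080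
theorem N102897 : nd 102897 = n206081 := ndS (p := 66599) (l := 0) rfl N66599 D206081
theorem N102898 : nd 102898 = n206082 := ndS (p := 66599) (l := 1) rfl N66599 D206082
theorem N102899 : nd 102899 = n206083 := ndS (p := 66599) (l := 4) rfl N66599 D206083
theorem N102900 : nd 102900 = n206084 := ndS (p := 66599) (l := 7) rfl N66599 D206084
theorem N102901 : nd 102901 = n206085 := ndS (p := 66601) (l := 5) rfl N66601 D206085
theorem N102902 : nd 102902 = n206086 := ndS (p := 66602) (l := 4) rfl N66602 D206086
theorem N102903 : nd 102903 = n206087 := ndS (p := 66603) (l := 3) rfl N66603 D206087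
theorem N102904 : nd 102904 = n206088 := ndS (p := 66603) (l := 4) rfl N66603 D206088
theorem N102905 : nd 102905 = n206089 := ndS (p := 66603) (l := 6) rfl N66603 D206089
theorem N102906 : nd 102906 = n206090 := ndS (p := 66604) (l := 4) rfl N66604 D206090
theorem N102907 : nd 102907 = n206091 := ndS (p := 66605) (l := 3) rfl N66605 D206091
theorem N102908 : nd 102908 = n206092 := ndS (p := 66605) (l := 5) rfl N66605 D206092
theorem N102909 : nd 102909 = n206093 := ndS (p := 66605) (l := 7) rfl N66605 D206093
theorem N102910 : nd 102910 = n206094 := ndS (p := 66607) (l := 3) rfl N66607 D206094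
theorem N102911 : nd 102911 = n206095 := ndS (p := 66607) (l := 6) rfl N66607 D206095
theorem N102912 : nd 102912 = n206096 := ndS (p := 66608) (l := 0) rfl N66608 D206096
theorem N102913 : nd 102913 = n206097 := ndS (p := 66608) (l := 1) rfl N66608 D206097
theorem N102914 : nd 102914 = n206098 := ndS (p := 66609) (l := 0) rfl N66609 D206098
theorem N102915 : nd 102915 = n206099 := ndS (p := 66609) (l := 1) rfl N66609 D206099
theorem N102916 : nd 102916 = n206100 := ndS (p := 66609) (l := 2) rfl N66609 D206100
theorem N102917 : nd 102917 = n206101 := ndS (p := 66609) (l := 6) rfl N66609 D206101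
theorem N102918 : nd 102918 = n206102 := ndS (p := 66610) (l := 6) rfl N66610 D206102
theorem N102919 : nd 102919 = n206103 := ndS (p := 66611) (l := 0) rfl N66611 D206103
theorem N102920 : nd 102920 = n206104 := ndS (p := 66611) (l := 7) rfl N66611 D206104
theorem N102921 : nd 102921 = n206105 := ndS (p := 66612) (l := 4) rfl N66612 D206105
theorem N102922 : nd 102922 = n206106 := ndS (p := 66613) (l := 3) rfl N66613 D206106
theorem N102923 : nd 102923 = n206107 := ndS (p := 66613) (l := 4) rfl N66613 D206107
theorem N102924 : nd 102924 = n206108 := ndS (p := 66615) (l := 3) rfl N66615 D206108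
theorem N102925 : nd 102925 = n206109 := ndS (p := 66615) (l := 4) rfl N66615 D206109
theorem N102926 : nd 102926 = n206110 := ndS (p := 66615) (l := 6) rfl N66615 D206110
theorem N102927 : nd 102927 = n206111 := ndS (p := 66616) (l := 4) rfl N66616 D206111
theorem N102928 : nd 102928 = n206112 := ndS (p := 66617) (l := 6) rfl N66617 D206112
theorem N102929 : nd 102929 = n206113 := ndS (p := 66618) (l := 0) rfl N66618 D206113
theorem N102930 : nd 102930 = n206114 := ndS (p := 66618) (l := 1) rfl N66618 D206114
theorem N102931 : nd 102931 = n206115 := ndS (p := 66618) (l := 7) rfl N66618 D206115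
theorem N102932 : nd 102932 = n206116 := ndS (p := 66620) (l := 0) rfl N66620 D206116
theorem N102933 : nd 102933 = n206117 := ndS (p := 66620) (l := 2) rfl N66620 D206117
theorem N102934 : nd 102934 = n206118 := ndS (p := 66620) (l := 4) rfl N66620 D206118
theorem N102935 : nd 102935 = n206119 := ndS (p := 66622) (l := 4) rfl N66622 D206119
theorem N102936 : nd 102936 = n206120 := ndS (p := 66625) (l := 1) rfl N66625 D206120
theorem N102937 : nd 102937 = n206121 := ndS (p := 66625) (l := 7) rfl N66625 D206121
theorem N102938 : nd 102938 = n206122 := ndS (p := 66627) (l := 6) rfl N66627 D206122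
theorem N102939 : nd 102939 = n206123 := ndS (p := 66631) (l := 0) rfl N66631 D206123
theorem N102940 : nd 102940 = n206124 := ndS (p := 66631) (l := 2) rfl N66631 D206124
theorem N102941 : nd 102941 = n206125 := ndS (p := 66631) (l := 4) rfl N66631 D206125
theorem N102942 : nd 102942 = n206126 := ndS (p := 66631) (l := 5) rfl N66631 D206126
theorem N102943 : nd 102943 = n206127 := ndS (p := 66631) (l := 6) rfl N66631 D206127
theorem N102944 : nd 102944 = n206128 := ndS (p := 66633) (l := 1) rfl N66633 D206128
theorem N102945 : nd 102945 = n206129 := ndS (p := 66636) (l := 4) rfl N66636 D206129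
theorem N102946 : nd 102946 = n206130 := ndS (p := 66639) (l := 0) rfl N66639 D206130
theorem N102947 : nd 102947 = n206131 := ndS (p := 66643) (l := 5) rfl N66643 D206131
theorem N102948 : nd 102948 = n206132 := ndS (p := 66644) (l := 5) rfl N66644 D206132
theorem N102949 : nd 102949 = n206133 := ndS (p := 66647) (l := 1) rfl N66647 D206133
theorem N102950 : nd 102950 = n206134 := ndS (p := 66652) (l := 0) rfl N66652 D206134
theorem N102951 : nd 102951 = n206135 := ndS (p := 66652) (l := 2) rfl N66652 D206135
theorem N102952 : nd 102952 = n206136 := ndS (p := 66655) (l := 7) rfl N66655 D206136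
theorem N102953 : nd 102953 = n206137 := ndS (p := 66656) (l := 3) rfl N66656 D206137
theorem N102954 : nd 102954 = n206138 := ndS (p := 66656) (l := 5) rfl N66656 D206138
theorem N102955 : nd 102955 = n206139 := ndS (p := 66656) (l := 6) rfl N66656 D206139
theorem N102956 : nd 102956 = n206140 := ndS (p := 66659) (l := 5) rfl N66659 D206140
theorem N102957 : nd 102957 = n206141 := ndS (p := 66660) (l := 4) rfl N66660 D206141
theorem N102958 : nd 102958 = n206142 := ndS (p := 66669) (l := 6) rfl N66669 D206142
theorem N102959 : nd 102959 = n206143 := ndS (p := 66670) (l := 6) rfl N66670 D206143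
theorem N102960 : nd 102960 = n206144 := ndS (p := 66671) (l := 6) rfl N66671 D206144
theorem N102961 : nd 102961 = n206145 := ndS (p := 66672) (l := 0) rfl N66672 D206145
theorem N102962 : nd 102962 = n206146 := ndS (p := 66672) (l := 5) rfl N66672 D206146
theorem N102963 : nd 102963 = n206147 := ndS (p := 66672) (l := 7) rfl N66672 D206147
theorem N102964 : nd 102964 = n206148 := ndS (p := 66677) (l := 4) rfl N66677 D206148
theorem N102965 : nd 102965 = n206149 := ndS (p := 66679) (l := 3) rfl N66679 D206149
theorem N102966 : nd 102966 = n206150 := ndS (p := 66680) (l := 4) rfl N66680 D206150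
theorem N102967 : nd 102967 = n206151 := ndS (p := 66684) (l := 5) rfl N66684 D206151
theorem N102968 : nd 102968 = n206152 := ndS (p := 66684) (l := 6) rfl N66684 D206152
theorem N102969 : nd 102969 = n206153 := ndS (p := 66693) (l := 6) rfl N66693 D206153
theorem N102970 : nd 102970 = n206154 := ndS (p := 66694) (l := 1) rfl N66694 D206154
theorem N102971 : nd 102971 = n206155 := ndS (p := 66694) (l := 7) rfl N66694 D206155
theorem N102972 : nd 102972 = n206156 := ndS (p := 66696) (l := 5) rfl N66696 D206156
theorem N102973 : nd 102973 = n206157 := ndS (p := 66697) (l := 3) rfl N66697 D206157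
theorem N102974 : nd 102974 = n206158 := ndS (p := 66697) (l := 5) rfl N66697 D206158
theorem N102975 : nd 102975 = n206159 := ndS (p := 66698) (l := 5) rfl N66698 D206159
theorem N102976 : nd 102976 = n206160 := ndS (p := 66699) (l := 1) rfl N66699 D206160
theorem N102977 : nd 102977 = n206161 := ndS (p := 66699) (l := 4) rfl N66699 D206161
theorem N102978 : nd 102978 = n206162 := ndS (p := 66704) (l := 0) rfl N66704 D206162
theorem N102979 : nd 102979 = n206163 := ndS (p := 66706) (l := 1) rfl N66706 D206163
theorem N102980 : nd 102980 = n206164 := ndS (p := 66706) (l := 2) rfl N66706 D206164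
theorem N102981 : nd 102981 = n206165 := ndS (p := 66706) (l := 5) rfl N66706 D206165
theorem N102982 : nd 102982 = n206166 := ndS (p := 66708) (l := 3) rfl N66708 D206166
theorem N102983 : nd 102983 = n206167 := ndS (p := 66712) (l := 6) rfl N66712 D206167
theorem N102984 : nd 102984 = n206168 := ndS (p := 66714) (l := 5) rfl N66714 D206168
theorem N102985 : nd 102985 = n206169 := ndS (p := 66715) (l := 6) rfl N66715 D206169
theorem N102986 : nd 102986 = n206170 := ndS (p := 66716) (l := 4) rfl N66716 D206170
theorem N102987 : nd 102987 = n206171 := ndS (p := 66717) (l := 0) rfl N66717 D206171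
theorem N102988 : nd 102988 = n206172 := ndS (p := 66717) (l := 3) rfl N66717 D206172
theorem N102989 : nd 102989 = n206173 := ndS (p := 66719) (l := 5) rfl N66719 D206173
theorem N102990 : nd 102990 = n206174 := ndS (p := 66723) (l := 1) rfl N66723 D206174
theorem N102991 : nd 102991 = n206175 := ndS (p := 66723) (l := 5) rfl N66723 D206175
theorem N102992 : nd 102992 = n206176 := ndS (p := 66728) (l := 6) rfl N66728 D206176
theorem N102993 : nd 102993 = n206177 := ndS (p := 66729) (l := 3) rfl N66729 D206177
theorem N102994 : nd 102994 = n206178 := ndS (p := 66731) (l := 3) rfl N66731 D206178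
theorem N102995 : nd 102995 = n206179 := ndS (p := 66732) (l := 3) rfl N66732 D206179
theorem N102996 : nd 102996 = n206180 := ndS (p := 66732) (l := 5) rfl N66732 D206180
theorem N102997 : nd 102997 = n206181 := ndS (p := 66734) (l := 0) rfl N66734 D206181
theorem N102998 : nd 102998 = n206182 := ndS (p := 66734) (l := 7) rfl N66734 D206182
theorem N102999 : nd 102999 = n206183 := ndS (p := 66735) (l := 1) rfl N66735 D206183
theorem N103000 : nd 103000 = n206184 := ndS (p := 66735) (l := 7) rfl N66735 D206184
theorem N103001 : nd 103001 = n206185 := ndS (p := 66736) (l := 2) rfl N66736 D206185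
theorem N103002 : nd 103002 = n206186 := ndS (p := 66739) (l := 6) rfl N66739 D206186
theorem N103003 : nd 103003 = n206187 := ndS (p := 66740) (l := 6) rfl N66740 D206187
theorem N103004 : nd 103004 = n206188 := ndS (p := 66744) (l := 3) rfl N66744 D206188
theorem N103005 : nd 103005 = n206189 := ndS (p := 66744) (l := 4) rfl N66744 D206189
theorem N103006 : nd 103006 = n206190 := ndS (p := 66748) (l := 5) rfl N66748 D206190
theorem N103007 : nd 103007 = n206191 := ndS (p := 66750) (l := 2) rfl N66750 D206191
theorem N103008 : nd 103008 = n206192 := ndS (p := 66750) (l := 4) rfl N66750 D206192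
theorem N103009 : nd 103009 = n206193 := ndS (p := 66751) (l := 3) rfl N66751 D206193
theorem N103010 : nd 103010 = n206194 := ndS (p := 66751) (l := 5) rfl N66751 D206194
theorem N103011 : nd 103011 = n206195 := ndS (p := 66752) (l := 3) rfl N66752 D206195
theorem N103012 : nd 103012 = n206196 := ndS (p := 66755) (l := 3) rfl N66755 D206196
theorem N103013 : nd 103013 = n206197 := ndS (p := 66764) (l := 0) rfl N66764 D206197
theorem N103014 : nd 103014 = n206198 := ndS (p := 66764) (l := 1) rfl N66764 D206198
theorem N103015 : nd 103015 = n206199 := ndS (p := 66764) (l := 2) rfl N66764 D206199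
theorem N103016 : nd 103016 = n206200 := ndS (p := 66765) (l := 4) rfl N66765 D206200
theorem N103017 : nd 103017 = n206201 := ndS (p := 66768) (l := 4) rfl N66768 D206201
theorem N103018 : nd 103018 = n206202 := ndS (p := 66768) (l := 6) rfl N66768 D206202
theorem N103019 : nd 103019 = n206203 := ndS (p := 66770) (l := 3) rfl N66770 D206203
theorem N103020 : nd 103020 = n206204 := ndS (p := 66770) (l := 4) rfl N66770 D206204
theorem N103021 : nd 103021 = n206205 := ndS (p := 66770) (l := 6) rfl N66770 D206205
theorem N103022 : nd 103022 = n206206 := ndS (p := 66772) (l := 3) rfl N66772 D206206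
theorem N103023 : nd 103023 = n206207 := ndS (p := 66776) (l := 0) rfl N66776 D206207
theorem N103024 : nd 103024 = n206208 := ndS (p := 66776) (l := 1) rfl N66776 D206208
theorem N103025 : nd 103025 = n206209 := ndS (p := 66776) (l := 4) rfl N66776 D206209
theorem N103026 : nd 103026 = n206210 := ndS (p := 66778) (l := 3) rfl N66778 D206210
theorem N103027 : nd 103027 = n206211 := ndS (p := 66781) (l := 4) rfl N66781 D206211
theorem N103028 : nd 103028 = n206212 := ndS (p := 66781) (l := 6) rfl N66781 D206212
theorem N103029 : nd 103029 = n206213 := ndS (p := 66782) (l := 1) rfl N66782 D206213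
theorem N103030 : nd 103030 = n206214 := ndS (p := 66785) (l := 6) rfl N66785 D206214
theorem N103031 : nd 103031 = n206215 := ndS (p := 66790) (l := 4) rfl N66790 D206215
theorem N103032 : nd 103032 = n206216 := ndS (p := 66790) (l := 6) rfl N66790 D206216
theorem N103033 : nd 103033 = n206217 := ndS (p := 66791) (l := 4) rfl N66791 D206217
theorem N103034 : nd 103034 = n206218 := ndS (p := 66791) (l := 6) rfl N66791 D206218
theorem N103035 : nd 103035 = n206219 := ndS (p := 66792) (l := 1) rfl N66792 D206219
theorem N103036 : nd 103036 = n206220 := ndS (p := 66792) (l := 3) rfl N66792 D206220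
theorem N103037 : nd 103037 = n206221 := ndS (p := 66792) (l := 5) rfl N66792 D206221
theorem N103038 : nd 103038 = n206222 := ndS (p := 66792) (l := 6) rfl N66792 D206222
theorem N103039 : nd 103039 = n206223 := ndS (p := 66793) (l := 0) rfl N66793 D206223
theorem N103040 : nd 103040 = n206224 := ndS (p := 66793) (l := 7) rfl N66793 D206224
theorem N103041 : nd 103041 = n206225 := ndS (p := 66794) (l := 1) rfl N66794 D206225
theorem N103042 : nd 103042 = n206226 := ndS (p := 66794) (l := 2) rfl N66794 D206226
theorem N103043 : nd 103043 = n206227 := ndS (p := 66794) (l := 6) rfl N66794 D206227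
theorem N103044 : nd 103044 = n206228 := ndS (p := 66796) (l := 6) rfl N66796 D206228
theorem N103045 : nd 103045 = n206229 := ndS (p := 66799) (l := 6) rfl N66799 D206229
theorem N103046 : nd 103046 = n206230 := ndS (p := 66804) (l := 5) rfl N66804 D206230
theorem N103047 : nd 103047 = n206232 := ndS (p := 66805) (l := 4) rfl N66805 D206232
theorem N103048 : nd 103048 = n206233 := ndS (p := 66805) (l := 5) rfl N66805 D206233
theorem N103049 : nd 103049 = n206234 := ndS (p := 66808) (l := 6) rfl N66808 D206234
theorem N103050 : nd 103050 = n206235 := ndS (p := 66809) (l := 5) rfl N66809 D206235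
theorem N103051 : nd 103051 = n206236 := ndS (p := 66811) (l := 3) rfl N66811 D206236
theorem N103052 : nd 103052 = n206237 := ndS (p := 66811) (l := 5) rfl N66811 D206237
theorem N103053 : nd 103053 = n206238 := ndS (p := 66813) (l := 3) rfl N66813 D206238
theorem N103054 : nd 103054 = n206239 := ndS (p := 66813) (l := 5) rfl N66813 D206239
theorem N103055 : nd 103055 = n206240 := ndS (p := 66814) (l := 5) rfl N66814 D206240
theorem N103056 : nd 103056 = n206241 := ndS (p := 66815) (l := 6) rfl N66815 D206241
theorem N103057 : nd 103057 = n206242 := ndS (p := 66818) (l := 0) rfl N66818 D206242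
theorem N103058 : nd 103058 = n206243 := ndS (p := 66819) (l := 5) rfl N66819 D206243
theorem N103059 : nd 103059 = n206244 := ndS (p := 66820) (l := 7) rfl N66820 D206244
theorem N103060 : nd 103060 = n206245 := ndS (p := 66824) (l := 0) rfl N66824 D206245
theorem N103061 : nd 103061 = n206246 := ndS (p := 66826) (l := 0) rfl N66826 D206246
theorem N103062 : nd 103062 = n206247 := ndS (p := 66826) (l := 1) rfl N66826 D206247
theorem N103063 : nd 103063 = n206248 := ndS (p := 66826) (l := 7) rfl N66826 D206248
theorem N103064 : nd 103064 = n206249 := ndS (p := 66832) (l := 5) rfl N66832 D206249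
theorem N103065 : nd 103065 = n206250 := ndS (p := 66845) (l := 5) rfl N66845 D206250
theorem N103066 : nd 103066 = n206251 := ndS (p := 66858) (l := 5) rfl N66858 D206251
theorem N103067 : nd 103067 = n206252 := ndS (p := 66859) (l := 6) rfl N66859 D206252
theorem N103068 : nd 103068 = n206253 := ndS (p := 66860) (l := 4) rfl N66860 D206253
theorem N103069 : nd 103069 = n206254 := ndS (p := 66861) (l := 5) rfl N66861 D206254
theorem N103070 : nd 103070 = n206255 := ndS (p := 66870) (l := 4) rfl N66870 D206255
theorem N103071 : nd 103071 = n206256 := ndS (p := 66874) (l := 3) rfl N66874 D206256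
theorem N103072 : nd 103072 = n206257 := ndS (p := 66880) (l := 6) rfl N66880 D206257
theorem N103073 : nd 103073 = n206258 := ndS (p := 66881) (l := 4) rfl N66881 D206258
theorem N103074 : nd 103074 = n206259 := ndS (p := 66886) (l := 3) rfl N66886 D206259
theorem N103075 : nd 103075 = n206260 := ndS (p := 66886) (l := 5) rfl N66886 D206260
theorem N103076 : nd 103076 = n206261 := ndS (p := 66887) (l := 5) rfl N66887 D206261
theorem N103077 : nd 103077 = n206262 := ndS (p := 66888) (l := 3) rfl N66888 D206262
theorem N103078 : nd 103078 = n206263 := ndS (p := 66888) (l := 5) rfl N66888 D206263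
theorem N103079 : nd 103079 = n206264 := ndS (p := 66891) (l := 5) rfl N66891 D206264
theorem N103080 : nd 103080 = n206265 := ndS (p := 66892) (l := 1) rfl N66892 D206265
theorem N103081 : nd 103081 = n206266 := ndS (p := 66892) (l := 2) rfl N66892 D206266
theorem N103082 : nd 103082 = n206267 := ndS (p := 66892) (l := 5) rfl N66892 D206267
theorem N103083 : nd 103083 = n206268 := ndS (p := 66893) (l := 6) rfl N66893 D206268
theorem N103084 : nd 103084 = n206269 := ndS (p := 66894) (l := 5) rfl N66894 D206269
theorem N103085 : nd 103085 = n206270 := ndS (p := 66897) (l := 5) rfl N66897 D206270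
theorem N103086 : nd 103086 = n206271 := ndS (p := 66897) (l := 6) rfl N66897 D206271
theorem N103087 : nd 103087 = n206272 := ndS (p := 66898) (l := 5) rfl N66898 D206272
theorem N103088 : nd 103088 = n206273 := ndS (p := 66899) (l := 7) rfl N66899 D206273
theorem N103089 : nd 103089 = n206274 := ndS (p := 66903) (l := 0) rfl N66903 D206274
theorem N103090 : nd 103090 = n206275 := ndS (p := 66903) (l := 1) rfl N66903 D206275
theorem N103091 : nd 103091 = n206276 := ndS (p := 66907) (l := 1) rfl N66907 D206276
theorem N103092 : nd 103092 = n206277 := ndS (p := 66915) (l := 7) rfl N66915 D206277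
theorem N103093 : nd 103093 = n206278 := ndS (p := 66917) (l := 6) rfl N66917 D206278
theorem N103094 : nd 103094 = n206279 := ndS (p := 66920) (l := 3) rfl N66920 D206279
theorem N103095 : nd 103095 = n206280 := ndS (p := 66924) (l := 0) rfl N66924 D206280
theorem N103096 : nd 103096 = n206281 := ndS (p := 66925) (l := 5) rfl N66925 D206281
theorem N103097 : nd 103097 = n206282 := ndS (p := 66926) (l := 6) rfl N66926 D206282
theorem N103098 : nd 103098 = n206283 := ndS (p := 66927) (l := 5) rfl N66927 D206283
theorem N103099 : nd 103099 = n206284 := ndS (p := 66928) (l := 5) rfl N66928 D206284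
theorem N103100 : nd 103100 = n206285 := ndS (p := 66929) (l := 3) rfl N66929 D206285
theorem N103101 : nd 103101 = n206286 := ndS (p := 66941) (l := 0) rfl N66941 D206286
theorem N103102 : nd 103102 = n206287 := ndS (p := 66944) (l := 5) rfl N66944 D206287
theorem N103103 : nd 103103 = n206288 := ndS (p := 66947) (l := 3) rfl N66947 D206288
theorem N103104 : nd 103104 = n206289 := ndS (p := 66948) (l := 5) rfl N66948 D206289
theorem N103105 : nd 103105 = n206290 := ndS (p := 66949) (l := 4) rfl N66949 D206290
theorem N103106 : nd 103106 = n206291 := ndS (p := 66950) (l := 5) rfl N66950 D206291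
theorem N103107 : nd 103107 = n206292 := ndS (p := 66952) (l := 4) rfl N66952 D206292
theorem N103108 : nd 103108 = n206293 := ndS (p := 66952) (l := 7) rfl N66952 D206293
theorem N103109 : nd 103109 = n206294 := ndS (p := 66963) (l := 1) rfl N66963 D206294
theorem N103110 : nd 103110 = n206295 := ndS (p := 66969) (l := 6) rfl N66969 D206295
theorem N103111 : nd 103111 = n206296 := ndS (p := 66979) (l := 4) rfl N66979 D206296
theorem N103112 : nd 103112 = n206297 := ndS (p := 66982) (l := 6) rfl N66982 D206297
theorem N103113 : nd 103113 = n206298 := ndS (p := 66983) (l := 0) rfl N66983 D206298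
theorem N103114 : nd 103114 = n206299 := ndS (p := 66986) (l := 6) rfl N66986 D206299
theorem N103115 : nd 103115 = n206300 := ndS (p := 66987) (l := 3) rfl N66987 D206300
theorem N103116 : nd 103116 = n206301 := ndS (p := 66987) (l := 5) rfl N66987 D206301
theorem N103117 : nd 103117 = n206302 := ndS (p := 66994) (l := 1) rfl N66994 D206302
theorem N103118 : nd 103118 = n206303 := ndS (p := 66996) (l := 5) rfl N66996 D206303
theorem N103119 : nd 103119 = n206304 := ndS (p := 66997) (l := 1) rfl N66997 D206304
theorem N103120 : nd 103120 = n206305 := ndS (p := 66998) (l := 6) rfl N66998 D206305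
theorem N103121 : nd 103121 = n206306 := ndS (p := 66999) (l := 5) rfl N66999 D206306
theorem N103122 : nd 103122 = n206307 := ndS (p := 66999) (l := 6) rfl N66999 D206307
theorem N103123 : nd 103123 = n206308 := ndS (p := 67000) (l := 0) rfl N67000 D206308
theorem N103124 : nd 103124 = n206309 := ndS (p := 67000) (l := 7) rfl N67000 D206309
theorem N103125 : nd 103125 = n206310 := ndS (p := 67001) (l := 5) rfl N67001 D206310
theorem N103126 : nd 103126 = n206311 := ndS (p := 67002) (l := 5) rfl N67002 D206311
theorem N103127 : nd 103127 = n206313 := ndS (p := 67003) (l := 3) rfl N67003 D206313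
theorem N103128 : nd 103128 = n206314 := ndS (p := 67008) (l := 0) rfl N67008 D206314
theorem N103129 : nd 103129 = n206315 := ndS (p := 67008) (l := 4) rfl N67008 D206315
theorem N103130 : nd 103130 = n206316 := ndS (p := 67017) (l := 5) rfl N67017 D206316
theorem N103131 : nd 103131 = n206317 := ndS (p := 67018) (l := 1) rfl N67018 D206317
theorem N103132 : nd 103132 = n206318 := ndS (p := 67020) (l := 0) rfl N67020 D206318
theorem N103133 : nd 103133 = n206319 := ndS (p := 67020) (l := 1) rfl N67020 D206319
theorem N103134 : nd 103134 = n206320 := ndS (p := 67020) (l := 7) rfl N67020 D206320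
theorem N103135 : nd 103135 = n206321 := ndS (p := 67022) (l := 1) rfl N67022 D206321
theorem N103136 : nd 103136 = n206322 := ndS (p := 67024) (l := 5) rfl N67024 D206322
theorem N103137 : nd 103137 = n206323 := ndS (p := 67027) (l := 5) rfl N67027 D206323
theorem N103138 : nd 103138 = n206324 := ndS (p := 67029) (l := 2) rfl N67029 D206324
theorem N103139 : nd 103139 = n206325 := ndS (p := 67029) (l := 5) rfl N67029 D206325
theorem N103140 : nd 103140 = n206326 := ndS (p := 67033) (l := 6) rfl N67033 D206326
theorem N103141 : nd 103141 = n206327 := ndS (p := 67036) (l := 6) rfl N67036 D206327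
theorem N103142 : nd 103142 = n206328 := ndS (p := 67038) (l := 6) rfl N67038 D206328
theorem N103143 : nd 103143 = n206329 := ndS (p := 67039) (l := 5) rfl N67039 D206329
theorem N103144 : nd 103144 = n206330 := ndS (p := 67045) (l := 6) rfl N67045 D206330
theorem N103145 : nd 103145 = n206331 := ndS (p := 67046) (l := 5) rfl N67046 D206331
theorem N103146 : nd 103146 = n206332 := ndS (p := 67047) (l := 3) rfl N67047 D206332
theorem N103147 : nd 103147 = n206333 := ndS (p := 67047) (l := 4) rfl N67047 D206333
theorem N103148 : nd 103148 = n206334 := ndS (p := 67047) (l := 6) rfl N67047 D206334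
theorem N103149 : nd 103149 = n206335 := ndS (p := 67048) (l := 3) rfl N67048 D206335
theorem N103150 : nd 103150 = n206336 := ndS (p := 67048) (l := 6) rfl N67048 D206336
theorem N103151 : nd 103151 = n206337 := ndS (p := 67056) (l := 3) rfl N67056 D206337
theorem N103152 : nd 103152 = n206338 := ndS (p := 67057) (l := 1) rfl N67057 D206338
theorem N103153 : nd 103153 = n206339 := ndS (p := 67057) (l := 7) rfl N67057 D206339
theorem N103154 : nd 103154 = n206340 := ndS (p := 67059) (l := 6) rfl N67059 D206340
theorem N103155 : nd 103155 = n206341 := ndS (p := 67061) (l := 5) rfl N67061 D206341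
theorem N103156 : nd 103156 = n206342 := ndS (p := 67067) (l := 0) rfl N67067 D206342
theorem N103157 : nd 103157 = n206343 := ndS (p := 67067) (l := 1) rfl N67067 D206343
theorem N103158 : nd 103158 = n206344 := ndS (p := 67067) (l := 2) rfl N67067 D206344
theorem N103159 : nd 103159 = n206345 := ndS (p := 67068) (l := 0) rfl N67068 D206345
theorem N103160 : nd 103160 = n206346 := ndS (p := 67068) (l := 1) rfl N67068 D206346
theorem N103161 : nd 103161 = n206347 := ndS (p := 67069) (l := 0) rfl N67069 D206347
theorem N103162 : nd 103162 = n206348 := ndS (p := 67069) (l := 1) rfl N67069 D206348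
theorem N103163 : nd 103163 = n206349 := ndS (p := 67069) (l := 2) rfl N67069 D206349
theorem N103164 : nd 103164 = n206350 := ndS (p := 67069) (l := 5) rfl N67069 D206350
theorem N103165 : nd 103165 = n206351 := ndS (p := 67069) (l := 6) rfl N67069 D206351
theorem N103166 : nd 103166 = n206352 := ndS (p := 67070) (l := 6) rfl N67070 D206352
theorem N103167 : nd 103167 = n206353 := ndS (p := 67071) (l := 0) rfl N67071 D206353
theorem N103168 : nd 103168 = n206354 := ndS (p := 67071) (l := 1) rfl N67071 D206354
theorem N103169 : nd 103169 = n206355 := ndS (p := 67072) (l := 4) rfl N67072 D206355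
theorem N103170 : nd 103170 = n206356 := ndS (p := 67075) (l := 0) rfl N67075 D206356
theorem N103171 : nd 103171 = n206357 := ndS (p := 67075) (l := 1) rfl N67075 D206357
theorem N103172 : nd 103172 = n206358 := ndS (p := 67075) (l := 2) rfl N67075 D206358
theorem N103173 : nd 103173 = n206359 := ndS (p := 67075) (l := 5) rfl N67075 D206359
theorem N103174 : nd 103174 = n206360 := ndS (p := 67075) (l := 6) rfl N67075 D206360
theorem N103175 : nd 103175 = n206361 := ndS (p := 67079) (l := 5) rfl N67079 D206361
theorem N103176 : nd 103176 = n206362 := ndS (p := 67081) (l := 2) rfl N67081 D206362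
theorem N103177 : nd 103177 = n206363 := ndS (p := 67081) (l := 6) rfl N67081 D206363
theorem N103178 : nd 103178 = n206364 := ndS (p := 67082) (l := 6) rfl N67082 D206364
theorem N103179 : nd 103179 = n206365 := ndS (p := 67090) (l := 7) rfl N67090 D206365
theorem N103180 : nd 103180 = n206366 := ndS (p := 67093) (l := 5) rfl N67093 D206366
theorem N103181 : nd 103181 = n206367 := ndS (p := 67098) (l := 4) rfl N67098 D206367
theorem N103182 : nd 103182 = n206368 := ndS (p := 67101) (l := 4) rfl N67101 D206368
theorem N103183 : nd 103183 = n206369 := ndS (p := 67104) (l := 6) rfl N67104 D206369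
theorem N103184 : nd 103184 = n206370 := ndS (p := 67106) (l := 1) rfl N67106 D206370
theorem N103185 : nd 103185 = n206371 := ndS (p := 67107) (l := 0) rfl N67107 D206371
theorem N103186 : nd 103186 = n206372 := ndS (p := 67107) (l := 1) rfl N67107 D206372
theorem N103187 : nd 103187 = n206373 := ndS (p := 67113) (l := 4) rfl N67113 D206373
theorem N103188 : nd 103188 = n206374 := ndS (p := 67116) (l := 0) rfl N67116 D206374
theorem N103189 : nd 103189 = n206375 := ndS (p := 67116) (l := 6) rfl N67116 D206375
theorem N103190 : nd 103190 = n206376 := ndS (p := 67118) (l := 3) rfl N67118 D206376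
theorem N103191 : nd 103191 = n206377 := ndS (p := 67118) (l := 6) rfl N67118 D206377
theorem N103192 : nd 103192 = n206378 := ndS (p := 67120) (l := 1) rfl N67120 D206378
theorem N103193 : nd 103193 = n206379 := ndS (p := 67120) (l := 7) rfl N67120 D206379
theorem N103194 : nd 103194 = n206380 := ndS (p := 67121) (l := 6) rfl N67121 D206380
theorem N103195 : nd 103195 = n206381 := ndS (p := 67125) (l := 5) rfl N67125 D206381
theorem N103196 : nd 103196 = n206382 := ndS (p := 67126) (l := 4) rfl N67126 D206382
theorem N103197 : nd 103197 = n206383 := ndS (p := 67127) (l := 7) rfl N67127 D206383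
theorem N103198 : nd 103198 = n206384 := ndS (p := 67129) (l := 6) rfl N67129 D206384
theorem N103199 : nd 103199 = n206385 := ndS (p := 67130) (l := 5) rfl N67130 D206385
theorem N103200 : nd 103200 = n206386 := ndS (p := 67131) (l := 1) rfl N67131 D206386
theorem N103201 : nd 103201 = n206387 := ndS (p := 67131) (l := 4) rfl N67131 D206387
theorem N103202 : nd 103202 = n206388 := ndS (p := 67133) (l := 1) rfl N67133 D206388
theorem N103203 : nd 103203 = n206389 := ndS (p := 67137) (l := 3) rfl N67137 D206389
theorem N103204 : nd 103204 = n206390 := ndS (p := 67140) (l := 6) rfl N67140 D206390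
theorem N103205 : nd 103205 = n206391 := ndS (p := 67141) (l := 1) rfl N67141 D206391
theorem N103206 : nd 103206 = n206392 := ndS (p := 67142) (l := 4) rfl N67142 D206392
theorem N103207 : nd 103207 = n206393 := ndS (p := 67143) (l := 6) rfl N67143 D206393
theorem N103208 : nd 103208 = n206394 := ndS (p := 67144) (l := 3) rfl N67144 D206394
theorem N103209 : nd 103209 = n206395 := ndS (p := 67144) (l := 5) rfl N67144 D206395
theorem N103210 : nd 103210 = n206396 := ndS (p := 67144) (l := 6) rfl N67144 D206396
theorem N103211 : nd 103211 = n206397 := ndS (p := 67145) (l := 4) rfl N67145 D206397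
theorem N103212 : nd 103212 = n206398 := ndS (p := 67146) (l := 6) rfl N67146 D206398
theorem N103213 : nd 103213 = n206399 := ndS (p := 67147) (l := 5) rfl N67147 D206399
theorem N103214 : nd 103214 = n206400 := ndS (p := 67148) (l := 0) rfl N67148 D206400
theorem N103215 : nd 103215 = n206401 := ndS (p := 67148) (l := 1) rfl N67148 D206401
theorem N103216 : nd 103216 = n206402 := ndS (p := 67149) (l := 0) rfl N67149 D206402
theorem N103217 : nd 103217 = n206403 := ndS (p := 67150) (l := 0) rfl N67150 D206403
theorem N103218 : nd 103218 = n206404 := ndS (p := 67150) (l := 1) rfl N67150 D206404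
theorem N103219 : nd 103219 = n206405 := ndS (p := 67150) (l := 5) rfl N67150 D206405
theorem N103220 : nd 103220 = n206406 := ndS (p := 67150) (l := 7) rfl N67150 D206406
theorem N103221 : nd 103221 = n206407 := ndS (p := 67159) (l := 0) rfl N67159 D206407
theorem N103222 : nd 103222 = n206408 := ndS (p := 67159) (l := 1) rfl N67159 D206408
theorem N103223 : nd 103223 = n206409 := ndS (p := 67161) (l := 3) rfl N67161 D206409
theorem N103224 : nd 103224 = n206410 := ndS (p := 67161) (l := 5) rfl N67161 D206410
theorem N103225 : nd 103225 = n206411 := ndS (p := 67161) (l := 6) rfl N67161 D206411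
theorem N103226 : nd 103226 = n206412 := ndS (p := 67162) (l := 3) rfl N67162 D206412
theorem N103227 : nd 103227 = n206413 := ndS (p := 67162) (l := 5) rfl N67162 D206413
theorem N103228 : nd 103228 = n206414 := ndS (p := 67162) (l := 6) rfl N67162 D206414
theorem N103229 : nd 103229 = n206415 := ndS (p := 67164) (l := 0) rfl N67164 D206415
theorem N103230 : nd 103230 = n206416 := ndS (p := 67166) (l := 3) rfl N67166 D206416
theorem N103231 : nd 103231 = n206417 := ndS (p := 67166) (l := 6) rfl N67166 D206417
theorem N103232 : nd 103232 = n206418 := ndS (p := 67168) (l := 5) rfl N67168 D206418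
theorem N103233 : nd 103233 = n206419 := ndS (p := 67169) (l := 1) rfl N67169 D206419
theorem N103234 : nd 103234 = n206420 := ndS (p := 67169) (l := 4) rfl N67169 D206420
theorem N103235 : nd 103235 = n206421 := ndS (p := 67171) (l := 3) rfl N67171 D206421
theorem N103236 : nd 103236 = n206422 := ndS (p := 67171) (l := 6) rfl N67171 D206422
theorem N103237 : nd 103237 = n206423 := ndS (p := 67172) (l := 5) rfl N67172 D206423
theorem N103238 : nd 103238 = n206424 := ndS (p := 67173) (l := 6) rfl N67173 D206424
theorem N103239 : nd 103239 = n206425 := ndS (p := 67178) (l := 4) rfl N67178 D206425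
theorem N103240 : nd 103240 = n206426 := ndS (p := 67180) (l := 7) rfl N67180 D206426
theorem N103241 : nd 103241 = n206427 := ndS (p := 67182) (l := 5) rfl N67182 D206427
theorem N103242 : nd 103242 = n206428 := ndS (p := 67183) (l := 1) rfl N67183 D206428
theorem N103243 : nd 103243 = n206429 := ndS (p := 67185) (l := 3) rfl N67185 D206429
theorem N103244 : nd 103244 = n206430 := ndS (p := 67187) (l := 4) rfl N67187 D206430
theorem N103245 : nd 103245 = n206431 := ndS (p := 67187) (l := 5) rfl N67187 D206431
theorem N103246 : nd 103246 = n206432 := ndS (p := 67188) (l := 4) rfl N67188 D206432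
theorem N103247 : nd 103247 = n206433 := ndS (p := 67189) (l := 5) rfl N67189 D206433
theorem N103248 : nd 103248 = n206434 := ndS (p := 67189) (l := 6) rfl N67189 D206434
theorem N103249 : nd 103249 = n206435 := ndS (p := 67190) (l := 0) rfl N67190 D206435
theorem N103250 : nd 103250 = n206436 := ndS (p := 67190) (l := 4) rfl N67190 D206436
theorem N103251 : nd 103251 = n206437 := ndS (p := 67191) (l := 1) rfl N67191 D206437
theorem N103252 : nd 103252 = n206438 := ndS (p := 67191) (l := 5) rfl N67191 D206438
theorem N103253 : nd 103253 = n206439 := ndS (p := 67191) (l := 7) rfl N67191 D206439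
theorem N103254 : nd 103254 = n206440 := ndS (p := 67192) (l := 7) rfl N67192 D206440
theorem N103255 : nd 103255 = n206441 := ndS (p := 67193) (l := 1) rfl N67193 D206441
theorem N103256 : nd 103256 = n206442 := ndS (p := 67193) (l := 7) rfl N67193 D206442
theorem N103257 : nd 103257 = n206443 := ndS (p := 67195) (l := 3) rfl N67195 D206443
theorem N103258 : nd 103258 = n206444 := ndS (p := 67195) (l := 4) rfl N67195 D206444
theorem N103259 : nd 103259 = n206445 := ndS (p := 67195) (l := 5) rfl N67195 D206445
theorem N103260 : nd 103260 = n206446 := ndS (p := 67196) (l := 4) rfl N67196 D206446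
theorem N103261 : nd 103261 = n206447 := ndS (p := 67196) (l := 5) rfl N67196 D206447
theorem N103262 : nd 103262 = n206448 := ndS (p := 67197) (l := 6) rfl N67197 D206448
theorem N103263 : nd 103263 = n206449 := ndS (p := 67199) (l := 1) rfl N67199 D206449
theorem N103264 : nd 103264 = n206450 := ndS (p := 67199) (l := 7) rfl N67199 D206450
theorem N103265 : nd 103265 = n206451 := ndS (p := 67202) (l := 6) rfl N67202 D206451
theorem N103266 : nd 103266 = n206452 := ndS (p := 67203) (l := 6) rfl N67203 D206452
theorem N103267 : nd 103267 = n206453 := ndS (p := 67204) (l := 0) rfl N67204 D206453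
theorem N103268 : nd 103268 = n206454 := ndS (p := 67204) (l := 7) rfl N67204 D206454
theorem N103269 : nd 103269 = n206455 := ndS (p := 67205) (l := 7) rfl N67205 D206455
theorem N103270 : nd 103270 = n206456 := ndS (p := 67206) (l := 6) rfl N67206 D206456
theorem N103271 : nd 103271 = n206457 := ndS (p := 67208) (l := 5) rfl N67208 D206457
theorem N103272 : nd 103272 = n206458 := ndS (p := 67209) (l := 6) rfl N67209 D206458
theorem N103273 : nd 103273 = n206459 := ndS (p := 67210) (l := 1) rfl N67210 D206459
theorem N103274 : nd 103274 = n206460 := ndS (p := 67212) (l := 4) rfl N67212 D206460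
theorem N103275 : nd 103275 = n206461 := ndS (p := 67213) (l := 4) rfl N67213 D206461
theorem N103276 : nd 103276 = n206462 := ndS (p := 67215) (l := 0) rfl N67215 D206462
theorem N103277 : nd 103277 = n206463 := ndS (p := 67215) (l := 5) rfl N67215 D206463
theorem N103278 : nd 103278 = n206464 := ndS (p := 67216) (l := 4) rfl N67216 D206464
theorem N103279 : nd 103279 = n206465 := ndS (p := 67217) (l := 2) rfl N67217 D206465
theorem N103280 : nd 103280 = n206466 := ndS (p := 67217) (l := 4) rfl N67217 D206466
theorem N103281 : nd 103281 = n206467 := ndS (p := 67218) (l := 0) rfl N67218 D206467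
theorem N103282 : nd 103282 = n206468 := ndS (p := 67218) (l := 1) rfl N67218 D206468
theorem N103283 : nd 103283 = n206469 := ndS (p := 67218) (l := 5) rfl N67218 D206469
theorem N103284 : nd 103284 = n206470 := ndS (p := 67219) (l := 5) rfl N67219 D206470
theorem N103285 : nd 103285 = n206471 := ndS (p := 67220) (l := 5) rfl N67220 D206471
theorem N103286 : nd 103286 = n206472 := ndS (p := 67222) (l := 4) rfl N67222 D206472
theorem N103287 : nd 103287 = n206473 := ndS (p := 67226) (l := 0) rfl N67226 D206473
theorem N103288 : nd 103288 = n206474 := ndS (p := 67227) (l := 3) rfl N67227 D206474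
theorem N103289 : nd 103289 = n206475 := ndS (p := 67227) (l := 6) rfl N67227 D206475
theorem N103290 : nd 103290 = n206476 := ndS (p := 67228) (l := 4) rfl N67228 D206476
theorem N103291 : nd 103291 = n206477 := ndS (p := 67234) (l := 4) rfl N67234 D206477
theorem N103292 : nd 103292 = n206478 := ndS (p := 67235) (l := 4) rfl N67235 D206478
theorem N103293 : nd 103293 = n206479 := ndS (p := 67239) (l := 4) rfl N67239 D206479
theorem N103294 : nd 103294 = n206480 := ndS (p := 67240) (l := 4) rfl N67240 D206480
theorem N103295 : nd 103295 = n206481 := ndS (p := 67241) (l := 6) rfl N67241 D206481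
theorem N103296 : nd 103296 = n206482 := ndS (p := 67243) (l := 1) rfl N67243 D206482
theorem N103297 : nd 103297 = n206483 := ndS (p := 67245) (l := 5) rfl N67245 D206483
theorem N103298 : nd 103298 = n206484 := ndS (p := 67246) (l := 5) rfl N67246 D206484
theorem N103299 : nd 103299 = n206485 := ndS (p := 67247) (l := 4) rfl N67247 D206485
theorem N103300 : nd 103300 = n206486 := ndS (p := 67250) (l := 3) rfl N67250 D206486
theorem N103301 : nd 103301 = n206487 := ndS (p := 67250) (l := 5) rfl N67250 D206487
theorem N103302 : nd 103302 = n206488 := ndS (p := 67251) (l := 3) rfl N67251 D206488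
theorem N103303 : nd 103303 = n206489 := ndS (p := 67251) (l := 5) rfl N67251 D206489
theorem N103304 : nd 103304 = n206490 := ndS (p := 67252) (l := 3) rfl N67252 D206490
theorem N103305 : nd 103305 = n206491 := ndS (p := 67252) (l := 6) rfl N67252 D206491
theorem N103306 : nd 103306 = n206492 := ndS (p := 67253) (l := 3) rfl N67253 D206492
theorem N103307 : nd 103307 = n206493 := ndS (p := 67256) (l := 0) rfl N67256 D206493
theorem N103308 : nd 103308 = n206494 := ndS (p := 67256) (l := 5) rfl N67256 D206494
theorem N103309 : nd 103309 = n206495 := ndS (p := 67258) (l := 0) rfl N67258 D206495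
theorem N103310 : nd 103310 = n206496 := ndS (p := 67258) (l := 4) rfl N67258 D206496
theorem N103311 : nd 103311 = n206497 := ndS (p := 67259) (l := 3) rfl N67259 D206497
theorem N103312 : nd 103312 = n206498 := ndS (p := 67260) (l := 3) rfl N67260 D206498
theorem N103313 : nd 103313 = n206499 := ndS (p := 67261) (l := 1) rfl N67261 D206499
theorem N103314 : nd 103314 = n206500 := ndS (p := 67262) (l := 4) rfl N67262 D206500
theorem N103315 : nd 103315 = n206501 := ndS (p := 67265) (l := 3) rfl N67265 D206501
theorem N103316 : nd 103316 = n206502 := ndS (p := 67265) (l := 6) rfl N67265 D206502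
theorem N103317 : nd 103317 = n206503 := ndS (p := 67267) (l := 5) rfl N67267 D206503
theorem N103318 : nd 103318 = n206504 := ndS (p := 67267) (l := 7) rfl N67267 D206504
theorem N103319 : nd 103319 = n206505 := ndS (p := 67268) (l := 0) rfl N67268 D206505
theorem N103320 : nd 103320 = n206506 := ndS (p := 67268) (l := 5) rfl N67268 D206506
theorem N103321 : nd 103321 = n206507 := ndS (p := 67274) (l := 3) rfl N67274 D206507
theorem N103322 : nd 103322 = n206508 := ndS (p := 67275) (l := 3) rfl N67275 D206508
theorem N103323 : nd 103323 = n206509 := ndS (p := 67275) (l := 6) rfl N67275 D206509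
theorem N103324 : nd 103324 = n206510 := ndS (p := 67283) (l := 1) rfl N67283 D206510
theorem N103325 : nd 103325 = n206511 := ndS (p := 67283) (l := 2) rfl N67283 D206511
theorem N103326 : nd 103326 = n206512 := ndS (p := 67283) (l := 6) rfl N67283 D206512
theorem N103327 : nd 103327 = n206513 := ndS (p := 67285) (l := 5) rfl N67285 D206513
theorem N103328 : nd 103328 = n206514 := ndS (p := 67290) (l := 4) rfl N67290 D206514
theorem N103329 : nd 103329 = n206516 := ndS (p := 67291) (l := 2) rfl N67291 D206516
theorem N103330 : nd 103330 = n206517 := ndS (p := 67291) (l := 5) rfl N67291 D206517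
theorem N103331 : nd 103331 = n206518 := ndS (p := 67291) (l := 6) rfl N67291 D206518
theorem N103332 : nd 103332 = n206519 := ndS (p := 67295) (l := 5) rfl N67295 D206519
theorem N103333 : nd 103333 = n206520 := ndS (p := 67295) (l := 7) rfl N67295 D206520
theorem N103334 : nd 103334 = n206521 := ndS (p := 67296) (l := 4) rfl N67296 D206521
theorem N103335 : nd 103335 = n206522 := ndS (p := 67297) (l := 3) rfl N67297 D206522
theorem N103336 : nd 103336 = n206523 := ndS (p := 67297) (l := 4) rfl N67297 D206523
theorem N103337 : nd 103337 = n206524 := ndS (p := 67297) (l := 6) rfl N67297 D206524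
theorem N103338 : nd 103338 = n206525 := ndS (p := 67298) (l := 3) rfl N67298 D206525
theorem N103339 : nd 103339 = n206526 := ndS (p := 67298) (l := 4) rfl N67298 D206526
theorem N103340 : nd 103340 = n206527 := ndS (p := 67298) (l := 6) rfl N67298 D206527
theorem N103341 : nd 103341 = n206528 := ndS (p := 67299) (l := 1) rfl N67299 D206528
theorem N103342 : nd 103342 = n206529 := ndS (p := 67303) (l := 6) rfl N67303 D206529
theorem N103343 : nd 103343 = n206530 := ndS (p := 67309) (l := 3) rfl N67309 D206530
theorem N103344 : nd 103344 = n206531 := ndS (p := 67311) (l := 0) rfl N67311 D206531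
theorem N103345 : nd 103345 = n206532 := ndS (p := 67311) (l := 1) rfl N67311 D206532
theorem N103346 : nd 103346 = n206533 := ndS (p := 67311) (l := 2) rfl N67311 D206533
theorem N103347 : nd 103347 = n206534 := ndS (p := 67312) (l := 4) rfl N67312 D206534
theorem N103348 : nd 103348 = n206535 := ndS (p := 67313) (l := 4) rfl N67313 D206535
theorem N103349 : nd 103349 = n206536 := ndS (p := 67313) (l := 6) rfl N67313 D206536
theorem N103350 : nd 103350 = n206537 := ndS (p := 67314) (l := 5) rfl N67314 D206537
theorem N103351 : nd 103351 = n206538 := ndS (p := 67315) (l := 6) rfl N67315 D206538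
theorem N103352 : nd 103352 = n206539 := ndS (p := 67316) (l := 1) rfl N67316 D206539
theorem N103353 : nd 103353 = n206540 := ndS (p := 67316) (l := 7) rfl N67316 D206540
theorem N103354 : nd 103354 = n206541 := ndS (p := 67317) (l := 4) rfl N67317 D206541
theorem N103355 : nd 103355 = n206542 := ndS (p := 67317) (l := 6) rfl N67317 D206542
theorem N103356 : nd 103356 = n206543 := ndS (p := 67318) (l := 3) rfl N67318 D206543
theorem N103357 : nd 103357 = n206544 := ndS (p := 67322) (l := 4) rfl N67322 D206544
theorem N103358 : nd 103358 = n206545 := ndS (p := 67322) (l := 6) rfl N67322 D206545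
theorem N103359 : nd 103359 = n206546 := ndS (p := 67323) (l := 3) rfl N67323 D206546
theorem N103360 : nd 103360 = n206547 := ndS (p := 67323) (l := 6) rfl N67323 D206547
theorem N103361 : nd 103361 = n206548 := ndS (p := 67326) (l := 6) rfl N67326 D206548
theorem N103362 : nd 103362 = n206549 := ndS (p := 67327) (l := 3) rfl N67327 D206549
theorem N103363 : nd 103363 = n206550 := ndS (p := 67327) (l := 6) rfl N67327 D206550
theorem N103364 : nd 103364 = n206551 := ndS (p := 67328) (l := 5) rfl N67328 D206551
theorem N103365 : nd 103365 = n206552 := ndS (p := 67329) (l := 2) rfl N67329 D206552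
theorem N103366 : nd 103366 = n206553 := ndS (p := 67333) (l := 3) rfl N67333 D206553
theorem N103367 : nd 103367 = n206554 := ndS (p := 67336) (l := 0) rfl N67336 D206554
theorem N103368 : nd 103368 = n206555 := ndS (p := 67341) (l := 0) rfl N67341 D206555
theorem N103369 : nd 103369 = n206556 := ndS (p := 67341) (l := 2) rfl N67341 D206556
theorem N103370 : nd 103370 = n206557 := ndS (p := 67342) (l := 0) rfl N67342 D206557
theorem N103371 : nd 103371 = n206558 := ndS (p := 67342) (l := 1) rfl N67342 D206558
theorem N103372 : nd 103372 = n206559 := ndS (p := 67343) (l := 1) rfl N67343 D206559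
theorem N103373 : nd 103373 = n206560 := ndS (p := 67343) (l := 2) rfl N67343 D206560
theorem N103374 : nd 103374 = n206561 := ndS (p := 67343) (l := 6) rfl N67343 D206561
theorem N103375 : nd 103375 = n206562 := ndS (p := 67347) (l := 3) rfl N67347 D206562
theorem N103376 : nd 103376 = n206563 := ndS (p := 67348) (l := 0) rfl N67348 D206563
theorem N103377 : nd 103377 = n206564 := ndS (p := 67348) (l := 7) rfl N67348 D206564
theorem N103378 : nd 103378 = n206565 := ndS (p := 67354) (l := 1) rfl N67354 D206565
theorem N103379 : nd 103379 = n206566 := ndS (p := 67354) (l := 2) rfl N67354 D206566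
theorem N103380 : nd 103380 = n206567 := ndS (p := 67357) (l := 4) rfl N67357 D206567
theorem N103381 : nd 103381 = n206568 := ndS (p := 67358) (l := 3) rfl N67358 D206568
theorem N103382 : nd 103382 = n206569 := ndS (p := 67360) (l := 5) rfl N67360 D206569
theorem N103383 : nd 103383 = n206570 := ndS (p := 67360) (l := 6) rfl N67360 D206570
theorem N103384 : nd 103384 = n206571 := ndS (p := 67365) (l := 0) rfl N67365 D206571
theorem N103385 : nd 103385 = n206572 := ndS (p := 67365) (l := 2) rfl N67365 D206572
theorem N103386 : nd 103386 = n206573 := ndS (p := 67365) (l := 5) rfl N67365 D206573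
theorem N103387 : nd 103387 = n206574 := ndS (p := 67367) (l := 2) rfl N67367 D206574
theorem N103388 : nd 103388 = n206575 := ndS (p := 67367) (l := 5) rfl N67367 D206575
theorem N103389 : nd 103389 = n206576 := ndS (p := 67369) (l := 5) rfl N67369 D206576
theorem N103390 : nd 103390 = n206577 := ndS (p := 67372) (l := 5) rfl N67372 D206577
theorem N103391 : nd 103391 = n206578 := ndS (p := 67374) (l := 6) rfl N67374 D206578
theorem N103392 : nd 103392 = n206579 := ndS (p := 67375) (l := 0) rfl N67375 D206579
theorem N103393 : nd 103393 = n206580 := ndS (p := 67375) (l := 1) rfl N67375 D206580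
theorem N103394 : nd 103394 = n206581 := ndS (p := 67375) (l := 3) rfl N67375 D206581
theorem N103395 : nd 103395 = n206582 := ndS (p := 67375) (l := 6) rfl N67375 D206582
theorem N103396 : nd 103396 = n206583 := ndS (p := 67376) (l := 4) rfl N67376 D206583
theorem N103397 : nd 103397 = n206584 := ndS (p := 67377) (l := 0) rfl N67377 D206584
theorem N103398 : nd 103398 = n206585 := ndS (p := 67381) (l := 5) rfl N67381 D206585
theorem N103399 : nd 103399 = n206586 := ndS (p := 67381) (l := 6) rfl N67381 D206586
theorem N103400 : nd 103400 = n206587 := ndS (p := 67382) (l := 4) rfl N67382 D206587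
theorem N103401 : nd 103401 = n206588 := ndS (p := 67384) (l := 5) rfl N67384 D206588
theorem N103402 : nd 103402 = n206589 := ndS (p := 67384) (l := 6) rfl N67384 D206589
theorem N103403 : nd 103403 = n206590 := ndS (p := 67385) (l := 0) rfl N67385 D206590
theorem N103404 : nd 103404 = n206591 := ndS (p := 67385) (l := 1) rfl N67385 D206591
theorem N103405 : nd 103405 = n206592 := ndS (p := 67385) (l := 4) rfl N67385 D206592
theorem N103406 : nd 103406 = n206593 := ndS (p := 67385) (l := 6) rfl N67385 D206593
theorem N103407 : nd 103407 = n206594 := ndS (p := 67386) (l := 5) rfl N67386 D206594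
theorem N103408 : nd 103408 = n206595 := ndS (p := 67386) (l := 7) rfl N67386 D206595
theorem N103409 : nd 103409 = n206596 := ndS (p := 67388) (l := 0) rfl N67388 D206596
theorem N103410 : nd 103410 = n206597 := ndS (p := 67388) (l := 5) rfl N67388 D206597
theorem N103411 : nd 103411 = n206598 := ndS (p := 67393) (l := 5) rfl N67393 D206598
theorem N103412 : nd 103412 = n206599 := ndS (p := 67397) (l := 6) rfl N67397 D206599
theorem N103413 : nd 103413 = n206600 := ndS (p := 67404) (l := 5) rfl N67404 D206600
theorem N103414 : nd 103414 = n206601 := ndS (p := 67407) (l := 4) rfl N67407 D206601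
theorem N103415 : nd 103415 = n206602 := ndS (p := 67408) (l := 6) rfl N67408 D206602
theorem N103416 : nd 103416 = n206603 := ndS (p := 67416) (l := 5) rfl N67416 D206603
theorem N103417 : nd 103417 = n206604 := ndS (p := 67416) (l := 7) rfl N67416 D206604
theorem N103418 : nd 103418 = n206605 := ndS (p := 67417) (l := 3) rfl N67417 D206605
theorem N103419 : nd 103419 = n206606 := ndS (p := 67417) (l := 4) rfl N67417 D206606
theorem N103420 : nd 103420 = n206607 := ndS (p := 67417) (l := 5) rfl N67417 D206607
theorem N103421 : nd 103421 = n206608 := ndS (p := 67420) (l := 3) rfl N67420 D206608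
theorem N103422 : nd 103422 = n206609 := ndS (p := 67420) (l := 6) rfl N67420 D206609
theorem N103423 : nd 103423 = n206610 := ndS (p := 67424) (l := 5) rfl N67424 D206610
theorem N103424 : nd 103424 = n206611 := ndS (p := 67430) (l := 6) rfl N67430 D206611
theorem N103425 : nd 103425 = n206612 := ndS (p := 67431) (l := 7) rfl N67431 D206612
theorem N103426 : nd 103426 = n206613 := ndS (p := 67440) (l := 1) rfl N67440 D206613
theorem N103427 : nd 103427 = n206614 := ndS (p := 67441) (l := 3) rfl N67441 D206614
theorem N103428 : nd 103428 = n206615 := ndS (p := 67442) (l := 1) rfl N67442 D206615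
theorem N103429 : nd 103429 = n206616 := ndS (p := 67443) (l := 5) rfl N67443 D206616
theorem N103430 : nd 103430 = n206617 := ndS (p := 67444) (l := 4) rfl N67444 D206617
theorem N103431 : nd 103431 = n206618 := ndS (p := 67445) (l := 3) rfl N67445 D206618
theorem N103432 : nd 103432 = n206619 := ndS (p := 67445) (l := 6) rfl N67445 D206619
theorem N103433 : nd 103433 = n206620 := ndS (p := 67449) (l := 0) rfl N67449 D206620
theorem N103434 : nd 103434 = n206621 := ndS (p := 67449) (l := 6) rfl N67449 D206621
theorem N103435 : nd 103435 = n206622 := ndS (p := 67453) (l := 0) rfl N67453 D206622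
theorem N103436 : nd 103436 = n206623 := ndS (p := 67453) (l := 5) rfl N67453 D206623
theorem N103437 : nd 103437 = n206624 := ndS (p := 67453) (l := 7) rfl N67453 D206624
theorem N103438 : nd 103438 = n206625 := ndS (p := 67454) (l := 4) rfl N67454 D206625
theorem N103439 : nd 103439 = n206626 := ndS (p := 67457) (l := 5) rfl N67457 D206626
theorem N103440 : nd 103440 = n206627 := ndS (p := 67462) (l := 5) rfl N67462 D206627
theorem N103441 : nd 103441 = n206628 := ndS (p := 67462) (l := 6) rfl N67462 D206628
theorem N103442 : nd 103442 = n206629 := ndS (p := 67463) (l := 3) rfl N67463 D206629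
theorem N103443 : nd 103443 = n206630 := ndS (p := 67463) (l := 5) rfl N67463 D206630
theorem N103444 : nd 103444 = n206631 := ndS (p := 67463) (l := 6) rfl N67463 D206631
theorem N103445 : nd 103445 = n206632 := ndS (p := 67464) (l := 1) rfl N67464 D206632
theorem N103446 : nd 103446 = n206633 := ndS (p := 67466) (l := 0) rfl N67466 D206633
theorem N103447 : nd 103447 = n206634 := ndS (p := 67466) (l := 1) rfl N67466 D206634
theorem N103448 : nd 103448 = n206635 := ndS (p := 67471) (l := 0) rfl N67471 D206635
theorem N103449 : nd 103449 = n206636 := ndS (p := 67471) (l := 6) rfl N67471 D206636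
theorem N103450 : nd 103450 = n206637 := ndS (p := 67473) (l := 6) rfl N67473 D206637
theorem N103451 : nd 103451 = n206638 := ndS (p := 67475) (l := 0) rfl N67475 D206638
theorem N103452 : nd 103452 = n206639 := ndS (p := 67475) (l := 7) rfl N67475 D206639
theorem N103453 : nd 103453 = n206640 := ndS (p := 67477) (l := 4) rfl N67477 D206640
theorem N103454 : nd 103454 = n206641 := ndS (p := 67478) (l := 3) rfl N67478 D206641
theorem N103455 : nd 103455 = n206642 := ndS (p := 67478) (l := 4) rfl N67478 D206642
theorem N103456 : nd 103456 = n206643 := ndS (p := 67480) (l := 5) rfl N67480 D206643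
theorem N103457 : nd 103457 = n206644 := ndS (p := 67481) (l := 5) rfl N67481 D206644
theorem N103458 : nd 103458 = n206645 := ndS (p := 67482) (l := 1) rfl N67482 D206645
theorem N103459 : nd 103459 = n206646 := ndS (p := 67482) (l := 4) rfl N67482 D206646
theorem N103460 : nd 103460 = n206647 := ndS (p := 67484) (l := 4) rfl N67484 D206647
theorem N103461 : nd 103461 = n206648 := ndS (p := 67485) (l := 3) rfl N67485 D206648
theorem N103462 : nd 103462 = n206649 := ndS (p := 67485) (l := 5) rfl N67485 D206649
theorem N103463 : nd 103463 = n206650 := ndS (p := 67486) (l := 0) rfl N67486 D206650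
theorem N103464 : nd 103464 = n206651 := ndS (p := 67486) (l := 4) rfl N67486 D206651
theorem N103465 : nd 103465 = n206652 := ndS (p := 67486) (l := 6) rfl N67486 D206652
theorem N103466 : nd 103466 = n206653 := ndS (p := 67488) (l := 5) rfl N67488 D206653
theorem N103467 : nd 103467 = n206654 := ndS (p := 67489) (l := 4) rfl N67489 D206654
theorem N103468 : nd 103468 = n206655 := ndS (p := 67491) (l := 5) rfl N67491 D206655
theorem N103469 : nd 103469 = n206656 := ndS (p := 67492) (l := 5) rfl N67492 D206656
theorem N103470 : nd 103470 = n206657 := ndS (p := 67493) (l := 5) rfl N67493 D206657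
theorem N103471 : nd 103471 = n206658 := ndS (p := 67494) (l := 1) rfl N67494 D206658
theorem N103472 : nd 103472 = n206659 := ndS (p := 67494) (l := 4) rfl N67494 D206659
theorem N103473 : nd 103473 = n206660 := ndS (p := 67495) (l := 5) rfl N67495 D206660
theorem N103474 : nd 103474 = n206661 := ndS (p := 67495) (l := 6) rfl N67495 D206661
theorem N103475 : nd 103475 = n206662 := ndS (p := 67496) (l := 0) rfl N67496 D206662
theorem N103476 : nd 103476 = n206663 := ndS (p := 67496) (l := 1) rfl N67496 D206663
theorem N103477 : nd 103477 = n206664 := ndS (p := 67496) (l := 4) rfl N67496 D206664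
theorem N103478 : nd 103478 = n206665 := ndS (p := 67496) (l := 6) rfl N67496 D206665
theorem N103479 : nd 103479 = n206666 := ndS (p := 67499) (l := 4) rfl N67499 D206666
theorem N103480 : nd 103480 = n206667 := ndS (p := 67499) (l := 6) rfl N67499 D206667
theorem N103481 : nd 103481 = n206668 := ndS (p := 67500) (l := 6) rfl N67500 D206668
theorem N103482 : nd 103482 = n206669 := ndS (p := 67501) (l := 0) rfl N67501 D206669
theorem N103483 : nd 103483 = n206670 := ndS (p := 67501) (l := 1) rfl N67501 D206670
theorem N103484 : nd 103484 = n206671 := ndS (p := 67501) (l := 3) rfl N67501 D206671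
theorem N103485 : nd 103485 = n206672 := ndS (p := 67504) (l := 5) rfl N67504 D206672
theorem N103486 : nd 103486 = n206673 := ndS (p := 67505) (l := 4) rfl N67505 D206673
theorem N103487 : nd 103487 = n206674 := ndS (p := 67506) (l := 5) rfl N67506 D206674
theorem N103488 : nd 103488 = n206675 := ndS (p := 67507) (l := 3) rfl N67507 D206675
theorem N103489 : nd 103489 = n206676 := ndS (p := 67509) (l := 6) rfl N67509 D206676
theorem N103490 : nd 103490 = n206677 := ndS (p := 67510) (l := 6) rfl N67510 D206677
theorem N103491 : nd 103491 = n206678 := ndS (p := 67512) (l := 0) rfl N67512 D206678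
theorem N103492 : nd 103492 = n206679 := ndS (p := 67512) (l := 1) rfl N67512 D206679
theorem N103493 : nd 103493 = n206680 := ndS (p := 67512) (l := 5) rfl N67512 D206680
theorem N103494 : nd 103494 = n206681 := ndS (p := 67512) (l := 7) rfl N67512 D206681
theorem N103495 : nd 103495 = n206682 := ndS (p := 67513) (l := 3) rfl N67513 D206682
theorem N103496 : nd 103496 = n206683 := ndS (p := 67513) (l := 6) rfl N67513 D206683
theorem N103497 : nd 103497 = n206684 := ndS (p := 67514) (l := 5) rfl N67514 D206684
theorem N103498 : nd 103498 = n206685 := ndS (p := 67515) (l := 0) rfl N67515 D206685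
theorem N103499 : nd 103499 = n206686 := ndS (p := 67515) (l := 7) rfl N67515 D206686
theorem N103500 : nd 103500 = n206687 := ndS (p := 67517) (l := 3) rfl N67517 D206687
theorem N103501 : nd 103501 = n206688 := ndS (p := 67517) (l := 5) rfl N67517 D206688
theorem N103502 : nd 103502 = n206689 := ndS (p := 67519) (l := 3) rfl N67519 D206689
theorem N103503 : nd 103503 = n206690 := ndS (p := 67519) (l := 5) rfl N67519 D206690
theorem N103504 : nd 103504 = n206691 := ndS (p := 67520) (l := 2) rfl N67520 D206691
theorem N103505 : nd 103505 = n206692 := ndS (p := 67523) (l := 6) rfl N67523 D206692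
theorem N103506 : nd 103506 = n206693 := ndS (p := 67524) (l := 0) rfl N67524 D206693
theorem N103507 : nd 103507 = n206694 := ndS (p := 67524) (l := 1) rfl N67524 D206694
theorem N103508 : nd 103508 = n206695 := ndS (p := 67524) (l := 5) rfl N67524 D206695
theorem N103509 : nd 103509 = n206696 := ndS (p := 67524) (l := 7) rfl N67524 D206696
theorem N103510 : nd 103510 = n206697 := ndS (p := 67525) (l := 5) rfl N67525 D206697
theorem N103511 : nd 103511 = n206698 := ndS (p := 67526) (l := 3) rfl N67526 D206698
theorem N103512 : nd 103512 = n206699 := ndS (p := 67526) (l := 5) rfl N67526 D206699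
theorem N103513 : nd 103513 = n206700 := ndS (p := 67527) (l := 0) rfl N67527 D206700
theorem N103514 : nd 103514 = n206701 := ndS (p := 67527) (l := 1) rfl N67527 D206701
theorem N103515 : nd 103515 = n206702 := ndS (p := 67529) (l := 3) rfl N67529 D206702
theorem N103516 : nd 103516 = n206703 := ndS (p := 67529) (l := 5) rfl N67529 D206703
theorem N103517 : nd 103517 = n206704 := ndS (p := 67531) (l := 3) rfl N67531 D206704
theorem N103518 : nd 103518 = n206705 := ndS (p := 67531) (l := 6) rfl N67531 D206705
theorem N103519 : nd 103519 = n206706 := ndS (p := 67533) (l := 4) rfl N67533 D206706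
theorem N103520 : nd 103520 = n206707 := ndS (p := 67535) (l := 5) rfl N67535 D206707
theorem N103521 : nd 103521 = n206708 := ndS (p := 67536) (l := 5) rfl N67536 D206708
theorem N103522 : nd 103522 = n206709 := ndS (p := 67537) (l := 4) rfl N67537 D206709
theorem N103523 : nd 103523 = n206710 := ndS (p := 67537) (l := 7) rfl N67537 D206710
theorem N103524 : nd 103524 = n206711 := ndS (p := 67539) (l := 6) rfl N67539 D206711
theorem N103525 : nd 103525 = n206712 := ndS (p := 67540) (l := 6) rfl N67540 D206712
theorem N103526 : nd 103526 = n206713 := ndS (p := 67541) (l := 4) rfl N67541 D206713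
theorem N103527 : nd 103527 = n206714 := ndS (p := 67541) (l := 6) rfl N67541 D206714
theorem N103528 : nd 103528 = n206715 := ndS (p := 67542) (l := 0) rfl N67542 D206715
theorem N103529 : nd 103529 = n206716 := ndS (p := 67542) (l := 5) rfl N67542 D206716
theorem N103530 : nd 103530 = n206717 := ndS (p := 67542) (l := 7) rfl N67542 D206717
theorem N103531 : nd 103531 = n206718 := ndS (p := 67543) (l := 6) rfl N67543 D206718
theorem N103532 : nd 103532 = n206719 := ndS (p := 67545) (l := 5) rfl N67545 D206719
theorem N103533 : nd 103533 = n206720 := ndS (p := 67545) (l := 7) rfl N67545 D206720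
theorem N103534 : nd 103534 = n206721 := ndS (p := 67546) (l := 6) rfl N67546 D206721
theorem N103535 : nd 103535 = n206722 := ndS (p := 67548) (l := 6) rfl N67548 D206722
theorem N103536 : nd 103536 = n206723 := ndS (p := 67549) (l := 6) rfl N67549 D206723
theorem N103537 : nd 103537 = n206724 := ndS (p := 67550) (l := 6) rfl N67550 D206724
theorem N103538 : nd 103538 = n206725 := ndS (p := 67551) (l := 0) rfl N67551 D206725
theorem N103539 : nd 103539 = n206726 := ndS (p := 67551) (l := 1) rfl N67551 D206726
theorem N103540 : nd 103540 = n206727 := ndS (p := 67551) (l := 5) rfl N67551 D206727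
theorem N103541 : nd 103541 = n206728 := ndS (p := 67551) (l := 7) rfl N67551 D206728
theorem N103542 : nd 103542 = n206729 := ndS (p := 67552) (l := 3) rfl N67552 D206729
theorem N103543 : nd 103543 = n206730 := ndS (p := 67552) (l := 5) rfl N67552 D206730
theorem N103544 : nd 103544 = n206731 := ndS (p := 67553) (l := 3) rfl N67553 D206731
theorem N103545 : nd 103545 = n206732 := ndS (p := 67553) (l := 5) rfl N67553 D206732
theorem N103546 : nd 103546 = n206733 := ndS (p := 67553) (l := 6) rfl N67553 D206733
theorem N103547 : nd 103547 = n206734 := ndS (p := 67555) (l := 6) rfl N67555 D206734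
theorem N103548 : nd 103548 = n206735 := ndS (p := 67559) (l := 0) rfl N67559 D206735
theorem N103549 : nd 103549 = n206737 := ndS (p := 67559) (l := 2) rfl N67559 D206737
theorem N103550 : nd 103550 = n206738 := ndS (p := 67559) (l := 5) rfl N67559 D206738
theorem N103551 : nd 103551 = n206739 := ndS (p := 67561) (l := 5) rfl N67561 D206739
theorem N103552 : nd 103552 = n206740 := ndS (p := 67561) (l := 6) rfl N67561 D206740
theorem N103553 : nd 103553 = n206741 := ndS (p := 67562) (l := 6) rfl N67562 D206741
theorem N103554 : nd 103554 = n206742 := ndS (p := 67563) (l := 5) rfl N67563 D206742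
theorem N103555 : nd 103555 = n206743 := ndS (p := 67564) (l := 3) rfl N67564 D206743
theorem N103556 : nd 103556 = n206744 := ndS (p := 67564) (l := 6) rfl N67564 D206744
theorem N103557 : nd 103557 = n206745 := ndS (p := 67565) (l := 3) rfl N67565 D206745
theorem N103558 : nd 103558 = n206746 := ndS (p := 67565) (l := 6) rfl N67565 D206746
theorem N103559 : nd 103559 = n206747 := ndS (p := 67569) (l := 2) rfl N67569 D206747
theorem N103560 : nd 103560 = n206748 := ndS (p := 67569) (l := 5) rfl N67569 D206748
theorem N103561 : nd 103561 = n206749 := ndS (p := 67570) (l := 1) rfl N67570 D206749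
theorem N103562 : nd 103562 = n206750 := ndS (p := 67572) (l := 2) rfl N67572 D206750
theorem N103563 : nd 103563 = n206751 := ndS (p := 67572) (l := 5) rfl N67572 D206751
theorem N103564 : nd 103564 = n206752 := ndS (p := 67572) (l := 6) rfl N67572 D206752
theorem N103565 : nd 103565 = n206753 := ndS (p := 67573) (l := 6) rfl N67573 D206753
theorem N103566 : nd 103566 = n206754 := ndS (p := 67574) (l := 0) rfl N67574 D206754
theorem N103567 : nd 103567 = n206755 := ndS (p := 67574) (l := 5) rfl N67574 D206755
theorem N103568 : nd 103568 = n206756 := ndS (p := 67575) (l := 3) rfl N67575 D206756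
theorem N103569 : nd 103569 = n206757 := ndS (p := 67578) (l := 3) rfl N67578 D206757
theorem N103570 : nd 103570 = n206758 := ndS (p := 67583) (l := 6) rfl N67583 D206758
theorem N103571 : nd 103571 = n206759 := ndS (p := 67584) (l := 3) rfl N67584 D206759
theorem N103572 : nd 103572 = n206760 := ndS (p := 67584) (l := 5) rfl N67584 D206760
theorem N103573 : nd 103573 = n206761 := ndS (p := 67584) (l := 6) rfl N67584 D206761
theorem N103574 : nd 103574 = n206762 := ndS (p := 67587) (l := 6) rfl N67587 D206762
theorem N103575 : nd 103575 = n206763 := ndS (p := 67589) (l := 0) rfl N67589 D206763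
theorem N103576 : nd 103576 = n206764 := ndS (p := 67589) (l := 1) rfl N67589 D206764
theorem N103577 : nd 103577 = n206765 := ndS (p := 67590) (l := 4) rfl N67590 D206765
theorem N103578 : nd 103578 = n206766 := ndS (p := 67590) (l := 6) rfl N67590 D206766
theorem N103579 : nd 103579 = n206767 := ndS (p := 67594) (l := 3) rfl N67594 D206767
theorem N103580 : nd 103580 = n206768 := ndS (p := 67594) (l := 5) rfl N67594 D206768
theorem N103581 : nd 103581 = n206769 := ndS (p := 67601) (l := 4) rfl N67601 D206769
theorem N103582 : nd 103582 = n206770 := ndS (p := 67606) (l := 4) rfl N67606 D206770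
theorem N103583 : nd 103583 = n206771 := ndS (p := 67610) (l := 6) rfl N67610 D206771
theorem N103584 : nd 103584 = n206772 := ndS (p := 67611) (l := 5) rfl N67611 D206772
theorem N103585 : nd 103585 = n206773 := ndS (p := 67614) (l := 3) rfl N67614 D206773
theorem N103586 : nd 103586 = n206774 := ndS (p := 67614) (l := 5) rfl N67614 D206774
theorem N103587 : nd 103587 = n206775 := ndS (p := 67614) (l := 6) rfl N67614 D206775
theorem N103588 : nd 103588 = n206776 := ndS (p := 67616) (l := 3) rfl N67616 D206776
theorem N103589 : nd 103589 = n206777 := ndS (p := 67617) (l := 3) rfl N67617 D206777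
theorem N103590 : nd 103590 = n206778 := ndS (p := 67617) (l := 6) rfl N67617 D206778
theorem N103591 : nd 103591 = n206779 := ndS (p := 67618) (l := 4) rfl N67618 D206779
theorem N103592 : nd 103592 = n206780 := ndS (p := 67619) (l := 5) rfl N67619 D206780
theorem N103593 : nd 103593 = n206781 := ndS (p := 67620) (l := 6) rfl N67620 D206781
theorem N103594 : nd 103594 = n206782 := ndS (p := 67622) (l := 6) rfl N67622 D206782
theorem N103595 : nd 103595 = n206783 := ndS (p := 67623) (l := 6) rfl N67623 D206783
theorem N103596 : nd 103596 = n206784 := ndS (p := 67624) (l := 0) rfl N67624 D206784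
theorem N103597 : nd 103597 = n206785 := ndS (p := 67624) (l := 1) rfl N67624 D206785
theorem N103598 : nd 103598 = n206786 := ndS (p := 67624) (l := 5) rfl N67624 D206786
theorem N103599 : nd 103599 = n206788 := ndS (p := 67625) (l := 5) rfl N67625 D206788
theorem N103600 : nd 103600 = n206789 := ndS (p := 67630) (l := 6) rfl N67630 D206789
theorem N103601 : nd 103601 = n206790 := ndS (p := 67631) (l := 0) rfl N67631 D206790
theorem N103602 : nd 103602 = n206791 := ndS (p := 67631) (l := 1) rfl N67631 D206791
theorem N103603 : nd 103603 = n206792 := ndS (p := 67631) (l := 5) rfl N67631 D206792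
theorem N103604 : nd 103604 = n206793 := ndS (p := 67631) (l := 7) rfl N67631 D206793
theorem N103605 : nd 103605 = n206794 := ndS (p := 67633) (l := 7) rfl N67633 D206794
theorem N103606 : nd 103606 = n206795 := ndS (p := 67637) (l := 3) rfl N67637 D206795
theorem N103607 : nd 103607 = n206796 := ndS (p := 67638) (l := 0) rfl N67638 D206796
theorem N103608 : nd 103608 = n206797 := ndS (p := 67638) (l := 2) rfl N67638 D206797
theorem N103609 : nd 103609 = n206798 := ndS (p := 67638) (l := 4) rfl N67638 D206798
theorem N103610 : nd 103610 = n206799 := ndS (p := 67639) (l := 0) rfl N67639 D206799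
theorem N103611 : nd 103611 = n206800 := ndS (p := 67639) (l := 5) rfl N67639 D206800
theorem N103612 : nd 103612 = n206801 := ndS (p := 67640) (l := 2) rfl N67640 D206801
theorem N103613 : nd 103613 = n206802 := ndS (p := 67640) (l := 4) rfl N67640 D206802
theorem N103614 : nd 103614 = n206803 := ndS (p := 67640) (l := 6) rfl N67640 D206803
theorem N103615 : nd 103615 = n206804 := ndS (p := 67641) (l := 3) rfl N67641 D206804
theorem N103616 : nd 103616 = n206805 := ndS (p := 67641) (l := 5) rfl N67641 D206805
theorem N103617 : nd 103617 = n206806 := ndS (p := 67641) (l := 6) rfl N67641 D206806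
theorem N103618 : nd 103618 = n206807 := ndS (p := 67643) (l := 4) rfl N67643 D206807
theorem N103619 : nd 103619 = n206808 := ndS (p := 67647) (l := 4) rfl N67647 D206808
theorem N103620 : nd 103620 = n206809 := ndS (p := 67648) (l := 4) rfl N67648 D206809
theorem N103621 : nd 103621 = n206810 := ndS (p := 67649) (l := 5) rfl N67649 D206810
theorem N103622 : nd 103622 = n206811 := ndS (p := 67651) (l := 3) rfl N67651 D206811
theorem N103623 : nd 103623 = n206812 := ndS (p := 67651) (l := 4) rfl N67651 D206812
theorem N103624 : nd 103624 = n206813 := ndS (p := 67654) (l := 6) rfl N67654 D206813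
theorem N103625 : nd 103625 = n206814 := ndS (p := 67655) (l := 1) rfl N67655 D206814
theorem N103626 : nd 103626 = n206815 := ndS (p := 67656) (l := 5) rfl N67656 D206815
theorem N103627 : nd 103627 = n206816 := ndS (p := 67657) (l := 5) rfl N67657 D206816
theorem N103628 : nd 103628 = n206817 := ndS (p := 67657) (l := 6) rfl N67657 D206817
theorem N103629 : nd 103629 = n206818 := ndS (p := 67658) (l := 5) rfl N67658 D206818
theorem N103630 : nd 103630 = n206819 := ndS (p := 67658) (l := 6) rfl N67658 D206819
theorem N103631 : nd 103631 = n206820 := ndS (p := 67659) (l := 0) rfl N67659 D206820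
theorem N103632 : nd 103632 = n206821 := ndS (p := 67659) (l := 1) rfl N67659 D206821
theorem N103633 : nd 103633 = n206822 := ndS (p := 67660) (l := 0) rfl N67660 D206822
theorem N103634 : nd 103634 = n206823 := ndS (p := 67660) (l := 1) rfl N67660 D206823
theorem N103635 : nd 103635 = n206824 := ndS (p := 67660) (l := 5) rfl N67660 D206824
theorem N103636 : nd 103636 = n206825 := ndS (p := 67661) (l := 0) rfl N67661 D206825
theorem N103637 : nd 103637 = n206826 := ndS (p := 67661) (l := 1) rfl N67661 D206826
theorem N103638 : nd 103638 = n206827 := ndS (p := 67661) (l := 5) rfl N67661 D206827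
theorem N103639 : nd 103639 = n206828 := ndS (p := 67661) (l := 7) rfl N67661 D206828
theorem N103640 : nd 103640 = n206829 := ndS (p := 67662) (l := 4) rfl N67662 D206829
theorem N103641 : nd 103641 = n206830 := ndS (p := 67663) (l := 5) rfl N67663 D206830
theorem N103642 : nd 103642 = n206831 := ndS (p := 67663) (l := 6) rfl N67663 D206831
theorem N103643 : nd 103643 = n206832 := ndS (p := 67664) (l := 3) rfl N67664 D206832
theorem N103644 : nd 103644 = n206833 := ndS (p := 67664) (l := 5) rfl N67664 D206833
theorem N103645 : nd 103645 = n206834 := ndS (p := 67664) (l := 6) rfl N67664 D206834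
theorem N103646 : nd 103646 = n206835 := ndS (p := 67665) (l := 5) rfl N67665 D206835
theorem N103647 : nd 103647 = n206836 := ndS (p := 67665) (l := 6) rfl N67665 D206836
theorem N103648 : nd 103648 = n206837 := ndS (p := 67666) (l := 0) rfl N67666 D206837
theorem N103649 : nd 103649 = n206838 := ndS (p := 67666) (l := 1) rfl N67666 D206838
theorem N103650 : nd 103650 = n206839 := ndS (p := 67666) (l := 4) rfl N67666 D206839
theorem N103651 : nd 103651 = n206840 := ndS (p := 67666) (l := 6) rfl N67666 D206840
theorem N103652 : nd 103652 = n206841 := ndS (p := 67667) (l := 0) rfl N67667 D206841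
theorem N103653 : nd 103653 = n206842 := ndS (p := 67667) (l := 5) rfl N67667 D206842
theorem N103654 : nd 103654 = n206843 := ndS (p := 67668) (l := 0) rfl N67668 D206843
theorem N103655 : nd 103655 = n206844 := ndS (p := 67668) (l := 1) rfl N67668 D206844
theorem N103656 : nd 103656 = n206845 := ndS (p := 67668) (l := 5) rfl N67668 D206845
theorem N103657 : nd 103657 = n206846 := ndS (p := 67669) (l := 0) rfl N67669 D206846
theorem N103658 : nd 103658 = n206847 := ndS (p := 67669) (l := 1) rfl N67669 D206847
theorem N103659 : nd 103659 = n206848 := ndS (p := 67670) (l := 3) rfl N67670 D206848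
theorem N103660 : nd 103660 = n206849 := ndS (p := 67670) (l := 6) rfl N67670 D206849
theorem N103661 : nd 103661 = n206850 := ndS (p := 67671) (l := 6) rfl N67671 D206850
theorem N103662 : nd 103662 = n206851 := ndS (p := 67673) (l := 6) rfl N67673 D206851
theorem N103663 : nd 103663 = n206852 := ndS (p := 67674) (l := 0) rfl N67674 D206852
theorem N103664 : nd 103664 = n206853 := ndS (p := 67674) (l := 1) rfl N67674 D206853
theorem N103665 : nd 103665 = n206854 := ndS (p := 67674) (l := 5) rfl N67674 D206854
theorem N103666 : nd 103666 = n206855 := ndS (p := 67674) (l := 7) rfl N67674 D206855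
theorem N103667 : nd 103667 = n206856 := ndS (p := 67675) (l := 3) rfl N67675 D206856
theorem N103668 : nd 103668 = n206857 := ndS (p := 67675) (l := 5) rfl N67675 D206857
theorem N103669 : nd 103669 = n206858 := ndS (p := 67676) (l := 1) rfl N67676 D206858
theorem N103670 : nd 103670 = n206859 := ndS (p := 67677) (l := 3) rfl N67677 D206859
theorem N103671 : nd 103671 = n206860 := ndS (p := 67677) (l := 4) rfl N67677 D206860
theorem N103672 : nd 103672 = n206861 := ndS (p := 67678) (l := 6) rfl N67678 D206861
theorem N103673 : nd 103673 = n206862 := ndS (p := 67679) (l := 5) rfl N67679 D206862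
theorem N103674 : nd 103674 = n206863 := ndS (p := 67679) (l := 6) rfl N67679 D206863
theorem N103675 : nd 103675 = n206864 := ndS (p := 67680) (l := 6) rfl N67680 D206864
theorem N103676 : nd 103676 = n206865 := ndS (p := 67681) (l := 0) rfl N67681 D206865
theorem N103677 : nd 103677 = n206866 := ndS (p := 67681) (l := 1) rfl N67681 D206866
theorem N103678 : nd 103678 = n206867 := ndS (p := 67681) (l := 5) rfl N67681 D206867
theorem N103679 : nd 103679 = n206868 := ndS (p := 67681) (l := 7) rfl N67681 D206868
theorem N103680 : nd 103680 = n206869 := ndS (p := 67682) (l := 0) rfl N67682 D206869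
theorem N103681 : nd 103681 = n206870 := ndS (p := 67682) (l := 1) rfl N67682 D206870
theorem N103682 : nd 103682 = n206871 := ndS (p := 67682) (l := 5) rfl N67682 D206871
theorem N103683 : nd 103683 = n206872 := ndS (p := 67682) (l := 7) rfl N67682 D206872
theorem N103684 : nd 103684 = n206873 := ndS (p := 67683) (l := 3) rfl N67683 D206873
theorem N103685 : nd 103685 = n206874 := ndS (p := 67683) (l := 5) rfl N67683 D206874
theorem N103686 : nd 103686 = n206875 := ndS (p := 67687) (l := 3) rfl N67687 D206875
theorem N103687 : nd 103687 = n206876 := ndS (p := 67687) (l := 5) rfl N67687 D206876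
theorem N103688 : nd 103688 = n206877 := ndS (p := 67689) (l := 6) rfl N67689 D206877
theorem N103689 : nd 103689 = n206878 := ndS (p := 67690) (l := 3) rfl N67690 D206878
theorem N103690 : nd 103690 = n206879 := ndS (p := 67690) (l := 4) rfl N67690 D206879
theorem N103691 : nd 103691 = n206880 := ndS (p := 67690) (l := 6) rfl N67690 D206880
theorem N103692 : nd 103692 = n206881 := ndS (p := 67691) (l := 6) rfl N67691 D206881
theorem N103693 : nd 103693 = n206882 := ndS (p := 67692) (l := 0) rfl N67692 D206882
theorem N103694 : nd 103694 = n206883 := ndS (p := 67692) (l := 1) rfl N67692 D206883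
theorem N103695 : nd 103695 = n206884 := ndS (p := 67692) (l := 6) rfl N67692 D206884
theorem N103696 : nd 103696 = n206885 := ndS (p := 67693) (l := 1) rfl N67693 D206885
theorem N103697 : nd 103697 = n206886 := ndS (p := 67693) (l := 5) rfl N67693 D206886
theorem N103698 : nd 103698 = n206887 := ndS (p := 67694) (l := 0) rfl N67694 D206887
theorem N103699 : nd 103699 = n206888 := ndS (p := 67694) (l := 1) rfl N67694 D206888
theorem N103700 : nd 103700 = n206889 := ndS (p := 67694) (l := 5) rfl N67694 D206889
theorem N103701 : nd 103701 = n206890 := ndS (p := 67695) (l := 0) rfl N67695 D206890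
theorem N103702 : nd 103702 = n206891 := ndS (p := 67695) (l := 1) rfl N67695 D206891
theorem N103703 : nd 103703 = n206892 := ndS (p := 67696) (l := 3) rfl N67696 D206892
theorem N103704 : nd 103704 = n206893 := ndS (p := 67697) (l := 3) rfl N67697 D206893
theorem N103705 : nd 103705 = n206894 := ndS (p := 67697) (l := 6) rfl N67697 D206894
theorem N103706 : nd 103706 = n206895 := ndS (p := 67698) (l := 6) rfl N67698 D206895
theorem N103707 : nd 103707 = n206896 := ndS (p := 67700) (l := 0) rfl N67700 D206896
theorem N103708 : nd 103708 = n206897 := ndS (p := 67700) (l := 1) rfl N67700 D206897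
theorem N103709 : nd 103709 = n206898 := ndS (p := 67700) (l := 5) rfl N67700 D206898
theorem N103710 : nd 103710 = n206899 := ndS (p := 67700) (l := 7) rfl N67700 D206899
theorem N103711 : nd 103711 = n206900 := ndS (p := 67704) (l := 1) rfl N67704 D206900
theorem N103712 : nd 103712 = n206901 := ndS (p := 67706) (l := 6) rfl N67706 D206901
theorem N103713 : nd 103713 = n206902 := ndS (p := 67707) (l := 5) rfl N67707 D206902
theorem N103714 : nd 103714 = n206903 := ndS (p := 67709) (l := 6) rfl N67709 D206903
theorem N103715 : nd 103715 = n206904 := ndS (p := 67710) (l := 1) rfl N67710 D206904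
theorem N103716 : nd 103716 = n206905 := ndS (p := 67711) (l := 6) rfl N67711 D206905
theorem N103717 : nd 103717 = n206906 := ndS (p := 67713) (l := 3) rfl N67713 D206906
theorem N103718 : nd 103718 = n206907 := ndS (p := 67713) (l := 6) rfl N67713 D206907
theorem N103719 : nd 103719 = n206908 := ndS (p := 67714) (l := 3) rfl N67714 D206908
theorem N103720 : nd 103720 = n206909 := ndS (p := 67715) (l := 0) rfl N67715 D206909
theorem N103721 : nd 103721 = n206910 := ndS (p := 67715) (l := 6) rfl N67715 D206910
theorem N103722 : nd 103722 = n206911 := ndS (p := 67716) (l := 0) rfl N67716 D206911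
theorem N103723 : nd 103723 = n206912 := ndS (p := 67716) (l := 1) rfl N67716 D206912
theorem N103724 : nd 103724 = n206913 := ndS (p := 67716) (l := 5) rfl N67716 D206913
theorem N103725 : nd 103725 = n206914 := ndS (p := 67716) (l := 7) rfl N67716 D206914
theorem N103726 : nd 103726 = n206915 := ndS (p := 67717) (l := 5) rfl N67717 D206915
theorem N103727 : nd 103727 = n206916 := ndS (p := 67720) (l := 3) rfl N67720 D206916
theorem N103728 : nd 103728 = n206917 := ndS (p := 67720) (l := 5) rfl N67720 D206917
theorem N103729 : nd 103729 = n206918 := ndS (p := 67720) (l := 6) rfl N67720 D206918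
theorem N103730 : nd 103730 = n206919 := ndS (p := 67721) (l := 3) rfl N67721 D206919
theorem N103731 : nd 103731 = n206920 := ndS (p := 67721) (l := 5) rfl N67721 D206920
theorem N103732 : nd 103732 = n206921 := ndS (p := 67721) (l := 6) rfl N67721 D206921
theorem N103733 : nd 103733 = n206922 := ndS (p := 67722) (l := 4) rfl N67722 D206922
theorem N103734 : nd 103734 = n206923 := ndS (p := 67722) (l := 7) rfl N67722 D206923
theorem N103735 : nd 103735 = n206924 := ndS (p := 67724) (l := 0) rfl N67724 D206924
theorem N103736 : nd 103736 = n206925 := ndS (p := 67724) (l := 2) rfl N67724 D206925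
theorem N103737 : nd 103737 = n206926 := ndS (p := 67726) (l := 3) rfl N67726 D206926
theorem N103738 : nd 103738 = n206928 := ndS (p := 67727) (l := 4) rfl N67727 D206928
theorem N103739 : nd 103739 = n206929 := ndS (p := 67727) (l := 6) rfl N67727 D206929
theorem N103740 : nd 103740 = n206930 := ndS (p := 67730) (l := 2) rfl N67730 D206930
theorem N103741 : nd 103741 = n206931 := ndS (p := 67730) (l := 5) rfl N67730 D206931
theorem N103742 : nd 103742 = n206932 := ndS (p := 67731) (l := 6) rfl N67731 D206932
theorem N103743 : nd 103743 = n206933 := ndS (p := 67740) (l := 3) rfl N67740 D206933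
theorem N103744 : nd 103744 = n206934 := ndS (p := 67740) (l := 5) rfl N67740 D206934
theorem N103745 : nd 103745 = n206935 := ndS (p := 67742) (l := 2) rfl N67742 D206935
theorem N103746 : nd 103746 = n206936 := ndS (p := 67743) (l := 1) rfl N67743 D206936
theorem N103747 : nd 103747 = n206937 := ndS (p := 67743) (l := 6) rfl N67743 D206937
theorem N103748 : nd 103748 = n206938 := ndS (p := 67744) (l := 5) rfl N67744 D206938
theorem N103749 : nd 103749 = n206939 := ndS (p := 67745) (l := 0) rfl N67745 D206939
theorem N103750 : nd 103750 = n206940 := ndS (p := 67748) (l := 5) rfl N67748 D206940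
theorem N103751 : nd 103751 = n206941 := ndS (p := 67750) (l := 0) rfl N67750 D206941
theorem N103752 : nd 103752 = n206942 := ndS (p := 67750) (l := 1) rfl N67750 D206942
theorem N103753 : nd 103753 = n206943 := ndS (p := 67750) (l := 7) rfl N67750 D206943
theorem N103754 : nd 103754 = n206944 := ndS (p := 67751) (l := 5) rfl N67751 D206944
theorem N103755 : nd 103755 = n206945 := ndS (p := 67754) (l := 5) rfl N67754 D206945
theorem N103756 : nd 103756 = n206946 := ndS (p := 67759) (l := 4) rfl N67759 D206946
theorem N103757 : nd 103757 = n206947 := ndS (p := 67759) (l := 6) rfl N67759 D206947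
theorem N103758 : nd 103758 = n206948 := ndS (p := 67760) (l := 1) rfl N67760 D206948
theorem N103759 : nd 103759 = n206949 := ndS (p := 67763) (l := 4) rfl N67763 D206949
theorem N103760 : nd 103760 = n206950 := ndS (p := 67763) (l := 6) rfl N67763 D206950
theorem N103761 : nd 103761 = n206951 := ndS (p := 67768) (l := 5) rfl N67768 D206951
theorem N103762 : nd 103762 = n206952 := ndS (p := 67770) (l := 6) rfl N67770 D206952
theorem N103763 : nd 103763 = n206953 := ndS (p := 67771) (l := 6) rfl N67771 D206953
theorem N103764 : nd 103764 = n206954 := ndS (p := 67772) (l := 0) rfl N67772 D206954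
theorem N103765 : nd 103765 = n206955 := ndS (p := 67773) (l := 0) rfl N67773 D206955
theorem N103766 : nd 103766 = n206956 := ndS (p := 67773) (l := 1) rfl N67773 D206956
theorem N103767 : nd 103767 = n206957 := ndS (p := 67773) (l := 4) rfl N67773 D206957
theorem N103768 : nd 103768 = n206958 := ndS (p := 67774) (l := 6) rfl N67774 D206958
theorem N103769 : nd 103769 = n206959 := ndS (p := 67775) (l := 0) rfl N67775 D206959
theorem N103770 : nd 103770 = n206960 := ndS (p := 67775) (l := 5) rfl N67775 D206960
theorem N103771 : nd 103771 = n206961 := ndS (p := 67777) (l := 6) rfl N67777 D206961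
theorem N103772 : nd 103772 = n206962 := ndS (p := 67778) (l := 0) rfl N67778 D206962
theorem N103773 : nd 103773 = n206963 := ndS (p := 67779) (l := 6) rfl N67779 D206963
theorem N103774 : nd 103774 = n206964 := ndS (p := 67780) (l := 6) rfl N67780 D206964
theorem N103775 : nd 103775 = n206965 := ndS (p := 67781) (l := 6) rfl N67781 D206965
theorem N103776 : nd 103776 = n206966 := ndS (p := 67784) (l := 6) rfl N67784 D206966
theorem N103777 : nd 103777 = n206967 := ndS (p := 67787) (l := 5) rfl N67787 D206967
theorem N103778 : nd 103778 = n206968 := ndS (p := 67787) (l := 7) rfl N67787 D206968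
theorem N103779 : nd 103779 = n206969 := ndS (p := 67788) (l := 5) rfl N67788 D206969
theorem N103780 : nd 103780 = n206970 := ndS (p := 67788) (l := 6) rfl N67788 D206970
theorem N103781 : nd 103781 = n206971 := ndS (p := 67789) (l := 0) rfl N67789 D206971
theorem N103782 : nd 103782 = n206972 := ndS (p := 67791) (l := 0) rfl N67791 D206972
theorem N103783 : nd 103783 = n206973 := ndS (p := 67791) (l := 6) rfl N67791 D206973
theorem N103784 : nd 103784 = n206974 := ndS (p := 67796) (l := 3) rfl N67796 D206974
theorem N103785 : nd 103785 = n206975 := ndS (p := 67796) (l := 6) rfl N67796 D206975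
theorem N103786 : nd 103786 = n206976 := ndS (p := 67797) (l := 6) rfl N67797 D206976
theorem N103787 : nd 103787 = n206977 := ndS (p := 67798) (l := 1) rfl N67798 D206977
theorem N103788 : nd 103788 = n206978 := ndS (p := 67798) (l := 7) rfl N67798 D206978
theorem N103789 : nd 103789 = n206979 := ndS (p := 67800) (l := 4) rfl N67800 D206979
theorem N103790 : nd 103790 = n206980 := ndS (p := 67801) (l := 5) rfl N67801 D206980
theorem N103791 : nd 103791 = n206981 := ndS (p := 67801) (l := 6) rfl N67801 D206981
theorem N103792 : nd 103792 = n206982 := ndS (p := 67802) (l := 6) rfl N67802 D206982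
theorem N103793 : nd 103793 = n206983 := ndS (p := 67803) (l := 5) rfl N67803 D206983
theorem N103794 : nd 103794 = n206984 := ndS (p := 67805) (l := 3) rfl N67805 D206984
theorem N103795 : nd 103795 = n206985 := ndS (p := 67807) (l := 1) rfl N67807 D206985
theorem N103796 : nd 103796 = n206986 := ndS (p := 67807) (l := 2) rfl N67807 D206986
theorem N103797 : nd 103797 = n206987 := ndS (p := 67807) (l := 5) rfl N67807 D206987
theorem N103798 : nd 103798 = n206988 := ndS (p := 67807) (l := 6) rfl N67807 D206988
theorem N103799 : nd 103799 = n206989 := ndS (p := 67808) (l := 4) rfl N67808 D206989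
theorem N103800 : nd 103800 = n206990 := ndS (p := 67813) (l := 6) rfl N67813 D206990
theorem N103801 : nd 103801 = n206991 := ndS (p := 67814) (l := 0) rfl N67814 D206991
theorem N103802 : nd 103802 = n206992 := ndS (p := 67814) (l := 1) rfl N67814 D206992
theorem N103803 : nd 103803 = n206993 := ndS (p := 67814) (l := 5) rfl N67814 D206993
theorem N103804 : nd 103804 = n206994 := ndS (p := 67817) (l := 4) rfl N67817 D206994
theorem N103805 : nd 103805 = n206995 := ndS (p := 67818) (l := 3) rfl N67818 D206995
theorem N103806 : nd 103806 = n206996 := ndS (p := 67818) (l := 4) rfl N67818 D206996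
theorem N103807 : nd 103807 = n206997 := ndS (p := 67819) (l := 1) rfl N67819 D206997
theorem N103808 : nd 103808 = n206998 := ndS (p := 67819) (l := 4) rfl N67819 D206998
theorem N103809 : nd 103809 = n206999 := ndS (p := 67823) (l := 2) rfl N67823 D206999
theorem N103810 : nd 103810 = n207000 := ndS (p := 67824) (l := 5) rfl N67824 D207000
theorem N103811 : nd 103811 = n207001 := ndS (p := 67825) (l := 4) rfl N67825 D207001
theorem N103812 : nd 103812 = n207002 := ndS (p := 67826) (l := 5) rfl N67826 D207002
theorem N103813 : nd 103813 = n207003 := ndS (p := 67827) (l := 3) rfl N67827 D207003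
theorem N103814 : nd 103814 = n207004 := ndS (p := 67827) (l := 5) rfl N67827 D207004
theorem N103815 : nd 103815 = n207005 := ndS (p := 67827) (l := 6) rfl N67827 D207005
theorem N103816 : nd 103816 = n207006 := ndS (p := 67832) (l := 1) rfl N67832 D207006
theorem N103817 : nd 103817 = n207007 := ndS (p := 67832) (l := 5) rfl N67832 D207007
theorem N103818 : nd 103818 = n207008 := ndS (p := 67839) (l := 4) rfl N67839 D207008
theorem N103819 : nd 103819 = n207009 := ndS (p := 67841) (l := 0) rfl N67841 D207009
theorem N103820 : nd 103820 = n207010 := ndS (p := 67841) (l := 1) rfl N67841 D207010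
theorem N103821 : nd 103821 = n207011 := ndS (p := 67843) (l := 3) rfl N67843 D207011
theorem N103822 : nd 103822 = n207012 := ndS (p := 67847) (l := 3) rfl N67847 D207012
theorem N103823 : nd 103823 = n207013 := ndS (p := 67847) (l := 6) rfl N67847 D207013
theorem N103824 : nd 103824 = n207014 := ndS (p := 67848) (l := 5) rfl N67848 D207014
theorem N103825 : nd 103825 = n207015 := ndS (p := 67848) (l := 6) rfl N67848 D207015
theorem N103826 : nd 103826 = n207016 := ndS (p := 67849) (l := 0) rfl N67849 D207016
theorem N103827 : nd 103827 = n207017 := ndS (p := 67849) (l := 1) rfl N67849 D207017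
theorem N103828 : nd 103828 = n207018 := ndS (p := 67851) (l := 0) rfl N67851 D207018
theorem N103829 : nd 103829 = n207019 := ndS (p := 67851) (l := 1) rfl N67851 D207019
theorem N103830 : nd 103830 = n207020 := ndS (p := 67855) (l := 5) rfl N67855 D207020
theorem N103831 : nd 103831 = n207021 := ndS (p := 67856) (l := 5) rfl N67856 D207021
theorem N103832 : nd 103832 = n207022 := ndS (p := 67857) (l := 3) rfl N67857 D207022
theorem N103833 : nd 103833 = n207023 := ndS (p := 67859) (l := 5) rfl N67859 D207023
theorem N103834 : nd 103834 = n207024 := ndS (p := 67860) (l := 4) rfl N67860 D207024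
theorem N103835 : nd 103835 = n207025 := ndS (p := 67861) (l := 1) rfl N67861 D207025
theorem N103836 : nd 103836 = n207026 := ndS (p := 67862) (l := 2) rfl N67862 D207026
theorem N103837 : nd 103837 = n207027 := ndS (p := 67862) (l := 6) rfl N67862 D207027
theorem N103838 : nd 103838 = n207028 := ndS (p := 67863) (l := 5) rfl N67863 D207028
theorem N103839 : nd 103839 = n207029 := ndS (p := 67864) (l := 6) rfl N67864 D207029
theorem N103840 : nd 103840 = n207030 := ndS (p := 67866) (l := 3) rfl N67866 D207030
theorem N103841 : nd 103841 = n207031 := ndS (p := 67866) (l := 6) rfl N67866 D207031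
theorem N103842 : nd 103842 = n207032 := ndS (p := 67867) (l := 4) rfl N67867 D207032
theorem N103843 : nd 103843 = n207033 := ndS (p := 67867) (l := 6) rfl N67867 D207033
theorem N103844 : nd 103844 = n207034 := ndS (p := 67868) (l := 6) rfl N67868 D207034
theorem N103845 : nd 103845 = n207035 := ndS (p := 67869) (l := 0) rfl N67869 D207035
theorem N103846 : nd 103846 = n207036 := ndS (p := 67869) (l := 1) rfl N67869 D207036
theorem N103847 : nd 103847 = n207037 := ndS (p := 67869) (l := 5) rfl N67869 D207037
theorem N103848 : nd 103848 = n207038 := ndS (p := 67869) (l := 7) rfl N67869 D207038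
theorem N103849 : nd 103849 = n207039 := ndS (p := 67870) (l := 3) rfl N67870 D207039
theorem N103850 : nd 103850 = n207040 := ndS (p := 67871) (l := 3) rfl N67871 D207040
theorem N103851 : nd 103851 = n207041 := ndS (p := 67872) (l := 0) rfl N67872 D207041
theorem N103852 : nd 103852 = n207042 := ndS (p := 67872) (l := 1) rfl N67872 D207042
theorem N103853 : nd 103853 = n207043 := ndS (p := 67873) (l := 2) rfl N67873 D207043
theorem N103854 : nd 103854 = n207044 := ndS (p := 67874) (l := 0) rfl N67874 D207044
theorem N103855 : nd 103855 = n207045 := ndS (p := 67874) (l := 1) rfl N67874 D207045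
theorem N103856 : nd 103856 = n207046 := ndS (p := 67875) (l := 6) rfl N67875 D207046
theorem N103857 : nd 103857 = n207047 := ndS (p := 67876) (l := 0) rfl N67876 D207047
theorem N103858 : nd 103858 = n207048 := ndS (p := 67876) (l := 1) rfl N67876 D207048
theorem N103859 : nd 103859 = n207049 := ndS (p := 67876) (l := 5) rfl N67876 D207049
theorem N103860 : nd 103860 = n207050 := ndS (p := 67876) (l := 7) rfl N67876 D207050
theorem N103861 : nd 103861 = n207051 := ndS (p := 67877) (l := 3) rfl N67877 D207051
theorem N103862 : nd 103862 = n207052 := ndS (p := 67877) (l := 5) rfl N67877 D207052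
theorem N103863 : nd 103863 = n207053 := ndS (p := 67877) (l := 6) rfl N67877 D207053
theorem N103864 : nd 103864 = n207054 := ndS (p := 67878) (l := 5) rfl N67878 D207054
theorem N103865 : nd 103865 = n207055 := ndS (p := 67881) (l := 0) rfl N67881 D207055
theorem N103866 : nd 103866 = n207057 := ndS (p := 67881) (l := 2) rfl N67881 D207057
theorem N103867 : nd 103867 = n207058 := ndS (p := 67881) (l := 6) rfl N67881 D207058
theorem N103868 : nd 103868 = n207059 := ndS (p := 67884) (l := 3) rfl N67884 D207059
theorem N103869 : nd 103869 = n207060 := ndS (p := 67884) (l := 6) rfl N67884 D207060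
theorem N103870 : nd 103870 = n207061 := ndS (p := 67885) (l := 3) rfl N67885 D207061
theorem N103871 : nd 103871 = n207062 := ndS (p := 67889) (l := 3) rfl N67889 D207062
theorem N103872 : nd 103872 = n207063 := ndS (p := 67889) (l := 5) rfl N67889 D207063
theorem N103873 : nd 103873 = n207064 := ndS (p := 67890) (l := 0) rfl N67890 D207064
theorem N103874 : nd 103874 = n207065 := ndS (p := 67890) (l := 2) rfl N67890 D207065
theorem N103875 : nd 103875 = n207066 := ndS (p := 67890) (l := 5) rfl N67890 D207066
theorem N103876 : nd 103876 = n207067 := ndS (p := 67890) (l := 6) rfl N67890 D207067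
theorem N103877 : nd 103877 = n207068 := ndS (p := 67891) (l := 6) rfl N67891 D207068
theorem N103878 : nd 103878 = n207069 := ndS (p := 67892) (l := 5) rfl N67892 D207069
theorem N103879 : nd 103879 = n207070 := ndS (p := 67895) (l := 5) rfl N67895 D207070
theorem N103880 : nd 103880 = n207071 := ndS (p := 67895) (l := 6) rfl N67895 D207071
theorem N103881 : nd 103881 = n207072 := ndS (p := 67896) (l := 6) rfl N67896 D207072
theorem N103882 : nd 103882 = n207073 := ndS (p := 67900) (l := 5) rfl N67900 D207073
theorem N103883 : nd 103883 = n207074 := ndS (p := 67908) (l := 0) rfl N67908 D207074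
theorem N103884 : nd 103884 = n207075 := ndS (p := 67908) (l := 5) rfl N67908 D207075
theorem N103885 : nd 103885 = n207076 := ndS (p := 67911) (l := 3) rfl N67911 D207076
theorem N103886 : nd 103886 = n207077 := ndS (p := 67911) (l := 5) rfl N67911 D207077
theorem N103887 : nd 103887 = n207078 := ndS (p := 67915) (l := 5) rfl N67915 D207078
theorem N103888 : nd 103888 = n207079 := ndS (p := 67916) (l := 5) rfl N67916 D207079
theorem N103889 : nd 103889 = n207080 := ndS (p := 67920) (l := 1) rfl N67920 D207080
theorem N103890 : nd 103890 = n207081 := ndS (p := 67922) (l := 6) rfl N67922 D207081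
theorem N103891 : nd 103891 = n207082 := ndS (p := 67931) (l := 6) rfl N67931 D207082
theorem N103892 : nd 103892 = n207083 := ndS (p := 67932) (l := 5) rfl N67932 D207083
theorem N103893 : nd 103893 = n207084 := ndS (p := 67937) (l := 4) rfl N67937 D207084
theorem N103894 : nd 103894 = n207085 := ndS (p := 67937) (l := 6) rfl N67937 D207085
theorem N103895 : nd 103895 = n207086 := ndS (p := 67938) (l := 5) rfl N67938 D207086
theorem N103896 : nd 103896 = n207087 := ndS (p := 67945) (l := 1) rfl N67945 D207087
theorem N103897 : nd 103897 = n207088 := ndS (p := 67945) (l := 6) rfl N67945 D207088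
theorem N103898 : nd 103898 = n207089 := ndS (p := 67946) (l := 0) rfl N67946 D207089
theorem N103899 : nd 103899 = n207090 := ndS (p := 67946) (l := 5) rfl N67946 D207090
theorem N103900 : nd 103900 = n207091 := ndS (p := 67946) (l := 7) rfl N67946 D207091
theorem N103901 : nd 103901 = n207092 := ndS (p := 67948) (l := 0) rfl N67948 D207092
theorem N103902 : nd 103902 = n207093 := ndS (p := 67948) (l := 1) rfl N67948 D207093
theorem N103903 : nd 103903 = n207094 := ndS (p := 67948) (l := 4) rfl N67948 D207094
theorem N103904 : nd 103904 = n207095 := ndS (p := 67948) (l := 7) rfl N67948 D207095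
theorem N103905 : nd 103905 = n207096 := ndS (p := 67952) (l := 5) rfl N67952 D207096
theorem N103906 : nd 103906 = n207097 := ndS (p := 67954) (l := 4) rfl N67954 D207097
theorem N103907 : nd 103907 = n207098 := ndS (p := 67955) (l := 4) rfl N67955 D207098
theorem N103908 : nd 103908 = n207099 := ndS (p := 67962) (l := 5) rfl N67962 D207099
theorem N103909 : nd 103909 = n207100 := ndS (p := 67967) (l := 0) rfl N67967 D207100
theorem N103910 : nd 103910 = n207101 := ndS (p := 67967) (l := 5) rfl N67967 D207101
theorem N103911 : nd 103911 = n207102 := ndS (p := 67967) (l := 7) rfl N67967 D207102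
theorem N103912 : nd 103912 = n207103 := ndS (p := 67970) (l := 5) rfl N67970 D207103
theorem N103913 : nd 103913 = n207104 := ndS (p := 67973) (l := 5) rfl N67973 D207104
theorem N103914 : nd 103914 = n207105 := ndS (p := 67977) (l := 5) rfl N67977 D207105
theorem N103915 : nd 103915 = n207106 := ndS (p := 67981) (l := 5) rfl N67981 D207106
theorem N103916 : nd 103916 = n207107 := ndS (p := 67985) (l := 6) rfl N67985 D207107
theorem N103917 : nd 103917 = n207108 := ndS (p := 67986) (l := 6) rfl N67986 D207108
theorem N103918 : nd 103918 = n207109 := ndS (p := 67988) (l := 6) rfl N67988 D207109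
theorem N103919 : nd 103919 = n207110 := ndS (p := 67992) (l := 5) rfl N67992 D207110
theorem N103920 : nd 103920 = n207111 := ndS (p := 68000) (l := 6) rfl N68000 D207111
theorem N103921 : nd 103921 = n207112 := ndS (p := 68004) (l := 6) rfl N68004 D207112
theorem N103922 : nd 103922 = n207113 := ndS (p := 68008) (l := 0) rfl N68008 D207113
theorem N103923 : nd 103923 = n207114 := ndS (p := 68008) (l := 1) rfl N68008 D207114
theorem N103924 : nd 103924 = n207115 := ndS (p := 68008) (l := 5) rfl N68008 D207115
theorem N103925 : nd 103925 = n207116 := ndS (p := 68008) (l := 7) rfl N68008 D207116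
theorem N103926 : nd 103926 = n207117 := ndS (p := 68009) (l := 5) rfl N68009 D207117
theorem N103927 : nd 103927 = n207118 := ndS (p := 68010) (l := 1) rfl N68010 D207118
theorem N103928 : nd 103928 = n207119 := ndS (p := 68010) (l := 4) rfl N68010 D207119
theorem N103929 : nd 103929 = n207120 := ndS (p := 68027) (l := 3) rfl N68027 D207120
theorem N103930 : nd 103930 = n207121 := ndS (p := 68027) (l := 5) rfl N68027 D207121
theorem N103931 : nd 103931 = n207122 := ndS (p := 68030) (l := 4) rfl N68030 D207122
theorem N103932 : nd 103932 = n207123 := ndS (p := 68033) (l := 6) rfl N68033 D207123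
theorem N103933 : nd 103933 = n207124 := ndS (p := 68034) (l := 6) rfl N68034 D207124
theorem N103934 : nd 103934 = n207125 := ndS (p := 68035) (l := 6) rfl N68035 D207125
theorem N103935 : nd 103935 = n207126 := ndS (p := 68037) (l := 4) rfl N68037 D207126
theorem N103936 : nd 103936 = n207127 := ndS (p := 68037) (l := 6) rfl N68037 D207127
theorem N103937 : nd 103937 = n207128 := ndS (p := 68038) (l := 7) rfl N68038 D207128
theorem N103938 : nd 103938 = n207129 := ndS (p := 68039) (l := 4) rfl N68039 D207129
theorem N103939 : nd 103939 = n207130 := ndS (p := 68041) (l := 4) rfl N68041 D207130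
theorem N103940 : nd 103940 = n207131 := ndS (p := 68048) (l := 5) rfl N68048 D207131
theorem N103941 : nd 103941 = n207132 := ndS (p := 68049) (l := 0) rfl N68049 D207132
theorem N103942 : nd 103942 = n207133 := ndS (p := 68049) (l := 1) rfl N68049 D207133
theorem N103943 : nd 103943 = n207134 := ndS (p := 68049) (l := 4) rfl N68049 D207134
theorem N103944 : nd 103944 = n207135 := ndS (p := 68049) (l := 6) rfl N68049 D207135
theorem N103945 : nd 103945 = n207136 := ndS (p := 68050) (l := 0) rfl N68050 D207136
theorem N103946 : nd 103946 = n207137 := ndS (p := 68050) (l := 3) rfl N68050 D207137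
theorem N103947 : nd 103947 = n207138 := ndS (p := 68050) (l := 5) rfl N68050 D207138
theorem N103948 : nd 103948 = n207139 := ndS (p := 68051) (l := 2) rfl N68051 D207139
theorem N103949 : nd 103949 = n207140 := ndS (p := 68056) (l := 0) rfl N68056 D207140
theorem N103950 : nd 103950 = n207141 := ndS (p := 68056) (l := 2) rfl N68056 D207141
theorem N103951 : nd 103951 = n207142 := ndS (p := 68057) (l := 4) rfl N68057 D207142
theorem N103952 : nd 103952 = n207143 := ndS (p := 68064) (l := 3) rfl N68064 D207143
theorem N103953 : nd 103953 = n207144 := ndS (p := 68066) (l := 3) rfl N68066 D207144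
theorem N103954 : nd 103954 = n207145 := ndS (p := 68066) (l := 4) rfl N68066 D207145
theorem N103955 : nd 103955 = n207146 := ndS (p := 68067) (l := 4) rfl N68067 D207146
theorem N103956 : nd 103956 = n207147 := ndS (p := 68069) (l := 4) rfl N68069 D207147
theorem N103957 : nd 103957 = n207148 := ndS (p := 68071) (l := 0) rfl N68071 D207148
theorem N103958 : nd 103958 = n207149 := ndS (p := 68071) (l := 1) rfl N68071 D207149
theorem N103959 : nd 103959 = n207150 := ndS (p := 68076) (l := 3) rfl N68076 D207150
theorem N103960 : nd 103960 = n207151 := ndS (p := 68078) (l := 6) rfl N68078 D207151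
theorem N103961 : nd 103961 = n207152 := ndS (p := 68079) (l := 6) rfl N68079 D207152
theorem N103962 : nd 103962 = n207153 := ndS (p := 68081) (l := 5) rfl N68081 D207153
theorem N103963 : nd 103963 = n207154 := ndS (p := 68082) (l := 5) rfl N68082 D207154
theorem N103964 : nd 103964 = n207155 := ndS (p := 68082) (l := 7) rfl N68082 D207155
theorem N103965 : nd 103965 = n207156 := ndS (p := 68084) (l := 3) rfl N68084 D207156
theorem N103966 : nd 103966 = n207157 := ndS (p := 68084) (l := 4) rfl N68084 D207157
theorem N103967 : nd 103967 = n207158 := ndS (p := 68085) (l := 3) rfl N68085 D207158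
theorem N103968 : nd 103968 = n207159 := ndS (p := 68085) (l := 4) rfl N68085 D207159
theorem N103969 : nd 103969 = n207160 := ndS (p := 68086) (l := 5) rfl N68086 D207160
theorem N103970 : nd 103970 = n207161 := ndS (p := 68087) (l := 6) rfl N68087 D207161
theorem N103971 : nd 103971 = n207162 := ndS (p := 68089) (l := 1) rfl N68089 D207162
theorem N103972 : nd 103972 = n207163 := ndS (p := 68089) (l := 7) rfl N68089 D207163
theorem N103973 : nd 103973 = n207164 := ndS (p := 68091) (l := 6) rfl N68091 D207164
theorem N103974 : nd 103974 = n207165 := ndS (p := 68092) (l := 6) rfl N68092 D207165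
theorem N103975 : nd 103975 = n207166 := ndS (p := 68093) (l := 4) rfl N68093 D207166
theorem N103976 : nd 103976 = n207167 := ndS (p := 68094) (l := 1) rfl N68094 D207167
theorem N103977 : nd 103977 = n207168 := ndS (p := 68095) (l := 6) rfl N68095 D207168
theorem N103978 : nd 103978 = n207169 := ndS (p := 68096) (l := 1) rfl N68096 D207169
theorem N103979 : nd 103979 = n207170 := ndS (p := 68096) (l := 7) rfl N68096 D207170
theorem N103980 : nd 103980 = n207171 := ndS (p := 68098) (l := 7) rfl N68098 D207171
theorem N103981 : nd 103981 = n207172 := ndS (p := 68099) (l := 0) rfl N68099 D207172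
theorem N103982 : nd 103982 = n207173 := ndS (p := 68099) (l := 5) rfl N68099 D207173
theorem N103983 : nd 103983 = n207174 := ndS (p := 68101) (l := 7) rfl N68101 D207174
theorem N103984 : nd 103984 = n207175 := ndS (p := 68102) (l := 4) rfl N68102 D207175
theorem N103985 : nd 103985 = n207176 := ndS (p := 68104) (l := 3) rfl N68104 D207176
theorem N103986 : nd 103986 = n207177 := ndS (p := 68104) (l := 6) rfl N68104 D207177
theorem N103987 : nd 103987 = n207178 := ndS (p := 68105) (l := 1) rfl N68105 D207178
theorem N103988 : nd 103988 = n207179 := ndS (p := 68105) (l := 6) rfl N68105 D207179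
theorem N103989 : nd 103989 = n207180 := ndS (p := 68107) (l := 6) rfl N68107 D207180
theorem N103990 : nd 103990 = n207181 := ndS (p := 68110) (l := 3) rfl N68110 D207181
theorem N103991 : nd 103991 = n207182 := ndS (p := 68110) (l := 6) rfl N68110 D207182
theorem N103992 : nd 103992 = n207183 := ndS (p := 68111) (l := 3) rfl N68111 D207183
theorem N103993 : nd 103993 = n207184 := ndS (p := 68111) (l := 6) rfl N68111 D207184
theorem N103994 : nd 103994 = n207185 := ndS (p := 68114) (l := 2) rfl N68114 D207185
theorem N103995 : nd 103995 = n207186 := ndS (p := 68114) (l := 5) rfl N68114 D207186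
theorem N103996 : nd 103996 = n207187 := ndS (p := 68114) (l := 6) rfl N68114 D207187
theorem N103997 : nd 103997 = n207188 := ndS (p := 68116) (l := 5) rfl N68116 D207188
theorem N103998 : nd 103998 = n207189 := ndS (p := 68121) (l := 2) rfl N68121 D207189
theorem N103999 : nd 103999 = n207190 := ndS (p := 68123) (l := 3) rfl N68123 D207190
theorem N104000 : nd 104000 = n207191 := ndS (p := 68123) (l := 5) rfl N68123 D207191
theorem N104001 : nd 104001 = n207192 := ndS (p := 68124) (l := 4) rfl N68124 D207192
theorem N104002 : nd 104002 = n207193 := ndS (p := 68124) (l := 6) rfl N68124 D207193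
theorem N104003 : nd 104003 = n207194 := ndS (p := 68126) (l := 7) rfl N68126 D207194
theorem N104004 : nd 104004 = n207195 := ndS (p := 68127) (l := 4) rfl N68127 D207195
theorem N104005 : nd 104005 = n207196 := ndS (p := 68127) (l := 5) rfl N68127 D207196
theorem N104006 : nd 104006 = n207197 := ndS (p := 68128) (l := 3) rfl N68128 D207197
theorem N104007 : nd 104007 = n207198 := ndS (p := 68128) (l := 4) rfl N68128 D207198
theorem N104008 : nd 104008 = n207199 := ndS (p := 68128) (l := 6) rfl N68128 D207199
theorem N104009 : nd 104009 = n207200 := ndS (p := 68130) (l := 5) rfl N68130 D207200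
theorem N104010 : nd 104010 = n207201 := ndS (p := 68130) (l := 6) rfl N68130 D207201
theorem N104011 : nd 104011 = n207202 := ndS (p := 68131) (l := 0) rfl N68131 D207202
theorem N104012 : nd 104012 = n207203 := ndS (p := 68131) (l := 7) rfl N68131 D207203
theorem N104013 : nd 104013 = n207204 := ndS (p := 68133) (l := 3) rfl N68133 D207204
theorem N104014 : nd 104014 = n207205 := ndS (p := 68133) (l := 6) rfl N68133 D207205
theorem N104015 : nd 104015 = n207206 := ndS (p := 68135) (l := 5) rfl N68135 D207206
theorem N104016 : nd 104016 = n207207 := ndS (p := 68135) (l := 6) rfl N68135 D207207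
theorem N104017 : nd 104017 = n207208 := ndS (p := 68136) (l := 0) rfl N68136 D207208
theorem N104018 : nd 104018 = n207209 := ndS (p := 68136) (l := 1) rfl N68136 D207209
theorem N104019 : nd 104019 = n207210 := ndS (p := 68136) (l := 7) rfl N68136 D207210
theorem N104020 : nd 104020 = n207211 := ndS (p := 68137) (l := 5) rfl N68137 D207211
theorem N104021 : nd 104021 = n207212 := ndS (p := 68137) (l := 6) rfl N68137 D207212
theorem N104022 : nd 104022 = n207213 := ndS (p := 68140) (l := 6) rfl N68140 D207213
theorem N104023 : nd 104023 = n207214 := ndS (p := 68141) (l := 3) rfl N68141 D207214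
theorem N104024 : nd 104024 = n207215 := ndS (p := 68141) (l := 5) rfl N68141 D207215
theorem N104025 : nd 104025 = n207216 := ndS (p := 68142) (l := 7) rfl N68142 D207216
theorem N104026 : nd 104026 = n207217 := ndS (p := 68143) (l := 5) rfl N68143 D207217
theorem N104027 : nd 104027 = n207218 := ndS (p := 68144) (l := 7) rfl N68144 D207218
theorem N104028 : nd 104028 = n207219 := ndS (p := 68145) (l := 1) rfl N68145 D207219
theorem N104029 : nd 104029 = n207220 := ndS (p := 68145) (l := 6) rfl N68145 D207220
theorem N104030 : nd 104030 = n207221 := ndS (p := 68146) (l := 6) rfl N68146 D207221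
theorem N104031 : nd 104031 = n207222 := ndS (p := 68147) (l := 5) rfl N68147 D207222
theorem N104032 : nd 104032 = n207223 := ndS (p := 68147) (l := 7) rfl N68147 D207223
theorem N104033 : nd 104033 = n207224 := ndS (p := 68149) (l := 6) rfl N68149 D207224
theorem N104034 : nd 104034 = n207225 := ndS (p := 68153) (l := 6) rfl N68153 D207225
theorem N104035 : nd 104035 = n207226 := ndS (p := 68154) (l := 1) rfl N68154 D207226
theorem N104036 : nd 104036 = n207227 := ndS (p := 68154) (l := 5) rfl N68154 D207227
theorem N104037 : nd 104037 = n207228 := ndS (p := 68154) (l := 7) rfl N68154 D207228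
theorem N104038 : nd 104038 = n207229 := ndS (p := 68155) (l := 3) rfl N68155 D207229
theorem N104039 : nd 104039 = n207230 := ndS (p := 68155) (l := 5) rfl N68155 D207230
theorem N104040 : nd 104040 = n207231 := ndS (p := 68156) (l := 3) rfl N68156 D207231
theorem N104041 : nd 104041 = n207232 := ndS (p := 68156) (l := 5) rfl N68156 D207232
theorem N104042 : nd 104042 = n207233 := ndS (p := 68157) (l := 0) rfl N68157 D207233
theorem N104043 : nd 104043 = n207234 := ndS (p := 68157) (l := 1) rfl N68157 D207234
theorem N104044 : nd 104044 = n207235 := ndS (p := 68157) (l := 4) rfl N68157 D207235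
theorem N104045 : nd 104045 = n207236 := ndS (p := 68157) (l := 7) rfl N68157 D207236
theorem N104046 : nd 104046 = n207237 := ndS (p := 68159) (l := 5) rfl N68159 D207237
theorem N104047 : nd 104047 = n207238 := ndS (p := 68160) (l := 5) rfl N68160 D207238
theorem N104048 : nd 104048 = n207239 := ndS (p := 68162) (l := 3) rfl N68162 D207239
theorem N104049 : nd 104049 = n207240 := ndS (p := 68162) (l := 5) rfl N68162 D207240
theorem N104050 : nd 104050 = n207241 := ndS (p := 68162) (l := 6) rfl N68162 D207241
theorem N104051 : nd 104051 = n207242 := ndS (p := 68164) (l := 0) rfl N68164 D207242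
theorem N104052 : nd 104052 = n207243 := ndS (p := 68169) (l := 6) rfl N68169 D207243
theorem N104053 : nd 104053 = n207244 := ndS (p := 68170) (l := 0) rfl N68170 D207244
theorem N104054 : nd 104054 = n207245 := ndS (p := 68170) (l := 1) rfl N68170 D207245
theorem N104055 : nd 104055 = n207246 := ndS (p := 68170) (l := 5) rfl N68170 D207246
theorem N104056 : nd 104056 = n207247 := ndS (p := 68170) (l := 7) rfl N68170 D207247
theorem N104057 : nd 104057 = n207248 := ndS (p := 68171) (l := 5) rfl N68171 D207248
theorem N104058 : nd 104058 = n207249 := ndS (p := 68172) (l := 3) rfl N68172 D207249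
theorem N104059 : nd 104059 = n207250 := ndS (p := 68172) (l := 5) rfl N68172 D207250
theorem N104060 : nd 104060 = n207251 := ndS (p := 68173) (l := 4) rfl N68173 D207251
theorem N104061 : nd 104061 = n207252 := ndS (p := 68177) (l := 4) rfl N68177 D207252
theorem N104062 : nd 104062 = n207253 := ndS (p := 68177) (l := 6) rfl N68177 D207253
theorem N104063 : nd 104063 = n207254 := ndS (p := 68179) (l := 6) rfl N68179 D207254
theorem N104064 : nd 104064 = n207255 := ndS (p := 68181) (l := 5) rfl N68181 D207255
theorem N104065 : nd 104065 = n207256 := ndS (p := 68182) (l := 5) rfl N68182 D207256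
theorem N104066 : nd 104066 = n207257 := ndS (p := 68183) (l := 5) rfl N68183 D207257
theorem N104067 : nd 104067 = n207258 := ndS (p := 68184) (l := 4) rfl N68184 D207258
theorem N104068 : nd 104068 = n207259 := ndS (p := 68185) (l := 4) rfl N68185 D207259
theorem N104069 : nd 104069 = n207260 := ndS (p := 68185) (l := 6) rfl N68185 D207260
theorem N104070 : nd 104070 = n207261 := ndS (p := 68187) (l := 4) rfl N68187 D207261
theorem N104071 : nd 104071 = n207262 := ndS (p := 68188) (l := 4) rfl N68188 D207262
theorem N104072 : nd 104072 = n207263 := ndS (p := 68190) (l := 0) rfl N68190 D207263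
theorem N104073 : nd 104073 = n207264 := ndS (p := 68190) (l := 1) rfl N68190 D207264
theorem N104074 : nd 104074 = n207265 := ndS (p := 68193) (l := 5) rfl N68193 D207265
theorem N104075 : nd 104075 = n207266 := ndS (p := 68195) (l := 5) rfl N68195 D207266
theorem N104076 : nd 104076 = n207267 := ndS (p := 68195) (l := 7) rfl N68195 D207267
theorem N104077 : nd 104077 = n207268 := ndS (p := 68197) (l := 4) rfl N68197 D207268
theorem N104078 : nd 104078 = n207269 := ndS (p := 68197) (l := 5) rfl N68197 D207269
theorem N104079 : nd 104079 = n207270 := ndS (p := 68198) (l := 5) rfl N68198 D207270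
theorem N104080 : nd 104080 = n207271 := ndS (p := 68199) (l := 7) rfl N68199 D207271
theorem N104081 : nd 104081 = n207272 := ndS (p := 68200) (l := 4) rfl N68200 D207272
theorem N104082 : nd 104082 = n207273 := ndS (p := 68201) (l := 2) rfl N68201 D207273
theorem N104083 : nd 104083 = n207274 := ndS (p := 68201) (l := 5) rfl N68201 D207274
theorem N104084 : nd 104084 = n207275 := ndS (p := 68203) (l := 5) rfl N68203 D207275
theorem N104085 : nd 104085 = n207276 := ndS (p := 68206) (l := 4) rfl N68206 D207276
theorem N104086 : nd 104086 = n207277 := ndS (p := 68206) (l := 6) rfl N68206 D207277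
theorem N104087 : nd 104087 = n207278 := ndS (p := 68207) (l := 4) rfl N68207 D207278
theorem N104088 : nd 104088 = n207279 := ndS (p := 68208) (l := 3) rfl N68208 D207279
theorem N104089 : nd 104089 = n207280 := ndS (p := 68208) (l := 5) rfl N68208 D207280
theorem N104090 : nd 104090 = n207281 := ndS (p := 68210) (l := 3) rfl N68210 D207281
theorem N104091 : nd 104091 = n207282 := ndS (p := 68212) (l := 6) rfl N68212 D207282
theorem N104092 : nd 104092 = n207283 := ndS (p := 68213) (l := 2) rfl N68213 D207283
theorem N104093 : nd 104093 = n207284 := ndS (p := 68214) (l := 3) rfl N68214 D207284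
theorem N104094 : nd 104094 = n207285 := ndS (p := 68215) (l := 3) rfl N68215 D207285
theorem N104095 : nd 104095 = n207286 := ndS (p := 68215) (l := 6) rfl N68215 D207286
theorem N104096 : nd 104096 = n207287 := ndS (p := 68216) (l := 5) rfl N68216 D207287
theorem N104097 : nd 104097 = n207288 := ndS (p := 68217) (l := 4) rfl N68217 D207288
theorem N104098 : nd 104098 = n207289 := ndS (p := 68217) (l := 6) rfl N68217 D207289
theorem N104099 : nd 104099 = n207290 := ndS (p := 68218) (l := 5) rfl N68218 D207290
theorem N104100 : nd 104100 = n207291 := ndS (p := 68219) (l := 0) rfl N68219 D207291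
theorem N104101 : nd 104101 = n207292 := ndS (p := 68219) (l := 1) rfl N68219 D207292
theorem N104102 : nd 104102 = n207293 := ndS (p := 68219) (l := 5) rfl N68219 D207293
theorem N104103 : nd 104103 = n207294 := ndS (p := 68219) (l := 7) rfl N68219 D207294
theorem N104104 : nd 104104 = n207295 := ndS (p := 68220) (l := 3) rfl N68220 D207295
theorem N104105 : nd 104105 = n207296 := ndS (p := 68220) (l := 5) rfl N68220 D207296
theorem N104106 : nd 104106 = n207297 := ndS (p := 68221) (l := 4) rfl N68221 D207297
theorem N104107 : nd 104107 = n207298 := ndS (p := 68223) (l := 3) rfl N68223 D207298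
theorem N104108 : nd 104108 = n207299 := ndS (p := 68226) (l := 6) rfl N68226 D207299
theorem N104109 : nd 104109 = n207300 := ndS (p := 68227) (l := 5) rfl N68227 D207300
theorem N104110 : nd 104110 = n207301 := ndS (p := 68227) (l := 6) rfl N68227 D207301
theorem N104111 : nd 104111 = n207302 := ndS (p := 68232) (l := 4) rfl N68232 D207302
theorem N104112 : nd 104112 = n207303 := ndS (p := 68233) (l := 4) rfl N68233 D207303
theorem N104113 : nd 104113 = n207304 := ndS (p := 68234) (l := 2) rfl N68234 D207304
theorem N104114 : nd 104114 = n207305 := ndS (p := 68239) (l := 0) rfl N68239 D207305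
theorem N104115 : nd 104115 = n207306 := ndS (p := 68239) (l := 1) rfl N68239 D207306
theorem N104116 : nd 104116 = n207307 := ndS (p := 68239) (l := 7) rfl N68239 D207307
theorem N104117 : nd 104117 = n207308 := ndS (p := 68243) (l := 6) rfl N68243 D207308
theorem N104118 : nd 104118 = n207309 := ndS (p := 68246) (l := 0) rfl N68246 D207309
theorem N104119 : nd 104119 = n207310 := ndS (p := 68246) (l := 1) rfl N68246 D207310
theorem N104120 : nd 104120 = n207311 := ndS (p := 68248) (l := 4) rfl N68248 D207311
theorem N104121 : nd 104121 = n207312 := ndS (p := 68249) (l := 4) rfl N68249 D207312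
theorem N104122 : nd 104122 = n207314 := ndS (p := 68254) (l := 2) rfl N68254 D207314
theorem N104123 : nd 104123 = n207315 := ndS (p := 68254) (l := 4) rfl N68254 D207315
theorem N104124 : nd 104124 = n207316 := ndS (p := 68254) (l := 5) rfl N68254 D207316
theorem N104125 : nd 104125 = n207317 := ndS (p := 68254) (l := 6) rfl N68254 D207317
theorem N104126 : nd 104126 = n207318 := ndS (p := 68255) (l := 5) rfl N68255 D207318
theorem N104127 : nd 104127 = n207319 := ndS (p := 68256) (l := 4) rfl N68256 D207319
theorem N104128 : nd 104128 = n207320 := ndS (p := 68258) (l := 0) rfl N68258 D207320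
theorem N104129 : nd 104129 = n207321 := ndS (p := 68258) (l := 2) rfl N68258 D207321
theorem N104130 : nd 104130 = n207322 := ndS (p := 68259) (l := 4) rfl N68259 D207322
theorem N104131 : nd 104131 = n207323 := ndS (p := 68260) (l := 3) rfl N68260 D207323
theorem N104132 : nd 104132 = n207324 := ndS (p := 68262) (l := 6) rfl N68262 D207324
theorem N104133 : nd 104133 = n207325 := ndS (p := 68270) (l := 1) rfl N68270 D207325
theorem N104134 : nd 104134 = n207326 := ndS (p := 68271) (l := 6) rfl N68271 D207326
theorem N104135 : nd 104135 = n207327 := ndS (p := 68272) (l := 5) rfl N68272 D207327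
theorem N104136 : nd 104136 = n207328 := ndS (p := 68274) (l := 6) rfl N68274 D207328
theorem N104137 : nd 104137 = n207329 := ndS (p := 68276) (l := 3) rfl N68276 D207329
theorem N104138 : nd 104138 = n207330 := ndS (p := 68276) (l := 6) rfl N68276 D207330
theorem N104139 : nd 104139 = n207331 := ndS (p := 68278) (l := 3) rfl N68278 D207331
theorem N104140 : nd 104140 = n207332 := ndS (p := 68278) (l := 6) rfl N68278 D207332
theorem N104141 : nd 104141 = n207333 := ndS (p := 68279) (l := 0) rfl N68279 D207333
theorem N104142 : nd 104142 = n207334 := ndS (p := 68279) (l := 1) rfl N68279 D207334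
theorem N104143 : nd 104143 = n207335 := ndS (p := 68279) (l := 5) rfl N68279 D207335
theorem N104144 : nd 104144 = n207336 := ndS (p := 68279) (l := 7) rfl N68279 D207336
theorem N104145 : nd 104145 = n207337 := ndS (p := 68280) (l := 3) rfl N68280 D207337
theorem N104146 : nd 104146 = n207338 := ndS (p := 68281) (l := 3) rfl N68281 D207338
theorem N104147 : nd 104147 = n207339 := ndS (p := 68281) (l := 6) rfl N68281 D207339
theorem N104148 : nd 104148 = n207340 := ndS (p := 68282) (l := 0) rfl N68282 D207340
theorem N104149 : nd 104149 = n207341 := ndS (p := 68282) (l := 4) rfl N68282 D207341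
theorem N104150 : nd 104150 = n207342 := ndS (p := 68282) (l := 7) rfl N68282 D207342
theorem N104151 : nd 104151 = n207343 := ndS (p := 68286) (l := 4) rfl N68286 D207343
theorem N104152 : nd 104152 = n207344 := ndS (p := 68286) (l := 6) rfl N68286 D207344
theorem N104153 : nd 104153 = n207345 := ndS (p := 68288) (l := 4) rfl N68288 D207345
theorem N104154 : nd 104154 = n207346 := ndS (p := 68294) (l := 6) rfl N68294 D207346
theorem N104155 : nd 104155 = n207347 := ndS (p := 68295) (l := 3) rfl N68295 D207347
theorem N104156 : nd 104156 = n207348 := ndS (p := 68295) (l := 6) rfl N68295 D207348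
theorem N104157 : nd 104157 = n207349 := ndS (p := 68296) (l := 7) rfl N68296 D207349
theorem N104158 : nd 104158 = n207350 := ndS (p := 68302) (l := 6) rfl N68302 D207350
theorem N104159 : nd 104159 = n207351 := ndS (p := 68307) (l := 4) rfl N68307 D207351
theorem N104160 : nd 104160 = n207352 := ndS (p := 68307) (l := 6) rfl N68307 D207352
theorem N104161 : nd 104161 = n207353 := ndS (p := 68309) (l := 3) rfl N68309 D207353
theorem N104162 : nd 104162 = n207354 := ndS (p := 68310) (l := 6) rfl N68310 D207354
theorem N104163 : nd 104163 = n207355 := ndS (p := 68314) (l := 6) rfl N68314 D207355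
theorem N104164 : nd 104164 = n207356 := ndS (p := 68317) (l := 5) rfl N68317 D207356
theorem N104165 : nd 104165 = n207357 := ndS (p := 68317) (l := 7) rfl N68317 D207357
theorem N104166 : nd 104166 = n207358 := ndS (p := 68318) (l := 3) rfl N68318 D207358
theorem N104167 : nd 104167 = n207359 := ndS (p := 68318) (l := 5) rfl N68318 D207359
theorem N104168 : nd 104168 = n207360 := ndS (p := 68322) (l := 0) rfl N68322 D207360
theorem N104169 : nd 104169 = n207361 := ndS (p := 68322) (l := 1) rfl N68322 D207361
theorem N104170 : nd 104170 = n207362 := ndS (p := 68322) (l := 4) rfl N68322 D207362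
theorem N104171 : nd 104171 = n207363 := ndS (p := 68322) (l := 7) rfl N68322 D207363
theorem N104172 : nd 104172 = n207364 := ndS (p := 68324) (l := 0) rfl N68324 D207364
theorem N104173 : nd 104173 = n207365 := ndS (p := 68324) (l := 2) rfl N68324 D207365
theorem N104174 : nd 104174 = n207366 := ndS (p := 68325) (l := 6) rfl N68325 D207366
theorem N104175 : nd 104175 = n207367 := ndS (p := 68327) (l := 3) rfl N68327 D207367
theorem N104176 : nd 104176 = n207368 := ndS (p := 68327) (l := 6) rfl N68327 D207368
theorem N104177 : nd 104177 = n207369 := ndS (p := 68328) (l := 1) rfl N68328 D207369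
theorem N104178 : nd 104178 = n207370 := ndS (p := 68328) (l := 7) rfl N68328 D207370
theorem N104179 : nd 104179 = n207371 := ndS (p := 68331) (l := 4) rfl N68331 D207371
theorem N104180 : nd 104180 = n207372 := ndS (p := 68331) (l := 6) rfl N68331 D207372
theorem N104181 : nd 104181 = n207373 := ndS (p := 68334) (l := 3) rfl N68334 D207373
theorem N104182 : nd 104182 = n207374 := ndS (p := 68336) (l := 1) rfl N68336 D207374
theorem N104183 : nd 104183 = n207375 := ndS (p := 68338) (l := 1) rfl N68338 D207375
theorem N104184 : nd 104184 = n207376 := ndS (p := 68341) (l := 6) rfl N68341 D207376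
theorem N104185 : nd 104185 = n207377 := ndS (p := 68358) (l := 6) rfl N68358 D207377
theorem N104186 : nd 104186 = n207378 := ndS (p := 68366) (l := 3) rfl N68366 D207378
theorem N104187 : nd 104187 = n207379 := ndS (p := 68367) (l := 7) rfl N68367 D207379
theorem N104188 : nd 104188 = n207380 := ndS (p := 68369) (l := 1) rfl N68369 D207380
theorem N104189 : nd 104189 = n207381 := ndS (p := 68369) (l := 7) rfl N68369 D207381
theorem N104190 : nd 104190 = n207382 := ndS (p := 68375) (l := 2) rfl N68375 D207382
theorem N104191 : nd 104191 = n207383 := ndS (p := 68376) (l := 7) rfl N68376 D207383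
theorem N104192 : nd 104192 = n207384 := ndS (p := 68377) (l := 3) rfl N68377 D207384
theorem N104193 : nd 104193 = n207385 := ndS (p := 68377) (l := 4) rfl N68377 D207385
theorem N104194 : nd 104194 = n207386 := ndS (p := 68377) (l := 5) rfl N68377 D207386
theorem N104195 : nd 104195 = n207387 := ndS (p := 68381) (l := 7) rfl N68381 D207387
theorem N104196 : nd 104196 = n207388 := ndS (p := 68382) (l := 4) rfl N68382 D207388
theorem N104197 : nd 104197 = n207389 := ndS (p := 68384) (l := 2) rfl N68384 D207389
theorem N104198 : nd 104198 = n207390 := ndS (p := 68384) (l := 4) rfl N68384 D207390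
theorem N104199 : nd 104199 = n207391 := ndS (p := 68387) (l := 7) rfl N68387 D207391
theorem N104200 : nd 104200 = n207392 := ndS (p := 68393) (l := 6) rfl N68393 D207392
theorem N104201 : nd 104201 = n207393 := ndS (p := 68394) (l := 3) rfl N68394 D207393
theorem N104202 : nd 104202 = n207394 := ndS (p := 68395) (l := 0) rfl N68395 D207394
theorem N104203 : nd 104203 = n207395 := ndS (p := 68396) (l := 3) rfl N68396 D207395
theorem N104204 : nd 104204 = n207396 := ndS (p := 68396) (l := 5) rfl N68396 D207396
theorem N104205 : nd 104205 = n207397 := ndS (p := 68397) (l := 7) rfl N68397 D207397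
theorem N104206 : nd 104206 = n207398 := ndS (p := 68404) (l := 4) rfl N68404 D207398
theorem N104207 : nd 104207 = n207399 := ndS (p := 68404) (l := 6) rfl N68404 D207399
theorem N104208 : nd 104208 = n207400 := ndS (p := 68426) (l := 1) rfl N68426 D207400
theorem N104209 : nd 104209 = n207401 := ndS (p := 68428) (l := 6) rfl N68428 D207401
theorem N104210 : nd 104210 = n207402 := ndS (p := 68429) (l := 0) rfl N68429 D207402
theorem N104211 : nd 104211 = n207403 := ndS (p := 68429) (l := 1) rfl N68429 D207403
theorem N104212 : nd 104212 = n207404 := ndS (p := 68431) (l := 7) rfl N68431 D207404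
theorem N104213 : nd 104213 = n207405 := ndS (p := 68433) (l := 1) rfl N68433 D207405
theorem N104214 : nd 104214 = n207406 := ndS (p := 68435) (l := 3) rfl N68435 D207406
theorem N104215 : nd 104215 = n207407 := ndS (p := 68435) (l := 6) rfl N68435 D207407
theorem N104216 : nd 104216 = n207408 := ndS (p := 68438) (l := 0) rfl N68438 D207408
theorem N104217 : nd 104217 = n207409 := ndS (p := 68438) (l := 1) rfl N68438 D207409
theorem N104218 : nd 104218 = n207410 := ndS (p := 68443) (l := 3) rfl N68443 D207410
theorem N104219 : nd 104219 = n207411 := ndS (p := 68451) (l := 5) rfl N68451 D207411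
theorem N104220 : nd 104220 = n207412 := ndS (p := 68458) (l := 7) rfl N68458 D207412
theorem N104221 : nd 104221 = n207413 := ndS (p := 68459) (l := 5) rfl N68459 D207413
theorem N104222 : nd 104222 = n207414 := ndS (p := 68467) (l := 5) rfl N68467 D207414
theorem N104223 : nd 104223 = n207415 := ndS (p := 68470) (l := 4) rfl N68470 D207415
theorem N104224 : nd 104224 = n207416 := ndS (p := 68473) (l := 5) rfl N68473 D207416
theorem N104225 : nd 104225 = n207417 := ndS (p := 68474) (l := 5) rfl N68474 D207417
theorem N104226 : nd 104226 = n207418 := ndS (p := 68474) (l := 7) rfl N68474 D207418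
theorem N104227 : nd 104227 = n207419 := ndS (p := 68476) (l := 3) rfl N68476 D207419
theorem N104228 : nd 104228 = n207420 := ndS (p := 68477) (l := 0) rfl N68477 D207420
theorem N104229 : nd 104229 = n207421 := ndS (p := 68478) (l := 6) rfl N68478 D207421
theorem N104230 : nd 104230 = n207422 := ndS (p := 68488) (l := 0) rfl N68488 D207422
theorem N104231 : nd 104231 = n207423 := ndS (p := 68498) (l := 0) rfl N68498 D207423
theorem N104232 : nd 104232 = n207424 := ndS (p := 68498) (l := 1) rfl N68498 D207424
theorem N104233 : nd 104233 = n207425 := ndS (p := 68498) (l := 7) rfl N68498 D207425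
theorem N104234 : nd 104234 = n207426 := ndS (p := 68501) (l := 6) rfl N68501 D207426
theorem N104235 : nd 104235 = n207427 := ndS (p := 68502) (l := 6) rfl N68502 D207427
theorem N104236 : nd 104236 = n207428 := ndS (p := 68503) (l := 1) rfl N68503 D207428
theorem N104237 : nd 104237 = n207429 := ndS (p := 68505) (l := 6) rfl N68505 D207429
theorem N104238 : nd 104238 = n207430 := ndS (p := 68510) (l := 0) rfl N68510 D207430
theorem N104239 : nd 104239 = n207431 := ndS (p := 68510) (l := 1) rfl N68510 D207431
theorem N104240 : nd 104240 = n207432 := ndS (p := 68513) (l := 3) rfl N68513 D207432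
theorem N104241 : nd 104241 = n207433 := ndS (p := 68519) (l := 6) rfl N68519 D207433
theorem N104242 : nd 104242 = n207434 := ndS (p := 68520) (l := 4) rfl N68520 D207434
theorem N104243 : nd 104243 = n207435 := ndS (p := 68522) (l := 6) rfl N68522 D207435
theorem N104244 : nd 104244 = n207436 := ndS (p := 68523) (l := 5) rfl N68523 D207436
theorem N104245 : nd 104245 = n207437 := ndS (p := 68527) (l := 0) rfl N68527 D207437
theorem N104246 : nd 104246 = n207438 := ndS (p := 68527) (l := 4) rfl N68527 D207438
theorem N104247 : nd 104247 = n207439 := ndS (p := 68535) (l := 0) rfl N68535 D207439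
theorem N104248 : nd 104248 = n207440 := ndS (p := 68535) (l := 5) rfl N68535 D207440
theorem N104249 : nd 104249 = n207441 := ndS (p := 68536) (l := 4) rfl N68536 D207441
theorem N104250 : nd 104250 = n207442 := ndS (p := 68539) (l := 5) rfl N68539 D207442
theorem N104251 : nd 104251 = n207443 := ndS (p := 68542) (l := 0) rfl N68542 D207443
theorem N104252 : nd 104252 = n207444 := ndS (p := 68542) (l := 1) rfl N68542 D207444
theorem N104253 : nd 104253 = n207445 := ndS (p := 68548) (l := 5) rfl N68548 D207445
theorem N104254 : nd 104254 = n207446 := ndS (p := 68551) (l := 1) rfl N68551 D207446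
theorem N104255 : nd 104255 = n207447 := ndS (p := 68553) (l := 6) rfl N68553 D207447
theorem N104256 : nd 104256 = n207448 := ndS (p := 68558) (l := 4) rfl N68558 D207448
theorem N104257 : nd 104257 = n207449 := ndS (p := 68558) (l := 6) rfl N68558 D207449
theorem N104258 : nd 104258 = n207450 := ndS (p := 68568) (l := 4) rfl N68568 D207450
theorem N104259 : nd 104259 = n207451 := ndS (p := 68568) (l := 5) rfl N68568 D207451
theorem N104260 : nd 104260 = n207452 := ndS (p := 68569) (l := 3) rfl N68569 D207452
theorem N104261 : nd 104261 = n207453 := ndS (p := 68578) (l := 1) rfl N68578 D207453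
theorem N104262 : nd 104262 = n207454 := ndS (p := 68578) (l := 7) rfl N68578 D207454
theorem N104263 : nd 104263 = n207455 := ndS (p := 68579) (l := 5) rfl N68579 D207455
theorem N104264 : nd 104264 = n207456 := ndS (p := 68586) (l := 6) rfl N68586 D207456
theorem N104265 : nd 104265 = n207457 := ndS (p := 68597) (l := 3) rfl N68597 D207457
theorem N104266 : nd 104266 = n207458 := ndS (p := 68597) (l := 4) rfl N68597 D207458
theorem N104267 : nd 104267 = n207459 := ndS (p := 68598) (l := 6) rfl N68598 D207459
theorem N104268 : nd 104268 = n207460 := ndS (p := 68601) (l := 4) rfl N68601 D207460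
theorem N104269 : nd 104269 = n207461 := ndS (p := 68604) (l := 0) rfl N68604 D207461
theorem N104270 : nd 104270 = n207462 := ndS (p := 68610) (l := 5) rfl N68610 D207462
theorem N104271 : nd 104271 = n207463 := ndS (p := 68611) (l := 5) rfl N68611 D207463
theorem N104272 : nd 104272 = n207464 := ndS (p := 68612) (l := 6) rfl N68612 D207464
theorem N104273 : nd 104273 = n207465 := ndS (p := 68613) (l := 3) rfl N68613 D207465
theorem N104274 : nd 104274 = n207466 := ndS (p := 68618) (l := 6) rfl N68618 D207466
theorem N104275 : nd 104275 = n207467 := ndS (p := 68619) (l := 6) rfl N68619 D207467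
theorem N104276 : nd 104276 = n207468 := ndS (p := 68621) (l := 0) rfl N68621 D207468
theorem N104277 : nd 104277 = n207469 := ndS (p := 68621) (l := 1) rfl N68621 D207469
theorem N104278 : nd 104278 = n207470 := ndS (p := 68621) (l := 7) rfl N68621 D207470
theorem N104279 : nd 104279 = n207471 := ndS (p := 68622) (l := 0) rfl N68622 D207471
theorem N104280 : nd 104280 = n207472 := ndS (p := 68622) (l := 1) rfl N68622 D207472
theorem N104281 : nd 104281 = n207473 := ndS (p := 68622) (l := 7) rfl N68622 D207473
theorem N104282 : nd 104282 = n207474 := ndS (p := 68624) (l := 6) rfl N68624 D207474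
theorem N104283 : nd 104283 = n207475 := ndS (p := 68625) (l := 3) rfl N68625 D207475
theorem N104284 : nd 104284 = n207476 := ndS (p := 68626) (l := 6) rfl N68626 D207476
theorem N104285 : nd 104285 = n207477 := ndS (p := 68630) (l := 1) rfl N68630 D207477
theorem N104286 : nd 104286 = n207478 := ndS (p := 68630) (l := 6) rfl N68630 D207478
theorem N104287 : nd 104287 = n207479 := ndS (p := 68632) (l := 4) rfl N68632 D207479
theorem N104288 : nd 104288 = n207480 := ndS (p := 68632) (l := 6) rfl N68632 D207480
theorem N104289 : nd 104289 = n207481 := ndS (p := 68635) (l := 4) rfl N68635 D207481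
theorem N104290 : nd 104290 = n207482 := ndS (p := 68636) (l := 4) rfl N68636 D207482
theorem N104291 : nd 104291 = n207483 := ndS (p := 68637) (l := 3) rfl N68637 D207483
theorem N104292 : nd 104292 = n207484 := ndS (p := 68637) (l := 4) rfl N68637 D207484
theorem N104293 : nd 104293 = n207485 := ndS (p := 68637) (l := 6) rfl N68637 D207485
theorem N104294 : nd 104294 = n207486 := ndS (p := 68638) (l := 3) rfl N68638 D207486
theorem N104295 : nd 104295 = n207487 := ndS (p := 68638) (l := 4) rfl N68638 D207487
theorem N104296 : nd 104296 = n207488 := ndS (p := 68638) (l := 6) rfl N68638 D207488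
theorem N104297 : nd 104297 = n207489 := ndS (p := 68639) (l := 0) rfl N68639 D207489
theorem N104298 : nd 104298 = n207491 := ndS (p := 68639) (l := 5) rfl N68639 D207491
theorem N104299 : nd 104299 = n207492 := ndS (p := 68641) (l := 6) rfl N68641 D207492
theorem N104300 : nd 104300 = n207493 := ndS (p := 68643) (l := 2) rfl N68643 D207493
theorem N104301 : nd 104301 = n207494 := ndS (p := 68644) (l := 1) rfl N68644 D207494
theorem N104302 : nd 104302 = n207495 := ndS (p := 68644) (l := 2) rfl N68644 D207495
theorem N104303 : nd 104303 = n207496 := ndS (p := 68644) (l := 4) rfl N68644 D207496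
theorem N104304 : nd 104304 = n207497 := ndS (p := 68644) (l := 6) rfl N68644 D207497
theorem N104305 : nd 104305 = n207498 := ndS (p := 68646) (l := 3) rfl N68646 D207498
theorem N104306 : nd 104306 = n207499 := ndS (p := 68647) (l := 3) rfl N68647 D207499
theorem N104307 : nd 104307 = n207500 := ndS (p := 68648) (l := 0) rfl N68648 D207500
theorem N104308 : nd 104308 = n207501 := ndS (p := 68648) (l := 2) rfl N68648 D207501
theorem N104309 : nd 104309 = n207502 := ndS (p := 68649) (l := 2) rfl N68649 D207502
theorem N104310 : nd 104310 = n207503 := ndS (p := 68649) (l := 6) rfl N68649 D207503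
theorem N104311 : nd 104311 = n207504 := ndS (p := 68652) (l := 0) rfl N68652 D207504
theorem N104312 : nd 104312 = n207505 := ndS (p := 68652) (l := 1) rfl N68652 D207505
theorem N104313 : nd 104313 = n207506 := ndS (p := 68654) (l := 5) rfl N68654 D207506
theorem N104314 : nd 104314 = n207507 := ndS (p := 68658) (l := 5) rfl N68658 D207507
theorem N104315 : nd 104315 = n207508 := ndS (p := 68661) (l := 3) rfl N68661 D207508
theorem N104316 : nd 104316 = n207509 := ndS (p := 68665) (l := 3) rfl N68665 D207509
theorem N104317 : nd 104317 = n207510 := ndS (p := 68666) (l := 0) rfl N68666 D207510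
theorem N104318 : nd 104318 = n207511 := ndS (p := 68666) (l := 1) rfl N68666 D207511
theorem N104319 : nd 104319 = n207512 := ndS (p := 68671) (l := 5) rfl N68671 D207512
theorem N104320 : nd 104320 = n207513 := ndS (p := 68671) (l := 6) rfl N68671 D207513
theorem N104321 : nd 104321 = n207514 := ndS (p := 68684) (l := 3) rfl N68684 D207514
theorem N104322 : nd 104322 = n207515 := ndS (p := 68684) (l := 4) rfl N68684 D207515
theorem N104323 : nd 104323 = n207516 := ndS (p := 68684) (l := 6) rfl N68684 D207516
theorem N104324 : nd 104324 = n207517 := ndS (p := 68686) (l := 5) rfl N68686 D207517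
theorem N104325 : nd 104325 = n207518 := ndS (p := 68687) (l := 0) rfl N68687 D207518
theorem N104326 : nd 104326 = n207519 := ndS (p := 68687) (l := 4) rfl N68687 D207519
theorem N104327 : nd 104327 = n207520 := ndS (p := 68687) (l := 6) rfl N68687 D207520
theorem N104328 : nd 104328 = n207521 := ndS (p := 68688) (l := 1) rfl N68688 D207521
theorem N104329 : nd 104329 = n207522 := ndS (p := 68689) (l := 3) rfl N68689 D207522
theorem N104330 : nd 104330 = n207523 := ndS (p := 68689) (l := 5) rfl N68689 D207523
theorem N104331 : nd 104331 = n207524 := ndS (p := 68690) (l := 1) rfl N68690 D207524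
theorem N104332 : nd 104332 = n207525 := ndS (p := 68690) (l := 4) rfl N68690 D207525
theorem N104333 : nd 104333 = n207526 := ndS (p := 68690) (l := 7) rfl N68690 D207526
theorem N104334 : nd 104334 = n207527 := ndS (p := 68696) (l := 6) rfl N68696 D207527
theorem N104335 : nd 104335 = n207528 := ndS (p := 68697) (l := 3) rfl N68697 D207528
theorem N104336 : nd 104336 = n207529 := ndS (p := 68697) (l := 6) rfl N68697 D207529
theorem N104337 : nd 104337 = n207530 := ndS (p := 68701) (l := 4) rfl N68701 D207530
theorem N104338 : nd 104338 = n207531 := ndS (p := 68701) (l := 6) rfl N68701 D207531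
theorem N104339 : nd 104339 = n207532 := ndS (p := 68702) (l := 5) rfl N68702 D207532
theorem N104340 : nd 104340 = n207533 := ndS (p := 68703) (l := 4) rfl N68703 D207533
theorem N104341 : nd 104341 = n207534 := ndS (p := 68704) (l := 4) rfl N68704 D207534
theorem N104342 : nd 104342 = n207535 := ndS (p := 68704) (l := 6) rfl N68704 D207535
theorem N104343 : nd 104343 = n207536 := ndS (p := 68705) (l := 0) rfl N68705 D207536
theorem N104344 : nd 104344 = n207537 := ndS (p := 68705) (l := 1) rfl N68705 D207537
theorem N104345 : nd 104345 = n207538 := ndS (p := 68705) (l := 5) rfl N68705 D207538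
theorem N104346 : nd 104346 = n207539 := ndS (p := 68706) (l := 7) rfl N68706 D207539
theorem N104347 : nd 104347 = n207540 := ndS (p := 68707) (l := 3) rfl N68707 D207540
theorem N104348 : nd 104348 = n207541 := ndS (p := 68708) (l := 1) rfl N68708 D207541
theorem N104349 : nd 104349 = n207542 := ndS (p := 68708) (l := 7) rfl N68708 D207542
theorem N104350 : nd 104350 = n207543 := ndS (p := 68711) (l := 0) rfl N68711 D207543
theorem N104351 : nd 104351 = n207544 := ndS (p := 68712) (l := 2) rfl N68712 D207544
theorem N104352 : nd 104352 = n207545 := ndS (p := 68713) (l := 0) rfl N68713 D207545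
theorem N104353 : nd 104353 = n207546 := ndS (p := 68713) (l := 1) rfl N68713 D207546
theorem N104354 : nd 104354 = n207547 := ndS (p := 68713) (l := 5) rfl N68713 D207547
theorem N104355 : nd 104355 = n207548 := ndS (p := 68713) (l := 7) rfl N68713 D207548
theorem N104356 : nd 104356 = n207549 := ndS (p := 68714) (l := 6) rfl N68714 D207549
theorem N104357 : nd 104357 = n207550 := ndS (p := 68716) (l := 4) rfl N68716 D207550
theorem N104358 : nd 104358 = n207551 := ndS (p := 68718) (l := 5) rfl N68718 D207551
theorem N104359 : nd 104359 = n207552 := ndS (p := 68719) (l := 0) rfl N68719 D207552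
theorem N104360 : nd 104360 = n207553 := ndS (p := 68719) (l := 1) rfl N68719 D207553
theorem N104361 : nd 104361 = n207554 := ndS (p := 68719) (l := 4) rfl N68719 D207554
theorem N104362 : nd 104362 = n207555 := ndS (p := 68720) (l := 4) rfl N68720 D207555
theorem N104363 : nd 104363 = n207556 := ndS (p := 68721) (l := 4) rfl N68721 D207556
theorem N104364 : nd 104364 = n207557 := ndS (p := 68723) (l := 1) rfl N68723 D207557
theorem N104365 : nd 104365 = n207558 := ndS (p := 68723) (l := 3) rfl N68723 D207558
theorem N104366 : nd 104366 = n207559 := ndS (p := 68723) (l := 5) rfl N68723 D207559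
theorem N104367 : nd 104367 = n207560 := ndS (p := 68723) (l := 7) rfl N68723 D207560
theorem N104368 : nd 104368 = n207561 := ndS (p := 68725) (l := 5) rfl N68725 D207561
theorem N104369 : nd 104369 = n207562 := ndS (p := 68726) (l := 0) rfl N68726 D207562
theorem N104370 : nd 104370 = n207563 := ndS (p := 68726) (l := 4) rfl N68726 D207563
theorem N104371 : nd 104371 = n207564 := ndS (p := 68727) (l := 3) rfl N68727 D207564
theorem N104372 : nd 104372 = n207565 := ndS (p := 68728) (l := 1) rfl N68728 D207565
theorem N104373 : nd 104373 = n207566 := ndS (p := 68729) (l := 4) rfl N68729 D207566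
theorem N104374 : nd 104374 = n207567 := ndS (p := 68729) (l := 6) rfl N68729 D207567
theorem N104375 : nd 104375 = n207568 := ndS (p := 68734) (l := 1) rfl N68734 D207568
theorem N104376 : nd 104376 = n207569 := ndS (p := 68736) (l := 3) rfl N68736 D207569
theorem N104377 : nd 104377 = n207570 := ndS (p := 68745) (l := 0) rfl N68745 D207570
theorem N104378 : nd 104378 = n207571 := ndS (p := 68745) (l := 2) rfl N68745 D207571
theorem N104379 : nd 104379 = n207572 := ndS (p := 68749) (l := 6) rfl N68749 D207572
theorem N104380 : nd 104380 = n207573 := ndS (p := 68752) (l := 4) rfl N68752 D207573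
theorem N104381 : nd 104381 = n207574 := ndS (p := 68755) (l := 4) rfl N68755 D207574
theorem N104382 : nd 104382 = n207575 := ndS (p := 68756) (l := 4) rfl N68756 D207575
theorem N104383 : nd 104383 = n207576 := ndS (p := 68758) (l := 3) rfl N68758 D207576
theorem N104384 : nd 104384 = n207577 := ndS (p := 68759) (l := 1) rfl N68759 D207577
theorem N104385 : nd 104385 = n207578 := ndS (p := 68759) (l := 5) rfl N68759 D207578
theorem N104386 : nd 104386 = n207579 := ndS (p := 68762) (l := 3) rfl N68762 D207579
theorem N104387 : nd 104387 = n207580 := ndS (p := 68762) (l := 5) rfl N68762 D207580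
theorem N104388 : nd 104388 = n207581 := ndS (p := 68765) (l := 5) rfl N68765 D207581
theorem N104389 : nd 104389 = n207582 := ndS (p := 68767) (l := 1) rfl N68767 D207582
theorem N104390 : nd 104390 = n207583 := ndS (p := 68769) (l := 6) rfl N68769 D207583
theorem N104391 : nd 104391 = n207584 := ndS (p := 68771) (l := 0) rfl N68771 D207584
theorem N104392 : nd 104392 = n207585 := ndS (p := 68771) (l := 1) rfl N68771 D207585
theorem N104393 : nd 104393 = n207586 := ndS (p := 68776) (l := 6) rfl N68776 D207586
theorem N104394 : nd 104394 = n207587 := ndS (p := 68777) (l := 0) rfl N68777 D207587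
theorem N104395 : nd 104395 = n207588 := ndS (p := 68777) (l := 5) rfl N68777 D207588
theorem N104396 : nd 104396 = n207589 := ndS (p := 68779) (l := 0) rfl N68779 D207589
theorem N104397 : nd 104397 = n207590 := ndS (p := 68780) (l := 6) rfl N68780 D207590
theorem N104398 : nd 104398 = n207591 := ndS (p := 68782) (l := 5) rfl N68782 D207591
theorem N104399 : nd 104399 = n207592 := ndS (p := 68783) (l := 0) rfl N68783 D207592
theorem N104400 : nd 104400 = n207593 := ndS (p := 68783) (l := 7) rfl N68783 D207593
theorem N104401 : nd 104401 = n207594 := ndS (p := 68784) (l := 6) rfl N68784 D207594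
theorem N104402 : nd 104402 = n207595 := ndS (p := 68786) (l := 7) rfl N68786 D207595
theorem N104403 : nd 104403 = n207596 := ndS (p := 68790) (l := 5) rfl N68790 D207596
theorem N104404 : nd 104404 = n207597 := ndS (p := 68792) (l := 0) rfl N68792 D207597
theorem N104405 : nd 104405 = n207598 := ndS (p := 68792) (l := 4) rfl N68792 D207598
theorem N104406 : nd 104406 = n207599 := ndS (p := 68792) (l := 6) rfl N68792 D207599
theorem N104407 : nd 104407 = n207600 := ndS (p := 68795) (l := 1) rfl N68795 D207600
theorem N104408 : nd 104408 = n207601 := ndS (p := 68796) (l := 6) rfl N68796 D207601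
theorem N104409 : nd 104409 = n207602 := ndS (p := 68797) (l := 7) rfl N68797 D207602
theorem N104410 : nd 104410 = n207603 := ndS (p := 68801) (l := 3) rfl N68801 D207603
theorem N104411 : nd 104411 = n207604 := ndS (p := 68803) (l := 0) rfl N68803 D207604
theorem N104412 : nd 104412 = n207605 := ndS (p := 68804) (l := 4) rfl N68804 D207605
theorem N104413 : nd 104413 = n207606 := ndS (p := 68804) (l := 6) rfl N68804 D207606
theorem N104414 : nd 104414 = n207607 := ndS (p := 68806) (l := 5) rfl N68806 D207607
theorem N104415 : nd 104415 = n207608 := ndS (p := 68809) (l := 0) rfl N68809 D207608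
theorem N104416 : nd 104416 = n207609 := ndS (p := 68812) (l := 4) rfl N68812 D207609
theorem N104417 : nd 104417 = n207610 := ndS (p := 68814) (l := 0) rfl N68814 D207610
theorem N104418 : nd 104418 = n207611 := ndS (p := 68819) (l := 4) rfl N68819 D207611
theorem N104419 : nd 104419 = n207612 := ndS (p := 68820) (l := 1) rfl N68820 D207612
theorem N104420 : nd 104420 = n207613 := ndS (p := 68821) (l := 5) rfl N68821 D207613
theorem N104421 : nd 104421 = n207614 := ndS (p := 68823) (l := 0) rfl N68823 D207614
theorem N104422 : nd 104422 = n207615 := ndS (p := 68823) (l := 1) rfl N68823 D207615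
theorem N104423 : nd 104423 = n207616 := ndS (p := 68823) (l := 7) rfl N68823 D207616
theorem N104424 : nd 104424 = n207617 := ndS (p := 68825) (l := 5) rfl N68825 D207617
theorem N104425 : nd 104425 = n207618 := ndS (p := 68826) (l := 1) rfl N68826 D207618
theorem N104426 : nd 104426 = n207619 := ndS (p := 68828) (l := 4) rfl N68828 D207619
theorem N104427 : nd 104427 = n207620 := ndS (p := 68831) (l := 6) rfl N68831 D207620
theorem N104428 : nd 104428 = n207621 := ndS (p := 68832) (l := 0) rfl N68832 D207621
theorem N104429 : nd 104429 = n207622 := ndS (p := 68832) (l := 4) rfl N68832 D207622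
theorem N104430 : nd 104430 = n207623 := ndS (p := 68834) (l := 5) rfl N68834 D207623
theorem N104431 : nd 104431 = n207624 := ndS (p := 68835) (l := 4) rfl N68835 D207624
theorem N104432 : nd 104432 = n207625 := ndS (p := 68835) (l := 6) rfl N68835 D207625
theorem N104433 : nd 104433 = n207626 := ndS (p := 68837) (l := 4) rfl N68837 D207626
theorem N104434 : nd 104434 = n207627 := ndS (p := 68841) (l := 5) rfl N68841 D207627
theorem N104435 : nd 104435 = n207628 := ndS (p := 68842) (l := 0) rfl N68842 D207628
theorem N104436 : nd 104436 = n207629 := ndS (p := 68842) (l := 4) rfl N68842 D207629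
theorem N104437 : nd 104437 = n207630 := ndS (p := 68846) (l := 4) rfl N68846 D207630
theorem N104438 : nd 104438 = n207631 := ndS (p := 68846) (l := 6) rfl N68846 D207631
theorem N104439 : nd 104439 = n207632 := ndS (p := 68849) (l := 6) rfl N68849 D207632
theorem N104440 : nd 104440 = n207633 := ndS (p := 68850) (l := 6) rfl N68850 D207633
theorem N104441 : nd 104441 = n207634 := ndS (p := 68851) (l := 5) rfl N68851 D207634
theorem N104442 : nd 104442 = n207635 := ndS (p := 68852) (l := 0) rfl N68852 D207635
theorem N104443 : nd 104443 = n207636 := ndS (p := 68852) (l := 6) rfl N68852 D207636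
theorem N104444 : nd 104444 = n207637 := ndS (p := 68853) (l := 1) rfl N68853 D207637
theorem N104445 : nd 104445 = n207638 := ndS (p := 68853) (l := 5) rfl N68853 D207638
theorem N104446 : nd 104446 = n207639 := ndS (p := 68854) (l := 5) rfl N68854 D207639
theorem N104447 : nd 104447 = n207640 := ndS (p := 68854) (l := 7) rfl N68854 D207640
theorem N104448 : nd 104448 = n207641 := ndS (p := 68855) (l := 4) rfl N68855 D207641
theorem N104449 : nd 104449 = n207642 := ndS (p := 68856) (l := 3) rfl N68856 D207642
theorem N104450 : nd 104450 = n207643 := ndS (p := 68856) (l := 6) rfl N68856 D207643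
theorem N104451 : nd 104451 = n207644 := ndS (p := 68857) (l := 3) rfl N68857 D207644
theorem N104452 : nd 104452 = n207645 := ndS (p := 68858) (l := 5) rfl N68858 D207645
theorem N104453 : nd 104453 = n207646 := ndS (p := 68859) (l := 0) rfl N68859 D207646
theorem N104454 : nd 104454 = n207647 := ndS (p := 68859) (l := 1) rfl N68859 D207647
theorem N104455 : nd 104455 = n207648 := ndS (p := 68859) (l := 4) rfl N68859 D207648
theorem N104456 : nd 104456 = n207649 := ndS (p := 68859) (l := 6) rfl N68859 D207649
theorem N104457 : nd 104457 = n207650 := ndS (p := 68861) (l := 0) rfl N68861 D207650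
theorem N104458 : nd 104458 = n207651 := ndS (p := 68861) (l := 1) rfl N68861 D207651
theorem N104459 : nd 104459 = n207652 := ndS (p := 68861) (l := 5) rfl N68861 D207652
theorem N104460 : nd 104460 = n207653 := ndS (p := 68861) (l := 7) rfl N68861 D207653
theorem N104461 : nd 104461 = n207654 := ndS (p := 68865) (l := 1) rfl N68865 D207654
theorem N104462 : nd 104462 = n207655 := ndS (p := 68866) (l := 0) rfl N68866 D207655
theorem N104463 : nd 104463 = n207656 := ndS (p := 68866) (l := 1) rfl N68866 D207656
theorem N104464 : nd 104464 = n207657 := ndS (p := 68866) (l := 2) rfl N68866 D207657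
theorem N104465 : nd 104465 = n207658 := ndS (p := 68869) (l := 6) rfl N68869 D207658
theorem N104466 : nd 104466 = n207659 := ndS (p := 68870) (l := 5) rfl N68870 D207659
theorem N104467 : nd 104467 = n207660 := ndS (p := 68871) (l := 6) rfl N68871 D207660
theorem N104468 : nd 104468 = n207661 := ndS (p := 68872) (l := 5) rfl N68872 D207661
theorem N104469 : nd 104469 = n207662 := ndS (p := 68873) (l := 5) rfl N68873 D207662
theorem N104470 : nd 104470 = n207663 := ndS (p := 68873) (l := 7) rfl N68873 D207663
theorem N104471 : nd 104471 = n207664 := ndS (p := 68874) (l := 3) rfl N68874 D207664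
theorem N104472 : nd 104472 = n207665 := ndS (p := 68874) (l := 6) rfl N68874 D207665
theorem N104473 : nd 104473 = n207666 := ndS (p := 68875) (l := 3) rfl N68875 D207666
theorem N104474 : nd 104474 = n207667 := ndS (p := 68875) (l := 5) rfl N68875 D207667
theorem N104475 : nd 104475 = n207668 := ndS (p := 68878) (l := 3) rfl N68878 D207668
theorem N104476 : nd 104476 = n207669 := ndS (p := 68878) (l := 5) rfl N68878 D207669
theorem N104477 : nd 104477 = n207670 := ndS (p := 68879) (l := 5) rfl N68879 D207670
theorem N104478 : nd 104478 = n207671 := ndS (p := 68880) (l := 0) rfl N68880 D207671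
theorem N104479 : nd 104479 = n207672 := ndS (p := 68880) (l := 1) rfl N68880 D207672
theorem N104480 : nd 104480 = n207673 := ndS (p := 68880) (l := 2) rfl N68880 D207673
theorem N104481 : nd 104481 = n207674 := ndS (p := 68881) (l := 3) rfl N68881 D207674
theorem N104482 : nd 104482 = n207675 := ndS (p := 68881) (l := 4) rfl N68881 D207675
theorem N104483 : nd 104483 = n207676 := ndS (p := 68881) (l := 6) rfl N68881 D207676
theorem N104484 : nd 104484 = n207677 := ndS (p := 68882) (l := 6) rfl N68882 D207677
theorem N104485 : nd 104485 = n207678 := ndS (p := 68883) (l := 5) rfl N68883 D207678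
theorem N104486 : nd 104486 = n207680 := ndS (p := 68886) (l := 1) rfl N68886 D207680
theorem N104487 : nd 104487 = n207681 := ndS (p := 68886) (l := 7) rfl N68886 D207681
theorem N104488 : nd 104488 = n207682 := ndS (p := 68887) (l := 3) rfl N68887 D207682
theorem N104489 : nd 104489 = n207683 := ndS (p := 68888) (l := 4) rfl N68888 D207683
theorem N104490 : nd 104490 = n207684 := ndS (p := 68889) (l := 5) rfl N68889 D207684
theorem N104491 : nd 104491 = n207685 := ndS (p := 68889) (l := 6) rfl N68889 D207685
theorem N104492 : nd 104492 = n207686 := ndS (p := 68890) (l := 3) rfl N68890 D207686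
theorem N104493 : nd 104493 = n207687 := ndS (p := 68890) (l := 4) rfl N68890 D207687
theorem N104494 : nd 104494 = n207688 := ndS (p := 68890) (l := 5) rfl N68890 D207688
theorem N104495 : nd 104495 = n207689 := ndS (p := 68890) (l := 6) rfl N68890 D207689
theorem N104496 : nd 104496 = n207690 := ndS (p := 68891) (l := 6) rfl N68891 D207690
theorem N104497 : nd 104497 = n207691 := ndS (p := 68892) (l := 0) rfl N68892 D207691
theorem N104498 : nd 104498 = n207692 := ndS (p := 68892) (l := 1) rfl N68892 D207692
theorem N104499 : nd 104499 = n207693 := ndS (p := 68892) (l := 7) rfl N68892 D207693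
theorem N104500 : nd 104500 = n207694 := ndS (p := 68894) (l := 3) rfl N68894 D207694
theorem N104501 : nd 104501 = n207695 := ndS (p := 68894) (l := 6) rfl N68894 D207695
theorem N104502 : nd 104502 = n207696 := ndS (p := 68895) (l := 3) rfl N68895 D207696
theorem N104503 : nd 104503 = n207697 := ndS (p := 68897) (l := 5) rfl N68897 D207697
theorem N104504 : nd 104504 = n207698 := ndS (p := 68898) (l := 1) rfl N68898 D207698
theorem N104505 : nd 104505 = n207699 := ndS (p := 68899) (l := 1) rfl N68899 D207699
theorem N104506 : nd 104506 = n207700 := ndS (p := 68899) (l := 2) rfl N68899 D207700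
theorem N104507 : nd 104507 = n207701 := ndS (p := 68900) (l := 6) rfl N68900 D207701
theorem N104508 : nd 104508 = n207702 := ndS (p := 68901) (l := 0) rfl N68901 D207702
theorem N104509 : nd 104509 = n207703 := ndS (p := 68901) (l := 7) rfl N68901 D207703
theorem N104510 : nd 104510 = n207704 := ndS (p := 68903) (l := 1) rfl N68903 D207704
theorem N104511 : nd 104511 = n207705 := ndS (p := 68905) (l := 3) rfl N68905 D207705
theorem N104512 : nd 104512 = n207706 := ndS (p := 68906) (l := 3) rfl N68906 D207706
theorem N104513 : nd 104513 = n207707 := ndS (p := 68906) (l := 6) rfl N68906 D207707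
theorem N104514 : nd 104514 = n207708 := ndS (p := 68907) (l := 6) rfl N68907 D207708
theorem N104515 : nd 104515 = n207709 := ndS (p := 68909) (l := 2) rfl N68909 D207709
theorem N104516 : nd 104516 = n207710 := ndS (p := 68909) (l := 4) rfl N68909 D207710
theorem N104517 : nd 104517 = n207711 := ndS (p := 68909) (l := 6) rfl N68909 D207711
theorem N104518 : nd 104518 = n207712 := ndS (p := 68910) (l := 0) rfl N68910 D207712
theorem N104519 : nd 104519 = n207713 := ndS (p := 68910) (l := 1) rfl N68910 D207713
theorem N104520 : nd 104520 = n207714 := ndS (p := 68910) (l := 5) rfl N68910 D207714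
theorem N104521 : nd 104521 = n207715 := ndS (p := 68910) (l := 7) rfl N68910 D207715
theorem N104522 : nd 104522 = n207716 := ndS (p := 68911) (l := 6) rfl N68911 D207716
theorem N104523 : nd 104523 = n207717 := ndS (p := 68912) (l := 1) rfl N68912 D207717
theorem N104524 : nd 104524 = n207718 := ndS (p := 68912) (l := 5) rfl N68912 D207718
theorem N104525 : nd 104525 = n207719 := ndS (p := 68913) (l := 3) rfl N68913 D207719
theorem N104526 : nd 104526 = n207720 := ndS (p := 68913) (l := 4) rfl N68913 D207720
theorem N104527 : nd 104527 = n207721 := ndS (p := 68913) (l := 5) rfl N68913 D207721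
theorem N104528 : nd 104528 = n207722 := ndS (p := 68913) (l := 6) rfl N68913 D207722
theorem N104529 : nd 104529 = n207723 := ndS (p := 68914) (l := 3) rfl N68914 D207723
theorem N104530 : nd 104530 = n207724 := ndS (p := 68914) (l := 4) rfl N68914 D207724
theorem N104531 : nd 104531 = n207725 := ndS (p := 68914) (l := 6) rfl N68914 D207725
theorem N104532 : nd 104532 = n207726 := ndS (p := 68915) (l := 0) rfl N68915 D207726
theorem N104533 : nd 104533 = n207727 := ndS (p := 68915) (l := 1) rfl N68915 D207727
theorem N104534 : nd 104534 = n207728 := ndS (p := 68917) (l := 0) rfl N68917 D207728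
theorem N104535 : nd 104535 = n207730 := ndS (p := 68917) (l := 2) rfl N68917 D207730
theorem N104536 : nd 104536 = n207731 := ndS (p := 68917) (l := 5) rfl N68917 D207731
theorem N104537 : nd 104537 = n207732 := ndS (p := 68918) (l := 4) rfl N68918 D207732
theorem N104538 : nd 104538 = n207733 := ndS (p := 68920) (l := 4) rfl N68920 D207733
theorem N104539 : nd 104539 = n207734 := ndS (p := 68920) (l := 6) rfl N68920 D207734
theorem N104540 : nd 104540 = n207735 := ndS (p := 68922) (l := 3) rfl N68922 D207735
theorem N104541 : nd 104541 = n207736 := ndS (p := 68922) (l := 4) rfl N68922 D207736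
theorem N104542 : nd 104542 = n207737 := ndS (p := 68923) (l := 4) rfl N68923 D207737
theorem N104543 : nd 104543 = n207738 := ndS (p := 68923) (l := 6) rfl N68923 D207738
theorem N104544 : nd 104544 = n207739 := ndS (p := 68924) (l := 0) rfl N68924 D207739
theorem N104545 : nd 104545 = n207740 := ndS (p := 68924) (l := 1) rfl N68924 D207740
theorem N104546 : nd 104546 = n207741 := ndS (p := 68925) (l := 5) rfl N68925 D207741
theorem N104547 : nd 104547 = n207742 := ndS (p := 68926) (l := 0) rfl N68926 D207742
theorem N104548 : nd 104548 = n207743 := ndS (p := 68926) (l := 2) rfl N68926 D207743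
theorem N104549 : nd 104549 = n207744 := ndS (p := 68926) (l := 5) rfl N68926 D207744
theorem N104550 : nd 104550 = n207746 := ndS (p := 68929) (l := 1) rfl N68929 D207746
theorem N104551 : nd 104551 = n207747 := ndS (p := 68929) (l := 2) rfl N68929 D207747
theorem N104552 : nd 104552 = n207748 := ndS (p := 68929) (l := 5) rfl N68929 D207748
theorem N104553 : nd 104553 = n207749 := ndS (p := 68929) (l := 6) rfl N68929 D207749
theorem N104554 : nd 104554 = n207750 := ndS (p := 68930) (l := 6) rfl N68930 D207750
theorem N104555 : nd 104555 = n207751 := ndS (p := 68931) (l := 0) rfl N68931 D207751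
theorem N104556 : nd 104556 = n207752 := ndS (p := 68931) (l := 5) rfl N68931 D207752
theorem N104557 : nd 104557 = n207753 := ndS (p := 68933) (l := 6) rfl N68933 D207753
theorem N104558 : nd 104558 = n207754 := ndS (p := 68934) (l := 6) rfl N68934 D207754
theorem N104559 : nd 104559 = n207755 := ndS (p := 68935) (l := 0) rfl N68935 D207755
theorem N104560 : nd 104560 = n207756 := ndS (p := 68935) (l := 5) rfl N68935 D207756
theorem N104561 : nd 104561 = n207757 := ndS (p := 68938) (l := 4) rfl N68938 D207757
theorem N104562 : nd 104562 = n207758 := ndS (p := 68940) (l := 3) rfl N68940 D207758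
theorem N104563 : nd 104563 = n207759 := ndS (p := 68943) (l := 5) rfl N68943 D207759
theorem N104564 : nd 104564 = n207760 := ndS (p := 68945) (l := 5) rfl N68945 D207760
theorem N104565 : nd 104565 = n207761 := ndS (p := 68947) (l := 0) rfl N68947 D207761
theorem N104566 : nd 104566 = n207762 := ndS (p := 68947) (l := 1) rfl N68947 D207762
theorem N104567 : nd 104567 = n207763 := ndS (p := 68947) (l := 7) rfl N68947 D207763
theorem N104568 : nd 104568 = n207764 := ndS (p := 68948) (l := 4) rfl N68948 D207764
theorem N104569 : nd 104569 = n207765 := ndS (p := 68948) (l := 5) rfl N68948 D207765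
theorem N104570 : nd 104570 = n207766 := ndS (p := 68949) (l := 3) rfl N68949 D207766
theorem N104571 : nd 104571 = n207767 := ndS (p := 68949) (l := 5) rfl N68949 D207767
theorem N104572 : nd 104572 = n207768 := ndS (p := 68951) (l := 5) rfl N68951 D207768
theorem N104573 : nd 104573 = n207769 := ndS (p := 68953) (l := 5) rfl N68953 D207769
theorem N104574 : nd 104574 = n207770 := ndS (p := 68954) (l := 6) rfl N68954 D207770
theorem N104575 : nd 104575 = n207771 := ndS (p := 68955) (l := 6) rfl N68955 D207771
theorem N104576 : nd 104576 = n207772 := ndS (p := 68958) (l := 6) rfl N68958 D207772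
theorem N104577 : nd 104577 = n207773 := ndS (p := 68960) (l := 0) rfl N68960 D207773
theorem N104578 : nd 104578 = n207774 := ndS (p := 68960) (l := 7) rfl N68960 D207774
theorem N104579 : nd 104579 = n207775 := ndS (p := 68961) (l := 3) rfl N68961 D207775
theorem N104580 : nd 104580 = n207776 := ndS (p := 68961) (l := 5) rfl N68961 D207776
theorem N104581 : nd 104581 = n207777 := ndS (p := 68961) (l := 6) rfl N68961 D207777
theorem N104582 : nd 104582 = n207778 := ndS (p := 68962) (l := 5) rfl N68962 D207778
theorem N104583 : nd 104583 = n207779 := ndS (p := 68963) (l := 1) rfl N68963 D207779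
theorem N104584 : nd 104584 = n207780 := ndS (p := 68963) (l := 2) rfl N68963 D207780
theorem N104585 : nd 104585 = n207781 := ndS (p := 68963) (l := 5) rfl N68963 D207781
theorem N104586 : nd 104586 = n207782 := ndS (p := 68963) (l := 6) rfl N68963 D207782
theorem N104587 : nd 104587 = n207783 := ndS (p := 68965) (l := 0) rfl N68965 D207783
theorem N104588 : nd 104588 = n207784 := ndS (p := 68965) (l := 1) rfl N68965 D207784
theorem N104589 : nd 104589 = n207785 := ndS (p := 68965) (l := 7) rfl N68965 D207785
theorem N104590 : nd 104590 = n207786 := ndS (p := 68966) (l := 5) rfl N68966 D207786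
theorem N104591 : nd 104591 = n207787 := ndS (p := 68969) (l := 6) rfl N68969 D207787
theorem N104592 : nd 104592 = n207788 := ndS (p := 68970) (l := 6) rfl N68970 D207788
theorem N104593 : nd 104593 = n207789 := ndS (p := 68971) (l := 5) rfl N68971 D207789
theorem N104594 : nd 104594 = n207790 := ndS (p := 68982) (l := 3) rfl N68982 D207790
theorem N104595 : nd 104595 = n207791 := ndS (p := 68983) (l := 2) rfl N68983 D207791
theorem N104596 : nd 104596 = n207792 := ndS (p := 68984) (l := 3) rfl N68984 D207792
theorem N104597 : nd 104597 = n207793 := ndS (p := 68985) (l := 0) rfl N68985 D207793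
theorem N104598 : nd 104598 = n207794 := ndS (p := 68985) (l := 2) rfl N68985 D207794
theorem N104599 : nd 104599 = n207795 := ndS (p := 68988) (l := 4) rfl N68988 D207795
theorem N104600 : nd 104600 = n207796 := ndS (p := 68989) (l := 6) rfl N68989 D207796
theorem N104601 : nd 104601 = n207797 := ndS (p := 68990) (l := 1) rfl N68990 D207797
theorem N104602 : nd 104602 = n207798 := ndS (p := 68995) (l := 0) rfl N68995 D207798
theorem N104603 : nd 104603 = n207799 := ndS (p := 68995) (l := 1) rfl N68995 D207799
theorem N104604 : nd 104604 = n207800 := ndS (p := 68995) (l := 5) rfl N68995 D207800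
theorem N104605 : nd 104605 = n207801 := ndS (p := 68995) (l := 7) rfl N68995 D207801
theorem N104606 : nd 104606 = n207802 := ndS (p := 68996) (l := 5) rfl N68996 D207802
theorem N104607 : nd 104607 = n207803 := ndS (p := 68997) (l := 3) rfl N68997 D207803
theorem N104608 : nd 104608 = n207804 := ndS (p := 68997) (l := 5) rfl N68997 D207804
theorem N104609 : nd 104609 = n207805 := ndS (p := 68998) (l := 0) rfl N68998 D207805
theorem N104610 : nd 104610 = n207806 := ndS (p := 68998) (l := 7) rfl N68998 D207806
theorem N104611 : nd 104611 = n207807 := ndS (p := 69000) (l := 3) rfl N69000 D207807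
theorem N104612 : nd 104612 = n207808 := ndS (p := 69000) (l := 5) rfl N69000 D207808
theorem N104613 : nd 104613 = n207809 := ndS (p := 69001) (l := 6) rfl N69001 D207809
theorem N104614 : nd 104614 = n207810 := ndS (p := 69002) (l := 3) rfl N69002 D207810
theorem N104615 : nd 104615 = n207811 := ndS (p := 69003) (l := 1) rfl N69003 D207811
theorem N104616 : nd 104616 = n207812 := ndS (p := 69003) (l := 5) rfl N69003 D207812
theorem N104617 : nd 104617 = n207813 := ndS (p := 69004) (l := 4) rfl N69004 D207813
theorem N104618 : nd 104618 = n207814 := ndS (p := 69005) (l := 4) rfl N69005 D207814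
theorem N104619 : nd 104619 = n207815 := ndS (p := 69009) (l := 5) rfl N69009 D207815
theorem N104620 : nd 104620 = n207816 := ndS (p := 69010) (l := 6) rfl N69010 D207816
theorem N104621 : nd 104621 = n207817 := ndS (p := 69011) (l := 1) rfl N69011 D207817
theorem N104622 : nd 104622 = n207818 := ndS (p := 69011) (l := 5) rfl N69011 D207818
theorem N104623 : nd 104623 = n207819 := ndS (p := 69011) (l := 7) rfl N69011 D207819
theorem N104624 : nd 104624 = n207820 := ndS (p := 69012) (l := 6) rfl N69012 D207820
theorem N104625 : nd 104625 = n207821 := ndS (p := 69014) (l := 6) rfl N69014 D207821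
theorem N104626 : nd 104626 = n207822 := ndS (p := 69015) (l := 6) rfl N69015 D207822
theorem N104627 : nd 104627 = n207823 := ndS (p := 69016) (l := 0) rfl N69016 D207823
theorem N104628 : nd 104628 = n207824 := ndS (p := 69016) (l := 1) rfl N69016 D207824
theorem N104629 : nd 104629 = n207825 := ndS (p := 69016) (l := 5) rfl N69016 D207825
theorem N104630 : nd 104630 = n207826 := ndS (p := 69016) (l := 7) rfl N69016 D207826
theorem N104631 : nd 104631 = n207827 := ndS (p := 69017) (l := 3) rfl N69017 D207827
theorem N104632 : nd 104632 = n207828 := ndS (p := 69017) (l := 5) rfl N69017 D207828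
theorem N104633 : nd 104633 = n207829 := ndS (p := 69018) (l := 4) rfl N69018 D207829
theorem N104634 : nd 104634 = n207830 := ndS (p := 69020) (l := 3) rfl N69020 D207830
theorem N104635 : nd 104635 = n207831 := ndS (p := 69020) (l := 6) rfl N69020 D207831
theorem N104636 : nd 104636 = n207832 := ndS (p := 69021) (l := 6) rfl N69021 D207832
theorem N104637 : nd 104637 = n207833 := ndS (p := 69024) (l := 5) rfl N69024 D207833
theorem N104638 : nd 104638 = n207834 := ndS (p := 69025) (l := 6) rfl N69025 D207834
theorem N104639 : nd 104639 = n207835 := ndS (p := 69026) (l := 5) rfl N69026 D207835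
theorem N104640 : nd 104640 = n207836 := ndS (p := 69026) (l := 6) rfl N69026 D207836
theorem N104641 : nd 104641 = n207837 := ndS (p := 69027) (l := 3) rfl N69027 D207837
theorem N104642 : nd 104642 = n207838 := ndS (p := 69027) (l := 6) rfl N69027 D207838
theorem N104643 : nd 104643 = n207839 := ndS (p := 69028) (l := 1) rfl N69028 D207839
theorem N104644 : nd 104644 = n207840 := ndS (p := 69030) (l := 4) rfl N69030 D207840
theorem N104645 : nd 104645 = n207841 := ndS (p := 69030) (l := 6) rfl N69030 D207841
theorem N104646 : nd 104646 = n207842 := ndS (p := 69035) (l := 3) rfl N69035 D207842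
theorem N104647 : nd 104647 = n207843 := ndS (p := 69037) (l := 5) rfl N69037 D207843
theorem N104648 : nd 104648 = n207844 := ndS (p := 69038) (l := 0) rfl N69038 D207844
theorem N104649 : nd 104649 = n207845 := ndS (p := 69038) (l := 1) rfl N69038 D207845
theorem N104650 : nd 104650 = n207846 := ndS (p := 69042) (l := 1) rfl N69042 D207846
theorem N104651 : nd 104651 = n207847 := ndS (p := 69043) (l := 4) rfl N69043 D207847
theorem N104652 : nd 104652 = n207848 := ndS (p := 69049) (l := 0) rfl N69049 D207848
theorem N104653 : nd 104653 = n207849 := ndS (p := 69049) (l := 1) rfl N69049 D207849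
theorem N104654 : nd 104654 = n207850 := ndS (p := 69049) (l := 5) rfl N69049 D207850
theorem N104655 : nd 104655 = n207851 := ndS (p := 69049) (l := 7) rfl N69049 D207851
theorem N104656 : nd 104656 = n207852 := ndS (p := 69050) (l := 5) rfl N69050 D207852
theorem N104657 : nd 104657 = n207853 := ndS (p := 69055) (l := 5) rfl N69055 D207853
theorem N104658 : nd 104658 = n207854 := ndS (p := 69057) (l := 3) rfl N69057 D207854
theorem N104659 : nd 104659 = n207855 := ndS (p := 69057) (l := 4) rfl N69057 D207855
theorem N104660 : nd 104660 = n207856 := ndS (p := 69061) (l := 3) rfl N69061 D207856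
theorem N104661 : nd 104661 = n207857 := ndS (p := 69061) (l := 4) rfl N69061 D207857
theorem N104662 : nd 104662 = n207858 := ndS (p := 69063) (l := 6) rfl N69063 D207858
theorem N104663 : nd 104663 = n207859 := ndS (p := 69065) (l := 5) rfl N69065 D207859
theorem N104664 : nd 104664 = n207860 := ndS (p := 69065) (l := 6) rfl N69065 D207860
theorem N104665 : nd 104665 = n207861 := ndS (p := 69066) (l := 4) rfl N69066 D207861
theorem N104666 : nd 104666 = n207862 := ndS (p := 69067) (l := 0) rfl N69067 D207862
theorem N104667 : nd 104667 = n207863 := ndS (p := 69067) (l := 1) rfl N69067 D207863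
theorem N104668 : nd 104668 = n207864 := ndS (p := 69068) (l := 1) rfl N69068 D207864
theorem N104669 : nd 104669 = n207865 := ndS (p := 69069) (l := 5) rfl N69069 D207865
theorem N104670 : nd 104670 = n207866 := ndS (p := 69070) (l := 5) rfl N69070 D207866
theorem N104671 : nd 104671 = n207867 := ndS (p := 69073) (l := 3) rfl N69073 D207867
theorem N104672 : nd 104672 = n207868 := ndS (p := 69073) (l := 5) rfl N69073 D207868
theorem N104673 : nd 104673 = n207869 := ndS (p := 69074) (l := 4) rfl N69074 D207869
theorem N104674 : nd 104674 = n207870 := ndS (p := 69075) (l := 5) rfl N69075 D207870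
theorem N104675 : nd 104675 = n207871 := ndS (p := 69076) (l := 4) rfl N69076 D207871
theorem N104676 : nd 104676 = n207872 := ndS (p := 69076) (l := 6) rfl N69076 D207872
theorem N104677 : nd 104677 = n207873 := ndS (p := 69079) (l := 0) rfl N69079 D207873
theorem N104678 : nd 104678 = n207874 := ndS (p := 69079) (l := 4) rfl N69079 D207874
theorem N104679 : nd 104679 = n207875 := ndS (p := 69080) (l := 2) rfl N69080 D207875
theorem N104680 : nd 104680 = n207876 := ndS (p := 69080) (l := 6) rfl N69080 D207876
theorem N104681 : nd 104681 = n207877 := ndS (p := 69081) (l := 6) rfl N69081 D207877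
theorem N104682 : nd 104682 = n207878 := ndS (p := 69082) (l := 0) rfl N69082 D207878
theorem N104683 : nd 104683 = n207879 := ndS (p := 69082) (l := 5) rfl N69082 D207879
theorem N104684 : nd 104684 = n207880 := ndS (p := 69083) (l := 2) rfl N69083 D207880
theorem N104685 : nd 104685 = n207881 := ndS (p := 69084) (l := 6) rfl N69084 D207881
theorem N104686 : nd 104686 = n207882 := ndS (p := 69085) (l := 1) rfl N69085 D207882
theorem N104687 : nd 104687 = n207883 := ndS (p := 69085) (l := 5) rfl N69085 D207883
theorem N104688 : nd 104688 = n207884 := ndS (p := 69085) (l := 7) rfl N69085 D207884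
theorem N104689 : nd 104689 = n207885 := ndS (p := 69086) (l := 6) rfl N69086 D207885
theorem N104690 : nd 104690 = n207886 := ndS (p := 69087) (l := 0) rfl N69087 D207886
theorem N104691 : nd 104691 = n207887 := ndS (p := 69087) (l := 5) rfl N69087 D207887
theorem N104692 : nd 104692 = n207888 := ndS (p := 69087) (l := 7) rfl N69087 D207888
theorem N104693 : nd 104693 = n207889 := ndS (p := 69088) (l := 3) rfl N69088 D207889
theorem N104694 : nd 104694 = n207890 := ndS (p := 69088) (l := 4) rfl N69088 D207890
theorem N104695 : nd 104695 = n207891 := ndS (p := 69089) (l := 4) rfl N69089 D207891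
theorem N104696 : nd 104696 = n207892 := ndS (p := 69089) (l := 5) rfl N69089 D207892
theorem N104697 : nd 104697 = n207893 := ndS (p := 69090) (l := 1) rfl N69090 D207893
theorem N104698 : nd 104698 = n207894 := ndS (p := 69090) (l := 4) rfl N69090 D207894
theorem N104699 : nd 104699 = n207895 := ndS (p := 69090) (l := 7) rfl N69090 D207895
theorem N104700 : nd 104700 = n207896 := ndS (p := 69092) (l := 5) rfl N69092 D207896
theorem N104701 : nd 104701 = n207897 := ndS (p := 69093) (l := 4) rfl N69093 D207897
theorem N104702 : nd 104702 = n207898 := ndS (p := 69093) (l := 5) rfl N69093 D207898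
theorem N104703 : nd 104703 = n207899 := ndS (p := 69093) (l := 6) rfl N69093 D207899
theorem N104704 : nd 104704 = n207900 := ndS (p := 69094) (l := 4) rfl N69094 D207900
theorem N104705 : nd 104705 = n207901 := ndS (p := 69096) (l := 2) rfl N69096 D207901
theorem N104706 : nd 104706 = n207902 := ndS (p := 69097) (l := 6) rfl N69097 D207902
theorem N104707 : nd 104707 = n207903 := ndS (p := 69098) (l := 2) rfl N69098 D207903
theorem N104708 : nd 104708 = n207904 := ndS (p := 69098) (l := 5) rfl N69098 D207904
theorem N104709 : nd 104709 = n207905 := ndS (p := 69098) (l := 6) rfl N69098 D207905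
theorem N104710 : nd 104710 = n207906 := ndS (p := 69099) (l := 6) rfl N69099 D207906
theorem N104711 : nd 104711 = n207907 := ndS (p := 69101) (l := 3) rfl N69101 D207907
theorem N104712 : nd 104712 = n207908 := ndS (p := 69101) (l := 4) rfl N69101 D207908
theorem N104713 : nd 104713 = n207909 := ndS (p := 69104) (l := 4) rfl N69104 D207909
theorem N104714 : nd 104714 = n207910 := ndS (p := 69105) (l := 3) rfl N69105 D207910
theorem N104715 : nd 104715 = n207911 := ndS (p := 69106) (l := 0) rfl N69106 D207911
theorem N104716 : nd 104716 = n207912 := ndS (p := 69106) (l := 2) rfl N69106 D207912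
theorem N104717 : nd 104717 = n207913 := ndS (p := 69106) (l := 5) rfl N69106 D207913
theorem N104718 : nd 104718 = n207914 := ndS (p := 69107) (l := 4) rfl N69107 D207914
theorem N104719 : nd 104719 = n207915 := ndS (p := 69107) (l := 6) rfl N69107 D207915
theorem N104720 : nd 104720 = n207916 := ndS (p := 69108) (l := 3) rfl N69108 D207916
theorem N104721 : nd 104721 = n207917 := ndS (p := 69108) (l := 5) rfl N69108 D207917
theorem N104722 : nd 104722 = n207918 := ndS (p := 69111) (l := 1) rfl N69111 D207918
theorem N104723 : nd 104723 = n207919 := ndS (p := 69112) (l := 4) rfl N69112 D207919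
theorem N104724 : nd 104724 = n207920 := ndS (p := 69113) (l := 0) rfl N69113 D207920
theorem N104725 : nd 104725 = n207921 := ndS (p := 69114) (l := 5) rfl N69114 D207921
theorem N104726 : nd 104726 = n207922 := ndS (p := 69115) (l := 6) rfl N69115 D207922
theorem N104727 : nd 104727 = n207923 := ndS (p := 69116) (l := 6) rfl N69116 D207923
theorem N104728 : nd 104728 = n207924 := ndS (p := 69117) (l := 1) rfl N69117 D207924
theorem N104729 : nd 104729 = n207925 := ndS (p := 69117) (l := 5) rfl N69117 D207925
theorem N104730 : nd 104730 = n207926 := ndS (p := 69121) (l := 5) rfl N69121 D207926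
theorem N104731 : nd 104731 = n207927 := ndS (p := 69122) (l := 4) rfl N69122 D207927
theorem N104732 : nd 104732 = n207928 := ndS (p := 69125) (l := 0) rfl N69125 D207928
theorem N104733 : nd 104733 = n207929 := ndS (p := 69125) (l := 5) rfl N69125 D207929
theorem N104734 : nd 104734 = n207930 := ndS (p := 69126) (l := 4) rfl N69126 D207930
theorem N104735 : nd 104735 = n207931 := ndS (p := 69129) (l := 5) rfl N69129 D207931
theorem N104736 : nd 104736 = n207932 := ndS (p := 69133) (l := 5) rfl N69133 D207932
theorem N104737 : nd 104737 = n207933 := ndS (p := 69138) (l := 3) rfl N69138 D207933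
theorem N104738 : nd 104738 = n207934 := ndS (p := 69141) (l := 3) rfl N69141 D207934
theorem N104739 : nd 104739 = n207935 := ndS (p := 69142) (l := 5) rfl N69142 D207935
theorem N104740 : nd 104740 = n207936 := ndS (p := 69145) (l := 4) rfl N69145 D207936
theorem N104741 : nd 104741 = n207937 := ndS (p := 69147) (l := 0) rfl N69147 D207937
theorem N104742 : nd 104742 = n207938 := ndS (p := 69148) (l := 5) rfl N69148 D207938
theorem N104743 : nd 104743 = n207939 := ndS (p := 69152) (l := 5) rfl N69152 D207939
theorem N104744 : nd 104744 = n207940 := ndS (p := 69152) (l := 6) rfl N69152 D207940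
theorem N104745 : nd 104745 = n207941 := ndS (p := 69155) (l := 0) rfl N69155 D207941
theorem N104746 : nd 104746 = n207942 := ndS (p := 69157) (l := 3) rfl N69157 D207942
theorem N104747 : nd 104747 = n207943 := ndS (p := 69157) (l := 6) rfl N69157 D207943
theorem N104748 : nd 104748 = n207944 := ndS (p := 69160) (l := 0) rfl N69160 D207944
theorem N104749 : nd 104749 = n207945 := ndS (p := 69160) (l := 5) rfl N69160 D207945
theorem N104750 : nd 104750 = n207946 := ndS (p := 69161) (l := 6) rfl N69161 D207946
theorem N104751 : nd 104751 = n207947 := ndS (p := 69163) (l := 5) rfl N69163 D207947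
theorem N104752 : nd 104752 = n207948 := ndS (p := 69164) (l := 6) rfl N69164 D207948
theorem N104753 : nd 104753 = n207949 := ndS (p := 69166) (l := 5) rfl N69166 D207949
theorem N104754 : nd 104754 = n207950 := ndS (p := 69168) (l := 6) rfl N69168 D207950
theorem N104755 : nd 104755 = n207951 := ndS (p := 69172) (l := 6) rfl N69172 D207951
theorem N104756 : nd 104756 = n207952 := ndS (p := 69175) (l := 6) rfl N69175 D207952
theorem N104757 : nd 104757 = n207953 := ndS (p := 69178) (l := 6) rfl N69178 D207953
theorem N104758 : nd 104758 = n207954 := ndS (p := 69181) (l := 1) rfl N69181 D207954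
theorem N104759 : nd 104759 = n207955 := ndS (p := 69186) (l := 4) rfl N69186 D207955
theorem N104760 : nd 104760 = n207956 := ndS (p := 69189) (l := 5) rfl N69189 D207956
theorem N104761 : nd 104761 = n207957 := ndS (p := 69190) (l := 5) rfl N69190 D207957
theorem N104762 : nd 104762 = n207958 := ndS (p := 69191) (l := 5) rfl N69191 D207958
theorem N104763 : nd 104763 = n207959 := ndS (p := 69192) (l := 6) rfl N69192 D207959
theorem N104764 : nd 104764 = n207960 := ndS (p := 69194) (l := 5) rfl N69194 D207960
theorem N104765 : nd 104765 = n207961 := ndS (p := 69195) (l := 5) rfl N69195 D207961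
theorem N104766 : nd 104766 = n207962 := ndS (p := 69196) (l := 1) rfl N69196 D207962
theorem N104767 : nd 104767 = n207963 := ndS (p := 69196) (l := 4) rfl N69196 D207963
theorem N104768 : nd 104768 = n207964 := ndS (p := 69196) (l := 7) rfl N69196 D207964
theorem N104769 : nd 104769 = n207965 := ndS (p := 69198) (l := 4) rfl N69198 D207965
theorem N104770 : nd 104770 = n207966 := ndS (p := 69198) (l := 6) rfl N69198 D207966
theorem N104771 : nd 104771 = n207967 := ndS (p := 69199) (l := 5) rfl N69199 D207967
theorem N104772 : nd 104772 = n207968 := ndS (p := 69203) (l := 5) rfl N69203 D207968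
theorem N104773 : nd 104773 = n207969 := ndS (p := 69208) (l := 5) rfl N69208 D207969
theorem N104774 : nd 104774 = n207970 := ndS (p := 69213) (l := 6) rfl N69213 D207970
theorem N104775 : nd 104775 = n207971 := ndS (p := 69217) (l := 3) rfl N69217 D207971
theorem N104776 : nd 104776 = n207972 := ndS (p := 69223) (l := 4) rfl N69223 D207972
theorem N104777 : nd 104777 = n207973 := ndS (p := 69227) (l := 2) rfl N69227 D207973
theorem N104778 : nd 104778 = n207974 := ndS (p := 69227) (l := 5) rfl N69227 D207974
theorem N104779 : nd 104779 = n207975 := ndS (p := 69228) (l := 4) rfl N69228 D207975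
theorem N104780 : nd 104780 = n207976 := ndS (p := 69229) (l := 4) rfl N69229 D207976
theorem N104781 : nd 104781 = n207977 := ndS (p := 69239) (l := 0) rfl N69239 D207977
theorem N104782 : nd 104782 = n207978 := ndS (p := 69241) (l := 4) rfl N69241 D207978
theorem N104783 : nd 104783 = n207979 := ndS (p := 69243) (l := 3) rfl N69243 D207979
theorem N104784 : nd 104784 = n207980 := ndS (p := 69247) (l := 4) rfl N69247 D207980
theorem N104785 : nd 104785 = n207981 := ndS (p := 69249) (l := 4) rfl N69249 D207981
theorem N104786 : nd 104786 = n207982 := ndS (p := 69255) (l := 4) rfl N69255 D207982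
theorem N104787 : nd 104787 = n207983 := ndS (p := 69260) (l := 0) rfl N69260 D207983
theorem N104788 : nd 104788 = n207984 := ndS (p := 69263) (l := 1) rfl N69263 D207984
theorem N104789 : nd 104789 = n207985 := ndS (p := 69266) (l := 0) rfl N69266 D207985
theorem N104790 : nd 104790 = n207986 := ndS (p := 69273) (l := 5) rfl N69273 D207986
theorem N104791 : nd 104791 = n207987 := ndS (p := 69273) (l := 6) rfl N69273 D207987
theorem N104792 : nd 104792 = n207988 := ndS (p := 69274) (l := 6) rfl N69274 D207988
theorem N104793 : nd 104793 = n207989 := ndS (p := 69282) (l := 4) rfl N69282 D207989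
theorem N104794 : nd 104794 = n207990 := ndS (p := 69285) (l := 4) rfl N69285 D207990
theorem N104795 : nd 104795 = n207991 := ndS (p := 69294) (l := 0) rfl N69294 D207991
theorem N104796 : nd 104796 = n207992 := ndS (p := 69304) (l := 6) rfl N69304 D207992
theorem N104797 : nd 104797 = n207993 := ndS (p := 69305) (l := 1) rfl N69305 D207993
theorem N104798 : nd 104798 = n207994 := ndS (p := 69305) (l := 5) rfl N69305 D207994
theorem N104799 : nd 104799 = n207995 := ndS (p := 69305) (l := 7) rfl N69305 D207995
theorem N104800 : nd 104800 = n207996 := ndS (p := 69306) (l := 4) rfl N69306 D207996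
theorem N104801 : nd 104801 = n207997 := ndS (p := 69307) (l := 4) rfl N69307 D207997
theorem N104802 : nd 104802 = n207998 := ndS (p := 69307) (l := 6) rfl N69307 D207998
theorem N104803 : nd 104803 = n207999 := ndS (p := 69311) (l := 6) rfl N69311 D207999
theorem N104804 : nd 104804 = n208000 := ndS (p := 69312) (l := 7) rfl N69312 D208000
theorem N104805 : nd 104805 = n208001 := ndS (p := 69319) (l := 6) rfl N69319 D208001
theorem N104806 : nd 104806 = n208002 := ndS (p := 69320) (l := 1) rfl N69320 D208002
theorem N104807 : nd 104807 = n208003 := ndS (p := 69322) (l := 0) rfl N69322 D208003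
theorem N104808 : nd 104808 = n208004 := ndS (p := 69323) (l := 6) rfl N69323 D208004
theorem N104809 : nd 104809 = n208005 := ndS (p := 69324) (l := 6) rfl N69324 D208005
theorem N104810 : nd 104810 = n208006 := ndS (p := 69335) (l := 3) rfl N69335 D208006
theorem N104811 : nd 104811 = n208007 := ndS (p := 69340) (l := 0) rfl N69340 D208007
theorem N104812 : nd 104812 = n208008 := ndS (p := 69340) (l := 7) rfl N69340 D208008
theorem N104813 : nd 104813 = n208009 := ndS (p := 69348) (l := 5) rfl N69348 D208009
theorem N104814 : nd 104814 = n208010 := ndS (p := 69349) (l := 0) rfl N69349 D208010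
theorem N104815 : nd 104815 = n208011 := ndS (p := 69349) (l := 4) rfl N69349 D208011
theorem N104816 : nd 104816 = n208012 := ndS (p := 69349) (l := 6) rfl N69349 D208012
theorem N104817 : nd 104817 = n208013 := ndS (p := 69356) (l := 0) rfl N69356 D208013
theorem N104818 : nd 104818 = n208014 := ndS (p := 69358) (l := 5) rfl N69358 D208014
theorem N104819 : nd 104819 = n208015 := ndS (p := 69360) (l := 1) rfl N69360 D208015
theorem N104820 : nd 104820 = n208016 := ndS (p := 69361) (l := 5) rfl N69361 D208016
theorem N104821 : nd 104821 = n208017 := ndS (p := 69361) (l := 7) rfl N69361 D208017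
theorem N104822 : nd 104822 = n208018 := ndS (p := 69363) (l := 0) rfl N69363 D208018
theorem N104823 : nd 104823 = n208019 := ndS (p := 69363) (l := 5) rfl N69363 D208019
theorem N104824 : nd 104824 = n208020 := ndS (p := 69363) (l := 7) rfl N69363 D208020
theorem N104825 : nd 104825 = n208021 := ndS (p := 69364) (l := 5) rfl N69364 D208021
theorem N104826 : nd 104826 = n208022 := ndS (p := 69365) (l := 5) rfl N69365 D208022
theorem N104827 : nd 104827 = n208023 := ndS (p := 69366) (l := 4) rfl N69366 D208023
theorem N104828 : nd 104828 = n208024 := ndS (p := 69366) (l := 7) rfl N69366 D208024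
theorem N104829 : nd 104829 = n208025 := ndS (p := 69370) (l := 0) rfl N69370 D208025
theorem N104830 : nd 104830 = n208026 := ndS (p := 69370) (l := 1) rfl N69370 D208026
theorem N104831 : nd 104831 = n208027 := ndS (p := 69370) (l := 7) rfl N69370 D208027
theorem N104832 : nd 104832 = n208028 := ndS (p := 69374) (l := 2) rfl N69374 D208028
theorem N104833 : nd 104833 = n208029 := ndS (p := 69375) (l := 4) rfl N69375 D208029
theorem N104834 : nd 104834 = n208030 := ndS (p := 69377) (l := 4) rfl N69377 D208030
theorem N104835 : nd 104835 = n208031 := ndS (p := 69378) (l := 3) rfl N69378 D208031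
theorem N104836 : nd 104836 = n208032 := ndS (p := 69378) (l := 5) rfl N69378 D208032
theorem N104837 : nd 104837 = n208033 := ndS (p := 69378) (l := 7) rfl N69378 D208033
theorem N104838 : nd 104838 = n208034 := ndS (p := 69379) (l := 6) rfl N69379 D208034
theorem N104839 : nd 104839 = n208035 := ndS (p := 69381) (l := 5) rfl N69381 D208035
theorem N104840 : nd 104840 = n208036 := ndS (p := 69383) (l := 1) rfl N69383 D208036
theorem N104841 : nd 104841 = n208037 := ndS (p := 69383) (l := 2) rfl N69383 D208037
theorem N104842 : nd 104842 = n208038 := ndS (p := 69383) (l := 5) rfl N69383 D208038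
theorem N104843 : nd 104843 = n208039 := ndS (p := 69384) (l := 4) rfl N69384 D208039
theorem N104844 : nd 104844 = n208040 := ndS (p := 69386) (l := 5) rfl N69386 D208040
theorem N104845 : nd 104845 = n208041 := ndS (p := 69387) (l := 0) rfl N69387 D208041
theorem N104846 : nd 104846 = n208042 := ndS (p := 69387) (l := 1) rfl N69387 D208042
theorem N104847 : nd 104847 = n208043 := ndS (p := 69387) (l := 7) rfl N69387 D208043
theorem N104848 : nd 104848 = n208044 := ndS (p := 69389) (l := 0) rfl N69389 D208044
theorem N104849 : nd 104849 = n208045 := ndS (p := 69389) (l := 1) rfl N69389 D208045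
theorem N104850 : nd 104850 = n208046 := ndS (p := 69391) (l := 6) rfl N69391 D208046
theorem N104851 : nd 104851 = n208047 := ndS (p := 69396) (l := 0) rfl N69396 D208047
theorem N104852 : nd 104852 = n208048 := ndS (p := 69399) (l := 4) rfl N69399 D208048
theorem N104853 : nd 104853 = n208049 := ndS (p := 69400) (l := 4) rfl N69400 D208049
theorem N104854 : nd 104854 = n208050 := ndS (p := 69403) (l := 0) rfl N69403 D208050
theorem N104855 : nd 104855 = n208051 := ndS (p := 69403) (l := 3) rfl N69403 D208051
theorem N104856 : nd 104856 = n208052 := ndS (p := 69405) (l := 3) rfl N69405 D208052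
theorem N104857 : nd 104857 = n208053 := ndS (p := 69408) (l := 4) rfl N69408 D208053
theorem N104858 : nd 104858 = n208054 := ndS (p := 69408) (l := 6) rfl N69408 D208054
theorem N104859 : nd 104859 = n208055 := ndS (p := 69409) (l := 5) rfl N69409 D208055
theorem N104860 : nd 104860 = n208056 := ndS (p := 69410) (l := 6) rfl N69410 D208056
theorem N104861 : nd 104861 = n208057 := ndS (p := 69413) (l := 6) rfl N69413 D208057
theorem N104862 : nd 104862 = n208058 := ndS (p := 69427) (l := 3) rfl N69427 D208058
theorem N104863 : nd 104863 = n208059 := ndS (p := 69428) (l := 0) rfl N69428 D208059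
theorem N104864 : nd 104864 = n208060 := ndS (p := 69431) (l := 4) rfl N69431 D208060
theorem N104865 : nd 104865 = n208061 := ndS (p := 69432) (l := 4) rfl N69432 D208061
theorem N104866 : nd 104866 = n208062 := ndS (p := 69438) (l := 3) rfl N69438 D208062
theorem N104867 : nd 104867 = n208063 := ndS (p := 69440) (l := 3) rfl N69440 D208063
theorem N104868 : nd 104868 = n208064 := ndS (p := 69441) (l := 3) rfl N69441 D208064
theorem N104869 : nd 104869 = n208065 := ndS (p := 69441) (l := 4) rfl N69441 D208065
theorem N104870 : nd 104870 = n208066 := ndS (p := 69441) (l := 6) rfl N69441 D208066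
theorem N104871 : nd 104871 = n208067 := ndS (p := 69444) (l := 7) rfl N69444 D208067
theorem N104872 : nd 104872 = n208068 := ndS (p := 69445) (l := 0) rfl N69445 D208068
theorem N104873 : nd 104873 = n208069 := ndS (p := 69445) (l := 4) rfl N69445 D208069
theorem N104874 : nd 104874 = n208070 := ndS (p := 69445) (l := 5) rfl N69445 D208070
theorem N104875 : nd 104875 = n208071 := ndS (p := 69445) (l := 6) rfl N69445 D208071
theorem N104876 : nd 104876 = n208072 := ndS (p := 69446) (l := 4) rfl N69446 D208072
theorem N104877 : nd 104877 = n208073 := ndS (p := 69446) (l := 6) rfl N69446 D208073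
theorem N104878 : nd 104878 = n208074 := ndS (p := 69447) (l := 7) rfl N69447 D208074
theorem N104879 : nd 104879 = n208075 := ndS (p := 69449) (l := 6) rfl N69449 D208075
theorem N104880 : nd 104880 = n208076 := ndS (p := 69450) (l := 3) rfl N69450 D208076
theorem N104881 : nd 104881 = n208077 := ndS (p := 69450) (l := 4) rfl N69450 D208077
theorem N104882 : nd 104882 = n208078 := ndS (p := 69451) (l := 0) rfl N69451 D208078
theorem N104883 : nd 104883 = n208079 := ndS (p := 69452) (l := 5) rfl N69452 D208079
theorem N104884 : nd 104884 = n208080 := ndS (p := 69453) (l := 6) rfl N69453 D208080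
theorem N104885 : nd 104885 = n208081 := ndS (p := 69454) (l := 3) rfl N69454 D208081
theorem N104886 : nd 104886 = n208082 := ndS (p := 69456) (l := 3) rfl N69456 D208082
theorem N104887 : nd 104887 = n208083 := ndS (p := 69457) (l := 3) rfl N69457 D208083
theorem N104888 : nd 104888 = n208084 := ndS (p := 69457) (l := 5) rfl N69457 D208084
theorem N104889 : nd 104889 = n208085 := ndS (p := 69457) (l := 6) rfl N69457 D208085
theorem N104890 : nd 104890 = n208086 := ndS (p := 69458) (l := 0) rfl N69458 D208086
theorem N104891 : nd 104891 = n208087 := ndS (p := 69458) (l := 1) rfl N69458 D208087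
theorem N104892 : nd 104892 = n208088 := ndS (p := 69458) (l := 7) rfl N69458 D208088
theorem N104893 : nd 104893 = n208089 := ndS (p := 69460) (l := 0) rfl N69460 D208089
theorem N104894 : nd 104894 = n208090 := ndS (p := 69460) (l := 2) rfl N69460 D208090
theorem N104895 : nd 104895 = n208091 := ndS (p := 69460) (l := 5) rfl N69460 D208091
theorem N104896 : nd 104896 = n208092 := ndS (p := 69461) (l := 4) rfl N69461 D208092
theorem N104897 : nd 104897 = n208093 := ndS (p := 69462) (l := 3) rfl N69462 D208093
theorem N104898 : nd 104898 = n208094 := ndS (p := 69462) (l := 4) rfl N69462 D208094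
theorem N104899 : nd 104899 = n208095 := ndS (p := 69462) (l := 6) rfl N69462 D208095
theorem N104900 : nd 104900 = n208096 := ndS (p := 69463) (l := 3) rfl N69463 D208096
theorem N104901 : nd 104901 = n208097 := ndS (p := 69463) (l := 4) rfl N69463 D208097
theorem N104902 : nd 104902 = n208098 := ndS (p := 69464) (l := 0) rfl N69464 D208098
theorem N104903 : nd 104903 = n208099 := ndS (p := 69464) (l := 1) rfl N69464 D208099
theorem N104904 : nd 104904 = n208100 := ndS (p := 69464) (l := 7) rfl N69464 D208100
theorem N104905 : nd 104905 = n208101 := ndS (p := 69466) (l := 5) rfl N69466 D208101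
theorem N104906 : nd 104906 = n208102 := ndS (p := 69469) (l := 0) rfl N69469 D208102
theorem N104907 : nd 104907 = n208103 := ndS (p := 69469) (l := 1) rfl N69469 D208103
theorem N104908 : nd 104908 = n208104 := ndS (p := 69469) (l := 2) rfl N69469 D208104
theorem N104909 : nd 104909 = n208105 := ndS (p := 69469) (l := 5) rfl N69469 D208105
theorem N104910 : nd 104910 = n208106 := ndS (p := 69472) (l := 3) rfl N69472 D208106
theorem N104911 : nd 104911 = n208107 := ndS (p := 69472) (l := 6) rfl N69472 D208107
theorem N104912 : nd 104912 = n208108 := ndS (p := 69474) (l := 5) rfl N69474 D208108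
theorem N104913 : nd 104913 = n208109 := ndS (p := 69475) (l := 6) rfl N69475 D208109
theorem N104914 : nd 104914 = n208110 := ndS (p := 69477) (l := 6) rfl N69477 D208110
theorem N104915 : nd 104915 = n208111 := ndS (p := 69478) (l := 5) rfl N69478 D208111
theorem N104916 : nd 104916 = n208112 := ndS (p := 69479) (l := 0) rfl N69479 D208112
theorem N104917 : nd 104917 = n208113 := ndS (p := 69479) (l := 7) rfl N69479 D208113
theorem N104918 : nd 104918 = n208114 := ndS (p := 69482) (l := 6) rfl N69482 D208114
theorem N104919 : nd 104919 = n208115 := ndS (p := 69485) (l := 5) rfl N69485 D208115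
theorem N104920 : nd 104920 = n208116 := ndS (p := 69486) (l := 5) rfl N69486 D208116
theorem N104921 : nd 104921 = n208117 := ndS (p := 69487) (l := 4) rfl N69487 D208117
theorem N104922 : nd 104922 = n208118 := ndS (p := 69487) (l := 6) rfl N69487 D208118
theorem N104923 : nd 104923 = n208119 := ndS (p := 69489) (l := 5) rfl N69489 D208119
theorem N104924 : nd 104924 = n208120 := ndS (p := 69489) (l := 6) rfl N69489 D208120
theorem N104925 : nd 104925 = n208121 := ndS (p := 69491) (l := 5) rfl N69491 D208121
theorem N104926 : nd 104926 = n208122 := ndS (p := 69492) (l := 5) rfl N69492 D208122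
theorem N104927 : nd 104927 = n208123 := ndS (p := 69492) (l := 6) rfl N69492 D208123
theorem N104928 : nd 104928 = n208124 := ndS (p := 69495) (l := 3) rfl N69495 D208124
theorem N104929 : nd 104929 = n208125 := ndS (p := 69496) (l := 0) rfl N69496 D208125
theorem N104930 : nd 104930 = n208126 := ndS (p := 69497) (l := 3) rfl N69497 D208126
theorem N104931 : nd 104931 = n208127 := ndS (p := 69497) (l := 6) rfl N69497 D208127
theorem N104932 : nd 104932 = n208128 := ndS (p := 69498) (l := 3) rfl N69498 D208128
theorem N104933 : nd 104933 = n208129 := ndS (p := 69498) (l := 5) rfl N69498 D208129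
theorem N104934 : nd 104934 = n208130 := ndS (p := 69501) (l := 6) rfl N69501 D208130
theorem N104935 : nd 104935 = n208131 := ndS (p := 69502) (l := 6) rfl N69502 D208131
theorem N104936 : nd 104936 = n208132 := ndS (p := 69503) (l := 7) rfl N69503 D208132
theorem N104937 : nd 104937 = n208133 := ndS (p := 69504) (l := 1) rfl N69504 D208133
theorem N104938 : nd 104938 = n208134 := ndS (p := 69504) (l := 4) rfl N69504 D208134
theorem N104939 : nd 104939 = n208135 := ndS (p := 69505) (l := 5) rfl N69505 D208135
theorem N104940 : nd 104940 = n208136 := ndS (p := 69507) (l := 5) rfl N69507 D208136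
theorem N104941 : nd 104941 = n208137 := ndS (p := 69507) (l := 7) rfl N69507 D208137
theorem N104942 : nd 104942 = n208138 := ndS (p := 69508) (l := 6) rfl N69508 D208138
theorem N104943 : nd 104943 = n208139 := ndS (p := 69511) (l := 1) rfl N69511 D208139
theorem N104944 : nd 104944 = n208140 := ndS (p := 69513) (l := 6) rfl N69513 D208140
theorem N104945 : nd 104945 = n208141 := ndS (p := 69514) (l := 6) rfl N69514 D208141
theorem N104946 : nd 104946 = n208142 := ndS (p := 69516) (l := 0) rfl N69516 D208142
theorem N104947 : nd 104947 = n208143 := ndS (p := 69516) (l := 5) rfl N69516 D208143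
theorem N104948 : nd 104948 = n208144 := ndS (p := 69516) (l := 7) rfl N69516 D208144
theorem N104949 : nd 104949 = n208145 := ndS (p := 69517) (l := 3) rfl N69517 D208145
theorem N104950 : nd 104950 = n208146 := ndS (p := 69522) (l := 4) rfl N69522 D208146
theorem N104951 : nd 104951 = n208147 := ndS (p := 69523) (l := 6) rfl N69523 D208147
theorem N104952 : nd 104952 = n208148 := ndS (p := 69524) (l := 6) rfl N69524 D208148
theorem N104953 : nd 104953 = n208149 := ndS (p := 69525) (l := 1) rfl N69525 D208149
theorem N104954 : nd 104954 = n208150 := ndS (p := 69526) (l := 5) rfl N69526 D208150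
theorem N104955 : nd 104955 = n208151 := ndS (p := 69528) (l := 0) rfl N69528 D208151
theorem N104956 : nd 104956 = n208152 := ndS (p := 69528) (l := 7) rfl N69528 D208152
theorem N104957 : nd 104957 = n208153 := ndS (p := 69529) (l := 4) rfl N69529 D208153
theorem N104958 : nd 104958 = n208154 := ndS (p := 69531) (l := 5) rfl N69531 D208154
theorem N104959 : nd 104959 = n208155 := ndS (p := 69532) (l := 6) rfl N69532 D208155
theorem N104960 : nd 104960 = n208156 := ndS (p := 69533) (l := 5) rfl N69533 D208156
theorem N104961 : nd 104961 = n208157 := ndS (p := 69534) (l := 7) rfl N69534 D208157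
theorem N104962 : nd 104962 = n208158 := ndS (p := 69537) (l := 0) rfl N69537 D208158
theorem N104963 : nd 104963 = n208159 := ndS (p := 69537) (l := 1) rfl N69537 D208159
theorem N104964 : nd 104964 = n208160 := ndS (p := 69537) (l := 2) rfl N69537 D208160
theorem N104965 : nd 104965 = n208161 := ndS (p := 69538) (l := 3) rfl N69538 D208161
theorem N104966 : nd 104966 = n208162 := ndS (p := 69543) (l := 3) rfl N69543 D208162
theorem N104967 : nd 104967 = n208163 := ndS (p := 69548) (l := 3) rfl N69548 D208163
theorem N104968 : nd 104968 = n208164 := ndS (p := 69550) (l := 6) rfl N69550 D208164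
theorem N104969 : nd 104969 = n208165 := ndS (p := 69551) (l := 5) rfl N69551 D208165
theorem N104970 : nd 104970 = n208166 := ndS (p := 69559) (l := 4) rfl N69559 D208166
theorem N104971 : nd 104971 = n208167 := ndS (p := 69562) (l := 3) rfl N69562 D208167
theorem N104972 : nd 104972 = n208168 := ndS (p := 69569) (l := 3) rfl N69569 D208168
theorem N104973 : nd 104973 = n208169 := ndS (p := 69569) (l := 6) rfl N69569 D208169
theorem N104974 : nd 104974 = n208170 := ndS (p := 69570) (l := 0) rfl N69570 D208170
theorem N104975 : nd 104975 = n208171 := ndS (p := 69570) (l := 1) rfl N69570 D208171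
theorem N104976 : nd 104976 = n208172 := ndS (p := 69570) (l := 7) rfl N69570 D208172
theorem N104977 : nd 104977 = n208173 := ndS (p := 69571) (l := 3) rfl N69571 D208173
theorem N104978 : nd 104978 = n208174 := ndS (p := 69571) (l := 5) rfl N69571 D208174
theorem N104979 : nd 104979 = n208175 := ndS (p := 69583) (l := 3) rfl N69583 D208175
theorem N104980 : nd 104980 = n208176 := ndS (p := 69585) (l := 5) rfl N69585 D208176
theorem N104981 : nd 104981 = n208177 := ndS (p := 69589) (l := 3) rfl N69589 D208177
theorem N104982 : nd 104982 = n208178 := ndS (p := 69590) (l := 7) rfl N69590 D208178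
theorem N104983 : nd 104983 = n208179 := ndS (p := 69594) (l := 6) rfl N69594 D208179
theorem N104984 : nd 104984 = n208180 := ndS (p := 69595) (l := 0) rfl N69595 D208180
theorem N104985 : nd 104985 = n208181 := ndS (p := 69595) (l := 1) rfl N69595 D208181
theorem N104986 : nd 104986 = n208182 := ndS (p := 69595) (l := 5) rfl N69595 D208182
theorem N104987 : nd 104987 = n208183 := ndS (p := 69596) (l := 3) rfl N69596 D208183
theorem N104988 : nd 104988 = n208184 := ndS (p := 69596) (l := 5) rfl N69596 D208184
theorem N104989 : nd 104989 = n208185 := ndS (p := 69596) (l := 6) rfl N69596 D208185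
theorem N104990 : nd 104990 = n208186 := ndS (p := 69597) (l := 5) rfl N69597 D208186
theorem N104991 : nd 104991 = n208187 := ndS (p := 69598) (l := 0) rfl N69598 D208187
theorem N104992 : nd 104992 = n208188 := ndS (p := 69598) (l := 1) rfl N69598 D208188
theorem N104993 : nd 104993 = n208189 := ndS (p := 69598) (l := 4) rfl N69598 D208189
theorem N104994 : nd 104994 = n208190 := ndS (p := 69598) (l := 7) rfl N69598 D208190
theorem N104995 : nd 104995 = n208191 := ndS (p := 69600) (l := 5) rfl N69600 D208191
theorem N104996 : nd 104996 = n208192 := ndS (p := 69600) (l := 6) rfl N69600 D208192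
theorem N104997 : nd 104997 = n208193 := ndS (p := 69601) (l := 5) rfl N69601 D208193
theorem N104998 : nd 104998 = n208194 := ndS (p := 69601) (l := 6) rfl N69601 D208194
theorem N104999 : nd 104999 = n208195 := ndS (p := 69604) (l := 4) rfl N69604 D208195
theorem N105000 : nd 105000 = n208196 := ndS (p := 69605) (l := 3) rfl N69605 D208196
theorem N105001 : nd 105001 = n208197 := ndS (p := 69605) (l := 5) rfl N69605 D208197
theorem N105002 : nd 105002 = n208198 := ndS (p := 69606) (l := 6) rfl N69606 D208198
theorem N105003 : nd 105003 = n208199 := ndS (p := 69607) (l := 6) rfl N69607 D208199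
theorem N105004 : nd 105004 = n208200 := ndS (p := 69611) (l := 2) rfl N69611 D208200
theorem N105005 : nd 105005 = n208201 := ndS (p := 69612) (l := 5) rfl N69612 D208201
theorem N105006 : nd 105006 = n208202 := ndS (p := 69613) (l := 3) rfl N69613 D208202
theorem N105007 : nd 105007 = n208203 := ndS (p := 69613) (l := 6) rfl N69613 D208203
theorem N105008 : nd 105008 = n208204 := ndS (p := 69614) (l := 0) rfl N69614 D208204
theorem N105009 : nd 105009 = n208205 := ndS (p := 69614) (l := 1) rfl N69614 D208205
theorem N105010 : nd 105010 = n208206 := ndS (p := 69614) (l := 7) rfl N69614 D208206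
theorem N105011 : nd 105011 = n208207 := ndS (p := 69622) (l := 3) rfl N69622 D208207
theorem N105012 : nd 105012 = n208208 := ndS (p := 69622) (l := 6) rfl N69622 D208208
theorem N105013 : nd 105013 = n208209 := ndS (p := 69623) (l := 1) rfl N69623 D208209
theorem N105014 : nd 105014 = n208210 := ndS (p := 69623) (l := 7) rfl N69623 D208210
theorem N105015 : nd 105015 = n208211 := ndS (p := 69625) (l := 6) rfl N69625 D208211
theorem N105016 : nd 105016 = n208212 := ndS (p := 69626) (l := 0) rfl N69626 D208212
theorem N105017 : nd 105017 = n208213 := ndS (p := 69626) (l := 1) rfl N69626 D208213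
theorem N105018 : nd 105018 = n208214 := ndS (p := 69634) (l := 0) rfl N69634 D208214
theorem N105019 : nd 105019 = n208215 := ndS (p := 69634) (l := 1) rfl N69634 D208215
theorem N105020 : nd 105020 = n208216 := ndS (p := 69637) (l := 4) rfl N69637 D208216
theorem N105021 : nd 105021 = n208217 := ndS (p := 69644) (l := 1) rfl N69644 D208217
theorem N105022 : nd 105022 = n208218 := ndS (p := 69649) (l := 5) rfl N69649 D208218
theorem N105023 : nd 105023 = n208219 := ndS (p := 69651) (l := 3) rfl N69651 D208219
theorem N105024 : nd 105024 = n208220 := ndS (p := 69660) (l := 6) rfl N69660 D208220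
theorem N105025 : nd 105025 = n208221 := ndS (p := 69673) (l := 6) rfl N69673 D208221
theorem N105026 : nd 105026 = n208222 := ndS (p := 69681) (l := 3) rfl N69681 D208222
theorem N105027 : nd 105027 = n208223 := ndS (p := 69687) (l := 0) rfl N69687 D208223
theorem N105028 : nd 105028 = n208224 := ndS (p := 69688) (l := 0) rfl N69688 D208224
theorem N105029 : nd 105029 = n208225 := ndS (p := 69688) (l := 1) rfl N69688 D208225
theorem N105030 : nd 105030 = n208226 := ndS (p := 69689) (l := 5) rfl N69689 D208226
theorem N105031 : nd 105031 = n208227 := ndS (p := 69689) (l := 6) rfl N69689 D208227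
theorem N105032 : nd 105032 = n208228 := ndS (p := 69691) (l := 5) rfl N69691 D208228
theorem N105033 : nd 105033 = n208229 := ndS (p := 69692) (l := 5) rfl N69692 D208229
theorem N105034 : nd 105034 = n208230 := ndS (p := 69693) (l := 5) rfl N69693 D208230
theorem N105035 : nd 105035 = n208231 := ndS (p := 69693) (l := 6) rfl N69693 D208231
theorem N105036 : nd 105036 = n208232 := ndS (p := 69694) (l := 4) rfl N69694 D208232
theorem N105037 : nd 105037 = n208233 := ndS (p := 69694) (l := 6) rfl N69694 D208233
theorem N105038 : nd 105038 = n208234 := ndS (p := 69695) (l := 7) rfl N69695 D208234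
theorem N105039 : nd 105039 = n208235 := ndS (p := 69696) (l := 4) rfl N69696 D208235
theorem N105040 : nd 105040 = n208236 := ndS (p := 69699) (l := 1) rfl N69699 D208236
theorem N105041 : nd 105041 = n208237 := ndS (p := 69699) (l := 3) rfl N69699 D208237
theorem N105042 : nd 105042 = n208238 := ndS (p := 69699) (l := 5) rfl N69699 D208238
theorem N105043 : nd 105043 = n208239 := ndS (p := 69700) (l := 0) rfl N69700 D208239
theorem N105044 : nd 105044 = n208240 := ndS (p := 69700) (l := 1) rfl N69700 D208240
theorem N105045 : nd 105045 = n208241 := ndS (p := 69700) (l := 2) rfl N69700 D208241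
theorem N105046 : nd 105046 = n208242 := ndS (p := 69701) (l := 5) rfl N69701 D208242
theorem N105047 : nd 105047 = n208243 := ndS (p := 69701) (l := 6) rfl N69701 D208243
theorem N105048 : nd 105048 = n208244 := ndS (p := 69702) (l := 5) rfl N69702 D208244
theorem N105049 : nd 105049 = n208245 := ndS (p := 69702) (l := 6) rfl N69702 D208245
theorem N105050 : nd 105050 = n208246 := ndS (p := 69708) (l := 5) rfl N69708 D208246
theorem N105051 : nd 105051 = n208247 := ndS (p := 69709) (l := 0) rfl N69709 D208247
theorem N105052 : nd 105052 = n208248 := ndS (p := 69709) (l := 6) rfl N69709 D208248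
theorem N105053 : nd 105053 = n208249 := ndS (p := 69711) (l := 0) rfl N69711 D208249
theorem N105054 : nd 105054 = n208250 := ndS (p := 69711) (l := 5) rfl N69711 D208250
theorem N105055 : nd 105055 = n208251 := ndS (p := 69711) (l := 7) rfl N69711 D208251
theorem N105056 : nd 105056 = n208252 := ndS (p := 69712) (l := 6) rfl N69712 D208252
theorem N105057 : nd 105057 = n208253 := ndS (p := 69713) (l := 4) rfl N69713 D208253
theorem N105058 : nd 105058 = n208254 := ndS (p := 69713) (l := 6) rfl N69713 D208254
theorem N105059 : nd 105059 = n208255 := ndS (p := 69714) (l := 5) rfl N69714 D208255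
theorem N105060 : nd 105060 = n208256 := ndS (p := 69721) (l := 3) rfl N69721 D208256
theorem N105061 : nd 105061 = n208257 := ndS (p := 69722) (l := 3) rfl N69722 D208257
theorem N105062 : nd 105062 = n208258 := ndS (p := 69723) (l := 1) rfl N69723 D208258
theorem N105063 : nd 105063 = n208259 := ndS (p := 69723) (l := 6) rfl N69723 D208259
theorem N105064 : nd 105064 = n208260 := ndS (p := 69727) (l := 3) rfl N69727 D208260
theorem N105065 : nd 105065 = n208261 := ndS (p := 69730) (l := 0) rfl N69730 D208261
theorem N105066 : nd 105066 = n208262 := ndS (p := 69730) (l := 1) rfl N69730 D208262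
theorem N105067 : nd 105067 = n208263 := ndS (p := 69731) (l := 6) rfl N69731 D208263
theorem N105068 : nd 105068 = n208264 := ndS (p := 69736) (l := 6) rfl N69736 D208264
theorem N105069 : nd 105069 = n208265 := ndS (p := 69738) (l := 6) rfl N69738 D208265
theorem N105070 : nd 105070 = n208266 := ndS (p := 69740) (l := 0) rfl N69740 D208266
theorem N105071 : nd 105071 = n208267 := ndS (p := 69740) (l := 1) rfl N69740 D208267
theorem N105072 : nd 105072 = n208268 := ndS (p := 69740) (l := 5) rfl N69740 D208268
theorem N105073 : nd 105073 = n208269 := ndS (p := 69740) (l := 7) rfl N69740 D208269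
theorem N105074 : nd 105074 = n208270 := ndS (p := 69743) (l := 1) rfl N69743 D208270
theorem N105075 : nd 105075 = n208271 := ndS (p := 69743) (l := 4) rfl N69743 D208271
theorem N105076 : nd 105076 = n208272 := ndS (p := 69743) (l := 7) rfl N69743 D208272
theorem N105077 : nd 105077 = n208273 := ndS (p := 69748) (l := 5) rfl N69748 D208273
theorem N105078 : nd 105078 = n208274 := ndS (p := 69748) (l := 6) rfl N69748 D208274
theorem N105079 : nd 105079 = n208275 := ndS (p := 69749) (l := 1) rfl N69749 D208275
theorem N105080 : nd 105080 = n208276 := ndS (p := 69749) (l := 6) rfl N69749 D208276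
theorem N105081 : nd 105081 = n208277 := ndS (p := 69750) (l := 0) rfl N69750 D208277
theorem N105082 : nd 105082 = n208278 := ndS (p := 69750) (l := 7) rfl N69750 D208278
theorem N105083 : nd 105083 = n208279 := ndS (p := 69752) (l := 4) rfl N69752 D208279
theorem N105084 : nd 105084 = n208280 := ndS (p := 69754) (l := 6) rfl N69754 D208280
theorem N105085 : nd 105085 = n208281 := ndS (p := 69755) (l := 3) rfl N69755 D208281
theorem N105086 : nd 105086 = n208282 := ndS (p := 69755) (l := 6) rfl N69755 D208282
theorem N105087 : nd 105087 = n208283 := ndS (p := 69756) (l := 7) rfl N69756 D208283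
theorem N105088 : nd 105088 = n208284 := ndS (p := 69757) (l := 3) rfl N69757 D208284
theorem N105089 : nd 105089 = n208285 := ndS (p := 69757) (l := 7) rfl N69757 D208285
theorem N105090 : nd 105090 = n208286 := ndS (p := 69758) (l := 0) rfl N69758 D208286
theorem N105091 : nd 105091 = n208287 := ndS (p := 69760) (l := 2) rfl N69760 D208287
theorem N105092 : nd 105092 = n208288 := ndS (p := 69760) (l := 5) rfl N69760 D208288
theorem N105093 : nd 105093 = n208289 := ndS (p := 69760) (l := 6) rfl N69760 D208289
theorem N105094 : nd 105094 = n208290 := ndS (p := 69762) (l := 6) rfl N69762 D208290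
theorem N105095 : nd 105095 = n208291 := ndS (p := 69763) (l := 5) rfl N69763 D208291
theorem N105096 : nd 105096 = n208292 := ndS (p := 69764) (l := 4) rfl N69764 D208292
theorem N105097 : nd 105097 = n208293 := ndS (p := 69764) (l := 6) rfl N69764 D208293
theorem N105098 : nd 105098 = n208294 := ndS (p := 69767) (l := 0) rfl N69767 D208294
theorem N105099 : nd 105099 = n208295 := ndS (p := 69768) (l := 0) rfl N69768 D208295
theorem N105100 : nd 105100 = n208296 := ndS (p := 69768) (l := 5) rfl N69768 D208296
theorem N105101 : nd 105101 = n208297 := ndS (p := 69772) (l := 4) rfl N69772 D208297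
theorem N105102 : nd 105102 = n208298 := ndS (p := 69778) (l := 6) rfl N69778 D208298
theorem N105103 : nd 105103 = n208299 := ndS (p := 69780) (l := 4) rfl N69780 D208299
theorem N105104 : nd 105104 = n208300 := ndS (p := 69783) (l := 4) rfl N69783 D208300
theorem N105105 : nd 105105 = n208301 := ndS (p := 69784) (l := 3) rfl N69784 D208301
theorem N105106 : nd 105106 = n208302 := ndS (p := 69784) (l := 4) rfl N69784 D208302
theorem N105107 : nd 105107 = n208303 := ndS (p := 69784) (l := 6) rfl N69784 D208303
theorem N105108 : nd 105108 = n208304 := ndS (p := 69790) (l := 6) rfl N69790 D208304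
theorem N105109 : nd 105109 = n208305 := ndS (p := 69791) (l := 0) rfl N69791 D208305
theorem N105110 : nd 105110 = n208306 := ndS (p := 69791) (l := 1) rfl N69791 D208306
theorem N105111 : nd 105111 = n208307 := ndS (p := 69792) (l := 3) rfl N69792 D208307
theorem N105112 : nd 105112 = n208308 := ndS (p := 69793) (l := 2) rfl N69793 D208308
theorem N105113 : nd 105113 = n208309 := ndS (p := 69794) (l := 6) rfl N69794 D208309
theorem N105114 : nd 105114 = n208310 := ndS (p := 69795) (l := 5) rfl N69795 D208310
theorem N105115 : nd 105115 = n208311 := ndS (p := 69797) (l := 3) rfl N69797 D208311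
theorem N105116 : nd 105116 = n208312 := ndS (p := 69797) (l := 6) rfl N69797 D208312
theorem N105117 : nd 105117 = n208313 := ndS (p := 69800) (l := 2) rfl N69800 D208313
theorem N105118 : nd 105118 = n208314 := ndS (p := 69801) (l := 6) rfl N69801 D208314
theorem N105119 : nd 105119 = n208315 := ndS (p := 69803) (l := 2) rfl N69803 D208315
theorem N105120 : nd 105120 = n208316 := ndS (p := 69804) (l := 4) rfl N69804 D208316
theorem N105121 : nd 105121 = n208317 := ndS (p := 69804) (l := 6) rfl N69804 D208317
theorem N105122 : nd 105122 = n208318 := ndS (p := 69805) (l := 3) rfl N69805 D208318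
theorem N105123 : nd 105123 = n208319 := ndS (p := 69806) (l := 5) rfl N69806 D208319
theorem N105124 : nd 105124 = n208320 := ndS (p := 69806) (l := 6) rfl N69806 D208320
theorem N105125 : nd 105125 = n208321 := ndS (p := 69807) (l := 0) rfl N69807 D208321
theorem N105126 : nd 105126 = n208322 := ndS (p := 69807) (l := 1) rfl N69807 D208322
theorem N105127 : nd 105127 = n208323 := ndS (p := 69807) (l := 4) rfl N69807 D208323
theorem N105128 : nd 105128 = n208324 := ndS (p := 69807) (l := 6) rfl N69807 D208324
theorem N105129 : nd 105129 = n208325 := ndS (p := 69808) (l := 0) rfl N69808 D208325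
theorem N105130 : nd 105130 = n208326 := ndS (p := 69808) (l := 1) rfl N69808 D208326
theorem N105131 : nd 105131 = n208327 := ndS (p := 69810) (l := 4) rfl N69810 D208327
theorem N105132 : nd 105132 = n208328 := ndS (p := 69813) (l := 3) rfl N69813 D208328
theorem N105133 : nd 105133 = n208329 := ndS (p := 69813) (l := 6) rfl N69813 D208329
theorem N105134 : nd 105134 = n208330 := ndS (p := 69814) (l := 6) rfl N69814 D208330
theorem N105135 : nd 105135 = n208331 := ndS (p := 69815) (l := 0) rfl N69815 D208331
theorem N105136 : nd 105136 = n208332 := ndS (p := 69815) (l := 1) rfl N69815 D208332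
theorem N105137 : nd 105137 = n208333 := ndS (p := 69815) (l := 5) rfl N69815 D208333
theorem N105138 : nd 105138 = n208334 := ndS (p := 69816) (l := 0) rfl N69816 D208334
theorem N105139 : nd 105139 = n208335 := ndS (p := 69816) (l := 1) rfl N69816 D208335
theorem N105140 : nd 105140 = n208336 := ndS (p := 69816) (l := 4) rfl N69816 D208336
theorem N105141 : nd 105141 = n208337 := ndS (p := 69820) (l := 1) rfl N69820 D208337
theorem N105142 : nd 105142 = n208338 := ndS (p := 69820) (l := 5) rfl N69820 D208338
theorem N105143 : nd 105143 = n208339 := ndS (p := 69821) (l := 5) rfl N69821 D208339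
theorem N105144 : nd 105144 = n208340 := ndS (p := 69825) (l := 6) rfl N69825 D208340
theorem N105145 : nd 105145 = n208341 := ndS (p := 69830) (l := 4) rfl N69830 D208341
theorem N105146 : nd 105146 = n208342 := ndS (p := 69830) (l := 6) rfl N69830 D208342
theorem N105147 : nd 105147 = n208343 := ndS (p := 69834) (l := 6) rfl N69834 D208343
theorem N105148 : nd 105148 = n208344 := ndS (p := 69836) (l := 6) rfl N69836 D208344
theorem N105149 : nd 105149 = n208345 := ndS (p := 69840) (l := 3) rfl N69840 D208345
theorem N105150 : nd 105150 = n208346 := ndS (p := 69841) (l := 1) rfl N69841 D208346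
theorem N105151 : nd 105151 = n208347 := ndS (p := 69841) (l := 2) rfl N69841 D208347
theorem N105152 : nd 105152 = n208348 := ndS (p := 69841) (l := 5) rfl N69841 D208348
theorem N105153 : nd 105153 = n208349 := ndS (p := 69841) (l := 7) rfl N69841 D208349
theorem N105154 : nd 105154 = n208350 := ndS (p := 69842) (l := 0) rfl N69842 D208350
theorem N105155 : nd 105155 = n208351 := ndS (p := 69842) (l := 6) rfl N69842 D208351
theorem N105156 : nd 105156 = n208352 := ndS (p := 69845) (l := 6) rfl N69845 D208352
theorem N105157 : nd 105157 = n208353 := ndS (p := 69846) (l := 5) rfl N69846 D208353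
theorem N105158 : nd 105158 = n208354 := ndS (p := 69847) (l := 4) rfl N69847 D208354
theorem N105159 : nd 105159 = n208355 := ndS (p := 69847) (l := 6) rfl N69847 D208355
theorem N105160 : nd 105160 = n208356 := ndS (p := 69849) (l := 6) rfl N69849 D208356
theorem N105161 : nd 105161 = n208357 := ndS (p := 69850) (l := 6) rfl N69850 D208357
theorem N105162 : nd 105162 = n208358 := ndS (p := 69851) (l := 0) rfl N69851 D208358
theorem N105163 : nd 105163 = n208359 := ndS (p := 69851) (l := 1) rfl N69851 D208359
theorem N105164 : nd 105164 = n208360 := ndS (p := 69851) (l := 5) rfl N69851 D208360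
theorem N105165 : nd 105165 = n208361 := ndS (p := 69852) (l := 0) rfl N69852 D208361
theorem N105166 : nd 105166 = n208362 := ndS (p := 69852) (l := 4) rfl N69852 D208362
theorem N105167 : nd 105167 = n208363 := ndS (p := 69853) (l := 6) rfl N69853 D208363
theorem N105168 : nd 105168 = n208364 := ndS (p := 69854) (l := 5) rfl N69854 D208364
theorem N105169 : nd 105169 = n208365 := ndS (p := 69856) (l := 2) rfl N69856 D208365
theorem N105170 : nd 105170 = n208366 := ndS (p := 69856) (l := 4) rfl N69856 D208366
theorem N105171 : nd 105171 = n208367 := ndS (p := 69857) (l := 5) rfl N69857 D208367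
theorem N105172 : nd 105172 = n208368 := ndS (p := 69858) (l := 5) rfl N69858 D208368
theorem N105173 : nd 105173 = n208369 := ndS (p := 69859) (l := 6) rfl N69859 D208369
theorem N105174 : nd 105174 = n208370 := ndS (p := 69860) (l := 0) rfl N69860 D208370
theorem N105175 : nd 105175 = n208371 := ndS (p := 69860) (l := 1) rfl N69860 D208371
theorem N105176 : nd 105176 = n208372 := ndS (p := 69860) (l := 7) rfl N69860 D208372
theorem N105177 : nd 105177 = n208373 := ndS (p := 69861) (l := 5) rfl N69861 D208373
theorem N105178 : nd 105178 = n208374 := ndS (p := 69862) (l := 0) rfl N69862 D208374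
theorem N105179 : nd 105179 = n208375 := ndS (p := 69862) (l := 1) rfl N69862 D208375
theorem N105180 : nd 105180 = n208376 := ndS (p := 69862) (l := 4) rfl N69862 D208376
theorem N105181 : nd 105181 = n208377 := ndS (p := 69862) (l := 7) rfl N69862 D208377
theorem N105182 : nd 105182 = n208378 := ndS (p := 69865) (l := 5) rfl N69865 D208378
theorem N105183 : nd 105183 = n208379 := ndS (p := 69866) (l := 5) rfl N69866 D208379
theorem N105184 : nd 105184 = n208380 := ndS (p := 69868) (l := 0) rfl N69868 D208380
theorem N105185 : nd 105185 = n208381 := ndS (p := 69868) (l := 5) rfl N69868 D208381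
theorem N105186 : nd 105186 = n208382 := ndS (p := 69869) (l := 4) rfl N69869 D208382
theorem N105187 : nd 105187 = n208383 := ndS (p := 69870) (l := 4) rfl N69870 D208383
theorem N105188 : nd 105188 = n208384 := ndS (p := 69872) (l := 3) rfl N69872 D208384
theorem N105189 : nd 105189 = n208385 := ndS (p := 69872) (l := 4) rfl N69872 D208385
theorem N105190 : nd 105190 = n208386 := ndS (p := 69872) (l := 6) rfl N69872 D208386
theorem N105191 : nd 105191 = n208387 := ndS (p := 69873) (l := 4) rfl N69873 D208387
theorem N105192 : nd 105192 = n208388 := ndS (p := 69873) (l := 6) rfl N69873 D208388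
theorem N105193 : nd 105193 = n208389 := ndS (p := 69874) (l := 0) rfl N69874 D208389
theorem N105194 : nd 105194 = n208390 := ndS (p := 69874) (l := 1) rfl N69874 D208390
theorem N105195 : nd 105195 = n208391 := ndS (p := 69874) (l := 3) rfl N69874 D208391
theorem N105196 : nd 105196 = n208392 := ndS (p := 69874) (l := 5) rfl N69874 D208392
theorem N105197 : nd 105197 = n208393 := ndS (p := 69874) (l := 7) rfl N69874 D208393
theorem N105198 : nd 105198 = n208394 := ndS (p := 69876) (l := 5) rfl N69876 D208394
theorem N105199 : nd 105199 = n208395 := ndS (p := 69877) (l := 4) rfl N69877 D208395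
theorem N105200 : nd 105200 = n208396 := ndS (p := 69878) (l := 4) rfl N69878 D208396
theorem N105201 : nd 105201 = n208397 := ndS (p := 69881) (l := 5) rfl N69881 D208397
theorem N105202 : nd 105202 = n208398 := ndS (p := 69881) (l := 6) rfl N69881 D208398
theorem N105203 : nd 105203 = n208399 := ndS (p := 69882) (l := 1) rfl N69882 D208399
theorem N105204 : nd 105204 = n208400 := ndS (p := 69882) (l := 4) rfl N69882 D208400
theorem N105205 : nd 105205 = n208401 := ndS (p := 69882) (l := 6) rfl N69882 D208401
theorem N105206 : nd 105206 = n208402 := ndS (p := 69883) (l := 1) rfl N69883 D208402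
theorem N105207 : nd 105207 = n208403 := ndS (p := 69884) (l := 1) rfl N69884 D208403
theorem N105208 : nd 105208 = n208404 := ndS (p := 69884) (l := 7) rfl N69884 D208404
theorem N105209 : nd 105209 = n208405 := ndS (p := 69887) (l := 1) rfl N69887 D208405
theorem N105210 : nd 105210 = n208406 := ndS (p := 69888) (l := 5) rfl N69888 D208406
theorem N105211 : nd 105211 = n208407 := ndS (p := 69890) (l := 1) rfl N69890 D208407
theorem N105212 : nd 105212 = n208408 := ndS (p := 69890) (l := 5) rfl N69890 D208408
theorem N105213 : nd 105213 = n208409 := ndS (p := 69891) (l := 6) rfl N69891 D208409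
theorem N105214 : nd 105214 = n208410 := ndS (p := 69892) (l := 1) rfl N69892 D208410
theorem N105215 : nd 105215 = n208411 := ndS (p := 69892) (l := 7) rfl N69892 D208411
theorem N105216 : nd 105216 = n208412 := ndS (p := 69896) (l := 0) rfl N69896 D208412
theorem N105217 : nd 105217 = n208413 := ndS (p := 69896) (l := 1) rfl N69896 D208413
theorem N105218 : nd 105218 = n208414 := ndS (p := 69896) (l := 7) rfl N69896 D208414
theorem N105219 : nd 105219 = n208415 := ndS (p := 69897) (l := 3) rfl N69897 D208415
theorem N105220 : nd 105220 = n208416 := ndS (p := 69897) (l := 4) rfl N69897 D208416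
theorem N105221 : nd 105221 = n208417 := ndS (p := 69897) (l := 5) rfl N69897 D208417
theorem N105222 : nd 105222 = n208418 := ndS (p := 69898) (l := 5) rfl N69898 D208418
theorem N105223 : nd 105223 = n208419 := ndS (p := 69899) (l := 0) rfl N69899 D208419
theorem N105224 : nd 105224 = n208420 := ndS (p := 69899) (l := 4) rfl N69899 D208420
theorem N105225 : nd 105225 = n208421 := ndS (p := 69899) (l := 7) rfl N69899 D208421
theorem N105226 : nd 105226 = n208422 := ndS (p := 69903) (l := 2) rfl N69903 D208422
theorem N105227 : nd 105227 = n208423 := ndS (p := 69903) (l := 5) rfl N69903 D208423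
theorem N105228 : nd 105228 = n208424 := ndS (p := 69906) (l := 1) rfl N69906 D208424
theorem N105229 : nd 105229 = n208425 := ndS (p := 69907) (l := 3) rfl N69907 D208425
theorem N105230 : nd 105230 = n208426 := ndS (p := 69907) (l := 4) rfl N69907 D208426
theorem N105231 : nd 105231 = n208427 := ndS (p := 69907) (l := 6) rfl N69907 D208427
theorem N105232 : nd 105232 = n208428 := ndS (p := 69909) (l := 3) rfl N69909 D208428
theorem N105233 : nd 105233 = n208429 := ndS (p := 69919) (l := 1) rfl N69919 D208429
theorem N105234 : nd 105234 = n208430 := ndS (p := 69919) (l := 5) rfl N69919 D208430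
theorem N105235 : nd 105235 = n208431 := ndS (p := 69922) (l := 4) rfl N69922 D208431
theorem N105236 : nd 105236 = n208432 := ndS (p := 69922) (l := 5) rfl N69922 D208432
theorem N105237 : nd 105237 = n208433 := ndS (p := 69924) (l := 0) rfl N69924 D208433
theorem N105238 : nd 105238 = n208434 := ndS (p := 69924) (l := 4) rfl N69924 D208434
theorem N105239 : nd 105239 = n208435 := ndS (p := 69924) (l := 7) rfl N69924 D208435
theorem N105240 : nd 105240 = n208436 := ndS (p := 69927) (l := 5) rfl N69927 D208436
theorem N105241 : nd 105241 = n208437 := ndS (p := 69928) (l := 3) rfl N69928 D208437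
theorem N105242 : nd 105242 = n208438 := ndS (p := 69928) (l := 5) rfl N69928 D208438
theorem N105243 : nd 105243 = n208439 := ndS (p := 69930) (l := 3) rfl N69930 D208439
theorem N105244 : nd 105244 = n208440 := ndS (p := 69930) (l := 6) rfl N69930 D208440
theorem N105245 : nd 105245 = n208441 := ndS (p := 69932) (l := 0) rfl N69932 D208441
theorem N105246 : nd 105246 = n208442 := ndS (p := 69932) (l := 1) rfl N69932 D208442
theorem N105247 : nd 105247 = n208443 := ndS (p := 69932) (l := 3) rfl N69932 D208443
theorem N105248 : nd 105248 = n208444 := ndS (p := 69932) (l := 5) rfl N69932 D208444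
theorem N105249 : nd 105249 = n208445 := ndS (p := 69932) (l := 7) rfl N69932 D208445
theorem N105250 : nd 105250 = n208446 := ndS (p := 69936) (l := 6) rfl N69936 D208446
theorem N105251 : nd 105251 = n208447 := ndS (p := 69938) (l := 1) rfl N69938 D208447
theorem N105252 : nd 105252 = n208448 := ndS (p := 69938) (l := 5) rfl N69938 D208448
theorem N105253 : nd 105253 = n208449 := ndS (p := 69943) (l := 1) rfl N69943 D208449
theorem N105254 : nd 105254 = n208450 := ndS (p := 69943) (l := 5) rfl N69943 D208450
theorem N105255 : nd 105255 = n208451 := ndS (p := 69943) (l := 6) rfl N69943 D208451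
theorem N105256 : nd 105256 = n208452 := ndS (p := 69945) (l := 3) rfl N69945 D208452
theorem N105257 : nd 105257 = n208453 := ndS (p := 69945) (l := 5) rfl N69945 D208453
theorem N105258 : nd 105258 = n208454 := ndS (p := 69948) (l := 3) rfl N69948 D208454
theorem N105259 : nd 105259 = n208455 := ndS (p := 69949) (l := 5) rfl N69949 D208455
theorem N105260 : nd 105260 = n208456 := ndS (p := 69951) (l := 3) rfl N69951 D208456
theorem N105261 : nd 105261 = n208457 := ndS (p := 69952) (l := 0) rfl N69952 D208457
theorem N105262 : nd 105262 = n208459 := ndS (p := 69952) (l := 5) rfl N69952 D208459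
theorem N105263 : nd 105263 = n208460 := ndS (p := 69952) (l := 7) rfl N69952 D208460
theorem N105264 : nd 105264 = n208461 := ndS (p := 69954) (l := 5) rfl N69954 D208461
theorem N105265 : nd 105265 = n208462 := ndS (p := 69955) (l := 6) rfl N69955 D208462
theorem N105266 : nd 105266 = n208463 := ndS (p := 69956) (l := 1) rfl N69956 D208463
theorem N105267 : nd 105267 = n208464 := ndS (p := 69956) (l := 5) rfl N69956 D208464
theorem N105268 : nd 105268 = n208465 := ndS (p := 69956) (l := 7) rfl N69956 D208465
theorem N105269 : nd 105269 = n208466 := ndS (p := 69959) (l := 5) rfl N69959 D208466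
theorem N105270 : nd 105270 = n208467 := ndS (p := 69961) (l := 5) rfl N69961 D208467
theorem N105271 : nd 105271 = n208468 := ndS (p := 69962) (l := 0) rfl N69962 D208468
theorem N105272 : nd 105272 = n208469 := ndS (p := 69962) (l := 7) rfl N69962 D208469
theorem N105273 : nd 105273 = n208470 := ndS (p := 69964) (l := 6) rfl N69964 D208470
theorem N105274 : nd 105274 = n208471 := ndS (p := 69967) (l := 1) rfl N69967 D208471
theorem N105275 : nd 105275 = n208472 := ndS (p := 69968) (l := 4) rfl N69968 D208472
theorem N105276 : nd 105276 = n208473 := ndS (p := 69969) (l := 0) rfl N69969 D208473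
theorem N105277 : nd 105277 = n208474 := ndS (p := 69969) (l := 6) rfl N69969 D208474
theorem N105278 : nd 105278 = n208475 := ndS (p := 69973) (l := 0) rfl N69973 D208475
theorem N105279 : nd 105279 = n208476 := ndS (p := 69975) (l := 1) rfl N69975 D208476
theorem N105280 : nd 105280 = n208477 := ndS (p := 69975) (l := 7) rfl N69975 D208477
theorem N105281 : nd 105281 = n208478 := ndS (p := 69977) (l := 5) rfl N69977 D208478
theorem N105282 : nd 105282 = n208479 := ndS (p := 69978) (l := 3) rfl N69978 D208479
theorem N105283 : nd 105283 = n208480 := ndS (p := 69978) (l := 5) rfl N69978 D208480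
theorem N105284 : nd 105284 = n208481 := ndS (p := 69980) (l := 3) rfl N69980 D208481
theorem N105285 : nd 105285 = n208482 := ndS (p := 69980) (l := 5) rfl N69980 D208482
theorem N105286 : nd 105286 = n208483 := ndS (p := 69981) (l := 0) rfl N69981 D208483
theorem N105287 : nd 105287 = n208484 := ndS (p := 69981) (l := 1) rfl N69981 D208484
theorem N105288 : nd 105288 = n208485 := ndS (p := 69981) (l := 4) rfl N69981 D208485
theorem N105289 : nd 105289 = n208486 := ndS (p := 69984) (l := 0) rfl N69984 D208486
theorem N105290 : nd 105290 = n208487 := ndS (p := 69984) (l := 1) rfl N69984 D208487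
theorem N105291 : nd 105291 = n208488 := ndS (p := 69984) (l := 5) rfl N69984 D208488
theorem N105292 : nd 105292 = n208489 := ndS (p := 69986) (l := 3) rfl N69986 D208489
theorem N105293 : nd 105293 = n208490 := ndS (p := 69987) (l := 6) rfl N69987 D208490
theorem N105294 : nd 105294 = n208491 := ndS (p := 69988) (l := 5) rfl N69988 D208491
theorem N105295 : nd 105295 = n208492 := ndS (p := 69994) (l := 4) rfl N69994 D208492
theorem N105296 : nd 105296 = n208493 := ndS (p := 69994) (l := 6) rfl N69994 D208493
theorem N105297 : nd 105297 = n208494 := ndS (p := 69995) (l := 4) rfl N69995 D208494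
theorem N105298 : nd 105298 = n208495 := ndS (p := 69996) (l := 5) rfl N69996 D208495
theorem N105299 : nd 105299 = n208496 := ndS (p := 69997) (l := 4) rfl N69997 D208496
theorem N105300 : nd 105300 = n208497 := ndS (p := 70000) (l := 4) rfl N70000 D208497
theorem N105301 : nd 105301 = n208498 := ndS (p := 70000) (l := 6) rfl N70000 D208498
theorem N105302 : nd 105302 = n208499 := ndS (p := 70001) (l := 4) rfl N70001 D208499
theorem N105303 : nd 105303 = n208500 := ndS (p := 70002) (l := 3) rfl N70002 D208500
theorem N105304 : nd 105304 = n208501 := ndS (p := 70002) (l := 4) rfl N70002 D208501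
theorem N105305 : nd 105305 = n208502 := ndS (p := 70003) (l := 0) rfl N70003 D208502
theorem N105306 : nd 105306 = n208503 := ndS (p := 70003) (l := 1) rfl N70003 D208503
theorem N105307 : nd 105307 = n208504 := ndS (p := 70003) (l := 3) rfl N70003 D208504
theorem N105308 : nd 105308 = n208505 := ndS (p := 70003) (l := 5) rfl N70003 D208505
theorem N105309 : nd 105309 = n208506 := ndS (p := 70005) (l := 1) rfl N70005 D208506
theorem N105310 : nd 105310 = n208507 := ndS (p := 70005) (l := 4) rfl N70005 D208507
theorem N105311 : nd 105311 = n208508 := ndS (p := 70007) (l := 5) rfl N70007 D208508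
theorem N105312 : nd 105312 = n208509 := ndS (p := 70009) (l := 5) rfl N70009 D208509
theorem N105313 : nd 105313 = n208510 := ndS (p := 70010) (l := 4) rfl N70010 D208510
theorem N105314 : nd 105314 = n208511 := ndS (p := 70010) (l := 6) rfl N70010 D208511
theorem N105315 : nd 105315 = n208512 := ndS (p := 70011) (l := 3) rfl N70011 D208512
theorem N105316 : nd 105316 = n208513 := ndS (p := 70011) (l := 5) rfl N70011 D208513
theorem N105317 : nd 105317 = n208514 := ndS (p := 70012) (l := 4) rfl N70012 D208514
theorem N105318 : nd 105318 = n208515 := ndS (p := 70013) (l := 6) rfl N70013 D208515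
theorem N105319 : nd 105319 = n208516 := ndS (p := 70014) (l := 0) rfl N70014 D208516
theorem N105320 : nd 105320 = n208517 := ndS (p := 70017) (l := 4) rfl N70017 D208517
theorem N105321 : nd 105321 = n208518 := ndS (p := 70019) (l := 4) rfl N70019 D208518
theorem N105322 : nd 105322 = n208519 := ndS (p := 70020) (l := 5) rfl N70020 D208519
theorem N105323 : nd 105323 = n208520 := ndS (p := 70022) (l := 3) rfl N70022 D208520
theorem N105324 : nd 105324 = n208521 := ndS (p := 70023) (l := 6) rfl N70023 D208521
theorem N105325 : nd 105325 = n208522 := ndS (p := 70024) (l := 6) rfl N70024 D208522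
theorem N105326 : nd 105326 = n208523 := ndS (p := 70026) (l := 3) rfl N70026 D208523
theorem N105327 : nd 105327 = n208524 := ndS (p := 70038) (l := 3) rfl N70038 D208524
theorem N105328 : nd 105328 = n208525 := ndS (p := 70039) (l := 3) rfl N70039 D208525
theorem N105329 : nd 105329 = n208526 := ndS (p := 70052) (l := 5) rfl N70052 D208526
theorem N105330 : nd 105330 = n208527 := ndS (p := 70060) (l := 6) rfl N70060 D208527
theorem N105331 : nd 105331 = n208528 := ndS (p := 70061) (l := 3) rfl N70061 D208528
theorem N105332 : nd 105332 = n208529 := ndS (p := 70061) (l := 5) rfl N70061 D208529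
theorem N105333 : nd 105333 = n208530 := ndS (p := 70062) (l := 5) rfl N70062 D208530
theorem N105334 : nd 105334 = n208531 := ndS (p := 70063) (l := 0) rfl N70063 D208531
theorem N105335 : nd 105335 = n208532 := ndS (p := 70063) (l := 4) rfl N70063 D208532
theorem N105336 : nd 105336 = n208533 := ndS (p := 70063) (l := 7) rfl N70063 D208533
theorem N105337 : nd 105337 = n208534 := ndS (p := 70073) (l := 4) rfl N70073 D208534
theorem N105338 : nd 105338 = n208535 := ndS (p := 70074) (l := 6) rfl N70074 D208535
theorem N105339 : nd 105339 = n208536 := ndS (p := 70076) (l := 6) rfl N70076 D208536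
theorem N105340 : nd 105340 = n208537 := ndS (p := 70077) (l := 5) rfl N70077 D208537
theorem N105341 : nd 105341 = n208538 := ndS (p := 70078) (l := 3) rfl N70078 D208538
theorem N105342 : nd 105342 = n208539 := ndS (p := 70079) (l := 4) rfl N70079 D208539
theorem N105343 : nd 105343 = n208540 := ndS (p := 70084) (l := 1) rfl N70084 D208540
theorem N105344 : nd 105344 = n208541 := ndS (p := 70084) (l := 5) rfl N70084 D208541
theorem N105345 : nd 105345 = n208542 := ndS (p := 70088) (l := 7) rfl N70088 D208542
theorem N105346 : nd 105346 = n208543 := ndS (p := 70099) (l := 6) rfl N70099 D208543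
theorem N105347 : nd 105347 = n208544 := ndS (p := 70102) (l := 5) rfl N70102 D208544
theorem N105348 : nd 105348 = n208545 := ndS (p := 70105) (l := 6) rfl N70105 D208545
theorem N105349 : nd 105349 = n208546 := ndS (p := 70107) (l := 5) rfl N70107 D208546
theorem N105350 : nd 105350 = n208547 := ndS (p := 70110) (l := 3) rfl N70110 D208547
theorem N105351 : nd 105351 = n208548 := ndS (p := 70110) (l := 5) rfl N70110 D208548
theorem N105352 : nd 105352 = n208549 := ndS (p := 70117) (l := 3) rfl N70117 D208549
theorem N105353 : nd 105353 = n208550 := ndS (p := 70117) (l := 4) rfl N70117 D208550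
theorem N105354 : nd 105354 = n208551 := ndS (p := 70117) (l := 6) rfl N70117 D208551
theorem N105355 : nd 105355 = n208552 := ndS (p := 70119) (l := 5) rfl N70119 D208552
theorem N105356 : nd 105356 = n208553 := ndS (p := 70121) (l := 1) rfl N70121 D208553
theorem N105357 : nd 105357 = n208554 := ndS (p := 70126) (l := 5) rfl N70126 D208554
theorem N105358 : nd 105358 = n208555 := ndS (p := 70127) (l := 6) rfl N70127 D208555
theorem N105359 : nd 105359 = n208556 := ndS (p := 70128) (l := 0) rfl N70128 D208556
theorem N105360 : nd 105360 = n208557 := ndS (p := 70128) (l := 5) rfl N70128 D208557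
theorem N105361 : nd 105361 = n208558 := ndS (p := 70129) (l := 0) rfl N70129 D208558
theorem N105362 : nd 105362 = n208559 := ndS (p := 70129) (l := 7) rfl N70129 D208559
theorem N105363 : nd 105363 = n208560 := ndS (p := 70130) (l := 4) rfl N70130 D208560
theorem N105364 : nd 105364 = n208561 := ndS (p := 70132) (l := 6) rfl N70132 D208561
theorem N105365 : nd 105365 = n208562 := ndS (p := 70133) (l := 5) rfl N70133 D208562
theorem N105366 : nd 105366 = n208563 := ndS (p := 70135) (l := 5) rfl N70135 D208563
theorem N105367 : nd 105367 = n208564 := ndS (p := 70136) (l := 4) rfl N70136 D208564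
theorem N105368 : nd 105368 = n208565 := ndS (p := 70137) (l := 4) rfl N70137 D208565
theorem N105369 : nd 105369 = n208566 := ndS (p := 70138) (l := 4) rfl N70138 D208566
theorem N105370 : nd 105370 = n208567 := ndS (p := 70138) (l := 6) rfl N70138 D208567
theorem N105371 : nd 105371 = n208568 := ndS (p := 70139) (l := 1) rfl N70139 D208568
theorem N105372 : nd 105372 = n208569 := ndS (p := 70141) (l := 6) rfl N70141 D208569
theorem N105373 : nd 105373 = n208570 := ndS (p := 70142) (l := 0) rfl N70142 D208570
theorem N105374 : nd 105374 = n208571 := ndS (p := 70142) (l := 5) rfl N70142 D208571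
theorem N105375 : nd 105375 = n208572 := ndS (p := 70142) (l := 7) rfl N70142 D208572
theorem N105376 : nd 105376 = n208573 := ndS (p := 70143) (l := 2) rfl N70143 D208573
theorem N105377 : nd 105377 = n208574 := ndS (p := 70143) (l := 4) rfl N70143 D208574
theorem N105378 : nd 105378 = n208575 := ndS (p := 70143) (l := 6) rfl N70143 D208575
theorem N105379 : nd 105379 = n208576 := ndS (p := 70144) (l := 0) rfl N70144 D208576
theorem N105380 : nd 105380 = n208577 := ndS (p := 70144) (l := 5) rfl N70144 D208577
theorem N105381 : nd 105381 = n208578 := ndS (p := 70144) (l := 7) rfl N70144 D208578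
theorem N105382 : nd 105382 = n208579 := ndS (p := 70146) (l := 4) rfl N70146 D208579
theorem N105383 : nd 105383 = n208580 := ndS (p := 70150) (l := 3) rfl N70150 D208580
theorem N105384 : nd 105384 = n208581 := ndS (p := 70150) (l := 6) rfl N70150 D208581
theorem N105385 : nd 105385 = n208582 := ndS (p := 70153) (l := 3) rfl N70153 D208582
theorem N105386 : nd 105386 = n208583 := ndS (p := 70153) (l := 6) rfl N70153 D208583
theorem N105387 : nd 105387 = n208584 := ndS (p := 70155) (l := 5) rfl N70155 D208584
theorem N105388 : nd 105388 = n208585 := ndS (p := 70156) (l := 0) rfl N70156 D208585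
theorem N105389 : nd 105389 = n208586 := ndS (p := 70156) (l := 1) rfl N70156 D208586
theorem N105390 : nd 105390 = n208587 := ndS (p := 70156) (l := 4) rfl N70156 D208587
theorem N105391 : nd 105391 = n208588 := ndS (p := 70157) (l := 4) rfl N70157 D208588
theorem N105392 : nd 105392 = n208589 := ndS (p := 70158) (l := 3) rfl N70158 D208589
theorem N105393 : nd 105393 = n208590 := ndS (p := 70158) (l := 6) rfl N70158 D208590
theorem N105394 : nd 105394 = n208591 := ndS (p := 70159) (l := 5) rfl N70159 D208591
theorem N105395 : nd 105395 = n208592 := ndS (p := 70160) (l := 4) rfl N70160 D208592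
theorem N105396 : nd 105396 = n208593 := ndS (p := 70163) (l := 3) rfl N70163 D208593
theorem N105397 : nd 105397 = n208594 := ndS (p := 70164) (l := 6) rfl N70164 D208594
theorem N105398 : nd 105398 = n208595 := ndS (p := 70166) (l := 5) rfl N70166 D208595
theorem N105399 : nd 105399 = n208596 := ndS (p := 70167) (l := 4) rfl N70167 D208596
theorem N105400 : nd 105400 = n208597 := ndS (p := 70169) (l := 5) rfl N70169 D208597
theorem N105401 : nd 105401 = n208598 := ndS (p := 70170) (l := 5) rfl N70170 D208598
theorem N105402 : nd 105402 = n208599 := ndS (p := 70172) (l := 0) rfl N70172 D208599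
theorem N105403 : nd 105403 = n208600 := ndS (p := 70172) (l := 1) rfl N70172 D208600
theorem N105404 : nd 105404 = n208601 := ndS (p := 70172) (l := 4) rfl N70172 D208601
theorem N105405 : nd 105405 = n208602 := ndS (p := 70174) (l := 5) rfl N70174 D208602
theorem N105406 : nd 105406 = n208603 := ndS (p := 70175) (l := 3) rfl N70175 D208603
theorem N105407 : nd 105407 = n208604 := ndS (p := 70176) (l := 6) rfl N70176 D208604
theorem N105408 : nd 105408 = n208605 := ndS (p := 70177) (l := 3) rfl N70177 D208605
theorem N105409 : nd 105409 = n208606 := ndS (p := 70177) (l := 6) rfl N70177 D208606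
theorem N105410 : nd 105410 = n208607 := ndS (p := 70177) (l := 7) rfl N70177 D208607
theorem N105411 : nd 105411 = n208608 := ndS (p := 70178) (l := 0) rfl N70178 D208608
theorem N105412 : nd 105412 = n208609 := ndS (p := 70178) (l := 7) rfl N70178 D208609
theorem N105413 : nd 105413 = n208610 := ndS (p := 70181) (l := 5) rfl N70181 D208610
theorem N105414 : nd 105414 = n208611 := ndS (p := 70182) (l := 6) rfl N70182 D208611
theorem N105415 : nd 105415 = n208612 := ndS (p := 70183) (l := 4) rfl N70183 D208612
theorem N105416 : nd 105416 = n208613 := ndS (p := 70185) (l := 0) rfl N70185 D208613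
theorem N105417 : nd 105417 = n208614 := ndS (p := 70185) (l := 1) rfl N70185 D208614
theorem N105418 : nd 105418 = n208615 := ndS (p := 70185) (l := 4) rfl N70185 D208615
theorem N105419 : nd 105419 = n208616 := ndS (p := 70186) (l := 6) rfl N70186 D208616
theorem N105420 : nd 105420 = n208617 := ndS (p := 70187) (l := 3) rfl N70187 D208617
theorem N105421 : nd 105421 = n208618 := ndS (p := 70187) (l := 4) rfl N70187 D208618
theorem N105422 : nd 105422 = n208619 := ndS (p := 70187) (l := 6) rfl N70187 D208619
theorem N105423 : nd 105423 = n208620 := ndS (p := 70188) (l := 0) rfl N70188 D208620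
theorem N105424 : nd 105424 = n208621 := ndS (p := 70191) (l := 5) rfl N70191 D208621
theorem N105425 : nd 105425 = n208622 := ndS (p := 70192) (l := 2) rfl N70192 D208622
theorem N105426 : nd 105426 = n208623 := ndS (p := 70192) (l := 4) rfl N70192 D208623
theorem N105427 : nd 105427 = n208624 := ndS (p := 70195) (l := 3) rfl N70195 D208624
theorem N105428 : nd 105428 = n208625 := ndS (p := 70197) (l := 5) rfl N70197 D208625
theorem N105429 : nd 105429 = n208626 := ndS (p := 70201) (l := 5) rfl N70201 D208626
theorem N105430 : nd 105430 = n208627 := ndS (p := 70202) (l := 0) rfl N70202 D208627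
theorem N105431 : nd 105431 = n208628 := ndS (p := 70202) (l := 1) rfl N70202 D208628
theorem N105432 : nd 105432 = n208629 := ndS (p := 70202) (l := 6) rfl N70202 D208629
theorem N105433 : nd 105433 = n208630 := ndS (p := 70207) (l := 6) rfl N70207 D208630
theorem N105434 : nd 105434 = n208631 := ndS (p := 70208) (l := 6) rfl N70208 D208631
theorem N105435 : nd 105435 = n208632 := ndS (p := 70226) (l := 3) rfl N70226 D208632
theorem N105436 : nd 105436 = n208633 := ndS (p := 70226) (l := 5) rfl N70226 D208633
theorem N105437 : nd 105437 = n208634 := ndS (p := 70226) (l := 6) rfl N70226 D208634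
theorem N105438 : nd 105438 = n208635 := ndS (p := 70227) (l := 5) rfl N70227 D208635
theorem N105439 : nd 105439 = n208636 := ndS (p := 70227) (l := 6) rfl N70227 D208636
theorem N105440 : nd 105440 = n208637 := ndS (p := 70229) (l := 6) rfl N70229 D208637
theorem N105441 : nd 105441 = n208638 := ndS (p := 70229) (l := 7) rfl N70229 D208638
theorem N105442 : nd 105442 = n208639 := ndS (p := 70232) (l := 2) rfl N70232 D208639
theorem N105443 : nd 105443 = n208640 := ndS (p := 70234) (l := 6) rfl N70234 D208640
theorem N105444 : nd 105444 = n208641 := ndS (p := 70235) (l := 5) rfl N70235 D208641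
theorem N105445 : nd 105445 = n208642 := ndS (p := 70236) (l := 3) rfl N70236 D208642
theorem N105446 : nd 105446 = n208643 := ndS (p := 70238) (l := 1) rfl N70238 D208643
theorem N105447 : nd 105447 = n208644 := ndS (p := 70241) (l := 4) rfl N70241 D208644
theorem N105448 : nd 105448 = n208645 := ndS (p := 70245) (l := 3) rfl N70245 D208645
theorem N105449 : nd 105449 = n208646 := ndS (p := 70245) (l := 6) rfl N70245 D208646
theorem N105450 : nd 105450 = n208647 := ndS (p := 70246) (l := 6) rfl N70246 D208647
theorem N105451 : nd 105451 = n208648 := ndS (p := 70248) (l := 1) rfl N70248 D208648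
theorem N105452 : nd 105452 = n208649 := ndS (p := 70253) (l := 3) rfl N70253 D208649
theorem N105453 : nd 105453 = n208650 := ndS (p := 70255) (l := 4) rfl N70255 D208650
theorem N105454 : nd 105454 = n208651 := ndS (p := 70256) (l := 3) rfl N70256 D208651
theorem N105455 : nd 105455 = n208652 := ndS (p := 70256) (l := 6) rfl N70256 D208652
theorem N105456 : nd 105456 = n208653 := ndS (p := 70257) (l := 5) rfl N70257 D208653
theorem N105457 : nd 105457 = n208654 := ndS (p := 70258) (l := 4) rfl N70258 D208654
theorem N105458 : nd 105458 = n208655 := ndS (p := 70258) (l := 6) rfl N70258 D208655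
theorem N105459 : nd 105459 = n208656 := ndS (p := 70260) (l := 0) rfl N70260 D208656
theorem N105460 : nd 105460 = n208657 := ndS (p := 70260) (l := 1) rfl N70260 D208657
theorem N105461 : nd 105461 = n208658 := ndS (p := 70260) (l := 7) rfl N70260 D208658
theorem N105462 : nd 105462 = n208659 := ndS (p := 70262) (l := 6) rfl N70262 D208659
theorem N105463 : nd 105463 = n208660 := ndS (p := 70263) (l := 3) rfl N70263 D208660
theorem N105464 : nd 105464 = n208661 := ndS (p := 70263) (l := 6) rfl N70263 D208661
theorem N105465 : nd 105465 = n208662 := ndS (p := 70265) (l := 6) rfl N70265 D208662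
theorem N105466 : nd 105466 = n208663 := ndS (p := 70266) (l := 0) rfl N70266 D208663
theorem N105467 : nd 105467 = n208664 := ndS (p := 70266) (l := 1) rfl N70266 D208664
theorem N105468 : nd 105468 = n208665 := ndS (p := 70266) (l := 5) rfl N70266 D208665
theorem N105469 : nd 105469 = n208666 := ndS (p := 70266) (l := 7) rfl N70266 D208666
theorem N105470 : nd 105470 = n208667 := ndS (p := 70268) (l := 6) rfl N70268 D208667
theorem N105471 : nd 105471 = n208668 := ndS (p := 70269) (l := 3) rfl N70269 D208668
theorem N105472 : nd 105472 = n208669 := ndS (p := 70269) (l := 6) rfl N70269 D208669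
theorem N105473 : nd 105473 = n208670 := ndS (p := 70271) (l := 7) rfl N70271 D208670
theorem N105474 : nd 105474 = n208671 := ndS (p := 70272) (l := 0) rfl N70272 D208671
theorem N105475 : nd 105475 = n208672 := ndS (p := 70272) (l := 5) rfl N70272 D208672
theorem N105476 : nd 105476 = n208673 := ndS (p := 70274) (l := 4) rfl N70274 D208673
theorem N105477 : nd 105477 = n208674 := ndS (p := 70274) (l := 6) rfl N70274 D208674
theorem N105478 : nd 105478 = n208675 := ndS (p := 70278) (l := 4) rfl N70278 D208675
theorem N105479 : nd 105479 = n208676 := ndS (p := 70279) (l := 3) rfl N70279 D208676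
theorem N105480 : nd 105480 = n208677 := ndS (p := 70279) (l := 4) rfl N70279 D208677
theorem N105481 : nd 105481 = n208678 := ndS (p := 70279) (l := 6) rfl N70279 D208678
theorem N105482 : nd 105482 = n208679 := ndS (p := 70280) (l := 1) rfl N70280 D208679
theorem N105483 : nd 105483 = n208680 := ndS (p := 70280) (l := 5) rfl N70280 D208680
theorem N105484 : nd 105484 = n208681 := ndS (p := 70285) (l := 3) rfl N70285 D208681
theorem N105485 : nd 105485 = n208682 := ndS (p := 70285) (l := 6) rfl N70285 D208682
theorem N105486 : nd 105486 = n208683 := ndS (p := 70286) (l := 0) rfl N70286 D208683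
theorem N105487 : nd 105487 = n208684 := ndS (p := 70286) (l := 2) rfl N70286 D208684
theorem N105488 : nd 105488 = n208685 := ndS (p := 70287) (l := 2) rfl N70287 D208685
theorem N105489 : nd 105489 = n208686 := ndS (p := 70287) (l := 6) rfl N70287 D208686
theorem N105490 : nd 105490 = n208687 := ndS (p := 70289) (l := 2) rfl N70289 D208687
theorem N105491 : nd 105491 = n208688 := ndS (p := 70290) (l := 4) rfl N70290 D208688
theorem N105492 : nd 105492 = n208689 := ndS (p := 70290) (l := 6) rfl N70290 D208689
theorem N105493 : nd 105493 = n208690 := ndS (p := 70291) (l := 6) rfl N70291 D208690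
theorem N105494 : nd 105494 = n208691 := ndS (p := 70292) (l := 6) rfl N70292 D208691
theorem N105495 : nd 105495 = n208692 := ndS (p := 70293) (l := 0) rfl N70293 D208692
theorem N105496 : nd 105496 = n208693 := ndS (p := 70293) (l := 1) rfl N70293 D208693
theorem N105497 : nd 105497 = n208694 := ndS (p := 70297) (l := 5) rfl N70297 D208694
theorem N105498 : nd 105498 = n208695 := ndS (p := 70298) (l := 6) rfl N70298 D208695
theorem N105499 : nd 105499 = n208697 := ndS (p := 70299) (l := 6) rfl N70299 D208697
theorem N105500 : nd 105500 = n208698 := ndS (p := 70302) (l := 6) rfl N70302 D208698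
theorem N105501 : nd 105501 = n208699 := ndS (p := 70303) (l := 1) rfl N70303 D208699
theorem N105502 : nd 105502 = n208700 := ndS (p := 70303) (l := 5) rfl N70303 D208700
theorem N105503 : nd 105503 = n208701 := ndS (p := 70304) (l := 4) rfl N70304 D208701
theorem N105504 : nd 105504 = n208702 := ndS (p := 70304) (l := 6) rfl N70304 D208702
theorem N105505 : nd 105505 = n208703 := ndS (p := 70305) (l := 0) rfl N70305 D208703
theorem N105506 : nd 105506 = n208704 := ndS (p := 70305) (l := 7) rfl N70305 D208704
theorem N105507 : nd 105507 = n208705 := ndS (p := 70306) (l := 3) rfl N70306 D208705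
theorem N105508 : nd 105508 = n208706 := ndS (p := 70306) (l := 6) rfl N70306 D208706
theorem N105509 : nd 105509 = n208707 := ndS (p := 70307) (l := 3) rfl N70307 D208707
theorem N105510 : nd 105510 = n208708 := ndS (p := 70308) (l := 0) rfl N70308 D208708
theorem N105511 : nd 105511 = n208709 := ndS (p := 70308) (l := 1) rfl N70308 D208709
theorem N105512 : nd 105512 = n208710 := ndS (p := 70308) (l := 6) rfl N70308 D208710
theorem N105513 : nd 105513 = n208711 := ndS (p := 70309) (l := 0) rfl N70309 D208711
theorem N105514 : nd 105514 = n208712 := ndS (p := 70309) (l := 1) rfl N70309 D208712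
theorem N105515 : nd 105515 = n208713 := ndS (p := 70310) (l := 5) rfl N70310 D208713
theorem N105516 : nd 105516 = n208714 := ndS (p := 70315) (l := 3) rfl N70315 D208714
theorem N105517 : nd 105517 = n208715 := ndS (p := 70315) (l := 6) rfl N70315 D208715
theorem N105518 : nd 105518 = n208716 := ndS (p := 70316) (l := 2) rfl N70316 D208716
theorem N105519 : nd 105519 = n208717 := ndS (p := 70317) (l := 1) rfl N70317 D208717
theorem N105520 : nd 105520 = n208718 := ndS (p := 70317) (l := 2) rfl N70317 D208718
theorem N105521 : nd 105521 = n208719 := ndS (p := 70321) (l := 3) rfl N70321 D208719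
theorem N105522 : nd 105522 = n208720 := ndS (p := 70322) (l := 0) rfl N70322 D208720
theorem N105523 : nd 105523 = n208721 := ndS (p := 70322) (l := 1) rfl N70322 D208721
theorem N105524 : nd 105524 = n208722 := ndS (p := 70322) (l := 2) rfl N70322 D208722
theorem N105525 : nd 105525 = n208723 := ndS (p := 70323) (l := 3) rfl N70323 D208723
theorem N105526 : nd 105526 = n208724 := ndS (p := 70325) (l := 4) rfl N70325 D208724
theorem N105527 : nd 105527 = n208725 := ndS (p := 70325) (l := 5) rfl N70325 D208725
theorem N105528 : nd 105528 = n208726 := ndS (p := 70326) (l := 3) rfl N70326 D208726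
theorem N105529 : nd 105529 = n208727 := ndS (p := 70327) (l := 6) rfl N70327 D208727
theorem N105530 : nd 105530 = n208728 := ndS (p := 70328) (l := 0) rfl N70328 D208728
theorem N105531 : nd 105531 = n208729 := ndS (p := 70328) (l := 1) rfl N70328 D208729
theorem N105532 : nd 105532 = n208730 := ndS (p := 70328) (l := 5) rfl N70328 D208730
theorem N105533 : nd 105533 = n208731 := ndS (p := 70329) (l := 4) rfl N70329 D208731
theorem N105534 : nd 105534 = n208732 := ndS (p := 70330) (l := 6) rfl N70330 D208732
theorem N105535 : nd 105535 = n208733 := ndS (p := 70332) (l := 0) rfl N70332 D208733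
theorem N105536 : nd 105536 = n208734 := ndS (p := 70334) (l := 5) rfl N70334 D208734
theorem N105537 : nd 105537 = n208735 := ndS (p := 70335) (l := 4) rfl N70335 D208735
theorem N105538 : nd 105538 = n208736 := ndS (p := 70336) (l := 4) rfl N70336 D208736
theorem N105539 : nd 105539 = n208737 := ndS (p := 70336) (l := 6) rfl N70336 D208737
theorem N105540 : nd 105540 = n208738 := ndS (p := 70337) (l := 3) rfl N70337 D208738
theorem N105541 : nd 105541 = n208739 := ndS (p := 70338) (l := 0) rfl N70338 D208739
theorem N105542 : nd 105542 = n208740 := ndS (p := 70338) (l := 1) rfl N70338 D208740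
theorem N105543 : nd 105543 = n208741 := ndS (p := 70339) (l := 2) rfl N70339 D208741
theorem N105544 : nd 105544 = n208742 := ndS (p := 70339) (l := 4) rfl N70339 D208742
theorem N105545 : nd 105545 = n208743 := ndS (p := 70339) (l := 6) rfl N70339 D208743
theorem N105546 : nd 105546 = n208744 := ndS (p := 70340) (l := 0) rfl N70340 D208744
theorem N105547 : nd 105547 = n208745 := ndS (p := 70340) (l := 7) rfl N70340 D208745
theorem N105548 : nd 105548 = n208746 := ndS (p := 70341) (l := 2) rfl N70341 D208746
theorem N105549 : nd 105549 = n208747 := ndS (p := 70341) (l := 6) rfl N70341 D208747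
theorem N105550 : nd 105550 = n208748 := ndS (p := 70342) (l := 0) rfl N70342 D208748
theorem N105551 : nd 105551 = n208749 := ndS (p := 70342) (l := 1) rfl N70342 D208749
theorem N105552 : nd 105552 = n208750 := ndS (p := 70342) (l := 5) rfl N70342 D208750
theorem N105553 : nd 105553 = n208751 := ndS (p := 70342) (l := 7) rfl N70342 D208751
theorem N105554 : nd 105554 = n208752 := ndS (p := 70347) (l := 1) rfl N70347 D208752
theorem N105555 : nd 105555 = n208753 := ndS (p := 70350) (l := 1) rfl N70350 D208753
theorem N105556 : nd 105556 = n208754 := ndS (p := 70350) (l := 5) rfl N70350 D208754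
theorem N105557 : nd 105557 = n208755 := ndS (p := 70351) (l := 4) rfl N70351 D208755
theorem N105558 : nd 105558 = n208756 := ndS (p := 70352) (l := 3) rfl N70352 D208756
theorem N105559 : nd 105559 = n208757 := ndS (p := 70352) (l := 4) rfl N70352 D208757
theorem N105560 : nd 105560 = n208758 := ndS (p := 70352) (l := 6) rfl N70352 D208758
theorem N105561 : nd 105561 = n208759 := ndS (p := 70353) (l := 4) rfl N70353 D208759
theorem N105562 : nd 105562 = n208760 := ndS (p := 70354) (l := 0) rfl N70354 D208760
theorem N105563 : nd 105563 = n208761 := ndS (p := 70354) (l := 1) rfl N70354 D208761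
theorem N105564 : nd 105564 = n208762 := ndS (p := 70354) (l := 5) rfl N70354 D208762
theorem N105565 : nd 105565 = n208763 := ndS (p := 70354) (l := 6) rfl N70354 D208763
theorem N105566 : nd 105566 = n208764 := ndS (p := 70356) (l := 3) rfl N70356 D208764
theorem N105567 : nd 105567 = n208765 := ndS (p := 70356) (l := 4) rfl N70356 D208765
theorem N105568 : nd 105568 = n208766 := ndS (p := 70356) (l := 6) rfl N70356 D208766
theorem N105569 : nd 105569 = n208767 := ndS (p := 70357) (l := 4) rfl N70357 D208767
theorem N105570 : nd 105570 = n208768 := ndS (p := 70357) (l := 6) rfl N70357 D208768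
theorem N105571 : nd 105571 = n208769 := ndS (p := 70359) (l := 2) rfl N70359 D208769
theorem N105572 : nd 105572 = n208770 := ndS (p := 70362) (l := 0) rfl N70362 D208770
theorem N105573 : nd 105573 = n208771 := ndS (p := 70363) (l := 4) rfl N70363 D208771
theorem N105574 : nd 105574 = n208772 := ndS (p := 70363) (l := 6) rfl N70363 D208772
theorem N105575 : nd 105575 = n208773 := ndS (p := 70364) (l := 5) rfl N70364 D208773
theorem N105576 : nd 105576 = n208774 := ndS (p := 70365) (l := 5) rfl N70365 D208774
theorem N105577 : nd 105577 = n208775 := ndS (p := 70367) (l := 4) rfl N70367 D208775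
theorem N105578 : nd 105578 = n208776 := ndS (p := 70368) (l := 4) rfl N70368 D208776
theorem N105579 : nd 105579 = n208777 := ndS (p := 70370) (l := 4) rfl N70370 D208777
theorem N105580 : nd 105580 = n208778 := ndS (p := 70370) (l := 6) rfl N70370 D208778
theorem N105581 : nd 105581 = n208779 := ndS (p := 70371) (l := 4) rfl N70371 D208779
theorem N105582 : nd 105582 = n208780 := ndS (p := 70371) (l := 6) rfl N70371 D208780
theorem N105583 : nd 105583 = n208781 := ndS (p := 70372) (l := 0) rfl N70372 D208781
theorem N105584 : nd 105584 = n208782 := ndS (p := 70372) (l := 1) rfl N70372 D208782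
theorem N105585 : nd 105585 = n208783 := ndS (p := 70372) (l := 5) rfl N70372 D208783
theorem N105586 : nd 105586 = n208784 := ndS (p := 70374) (l := 3) rfl N70374 D208784
theorem N105587 : nd 105587 = n208785 := ndS (p := 70374) (l := 6) rfl N70374 D208785
theorem N105588 : nd 105588 = n208786 := ndS (p := 70375) (l := 4) rfl N70375 D208786
theorem N105589 : nd 105589 = n208787 := ndS (p := 70375) (l := 6) rfl N70375 D208787
theorem N105590 : nd 105590 = n208788 := ndS (p := 70376) (l := 0) rfl N70376 D208788
theorem N105591 : nd 105591 = n208789 := ndS (p := 70376) (l := 7) rfl N70376 D208789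
theorem N105592 : nd 105592 = n208790 := ndS (p := 70377) (l := 5) rfl N70377 D208790
theorem N105593 : nd 105593 = n208791 := ndS (p := 70378) (l := 6) rfl N70378 D208791
theorem N105594 : nd 105594 = n208792 := ndS (p := 70379) (l := 2) rfl N70379 D208792
theorem N105595 : nd 105595 = n208793 := ndS (p := 70379) (l := 5) rfl N70379 D208793
theorem N105596 : nd 105596 = n208794 := ndS (p := 70379) (l := 6) rfl N70379 D208794
theorem N105597 : nd 105597 = n208795 := ndS (p := 70381) (l := 5) rfl N70381 D208795
theorem N105598 : nd 105598 = n208796 := ndS (p := 70382) (l := 4) rfl N70382 D208796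
theorem N105599 : nd 105599 = n208797 := ndS (p := 70382) (l := 6) rfl N70382 D208797
theorem N105600 : nd 105600 = n208798 := ndS (p := 70384) (l := 5) rfl N70384 D208798
theorem N105601 : nd 105601 = n208799 := ndS (p := 70385) (l := 1) rfl N70385 D208799
theorem N105602 : nd 105602 = n208800 := ndS (p := 70385) (l := 7) rfl N70385 D208800
theorem N105603 : nd 105603 = n208801 := ndS (p := 70388) (l := 4) rfl N70388 D208801
theorem N105604 : nd 105604 = n208802 := ndS (p := 70389) (l := 0) rfl N70389 D208802
theorem N105605 : nd 105605 = n208803 := ndS (p := 70389) (l := 1) rfl N70389 D208803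
theorem N105606 : nd 105606 = n208804 := ndS (p := 70389) (l := 3) rfl N70389 D208804
theorem N105607 : nd 105607 = n208805 := ndS (p := 70389) (l := 7) rfl N70389 D208805
theorem N105608 : nd 105608 = n208806 := ndS (p := 70392) (l := 3) rfl N70392 D208806
theorem N105609 : nd 105609 = n208807 := ndS (p := 70392) (l := 5) rfl N70392 D208807
theorem N105610 : nd 105610 = n208808 := ndS (p := 70393) (l := 3) rfl N70393 D208808
theorem N105611 : nd 105611 = n208809 := ndS (p := 70393) (l := 4) rfl N70393 D208809
theorem N105612 : nd 105612 = n208810 := ndS (p := 70394) (l := 3) rfl N70394 D208810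
theorem N105613 : nd 105613 = n208811 := ndS (p := 70394) (l := 4) rfl N70394 D208811
theorem N105614 : nd 105614 = n208812 := ndS (p := 70394) (l := 6) rfl N70394 D208812
theorem N105615 : nd 105615 = n208813 := ndS (p := 70395) (l := 3) rfl N70395 D208813
theorem N105616 : nd 105616 = n208815 := ndS (p := 70397) (l := 2) rfl N70397 D208815
theorem N105617 : nd 105617 = n208816 := ndS (p := 70397) (l := 4) rfl N70397 D208816
theorem N105618 : nd 105618 = n208817 := ndS (p := 70397) (l := 6) rfl N70397 D208817
theorem N105619 : nd 105619 = n208818 := ndS (p := 70398) (l := 0) rfl N70398 D208818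
theorem N105620 : nd 105620 = n208819 := ndS (p := 70398) (l := 1) rfl N70398 D208819
theorem N105621 : nd 105621 = n208820 := ndS (p := 70398) (l := 3) rfl N70398 D208820
theorem N105622 : nd 105622 = n208821 := ndS (p := 70398) (l := 5) rfl N70398 D208821
theorem N105623 : nd 105623 = n208822 := ndS (p := 70398) (l := 6) rfl N70398 D208822
theorem N105624 : nd 105624 = n208823 := ndS (p := 70400) (l := 2) rfl N70400 D208823
theorem N105625 : nd 105625 = n208824 := ndS (p := 70400) (l := 4) rfl N70400 D208824
theorem N105626 : nd 105626 = n208825 := ndS (p := 70401) (l := 3) rfl N70401 D208825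
theorem N105627 : nd 105627 = n208826 := ndS (p := 70401) (l := 5) rfl N70401 D208826
theorem N105628 : nd 105628 = n208827 := ndS (p := 70401) (l := 6) rfl N70401 D208827
theorem N105629 : nd 105629 = n208828 := ndS (p := 70402) (l := 1) rfl N70402 D208828
theorem N105630 : nd 105630 = n208829 := ndS (p := 70404) (l := 5) rfl N70404 D208829
theorem N105631 : nd 105631 = n208830 := ndS (p := 70404) (l := 6) rfl N70404 D208830
theorem N105632 : nd 105632 = n208831 := ndS (p := 70405) (l := 1) rfl N70405 D208831
theorem N105633 : nd 105633 = n208832 := ndS (p := 70405) (l := 7) rfl N70405 D208832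
theorem N105634 : nd 105634 = n208833 := ndS (p := 70406) (l := 6) rfl N70406 D208833
theorem N105635 : nd 105635 = n208834 := ndS (p := 70407) (l := 4) rfl N70407 D208834
theorem N105636 : nd 105636 = n208835 := ndS (p := 70408) (l := 6) rfl N70408 D208835
theorem N105637 : nd 105637 = n208836 := ndS (p := 70409) (l := 0) rfl N70409 D208836
theorem N105638 : nd 105638 = n208837 := ndS (p := 70409) (l := 5) rfl N70409 D208837
theorem N105639 : nd 105639 = n208838 := ndS (p := 70410) (l := 1) rfl N70410 D208838
theorem N105640 : nd 105640 = n208839 := ndS (p := 70412) (l := 0) rfl N70412 D208839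
theorem N105641 : nd 105641 = n208840 := ndS (p := 70412) (l := 5) rfl N70412 D208840
theorem N105642 : nd 105642 = n208841 := ndS (p := 70413) (l := 0) rfl N70413 D208841
theorem N105643 : nd 105643 = n208842 := ndS (p := 70413) (l := 1) rfl N70413 D208842
theorem N105644 : nd 105644 = n208843 := ndS (p := 70416) (l := 3) rfl N70416 D208843
theorem N105645 : nd 105645 = n208844 := ndS (p := 70416) (l := 6) rfl N70416 D208844
theorem N105646 : nd 105646 = n208845 := ndS (p := 70417) (l := 3) rfl N70417 D208845
theorem N105647 : nd 105647 = n208846 := ndS (p := 70418) (l := 4) rfl N70418 D208846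
theorem N105648 : nd 105648 = n208847 := ndS (p := 70418) (l := 6) rfl N70418 D208847
theorem N105649 : nd 105649 = n208848 := ndS (p := 70419) (l := 6) rfl N70419 D208848
theorem N105650 : nd 105650 = n208849 := ndS (p := 70421) (l := 2) rfl N70421 D208849
theorem N105651 : nd 105651 = n208850 := ndS (p := 70424) (l := 3) rfl N70424 D208850
theorem N105652 : nd 105652 = n208851 := ndS (p := 70424) (l := 5) rfl N70424 D208851
theorem N105653 : nd 105653 = n208852 := ndS (p := 70425) (l := 0) rfl N70425 D208852
theorem N105654 : nd 105654 = n208853 := ndS (p := 70425) (l := 1) rfl N70425 D208853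
theorem N105655 : nd 105655 = n208854 := ndS (p := 70425) (l := 4) rfl N70425 D208854
theorem N105656 : nd 105656 = n208855 := ndS (p := 70426) (l := 5) rfl N70426 D208855
theorem N105657 : nd 105657 = n208856 := ndS (p := 70427) (l := 0) rfl N70427 D208856
theorem N105658 : nd 105658 = n208857 := ndS (p := 70427) (l := 4) rfl N70427 D208857
theorem N105659 : nd 105659 = n208858 := ndS (p := 70427) (l := 6) rfl N70427 D208858
theorem N105660 : nd 105660 = n208859 := ndS (p := 70429) (l := 4) rfl N70429 D208859
theorem N105661 : nd 105661 = n208860 := ndS (p := 70431) (l := 4) rfl N70431 D208860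
theorem N105662 : nd 105662 = n208861 := ndS (p := 70432) (l := 1) rfl N70432 D208861
theorem N105663 : nd 105663 = n208862 := ndS (p := 70432) (l := 3) rfl N70432 D208862
theorem N105664 : nd 105664 = n208863 := ndS (p := 70434) (l := 0) rfl N70434 D208863
theorem N105665 : nd 105665 = n208864 := ndS (p := 70434) (l := 4) rfl N70434 D208864
theorem N105666 : nd 105666 = n208865 := ndS (p := 70434) (l := 6) rfl N70434 D208865
theorem N105667 : nd 105667 = n208866 := ndS (p := 70437) (l := 5) rfl N70437 D208866
theorem N105668 : nd 105668 = n208867 := ndS (p := 70438) (l := 4) rfl N70438 D208867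
theorem N105669 : nd 105669 = n208868 := ndS (p := 70439) (l := 3) rfl N70439 D208868
theorem N105670 : nd 105670 = n208869 := ndS (p := 70442) (l := 5) rfl N70442 D208869
theorem N105671 : nd 105671 = n208870 := ndS (p := 70442) (l := 6) rfl N70442 D208870
theorem N105672 : nd 105672 = n208871 := ndS (p := 70443) (l := 5) rfl N70443 D208871
theorem N105673 : nd 105673 = n208872 := ndS (p := 70444) (l := 1) rfl N70444 D208872
theorem N105674 : nd 105674 = n208873 := ndS (p := 70447) (l := 4) rfl N70447 D208873
theorem N105675 : nd 105675 = n208874 := ndS (p := 70447) (l := 6) rfl N70447 D208874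
theorem N105676 : nd 105676 = n208875 := ndS (p := 70448) (l := 4) rfl N70448 D208875
theorem N105677 : nd 105677 = n208876 := ndS (p := 70449) (l := 3) rfl N70449 D208876
theorem N105678 : nd 105678 = n208877 := ndS (p := 70449) (l := 4) rfl N70449 D208877
theorem N105679 : nd 105679 = n208878 := ndS (p := 70450) (l := 5) rfl N70450 D208878
theorem N105680 : nd 105680 = n208879 := ndS (p := 70454) (l := 4) rfl N70454 D208879
theorem N105681 : nd 105681 = n208880 := ndS (p := 70454) (l := 6) rfl N70454 D208880
theorem N105682 : nd 105682 = n208881 := ndS (p := 70460) (l := 3) rfl N70460 D208881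
theorem N105683 : nd 105683 = n208882 := ndS (p := 70464) (l := 0) rfl N70464 D208882
theorem N105684 : nd 105684 = n208883 := ndS (p := 70464) (l := 2) rfl N70464 D208883
theorem N105685 : nd 105685 = n208884 := ndS (p := 70464) (l := 6) rfl N70464 D208884
theorem N105686 : nd 105686 = n208885 := ndS (p := 70466) (l := 5) rfl N70466 D208885
theorem N105687 : nd 105687 = n208886 := ndS (p := 70466) (l := 6) rfl N70466 D208886
theorem N105688 : nd 105688 = n208887 := ndS (p := 70469) (l := 4) rfl N70469 D208887
theorem N105689 : nd 105689 = n208888 := ndS (p := 70471) (l := 0) rfl N70471 D208888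
theorem N105690 : nd 105690 = n208889 := ndS (p := 70471) (l := 1) rfl N70471 D208889
theorem N105691 : nd 105691 = n208890 := ndS (p := 70471) (l := 3) rfl N70471 D208890
theorem N105692 : nd 105692 = n208891 := ndS (p := 70471) (l := 5) rfl N70471 D208891
theorem N105693 : nd 105693 = n208892 := ndS (p := 70471) (l := 7) rfl N70471 D208892
theorem N105694 : nd 105694 = n208893 := ndS (p := 70473) (l := 5) rfl N70473 D208893
theorem N105695 : nd 105695 = n208894 := ndS (p := 70477) (l := 4) rfl N70477 D208894
theorem N105696 : nd 105696 = n208895 := ndS (p := 70483) (l := 5) rfl N70483 D208895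
theorem N105697 : nd 105697 = n208896 := ndS (p := 70484) (l := 4) rfl N70484 D208896
theorem N105698 : nd 105698 = n208897 := ndS (p := 70484) (l := 6) rfl N70484 D208897
theorem N105699 : nd 105699 = n208898 := ndS (p := 70485) (l := 4) rfl N70485 D208898
theorem N105700 : nd 105700 = n208899 := ndS (p := 70485) (l := 6) rfl N70485 D208899
theorem N105701 : nd 105701 = n208900 := ndS (p := 70487) (l := 3) rfl N70487 D208900
theorem N105702 : nd 105702 = n208901 := ndS (p := 70487) (l := 4) rfl N70487 D208901
theorem N105703 : nd 105703 = n208902 := ndS (p := 70488) (l := 4) rfl N70488 D208902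
theorem N105704 : nd 105704 = n208903 := ndS (p := 70488) (l := 6) rfl N70488 D208903
theorem N105705 : nd 105705 = n208904 := ndS (p := 70491) (l := 1) rfl N70491 D208904
theorem N105706 : nd 105706 = n208905 := ndS (p := 70491) (l := 6) rfl N70491 D208905
theorem N105707 : nd 105707 = n208906 := ndS (p := 70493) (l := 0) rfl N70493 D208906
theorem N105708 : nd 105708 = n208907 := ndS (p := 70499) (l := 7) rfl N70499 D208907
theorem N105709 : nd 105709 = n208908 := ndS (p := 70501) (l := 6) rfl N70501 D208908
theorem N105710 : nd 105710 = n208909 := ndS (p := 70502) (l := 5) rfl N70502 D208909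
theorem N105711 : nd 105711 = n208910 := ndS (p := 70503) (l := 6) rfl N70503 D208910
theorem N105712 : nd 105712 = n208911 := ndS (p := 70504) (l := 5) rfl N70504 D208911
theorem N105713 : nd 105713 = n208912 := ndS (p := 70505) (l := 6) rfl N70505 D208912
theorem N105714 : nd 105714 = n208913 := ndS (p := 70512) (l := 6) rfl N70512 D208913
theorem N105715 : nd 105715 = n208914 := ndS (p := 70514) (l := 5) rfl N70514 D208914
theorem N105716 : nd 105716 = n208915 := ndS (p := 70516) (l := 4) rfl N70516 D208915
theorem N105717 : nd 105717 = n208916 := ndS (p := 70518) (l := 1) rfl N70518 D208916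
theorem N105718 : nd 105718 = n208917 := ndS (p := 70519) (l := 5) rfl N70519 D208917
theorem N105719 : nd 105719 = n208918 := ndS (p := 70519) (l := 6) rfl N70519 D208918
theorem N105720 : nd 105720 = n208919 := ndS (p := 70521) (l := 5) rfl N70521 D208919
theorem N105721 : nd 105721 = n208920 := ndS (p := 70526) (l := 6) rfl N70526 D208920
theorem N105722 : nd 105722 = n208921 := ndS (p := 70529) (l := 6) rfl N70529 D208921
theorem N105723 : nd 105723 = n208922 := ndS (p := 70530) (l := 0) rfl N70530 D208922
theorem N105724 : nd 105724 = n208923 := ndS (p := 70530) (l := 1) rfl N70530 D208923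
theorem N105725 : nd 105725 = n208924 := ndS (p := 70530) (l := 7) rfl N70530 D208924
theorem N105726 : nd 105726 = n208925 := ndS (p := 70531) (l := 6) rfl N70531 D208925
theorem N105727 : nd 105727 = n208926 := ndS (p := 70532) (l := 1) rfl N70532 D208926
theorem N105728 : nd 105728 = n208927 := ndS (p := 70533) (l := 4) rfl N70533 D208927
theorem N105729 : nd 105729 = n208928 := ndS (p := 70533) (l := 6) rfl N70533 D208928
theorem N105730 : nd 105730 = n208929 := ndS (p := 70534) (l := 4) rfl N70534 D208929
theorem N105731 : nd 105731 = n208930 := ndS (p := 70534) (l := 7) rfl N70534 D208930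
theorem N105732 : nd 105732 = n208931 := ndS (p := 70536) (l := 5) rfl N70536 D208931
theorem N105733 : nd 105733 = n208932 := ndS (p := 70537) (l := 0) rfl N70537 D208932
theorem N105734 : nd 105734 = n208933 := ndS (p := 70537) (l := 6) rfl N70537 D208933
theorem N105735 : nd 105735 = n208934 := ndS (p := 70538) (l := 6) rfl N70538 D208934
theorem N105736 : nd 105736 = n208935 := ndS (p := 70539) (l := 5) rfl N70539 D208935
theorem N105737 : nd 105737 = n208936 := ndS (p := 70540) (l := 6) rfl N70540 D208936
theorem N105738 : nd 105738 = n208937 := ndS (p := 70541) (l := 6) rfl N70541 D208937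
theorem N105739 : nd 105739 = n208938 := ndS (p := 70542) (l := 5) rfl N70542 D208938
theorem N105740 : nd 105740 = n208940 := ndS (p := 70543) (l := 6) rfl N70543 D208940
theorem N105741 : nd 105741 = n208941 := ndS (p := 70544) (l := 0) rfl N70544 D208941
theorem N105742 : nd 105742 = n208942 := ndS (p := 70546) (l := 6) rfl N70546 D208942
theorem N105743 : nd 105743 = n208943 := ndS (p := 70549) (l := 5) rfl N70549 D208943
theorem N105744 : nd 105744 = n208944 := ndS (p := 70564) (l := 4) rfl N70564 D208944
theorem N105745 : nd 105745 = n208945 := ndS (p := 70564) (l := 6) rfl N70564 D208945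
theorem N105746 : nd 105746 = n208946 := ndS (p := 70565) (l := 4) rfl N70565 D208946
theorem N105747 : nd 105747 = n208947 := ndS (p := 70566) (l := 6) rfl N70566 D208947
theorem N105748 : nd 105748 = n208948 := ndS (p := 70567) (l := 0) rfl N70567 D208948
theorem N105749 : nd 105749 = n208949 := ndS (p := 70567) (l := 1) rfl N70567 D208949
theorem N105750 : nd 105750 = n208950 := ndS (p := 70570) (l := 0) rfl N70570 D208950
theorem N105751 : nd 105751 = n208951 := ndS (p := 70570) (l := 1) rfl N70570 D208951
theorem N105752 : nd 105752 = n208952 := ndS (p := 70570) (l := 5) rfl N70570 D208952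
theorem N105753 : nd 105753 = n208953 := ndS (p := 70575) (l := 6) rfl N70575 D208953
theorem N105754 : nd 105754 = n208954 := ndS (p := 70576) (l := 0) rfl N70576 D208954
theorem N105755 : nd 105755 = n208955 := ndS (p := 70576) (l := 1) rfl N70576 D208955
theorem N105756 : nd 105756 = n208956 := ndS (p := 70576) (l := 5) rfl N70576 D208956
theorem N105757 : nd 105757 = n208957 := ndS (p := 70576) (l := 7) rfl N70576 D208957
theorem N105758 : nd 105758 = n208958 := ndS (p := 70583) (l := 5) rfl N70583 D208958
theorem N105759 : nd 105759 = n208959 := ndS (p := 70584) (l := 6) rfl N70584 D208959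
theorem N105760 : nd 105760 = n208960 := ndS (p := 70585) (l := 1) rfl N70585 D208960
theorem N105761 : nd 105761 = n208961 := ndS (p := 70585) (l := 5) rfl N70585 D208961
theorem N105762 : nd 105762 = n208962 := ndS (p := 70585) (l := 7) rfl N70585 D208962
theorem N105763 : nd 105763 = n208963 := ndS (p := 70589) (l := 4) rfl N70589 D208963
theorem N105764 : nd 105764 = n208964 := ndS (p := 70592) (l := 6) rfl N70592 D208964
theorem N105765 : nd 105765 = n208965 := ndS (p := 70593) (l := 0) rfl N70593 D208965
theorem N105766 : nd 105766 = n208966 := ndS (p := 70593) (l := 1) rfl N70593 D208966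
theorem N105767 : nd 105767 = n208967 := ndS (p := 70593) (l := 5) rfl N70593 D208967
theorem N105768 : nd 105768 = n208968 := ndS (p := 70594) (l := 6) rfl N70594 D208968
theorem N105769 : nd 105769 = n208969 := ndS (p := 70595) (l := 0) rfl N70595 D208969
theorem N105770 : nd 105770 = n208970 := ndS (p := 70595) (l := 1) rfl N70595 D208970
theorem N105771 : nd 105771 = n208971 := ndS (p := 70595) (l := 5) rfl N70595 D208971
theorem N105772 : nd 105772 = n208972 := ndS (p := 70595) (l := 7) rfl N70595 D208972
theorem N105773 : nd 105773 = n208973 := ndS (p := 70596) (l := 5) rfl N70596 D208973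
theorem N105774 : nd 105774 = n208974 := ndS (p := 70597) (l := 3) rfl N70597 D208974
theorem N105775 : nd 105775 = n208975 := ndS (p := 70597) (l := 5) rfl N70597 D208975
theorem N105776 : nd 105776 = n208976 := ndS (p := 70598) (l := 1) rfl N70598 D208976
theorem N105777 : nd 105777 = n208977 := ndS (p := 70598) (l := 7) rfl N70598 D208977
theorem N105778 : nd 105778 = n208978 := ndS (p := 70602) (l := 0) rfl N70602 D208978
theorem N105779 : nd 105779 = n208979 := ndS (p := 70602) (l := 1) rfl N70602 D208979
theorem N105780 : nd 105780 = n208980 := ndS (p := 70604) (l := 2) rfl N70604 D208980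
theorem N105781 : nd 105781 = n208981 := ndS (p := 70605) (l := 1) rfl N70605 D208981
theorem N105782 : nd 105782 = n208982 := ndS (p := 70605) (l := 2) rfl N70605 D208982
theorem N105783 : nd 105783 = n208983 := ndS (p := 70607) (l := 3) rfl N70607 D208983
theorem N105784 : nd 105784 = n208984 := ndS (p := 70607) (l := 4) rfl N70607 D208984
theorem N105785 : nd 105785 = n208985 := ndS (p := 70609) (l := 6) rfl N70609 D208985
theorem N105786 : nd 105786 = n208986 := ndS (p := 70611) (l := 0) rfl N70611 D208986
theorem N105787 : nd 105787 = n208987 := ndS (p := 70615) (l := 6) rfl N70615 D208987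
theorem N105788 : nd 105788 = n208988 := ndS (p := 70620) (l := 6) rfl N70620 D208988
theorem N105789 : nd 105789 = n208989 := ndS (p := 70621) (l := 0) rfl N70621 D208989
theorem N105790 : nd 105790 = n208990 := ndS (p := 70621) (l := 5) rfl N70621 D208990
theorem N105791 : nd 105791 = n208991 := ndS (p := 70624) (l := 1) rfl N70624 D208991
theorem N105792 : nd 105792 = n208992 := ndS (p := 70624) (l := 5) rfl N70624 D208992
theorem N105793 : nd 105793 = n208993 := ndS (p := 70624) (l := 7) rfl N70624 D208993
theorem N105794 : nd 105794 = n208994 := ndS (p := 70625) (l := 3) rfl N70625 D208994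
theorem N105795 : nd 105795 = n208995 := ndS (p := 70625) (l := 5) rfl N70625 D208995
theorem N105796 : nd 105796 = n208996 := ndS (p := 70625) (l := 6) rfl N70625 D208996
theorem N105797 : nd 105797 = n208997 := ndS (p := 70627) (l := 0) rfl N70627 D208997
theorem N105798 : nd 105798 = n208998 := ndS (p := 70627) (l := 7) rfl N70627 D208998
theorem N105799 : nd 105799 = n208999 := ndS (p := 70629) (l := 6) rfl N70629 D208999
theorem N105800 : nd 105800 = n209000 := ndS (p := 70631) (l := 0) rfl N70631 D209000
theorem N105801 : nd 105801 = n209001 := ndS (p := 70631) (l := 1) rfl N70631 D209001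
theorem N105802 : nd 105802 = n209002 := ndS (p := 70635) (l := 1) rfl N70635 D209002
theorem N105803 : nd 105803 = n209003 := ndS (p := 70637) (l := 3) rfl N70637 D209003
theorem N105804 : nd 105804 = n209004 := ndS (p := 70637) (l := 4) rfl N70637 D209004
theorem N105805 : nd 105805 = n209005 := ndS (p := 70637) (l := 6) rfl N70637 D209005
theorem N105806 : nd 105806 = n209006 := ndS (p := 70638) (l := 1) rfl N70638 D209006
theorem N105807 : nd 105807 = n209007 := ndS (p := 70638) (l := 3) rfl N70638 D209007
theorem N105808 : nd 105808 = n209008 := ndS (p := 70638) (l := 5) rfl N70638 D209008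
theorem N105809 : nd 105809 = n209009 := ndS (p := 70640) (l := 5) rfl N70640 D209009
theorem N105810 : nd 105810 = n209010 := ndS (p := 70641) (l := 4) rfl N70641 D209010
theorem N105811 : nd 105811 = n209011 := ndS (p := 70641) (l := 6) rfl N70641 D209011
theorem N105812 : nd 105812 = n209012 := ndS (p := 70642) (l := 5) rfl N70642 D209012
theorem N105813 : nd 105813 = n209013 := ndS (p := 70644) (l := 4) rfl N70644 D209013
theorem N105814 : nd 105814 = n209014 := ndS (p := 70646) (l := 0) rfl N70646 D209014
theorem N105815 : nd 105815 = n209015 := ndS (p := 70646) (l := 2) rfl N70646 D209015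
theorem N105816 : nd 105816 = n209016 := ndS (p := 70646) (l := 7) rfl N70646 D209016
theorem N105817 : nd 105817 = n209017 := ndS (p := 70647) (l := 0) rfl N70647 D209017
theorem N105818 : nd 105818 = n209018 := ndS (p := 70647) (l := 4) rfl N70647 D209018
theorem N105819 : nd 105819 = n209019 := ndS (p := 70647) (l := 7) rfl N70647 D209019
theorem N105820 : nd 105820 = n209020 := ndS (p := 70653) (l := 7) rfl N70653 D209020
theorem N105821 : nd 105821 = n209021 := ndS (p := 70654) (l := 0) rfl N70654 D209021
theorem N105822 : nd 105822 = n209022 := ndS (p := 70654) (l := 4) rfl N70654 D209022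
theorem N105823 : nd 105823 = n209023 := ndS (p := 70655) (l := 3) rfl N70655 D209023
theorem N105824 : nd 105824 = n209024 := ndS (p := 70655) (l := 6) rfl N70655 D209024
theorem N105825 : nd 105825 = n209025 := ndS (p := 70656) (l := 0) rfl N70656 D209025
theorem N105826 : nd 105826 = n209026 := ndS (p := 70656) (l := 1) rfl N70656 D209026
theorem N105827 : nd 105827 = n209027 := ndS (p := 70656) (l := 4) rfl N70656 D209027
theorem N105828 : nd 105828 = n209028 := ndS (p := 70656) (l := 7) rfl N70656 D209028
theorem N105829 : nd 105829 = n209029 := ndS (p := 70658) (l := 3) rfl N70658 D209029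
theorem N105830 : nd 105830 = n209030 := ndS (p := 70659) (l := 5) rfl N70659 D209030
theorem N105831 : nd 105831 = n209031 := ndS (p := 70664) (l := 5) rfl N70664 D209031
theorem N105832 : nd 105832 = n209032 := ndS (p := 70664) (l := 6) rfl N70664 D209032
theorem N105833 : nd 105833 = n209033 := ndS (p := 70667) (l := 6) rfl N70667 D209033
theorem N105834 : nd 105834 = n209034 := ndS (p := 70668) (l := 0) rfl N70668 D209034
theorem N105835 : nd 105835 = n209035 := ndS (p := 70668) (l := 5) rfl N70668 D209035
theorem N105836 : nd 105836 = n209036 := ndS (p := 70668) (l := 7) rfl N70668 D209036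
theorem N105837 : nd 105837 = n209037 := ndS (p := 70671) (l := 0) rfl N70671 D209037
theorem N105838 : nd 105838 = n209038 := ndS (p := 70673) (l := 4) rfl N70673 D209038
theorem N105839 : nd 105839 = n209039 := ndS (p := 70674) (l := 7) rfl N70674 D209039
theorem N105840 : nd 105840 = n209040 := ndS (p := 70676) (l := 5) rfl N70676 D209040
theorem N105841 : nd 105841 = n209041 := ndS (p := 70681) (l := 3) rfl N70681 D209041
theorem N105842 : nd 105842 = n209042 := ndS (p := 70685) (l := 5) rfl N70685 D209042
theorem N105843 : nd 105843 = n209043 := ndS (p := 70686) (l := 7) rfl N70686 D209043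
theorem N105844 : nd 105844 = n209044 := ndS (p := 70689) (l := 6) rfl N70689 D209044
theorem N105845 : nd 105845 = n209045 := ndS (p := 70691) (l := 0) rfl N70691 D209045
theorem N105846 : nd 105846 = n209046 := ndS (p := 70691) (l := 5) rfl N70691 D209046
theorem N105847 : nd 105847 = n209047 := ndS (p := 70691) (l := 7) rfl N70691 D209047
theorem N105848 : nd 105848 = n209048 := ndS (p := 70693) (l := 7) rfl N70693 D209048
theorem N105849 : nd 105849 = n209049 := ndS (p := 70695) (l := 7) rfl N70695 D209049
theorem N105850 : nd 105850 = n209050 := ndS (p := 70696) (l := 3) rfl N70696 D209050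
theorem N105851 : nd 105851 = n209051 := ndS (p := 70696) (l := 5) rfl N70696 D209051
theorem N105852 : nd 105852 = n209052 := ndS (p := 70703) (l := 1) rfl N70703 D209052
theorem N105853 : nd 105853 = n209053 := ndS (p := 70703) (l := 4) rfl N70703 D209053
theorem N105854 : nd 105854 = n209054 := ndS (p := 70703) (l := 7) rfl N70703 D209054
theorem N105855 : nd 105855 = n209055 := ndS (p := 70705) (l := 3) rfl N70705 D209055
theorem N105856 : nd 105856 = n209056 := ndS (p := 70705) (l := 5) rfl N70705 D209056
theorem N105857 : nd 105857 = n209057 := ndS (p := 70706) (l := 3) rfl N70706 D209057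
theorem N105858 : nd 105858 = n209058 := ndS (p := 70706) (l := 5) rfl N70706 D209058
theorem N105859 : nd 105859 = n209059 := ndS (p := 70706) (l := 6) rfl N70706 D209059
theorem N105860 : nd 105860 = n209060 := ndS (p := 70707) (l := 0) rfl N70707 D209060
theorem N105861 : nd 105861 = n209061 := ndS (p := 70707) (l := 1) rfl N70707 D209061
theorem N105862 : nd 105862 = n209062 := ndS (p := 70708) (l := 3) rfl N70708 D209062
theorem N105863 : nd 105863 = n209063 := ndS (p := 70709) (l := 5) rfl N70709 D209063
theorem N105864 : nd 105864 = n209064 := ndS (p := 70709) (l := 6) rfl N70709 D209064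
theorem N105865 : nd 105865 = n209065 := ndS (p := 70711) (l := 6) rfl N70711 D209065
theorem N105866 : nd 105866 = n209066 := ndS (p := 70714) (l := 3) rfl N70714 D209066
theorem N105867 : nd 105867 = n209067 := ndS (p := 70715) (l := 4) rfl N70715 D209067
theorem N105868 : nd 105868 = n209068 := ndS (p := 70716) (l := 6) rfl N70716 D209068
theorem N105869 : nd 105869 = n209069 := ndS (p := 70718) (l := 5) rfl N70718 D209069
theorem N105870 : nd 105870 = n209070 := ndS (p := 70719) (l := 6) rfl N70719 D209070
theorem N105871 : nd 105871 = n209071 := ndS (p := 70720) (l := 6) rfl N70720 D209071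
theorem N105872 : nd 105872 = n209072 := ndS (p := 70723) (l := 3) rfl N70723 D209072
theorem N105873 : nd 105873 = n209073 := ndS (p := 70724) (l := 3) rfl N70724 D209073
theorem N105874 : nd 105874 = n209074 := ndS (p := 70725) (l := 3) rfl N70725 D209074
theorem N105875 : nd 105875 = n209075 := ndS (p := 70725) (l := 5) rfl N70725 D209075
theorem N105876 : nd 105876 = n209076 := ndS (p := 70726) (l := 3) rfl N70726 D209076
theorem N105877 : nd 105877 = n209077 := ndS (p := 70726) (l := 5) rfl N70726 D209077
theorem N105878 : nd 105878 = n209078 := ndS (p := 70726) (l := 6) rfl N70726 D209078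
theorem N105879 : nd 105879 = n209079 := ndS (p := 70728) (l := 3) rfl N70728 D209079
theorem N105880 : nd 105880 = n209080 := ndS (p := 70729) (l := 4) rfl N70729 D209080
theorem N105881 : nd 105881 = n209081 := ndS (p := 70730) (l := 6) rfl N70730 D209081
theorem N105882 : nd 105882 = n209082 := ndS (p := 70732) (l := 6) rfl N70732 D209082
theorem N105883 : nd 105883 = n209083 := ndS (p := 70734) (l := 6) rfl N70734 D209083
theorem N105884 : nd 105884 = n209084 := ndS (p := 70735) (l := 5) rfl N70735 D209084
theorem N105885 : nd 105885 = n209085 := ndS (p := 70737) (l := 0) rfl N70737 D209085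
theorem N105886 : nd 105886 = n209086 := ndS (p := 70737) (l := 1) rfl N70737 D209086
theorem N105887 : nd 105887 = n209087 := ndS (p := 70738) (l := 0) rfl N70738 D209087
theorem N105888 : nd 105888 = n209088 := ndS (p := 70739) (l := 6) rfl N70739 D209088
theorem N105889 : nd 105889 = n209089 := ndS (p := 70741) (l := 6) rfl N70741 D209089
theorem N105890 : nd 105890 = n209090 := ndS (p := 70742) (l := 1) rfl N70742 D209090
theorem N105891 : nd 105891 = n209091 := ndS (p := 70749) (l := 6) rfl N70749 D209091
theorem N105892 : nd 105892 = n209092 := ndS (p := 70750) (l := 3) rfl N70750 D209092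
theorem N105893 : nd 105893 = n209093 := ndS (p := 70753) (l := 1) rfl N70753 D209093
theorem N105894 : nd 105894 = n209094 := ndS (p := 70753) (l := 7) rfl N70753 D209094
theorem N105895 : nd 105895 = n209095 := ndS (p := 70756) (l := 4) rfl N70756 D209095
theorem N105896 : nd 105896 = n209096 := ndS (p := 70756) (l := 6) rfl N70756 D209096
theorem N105897 : nd 105897 = n209097 := ndS (p := 70757) (l := 5) rfl N70757 D209097
theorem N105898 : nd 105898 = n209098 := ndS (p := 70758) (l := 5) rfl N70758 D209098
theorem N105899 : nd 105899 = n209099 := ndS (p := 70758) (l := 6) rfl N70758 D209099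
theorem N105900 : nd 105900 = n209100 := ndS (p := 70759) (l := 7) rfl N70759 D209100
theorem N105901 : nd 105901 = n209101 := ndS (p := 70760) (l := 5) rfl N70760 D209101
theorem N105902 : nd 105902 = n209102 := ndS (p := 70761) (l := 3) rfl N70761 D209102
theorem N105903 : nd 105903 = n209103 := ndS (p := 70761) (l := 5) rfl N70761 D209103
theorem N105904 : nd 105904 = n209104 := ndS (p := 70762) (l := 0) rfl N70762 D209104
theorem N105905 : nd 105905 = n209105 := ndS (p := 70762) (l := 1) rfl N70762 D209105
theorem N105906 : nd 105906 = n209106 := ndS (p := 70762) (l := 7) rfl N70762 D209106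
theorem N105907 : nd 105907 = n209107 := ndS (p := 70768) (l := 0) rfl N70768 D209107
theorem N105908 : nd 105908 = n209108 := ndS (p := 70773) (l := 5) rfl N70773 D209108
theorem N105909 : nd 105909 = n209109 := ndS (p := 70774) (l := 4) rfl N70774 D209109
theorem N105910 : nd 105910 = n209110 := ndS (p := 70774) (l := 6) rfl N70774 D209110
theorem N105911 : nd 105911 = n209111 := ndS (p := 70775) (l := 6) rfl N70775 D209111
theorem N105912 : nd 105912 = n209112 := ndS (p := 70776) (l := 5) rfl N70776 D209112
theorem N105913 : nd 105913 = n209113 := ndS (p := 70777) (l := 0) rfl N70777 D209113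
theorem N105914 : nd 105914 = n209114 := ndS (p := 70777) (l := 7) rfl N70777 D209114
theorem N105915 : nd 105915 = n209115 := ndS (p := 70780) (l := 0) rfl N70780 D209115
theorem N105916 : nd 105916 = n209116 := ndS (p := 70780) (l := 1) rfl N70780 D209116
theorem N105917 : nd 105917 = n209117 := ndS (p := 70780) (l := 4) rfl N70780 D209117
theorem N105918 : nd 105918 = n209118 := ndS (p := 70780) (l := 7) rfl N70780 D209118
theorem N105919 : nd 105919 = n209119 := ndS (p := 70783) (l := 3) rfl N70783 D209119
theorem N105920 : nd 105920 = n209120 := ndS (p := 70783) (l := 5) rfl N70783 D209120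
theorem N105921 : nd 105921 = n209121 := ndS (p := 70783) (l := 7) rfl N70783 D209121
theorem N105922 : nd 105922 = n209122 := ndS (p := 70787) (l := 0) rfl N70787 D209122
theorem N105923 : nd 105923 = n209123 := ndS (p := 70789) (l := 4) rfl N70789 D209123
theorem N105924 : nd 105924 = n209124 := ndS (p := 70798) (l := 5) rfl N70798 D209124
theorem N105925 : nd 105925 = n209125 := ndS (p := 70802) (l := 0) rfl N70802 D209125
theorem N105926 : nd 105926 = n209126 := ndS (p := 70805) (l := 5) rfl N70805 D209126
theorem N105927 : nd 105927 = n209127 := ndS (p := 70806) (l := 5) rfl N70806 D209127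
theorem N105928 : nd 105928 = n209128 := ndS (p := 70807) (l := 0) rfl N70807 D209128
theorem N105929 : nd 105929 = n209129 := ndS (p := 70810) (l := 6) rfl N70810 D209129
theorem N105930 : nd 105930 = n209130 := ndS (p := 70811) (l := 5) rfl N70811 D209130
theorem N105931 : nd 105931 = n209131 := ndS (p := 70813) (l := 3) rfl N70813 D209131
theorem N105932 : nd 105932 = n209132 := ndS (p := 70813) (l := 6) rfl N70813 D209132
theorem N105933 : nd 105933 = n209133 := ndS (p := 70814) (l := 5) rfl N70814 D209133
theorem N105934 : nd 105934 = n209134 := ndS (p := 70823) (l := 4) rfl N70823 D209134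
theorem N105935 : nd 105935 = n209135 := ndS (p := 70826) (l := 3) rfl N70826 D209135
theorem N105936 : nd 105936 = n209136 := ndS (p := 70826) (l := 5) rfl N70826 D209136
theorem N105937 : nd 105937 = n209137 := ndS (p := 70827) (l := 3) rfl N70827 D209137
theorem N105938 : nd 105938 = n209138 := ndS (p := 70827) (l := 5) rfl N70827 D209138
theorem N105939 : nd 105939 = n209139 := ndS (p := 70827) (l := 6) rfl N70827 D209139
theorem N105940 : nd 105940 = n209140 := ndS (p := 70828) (l := 0) rfl N70828 D209140
theorem N105941 : nd 105941 = n209141 := ndS (p := 70828) (l := 1) rfl N70828 D209141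
theorem N105942 : nd 105942 = n209142 := ndS (p := 70828) (l := 7) rfl N70828 D209142
theorem N105943 : nd 105943 = n209143 := ndS (p := 70830) (l := 5) rfl N70830 D209143
theorem N105944 : nd 105944 = n209144 := ndS (p := 70832) (l := 3) rfl N70832 D209144
theorem N105945 : nd 105945 = n209145 := ndS (p := 70832) (l := 6) rfl N70832 D209145
theorem N105946 : nd 105946 = n209146 := ndS (p := 70838) (l := 5) rfl N70838 D209146
theorem N105947 : nd 105947 = n209147 := ndS (p := 70839) (l := 4) rfl N70839 D209147
theorem N105948 : nd 105948 = n209148 := ndS (p := 70840) (l := 4) rfl N70840 D209148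
theorem N105949 : nd 105949 = n209149 := ndS (p := 70843) (l := 4) rfl N70843 D209149
theorem N105950 : nd 105950 = n209150 := ndS (p := 70845) (l := 0) rfl N70845 D209150
theorem N105951 : nd 105951 = n209151 := ndS (p := 70846) (l := 3) rfl N70846 D209151
theorem N105952 : nd 105952 = n209152 := ndS (p := 70846) (l := 5) rfl N70846 D209152
theorem N105953 : nd 105953 = n209153 := ndS (p := 70847) (l := 3) rfl N70847 D209153
theorem N105954 : nd 105954 = n209154 := ndS (p := 70847) (l := 5) rfl N70847 D209154
theorem N105955 : nd 105955 = n209155 := ndS (p := 70847) (l := 6) rfl N70847 D209155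
theorem N105956 : nd 105956 = n209156 := ndS (p := 70848) (l := 4) rfl N70848 D209156
theorem N105957 : nd 105957 = n209157 := ndS (p := 70850) (l := 5) rfl N70850 D209157
theorem N105958 : nd 105958 = n209158 := ndS (p := 70851) (l := 4) rfl N70851 D209158
theorem N105959 : nd 105959 = n209159 := ndS (p := 70852) (l := 5) rfl N70852 D209159
theorem N105960 : nd 105960 = n209160 := ndS (p := 70853) (l := 5) rfl N70853 D209160
theorem N105961 : nd 105961 = n209161 := ndS (p := 70853) (l := 6) rfl N70853 D209161
theorem N105962 : nd 105962 = n209162 := ndS (p := 70854) (l := 0) rfl N70854 D209162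
theorem N105963 : nd 105963 = n209163 := ndS (p := 70854) (l := 1) rfl N70854 D209163
theorem N105964 : nd 105964 = n209164 := ndS (p := 70854) (l := 4) rfl N70854 D209164
theorem N105965 : nd 105965 = n209165 := ndS (p := 70854) (l := 6) rfl N70854 D209165
theorem N105966 : nd 105966 = n209166 := ndS (p := 70855) (l := 1) rfl N70855 D209166
theorem N105967 : nd 105967 = n209167 := ndS (p := 70855) (l := 5) rfl N70855 D209167
theorem N105968 : nd 105968 = n209168 := ndS (p := 70855) (l := 7) rfl N70855 D209168
theorem N105969 : nd 105969 = n209169 := ndS (p := 70856) (l := 0) rfl N70856 D209169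
theorem N105970 : nd 105970 = n209170 := ndS (p := 70856) (l := 5) rfl N70856 D209170
theorem N105971 : nd 105971 = n209171 := ndS (p := 70856) (l := 7) rfl N70856 D209171
theorem N105972 : nd 105972 = n209172 := ndS (p := 70857) (l := 4) rfl N70857 D209172
theorem N105973 : nd 105973 = n209173 := ndS (p := 70861) (l := 5) rfl N70861 D209173
theorem N105974 : nd 105974 = n209174 := ndS (p := 70861) (l := 6) rfl N70861 D209174
theorem N105975 : nd 105975 = n209175 := ndS (p := 70862) (l := 0) rfl N70862 D209175
theorem N105976 : nd 105976 = n209176 := ndS (p := 70863) (l := 0) rfl N70863 D209176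
theorem N105977 : nd 105977 = n209177 := ndS (p := 70863) (l := 7) rfl N70863 D209177
theorem N105978 : nd 105978 = n209178 := ndS (p := 70864) (l := 5) rfl N70864 D209178
theorem N105979 : nd 105979 = n209179 := ndS (p := 70864) (l := 7) rfl N70864 D209179
theorem N105980 : nd 105980 = n209180 := ndS (p := 70865) (l := 4) rfl N70865 D209180
theorem N105981 : nd 105981 = n209181 := ndS (p := 70869) (l := 2) rfl N70869 D209181
theorem N105982 : nd 105982 = n209183 := ndS (p := 70869) (l := 7) rfl N70869 D209183
theorem N105983 : nd 105983 = n209184 := ndS (p := 70870) (l := 6) rfl N70870 D209184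
theorem N105984 : nd 105984 = n209185 := ndS (p := 70870) (l := 7) rfl N70870 D209185
theorem N105985 : nd 105985 = n209186 := ndS (p := 70872) (l := 6) rfl N70872 D209186
theorem N105986 : nd 105986 = n209187 := ndS (p := 70874) (l := 6) rfl N70874 D209187
theorem N105987 : nd 105987 = n209188 := ndS (p := 70875) (l := 7) rfl N70875 D209188
theorem N105988 : nd 105988 = n209189 := ndS (p := 70878) (l := 3) rfl N70878 D209189
theorem N105989 : nd 105989 = n209190 := ndS (p := 70882) (l := 4) rfl N70882 D209190
theorem N105990 : nd 105990 = n209191 := ndS (p := 70883) (l := 5) rfl N70883 D209191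
theorem N105991 : nd 105991 = n209192 := ndS (p := 70884) (l := 3) rfl N70884 D209192
theorem N105992 : nd 105992 = n209193 := ndS (p := 70885) (l := 3) rfl N70885 D209193
theorem N105993 : nd 105993 = n209194 := ndS (p := 70885) (l := 6) rfl N70885 D209194
theorem N105994 : nd 105994 = n209195 := ndS (p := 70887) (l := 4) rfl N70887 D209195
theorem N105995 : nd 105995 = n209196 := ndS (p := 70888) (l := 3) rfl N70888 D209196
theorem N105996 : nd 105996 = n209197 := ndS (p := 70891) (l := 3) rfl N70891 D209197
theorem N105997 : nd 105997 = n209198 := ndS (p := 70893) (l := 5) rfl N70893 D209198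
theorem N105998 : nd 105998 = n209199 := ndS (p := 70894) (l := 5) rfl N70894 D209199
theorem N105999 : nd 105999 = n209200 := ndS (p := 70895) (l := 6) rfl N70895 D209200
theorem N106000 : nd 106000 = n209201 := ndS (p := 70896) (l := 0) rfl N70896 D209201
theorem N106001 : nd 106001 = n209202 := ndS (p := 70896) (l := 5) rfl N70896 D209202
theorem N106002 : nd 106002 = n209203 := ndS (p := 70896) (l := 7) rfl N70896 D209203
theorem N106003 : nd 106003 = n209204 := ndS (p := 70897) (l := 4) rfl N70897 D209204
theorem N106004 : nd 106004 = n209205 := ndS (p := 70899) (l := 6) rfl N70899 D209205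
theorem N106005 : nd 106005 = n209206 := ndS (p := 70900) (l := 3) rfl N70900 D209206
theorem N106006 : nd 106006 = n209207 := ndS (p := 70900) (l := 6) rfl N70900 D209207
theorem N106007 : nd 106007 = n209208 := ndS (p := 70901) (l := 6) rfl N70901 D209208
theorem N106008 : nd 106008 = n209209 := ndS (p := 70902) (l := 0) rfl N70902 D209209
theorem N106009 : nd 106009 = n209210 := ndS (p := 70902) (l := 5) rfl N70902 D209210
theorem N106010 : nd 106010 = n209211 := ndS (p := 70903) (l := 4) rfl N70903 D209211
theorem N106011 : nd 106011 = n209212 := ndS (p := 70907) (l := 4) rfl N70907 D209212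
theorem N106012 : nd 106012 = n209213 := ndS (p := 70907) (l := 6) rfl N70907 D209213
theorem N106013 : nd 106013 = n209214 := ndS (p := 70910) (l := 5) rfl N70910 D209214
theorem N106014 : nd 106014 = n209215 := ndS (p := 70912) (l := 2) rfl N70912 D209215
theorem N106015 : nd 106015 = n209216 := ndS (p := 70914) (l := 5) rfl N70914 D209216
theorem N106016 : nd 106016 = n209217 := ndS (p := 70915) (l := 0) rfl N70915 D209217
theorem N106017 : nd 106017 = n209218 := ndS (p := 70915) (l := 4) rfl N70915 D209218
theorem N106018 : nd 106018 = n209219 := ndS (p := 70916) (l := 5) rfl N70916 D209219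
theorem N106019 : nd 106019 = n209220 := ndS (p := 70918) (l := 2) rfl N70918 D209220
theorem N106020 : nd 106020 = n209221 := ndS (p := 70918) (l := 5) rfl N70918 D209221
theorem N106021 : nd 106021 = n209222 := ndS (p := 70919) (l := 4) rfl N70919 D209222
theorem N106022 : nd 106022 = n209223 := ndS (p := 70920) (l := 3) rfl N70920 D209223
theorem N106023 : nd 106023 = n209224 := ndS (p := 70920) (l := 4) rfl N70920 D209224
theorem N106024 : nd 106024 = n209225 := ndS (p := 70920) (l := 6) rfl N70920 D209225
theorem N106025 : nd 106025 = n209226 := ndS (p := 70921) (l := 3) rfl N70921 D209226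
theorem N106026 : nd 106026 = n209227 := ndS (p := 70921) (l := 4) rfl N70921 D209227
theorem N106027 : nd 106027 = n209228 := ndS (p := 70922) (l := 0) rfl N70922 D209228
theorem N106028 : nd 106028 = n209229 := ndS (p := 70922) (l := 1) rfl N70922 D209229
theorem N106029 : nd 106029 = n209230 := ndS (p := 70922) (l := 3) rfl N70922 D209230
theorem N106030 : nd 106030 = n209231 := ndS (p := 70922) (l := 5) rfl N70922 D209231
theorem N106031 : nd 106031 = n209232 := ndS (p := 70922) (l := 7) rfl N70922 D209232
theorem N106032 : nd 106032 = n209233 := ndS (p := 70923) (l := 6) rfl N70923 D209233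
theorem N106033 : nd 106033 = n209234 := ndS (p := 70924) (l := 4) rfl N70924 D209234
theorem N106034 : nd 106034 = n209235 := ndS (p := 70929) (l := 2) rfl N70929 D209235
theorem N106035 : nd 106035 = n209236 := ndS (p := 70929) (l := 6) rfl N70929 D209236
theorem N106036 : nd 106036 = n209237 := ndS (p := 70934) (l := 0) rfl N70934 D209237
theorem N106037 : nd 106037 = n209238 := ndS (p := 70934) (l := 5) rfl N70934 D209238
theorem N106038 : nd 106038 = n209239 := ndS (p := 70934) (l := 7) rfl N70934 D209239
theorem N106039 : nd 106039 = n209240 := ndS (p := 70935) (l := 3) rfl N70935 D209240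
theorem N106040 : nd 106040 = n209241 := ndS (p := 70935) (l := 6) rfl N70935 D209241
theorem N106041 : nd 106041 = n209242 := ndS (p := 70938) (l := 3) rfl N70938 D209242
theorem N106042 : nd 106042 = n209243 := ndS (p := 70938) (l := 5) rfl N70938 D209243
theorem N106043 : nd 106043 = n209244 := ndS (p := 70939) (l := 5) rfl N70939 D209244
theorem N106044 : nd 106044 = n209245 := ndS (p := 70940) (l := 0) rfl N70940 D209245
theorem N106045 : nd 106045 = n209246 := ndS (p := 70940) (l := 1) rfl N70940 D209246
theorem N106046 : nd 106046 = n209247 := ndS (p := 70940) (l := 4) rfl N70940 D209247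
theorem N106047 : nd 106047 = n209248 := ndS (p := 70940) (l := 7) rfl N70940 D209248
theorem N106048 : nd 106048 = n209249 := ndS (p := 70942) (l := 0) rfl N70942 D209249
theorem N106049 : nd 106049 = n209250 := ndS (p := 70942) (l := 2) rfl N70942 D209250
theorem N106050 : nd 106050 = n209251 := ndS (p := 70943) (l := 4) rfl N70943 D209251
theorem N106051 : nd 106051 = n209252 := ndS (p := 70945) (l := 3) rfl N70945 D209252
theorem N106052 : nd 106052 = n209253 := ndS (p := 70945) (l := 4) rfl N70945 D209253
theorem N106053 : nd 106053 = n209254 := ndS (p := 70945) (l := 6) rfl N70945 D209254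
theorem N106054 : nd 106054 = n209255 := ndS (p := 70946) (l := 4) rfl N70946 D209255
theorem N106055 : nd 106055 = n209256 := ndS (p := 70947) (l := 0) rfl N70947 D209256
theorem N106056 : nd 106056 = n209257 := ndS (p := 70947) (l := 1) rfl N70947 D209257
theorem N106057 : nd 106057 = n209258 := ndS (p := 70947) (l := 3) rfl N70947 D209258
theorem N106058 : nd 106058 = n209259 := ndS (p := 70947) (l := 7) rfl N70947 D209259
theorem N106059 : nd 106059 = n209260 := ndS (p := 70948) (l := 6) rfl N70948 D209260
theorem N106060 : nd 106060 = n209261 := ndS (p := 70952) (l := 6) rfl N70952 D209261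
theorem N106061 : nd 106061 = n209262 := ndS (p := 70953) (l := 0) rfl N70953 D209262
theorem N106062 : nd 106062 = n209263 := ndS (p := 70953) (l := 1) rfl N70953 D209263
theorem N106063 : nd 106063 = n209264 := ndS (p := 70957) (l := 4) rfl N70957 D209264
theorem N106064 : nd 106064 = n209265 := ndS (p := 70958) (l := 5) rfl N70958 D209265
theorem N106065 : nd 106065 = n209266 := ndS (p := 70961) (l := 6) rfl N70961 D209266
theorem N106066 : nd 106066 = n209267 := ndS (p := 70963) (l := 5) rfl N70963 D209267
theorem N106067 : nd 106067 = n209268 := ndS (p := 70970) (l := 6) rfl N70970 D209268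
theorem N106068 : nd 106068 = n209269 := ndS (p := 70972) (l := 2) rfl N70972 D209269
theorem N106069 : nd 106069 = n209270 := ndS (p := 70974) (l := 1) rfl N70974 D209270
theorem N106070 : nd 106070 = n209271 := ndS (p := 70975) (l := 6) rfl N70975 D209271
theorem N106071 : nd 106071 = n209272 := ndS (p := 70978) (l := 5) rfl N70978 D209272
theorem N106072 : nd 106072 = n209273 := ndS (p := 70979) (l := 6) rfl N70979 D209273
theorem N106073 : nd 106073 = n209274 := ndS (p := 70982) (l := 6) rfl N70982 D209274
theorem N106074 : nd 106074 = n209275 := ndS (p := 70983) (l := 3) rfl N70983 D209275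
theorem N106075 : nd 106075 = n209276 := ndS (p := 70983) (l := 6) rfl N70983 D209276
theorem N106076 : nd 106076 = n209277 := ndS (p := 70986) (l := 6) rfl N70986 D209277
theorem N106077 : nd 106077 = n209278 := ndS (p := 70987) (l := 5) rfl N70987 D209278
theorem N106078 : nd 106078 = n209279 := ndS (p := 70996) (l := 5) rfl N70996 D209279
theorem N106079 : nd 106079 = n209280 := ndS (p := 71000) (l := 2) rfl N71000 D209280
theorem N106080 : nd 106080 = n209281 := ndS (p := 71005) (l := 6) rfl N71005 D209281
theorem N106081 : nd 106081 = n209282 := ndS (p := 71007) (l := 1) rfl N71007 D209282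
theorem N106082 : nd 106082 = n209283 := ndS (p := 71007) (l := 5) rfl N71007 D209283
theorem N106083 : nd 106083 = n209284 := ndS (p := 71008) (l := 0) rfl N71008 D209284
theorem N106084 : nd 106084 = n209285 := ndS (p := 71008) (l := 4) rfl N71008 D209285
theorem N106085 : nd 106085 = n209286 := ndS (p := 71011) (l := 5) rfl N71011 D209286
theorem N106086 : nd 106086 = n209287 := ndS (p := 71013) (l := 1) rfl N71013 D209287
theorem N106087 : nd 106087 = n209288 := ndS (p := 71013) (l := 4) rfl N71013 D209288
theorem N106088 : nd 106088 = n209289 := ndS (p := 71013) (l := 7) rfl N71013 D209289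
theorem N106089 : nd 106089 = n209290 := ndS (p := 71015) (l := 2) rfl N71015 D209290
theorem N106090 : nd 106090 = n209291 := ndS (p := 71015) (l := 5) rfl N71015 D209291
theorem N106091 : nd 106091 = n209292 := ndS (p := 71017) (l := 4) rfl N71017 D209292
theorem N106092 : nd 106092 = n209293 := ndS (p := 71018) (l := 6) rfl N71018 D209293
theorem N106093 : nd 106093 = n209294 := ndS (p := 71029) (l := 6) rfl N71029 D209294
theorem N106094 : nd 106094 = n209295 := ndS (p := 71030) (l := 0) rfl N71030 D209295
theorem N106095 : nd 106095 = n209296 := ndS (p := 71030) (l := 1) rfl N71030 D209296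
theorem N106096 : nd 106096 = n209297 := ndS (p := 71031) (l := 4) rfl N71031 D209297
theorem N106097 : nd 106097 = n209298 := ndS (p := 71032) (l := 6) rfl N71032 D209298
theorem N106098 : nd 106098 = n209299 := ndS (p := 71034) (l := 4) rfl N71034 D209299
theorem N106099 : nd 106099 = n209300 := ndS (p := 71037) (l := 3) rfl N71037 D209300
theorem N106100 : nd 106100 = n209301 := ndS (p := 71045) (l := 0) rfl N71045 D209301
theorem N106101 : nd 106101 = n209302 := ndS (p := 71045) (l := 5) rfl N71045 D209302
theorem N106102 : nd 106102 = n209303 := ndS (p := 71047) (l := 4) rfl N71047 D209303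
theorem N106103 : nd 106103 = n209304 := ndS (p := 71047) (l := 5) rfl N71047 D209304
theorem N106104 : nd 106104 = n209305 := ndS (p := 71048) (l := 6) rfl N71048 D209305
theorem N106105 : nd 106105 = n209306 := ndS (p := 71050) (l := 4) rfl N71050 D209306
theorem N106106 : nd 106106 = n209307 := ndS (p := 71053) (l := 0) rfl N71053 D209307
theorem N106107 : nd 106107 = n209308 := ndS (p := 71053) (l := 7) rfl N71053 D209308
theorem N106108 : nd 106108 = n209309 := ndS (p := 71054) (l := 6) rfl N71054 D209309
theorem N106109 : nd 106109 = n209310 := ndS (p := 71056) (l := 6) rfl N71056 D209310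
theorem N106110 : nd 106110 = n209311 := ndS (p := 71058) (l := 7) rfl N71058 D209311
theorem N106111 : nd 106111 = n209312 := ndS (p := 71059) (l := 4) rfl N71059 D209312
theorem N106112 : nd 106112 = n209313 := ndS (p := 71059) (l := 6) rfl N71059 D209313
theorem N106113 : nd 106113 = n209314 := ndS (p := 71060) (l := 0) rfl N71060 D209314
theorem N106114 : nd 106114 = n209315 := ndS (p := 71060) (l := 1) rfl N71060 D209315
theorem N106115 : nd 106115 = n209316 := ndS (p := 71060) (l := 5) rfl N71060 D209316
theorem N106116 : nd 106116 = n209317 := ndS (p := 71060) (l := 7) rfl N71060 D209317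
theorem N106117 : nd 106117 = n209318 := ndS (p := 71061) (l := 0) rfl N71061 D209318
theorem N106118 : nd 106118 = n209319 := ndS (p := 71061) (l := 1) rfl N71061 D209319
theorem N106119 : nd 106119 = n209320 := ndS (p := 71061) (l := 2) rfl N71061 D209320
theorem N106120 : nd 106120 = n209321 := ndS (p := 71061) (l := 6) rfl N71061 D209321
theorem N106121 : nd 106121 = n209322 := ndS (p := 71062) (l := 1) rfl N71062 D209322
theorem N106122 : nd 106122 = n209323 := ndS (p := 71062) (l := 5) rfl N71062 D209323
theorem N106123 : nd 106123 = n209324 := ndS (p := 71062) (l := 7) rfl N71062 D209324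
theorem N106124 : nd 106124 = n209325 := ndS (p := 71063) (l := 4) rfl N71063 D209325
theorem N106125 : nd 106125 = n209326 := ndS (p := 71065) (l := 6) rfl N71065 D209326
theorem N106126 : nd 106126 = n209327 := ndS (p := 71069) (l := 5) rfl N71069 D209327
theorem N106127 : nd 106127 = n209328 := ndS (p := 71070) (l := 5) rfl N71070 D209328
theorem N106128 : nd 106128 = n209329 := ndS (p := 71070) (l := 6) rfl N71070 D209329
theorem N106129 : nd 106129 = n209330 := ndS (p := 71071) (l := 6) rfl N71071 D209330
theorem N106130 : nd 106130 = n209331 := ndS (p := 71072) (l := 1) rfl N71072 D209331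
theorem N106131 : nd 106131 = n209332 := ndS (p := 71072) (l := 5) rfl N71072 D209332
theorem N106132 : nd 106132 = n209333 := ndS (p := 71072) (l := 7) rfl N71072 D209333
theorem N106133 : nd 106133 = n209334 := ndS (p := 71073) (l := 1) rfl N71073 D209334
theorem N106134 : nd 106134 = n209335 := ndS (p := 71073) (l := 5) rfl N71073 D209335
theorem N106135 : nd 106135 = n209336 := ndS (p := 71073) (l := 7) rfl N71073 D209336
theorem N106136 : nd 106136 = n209337 := ndS (p := 71074) (l := 4) rfl N71074 D209337
theorem N106137 : nd 106137 = n209338 := ndS (p := 71074) (l := 7) rfl N71074 D209338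
theorem N106138 : nd 106138 = n209339 := ndS (p := 71077) (l := 1) rfl N71077 D209339
theorem N106139 : nd 106139 = n209340 := ndS (p := 71077) (l := 7) rfl N71077 D209340
theorem N106140 : nd 106140 = n209341 := ndS (p := 71078) (l := 4) rfl N71078 D209341
theorem N106141 : nd 106141 = n209342 := ndS (p := 71082) (l := 6) rfl N71082 D209342
theorem N106142 : nd 106142 = n209343 := ndS (p := 71083) (l := 5) rfl N71083 D209343
theorem N106143 : nd 106143 = n209344 := ndS (p := 71084) (l := 4) rfl N71084 D209344
theorem N106144 : nd 106144 = n209345 := ndS (p := 71086) (l := 5) rfl N71086 D209345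
theorem N106145 : nd 106145 = n209346 := ndS (p := 71086) (l := 6) rfl N71086 D209346
theorem N106146 : nd 106146 = n209347 := ndS (p := 71087) (l := 5) rfl N71087 D209347
theorem N106147 : nd 106147 = n209348 := ndS (p := 71087) (l := 6) rfl N71087 D209348
theorem N106148 : nd 106148 = n209349 := ndS (p := 71088) (l := 4) rfl N71088 D209349
theorem N106149 : nd 106149 = n209350 := ndS (p := 71089) (l := 1) rfl N71089 D209350
theorem N106150 : nd 106150 = n209351 := ndS (p := 71089) (l := 5) rfl N71089 D209351
theorem N106151 : nd 106151 = n209352 := ndS (p := 71089) (l := 7) rfl N71089 D209352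
theorem N106152 : nd 106152 = n209353 := ndS (p := 71091) (l := 4) rfl N71091 D209353
theorem N106153 : nd 106153 = n209354 := ndS (p := 71092) (l := 4) rfl N71092 D209354
theorem N106154 : nd 106154 = n209355 := ndS (p := 71093) (l := 0) rfl N71093 D209355
theorem N106155 : nd 106155 = n209356 := ndS (p := 71093) (l := 1) rfl N71093 D209356
theorem N106156 : nd 106156 = n209357 := ndS (p := 71094) (l := 3) rfl N71094 D209357
theorem N106157 : nd 106157 = n209358 := ndS (p := 71094) (l := 6) rfl N71094 D209358
theorem N106158 : nd 106158 = n209359 := ndS (p := 71095) (l := 3) rfl N71095 D209359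
theorem N106159 : nd 106159 = n209360 := ndS (p := 71095) (l := 6) rfl N71095 D209360
theorem N106160 : nd 106160 = n209361 := ndS (p := 71097) (l := 3) rfl N71097 D209361
theorem N106161 : nd 106161 = n209362 := ndS (p := 71097) (l := 4) rfl N71097 D209362
theorem N106162 : nd 106162 = n209363 := ndS (p := 71097) (l := 6) rfl N71097 D209363
theorem N106163 : nd 106163 = n209364 := ndS (p := 71098) (l := 4) rfl N71098 D209364
theorem N106164 : nd 106164 = n209365 := ndS (p := 71099) (l := 3) rfl N71099 D209365
theorem N106165 : nd 106165 = n209366 := ndS (p := 71101) (l := 3) rfl N71101 D209366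
theorem N106166 : nd 106166 = n209367 := ndS (p := 71101) (l := 4) rfl N71101 D209367
theorem N106167 : nd 106167 = n209368 := ndS (p := 71102) (l := 4) rfl N71102 D209368
theorem N106168 : nd 106168 = n209369 := ndS (p := 71106) (l := 1) rfl N71106 D209369
theorem N106169 : nd 106169 = n209370 := ndS (p := 71111) (l := 3) rfl N71111 D209370
theorem N106170 : nd 106170 = n209371 := ndS (p := 71111) (l := 4) rfl N71111 D209371
theorem N106171 : nd 106171 = n209372 := ndS (p := 71111) (l := 5) rfl N71111 D209372
theorem N106172 : nd 106172 = n209373 := ndS (p := 71112) (l := 5) rfl N71112 D209373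
theorem N106173 : nd 106173 = n209374 := ndS (p := 71112) (l := 6) rfl N71112 D209374
theorem N106174 : nd 106174 = n209375 := ndS (p := 71113) (l := 4) rfl N71113 D209375
theorem N106175 : nd 106175 = n209376 := ndS (p := 71113) (l := 6) rfl N71113 D209376
theorem N106176 : nd 106176 = n209377 := ndS (p := 71114) (l := 1) rfl N71114 D209377
theorem N106177 : nd 106177 = n209378 := ndS (p := 71115) (l := 0) rfl N71115 D209378
theorem N106178 : nd 106178 = n209379 := ndS (p := 71115) (l := 1) rfl N71115 D209379
theorem N106179 : nd 106179 = n209380 := ndS (p := 71115) (l := 7) rfl N71115 D209380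
theorem N106180 : nd 106180 = n209381 := ndS (p := 71117) (l := 3) rfl N71117 D209381
theorem N106181 : nd 106181 = n209382 := ndS (p := 71117) (l := 6) rfl N71117 D209382
theorem N106182 : nd 106182 = n209383 := ndS (p := 71119) (l := 1) rfl N71119 D209383
theorem N106183 : nd 106183 = n209384 := ndS (p := 71119) (l := 4) rfl N71119 D209384
theorem N106184 : nd 106184 = n209385 := ndS (p := 71120) (l := 0) rfl N71120 D209385
theorem N106185 : nd 106185 = n209386 := ndS (p := 71121) (l := 5) rfl N71121 D209386
theorem N106186 : nd 106186 = n209387 := ndS (p := 71121) (l := 6) rfl N71121 D209387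
theorem N106187 : nd 106187 = n209388 := ndS (p := 71122) (l := 3) rfl N71122 D209388
theorem N106188 : nd 106188 = n209389 := ndS (p := 71123) (l := 6) rfl N71123 D209389
theorem N106189 : nd 106189 = n209390 := ndS (p := 71125) (l := 4) rfl N71125 D209390
theorem N106190 : nd 106190 = n209391 := ndS (p := 71129) (l := 4) rfl N71129 D209391
theorem N106191 : nd 106191 = n209392 := ndS (p := 71130) (l := 6) rfl N71130 D209392
theorem N106192 : nd 106192 = n209393 := ndS (p := 71132) (l := 2) rfl N71132 D209393
theorem N106193 : nd 106193 = n209394 := ndS (p := 71132) (l := 4) rfl N71132 D209394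
theorem N106194 : nd 106194 = n209395 := ndS (p := 71133) (l := 2) rfl N71133 D209395
theorem N106195 : nd 106195 = n209396 := ndS (p := 71133) (l := 4) rfl N71133 D209396
theorem N106196 : nd 106196 = n209397 := ndS (p := 71133) (l := 6) rfl N71133 D209397
theorem N106197 : nd 106197 = n209398 := ndS (p := 71134) (l := 0) rfl N71134 D209398
theorem N106198 : nd 106198 = n209399 := ndS (p := 71134) (l := 1) rfl N71134 D209399
theorem N106199 : nd 106199 = n209400 := ndS (p := 71138) (l := 6) rfl N71138 D209400
theorem N106200 : nd 106200 = n209401 := ndS (p := 71140) (l := 3) rfl N71140 D209401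
theorem N106201 : nd 106201 = n209402 := ndS (p := 71140) (l := 5) rfl N71140 D209402
theorem N106202 : nd 106202 = n209403 := ndS (p := 71141) (l := 5) rfl N71141 D209403
theorem N106203 : nd 106203 = n209404 := ndS (p := 71141) (l := 6) rfl N71141 D209404
theorem N106204 : nd 106204 = n209405 := ndS (p := 71142) (l := 0) rfl N71142 D209405
theorem N106205 : nd 106205 = n209406 := ndS (p := 71142) (l := 1) rfl N71142 D209406
theorem N106206 : nd 106206 = n209407 := ndS (p := 71142) (l := 4) rfl N71142 D209407
theorem N106207 : nd 106207 = n209408 := ndS (p := 71144) (l := 2) rfl N71144 D209408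
theorem N106208 : nd 106208 = n209409 := ndS (p := 71144) (l := 5) rfl N71144 D209409
theorem N106209 : nd 106209 = n209410 := ndS (p := 71145) (l := 6) rfl N71145 D209410
theorem N106210 : nd 106210 = n209411 := ndS (p := 71146) (l := 4) rfl N71146 D209411
theorem N106211 : nd 106211 = n209412 := ndS (p := 71147) (l := 3) rfl N71147 D209412
theorem N106212 : nd 106212 = n209413 := ndS (p := 71147) (l := 4) rfl N71147 D209413
theorem N106213 : nd 106213 = n209414 := ndS (p := 71147) (l := 6) rfl N71147 D209414
theorem N106214 : nd 106214 = n209415 := ndS (p := 71148) (l := 0) rfl N71148 D209415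
theorem N106215 : nd 106215 = n209416 := ndS (p := 71148) (l := 1) rfl N71148 D209416
theorem N106216 : nd 106216 = n209417 := ndS (p := 71148) (l := 3) rfl N71148 D209417
theorem N106217 : nd 106217 = n209418 := ndS (p := 71149) (l := 2) rfl N71149 D209418
theorem N106218 : nd 106218 = n209419 := ndS (p := 71149) (l := 5) rfl N71149 D209419
theorem N106219 : nd 106219 = n209420 := ndS (p := 71150) (l := 6) rfl N71150 D209420
theorem N106220 : nd 106220 = n209421 := ndS (p := 71151) (l := 4) rfl N71151 D209421
theorem N106221 : nd 106221 = n209422 := ndS (p := 71151) (l := 6) rfl N71151 D209422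
theorem N106222 : nd 106222 = n209423 := ndS (p := 71154) (l := 3) rfl N71154 D209423
theorem N106223 : nd 106223 = n209424 := ndS (p := 71157) (l := 4) rfl N71157 D209424
theorem N106224 : nd 106224 = n209425 := ndS (p := 71159) (l := 4) rfl N71159 D209425
theorem N106225 : nd 106225 = n209426 := ndS (p := 71159) (l := 6) rfl N71159 D209426
theorem N106226 : nd 106226 = n209427 := ndS (p := 71160) (l := 3) rfl N71160 D209427
theorem N106227 : nd 106227 = n209428 := ndS (p := 71160) (l := 5) rfl N71160 D209428
theorem N106228 : nd 106228 = n209429 := ndS (p := 71160) (l := 6) rfl N71160 D209429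
theorem N106229 : nd 106229 = n209430 := ndS (p := 71163) (l := 6) rfl N71163 D209430
theorem N106230 : nd 106230 = n209431 := ndS (p := 71164) (l := 3) rfl N71164 D209431
theorem N106231 : nd 106231 = n209432 := ndS (p := 71168) (l := 4) rfl N71168 D209432
theorem N106232 : nd 106232 = n209433 := ndS (p := 71170) (l := 7) rfl N71170 D209433
theorem N106233 : nd 106233 = n209434 := ndS (p := 71171) (l := 3) rfl N71171 D209434
theorem N106234 : nd 106234 = n209435 := ndS (p := 71173) (l := 1) rfl N71173 D209435
theorem N106235 : nd 106235 = n209436 := ndS (p := 71173) (l := 6) rfl N71173 D209436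
theorem N106236 : nd 106236 = n209437 := ndS (p := 71174) (l := 0) rfl N71174 D209437
theorem N106237 : nd 106237 = n209438 := ndS (p := 71174) (l := 7) rfl N71174 D209438
theorem N106238 : nd 106238 = n209439 := ndS (p := 71175) (l := 3) rfl N71175 D209439
theorem N106239 : nd 106239 = n209440 := ndS (p := 71176) (l := 3) rfl N71176 D209440
theorem N106240 : nd 106240 = n209441 := ndS (p := 71176) (l := 5) rfl N71176 D209441
theorem N106241 : nd 106241 = n209442 := ndS (p := 71177) (l := 1) rfl N71177 D209442
theorem N106242 : nd 106242 = n209443 := ndS (p := 71177) (l := 7) rfl N71177 D209443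
theorem N106243 : nd 106243 = n209444 := ndS (p := 71179) (l := 2) rfl N71179 D209444
theorem N106244 : nd 106244 = n209445 := ndS (p := 71181) (l := 2) rfl N71181 D209445
theorem N106245 : nd 106245 = n209446 := ndS (p := 71181) (l := 4) rfl N71181 D209446
theorem N106246 : nd 106246 = n209447 := ndS (p := 71181) (l := 6) rfl N71181 D209447
theorem N106247 : nd 106247 = n209448 := ndS (p := 71182) (l := 1) rfl N71182 D209448
theorem N106248 : nd 106248 = n209449 := ndS (p := 71182) (l := 7) rfl N71182 D209449
theorem N106249 : nd 106249 = n209450 := ndS (p := 71183) (l := 3) rfl N71183 D209450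
theorem N106250 : nd 106250 = n209451 := ndS (p := 71183) (l := 4) rfl N71183 D209451
theorem N106251 : nd 106251 = n209452 := ndS (p := 71183) (l := 5) rfl N71183 D209452
theorem N106252 : nd 106252 = n209453 := ndS (p := 71183) (l := 6) rfl N71183 D209453
theorem N106253 : nd 106253 = n209454 := ndS (p := 71187) (l := 0) rfl N71187 D209454
theorem N106254 : nd 106254 = n209455 := ndS (p := 71187) (l := 2) rfl N71187 D209455
theorem N106255 : nd 106255 = n209456 := ndS (p := 71187) (l := 5) rfl N71187 D209456
theorem N106256 : nd 106256 = n209457 := ndS (p := 71188) (l := 4) rfl N71188 D209457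
theorem N106257 : nd 106257 = n209458 := ndS (p := 71189) (l := 1) rfl N71189 D209458
theorem N106258 : nd 106258 = n209459 := ndS (p := 71189) (l := 2) rfl N71189 D209459
theorem N106259 : nd 106259 = n209460 := ndS (p := 71189) (l := 5) rfl N71189 D209460
theorem N106260 : nd 106260 = n209461 := ndS (p := 71189) (l := 6) rfl N71189 D209461
theorem N106261 : nd 106261 = n209462 := ndS (p := 71190) (l := 4) rfl N71190 D209462
theorem N106262 : nd 106262 = n209463 := ndS (p := 71190) (l := 6) rfl N71190 D209463
theorem N106263 : nd 106263 = n209464 := ndS (p := 71192) (l := 3) rfl N71192 D209464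
theorem N106264 : nd 106264 = n209465 := ndS (p := 71192) (l := 4) rfl N71192 D209465
theorem N106265 : nd 106265 = n209466 := ndS (p := 71192) (l := 6) rfl N71192 D209466
theorem N106266 : nd 106266 = n209467 := ndS (p := 71193) (l := 1) rfl N71193 D209467
theorem N106267 : nd 106267 = n209468 := ndS (p := 71193) (l := 3) rfl N71193 D209468
theorem N106268 : nd 106268 = n209469 := ndS (p := 71193) (l := 5) rfl N71193 D209469
theorem N106269 : nd 106269 = n209470 := ndS (p := 71193) (l := 7) rfl N71193 D209470
theorem N106270 : nd 106270 = n209471 := ndS (p := 71194) (l := 6) rfl N71194 D209471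
theorem N106271 : nd 106271 = n209472 := ndS (p := 71197) (l := 2) rfl N71197 D209472
theorem N106272 : nd 106272 = n209473 := ndS (p := 71197) (l := 5) rfl N71197 D209473
theorem N106273 : nd 106273 = n209474 := ndS (p := 71197) (l := 6) rfl N71197 D209474
theorem N106274 : nd 106274 = n209475 := ndS (p := 71198) (l := 4) rfl N71198 D209475
theorem N106275 : nd 106275 = n209476 := ndS (p := 71200) (l := 1) rfl N71200 D209476
theorem N106276 : nd 106276 = n209477 := ndS (p := 71201) (l := 0) rfl N71201 D209477
theorem N106277 : nd 106277 = n209478 := ndS (p := 71203) (l := 4) rfl N71203 D209478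
theorem N106278 : nd 106278 = n209479 := ndS (p := 71204) (l := 0) rfl N71204 D209479
theorem N106279 : nd 106279 = n209480 := ndS (p := 71207) (l := 0) rfl N71207 D209480
theorem N106280 : nd 106280 = n209481 := ndS (p := 71207) (l := 1) rfl N71207 D209481
theorem N106281 : nd 106281 = n209482 := ndS (p := 71207) (l := 5) rfl N71207 D209482
theorem N106282 : nd 106282 = n209483 := ndS (p := 71208) (l := 3) rfl N71208 D209483
theorem N106283 : nd 106283 = n209484 := ndS (p := 71208) (l := 4) rfl N71208 D209484
theorem N106284 : nd 106284 = n209485 := ndS (p := 71210) (l := 4) rfl N71210 D209485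
theorem N106285 : nd 106285 = n209486 := ndS (p := 71212) (l := 5) rfl N71212 D209486
theorem N106286 : nd 106286 = n209487 := ndS (p := 71213) (l := 0) rfl N71213 D209487
theorem N106287 : nd 106287 = n209488 := ndS (p := 71213) (l := 4) rfl N71213 D209488
theorem N106288 : nd 106288 = n209489 := ndS (p := 71213) (l := 7) rfl N71213 D209489
theorem N106289 : nd 106289 = n209490 := ndS (p := 71215) (l := 2) rfl N71215 D209490
theorem N106290 : nd 106290 = n209491 := ndS (p := 71217) (l := 1) rfl N71217 D209491
theorem N106291 : nd 106291 = n209492 := ndS (p := 71217) (l := 2) rfl N71217 D209492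
theorem N106292 : nd 106292 = n209493 := ndS (p := 71218) (l := 3) rfl N71218 D209493
theorem N106293 : nd 106293 = n209494 := ndS (p := 71219) (l := 6) rfl N71219 D209494
theorem N106294 : nd 106294 = n209495 := ndS (p := 71221) (l := 5) rfl N71221 D209495
theorem N106295 : nd 106295 = n209496 := ndS (p := 71222) (l := 5) rfl N71222 D209496
theorem N106296 : nd 106296 = n209497 := ndS (p := 71224) (l := 5) rfl N71224 D209497
theorem N106297 : nd 106297 = n209498 := ndS (p := 71225) (l := 0) rfl N71225 D209498
theorem N106298 : nd 106298 = n209499 := ndS (p := 71225) (l := 1) rfl N71225 D209499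
theorem N106299 : nd 106299 = n209500 := ndS (p := 71229) (l := 6) rfl N71229 D209500
theorem N106300 : nd 106300 = n209501 := ndS (p := 71231) (l := 5) rfl N71231 D209501
theorem N106301 : nd 106301 = n209502 := ndS (p := 71232) (l := 3) rfl N71232 D209502
theorem N106302 : nd 106302 = n209503 := ndS (p := 71236) (l := 4) rfl N71236 D209503
theorem N106303 : nd 106303 = n209504 := ndS (p := 71237) (l := 0) rfl N71237 D209504
theorem N106304 : nd 106304 = n209505 := ndS (p := 71237) (l := 1) rfl N71237 D209505
theorem N106305 : nd 106305 = n209506 := ndS (p := 71237) (l := 7) rfl N71237 D209506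
theorem N106306 : nd 106306 = n209507 := ndS (p := 71241) (l := 7) rfl N71241 D209507
theorem N106307 : nd 106307 = n209508 := ndS (p := 71243) (l := 3) rfl N71243 D209508
theorem N106308 : nd 106308 = n209509 := ndS (p := 71243) (l := 6) rfl N71243 D209509
theorem N106309 : nd 106309 = n209510 := ndS (p := 71244) (l := 1) rfl N71244 D209510
theorem N106310 : nd 106310 = n209511 := ndS (p := 71244) (l := 5) rfl N71244 D209511
theorem N106311 : nd 106311 = n209512 := ndS (p := 71244) (l := 7) rfl N71244 D209512
theorem N106312 : nd 106312 = n209513 := ndS (p := 71245) (l := 6) rfl N71245 D209513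
theorem N106313 : nd 106313 = n209514 := ndS (p := 71247) (l := 4) rfl N71247 D209514
theorem N106314 : nd 106314 = n209515 := ndS (p := 71247) (l := 6) rfl N71247 D209515
theorem N106315 : nd 106315 = n209516 := ndS (p := 71248) (l := 4) rfl N71248 D209516
theorem N106316 : nd 106316 = n209517 := ndS (p := 71248) (l := 5) rfl N71248 D209517
theorem N106317 : nd 106317 = n209518 := ndS (p := 71248) (l := 6) rfl N71248 D209518
theorem N106318 : nd 106318 = n209519 := ndS (p := 71249) (l := 6) rfl N71249 D209519
theorem N106319 : nd 106319 = n209520 := ndS (p := 71250) (l := 4) rfl N71250 D209520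
theorem N106320 : nd 106320 = n209521 := ndS (p := 71253) (l := 0) rfl N71253 D209521
theorem N106321 : nd 106321 = n209522 := ndS (p := 71253) (l := 5) rfl N71253 D209522
theorem N106322 : nd 106322 = n209523 := ndS (p := 71253) (l := 7) rfl N71253 D209523
theorem N106323 : nd 106323 = n209524 := ndS (p := 71254) (l := 3) rfl N71254 D209524
theorem N106324 : nd 106324 = n209525 := ndS (p := 71254) (l := 4) rfl N71254 D209525
theorem N106325 : nd 106325 = n209526 := ndS (p := 71255) (l := 3) rfl N71255 D209526
theorem N106326 : nd 106326 = n209527 := ndS (p := 71255) (l := 4) rfl N71255 D209527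
theorem N106327 : nd 106327 = n209528 := ndS (p := 71255) (l := 6) rfl N71255 D209528
theorem N106328 : nd 106328 = n209529 := ndS (p := 71256) (l := 0) rfl N71256 D209529
theorem N106329 : nd 106329 = n209530 := ndS (p := 71257) (l := 1) rfl N71257 D209530
theorem N106330 : nd 106330 = n209531 := ndS (p := 71257) (l := 5) rfl N71257 D209531
theorem N106331 : nd 106331 = n209532 := ndS (p := 71257) (l := 7) rfl N71257 D209532
theorem N106332 : nd 106332 = n209533 := ndS (p := 71258) (l := 4) rfl N71258 D209533
theorem N106333 : nd 106333 = n209534 := ndS (p := 71258) (l := 5) rfl N71258 D209534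
theorem N106334 : nd 106334 = n209535 := ndS (p := 71258) (l := 6) rfl N71258 D209535
theorem N106335 : nd 106335 = n209536 := ndS (p := 71259) (l := 3) rfl N71259 D209536
theorem N106336 : nd 106336 = n209537 := ndS (p := 71259) (l := 4) rfl N71259 D209537
theorem N106337 : nd 106337 = n209538 := ndS (p := 71259) (l := 5) rfl N71259 D209538
theorem N106338 : nd 106338 = n209539 := ndS (p := 71260) (l := 0) rfl N71260 D209539
theorem N106339 : nd 106339 = n209540 := ndS (p := 71260) (l := 1) rfl N71260 D209540
theorem N106340 : nd 106340 = n209541 := ndS (p := 71260) (l := 4) rfl N71260 D209541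
theorem N106341 : nd 106341 = n209542 := ndS (p := 71260) (l := 7) rfl N71260 D209542
theorem N106342 : nd 106342 = n209543 := ndS (p := 71263) (l := 5) rfl N71263 D209543
theorem N106343 : nd 106343 = n209544 := ndS (p := 71264) (l := 0) rfl N71264 D209544
theorem N106344 : nd 106344 = n209545 := ndS (p := 71264) (l := 1) rfl N71264 D209545
theorem N106345 : nd 106345 = n209546 := ndS (p := 71264) (l := 4) rfl N71264 D209546
theorem N106346 : nd 106346 = n209547 := ndS (p := 71264) (l := 7) rfl N71264 D209547
theorem N106347 : nd 106347 = n209548 := ndS (p := 71266) (l := 3) rfl N71266 D209548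
theorem N106348 : nd 106348 = n209549 := ndS (p := 71266) (l := 5) rfl N71266 D209549
theorem N106349 : nd 106349 = n209550 := ndS (p := 71266) (l := 7) rfl N71266 D209550
theorem N106350 : nd 106350 = n209551 := ndS (p := 71267) (l := 6) rfl N71267 D209551
theorem N106351 : nd 106351 = n209552 := ndS (p := 71270) (l := 5) rfl N71270 D209552
theorem N106352 : nd 106352 = n209553 := ndS (p := 71270) (l := 6) rfl N71270 D209553
theorem N106353 : nd 106353 = n209554 := ndS (p := 71272) (l := 5) rfl N71272 D209554
theorem N106354 : nd 106354 = n209555 := ndS (p := 71273) (l := 5) rfl N71273 D209555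
theorem N106355 : nd 106355 = n209556 := ndS (p := 71274) (l := 1) rfl N71274 D209556
theorem N106356 : nd 106356 = n209557 := ndS (p := 71274) (l := 6) rfl N71274 D209557
theorem N106357 : nd 106357 = n209558 := ndS (p := 71275) (l := 5) rfl N71275 D209558
theorem N106358 : nd 106358 = n209559 := ndS (p := 71277) (l := 6) rfl N71277 D209559
theorem N106359 : nd 106359 = n209560 := ndS (p := 71278) (l := 5) rfl N71278 D209560
theorem N106360 : nd 106360 = n209561 := ndS (p := 71280) (l := 5) rfl N71280 D209561
theorem N106361 : nd 106361 = n209562 := ndS (p := 71281) (l := 7) rfl N71281 D209562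
theorem N106362 : nd 106362 = n209563 := ndS (p := 71284) (l := 5) rfl N71284 D209563
theorem N106363 : nd 106363 = n209564 := ndS (p := 71285) (l := 0) rfl N71285 D209564
theorem N106364 : nd 106364 = n209565 := ndS (p := 71285) (l := 4) rfl N71285 D209565
theorem N106365 : nd 106365 = n209566 := ndS (p := 71286) (l := 3) rfl N71286 D209566
theorem N106366 : nd 106366 = n209567 := ndS (p := 71286) (l := 6) rfl N71286 D209567
theorem N106367 : nd 106367 = n209568 := ndS (p := 71287) (l := 3) rfl N71287 D209568
theorem N106368 : nd 106368 = n209569 := ndS (p := 71287) (l := 6) rfl N71287 D209569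
theorem N106369 : nd 106369 = n209570 := ndS (p := 71289) (l := 0) rfl N71289 D209570
theorem N106370 : nd 106370 = n209571 := ndS (p := 71289) (l := 1) rfl N71289 D209571
theorem N106371 : nd 106371 = n209572 := ndS (p := 71290) (l := 2) rfl N71290 D209572
theorem N106372 : nd 106372 = n209573 := ndS (p := 71290) (l := 4) rfl N71290 D209573
theorem N106373 : nd 106373 = n209574 := ndS (p := 71291) (l := 6) rfl N71291 D209574
theorem N106374 : nd 106374 = n209575 := ndS (p := 71292) (l := 7) rfl N71292 D209575
theorem N106375 : nd 106375 = n209576 := ndS (p := 71293) (l := 2) rfl N71293 D209576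
theorem N106376 : nd 106376 = n209577 := ndS (p := 71293) (l := 4) rfl N71293 D209577
theorem N106377 : nd 106377 = n209578 := ndS (p := 71293) (l := 6) rfl N71293 D209578
theorem N106378 : nd 106378 = n209579 := ndS (p := 71294) (l := 3) rfl N71294 D209579
theorem N106379 : nd 106379 = n209580 := ndS (p := 71295) (l := 0) rfl N71295 D209580
theorem N106380 : nd 106380 = n209581 := ndS (p := 71295) (l := 5) rfl N71295 D209581
theorem N106381 : nd 106381 = n209582 := ndS (p := 71295) (l := 7) rfl N71295 D209582
theorem N106382 : nd 106382 = n209583 := ndS (p := 71296) (l := 3) rfl N71296 D209583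
theorem N106383 : nd 106383 = n209584 := ndS (p := 71297) (l := 4) rfl N71297 D209584
theorem N106384 : nd 106384 = n209585 := ndS (p := 71299) (l := 6) rfl N71299 D209585
theorem N106385 : nd 106385 = n209586 := ndS (p := 71302) (l := 3) rfl N71302 D209586
theorem N106386 : nd 106386 = n209587 := ndS (p := 71302) (l := 4) rfl N71302 D209587
theorem N106387 : nd 106387 = n209588 := ndS (p := 71303) (l := 4) rfl N71303 D209588
theorem N106388 : nd 106388 = n209589 := ndS (p := 71303) (l := 6) rfl N71303 D209589
theorem N106389 : nd 106389 = n209590 := ndS (p := 71304) (l := 6) rfl N71304 D209590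
theorem N106390 : nd 106390 = n209591 := ndS (p := 71305) (l := 3) rfl N71305 D209591
theorem N106391 : nd 106391 = n209592 := ndS (p := 71307) (l := 1) rfl N71307 D209592
theorem N106392 : nd 106392 = n209593 := ndS (p := 71309) (l := 0) rfl N71309 D209593
theorem N106393 : nd 106393 = n209594 := ndS (p := 71310) (l := 0) rfl N71310 D209594
theorem N106394 : nd 106394 = n209595 := ndS (p := 71310) (l := 1) rfl N71310 D209595
theorem N106395 : nd 106395 = n209596 := ndS (p := 71310) (l := 5) rfl N71310 D209596
theorem N106396 : nd 106396 = n209597 := ndS (p := 71311) (l := 5) rfl N71311 D209597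
theorem N106397 : nd 106397 = n209598 := ndS (p := 71311) (l := 6) rfl N71311 D209598
theorem N106398 : nd 106398 = n209599 := ndS (p := 71312) (l := 5) rfl N71312 D209599
theorem N106399 : nd 106399 = n209600 := ndS (p := 71313) (l := 0) rfl N71313 D209600
theorem N106400 : nd 106400 = n209601 := ndS (p := 71313) (l := 1) rfl N71313 D209601
theorem N106401 : nd 106401 = n209602 := ndS (p := 71313) (l := 4) rfl N71313 D209602
theorem N106402 : nd 106402 = n209603 := ndS (p := 71313) (l := 7) rfl N71313 D209603
theorem N106403 : nd 106403 = n209604 := ndS (p := 71315) (l := 5) rfl N71315 D209604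
theorem N106404 : nd 106404 = n209605 := ndS (p := 71316) (l := 3) rfl N71316 D209605
theorem N106405 : nd 106405 = n209606 := ndS (p := 71316) (l := 5) rfl N71316 D209606
theorem N106406 : nd 106406 = n209607 := ndS (p := 71316) (l := 6) rfl N71316 D209607
theorem N106407 : nd 106407 = n209608 := ndS (p := 71317) (l := 3) rfl N71317 D209608
theorem N106408 : nd 106408 = n209609 := ndS (p := 71317) (l := 5) rfl N71317 D209609
theorem N106409 : nd 106409 = n209610 := ndS (p := 71317) (l := 6) rfl N71317 D209610
theorem N106410 : nd 106410 = n209611 := ndS (p := 71318) (l := 0) rfl N71318 D209611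
theorem N106411 : nd 106411 = n209612 := ndS (p := 71318) (l := 1) rfl N71318 D209612
theorem N106412 : nd 106412 = n209613 := ndS (p := 71318) (l := 4) rfl N71318 D209613
theorem N106413 : nd 106413 = n209614 := ndS (p := 71319) (l := 2) rfl N71319 D209614
theorem N106414 : nd 106414 = n209615 := ndS (p := 71320) (l := 3) rfl N71320 D209615
theorem N106415 : nd 106415 = n209616 := ndS (p := 71320) (l := 5) rfl N71320 D209616
theorem N106416 : nd 106416 = n209617 := ndS (p := 71320) (l := 6) rfl N71320 D209617
theorem N106417 : nd 106417 = n209619 := ndS (p := 71323) (l := 1) rfl N71323 D209619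
theorem N106418 : nd 106418 = n209620 := ndS (p := 71323) (l := 2) rfl N71323 D209620
theorem N106419 : nd 106419 = n209621 := ndS (p := 71323) (l := 4) rfl N71323 D209621
theorem N106420 : nd 106420 = n209622 := ndS (p := 71323) (l := 5) rfl N71323 D209622
theorem N106421 : nd 106421 = n209623 := ndS (p := 71323) (l := 6) rfl N71323 D209623
theorem N106422 : nd 106422 = n209624 := ndS (p := 71324) (l := 3) rfl N71324 D209624
theorem N106423 : nd 106423 = n209625 := ndS (p := 71324) (l := 5) rfl N71324 D209625
theorem N106424 : nd 106424 = n209626 := ndS (p := 71324) (l := 6) rfl N71324 D209626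
theorem N106425 : nd 106425 = n209627 := ndS (p := 71326) (l := 0) rfl N71326 D209627
theorem N106426 : nd 106426 = n209628 := ndS (p := 71326) (l := 7) rfl N71326 D209628
theorem N106427 : nd 106427 = n209629 := ndS (p := 71327) (l := 6) rfl N71327 D209629
theorem N106428 : nd 106428 = n209630 := ndS (p := 71328) (l := 6) rfl N71328 D209630
theorem N106429 : nd 106429 = n209631 := ndS (p := 71331) (l := 4) rfl N71331 D209631
theorem N106430 : nd 106430 = n209632 := ndS (p := 71332) (l := 3) rfl N71332 D209632
theorem N106431 : nd 106431 = n209633 := ndS (p := 71332) (l := 4) rfl N71332 D209633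
theorem N106432 : nd 106432 = n209634 := ndS (p := 71335) (l := 3) rfl N71335 D209634
theorem N106433 : nd 106433 = n209635 := ndS (p := 71335) (l := 6) rfl N71335 D209635
theorem N106434 : nd 106434 = n209636 := ndS (p := 71336) (l := 7) rfl N71336 D209636
theorem N106435 : nd 106435 = n209637 := ndS (p := 71338) (l := 6) rfl N71338 D209637
theorem N106436 : nd 106436 = n209638 := ndS (p := 71344) (l := 3) rfl N71344 D209638
theorem N106437 : nd 106437 = n209639 := ndS (p := 71344) (l := 5) rfl N71344 D209639
theorem N106438 : nd 106438 = n209640 := ndS (p := 71355) (l := 4) rfl N71355 D209640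
theorem N106439 : nd 106439 = n209641 := ndS (p := 71356) (l := 6) rfl N71356 D209641
theorem N106440 : nd 106440 = n209642 := ndS (p := 71361) (l := 3) rfl N71361 D209642
theorem N106441 : nd 106441 = n209643 := ndS (p := 71361) (l := 5) rfl N71361 D209643
theorem N106442 : nd 106442 = n209644 := ndS (p := 71361) (l := 6) rfl N71361 D209644
theorem N106443 : nd 106443 = n209645 := ndS (p := 71362) (l := 4) rfl N71362 D209645
theorem N106444 : nd 106444 = n209646 := ndS (p := 71364) (l := 5) rfl N71364 D209646
theorem N106445 : nd 106445 = n209647 := ndS (p := 71366) (l := 0) rfl N71366 D209647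
theorem N106446 : nd 106446 = n209648 := ndS (p := 71366) (l := 1) rfl N71366 D209648
theorem N106447 : nd 106447 = n209649 := ndS (p := 71366) (l := 5) rfl N71366 D209649
theorem N106448 : nd 106448 = n209650 := ndS (p := 71368) (l := 4) rfl N71368 D209650
theorem N106449 : nd 106449 = n209651 := ndS (p := 71368) (l := 6) rfl N71368 D209651
theorem N106450 : nd 106450 = n209652 := ndS (p := 71370) (l := 4) rfl N71370 D209652
theorem N106451 : nd 106451 = n209653 := ndS (p := 71373) (l := 0) rfl N71373 D209653
theorem N106452 : nd 106452 = n209654 := ndS (p := 71373) (l := 2) rfl N71373 D209654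
theorem N106453 : nd 106453 = n209655 := ndS (p := 71373) (l := 5) rfl N71373 D209655
theorem N106454 : nd 106454 = n209656 := ndS (p := 71373) (l := 7) rfl N71373 D209656
theorem N106455 : nd 106455 = n209657 := ndS (p := 71374) (l := 4) rfl N71374 D209657
theorem N106456 : nd 106456 = n209658 := ndS (p := 71374) (l := 6) rfl N71374 D209658
theorem N106457 : nd 106457 = n209659 := ndS (p := 71376) (l := 0) rfl N71376 D209659
theorem N106458 : nd 106458 = n209660 := ndS (p := 71376) (l := 1) rfl N71376 D209660
theorem N106459 : nd 106459 = n209661 := ndS (p := 71376) (l := 2) rfl N71376 D209661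
theorem N106460 : nd 106460 = n209662 := ndS (p := 71377) (l := 4) rfl N71377 D209662
theorem N106461 : nd 106461 = n209663 := ndS (p := 71378) (l := 3) rfl N71378 D209663
theorem N106462 : nd 106462 = n209664 := ndS (p := 71378) (l := 6) rfl N71378 D209664
theorem N106463 : nd 106463 = n209665 := ndS (p := 71380) (l := 0) rfl N71380 D209665
theorem N106464 : nd 106464 = n209666 := ndS (p := 71380) (l := 1) rfl N71380 D209666
theorem N106465 : nd 106465 = n209667 := ndS (p := 71380) (l := 7) rfl N71380 D209667
theorem N106466 : nd 106466 = n209668 := ndS (p := 71381) (l := 6) rfl N71381 D209668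
theorem N106467 : nd 106467 = n209669 := ndS (p := 71382) (l := 6) rfl N71382 D209669
theorem N106468 : nd 106468 = n209670 := ndS (p := 71384) (l := 2) rfl N71384 D209670
theorem N106469 : nd 106469 = n209671 := ndS (p := 71385) (l := 6) rfl N71385 D209671
theorem N106470 : nd 106470 = n209672 := ndS (p := 71388) (l := 3) rfl N71388 D209672
theorem N106471 : nd 106471 = n209673 := ndS (p := 71388) (l := 4) rfl N71388 D209673
theorem N106472 : nd 106472 = n209674 := ndS (p := 71390) (l := 0) rfl N71390 D209674
theorem N106473 : nd 106473 = n209675 := ndS (p := 71390) (l := 2) rfl N71390 D209675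
theorem N106474 : nd 106474 = n209676 := ndS (p := 71390) (l := 5) rfl N71390 D209676
theorem N106475 : nd 106475 = n209677 := ndS (p := 71391) (l := 4) rfl N71391 D209677
theorem N106476 : nd 106476 = n209678 := ndS (p := 71392) (l := 1) rfl N71392 D209678
theorem N106477 : nd 106477 = n209679 := ndS (p := 71392) (l := 2) rfl N71392 D209679
theorem N106478 : nd 106478 = n209680 := ndS (p := 71393) (l := 4) rfl N71393 D209680
theorem N106479 : nd 106479 = n209681 := ndS (p := 71394) (l := 3) rfl N71394 D209681
theorem N106480 : nd 106480 = n209682 := ndS (p := 71394) (l := 4) rfl N71394 D209682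
theorem N106481 : nd 106481 = n209683 := ndS (p := 71394) (l := 6) rfl N71394 D209683
theorem N106482 : nd 106482 = n209684 := ndS (p := 71395) (l := 0) rfl N71395 D209684
theorem N106483 : nd 106483 = n209685 := ndS (p := 71396) (l := 6) rfl N71396 D209685
theorem N106484 : nd 106484 = n209686 := ndS (p := 71398) (l := 5) rfl N71398 D209686
theorem N106485 : nd 106485 = n209687 := ndS (p := 71399) (l := 4) rfl N71399 D209687
theorem N106486 : nd 106486 = n209688 := ndS (p := 71401) (l := 5) rfl N71401 D209688
theorem N106487 : nd 106487 = n209689 := ndS (p := 71402) (l := 5) rfl N71402 D209689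
theorem N106488 : nd 106488 = n209690 := ndS (p := 71402) (l := 6) rfl N71402 D209690
theorem N106489 : nd 106489 = n209691 := ndS (p := 71403) (l := 5) rfl N71403 D209691
theorem N106490 : nd 106490 = n209692 := ndS (p := 71404) (l := 3) rfl N71404 D209692
theorem N106491 : nd 106491 = n209693 := ndS (p := 71404) (l := 5) rfl N71404 D209693
theorem N106492 : nd 106492 = n209694 := ndS (p := 71405) (l := 3) rfl N71405 D209694
theorem N106493 : nd 106493 = n209695 := ndS (p := 71405) (l := 5) rfl N71405 D209695
theorem N106494 : nd 106494 = n209696 := ndS (p := 71406) (l := 0) rfl N71406 D209696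
theorem N106495 : nd 106495 = n209697 := ndS (p := 71406) (l := 4) rfl N71406 D209697
theorem N106496 : nd 106496 = n209698 := ndS (p := 71408) (l := 3) rfl N71408 D209698
theorem N106497 : nd 106497 = n209699 := ndS (p := 71408) (l := 5) rfl N71408 D209699
theorem N106498 : nd 106498 = n209700 := ndS (p := 71411) (l := 0) rfl N71411 D209700
theorem N106499 : nd 106499 = n209701 := ndS (p := 71411) (l := 2) rfl N71411 D209701
theorem N106500 : nd 106500 = n209702 := ndS (p := 71412) (l := 4) rfl N71412 D209702
theorem N106501 : nd 106501 = n209703 := ndS (p := 71413) (l := 1) rfl N71413 D209703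
theorem N106502 : nd 106502 = n209704 := ndS (p := 71413) (l := 2) rfl N71413 D209704
theorem N106503 : nd 106503 = n209705 := ndS (p := 71413) (l := 4) rfl N71413 D209705
theorem N106504 : nd 106504 = n209706 := ndS (p := 71413) (l := 5) rfl N71413 D209706
theorem N106505 : nd 106505 = n209707 := ndS (p := 71414) (l := 4) rfl N71414 D209707
theorem N106506 : nd 106506 = n209708 := ndS (p := 71415) (l := 3) rfl N71415 D209708
theorem N106507 : nd 106507 = n209709 := ndS (p := 71416) (l := 4) rfl N71416 D209709
theorem N106508 : nd 106508 = n209710 := ndS (p := 71417) (l := 0) rfl N71417 D209710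
theorem N106509 : nd 106509 = n209711 := ndS (p := 71417) (l := 1) rfl N71417 D209711
theorem N106510 : nd 106510 = n209712 := ndS (p := 71417) (l := 3) rfl N71417 D209712
theorem N106511 : nd 106511 = n209713 := ndS (p := 71419) (l := 6) rfl N71419 D209713
theorem N106512 : nd 106512 = n209714 := ndS (p := 71420) (l := 4) rfl N71420 D209714
theorem N106513 : nd 106513 = n209715 := ndS (p := 71420) (l := 6) rfl N71420 D209715
theorem N106514 : nd 106514 = n209716 := ndS (p := 71421) (l := 5) rfl N71421 D209716
theorem N106515 : nd 106515 = n209717 := ndS (p := 71422) (l := 4) rfl N71422 D209717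
theorem N106516 : nd 106516 = n209718 := ndS (p := 71423) (l := 6) rfl N71423 D209718
theorem N106517 : nd 106517 = n209719 := ndS (p := 71424) (l := 4) rfl N71424 D209719
theorem N106518 : nd 106518 = n209720 := ndS (p := 71425) (l := 5) rfl N71425 D209720
theorem N106519 : nd 106519 = n209721 := ndS (p := 71426) (l := 1) rfl N71426 D209721
theorem N106520 : nd 106520 = n209722 := ndS (p := 71426) (l := 7) rfl N71426 D209722
theorem N106521 : nd 106521 = n209723 := ndS (p := 71427) (l := 4) rfl N71427 D209723
theorem N106522 : nd 106522 = n209724 := ndS (p := 71428) (l := 1) rfl N71428 D209724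
theorem N106523 : nd 106523 = n209725 := ndS (p := 71429) (l := 3) rfl N71429 D209725
theorem N106524 : nd 106524 = n209726 := ndS (p := 71429) (l := 4) rfl N71429 D209726
theorem N106525 : nd 106525 = n209727 := ndS (p := 71429) (l := 5) rfl N71429 D209727
theorem N106526 : nd 106526 = n209728 := ndS (p := 71430) (l := 4) rfl N71430 D209728
theorem N106527 : nd 106527 = n209729 := ndS (p := 71431) (l := 0) rfl N71431 D209729
theorem N106528 : nd 106528 = n209730 := ndS (p := 71431) (l := 1) rfl N71431 D209730
theorem N106529 : nd 106529 = n209731 := ndS (p := 71431) (l := 4) rfl N71431 D209731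
theorem N106530 : nd 106530 = n209732 := ndS (p := 71431) (l := 7) rfl N71431 D209732
theorem N106531 : nd 106531 = n209733 := ndS (p := 71434) (l := 6) rfl N71434 D209733
theorem N106532 : nd 106532 = n209734 := ndS (p := 71435) (l := 3) rfl N71435 D209734
theorem N106533 : nd 106533 = n209735 := ndS (p := 71435) (l := 5) rfl N71435 D209735
theorem N106534 : nd 106534 = n209736 := ndS (p := 71436) (l := 6) rfl N71436 D209736
theorem N106535 : nd 106535 = n209737 := ndS (p := 71438) (l := 4) rfl N71438 D209737
theorem N106536 : nd 106536 = n209738 := ndS (p := 71438) (l := 6) rfl N71438 D209738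
theorem N106537 : nd 106537 = n209739 := ndS (p := 71439) (l := 5) rfl N71439 D209739
theorem N106538 : nd 106538 = n209740 := ndS (p := 71439) (l := 6) rfl N71439 D209740
theorem N106539 : nd 106539 = n209741 := ndS (p := 71443) (l := 4) rfl N71443 D209741
theorem N106540 : nd 106540 = n209742 := ndS (p := 71443) (l := 6) rfl N71443 D209742
theorem N106541 : nd 106541 = n209743 := ndS (p := 71444) (l := 5) rfl N71444 D209743
theorem N106542 : nd 106542 = n209744 := ndS (p := 71446) (l := 5) rfl N71446 D209744
theorem N106543 : nd 106543 = n209745 := ndS (p := 71446) (l := 6) rfl N71446 D209745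
theorem N106544 : nd 106544 = n209746 := ndS (p := 71447) (l := 0) rfl N71447 D209746
theorem N106545 : nd 106545 = n209747 := ndS (p := 71447) (l := 1) rfl N71447 D209747
theorem N106546 : nd 106546 = n209748 := ndS (p := 71447) (l := 5) rfl N71447 D209748
theorem N106547 : nd 106547 = n209749 := ndS (p := 71447) (l := 7) rfl N71447 D209749
theorem N106548 : nd 106548 = n209750 := ndS (p := 71448) (l := 4) rfl N71448 D209750
theorem N106549 : nd 106549 = n209751 := ndS (p := 71448) (l := 5) rfl N71448 D209751
theorem N106550 : nd 106550 = n209752 := ndS (p := 71449) (l := 3) rfl N71449 D209752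
theorem N106551 : nd 106551 = n209753 := ndS (p := 71449) (l := 4) rfl N71449 D209753
theorem N106552 : nd 106552 = n209754 := ndS (p := 71449) (l := 5) rfl N71449 D209754
theorem N106553 : nd 106553 = n209755 := ndS (p := 71450) (l := 0) rfl N71450 D209755
theorem N106554 : nd 106554 = n209756 := ndS (p := 71450) (l := 1) rfl N71450 D209756
theorem N106555 : nd 106555 = n209757 := ndS (p := 71450) (l := 4) rfl N71450 D209757
theorem N106556 : nd 106556 = n209758 := ndS (p := 71452) (l := 3) rfl N71452 D209758
theorem N106557 : nd 106557 = n209759 := ndS (p := 71452) (l := 5) rfl N71452 D209759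
theorem N106558 : nd 106558 = n209760 := ndS (p := 71453) (l := 4) rfl N71453 D209760
theorem N106559 : nd 106559 = n209761 := ndS (p := 71455) (l := 3) rfl N71455 D209761
theorem N106560 : nd 106560 = n209762 := ndS (p := 71455) (l := 6) rfl N71455 D209762
theorem N106561 : nd 106561 = n209763 := ndS (p := 71458) (l := 5) rfl N71458 D209763
theorem N106562 : nd 106562 = n209764 := ndS (p := 71459) (l := 6) rfl N71459 D209764
theorem N106563 : nd 106563 = n209765 := ndS (p := 71460) (l := 3) rfl N71460 D209765
theorem N106564 : nd 106564 = n209766 := ndS (p := 71460) (l := 6) rfl N71460 D209766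
theorem N106565 : nd 106565 = n209767 := ndS (p := 71462) (l := 0) rfl N71462 D209767
theorem N106566 : nd 106566 = n209768 := ndS (p := 71462) (l := 1) rfl N71462 D209768
theorem N106567 : nd 106567 = n209769 := ndS (p := 71462) (l := 5) rfl N71462 D209769
theorem N106568 : nd 106568 = n209770 := ndS (p := 71462) (l := 7) rfl N71462 D209770
theorem N106569 : nd 106569 = n209771 := ndS (p := 71463) (l := 4) rfl N71463 D209771
theorem N106570 : nd 106570 = n209772 := ndS (p := 71466) (l := 0) rfl N71466 D209772
theorem N106571 : nd 106571 = n209773 := ndS (p := 71466) (l := 7) rfl N71466 D209773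
theorem N106572 : nd 106572 = n209774 := ndS (p := 71470) (l := 6) rfl N71470 D209774
theorem N106573 : nd 106573 = n209775 := ndS (p := 71473) (l := 7) rfl N71473 D209775
theorem N106574 : nd 106574 = n209776 := ndS (p := 71475) (l := 1) rfl N71475 D209776
theorem N106575 : nd 106575 = n209777 := ndS (p := 71476) (l := 5) rfl N71476 D209777
theorem N106576 : nd 106576 = n209778 := ndS (p := 71477) (l := 0) rfl N71477 D209778
theorem N106577 : nd 106577 = n209780 := ndS (p := 71483) (l := 4) rfl N71483 D209780
theorem N106578 : nd 106578 = n209781 := ndS (p := 71483) (l := 5) rfl N71483 D209781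
theorem N106579 : nd 106579 = n209782 := ndS (p := 71485) (l := 1) rfl N71485 D209782
theorem N106580 : nd 106580 = n209783 := ndS (p := 71485) (l := 4) rfl N71485 D209783
theorem N106581 : nd 106581 = n209784 := ndS (p := 71486) (l := 1) rfl N71486 D209784
theorem N106582 : nd 106582 = n209785 := ndS (p := 71486) (l := 4) rfl N71486 D209785
theorem N106583 : nd 106583 = n209786 := ndS (p := 71488) (l := 4) rfl N71488 D209786
theorem N106584 : nd 106584 = n209787 := ndS (p := 71489) (l := 3) rfl N71489 D209787
theorem N106585 : nd 106585 = n209788 := ndS (p := 71489) (l := 4) rfl N71489 D209788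
theorem N106586 : nd 106586 = n209789 := ndS (p := 71491) (l := 6) rfl N71491 D209789
theorem N106587 : nd 106587 = n209790 := ndS (p := 71495) (l := 4) rfl N71495 D209790
theorem N106588 : nd 106588 = n209791 := ndS (p := 71499) (l := 0) rfl N71499 D209791
theorem N106589 : nd 106589 = n209792 := ndS (p := 71501) (l := 0) rfl N71501 D209792
theorem N106590 : nd 106590 = n209793 := ndS (p := 71502) (l := 1) rfl N71502 D209793
theorem N106591 : nd 106591 = n209794 := ndS (p := 71502) (l := 5) rfl N71502 D209794
theorem N106592 : nd 106592 = n209795 := ndS (p := 71503) (l := 6) rfl N71503 D209795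
theorem N106593 : nd 106593 = n209796 := ndS (p := 71504) (l := 3) rfl N71504 D209796
theorem N106594 : nd 106594 = n209797 := ndS (p := 71504) (l := 4) rfl N71504 D209797
theorem N106595 : nd 106595 = n209798 := ndS (p := 71504) (l := 5) rfl N71504 D209798
theorem N106596 : nd 106596 = n209799 := ndS (p := 71505) (l := 3) rfl N71505 D209799
theorem N106597 : nd 106597 = n209800 := ndS (p := 71505) (l := 4) rfl N71505 D209800
theorem N106598 : nd 106598 = n209801 := ndS (p := 71506) (l := 7) rfl N71506 D209801
theorem N106599 : nd 106599 = n209802 := ndS (p := 71507) (l := 6) rfl N71507 D209802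
theorem N106600 : nd 106600 = n209804 := ndS (p := 71508) (l := 4) rfl N71508 D209804
theorem N106601 : nd 106601 = n209805 := ndS (p := 71508) (l := 5) rfl N71508 D209805
theorem N106602 : nd 106602 = n209806 := ndS (p := 71509) (l := 5) rfl N71509 D209806
theorem N106603 : nd 106603 = n209807 := ndS (p := 71510) (l := 1) rfl N71510 D209807
theorem N106604 : nd 106604 = n209808 := ndS (p := 71510) (l := 4) rfl N71510 D209808
theorem N106605 : nd 106605 = n209809 := ndS (p := 71511) (l := 4) rfl N71511 D209809
theorem N106606 : nd 106606 = n209810 := ndS (p := 71511) (l := 6) rfl N71511 D209810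
theorem N106607 : nd 106607 = n209811 := ndS (p := 71512) (l := 3) rfl N71512 D209811
theorem N106608 : nd 106608 = n209812 := ndS (p := 71512) (l := 5) rfl N71512 D209812
theorem N106609 : nd 106609 = n209813 := ndS (p := 71513) (l := 5) rfl N71513 D209813
theorem N106610 : nd 106610 = n209814 := ndS (p := 71513) (l := 6) rfl N71513 D209814
theorem N106611 : nd 106611 = n209815 := ndS (p := 71514) (l := 5) rfl N71514 D209815
theorem N106612 : nd 106612 = n209816 := ndS (p := 71514) (l := 6) rfl N71514 D209816
theorem N106613 : nd 106613 = n209817 := ndS (p := 71515) (l := 1) rfl N71515 D209817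
theorem N106614 : nd 106614 = n209818 := ndS (p := 71515) (l := 6) rfl N71515 D209818
theorem N106615 : nd 106615 = n209819 := ndS (p := 71516) (l := 1) rfl N71516 D209819
theorem N106616 : nd 106616 = n209820 := ndS (p := 71518) (l := 5) rfl N71518 D209820
theorem N106617 : nd 106617 = n209821 := ndS (p := 71520) (l := 2) rfl N71520 D209821
theorem N106618 : nd 106618 = n209822 := ndS (p := 71520) (l := 4) rfl N71520 D209822
theorem N106619 : nd 106619 = n209823 := ndS (p := 71521) (l := 0) rfl N71521 D209823
theorem N106620 : nd 106620 = n209824 := ndS (p := 71521) (l := 1) rfl N71521 D209824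
theorem N106621 : nd 106621 = n209825 := ndS (p := 71521) (l := 3) rfl N71521 D209825
theorem N106622 : nd 106622 = n209826 := ndS (p := 71521) (l := 6) rfl N71521 D209826
theorem N106623 : nd 106623 = n209827 := ndS (p := 71522) (l := 1) rfl N71522 D209827
theorem N106624 : nd 106624 = n209828 := ndS (p := 71522) (l := 7) rfl N71522 D209828
theorem N106625 : nd 106625 = n209829 := ndS (p := 71523) (l := 2) rfl N71523 D209829
theorem N106626 : nd 106626 = n209830 := ndS (p := 71525) (l := 3) rfl N71525 D209830
theorem N106627 : nd 106627 = n209831 := ndS (p := 71525) (l := 6) rfl N71525 D209831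
theorem N106628 : nd 106628 = n209832 := ndS (p := 71526) (l := 3) rfl N71526 D209832
theorem N106629 : nd 106629 = n209833 := ndS (p := 71527) (l := 0) rfl N71527 D209833
theorem N106630 : nd 106630 = n209835 := ndS (p := 71527) (l := 2) rfl N71527 D209835
theorem N106631 : nd 106631 = n209836 := ndS (p := 71527) (l := 5) rfl N71527 D209836
theorem N106632 : nd 106632 = n209837 := ndS (p := 71527) (l := 7) rfl N71527 D209837
theorem N106633 : nd 106633 = n209838 := ndS (p := 71528) (l := 1) rfl N71528 D209838
theorem N106634 : nd 106634 = n209839 := ndS (p := 71528) (l := 6) rfl N71528 D209839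
theorem N106635 : nd 106635 = n209840 := ndS (p := 71529) (l := 6) rfl N71529 D209840
theorem N106636 : nd 106636 = n209841 := ndS (p := 71530) (l := 0) rfl N71530 D209841
theorem N106637 : nd 106637 = n209842 := ndS (p := 71530) (l := 1) rfl N71530 D209842
theorem N106638 : nd 106638 = n209843 := ndS (p := 71531) (l := 0) rfl N71531 D209843
theorem N106639 : nd 106639 = n209844 := ndS (p := 71531) (l := 1) rfl N71531 D209844
theorem N106640 : nd 106640 = n209845 := ndS (p := 71531) (l := 2) rfl N71531 D209845
theorem N106641 : nd 106641 = n209846 := ndS (p := 71531) (l := 5) rfl N71531 D209846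
theorem N106642 : nd 106642 = n209847 := ndS (p := 71532) (l := 4) rfl N71532 D209847
theorem N106643 : nd 106643 = n209848 := ndS (p := 71532) (l := 6) rfl N71532 D209848
theorem N106644 : nd 106644 = n209849 := ndS (p := 71533) (l := 4) rfl N71533 D209849
theorem N106645 : nd 106645 = n209850 := ndS (p := 71533) (l := 5) rfl N71533 D209850
theorem N106646 : nd 106646 = n209851 := ndS (p := 71534) (l := 4) rfl N71534 D209851
theorem N106647 : nd 106647 = n209852 := ndS (p := 71535) (l := 4) rfl N71535 D209852
theorem N106648 : nd 106648 = n209853 := ndS (p := 71535) (l := 6) rfl N71535 D209853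
theorem N106649 : nd 106649 = n209854 := ndS (p := 71536) (l := 3) rfl N71536 D209854
theorem N106650 : nd 106650 = n209855 := ndS (p := 71537) (l := 5) rfl N71537 D209855
theorem N106651 : nd 106651 = n209856 := ndS (p := 71538) (l := 6) rfl N71538 D209856
theorem N106652 : nd 106652 = n209857 := ndS (p := 71540) (l := 3) rfl N71540 D209857
theorem N106653 : nd 106653 = n209858 := ndS (p := 71540) (l := 6) rfl N71540 D209858
theorem N106654 : nd 106654 = n209859 := ndS (p := 71542) (l := 0) rfl N71542 D209859
theorem N106655 : nd 106655 = n209860 := ndS (p := 71542) (l := 5) rfl N71542 D209860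
theorem N106656 : nd 106656 = n209861 := ndS (p := 71542) (l := 6) rfl N71542 D209861
theorem N106657 : nd 106657 = n209862 := ndS (p := 71543) (l := 6) rfl N71543 D209862
theorem N106658 : nd 106658 = n209863 := ndS (p := 71545) (l := 6) rfl N71545 D209863
theorem N106659 : nd 106659 = n209864 := ndS (p := 71546) (l := 2) rfl N71546 D209864
theorem N106660 : nd 106660 = n209865 := ndS (p := 71546) (l := 6) rfl N71546 D209865
theorem N106661 : nd 106661 = n209866 := ndS (p := 71549) (l := 0) rfl N71549 D209866
theorem N106662 : nd 106662 = n209867 := ndS (p := 71549) (l := 2) rfl N71549 D209867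
theorem N106663 : nd 106663 = n209869 := ndS (p := 71549) (l := 6) rfl N71549 D209869
theorem N106664 : nd 106664 = n209870 := ndS (p := 71550) (l := 3) rfl N71550 D209870
theorem N106665 : nd 106665 = n209871 := ndS (p := 71551) (l := 5) rfl N71551 D209871
theorem N106666 : nd 106666 = n209872 := ndS (p := 71552) (l := 0) rfl N71552 D209872
theorem N106667 : nd 106667 = n209873 := ndS (p := 71552) (l := 1) rfl N71552 D209873
theorem N106668 : nd 106668 = n209874 := ndS (p := 71552) (l := 7) rfl N71552 D209874
theorem N106669 : nd 106669 = n209875 := ndS (p := 71554) (l := 3) rfl N71554 D209875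
theorem N106670 : nd 106670 = n209876 := ndS (p := 71555) (l := 3) rfl N71555 D209876
theorem N106671 : nd 106671 = n209877 := ndS (p := 71556) (l := 3) rfl N71556 D209877
theorem N106672 : nd 106672 = n209878 := ndS (p := 71556) (l := 6) rfl N71556 D209878
theorem N106673 : nd 106673 = n209879 := ndS (p := 71557) (l := 1) rfl N71557 D209879
theorem N106674 : nd 106674 = n209880 := ndS (p := 71557) (l := 7) rfl N71557 D209880
theorem N106675 : nd 106675 = n209881 := ndS (p := 71558) (l := 6) rfl N71558 D209881
theorem N106676 : nd 106676 = n209882 := ndS (p := 71561) (l := 5) rfl N71561 D209882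
theorem N106677 : nd 106677 = n209883 := ndS (p := 71563) (l := 1) rfl N71563 D209883
theorem N106678 : nd 106678 = n209884 := ndS (p := 71567) (l := 5) rfl N71567 D209884
theorem N106679 : nd 106679 = n209885 := ndS (p := 71569) (l := 0) rfl N71569 D209885
theorem N106680 : nd 106680 = n209886 := ndS (p := 71571) (l := 0) rfl N71571 D209886
theorem N106681 : nd 106681 = n209887 := ndS (p := 71571) (l := 1) rfl N71571 D209887
theorem N106682 : nd 106682 = n209888 := ndS (p := 71571) (l := 5) rfl N71571 D209888
theorem N106683 : nd 106683 = n209889 := ndS (p := 71571) (l := 7) rfl N71571 D209889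
theorem N106684 : nd 106684 = n209891 := ndS (p := 71572) (l := 3) rfl N71572 D209891
theorem N106685 : nd 106685 = n209893 := ndS (p := 71572) (l := 5) rfl N71572 D209893
theorem N106686 : nd 106686 = n209894 := ndS (p := 71572) (l := 6) rfl N71572 D209894
theorem N106687 : nd 106687 = n209895 := ndS (p := 71573) (l := 3) rfl N71573 D209895
theorem N106688 : nd 106688 = n209897 := ndS (p := 71573) (l := 5) rfl N71573 D209897
theorem N106689 : nd 106689 = n209898 := ndS (p := 71573) (l := 6) rfl N71573 D209898
theorem N106690 : nd 106690 = n209899 := ndS (p := 71575) (l := 6) rfl N71575 D209899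
theorem N106691 : nd 106691 = n209900 := ndS (p := 71578) (l := 0) rfl N71578 D209900
theorem N106692 : nd 106692 = n209901 := ndS (p := 71578) (l := 1) rfl N71578 D209901
theorem N106693 : nd 106693 = n209902 := ndS (p := 71578) (l := 4) rfl N71578 D209902
theorem N106694 : nd 106694 = n209903 := ndS (p := 71580) (l := 4) rfl N71580 D209903
theorem N106695 : nd 106695 = n209904 := ndS (p := 71580) (l := 6) rfl N71580 D209904
theorem N106696 : nd 106696 = n209905 := ndS (p := 71581) (l := 5) rfl N71581 D209905
theorem N106697 : nd 106697 = n209906 := ndS (p := 71582) (l := 6) rfl N71582 D209906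
theorem N106698 : nd 106698 = n209907 := ndS (p := 71583) (l := 4) rfl N71583 D209907
theorem N106699 : nd 106699 = n209908 := ndS (p := 71583) (l := 6) rfl N71583 D209908
theorem N106700 : nd 106700 = n209909 := ndS (p := 71584) (l := 5) rfl N71584 D209909
theorem N106701 : nd 106701 = n209910 := ndS (p := 71585) (l := 4) rfl N71585 D209910
theorem N106702 : nd 106702 = n209911 := ndS (p := 71586) (l := 5) rfl N71586 D209911
theorem N106703 : nd 106703 = n209912 := ndS (p := 71587) (l := 4) rfl N71587 D209912
theorem N106704 : nd 106704 = n209913 := ndS (p := 71588) (l := 3) rfl N71588 D209913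
theorem N106705 : nd 106705 = n209914 := ndS (p := 71588) (l := 4) rfl N71588 D209914
theorem N106706 : nd 106706 = n209915 := ndS (p := 71588) (l := 6) rfl N71588 D209915
theorem N106707 : nd 106707 = n209916 := ndS (p := 71589) (l := 0) rfl N71589 D209916
theorem N106708 : nd 106708 = n209917 := ndS (p := 71589) (l := 1) rfl N71589 D209917
theorem N106709 : nd 106709 = n209918 := ndS (p := 71589) (l := 5) rfl N71589 D209918
theorem N106710 : nd 106710 = n209919 := ndS (p := 71589) (l := 6) rfl N71589 D209919
theorem N106711 : nd 106711 = n209920 := ndS (p := 71590) (l := 5) rfl N71590 D209920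
theorem N106712 : nd 106712 = n209921 := ndS (p := 71591) (l := 3) rfl N71591 D209921
theorem N106713 : nd 106713 = n209922 := ndS (p := 71591) (l := 4) rfl N71591 D209922
theorem N106714 : nd 106714 = n209923 := ndS (p := 71592) (l := 4) rfl N71592 D209923
theorem N106715 : nd 106715 = n209924 := ndS (p := 71593) (l := 0) rfl N71593 D209924
theorem N106716 : nd 106716 = n209925 := ndS (p := 71593) (l := 7) rfl N71593 D209925
theorem N106717 : nd 106717 = n209926 := ndS (p := 71595) (l := 6) rfl N71595 D209926
theorem N106718 : nd 106718 = n209927 := ndS (p := 71596) (l := 3) rfl N71596 D209927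
theorem N106719 : nd 106719 = n209928 := ndS (p := 71596) (l := 5) rfl N71596 D209928
theorem N106720 : nd 106720 = n209929 := ndS (p := 71596) (l := 6) rfl N71596 D209929
theorem N106721 : nd 106721 = n209930 := ndS (p := 71599) (l := 5) rfl N71599 D209930
theorem N106722 : nd 106722 = n209931 := ndS (p := 71600) (l := 6) rfl N71600 D209931
theorem N106723 : nd 106723 = n209932 := ndS (p := 71601) (l := 4) rfl N71601 D209932
theorem N106724 : nd 106724 = n209933 := ndS (p := 71601) (l := 6) rfl N71601 D209933
theorem N106725 : nd 106725 = n209934 := ndS (p := 71602) (l := 3) rfl N71602 D209934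
theorem N106726 : nd 106726 = n209935 := ndS (p := 71603) (l := 7) rfl N71603 D209935
theorem N106727 : nd 106727 = n209936 := ndS (p := 71606) (l := 3) rfl N71606 D209936
theorem N106728 : nd 106728 = n209937 := ndS (p := 71606) (l := 6) rfl N71606 D209937
theorem N106729 : nd 106729 = n209938 := ndS (p := 71608) (l := 6) rfl N71608 D209938
theorem N106730 : nd 106730 = n209939 := ndS (p := 71609) (l := 1) rfl N71609 D209939
theorem N106731 : nd 106731 = n209940 := ndS (p := 71610) (l := 6) rfl N71610 D209940
theorem N106732 : nd 106732 = n209941 := ndS (p := 71612) (l := 6) rfl N71612 D209941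
theorem N106733 : nd 106733 = n209942 := ndS (p := 71617) (l := 6) rfl N71617 D209942
theorem N106734 : nd 106734 = n209943 := ndS (p := 71621) (l := 5) rfl N71621 D209943
theorem N106735 : nd 106735 = n209944 := ndS (p := 71622) (l := 6) rfl N71622 D209944
theorem N106736 : nd 106736 = n209945 := ndS (p := 71624) (l := 4) rfl N71624 D209945
theorem N106737 : nd 106737 = n209946 := ndS (p := 71625) (l := 6) rfl N71625 D209946
theorem N106738 : nd 106738 = n209947 := ndS (p := 71628) (l := 4) rfl N71628 D209947
theorem N106739 : nd 106739 = n209948 := ndS (p := 71629) (l := 5) rfl N71629 D209948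
theorem N106740 : nd 106740 = n209949 := ndS (p := 71633) (l := 5) rfl N71633 D209949
theorem N106741 : nd 106741 = n209950 := ndS (p := 71634) (l := 5) rfl N71634 D209950
theorem N106742 : nd 106742 = n209951 := ndS (p := 71637) (l := 2) rfl N71637 D209951
theorem N106743 : nd 106743 = n209952 := ndS (p := 71640) (l := 5) rfl N71640 D209952
theorem N106744 : nd 106744 = n209953 := ndS (p := 71642) (l := 0) rfl N71642 D209953
theorem N106745 : nd 106745 = n209954 := ndS (p := 71642) (l := 1) rfl N71642 D209954
theorem N106746 : nd 106746 = n209955 := ndS (p := 71642) (l := 4) rfl N71642 D209955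
theorem N106747 : nd 106747 = n209956 := ndS (p := 71642) (l := 6) rfl N71642 D209956
theorem N106748 : nd 106748 = n209957 := ndS (p := 71644) (l := 4) rfl N71644 D209957
theorem N106749 : nd 106749 = n209958 := ndS (p := 71644) (l := 7) rfl N71644 D209958
theorem N106750 : nd 106750 = n209959 := ndS (p := 71646) (l := 2) rfl N71646 D209959
theorem N106751 : nd 106751 = n209960 := ndS (p := 71647) (l := 5) rfl N71647 D209960
theorem N106752 : nd 106752 = n209961 := ndS (p := 71649) (l := 5) rfl N71649 D209961
theorem N106753 : nd 106753 = n209962 := ndS (p := 71652) (l := 4) rfl N71652 D209962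
theorem N106754 : nd 106754 = n209963 := ndS (p := 71653) (l := 3) rfl N71653 D209963
theorem N106755 : nd 106755 = n209964 := ndS (p := 71654) (l := 6) rfl N71654 D209964
theorem N106756 : nd 106756 = n209965 := ndS (p := 71656) (l := 0) rfl N71656 D209965
theorem N106757 : nd 106757 = n209966 := ndS (p := 71660) (l := 4) rfl N71660 D209966
theorem N106758 : nd 106758 = n209967 := ndS (p := 71660) (l := 6) rfl N71660 D209967
theorem N106759 : nd 106759 = n209968 := ndS (p := 71661) (l := 4) rfl N71661 D209968
theorem N106760 : nd 106760 = n209969 := ndS (p := 71662) (l := 4) rfl N71662 D209969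
theorem N106761 : nd 106761 = n209970 := ndS (p := 71663) (l := 0) rfl N71663 D209970
theorem N106762 : nd 106762 = n209971 := ndS (p := 71663) (l := 3) rfl N71663 D209971
theorem N106763 : nd 106763 = n209972 := ndS (p := 71663) (l := 5) rfl N71663 D209972
theorem N106764 : nd 106764 = n209973 := ndS (p := 71663) (l := 7) rfl N71663 D209973
theorem N106765 : nd 106765 = n209974 := ndS (p := 71664) (l := 6) rfl N71664 D209974
theorem N106766 : nd 106766 = n209975 := ndS (p := 71672) (l := 6) rfl N71672 D209975
theorem N106767 : nd 106767 = n209976 := ndS (p := 71675) (l := 4) rfl N71675 D209976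
theorem N106768 : nd 106768 = n209977 := ndS (p := 71675) (l := 5) rfl N71675 D209977
theorem N106769 : nd 106769 = n209978 := ndS (p := 71677) (l := 1) rfl N71677 D209978
theorem N106770 : nd 106770 = n209979 := ndS (p := 71680) (l := 2) rfl N71680 D209979
theorem N106771 : nd 106771 = n209980 := ndS (p := 71681) (l := 0) rfl N71681 D209980
theorem N106772 : nd 106772 = n209981 := ndS (p := 71681) (l := 1) rfl N71681 D209981
theorem N106773 : nd 106773 = n209982 := ndS (p := 71681) (l := 5) rfl N71681 D209982
theorem N106774 : nd 106774 = n209983 := ndS (p := 71681) (l := 6) rfl N71681 D209983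
theorem N106775 : nd 106775 = n209984 := ndS (p := 71682) (l := 0) rfl N71682 D209984
theorem N106776 : nd 106776 = n209985 := ndS (p := 71682) (l := 1) rfl N71682 D209985
theorem N106777 : nd 106777 = n209986 := ndS (p := 71682) (l := 7) rfl N71682 D209986
theorem N106778 : nd 106778 = n209987 := ndS (p := 71683) (l := 2) rfl N71683 D209987
theorem N106779 : nd 106779 = n209988 := ndS (p := 71683) (l := 4) rfl N71683 D209988
theorem N106780 : nd 106780 = n209989 := ndS (p := 71684) (l := 6) rfl N71684 D209989
theorem N106781 : nd 106781 = n209990 := ndS (p := 71686) (l := 3) rfl N71686 D209990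
theorem N106782 : nd 106782 = n209991 := ndS (p := 71686) (l := 5) rfl N71686 D209991
theorem N106783 : nd 106783 = n209992 := ndS (p := 71686) (l := 6) rfl N71686 D209992
theorem N106784 : nd 106784 = n209993 := ndS (p := 71687) (l := 5) rfl N71687 D209993
theorem N106785 : nd 106785 = n209994 := ndS (p := 71688) (l := 1) rfl N71688 D209994
theorem N106786 : nd 106786 = n209995 := ndS (p := 71688) (l := 2) rfl N71688 D209995
theorem N106787 : nd 106787 = n209996 := ndS (p := 71688) (l := 5) rfl N71688 D209996
theorem N106788 : nd 106788 = n209997 := ndS (p := 71688) (l := 7) rfl N71688 D209997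
theorem N106789 : nd 106789 = n209998 := ndS (p := 71691) (l := 0) rfl N71691 D209998
theorem N106790 : nd 106790 = n209999 := ndS (p := 71691) (l := 1) rfl N71691 D209999
theorem N106791 : nd 106791 = n210000 := ndS (p := 71692) (l := 0) rfl N71692 D210000
theorem N106792 : nd 106792 = n210001 := ndS (p := 71692) (l := 1) rfl N71692 D210001
theorem N106793 : nd 106793 = n210002 := ndS (p := 71692) (l := 2) rfl N71692 D210002
theorem N106794 : nd 106794 = n210003 := ndS (p := 71693) (l := 4) rfl N71693 D210003
theorem N106795 : nd 106795 = n210004 := ndS (p := 71693) (l := 6) rfl N71693 D210004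
theorem N106796 : nd 106796 = n210005 := ndS (p := 71694) (l := 6) rfl N71694 D210005
theorem N106797 : nd 106797 = n210006 := ndS (p := 71695) (l := 4) rfl N71695 D210006
theorem N106798 : nd 106798 = n210007 := ndS (p := 71696) (l := 0) rfl N71696 D210007
theorem N106799 : nd 106799 = n210008 := ndS (p := 71697) (l := 4) rfl N71697 D210008
theorem N106800 : nd 106800 = n210009 := ndS (p := 71698) (l := 3) rfl N71698 D210009
theorem N106801 : nd 106801 = n210010 := ndS (p := 71698) (l := 4) rfl N71698 D210010
theorem N106802 : nd 106802 = n210011 := ndS (p := 71698) (l := 6) rfl N71698 D210011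
theorem N106803 : nd 106803 = n210012 := ndS (p := 71701) (l := 4) rfl N71701 D210012
theorem N106804 : nd 106804 = n210013 := ndS (p := 71702) (l := 6) rfl N71702 D210013
theorem N106805 : nd 106805 = n210014 := ndS (p := 71708) (l := 6) rfl N71708 D210014
theorem N106806 : nd 106806 = n210015 := ndS (p := 71718) (l := 5) rfl N71718 D210015
theorem N106807 : nd 106807 = n210016 := ndS (p := 71718) (l := 6) rfl N71718 D210016
theorem N106808 : nd 106808 = n210017 := ndS (p := 71719) (l := 1) rfl N71719 D210017
theorem N106809 : nd 106809 = n210018 := ndS (p := 71720) (l := 1) rfl N71720 D210018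
theorem N106810 : nd 106810 = n210019 := ndS (p := 71720) (l := 5) rfl N71720 D210019
theorem N106811 : nd 106811 = n210020 := ndS (p := 71721) (l := 5) rfl N71721 D210020
theorem N106812 : nd 106812 = n210021 := ndS (p := 71722) (l := 0) rfl N71722 D210021
theorem N106813 : nd 106813 = n210022 := ndS (p := 71722) (l := 1) rfl N71722 D210022
theorem N106814 : nd 106814 = n210023 := ndS (p := 71722) (l := 4) rfl N71722 D210023
theorem N106815 : nd 106815 = n210024 := ndS (p := 71725) (l := 6) rfl N71725 D210024
theorem N106816 : nd 106816 = n210025 := ndS (p := 71726) (l := 6) rfl N71726 D210025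
theorem N106817 : nd 106817 = n210026 := ndS (p := 71727) (l := 0) rfl N71727 D210026
theorem N106818 : nd 106818 = n210027 := ndS (p := 71727) (l := 1) rfl N71727 D210027
theorem N106819 : nd 106819 = n210028 := ndS (p := 71731) (l := 3) rfl N71731 D210028
theorem N106820 : nd 106820 = n210029 := ndS (p := 71733) (l := 5) rfl N71733 D210029
theorem N106821 : nd 106821 = n210030 := ndS (p := 71738) (l := 6) rfl N71738 D210030
theorem N106822 : nd 106822 = n210031 := ndS (p := 71739) (l := 6) rfl N71739 D210031
theorem N106823 : nd 106823 = n210032 := ndS (p := 71741) (l := 0) rfl N71741 D210032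
theorem N106824 : nd 106824 = n210033 := ndS (p := 71741) (l := 1) rfl N71741 D210033
theorem N106825 : nd 106825 = n210034 := ndS (p := 71743) (l := 5) rfl N71743 D210034
theorem N106826 : nd 106826 = n210035 := ndS (p := 71745) (l := 0) rfl N71745 D210035
theorem N106827 : nd 106827 = n210036 := ndS (p := 71759) (l := 6) rfl N71759 D210036
theorem N106828 : nd 106828 = n210037 := ndS (p := 71760) (l := 4) rfl N71760 D210037
theorem N106829 : nd 106829 = n210038 := ndS (p := 71760) (l := 6) rfl N71760 D210038
theorem N106830 : nd 106830 = n210039 := ndS (p := 71762) (l := 5) rfl N71762 D210039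
theorem N106831 : nd 106831 = n210040 := ndS (p := 71765) (l := 5) rfl N71765 D210040
theorem N106832 : nd 106832 = n210041 := ndS (p := 71768) (l := 6) rfl N71768 D210041
theorem N106833 : nd 106833 = n210042 := ndS (p := 71769) (l := 0) rfl N71769 D210042
theorem N106834 : nd 106834 = n210043 := ndS (p := 71769) (l := 1) rfl N71769 D210043
theorem N106835 : nd 106835 = n210044 := ndS (p := 71776) (l := 3) rfl N71776 D210044
theorem N106836 : nd 106836 = n210045 := ndS (p := 71776) (l := 6) rfl N71776 D210045
theorem N106837 : nd 106837 = n210046 := ndS (p := 71777) (l := 1) rfl N71777 D210046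
theorem N106838 : nd 106838 = n210047 := ndS (p := 71777) (l := 4) rfl N71777 D210047
theorem N106839 : nd 106839 = n210048 := ndS (p := 71781) (l := 2) rfl N71781 D210048
theorem N106840 : nd 106840 = n210049 := ndS (p := 71781) (l := 4) rfl N71781 D210049
theorem N106841 : nd 106841 = n210050 := ndS (p := 71781) (l := 6) rfl N71781 D210050
theorem N106842 : nd 106842 = n210051 := ndS (p := 71785) (l := 6) rfl N71785 D210051
theorem N106843 : nd 106843 = n210052 := ndS (p := 71786) (l := 6) rfl N71786 D210052
theorem N106844 : nd 106844 = n210053 := ndS (p := 71787) (l := 5) rfl N71787 D210053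
theorem N106845 : nd 106845 = n210054 := ndS (p := 71787) (l := 7) rfl N71787 D210054
theorem N106846 : nd 106846 = n210055 := ndS (p := 71790) (l := 1) rfl N71790 D210055
theorem N106847 : nd 106847 = n210056 := ndS (p := 71792) (l := 5) rfl N71792 D210056
theorem N106848 : nd 106848 = n210057 := ndS (p := 71792) (l := 6) rfl N71792 D210057
theorem N106849 : nd 106849 = n210058 := ndS (p := 71793) (l := 1) rfl N71793 D210058
theorem N106850 : nd 106850 = n210059 := ndS (p := 71793) (l := 5) rfl N71793 D210059
theorem N106851 : nd 106851 = n210060 := ndS (p := 71794) (l := 5) rfl N71794 D210060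
theorem N106852 : nd 106852 = n210061 := ndS (p := 71795) (l := 5) rfl N71795 D210061
theorem N106853 : nd 106853 = n210062 := ndS (p := 71795) (l := 6) rfl N71795 D210062
theorem N106854 : nd 106854 = n210063 := ndS (p := 71796) (l := 4) rfl N71796 D210063
theorem N106855 : nd 106855 = n210064 := ndS (p := 71796) (l := 7) rfl N71796 D210064
theorem N106856 : nd 106856 = n210065 := ndS (p := 71798) (l := 4) rfl N71798 D210065
theorem N106857 : nd 106857 = n210066 := ndS (p := 71799) (l := 0) rfl N71799 D210066
theorem N106858 : nd 106858 = n210067 := ndS (p := 71800) (l := 0) rfl N71800 D210067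
theorem N106859 : nd 106859 = n210068 := ndS (p := 71802) (l := 7) rfl N71802 D210068
theorem N106860 : nd 106860 = n210069 := ndS (p := 71810) (l := 0) rfl N71810 D210069
theorem N106861 : nd 106861 = n210070 := ndS (p := 71811) (l := 3) rfl N71811 D210070
theorem N106862 : nd 106862 = n210071 := ndS (p := 71812) (l := 6) rfl N71812 D210071
theorem N106863 : nd 106863 = n210072 := ndS (p := 71813) (l := 0) rfl N71813 D210072
theorem N106864 : nd 106864 = n210073 := ndS (p := 71813) (l := 5) rfl N71813 D210073
theorem N106865 : nd 106865 = n210074 := ndS (p := 71814) (l := 3) rfl N71814 D210074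
theorem N106866 : nd 106866 = n210075 := ndS (p := 71817) (l := 6) rfl N71817 D210075
theorem N106867 : nd 106867 = n210076 := ndS (p := 71819) (l := 4) rfl N71819 D210076
theorem N106868 : nd 106868 = n210077 := ndS (p := 71819) (l := 6) rfl N71819 D210077
theorem N106869 : nd 106869 = n210078 := ndS (p := 71820) (l := 4) rfl N71820 D210078
theorem N106870 : nd 106870 = n210079 := ndS (p := 71820) (l := 6) rfl N71820 D210079
theorem N106871 : nd 106871 = n210080 := ndS (p := 71821) (l := 4) rfl N71821 D210080
theorem N106872 : nd 106872 = n210081 := ndS (p := 71821) (l := 6) rfl N71821 D210081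
theorem N106873 : nd 106873 = n210082 := ndS (p := 71822) (l := 0) rfl N71822 D210082
theorem N106874 : nd 106874 = n210083 := ndS (p := 71822) (l := 1) rfl N71822 D210083
theorem N106875 : nd 106875 = n210084 := ndS (p := 71822) (l := 5) rfl N71822 D210084
theorem N106876 : nd 106876 = n210085 := ndS (p := 71822) (l := 6) rfl N71822 D210085
theorem N106877 : nd 106877 = n210086 := ndS (p := 71823) (l := 1) rfl N71823 D210086
theorem N106878 : nd 106878 = n210087 := ndS (p := 71823) (l := 7) rfl N71823 D210087
theorem N106879 : nd 106879 = n210088 := ndS (p := 71824) (l := 3) rfl N71824 D210088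
theorem N106880 : nd 106880 = n210089 := ndS (p := 71825) (l := 3) rfl N71825 D210089
theorem N106881 : nd 106881 = n210090 := ndS (p := 71825) (l := 6) rfl N71825 D210090
theorem N106882 : nd 106882 = n210091 := ndS (p := 71828) (l := 2) rfl N71828 D210091
theorem N106883 : nd 106883 = n210092 := ndS (p := 71828) (l := 6) rfl N71828 D210092
theorem N106884 : nd 106884 = n210093 := ndS (p := 71831) (l := 5) rfl N71831 D210093
theorem N106885 : nd 106885 = n210094 := ndS (p := 71835) (l := 5) rfl N71835 D210094
theorem N106886 : nd 106886 = n210095 := ndS (p := 71840) (l := 0) rfl N71840 D210095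
theorem N106887 : nd 106887 = n210096 := ndS (p := 71841) (l := 3) rfl N71841 D210096
theorem N106888 : nd 106888 = n210097 := ndS (p := 71841) (l := 5) rfl N71841 D210097
theorem N106889 : nd 106889 = n210098 := ndS (p := 71843) (l := 6) rfl N71843 D210098
theorem N106890 : nd 106890 = n210099 := ndS (p := 71844) (l := 3) rfl N71844 D210099
theorem N106891 : nd 106891 = n210100 := ndS (p := 71844) (l := 5) rfl N71844 D210100
theorem N106892 : nd 106892 = n210101 := ndS (p := 71845) (l := 5) rfl N71845 D210101
theorem N106893 : nd 106893 = n210102 := ndS (p := 71847) (l := 5) rfl N71847 D210102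
theorem N106894 : nd 106894 = n210103 := ndS (p := 71848) (l := 4) rfl N71848 D210103
theorem N106895 : nd 106895 = n210104 := ndS (p := 71849) (l := 2) rfl N71849 D210104
theorem N106896 : nd 106896 = n210105 := ndS (p := 71849) (l := 6) rfl N71849 D210105
theorem N106897 : nd 106897 = n210106 := ndS (p := 71850) (l := 7) rfl N71850 D210106
theorem N106898 : nd 106898 = n210107 := ndS (p := 71851) (l := 6) rfl N71851 D210107
theorem N106899 : nd 106899 = n210108 := ndS (p := 71853) (l := 7) rfl N71853 D210108
theorem N106900 : nd 106900 = n210109 := ndS (p := 71855) (l := 5) rfl N71855 D210109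
theorem N106901 : nd 106901 = n210110 := ndS (p := 71856) (l := 1) rfl N71856 D210110
theorem N106902 : nd 106902 = n210111 := ndS (p := 71857) (l := 0) rfl N71857 D210111
theorem N106903 : nd 106903 = n210112 := ndS (p := 71857) (l := 1) rfl N71857 D210112
theorem N106904 : nd 106904 = n210113 := ndS (p := 71859) (l := 3) rfl N71859 D210113
theorem N106905 : nd 106905 = n210114 := ndS (p := 71864) (l := 6) rfl N71864 D210114
theorem N106906 : nd 106906 = n210115 := ndS (p := 71865) (l := 1) rfl N71865 D210115
theorem N106907 : nd 106907 = n210116 := ndS (p := 71865) (l := 5) rfl N71865 D210116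
theorem N106908 : nd 106908 = n210117 := ndS (p := 71872) (l := 3) rfl N71872 D210117
theorem N106909 : nd 106909 = n210118 := ndS (p := 71875) (l := 0) rfl N71875 D210118
theorem N106910 : nd 106910 = n210119 := ndS (p := 71875) (l := 2) rfl N71875 D210119
theorem N106911 : nd 106911 = n210120 := ndS (p := 71875) (l := 5) rfl N71875 D210120
theorem N106912 : nd 106912 = n210121 := ndS (p := 71877) (l := 1) rfl N71877 D210121
theorem N106913 : nd 106913 = n210122 := ndS (p := 71877) (l := 2) rfl N71877 D210122
theorem N106914 : nd 106914 = n210123 := ndS (p := 71877) (l := 6) rfl N71877 D210123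
theorem N106915 : nd 106915 = n210124 := ndS (p := 71880) (l := 0) rfl N71880 D210124
theorem N106916 : nd 106916 = n210125 := ndS (p := 71880) (l := 2) rfl N71880 D210125
theorem N106917 : nd 106917 = n210126 := ndS (p := 71880) (l := 3) rfl N71880 D210126
theorem N106918 : nd 106918 = n210127 := ndS (p := 71880) (l := 4) rfl N71880 D210127
theorem N106919 : nd 106919 = n210128 := ndS (p := 71880) (l := 5) rfl N71880 D210128
theorem N106920 : nd 106920 = n210129 := ndS (p := 71880) (l := 7) rfl N71880 D210129
theorem N106921 : nd 106921 = n210130 := ndS (p := 71881) (l := 3) rfl N71881 D210130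
theorem N106922 : nd 106922 = n210131 := ndS (p := 71881) (l := 5) rfl N71881 D210131
theorem N106923 : nd 106923 = n210132 := ndS (p := 71882) (l := 5) rfl N71882 D210132
theorem N106924 : nd 106924 = n210134 := ndS (p := 71883) (l := 4) rfl N71883 D210134
theorem N106925 : nd 106925 = n210135 := ndS (p := 71883) (l := 7) rfl N71883 D210135
theorem N106926 : nd 106926 = n210136 := ndS (p := 71885) (l := 7) rfl N71885 D210136
theorem N106927 : nd 106927 = n210137 := ndS (p := 71886) (l := 6) rfl N71886 D210137
theorem N106928 : nd 106928 = n210138 := ndS (p := 71887) (l := 6) rfl N71887 D210138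
theorem N106929 : nd 106929 = n210139 := ndS (p := 71888) (l := 1) rfl N71888 D210139
theorem N106930 : nd 106930 = n210140 := ndS (p := 71890) (l := 6) rfl N71890 D210140
theorem N106931 : nd 106931 = n210141 := ndS (p := 71891) (l := 5) rfl N71891 D210141
theorem N106932 : nd 106932 = n210142 := ndS (p := 71892) (l := 0) rfl N71892 D210142
theorem N106933 : nd 106933 = n210143 := ndS (p := 71895) (l := 4) rfl N71895 D210143
theorem N106934 : nd 106934 = n210144 := ndS (p := 71895) (l := 6) rfl N71895 D210144
theorem N106935 : nd 106935 = n210145 := ndS (p := 71897) (l := 4) rfl N71897 D210145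
theorem N106936 : nd 106936 = n210146 := ndS (p := 71905) (l := 6) rfl N71905 D210146
theorem N106937 : nd 106937 = n210147 := ndS (p := 71906) (l := 4) rfl N71906 D210147
theorem N106938 : nd 106938 = n210148 := ndS (p := 71909) (l := 6) rfl N71909 D210148
theorem N106939 : nd 106939 = n210149 := ndS (p := 71910) (l := 4) rfl N71910 D210149
theorem N106940 : nd 106940 = n210150 := ndS (p := 71910) (l := 6) rfl N71910 D210150
theorem N106941 : nd 106941 = n210151 := ndS (p := 71911) (l := 5) rfl N71911 D210151
theorem N106942 : nd 106942 = n210152 := ndS (p := 71912) (l := 6) rfl N71912 D210152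
theorem N106943 : nd 106943 = n210153 := ndS (p := 71913) (l := 1) rfl N71913 D210153
theorem N106944 : nd 106944 = n210154 := ndS (p := 71916) (l := 5) rfl N71916 D210154
theorem N106945 : nd 106945 = n210155 := ndS (p := 71918) (l := 3) rfl N71918 D210155
theorem N106946 : nd 106946 = n210156 := ndS (p := 71918) (l := 5) rfl N71918 D210156
theorem N106947 : nd 106947 = n210157 := ndS (p := 71919) (l := 5) rfl N71919 D210157
theorem N106948 : nd 106948 = n210158 := ndS (p := 71920) (l := 6) rfl N71920 D210158
theorem N106949 : nd 106949 = n210159 := ndS (p := 71921) (l := 6) rfl N71921 D210159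
theorem N106950 : nd 106950 = n210161 := ndS (p := 71922) (l := 7) rfl N71922 D210161
theorem N106951 : nd 106951 = n210162 := ndS (p := 71924) (l := 3) rfl N71924 D210162
theorem N106952 : nd 106952 = n210163 := ndS (p := 71924) (l := 5) rfl N71924 D210163
theorem N106953 : nd 106953 = n210164 := ndS (p := 71925) (l := 5) rfl N71925 D210164
theorem N106954 : nd 106954 = n210165 := ndS (p := 71925) (l := 6) rfl N71925 D210165
theorem N106955 : nd 106955 = n210166 := ndS (p := 71927) (l := 5) rfl N71927 D210166
theorem N106956 : nd 106956 = n210167 := ndS (p := 71930) (l := 6) rfl N71930 D210167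
theorem N106957 : nd 106957 = n210168 := ndS (p := 71933) (l := 0) rfl N71933 D210168
theorem N106958 : nd 106958 = n210169 := ndS (p := 71933) (l := 1) rfl N71933 D210169
theorem N106959 : nd 106959 = n210170 := ndS (p := 71934) (l := 5) rfl N71934 D210170
theorem N106960 : nd 106960 = n210171 := ndS (p := 71935) (l := 4) rfl N71935 D210171
theorem N106961 : nd 106961 = n210172 := ndS (p := 71938) (l := 5) rfl N71938 D210172
theorem N106962 : nd 106962 = n210173 := ndS (p := 71938) (l := 6) rfl N71938 D210173
theorem N106963 : nd 106963 = n210174 := ndS (p := 71942) (l := 3) rfl N71942 D210174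
theorem N106964 : nd 106964 = n210175 := ndS (p := 71943) (l := 3) rfl N71943 D210175
theorem N106965 : nd 106965 = n210176 := ndS (p := 71943) (l := 5) rfl N71943 D210176
theorem N106966 : nd 106966 = n210177 := ndS (p := 71943) (l := 6) rfl N71943 D210177
theorem N106967 : nd 106967 = n210178 := ndS (p := 71944) (l := 3) rfl N71944 D210178
theorem N106968 : nd 106968 = n210179 := ndS (p := 71944) (l := 5) rfl N71944 D210179
theorem N106969 : nd 106969 = n210180 := ndS (p := 71944) (l := 6) rfl N71944 D210180
theorem N106970 : nd 106970 = n210181 := ndS (p := 71945) (l := 0) rfl N71945 D210181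
theorem N106971 : nd 106971 = n210182 := ndS (p := 71945) (l := 1) rfl N71945 D210182
theorem N106972 : nd 106972 = n210183 := ndS (p := 71945) (l := 4) rfl N71945 D210183
theorem N106973 : nd 106973 = n210184 := ndS (p := 71945) (l := 7) rfl N71945 D210184
theorem N106974 : nd 106974 = n210185 := ndS (p := 71947) (l := 6) rfl N71947 D210185
theorem N106975 : nd 106975 = n210186 := ndS (p := 71948) (l := 7) rfl N71948 D210186
theorem N106976 : nd 106976 = n210187 := ndS (p := 71949) (l := 5) rfl N71949 D210187
theorem N106977 : nd 106977 = n210188 := ndS (p := 71949) (l := 6) rfl N71949 D210188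
theorem N106978 : nd 106978 = n210189 := ndS (p := 71950) (l := 6) rfl N71950 D210189
theorem N106979 : nd 106979 = n210190 := ndS (p := 71951) (l := 1) rfl N71951 D210190
theorem N106980 : nd 106980 = n210191 := ndS (p := 71951) (l := 5) rfl N71951 D210191
theorem N106981 : nd 106981 = n210192 := ndS (p := 71951) (l := 7) rfl N71951 D210192
theorem N106982 : nd 106982 = n210193 := ndS (p := 71954) (l := 3) rfl N71954 D210193
theorem N106983 : nd 106983 = n210194 := ndS (p := 71954) (l := 6) rfl N71954 D210194
theorem N106984 : nd 106984 = n210195 := ndS (p := 71956) (l := 5) rfl N71956 D210195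
theorem N106985 : nd 106985 = n210196 := ndS (p := 71958) (l := 4) rfl N71958 D210196
theorem N106986 : nd 106986 = n210197 := ndS (p := 71958) (l := 6) rfl N71958 D210197
theorem N106987 : nd 106987 = n210198 := ndS (p := 71959) (l := 7) rfl N71959 D210198
theorem N106988 : nd 106988 = n210199 := ndS (p := 71964) (l := 5) rfl N71964 D210199
theorem N106989 : nd 106989 = n210200 := ndS (p := 71967) (l := 4) rfl N71967 D210200
theorem N106990 : nd 106990 = n210201 := ndS (p := 71968) (l := 6) rfl N71968 D210201
theorem N106991 : nd 106991 = n210202 := ndS (p := 71969) (l := 5) rfl N71969 D210202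
theorem N106992 : nd 106992 = n210203 := ndS (p := 71971) (l := 3) rfl N71971 D210203
theorem N106993 : nd 106993 = n210204 := ndS (p := 71975) (l := 7) rfl N71975 D210204
theorem N106994 : nd 106994 = n210205 := ndS (p := 71980) (l := 6) rfl N71980 D210205
theorem N106995 : nd 106995 = n210206 := ndS (p := 71983) (l := 7) rfl N71983 D210206
theorem N106996 : nd 106996 = n210207 := ndS (p := 71986) (l := 1) rfl N71986 D210207
theorem N106997 : nd 106997 = n210208 := ndS (p := 71987) (l := 5) rfl N71987 D210208
theorem N106998 : nd 106998 = n210209 := ndS (p := 71988) (l := 5) rfl N71988 D210209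
theorem N106999 : nd 106999 = n210210 := ndS (p := 71989) (l := 0) rfl N71989 D210210
theorem N107000 : nd 107000 = n210211 := ndS (p := 71990) (l := 0) rfl N71990 D210211
theorem N107001 : nd 107001 = n210212 := ndS (p := 71990) (l := 6) rfl N71990 D210212
theorem N107002 : nd 107002 = n210213 := ndS (p := 71991) (l := 5) rfl N71991 D210213
theorem N107003 : nd 107003 = n210214 := ndS (p := 71994) (l := 6) rfl N71994 D210214
theorem N107004 : nd 107004 = n210215 := ndS (p := 71996) (l := 5) rfl N71996 D210215
theorem N107005 : nd 107005 = n210216 := ndS (p := 72005) (l := 6) rfl N72005 D210216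
theorem N107006 : nd 107006 = n210217 := ndS (p := 72011) (l := 6) rfl N72011 D210217
theorem N107007 : nd 107007 = n210218 := ndS (p := 72013) (l := 4) rfl N72013 D210218
theorem N107008 : nd 107008 = n210219 := ndS (p := 72013) (l := 6) rfl N72013 D210219
theorem N107009 : nd 107009 = n210220 := ndS (p := 72014) (l := 3) rfl N72014 D210220
theorem N107010 : nd 107010 = n210221 := ndS (p := 72016) (l := 3) rfl N72016 D210221
theorem N107011 : nd 107011 = n210222 := ndS (p := 72017) (l := 5) rfl N72017 D210222
theorem N107012 : nd 107012 = n210223 := ndS (p := 72018) (l := 6) rfl N72018 D210223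
theorem N107013 : nd 107013 = n210224 := ndS (p := 72019) (l := 3) rfl N72019 D210224
theorem N107014 : nd 107014 = n210225 := ndS (p := 72019) (l := 6) rfl N72019 D210225
theorem N107015 : nd 107015 = n210226 := ndS (p := 72020) (l := 0) rfl N72020 D210226
theorem N107016 : nd 107016 = n210227 := ndS (p := 72020) (l := 1) rfl N72020 D210227
theorem N107017 : nd 107017 = n210228 := ndS (p := 72020) (l := 5) rfl N72020 D210228
theorem N107018 : nd 107018 = n210229 := ndS (p := 72020) (l := 7) rfl N72020 D210229
theorem N107019 : nd 107019 = n210230 := ndS (p := 72023) (l := 0) rfl N72023 D210230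
theorem N107020 : nd 107020 = n210231 := ndS (p := 72023) (l := 1) rfl N72023 D210231
theorem N107021 : nd 107021 = n210232 := ndS (p := 72023) (l := 2) rfl N72023 D210232
theorem N107022 : nd 107022 = n210233 := ndS (p := 72023) (l := 5) rfl N72023 D210233
theorem N107023 : nd 107023 = n210234 := ndS (p := 72024) (l := 0) rfl N72024 D210234
theorem N107024 : nd 107024 = n210235 := ndS (p := 72024) (l := 1) rfl N72024 D210235
theorem N107025 : nd 107025 = n210236 := ndS (p := 72024) (l := 6) rfl N72024 D210236
theorem N107026 : nd 107026 = n210237 := ndS (p := 72025) (l := 0) rfl N72025 D210237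
theorem N107027 : nd 107027 = n210238 := ndS (p := 72025) (l := 5) rfl N72025 D210238
theorem N107028 : nd 107028 = n210239 := ndS (p := 72025) (l := 7) rfl N72025 D210239
theorem N107029 : nd 107029 = n210240 := ndS (p := 72027) (l := 0) rfl N72027 D210240
theorem N107030 : nd 107030 = n210241 := ndS (p := 72027) (l := 1) rfl N72027 D210241
theorem N107031 : nd 107031 = n210242 := ndS (p := 72029) (l := 0) rfl N72029 D210242
theorem N107032 : nd 107032 = n210243 := ndS (p := 72029) (l := 5) rfl N72029 D210243
theorem N107033 : nd 107033 = n210244 := ndS (p := 72030) (l := 5) rfl N72030 D210244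
theorem N107034 : nd 107034 = n210245 := ndS (p := 72031) (l := 6) rfl N72031 D210245
theorem N107035 : nd 107035 = n210246 := ndS (p := 72034) (l := 0) rfl N72034 D210246
theorem N107036 : nd 107036 = n210247 := ndS (p := 72034) (l := 2) rfl N72034 D210247
theorem N107037 : nd 107037 = n210248 := ndS (p := 72034) (l := 4) rfl N72034 D210248
theorem N107038 : nd 107038 = n210249 := ndS (p := 72034) (l := 5) rfl N72034 D210249
theorem N107039 : nd 107039 = n210250 := ndS (p := 72040) (l := 3) rfl N72040 D210250
theorem N107040 : nd 107040 = n210251 := ndS (p := 72042) (l := 6) rfl N72042 D210251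
theorem N107041 : nd 107041 = n210252 := ndS (p := 72043) (l := 4) rfl N72043 D210252
theorem N107042 : nd 107042 = n210253 := ndS (p := 72044) (l := 4) rfl N72044 D210253
theorem N107043 : nd 107043 = n210254 := ndS (p := 72047) (l := 5) rfl N72047 D210254
theorem N107044 : nd 107044 = n210255 := ndS (p := 72048) (l := 0) rfl N72048 D210255
theorem N107045 : nd 107045 = n210256 := ndS (p := 72048) (l := 2) rfl N72048 D210256
theorem N107046 : nd 107046 = n210257 := ndS (p := 72048) (l := 4) rfl N72048 D210257
theorem N107047 : nd 107047 = n210258 := ndS (p := 72048) (l := 5) rfl N72048 D210258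
theorem N107048 : nd 107048 = n210259 := ndS (p := 72050) (l := 1) rfl N72050 D210259
theorem N107049 : nd 107049 = n210260 := ndS (p := 72050) (l := 6) rfl N72050 D210260
theorem N107050 : nd 107050 = n210261 := ndS (p := 72051) (l := 5) rfl N72051 D210261
theorem N107051 : nd 107051 = n210262 := ndS (p := 72052) (l := 5) rfl N72052 D210262
theorem N107052 : nd 107052 = n210263 := ndS (p := 72053) (l := 3) rfl N72053 D210263
theorem N107053 : nd 107053 = n210264 := ndS (p := 72054) (l := 6) rfl N72054 D210264
theorem N107054 : nd 107054 = n210265 := ndS (p := 72056) (l := 4) rfl N72056 D210265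
theorem N107055 : nd 107055 = n210266 := ndS (p := 72057) (l := 4) rfl N72057 D210266
theorem N107056 : nd 107056 = n210267 := ndS (p := 72059) (l := 6) rfl N72059 D210267
theorem N107057 : nd 107057 = n210268 := ndS (p := 72061) (l := 5) rfl N72061 D210268
theorem N107058 : nd 107058 = n210269 := ndS (p := 72065) (l := 5) rfl N72065 D210269
theorem N107059 : nd 107059 = n210270 := ndS (p := 72067) (l := 7) rfl N72067 D210270
theorem N107060 : nd 107060 = n210271 := ndS (p := 72068) (l := 6) rfl N72068 D210271
theorem N107061 : nd 107061 = n210272 := ndS (p := 72077) (l := 7) rfl N72077 D210272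
theorem N107062 : nd 107062 = n210273 := ndS (p := 72078) (l := 6) rfl N72078 D210273
theorem N107063 : nd 107063 = n210274 := ndS (p := 72079) (l := 3) rfl N72079 D210274
theorem N107064 : nd 107064 = n210275 := ndS (p := 72079) (l := 6) rfl N72079 D210275
theorem N107065 : nd 107065 = n210276 := ndS (p := 72080) (l := 5) rfl N72080 D210276
theorem N107066 : nd 107066 = n210277 := ndS (p := 72083) (l := 0) rfl N72083 D210277
theorem N107067 : nd 107067 = n210278 := ndS (p := 72083) (l := 1) rfl N72083 D210278
theorem N107068 : nd 107068 = n210279 := ndS (p := 72083) (l := 5) rfl N72083 D210279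
theorem N107069 : nd 107069 = n210280 := ndS (p := 72083) (l := 7) rfl N72083 D210280
theorem N107070 : nd 107070 = n210281 := ndS (p := 72084) (l := 4) rfl N72084 D210281
theorem N107071 : nd 107071 = n210282 := ndS (p := 72084) (l := 5) rfl N72084 D210282
theorem N107072 : nd 107072 = n210284 := ndS (p := 72085) (l := 1) rfl N72085 D210284
theorem N107073 : nd 107073 = n210285 := ndS (p := 72085) (l := 7) rfl N72085 D210285
theorem N107074 : nd 107074 = n210286 := ndS (p := 72089) (l := 0) rfl N72089 D210286
theorem N107075 : nd 107075 = n210287 := ndS (p := 72089) (l := 1) rfl N72089 D210287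
theorem N107076 : nd 107076 = n210288 := ndS (p := 72089) (l := 7) rfl N72089 D210288
theorem N107077 : nd 107077 = n210289 := ndS (p := 72090) (l := 6) rfl N72090 D210289
theorem N107078 : nd 107078 = n210290 := ndS (p := 72094) (l := 3) rfl N72094 D210290
theorem N107079 : nd 107079 = n210291 := ndS (p := 72094) (l := 4) rfl N72094 D210291
theorem N107080 : nd 107080 = n210292 := ndS (p := 72095) (l := 5) rfl N72095 D210292
theorem N107081 : nd 107081 = n210293 := ndS (p := 72097) (l := 4) rfl N72097 D210293
theorem N107082 : nd 107082 = n210294 := ndS (p := 72099) (l := 4) rfl N72099 D210294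
theorem N107083 : nd 107083 = n210295 := ndS (p := 72100) (l := 5) rfl N72100 D210295
theorem N107084 : nd 107084 = n210296 := ndS (p := 72104) (l := 0) rfl N72104 D210296
theorem N107085 : nd 107085 = n210297 := ndS (p := 72104) (l := 1) rfl N72104 D210297
theorem N107086 : nd 107086 = n210298 := ndS (p := 72104) (l := 3) rfl N72104 D210298
theorem N107087 : nd 107087 = n210299 := ndS (p := 72104) (l := 5) rfl N72104 D210299
theorem N107088 : nd 107088 = n210300 := ndS (p := 72104) (l := 6) rfl N72104 D210300
theorem N107089 : nd 107089 = n210301 := ndS (p := 72105) (l := 5) rfl N72105 D210301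
theorem N107090 : nd 107090 = n210303 := ndS (p := 72107) (l := 4) rfl N72107 D210303
theorem N107091 : nd 107091 = n210304 := ndS (p := 72108) (l := 5) rfl N72108 D210304
theorem N107092 : nd 107092 = n210305 := ndS (p := 72109) (l := 0) rfl N72109 D210305
theorem N107093 : nd 107093 = n210306 := ndS (p := 72109) (l := 1) rfl N72109 D210306
theorem N107094 : nd 107094 = n210307 := ndS (p := 72111) (l := 5) rfl N72111 D210307
theorem N107095 : nd 107095 = n210308 := ndS (p := 72115) (l := 3) rfl N72115 D210308
theorem N107096 : nd 107096 = n210309 := ndS (p := 72115) (l := 6) rfl N72115 D210309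
theorem N107097 : nd 107097 = n210310 := ndS (p := 72117) (l := 6) rfl N72117 D210310
theorem N107098 : nd 107098 = n210311 := ndS (p := 72120) (l := 6) rfl N72120 D210311
theorem N107099 : nd 107099 = n210312 := ndS (p := 72125) (l := 6) rfl N72125 D210312
theorem N107100 : nd 107100 = n210313 := ndS (p := 72126) (l := 5) rfl N72126 D210313
theorem N107101 : nd 107101 = n210314 := ndS (p := 72129) (l := 5) rfl N72129 D210314
theorem N107102 : nd 107102 = n210315 := ndS (p := 72131) (l := 6) rfl N72131 D210315
theorem N107103 : nd 107103 = n210316 := ndS (p := 72133) (l := 3) rfl N72133 D210316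
theorem N107104 : nd 107104 = n210317 := ndS (p := 72134) (l := 5) rfl N72134 D210317
theorem N107105 : nd 107105 = n210318 := ndS (p := 72135) (l := 4) rfl N72135 D210318
theorem N107106 : nd 107106 = n210319 := ndS (p := 72144) (l := 3) rfl N72144 D210319
theorem N107107 : nd 107107 = n210320 := ndS (p := 72145) (l := 3) rfl N72145 D210320
theorem N107108 : nd 107108 = n210321 := ndS (p := 72145) (l := 6) rfl N72145 D210321
theorem N107109 : nd 107109 = n210322 := ndS (p := 72148) (l := 1) rfl N72148 D210322
theorem N107110 : nd 107110 = n210323 := ndS (p := 72150) (l := 3) rfl N72150 D210323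
theorem N107111 : nd 107111 = n210324 := ndS (p := 72152) (l := 3) rfl N72152 D210324
theorem N107112 : nd 107112 = n210325 := ndS (p := 72152) (l := 6) rfl N72152 D210325
theorem N107113 : nd 107113 = n210326 := ndS (p := 72153) (l := 6) rfl N72153 D210326
theorem N107114 : nd 107114 = n210327 := ndS (p := 72155) (l := 4) rfl N72155 D210327
theorem N107115 : nd 107115 = n210328 := ndS (p := 72156) (l := 3) rfl N72156 D210328
theorem N107116 : nd 107116 = n210329 := ndS (p := 72156) (l := 5) rfl N72156 D210329
theorem N107117 : nd 107117 = n210330 := ndS (p := 72159) (l := 3) rfl N72159 D210330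
theorem N107118 : nd 107118 = n210331 := ndS (p := 72159) (l := 4) rfl N72159 D210331
theorem N107119 : nd 107119 = n210332 := ndS (p := 72159) (l := 6) rfl N72159 D210332
theorem N107120 : nd 107120 = n210333 := ndS (p := 72160) (l := 4) rfl N72160 D210333
theorem N107121 : nd 107121 = n210334 := ndS (p := 72160) (l := 6) rfl N72160 D210334
theorem N107122 : nd 107122 = n210335 := ndS (p := 72165) (l := 5) rfl N72165 D210335
theorem N107123 : nd 107123 = n210336 := ndS (p := 72166) (l := 3) rfl N72166 D210336
theorem N107124 : nd 107124 = n210337 := ndS (p := 72167) (l := 1) rfl N72167 D210337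
theorem N107125 : nd 107125 = n210338 := ndS (p := 72168) (l := 6) rfl N72168 D210338
theorem N107126 : nd 107126 = n210339 := ndS (p := 72170) (l := 4) rfl N72170 D210339
theorem N107127 : nd 107127 = n210340 := ndS (p := 72171) (l := 2) rfl N72171 D210340
theorem N107128 : nd 107128 = n210341 := ndS (p := 72173) (l := 1) rfl N72173 D210341
theorem N107129 : nd 107129 = n210342 := ndS (p := 72173) (l := 2) rfl N72173 D210342
theorem N107130 : nd 107130 = n210343 := ndS (p := 72173) (l := 5) rfl N72173 D210343
theorem N107131 : nd 107131 = n210344 := ndS (p := 72173) (l := 6) rfl N72173 D210344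
theorem N107132 : nd 107132 = n210345 := ndS (p := 72176) (l := 5) rfl N72176 D210345
theorem N107133 : nd 107133 = n210346 := ndS (p := 72176) (l := 7) rfl N72176 D210346
theorem N107134 : nd 107134 = n210347 := ndS (p := 72178) (l := 0) rfl N72178 D210347
theorem N107135 : nd 107135 = n210348 := ndS (p := 72180) (l := 1) rfl N72180 D210348
theorem N107136 : nd 107136 = n210349 := ndS (p := 72180) (l := 2) rfl N72180 D210349
theorem N107137 : nd 107137 = n210350 := ndS (p := 72180) (l := 6) rfl N72180 D210350
theorem N107138 : nd 107138 = n210351 := ndS (p := 72181) (l := 5) rfl N72181 D210351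
theorem N107139 : nd 107139 = n210352 := ndS (p := 72184) (l := 1) rfl N72184 D210352
theorem N107140 : nd 107140 = n210353 := ndS (p := 72186) (l := 1) rfl N72186 D210353
theorem N107141 : nd 107141 = n210354 := ndS (p := 72187) (l := 6) rfl N72187 D210354
theorem N107142 : nd 107142 = n210355 := ndS (p := 72191) (l := 6) rfl N72191 D210355
theorem N107143 : nd 107143 = n210356 := ndS (p := 72193) (l := 0) rfl N72193 D210356
theorem N107144 : nd 107144 = n210357 := ndS (p := 72193) (l := 5) rfl N72193 D210357
theorem N107145 : nd 107145 = n210358 := ndS (p := 72194) (l := 6) rfl N72194 D210358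
theorem N107146 : nd 107146 = n210359 := ndS (p := 72195) (l := 3) rfl N72195 D210359
theorem N107147 : nd 107147 = n210360 := ndS (p := 72195) (l := 5) rfl N72195 D210360
theorem N107148 : nd 107148 = n210361 := ndS (p := 72197) (l := 4) rfl N72197 D210361
theorem N107149 : nd 107149 = n210362 := ndS (p := 72197) (l := 6) rfl N72197 D210362
theorem N107150 : nd 107150 = n210363 := ndS (p := 72198) (l := 3) rfl N72198 D210363
theorem N107151 : nd 107151 = n210364 := ndS (p := 72198) (l := 4) rfl N72198 D210364
theorem N107152 : nd 107152 = n210365 := ndS (p := 72198) (l := 6) rfl N72198 D210365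
theorem N107153 : nd 107153 = n210366 := ndS (p := 72200) (l := 6) rfl N72200 D210366
theorem N107154 : nd 107154 = n210367 := ndS (p := 72201) (l := 0) rfl N72201 D210367
theorem N107155 : nd 107155 = n210368 := ndS (p := 72201) (l := 7) rfl N72201 D210368
theorem N107156 : nd 107156 = n210369 := ndS (p := 72202) (l := 6) rfl N72202 D210369
theorem N107157 : nd 107157 = n210370 := ndS (p := 72207) (l := 4) rfl N72207 D210370
theorem N107158 : nd 107158 = n210371 := ndS (p := 72208) (l := 3) rfl N72208 D210371
theorem N107159 : nd 107159 = n210372 := ndS (p := 72208) (l := 4) rfl N72208 D210372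
theorem N107160 : nd 107160 = n210373 := ndS (p := 72212) (l := 0) rfl N72212 D210373
theorem N107161 : nd 107161 = n210374 := ndS (p := 72213) (l := 4) rfl N72213 D210374
theorem N107162 : nd 107162 = n210375 := ndS (p := 72214) (l := 4) rfl N72214 D210375
theorem N107163 : nd 107163 = n210376 := ndS (p := 72217) (l := 3) rfl N72217 D210376
theorem N107164 : nd 107164 = n210377 := ndS (p := 72219) (l := 2) rfl N72219 D210377
theorem N107165 : nd 107165 = n210378 := ndS (p := 72220) (l := 0) rfl N72220 D210378
theorem N107166 : nd 107166 = n210379 := ndS (p := 72220) (l := 2) rfl N72220 D210379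
theorem N107167 : nd 107167 = n210380 := ndS (p := 72222) (l := 5) rfl N72222 D210380
theorem N107168 : nd 107168 = n210381 := ndS (p := 72223) (l := 3) rfl N72223 D210381
theorem N107169 : nd 107169 = n210382 := ndS (p := 72229) (l := 6) rfl N72229 D210382
theorem N107170 : nd 107170 = n210383 := ndS (p := 72236) (l := 2) rfl N72236 D210383
theorem N107171 : nd 107171 = n210384 := ndS (p := 72237) (l := 3) rfl N72237 D210384
theorem N107172 : nd 107172 = n210385 := ndS (p := 72240) (l := 5) rfl N72240 D210385
theorem N107173 : nd 107173 = n210386 := ndS (p := 72242) (l := 4) rfl N72242 D210386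
theorem N107174 : nd 107174 = n210387 := ndS (p := 72242) (l := 6) rfl N72242 D210387
theorem N107175 : nd 107175 = n210388 := ndS (p := 72243) (l := 6) rfl N72243 D210388
theorem N107176 : nd 107176 = n210389 := ndS (p := 72247) (l := 2) rfl N72247 D210389
theorem N107177 : nd 107177 = n210390 := ndS (p := 72250) (l := 3) rfl N72250 D210390
theorem N107178 : nd 107178 = n210391 := ndS (p := 72251) (l := 1) rfl N72251 D210391
theorem N107179 : nd 107179 = n210392 := ndS (p := 72252) (l := 0) rfl N72252 D210392
theorem N107180 : nd 107180 = n210393 := ndS (p := 72253) (l := 3) rfl N72253 D210393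
theorem N107181 : nd 107181 = n210394 := ndS (p := 72253) (l := 5) rfl N72253 D210394
theorem N107182 : nd 107182 = n210395 := ndS (p := 72254) (l := 3) rfl N72254 D210395
theorem N107183 : nd 107183 = n210396 := ndS (p := 72254) (l := 5) rfl N72254 D210396
theorem N107184 : nd 107184 = n210397 := ndS (p := 72255) (l := 4) rfl N72255 D210397
theorem N107185 : nd 107185 = n210398 := ndS (p := 72257) (l := 3) rfl N72257 D210398
theorem N107186 : nd 107186 = n210399 := ndS (p := 72261) (l := 0) rfl N72261 D210399
theorem N107187 : nd 107187 = n210400 := ndS (p := 72261) (l := 2) rfl N72261 D210400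
theorem N107188 : nd 107188 = n210401 := ndS (p := 72261) (l := 5) rfl N72261 D210401
theorem N107189 : nd 107189 = n210402 := ndS (p := 72262) (l := 4) rfl N72262 D210402
theorem N107190 : nd 107190 = n210403 := ndS (p := 72262) (l := 6) rfl N72262 D210403
theorem N107191 : nd 107191 = n210404 := ndS (p := 72263) (l := 1) rfl N72263 D210404
theorem N107192 : nd 107192 = n210405 := ndS (p := 72263) (l := 2) rfl N72263 D210405
theorem N107193 : nd 107193 = n210406 := ndS (p := 72263) (l := 5) rfl N72263 D210406
theorem N107194 : nd 107194 = n210407 := ndS (p := 72264) (l := 4) rfl N72264 D210407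
theorem N107195 : nd 107195 = n210408 := ndS (p := 72265) (l := 3) rfl N72265 D210408
theorem N107196 : nd 107196 = n210409 := ndS (p := 72265) (l := 4) rfl N72265 D210409
theorem N107197 : nd 107197 = n210410 := ndS (p := 72265) (l := 6) rfl N72265 D210410
theorem N107198 : nd 107198 = n210411 := ndS (p := 72266) (l := 1) rfl N72266 D210411
theorem N107199 : nd 107199 = n210412 := ndS (p := 72266) (l := 3) rfl N72266 D210412
theorem N107200 : nd 107200 = n210413 := ndS (p := 72266) (l := 7) rfl N72266 D210413
theorem N107201 : nd 107201 = n210414 := ndS (p := 72268) (l := 5) rfl N72268 D210414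
theorem N107202 : nd 107202 = n210415 := ndS (p := 72269) (l := 4) rfl N72269 D210415
theorem N107203 : nd 107203 = n210416 := ndS (p := 72270) (l := 3) rfl N72270 D210416
theorem N107204 : nd 107204 = n210417 := ndS (p := 72271) (l := 3) rfl N72271 D210417
theorem N107205 : nd 107205 = n210418 := ndS (p := 72271) (l := 5) rfl N72271 D210418
theorem N107206 : nd 107206 = n210419 := ndS (p := 72271) (l := 6) rfl N72271 D210419
theorem N107207 : nd 107207 = n210420 := ndS (p := 72273) (l := 1) rfl N72273 D210420
theorem N107208 : nd 107208 = n210421 := ndS (p := 72273) (l := 2) rfl N72273 D210421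
theorem N107209 : nd 107209 = n210422 := ndS (p := 72277) (l := 3) rfl N72277 D210422
theorem N107210 : nd 107210 = n210423 := ndS (p := 72277) (l := 5) rfl N72277 D210423
theorem N107211 : nd 107211 = n210424 := ndS (p := 72278) (l := 6) rfl N72278 D210424
theorem N107212 : nd 107212 = n210425 := ndS (p := 72279) (l := 3) rfl N72279 D210425
theorem N107213 : nd 107213 = n210426 := ndS (p := 72279) (l := 5) rfl N72279 D210426
theorem N107214 : nd 107214 = n210427 := ndS (p := 72279) (l := 6) rfl N72279 D210427
theorem N107215 : nd 107215 = n210428 := ndS (p := 72283) (l := 5) rfl N72283 D210428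
theorem N107216 : nd 107216 = n210429 := ndS (p := 72286) (l := 0) rfl N72286 D210429
theorem N107217 : nd 107217 = n210430 := ndS (p := 72288) (l := 6) rfl N72288 D210430
theorem N107218 : nd 107218 = n210431 := ndS (p := 72291) (l := 4) rfl N72291 D210431
theorem N107219 : nd 107219 = n210432 := ndS (p := 72295) (l := 4) rfl N72295 D210432
theorem N107220 : nd 107220 = n210433 := ndS (p := 72297) (l := 4) rfl N72297 D210433
theorem N107221 : nd 107221 = n210434 := ndS (p := 72298) (l := 0) rfl N72298 D210434
theorem N107222 : nd 107222 = n210435 := ndS (p := 72298) (l := 1) rfl N72298 D210435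
theorem N107223 : nd 107223 = n210436 := ndS (p := 72302) (l := 3) rfl N72302 D210436
theorem N107224 : nd 107224 = n210437 := ndS (p := 72303) (l := 3) rfl N72303 D210437
theorem N107225 : nd 107225 = n210438 := ndS (p := 72304) (l := 2) rfl N72304 D210438
theorem N107226 : nd 107226 = n210439 := ndS (p := 72304) (l := 6) rfl N72304 D210439
theorem N107227 : nd 107227 = n210440 := ndS (p := 72307) (l := 5) rfl N72307 D210440
theorem N107228 : nd 107228 = n210441 := ndS (p := 72312) (l := 4) rfl N72312 D210441
theorem N107229 : nd 107229 = n210442 := ndS (p := 72316) (l := 5) rfl N72316 D210442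
theorem N107230 : nd 107230 = n210443 := ndS (p := 72317) (l := 4) rfl N72317 D210443
theorem N107231 : nd 107231 = n210444 := ndS (p := 72318) (l := 5) rfl N72318 D210444
theorem N107232 : nd 107232 = n210445 := ndS (p := 72320) (l := 6) rfl N72320 D210445
theorem N107233 : nd 107233 = n210446 := ndS (p := 72321) (l := 4) rfl N72321 D210446
theorem N107234 : nd 107234 = n210447 := ndS (p := 72322) (l := 3) rfl N72322 D210447
theorem N107235 : nd 107235 = n210448 := ndS (p := 72322) (l := 4) rfl N72322 D210448
theorem N107236 : nd 107236 = n210449 := ndS (p := 72324) (l := 5) rfl N72324 D210449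
theorem N107237 : nd 107237 = n210450 := ndS (p := 72325) (l := 4) rfl N72325 D210450
theorem N107238 : nd 107238 = n210451 := ndS (p := 72326) (l := 3) rfl N72326 D210451
theorem N107239 : nd 107239 = n210452 := ndS (p := 72326) (l := 5) rfl N72326 D210452
theorem N107240 : nd 107240 = n210453 := ndS (p := 72327) (l := 1) rfl N72327 D210453
theorem N107241 : nd 107241 = n210454 := ndS (p := 72329) (l := 3) rfl N72329 D210454
theorem N107242 : nd 107242 = n210455 := ndS (p := 72329) (l := 5) rfl N72329 D210455
theorem N107243 : nd 107243 = n210456 := ndS (p := 72330) (l := 5) rfl N72330 D210456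
theorem N107244 : nd 107244 = n210457 := ndS (p := 72335) (l := 6) rfl N72335 D210457
theorem N107245 : nd 107245 = n210458 := ndS (p := 72341) (l := 2) rfl N72341 D210458
theorem N107246 : nd 107246 = n210459 := ndS (p := 72346) (l := 1) rfl N72346 D210459
theorem N107247 : nd 107247 = n210460 := ndS (p := 72346) (l := 5) rfl N72346 D210460
theorem N107248 : nd 107248 = n210461 := ndS (p := 72350) (l := 6) rfl N72350 D210461
theorem N107249 : nd 107249 = n210462 := ndS (p := 72351) (l := 6) rfl N72351 D210462
theorem N107250 : nd 107250 = n210463 := ndS (p := 72352) (l := 1) rfl N72352 D210463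
theorem N107251 : nd 107251 = n210464 := ndS (p := 72352) (l := 5) rfl N72352 D210464
theorem N107252 : nd 107252 = n210465 := ndS (p := 72354) (l := 6) rfl N72354 D210465
theorem N107253 : nd 107253 = n210466 := ndS (p := 72359) (l := 6) rfl N72359 D210466
theorem N107254 : nd 107254 = n210467 := ndS (p := 72360) (l := 5) rfl N72360 D210467
theorem N107255 : nd 107255 = n210468 := ndS (p := 72361) (l := 5) rfl N72361 D210468
theorem N107256 : nd 107256 = n210469 := ndS (p := 72361) (l := 6) rfl N72361 D210469
theorem N107257 : nd 107257 = n210470 := ndS (p := 72362) (l := 4) rfl N72362 D210470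
theorem N107258 : nd 107258 = n210471 := ndS (p := 72362) (l := 7) rfl N72362 D210471
theorem N107259 : nd 107259 = n210472 := ndS (p := 72363) (l := 1) rfl N72363 D210472
theorem N107260 : nd 107260 = n210473 := ndS (p := 72363) (l := 5) rfl N72363 D210473
theorem N107261 : nd 107261 = n210474 := ndS (p := 72363) (l := 7) rfl N72363 D210474
theorem N107262 : nd 107262 = n210475 := ndS (p := 72365) (l := 3) rfl N72365 D210475
theorem N107263 : nd 107263 = n210476 := ndS (p := 72365) (l := 6) rfl N72365 D210476
theorem N107264 : nd 107264 = n210477 := ndS (p := 72366) (l := 6) rfl N72366 D210477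
theorem N107265 : nd 107265 = n210478 := ndS (p := 72367) (l := 0) rfl N72367 D210478
theorem N107266 : nd 107266 = n210479 := ndS (p := 72370) (l := 6) rfl N72370 D210479
theorem N107267 : nd 107267 = n210480 := ndS (p := 72371) (l := 0) rfl N72371 D210480
theorem N107268 : nd 107268 = n210481 := ndS (p := 72371) (l := 1) rfl N72371 D210481
theorem N107269 : nd 107269 = n210482 := ndS (p := 72381) (l := 6) rfl N72381 D210482
theorem N107270 : nd 107270 = n210483 := ndS (p := 72382) (l := 5) rfl N72382 D210483
theorem N107271 : nd 107271 = n210484 := ndS (p := 72383) (l := 5) rfl N72383 D210484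
theorem N107272 : nd 107272 = n210485 := ndS (p := 72383) (l := 7) rfl N72383 D210485
theorem N107273 : nd 107273 = n210486 := ndS (p := 72386) (l := 0) rfl N72386 D210486
theorem N107274 : nd 107274 = n210487 := ndS (p := 72386) (l := 4) rfl N72386 D210487
theorem N107275 : nd 107275 = n210488 := ndS (p := 72395) (l := 3) rfl N72395 D210488
theorem N107276 : nd 107276 = n210489 := ndS (p := 72402) (l := 6) rfl N72402 D210489
theorem N107277 : nd 107277 = n210490 := ndS (p := 72403) (l := 6) rfl N72403 D210490
theorem N107278 : nd 107278 = n210491 := ndS (p := 72405) (l := 6) rfl N72405 D210491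
theorem N107279 : nd 107279 = n210492 := ndS (p := 72415) (l := 5) rfl N72415 D210492
theorem N107280 : nd 107280 = n210493 := ndS (p := 72416) (l := 6) rfl N72416 D210493
theorem N107281 : nd 107281 = n210494 := ndS (p := 72418) (l := 5) rfl N72418 D210494
theorem N107282 : nd 107282 = n210495 := ndS (p := 72425) (l := 0) rfl N72425 D210495
theorem N107283 : nd 107283 = n210496 := ndS (p := 72425) (l := 1) rfl N72425 D210496
theorem N107284 : nd 107284 = n210497 := ndS (p := 72426) (l := 6) rfl N72426 D210497
theorem N107285 : nd 107285 = n210498 := ndS (p := 72428) (l := 3) rfl N72428 D210498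
theorem N107286 : nd 107286 = n210499 := ndS (p := 72428) (l := 6) rfl N72428 D210499
theorem N107287 : nd 107287 = n210500 := ndS (p := 72432) (l := 4) rfl N72432 D210500
theorem N107288 : nd 107288 = n210501 := ndS (p := 72437) (l := 0) rfl N72437 D210501
theorem N107289 : nd 107289 = n210502 := ndS (p := 72437) (l := 1) rfl N72437 D210502
theorem N107290 : nd 107290 = n210503 := ndS (p := 72439) (l := 4) rfl N72439 D210503
theorem N107291 : nd 107291 = n210504 := ndS (p := 72439) (l := 6) rfl N72439 D210504
theorem N107292 : nd 107292 = n210505 := ndS (p := 72442) (l := 1) rfl N72442 D210505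
theorem N107293 : nd 107293 = n210506 := ndS (p := 72442) (l := 5) rfl N72442 D210506
theorem N107294 : nd 107294 = n210507 := ndS (p := 72442) (l := 6) rfl N72442 D210507
theorem N107295 : nd 107295 = n210508 := ndS (p := 72443) (l := 3) rfl N72443 D210508
theorem N107296 : nd 107296 = n210509 := ndS (p := 72443) (l := 5) rfl N72443 D210509
theorem N107297 : nd 107297 = n210510 := ndS (p := 72443) (l := 6) rfl N72443 D210510
theorem N107298 : nd 107298 = n210511 := ndS (p := 72444) (l := 4) rfl N72444 D210511
theorem N107299 : nd 107299 = n210512 := ndS (p := 72444) (l := 6) rfl N72444 D210512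
theorem N107300 : nd 107300 = n210513 := ndS (p := 72445) (l := 0) rfl N72445 D210513
theorem N107301 : nd 107301 = n210514 := ndS (p := 72445) (l := 7) rfl N72445 D210514
theorem N107302 : nd 107302 = n210515 := ndS (p := 72446) (l := 2) rfl N72446 D210515
theorem N107303 : nd 107303 = n210516 := ndS (p := 72446) (l := 4) rfl N72446 D210516
theorem N107304 : nd 107304 = n210517 := ndS (p := 72446) (l := 5) rfl N72446 D210517
theorem N107305 : nd 107305 = n210518 := ndS (p := 72446) (l := 6) rfl N72446 D210518
theorem N107306 : nd 107306 = n210519 := ndS (p := 72447) (l := 5) rfl N72447 D210519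
theorem N107307 : nd 107307 = n210520 := ndS (p := 72447) (l := 6) rfl N72447 D210520
theorem N107308 : nd 107308 = n210521 := ndS (p := 72448) (l := 4) rfl N72448 D210521
theorem N107309 : nd 107309 = n210522 := ndS (p := 72448) (l := 6) rfl N72448 D210522
theorem N107310 : nd 107310 = n210523 := ndS (p := 72449) (l := 1) rfl N72449 D210523
theorem N107311 : nd 107311 = n210524 := ndS (p := 72449) (l := 5) rfl N72449 D210524
theorem N107312 : nd 107312 = n210525 := ndS (p := 72449) (l := 7) rfl N72449 D210525
theorem N107313 : nd 107313 = n210526 := ndS (p := 72450) (l := 6) rfl N72450 D210526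
theorem N107314 : nd 107314 = n210527 := ndS (p := 72451) (l := 3) rfl N72451 D210527
theorem N107315 : nd 107315 = n210528 := ndS (p := 72451) (l := 6) rfl N72451 D210528
theorem N107316 : nd 107316 = n210529 := ndS (p := 72453) (l := 6) rfl N72453 D210529
theorem N107317 : nd 107317 = n210530 := ndS (p := 72467) (l := 4) rfl N72467 D210530
theorem N107318 : nd 107318 = n210531 := ndS (p := 72467) (l := 6) rfl N72467 D210531
theorem N107319 : nd 107319 = n210532 := ndS (p := 72468) (l := 0) rfl N72468 D210532
theorem N107320 : nd 107320 = n210533 := ndS (p := 72468) (l := 1) rfl N72468 D210533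
theorem N107321 : nd 107321 = n210534 := ndS (p := 72468) (l := 7) rfl N72468 D210534
theorem N107322 : nd 107322 = n210535 := ndS (p := 72469) (l := 1) rfl N72469 D210535
theorem N107323 : nd 107323 = n210536 := ndS (p := 72469) (l := 5) rfl N72469 D210536
theorem N107324 : nd 107324 = n210537 := ndS (p := 72469) (l := 6) rfl N72469 D210537
theorem N107325 : nd 107325 = n210539 := ndS (p := 72470) (l := 5) rfl N72470 D210539
theorem N107326 : nd 107326 = n210540 := ndS (p := 72472) (l := 4) rfl N72472 D210540
theorem N107327 : nd 107327 = n210541 := ndS (p := 72473) (l := 4) rfl N72473 D210541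
theorem N107328 : nd 107328 = n210542 := ndS (p := 72475) (l := 0) rfl N72475 D210542
theorem N107329 : nd 107329 = n210543 := ndS (p := 72475) (l := 4) rfl N72475 D210543
theorem N107330 : nd 107330 = n210544 := ndS (p := 72476) (l := 4) rfl N72476 D210544
theorem N107331 : nd 107331 = n210545 := ndS (p := 72476) (l := 6) rfl N72476 D210545
theorem N107332 : nd 107332 = n210546 := ndS (p := 72478) (l := 1) rfl N72478 D210546
theorem N107333 : nd 107333 = n210547 := ndS (p := 72479) (l := 4) rfl N72479 D210547
theorem N107334 : nd 107334 = n210548 := ndS (p := 72480) (l := 4) rfl N72480 D210548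
theorem N107335 : nd 107335 = n210549 := ndS (p := 72481) (l := 0) rfl N72481 D210549
theorem N107336 : nd 107336 = n210550 := ndS (p := 72481) (l := 3) rfl N72481 D210550
theorem N107337 : nd 107337 = n210551 := ndS (p := 72483) (l := 5) rfl N72483 D210551
theorem N107338 : nd 107338 = n210552 := ndS (p := 72484) (l := 6) rfl N72484 D210552
theorem N107339 : nd 107339 = n210553 := ndS (p := 72486) (l := 3) rfl N72486 D210553
theorem N107340 : nd 107340 = n210554 := ndS (p := 72487) (l := 5) rfl N72487 D210554
theorem N107341 : nd 107341 = n210555 := ndS (p := 72488) (l := 4) rfl N72488 D210555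
theorem N107342 : nd 107342 = n210556 := ndS (p := 72490) (l := 6) rfl N72490 D210556
theorem N107343 : nd 107343 = n210557 := ndS (p := 72491) (l := 6) rfl N72491 D210557
theorem N107344 : nd 107344 = n210558 := ndS (p := 72492) (l := 0) rfl N72492 D210558
theorem N107345 : nd 107345 = n210559 := ndS (p := 72492) (l := 1) rfl N72492 D210559
theorem N107346 : nd 107346 = n210560 := ndS (p := 72493) (l := 0) rfl N72493 D210560
theorem N107347 : nd 107347 = n210561 := ndS (p := 72493) (l := 1) rfl N72493 D210561
theorem N107348 : nd 107348 = n210562 := ndS (p := 72493) (l := 5) rfl N72493 D210562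
theorem N107349 : nd 107349 = n210563 := ndS (p := 72493) (l := 7) rfl N72493 D210563
theorem N107350 : nd 107350 = n210564 := ndS (p := 72494) (l := 0) rfl N72494 D210564
theorem N107351 : nd 107351 = n210565 := ndS (p := 72494) (l := 1) rfl N72494 D210565
theorem N107352 : nd 107352 = n210566 := ndS (p := 72494) (l := 5) rfl N72494 D210566
theorem N107353 : nd 107353 = n210567 := ndS (p := 72494) (l := 7) rfl N72494 D210567
theorem N107354 : nd 107354 = n210568 := ndS (p := 72495) (l := 5) rfl N72495 D210568
theorem N107355 : nd 107355 = n210569 := ndS (p := 72496) (l := 0) rfl N72496 D210569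
theorem N107356 : nd 107356 = n210570 := ndS (p := 72496) (l := 4) rfl N72496 D210570
theorem N107357 : nd 107357 = n210571 := ndS (p := 72496) (l := 7) rfl N72496 D210571
theorem N107358 : nd 107358 = n210572 := ndS (p := 72498) (l := 1) rfl N72498 D210572
theorem N107359 : nd 107359 = n210573 := ndS (p := 72499) (l := 0) rfl N72499 D210573
theorem N107360 : nd 107360 = n210574 := ndS (p := 72501) (l := 6) rfl N72501 D210574
theorem N107361 : nd 107361 = n210575 := ndS (p := 72503) (l := 6) rfl N72503 D210575
theorem N107362 : nd 107362 = n210576 := ndS (p := 72504) (l := 1) rfl N72504 D210576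
theorem N107363 : nd 107363 = n210577 := ndS (p := 72504) (l := 5) rfl N72504 D210577
theorem N107364 : nd 107364 = n210578 := ndS (p := 72504) (l := 7) rfl N72504 D210578
theorem N107365 : nd 107365 = n210579 := ndS (p := 72505) (l := 6) rfl N72505 D210579
theorem N107366 : nd 107366 = n210580 := ndS (p := 72507) (l := 0) rfl N72507 D210580
theorem N107367 : nd 107367 = n210581 := ndS (p := 72507) (l := 1) rfl N72507 D210581
theorem N107368 : nd 107368 = n210582 := ndS (p := 72508) (l := 7) rfl N72508 D210582
theorem N107369 : nd 107369 = n210583 := ndS (p := 72509) (l := 3) rfl N72509 D210583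
theorem N107370 : nd 107370 = n210584 := ndS (p := 72509) (l := 4) rfl N72509 D210584
theorem N107371 : nd 107371 = n210585 := ndS (p := 72509) (l := 5) rfl N72509 D210585
theorem N107372 : nd 107372 = n210586 := ndS (p := 72510) (l := 4) rfl N72510 D210586
theorem N107373 : nd 107373 = n210587 := ndS (p := 72510) (l := 5) rfl N72510 D210587
theorem N107374 : nd 107374 = n210588 := ndS (p := 72511) (l := 0) rfl N72511 D210588
theorem N107375 : nd 107375 = n210589 := ndS (p := 72511) (l := 1) rfl N72511 D210589
theorem N107376 : nd 107376 = n210590 := ndS (p := 72511) (l := 4) rfl N72511 D210590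
theorem N107377 : nd 107377 = n210591 := ndS (p := 72511) (l := 7) rfl N72511 D210591
theorem N107378 : nd 107378 = n210592 := ndS (p := 72513) (l := 3) rfl N72513 D210592
theorem N107379 : nd 107379 = n210593 := ndS (p := 72515) (l := 0) rfl N72515 D210593
theorem N107380 : nd 107380 = n210594 := ndS (p := 72515) (l := 1) rfl N72515 D210594
theorem N107381 : nd 107381 = n210595 := ndS (p := 72515) (l := 4) rfl N72515 D210595
theorem N107382 : nd 107382 = n210596 := ndS (p := 72515) (l := 7) rfl N72515 D210596
theorem N107383 : nd 107383 = n210597 := ndS (p := 72517) (l := 2) rfl N72517 D210597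
theorem N107384 : nd 107384 = n210598 := ndS (p := 72518) (l := 4) rfl N72518 D210598
theorem N107385 : nd 107385 = n210599 := ndS (p := 72518) (l := 6) rfl N72518 D210599
theorem N107386 : nd 107386 = n210600 := ndS (p := 72519) (l := 3) rfl N72519 D210600
theorem N107387 : nd 107387 = n210601 := ndS (p := 72519) (l := 4) rfl N72519 D210601
theorem N107388 : nd 107388 = n210602 := ndS (p := 72520) (l := 3) rfl N72520 D210602
theorem N107389 : nd 107389 = n210603 := ndS (p := 72520) (l := 4) rfl N72520 D210603
theorem N107390 : nd 107390 = n210604 := ndS (p := 72520) (l := 6) rfl N72520 D210604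
theorem N107391 : nd 107391 = n210605 := ndS (p := 72521) (l := 3) rfl N72521 D210605
theorem N107392 : nd 107392 = n210606 := ndS (p := 72522) (l := 6) rfl N72522 D210606
theorem N107393 : nd 107393 = n210607 := ndS (p := 72523) (l := 5) rfl N72523 D210607
theorem N107394 : nd 107394 = n210608 := ndS (p := 72524) (l := 4) rfl N72524 D210608
theorem N107395 : nd 107395 = n210609 := ndS (p := 72530) (l := 4) rfl N72530 D210609
theorem N107396 : nd 107396 = n210610 := ndS (p := 72530) (l := 6) rfl N72530 D210610
theorem N107397 : nd 107397 = n210611 := ndS (p := 72531) (l := 0) rfl N72531 D210611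
theorem N107398 : nd 107398 = n210612 := ndS (p := 72531) (l := 1) rfl N72531 D210612
theorem N107399 : nd 107399 = n210613 := ndS (p := 72531) (l := 5) rfl N72531 D210613
theorem N107400 : nd 107400 = n210614 := ndS (p := 72531) (l := 7) rfl N72531 D210614
theorem N107401 : nd 107401 = n210615 := ndS (p := 72532) (l := 3) rfl N72532 D210615
theorem N107402 : nd 107402 = n210616 := ndS (p := 72532) (l := 4) rfl N72532 D210616
theorem N107403 : nd 107403 = n210617 := ndS (p := 72533) (l := 4) rfl N72533 D210617
theorem N107404 : nd 107404 = n210618 := ndS (p := 72533) (l := 6) rfl N72533 D210618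
theorem N107405 : nd 107405 = n210619 := ndS (p := 72534) (l := 5) rfl N72534 D210619
theorem N107406 : nd 107406 = n210620 := ndS (p := 72535) (l := 5) rfl N72535 D210620
theorem N107407 : nd 107407 = n210621 := ndS (p := 72535) (l := 7) rfl N72535 D210621
theorem N107408 : nd 107408 = n210622 := ndS (p := 72536) (l := 3) rfl N72536 D210622
theorem N107409 : nd 107409 = n210623 := ndS (p := 72536) (l := 4) rfl N72536 D210623
theorem N107410 : nd 107410 = n210624 := ndS (p := 72536) (l := 5) rfl N72536 D210624
theorem N107411 : nd 107411 = n210625 := ndS (p := 72536) (l := 6) rfl N72536 D210625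
theorem N107412 : nd 107412 = n210626 := ndS (p := 72537) (l := 3) rfl N72537 D210626
theorem N107413 : nd 107413 = n210627 := ndS (p := 72537) (l := 5) rfl N72537 D210627
theorem N107414 : nd 107414 = n210628 := ndS (p := 72538) (l := 0) rfl N72538 D210628
theorem N107415 : nd 107415 = n210629 := ndS (p := 72538) (l := 1) rfl N72538 D210629
theorem N107416 : nd 107416 = n210630 := ndS (p := 72538) (l := 4) rfl N72538 D210630
theorem N107417 : nd 107417 = n210631 := ndS (p := 72538) (l := 7) rfl N72538 D210631
theorem N107418 : nd 107418 = n210632 := ndS (p := 72540) (l := 3) rfl N72540 D210632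
theorem N107419 : nd 107419 = n210633 := ndS (p := 72540) (l := 6) rfl N72540 D210633
theorem N107420 : nd 107420 = n210634 := ndS (p := 72541) (l := 3) rfl N72541 D210634
theorem N107421 : nd 107421 = n210635 := ndS (p := 72542) (l := 0) rfl N72542 D210635
theorem N107422 : nd 107422 = n210636 := ndS (p := 72542) (l := 1) rfl N72542 D210636
theorem N107423 : nd 107423 = n210637 := ndS (p := 72542) (l := 4) rfl N72542 D210637
theorem N107424 : nd 107424 = n210638 := ndS (p := 72542) (l := 7) rfl N72542 D210638
theorem N107425 : nd 107425 = n210639 := ndS (p := 72545) (l := 0) rfl N72545 D210639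
theorem N107426 : nd 107426 = n210640 := ndS (p := 72545) (l := 3) rfl N72545 D210640
theorem N107427 : nd 107427 = n210641 := ndS (p := 72545) (l := 5) rfl N72545 D210641
theorem N107428 : nd 107428 = n210642 := ndS (p := 72545) (l := 7) rfl N72545 D210642
theorem N107429 : nd 107429 = n210643 := ndS (p := 72548) (l := 6) rfl N72548 D210643
theorem N107430 : nd 107430 = n210644 := ndS (p := 72553) (l := 1) rfl N72553 D210644
theorem N107431 : nd 107431 = n210645 := ndS (p := 72553) (l := 5) rfl N72553 D210645
theorem N107432 : nd 107432 = n210646 := ndS (p := 72553) (l := 7) rfl N72553 D210646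
theorem N107433 : nd 107433 = n210647 := ndS (p := 72554) (l := 3) rfl N72554 D210647
theorem N107434 : nd 107434 = n210648 := ndS (p := 72554) (l := 4) rfl N72554 D210648
theorem N107435 : nd 107435 = n210649 := ndS (p := 72555) (l := 0) rfl N72555 D210649
theorem N107436 : nd 107436 = n210650 := ndS (p := 72556) (l := 3) rfl N72556 D210650
theorem N107437 : nd 107437 = n210651 := ndS (p := 72556) (l := 4) rfl N72556 D210651
theorem N107438 : nd 107438 = n210652 := ndS (p := 72557) (l := 3) rfl N72557 D210652
theorem N107439 : nd 107439 = n210653 := ndS (p := 72557) (l := 4) rfl N72557 D210653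
theorem N107440 : nd 107440 = n210654 := ndS (p := 72557) (l := 5) rfl N72557 D210654
theorem N107441 : nd 107441 = n210655 := ndS (p := 72558) (l := 4) rfl N72558 D210655
theorem N107442 : nd 107442 = n210656 := ndS (p := 72558) (l := 7) rfl N72558 D210656
theorem N107443 : nd 107443 = n210657 := ndS (p := 72560) (l := 3) rfl N72560 D210657
theorem N107444 : nd 107444 = n210658 := ndS (p := 72560) (l := 5) rfl N72560 D210658
theorem N107445 : nd 107445 = n210659 := ndS (p := 72562) (l := 4) rfl N72562 D210659
theorem N107446 : nd 107446 = n210660 := ndS (p := 72562) (l := 7) rfl N72562 D210660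
theorem N107447 : nd 107447 = n210661 := ndS (p := 72565) (l := 1) rfl N72565 D210661
theorem N107448 : nd 107448 = n210662 := ndS (p := 72565) (l := 3) rfl N72565 D210662
theorem N107449 : nd 107449 = n210663 := ndS (p := 72566) (l := 6) rfl N72566 D210663
theorem N107450 : nd 107450 = n210664 := ndS (p := 72567) (l := 5) rfl N72567 D210664
theorem N107451 : nd 107451 = n210665 := ndS (p := 72567) (l := 6) rfl N72567 D210665
theorem N107452 : nd 107452 = n210666 := ndS (p := 72568) (l := 6) rfl N72568 D210666
theorem N107453 : nd 107453 = n210667 := ndS (p := 72569) (l := 0) rfl N72569 D210667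
theorem N107454 : nd 107454 = n210668 := ndS (p := 72569) (l := 1) rfl N72569 D210668
theorem N107455 : nd 107455 = n210669 := ndS (p := 72570) (l := 6) rfl N72570 D210669
theorem N107456 : nd 107456 = n210670 := ndS (p := 72571) (l := 0) rfl N72571 D210670
theorem N107457 : nd 107457 = n210671 := ndS (p := 72571) (l := 5) rfl N72571 D210671
theorem N107458 : nd 107458 = n210672 := ndS (p := 72571) (l := 7) rfl N72571 D210672
theorem N107459 : nd 107459 = n210673 := ndS (p := 72572) (l := 5) rfl N72572 D210673
theorem N107460 : nd 107460 = n210674 := ndS (p := 72572) (l := 6) rfl N72572 D210674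
theorem N107461 : nd 107461 = n210675 := ndS (p := 72575) (l := 5) rfl N72575 D210675
theorem N107462 : nd 107462 = n210676 := ndS (p := 72576) (l := 5) rfl N72576 D210676
theorem N107463 : nd 107463 = n210677 := ndS (p := 72576) (l := 6) rfl N72576 D210677
theorem N107464 : nd 107464 = n210678 := ndS (p := 72577) (l := 0) rfl N72577 D210678
theorem N107465 : nd 107465 = n210679 := ndS (p := 72577) (l := 6) rfl N72577 D210679
theorem N107466 : nd 107466 = n210680 := ndS (p := 72578) (l := 0) rfl N72578 D210680
theorem N107467 : nd 107467 = n210681 := ndS (p := 72578) (l := 5) rfl N72578 D210681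
theorem N107468 : nd 107468 = n210682 := ndS (p := 72578) (l := 7) rfl N72578 D210682
theorem N107469 : nd 107469 = n210683 := ndS (p := 72579) (l := 5) rfl N72579 D210683
theorem N107470 : nd 107470 = n210684 := ndS (p := 72579) (l := 6) rfl N72579 D210684
theorem N107471 : nd 107471 = n210686 := ndS (p := 72580) (l := 1) rfl N72580 D210686
theorem N107472 : nd 107472 = n210687 := ndS (p := 72580) (l := 5) rfl N72580 D210687
theorem N107473 : nd 107473 = n210688 := ndS (p := 72580) (l := 7) rfl N72580 D210688
theorem N107474 : nd 107474 = n210689 := ndS (p := 72581) (l := 5) rfl N72581 D210689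
theorem N107475 : nd 107475 = n210690 := ndS (p := 72582) (l := 1) rfl N72582 D210690
theorem N107476 : nd 107476 = n210691 := ndS (p := 72582) (l := 4) rfl N72582 D210691
theorem N107477 : nd 107477 = n210692 := ndS (p := 72582) (l := 7) rfl N72582 D210692
theorem N107478 : nd 107478 = n210693 := ndS (p := 72584) (l := 3) rfl N72584 D210693
theorem N107479 : nd 107479 = n210694 := ndS (p := 72586) (l := 2) rfl N72586 D210694
theorem N107480 : nd 107480 = n210695 := ndS (p := 72586) (l := 4) rfl N72586 D210695
theorem N107481 : nd 107481 = n210696 := ndS (p := 72586) (l := 6) rfl N72586 D210696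
theorem N107482 : nd 107482 = n210697 := ndS (p := 72588) (l := 1) rfl N72588 D210697
theorem N107483 : nd 107483 = n210698 := ndS (p := 72588) (l := 7) rfl N72588 D210698
theorem N107484 : nd 107484 = n210699 := ndS (p := 72589) (l := 3) rfl N72589 D210699
theorem N107485 : nd 107485 = n210700 := ndS (p := 72589) (l := 5) rfl N72589 D210700
theorem N107486 : nd 107486 = n210701 := ndS (p := 72590) (l := 3) rfl N72590 D210701
theorem N107487 : nd 107487 = n210702 := ndS (p := 72591) (l := 0) rfl N72591 D210702
theorem N107488 : nd 107488 = n210703 := ndS (p := 72591) (l := 1) rfl N72591 D210703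
theorem N107489 : nd 107489 = n210704 := ndS (p := 72591) (l := 6) rfl N72591 D210704
theorem N107490 : nd 107490 = n210705 := ndS (p := 72592) (l := 5) rfl N72592 D210705
theorem N107491 : nd 107491 = n210706 := ndS (p := 72593) (l := 6) rfl N72593 D210706
theorem N107492 : nd 107492 = n210707 := ndS (p := 72596) (l := 5) rfl N72596 D210707
theorem N107493 : nd 107493 = n210708 := ndS (p := 72602) (l := 3) rfl N72602 D210708
theorem N107494 : nd 107494 = n210709 := ndS (p := 72603) (l := 4) rfl N72603 D210709
theorem N107495 : nd 107495 = n210710 := ndS (p := 72609) (l := 0) rfl N72609 D210710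
theorem N107496 : nd 107496 = n210711 := ndS (p := 72610) (l := 5) rfl N72610 D210711
theorem N107497 : nd 107497 = n210712 := ndS (p := 72610) (l := 6) rfl N72610 D210712
theorem N107498 : nd 107498 = n210713 := ndS (p := 72611) (l := 4) rfl N72611 D210713
theorem N107499 : nd 107499 = n210714 := ndS (p := 72616) (l := 5) rfl N72616 D210714
theorem N107500 : nd 107500 = n210715 := ndS (p := 72617) (l := 6) rfl N72617 D210715
theorem N107501 : nd 107501 = n210716 := ndS (p := 72618) (l := 0) rfl N72618 D210716
theorem N107502 : nd 107502 = n210717 := ndS (p := 72618) (l := 1) rfl N72618 D210717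
theorem N107503 : nd 107503 = n210718 := ndS (p := 72622) (l := 4) rfl N72622 D210718
theorem N107504 : nd 107504 = n210719 := ndS (p := 72624) (l := 4) rfl N72624 D210719
theorem N107505 : nd 107505 = n210720 := ndS (p := 72625) (l := 3) rfl N72625 D210720
theorem N107506 : nd 107506 = n210721 := ndS (p := 72625) (l := 4) rfl N72625 D210721
theorem N107507 : nd 107507 = n210722 := ndS (p := 72625) (l := 6) rfl N72625 D210722
theorem N107508 : nd 107508 = n210723 := ndS (p := 72629) (l := 0) rfl N72629 D210723
theorem N107509 : nd 107509 = n210724 := ndS (p := 72630) (l := 3) rfl N72630 D210724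
theorem N107510 : nd 107510 = n210725 := ndS (p := 72630) (l := 5) rfl N72630 D210725
theorem N107511 : nd 107511 = n210726 := ndS (p := 72633) (l := 3) rfl N72633 D210726
theorem N107512 : nd 107512 = n210727 := ndS (p := 72637) (l := 4) rfl N72637 D210727
theorem N107513 : nd 107513 = n210728 := ndS (p := 72637) (l := 6) rfl N72637 D210728
theorem N107514 : nd 107514 = n210729 := ndS (p := 72638) (l := 1) rfl N72638 D210729
theorem N107515 : nd 107515 = n210730 := ndS (p := 72638) (l := 7) rfl N72638 D210730
theorem N107516 : nd 107516 = n210731 := ndS (p := 72639) (l := 3) rfl N72639 D210731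
theorem N107517 : nd 107517 = n210732 := ndS (p := 72639) (l := 6) rfl N72639 D210732
theorem N107518 : nd 107518 = n210733 := ndS (p := 72641) (l := 5) rfl N72641 D210733
theorem N107519 : nd 107519 = n210734 := ndS (p := 72642) (l := 4) rfl N72642 D210734
theorem N107520 : nd 107520 = n210735 := ndS (p := 72645) (l := 2) rfl N72645 D210735
theorem N107521 : nd 107521 = n210736 := ndS (p := 72646) (l := 4) rfl N72646 D210736
theorem N107522 : nd 107522 = n210737 := ndS (p := 72646) (l := 6) rfl N72646 D210737
theorem N107523 : nd 107523 = n210738 := ndS (p := 72647) (l := 0) rfl N72647 D210738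
theorem N107524 : nd 107524 = n210739 := ndS (p := 72647) (l := 1) rfl N72647 D210739
theorem N107525 : nd 107525 = n210740 := ndS (p := 72647) (l := 5) rfl N72647 D210740
theorem N107526 : nd 107526 = n210741 := ndS (p := 72648) (l := 6) rfl N72648 D210741
theorem N107527 : nd 107527 = n210742 := ndS (p := 72649) (l := 0) rfl N72649 D210742
theorem N107528 : nd 107528 = n210743 := ndS (p := 72649) (l := 5) rfl N72649 D210743
theorem N107529 : nd 107529 = n210744 := ndS (p := 72649) (l := 7) rfl N72649 D210744
theorem N107530 : nd 107530 = n210745 := ndS (p := 72650) (l := 3) rfl N72650 D210745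
theorem N107531 : nd 107531 = n210746 := ndS (p := 72650) (l := 5) rfl N72650 D210746
theorem N107532 : nd 107532 = n210747 := ndS (p := 72651) (l := 3) rfl N72651 D210747
theorem N107533 : nd 107533 = n210748 := ndS (p := 72651) (l := 5) rfl N72651 D210748
theorem N107534 : nd 107534 = n210749 := ndS (p := 72652) (l := 0) rfl N72652 D210749
theorem N107535 : nd 107535 = n210750 := ndS (p := 72652) (l := 1) rfl N72652 D210750
theorem N107536 : nd 107536 = n210751 := ndS (p := 72652) (l := 7) rfl N72652 D210751
theorem N107537 : nd 107537 = n210752 := ndS (p := 72654) (l := 5) rfl N72654 D210752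
theorem N107538 : nd 107538 = n210753 := ndS (p := 72655) (l := 3) rfl N72655 D210753
theorem N107539 : nd 107539 = n210754 := ndS (p := 72655) (l := 5) rfl N72655 D210754
theorem N107540 : nd 107540 = n210755 := ndS (p := 72656) (l := 0) rfl N72656 D210755
theorem N107541 : nd 107541 = n210756 := ndS (p := 72656) (l := 1) rfl N72656 D210756
theorem N107542 : nd 107542 = n210757 := ndS (p := 72656) (l := 4) rfl N72656 D210757
theorem N107543 : nd 107543 = n210758 := ndS (p := 72656) (l := 7) rfl N72656 D210758
theorem N107544 : nd 107544 = n210759 := ndS (p := 72658) (l := 0) rfl N72658 D210759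
theorem N107545 : nd 107545 = n210760 := ndS (p := 72658) (l := 2) rfl N72658 D210760
theorem N107546 : nd 107546 = n210762 := ndS (p := 72658) (l := 6) rfl N72658 D210762
theorem N107547 : nd 107547 = n210763 := ndS (p := 72659) (l := 4) rfl N72659 D210763
theorem N107548 : nd 107548 = n210764 := ndS (p := 72659) (l := 6) rfl N72659 D210764
theorem N107549 : nd 107549 = n210765 := ndS (p := 72661) (l := 6) rfl N72661 D210765
theorem N107550 : nd 107550 = n210766 := ndS (p := 72662) (l := 3) rfl N72662 D210766
theorem N107551 : nd 107551 = n210767 := ndS (p := 72662) (l := 6) rfl N72662 D210767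
theorem N107552 : nd 107552 = n210768 := ndS (p := 72663) (l := 3) rfl N72663 D210768
theorem N107553 : nd 107553 = n210769 := ndS (p := 72663) (l := 6) rfl N72663 D210769
theorem N107554 : nd 107554 = n210770 := ndS (p := 72665) (l := 6) rfl N72665 D210770
theorem N107555 : nd 107555 = n210771 := ndS (p := 72666) (l := 3) rfl N72666 D210771
theorem N107556 : nd 107556 = n210772 := ndS (p := 72666) (l := 5) rfl N72666 D210772
theorem N107557 : nd 107557 = n210774 := ndS (p := 72668) (l := 5) rfl N72668 D210774
theorem N107558 : nd 107558 = n210775 := ndS (p := 72668) (l := 6) rfl N72668 D210775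
theorem N107559 : nd 107559 = n210776 := ndS (p := 72669) (l := 6) rfl N72669 D210776
theorem N107560 : nd 107560 = n210777 := ndS (p := 72672) (l := 6) rfl N72672 D210777
theorem N107561 : nd 107561 = n210778 := ndS (p := 72674) (l := 5) rfl N72674 D210778
theorem N107562 : nd 107562 = n210779 := ndS (p := 72676) (l := 6) rfl N72676 D210779
theorem N107563 : nd 107563 = n210780 := ndS (p := 72678) (l := 4) rfl N72678 D210780
theorem N107564 : nd 107564 = n210781 := ndS (p := 72680) (l := 6) rfl N72680 D210781
theorem N107565 : nd 107565 = n210782 := ndS (p := 72682) (l := 0) rfl N72682 D210782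
theorem N107566 : nd 107566 = n210783 := ndS (p := 72682) (l := 5) rfl N72682 D210783
theorem N107567 : nd 107567 = n210784 := ndS (p := 72688) (l := 5) rfl N72688 D210784
theorem N107568 : nd 107568 = n210785 := ndS (p := 72691) (l := 5) rfl N72691 D210785
theorem N107569 : nd 107569 = n210786 := ndS (p := 72702) (l := 3) rfl N72702 D210786
theorem N107570 : nd 107570 = n210787 := ndS (p := 72702) (l := 5) rfl N72702 D210787
theorem N107571 : nd 107571 = n210788 := ndS (p := 72704) (l := 3) rfl N72704 D210788
theorem N107572 : nd 107572 = n210789 := ndS (p := 72705) (l := 3) rfl N72705 D210789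
theorem N107573 : nd 107573 = n210790 := ndS (p := 72709) (l := 6) rfl N72709 D210790
theorem N107574 : nd 107574 = n210791 := ndS (p := 72710) (l := 2) rfl N72710 D210791
theorem N107575 : nd 107575 = n210792 := ndS (p := 72711) (l := 1) rfl N72711 D210792
theorem N107576 : nd 107576 = n210793 := ndS (p := 72715) (l := 5) rfl N72715 D210793
theorem N107577 : nd 107577 = n210794 := ndS (p := 72715) (l := 6) rfl N72715 D210794
theorem N107578 : nd 107578 = n210795 := ndS (p := 72716) (l := 6) rfl N72716 D210795
theorem N107579 : nd 107579 = n210796 := ndS (p := 72717) (l := 0) rfl N72717 D210796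
theorem N107580 : nd 107580 = n210797 := ndS (p := 72717) (l := 1) rfl N72717 D210797
theorem N107581 : nd 107581 = n210798 := ndS (p := 72717) (l := 5) rfl N72717 D210798
theorem N107582 : nd 107582 = n210799 := ndS (p := 72717) (l := 7) rfl N72717 D210799
theorem N107583 : nd 107583 = n210800 := ndS (p := 72719) (l := 4) rfl N72719 D210800
theorem N107584 : nd 107584 = n210801 := ndS (p := 72720) (l := 4) rfl N72720 D210801
theorem N107585 : nd 107585 = n210802 := ndS (p := 72726) (l := 6) rfl N72726 D210802
theorem N107586 : nd 107586 = n210803 := ndS (p := 72727) (l := 1) rfl N72727 D210803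
theorem N107587 : nd 107587 = n210804 := ndS (p := 72727) (l := 5) rfl N72727 D210804
theorem N107588 : nd 107588 = n210805 := ndS (p := 72727) (l := 7) rfl N72727 D210805
theorem N107589 : nd 107589 = n210806 := ndS (p := 72728) (l := 3) rfl N72728 D210806
theorem N107590 : nd 107590 = n210807 := ndS (p := 72728) (l := 5) rfl N72728 D210807
theorem N107591 : nd 107591 = n210808 := ndS (p := 72729) (l := 3) rfl N72729 D210808
theorem N107592 : nd 107592 = n210809 := ndS (p := 72729) (l := 5) rfl N72729 D210809
theorem N107593 : nd 107593 = n210810 := ndS (p := 72730) (l := 0) rfl N72730 D210810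
theorem N107594 : nd 107594 = n210811 := ndS (p := 72730) (l := 4) rfl N72730 D210811
theorem N107595 : nd 107595 = n210812 := ndS (p := 72730) (l := 7) rfl N72730 D210812
theorem N107596 : nd 107596 = n210813 := ndS (p := 72732) (l := 6) rfl N72732 D210813
theorem N107597 : nd 107597 = n210814 := ndS (p := 72735) (l := 5) rfl N72735 D210814
theorem N107598 : nd 107598 = n210815 := ndS (p := 72739) (l := 0) rfl N72739 D210815
theorem N107599 : nd 107599 = n210816 := ndS (p := 72739) (l := 3) rfl N72739 D210816
theorem N107600 : nd 107600 = n210817 := ndS (p := 72739) (l := 5) rfl N72739 D210817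
theorem N107601 : nd 107601 = n210819 := ndS (p := 72740) (l := 5) rfl N72740 D210819
theorem N107602 : nd 107602 = n210820 := ndS (p := 72741) (l := 5) rfl N72741 D210820
theorem N107603 : nd 107603 = n210821 := ndS (p := 72751) (l := 5) rfl N72751 D210821
theorem N107604 : nd 107604 = n210822 := ndS (p := 72753) (l := 5) rfl N72753 D210822
theorem N107605 : nd 107605 = n210823 := ndS (p := 72754) (l := 4) rfl N72754 D210823
theorem N107606 : nd 107606 = n210824 := ndS (p := 72757) (l := 4) rfl N72757 D210824
theorem N107607 : nd 107607 = n210825 := ndS (p := 72757) (l := 6) rfl N72757 D210825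
theorem N107608 : nd 107608 = n210826 := ndS (p := 72758) (l := 5) rfl N72758 D210826
theorem N107609 : nd 107609 = n210828 := ndS (p := 72760) (l := 6) rfl N72760 D210828
theorem N107610 : nd 107610 = n210829 := ndS (p := 72761) (l := 3) rfl N72761 D210829
theorem N107611 : nd 107611 = n210830 := ndS (p := 72761) (l := 6) rfl N72761 D210830
theorem N107612 : nd 107612 = n210831 := ndS (p := 72762) (l := 0) rfl N72762 D210831
theorem N107613 : nd 107613 = n210832 := ndS (p := 72762) (l := 1) rfl N72762 D210832
theorem N107614 : nd 107614 = n210833 := ndS (p := 72762) (l := 5) rfl N72762 D210833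
theorem N107615 : nd 107615 = n210834 := ndS (p := 72762) (l := 7) rfl N72762 D210834
theorem N107616 : nd 107616 = n210835 := ndS (p := 72763) (l := 3) rfl N72763 D210835
theorem N107617 : nd 107617 = n210836 := ndS (p := 72763) (l := 5) rfl N72763 D210836
theorem N107618 : nd 107618 = n210837 := ndS (p := 72764) (l := 5) rfl N72764 D210837
theorem N107619 : nd 107619 = n210838 := ndS (p := 72765) (l := 0) rfl N72765 D210838
theorem N107620 : nd 107620 = n210839 := ndS (p := 72765) (l := 1) rfl N72765 D210839
theorem N107621 : nd 107621 = n210840 := ndS (p := 72765) (l := 7) rfl N72765 D210840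
theorem N107622 : nd 107622 = n210841 := ndS (p := 72778) (l := 6) rfl N72778 D210841
theorem N107623 : nd 107623 = n210842 := ndS (p := 72780) (l := 1) rfl N72780 D210842
theorem N107624 : nd 107624 = n210843 := ndS (p := 72780) (l := 5) rfl N72780 D210843
theorem N107625 : nd 107625 = n210844 := ndS (p := 72780) (l := 7) rfl N72780 D210844
theorem N107626 : nd 107626 = n210845 := ndS (p := 72781) (l := 5) rfl N72781 D210845
theorem N107627 : nd 107627 = n210846 := ndS (p := 72781) (l := 7) rfl N72781 D210846
theorem N107628 : nd 107628 = n210847 := ndS (p := 72783) (l := 0) rfl N72783 D210847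
theorem N107629 : nd 107629 = n210848 := ndS (p := 72786) (l := 0) rfl N72786 D210848
theorem N107630 : nd 107630 = n210849 := ndS (p := 72786) (l := 1) rfl N72786 D210849
theorem N107631 : nd 107631 = n210850 := ndS (p := 72786) (l := 7) rfl N72786 D210850
theorem N107632 : nd 107632 = n210851 := ndS (p := 72788) (l := 6) rfl N72788 D210851
theorem N107633 : nd 107633 = n210852 := ndS (p := 72789) (l := 5) rfl N72789 D210852
theorem N107634 : nd 107634 = n210853 := ndS (p := 72790) (l := 3) rfl N72790 D210853
theorem N107635 : nd 107635 = n210854 := ndS (p := 72790) (l := 6) rfl N72790 D210854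
theorem N107636 : nd 107636 = n210855 := ndS (p := 72791) (l := 0) rfl N72791 D210855
theorem N107637 : nd 107637 = n210856 := ndS (p := 72791) (l := 1) rfl N72791 D210856
theorem N107638 : nd 107638 = n210857 := ndS (p := 72791) (l := 5) rfl N72791 D210857
theorem N107639 : nd 107639 = n210858 := ndS (p := 72791) (l := 7) rfl N72791 D210858
theorem N107640 : nd 107640 = n210859 := ndS (p := 72792) (l := 5) rfl N72792 D210859
theorem N107641 : nd 107641 = n210860 := ndS (p := 72793) (l := 3) rfl N72793 D210860
theorem N107642 : nd 107642 = n210861 := ndS (p := 72793) (l := 5) rfl N72793 D210861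
theorem N107643 : nd 107643 = n210862 := ndS (p := 72794) (l := 0) rfl N72794 D210862
theorem N107644 : nd 107644 = n210863 := ndS (p := 72794) (l := 1) rfl N72794 D210863
theorem N107645 : nd 107645 = n210864 := ndS (p := 72794) (l := 4) rfl N72794 D210864
theorem N107646 : nd 107646 = n210865 := ndS (p := 72794) (l := 7) rfl N72794 D210865
theorem N107647 : nd 107647 = n210866 := ndS (p := 72796) (l := 5) rfl N72796 D210866
theorem N107648 : nd 107648 = n210867 := ndS (p := 72800) (l := 3) rfl N72800 D210867
theorem N107649 : nd 107649 = n210868 := ndS (p := 72800) (l := 5) rfl N72800 D210868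
theorem N107650 : nd 107650 = n210869 := ndS (p := 72800) (l := 7) rfl N72800 D210869
theorem N107651 : nd 107651 = n210870 := ndS (p := 72803) (l := 6) rfl N72803 D210870
theorem N107652 : nd 107652 = n210871 := ndS (p := 72804) (l := 2) rfl N72804 D210871
theorem N107653 : nd 107653 = n210872 := ndS (p := 72806) (l := 5) rfl N72806 D210872
theorem N107654 : nd 107654 = n210873 := ndS (p := 72813) (l := 5) rfl N72813 D210873
theorem N107655 : nd 107655 = n210874 := ndS (p := 72817) (l := 6) rfl N72817 D210874
theorem N107656 : nd 107656 = n210875 := ndS (p := 72818) (l := 3) rfl N72818 D210875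
theorem N107657 : nd 107657 = n210876 := ndS (p := 72818) (l := 6) rfl N72818 D210876
theorem N107658 : nd 107658 = n210877 := ndS (p := 72819) (l := 6) rfl N72819 D210877
theorem N107659 : nd 107659 = n210878 := ndS (p := 72820) (l := 7) rfl N72820 D210878
theorem N107660 : nd 107660 = n210879 := ndS (p := 72823) (l := 0) rfl N72823 D210879
theorem N107661 : nd 107661 = n210880 := ndS (p := 72827) (l := 5) rfl N72827 D210880
theorem N107662 : nd 107662 = n210881 := ndS (p := 72828) (l := 6) rfl N72828 D210881
theorem N107663 : nd 107663 = n210882 := ndS (p := 72829) (l := 3) rfl N72829 D210882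
theorem N107664 : nd 107664 = n210883 := ndS (p := 72829) (l := 4) rfl N72829 D210883
theorem N107665 : nd 107665 = n210884 := ndS (p := 72829) (l := 6) rfl N72829 D210884
theorem N107666 : nd 107666 = n210885 := ndS (p := 72830) (l := 3) rfl N72830 D210885
theorem N107667 : nd 107667 = n210886 := ndS (p := 72830) (l := 4) rfl N72830 D210886
theorem N107668 : nd 107668 = n210887 := ndS (p := 72830) (l := 6) rfl N72830 D210887
theorem N107669 : nd 107669 = n210888 := ndS (p := 72831) (l := 3) rfl N72831 D210888
theorem N107670 : nd 107670 = n210889 := ndS (p := 72833) (l := 5) rfl N72833 D210889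
theorem N107671 : nd 107671 = n210890 := ndS (p := 72833) (l := 6) rfl N72833 D210890
theorem N107672 : nd 107672 = n210891 := ndS (p := 72835) (l := 0) rfl N72835 D210891
theorem N107673 : nd 107673 = n210892 := ndS (p := 72835) (l := 5) rfl N72835 D210892
theorem N107674 : nd 107674 = n210893 := ndS (p := 72835) (l := 7) rfl N72835 D210893
theorem N107675 : nd 107675 = n210894 := ndS (p := 72839) (l := 5) rfl N72839 D210894
theorem N107676 : nd 107676 = n210895 := ndS (p := 72842) (l := 1) rfl N72842 D210895
theorem N107677 : nd 107677 = n210896 := ndS (p := 72842) (l := 4) rfl N72842 D210896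
theorem N107678 : nd 107678 = n210897 := ndS (p := 72844) (l := 6) rfl N72844 D210897
theorem N107679 : nd 107679 = n210898 := ndS (p := 72849) (l := 0) rfl N72849 D210898
theorem N107680 : nd 107680 = n210899 := ndS (p := 72849) (l := 1) rfl N72849 D210899
theorem N107681 : nd 107681 = n210900 := ndS (p := 72850) (l := 2) rfl N72850 D210900
theorem N107682 : nd 107682 = n210901 := ndS (p := 72850) (l := 5) rfl N72850 D210901
theorem N107683 : nd 107683 = n210902 := ndS (p := 72850) (l := 6) rfl N72850 D210902
theorem N107684 : nd 107684 = n210903 := ndS (p := 72851) (l := 4) rfl N72851 D210903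
theorem N107685 : nd 107685 = n210904 := ndS (p := 72851) (l := 6) rfl N72851 D210904
theorem N107686 : nd 107686 = n210905 := ndS (p := 72855) (l := 3) rfl N72855 D210905
theorem N107687 : nd 107687 = n210906 := ndS (p := 72856) (l := 6) rfl N72856 D210906
theorem N107688 : nd 107688 = n210907 := ndS (p := 72857) (l := 0) rfl N72857 D210907
theorem N107689 : nd 107689 = n210908 := ndS (p := 72857) (l := 5) rfl N72857 D210908
theorem N107690 : nd 107690 = n210909 := ndS (p := 72858) (l := 4) rfl N72858 D210909
theorem N107691 : nd 107691 = n210910 := ndS (p := 72860) (l := 1) rfl N72860 D210910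
theorem N107692 : nd 107692 = n210911 := ndS (p := 72860) (l := 6) rfl N72860 D210911
theorem N107693 : nd 107693 = n210912 := ndS (p := 72861) (l := 5) rfl N72861 D210912
theorem N107694 : nd 107694 = n210913 := ndS (p := 72861) (l := 6) rfl N72861 D210913
theorem N107695 : nd 107695 = n210914 := ndS (p := 72864) (l := 5) rfl N72864 D210914
theorem N107696 : nd 107696 = n210915 := ndS (p := 72864) (l := 6) rfl N72864 D210915
theorem N107697 : nd 107697 = n210916 := ndS (p := 72867) (l := 1) rfl N72867 D210916
theorem N107698 : nd 107698 = n210917 := ndS (p := 72868) (l := 6) rfl N72868 D210917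
theorem N107699 : nd 107699 = n210918 := ndS (p := 72869) (l := 5) rfl N72869 D210918
theorem N107700 : nd 107700 = n210919 := ndS (p := 72870) (l := 3) rfl N72870 D210919
theorem N107701 : nd 107701 = n210920 := ndS (p := 72871) (l := 6) rfl N72871 D210920
theorem N107702 : nd 107702 = n210921 := ndS (p := 72872) (l := 0) rfl N72872 D210921
theorem N107703 : nd 107703 = n210922 := ndS (p := 72872) (l := 1) rfl N72872 D210922
theorem N107704 : nd 107704 = n210923 := ndS (p := 72872) (l := 5) rfl N72872 D210923
theorem N107705 : nd 107705 = n210924 := ndS (p := 72872) (l := 7) rfl N72872 D210924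
theorem N107706 : nd 107706 = n210925 := ndS (p := 72873) (l := 3) rfl N72873 D210925
theorem N107707 : nd 107707 = n210926 := ndS (p := 72873) (l := 5) rfl N72873 D210926
theorem N107708 : nd 107708 = n210927 := ndS (p := 72873) (l := 6) rfl N72873 D210927
theorem N107709 : nd 107709 = n210928 := ndS (p := 72874) (l := 3) rfl N72874 D210928
theorem N107710 : nd 107710 = n210929 := ndS (p := 72874) (l := 5) rfl N72874 D210929
theorem N107711 : nd 107711 = n210930 := ndS (p := 72875) (l := 0) rfl N72875 D210930
theorem N107712 : nd 107712 = n210931 := ndS (p := 72875) (l := 1) rfl N72875 D210931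
theorem N107713 : nd 107713 = n210932 := ndS (p := 72875) (l := 4) rfl N72875 D210932
theorem N107714 : nd 107714 = n210933 := ndS (p := 72876) (l := 3) rfl N72876 D210933
theorem N107715 : nd 107715 = n210934 := ndS (p := 72876) (l := 5) rfl N72876 D210934
theorem N107716 : nd 107716 = n210935 := ndS (p := 72877) (l := 5) rfl N72877 D210935
theorem N107717 : nd 107717 = n210936 := ndS (p := 72878) (l := 4) rfl N72878 D210936
theorem N107718 : nd 107718 = n210937 := ndS (p := 72880) (l := 4) rfl N72880 D210937
theorem N107719 : nd 107719 = n210938 := ndS (p := 72881) (l := 3) rfl N72881 D210938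
theorem N107720 : nd 107720 = n210939 := ndS (p := 72881) (l := 4) rfl N72881 D210939
theorem N107721 : nd 107721 = n210940 := ndS (p := 72881) (l := 6) rfl N72881 D210940
theorem N107722 : nd 107722 = n210941 := ndS (p := 72882) (l := 0) rfl N72882 D210941
theorem N107723 : nd 107723 = n210942 := ndS (p := 72882) (l := 1) rfl N72882 D210942
theorem N107724 : nd 107724 = n210943 := ndS (p := 72882) (l := 3) rfl N72882 D210943
theorem N107725 : nd 107725 = n210944 := ndS (p := 72882) (l := 7) rfl N72882 D210944
theorem N107726 : nd 107726 = n210945 := ndS (p := 72884) (l := 0) rfl N72884 D210945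
theorem N107727 : nd 107727 = n210946 := ndS (p := 72884) (l := 5) rfl N72884 D210946
theorem N107728 : nd 107728 = n210947 := ndS (p := 72887) (l := 5) rfl N72887 D210947
theorem N107729 : nd 107729 = n210948 := ndS (p := 72887) (l := 6) rfl N72887 D210948
theorem N107730 : nd 107730 = n210949 := ndS (p := 72888) (l := 6) rfl N72888 D210949
theorem N107731 : nd 107731 = n210950 := ndS (p := 72889) (l := 1) rfl N72889 D210950
theorem N107732 : nd 107732 = n210951 := ndS (p := 72890) (l := 7) rfl N72890 D210951
theorem N107733 : nd 107733 = n210952 := ndS (p := 72892) (l := 6) rfl N72892 D210952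
theorem N107734 : nd 107734 = n210953 := ndS (p := 72893) (l := 3) rfl N72893 D210953
theorem N107735 : nd 107735 = n210954 := ndS (p := 72893) (l := 6) rfl N72893 D210954
theorem N107736 : nd 107736 = n210955 := ndS (p := 72898) (l := 6) rfl N72898 D210955
theorem N107737 : nd 107737 = n210956 := ndS (p := 72899) (l := 1) rfl N72899 D210956
theorem N107738 : nd 107738 = n210957 := ndS (p := 72901) (l := 1) rfl N72901 D210957
theorem N107739 : nd 107739 = n210958 := ndS (p := 72901) (l := 5) rfl N72901 D210958
theorem N107740 : nd 107740 = n210959 := ndS (p := 72902) (l := 0) rfl N72902 D210959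
theorem N107741 : nd 107741 = n210960 := ndS (p := 72904) (l := 7) rfl N72904 D210960
theorem N107742 : nd 107742 = n210961 := ndS (p := 72905) (l := 5) rfl N72905 D210961
theorem N107743 : nd 107743 = n210962 := ndS (p := 72906) (l := 6) rfl N72906 D210962
theorem N107744 : nd 107744 = n210963 := ndS (p := 72907) (l := 4) rfl N72907 D210963
theorem N107745 : nd 107745 = n210964 := ndS (p := 72907) (l := 6) rfl N72907 D210964
theorem N107746 : nd 107746 = n210965 := ndS (p := 72909) (l := 0) rfl N72909 D210965
theorem N107747 : nd 107747 = n210966 := ndS (p := 72909) (l := 1) rfl N72909 D210966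
theorem N107748 : nd 107748 = n210967 := ndS (p := 72909) (l := 5) rfl N72909 D210967
theorem N107749 : nd 107749 = n210968 := ndS (p := 72909) (l := 7) rfl N72909 D210968
theorem N107750 : nd 107750 = n210969 := ndS (p := 72910) (l := 5) rfl N72910 D210969
theorem N107751 : nd 107751 = n210970 := ndS (p := 72911) (l := 4) rfl N72911 D210970
theorem N107752 : nd 107752 = n210971 := ndS (p := 72911) (l := 5) rfl N72911 D210971
theorem N107753 : nd 107753 = n210972 := ndS (p := 72912) (l := 0) rfl N72912 D210972
theorem N107754 : nd 107754 = n210973 := ndS (p := 72915) (l := 0) rfl N72915 D210973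
theorem N107755 : nd 107755 = n210974 := ndS (p := 72915) (l := 1) rfl N72915 D210974
theorem N107756 : nd 107756 = n210975 := ndS (p := 72917) (l := 0) rfl N72917 D210975
theorem N107757 : nd 107757 = n210976 := ndS (p := 72917) (l := 5) rfl N72917 D210976
theorem N107758 : nd 107758 = n210977 := ndS (p := 72918) (l := 4) rfl N72918 D210977
theorem N107759 : nd 107759 = n210978 := ndS (p := 72918) (l := 6) rfl N72918 D210978
theorem N107760 : nd 107760 = n210979 := ndS (p := 72929) (l := 4) rfl N72929 D210979
theorem N107761 : nd 107761 = n210980 := ndS (p := 72931) (l := 4) rfl N72931 D210980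
theorem N107762 : nd 107762 = n210981 := ndS (p := 72934) (l := 3) rfl N72934 D210981
theorem N107763 : nd 107763 = n210982 := ndS (p := 72934) (l := 4) rfl N72934 D210982
theorem N107764 : nd 107764 = n210983 := ndS (p := 72934) (l := 5) rfl N72934 D210983
theorem N107765 : nd 107765 = n210984 := ndS (p := 72935) (l := 3) rfl N72935 D210984
theorem N107766 : nd 107766 = n210985 := ndS (p := 72935) (l := 4) rfl N72935 D210985
theorem N107767 : nd 107767 = n210986 := ndS (p := 72935) (l := 5) rfl N72935 D210986
theorem N107768 : nd 107768 = n210987 := ndS (p := 72935) (l := 6) rfl N72935 D210987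
theorem N107769 : nd 107769 = n210988 := ndS (p := 72936) (l := 0) rfl N72936 D210988
theorem N107770 : nd 107770 = n210989 := ndS (p := 72936) (l := 2) rfl N72936 D210989
theorem N107771 : nd 107771 = n210990 := ndS (p := 72937) (l := 1) rfl N72937 D210990
theorem N107772 : nd 107772 = n210991 := ndS (p := 72939) (l := 6) rfl N72939 D210991
theorem N107773 : nd 107773 = n210992 := ndS (p := 72941) (l := 5) rfl N72941 D210992
theorem N107774 : nd 107774 = n210993 := ndS (p := 72942) (l := 5) rfl N72942 D210993
theorem N107775 : nd 107775 = n210994 := ndS (p := 72943) (l := 4) rfl N72943 D210994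
theorem N107776 : nd 107776 = n210995 := ndS (p := 72944) (l := 1) rfl N72944 D210995
theorem N107777 : nd 107777 = n210996 := ndS (p := 72944) (l := 7) rfl N72944 D210996
theorem N107778 : nd 107778 = n210997 := ndS (p := 72945) (l := 0) rfl N72945 D210997
theorem N107779 : nd 107779 = n210998 := ndS (p := 72947) (l := 5) rfl N72947 D210998
theorem N107780 : nd 107780 = n210999 := ndS (p := 72949) (l := 0) rfl N72949 D210999
theorem N107781 : nd 107781 = n211000 := ndS (p := 72949) (l := 2) rfl N72949 D211000
theorem N107782 : nd 107782 = n211001 := ndS (p := 72949) (l := 5) rfl N72949 D211001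
theorem N107783 : nd 107783 = n211002 := ndS (p := 72952) (l := 1) rfl N72952 D211002
theorem N107784 : nd 107784 = n211003 := ndS (p := 72952) (l := 2) rfl N72952 D211003
theorem N107785 : nd 107785 = n211004 := ndS (p := 72956) (l := 0) rfl N72956 D211004
theorem N107786 : nd 107786 = n211005 := ndS (p := 72956) (l := 5) rfl N72956 D211005
theorem N107787 : nd 107787 = n211006 := ndS (p := 72956) (l := 6) rfl N72956 D211006
theorem N107788 : nd 107788 = n211007 := ndS (p := 72958) (l := 6) rfl N72958 D211007
theorem N107789 : nd 107789 = n211008 := ndS (p := 72959) (l := 6) rfl N72959 D211008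
theorem N107790 : nd 107790 = n211009 := ndS (p := 72961) (l := 5) rfl N72961 D211009
theorem N107791 : nd 107791 = n211010 := ndS (p := 72968) (l := 4) rfl N72968 D211010
theorem N107792 : nd 107792 = n211011 := ndS (p := 72968) (l := 6) rfl N72968 D211011
theorem N107793 : nd 107793 = n211012 := ndS (p := 72970) (l := 5) rfl N72970 D211012
theorem N107794 : nd 107794 = n211013 := ndS (p := 72972) (l := 0) rfl N72972 D211013
theorem N107795 : nd 107795 = n211014 := ndS (p := 72972) (l := 7) rfl N72972 D211014
theorem N107796 : nd 107796 = n211015 := ndS (p := 72973) (l := 3) rfl N72973 D211015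
theorem N107797 : nd 107797 = n211016 := ndS (p := 72973) (l := 4) rfl N72973 D211016
theorem N107798 : nd 107798 = n211017 := ndS (p := 72973) (l := 6) rfl N72973 D211017
theorem N107799 : nd 107799 = n211018 := ndS (p := 72974) (l := 3) rfl N72974 D211018
theorem N107800 : nd 107800 = n211019 := ndS (p := 72976) (l := 4) rfl N72976 D211019
theorem N107801 : nd 107801 = n211020 := ndS (p := 72976) (l := 5) rfl N72976 D211020
theorem N107802 : nd 107802 = n211021 := ndS (p := 72976) (l := 6) rfl N72976 D211021
theorem N107803 : nd 107803 = n211022 := ndS (p := 72977) (l := 5) rfl N72977 D211022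
theorem N107804 : nd 107804 = n211023 := ndS (p := 72979) (l := 1) rfl N72979 D211023
theorem N107805 : nd 107805 = n211024 := ndS (p := 72979) (l := 4) rfl N72979 D211024
theorem N107806 : nd 107806 = n211025 := ndS (p := 72979) (l := 6) rfl N72979 D211025
theorem N107807 : nd 107807 = n211026 := ndS (p := 72980) (l := 0) rfl N72980 D211026
theorem N107808 : nd 107808 = n211027 := ndS (p := 72980) (l := 1) rfl N72980 D211027
theorem N107809 : nd 107809 = n211028 := ndS (p := 72984) (l := 0) rfl N72984 D211028
theorem N107810 : nd 107810 = n211029 := ndS (p := 72986) (l := 6) rfl N72986 D211029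
theorem N107811 : nd 107811 = n211030 := ndS (p := 72987) (l := 5) rfl N72987 D211030
theorem N107812 : nd 107812 = n211031 := ndS (p := 72987) (l := 6) rfl N72987 D211031
theorem N107813 : nd 107813 = n211032 := ndS (p := 72989) (l := 0) rfl N72989 D211032
theorem N107814 : nd 107814 = n211033 := ndS (p := 72989) (l := 1) rfl N72989 D211033
theorem N107815 : nd 107815 = n211034 := ndS (p := 72989) (l := 7) rfl N72989 D211034
theorem N107816 : nd 107816 = n211035 := ndS (p := 72990) (l := 3) rfl N72990 D211035
theorem N107817 : nd 107817 = n211036 := ndS (p := 72990) (l := 5) rfl N72990 D211036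
theorem N107818 : nd 107818 = n211037 := ndS (p := 72991) (l := 5) rfl N72991 D211037
theorem N107819 : nd 107819 = n211038 := ndS (p := 72992) (l := 1) rfl N72992 D211038
theorem N107820 : nd 107820 = n211039 := ndS (p := 72992) (l := 7) rfl N72992 D211039
theorem N107821 : nd 107821 = n211040 := ndS (p := 72995) (l := 0) rfl N72995 D211040
theorem N107822 : nd 107822 = n211041 := ndS (p := 72995) (l := 1) rfl N72995 D211041
theorem N107823 : nd 107823 = n211042 := ndS (p := 72996) (l := 3) rfl N72996 D211042
theorem N107824 : nd 107824 = n211043 := ndS (p := 72997) (l := 0) rfl N72997 D211043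
theorem N107825 : nd 107825 = n211044 := ndS (p := 72997) (l := 1) rfl N72997 D211044
theorem N107826 : nd 107826 = n211045 := ndS (p := 72997) (l := 7) rfl N72997 D211045
theorem N107827 : nd 107827 = n211046 := ndS (p := 72999) (l := 4) rfl N72999 D211046
theorem N107828 : nd 107828 = n211047 := ndS (p := 73000) (l := 1) rfl N73000 D211047
theorem N107829 : nd 107829 = n211048 := ndS (p := 73003) (l := 3) rfl N73003 D211048
theorem N107830 : nd 107830 = n211049 := ndS (p := 73003) (l := 5) rfl N73003 D211049
theorem N107831 : nd 107831 = n211050 := ndS (p := 73009) (l := 3) rfl N73009 D211050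
theorem N107832 : nd 107832 = n211051 := ndS (p := 73009) (l := 4) rfl N73009 D211051
theorem N107833 : nd 107833 = n211052 := ndS (p := 73009) (l := 6) rfl N73009 D211052
theorem N107834 : nd 107834 = n211053 := ndS (p := 73010) (l := 3) rfl N73010 D211053
theorem N107835 : nd 107835 = n211054 := ndS (p := 73010) (l := 4) rfl N73010 D211054
theorem N107836 : nd 107836 = n211056 := ndS (p := 73012) (l := 4) rfl N73012 D211056
theorem N107837 : nd 107837 = n211057 := ndS (p := 73015) (l := 1) rfl N73015 D211057
theorem N107838 : nd 107838 = n211058 := ndS (p := 73015) (l := 2) rfl N73015 D211058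
theorem N107839 : nd 107839 = n211059 := ndS (p := 73015) (l := 4) rfl N73015 D211059
theorem N107840 : nd 107840 = n211060 := ndS (p := 73017) (l := 5) rfl N73017 D211060
theorem N107841 : nd 107841 = n211061 := ndS (p := 73018) (l := 5) rfl N73018 D211061
theorem N107842 : nd 107842 = n211062 := ndS (p := 73028) (l := 5) rfl N73028 D211062
theorem N107843 : nd 107843 = n211063 := ndS (p := 73029) (l := 3) rfl N73029 D211063
theorem N107844 : nd 107844 = n211064 := ndS (p := 73030) (l := 4) rfl N73030 D211064
theorem N107845 : nd 107845 = n211065 := ndS (p := 73031) (l := 5) rfl N73031 D211065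
theorem N107846 : nd 107846 = n211066 := ndS (p := 73033) (l := 3) rfl N73033 D211066
theorem N107847 : nd 107847 = n211067 := ndS (p := 73035) (l := 4) rfl N73035 D211067
theorem N107848 : nd 107848 = n211068 := ndS (p := 73036) (l := 0) rfl N73036 D211068
theorem N107849 : nd 107849 = n211069 := ndS (p := 73036) (l := 1) rfl N73036 D211069
theorem N107850 : nd 107850 = n211070 := ndS (p := 73036) (l := 7) rfl N73036 D211070
theorem N107851 : nd 107851 = n211071 := ndS (p := 73038) (l := 4) rfl N73038 D211071
theorem N107852 : nd 107852 = n211072 := ndS (p := 73038) (l := 5) rfl N73038 D211072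
theorem N107853 : nd 107853 = n211073 := ndS (p := 73039) (l := 0) rfl N73039 D211073
theorem N107854 : nd 107854 = n211074 := ndS (p := 73040) (l := 3) rfl N73040 D211074
theorem N107855 : nd 107855 = n211075 := ndS (p := 73040) (l := 4) rfl N73040 D211075
theorem N107856 : nd 107856 = n211076 := ndS (p := 73040) (l := 6) rfl N73040 D211076
theorem N107857 : nd 107857 = n211077 := ndS (p := 73041) (l := 4) rfl N73041 D211077
theorem N107858 : nd 107858 = n211078 := ndS (p := 73042) (l := 1) rfl N73042 D211078
theorem N107859 : nd 107859 = n211079 := ndS (p := 73044) (l := 4) rfl N73044 D211079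
theorem N107860 : nd 107860 = n211080 := ndS (p := 73045) (l := 0) rfl N73045 D211080
theorem N107861 : nd 107861 = n211081 := ndS (p := 73045) (l := 1) rfl N73045 D211081
theorem N107862 : nd 107862 = n211082 := ndS (p := 73045) (l := 3) rfl N73045 D211082
theorem N107863 : nd 107863 = n211083 := ndS (p := 73045) (l := 5) rfl N73045 D211083
theorem N107864 : nd 107864 = n211084 := ndS (p := 73048) (l := 3) rfl N73048 D211084
theorem N107865 : nd 107865 = n211085 := ndS (p := 73048) (l := 6) rfl N73048 D211085
theorem N107866 : nd 107866 = n211086 := ndS (p := 73050) (l := 1) rfl N73050 D211086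
theorem N107867 : nd 107867 = n211087 := ndS (p := 73050) (l := 5) rfl N73050 D211087
theorem N107868 : nd 107868 = n211088 := ndS (p := 73051) (l := 6) rfl N73051 D211088
theorem N107869 : nd 107869 = n211089 := ndS (p := 73052) (l := 3) rfl N73052 D211089
theorem N107870 : nd 107870 = n211090 := ndS (p := 73052) (l := 6) rfl N73052 D211090
theorem N107871 : nd 107871 = n211091 := ndS (p := 73055) (l := 6) rfl N73055 D211091
theorem N107872 : nd 107872 = n211092 := ndS (p := 73057) (l := 1) rfl N73057 D211092
theorem N107873 : nd 107873 = n211093 := ndS (p := 73057) (l := 2) rfl N73057 D211093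
theorem N107874 : nd 107874 = n211094 := ndS (p := 73057) (l := 5) rfl N73057 D211094
theorem N107875 : nd 107875 = n211095 := ndS (p := 73058) (l := 4) rfl N73058 D211095
theorem N107876 : nd 107876 = n211096 := ndS (p := 73058) (l := 6) rfl N73058 D211096
theorem N107877 : nd 107877 = n211097 := ndS (p := 73062) (l := 1) rfl N73062 D211097
theorem N107878 : nd 107878 = n211098 := ndS (p := 73063) (l := 3) rfl N73063 D211098
theorem N107879 : nd 107879 = n211099 := ndS (p := 73065) (l := 3) rfl N73065 D211099
theorem N107880 : nd 107880 = n211100 := ndS (p := 73068) (l := 5) rfl N73068 D211100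
theorem N107881 : nd 107881 = n211101 := ndS (p := 73070) (l := 0) rfl N73070 D211101
theorem N107882 : nd 107882 = n211102 := ndS (p := 73070) (l := 1) rfl N73070 D211102
theorem N107883 : nd 107883 = n211103 := ndS (p := 73071) (l := 6) rfl N73071 D211103
theorem N107884 : nd 107884 = n211104 := ndS (p := 73072) (l := 1) rfl N73072 D211104
theorem N107885 : nd 107885 = n211105 := ndS (p := 73072) (l := 7) rfl N73072 D211105
theorem N107886 : nd 107886 = n211106 := ndS (p := 73076) (l := 5) rfl N73076 D211106
theorem N107887 : nd 107887 = n211107 := ndS (p := 73078) (l := 3) rfl N73078 D211107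
theorem N107888 : nd 107888 = n211108 := ndS (p := 73079) (l := 0) rfl N73079 D211108
theorem N107889 : nd 107889 = n211109 := ndS (p := 73079) (l := 1) rfl N73079 D211109
theorem N107890 : nd 107890 = n211110 := ndS (p := 73079) (l := 2) rfl N73079 D211110
theorem N107891 : nd 107891 = n211111 := ndS (p := 73079) (l := 6) rfl N73079 D211111
theorem N107892 : nd 107892 = n211112 := ndS (p := 73084) (l := 3) rfl N73084 D211112
theorem N107893 : nd 107893 = n211113 := ndS (p := 73084) (l := 6) rfl N73084 D211113
theorem N107894 : nd 107894 = n211114 := ndS (p := 73086) (l := 4) rfl N73086 D211114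
theorem N107895 : nd 107895 = n211115 := ndS (p := 73086) (l := 6) rfl N73086 D211115
theorem N107896 : nd 107896 = n211116 := ndS (p := 73087) (l := 3) rfl N73087 D211116
theorem N107897 : nd 107897 = n211117 := ndS (p := 73090) (l := 1) rfl N73090 D211117
theorem N107898 : nd 107898 = n211118 := ndS (p := 73091) (l := 2) rfl N73091 D211118
theorem N107899 : nd 107899 = n211119 := ndS (p := 73106) (l := 1) rfl N73106 D211119
theorem N107900 : nd 107900 = n211120 := ndS (p := 73109) (l := 6) rfl N73109 D211120
theorem N107901 : nd 107901 = n211121 := ndS (p := 73111) (l := 6) rfl N73111 D211121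
theorem N107902 : nd 107902 = n211122 := ndS (p := 73112) (l := 6) rfl N73112 D211122
theorem N107903 : nd 107903 = n211123 := ndS (p := 73113) (l := 1) rfl N73113 D211123
theorem N107904 : nd 107904 = n211124 := ndS (p := 73113) (l := 5) rfl N73113 D211124
theorem N107905 : nd 107905 = n211125 := ndS (p := 73115) (l := 5) rfl N73115 D211125
theorem N107906 : nd 107906 = n211126 := ndS (p := 73117) (l := 1) rfl N73117 D211126
theorem N107907 : nd 107907 = n211127 := ndS (p := 73118) (l := 5) rfl N73118 D211127
theorem N107908 : nd 107908 = n211128 := ndS (p := 73120) (l := 6) rfl N73120 D211128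
theorem N107909 : nd 107909 = n211129 := ndS (p := 73123) (l := 6) rfl N73123 D211129
theorem N107910 : nd 107910 = n211130 := ndS (p := 73125) (l := 0) rfl N73125 D211130
theorem N107911 : nd 107911 = n211131 := ndS (p := 73125) (l := 1) rfl N73125 D211131
theorem N107912 : nd 107912 = n211132 := ndS (p := 73125) (l := 7) rfl N73125 D211132
theorem N107913 : nd 107913 = n211133 := ndS (p := 73126) (l := 3) rfl N73126 D211133
theorem N107914 : nd 107914 = n211134 := ndS (p := 73132) (l := 0) rfl N73132 D211134
theorem N107915 : nd 107915 = n211135 := ndS (p := 73133) (l := 5) rfl N73133 D211135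
theorem N107916 : nd 107916 = n211136 := ndS (p := 73135) (l := 7) rfl N73135 D211136
theorem N107917 : nd 107917 = n211137 := ndS (p := 73143) (l := 4) rfl N73143 D211137
theorem N107918 : nd 107918 = n211138 := ndS (p := 73145) (l := 5) rfl N73145 D211138
theorem N107919 : nd 107919 = n211139 := ndS (p := 73154) (l := 0) rfl N73154 D211139
theorem N107920 : nd 107920 = n211140 := ndS (p := 73154) (l := 6) rfl N73154 D211140
theorem N107921 : nd 107921 = n211141 := ndS (p := 73159) (l := 6) rfl N73159 D211141
theorem N107922 : nd 107922 = n211142 := ndS (p := 73163) (l := 0) rfl N73163 D211142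
theorem N107923 : nd 107923 = n211143 := ndS (p := 73166) (l := 6) rfl N73166 D211143
theorem N107924 : nd 107924 = n211144 := ndS (p := 73168) (l := 0) rfl N73168 D211144
theorem N107925 : nd 107925 = n211145 := ndS (p := 73170) (l := 3) rfl N73170 D211145
theorem N107926 : nd 107926 = n211146 := ndS (p := 73173) (l := 0) rfl N73173 D211146
theorem N107927 : nd 107927 = n211147 := ndS (p := 73173) (l := 3) rfl N73173 D211147
theorem N107928 : nd 107928 = n211148 := ndS (p := 73174) (l := 3) rfl N73174 D211148
theorem N107929 : nd 107929 = n211149 := ndS (p := 73174) (l := 5) rfl N73174 D211149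
theorem N107930 : nd 107930 = n211150 := ndS (p := 73177) (l := 3) rfl N73177 D211150
theorem N107931 : nd 107931 = n211151 := ndS (p := 73178) (l := 5) rfl N73178 D211151
theorem N107932 : nd 107932 = n211152 := ndS (p := 73179) (l := 4) rfl N73179 D211152
theorem N107933 : nd 107933 = n211153 := ndS (p := 73181) (l := 4) rfl N73181 D211153
theorem N107934 : nd 107934 = n211154 := ndS (p := 73182) (l := 6) rfl N73182 D211154
theorem N107935 : nd 107935 = n211155 := ndS (p := 73183) (l := 5) rfl N73183 D211155
theorem N107936 : nd 107936 = n211156 := ndS (p := 73187) (l := 3) rfl N73187 D211156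
theorem N107937 : nd 107937 = n211157 := ndS (p := 73195) (l := 3) rfl N73195 D211157
theorem N107938 : nd 107938 = n211158 := ndS (p := 73195) (l := 4) rfl N73195 D211158
theorem N107939 : nd 107939 = n211159 := ndS (p := 73196) (l := 4) rfl N73196 D211159
theorem N107940 : nd 107940 = n211160 := ndS (p := 73199) (l := 4) rfl N73199 D211160
theorem N107941 : nd 107941 = n211161 := ndS (p := 73201) (l := 6) rfl N73201 D211161
theorem N107942 : nd 107942 = n211162 := ndS (p := 73208) (l := 0) rfl N73208 D211162
theorem N107943 : nd 107943 = n211163 := ndS (p := 73208) (l := 2) rfl N73208 D211163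
theorem N107944 : nd 107944 = n211164 := ndS (p := 73211) (l := 6) rfl N73211 D211164
theorem N107945 : nd 107945 = n211165 := ndS (p := 73213) (l := 5) rfl N73213 D211165
theorem N107946 : nd 107946 = n211166 := ndS (p := 73218) (l := 3) rfl N73218 D211166
theorem N107947 : nd 107947 = n211167 := ndS (p := 73219) (l := 6) rfl N73219 D211167
theorem N107948 : nd 107948 = n211168 := ndS (p := 73221) (l := 3) rfl N73221 D211168
theorem N107949 : nd 107949 = n211169 := ndS (p := 73221) (l := 4) rfl N73221 D211169
theorem N107950 : nd 107950 = n211170 := ndS (p := 73231) (l := 6) rfl N73231 D211170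
theorem N107951 : nd 107951 = n211171 := ndS (p := 73233) (l := 5) rfl N73233 D211171
theorem N107952 : nd 107952 = n211172 := ndS (p := 73234) (l := 4) rfl N73234 D211172
theorem N107953 : nd 107953 = n211173 := ndS (p := 73234) (l := 6) rfl N73234 D211173
theorem N107954 : nd 107954 = n211174 := ndS (p := 73235) (l := 6) rfl N73235 D211174
theorem N107955 : nd 107955 = n211175 := ndS (p := 73236) (l := 4) rfl N73236 D211175
theorem N107956 : nd 107956 = n211176 := ndS (p := 73239) (l := 3) rfl N73239 D211176
theorem N107957 : nd 107957 = n211177 := ndS (p := 73239) (l := 6) rfl N73239 D211177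
theorem N107958 : nd 107958 = n211178 := ndS (p := 73240) (l := 3) rfl N73240 D211178
theorem N107959 : nd 107959 = n211179 := ndS (p := 73242) (l := 3) rfl N73242 D211179
theorem N107960 : nd 107960 = n211180 := ndS (p := 73244) (l := 0) rfl N73244 D211180
theorem N107961 : nd 107961 = n211181 := ndS (p := 73244) (l := 1) rfl N73244 D211181
theorem N107962 : nd 107962 = n211182 := ndS (p := 73246) (l := 6) rfl N73246 D211182
theorem N107963 : nd 107963 = n211183 := ndS (p := 73247) (l := 0) rfl N73247 D211183
theorem N107964 : nd 107964 = n211184 := ndS (p := 73247) (l := 5) rfl N73247 D211184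
theorem N107965 : nd 107965 = n211185 := ndS (p := 73250) (l := 5) rfl N73250 D211185
theorem N107966 : nd 107966 = n211186 := ndS (p := 73250) (l := 6) rfl N73250 D211186
theorem N107967 : nd 107967 = n211187 := ndS (p := 73253) (l := 3) rfl N73253 D211187
theorem N107968 : nd 107968 = n211188 := ndS (p := 73256) (l := 6) rfl N73256 D211188
theorem N107969 : nd 107969 = n211189 := ndS (p := 73257) (l := 5) rfl N73257 D211189
theorem N107970 : nd 107970 = n211190 := ndS (p := 73257) (l := 6) rfl N73257 D211190
theorem N107971 : nd 107971 = n211191 := ndS (p := 73258) (l := 0) rfl N73258 D211191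
theorem N107972 : nd 107972 = n211192 := ndS (p := 73258) (l := 5) rfl N73258 D211192
theorem N107973 : nd 107973 = n211193 := ndS (p := 73258) (l := 7) rfl N73258 D211193
theorem N107974 : nd 107974 = n211194 := ndS (p := 73259) (l := 2) rfl N73259 D211194
theorem N107975 : nd 107975 = n211195 := ndS (p := 73259) (l := 6) rfl N73259 D211195
theorem N107976 : nd 107976 = n211196 := ndS (p := 73260) (l := 5) rfl N73260 D211196
theorem N107977 : nd 107977 = n211197 := ndS (p := 73260) (l := 6) rfl N73260 D211197
theorem N107978 : nd 107978 = n211198 := ndS (p := 73261) (l := 0) rfl N73261 D211198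
theorem N107979 : nd 107979 = n211199 := ndS (p := 73261) (l := 1) rfl N73261 D211199
theorem N107980 : nd 107980 = n211200 := ndS (p := 73261) (l := 5) rfl N73261 D211200
theorem N107981 : nd 107981 = n211201 := ndS (p := 73261) (l := 7) rfl N73261 D211201
theorem N107982 : nd 107982 = n211202 := ndS (p := 73262) (l := 3) rfl N73262 D211202
theorem N107983 : nd 107983 = n211203 := ndS (p := 73262) (l := 5) rfl N73262 D211203
theorem N107984 : nd 107984 = n211204 := ndS (p := 73262) (l := 6) rfl N73262 D211204
theorem N107985 : nd 107985 = n211205 := ndS (p := 73263) (l := 5) rfl N73263 D211205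
theorem N107986 : nd 107986 = n211206 := ndS (p := 73263) (l := 6) rfl N73263 D211206
theorem N107987 : nd 107987 = n211207 := ndS (p := 73266) (l := 0) rfl N73266 D211207
theorem N107988 : nd 107988 = n211208 := ndS (p := 73267) (l := 1) rfl N73267 D211208
theorem N107989 : nd 107989 = n211209 := ndS (p := 73267) (l := 2) rfl N73267 D211209
theorem N107990 : nd 107990 = n211210 := ndS (p := 73267) (l := 4) rfl N73267 D211210
theorem N107991 : nd 107991 = n211211 := ndS (p := 73267) (l := 6) rfl N73267 D211211
theorem N107992 : nd 107992 = n211212 := ndS (p := 73268) (l := 5) rfl N73268 D211212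
theorem N107993 : nd 107993 = n211213 := ndS (p := 73270) (l := 3) rfl N73270 D211213
theorem N107994 : nd 107994 = n211214 := ndS (p := 73270) (l := 5) rfl N73270 D211214
theorem N107995 : nd 107995 = n211215 := ndS (p := 73271) (l := 4) rfl N73271 D211215
theorem N107996 : nd 107996 = n211216 := ndS (p := 73271) (l := 6) rfl N73271 D211216
theorem N107997 : nd 107997 = n211217 := ndS (p := 73272) (l := 1) rfl N73272 D211217
theorem N107998 : nd 107998 = n211218 := ndS (p := 73272) (l := 5) rfl N73272 D211218
theorem N107999 : nd 107999 = n211219 := ndS (p := 73273) (l := 1) rfl N73273 D211219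
theorem N108000 : nd 108000 = n211220 := ndS (p := 73273) (l := 7) rfl N73273 D211220
theorem N108001 : nd 108001 = n211221 := ndS (p := 73276) (l := 0) rfl N73276 D211221
theorem N108002 : nd 108002 = n211222 := ndS (p := 73276) (l := 1) rfl N73276 D211222
theorem N108003 : nd 108003 = n211223 := ndS (p := 73276) (l := 4) rfl N73276 D211223
theorem N108004 : nd 108004 = n211224 := ndS (p := 73276) (l := 7) rfl N73276 D211224
theorem N108005 : nd 108005 = n211225 := ndS (p := 73278) (l := 6) rfl N73278 D211225
theorem N108006 : nd 108006 = n211226 := ndS (p := 73279) (l := 6) rfl N73279 D211226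
theorem N108007 : nd 108007 = n211227 := ndS (p := 73280) (l := 5) rfl N73280 D211227
theorem N108008 : nd 108008 = n211228 := ndS (p := 73280) (l := 7) rfl N73280 D211228
theorem N108009 : nd 108009 = n211229 := ndS (p := 73281) (l := 5) rfl N73281 D211229
theorem N108010 : nd 108010 = n211230 := ndS (p := 73282) (l := 0) rfl N73282 D211230
theorem N108011 : nd 108011 = n211231 := ndS (p := 73282) (l := 1) rfl N73282 D211231
theorem N108012 : nd 108012 = n211232 := ndS (p := 73282) (l := 4) rfl N73282 D211232
theorem N108013 : nd 108013 = n211233 := ndS (p := 73282) (l := 7) rfl N73282 D211233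
theorem N108014 : nd 108014 = n211234 := ndS (p := 73286) (l := 1) rfl N73286 D211234
theorem N108015 : nd 108015 = n211235 := ndS (p := 73288) (l := 4) rfl N73288 D211235
theorem N108016 : nd 108016 = n211236 := ndS (p := 73289) (l := 6) rfl N73289 D211236
theorem N108017 : nd 108017 = n211237 := ndS (p := 73290) (l := 0) rfl N73290 D211237
theorem N108018 : nd 108018 = n211238 := ndS (p := 73290) (l := 1) rfl N73290 D211238
theorem N108019 : nd 108019 = n211239 := ndS (p := 73290) (l := 5) rfl N73290 D211239
theorem N108020 : nd 108020 = n211240 := ndS (p := 73290) (l := 7) rfl N73290 D211240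
theorem N108021 : nd 108021 = n211241 := ndS (p := 73291) (l := 4) rfl N73291 D211241
theorem N108022 : nd 108022 = n211242 := ndS (p := 73300) (l := 1) rfl N73300 D211242
theorem N108023 : nd 108023 = n211243 := ndS (p := 73300) (l := 6) rfl N73300 D211243
theorem N108024 : nd 108024 = n211244 := ndS (p := 73301) (l := 6) rfl N73301 D211244
theorem N108025 : nd 108025 = n211245 := ndS (p := 73302) (l := 5) rfl N73302 D211245
theorem N108026 : nd 108026 = n211246 := ndS (p := 73303) (l := 3) rfl N73303 D211246
theorem N108027 : nd 108027 = n211247 := ndS (p := 73304) (l := 4) rfl N73304 D211247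
theorem N108028 : nd 108028 = n211248 := ndS (p := 73305) (l := 4) rfl N73305 D211248
theorem N108029 : nd 108029 = n211249 := ndS (p := 73306) (l := 6) rfl N73306 D211249
theorem N108030 : nd 108030 = n211250 := ndS (p := 73308) (l := 1) rfl N73308 D211250
theorem N108031 : nd 108031 = n211251 := ndS (p := 73308) (l := 5) rfl N73308 D211251
theorem N108032 : nd 108032 = n211252 := ndS (p := 73308) (l := 7) rfl N73308 D211252
theorem N108033 : nd 108033 = n211253 := ndS (p := 73309) (l := 4) rfl N73309 D211253
theorem N108034 : nd 108034 = n211254 := ndS (p := 73312) (l := 3) rfl N73312 D211254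
theorem N108035 : nd 108035 = n211255 := ndS (p := 73313) (l := 3) rfl N73313 D211255
theorem N108036 : nd 108036 = n211256 := ndS (p := 73315) (l := 6) rfl N73315 D211256
theorem N108037 : nd 108037 = n211257 := ndS (p := 73316) (l := 1) rfl N73316 D211257
theorem N108038 : nd 108038 = n211258 := ndS (p := 73316) (l := 6) rfl N73316 D211258
theorem N108039 : nd 108039 = n211259 := ndS (p := 73322) (l := 4) rfl N73322 D211259
theorem N108040 : nd 108040 = n211260 := ndS (p := 73324) (l := 6) rfl N73324 D211260
theorem N108041 : nd 108041 = n211261 := ndS (p := 73325) (l := 5) rfl N73325 D211261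
theorem N108042 : nd 108042 = n211262 := ndS (p := 73329) (l := 0) rfl N73329 D211262
theorem N108043 : nd 108043 = n211263 := ndS (p := 73329) (l := 5) rfl N73329 D211263
theorem N108044 : nd 108044 = n211264 := ndS (p := 73329) (l := 7) rfl N73329 D211264
theorem N108045 : nd 108045 = n211265 := ndS (p := 73330) (l := 3) rfl N73330 D211265
theorem N108046 : nd 108046 = n211266 := ndS (p := 73330) (l := 5) rfl N73330 D211266
theorem N108047 : nd 108047 = n211267 := ndS (p := 73330) (l := 6) rfl N73330 D211267
theorem N108048 : nd 108048 = n211268 := ndS (p := 73331) (l := 3) rfl N73331 D211268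
theorem N108049 : nd 108049 = n211269 := ndS (p := 73332) (l := 0) rfl N73332 D211269
theorem N108050 : nd 108050 = n211270 := ndS (p := 73332) (l := 1) rfl N73332 D211270
theorem N108051 : nd 108051 = n211271 := ndS (p := 73334) (l := 3) rfl N73334 D211271
theorem N108052 : nd 108052 = n211272 := ndS (p := 73334) (l := 6) rfl N73334 D211272
theorem N108053 : nd 108053 = n211273 := ndS (p := 73335) (l := 5) rfl N73335 D211273
theorem N108054 : nd 108054 = n211274 := ndS (p := 73337) (l := 3) rfl N73337 D211274
theorem N108055 : nd 108055 = n211275 := ndS (p := 73339) (l := 3) rfl N73339 D211275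
theorem N108056 : nd 108056 = n211276 := ndS (p := 73344) (l := 3) rfl N73344 D211276
theorem N108057 : nd 108057 = n211277 := ndS (p := 73344) (l := 5) rfl N73344 D211277
theorem N108058 : nd 108058 = n211278 := ndS (p := 73344) (l := 6) rfl N73344 D211278
theorem N108059 : nd 108059 = n211279 := ndS (p := 73345) (l := 5) rfl N73345 D211279
theorem N108060 : nd 108060 = n211280 := ndS (p := 73350) (l := 7) rfl N73350 D211280
theorem N108061 : nd 108061 = n211281 := ndS (p := 73351) (l := 5) rfl N73351 D211281
theorem N108062 : nd 108062 = n211282 := ndS (p := 73351) (l := 6) rfl N73351 D211282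
theorem N108063 : nd 108063 = n211283 := ndS (p := 73352) (l := 6) rfl N73352 D211283
theorem N108064 : nd 108064 = n211284 := ndS (p := 73354) (l := 3) rfl N73354 D211284
theorem N108065 : nd 108065 = n211285 := ndS (p := 73359) (l := 6) rfl N73359 D211285
theorem N108066 : nd 108066 = n211286 := ndS (p := 73363) (l := 1) rfl N73363 D211286
theorem N108067 : nd 108067 = n211287 := ndS (p := 73364) (l := 6) rfl N73364 D211287
theorem N108068 : nd 108068 = n211288 := ndS (p := 73366) (l := 4) rfl N73366 D211288
theorem N108069 : nd 108069 = n211289 := ndS (p := 73371) (l := 0) rfl N73371 D211289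
theorem N108070 : nd 108070 = n211290 := ndS (p := 73371) (l := 5) rfl N73371 D211290
theorem N108071 : nd 108071 = n211291 := ndS (p := 73377) (l := 0) rfl N73377 D211291
theorem N108072 : nd 108072 = n211292 := ndS (p := 73377) (l := 1) rfl N73377 D211292
theorem N108073 : nd 108073 = n211293 := ndS (p := 73377) (l := 5) rfl N73377 D211293
theorem N108074 : nd 108074 = n211294 := ndS (p := 73379) (l := 6) rfl N73379 D211294
theorem N108075 : nd 108075 = n211295 := ndS (p := 73380) (l := 5) rfl N73380 D211295
theorem N108076 : nd 108076 = n211296 := ndS (p := 73381) (l := 2) rfl N73381 D211296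
theorem N108077 : nd 108077 = n211297 := ndS (p := 73385) (l := 7) rfl N73385 D211297
theorem N108078 : nd 108078 = n211298 := ndS (p := 73387) (l := 3) rfl N73387 D211298
theorem N108079 : nd 108079 = n211299 := ndS (p := 73394) (l := 6) rfl N73394 D211299
theorem N108080 : nd 108080 = n211300 := ndS (p := 73395) (l := 0) rfl N73395 D211300
theorem N108081 : nd 108081 = n211301 := ndS (p := 73395) (l := 5) rfl N73395 D211301
theorem N108082 : nd 108082 = n211302 := ndS (p := 73404) (l := 3) rfl N73404 D211302
theorem N108083 : nd 108083 = n211303 := ndS (p := 73409) (l := 1) rfl N73409 D211303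
theorem N108084 : nd 108084 = n211304 := ndS (p := 73409) (l := 6) rfl N73409 D211304
theorem N108085 : nd 108085 = n211305 := ndS (p := 73411) (l := 5) rfl N73411 D211305
theorem N108086 : nd 108086 = n211306 := ndS (p := 73411) (l := 6) rfl N73411 D211306
theorem N108087 : nd 108087 = n211307 := ndS (p := 73412) (l := 0) rfl N73412 D211307
theorem N108088 : nd 108088 = n211308 := ndS (p := 73412) (l := 1) rfl N73412 D211308
theorem N108089 : nd 108089 = n211309 := ndS (p := 73412) (l := 7) rfl N73412 D211309
theorem N108090 : nd 108090 = n211310 := ndS (p := 73418) (l := 4) rfl N73418 D211310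
theorem N108091 : nd 108091 = n211311 := ndS (p := 73431) (l := 5) rfl N73431 D211311
theorem N108092 : nd 108092 = n211312 := ndS (p := 73432) (l := 6) rfl N73432 D211312
theorem N108093 : nd 108093 = n211313 := ndS (p := 73433) (l := 0) rfl N73433 D211313
theorem N108094 : nd 108094 = n211314 := ndS (p := 73433) (l := 5) rfl N73433 D211314
theorem N108095 : nd 108095 = n211315 := ndS (p := 73435) (l := 3) rfl N73435 D211315
theorem N108096 : nd 108096 = n211316 := ndS (p := 73437) (l := 0) rfl N73437 D211316
theorem N108097 : nd 108097 = n211317 := ndS (p := 73437) (l := 5) rfl N73437 D211317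
theorem N108098 : nd 108098 = n211318 := ndS (p := 73437) (l := 7) rfl N73437 D211318
theorem N108099 : nd 108099 = n211319 := ndS (p := 73439) (l := 3) rfl N73439 D211319
theorem N108100 : nd 108100 = n211320 := ndS (p := 73439) (l := 5) rfl N73439 D211320
theorem N108101 : nd 108101 = n211321 := ndS (p := 73439) (l := 6) rfl N73439 D211321
theorem N108102 : nd 108102 = n211322 := ndS (p := 73440) (l := 7) rfl N73440 D211322
theorem N108103 : nd 108103 = n211323 := ndS (p := 73442) (l := 3) rfl N73442 D211323
theorem N108104 : nd 108104 = n211324 := ndS (p := 73444) (l := 4) rfl N73444 D211324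
theorem N108105 : nd 108105 = n211325 := ndS (p := 73444) (l := 7) rfl N73444 D211325
theorem N108106 : nd 108106 = n211326 := ndS (p := 73446) (l := 2) rfl N73446 D211326
theorem N108107 : nd 108107 = n211327 := ndS (p := 73446) (l := 5) rfl N73446 D211327
theorem N108108 : nd 108108 = n211328 := ndS (p := 73447) (l := 4) rfl N73447 D211328
theorem N108109 : nd 108109 = n211329 := ndS (p := 73449) (l := 4) rfl N73449 D211329
theorem N108110 : nd 108110 = n211330 := ndS (p := 73450) (l := 3) rfl N73450 D211330
theorem N108111 : nd 108111 = n211331 := ndS (p := 73450) (l := 4) rfl N73450 D211331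
theorem N108112 : nd 108112 = n211332 := ndS (p := 73452) (l := 0) rfl N73452 D211332
theorem N108113 : nd 108113 = n211333 := ndS (p := 73452) (l := 1) rfl N73452 D211333
theorem N108114 : nd 108114 = n211334 := ndS (p := 73452) (l := 3) rfl N73452 D211334
theorem N108115 : nd 108115 = n211335 := ndS (p := 73453) (l := 6) rfl N73453 D211335
theorem N108116 : nd 108116 = n211336 := ndS (p := 73454) (l := 5) rfl N73454 D211336
theorem N108117 : nd 108117 = n211337 := ndS (p := 73455) (l := 6) rfl N73455 D211337
theorem N108118 : nd 108118 = n211338 := ndS (p := 73456) (l := 5) rfl N73456 D211338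
theorem N108119 : nd 108119 = n211339 := ndS (p := 73458) (l := 0) rfl N73458 D211339
theorem N108120 : nd 108120 = n211340 := ndS (p := 73458) (l := 6) rfl N73458 D211340
theorem N108121 : nd 108121 = n211341 := ndS (p := 73460) (l := 5) rfl N73460 D211341
theorem N108122 : nd 108122 = n211342 := ndS (p := 73461) (l := 5) rfl N73461 D211342
theorem N108123 : nd 108123 = n211343 := ndS (p := 73462) (l := 6) rfl N73462 D211343
theorem N108124 : nd 108124 = n211344 := ndS (p := 73463) (l := 6) rfl N73463 D211344
theorem N108125 : nd 108125 = n211345 := ndS (p := 73465) (l := 5) rfl N73465 D211345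
theorem N108126 : nd 108126 = n211346 := ndS (p := 73469) (l := 3) rfl N73469 D211346
theorem N108127 : nd 108127 = n211347 := ndS (p := 73469) (l := 6) rfl N73469 D211347
theorem N108128 : nd 108128 = n211348 := ndS (p := 73470) (l := 3) rfl N73470 D211348
theorem N108129 : nd 108129 = n211349 := ndS (p := 73473) (l := 3) rfl N73473 D211349
theorem N108130 : nd 108130 = n211350 := ndS (p := 73474) (l := 0) rfl N73474 D211350
theorem N108131 : nd 108131 = n211351 := ndS (p := 73474) (l := 1) rfl N73474 D211351
theorem N108132 : nd 108132 = n211352 := ndS (p := 73475) (l := 5) rfl N73475 D211352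
theorem N108133 : nd 108133 = n211353 := ndS (p := 73475) (l := 6) rfl N73475 D211353
theorem N108134 : nd 108134 = n211354 := ndS (p := 73481) (l := 3) rfl N73481 D211354
theorem N108135 : nd 108135 = n211355 := ndS (p := 73482) (l := 5) rfl N73482 D211355
theorem N108136 : nd 108136 = n211356 := ndS (p := 73483) (l := 5) rfl N73483 D211356
theorem N108137 : nd 108137 = n211357 := ndS (p := 73484) (l := 3) rfl N73484 D211357
theorem N108138 : nd 108138 = n211358 := ndS (p := 73484) (l := 5) rfl N73484 D211358
theorem N108139 : nd 108139 = n211359 := ndS (p := 73486) (l := 2) rfl N73486 D211359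
theorem N108140 : nd 108140 = n211360 := ndS (p := 73488) (l := 4) rfl N73488 D211360
theorem N108141 : nd 108141 = n211361 := ndS (p := 73488) (l := 6) rfl N73488 D211361
theorem N108142 : nd 108142 = n211362 := ndS (p := 73489) (l := 5) rfl N73489 D211362
theorem N108143 : nd 108143 = n211363 := ndS (p := 73489) (l := 6) rfl N73489 D211363
theorem N108144 : nd 108144 = n211364 := ndS (p := 73490) (l := 1) rfl N73490 D211364
theorem N108145 : nd 108145 = n211365 := ndS (p := 73491) (l := 3) rfl N73491 D211365
theorem N108146 : nd 108146 = n211366 := ndS (p := 73493) (l := 3) rfl N73493 D211366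
theorem N108147 : nd 108147 = n211367 := ndS (p := 73493) (l := 5) rfl N73493 D211367
theorem N108148 : nd 108148 = n211368 := ndS (p := 73494) (l := 5) rfl N73494 D211368
theorem N108149 : nd 108149 = n211369 := ndS (p := 73495) (l := 0) rfl N73495 D211369
theorem N108150 : nd 108150 = n211370 := ndS (p := 73495) (l := 1) rfl N73495 D211370
theorem N108151 : nd 108151 = n211371 := ndS (p := 73495) (l := 4) rfl N73495 D211371
theorem N108152 : nd 108152 = n211372 := ndS (p := 73496) (l := 0) rfl N73496 D211372
theorem N108153 : nd 108153 = n211374 := ndS (p := 73496) (l := 2) rfl N73496 D211374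
theorem N108154 : nd 108154 = n211375 := ndS (p := 73496) (l := 4) rfl N73496 D211375
theorem N108155 : nd 108155 = n211376 := ndS (p := 73496) (l := 5) rfl N73496 D211376
theorem N108156 : nd 108156 = n211377 := ndS (p := 73496) (l := 6) rfl N73496 D211377
theorem N108157 : nd 108157 = n211378 := ndS (p := 73497) (l := 0) rfl N73497 D211378
theorem N108158 : nd 108158 = n211379 := ndS (p := 73499) (l := 4) rfl N73499 D211379
theorem N108159 : nd 108159 = n211380 := ndS (p := 73499) (l := 5) rfl N73499 D211380
theorem N108160 : nd 108160 = n211381 := ndS (p := 73500) (l := 4) rfl N73500 D211381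
theorem N108161 : nd 108161 = n211382 := ndS (p := 73500) (l := 6) rfl N73500 D211382
theorem N108162 : nd 108162 = n211383 := ndS (p := 73501) (l := 5) rfl N73501 D211383
theorem N108163 : nd 108163 = n211384 := ndS (p := 73502) (l := 3) rfl N73502 D211384
theorem N108164 : nd 108164 = n211385 := ndS (p := 73503) (l := 3) rfl N73503 D211385
theorem N108165 : nd 108165 = n211386 := ndS (p := 73503) (l := 6) rfl N73503 D211386
theorem N108166 : nd 108166 = n211387 := ndS (p := 73505) (l := 6) rfl N73505 D211387
theorem N108167 : nd 108167 = n211388 := ndS (p := 73508) (l := 6) rfl N73508 D211388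
theorem N108168 : nd 108168 = n211389 := ndS (p := 73509) (l := 1) rfl N73509 D211389
theorem N108169 : nd 108169 = n211390 := ndS (p := 73510) (l := 0) rfl N73510 D211390
theorem N108170 : nd 108170 = n211391 := ndS (p := 73511) (l := 3) rfl N73511 D211391
theorem N108171 : nd 108171 = n211392 := ndS (p := 73511) (l := 5) rfl N73511 D211392
theorem N108172 : nd 108172 = n211393 := ndS (p := 73511) (l := 6) rfl N73511 D211393
theorem N108173 : nd 108173 = n211394 := ndS (p := 73514) (l := 5) rfl N73514 D211394
theorem N108174 : nd 108174 = n211395 := ndS (p := 73519) (l := 3) rfl N73519 D211395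
theorem N108175 : nd 108175 = n211396 := ndS (p := 73519) (l := 4) rfl N73519 D211396
theorem N108176 : nd 108176 = n211397 := ndS (p := 73520) (l := 1) rfl N73520 D211397
theorem N108177 : nd 108177 = n211398 := ndS (p := 73520) (l := 3) rfl N73520 D211398
theorem N108178 : nd 108178 = n211399 := ndS (p := 73520) (l := 5) rfl N73520 D211399
theorem N108179 : nd 108179 = n211400 := ndS (p := 73520) (l := 7) rfl N73520 D211400
theorem N108180 : nd 108180 = n211401 := ndS (p := 73521) (l := 6) rfl N73521 D211401
theorem N108181 : nd 108181 = n211402 := ndS (p := 73522) (l := 4) rfl N73522 D211402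
theorem N108182 : nd 108182 = n211403 := ndS (p := 73523) (l := 5) rfl N73523 D211403
theorem N108183 : nd 108183 = n211404 := ndS (p := 73523) (l := 6) rfl N73523 D211404
theorem N108184 : nd 108184 = n211405 := ndS (p := 73524) (l := 0) rfl N73524 D211405
theorem N108185 : nd 108185 = n211406 := ndS (p := 73524) (l := 1) rfl N73524 D211406
theorem N108186 : nd 108186 = n211407 := ndS (p := 73524) (l := 4) rfl N73524 D211407
theorem N108187 : nd 108187 = n211408 := ndS (p := 73525) (l := 0) rfl N73525 D211408
theorem N108188 : nd 108188 = n211409 := ndS (p := 73525) (l := 1) rfl N73525 D211409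
theorem N108189 : nd 108189 = n211410 := ndS (p := 73529) (l := 5) rfl N73529 D211410
theorem N108190 : nd 108190 = n211411 := ndS (p := 73530) (l := 5) rfl N73530 D211411
theorem N108191 : nd 108191 = n211412 := ndS (p := 73531) (l := 0) rfl N73531 D211412
theorem N108192 : nd 108192 = n211413 := ndS (p := 73531) (l := 1) rfl N73531 D211413
theorem N108193 : nd 108193 = n211414 := ndS (p := 73531) (l := 4) rfl N73531 D211414
theorem N108194 : nd 108194 = n211415 := ndS (p := 73531) (l := 6) rfl N73531 D211415
theorem N108195 : nd 108195 = n211416 := ndS (p := 73533) (l := 3) rfl N73533 D211416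
theorem N108196 : nd 108196 = n211417 := ndS (p := 73535) (l := 4) rfl N73535 D211417
theorem N108197 : nd 108197 = n211418 := ndS (p := 73537) (l := 2) rfl N73537 D211418
theorem N108198 : nd 108198 = n211419 := ndS (p := 73537) (l := 4) rfl N73537 D211419
theorem N108199 : nd 108199 = n211420 := ndS (p := 73537) (l := 6) rfl N73537 D211420
theorem N108200 : nd 108200 = n211421 := ndS (p := 73538) (l := 3) rfl N73538 D211421
theorem N108201 : nd 108201 = n211422 := ndS (p := 73539) (l := 7) rfl N73539 D211422
theorem N108202 : nd 108202 = n211423 := ndS (p := 73540) (l := 3) rfl N73540 D211423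
theorem N108203 : nd 108203 = n211424 := ndS (p := 73540) (l := 6) rfl N73540 D211424
theorem N108204 : nd 108204 = n211425 := ndS (p := 73541) (l := 3) rfl N73541 D211425
theorem N108205 : nd 108205 = n211426 := ndS (p := 73542) (l := 0) rfl N73542 D211426
theorem N108206 : nd 108206 = n211427 := ndS (p := 73544) (l := 6) rfl N73544 D211427
theorem N108207 : nd 108207 = n211428 := ndS (p := 73545) (l := 1) rfl N73545 D211428
theorem N108208 : nd 108208 = n211429 := ndS (p := 73547) (l := 4) rfl N73547 D211429
theorem N108209 : nd 108209 = n211430 := ndS (p := 73547) (l := 6) rfl N73547 D211430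
theorem N108210 : nd 108210 = n211431 := ndS (p := 73548) (l := 4) rfl N73548 D211431
theorem N108211 : nd 108211 = n211432 := ndS (p := 73548) (l := 5) rfl N73548 D211432
theorem N108212 : nd 108212 = n211433 := ndS (p := 73550) (l := 0) rfl N73550 D211433
theorem N108213 : nd 108213 = n211434 := ndS (p := 73550) (l := 1) rfl N73550 D211434
theorem N108214 : nd 108214 = n211435 := ndS (p := 73551) (l := 1) rfl N73551 D211435
theorem N108215 : nd 108215 = n211436 := ndS (p := 73552) (l := 3) rfl N73552 D211436
theorem N108216 : nd 108216 = n211437 := ndS (p := 73555) (l := 0) rfl N73555 D211437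
theorem N108217 : nd 108217 = n211438 := ndS (p := 73555) (l := 1) rfl N73555 D211438
theorem N108218 : nd 108218 = n211439 := ndS (p := 73556) (l := 3) rfl N73556 D211439
theorem N108219 : nd 108219 = n211440 := ndS (p := 73558) (l := 5) rfl N73558 D211440
theorem N108220 : nd 108220 = n211441 := ndS (p := 73559) (l := 5) rfl N73559 D211441
theorem N108221 : nd 108221 = n211442 := ndS (p := 73560) (l := 0) rfl N73560 D211442
theorem N108222 : nd 108222 = n211443 := ndS (p := 73560) (l := 1) rfl N73560 D211443
theorem N108223 : nd 108223 = n211444 := ndS (p := 73560) (l := 4) rfl N73560 D211444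
theorem N108224 : nd 108224 = n211445 := ndS (p := 73562) (l := 3) rfl N73562 D211445
theorem N108225 : nd 108225 = n211446 := ndS (p := 73566) (l := 5) rfl N73566 D211446
theorem N108226 : nd 108226 = n211447 := ndS (p := 73566) (l := 6) rfl N73566 D211447
theorem N108227 : nd 108227 = n211448 := ndS (p := 73571) (l := 6) rfl N73571 D211448
theorem N108228 : nd 108228 = n211449 := ndS (p := 73575) (l := 0) rfl N73575 D211449
theorem N108229 : nd 108229 = n211450 := ndS (p := 73581) (l := 3) rfl N73581 D211450
theorem N108230 : nd 108230 = n211451 := ndS (p := 73581) (l := 5) rfl N73581 D211451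
theorem N108231 : nd 108231 = n211452 := ndS (p := 73594) (l := 6) rfl N73594 D211452
theorem N108232 : nd 108232 = n211453 := ndS (p := 73597) (l := 5) rfl N73597 D211453
theorem N108233 : nd 108233 = n211454 := ndS (p := 73602) (l := 3) rfl N73602 D211454
theorem N108234 : nd 108234 = n211455 := ndS (p := 73603) (l := 5) rfl N73603 D211455
theorem N108235 : nd 108235 = n211456 := ndS (p := 73604) (l := 0) rfl N73604 D211456
theorem N108236 : nd 108236 = n211457 := ndS (p := 73604) (l := 1) rfl N73604 D211457
theorem N108237 : nd 108237 = n211458 := ndS (p := 73608) (l := 6) rfl N73608 D211458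
theorem N108238 : nd 108238 = n211459 := ndS (p := 73609) (l := 5) rfl N73609 D211459
theorem N108239 : nd 108239 = n211460 := ndS (p := 73611) (l := 5) rfl N73611 D211460
theorem N108240 : nd 108240 = n211461 := ndS (p := 73613) (l := 1) rfl N73613 D211461
theorem N108241 : nd 108241 = n211462 := ndS (p := 73613) (l := 4) rfl N73613 D211462
theorem N108242 : nd 108242 = n211463 := ndS (p := 73613) (l := 6) rfl N73613 D211463
theorem N108243 : nd 108243 = n211464 := ndS (p := 73615) (l := 4) rfl N73615 D211464
theorem N108244 : nd 108244 = n211466 := ndS (p := 73617) (l := 3) rfl N73617 D211466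
theorem N108245 : nd 108245 = n211467 := ndS (p := 73624) (l := 6) rfl N73624 D211467
theorem N108246 : nd 108246 = n211468 := ndS (p := 73629) (l := 3) rfl N73629 D211468
theorem N108247 : nd 108247 = n211469 := ndS (p := 73631) (l := 6) rfl N73631 D211469
theorem N108248 : nd 108248 = n211470 := ndS (p := 73633) (l := 3) rfl N73633 D211470
theorem N108249 : nd 108249 = n211471 := ndS (p := 73633) (l := 6) rfl N73633 D211471
theorem N108250 : nd 108250 = n211472 := ndS (p := 73635) (l := 0) rfl N73635 D211472
theorem N108251 : nd 108251 = n211473 := ndS (p := 73635) (l := 4) rfl N73635 D211473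
theorem N108252 : nd 108252 = n211474 := ndS (p := 73637) (l := 0) rfl N73637 D211474
theorem N108253 : nd 108253 = n211475 := ndS (p := 73637) (l := 2) rfl N73637 D211475
theorem N108254 : nd 108254 = n211476 := ndS (p := 73637) (l := 6) rfl N73637 D211476
theorem N108255 : nd 108255 = n211477 := ndS (p := 73639) (l := 3) rfl N73639 D211477
theorem N108256 : nd 108256 = n211478 := ndS (p := 73639) (l := 6) rfl N73639 D211478
theorem N108257 : nd 108257 = n211479 := ndS (p := 73641) (l := 5) rfl N73641 D211479
theorem N108258 : nd 108258 = n211480 := ndS (p := 73644) (l := 1) rfl N73644 D211480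
theorem N108259 : nd 108259 = n211481 := ndS (p := 73644) (l := 7) rfl N73644 D211481
theorem N108260 : nd 108260 = n211482 := ndS (p := 73645) (l := 0) rfl N73645 D211482
theorem N108261 : nd 108261 = n211483 := ndS (p := 73645) (l := 5) rfl N73645 D211483
theorem N108262 : nd 108262 = n211484 := ndS (p := 73649) (l := 0) rfl N73649 D211484
theorem N108263 : nd 108263 = n211485 := ndS (p := 73649) (l := 1) rfl N73649 D211485
theorem N108264 : nd 108264 = n211486 := ndS (p := 73651) (l := 6) rfl N73651 D211486
theorem N108265 : nd 108265 = n211487 := ndS (p := 73658) (l := 6) rfl N73658 D211487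
theorem N108266 : nd 108266 = n211488 := ndS (p := 73662) (l := 0) rfl N73662 D211488
theorem N108267 : nd 108267 = n211489 := ndS (p := 73663) (l := 3) rfl N73663 D211489
theorem N108268 : nd 108268 = n211490 := ndS (p := 73664) (l := 0) rfl N73664 D211490
theorem N108269 : nd 108269 = n211491 := ndS (p := 73664) (l := 1) rfl N73664 D211491
theorem N108270 : nd 108270 = n211492 := ndS (p := 73664) (l := 4) rfl N73664 D211492
theorem N108271 : nd 108271 = n211493 := ndS (p := 73665) (l := 3) rfl N73665 D211493
theorem N108272 : nd 108272 = n211494 := ndS (p := 73668) (l := 0) rfl N73668 D211494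
theorem N108273 : nd 108273 = n211495 := ndS (p := 73668) (l := 1) rfl N73668 D211495
theorem N108274 : nd 108274 = n211496 := ndS (p := 73669) (l := 6) rfl N73669 D211496
theorem N108275 : nd 108275 = n211497 := ndS (p := 73671) (l := 5) rfl N73671 D211497
theorem N108276 : nd 108276 = n211498 := ndS (p := 73672) (l := 6) rfl N73672 D211498
theorem N108277 : nd 108277 = n211499 := ndS (p := 73680) (l := 4) rfl N73680 D211499
theorem N108278 : nd 108278 = n211500 := ndS (p := 73681) (l := 4) rfl N73681 D211500
theorem N108279 : nd 108279 = n211501 := ndS (p := 73681) (l := 5) rfl N73681 D211501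
theorem N108280 : nd 108280 = n211502 := ndS (p := 73682) (l := 0) rfl N73682 D211502
theorem N108281 : nd 108281 = n211503 := ndS (p := 73682) (l := 7) rfl N73682 D211503
theorem N108282 : nd 108282 = n211504 := ndS (p := 73685) (l := 0) rfl N73685 D211504
theorem N108283 : nd 108283 = n211505 := ndS (p := 73689) (l := 5) rfl N73689 D211505
theorem N108284 : nd 108284 = n211506 := ndS (p := 73690) (l := 5) rfl N73690 D211506
theorem N108285 : nd 108285 = n211507 := ndS (p := 73691) (l := 6) rfl N73691 D211507
theorem N108286 : nd 108286 = n211508 := ndS (p := 73698) (l := 1) rfl N73698 D211508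
theorem N108287 : nd 108287 = n211509 := ndS (p := 73698) (l := 2) rfl N73698 D211509
theorem N108288 : nd 108288 = n211510 := ndS (p := 73698) (l := 6) rfl N73698 D211510
theorem N108289 : nd 108289 = n211511 := ndS (p := 73705) (l := 0) rfl N73705 D211511
theorem N108290 : nd 108290 = n211512 := ndS (p := 73707) (l := 5) rfl N73707 D211512
theorem N108291 : nd 108291 = n211513 := ndS (p := 73709) (l := 4) rfl N73709 D211513
theorem N108292 : nd 108292 = n211514 := ndS (p := 73709) (l := 5) rfl N73709 D211514
theorem N108293 : nd 108293 = n211515 := ndS (p := 73711) (l := 1) rfl N73711 D211515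
theorem N108294 : nd 108294 = n211516 := ndS (p := 73720) (l := 5) rfl N73720 D211516
theorem N108295 : nd 108295 = n211517 := ndS (p := 73724) (l := 4) rfl N73724 D211517
theorem N108296 : nd 108296 = n211518 := ndS (p := 73726) (l := 6) rfl N73726 D211518
theorem N108297 : nd 108297 = n211519 := ndS (p := 73728) (l := 5) rfl N73728 D211519
theorem N108298 : nd 108298 = n211520 := ndS (p := 73730) (l := 6) rfl N73730 D211520
theorem N108299 : nd 108299 = n211521 := ndS (p := 73732) (l := 6) rfl N73732 D211521
theorem N108300 : nd 108300 = n211522 := ndS (p := 73733) (l := 0) rfl N73733 D211522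
theorem N108301 : nd 108301 = n211523 := ndS (p := 73733) (l := 7) rfl N73733 D211523
theorem N108302 : nd 108302 = n211524 := ndS (p := 73738) (l := 1) rfl N73738 D211524
theorem N108303 : nd 108303 = n211525 := ndS (p := 73738) (l := 5) rfl N73738 D211525
theorem N108304 : nd 108304 = n211526 := ndS (p := 73738) (l := 6) rfl N73738 D211526
theorem N108305 : nd 108305 = n211527 := ndS (p := 73739) (l := 6) rfl N73739 D211527
theorem N108306 : nd 108306 = n211528 := ndS (p := 73740) (l := 5) rfl N73740 D211528
theorem N108307 : nd 108307 = n211529 := ndS (p := 73750) (l := 6) rfl N73750 D211529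
theorem N108308 : nd 108308 = n211530 := ndS (p := 73752) (l := 3) rfl N73752 D211530
theorem N108309 : nd 108309 = n211531 := ndS (p := 73754) (l := 0) rfl N73754 D211531
theorem N108310 : nd 108310 = n211532 := ndS (p := 73754) (l := 1) rfl N73754 D211532
theorem N108311 : nd 108311 = n211533 := ndS (p := 73758) (l := 6) rfl N73758 D211533
theorem N108312 : nd 108312 = n211534 := ndS (p := 73760) (l := 5) rfl N73760 D211534
theorem N108313 : nd 108313 = n211535 := ndS (p := 73762) (l := 6) rfl N73762 D211535
theorem N108314 : nd 108314 = n211536 := ndS (p := 73763) (l := 0) rfl N73763 D211536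
theorem N108315 : nd 108315 = n211537 := ndS (p := 73765) (l := 1) rfl N73765 D211537
theorem N108316 : nd 108316 = n211538 := ndS (p := 73765) (l := 2) rfl N73765 D211538
theorem N108317 : nd 108317 = n211539 := ndS (p := 73765) (l := 6) rfl N73765 D211539
theorem N108318 : nd 108318 = n211540 := ndS (p := 73767) (l := 5) rfl N73767 D211540
theorem N108319 : nd 108319 = n211541 := ndS (p := 73769) (l := 3) rfl N73769 D211541
theorem N108320 : nd 108320 = n211542 := ndS (p := 73776) (l := 3) rfl N73776 D211542
theorem N108321 : nd 108321 = n211543 := ndS (p := 73782) (l := 6) rfl N73782 D211543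
theorem N108322 : nd 108322 = n211544 := ndS (p := 73787) (l := 1) rfl N73787 D211544
theorem N108323 : nd 108323 = n211545 := ndS (p := 73787) (l := 4) rfl N73787 D211545
theorem N108324 : nd 108324 = n211546 := ndS (p := 73789) (l := 3) rfl N73789 D211546
theorem N108325 : nd 108325 = n211547 := ndS (p := 73790) (l := 0) rfl N73790 D211547
theorem N108326 : nd 108326 = n211548 := ndS (p := 73793) (l := 5) rfl N73793 D211548
theorem N108327 : nd 108327 = n211549 := ndS (p := 73794) (l := 5) rfl N73794 D211549
theorem N108328 : nd 108328 = n211550 := ndS (p := 73797) (l := 3) rfl N73797 D211550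
theorem N108329 : nd 108329 = n211551 := ndS (p := 73798) (l := 5) rfl N73798 D211551
theorem N108330 : nd 108330 = n211552 := ndS (p := 73801) (l := 1) rfl N73801 D211552
theorem N108331 : nd 108331 = n211553 := ndS (p := 73804) (l := 6) rfl N73804 D211553
theorem N108332 : nd 108332 = n211554 := ndS (p := 73809) (l := 1) rfl N73809 D211554
theorem N108333 : nd 108333 = n211555 := ndS (p := 73810) (l := 6) rfl N73810 D211555
theorem N108334 : nd 108334 = n211556 := ndS (p := 73813) (l := 6) rfl N73813 D211556
theorem N108335 : nd 108335 = n211557 := ndS (p := 73816) (l := 4) rfl N73816 D211557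
theorem N108336 : nd 108336 = n211558 := ndS (p := 73818) (l := 3) rfl N73818 D211558
theorem N108337 : nd 108337 = n211559 := ndS (p := 73819) (l := 3) rfl N73819 D211559
theorem N108338 : nd 108338 = n211560 := ndS (p := 73820) (l := 4) rfl N73820 D211560
theorem N108339 : nd 108339 = n211561 := ndS (p := 73821) (l := 4) rfl N73821 D211561
theorem N108340 : nd 108340 = n211562 := ndS (p := 73821) (l := 5) rfl N73821 D211562
theorem N108341 : nd 108341 = n211563 := ndS (p := 73825) (l := 6) rfl N73825 D211563
theorem N108342 : nd 108342 = n211564 := ndS (p := 73832) (l := 4) rfl N73832 D211564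
theorem N108343 : nd 108343 = n211565 := ndS (p := 73835) (l := 1) rfl N73835 D211565
theorem N108344 : nd 108344 = n211566 := ndS (p := 73836) (l := 6) rfl N73836 D211566
theorem N108345 : nd 108345 = n211567 := ndS (p := 73838) (l := 0) rfl N73838 D211567
theorem N108346 : nd 108346 = n211568 := ndS (p := 73838) (l := 1) rfl N73838 D211568
theorem N108347 : nd 108347 = n211569 := ndS (p := 73838) (l := 5) rfl N73838 D211569
theorem N108348 : nd 108348 = n211570 := ndS (p := 73838) (l := 7) rfl N73838 D211570
theorem N108349 : nd 108349 = n211571 := ndS (p := 73841) (l := 0) rfl N73841 D211571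
theorem N108350 : nd 108350 = n211572 := ndS (p := 73841) (l := 1) rfl N73841 D211572
theorem N108351 : nd 108351 = n211573 := ndS (p := 73841) (l := 2) rfl N73841 D211573
theorem N108352 : nd 108352 = n211574 := ndS (p := 73841) (l := 6) rfl N73841 D211574
theorem N108353 : nd 108353 = n211575 := ndS (p := 73850) (l := 4) rfl N73850 D211575
theorem N108354 : nd 108354 = n211576 := ndS (p := 73850) (l := 5) rfl N73850 D211576
theorem N108355 : nd 108355 = n211577 := ndS (p := 73850) (l := 6) rfl N73850 D211577
theorem N108356 : nd 108356 = n211578 := ndS (p := 73851) (l := 5) rfl N73851 D211578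
theorem N108357 : nd 108357 = n211579 := ndS (p := 73853) (l := 6) rfl N73853 D211579
theorem N108358 : nd 108358 = n211580 := ndS (p := 73859) (l := 0) rfl N73859 D211580
theorem N108359 : nd 108359 = n211581 := ndS (p := 73859) (l := 5) rfl N73859 D211581
theorem N108360 : nd 108360 = n211582 := ndS (p := 73860) (l := 6) rfl N73860 D211582
theorem N108361 : nd 108361 = n211583 := ndS (p := 73867) (l := 5) rfl N73867 D211583
theorem N108362 : nd 108362 = n211584 := ndS (p := 73868) (l := 5) rfl N73868 D211584
theorem N108363 : nd 108363 = n211585 := ndS (p := 73868) (l := 7) rfl N73868 D211585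
theorem N108364 : nd 108364 = n211586 := ndS (p := 73872) (l := 0) rfl N73872 D211586
theorem N108365 : nd 108365 = n211587 := ndS (p := 73872) (l := 1) rfl N73872 D211587
theorem N108366 : nd 108366 = n211588 := ndS (p := 73873) (l := 5) rfl N73873 D211588
theorem N108367 : nd 108367 = n211589 := ndS (p := 73874) (l := 3) rfl N73874 D211589
theorem N108368 : nd 108368 = n211590 := ndS (p := 73876) (l := 5) rfl N73876 D211590
theorem N108369 : nd 108369 = n211591 := ndS (p := 73876) (l := 6) rfl N73876 D211591
theorem N108370 : nd 108370 = n211592 := ndS (p := 73877) (l := 5) rfl N73877 D211592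
theorem N108371 : nd 108371 = n211593 := ndS (p := 73878) (l := 7) rfl N73878 D211593
theorem N108372 : nd 108372 = n211594 := ndS (p := 73882) (l := 5) rfl N73882 D211594
theorem N108373 : nd 108373 = n211595 := ndS (p := 73882) (l := 6) rfl N73882 D211595
theorem N108374 : nd 108374 = n211596 := ndS (p := 73884) (l := 1) rfl N73884 D211596
theorem N108375 : nd 108375 = n211597 := ndS (p := 73884) (l := 2) rfl N73884 D211597
theorem N108376 : nd 108376 = n211598 := ndS (p := 73884) (l := 6) rfl N73884 D211598
theorem N108377 : nd 108377 = n211599 := ndS (p := 73891) (l := 6) rfl N73891 D211599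
theorem N108378 : nd 108378 = n211600 := ndS (p := 73892) (l := 5) rfl N73892 D211600
theorem N108379 : nd 108379 = n211601 := ndS (p := 73893) (l := 0) rfl N73893 D211601
theorem N108380 : nd 108380 = n211602 := ndS (p := 73893) (l := 1) rfl N73893 D211602
theorem N108381 : nd 108381 = n211603 := ndS (p := 73893) (l := 5) rfl N73893 D211603
theorem N108382 : nd 108382 = n211604 := ndS (p := 73893) (l := 7) rfl N73893 D211604
theorem N108383 : nd 108383 = n211605 := ndS (p := 73894) (l := 3) rfl N73894 D211605
theorem N108384 : nd 108384 = n211606 := ndS (p := 73894) (l := 5) rfl N73894 D211606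
theorem N108385 : nd 108385 = n211607 := ndS (p := 73895) (l := 1) rfl N73895 D211607
theorem N108386 : nd 108386 = n211608 := ndS (p := 73895) (l := 7) rfl N73895 D211608
theorem N108387 : nd 108387 = n211609 := ndS (p := 73897) (l := 5) rfl N73897 D211609
theorem N108388 : nd 108388 = n211610 := ndS (p := 73899) (l := 3) rfl N73899 D211610
theorem N108389 : nd 108389 = n211611 := ndS (p := 73899) (l := 5) rfl N73899 D211611
theorem N108390 : nd 108390 = n211612 := ndS (p := 73901) (l := 5) rfl N73901 D211612
theorem N108391 : nd 108391 = n211613 := ndS (p := 73903) (l := 6) rfl N73903 D211613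
theorem N108392 : nd 108392 = n211614 := ndS (p := 73904) (l := 6) rfl N73904 D211614
theorem N108393 : nd 108393 = n211615 := ndS (p := 73906) (l := 4) rfl N73906 D211615
theorem N108394 : nd 108394 = n211616 := ndS (p := 73907) (l := 0) rfl N73907 D211616
theorem N108395 : nd 108395 = n211617 := ndS (p := 73907) (l := 1) rfl N73907 D211617
theorem N108396 : nd 108396 = n211618 := ndS (p := 73909) (l := 6) rfl N73909 D211618
theorem N108397 : nd 108397 = n211619 := ndS (p := 73912) (l := 3) rfl N73912 D211619
theorem N108398 : nd 108398 = n211620 := ndS (p := 73913) (l := 0) rfl N73913 D211620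
theorem N108399 : nd 108399 = n211621 := ndS (p := 73913) (l := 7) rfl N73913 D211621
theorem N108400 : nd 108400 = n211622 := ndS (p := 73914) (l := 1) rfl N73914 D211622
theorem N108401 : nd 108401 = n211623 := ndS (p := 73914) (l := 7) rfl N73914 D211623
theorem N108402 : nd 108402 = n211624 := ndS (p := 73917) (l := 1) rfl N73917 D211624
theorem N108403 : nd 108403 = n211625 := ndS (p := 73917) (l := 5) rfl N73917 D211625
theorem N108404 : nd 108404 = n211626 := ndS (p := 73918) (l := 3) rfl N73918 D211626
theorem N108405 : nd 108405 = n211627 := ndS (p := 73918) (l := 4) rfl N73918 D211627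
theorem N108406 : nd 108406 = n211628 := ndS (p := 73919) (l := 3) rfl N73919 D211628
theorem N108407 : nd 108407 = n211629 := ndS (p := 73919) (l := 4) rfl N73919 D211629
theorem N108408 : nd 108408 = n211631 := ndS (p := 73919) (l := 6) rfl N73919 D211631
theorem N108409 : nd 108409 = n211632 := ndS (p := 73920) (l := 0) rfl N73920 D211632
theorem N108410 : nd 108410 = n211633 := ndS (p := 73920) (l := 1) rfl N73920 D211633
theorem N108411 : nd 108411 = n211634 := ndS (p := 73920) (l := 4) rfl N73920 D211634
theorem N108412 : nd 108412 = n211635 := ndS (p := 73920) (l := 7) rfl N73920 D211635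
theorem N108413 : nd 108413 = n211636 := ndS (p := 73922) (l := 0) rfl N73922 D211636
theorem N108414 : nd 108414 = n211637 := ndS (p := 73922) (l := 2) rfl N73922 D211637
theorem N108415 : nd 108415 = n211638 := ndS (p := 73922) (l := 5) rfl N73922 D211638
theorem N108416 : nd 108416 = n211639 := ndS (p := 73922) (l := 6) rfl N73922 D211639
theorem N108417 : nd 108417 = n211640 := ndS (p := 73923) (l := 0) rfl N73923 D211640
theorem N108418 : nd 108418 = n211641 := ndS (p := 73923) (l := 4) rfl N73923 D211641
theorem N108419 : nd 108419 = n211642 := ndS (p := 73923) (l := 6) rfl N73923 D211642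
theorem N108420 : nd 108420 = n211643 := ndS (p := 73924) (l := 5) rfl N73924 D211643
theorem N108421 : nd 108421 = n211644 := ndS (p := 73925) (l := 1) rfl N73925 D211644
theorem N108422 : nd 108422 = n211645 := ndS (p := 73926) (l := 6) rfl N73926 D211645
theorem N108423 : nd 108423 = n211646 := ndS (p := 73928) (l := 3) rfl N73928 D211646
theorem N108424 : nd 108424 = n211647 := ndS (p := 73928) (l := 4) rfl N73928 D211647
theorem N108425 : nd 108425 = n211649 := ndS (p := 73929) (l := 4) rfl N73929 D211649
theorem N108426 : nd 108426 = n211650 := ndS (p := 73930) (l := 3) rfl N73930 D211650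
theorem N108427 : nd 108427 = n211651 := ndS (p := 73930) (l := 5) rfl N73930 D211651
theorem N108428 : nd 108428 = n211652 := ndS (p := 73935) (l := 5) rfl N73935 D211652
theorem N108429 : nd 108429 = n211653 := ndS (p := 73937) (l := 4) rfl N73937 D211653
theorem N108430 : nd 108430 = n211654 := ndS (p := 73937) (l := 6) rfl N73937 D211654
theorem N108431 : nd 108431 = n211655 := ndS (p := 73938) (l := 5) rfl N73938 D211655
theorem N108432 : nd 108432 = n211656 := ndS (p := 73938) (l := 7) rfl N73938 D211656
theorem N108433 : nd 108433 = n211657 := ndS (p := 73941) (l := 4) rfl N73941 D211657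
theorem N108434 : nd 108434 = n211658 := ndS (p := 73943) (l := 5) rfl N73943 D211658
theorem N108435 : nd 108435 = n211659 := ndS (p := 73943) (l := 6) rfl N73943 D211659
theorem N108436 : nd 108436 = n211660 := ndS (p := 73946) (l := 6) rfl N73946 D211660
theorem N108437 : nd 108437 = n211661 := ndS (p := 73947) (l := 5) rfl N73947 D211661
theorem N108438 : nd 108438 = n211662 := ndS (p := 73949) (l := 3) rfl N73949 D211662
theorem N108439 : nd 108439 = n211663 := ndS (p := 73954) (l := 4) rfl N73954 D211663
theorem N108440 : nd 108440 = n211664 := ndS (p := 73955) (l := 0) rfl N73955 D211664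
theorem N108441 : nd 108441 = n211665 := ndS (p := 73956) (l := 6) rfl N73956 D211665
theorem N108442 : nd 108442 = n211666 := ndS (p := 73958) (l := 5) rfl N73958 D211666
theorem N108443 : nd 108443 = n211667 := ndS (p := 73959) (l := 3) rfl N73959 D211667
theorem N108444 : nd 108444 = n211668 := ndS (p := 73961) (l := 5) rfl N73961 D211668
theorem N108445 : nd 108445 = n211669 := ndS (p := 73964) (l := 6) rfl N73964 D211669
theorem N108446 : nd 108446 = n211670 := ndS (p := 73967) (l := 4) rfl N73967 D211670
theorem N108447 : nd 108447 = n211671 := ndS (p := 73971) (l := 3) rfl N73971 D211671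
theorem N108448 : nd 108448 = n211672 := ndS (p := 73976) (l := 5) rfl N73976 D211672
theorem N108449 : nd 108449 = n211673 := ndS (p := 73978) (l := 3) rfl N73978 D211673
theorem N108450 : nd 108450 = n211674 := ndS (p := 73979) (l := 4) rfl N73979 D211674
theorem N108451 : nd 108451 = n211675 := ndS (p := 73982) (l := 4) rfl N73982 D211675
theorem N108452 : nd 108452 = n211676 := ndS (p := 73983) (l := 5) rfl N73983 D211676
theorem N108453 : nd 108453 = n211677 := ndS (p := 73987) (l := 1) rfl N73987 D211677
theorem N108454 : nd 108454 = n211678 := ndS (p := 73987) (l := 6) rfl N73987 D211678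
theorem N108455 : nd 108455 = n211679 := ndS (p := 73992) (l := 6) rfl N73992 D211679
theorem N108456 : nd 108456 = n211680 := ndS (p := 73993) (l := 5) rfl N73993 D211680
theorem N108457 : nd 108457 = n211681 := ndS (p := 73994) (l := 4) rfl N73994 D211681
theorem N108458 : nd 108458 = n211682 := ndS (p := 73995) (l := 1) rfl N73995 D211682
theorem N108459 : nd 108459 = n211683 := ndS (p := 73995) (l := 3) rfl N73995 D211683
theorem N108460 : nd 108460 = n211684 := ndS (p := 73995) (l := 6) rfl N73995 D211684
theorem N108461 : nd 108461 = n211685 := ndS (p := 73996) (l := 0) rfl N73996 D211685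
theorem N108462 : nd 108462 = n211686 := ndS (p := 73996) (l := 5) rfl N73996 D211686
theorem N108463 : nd 108463 = n211687 := ndS (p := 73997) (l := 4) rfl N73997 D211687
theorem N108464 : nd 108464 = n211688 := ndS (p := 73999) (l := 3) rfl N73999 D211688
theorem N108465 : nd 108465 = n211689 := ndS (p := 74006) (l := 3) rfl N74006 D211689
theorem N108466 : nd 108466 = n211690 := ndS (p := 74006) (l := 6) rfl N74006 D211690
theorem N108467 : nd 108467 = n211691 := ndS (p := 74007) (l := 0) rfl N74007 D211691
theorem N108468 : nd 108468 = n211692 := ndS (p := 74007) (l := 1) rfl N74007 D211692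
theorem N108469 : nd 108469 = n211693 := ndS (p := 74007) (l := 5) rfl N74007 D211693
theorem N108470 : nd 108470 = n211694 := ndS (p := 74007) (l := 6) rfl N74007 D211694
theorem N108471 : nd 108471 = n211695 := ndS (p := 74011) (l := 3) rfl N74011 D211695
theorem N108472 : nd 108472 = n211696 := ndS (p := 74020) (l := 4) rfl N74020 D211696
theorem N108473 : nd 108473 = n211697 := ndS (p := 74021) (l := 6) rfl N74021 D211697
theorem N108474 : nd 108474 = n211698 := ndS (p := 74025) (l := 1) rfl N74025 D211698
theorem N108475 : nd 108475 = n211699 := ndS (p := 74026) (l := 4) rfl N74026 D211699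
theorem N108476 : nd 108476 = n211700 := ndS (p := 74026) (l := 6) rfl N74026 D211700
theorem N108477 : nd 108477 = n211701 := ndS (p := 74027) (l := 3) rfl N74027 D211701
theorem N108478 : nd 108478 = n211702 := ndS (p := 74028) (l := 1) rfl N74028 D211702
theorem N108479 : nd 108479 = n211703 := ndS (p := 74030) (l := 5) rfl N74030 D211703
theorem N108480 : nd 108480 = n211704 := ndS (p := 74033) (l := 3) rfl N74033 D211704
theorem N108481 : nd 108481 = n211705 := ndS (p := 74033) (l := 4) rfl N74033 D211705
theorem N108482 : nd 108482 = n211706 := ndS (p := 74033) (l := 6) rfl N74033 D211706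
theorem N108483 : nd 108483 = n211707 := ndS (p := 74038) (l := 6) rfl N74038 D211707
theorem N108484 : nd 108484 = n211708 := ndS (p := 74039) (l := 0) rfl N74039 D211708
theorem N108485 : nd 108485 = n211709 := ndS (p := 74040) (l := 5) rfl N74040 D211709
theorem N108486 : nd 108486 = n211710 := ndS (p := 74040) (l := 6) rfl N74040 D211710
theorem N108487 : nd 108487 = n211711 := ndS (p := 74042) (l := 5) rfl N74042 D211711
theorem N108488 : nd 108488 = n211712 := ndS (p := 74044) (l := 3) rfl N74044 D211712
theorem N108489 : nd 108489 = n211713 := ndS (p := 74044) (l := 6) rfl N74044 D211713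
theorem N108490 : nd 108490 = n211714 := ndS (p := 74046) (l := 6) rfl N74046 D211714
theorem N108491 : nd 108491 = n211715 := ndS (p := 74047) (l := 6) rfl N74047 D211715
theorem N108492 : nd 108492 = n211716 := ndS (p := 74049) (l := 3) rfl N74049 D211716
theorem N108493 : nd 108493 = n211717 := ndS (p := 74057) (l := 6) rfl N74057 D211717
theorem N108494 : nd 108494 = n211718 := ndS (p := 74058) (l := 0) rfl N74058 D211718
theorem N108495 : nd 108495 = n211719 := ndS (p := 74058) (l := 1) rfl N74058 D211719
theorem N108496 : nd 108496 = n211720 := ndS (p := 74058) (l := 5) rfl N74058 D211720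
theorem N108497 : nd 108497 = n211721 := ndS (p := 74058) (l := 7) rfl N74058 D211721
theorem N108498 : nd 108498 = n211722 := ndS (p := 74059) (l := 0) rfl N74059 D211722
theorem N108499 : nd 108499 = n211723 := ndS (p := 74059) (l := 1) rfl N74059 D211723
theorem N108500 : nd 108500 = n211724 := ndS (p := 74059) (l := 7) rfl N74059 D211724
theorem N108501 : nd 108501 = n211725 := ndS (p := 74060) (l := 3) rfl N74060 D211725
theorem N108502 : nd 108502 = n211726 := ndS (p := 74060) (l := 4) rfl N74060 D211726
theorem N108503 : nd 108503 = n211727 := ndS (p := 74060) (l := 5) rfl N74060 D211727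
theorem N108504 : nd 108504 = n211728 := ndS (p := 74061) (l := 3) rfl N74061 D211728
theorem N108505 : nd 108505 = n211729 := ndS (p := 74061) (l := 5) rfl N74061 D211729
theorem N108506 : nd 108506 = n211730 := ndS (p := 74062) (l := 0) rfl N74062 D211730
theorem N108507 : nd 108507 = n211731 := ndS (p := 74062) (l := 1) rfl N74062 D211731
theorem N108508 : nd 108508 = n211732 := ndS (p := 74062) (l := 7) rfl N74062 D211732
theorem N108509 : nd 108509 = n211733 := ndS (p := 74064) (l := 3) rfl N74064 D211733
theorem N108510 : nd 108510 = n211734 := ndS (p := 74064) (l := 5) rfl N74064 D211734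
theorem N108511 : nd 108511 = n211735 := ndS (p := 74065) (l := 3) rfl N74065 D211735
theorem N108512 : nd 108512 = n211736 := ndS (p := 74065) (l := 5) rfl N74065 D211736
theorem N108513 : nd 108513 = n211737 := ndS (p := 74066) (l := 0) rfl N74066 D211737
theorem N108514 : nd 108514 = n211738 := ndS (p := 74066) (l := 1) rfl N74066 D211738
theorem N108515 : nd 108515 = n211739 := ndS (p := 74066) (l := 4) rfl N74066 D211739
theorem N108516 : nd 108516 = n211740 := ndS (p := 74066) (l := 7) rfl N74066 D211740
theorem N108517 : nd 108517 = n211741 := ndS (p := 74068) (l := 0) rfl N74068 D211741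
theorem N108518 : nd 108518 = n211742 := ndS (p := 74068) (l := 5) rfl N74068 D211742
theorem N108519 : nd 108519 = n211743 := ndS (p := 74069) (l := 4) rfl N74069 D211743
theorem N108520 : nd 108520 = n211744 := ndS (p := 74069) (l := 6) rfl N74069 D211744
theorem N108521 : nd 108521 = n211745 := ndS (p := 74070) (l := 1) rfl N74070 D211745
theorem N108522 : nd 108522 = n211746 := ndS (p := 74070) (l := 2) rfl N74070 D211746
theorem N108523 : nd 108523 = n211747 := ndS (p := 74070) (l := 5) rfl N74070 D211747
theorem N108524 : nd 108524 = n211748 := ndS (p := 74071) (l := 4) rfl N74071 D211748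
theorem N108525 : nd 108525 = n211749 := ndS (p := 74071) (l := 6) rfl N74071 D211749
theorem N108526 : nd 108526 = n211750 := ndS (p := 74072) (l := 3) rfl N74072 D211750
theorem N108527 : nd 108527 = n211751 := ndS (p := 74072) (l := 4) rfl N74072 D211751
theorem N108528 : nd 108528 = n211752 := ndS (p := 74073) (l := 0) rfl N74073 D211752
theorem N108529 : nd 108529 = n211753 := ndS (p := 74074) (l := 6) rfl N74074 D211753
theorem N108530 : nd 108530 = n211754 := ndS (p := 74075) (l := 5) rfl N74075 D211754
theorem N108531 : nd 108531 = n211755 := ndS (p := 74076) (l := 4) rfl N74076 D211755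
theorem N108532 : nd 108532 = n211756 := ndS (p := 74076) (l := 6) rfl N74076 D211756
theorem N108533 : nd 108533 = n211757 := ndS (p := 74078) (l := 6) rfl N74078 D211757
theorem N108534 : nd 108534 = n211758 := ndS (p := 74080) (l := 6) rfl N74080 D211758
theorem N108535 : nd 108535 = n211759 := ndS (p := 74081) (l := 6) rfl N74081 D211759
theorem N108536 : nd 108536 = n211760 := ndS (p := 74082) (l := 0) rfl N74082 D211760
theorem N108537 : nd 108537 = n211761 := ndS (p := 74082) (l := 1) rfl N74082 D211761
theorem N108538 : nd 108538 = n211762 := ndS (p := 74082) (l := 5) rfl N74082 D211762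
theorem N108539 : nd 108539 = n211763 := ndS (p := 74082) (l := 7) rfl N74082 D211763
theorem N108540 : nd 108540 = n211764 := ndS (p := 74083) (l := 3) rfl N74083 D211764
theorem N108541 : nd 108541 = n211765 := ndS (p := 74083) (l := 5) rfl N74083 D211765
theorem N108542 : nd 108542 = n211766 := ndS (p := 74084) (l := 0) rfl N74084 D211766
theorem N108543 : nd 108543 = n211767 := ndS (p := 74090) (l := 6) rfl N74090 D211767
theorem N108544 : nd 108544 = n211768 := ndS (p := 74091) (l := 1) rfl N74091 D211768
theorem N108545 : nd 108545 = n211769 := ndS (p := 74091) (l := 5) rfl N74091 D211769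
theorem N108546 : nd 108546 = n211770 := ndS (p := 74091) (l := 7) rfl N74091 D211770
theorem N108547 : nd 108547 = n211771 := ndS (p := 74092) (l := 6) rfl N74092 D211771
theorem N108548 : nd 108548 = n211772 := ndS (p := 74094) (l := 0) rfl N74094 D211772
theorem N108549 : nd 108549 = n211773 := ndS (p := 74094) (l := 6) rfl N74094 D211773
theorem N108550 : nd 108550 = n211774 := ndS (p := 74095) (l := 0) rfl N74095 D211774
theorem N108551 : nd 108551 = n211775 := ndS (p := 74095) (l := 5) rfl N74095 D211775
theorem N108552 : nd 108552 = n211776 := ndS (p := 74095) (l := 7) rfl N74095 D211776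
theorem N108553 : nd 108553 = n211777 := ndS (p := 74096) (l := 3) rfl N74096 D211777
theorem N108554 : nd 108554 = n211778 := ndS (p := 74096) (l := 5) rfl N74096 D211778
theorem N108555 : nd 108555 = n211779 := ndS (p := 74097) (l := 4) rfl N74097 D211779
theorem N108556 : nd 108556 = n211780 := ndS (p := 74097) (l := 5) rfl N74097 D211780
theorem N108557 : nd 108557 = n211781 := ndS (p := 74098) (l := 0) rfl N74098 D211781
theorem N108558 : nd 108558 = n211782 := ndS (p := 74098) (l := 1) rfl N74098 D211782
theorem N108559 : nd 108559 = n211783 := ndS (p := 74098) (l := 4) rfl N74098 D211783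
theorem N108560 : nd 108560 = n211784 := ndS (p := 74098) (l := 7) rfl N74098 D211784
theorem N108561 : nd 108561 = n211785 := ndS (p := 74100) (l := 5) rfl N74100 D211785
theorem N108562 : nd 108562 = n211786 := ndS (p := 74101) (l := 3) rfl N74101 D211786
theorem N108563 : nd 108563 = n211787 := ndS (p := 74101) (l := 5) rfl N74101 D211787
theorem N108564 : nd 108564 = n211788 := ndS (p := 74102) (l := 0) rfl N74102 D211788
theorem N108565 : nd 108565 = n211789 := ndS (p := 74102) (l := 1) rfl N74102 D211789
theorem N108566 : nd 108566 = n211790 := ndS (p := 74102) (l := 4) rfl N74102 D211790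
theorem N108567 : nd 108567 = n211791 := ndS (p := 74102) (l := 7) rfl N74102 D211791
theorem N108568 : nd 108568 = n211792 := ndS (p := 74104) (l := 6) rfl N74104 D211792
theorem N108569 : nd 108569 = n211793 := ndS (p := 74107) (l := 1) rfl N74107 D211793
theorem N108570 : nd 108570 = n211794 := ndS (p := 74107) (l := 3) rfl N74107 D211794
theorem N108571 : nd 108571 = n211795 := ndS (p := 74110) (l := 6) rfl N74110 D211795
theorem N108572 : nd 108572 = n211796 := ndS (p := 74112) (l := 0) rfl N74112 D211796
theorem N108573 : nd 108573 = n211797 := ndS (p := 74112) (l := 3) rfl N74112 D211797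
theorem N108574 : nd 108574 = n211798 := ndS (p := 74114) (l := 5) rfl N74114 D211798
theorem N108575 : nd 108575 = n211799 := ndS (p := 74116) (l := 6) rfl N74116 D211799
theorem N108576 : nd 108576 = n211800 := ndS (p := 74117) (l := 6) rfl N74117 D211800
theorem N108577 : nd 108577 = n211801 := ndS (p := 74118) (l := 5) rfl N74118 D211801
theorem N108578 : nd 108578 = n211802 := ndS (p := 74120) (l := 5) rfl N74120 D211802
theorem N108579 : nd 108579 = n211803 := ndS (p := 74121) (l := 6) rfl N74121 D211803
theorem N108580 : nd 108580 = n211804 := ndS (p := 74122) (l := 0) rfl N74122 D211804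
theorem N108581 : nd 108581 = n211805 := ndS (p := 74122) (l := 5) rfl N74122 D211805
theorem N108582 : nd 108582 = n211806 := ndS (p := 74122) (l := 7) rfl N74122 D211806
theorem N108583 : nd 108583 = n211807 := ndS (p := 74126) (l := 0) rfl N74126 D211807
theorem N108584 : nd 108584 = n211808 := ndS (p := 74126) (l := 1) rfl N74126 D211808
theorem N108585 : nd 108585 = n211809 := ndS (p := 74126) (l := 5) rfl N74126 D211809
theorem N108586 : nd 108586 = n211810 := ndS (p := 74126) (l := 7) rfl N74126 D211810
theorem N108587 : nd 108587 = n211811 := ndS (p := 74127) (l := 4) rfl N74127 D211811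
theorem N108588 : nd 108588 = n211812 := ndS (p := 74127) (l := 5) rfl N74127 D211812
theorem N108589 : nd 108589 = n211813 := ndS (p := 74128) (l := 0) rfl N74128 D211813
theorem N108590 : nd 108590 = n211814 := ndS (p := 74128) (l := 1) rfl N74128 D211814
theorem N108591 : nd 108591 = n211815 := ndS (p := 74128) (l := 4) rfl N74128 D211815
theorem N108592 : nd 108592 = n211816 := ndS (p := 74128) (l := 7) rfl N74128 D211816
theorem N108593 : nd 108593 = n211817 := ndS (p := 74131) (l := 5) rfl N74131 D211817
theorem N108594 : nd 108594 = n211818 := ndS (p := 74132) (l := 0) rfl N74132 D211818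
theorem N108595 : nd 108595 = n211819 := ndS (p := 74132) (l := 1) rfl N74132 D211819
theorem N108596 : nd 108596 = n211820 := ndS (p := 74132) (l := 4) rfl N74132 D211820
theorem N108597 : nd 108597 = n211821 := ndS (p := 74132) (l := 7) rfl N74132 D211821
theorem N108598 : nd 108598 = n211822 := ndS (p := 74135) (l := 0) rfl N74135 D211822
theorem N108599 : nd 108599 = n211823 := ndS (p := 74135) (l := 7) rfl N74135 D211823
theorem N108600 : nd 108600 = n211824 := ndS (p := 74136) (l := 6) rfl N74136 D211824
theorem N108601 : nd 108601 = n211825 := ndS (p := 74141) (l := 4) rfl N74141 D211825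
theorem N108602 : nd 108602 = n211826 := ndS (p := 74141) (l := 6) rfl N74141 D211826
theorem N108603 : nd 108603 = n211827 := ndS (p := 74142) (l := 5) rfl N74142 D211827
theorem N108604 : nd 108604 = n211828 := ndS (p := 74143) (l := 3) rfl N74143 D211828
theorem N108605 : nd 108605 = n211829 := ndS (p := 74143) (l := 4) rfl N74143 D211829
theorem N108606 : nd 108606 = n211830 := ndS (p := 74143) (l := 6) rfl N74143 D211830
theorem N108607 : nd 108607 = n211831 := ndS (p := 74145) (l := 0) rfl N74145 D211831
theorem N108608 : nd 108608 = n211832 := ndS (p := 74146) (l := 0) rfl N74146 D211832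
theorem N108609 : nd 108609 = n211833 := ndS (p := 74146) (l := 1) rfl N74146 D211833
theorem N108610 : nd 108610 = n211834 := ndS (p := 74146) (l := 5) rfl N74146 D211834
theorem N108611 : nd 108611 = n211835 := ndS (p := 74146) (l := 7) rfl N74146 D211835
theorem N108612 : nd 108612 = n211836 := ndS (p := 74147) (l := 3) rfl N74147 D211836
theorem N108613 : nd 108613 = n211838 := ndS (p := 74147) (l := 5) rfl N74147 D211838
theorem N108614 : nd 108614 = n211840 := ndS (p := 74148) (l := 1) rfl N74148 D211840
theorem N108615 : nd 108615 = n211841 := ndS (p := 74148) (l := 4) rfl N74148 D211841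
theorem N108616 : nd 108616 = n211842 := ndS (p := 74149) (l := 5) rfl N74149 D211842
theorem N108617 : nd 108617 = n211843 := ndS (p := 74150) (l := 5) rfl N74150 D211843
theorem N108618 : nd 108618 = n211844 := ndS (p := 74151) (l := 0) rfl N74151 D211844
theorem N108619 : nd 108619 = n211845 := ndS (p := 74151) (l := 1) rfl N74151 D211845
theorem N108620 : nd 108620 = n211846 := ndS (p := 74151) (l := 4) rfl N74151 D211846
theorem N108621 : nd 108621 = n211847 := ndS (p := 74151) (l := 7) rfl N74151 D211847
theorem N108622 : nd 108622 = n211848 := ndS (p := 74153) (l := 3) rfl N74153 D211848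
theorem N108623 : nd 108623 = n211849 := ndS (p := 74154) (l := 3) rfl N74154 D211849
theorem N108624 : nd 108624 = n211850 := ndS (p := 74154) (l := 6) rfl N74154 D211850
theorem N108625 : nd 108625 = n211851 := ndS (p := 74156) (l := 0) rfl N74156 D211851
theorem N108626 : nd 108626 = n211852 := ndS (p := 74156) (l := 7) rfl N74156 D211852
theorem N108627 : nd 108627 = n211853 := ndS (p := 74157) (l := 5) rfl N74157 D211853
theorem N108628 : nd 108628 = n211854 := ndS (p := 74161) (l := 5) rfl N74161 D211854
theorem N108629 : nd 108629 = n211855 := ndS (p := 74162) (l := 5) rfl N74162 D211855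
theorem N108630 : nd 108630 = n211856 := ndS (p := 74163) (l := 5) rfl N74163 D211856
theorem N108631 : nd 108631 = n211857 := ndS (p := 74164) (l := 1) rfl N74164 D211857
theorem N108632 : nd 108632 = n211858 := ndS (p := 74164) (l := 4) rfl N74164 D211858
theorem N108633 : nd 108633 = n211859 := ndS (p := 74164) (l := 7) rfl N74164 D211859
theorem N108634 : nd 108634 = n211860 := ndS (p := 74167) (l := 5) rfl N74167 D211860
theorem N108635 : nd 108635 = n211861 := ndS (p := 74168) (l := 3) rfl N74168 D211861
theorem N108636 : nd 108636 = n211862 := ndS (p := 74168) (l := 6) rfl N74168 D211862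
theorem N108637 : nd 108637 = n211863 := ndS (p := 74172) (l := 4) rfl N74172 D211863
theorem N108638 : nd 108638 = n211864 := ndS (p := 74175) (l := 3) rfl N74175 D211864
theorem N108639 : nd 108639 = n211865 := ndS (p := 74175) (l := 6) rfl N74175 D211865
theorem N108640 : nd 108640 = n211866 := ndS (p := 74176) (l := 6) rfl N74176 D211866
theorem N108641 : nd 108641 = n211867 := ndS (p := 74180) (l := 5) rfl N74180 D211867
theorem N108642 : nd 108642 = n211868 := ndS (p := 74180) (l := 6) rfl N74180 D211868
theorem N108643 : nd 108643 = n211869 := ndS (p := 74181) (l := 6) rfl N74181 D211869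
theorem N108644 : nd 108644 = n211870 := ndS (p := 74182) (l := 6) rfl N74182 D211870
theorem N108645 : nd 108645 = n211871 := ndS (p := 74183) (l := 7) rfl N74183 D211871
theorem N108646 : nd 108646 = n211872 := ndS (p := 74184) (l := 6) rfl N74184 D211872
theorem N108647 : nd 108647 = n211873 := ndS (p := 74185) (l := 0) rfl N74185 D211873
theorem N108648 : nd 108648 = n211874 := ndS (p := 74185) (l := 7) rfl N74185 D211874
theorem N108649 : nd 108649 = n211875 := ndS (p := 74186) (l := 5) rfl N74186 D211875
theorem N108650 : nd 108650 = n211876 := ndS (p := 74199) (l := 2) rfl N74199 D211876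
theorem N108651 : nd 108651 = n211877 := ndS (p := 74204) (l := 6) rfl N74204 D211877
theorem N108652 : nd 108652 = n211878 := ndS (p := 74206) (l := 1) rfl N74206 D211878
theorem N108653 : nd 108653 = n211879 := ndS (p := 74207) (l := 3) rfl N74207 D211879
theorem N108654 : nd 108654 = n211880 := ndS (p := 74210) (l := 6) rfl N74210 D211880
theorem N108655 : nd 108655 = n211881 := ndS (p := 74211) (l := 5) rfl N74211 D211881
theorem N108656 : nd 108656 = n211882 := ndS (p := 74213) (l := 0) rfl N74213 D211882
theorem N108657 : nd 108657 = n211883 := ndS (p := 74216) (l := 0) rfl N74216 D211883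
theorem N108658 : nd 108658 = n211884 := ndS (p := 74216) (l := 1) rfl N74216 D211884
theorem N108659 : nd 108659 = n211885 := ndS (p := 74217) (l := 6) rfl N74217 D211885
theorem N108660 : nd 108660 = n211886 := ndS (p := 74219) (l := 4) rfl N74219 D211886
theorem N108661 : nd 108661 = n211887 := ndS (p := 74220) (l := 4) rfl N74220 D211887
theorem N108662 : nd 108662 = n211888 := ndS (p := 74221) (l := 6) rfl N74221 D211888
theorem N108663 : nd 108663 = n211889 := ndS (p := 74223) (l := 1) rfl N74223 D211889
theorem N108664 : nd 108664 = n211890 := ndS (p := 74223) (l := 5) rfl N74223 D211890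
theorem N108665 : nd 108665 = n211891 := ndS (p := 74226) (l := 3) rfl N74226 D211891
theorem N108666 : nd 108666 = n211892 := ndS (p := 74228) (l := 3) rfl N74228 D211892
theorem N108667 : nd 108667 = n211893 := ndS (p := 74229) (l := 3) rfl N74229 D211893
theorem N108668 : nd 108668 = n211894 := ndS (p := 74230) (l := 6) rfl N74230 D211894
theorem N108669 : nd 108669 = n211895 := ndS (p := 74233) (l := 1) rfl N74233 D211895
theorem N108670 : nd 108670 = n211896 := ndS (p := 74233) (l := 7) rfl N74233 D211896
theorem N108671 : nd 108671 = n211897 := ndS (p := 74234) (l := 2) rfl N74234 D211897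
theorem N108672 : nd 108672 = n211898 := ndS (p := 74235) (l := 1) rfl N74235 D211898
theorem N108673 : nd 108673 = n211899 := ndS (p := 74235) (l := 7) rfl N74235 D211899
theorem N108674 : nd 108674 = n211900 := ndS (p := 74236) (l := 6) rfl N74236 D211900
theorem N108675 : nd 108675 = n211901 := ndS (p := 74237) (l := 0) rfl N74237 D211901
theorem N108676 : nd 108676 = n211902 := ndS (p := 74237) (l := 1) rfl N74237 D211902
theorem N108677 : nd 108677 = n211903 := ndS (p := 74237) (l := 7) rfl N74237 D211903
theorem N108678 : nd 108678 = n211904 := ndS (p := 74242) (l := 5) rfl N74242 D211904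
theorem N108679 : nd 108679 = n211905 := ndS (p := 74242) (l := 6) rfl N74242 D211905
theorem N108680 : nd 108680 = n211906 := ndS (p := 74249) (l := 6) rfl N74249 D211906
theorem N108681 : nd 108681 = n211907 := ndS (p := 74254) (l := 4) rfl N74254 D211907
theorem N108682 : nd 108682 = n211908 := ndS (p := 74255) (l := 3) rfl N74255 D211908
theorem N108683 : nd 108683 = n211909 := ndS (p := 74256) (l := 5) rfl N74256 D211909
theorem N108684 : nd 108684 = n211910 := ndS (p := 74259) (l := 4) rfl N74259 D211910
theorem N108685 : nd 108685 = n211911 := ndS (p := 74260) (l := 4) rfl N74260 D211911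
theorem N108686 : nd 108686 = n211912 := ndS (p := 74260) (l := 6) rfl N74260 D211912
theorem N108687 : nd 108687 = n211913 := ndS (p := 74265) (l := 0) rfl N74265 D211913
theorem N108688 : nd 108688 = n211914 := ndS (p := 74265) (l := 1) rfl N74265 D211914
theorem N108689 : nd 108689 = n211915 := ndS (p := 74265) (l := 5) rfl N74265 D211915
theorem N108690 : nd 108690 = n211916 := ndS (p := 74266) (l := 3) rfl N74266 D211916
theorem N108691 : nd 108691 = n211917 := ndS (p := 74266) (l := 5) rfl N74266 D211917
theorem N108692 : nd 108692 = n211918 := ndS (p := 74267) (l := 0) rfl N74267 D211918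
theorem N108693 : nd 108693 = n211919 := ndS (p := 74270) (l := 3) rfl N74270 D211919
theorem N108694 : nd 108694 = n211920 := ndS (p := 74270) (l := 6) rfl N74270 D211920
theorem N108695 : nd 108695 = n211921 := ndS (p := 74272) (l := 5) rfl N74272 D211921
theorem N108696 : nd 108696 = n211922 := ndS (p := 74273) (l := 0) rfl N74273 D211922
theorem N108697 : nd 108697 = n211923 := ndS (p := 74273) (l := 1) rfl N74273 D211923
theorem N108698 : nd 108698 = n211924 := ndS (p := 74273) (l := 4) rfl N74273 D211924
theorem N108699 : nd 108699 = n211925 := ndS (p := 74275) (l := 6) rfl N74275 D211925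
theorem N108700 : nd 108700 = n211926 := ndS (p := 74277) (l := 6) rfl N74277 D211926
theorem N108701 : nd 108701 = n211927 := ndS (p := 74278) (l := 7) rfl N74278 D211927
theorem N108702 : nd 108702 = n211928 := ndS (p := 74279) (l := 6) rfl N74279 D211928
theorem N108703 : nd 108703 = n211929 := ndS (p := 74280) (l := 1) rfl N74280 D211929
theorem N108704 : nd 108704 = n211930 := ndS (p := 74280) (l := 5) rfl N74280 D211930
theorem N108705 : nd 108705 = n211931 := ndS (p := 74280) (l := 7) rfl N74280 D211931
theorem N108706 : nd 108706 = n211932 := ndS (p := 74281) (l := 3) rfl N74281 D211932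
theorem N108707 : nd 108707 = n211933 := ndS (p := 74281) (l := 5) rfl N74281 D211933
theorem N108708 : nd 108708 = n211934 := ndS (p := 74285) (l := 6) rfl N74285 D211934
theorem N108709 : nd 108709 = n211935 := ndS (p := 74286) (l := 3) rfl N74286 D211935
theorem N108710 : nd 108710 = n211936 := ndS (p := 74286) (l := 6) rfl N74286 D211936
theorem N108711 : nd 108711 = n211937 := ndS (p := 74287) (l := 0) rfl N74287 D211937
theorem N108712 : nd 108712 = n211938 := ndS (p := 74287) (l := 1) rfl N74287 D211938
theorem N108713 : nd 108713 = n211939 := ndS (p := 74287) (l := 7) rfl N74287 D211939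
theorem N108714 : nd 108714 = n211940 := ndS (p := 74289) (l := 0) rfl N74289 D211940
theorem N108715 : nd 108715 = n211941 := ndS (p := 74289) (l := 5) rfl N74289 D211941
theorem N108716 : nd 108716 = n211942 := ndS (p := 74290) (l := 1) rfl N74290 D211942
theorem N108717 : nd 108717 = n211943 := ndS (p := 74290) (l := 4) rfl N74290 D211943
theorem N108718 : nd 108718 = n211944 := ndS (p := 74294) (l := 3) rfl N74294 D211944
theorem N108719 : nd 108719 = n211945 := ndS (p := 74294) (l := 4) rfl N74294 D211945
theorem N108720 : nd 108720 = n211946 := ndS (p := 74295) (l := 4) rfl N74295 D211946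
theorem N108721 : nd 108721 = n211947 := ndS (p := 74297) (l := 6) rfl N74297 D211947
theorem N108722 : nd 108722 = n211948 := ndS (p := 74300) (l := 1) rfl N74300 D211948
theorem N108723 : nd 108723 = n211949 := ndS (p := 74300) (l := 2) rfl N74300 D211949
theorem N108724 : nd 108724 = n211950 := ndS (p := 74302) (l := 6) rfl N74302 D211950
theorem N108725 : nd 108725 = n211951 := ndS (p := 74308) (l := 4) rfl N74308 D211951
theorem N108726 : nd 108726 = n211952 := ndS (p := 74311) (l := 0) rfl N74311 D211952
theorem N108727 : nd 108727 = n211953 := ndS (p := 74313) (l := 3) rfl N74313 D211953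
theorem N108728 : nd 108728 = n211954 := ndS (p := 74316) (l := 0) rfl N74316 D211954
theorem N108729 : nd 108729 = n211955 := ndS (p := 74316) (l := 5) rfl N74316 D211955
theorem N108730 : nd 108730 = n211956 := ndS (p := 74316) (l := 7) rfl N74316 D211956
theorem N108731 : nd 108731 = n211957 := ndS (p := 74318) (l := 5) rfl N74318 D211957
theorem N108732 : nd 108732 = n211958 := ndS (p := 74319) (l := 4) rfl N74319 D211958
theorem N108733 : nd 108733 = n211959 := ndS (p := 74319) (l := 6) rfl N74319 D211959
theorem N108734 : nd 108734 = n211960 := ndS (p := 74325) (l := 5) rfl N74325 D211960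
theorem N108735 : nd 108735 = n211961 := ndS (p := 74325) (l := 6) rfl N74325 D211961
theorem N108736 : nd 108736 = n211962 := ndS (p := 74327) (l := 1) rfl N74327 D211962
theorem N108737 : nd 108737 = n211963 := ndS (p := 74327) (l := 5) rfl N74327 D211963
theorem N108738 : nd 108738 = n211964 := ndS (p := 74327) (l := 7) rfl N74327 D211964
theorem N108739 : nd 108739 = n211965 := ndS (p := 74331) (l := 5) rfl N74331 D211965
theorem N108740 : nd 108740 = n211966 := ndS (p := 74331) (l := 7) rfl N74331 D211966
theorem N108741 : nd 108741 = n211967 := ndS (p := 74332) (l := 5) rfl N74332 D211967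
theorem N108742 : nd 108742 = n211968 := ndS (p := 74333) (l := 5) rfl N74333 D211968
theorem N108743 : nd 108743 = n211969 := ndS (p := 74334) (l := 0) rfl N74334 D211969
theorem N108744 : nd 108744 = n211970 := ndS (p := 74334) (l := 1) rfl N74334 D211970
theorem N108745 : nd 108745 = n211971 := ndS (p := 74334) (l := 7) rfl N74334 D211971
theorem N108746 : nd 108746 = n211972 := ndS (p := 74338) (l := 2) rfl N74338 D211972
theorem N108747 : nd 108747 = n211973 := ndS (p := 74340) (l := 0) rfl N74340 D211973
theorem N108748 : nd 108748 = n211974 := ndS (p := 74340) (l := 7) rfl N74340 D211974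
theorem N108749 : nd 108749 = n211975 := ndS (p := 74347) (l := 5) rfl N74347 D211975
theorem N108750 : nd 108750 = n211976 := ndS (p := 74348) (l := 5) rfl N74348 D211976
theorem N108751 : nd 108751 = n211977 := ndS (p := 74349) (l := 3) rfl N74349 D211977
theorem N108752 : nd 108752 = n211978 := ndS (p := 74349) (l := 5) rfl N74349 D211978
theorem N108753 : nd 108753 = n211979 := ndS (p := 74350) (l := 0) rfl N74350 D211979
theorem N108754 : nd 108754 = n211980 := ndS (p := 74350) (l := 1) rfl N74350 D211980
theorem N108755 : nd 108755 = n211981 := ndS (p := 74350) (l := 4) rfl N74350 D211981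
theorem N108756 : nd 108756 = n211982 := ndS (p := 74350) (l := 7) rfl N74350 D211982
theorem N108757 : nd 108757 = n211983 := ndS (p := 74356) (l := 0) rfl N74356 D211983
theorem N108758 : nd 108758 = n211984 := ndS (p := 74357) (l := 0) rfl N74357 D211984
theorem N108759 : nd 108759 = n211985 := ndS (p := 74357) (l := 2) rfl N74357 D211985
theorem N108760 : nd 108760 = n211986 := ndS (p := 74357) (l := 5) rfl N74357 D211986
theorem N108761 : nd 108761 = n211987 := ndS (p := 74358) (l := 4) rfl N74358 D211987
theorem N108762 : nd 108762 = n211988 := ndS (p := 74358) (l := 6) rfl N74358 D211988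
theorem N108763 : nd 108763 = n211989 := ndS (p := 74359) (l := 5) rfl N74359 D211989
theorem N108764 : nd 108764 = n211990 := ndS (p := 74362) (l := 0) rfl N74362 D211990
theorem N108765 : nd 108765 = n211991 := ndS (p := 74362) (l := 1) rfl N74362 D211991
theorem N108766 : nd 108766 = n211992 := ndS (p := 74362) (l := 2) rfl N74362 D211992
theorem N108767 : nd 108767 = n211993 := ndS (p := 74362) (l := 5) rfl N74362 D211993
theorem N108768 : nd 108768 = n211994 := ndS (p := 74363) (l := 4) rfl N74363 D211994
theorem N108769 : nd 108769 = n211995 := ndS (p := 74363) (l := 6) rfl N74363 D211995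
theorem N108770 : nd 108770 = n211996 := ndS (p := 74364) (l := 3) rfl N74364 D211996
theorem N108771 : nd 108771 = n211997 := ndS (p := 74364) (l := 6) rfl N74364 D211997
theorem N108772 : nd 108772 = n211998 := ndS (p := 74365) (l := 0) rfl N74365 D211998
theorem N108773 : nd 108773 = n211999 := ndS (p := 74367) (l := 3) rfl N74367 D211999
theorem N108774 : nd 108774 = n212000 := ndS (p := 74370) (l := 3) rfl N74370 D212000
theorem N108775 : nd 108775 = n212001 := ndS (p := 74371) (l := 5) rfl N74371 D212001
theorem N108776 : nd 108776 = n212002 := ndS (p := 74372) (l := 6) rfl N74372 D212002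
theorem N108777 : nd 108777 = n212003 := ndS (p := 74378) (l := 0) rfl N74378 D212003
theorem N108778 : nd 108778 = n212004 := ndS (p := 74379) (l := 5) rfl N74379 D212004
theorem N108779 : nd 108779 = n212005 := ndS (p := 74380) (l := 3) rfl N74380 D212005
theorem N108780 : nd 108780 = n212006 := ndS (p := 74381) (l := 0) rfl N74381 D212006
theorem N108781 : nd 108781 = n212007 := ndS (p := 74382) (l := 2) rfl N74382 D212007
theorem N108782 : nd 108782 = n212008 := ndS (p := 74382) (l := 6) rfl N74382 D212008
theorem N108783 : nd 108783 = n212009 := ndS (p := 74384) (l := 4) rfl N74384 D212009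
theorem N108784 : nd 108784 = n212010 := ndS (p := 74387) (l := 5) rfl N74387 D212010
theorem N108785 : nd 108785 = n212011 := ndS (p := 74390) (l := 0) rfl N74390 D212011
theorem N108786 : nd 108786 = n212012 := ndS (p := 74390) (l := 5) rfl N74390 D212012
theorem N108787 : nd 108787 = n212013 := ndS (p := 74405) (l := 0) rfl N74405 D212013
theorem N108788 : nd 108788 = n212014 := ndS (p := 74405) (l := 1) rfl N74405 D212014
theorem N108789 : nd 108789 = n212015 := ndS (p := 74428) (l := 5) rfl N74428 D212015
theorem N108790 : nd 108790 = n212016 := ndS (p := 74434) (l := 5) rfl N74434 D212016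
theorem N108791 : nd 108791 = n212017 := ndS (p := 74445) (l := 0) rfl N74445 D212017
theorem N108792 : nd 108792 = n212018 := ndS (p := 74445) (l := 6) rfl N74445 D212018
theorem N108793 : nd 108793 = n212019 := ndS (p := 74446) (l := 1) rfl N74446 D212019
theorem N108794 : nd 108794 = n212020 := ndS (p := 74446) (l := 7) rfl N74446 D212020
theorem N108795 : nd 108795 = n212021 := ndS (p := 74447) (l := 7) rfl N74447 D212021
theorem N108796 : nd 108796 = n212022 := ndS (p := 74455) (l := 7) rfl N74455 D212022
theorem N108797 : nd 108797 = n212023 := ndS (p := 74463) (l := 3) rfl N74463 D212023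
theorem N108798 : nd 108798 = n212024 := ndS (p := 74467) (l := 4) rfl N74467 D212024
theorem N108799 : nd 108799 = n212025 := ndS (p := 74467) (l := 7) rfl N74467 D212025
theorem N108800 : nd 108800 = n212026 := ndS (p := 74471) (l := 5) rfl N74471 D212026
theorem N108801 : nd 108801 = n212027 := ndS (p := 74473) (l := 6) rfl N74473 D212027
theorem N108802 : nd 108802 = n212028 := ndS (p := 74474) (l := 0) rfl N74474 D212028
theorem N108803 : nd 108803 = n212029 := ndS (p := 74479) (l := 0) rfl N74479 D212029
theorem N108804 : nd 108804 = n212030 := ndS (p := 74480) (l := 5) rfl N74480 D212030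
theorem N108805 : nd 108805 = n212031 := ndS (p := 74481) (l := 4) rfl N74481 D212031
theorem N108806 : nd 108806 = n212032 := ndS (p := 74481) (l := 7) rfl N74481 D212032
theorem N108807 : nd 108807 = n212033 := ndS (p := 74483) (l := 7) rfl N74483 D212033
theorem N108808 : nd 108808 = n212034 := ndS (p := 74485) (l := 0) rfl N74485 D212034
theorem N108809 : nd 108809 = n212035 := ndS (p := 74485) (l := 7) rfl N74485 D212035
theorem N108810 : nd 108810 = n212036 := ndS (p := 74489) (l := 5) rfl N74489 D212036
theorem N108811 : nd 108811 = n212037 := ndS (p := 74495) (l := 5) rfl N74495 D212037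
theorem N108812 : nd 108812 = n212038 := ndS (p := 74498) (l := 5) rfl N74498 D212038
theorem N108813 : nd 108813 = n212039 := ndS (p := 74503) (l := 3) rfl N74503 D212039
theorem N108814 : nd 108814 = n212040 := ndS (p := 74503) (l := 6) rfl N74503 D212040
theorem N108815 : nd 108815 = n212041 := ndS (p := 74504) (l := 0) rfl N74504 D212041
theorem N108816 : nd 108816 = n212042 := ndS (p := 74504) (l := 1) rfl N74504 D212042
theorem N108817 : nd 108817 = n212043 := ndS (p := 74504) (l := 2) rfl N74504 D212043
theorem N108818 : nd 108818 = n212044 := ndS (p := 74504) (l := 5) rfl N74504 D212044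
theorem N108819 : nd 108819 = n212045 := ndS (p := 74506) (l := 0) rfl N74506 D212045
theorem N108820 : nd 108820 = n212046 := ndS (p := 74506) (l := 2) rfl N74506 D212046
theorem N108821 : nd 108821 = n212047 := ndS (p := 74506) (l := 5) rfl N74506 D212047
theorem N108822 : nd 108822 = n212048 := ndS (p := 74509) (l := 1) rfl N74509 D212048
theorem N108823 : nd 108823 = n212049 := ndS (p := 74509) (l := 2) rfl N74509 D212049
theorem N108824 : nd 108824 = n212050 := ndS (p := 74509) (l := 6) rfl N74509 D212050
theorem N108825 : nd 108825 = n212051 := ndS (p := 74510) (l := 5) rfl N74510 D212051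
theorem N108826 : nd 108826 = n212052 := ndS (p := 74511) (l := 4) rfl N74511 D212052
theorem N108827 : nd 108827 = n212053 := ndS (p := 74511) (l := 6) rfl N74511 D212053
theorem N108828 : nd 108828 = n212054 := ndS (p := 74513) (l := 3) rfl N74513 D212054
theorem N108829 : nd 108829 = n212055 := ndS (p := 74515) (l := 1) rfl N74515 D212055
theorem N108830 : nd 108830 = n212056 := ndS (p := 74515) (l := 7) rfl N74515 D212056
theorem N108831 : nd 108831 = n212057 := ndS (p := 74516) (l := 6) rfl N74516 D212057
theorem N108832 : nd 108832 = n212058 := ndS (p := 74517) (l := 1) rfl N74517 D212058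
theorem N108833 : nd 108833 = n212059 := ndS (p := 74517) (l := 5) rfl N74517 D212059
theorem N108834 : nd 108834 = n212060 := ndS (p := 74519) (l := 5) rfl N74519 D212060
theorem N108835 : nd 108835 = n212061 := ndS (p := 74521) (l := 1) rfl N74521 D212061
theorem N108836 : nd 108836 = n212062 := ndS (p := 74521) (l := 7) rfl N74521 D212062
theorem N108837 : nd 108837 = n212063 := ndS (p := 74522) (l := 6) rfl N74522 D212063
theorem N108838 : nd 108838 = n212064 := ndS (p := 74524) (l := 5) rfl N74524 D212064
theorem N108839 : nd 108839 = n212065 := ndS (p := 74534) (l := 6) rfl N74534 D212065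
theorem N108840 : nd 108840 = n212066 := ndS (p := 74536) (l := 6) rfl N74536 D212066
theorem N108841 : nd 108841 = n212067 := ndS (p := 74538) (l := 0) rfl N74538 D212067
theorem N108842 : nd 108842 = n212068 := ndS (p := 74538) (l := 1) rfl N74538 D212068
theorem N108843 : nd 108843 = n212069 := ndS (p := 74538) (l := 5) rfl N74538 D212069
theorem N108844 : nd 108844 = n212070 := ndS (p := 74538) (l := 7) rfl N74538 D212070
theorem N108845 : nd 108845 = n212071 := ndS (p := 74539) (l := 3) rfl N74539 D212071
theorem N108846 : nd 108846 = n212072 := ndS (p := 74539) (l := 4) rfl N74539 D212072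
theorem N108847 : nd 108847 = n212073 := ndS (p := 74540) (l := 3) rfl N74540 D212073
theorem N108848 : nd 108848 = n212074 := ndS (p := 74540) (l := 4) rfl N74540 D212074
theorem N108849 : nd 108849 = n212076 := ndS (p := 74540) (l := 6) rfl N74540 D212076
theorem N108850 : nd 108850 = n212077 := ndS (p := 74541) (l := 0) rfl N74541 D212077
theorem N108851 : nd 108851 = n212078 := ndS (p := 74541) (l := 1) rfl N74541 D212078
theorem N108852 : nd 108852 = n212079 := ndS (p := 74541) (l := 7) rfl N74541 D212079
theorem N108853 : nd 108853 = n212080 := ndS (p := 74544) (l := 4) rfl N74544 D212080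
theorem N108854 : nd 108854 = n212081 := ndS (p := 74546) (l := 4) rfl N74546 D212081
theorem N108855 : nd 108855 = n212082 := ndS (p := 74548) (l := 3) rfl N74548 D212082
theorem N108856 : nd 108856 = n212083 := ndS (p := 74548) (l := 4) rfl N74548 D212083
theorem N108857 : nd 108857 = n212084 := ndS (p := 74548) (l := 6) rfl N74548 D212084
theorem N108858 : nd 108858 = n212085 := ndS (p := 74549) (l := 4) rfl N74549 D212085
theorem N108859 : nd 108859 = n212086 := ndS (p := 74550) (l := 0) rfl N74550 D212086
theorem N108860 : nd 108860 = n212087 := ndS (p := 74550) (l := 1) rfl N74550 D212087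
theorem N108861 : nd 108861 = n212088 := ndS (p := 74550) (l := 3) rfl N74550 D212088
theorem N108862 : nd 108862 = n212089 := ndS (p := 74550) (l := 5) rfl N74550 D212089
theorem N108863 : nd 108863 = n212090 := ndS (p := 74550) (l := 7) rfl N74550 D212090
theorem N108864 : nd 108864 = n212091 := ndS (p := 74551) (l := 6) rfl N74551 D212091
theorem N108865 : nd 108865 = n212092 := ndS (p := 74554) (l := 1) rfl N74554 D212092
theorem N108866 : nd 108866 = n212093 := ndS (p := 74554) (l := 5) rfl N74554 D212093
theorem N108867 : nd 108867 = n212094 := ndS (p := 74554) (l := 7) rfl N74554 D212094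
theorem N108868 : nd 108868 = n212095 := ndS (p := 74555) (l := 3) rfl N74555 D212095
theorem N108869 : nd 108869 = n212096 := ndS (p := 74555) (l := 4) rfl N74555 D212096
theorem N108870 : nd 108870 = n212097 := ndS (p := 74555) (l := 5) rfl N74555 D212097
theorem N108871 : nd 108871 = n212098 := ndS (p := 74555) (l := 6) rfl N74555 D212098
theorem N108872 : nd 108872 = n212099 := ndS (p := 74556) (l := 4) rfl N74556 D212099
theorem N108873 : nd 108873 = n212100 := ndS (p := 74556) (l := 5) rfl N74556 D212100
theorem N108874 : nd 108874 = n212101 := ndS (p := 74557) (l := 0) rfl N74557 D212101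
theorem N108875 : nd 108875 = n212102 := ndS (p := 74557) (l := 1) rfl N74557 D212102
theorem N108876 : nd 108876 = n212103 := ndS (p := 74557) (l := 4) rfl N74557 D212103
theorem N108877 : nd 108877 = n212104 := ndS (p := 74557) (l := 7) rfl N74557 D212104
theorem N108878 : nd 108878 = n212105 := ndS (p := 74560) (l := 4) rfl N74560 D212105
theorem N108879 : nd 108879 = n212106 := ndS (p := 74562) (l := 4) rfl N74562 D212106
theorem N108880 : nd 108880 = n212107 := ndS (p := 74563) (l := 4) rfl N74563 D212107
theorem N108881 : nd 108881 = n212108 := ndS (p := 74564) (l := 0) rfl N74564 D212108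
theorem N108882 : nd 108882 = n212109 := ndS (p := 74564) (l := 3) rfl N74564 D212109
theorem N108883 : nd 108883 = n212110 := ndS (p := 74565) (l := 6) rfl N74565 D212110
theorem N108884 : nd 108884 = n212111 := ndS (p := 74566) (l := 5) rfl N74566 D212111
theorem N108885 : nd 108885 = n212112 := ndS (p := 74567) (l := 4) rfl N74567 D212112
theorem N108886 : nd 108886 = n212113 := ndS (p := 74570) (l := 5) rfl N74570 D212113
theorem N108887 : nd 108887 = n212114 := ndS (p := 74572) (l := 3) rfl N74572 D212114
theorem N108888 : nd 108888 = n212115 := ndS (p := 74572) (l := 5) rfl N74572 D212115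
theorem N108889 : nd 108889 = n212116 := ndS (p := 74573) (l := 3) rfl N74573 D212116
theorem N108890 : nd 108890 = n212117 := ndS (p := 74573) (l := 5) rfl N74573 D212117
theorem N108891 : nd 108891 = n212118 := ndS (p := 74573) (l := 6) rfl N74573 D212118
theorem N108892 : nd 108892 = n212119 := ndS (p := 74577) (l := 6) rfl N74577 D212119
theorem N108893 : nd 108893 = n212120 := ndS (p := 74578) (l := 0) rfl N74578 D212120
theorem N108894 : nd 108894 = n212121 := ndS (p := 74578) (l := 1) rfl N74578 D212121
theorem N108895 : nd 108895 = n212122 := ndS (p := 74578) (l := 7) rfl N74578 D212122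
theorem N108896 : nd 108896 = n212123 := ndS (p := 74579) (l := 6) rfl N74579 D212123
theorem N108897 : nd 108897 = n212124 := ndS (p := 74580) (l := 6) rfl N74580 D212124
theorem N108898 : nd 108898 = n212125 := ndS (p := 74584) (l := 0) rfl N74584 D212125
theorem N108899 : nd 108899 = n212126 := ndS (p := 74584) (l := 1) rfl N74584 D212126
theorem N108900 : nd 108900 = n212127 := ndS (p := 74584) (l := 5) rfl N74584 D212127
theorem N108901 : nd 108901 = n212128 := ndS (p := 74584) (l := 7) rfl N74584 D212128
theorem N108902 : nd 108902 = n212129 := ndS (p := 74585) (l := 3) rfl N74585 D212129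
theorem N108903 : nd 108903 = n212130 := ndS (p := 74585) (l := 6) rfl N74585 D212130
theorem N108904 : nd 108904 = n212131 := ndS (p := 74587) (l := 0) rfl N74587 D212131
theorem N108905 : nd 108905 = n212132 := ndS (p := 74589) (l := 6) rfl N74589 D212132
theorem N108906 : nd 108906 = n212133 := ndS (p := 74591) (l := 6) rfl N74591 D212133
theorem N108907 : nd 108907 = n212134 := ndS (p := 74592) (l := 6) rfl N74592 D212134
theorem N108908 : nd 108908 = n212135 := ndS (p := 74593) (l := 0) rfl N74593 D212135
theorem N108909 : nd 108909 = n212136 := ndS (p := 74593) (l := 1) rfl N74593 D212136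
theorem N108910 : nd 108910 = n212137 := ndS (p := 74593) (l := 7) rfl N74593 D212137
theorem N108911 : nd 108911 = n212138 := ndS (p := 74596) (l := 7) rfl N74596 D212138
theorem N108912 : nd 108912 = n212139 := ndS (p := 74599) (l := 6) rfl N74599 D212139
theorem N108913 : nd 108913 = n212140 := ndS (p := 74600) (l := 0) rfl N74600 D212140
theorem N108914 : nd 108914 = n212141 := ndS (p := 74600) (l := 1) rfl N74600 D212141
theorem N108915 : nd 108915 = n212142 := ndS (p := 74600) (l := 5) rfl N74600 D212142
theorem N108916 : nd 108916 = n212143 := ndS (p := 74600) (l := 7) rfl N74600 D212143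
theorem N108917 : nd 108917 = n212144 := ndS (p := 74601) (l := 5) rfl N74601 D212144
theorem N108918 : nd 108918 = n212145 := ndS (p := 74602) (l := 4) rfl N74602 D212145
theorem N108919 : nd 108919 = n212146 := ndS (p := 74602) (l := 7) rfl N74602 D212146
theorem N108920 : nd 108920 = n212147 := ndS (p := 74604) (l := 6) rfl N74604 D212147
theorem N108921 : nd 108921 = n212148 := ndS (p := 74605) (l := 5) rfl N74605 D212148
theorem N108922 : nd 108922 = n212149 := ndS (p := 74606) (l := 0) rfl N74606 D212149
theorem N108923 : nd 108923 = n212150 := ndS (p := 74607) (l := 0) rfl N74607 D212150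
theorem N108924 : nd 108924 = n212151 := ndS (p := 74612) (l := 6) rfl N74612 D212151
theorem N108925 : nd 108925 = n212152 := ndS (p := 74613) (l := 0) rfl N74613 D212152
theorem N108926 : nd 108926 = n212153 := ndS (p := 74615) (l := 3) rfl N74615 D212153
theorem N108927 : nd 108927 = n212154 := ndS (p := 74615) (l := 4) rfl N74615 D212154
theorem N108928 : nd 108928 = n212155 := ndS (p := 74615) (l := 6) rfl N74615 D212155
theorem N108929 : nd 108929 = n212156 := ndS (p := 74616) (l := 4) rfl N74616 D212156
theorem N108930 : nd 108930 = n212157 := ndS (p := 74617) (l := 0) rfl N74617 D212157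
theorem N108931 : nd 108931 = n212158 := ndS (p := 74617) (l := 1) rfl N74617 D212158
theorem N108932 : nd 108932 = n212159 := ndS (p := 74617) (l := 3) rfl N74617 D212159
theorem N108933 : nd 108933 = n212160 := ndS (p := 74622) (l := 6) rfl N74622 D212160
theorem N108934 : nd 108934 = n212161 := ndS (p := 74623) (l := 1) rfl N74623 D212161
theorem N108935 : nd 108935 = n212162 := ndS (p := 74623) (l := 7) rfl N74623 D212162
theorem N108936 : nd 108936 = n212163 := ndS (p := 74624) (l := 5) rfl N74624 D212163
theorem N108937 : nd 108937 = n212164 := ndS (p := 74627) (l := 5) rfl N74627 D212164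
theorem N108938 : nd 108938 = n212165 := ndS (p := 74632) (l := 5) rfl N74632 D212165
theorem N108939 : nd 108939 = n212166 := ndS (p := 74633) (l := 1) rfl N74633 D212166
theorem N108940 : nd 108940 = n212167 := ndS (p := 74633) (l := 6) rfl N74633 D212167
theorem N108941 : nd 108941 = n212168 := ndS (p := 74635) (l := 3) rfl N74635 D212168
theorem N108942 : nd 108942 = n212169 := ndS (p := 74635) (l := 4) rfl N74635 D212169
theorem N108943 : nd 108943 = n212170 := ndS (p := 74635) (l := 6) rfl N74635 D212170
theorem N108944 : nd 108944 = n212171 := ndS (p := 74637) (l := 3) rfl N74637 D212171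
theorem N108945 : nd 108945 = n212172 := ndS (p := 74640) (l := 5) rfl N74640 D212172
theorem N108946 : nd 108946 = n212173 := ndS (p := 74641) (l := 0) rfl N74641 D212173
theorem N108947 : nd 108947 = n212174 := ndS (p := 74641) (l := 1) rfl N74641 D212174
theorem N108948 : nd 108948 = n212175 := ndS (p := 74641) (l := 4) rfl N74641 D212175
theorem N108949 : nd 108949 = n212176 := ndS (p := 74641) (l := 6) rfl N74641 D212176
theorem N108950 : nd 108950 = n212177 := ndS (p := 74642) (l := 3) rfl N74642 D212177
theorem N108951 : nd 108951 = n212178 := ndS (p := 74642) (l := 6) rfl N74642 D212178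
theorem N108952 : nd 108952 = n212179 := ndS (p := 74643) (l := 1) rfl N74643 D212179
theorem N108953 : nd 108953 = n212180 := ndS (p := 74643) (l := 7) rfl N74643 D212180
theorem N108954 : nd 108954 = n212181 := ndS (p := 74645) (l := 6) rfl N74645 D212181
theorem N108955 : nd 108955 = n212182 := ndS (p := 74646) (l := 3) rfl N74646 D212182
theorem N108956 : nd 108956 = n212183 := ndS (p := 74649) (l := 3) rfl N74649 D212183
theorem N108957 : nd 108957 = n212184 := ndS (p := 74652) (l := 1) rfl N74652 D212184
theorem N108958 : nd 108958 = n212185 := ndS (p := 74653) (l := 6) rfl N74653 D212185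
theorem N108959 : nd 108959 = n212186 := ndS (p := 74655) (l := 3) rfl N74655 D212186
theorem N108960 : nd 108960 = n212187 := ndS (p := 74657) (l := 3) rfl N74657 D212187
theorem N108961 : nd 108961 = n212188 := ndS (p := 74657) (l := 6) rfl N74657 D212188
theorem N108962 : nd 108962 = n212189 := ndS (p := 74658) (l := 1) rfl N74658 D212189
theorem N108963 : nd 108963 = n212190 := ndS (p := 74661) (l := 4) rfl N74661 D212190
theorem N108964 : nd 108964 = n212191 := ndS (p := 74671) (l := 1) rfl N74671 D212191
theorem N108965 : nd 108965 = n212192 := ndS (p := 74671) (l := 5) rfl N74671 D212192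
theorem N108966 : nd 108966 = n212193 := ndS (p := 74671) (l := 7) rfl N74671 D212193
theorem N108967 : nd 108967 = n212194 := ndS (p := 74672) (l := 0) rfl N74672 D212194
theorem N108968 : nd 108968 = n212196 := ndS (p := 74672) (l := 5) rfl N74672 D212196
theorem N108969 : nd 108969 = n212197 := ndS (p := 74682) (l := 6) rfl N74682 D212197
theorem N108970 : nd 108970 = n212198 := ndS (p := 74683) (l := 5) rfl N74683 D212198
theorem N108971 : nd 108971 = n212199 := ndS (p := 74684) (l := 3) rfl N74684 D212199
theorem N108972 : nd 108972 = n212200 := ndS (p := 74684) (l := 6) rfl N74684 D212200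
theorem N108973 : nd 108973 = n212201 := ndS (p := 74689) (l := 0) rfl N74689 D212201
theorem N108974 : nd 108974 = n212202 := ndS (p := 74689) (l := 1) rfl N74689 D212202
theorem N108975 : nd 108975 = n212203 := ndS (p := 74689) (l := 5) rfl N74689 D212203
theorem N108976 : nd 108976 = n212204 := ndS (p := 74689) (l := 7) rfl N74689 D212204
theorem N108977 : nd 108977 = n212205 := ndS (p := 74690) (l := 3) rfl N74690 D212205
theorem N108978 : nd 108978 = n212206 := ndS (p := 74691) (l := 0) rfl N74691 D212206
theorem N108979 : nd 108979 = n212207 := ndS (p := 74691) (l := 1) rfl N74691 D212207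
theorem N108980 : nd 108980 = n212208 := ndS (p := 74691) (l := 7) rfl N74691 D212208
theorem N108981 : nd 108981 = n212209 := ndS (p := 74699) (l := 6) rfl N74699 D212209
theorem N108982 : nd 108982 = n212210 := ndS (p := 74702) (l := 3) rfl N74702 D212210
theorem N108983 : nd 108983 = n212211 := ndS (p := 74703) (l := 6) rfl N74703 D212211
theorem N108984 : nd 108984 = n212212 := ndS (p := 74705) (l := 1) rfl N74705 D212212
theorem N108985 : nd 108985 = n212213 := ndS (p := 74705) (l := 5) rfl N74705 D212213
theorem N108986 : nd 108986 = n212214 := ndS (p := 74707) (l := 3) rfl N74707 D212214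
theorem N108987 : nd 108987 = n212215 := ndS (p := 74716) (l := 0) rfl N74716 D212215
theorem N108988 : nd 108988 = n212216 := ndS (p := 74716) (l := 1) rfl N74716 D212216
theorem N108989 : nd 108989 = n212217 := ndS (p := 74716) (l := 2) rfl N74716 D212217
theorem N108990 : nd 108990 = n212218 := ndS (p := 74716) (l := 5) rfl N74716 D212218
theorem N108991 : nd 108991 = n212219 := ndS (p := 74718) (l := 5) rfl N74718 D212219
theorem N108992 : nd 108992 = n212220 := ndS (p := 74719) (l := 6) rfl N74719 D212220
theorem N108993 : nd 108993 = n212221 := ndS (p := 74721) (l := 4) rfl N74721 D212221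
theorem N108994 : nd 108994 = n212222 := ndS (p := 74724) (l := 3) rfl N74724 D212222
theorem N108995 : nd 108995 = n212223 := ndS (p := 74724) (l := 4) rfl N74724 D212223
theorem N108996 : nd 108996 = n212224 := ndS (p := 74726) (l := 6) rfl N74726 D212224
theorem N108997 : nd 108997 = n212225 := ndS (p := 74727) (l := 0) rfl N74727 D212225
theorem N108998 : nd 108998 = n212226 := ndS (p := 74727) (l := 1) rfl N74727 D212226
theorem N108999 : nd 108999 = n212227 := ndS (p := 74727) (l := 5) rfl N74727 D212227
theorem N109000 : nd 109000 = n212228 := ndS (p := 74727) (l := 7) rfl N74727 D212228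
theorem N109001 : nd 109001 = n212229 := ndS (p := 74733) (l := 3) rfl N74733 D212229
theorem N109002 : nd 109002 = n212230 := ndS (p := 74734) (l := 3) rfl N74734 D212230
theorem N109003 : nd 109003 = n212231 := ndS (p := 74737) (l := 2) rfl N74737 D212231
theorem N109004 : nd 109004 = n212232 := ndS (p := 74742) (l := 0) rfl N74742 D212232
theorem N109005 : nd 109005 = n212233 := ndS (p := 74742) (l := 1) rfl N74742 D212233
theorem N109006 : nd 109006 = n212234 := ndS (p := 74742) (l := 2) rfl N74742 D212234
theorem N109007 : nd 109007 = n212235 := ndS (p := 74745) (l := 6) rfl N74745 D212235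
theorem N109008 : nd 109008 = n212236 := ndS (p := 74746) (l := 0) rfl N74746 D212236
theorem N109009 : nd 109009 = n212237 := ndS (p := 74769) (l := 6) rfl N74769 D212237
theorem N109010 : nd 109010 = n212238 := ndS (p := 74779) (l := 6) rfl N74779 D212238
theorem N109011 : nd 109011 = n212239 := ndS (p := 74788) (l := 6) rfl N74788 D212239
theorem N109012 : nd 109012 = n212240 := ndS (p := 74790) (l := 4) rfl N74790 D212240
theorem N109013 : nd 109013 = n212241 := ndS (p := 74796) (l := 6) rfl N74796 D212241
theorem N109014 : nd 109014 = n212242 := ndS (p := 74798) (l := 7) rfl N74798 D212242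
theorem N109015 : nd 109015 = n212243 := ndS (p := 74800) (l := 7) rfl N74800 D212243
theorem N109016 : nd 109016 = n212244 := ndS (p := 74807) (l := 3) rfl N74807 D212244
theorem N109017 : nd 109017 = n212245 := ndS (p := 74808) (l := 6) rfl N74808 D212245
theorem N109018 : nd 109018 = n212246 := ndS (p := 74811) (l := 6) rfl N74811 D212246
theorem N109019 : nd 109019 = n212247 := ndS (p := 74814) (l := 4) rfl N74814 D212247
theorem N109020 : nd 109020 = n212248 := ndS (p := 74834) (l := 4) rfl N74834 D212248
theorem N109021 : nd 109021 = n212249 := ndS (p := 74835) (l := 6) rfl N74835 D212249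
theorem N109022 : nd 109022 = n212250 := ndS (p := 74837) (l := 2) rfl N74837 D212250
theorem N109023 : nd 109023 = n212251 := ndS (p := 74838) (l := 0) rfl N74838 D212251
theorem N109024 : nd 109024 = n212252 := ndS (p := 74839) (l := 0) rfl N74839 D212252
theorem N109025 : nd 109025 = n212253 := ndS (p := 74839) (l := 1) rfl N74839 D212253
theorem N109026 : nd 109026 = n212254 := ndS (p := 74839) (l := 2) rfl N74839 D212254
theorem N109027 : nd 109027 = n212255 := ndS (p := 74839) (l := 6) rfl N74839 D212255
theorem N109028 : nd 109028 = n212256 := ndS (p := 74840) (l := 1) rfl N74840 D212256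
theorem N109029 : nd 109029 = n212257 := ndS (p := 74840) (l := 5) rfl N74840 D212257
theorem N109030 : nd 109030 = n212258 := ndS (p := 74840) (l := 7) rfl N74840 D212258
theorem N109031 : nd 109031 = n212259 := ndS (p := 74841) (l := 4) rfl N74841 D212259
theorem N109032 : nd 109032 = n212260 := ndS (p := 74842) (l := 4) rfl N74842 D212260
theorem N109033 : nd 109033 = n212261 := ndS (p := 74859) (l := 3) rfl N74859 D212261
theorem N109034 : nd 109034 = n212262 := ndS (p := 74861) (l := 3) rfl N74861 D212262
theorem N109035 : nd 109035 = n212263 := ndS (p := 74862) (l := 6) rfl N74862 D212263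
theorem N109036 : nd 109036 = n212264 := ndS (p := 74863) (l := 6) rfl N74863 D212264
theorem N109037 : nd 109037 = n212265 := ndS (p := 74869) (l := 5) rfl N74869 D212265
theorem N109038 : nd 109038 = n212266 := ndS (p := 74869) (l := 6) rfl N74869 D212266
theorem N109039 : nd 109039 = n212267 := ndS (p := 74872) (l := 5) rfl N74872 D212267
theorem N109040 : nd 109040 = n212268 := ndS (p := 74873) (l := 2) rfl N74873 D212268
theorem N109041 : nd 109041 = n212269 := ndS (p := 74873) (l := 5) rfl N74873 D212269
theorem N109042 : nd 109042 = n212270 := ndS (p := 74874) (l := 6) rfl N74874 D212270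
theorem N109043 : nd 109043 = n212271 := ndS (p := 74875) (l := 6) rfl N74875 D212271
theorem N109044 : nd 109044 = n212272 := ndS (p := 74876) (l := 7) rfl N74876 D212272
theorem N109045 : nd 109045 = n212273 := ndS (p := 74881) (l := 5) rfl N74881 D212273
theorem N109046 : nd 109046 = n212274 := ndS (p := 74882) (l := 4) rfl N74882 D212274
theorem N109047 : nd 109047 = n212275 := ndS (p := 74887) (l := 0) rfl N74887 D212275
theorem N109048 : nd 109048 = n212276 := ndS (p := 74888) (l := 0) rfl N74888 D212276
theorem N109049 : nd 109049 = n212277 := ndS (p := 74888) (l := 1) rfl N74888 D212277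
theorem N109050 : nd 109050 = n212278 := ndS (p := 74890) (l := 0) rfl N74890 D212278
theorem N109051 : nd 109051 = n212279 := ndS (p := 74890) (l := 7) rfl N74890 D212279
theorem N109052 : nd 109052 = n212280 := ndS (p := 74893) (l := 0) rfl N74893 D212280
theorem N109053 : nd 109053 = n212281 := ndS (p := 74902) (l := 3) rfl N74902 D212281
theorem N109054 : nd 109054 = n212282 := ndS (p := 74906) (l := 6) rfl N74906 D212282
theorem N109055 : nd 109055 = n212283 := ndS (p := 74908) (l := 5) rfl N74908 D212283
theorem N109056 : nd 109056 = n212284 := ndS (p := 74911) (l := 6) rfl N74911 D212284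
theorem N109057 : nd 109057 = n212285 := ndS (p := 74912) (l := 5) rfl N74912 D212285
theorem N109058 : nd 109058 = n212286 := ndS (p := 74913) (l := 5) rfl N74913 D212286
theorem N109059 : nd 109059 = n212287 := ndS (p := 74914) (l := 5) rfl N74914 D212287
theorem N109060 : nd 109060 = n212288 := ndS (p := 74914) (l := 6) rfl N74914 D212288
theorem N109061 : nd 109061 = n212289 := ndS (p := 74916) (l := 4) rfl N74916 D212289
theorem N109062 : nd 109062 = n212290 := ndS (p := 74921) (l := 1) rfl N74921 D212290
theorem N109063 : nd 109063 = n212291 := ndS (p := 74925) (l := 1) rfl N74925 D212291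
theorem N109064 : nd 109064 = n212292 := ndS (p := 74925) (l := 7) rfl N74925 D212292
theorem N109065 : nd 109065 = n212293 := ndS (p := 74932) (l := 5) rfl N74932 D212293
theorem N109066 : nd 109066 = n212294 := ndS (p := 74933) (l := 4) rfl N74933 D212294
theorem N109067 : nd 109067 = n212295 := ndS (p := 74935) (l := 0) rfl N74935 D212295
theorem N109068 : nd 109068 = n212296 := ndS (p := 74936) (l := 4) rfl N74936 D212296
theorem N109069 : nd 109069 = n212297 := ndS (p := 74937) (l := 6) rfl N74937 D212297
theorem N109070 : nd 109070 = n212298 := ndS (p := 74939) (l := 4) rfl N74939 D212298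
theorem N109071 : nd 109071 = n212299 := ndS (p := 74939) (l := 6) rfl N74939 D212299
theorem N109072 : nd 109072 = n212300 := ndS (p := 74941) (l := 0) rfl N74941 D212300
theorem N109073 : nd 109073 = n212301 := ndS (p := 74941) (l := 1) rfl N74941 D212301
theorem N109074 : nd 109074 = n212302 := ndS (p := 74941) (l := 7) rfl N74941 D212302
theorem N109075 : nd 109075 = n212303 := ndS (p := 74946) (l := 6) rfl N74946 D212303
theorem N109076 : nd 109076 = n212304 := ndS (p := 74947) (l := 5) rfl N74947 D212304
theorem N109077 : nd 109077 = n212305 := ndS (p := 74947) (l := 7) rfl N74947 D212305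
theorem N109078 : nd 109078 = n212306 := ndS (p := 74950) (l := 0) rfl N74950 D212306
theorem N109079 : nd 109079 = n212307 := ndS (p := 74950) (l := 5) rfl N74950 D212307
theorem N109080 : nd 109080 = n212308 := ndS (p := 74953) (l := 3) rfl N74953 D212308
theorem N109081 : nd 109081 = n212309 := ndS (p := 74953) (l := 4) rfl N74953 D212309
theorem N109082 : nd 109082 = n212310 := ndS (p := 74953) (l := 6) rfl N74953 D212310
theorem N109083 : nd 109083 = n212311 := ndS (p := 74954) (l := 3) rfl N74954 D212311
theorem N109084 : nd 109084 = n212312 := ndS (p := 74954) (l := 4) rfl N74954 D212312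
theorem N109085 : nd 109085 = n212313 := ndS (p := 74954) (l := 6) rfl N74954 D212313
theorem N109086 : nd 109086 = n212314 := ndS (p := 74956) (l := 5) rfl N74956 D212314
theorem N109087 : nd 109087 = n212315 := ndS (p := 74960) (l := 4) rfl N74960 D212315
theorem N109088 : nd 109088 = n212316 := ndS (p := 74962) (l := 6) rfl N74962 D212316
theorem N109089 : nd 109089 = n212317 := ndS (p := 74967) (l := 6) rfl N74967 D212317
theorem N109090 : nd 109090 = n212318 := ndS (p := 74972) (l := 3) rfl N74972 D212318
theorem N109091 : nd 109091 = n212319 := ndS (p := 74973) (l := 1) rfl N74973 D212319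
theorem N109092 : nd 109092 = n212320 := ndS (p := 74973) (l := 7) rfl N74973 D212320
theorem N109093 : nd 109093 = n212321 := ndS (p := 74980) (l := 6) rfl N74980 D212321
theorem N109094 : nd 109094 = n212322 := ndS (p := 74981) (l := 3) rfl N74981 D212322
theorem N109095 : nd 109095 = n212323 := ndS (p := 74985) (l := 6) rfl N74985 D212323
theorem N109096 : nd 109096 = n212324 := ndS (p := 74991) (l := 5) rfl N74991 D212324
theorem N109097 : nd 109097 = n212325 := ndS (p := 74993) (l := 1) rfl N74993 D212325
theorem N109098 : nd 109098 = n212326 := ndS (p := 74993) (l := 5) rfl N74993 D212326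
theorem N109099 : nd 109099 = n212327 := ndS (p := 74993) (l := 6) rfl N74993 D212327
theorem N109100 : nd 109100 = n212328 := ndS (p := 75003) (l := 4) rfl N75003 D212328
theorem N109101 : nd 109101 = n212329 := ndS (p := 75004) (l := 4) rfl N75004 D212329
theorem N109102 : nd 109102 = n212330 := ndS (p := 75017) (l := 4) rfl N75017 D212330
theorem N109103 : nd 109103 = n212331 := ndS (p := 75021) (l := 3) rfl N75021 D212331
theorem N109104 : nd 109104 = n212332 := ndS (p := 75022) (l := 0) rfl N75022 D212332
theorem N109105 : nd 109105 = n212333 := ndS (p := 75022) (l := 1) rfl N75022 D212333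
theorem N109106 : nd 109106 = n212334 := ndS (p := 75022) (l := 2) rfl N75022 D212334
theorem N109107 : nd 109107 = n212335 := ndS (p := 75022) (l := 5) rfl N75022 D212335
theorem N109108 : nd 109108 = n212336 := ndS (p := 75024) (l := 6) rfl N75024 D212336
theorem N109109 : nd 109109 = n212337 := ndS (p := 75028) (l := 5) rfl N75028 D212337
theorem N109110 : nd 109110 = n212338 := ndS (p := 75028) (l := 6) rfl N75028 D212338
theorem N109111 : nd 109111 = n212339 := ndS (p := 75029) (l := 1) rfl N75029 D212339
theorem N109112 : nd 109112 = n212340 := ndS (p := 75029) (l := 6) rfl N75029 D212340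
theorem N109113 : nd 109113 = n212341 := ndS (p := 75030) (l := 0) rfl N75030 D212341
theorem N109114 : nd 109114 = n212342 := ndS (p := 75030) (l := 1) rfl N75030 D212342
theorem N109115 : nd 109115 = n212343 := ndS (p := 75030) (l := 5) rfl N75030 D212343
theorem N109116 : nd 109116 = n212344 := ndS (p := 75031) (l := 3) rfl N75031 D212344
theorem N109117 : nd 109117 = n212345 := ndS (p := 75031) (l := 6) rfl N75031 D212345
theorem N109118 : nd 109118 = n212346 := ndS (p := 75033) (l := 6) rfl N75033 D212346
theorem N109119 : nd 109119 = n212347 := ndS (p := 75034) (l := 0) rfl N75034 D212347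
theorem N109120 : nd 109120 = n212348 := ndS (p := 75034) (l := 1) rfl N75034 D212348
theorem N109121 : nd 109121 = n212349 := ndS (p := 75034) (l := 5) rfl N75034 D212349
theorem N109122 : nd 109122 = n212350 := ndS (p := 75034) (l := 7) rfl N75034 D212350
theorem N109123 : nd 109123 = n212351 := ndS (p := 75036) (l := 3) rfl N75036 D212351
theorem N109124 : nd 109124 = n212352 := ndS (p := 75036) (l := 5) rfl N75036 D212352
theorem N109125 : nd 109125 = n212353 := ndS (p := 75038) (l := 0) rfl N75038 D212353
theorem N109126 : nd 109126 = n212354 := ndS (p := 75038) (l := 1) rfl N75038 D212354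
theorem N109127 : nd 109127 = n212355 := ndS (p := 75039) (l := 0) rfl N75039 D212355
theorem N109128 : nd 109128 = n212356 := ndS (p := 75039) (l := 1) rfl N75039 D212356
theorem N109129 : nd 109129 = n212357 := ndS (p := 75040) (l := 4) rfl N75040 D212357
theorem N109130 : nd 109130 = n212358 := ndS (p := 75041) (l := 3) rfl N75041 D212358
theorem N109131 : nd 109131 = n212359 := ndS (p := 75041) (l := 4) rfl N75041 D212359
theorem N109132 : nd 109132 = n212360 := ndS (p := 75041) (l := 6) rfl N75041 D212360
theorem N109133 : nd 109133 = n212361 := ndS (p := 75044) (l := 6) rfl N75044 D212361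
theorem N109134 : nd 109134 = n212362 := ndS (p := 75046) (l := 3) rfl N75046 D212362
theorem N109135 : nd 109135 = n212363 := ndS (p := 75046) (l := 5) rfl N75046 D212363
theorem N109136 : nd 109136 = n212364 := ndS (p := 75047) (l := 6) rfl N75047 D212364
theorem N109137 : nd 109137 = n212365 := ndS (p := 75049) (l := 7) rfl N75049 D212365
theorem N109138 : nd 109138 = n212366 := ndS (p := 75050) (l := 0) rfl N75050 D212366
theorem N109139 : nd 109139 = n212367 := ndS (p := 75051) (l := 5) rfl N75051 D212367
theorem N109140 : nd 109140 = n212368 := ndS (p := 75052) (l := 1) rfl N75052 D212368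
theorem N109141 : nd 109141 = n212369 := ndS (p := 75052) (l := 5) rfl N75052 D212369
theorem N109142 : nd 109142 = n212370 := ndS (p := 75055) (l := 6) rfl N75055 D212370
theorem N109143 : nd 109143 = n212371 := ndS (p := 75059) (l := 3) rfl N75059 D212371
theorem N109144 : nd 109144 = n212372 := ndS (p := 75059) (l := 5) rfl N75059 D212372
theorem N109145 : nd 109145 = n212373 := ndS (p := 75059) (l := 6) rfl N75059 D212373
theorem N109146 : nd 109146 = n212374 := ndS (p := 75061) (l := 1) rfl N75061 D212374
theorem N109147 : nd 109147 = n212375 := ndS (p := 75064) (l := 0) rfl N75064 D212375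
theorem N109148 : nd 109148 = n212376 := ndS (p := 75064) (l := 1) rfl N75064 D212376
theorem N109149 : nd 109149 = n212377 := ndS (p := 75064) (l := 2) rfl N75064 D212377
theorem N109150 : nd 109150 = n212378 := ndS (p := 75064) (l := 5) rfl N75064 D212378
theorem N109151 : nd 109151 = n212379 := ndS (p := 75065) (l := 6) rfl N75065 D212379
theorem N109152 : nd 109152 = n212380 := ndS (p := 75066) (l := 5) rfl N75066 D212380
theorem N109153 : nd 109153 = n212381 := ndS (p := 75070) (l := 0) rfl N75070 D212381
theorem N109154 : nd 109154 = n212382 := ndS (p := 75072) (l := 6) rfl N75072 D212382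
theorem N109155 : nd 109155 = n212383 := ndS (p := 75073) (l := 6) rfl N75073 D212383
theorem N109156 : nd 109156 = n212384 := ndS (p := 75074) (l := 5) rfl N75074 D212384
theorem N109157 : nd 109157 = n212385 := ndS (p := 75076) (l := 4) rfl N75076 D212385
theorem N109158 : nd 109158 = n212386 := ndS (p := 75078) (l := 0) rfl N75078 D212386
theorem N109159 : nd 109159 = n212387 := ndS (p := 75078) (l := 5) rfl N75078 D212387
theorem N109160 : nd 109160 = n212388 := ndS (p := 75079) (l := 6) rfl N75079 D212388
theorem N109161 : nd 109161 = n212389 := ndS (p := 75082) (l := 0) rfl N75082 D212389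
theorem N109162 : nd 109162 = n212390 := ndS (p := 75082) (l := 1) rfl N75082 D212390
theorem N109163 : nd 109163 = n212391 := ndS (p := 75082) (l := 2) rfl N75082 D212391
theorem N109164 : nd 109164 = n212392 := ndS (p := 75082) (l := 5) rfl N75082 D212392
theorem N109165 : nd 109165 = n212393 := ndS (p := 75084) (l := 7) rfl N75084 D212393
theorem N109166 : nd 109166 = n212394 := ndS (p := 75085) (l := 5) rfl N75085 D212394
theorem N109167 : nd 109167 = n212395 := ndS (p := 75086) (l := 6) rfl N75086 D212395
theorem N109168 : nd 109168 = n212396 := ndS (p := 75090) (l := 5) rfl N75090 D212396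
theorem N109169 : nd 109169 = n212397 := ndS (p := 75091) (l := 0) rfl N75091 D212397
theorem N109170 : nd 109170 = n212398 := ndS (p := 75091) (l := 1) rfl N75091 D212398
theorem N109171 : nd 109171 = n212399 := ndS (p := 75092) (l := 5) rfl N75092 D212399
theorem N109172 : nd 109172 = n212400 := ndS (p := 75093) (l := 0) rfl N75093 D212400
theorem N109173 : nd 109173 = n212401 := ndS (p := 75093) (l := 1) rfl N75093 D212401
theorem N109174 : nd 109174 = n212402 := ndS (p := 75093) (l := 5) rfl N75093 D212402
theorem N109175 : nd 109175 = n212403 := ndS (p := 75093) (l := 7) rfl N75093 D212403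
theorem N109176 : nd 109176 = n212404 := ndS (p := 75094) (l := 3) rfl N75094 D212404
theorem N109177 : nd 109177 = n212405 := ndS (p := 75094) (l := 5) rfl N75094 D212405
theorem N109178 : nd 109178 = n212406 := ndS (p := 75094) (l := 6) rfl N75094 D212406
theorem N109179 : nd 109179 = n212407 := ndS (p := 75095) (l := 5) rfl N75095 D212407
theorem N109180 : nd 109180 = n212408 := ndS (p := 75095) (l := 6) rfl N75095 D212408
theorem N109181 : nd 109181 = n212409 := ndS (p := 75096) (l := 0) rfl N75096 D212409
theorem N109182 : nd 109182 = n212410 := ndS (p := 75096) (l := 1) rfl N75096 D212410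
theorem N109183 : nd 109183 = n212411 := ndS (p := 75097) (l := 3) rfl N75097 D212411
theorem N109184 : nd 109184 = n212412 := ndS (p := 75097) (l := 5) rfl N75097 D212412
theorem N109185 : nd 109185 = n212413 := ndS (p := 75098) (l := 7) rfl N75098 D212413
theorem N109186 : nd 109186 = n212414 := ndS (p := 75099) (l := 6) rfl N75099 D212414
theorem N109187 : nd 109187 = n212415 := ndS (p := 75100) (l := 3) rfl N75100 D212415
theorem N109188 : nd 109188 = n212416 := ndS (p := 75100) (l := 5) rfl N75100 D212416
theorem N109189 : nd 109189 = n212417 := ndS (p := 75100) (l := 6) rfl N75100 D212417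
theorem N109190 : nd 109190 = n212418 := ndS (p := 75102) (l := 6) rfl N75102 D212418
theorem N109191 : nd 109191 = n212419 := ndS (p := 75104) (l := 6) rfl N75104 D212419
theorem N109192 : nd 109192 = n212420 := ndS (p := 75105) (l := 5) rfl N75105 D212420
theorem N109193 : nd 109193 = n212421 := ndS (p := 75107) (l := 3) rfl N75107 D212421
theorem N109194 : nd 109194 = n212422 := ndS (p := 75107) (l := 6) rfl N75107 D212422
theorem N109195 : nd 109195 = n212423 := ndS (p := 75108) (l := 5) rfl N75108 D212423
theorem N109196 : nd 109196 = n212424 := ndS (p := 75109) (l := 1) rfl N75109 D212424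
theorem N109197 : nd 109197 = n212425 := ndS (p := 75109) (l := 4) rfl N75109 D212425
theorem N109198 : nd 109198 = n212426 := ndS (p := 75109) (l := 6) rfl N75109 D212426
theorem N109199 : nd 109199 = n212427 := ndS (p := 75110) (l := 5) rfl N75110 D212427
theorem N109200 : nd 109200 = n212428 := ndS (p := 75112) (l := 6) rfl N75112 D212428
theorem N109201 : nd 109201 = n212429 := ndS (p := 75113) (l := 0) rfl N75113 D212429
theorem N109202 : nd 109202 = n212430 := ndS (p := 75113) (l := 1) rfl N75113 D212430
theorem N109203 : nd 109203 = n212431 := ndS (p := 75113) (l := 5) rfl N75113 D212431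
theorem N109204 : nd 109204 = n212432 := ndS (p := 75113) (l := 7) rfl N75113 D212432
theorem N109205 : nd 109205 = n212433 := ndS (p := 75114) (l := 5) rfl N75114 D212433
theorem N109206 : nd 109206 = n212434 := ndS (p := 75115) (l := 5) rfl N75115 D212434
theorem N109207 : nd 109207 = n212435 := ndS (p := 75116) (l := 4) rfl N75116 D212435
theorem N109208 : nd 109208 = n212436 := ndS (p := 75116) (l := 7) rfl N75116 D212436
theorem N109209 : nd 109209 = n212437 := ndS (p := 75118) (l := 5) rfl N75118 D212437
theorem N109210 : nd 109210 = n212438 := ndS (p := 75131) (l := 0) rfl N75131 D212438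
theorem N109211 : nd 109211 = n212439 := ndS (p := 75131) (l := 1) rfl N75131 D212439
theorem N109212 : nd 109212 = n212440 := ndS (p := 75131) (l := 5) rfl N75131 D212440
theorem N109213 : nd 109213 = n212441 := ndS (p := 75132) (l := 4) rfl N75132 D212441
theorem N109214 : nd 109214 = n212442 := ndS (p := 75134) (l := 5) rfl N75134 D212442
theorem N109215 : nd 109215 = n212443 := ndS (p := 75140) (l := 0) rfl N75140 D212443
theorem N109216 : nd 109216 = n212444 := ndS (p := 75140) (l := 5) rfl N75140 D212444
theorem N109217 : nd 109217 = n212445 := ndS (p := 75140) (l := 7) rfl N75140 D212445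
theorem N109218 : nd 109218 = n212446 := ndS (p := 75143) (l := 0) rfl N75143 D212446
theorem N109219 : nd 109219 = n212447 := ndS (p := 75143) (l := 1) rfl N75143 D212447
theorem N109220 : nd 109220 = n212448 := ndS (p := 75145) (l := 3) rfl N75145 D212448
theorem N109221 : nd 109221 = n212449 := ndS (p := 75145) (l := 6) rfl N75145 D212449
theorem N109222 : nd 109222 = n212450 := ndS (p := 75150) (l := 5) rfl N75150 D212450
theorem N109223 : nd 109223 = n212451 := ndS (p := 75151) (l := 0) rfl N75151 D212451
theorem N109224 : nd 109224 = n212452 := ndS (p := 75152) (l := 6) rfl N75152 D212452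
theorem N109225 : nd 109225 = n212453 := ndS (p := 75158) (l := 4) rfl N75158 D212453
theorem N109226 : nd 109226 = n212454 := ndS (p := 75160) (l := 4) rfl N75160 D212454
theorem N109227 : nd 109227 = n212455 := ndS (p := 75167) (l := 3) rfl N75167 D212455
theorem N109228 : nd 109228 = n212456 := ndS (p := 75174) (l := 4) rfl N75174 D212456
theorem N109229 : nd 109229 = n212457 := ndS (p := 75178) (l := 5) rfl N75178 D212457
theorem N109230 : nd 109230 = n212458 := ndS (p := 75180) (l := 5) rfl N75180 D212458
theorem N109231 : nd 109231 = n212459 := ndS (p := 75182) (l := 2) rfl N75182 D212459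
theorem N109232 : nd 109232 = n212460 := ndS (p := 75188) (l := 4) rfl N75188 D212460
theorem N109233 : nd 109233 = n212461 := ndS (p := 75201) (l := 4) rfl N75201 D212461
theorem N109234 : nd 109234 = n212462 := ndS (p := 75203) (l := 6) rfl N75203 D212462
theorem N109235 : nd 109235 = n212463 := ndS (p := 75204) (l := 6) rfl N75204 D212463
theorem N109236 : nd 109236 = n212464 := ndS (p := 75205) (l := 0) rfl N75205 D212464
theorem N109237 : nd 109237 = n212465 := ndS (p := 75205) (l := 1) rfl N75205 D212465
theorem N109238 : nd 109238 = n212466 := ndS (p := 75209) (l := 4) rfl N75209 D212466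
theorem N109239 : nd 109239 = n212467 := ndS (p := 75215) (l := 4) rfl N75215 D212467
theorem N109240 : nd 109240 = n212468 := ndS (p := 75216) (l := 5) rfl N75216 D212468
theorem N109241 : nd 109241 = n212469 := ndS (p := 75226) (l := 3) rfl N75226 D212469
theorem N109242 : nd 109242 = n212470 := ndS (p := 75233) (l := 5) rfl N75233 D212470
theorem N109243 : nd 109243 = n212471 := ndS (p := 75233) (l := 6) rfl N75233 D212471
theorem N109244 : nd 109244 = n212472 := ndS (p := 75234) (l := 4) rfl N75234 D212472
theorem N109245 : nd 109245 = n212473 := ndS (p := 75235) (l := 5) rfl N75235 D212473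
theorem N109246 : nd 109246 = n212474 := ndS (p := 75235) (l := 7) rfl N75235 D212474
theorem N109247 : nd 109247 = n212475 := ndS (p := 75242) (l := 0) rfl N75242 D212475
theorem N109248 : nd 109248 = n212476 := ndS (p := 75242) (l := 1) rfl N75242 D212476
theorem N109249 : nd 109249 = n212477 := ndS (p := 75242) (l := 5) rfl N75242 D212477
theorem N109250 : nd 109250 = n212478 := ndS (p := 75242) (l := 7) rfl N75242 D212478
theorem N109251 : nd 109251 = n212479 := ndS (p := 75245) (l := 5) rfl N75245 D212479
theorem N109252 : nd 109252 = n212480 := ndS (p := 75252) (l := 4) rfl N75252 D212480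
theorem N109253 : nd 109253 = n212481 := ndS (p := 75260) (l := 1) rfl N75260 D212481
theorem N109254 : nd 109254 = n212482 := ndS (p := 75260) (l := 2) rfl N75260 D212482
theorem N109255 : nd 109255 = n212483 := ndS (p := 75262) (l := 5) rfl N75262 D212483
theorem N109256 : nd 109256 = n212484 := ndS (p := 75271) (l := 5) rfl N75271 D212484
theorem N109257 : nd 109257 = n212485 := ndS (p := 75272) (l := 6) rfl N75272 D212485
theorem N109258 : nd 109258 = n212486 := ndS (p := 75280) (l := 4) rfl N75280 D212486
theorem N109259 : nd 109259 = n212487 := ndS (p := 75282) (l := 0) rfl N75282 D212487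
theorem N109260 : nd 109260 = n212488 := ndS (p := 75286) (l := 5) rfl N75286 D212488
theorem N109261 : nd 109261 = n212489 := ndS (p := 75290) (l := 5) rfl N75290 D212489
theorem N109262 : nd 109262 = n212490 := ndS (p := 75293) (l := 6) rfl N75293 D212490
theorem N109263 : nd 109263 = n212491 := ndS (p := 75294) (l := 1) rfl N75294 D212491
theorem N109264 : nd 109264 = n212492 := ndS (p := 75298) (l := 3) rfl N75298 D212492
theorem N109265 : nd 109265 = n212493 := ndS (p := 75298) (l := 4) rfl N75298 D212493
theorem N109266 : nd 109266 = n212494 := ndS (p := 75307) (l := 1) rfl N75307 D212494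
theorem N109267 : nd 109267 = n212495 := ndS (p := 75307) (l := 2) rfl N75307 D212495
theorem N109268 : nd 109268 = n212496 := ndS (p := 75307) (l := 6) rfl N75307 D212496
theorem N109269 : nd 109269 = n212497 := ndS (p := 75312) (l := 3) rfl N75312 D212497
theorem N109270 : nd 109270 = n212498 := ndS (p := 75313) (l := 3) rfl N75313 D212498
theorem N109271 : nd 109271 = n212499 := ndS (p := 75318) (l := 5) rfl N75318 D212499
theorem N109272 : nd 109272 = n212500 := ndS (p := 75328) (l := 3) rfl N75328 D212500
theorem N109273 : nd 109273 = n212501 := ndS (p := 75328) (l := 5) rfl N75328 D212501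
theorem N109274 : nd 109274 = n212502 := ndS (p := 75329) (l := 7) rfl N75329 D212502
theorem N109275 : nd 109275 = n212503 := ndS (p := 75330) (l := 7) rfl N75330 D212503
theorem N109276 : nd 109276 = n212504 := ndS (p := 75332) (l := 0) rfl N75332 D212504
theorem N109277 : nd 109277 = n212505 := ndS (p := 75332) (l := 5) rfl N75332 D212505
theorem N109278 : nd 109278 = n212506 := ndS (p := 75334) (l := 6) rfl N75334 D212506
theorem N109279 : nd 109279 = n212507 := ndS (p := 75335) (l := 5) rfl N75335 D212507
theorem N109280 : nd 109280 = n212508 := ndS (p := 75336) (l := 4) rfl N75336 D212508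
theorem N109281 : nd 109281 = n212509 := ndS (p := 75340) (l := 6) rfl N75340 D212509
theorem N109282 : nd 109282 = n212510 := ndS (p := 75347) (l := 6) rfl N75347 D212510
theorem N109283 : nd 109283 = n212511 := ndS (p := 75354) (l := 5) rfl N75354 D212511
theorem N109284 : nd 109284 = n212512 := ndS (p := 75355) (l := 5) rfl N75355 D212512
theorem N109285 : nd 109285 = n212513 := ndS (p := 75361) (l := 1) rfl N75361 D212513
theorem N109286 : nd 109286 = n212514 := ndS (p := 75361) (l := 7) rfl N75361 D212514
theorem N109287 : nd 109287 = n212515 := ndS (p := 75363) (l := 0) rfl N75363 D212515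
theorem N109288 : nd 109288 = n212516 := ndS (p := 75363) (l := 1) rfl N75363 D212516
theorem N109289 : nd 109289 = n212517 := ndS (p := 75363) (l := 7) rfl N75363 D212517
theorem N109290 : nd 109290 = n212518 := ndS (p := 75365) (l := 6) rfl N75365 D212518
theorem N109291 : nd 109291 = n212519 := ndS (p := 75371) (l := 6) rfl N75371 D212519
theorem N109292 : nd 109292 = n212520 := ndS (p := 75373) (l := 5) rfl N75373 D212520
theorem N109293 : nd 109293 = n212521 := ndS (p := 75374) (l := 5) rfl N75374 D212521
theorem N109294 : nd 109294 = n212522 := ndS (p := 75375) (l := 6) rfl N75375 D212522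
theorem N109295 : nd 109295 = n212523 := ndS (p := 75376) (l := 1) rfl N75376 D212523
theorem N109296 : nd 109296 = n212524 := ndS (p := 75377) (l := 5) rfl N75377 D212524
theorem N109297 : nd 109297 = n212525 := ndS (p := 75386) (l := 5) rfl N75386 D212525
theorem N109298 : nd 109298 = n212526 := ndS (p := 75388) (l := 6) rfl N75388 D212526
theorem N109299 : nd 109299 = n212527 := ndS (p := 75393) (l := 3) rfl N75393 D212527
theorem N109300 : nd 109300 = n212528 := ndS (p := 75393) (l := 4) rfl N75393 D212528
theorem N109301 : nd 109301 = n212529 := ndS (p := 75401) (l := 2) rfl N75401 D212529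
theorem N109302 : nd 109302 = n212530 := ndS (p := 75402) (l := 3) rfl N75402 D212530
theorem N109303 : nd 109303 = n212531 := ndS (p := 75405) (l := 1) rfl N75405 D212531
theorem N109304 : nd 109304 = n212532 := ndS (p := 75405) (l := 2) rfl N75405 D212532
theorem N109305 : nd 109305 = n212533 := ndS (p := 75405) (l := 5) rfl N75405 D212533
theorem N109306 : nd 109306 = n212534 := ndS (p := 75415) (l := 3) rfl N75415 D212534
theorem N109307 : nd 109307 = n212535 := ndS (p := 75416) (l := 4) rfl N75416 D212535
theorem N109308 : nd 109308 = n212536 := ndS (p := 75418) (l := 3) rfl N75418 D212536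
theorem N109309 : nd 109309 = n212537 := ndS (p := 75418) (l := 5) rfl N75418 D212537
theorem N109310 : nd 109310 = n212538 := ndS (p := 75421) (l := 5) rfl N75421 D212538
theorem N109311 : nd 109311 = n212539 := ndS (p := 75423) (l := 5) rfl N75423 D212539
theorem N109312 : nd 109312 = n212540 := ndS (p := 75425) (l := 5) rfl N75425 D212540
theorem N109313 : nd 109313 = n212541 := ndS (p := 75428) (l := 5) rfl N75428 D212541
theorem N109314 : nd 109314 = n212542 := ndS (p := 75433) (l := 3) rfl N75433 D212542
theorem N109315 : nd 109315 = n212543 := ndS (p := 75433) (l := 6) rfl N75433 D212543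
theorem N109316 : nd 109316 = n212544 := ndS (p := 75443) (l := 3) rfl N75443 D212544
theorem N109317 : nd 109317 = n212545 := ndS (p := 75443) (l := 6) rfl N75443 D212545
theorem N109318 : nd 109318 = n212546 := ndS (p := 75447) (l := 3) rfl N75447 D212546
theorem N109319 : nd 109319 = n212547 := ndS (p := 75447) (l := 6) rfl N75447 D212547
theorem N109320 : nd 109320 = n212548 := ndS (p := 75448) (l := 3) rfl N75448 D212548
theorem N109321 : nd 109321 = n212549 := ndS (p := 75449) (l := 6) rfl N75449 D212549
theorem N109322 : nd 109322 = n212550 := ndS (p := 75455) (l := 5) rfl N75455 D212550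
theorem N109323 : nd 109323 = n212551 := ndS (p := 75456) (l := 6) rfl N75456 D212551
theorem N109324 : nd 109324 = n212552 := ndS (p := 75459) (l := 1) rfl N75459 D212552
theorem N109325 : nd 109325 = n212553 := ndS (p := 75459) (l := 2) rfl N75459 D212553
theorem N109326 : nd 109326 = n212554 := ndS (p := 75461) (l := 4) rfl N75461 D212554
theorem N109327 : nd 109327 = n212555 := ndS (p := 75465) (l := 6) rfl N75465 D212555
theorem N109328 : nd 109328 = n212556 := ndS (p := 75471) (l := 0) rfl N75471 D212556
theorem N109329 : nd 109329 = n212557 := ndS (p := 75471) (l := 2) rfl N75471 D212557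
theorem N109330 : nd 109330 = n212558 := ndS (p := 75483) (l := 4) rfl N75483 D212558
theorem N109331 : nd 109331 = n212559 := ndS (p := 75485) (l := 3) rfl N75485 D212559
theorem N109332 : nd 109332 = n212560 := ndS (p := 75493) (l := 0) rfl N75493 D212560
theorem N109333 : nd 109333 = n212561 := ndS (p := 75497) (l := 5) rfl N75497 D212561
theorem N109334 : nd 109334 = n212562 := ndS (p := 75498) (l := 4) rfl N75498 D212562
theorem N109335 : nd 109335 = n212563 := ndS (p := 75498) (l := 6) rfl N75498 D212563
theorem N109336 : nd 109336 = n212564 := ndS (p := 75501) (l := 3) rfl N75501 D212564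
theorem N109337 : nd 109337 = n212565 := ndS (p := 75501) (l := 5) rfl N75501 D212565
theorem N109338 : nd 109338 = n212566 := ndS (p := 75502) (l := 4) rfl N75502 D212566
theorem N109339 : nd 109339 = n212567 := ndS (p := 75503) (l := 3) rfl N75503 D212567
theorem N109340 : nd 109340 = n212568 := ndS (p := 75505) (l := 3) rfl N75505 D212568
theorem N109341 : nd 109341 = n212569 := ndS (p := 75507) (l := 0) rfl N75507 D212569
theorem N109342 : nd 109342 = n212570 := ndS (p := 75509) (l := 1) rfl N75509 D212570
theorem N109343 : nd 109343 = n212571 := ndS (p := 75509) (l := 2) rfl N75509 D212571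
theorem N109344 : nd 109344 = n212572 := ndS (p := 75509) (l := 6) rfl N75509 D212572
theorem N109345 : nd 109345 = n212573 := ndS (p := 75510) (l := 0) rfl N75510 D212573
theorem N109346 : nd 109346 = n212574 := ndS (p := 75510) (l := 7) rfl N75510 D212574
theorem N109347 : nd 109347 = n212575 := ndS (p := 75514) (l := 6) rfl N75514 D212575
theorem N109348 : nd 109348 = n212576 := ndS (p := 75515) (l := 1) rfl N75515 D212576
theorem N109349 : nd 109349 = n212577 := ndS (p := 75516) (l := 0) rfl N75516 D212577
theorem N109350 : nd 109350 = n212578 := ndS (p := 75516) (l := 1) rfl N75516 D212578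
theorem N109351 : nd 109351 = n212579 := ndS (p := 75516) (l := 2) rfl N75516 D212579
theorem N109352 : nd 109352 = n212580 := ndS (p := 75516) (l := 5) rfl N75516 D212580
theorem N109353 : nd 109353 = n212581 := ndS (p := 75516) (l := 6) rfl N75516 D212581
theorem N109354 : nd 109354 = n212582 := ndS (p := 75517) (l := 6) rfl N75517 D212582
theorem N109355 : nd 109355 = n212583 := ndS (p := 75521) (l := 0) rfl N75521 D212583
theorem N109356 : nd 109356 = n212584 := ndS (p := 75521) (l := 2) rfl N75521 D212584
theorem N109357 : nd 109357 = n212585 := ndS (p := 75521) (l := 5) rfl N75521 D212585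
theorem N109358 : nd 109358 = n212586 := ndS (p := 75524) (l := 5) rfl N75524 D212586
theorem N109359 : nd 109359 = n212587 := ndS (p := 75525) (l := 4) rfl N75525 D212587
theorem N109360 : nd 109360 = n212588 := ndS (p := 75526) (l := 7) rfl N75526 D212588
theorem N109361 : nd 109361 = n212589 := ndS (p := 75527) (l := 6) rfl N75527 D212589
theorem N109362 : nd 109362 = n212590 := ndS (p := 75528) (l := 0) rfl N75528 D212590
theorem N109363 : nd 109363 = n212591 := ndS (p := 75528) (l := 4) rfl N75528 D212591
theorem N109364 : nd 109364 = n212592 := ndS (p := 75528) (l := 6) rfl N75528 D212592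
theorem N109365 : nd 109365 = n212593 := ndS (p := 75530) (l := 1) rfl N75530 D212593
theorem N109366 : nd 109366 = n212594 := ndS (p := 75532) (l := 6) rfl N75532 D212594
theorem N109367 : nd 109367 = n212595 := ndS (p := 75535) (l := 0) rfl N75535 D212595
theorem N109368 : nd 109368 = n212596 := ndS (p := 75535) (l := 4) rfl N75535 D212596
theorem N109369 : nd 109369 = n212597 := ndS (p := 75537) (l := 5) rfl N75537 D212597
theorem N109370 : nd 109370 = n212598 := ndS (p := 75539) (l := 5) rfl N75539 D212598
theorem N109371 : nd 109371 = n212599 := ndS (p := 75539) (l := 7) rfl N75539 D212599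
theorem N109372 : nd 109372 = n212600 := ndS (p := 75542) (l := 0) rfl N75542 D212600
theorem N109373 : nd 109373 = n212601 := ndS (p := 75542) (l := 7) rfl N75542 D212601
theorem N109374 : nd 109374 = n212602 := ndS (p := 75543) (l := 6) rfl N75543 D212602
theorem N109375 : nd 109375 = n212603 := ndS (p := 75545) (l := 0) rfl N75545 D212603
theorem N109376 : nd 109376 = n212604 := ndS (p := 75545) (l := 1) rfl N75545 D212604
theorem N109377 : nd 109377 = n212605 := ndS (p := 75545) (l := 2) rfl N75545 D212605
theorem N109378 : nd 109378 = n212606 := ndS (p := 75547) (l := 5) rfl N75547 D212606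
theorem N109379 : nd 109379 = n212607 := ndS (p := 75548) (l := 3) rfl N75548 D212607
theorem N109380 : nd 109380 = n212608 := ndS (p := 75548) (l := 6) rfl N75548 D212608
theorem N109381 : nd 109381 = n212609 := ndS (p := 75549) (l := 4) rfl N75549 D212609
theorem N109382 : nd 109382 = n212610 := ndS (p := 75553) (l := 5) rfl N75553 D212610
theorem N109383 : nd 109383 = n212611 := ndS (p := 75554) (l := 6) rfl N75554 D212611
theorem N109384 : nd 109384 = n212612 := ndS (p := 75555) (l := 6) rfl N75555 D212612
theorem N109385 : nd 109385 = n212613 := ndS (p := 75558) (l := 6) rfl N75558 D212613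
theorem N109386 : nd 109386 = n212614 := ndS (p := 75571) (l := 5) rfl N75571 D212614
theorem N109387 : nd 109387 = n212615 := ndS (p := 75572) (l := 1) rfl N75572 D212615
theorem N109388 : nd 109388 = n212616 := ndS (p := 75577) (l := 5) rfl N75577 D212616
theorem N109389 : nd 109389 = n212617 := ndS (p := 75579) (l := 3) rfl N75579 D212617
theorem N109390 : nd 109390 = n212618 := ndS (p := 75581) (l := 6) rfl N75581 D212618
theorem N109391 : nd 109391 = n212619 := ndS (p := 75582) (l := 0) rfl N75582 D212619
theorem N109392 : nd 109392 = n212620 := ndS (p := 75582) (l := 5) rfl N75582 D212620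
theorem N109393 : nd 109393 = n212621 := ndS (p := 75582) (l := 7) rfl N75582 D212621
theorem N109394 : nd 109394 = n212622 := ndS (p := 75584) (l := 3) rfl N75584 D212622
theorem N109395 : nd 109395 = n212623 := ndS (p := 75598) (l := 4) rfl N75598 D212623
theorem N109396 : nd 109396 = n212624 := ndS (p := 75600) (l := 6) rfl N75600 D212624
theorem N109397 : nd 109397 = n212625 := ndS (p := 75609) (l := 3) rfl N75609 D212625
theorem N109398 : nd 109398 = n212626 := ndS (p := 75620) (l := 5) rfl N75620 D212626
theorem N109399 : nd 109399 = n212627 := ndS (p := 75624) (l := 5) rfl N75624 D212627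
theorem N109400 : nd 109400 = n212628 := ndS (p := 75625) (l := 0) rfl N75625 D212628
theorem N109401 : nd 109401 = n212629 := ndS (p := 75631) (l := 2) rfl N75631 D212629
theorem N109402 : nd 109402 = n212630 := ndS (p := 75640) (l := 5) rfl N75640 D212630
theorem N109403 : nd 109403 = n212631 := ndS (p := 75645) (l := 0) rfl N75645 D212631
theorem N109404 : nd 109404 = n212632 := ndS (p := 75648) (l := 5) rfl N75648 D212632
theorem N109405 : nd 109405 = n212633 := ndS (p := 75649) (l := 6) rfl N75649 D212633
theorem N109406 : nd 109406 = n212634 := ndS (p := 75651) (l := 0) rfl N75651 D212634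
theorem N109407 : nd 109407 = n212635 := ndS (p := 75651) (l := 1) rfl N75651 D212635
theorem N109408 : nd 109408 = n212636 := ndS (p := 75652) (l := 5) rfl N75652 D212636
theorem N109409 : nd 109409 = n212637 := ndS (p := 75653) (l := 6) rfl N75653 D212637
theorem N109410 : nd 109410 = n212638 := ndS (p := 75655) (l := 4) rfl N75655 D212638
theorem N109411 : nd 109411 = n212639 := ndS (p := 75656) (l := 5) rfl N75656 D212639
theorem N109412 : nd 109412 = n212640 := ndS (p := 75657) (l := 3) rfl N75657 D212640
theorem N109413 : nd 109413 = n212641 := ndS (p := 75662) (l := 3) rfl N75662 D212641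
theorem N109414 : nd 109414 = n212642 := ndS (p := 75662) (l := 5) rfl N75662 D212642
theorem N109415 : nd 109415 = n212643 := ndS (p := 75668) (l := 0) rfl N75668 D212643
theorem N109416 : nd 109416 = n212644 := ndS (p := 75678) (l := 4) rfl N75678 D212644
theorem N109417 : nd 109417 = n212645 := ndS (p := 75680) (l := 4) rfl N75680 D212645
theorem N109418 : nd 109418 = n212646 := ndS (p := 75683) (l := 5) rfl N75683 D212646
theorem N109419 : nd 109419 = n212647 := ndS (p := 75692) (l := 3) rfl N75692 D212647
theorem N109420 : nd 109420 = n212648 := ndS (p := 75695) (l := 0) rfl N75695 D212648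
theorem N109421 : nd 109421 = n212649 := ndS (p := 75695) (l := 1) rfl N75695 D212649
theorem N109422 : nd 109422 = n212650 := ndS (p := 75695) (l := 2) rfl N75695 D212650
theorem N109423 : nd 109423 = n212651 := ndS (p := 75699) (l := 7) rfl N75699 D212651
theorem N109424 : nd 109424 = n212652 := ndS (p := 75702) (l := 6) rfl N75702 D212652
theorem N109425 : nd 109425 = n212653 := ndS (p := 75704) (l := 7) rfl N75704 D212653
theorem N109426 : nd 109426 = n212654 := ndS (p := 75707) (l := 0) rfl N75707 D212654
theorem N109427 : nd 109427 = n212655 := ndS (p := 75707) (l := 1) rfl N75707 D212655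
theorem N109428 : nd 109428 = n212656 := ndS (p := 75707) (l := 6) rfl N75707 D212656
theorem N109429 : nd 109429 = n212657 := ndS (p := 75708) (l := 1) rfl N75708 D212657
theorem N109430 : nd 109430 = n212658 := ndS (p := 75708) (l := 5) rfl N75708 D212658
theorem N109431 : nd 109431 = n212659 := ndS (p := 75708) (l := 7) rfl N75708 D212659
theorem N109432 : nd 109432 = n212660 := ndS (p := 75710) (l := 4) rfl N75710 D212660
theorem N109433 : nd 109433 = n212661 := ndS (p := 75712) (l := 1) rfl N75712 D212661
theorem N109434 : nd 109434 = n212662 := ndS (p := 75713) (l := 0) rfl N75713 D212662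
theorem N109435 : nd 109435 = n212663 := ndS (p := 75718) (l := 7) rfl N75718 D212663
theorem N109436 : nd 109436 = n212664 := ndS (p := 75719) (l := 4) rfl N75719 D212664
theorem N109437 : nd 109437 = n212665 := ndS (p := 75720) (l := 4) rfl N75720 D212665
theorem N109438 : nd 109438 = n212666 := ndS (p := 75720) (l := 6) rfl N75720 D212666
theorem N109439 : nd 109439 = n212667 := ndS (p := 75722) (l := 5) rfl N75722 D212667
theorem N109440 : nd 109440 = n212668 := ndS (p := 75724) (l := 2) rfl N75724 D212668
theorem N109441 : nd 109441 = n212669 := ndS (p := 75724) (l := 3) rfl N75724 D212669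
theorem N109442 : nd 109442 = n212670 := ndS (p := 75724) (l := 6) rfl N75724 D212670
theorem N109443 : nd 109443 = n212671 := ndS (p := 75724) (l := 7) rfl N75724 D212671
theorem N109444 : nd 109444 = n212672 := ndS (p := 75729) (l := 0) rfl N75729 D212672
theorem N109445 : nd 109445 = n212673 := ndS (p := 75731) (l := 4) rfl N75731 D212673
theorem N109446 : nd 109446 = n212674 := ndS (p := 75732) (l := 4) rfl N75732 D212674
theorem N109447 : nd 109447 = n212675 := ndS (p := 75734) (l := 5) rfl N75734 D212675
theorem N109448 : nd 109448 = n212676 := ndS (p := 75737) (l := 5) rfl N75737 D212676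
theorem N109449 : nd 109449 = n212677 := ndS (p := 75738) (l := 4) rfl N75738 D212677
theorem N109450 : nd 109450 = n212678 := ndS (p := 75742) (l := 5) rfl N75742 D212678
theorem N109451 : nd 109451 = n212679 := ndS (p := 75743) (l := 6) rfl N75743 D212679
theorem N109452 : nd 109452 = n212680 := ndS (p := 75744) (l := 5) rfl N75744 D212680
theorem N109453 : nd 109453 = n212681 := ndS (p := 75744) (l := 7) rfl N75744 D212681
theorem N109454 : nd 109454 = n212682 := ndS (p := 75746) (l := 5) rfl N75746 D212682
theorem N109455 : nd 109455 = n212683 := ndS (p := 75747) (l := 5) rfl N75747 D212683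
theorem N109456 : nd 109456 = n212684 := ndS (p := 75748) (l := 6) rfl N75748 D212684
theorem N109457 : nd 109457 = n212685 := ndS (p := 75749) (l := 1) rfl N75749 D212685
theorem N109458 : nd 109458 = n212686 := ndS (p := 75749) (l := 7) rfl N75749 D212686
theorem N109459 : nd 109459 = n212687 := ndS (p := 75754) (l := 6) rfl N75754 D212687
theorem N109460 : nd 109460 = n212688 := ndS (p := 75756) (l := 1) rfl N75756 D212688
theorem N109461 : nd 109461 = n212689 := ndS (p := 75757) (l := 3) rfl N75757 D212689
theorem N109462 : nd 109462 = n212690 := ndS (p := 75757) (l := 5) rfl N75757 D212690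
theorem N109463 : nd 109463 = n212691 := ndS (p := 75757) (l := 7) rfl N75757 D212691
theorem N109464 : nd 109464 = n212692 := ndS (p := 75760) (l := 5) rfl N75760 D212692
theorem N109465 : nd 109465 = n212693 := ndS (p := 75798) (l := 0) rfl N75798 D212693
theorem N109466 : nd 109466 = n212694 := ndS (p := 75799) (l := 0) rfl N75799 D212694
theorem N109467 : nd 109467 = n212695 := ndS (p := 75806) (l := 6) rfl N75806 D212695
theorem N109468 : nd 109468 = n212696 := ndS (p := 75808) (l := 5) rfl N75808 D212696
theorem N109469 : nd 109469 = n212697 := ndS (p := 75811) (l := 7) rfl N75811 D212697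
theorem N109470 : nd 109470 = n212698 := ndS (p := 75813) (l := 6) rfl N75813 D212698
theorem N109471 : nd 109471 = n212699 := ndS (p := 75828) (l := 1) rfl N75828 D212699
theorem N109472 : nd 109472 = n212700 := ndS (p := 75829) (l := 5) rfl N75829 D212700
theorem N109473 : nd 109473 = n212701 := ndS (p := 75829) (l := 6) rfl N75829 D212701
theorem N109474 : nd 109474 = n212702 := ndS (p := 75830) (l := 6) rfl N75830 D212702
theorem N109475 : nd 109475 = n212703 := ndS (p := 75831) (l := 0) rfl N75831 D212703
theorem N109476 : nd 109476 = n212704 := ndS (p := 75831) (l := 7) rfl N75831 D212704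
theorem N109477 : nd 109477 = n212705 := ndS (p := 75832) (l := 6) rfl N75832 D212705
theorem N109478 : nd 109478 = n212706 := ndS (p := 75834) (l := 5) rfl N75834 D212706
theorem N109479 : nd 109479 = n212707 := ndS (p := 75836) (l := 4) rfl N75836 D212707
theorem N109480 : nd 109480 = n212708 := ndS (p := 75842) (l := 5) rfl N75842 D212708
theorem N109481 : nd 109481 = n212709 := ndS (p := 75847) (l := 4) rfl N75847 D212709
theorem N109482 : nd 109482 = n212710 := ndS (p := 75847) (l := 6) rfl N75847 D212710
theorem N109483 : nd 109483 = n212711 := ndS (p := 75848) (l := 4) rfl N75848 D212711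
theorem N109484 : nd 109484 = n212712 := ndS (p := 75849) (l := 3) rfl N75849 D212712
theorem N109485 : nd 109485 = n212713 := ndS (p := 75849) (l := 4) rfl N75849 D212713
theorem N109486 : nd 109486 = n212714 := ndS (p := 75850) (l := 0) rfl N75850 D212714
theorem N109487 : nd 109487 = n212715 := ndS (p := 75850) (l := 3) rfl N75850 D212715
theorem N109488 : nd 109488 = n212716 := ndS (p := 75850) (l := 5) rfl N75850 D212716
theorem N109489 : nd 109489 = n212717 := ndS (p := 75851) (l := 4) rfl N75851 D212717
theorem N109490 : nd 109490 = n212718 := ndS (p := 75853) (l := 6) rfl N75853 D212718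
theorem N109491 : nd 109491 = n212719 := ndS (p := 75854) (l := 3) rfl N75854 D212719
theorem N109492 : nd 109492 = n212720 := ndS (p := 75859) (l := 6) rfl N75859 D212720
theorem N109493 : nd 109493 = n212721 := ndS (p := 75863) (l := 5) rfl N75863 D212721
theorem N109494 : nd 109494 = n212722 := ndS (p := 75863) (l := 6) rfl N75863 D212722
theorem N109495 : nd 109495 = n212723 := ndS (p := 75865) (l := 1) rfl N75865 D212723
theorem N109496 : nd 109496 = n212724 := ndS (p := 75865) (l := 3) rfl N75865 D212724
theorem N109497 : nd 109497 = n212725 := ndS (p := 75866) (l := 6) rfl N75866 D212725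
theorem N109498 : nd 109498 = n212726 := ndS (p := 75868) (l := 5) rfl N75868 D212726
theorem N109499 : nd 109499 = n212727 := ndS (p := 75869) (l := 1) rfl N75869 D212727
theorem N109500 : nd 109500 = n212728 := ndS (p := 75869) (l := 4) rfl N75869 D212728
theorem N109501 : nd 109501 = n212729 := ndS (p := 75870) (l := 4) rfl N75870 D212729
theorem N109502 : nd 109502 = n212730 := ndS (p := 75870) (l := 6) rfl N75870 D212730
theorem N109503 : nd 109503 = n212731 := ndS (p := 75871) (l := 4) rfl N75871 D212731
theorem N109504 : nd 109504 = n212732 := ndS (p := 75871) (l := 6) rfl N75871 D212732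
theorem N109505 : nd 109505 = n212733 := ndS (p := 75872) (l := 0) rfl N75872 D212733
theorem N109506 : nd 109506 = n212734 := ndS (p := 75872) (l := 3) rfl N75872 D212734
theorem N109507 : nd 109507 = n212735 := ndS (p := 75874) (l := 3) rfl N75874 D212735
theorem N109508 : nd 109508 = n212736 := ndS (p := 75874) (l := 6) rfl N75874 D212736
theorem N109509 : nd 109509 = n212738 := ndS (p := 75876) (l := 2) rfl N75876 D212738
theorem N109510 : nd 109510 = n212739 := ndS (p := 75876) (l := 4) rfl N75876 D212739
theorem N109511 : nd 109511 = n212740 := ndS (p := 75876) (l := 5) rfl N75876 D212740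
theorem N109512 : nd 109512 = n212741 := ndS (p := 75876) (l := 6) rfl N75876 D212741
theorem N109513 : nd 109513 = n212742 := ndS (p := 75877) (l := 0) rfl N75877 D212742
theorem N109514 : nd 109514 = n212743 := ndS (p := 75880) (l := 3) rfl N75880 D212743
theorem N109515 : nd 109515 = n212744 := ndS (p := 75882) (l := 3) rfl N75882 D212744
theorem N109516 : nd 109516 = n212745 := ndS (p := 75883) (l := 3) rfl N75883 D212745
theorem N109517 : nd 109517 = n212746 := ndS (p := 75883) (l := 5) rfl N75883 D212746
theorem N109518 : nd 109518 = n212747 := ndS (p := 75883) (l := 6) rfl N75883 D212747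
theorem N109519 : nd 109519 = n212748 := ndS (p := 75884) (l := 0) rfl N75884 D212748
theorem N109520 : nd 109520 = n212749 := ndS (p := 75884) (l := 1) rfl N75884 D212749
theorem N109521 : nd 109521 = n212750 := ndS (p := 75884) (l := 2) rfl N75884 D212750
theorem N109522 : nd 109522 = n212751 := ndS (p := 75884) (l := 7) rfl N75884 D212751
theorem N109523 : nd 109523 = n212752 := ndS (p := 75885) (l := 0) rfl N75885 D212752
theorem N109524 : nd 109524 = n212753 := ndS (p := 75885) (l := 1) rfl N75885 D212753
theorem N109525 : nd 109525 = n212755 := ndS (p := 75892) (l := 4) rfl N75892 D212755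
theorem N109526 : nd 109526 = n212756 := ndS (p := 75893) (l := 4) rfl N75893 D212756
theorem N109527 : nd 109527 = n212757 := ndS (p := 75894) (l := 6) rfl N75894 D212757
theorem N109528 : nd 109528 = n212758 := ndS (p := 75898) (l := 3) rfl N75898 D212758
theorem N109529 : nd 109529 = n212759 := ndS (p := 75898) (l := 6) rfl N75898 D212759
theorem N109530 : nd 109530 = n212760 := ndS (p := 75902) (l := 5) rfl N75902 D212760
theorem N109531 : nd 109531 = n212761 := ndS (p := 75904) (l := 0) rfl N75904 D212761
theorem N109532 : nd 109532 = n212762 := ndS (p := 75904) (l := 5) rfl N75904 D212762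
theorem N109533 : nd 109533 = n212763 := ndS (p := 75907) (l := 3) rfl N75907 D212763
theorem N109534 : nd 109534 = n212764 := ndS (p := 75908) (l := 5) rfl N75908 D212764
theorem N109535 : nd 109535 = n212765 := ndS (p := 75922) (l := 0) rfl N75922 D212765
theorem N109536 : nd 109536 = n212766 := ndS (p := 75928) (l := 6) rfl N75928 D212766
theorem N109537 : nd 109537 = n212767 := ndS (p := 75931) (l := 6) rfl N75931 D212767
theorem N109538 : nd 109538 = n212768 := ndS (p := 75933) (l := 6) rfl N75933 D212768
theorem N109539 : nd 109539 = n212769 := ndS (p := 75941) (l := 5) rfl N75941 D212769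
theorem N109540 : nd 109540 = n212770 := ndS (p := 75942) (l := 5) rfl N75942 D212770
theorem N109541 : nd 109541 = n212771 := ndS (p := 75943) (l := 0) rfl N75943 D212771
theorem N109542 : nd 109542 = n212772 := ndS (p := 75943) (l := 1) rfl N75943 D212772
theorem N109543 : nd 109543 = n212773 := ndS (p := 75943) (l := 4) rfl N75943 D212773
theorem N109544 : nd 109544 = n212774 := ndS (p := 75943) (l := 7) rfl N75943 D212774
theorem N109545 : nd 109545 = n212775 := ndS (p := 75945) (l := 5) rfl N75945 D212775
theorem N109546 : nd 109546 = n212776 := ndS (p := 75945) (l := 7) rfl N75945 D212776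
theorem N109547 : nd 109547 = n212777 := ndS (p := 75946) (l := 4) rfl N75946 D212777
theorem N109548 : nd 109548 = n212778 := ndS (p := 75948) (l := 4) rfl N75948 D212778
theorem N109549 : nd 109549 = n212779 := ndS (p := 75948) (l := 6) rfl N75948 D212779
theorem N109550 : nd 109550 = n212780 := ndS (p := 75952) (l := 3) rfl N75952 D212780
theorem N109551 : nd 109551 = n212781 := ndS (p := 75954) (l := 4) rfl N75954 D212781
theorem N109552 : nd 109552 = n212782 := ndS (p := 75956) (l := 5) rfl N75956 D212782
theorem N109553 : nd 109553 = n212783 := ndS (p := 75961) (l := 3) rfl N75961 D212783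
theorem N109554 : nd 109554 = n212784 := ndS (p := 75962) (l := 3) rfl N75962 D212784
theorem N109555 : nd 109555 = n212785 := ndS (p := 75962) (l := 5) rfl N75962 D212785
theorem N109556 : nd 109556 = n212786 := ndS (p := 75964) (l := 3) rfl N75964 D212786
theorem N109557 : nd 109557 = n212787 := ndS (p := 75964) (l := 5) rfl N75964 D212787
theorem N109558 : nd 109558 = n212788 := ndS (p := 75970) (l := 0) rfl N75970 D212788
theorem N109559 : nd 109559 = n212789 := ndS (p := 75974) (l := 6) rfl N75974 D212789
theorem N109560 : nd 109560 = n212790 := ndS (p := 75983) (l := 0) rfl N75983 D212790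
theorem N109561 : nd 109561 = n212791 := ndS (p := 75983) (l := 1) rfl N75983 D212791
theorem N109562 : nd 109562 = n212792 := ndS (p := 75988) (l := 5) rfl N75988 D212792
theorem N109563 : nd 109563 = n212793 := ndS (p := 75992) (l := 5) rfl N75992 D212793
theorem N109564 : nd 109564 = n212794 := ndS (p := 75992) (l := 6) rfl N75992 D212794
theorem N109565 : nd 109565 = n212795 := ndS (p := 76001) (l := 4) rfl N76001 D212795
theorem N109566 : nd 109566 = n212796 := ndS (p := 76033) (l := 5) rfl N76033 D212796
theorem N109567 : nd 109567 = n212797 := ndS (p := 76038) (l := 5) rfl N76038 D212797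
theorem N109568 : nd 109568 = n212798 := ndS (p := 76041) (l := 0) rfl N76041 D212798
theorem N109569 : nd 109569 = n212799 := ndS (p := 76045) (l := 2) rfl N76045 D212799
theorem N109570 : nd 109570 = n212800 := ndS (p := 76045) (l := 5) rfl N76045 D212800
theorem N109571 : nd 109571 = n212801 := ndS (p := 76046) (l := 6) rfl N76046 D212801
theorem N109572 : nd 109572 = n212802 := ndS (p := 76047) (l := 5) rfl N76047 D212802
theorem N109573 : nd 109573 = n212803 := ndS (p := 76048) (l := 6) rfl N76048 D212803
theorem N109574 : nd 109574 = n212804 := ndS (p := 76050) (l := 0) rfl N76050 D212804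
theorem N109575 : nd 109575 = n212805 := ndS (p := 76050) (l := 1) rfl N76050 D212805
theorem N109576 : nd 109576 = n212806 := ndS (p := 76050) (l := 2) rfl N76050 D212806
theorem N109577 : nd 109577 = n212807 := ndS (p := 76050) (l := 5) rfl N76050 D212807
theorem N109578 : nd 109578 = n212808 := ndS (p := 76051) (l := 6) rfl N76051 D212808
theorem N109579 : nd 109579 = n212809 := ndS (p := 76052) (l := 5) rfl N76052 D212809
theorem N109580 : nd 109580 = n212810 := ndS (p := 76053) (l := 5) rfl N76053 D212810
theorem N109581 : nd 109581 = n212811 := ndS (p := 76054) (l := 0) rfl N76054 D212811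
theorem N109582 : nd 109582 = n212812 := ndS (p := 76054) (l := 4) rfl N76054 D212812
theorem N109583 : nd 109583 = n212813 := ndS (p := 76054) (l := 6) rfl N76054 D212813
theorem N109584 : nd 109584 = n212814 := ndS (p := 76056) (l := 3) rfl N76056 D212814
theorem N109585 : nd 109585 = n212815 := ndS (p := 76056) (l := 6) rfl N76056 D212815
theorem N109586 : nd 109586 = n212816 := ndS (p := 76057) (l := 1) rfl N76057 D212816
theorem N109587 : nd 109587 = n212817 := ndS (p := 76057) (l := 7) rfl N76057 D212817
theorem N109588 : nd 109588 = n212818 := ndS (p := 76067) (l := 4) rfl N76067 D212818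
theorem N109589 : nd 109589 = n212819 := ndS (p := 76067) (l := 6) rfl N76067 D212819
theorem N109590 : nd 109590 = n212820 := ndS (p := 76070) (l := 4) rfl N76070 D212820
theorem N109591 : nd 109591 = n212821 := ndS (p := 76072) (l := 4) rfl N76072 D212821
theorem N109592 : nd 109592 = n212822 := ndS (p := 76077) (l := 6) rfl N76077 D212822
theorem N109593 : nd 109593 = n212823 := ndS (p := 76084) (l := 5) rfl N76084 D212823
theorem N109594 : nd 109594 = n212824 := ndS (p := 76087) (l := 4) rfl N76087 D212824
theorem N109595 : nd 109595 = n212825 := ndS (p := 76087) (l := 6) rfl N76087 D212825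
theorem N109596 : nd 109596 = n212826 := ndS (p := 76089) (l := 3) rfl N76089 D212826
theorem N109597 : nd 109597 = n212827 := ndS (p := 76096) (l := 3) rfl N76096 D212827
theorem N109598 : nd 109598 = n212828 := ndS (p := 76113) (l := 0) rfl N76113 D212828
theorem N109599 : nd 109599 = n212829 := ndS (p := 76116) (l := 6) rfl N76116 D212829
theorem N109600 : nd 109600 = n212830 := ndS (p := 76120) (l := 6) rfl N76120 D212830
theorem N109601 : nd 109601 = n212831 := ndS (p := 76138) (l := 4) rfl N76138 D212831
theorem N109602 : nd 109602 = n212832 := ndS (p := 76149) (l := 0) rfl N76149 D212832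
theorem N109603 : nd 109603 = n212833 := ndS (p := 76149) (l := 5) rfl N76149 D212833
theorem N109604 : nd 109604 = n212834 := ndS (p := 76150) (l := 4) rfl N76150 D212834
theorem N109605 : nd 109605 = n212835 := ndS (p := 76155) (l := 4) rfl N76155 D212835
theorem N109606 : nd 109606 = n212836 := ndS (p := 76158) (l := 4) rfl N76158 D212836
theorem N109607 : nd 109607 = n212837 := ndS (p := 76159) (l := 1) rfl N76159 D212837
theorem N109608 : nd 109608 = n212838 := ndS (p := 76159) (l := 5) rfl N76159 D212838
theorem N109609 : nd 109609 = n212839 := ndS (p := 76162) (l := 5) rfl N76162 D212839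
theorem N109610 : nd 109610 = n212840 := ndS (p := 76168) (l := 3) rfl N76168 D212840
theorem N109611 : nd 109611 = n212841 := ndS (p := 76171) (l := 5) rfl N76171 D212841
theorem N109612 : nd 109612 = n212842 := ndS (p := 76173) (l := 3) rfl N76173 D212842
theorem N109613 : nd 109613 = n212843 := ndS (p := 76174) (l := 0) rfl N76174 D212843
theorem N109614 : nd 109614 = n212844 := ndS (p := 76174) (l := 1) rfl N76174 D212844
theorem N109615 : nd 109615 = n212845 := ndS (p := 76176) (l := 6) rfl N76176 D212845
theorem N109616 : nd 109616 = n212846 := ndS (p := 76177) (l := 3) rfl N76177 D212846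
theorem N109617 : nd 109617 = n212847 := ndS (p := 76180) (l := 0) rfl N76180 D212847
theorem N109618 : nd 109618 = n212848 := ndS (p := 76180) (l := 1) rfl N76180 D212848
theorem N109619 : nd 109619 = n212849 := ndS (p := 76182) (l := 6) rfl N76182 D212849
theorem N109620 : nd 109620 = n212850 := ndS (p := 76187) (l := 6) rfl N76187 D212850
theorem N109621 : nd 109621 = n212851 := ndS (p := 76188) (l := 6) rfl N76188 D212851
theorem N109622 : nd 109622 = n212852 := ndS (p := 76189) (l := 5) rfl N76189 D212852
theorem N109623 : nd 109623 = n212853 := ndS (p := 76195) (l := 3) rfl N76195 D212853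
theorem N109624 : nd 109624 = n212854 := ndS (p := 76195) (l := 5) rfl N76195 D212854
theorem N109625 : nd 109625 = n212855 := ndS (p := 76197) (l := 5) rfl N76197 D212855
theorem N109626 : nd 109626 = n212856 := ndS (p := 76200) (l := 3) rfl N76200 D212856
theorem N109627 : nd 109627 = n212857 := ndS (p := 76203) (l := 5) rfl N76203 D212857
theorem N109628 : nd 109628 = n212858 := ndS (p := 76207) (l := 1) rfl N76207 D212858
theorem N109629 : nd 109629 = n212859 := ndS (p := 76209) (l := 6) rfl N76209 D212859
theorem N109630 : nd 109630 = n212860 := ndS (p := 76210) (l := 5) rfl N76210 D212860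
theorem N109631 : nd 109631 = n212861 := ndS (p := 76212) (l := 0) rfl N76212 D212861
theorem N109632 : nd 109632 = n212862 := ndS (p := 76212) (l := 2) rfl N76212 D212862
theorem N109633 : nd 109633 = n212863 := ndS (p := 76212) (l := 6) rfl N76212 D212863
theorem N109634 : nd 109634 = n212864 := ndS (p := 76213) (l := 6) rfl N76213 D212864
theorem N109635 : nd 109635 = n212865 := ndS (p := 76218) (l := 3) rfl N76218 D212865
theorem N109636 : nd 109636 = n212866 := ndS (p := 76219) (l := 4) rfl N76219 D212866
theorem N109637 : nd 109637 = n212867 := ndS (p := 76219) (l := 6) rfl N76219 D212867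
theorem N109638 : nd 109638 = n212868 := ndS (p := 76223) (l := 3) rfl N76223 D212868
theorem N109639 : nd 109639 = n212869 := ndS (p := 76225) (l := 0) rfl N76225 D212869
theorem N109640 : nd 109640 = n212870 := ndS (p := 76225) (l := 1) rfl N76225 D212870
theorem N109641 : nd 109641 = n212871 := ndS (p := 76226) (l := 3) rfl N76226 D212871
theorem N109642 : nd 109642 = n212872 := ndS (p := 76226) (l := 4) rfl N76226 D212872
theorem N109643 : nd 109643 = n212873 := ndS (p := 76226) (l := 6) rfl N76226 D212873
theorem N109644 : nd 109644 = n212874 := ndS (p := 76229) (l := 6) rfl N76229 D212874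
theorem N109645 : nd 109645 = n212875 := ndS (p := 76230) (l := 7) rfl N76230 D212875
theorem N109646 : nd 109646 = n212876 := ndS (p := 76231) (l := 1) rfl N76231 D212876
theorem N109647 : nd 109647 = n212877 := ndS (p := 76231) (l := 7) rfl N76231 D212877
theorem N109648 : nd 109648 = n212878 := ndS (p := 76232) (l := 4) rfl N76232 D212878
theorem N109649 : nd 109649 = n212879 := ndS (p := 76232) (l := 5) rfl N76232 D212879
theorem N109650 : nd 109650 = n212880 := ndS (p := 76233) (l := 4) rfl N76233 D212880
theorem N109651 : nd 109651 = n212881 := ndS (p := 76233) (l := 6) rfl N76233 D212881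
theorem N109652 : nd 109652 = n212882 := ndS (p := 76235) (l := 2) rfl N76235 D212882
theorem N109653 : nd 109653 = n212883 := ndS (p := 76235) (l := 4) rfl N76235 D212883
theorem N109654 : nd 109654 = n212884 := ndS (p := 76235) (l := 6) rfl N76235 D212884
theorem N109655 : nd 109655 = n212885 := ndS (p := 76236) (l := 5) rfl N76236 D212885
theorem N109656 : nd 109656 = n212886 := ndS (p := 76236) (l := 7) rfl N76236 D212886
theorem N109657 : nd 109657 = n212887 := ndS (p := 76237) (l := 6) rfl N76237 D212887
theorem N109658 : nd 109658 = n212888 := ndS (p := 76240) (l := 6) rfl N76240 D212888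
theorem N109659 : nd 109659 = n212889 := ndS (p := 76242) (l := 4) rfl N76242 D212889
theorem N109660 : nd 109660 = n212890 := ndS (p := 76242) (l := 6) rfl N76242 D212890
theorem N109661 : nd 109661 = n212891 := ndS (p := 76243) (l := 1) rfl N76243 D212891
theorem N109662 : nd 109662 = n212892 := ndS (p := 76248) (l := 5) rfl N76248 D212892
theorem N109663 : nd 109663 = n212893 := ndS (p := 76255) (l := 5) rfl N76255 D212893
theorem N109664 : nd 109664 = n212894 := ndS (p := 76255) (l := 6) rfl N76255 D212894
theorem N109665 : nd 109665 = n212895 := ndS (p := 76258) (l := 6) rfl N76258 D212895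
theorem N109666 : nd 109666 = n212896 := ndS (p := 76261) (l := 5) rfl N76261 D212896
theorem N109667 : nd 109667 = n212897 := ndS (p := 76262) (l := 5) rfl N76262 D212897
theorem N109668 : nd 109668 = n212898 := ndS (p := 76267) (l := 5) rfl N76267 D212898
theorem N109669 : nd 109669 = n212899 := ndS (p := 76268) (l := 3) rfl N76268 D212899
theorem N109670 : nd 109670 = n212900 := ndS (p := 76268) (l := 5) rfl N76268 D212900
theorem N109671 : nd 109671 = n212901 := ndS (p := 76268) (l := 6) rfl N76268 D212901
theorem N109672 : nd 109672 = n212902 := ndS (p := 76269) (l := 0) rfl N76269 D212902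
theorem N109673 : nd 109673 = n212903 := ndS (p := 76269) (l := 4) rfl N76269 D212903
theorem N109674 : nd 109674 = n212904 := ndS (p := 76269) (l := 7) rfl N76269 D212904
theorem N109675 : nd 109675 = n212905 := ndS (p := 76271) (l := 5) rfl N76271 D212905
theorem N109676 : nd 109676 = n212906 := ndS (p := 76272) (l := 4) rfl N76272 D212906
theorem N109677 : nd 109677 = n212907 := ndS (p := 76272) (l := 6) rfl N76272 D212907
theorem N109678 : nd 109678 = n212908 := ndS (p := 76275) (l := 4) rfl N76275 D212908
theorem N109679 : nd 109679 = n212909 := ndS (p := 76276) (l := 5) rfl N76276 D212909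
theorem N109680 : nd 109680 = n212910 := ndS (p := 76277) (l := 6) rfl N76277 D212910
theorem N109681 : nd 109681 = n212911 := ndS (p := 76280) (l := 0) rfl N76280 D212911
theorem N109682 : nd 109682 = n212912 := ndS (p := 76280) (l := 1) rfl N76280 D212912
theorem N109683 : nd 109683 = n212913 := ndS (p := 76280) (l := 7) rfl N76280 D212913
theorem N109684 : nd 109684 = n212914 := ndS (p := 76281) (l := 7) rfl N76281 D212914
theorem N109685 : nd 109685 = n212915 := ndS (p := 76284) (l := 0) rfl N76284 D212915
theorem N109686 : nd 109686 = n212916 := ndS (p := 76288) (l := 6) rfl N76288 D212916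
theorem N109687 : nd 109687 = n212917 := ndS (p := 76289) (l := 5) rfl N76289 D212917
theorem N109688 : nd 109688 = n212918 := ndS (p := 76294) (l := 4) rfl N76294 D212918
theorem N109689 : nd 109689 = n212919 := ndS (p := 76301) (l := 6) rfl N76301 D212919
theorem N109690 : nd 109690 = n212920 := ndS (p := 76306) (l := 6) rfl N76306 D212920
theorem N109691 : nd 109691 = n212921 := ndS (p := 76308) (l := 3) rfl N76308 D212921
theorem N109692 : nd 109692 = n212922 := ndS (p := 76308) (l := 5) rfl N76308 D212922
theorem N109693 : nd 109693 = n212923 := ndS (p := 76309) (l := 6) rfl N76309 D212923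
theorem N109694 : nd 109694 = n212924 := ndS (p := 76316) (l := 0) rfl N76316 D212924
theorem N109695 : nd 109695 = n212925 := ndS (p := 76319) (l := 0) rfl N76319 D212925
theorem N109696 : nd 109696 = n212926 := ndS (p := 76323) (l := 0) rfl N76323 D212926
theorem N109697 : nd 109697 = n212927 := ndS (p := 76323) (l := 2) rfl N76323 D212927
theorem N109698 : nd 109698 = n212928 := ndS (p := 76324) (l := 0) rfl N76324 D212928
theorem N109699 : nd 109699 = n212929 := ndS (p := 76327) (l := 5) rfl N76327 D212929
theorem N109700 : nd 109700 = n212930 := ndS (p := 76328) (l := 3) rfl N76328 D212930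
theorem N109701 : nd 109701 = n212931 := ndS (p := 76329) (l := 0) rfl N76329 D212931
theorem N109702 : nd 109702 = n212932 := ndS (p := 76330) (l := 6) rfl N76330 D212932
theorem N109703 : nd 109703 = n212933 := ndS (p := 76333) (l := 6) rfl N76333 D212933
theorem N109704 : nd 109704 = n212934 := ndS (p := 76334) (l := 5) rfl N76334 D212934
theorem N109705 : nd 109705 = n212935 := ndS (p := 76338) (l := 5) rfl N76338 D212935
theorem N109706 : nd 109706 = n212936 := ndS (p := 76339) (l := 5) rfl N76339 D212936
theorem N109707 : nd 109707 = n212937 := ndS (p := 76339) (l := 6) rfl N76339 D212937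
theorem N109708 : nd 109708 = n212938 := ndS (p := 76340) (l := 5) rfl N76340 D212938
theorem N109709 : nd 109709 = n212939 := ndS (p := 76341) (l := 1) rfl N76341 D212939
theorem N109710 : nd 109710 = n212940 := ndS (p := 76341) (l := 4) rfl N76341 D212940
theorem N109711 : nd 109711 = n212941 := ndS (p := 76341) (l := 7) rfl N76341 D212941
theorem N109712 : nd 109712 = n212942 := ndS (p := 76346) (l := 5) rfl N76346 D212942
theorem N109713 : nd 109713 = n212943 := ndS (p := 76348) (l := 0) rfl N76348 D212943
theorem N109714 : nd 109714 = n212944 := ndS (p := 76348) (l := 1) rfl N76348 D212944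
theorem N109715 : nd 109715 = n212945 := ndS (p := 76348) (l := 7) rfl N76348 D212945
theorem N109716 : nd 109716 = n212946 := ndS (p := 76350) (l := 6) rfl N76350 D212946
theorem N109717 : nd 109717 = n212947 := ndS (p := 76358) (l := 6) rfl N76358 D212947
theorem N109718 : nd 109718 = n212948 := ndS (p := 76359) (l := 3) rfl N76359 D212948
theorem N109719 : nd 109719 = n212949 := ndS (p := 76359) (l := 6) rfl N76359 D212949
theorem N109720 : nd 109720 = n212950 := ndS (p := 76360) (l := 1) rfl N76360 D212950
theorem N109721 : nd 109721 = n212951 := ndS (p := 76362) (l := 6) rfl N76362 D212951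
theorem N109722 : nd 109722 = n212952 := ndS (p := 76365) (l := 4) rfl N76365 D212952
theorem N109723 : nd 109723 = n212953 := ndS (p := 76365) (l := 6) rfl N76365 D212953
theorem N109724 : nd 109724 = n212954 := ndS (p := 76366) (l := 0) rfl N76366 D212954
theorem N109725 : nd 109725 = n212955 := ndS (p := 76366) (l := 3) rfl N76366 D212955
theorem N109726 : nd 109726 = n212956 := ndS (p := 76366) (l := 5) rfl N76366 D212956
theorem N109727 : nd 109727 = n212957 := ndS (p := 76370) (l := 7) rfl N76370 D212957
theorem N109728 : nd 109728 = n212958 := ndS (p := 76375) (l := 1) rfl N76375 D212958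
theorem N109729 : nd 109729 = n212959 := ndS (p := 76376) (l := 0) rfl N76376 D212959
theorem N109730 : nd 109730 = n212960 := ndS (p := 76376) (l := 7) rfl N76376 D212960
theorem N109731 : nd 109731 = n212961 := ndS (p := 76384) (l := 6) rfl N76384 D212961
theorem N109732 : nd 109732 = n212962 := ndS (p := 76387) (l := 1) rfl N76387 D212962
theorem N109733 : nd 109733 = n212963 := ndS (p := 76387) (l := 4) rfl N76387 D212963
theorem N109734 : nd 109734 = n212964 := ndS (p := 76389) (l := 5) rfl N76389 D212964
theorem N109735 : nd 109735 = n212965 := ndS (p := 76397) (l := 1) rfl N76397 D212965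
theorem N109736 : nd 109736 = n212966 := ndS (p := 76397) (l := 7) rfl N76397 D212966
theorem N109737 : nd 109737 = n212967 := ndS (p := 76398) (l := 6) rfl N76398 D212967
theorem N109738 : nd 109738 = n212968 := ndS (p := 76401) (l := 6) rfl N76401 D212968
theorem N109739 : nd 109739 = n212969 := ndS (p := 76403) (l := 6) rfl N76403 D212969
theorem N109740 : nd 109740 = n212970 := ndS (p := 76405) (l := 6) rfl N76405 D212970
theorem N109741 : nd 109741 = n212971 := ndS (p := 76406) (l := 7) rfl N76406 D212971
theorem N109742 : nd 109742 = n212972 := ndS (p := 76408) (l := 1) rfl N76408 D212972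
theorem N109743 : nd 109743 = n212973 := ndS (p := 76408) (l := 7) rfl N76408 D212973
theorem N109744 : nd 109744 = n212974 := ndS (p := 76409) (l := 6) rfl N76409 D212974
theorem N109745 : nd 109745 = n212975 := ndS (p := 76413) (l := 4) rfl N76413 D212975
theorem N109746 : nd 109746 = n212976 := ndS (p := 76413) (l := 6) rfl N76413 D212976
theorem N109747 : nd 109747 = n212977 := ndS (p := 76420) (l := 7) rfl N76420 D212977
theorem N109748 : nd 109748 = n212978 := ndS (p := 76424) (l := 6) rfl N76424 D212978
theorem N109749 : nd 109749 = n212979 := ndS (p := 76438) (l := 6) rfl N76438 D212979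
theorem N109750 : nd 109750 = n212980 := ndS (p := 76453) (l := 0) rfl N76453 D212980
theorem N109751 : nd 109751 = n212981 := ndS (p := 76453) (l := 7) rfl N76453 D212981
theorem N109752 : nd 109752 = n212982 := ndS (p := 76454) (l := 1) rfl N76454 D212982
theorem N109753 : nd 109753 = n212983 := ndS (p := 76454) (l := 2) rfl N76454 D212983
theorem N109754 : nd 109754 = n212984 := ndS (p := 76455) (l := 7) rfl N76455 D212984
theorem N109755 : nd 109755 = n212985 := ndS (p := 76457) (l := 6) rfl N76457 D212985
theorem N109756 : nd 109756 = n212986 := ndS (p := 76460) (l := 6) rfl N76460 D212986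
theorem N109757 : nd 109757 = n212987 := ndS (p := 76462) (l := 5) rfl N76462 D212987
theorem N109758 : nd 109758 = n212988 := ndS (p := 76464) (l := 3) rfl N76464 D212988
theorem N109759 : nd 109759 = n212989 := ndS (p := 76465) (l := 0) rfl N76465 D212989
theorem N109760 : nd 109760 = n212990 := ndS (p := 76465) (l := 1) rfl N76465 D212990
theorem N109761 : nd 109761 = n212991 := ndS (p := 76465) (l := 4) rfl N76465 D212991
theorem N109762 : nd 109762 = n212992 := ndS (p := 76465) (l := 7) rfl N76465 D212992
theorem N109763 : nd 109763 = n212993 := ndS (p := 76467) (l := 5) rfl N76467 D212993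
theorem N109764 : nd 109764 = n212994 := ndS (p := 76470) (l := 5) rfl N76470 D212994
theorem N109765 : nd 109765 = n212995 := ndS (p := 76470) (l := 6) rfl N76470 D212995
theorem N109766 : nd 109766 = n212996 := ndS (p := 76477) (l := 1) rfl N76477 D212996
theorem N109767 : nd 109767 = n212997 := ndS (p := 76477) (l := 5) rfl N76477 D212997
theorem N109768 : nd 109768 = n212998 := ndS (p := 76477) (l := 7) rfl N76477 D212998
theorem N109769 : nd 109769 = n212999 := ndS (p := 76480) (l := 6) rfl N76480 D212999
theorem N109770 : nd 109770 = n213000 := ndS (p := 76485) (l := 6) rfl N76485 D213000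
theorem N109771 : nd 109771 = n213001 := ndS (p := 76488) (l := 3) rfl N76488 D213001
theorem N109772 : nd 109772 = n213002 := ndS (p := 76491) (l := 3) rfl N76491 D213002
theorem N109773 : nd 109773 = n213003 := ndS (p := 76493) (l := 0) rfl N76493 D213003
theorem N109774 : nd 109774 = n213004 := ndS (p := 76493) (l := 7) rfl N76493 D213004
theorem N109775 : nd 109775 = n213005 := ndS (p := 76496) (l := 5) rfl N76496 D213005
theorem N109776 : nd 109776 = n213006 := ndS (p := 76499) (l := 6) rfl N76499 D213006
theorem N109777 : nd 109777 = n213007 := ndS (p := 76500) (l := 4) rfl N76500 D213007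
theorem N109778 : nd 109778 = n213008 := ndS (p := 76500) (l := 6) rfl N76500 D213008
theorem N109779 : nd 109779 = n213009 := ndS (p := 76501) (l := 0) rfl N76501 D213009
theorem N109780 : nd 109780 = n213010 := ndS (p := 76501) (l := 5) rfl N76501 D213010
theorem N109781 : nd 109781 = n213011 := ndS (p := 76501) (l := 7) rfl N76501 D213011
theorem N109782 : nd 109782 = n213012 := ndS (p := 76503) (l := 4) rfl N76503 D213012
theorem N109783 : nd 109783 = n213013 := ndS (p := 76503) (l := 6) rfl N76503 D213013
theorem N109784 : nd 109784 = n213014 := ndS (p := 76504) (l := 4) rfl N76504 D213014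
theorem N109785 : nd 109785 = n213015 := ndS (p := 76504) (l := 6) rfl N76504 D213015
theorem N109786 : nd 109786 = n213016 := ndS (p := 76505) (l := 0) rfl N76505 D213016
theorem N109787 : nd 109787 = n213017 := ndS (p := 76505) (l := 3) rfl N76505 D213017
theorem N109788 : nd 109788 = n213018 := ndS (p := 76507) (l := 5) rfl N76507 D213018
theorem N109789 : nd 109789 = n213019 := ndS (p := 76508) (l := 0) rfl N76508 D213019
theorem N109790 : nd 109790 = n213020 := ndS (p := 76512) (l := 6) rfl N76512 D213020
theorem N109791 : nd 109791 = n213021 := ndS (p := 76515) (l := 6) rfl N76515 D213021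
theorem N109792 : nd 109792 = n213022 := ndS (p := 76523) (l := 4) rfl N76523 D213022
theorem N109793 : nd 109793 = n213023 := ndS (p := 76523) (l := 6) rfl N76523 D213023
theorem N109794 : nd 109794 = n213024 := ndS (p := 76528) (l := 5) rfl N76528 D213024
theorem N109795 : nd 109795 = n213025 := ndS (p := 76531) (l := 6) rfl N76531 D213025
theorem N109796 : nd 109796 = n213026 := ndS (p := 76538) (l := 0) rfl N76538 D213026
theorem N109797 : nd 109797 = n213027 := ndS (p := 76540) (l := 6) rfl N76540 D213027
theorem N109798 : nd 109798 = n213028 := ndS (p := 76544) (l := 4) rfl N76544 D213028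
theorem N109799 : nd 109799 = n213029 := ndS (p := 76545) (l := 1) rfl N76545 D213029
theorem N109800 : nd 109800 = n213030 := ndS (p := 76552) (l := 0) rfl N76552 D213030
theorem N109801 : nd 109801 = n213031 := ndS (p := 76553) (l := 5) rfl N76553 D213031
theorem N109802 : nd 109802 = n213032 := ndS (p := 76556) (l := 5) rfl N76556 D213032
theorem N109803 : nd 109803 = n213033 := ndS (p := 76559) (l := 0) rfl N76559 D213033
theorem N109804 : nd 109804 = n213034 := ndS (p := 76562) (l := 4) rfl N76562 D213034
theorem N109805 : nd 109805 = n213035 := ndS (p := 76566) (l := 4) rfl N76566 D213035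
theorem N109806 : nd 109806 = n213036 := ndS (p := 76567) (l := 4) rfl N76567 D213036
theorem N109807 : nd 109807 = n213037 := ndS (p := 76568) (l := 4) rfl N76568 D213037
theorem N109808 : nd 109808 = n213038 := ndS (p := 76571) (l := 4) rfl N76571 D213038
theorem N109809 : nd 109809 = n213039 := ndS (p := 76573) (l := 4) rfl N76573 D213039
theorem N109810 : nd 109810 = n213040 := ndS (p := 76576) (l := 6) rfl N76576 D213040
theorem N109811 : nd 109811 = n213041 := ndS (p := 76577) (l := 5) rfl N76577 D213041
theorem N109812 : nd 109812 = n213042 := ndS (p := 76578) (l := 5) rfl N76578 D213042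
theorem N109813 : nd 109813 = n213043 := ndS (p := 76578) (l := 6) rfl N76578 D213043
theorem N109814 : nd 109814 = n213044 := ndS (p := 76579) (l := 7) rfl N76579 D213044
theorem N109815 : nd 109815 = n213045 := ndS (p := 76580) (l := 5) rfl N76580 D213045
theorem N109816 : nd 109816 = n213046 := ndS (p := 76581) (l := 3) rfl N76581 D213046
theorem N109817 : nd 109817 = n213047 := ndS (p := 76581) (l := 5) rfl N76581 D213047
theorem N109818 : nd 109818 = n213048 := ndS (p := 76582) (l := 5) rfl N76582 D213048
theorem N109819 : nd 109819 = n213049 := ndS (p := 76583) (l := 5) rfl N76583 D213049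
theorem N109820 : nd 109820 = n213050 := ndS (p := 76584) (l := 6) rfl N76584 D213050
theorem N109821 : nd 109821 = n213051 := ndS (p := 76587) (l := 5) rfl N76587 D213051
theorem N109822 : nd 109822 = n213052 := ndS (p := 76593) (l := 5) rfl N76593 D213052
theorem N109823 : nd 109823 = n213053 := ndS (p := 76598) (l := 5) rfl N76598 D213053
theorem N109824 : nd 109824 = n213054 := ndS (p := 76599) (l := 6) rfl N76599 D213054
theorem N109825 : nd 109825 = n213055 := ndS (p := 76601) (l := 5) rfl N76601 D213055
theorem N109826 : nd 109826 = n213056 := ndS (p := 76603) (l := 6) rfl N76603 D213056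
theorem N109827 : nd 109827 = n213057 := ndS (p := 76604) (l := 0) rfl N76604 D213057
theorem N109828 : nd 109828 = n213058 := ndS (p := 76604) (l := 1) rfl N76604 D213058
theorem N109829 : nd 109829 = n213059 := ndS (p := 76604) (l := 5) rfl N76604 D213059
theorem N109830 : nd 109830 = n213060 := ndS (p := 76605) (l := 6) rfl N76605 D213060
theorem N109831 : nd 109831 = n213061 := ndS (p := 76606) (l := 5) rfl N76606 D213061
theorem N109832 : nd 109832 = n213062 := ndS (p := 76608) (l := 3) rfl N76608 D213062
theorem N109833 : nd 109833 = n213063 := ndS (p := 76608) (l := 5) rfl N76608 D213063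
theorem N109834 : nd 109834 = n213064 := ndS (p := 76609) (l := 3) rfl N76609 D213064
theorem N109835 : nd 109835 = n213065 := ndS (p := 76609) (l := 5) rfl N76609 D213065
theorem N109836 : nd 109836 = n213066 := ndS (p := 76610) (l := 6) rfl N76610 D213066
theorem N109837 : nd 109837 = n213067 := ndS (p := 76612) (l := 3) rfl N76612 D213067
theorem N109838 : nd 109838 = n213068 := ndS (p := 76612) (l := 6) rfl N76612 D213068
theorem N109839 : nd 109839 = n213069 := ndS (p := 76614) (l := 0) rfl N76614 D213069
theorem N109840 : nd 109840 = n213070 := ndS (p := 76614) (l := 7) rfl N76614 D213070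
theorem N109841 : nd 109841 = n213071 := ndS (p := 76615) (l := 6) rfl N76615 D213071
theorem N109842 : nd 109842 = n213072 := ndS (p := 76618) (l := 5) rfl N76618 D213072
theorem N109843 : nd 109843 = n213073 := ndS (p := 76619) (l := 4) rfl N76619 D213073
theorem N109844 : nd 109844 = n213074 := ndS (p := 76623) (l := 4) rfl N76623 D213074
theorem N109845 : nd 109845 = n213075 := ndS (p := 76624) (l := 4) rfl N76624 D213075
theorem N109846 : nd 109846 = n213076 := ndS (p := 76628) (l := 1) rfl N76628 D213076
theorem N109847 : nd 109847 = n213077 := ndS (p := 76629) (l := 6) rfl N76629 D213077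
theorem N109848 : nd 109848 = n213078 := ndS (p := 76646) (l := 4) rfl N76646 D213078
theorem N109849 : nd 109849 = n213079 := ndS (p := 76649) (l := 1) rfl N76649 D213079
theorem N109850 : nd 109850 = n213080 := ndS (p := 76649) (l := 5) rfl N76649 D213080
theorem N109851 : nd 109851 = n213081 := ndS (p := 76649) (l := 7) rfl N76649 D213081
theorem N109852 : nd 109852 = n213082 := ndS (p := 76650) (l := 0) rfl N76650 D213082
theorem N109853 : nd 109853 = n213083 := ndS (p := 76651) (l := 5) rfl N76651 D213083
theorem N109854 : nd 109854 = n213084 := ndS (p := 76652) (l := 0) rfl N76652 D213084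
theorem N109855 : nd 109855 = n213085 := ndS (p := 76652) (l := 7) rfl N76652 D213085
theorem N109856 : nd 109856 = n213086 := ndS (p := 76656) (l := 6) rfl N76656 D213086
theorem N109857 : nd 109857 = n213087 := ndS (p := 76658) (l := 4) rfl N76658 D213087
theorem N109858 : nd 109858 = n213088 := ndS (p := 76658) (l := 6) rfl N76658 D213088
theorem N109859 : nd 109859 = n213089 := ndS (p := 76660) (l := 0) rfl N76660 D213089
theorem N109860 : nd 109860 = n213090 := ndS (p := 76660) (l := 1) rfl N76660 D213090
theorem N109861 : nd 109861 = n213091 := ndS (p := 76664) (l := 5) rfl N76664 D213091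
theorem N109862 : nd 109862 = n213092 := ndS (p := 76666) (l := 4) rfl N76666 D213092
theorem N109863 : nd 109863 = n213093 := ndS (p := 76669) (l := 1) rfl N76669 D213093
theorem N109864 : nd 109864 = n213094 := ndS (p := 76671) (l := 5) rfl N76671 D213094
theorem N109865 : nd 109865 = n213095 := ndS (p := 76674) (l := 6) rfl N76674 D213095
theorem N109866 : nd 109866 = n213096 := ndS (p := 76675) (l := 4) rfl N76675 D213096
theorem N109867 : nd 109867 = n213097 := ndS (p := 76675) (l := 6) rfl N76675 D213097
theorem N109868 : nd 109868 = n213098 := ndS (p := 76679) (l := 0) rfl N76679 D213098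
theorem N109869 : nd 109869 = n213099 := ndS (p := 76680) (l := 5) rfl N76680 D213099
theorem N109870 : nd 109870 = n213100 := ndS (p := 76681) (l := 3) rfl N76681 D213100
theorem N109871 : nd 109871 = n213101 := ndS (p := 76681) (l := 5) rfl N76681 D213101
theorem N109872 : nd 109872 = n213102 := ndS (p := 76681) (l := 6) rfl N76681 D213102
theorem N109873 : nd 109873 = n213103 := ndS (p := 76682) (l := 0) rfl N76682 D213103
theorem N109874 : nd 109874 = n213104 := ndS (p := 76682) (l := 2) rfl N76682 D213104
theorem N109875 : nd 109875 = n213105 := ndS (p := 76682) (l := 5) rfl N76682 D213105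
theorem N109876 : nd 109876 = n213106 := ndS (p := 76682) (l := 6) rfl N76682 D213106
theorem N109877 : nd 109877 = n213107 := ndS (p := 76683) (l := 0) rfl N76683 D213107
theorem N109878 : nd 109878 = n213108 := ndS (p := 76683) (l := 1) rfl N76683 D213108
theorem N109879 : nd 109879 = n213109 := ndS (p := 76683) (l := 6) rfl N76683 D213109
theorem N109880 : nd 109880 = n213110 := ndS (p := 76684) (l := 0) rfl N76684 D213110
theorem N109881 : nd 109881 = n213111 := ndS (p := 76684) (l := 1) rfl N76684 D213111
theorem N109882 : nd 109882 = n213112 := ndS (p := 76684) (l := 5) rfl N76684 D213112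
theorem N109883 : nd 109883 = n213113 := ndS (p := 76684) (l := 7) rfl N76684 D213113
theorem N109884 : nd 109884 = n213114 := ndS (p := 76685) (l := 6) rfl N76685 D213114
theorem N109885 : nd 109885 = n213115 := ndS (p := 76688) (l := 5) rfl N76688 D213115
theorem N109886 : nd 109886 = n213116 := ndS (p := 76689) (l := 6) rfl N76689 D213116
theorem N109887 : nd 109887 = n213117 := ndS (p := 76692) (l := 6) rfl N76692 D213117
theorem N109888 : nd 109888 = n213118 := ndS (p := 76695) (l := 3) rfl N76695 D213118
theorem N109889 : nd 109889 = n213119 := ndS (p := 76697) (l := 6) rfl N76697 D213119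
theorem N109890 : nd 109890 = n213120 := ndS (p := 76698) (l := 1) rfl N76698 D213120
theorem N109891 : nd 109891 = n213122 := ndS (p := 76699) (l := 5) rfl N76699 D213122
theorem N109892 : nd 109892 = n213123 := ndS (p := 76709) (l := 0) rfl N76709 D213123
theorem N109893 : nd 109893 = n213124 := ndS (p := 76709) (l := 1) rfl N76709 D213124
theorem N109894 : nd 109894 = n213125 := ndS (p := 76711) (l := 0) rfl N76711 D213125
theorem N109895 : nd 109895 = n213126 := ndS (p := 76711) (l := 5) rfl N76711 D213126
theorem N109896 : nd 109896 = n213127 := ndS (p := 76715) (l := 5) rfl N76715 D213127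
theorem N109897 : nd 109897 = n213128 := ndS (p := 76716) (l := 6) rfl N76716 D213128
theorem N109898 : nd 109898 = n213129 := ndS (p := 76717) (l := 6) rfl N76717 D213129
theorem N109899 : nd 109899 = n213130 := ndS (p := 76718) (l := 0) rfl N76718 D213130
theorem N109900 : nd 109900 = n213131 := ndS (p := 76718) (l := 7) rfl N76718 D213131
theorem N109901 : nd 109901 = n213132 := ndS (p := 76720) (l := 3) rfl N76720 D213132
theorem N109902 : nd 109902 = n213133 := ndS (p := 76720) (l := 5) rfl N76720 D213133
theorem N109903 : nd 109903 = n213134 := ndS (p := 76724) (l := 0) rfl N76724 D213134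
theorem N109904 : nd 109904 = n213135 := ndS (p := 76724) (l := 5) rfl N76724 D213135
theorem N109905 : nd 109905 = n213136 := ndS (p := 76736) (l := 4) rfl N76736 D213136
theorem N109906 : nd 109906 = n213137 := ndS (p := 76738) (l := 4) rfl N76738 D213137
theorem N109907 : nd 109907 = n213138 := ndS (p := 76738) (l := 6) rfl N76738 D213138
theorem N109908 : nd 109908 = n213139 := ndS (p := 76739) (l := 1) rfl N76739 D213139
theorem N109909 : nd 109909 = n213140 := ndS (p := 76739) (l := 3) rfl N76739 D213140
theorem N109910 : nd 109910 = n213141 := ndS (p := 76739) (l := 7) rfl N76739 D213141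
theorem N109911 : nd 109911 = n213142 := ndS (p := 76740) (l := 6) rfl N76740 D213142
theorem N109912 : nd 109912 = n213143 := ndS (p := 76745) (l := 4) rfl N76745 D213143
theorem N109913 : nd 109913 = n213144 := ndS (p := 76752) (l := 5) rfl N76752 D213144
theorem N109914 : nd 109914 = n213145 := ndS (p := 76753) (l := 1) rfl N76753 D213145
theorem N109915 : nd 109915 = n213146 := ndS (p := 76753) (l := 4) rfl N76753 D213146
theorem N109916 : nd 109916 = n213147 := ndS (p := 76767) (l := 1) rfl N76767 D213147
theorem N109917 : nd 109917 = n213148 := ndS (p := 76767) (l := 4) rfl N76767 D213148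
theorem N109918 : nd 109918 = n213149 := ndS (p := 76770) (l := 3) rfl N76770 D213149
theorem N109919 : nd 109919 = n213150 := ndS (p := 76774) (l := 5) rfl N76774 D213150
theorem N109920 : nd 109920 = n213151 := ndS (p := 76774) (l := 6) rfl N76774 D213151
theorem N109921 : nd 109921 = n213152 := ndS (p := 76776) (l := 3) rfl N76776 D213152
theorem N109922 : nd 109922 = n213153 := ndS (p := 76778) (l := 5) rfl N76778 D213153
theorem N109923 : nd 109923 = n213154 := ndS (p := 76779) (l := 0) rfl N76779 D213154
theorem N109924 : nd 109924 = n213155 := ndS (p := 76779) (l := 1) rfl N76779 D213155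
theorem N109925 : nd 109925 = n213156 := ndS (p := 76781) (l := 4) rfl N76781 D213156
theorem N109926 : nd 109926 = n213157 := ndS (p := 76782) (l := 5) rfl N76782 D213157
theorem N109927 : nd 109927 = n213158 := ndS (p := 76787) (l := 0) rfl N76787 D213158
theorem N109928 : nd 109928 = n213159 := ndS (p := 76787) (l := 5) rfl N76787 D213159
theorem N109929 : nd 109929 = n213160 := ndS (p := 76788) (l := 6) rfl N76788 D213160
theorem N109930 : nd 109930 = n213161 := ndS (p := 76790) (l := 3) rfl N76790 D213161
theorem N109931 : nd 109931 = n213162 := ndS (p := 76790) (l := 6) rfl N76790 D213162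
theorem N109932 : nd 109932 = n213163 := ndS (p := 76792) (l := 1) rfl N76792 D213163
theorem N109933 : nd 109933 = n213164 := ndS (p := 76792) (l := 5) rfl N76792 D213164
theorem N109934 : nd 109934 = n213165 := ndS (p := 76793) (l := 5) rfl N76793 D213165
theorem N109935 : nd 109935 = n213166 := ndS (p := 76794) (l := 6) rfl N76794 D213166
theorem N109936 : nd 109936 = n213167 := ndS (p := 76802) (l := 0) rfl N76802 D213167
theorem N109937 : nd 109937 = n213168 := ndS (p := 76802) (l := 1) rfl N76802 D213168
theorem N109938 : nd 109938 = n213169 := ndS (p := 76807) (l := 0) rfl N76807 D213169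
theorem N109939 : nd 109939 = n213170 := ndS (p := 76807) (l := 1) rfl N76807 D213170
theorem N109940 : nd 109940 = n213171 := ndS (p := 76810) (l := 3) rfl N76810 D213171
theorem N109941 : nd 109941 = n213172 := ndS (p := 76810) (l := 4) rfl N76810 D213172
theorem N109942 : nd 109942 = n213173 := ndS (p := 76810) (l := 5) rfl N76810 D213173
theorem N109943 : nd 109943 = n213174 := ndS (p := 76811) (l := 5) rfl N76811 D213174
theorem N109944 : nd 109944 = n213175 := ndS (p := 76812) (l := 5) rfl N76812 D213175
theorem N109945 : nd 109945 = n213176 := ndS (p := 76812) (l := 6) rfl N76812 D213176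
theorem N109946 : nd 109946 = n213177 := ndS (p := 76813) (l := 0) rfl N76813 D213177
theorem N109947 : nd 109947 = n213178 := ndS (p := 76813) (l := 4) rfl N76813 D213178
theorem N109948 : nd 109948 = n213179 := ndS (p := 76813) (l := 6) rfl N76813 D213179
theorem N109949 : nd 109949 = n213180 := ndS (p := 76814) (l := 1) rfl N76814 D213180
theorem N109950 : nd 109950 = n213181 := ndS (p := 76814) (l := 7) rfl N76814 D213181
theorem N109951 : nd 109951 = n213182 := ndS (p := 76815) (l := 0) rfl N76815 D213182
theorem N109952 : nd 109952 = n213183 := ndS (p := 76815) (l := 1) rfl N76815 D213183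
theorem N109953 : nd 109953 = n213184 := ndS (p := 76815) (l := 5) rfl N76815 D213184
theorem N109954 : nd 109954 = n213185 := ndS (p := 76815) (l := 7) rfl N76815 D213185
theorem N109955 : nd 109955 = n213186 := ndS (p := 76816) (l := 3) rfl N76816 D213186
theorem N109956 : nd 109956 = n213187 := ndS (p := 76816) (l := 5) rfl N76816 D213187
theorem N109957 : nd 109957 = n213188 := ndS (p := 76817) (l := 5) rfl N76817 D213188
theorem N109958 : nd 109958 = n213189 := ndS (p := 76818) (l := 0) rfl N76818 D213189
theorem N109959 : nd 109959 = n213190 := ndS (p := 76818) (l := 1) rfl N76818 D213190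
theorem N109960 : nd 109960 = n213191 := ndS (p := 76818) (l := 4) rfl N76818 D213191
theorem N109961 : nd 109961 = n213192 := ndS (p := 76818) (l := 7) rfl N76818 D213192
theorem N109962 : nd 109962 = n213193 := ndS (p := 76820) (l := 3) rfl N76820 D213193
theorem N109963 : nd 109963 = n213194 := ndS (p := 76820) (l := 5) rfl N76820 D213194
theorem N109964 : nd 109964 = n213195 := ndS (p := 76821) (l := 6) rfl N76821 D213195
theorem N109965 : nd 109965 = n213196 := ndS (p := 76825) (l := 3) rfl N76825 D213196
theorem N109966 : nd 109966 = n213197 := ndS (p := 76826) (l := 5) rfl N76826 D213197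
theorem N109967 : nd 109967 = n213198 := ndS (p := 76827) (l := 1) rfl N76827 D213198
theorem N109968 : nd 109968 = n213199 := ndS (p := 76827) (l := 4) rfl N76827 D213199
theorem N109969 : nd 109969 = n213200 := ndS (p := 76827) (l := 6) rfl N76827 D213200
theorem N109970 : nd 109970 = n213201 := ndS (p := 76829) (l := 3) rfl N76829 D213201
theorem N109971 : nd 109971 = n213202 := ndS (p := 76829) (l := 6) rfl N76829 D213202
theorem N109972 : nd 109972 = n213203 := ndS (p := 76830) (l := 3) rfl N76830 D213203
theorem N109973 : nd 109973 = n213204 := ndS (p := 76830) (l := 6) rfl N76830 D213204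
theorem N109974 : nd 109974 = n213205 := ndS (p := 76835) (l := 5) rfl N76835 D213205
theorem N109975 : nd 109975 = n213206 := ndS (p := 76836) (l := 0) rfl N76836 D213206
theorem N109976 : nd 109976 = n213207 := ndS (p := 76836) (l := 4) rfl N76836 D213207
theorem N109977 : nd 109977 = n213208 := ndS (p := 76836) (l := 6) rfl N76836 D213208
theorem N109978 : nd 109978 = n213210 := ndS (p := 76837) (l := 1) rfl N76837 D213210
theorem N109979 : nd 109979 = n213211 := ndS (p := 76837) (l := 7) rfl N76837 D213211
theorem N109980 : nd 109980 = n213212 := ndS (p := 76839) (l := 5) rfl N76839 D213212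
theorem N109981 : nd 109981 = n213213 := ndS (p := 76840) (l := 0) rfl N76840 D213213
theorem N109982 : nd 109982 = n213214 := ndS (p := 76840) (l := 1) rfl N76840 D213214
theorem N109983 : nd 109983 = n213215 := ndS (p := 76840) (l := 4) rfl N76840 D213215
theorem N109984 : nd 109984 = n213216 := ndS (p := 76840) (l := 6) rfl N76840 D213216
theorem N109985 : nd 109985 = n213217 := ndS (p := 76843) (l := 3) rfl N76843 D213217
theorem N109986 : nd 109986 = n213218 := ndS (p := 76843) (l := 6) rfl N76843 D213218
theorem N109987 : nd 109987 = n213219 := ndS (p := 76844) (l := 6) rfl N76844 D213219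
theorem N109988 : nd 109988 = n213220 := ndS (p := 76847) (l := 3) rfl N76847 D213220
theorem N109989 : nd 109989 = n213221 := ndS (p := 76847) (l := 5) rfl N76847 D213221
theorem N109990 : nd 109990 = n213222 := ndS (p := 76848) (l := 5) rfl N76848 D213222
theorem N109991 : nd 109991 = n213223 := ndS (p := 76848) (l := 6) rfl N76848 D213223
theorem N109992 : nd 109992 = n213224 := ndS (p := 76849) (l := 5) rfl N76849 D213224
theorem N109993 : nd 109993 = n213225 := ndS (p := 76850) (l := 0) rfl N76850 D213225
theorem N109994 : nd 109994 = n213226 := ndS (p := 76850) (l := 1) rfl N76850 D213226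
theorem N109995 : nd 109995 = n213227 := ndS (p := 76850) (l := 6) rfl N76850 D213227
theorem N109996 : nd 109996 = n213228 := ndS (p := 76851) (l := 0) rfl N76851 D213228
theorem N109997 : nd 109997 = n213229 := ndS (p := 76851) (l := 1) rfl N76851 D213229
theorem N109998 : nd 109998 = n213230 := ndS (p := 76851) (l := 7) rfl N76851 D213230
theorem N109999 : nd 109999 = n213231 := ndS (p := 76852) (l := 2) rfl N76852 D213231
theorem N110000 : nd 110000 = n213232 := ndS (p := 76852) (l := 4) rfl N76852 D213232

end Cfsg.Agent.Helper17.ONTC
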