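import Cfsg.Agent.Helper17.ONTC.Fin11

set_option autoImplicit false
set_option linter.all false
set_option maxRecDepth 100000

noncomputable section

namespace Cfsg.Agent.Helper17.ONTC

theorem N110001 : nd 110001 = n213233 := ndS (p := 76852) (l := 6) rfl N76852 D213233
theorem N110002 : nd 110002 = n213234 := ndS (p := 76853) (l := 1) rfl N76853 D213234
theorem N110003 : nd 110003 = n213235 := ndS (p := 76853) (l := 7) rfl N76853 D213235
theorem N110004 : nd 110004 = n213237 := ndS (p := 76854) (l := 2) rfl N76854 D213237
theorem N110005 : nd 110005 = n213238 := ndS (p := 76854) (l := 4) rfl N76854 D213238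
theorem N110006 : nd 110006 = n213239 := ndS (p := 76854) (l := 6) rfl N76854 D213239
theorem N110007 : nd 110007 = n213240 := ndS (p := 76855) (l := 0) rfl N76855 D213240
theorem N110008 : nd 110008 = n213241 := ndS (p := 76855) (l := 1) rfl N76855 D213241
theorem N110009 : nd 110009 = n213242 := ndS (p := 76855) (l := 5) rfl N76855 D213242
theorem N110010 : nd 110010 = n213243 := ndS (p := 76855) (l := 7) rfl N76855 D213243
theorem N110011 : nd 110011 = n213244 := ndS (p := 76856) (l := 1) rfl N76856 D213244
theorem N110012 : nd 110012 = n213245 := ndS (p := 76856) (l := 2) rfl N76856 D213245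
theorem N110013 : nd 110013 = n213246 := ndS (p := 76856) (l := 6) rfl N76856 D213246
theorem N110014 : nd 110014 = n213247 := ndS (p := 76857) (l := 0) rfl N76857 D213247
theorem N110015 : nd 110015 = n213248 := ndS (p := 76857) (l := 7) rfl N76857 D213248
theorem N110016 : nd 110016 = n213251 := ndS (p := 76858) (l := 4) rfl N76858 D213251
theorem N110017 : nd 110017 = n213253 := ndS (p := 76858) (l := 6) rfl N76858 D213253
theorem N110018 : nd 110018 = n213255 := ndS (p := 76859) (l := 3) rfl N76859 D213255
theorem N110019 : nd 110019 = n213256 := ndS (p := 76860) (l := 6) rfl N76860 D213256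
theorem N110020 : nd 110020 = n213257 := ndS (p := 76861) (l := 1) rfl N76861 D213257
theorem N110021 : nd 110021 = n213258 := ndS (p := 76863) (l := 3) rfl N76863 D213258
theorem N110022 : nd 110022 = n213259 := ndS (p := 76865) (l := 5) rfl N76865 D213259
theorem N110023 : nd 110023 = n213260 := ndS (p := 76866) (l := 5) rfl N76866 D213260
theorem N110024 : nd 110024 = n213261 := ndS (p := 76867) (l := 3) rfl N76867 D213261
theorem N110025 : nd 110025 = n213262 := ndS (p := 76867) (l := 5) rfl N76867 D213262
theorem N110026 : nd 110026 = n213263 := ndS (p := 76868) (l := 4) rfl N76868 D213263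
theorem N110027 : nd 110027 = n213264 := ndS (p := 76870) (l := 6) rfl N76870 D213264
theorem N110028 : nd 110028 = n213265 := ndS (p := 76871) (l := 6) rfl N76871 D213265
theorem N110029 : nd 110029 = n213266 := ndS (p := 76872) (l := 1) rfl N76872 D213266
theorem N110030 : nd 110030 = n213267 := ndS (p := 76872) (l := 3) rfl N76872 D213267
theorem N110031 : nd 110031 = n213268 := ndS (p := 76876) (l := 3) rfl N76876 D213268
theorem N110032 : nd 110032 = n213269 := ndS (p := 76882) (l := 3) rfl N76882 D213269
theorem N110033 : nd 110033 = n213270 := ndS (p := 76885) (l := 6) rfl N76885 D213270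
theorem N110034 : nd 110034 = n213271 := ndS (p := 76887) (l := 3) rfl N76887 D213271
theorem N110035 : nd 110035 = n213272 := ndS (p := 76887) (l := 6) rfl N76887 D213272
theorem N110036 : nd 110036 = n213273 := ndS (p := 76890) (l := 4) rfl N76890 D213273
theorem N110037 : nd 110037 = n213274 := ndS (p := 76891) (l := 4) rfl N76891 D213274
theorem N110038 : nd 110038 = n213275 := ndS (p := 76891) (l := 6) rfl N76891 D213275
theorem N110039 : nd 110039 = n213276 := ndS (p := 76892) (l := 5) rfl N76892 D213276
theorem N110040 : nd 110040 = n213277 := ndS (p := 76893) (l := 1) rfl N76893 D213277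
theorem N110041 : nd 110041 = n213278 := ndS (p := 76894) (l := 0) rfl N76894 D213278
theorem N110042 : nd 110042 = n213279 := ndS (p := 76894) (l := 7) rfl N76894 D213279
theorem N110043 : nd 110043 = n213280 := ndS (p := 76899) (l := 6) rfl N76899 D213280
theorem N110044 : nd 110044 = n213281 := ndS (p := 76909) (l := 0) rfl N76909 D213281
theorem N110045 : nd 110045 = n213282 := ndS (p := 76912) (l := 6) rfl N76912 D213282
theorem N110046 : nd 110046 = n213283 := ndS (p := 76916) (l := 1) rfl N76916 D213283
theorem N110047 : nd 110047 = n213284 := ndS (p := 76916) (l := 4) rfl N76916 D213284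
theorem N110048 : nd 110048 = n213285 := ndS (p := 76919) (l := 0) rfl N76919 D213285
theorem N110049 : nd 110049 = n213286 := ndS (p := 76919) (l := 7) rfl N76919 D213286
theorem N110050 : nd 110050 = n213287 := ndS (p := 76921) (l := 3) rfl N76921 D213287
theorem N110051 : nd 110051 = n213288 := ndS (p := 76924) (l := 5) rfl N76924 D213288
theorem N110052 : nd 110052 = n213289 := ndS (p := 76925) (l := 5) rfl N76925 D213289
theorem N110053 : nd 110053 = n213290 := ndS (p := 76927) (l := 4) rfl N76927 D213290
theorem N110054 : nd 110054 = n213291 := ndS (p := 76928) (l := 6) rfl N76928 D213291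
theorem N110055 : nd 110055 = n213292 := ndS (p := 76929) (l := 6) rfl N76929 D213292
theorem N110056 : nd 110056 = n213293 := ndS (p := 76931) (l := 6) rfl N76931 D213293
theorem N110057 : nd 110057 = n213294 := ndS (p := 76933) (l := 3) rfl N76933 D213294
theorem N110058 : nd 110058 = n213295 := ndS (p := 76937) (l := 5) rfl N76937 D213295
theorem N110059 : nd 110059 = n213296 := ndS (p := 76941) (l := 5) rfl N76941 D213296
theorem N110060 : nd 110060 = n213297 := ndS (p := 76952) (l := 1) rfl N76952 D213297
theorem N110061 : nd 110061 = n213298 := ndS (p := 76958) (l := 1) rfl N76958 D213298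
theorem N110062 : nd 110062 = n213299 := ndS (p := 76960) (l := 5) rfl N76960 D213299
theorem N110063 : nd 110063 = n213300 := ndS (p := 76960) (l := 6) rfl N76960 D213300
theorem N110064 : nd 110064 = n213301 := ndS (p := 76961) (l := 5) rfl N76961 D213301
theorem N110065 : nd 110065 = n213302 := ndS (p := 76962) (l := 0) rfl N76962 D213302
theorem N110066 : nd 110066 = n213303 := ndS (p := 76962) (l := 1) rfl N76962 D213303
theorem N110067 : nd 110067 = n213304 := ndS (p := 76962) (l := 4) rfl N76962 D213304
theorem N110068 : nd 110068 = n213305 := ndS (p := 76963) (l := 5) rfl N76963 D213305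
theorem N110069 : nd 110069 = n213306 := ndS (p := 76964) (l := 1) rfl N76964 D213306
theorem N110070 : nd 110070 = n213307 := ndS (p := 76964) (l := 4) rfl N76964 D213307
theorem N110071 : nd 110071 = n213308 := ndS (p := 76964) (l := 6) rfl N76964 D213308
theorem N110072 : nd 110072 = n213309 := ndS (p := 76967) (l := 3) rfl N76967 D213309
theorem N110073 : nd 110073 = n213310 := ndS (p := 76967) (l := 6) rfl N76967 D213310
theorem N110074 : nd 110074 = n213311 := ndS (p := 76969) (l := 1) rfl N76969 D213311
theorem N110075 : nd 110075 = n213312 := ndS (p := 76969) (l := 3) rfl N76969 D213312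
theorem N110076 : nd 110076 = n213313 := ndS (p := 76970) (l := 3) rfl N76970 D213313
theorem N110077 : nd 110077 = n213314 := ndS (p := 76972) (l := 0) rfl N76972 D213314
theorem N110078 : nd 110078 = n213315 := ndS (p := 76972) (l := 1) rfl N76972 D213315
theorem N110079 : nd 110079 = n213316 := ndS (p := 76973) (l := 1) rfl N76973 D213316
theorem N110080 : nd 110080 = n213317 := ndS (p := 76974) (l := 5) rfl N76974 D213317
theorem N110081 : nd 110081 = n213318 := ndS (p := 76982) (l := 3) rfl N76982 D213318
theorem N110082 : nd 110082 = n213319 := ndS (p := 76982) (l := 5) rfl N76982 D213319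
theorem N110083 : nd 110083 = n213320 := ndS (p := 76982) (l := 7) rfl N76982 D213320
theorem N110084 : nd 110084 = n213321 := ndS (p := 76984) (l := 1) rfl N76984 D213321
theorem N110085 : nd 110085 = n213322 := ndS (p := 76984) (l := 2) rfl N76984 D213322
theorem N110086 : nd 110086 = n213323 := ndS (p := 76984) (l := 5) rfl N76984 D213323
theorem N110087 : nd 110087 = n213324 := ndS (p := 76985) (l := 6) rfl N76985 D213324
theorem N110088 : nd 110088 = n213325 := ndS (p := 76987) (l := 5) rfl N76987 D213325
theorem N110089 : nd 110089 = n213326 := ndS (p := 76988) (l := 5) rfl N76988 D213326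
theorem N110090 : nd 110090 = n213327 := ndS (p := 76989) (l := 6) rfl N76989 D213327
theorem N110091 : nd 110091 = n213328 := ndS (p := 76990) (l := 5) rfl N76990 D213328
theorem N110092 : nd 110092 = n213329 := ndS (p := 76991) (l := 0) rfl N76991 D213329
theorem N110093 : nd 110093 = n213330 := ndS (p := 76991) (l := 1) rfl N76991 D213330
theorem N110094 : nd 110094 = n213331 := ndS (p := 76991) (l := 4) rfl N76991 D213331
theorem N110095 : nd 110095 = n213332 := ndS (p := 76994) (l := 1) rfl N76994 D213332
theorem N110096 : nd 110096 = n213333 := ndS (p := 76994) (l := 4) rfl N76994 D213333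
theorem N110097 : nd 110097 = n213334 := ndS (p := 76994) (l := 6) rfl N76994 D213334
theorem N110098 : nd 110098 = n213335 := ndS (p := 76995) (l := 4) rfl N76995 D213335
theorem N110099 : nd 110099 = n213336 := ndS (p := 76997) (l := 4) rfl N76997 D213336
theorem N110100 : nd 110100 = n213337 := ndS (p := 76997) (l := 6) rfl N76997 D213337
theorem N110101 : nd 110101 = n213338 := ndS (p := 76998) (l := 4) rfl N76998 D213338
theorem N110102 : nd 110102 = n213339 := ndS (p := 76999) (l := 5) rfl N76999 D213339
theorem N110103 : nd 110103 = n213340 := ndS (p := 76999) (l := 7) rfl N76999 D213340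
theorem N110104 : nd 110104 = n213341 := ndS (p := 77000) (l := 6) rfl N77000 D213341
theorem N110105 : nd 110105 = n213342 := ndS (p := 77005) (l := 3) rfl N77005 D213342
theorem N110106 : nd 110106 = n213343 := ndS (p := 77005) (l := 5) rfl N77005 D213343
theorem N110107 : nd 110107 = n213344 := ndS (p := 77006) (l := 5) rfl N77006 D213344
theorem N110108 : nd 110108 = n213345 := ndS (p := 77007) (l := 0) rfl N77007 D213345
theorem N110109 : nd 110109 = n213346 := ndS (p := 77007) (l := 1) rfl N77007 D213346
theorem N110110 : nd 110110 = n213347 := ndS (p := 77007) (l := 2) rfl N77007 D213347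
theorem N110111 : nd 110111 = n213348 := ndS (p := 77007) (l := 5) rfl N77007 D213348
theorem N110112 : nd 110112 = n213349 := ndS (p := 77007) (l := 7) rfl N77007 D213349
theorem N110113 : nd 110113 = n213350 := ndS (p := 77008) (l := 1) rfl N77008 D213350
theorem N110114 : nd 110114 = n213351 := ndS (p := 77008) (l := 4) rfl N77008 D213351
theorem N110115 : nd 110115 = n213352 := ndS (p := 77008) (l := 7) rfl N77008 D213352
theorem N110116 : nd 110116 = n213353 := ndS (p := 77009) (l := 6) rfl N77009 D213353
theorem N110117 : nd 110117 = n213354 := ndS (p := 77011) (l := 4) rfl N77011 D213354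
theorem N110118 : nd 110118 = n213355 := ndS (p := 77011) (l := 6) rfl N77011 D213355
theorem N110119 : nd 110119 = n213356 := ndS (p := 77012) (l := 5) rfl N77012 D213356
theorem N110120 : nd 110120 = n213357 := ndS (p := 77013) (l := 5) rfl N77013 D213357
theorem N110121 : nd 110121 = n213358 := ndS (p := 77014) (l := 5) rfl N77014 D213358
theorem N110122 : nd 110122 = n213359 := ndS (p := 77015) (l := 0) rfl N77015 D213359
theorem N110123 : nd 110123 = n213360 := ndS (p := 77015) (l := 1) rfl N77015 D213360
theorem N110124 : nd 110124 = n213361 := ndS (p := 77015) (l := 4) rfl N77015 D213361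
theorem N110125 : nd 110125 = n213362 := ndS (p := 77015) (l := 6) rfl N77015 D213362
theorem N110126 : nd 110126 = n213363 := ndS (p := 77015) (l := 7) rfl N77015 D213363
theorem N110127 : nd 110127 = n213364 := ndS (p := 77016) (l := 6) rfl N77016 D213364
theorem N110128 : nd 110128 = n213365 := ndS (p := 77017) (l := 3) rfl N77017 D213365
theorem N110129 : nd 110129 = n213366 := ndS (p := 77017) (l := 6) rfl N77017 D213366
theorem N110130 : nd 110130 = n213367 := ndS (p := 77018) (l := 6) rfl N77018 D213367
theorem N110131 : nd 110131 = n213369 := ndS (p := 77019) (l := 7) rfl N77019 D213369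
theorem N110132 : nd 110132 = n213370 := ndS (p := 77025) (l := 6) rfl N77025 D213370
theorem N110133 : nd 110133 = n213371 := ndS (p := 77026) (l := 4) rfl N77026 D213371
theorem N110134 : nd 110134 = n213372 := ndS (p := 77032) (l := 5) rfl N77032 D213372
theorem N110135 : nd 110135 = n213373 := ndS (p := 77033) (l := 3) rfl N77033 D213373
theorem N110136 : nd 110136 = n213374 := ndS (p := 77038) (l := 6) rfl N77038 D213374
theorem N110137 : nd 110137 = n213375 := ndS (p := 77039) (l := 6) rfl N77039 D213375
theorem N110138 : nd 110138 = n213376 := ndS (p := 77042) (l := 0) rfl N77042 D213376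
theorem N110139 : nd 110139 = n213377 := ndS (p := 77042) (l := 1) rfl N77042 D213377
theorem N110140 : nd 110140 = n213378 := ndS (p := 77046) (l := 4) rfl N77046 D213378
theorem N110141 : nd 110141 = n213379 := ndS (p := 77046) (l := 6) rfl N77046 D213379
theorem N110142 : nd 110142 = n213380 := ndS (p := 77048) (l := 4) rfl N77048 D213380
theorem N110143 : nd 110143 = n213381 := ndS (p := 77048) (l := 6) rfl N77048 D213381
theorem N110144 : nd 110144 = n213382 := ndS (p := 77049) (l := 3) rfl N77049 D213382
theorem N110145 : nd 110145 = n213383 := ndS (p := 77050) (l := 5) rfl N77050 D213383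
theorem N110146 : nd 110146 = n213384 := ndS (p := 77052) (l := 0) rfl N77052 D213384
theorem N110147 : nd 110147 = n213385 := ndS (p := 77052) (l := 1) rfl N77052 D213385
theorem N110148 : nd 110148 = n213386 := ndS (p := 77052) (l := 4) rfl N77052 D213386
theorem N110149 : nd 110149 = n213387 := ndS (p := 77052) (l := 6) rfl N77052 D213387
theorem N110150 : nd 110150 = n213388 := ndS (p := 77055) (l := 4) rfl N77055 D213388
theorem N110151 : nd 110151 = n213389 := ndS (p := 77055) (l := 6) rfl N77055 D213389
theorem N110152 : nd 110152 = n213390 := ndS (p := 77056) (l := 3) rfl N77056 D213390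
theorem N110153 : nd 110153 = n213391 := ndS (p := 77056) (l := 5) rfl N77056 D213391
theorem N110154 : nd 110154 = n213392 := ndS (p := 77057) (l := 3) rfl N77057 D213392
theorem N110155 : nd 110155 = n213393 := ndS (p := 77057) (l := 6) rfl N77057 D213393
theorem N110156 : nd 110156 = n213394 := ndS (p := 77058) (l := 3) rfl N77058 D213394
theorem N110157 : nd 110157 = n213395 := ndS (p := 77058) (l := 7) rfl N77058 D213395
theorem N110158 : nd 110158 = n213396 := ndS (p := 77061) (l := 3) rfl N77061 D213396
theorem N110159 : nd 110159 = n213397 := ndS (p := 77062) (l := 6) rfl N77062 D213397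
theorem N110160 : nd 110160 = n213398 := ndS (p := 77063) (l := 1) rfl N77063 D213398
theorem N110161 : nd 110161 = n213399 := ndS (p := 77063) (l := 5) rfl N77063 D213399
theorem N110162 : nd 110162 = n213400 := ndS (p := 77063) (l := 6) rfl N77063 D213400
theorem N110163 : nd 110163 = n213401 := ndS (p := 77064) (l := 0) rfl N77064 D213401
theorem N110164 : nd 110164 = n213402 := ndS (p := 77064) (l := 7) rfl N77064 D213402
theorem N110165 : nd 110165 = n213403 := ndS (p := 77066) (l := 0) rfl N77066 D213403
theorem N110166 : nd 110166 = n213404 := ndS (p := 77066) (l := 6) rfl N77066 D213404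
theorem N110167 : nd 110167 = n213405 := ndS (p := 77070) (l := 3) rfl N77070 D213405
theorem N110168 : nd 110168 = n213406 := ndS (p := 77070) (l := 6) rfl N77070 D213406
theorem N110169 : nd 110169 = n213407 := ndS (p := 77071) (l := 0) rfl N77071 D213407
theorem N110170 : nd 110170 = n213408 := ndS (p := 77071) (l := 1) rfl N77071 D213408
theorem N110171 : nd 110171 = n213409 := ndS (p := 77072) (l := 6) rfl N77072 D213409
theorem N110172 : nd 110172 = n213410 := ndS (p := 77073) (l := 3) rfl N77073 D213410
theorem N110173 : nd 110173 = n213411 := ndS (p := 77074) (l := 7) rfl N77074 D213411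
theorem N110174 : nd 110174 = n213412 := ndS (p := 77076) (l := 3) rfl N77076 D213412
theorem N110175 : nd 110175 = n213413 := ndS (p := 77077) (l := 0) rfl N77077 D213413
theorem N110176 : nd 110176 = n213414 := ndS (p := 77077) (l := 1) rfl N77077 D213414
theorem N110177 : nd 110177 = n213415 := ndS (p := 77077) (l := 2) rfl N77077 D213415
theorem N110178 : nd 110178 = n213416 := ndS (p := 77077) (l := 5) rfl N77077 D213416
theorem N110179 : nd 110179 = n213417 := ndS (p := 77077) (l := 7) rfl N77077 D213417
theorem N110180 : nd 110180 = n213418 := ndS (p := 77080) (l := 4) rfl N77080 D213418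
theorem N110181 : nd 110181 = n213419 := ndS (p := 77080) (l := 6) rfl N77080 D213419
theorem N110182 : nd 110182 = n213420 := ndS (p := 77082) (l := 3) rfl N77082 D213420
theorem N110183 : nd 110183 = n213421 := ndS (p := 77086) (l := 5) rfl N77086 D213421
theorem N110184 : nd 110184 = n213422 := ndS (p := 77088) (l := 1) rfl N77088 D213422
theorem N110185 : nd 110185 = n213423 := ndS (p := 77088) (l := 2) rfl N77088 D213423
theorem N110186 : nd 110186 = n213424 := ndS (p := 77090) (l := 1) rfl N77090 D213424
theorem N110187 : nd 110187 = n213425 := ndS (p := 77095) (l := 3) rfl N77095 D213425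
theorem N110188 : nd 110188 = n213426 := ndS (p := 77095) (l := 6) rfl N77095 D213426
theorem N110189 : nd 110189 = n213427 := ndS (p := 77096) (l := 6) rfl N77096 D213427
theorem N110190 : nd 110190 = n213428 := ndS (p := 77097) (l := 0) rfl N77097 D213428
theorem N110191 : nd 110191 = n213429 := ndS (p := 77100) (l := 5) rfl N77100 D213429
theorem N110192 : nd 110192 = n213430 := ndS (p := 77101) (l := 0) rfl N77101 D213430
theorem N110193 : nd 110193 = n213431 := ndS (p := 77101) (l := 7) rfl N77101 D213431
theorem N110194 : nd 110194 = n213432 := ndS (p := 77102) (l := 3) rfl N77102 D213432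
theorem N110195 : nd 110195 = n213433 := ndS (p := 77103) (l := 3) rfl N77103 D213433
theorem N110196 : nd 110196 = n213434 := ndS (p := 77103) (l := 5) rfl N77103 D213434
theorem N110197 : nd 110197 = n213435 := ndS (p := 77104) (l := 4) rfl N77104 D213435
theorem N110198 : nd 110198 = n213436 := ndS (p := 77106) (l := 0) rfl N77106 D213436
theorem N110199 : nd 110199 = n213437 := ndS (p := 77108) (l := 3) rfl N77108 D213437
theorem N110200 : nd 110200 = n213438 := ndS (p := 77108) (l := 5) rfl N77108 D213438
theorem N110201 : nd 110201 = n213439 := ndS (p := 77111) (l := 5) rfl N77111 D213439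
theorem N110202 : nd 110202 = n213440 := ndS (p := 77112) (l := 1) rfl N77112 D213440
theorem N110203 : nd 110203 = n213441 := ndS (p := 77112) (l := 4) rfl N77112 D213441
theorem N110204 : nd 110204 = n213442 := ndS (p := 77114) (l := 5) rfl N77114 D213442
theorem N110205 : nd 110205 = n213443 := ndS (p := 77116) (l := 0) rfl N77116 D213443
theorem N110206 : nd 110206 = n213444 := ndS (p := 77117) (l := 4) rfl N77117 D213444
theorem N110207 : nd 110207 = n213445 := ndS (p := 77118) (l := 5) rfl N77118 D213445
theorem N110208 : nd 110208 = n213446 := ndS (p := 77119) (l := 4) rfl N77119 D213446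
theorem N110209 : nd 110209 = n213447 := ndS (p := 77121) (l := 3) rfl N77121 D213447
theorem N110210 : nd 110210 = n213448 := ndS (p := 77121) (l := 5) rfl N77121 D213448
theorem N110211 : nd 110211 = n213449 := ndS (p := 77121) (l := 7) rfl N77121 D213449
theorem N110212 : nd 110212 = n213450 := ndS (p := 77124) (l := 2) rfl N77124 D213450
theorem N110213 : nd 110213 = n213451 := ndS (p := 77124) (l := 4) rfl N77124 D213451
theorem N110214 : nd 110214 = n213452 := ndS (p := 77127) (l := 1) rfl N77127 D213452
theorem N110215 : nd 110215 = n213453 := ndS (p := 77127) (l := 5) rfl N77127 D213453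
theorem N110216 : nd 110216 = n213454 := ndS (p := 77127) (l := 7) rfl N77127 D213454
theorem N110217 : nd 110217 = n213455 := ndS (p := 77128) (l := 0) rfl N77128 D213455
theorem N110218 : nd 110218 = n213456 := ndS (p := 77128) (l := 1) rfl N77128 D213456
theorem N110219 : nd 110219 = n213457 := ndS (p := 77129) (l := 4) rfl N77129 D213457
theorem N110220 : nd 110220 = n213458 := ndS (p := 77131) (l := 0) rfl N77131 D213458
theorem N110221 : nd 110221 = n213459 := ndS (p := 77131) (l := 1) rfl N77131 D213459
theorem N110222 : nd 110222 = n213460 := ndS (p := 77132) (l := 3) rfl N77132 D213460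
theorem N110223 : nd 110223 = n213461 := ndS (p := 77133) (l := 0) rfl N77133 D213461
theorem N110224 : nd 110224 = n213462 := ndS (p := 77136) (l := 5) rfl N77136 D213462
theorem N110225 : nd 110225 = n213463 := ndS (p := 77137) (l := 4) rfl N77137 D213463
theorem N110226 : nd 110226 = n213464 := ndS (p := 77137) (l := 5) rfl N77137 D213464
theorem N110227 : nd 110227 = n213465 := ndS (p := 77138) (l := 0) rfl N77138 D213465
theorem N110228 : nd 110228 = n213466 := ndS (p := 77138) (l := 1) rfl N77138 D213466
theorem N110229 : nd 110229 = n213467 := ndS (p := 77138) (l := 4) rfl N77138 D213467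
theorem N110230 : nd 110230 = n213468 := ndS (p := 77138) (l := 7) rfl N77138 D213468
theorem N110231 : nd 110231 = n213469 := ndS (p := 77140) (l := 4) rfl N77140 D213469
theorem N110232 : nd 110232 = n213470 := ndS (p := 77141) (l := 5) rfl N77141 D213470
theorem N110233 : nd 110233 = n213471 := ndS (p := 77142) (l := 4) rfl N77142 D213471
theorem N110234 : nd 110234 = n213472 := ndS (p := 77143) (l := 4) rfl N77143 D213472
theorem N110235 : nd 110235 = n213473 := ndS (p := 77145) (l := 0) rfl N77145 D213473
theorem N110236 : nd 110236 = n213474 := ndS (p := 77145) (l := 1) rfl N77145 D213474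
theorem N110237 : nd 110237 = n213475 := ndS (p := 77145) (l := 3) rfl N77145 D213475
theorem N110238 : nd 110238 = n213476 := ndS (p := 77145) (l := 5) rfl N77145 D213476
theorem N110239 : nd 110239 = n213477 := ndS (p := 77147) (l := 4) rfl N77147 D213477
theorem N110240 : nd 110240 = n213478 := ndS (p := 77147) (l := 6) rfl N77147 D213478
theorem N110241 : nd 110241 = n213479 := ndS (p := 77150) (l := 4) rfl N77150 D213479
theorem N110242 : nd 110242 = n213480 := ndS (p := 77151) (l := 3) rfl N77151 D213480
theorem N110243 : nd 110243 = n213481 := ndS (p := 77152) (l := 4) rfl N77152 D213481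
theorem N110244 : nd 110244 = n213482 := ndS (p := 77152) (l := 6) rfl N77152 D213482
theorem N110245 : nd 110245 = n213483 := ndS (p := 77155) (l := 4) rfl N77155 D213483
theorem N110246 : nd 110246 = n213484 := ndS (p := 77156) (l := 3) rfl N77156 D213484
theorem N110247 : nd 110247 = n213485 := ndS (p := 77156) (l := 6) rfl N77156 D213485
theorem N110248 : nd 110248 = n213486 := ndS (p := 77158) (l := 4) rfl N77158 D213486
theorem N110249 : nd 110249 = n213487 := ndS (p := 77159) (l := 3) rfl N77159 D213487
theorem N110250 : nd 110250 = n213488 := ndS (p := 77162) (l := 3) rfl N77162 D213488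
theorem N110251 : nd 110251 = n213489 := ndS (p := 77171) (l := 5) rfl N77171 D213489
theorem N110252 : nd 110252 = n213490 := ndS (p := 77182) (l := 1) rfl N77182 D213490
theorem N110253 : nd 110253 = n213491 := ndS (p := 77185) (l := 0) rfl N77185 D213491
theorem N110254 : nd 110254 = n213492 := ndS (p := 77186) (l := 4) rfl N77186 D213492
theorem N110255 : nd 110255 = n213493 := ndS (p := 77189) (l := 7) rfl N77189 D213493
theorem N110256 : nd 110256 = n213494 := ndS (p := 77194) (l := 3) rfl N77194 D213494
theorem N110257 : nd 110257 = n213495 := ndS (p := 77194) (l := 5) rfl N77194 D213495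
theorem N110258 : nd 110258 = n213496 := ndS (p := 77198) (l := 3) rfl N77198 D213496
theorem N110259 : nd 110259 = n213497 := ndS (p := 77201) (l := 4) rfl N77201 D213497
theorem N110260 : nd 110260 = n213498 := ndS (p := 77204) (l := 0) rfl N77204 D213498
theorem N110261 : nd 110261 = n213499 := ndS (p := 77204) (l := 7) rfl N77204 D213499
theorem N110262 : nd 110262 = n213500 := ndS (p := 77207) (l := 6) rfl N77207 D213500
theorem N110263 : nd 110263 = n213501 := ndS (p := 77213) (l := 5) rfl N77213 D213501
theorem N110264 : nd 110264 = n213502 := ndS (p := 77214) (l := 3) rfl N77214 D213502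
theorem N110265 : nd 110265 = n213503 := ndS (p := 77214) (l := 5) rfl N77214 D213503
theorem N110266 : nd 110266 = n213504 := ndS (p := 77215) (l := 5) rfl N77215 D213504
theorem N110267 : nd 110267 = n213505 := ndS (p := 77218) (l := 5) rfl N77218 D213505
theorem N110268 : nd 110268 = n213506 := ndS (p := 77218) (l := 6) rfl N77218 D213506
theorem N110269 : nd 110269 = n213507 := ndS (p := 77220) (l := 1) rfl N77220 D213507
theorem N110270 : nd 110270 = n213508 := ndS (p := 77220) (l := 4) rfl N77220 D213508
theorem N110271 : nd 110271 = n213509 := ndS (p := 77221) (l := 6) rfl N77221 D213509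
theorem N110272 : nd 110272 = n213510 := ndS (p := 77224) (l := 1) rfl N77224 D213510
theorem N110273 : nd 110273 = n213511 := ndS (p := 77224) (l := 7) rfl N77224 D213511
theorem N110274 : nd 110274 = n213512 := ndS (p := 77226) (l := 5) rfl N77226 D213512
theorem N110275 : nd 110275 = n213513 := ndS (p := 77226) (l := 7) rfl N77226 D213513
theorem N110276 : nd 110276 = n213514 := ndS (p := 77227) (l := 6) rfl N77227 D213514
theorem N110277 : nd 110277 = n213515 := ndS (p := 77231) (l := 3) rfl N77231 D213515
theorem N110278 : nd 110278 = n213516 := ndS (p := 77231) (l := 6) rfl N77231 D213516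
theorem N110279 : nd 110279 = n213517 := ndS (p := 77233) (l := 6) rfl N77233 D213517
theorem N110280 : nd 110280 = n213518 := ndS (p := 77234) (l := 5) rfl N77234 D213518
theorem N110281 : nd 110281 = n213519 := ndS (p := 77235) (l := 0) rfl N77235 D213519
theorem N110282 : nd 110282 = n213520 := ndS (p := 77235) (l := 2) rfl N77235 D213520
theorem N110283 : nd 110283 = n213521 := ndS (p := 77235) (l := 7) rfl N77235 D213521
theorem N110284 : nd 110284 = n213522 := ndS (p := 77238) (l := 0) rfl N77238 D213522
theorem N110285 : nd 110285 = n213523 := ndS (p := 77238) (l := 1) rfl N77238 D213523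
theorem N110286 : nd 110286 = n213524 := ndS (p := 77240) (l := 3) rfl N77240 D213524
theorem N110287 : nd 110287 = n213525 := ndS (p := 77240) (l := 5) rfl N77240 D213525
theorem N110288 : nd 110288 = n213526 := ndS (p := 77245) (l := 3) rfl N77245 D213526
theorem N110289 : nd 110289 = n213527 := ndS (p := 77247) (l := 5) rfl N77247 D213527
theorem N110290 : nd 110290 = n213528 := ndS (p := 77248) (l := 0) rfl N77248 D213528
theorem N110291 : nd 110291 = n213529 := ndS (p := 77259) (l := 4) rfl N77259 D213529
theorem N110292 : nd 110292 = n213530 := ndS (p := 77262) (l := 5) rfl N77262 D213530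
theorem N110293 : nd 110293 = n213531 := ndS (p := 77264) (l := 3) rfl N77264 D213531
theorem N110294 : nd 110294 = n213532 := ndS (p := 77264) (l := 6) rfl N77264 D213532
theorem N110295 : nd 110295 = n213533 := ndS (p := 77269) (l := 4) rfl N77269 D213533
theorem N110296 : nd 110296 = n213534 := ndS (p := 77269) (l := 6) rfl N77269 D213534
theorem N110297 : nd 110297 = n213535 := ndS (p := 77270) (l := 6) rfl N77270 D213535
theorem N110298 : nd 110298 = n213536 := ndS (p := 77271) (l := 1) rfl N77271 D213536
theorem N110299 : nd 110299 = n213537 := ndS (p := 77271) (l := 5) rfl N77271 D213537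
theorem N110300 : nd 110300 = n213538 := ndS (p := 77271) (l := 7) rfl N77271 D213538
theorem N110301 : nd 110301 = n213539 := ndS (p := 77274) (l := 0) rfl N77274 D213539
theorem N110302 : nd 110302 = n213540 := ndS (p := 77274) (l := 1) rfl N77274 D213540
theorem N110303 : nd 110303 = n213541 := ndS (p := 77277) (l := 4) rfl N77277 D213541
theorem N110304 : nd 110304 = n213542 := ndS (p := 77286) (l := 7) rfl N77286 D213542
theorem N110305 : nd 110305 = n213543 := ndS (p := 77289) (l := 6) rfl N77289 D213543
theorem N110306 : nd 110306 = n213544 := ndS (p := 77292) (l := 0) rfl N77292 D213544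
theorem N110307 : nd 110307 = n213545 := ndS (p := 77292) (l := 5) rfl N77292 D213545
theorem N110308 : nd 110308 = n213546 := ndS (p := 77292) (l := 7) rfl N77292 D213546
theorem N110309 : nd 110309 = n213547 := ndS (p := 77296) (l := 1) rfl N77296 D213547
theorem N110310 : nd 110310 = n213548 := ndS (p := 77296) (l := 7) rfl N77296 D213548
theorem N110311 : nd 110311 = n213549 := ndS (p := 77297) (l := 7) rfl N77297 D213549
theorem N110312 : nd 110312 = n213550 := ndS (p := 77298) (l := 6) rfl N77298 D213550
theorem N110313 : nd 110313 = n213551 := ndS (p := 77302) (l := 6) rfl N77302 D213551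
theorem N110314 : nd 110314 = n213552 := ndS (p := 77303) (l := 0) rfl N77303 D213552
theorem N110315 : nd 110315 = n213553 := ndS (p := 77303) (l := 1) rfl N77303 D213553
theorem N110316 : nd 110316 = n213554 := ndS (p := 77305) (l := 6) rfl N77305 D213554
theorem N110317 : nd 110317 = n213555 := ndS (p := 77311) (l := 6) rfl N77311 D213555
theorem N110318 : nd 110318 = n213556 := ndS (p := 77312) (l := 4) rfl N77312 D213556
theorem N110319 : nd 110319 = n213557 := ndS (p := 77312) (l := 7) rfl N77312 D213557
theorem N110320 : nd 110320 = n213558 := ndS (p := 77314) (l := 6) rfl N77314 D213558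
theorem N110321 : nd 110321 = n213559 := ndS (p := 77316) (l := 5) rfl N77316 D213559
theorem N110322 : nd 110322 = n213560 := ndS (p := 77317) (l := 6) rfl N77317 D213560
theorem N110323 : nd 110323 = n213561 := ndS (p := 77319) (l := 1) rfl N77319 D213561
theorem N110324 : nd 110324 = n213562 := ndS (p := 77321) (l := 6) rfl N77321 D213562
theorem N110325 : nd 110325 = n213563 := ndS (p := 77323) (l := 6) rfl N77323 D213563
theorem N110326 : nd 110326 = n213564 := ndS (p := 77329) (l := 0) rfl N77329 D213564
theorem N110327 : nd 110327 = n213565 := ndS (p := 77329) (l := 1) rfl N77329 D213565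
theorem N110328 : nd 110328 = n213566 := ndS (p := 77329) (l := 4) rfl N77329 D213566
theorem N110329 : nd 110329 = n213567 := ndS (p := 77330) (l := 5) rfl N77330 D213567
theorem N110330 : nd 110330 = n213568 := ndS (p := 77331) (l := 4) rfl N77331 D213568
theorem N110331 : nd 110331 = n213569 := ndS (p := 77331) (l := 6) rfl N77331 D213569
theorem N110332 : nd 110332 = n213570 := ndS (p := 77332) (l := 5) rfl N77332 D213570
theorem N110333 : nd 110333 = n213571 := ndS (p := 77334) (l := 3) rfl N77334 D213571
theorem N110334 : nd 110334 = n213572 := ndS (p := 77338) (l := 6) rfl N77338 D213572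
theorem N110335 : nd 110335 = n213573 := ndS (p := 77342) (l := 0) rfl N77342 D213573
theorem N110336 : nd 110336 = n213574 := ndS (p := 77345) (l := 6) rfl N77345 D213574
theorem N110337 : nd 110337 = n213575 := ndS (p := 77346) (l := 0) rfl N77346 D213575
theorem N110338 : nd 110338 = n213576 := ndS (p := 77346) (l := 5) rfl N77346 D213576
theorem N110339 : nd 110339 = n213577 := ndS (p := 77348) (l := 0) rfl N77348 D213577
theorem N110340 : nd 110340 = n213578 := ndS (p := 77350) (l := 3) rfl N77350 D213578
theorem N110341 : nd 110341 = n213579 := ndS (p := 77351) (l := 6) rfl N77351 D213579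
theorem N110342 : nd 110342 = n213580 := ndS (p := 77352) (l := 0) rfl N77352 D213580
theorem N110343 : nd 110343 = n213581 := ndS (p := 77352) (l := 1) rfl N77352 D213581
theorem N110344 : nd 110344 = n213582 := ndS (p := 77352) (l := 7) rfl N77352 D213582
theorem N110345 : nd 110345 = n213583 := ndS (p := 77353) (l := 5) rfl N77353 D213583
theorem N110346 : nd 110346 = n213584 := ndS (p := 77354) (l := 4) rfl N77354 D213584
theorem N110347 : nd 110347 = n213585 := ndS (p := 77356) (l := 5) rfl N77356 D213585
theorem N110348 : nd 110348 = n213586 := ndS (p := 77357) (l := 1) rfl N77357 D213586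
theorem N110349 : nd 110349 = n213587 := ndS (p := 77361) (l := 4) rfl N77361 D213587
theorem N110350 : nd 110350 = n213588 := ndS (p := 77362) (l := 1) rfl N77362 D213588
theorem N110351 : nd 110351 = n213589 := ndS (p := 77365) (l := 3) rfl N77365 D213589
theorem N110352 : nd 110352 = n213590 := ndS (p := 77365) (l := 6) rfl N77365 D213590
theorem N110353 : nd 110353 = n213591 := ndS (p := 77369) (l := 1) rfl N77369 D213591
theorem N110354 : nd 110354 = n213592 := ndS (p := 77369) (l := 7) rfl N77369 D213592
theorem N110355 : nd 110355 = n213593 := ndS (p := 77371) (l := 6) rfl N77371 D213593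
theorem N110356 : nd 110356 = n213594 := ndS (p := 77376) (l := 4) rfl N77376 D213594
theorem N110357 : nd 110357 = n213595 := ndS (p := 77379) (l := 3) rfl N77379 D213595
theorem N110358 : nd 110358 = n213596 := ndS (p := 77380) (l := 3) rfl N77380 D213596
theorem N110359 : nd 110359 = n213597 := ndS (p := 77381) (l := 0) rfl N77381 D213597
theorem N110360 : nd 110360 = n213598 := ndS (p := 77381) (l := 1) rfl N77381 D213598
theorem N110361 : nd 110361 = n213599 := ndS (p := 77382) (l := 5) rfl N77382 D213599
theorem N110362 : nd 110362 = n213600 := ndS (p := 77383) (l := 5) rfl N77383 D213600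
theorem N110363 : nd 110363 = n213601 := ndS (p := 77384) (l := 6) rfl N77384 D213601
theorem N110364 : nd 110364 = n213602 := ndS (p := 77386) (l := 6) rfl N77386 D213602
theorem N110365 : nd 110365 = n213603 := ndS (p := 77387) (l := 1) rfl N77387 D213603
theorem N110366 : nd 110366 = n213604 := ndS (p := 77388) (l := 1) rfl N77388 D213604
theorem N110367 : nd 110367 = n213605 := ndS (p := 77388) (l := 2) rfl N77388 D213605
theorem N110368 : nd 110368 = n213606 := ndS (p := 77389) (l := 3) rfl N77389 D213606
theorem N110369 : nd 110369 = n213607 := ndS (p := 77391) (l := 3) rfl N77391 D213607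
theorem N110370 : nd 110370 = n213608 := ndS (p := 77391) (l := 6) rfl N77391 D213608
theorem N110371 : nd 110371 = n213609 := ndS (p := 77392) (l := 3) rfl N77392 D213609
theorem N110372 : nd 110372 = n213610 := ndS (p := 77396) (l := 1) rfl N77396 D213610
theorem N110373 : nd 110373 = n213611 := ndS (p := 77397) (l := 7) rfl N77397 D213611
theorem N110374 : nd 110374 = n213612 := ndS (p := 77398) (l := 0) rfl N77398 D213612
theorem N110375 : nd 110375 = n213613 := ndS (p := 77398) (l := 1) rfl N77398 D213613
theorem N110376 : nd 110376 = n213614 := ndS (p := 77398) (l := 2) rfl N77398 D213614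
theorem N110377 : nd 110377 = n213615 := ndS (p := 77398) (l := 6) rfl N77398 D213615
theorem N110378 : nd 110378 = n213616 := ndS (p := 77400) (l := 1) rfl N77400 D213616
theorem N110379 : nd 110379 = n213617 := ndS (p := 77400) (l := 7) rfl N77400 D213617
theorem N110380 : nd 110380 = n213618 := ndS (p := 77402) (l := 0) rfl N77402 D213618
theorem N110381 : nd 110381 = n213619 := ndS (p := 77402) (l := 1) rfl N77402 D213619
theorem N110382 : nd 110382 = n213620 := ndS (p := 77402) (l := 2) rfl N77402 D213620
theorem N110383 : nd 110383 = n213621 := ndS (p := 77403) (l := 1) rfl N77403 D213621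
theorem N110384 : nd 110384 = n213622 := ndS (p := 77403) (l := 2) rfl N77403 D213622
theorem N110385 : nd 110385 = n213623 := ndS (p := 77404) (l := 0) rfl N77404 D213623
theorem N110386 : nd 110386 = n213624 := ndS (p := 77404) (l := 2) rfl N77404 D213624
theorem N110387 : nd 110387 = n213625 := ndS (p := 77404) (l := 3) rfl N77404 D213625
theorem N110388 : nd 110388 = n213626 := ndS (p := 77404) (l := 4) rfl N77404 D213626
theorem N110389 : nd 110389 = n213627 := ndS (p := 77404) (l := 7) rfl N77404 D213627
theorem N110390 : nd 110390 = n213628 := ndS (p := 77405) (l := 3) rfl N77405 D213628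
theorem N110391 : nd 110391 = n213629 := ndS (p := 77405) (l := 4) rfl N77405 D213629
theorem N110392 : nd 110392 = n213630 := ndS (p := 77405) (l := 6) rfl N77405 D213630
theorem N110393 : nd 110393 = n213631 := ndS (p := 77407) (l := 1) rfl N77407 D213631
theorem N110394 : nd 110394 = n213632 := ndS (p := 77408) (l := 6) rfl N77408 D213632
theorem N110395 : nd 110395 = n213633 := ndS (p := 77411) (l := 4) rfl N77411 D213633
theorem N110396 : nd 110396 = n213634 := ndS (p := 77416) (l := 0) rfl N77416 D213634
theorem N110397 : nd 110397 = n213635 := ndS (p := 77416) (l := 7) rfl N77416 D213635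
theorem N110398 : nd 110398 = n213636 := ndS (p := 77418) (l := 4) rfl N77418 D213636
theorem N110399 : nd 110399 = n213637 := ndS (p := 77418) (l := 6) rfl N77418 D213637
theorem N110400 : nd 110400 = n213638 := ndS (p := 77419) (l := 3) rfl N77419 D213638
theorem N110401 : nd 110401 = n213639 := ndS (p := 77419) (l := 6) rfl N77419 D213639
theorem N110402 : nd 110402 = n213640 := ndS (p := 77422) (l := 6) rfl N77422 D213640
theorem N110403 : nd 110403 = n213641 := ndS (p := 77423) (l := 5) rfl N77423 D213641
theorem N110404 : nd 110404 = n213642 := ndS (p := 77424) (l := 4) rfl N77424 D213642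
theorem N110405 : nd 110405 = n213644 := ndS (p := 77425) (l := 3) rfl N77425 D213644
theorem N110406 : nd 110406 = n213645 := ndS (p := 77425) (l := 5) rfl N77425 D213645
theorem N110407 : nd 110407 = n213646 := ndS (p := 77426) (l := 3) rfl N77426 D213646
theorem N110408 : nd 110408 = n213647 := ndS (p := 77426) (l := 6) rfl N77426 D213647
theorem N110409 : nd 110409 = n213648 := ndS (p := 77427) (l := 1) rfl N77427 D213648
theorem N110410 : nd 110410 = n213649 := ndS (p := 77428) (l := 1) rfl N77428 D213649
theorem N110411 : nd 110411 = n213650 := ndS (p := 77429) (l := 4) rfl N77429 D213650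
theorem N110412 : nd 110412 = n213651 := ndS (p := 77432) (l := 1) rfl N77432 D213651
theorem N110413 : nd 110413 = n213652 := ndS (p := 77432) (l := 2) rfl N77432 D213652
theorem N110414 : nd 110414 = n213653 := ndS (p := 77432) (l := 6) rfl N77432 D213653
theorem N110415 : nd 110415 = n213654 := ndS (p := 77433) (l := 5) rfl N77433 D213654
theorem N110416 : nd 110416 = n213655 := ndS (p := 77434) (l := 3) rfl N77434 D213655
theorem N110417 : nd 110417 = n213656 := ndS (p := 77434) (l := 5) rfl N77434 D213656
theorem N110418 : nd 110418 = n213657 := ndS (p := 77434) (l := 6) rfl N77434 D213657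
theorem N110419 : nd 110419 = n213658 := ndS (p := 77439) (l := 0) rfl N77439 D213658
theorem N110420 : nd 110420 = n213659 := ndS (p := 77443) (l := 6) rfl N77443 D213659
theorem N110421 : nd 110421 = n213660 := ndS (p := 77448) (l := 4) rfl N77448 D213660
theorem N110422 : nd 110422 = n213661 := ndS (p := 77449) (l := 1) rfl N77449 D213661
theorem N110423 : nd 110423 = n213662 := ndS (p := 77452) (l := 5) rfl N77452 D213662
theorem N110424 : nd 110424 = n213663 := ndS (p := 77453) (l := 5) rfl N77453 D213663
theorem N110425 : nd 110425 = n213664 := ndS (p := 77454) (l := 1) rfl N77454 D213664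
theorem N110426 : nd 110426 = n213665 := ndS (p := 77458) (l := 4) rfl N77458 D213665
theorem N110427 : nd 110427 = n213666 := ndS (p := 77458) (l := 6) rfl N77458 D213666
theorem N110428 : nd 110428 = n213667 := ndS (p := 77459) (l := 5) rfl N77459 D213667
theorem N110429 : nd 110429 = n213668 := ndS (p := 77460) (l := 4) rfl N77460 D213668
theorem N110430 : nd 110430 = n213669 := ndS (p := 77465) (l := 3) rfl N77465 D213669
theorem N110431 : nd 110431 = n213670 := ndS (p := 77466) (l := 5) rfl N77466 D213670
theorem N110432 : nd 110432 = n213671 := ndS (p := 77467) (l := 6) rfl N77467 D213671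
theorem N110433 : nd 110433 = n213672 := ndS (p := 77468) (l := 1) rfl N77468 D213672
theorem N110434 : nd 110434 = n213673 := ndS (p := 77468) (l := 7) rfl N77468 D213673
theorem N110435 : nd 110435 = n213674 := ndS (p := 77469) (l := 6) rfl N77469 D213674
theorem N110436 : nd 110436 = n213675 := ndS (p := 77471) (l := 3) rfl N77471 D213675
theorem N110437 : nd 110437 = n213676 := ndS (p := 77477) (l := 4) rfl N77477 D213676
theorem N110438 : nd 110438 = n213677 := ndS (p := 77477) (l := 5) rfl N77477 D213677
theorem N110439 : nd 110439 = n213678 := ndS (p := 77478) (l := 5) rfl N77478 D213678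
theorem N110440 : nd 110440 = n213679 := ndS (p := 77479) (l := 6) rfl N77479 D213679
theorem N110441 : nd 110441 = n213680 := ndS (p := 77480) (l := 0) rfl N77480 D213680
theorem N110442 : nd 110442 = n213681 := ndS (p := 77480) (l := 1) rfl N77480 D213681
theorem N110443 : nd 110443 = n213682 := ndS (p := 77480) (l := 4) rfl N77480 D213682
theorem N110444 : nd 110444 = n213683 := ndS (p := 77481) (l := 0) rfl N77481 D213683
theorem N110445 : nd 110445 = n213684 := ndS (p := 77481) (l := 1) rfl N77481 D213684
theorem N110446 : nd 110446 = n213685 := ndS (p := 77481) (l := 5) rfl N77481 D213685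
theorem N110447 : nd 110447 = n213686 := ndS (p := 77481) (l := 7) rfl N77481 D213686
theorem N110448 : nd 110448 = n213687 := ndS (p := 77482) (l := 0) rfl N77482 D213687
theorem N110449 : nd 110449 = n213688 := ndS (p := 77482) (l := 1) rfl N77482 D213688
theorem N110450 : nd 110450 = n213689 := ndS (p := 77482) (l := 5) rfl N77482 D213689
theorem N110451 : nd 110451 = n213690 := ndS (p := 77483) (l := 3) rfl N77483 D213690
theorem N110452 : nd 110452 = n213691 := ndS (p := 77487) (l := 6) rfl N77487 D213691
theorem N110453 : nd 110453 = n213692 := ndS (p := 77489) (l := 0) rfl N77489 D213692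
theorem N110454 : nd 110454 = n213693 := ndS (p := 77489) (l := 1) rfl N77489 D213693
theorem N110455 : nd 110455 = n213694 := ndS (p := 77490) (l := 7) rfl N77490 D213694
theorem N110456 : nd 110456 = n213695 := ndS (p := 77496) (l := 1) rfl N77496 D213695
theorem N110457 : nd 110457 = n213696 := ndS (p := 77496) (l := 2) rfl N77496 D213696
theorem N110458 : nd 110458 = n213697 := ndS (p := 77496) (l := 5) rfl N77496 D213697
theorem N110459 : nd 110459 = n213698 := ndS (p := 77496) (l := 6) rfl N77496 D213698
theorem N110460 : nd 110460 = n213699 := ndS (p := 77497) (l := 6) rfl N77497 D213699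
theorem N110461 : nd 110461 = n213700 := ndS (p := 77500) (l := 4) rfl N77500 D213700
theorem N110462 : nd 110462 = n213701 := ndS (p := 77500) (l := 6) rfl N77500 D213701
theorem N110463 : nd 110463 = n213702 := ndS (p := 77501) (l := 6) rfl N77501 D213702
theorem N110464 : nd 110464 = n213703 := ndS (p := 77502) (l := 0) rfl N77502 D213703
theorem N110465 : nd 110465 = n213704 := ndS (p := 77502) (l := 1) rfl N77502 D213704
theorem N110466 : nd 110466 = n213705 := ndS (p := 77502) (l := 4) rfl N77502 D213705
theorem N110467 : nd 110467 = n213706 := ndS (p := 77502) (l := 6) rfl N77502 D213706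
theorem N110468 : nd 110468 = n213707 := ndS (p := 77503) (l := 7) rfl N77503 D213707
theorem N110469 : nd 110469 = n213708 := ndS (p := 77504) (l := 0) rfl N77504 D213708
theorem N110470 : nd 110470 = n213709 := ndS (p := 77504) (l := 5) rfl N77504 D213709
theorem N110471 : nd 110471 = n213710 := ndS (p := 77504) (l := 7) rfl N77504 D213710
theorem N110472 : nd 110472 = n213711 := ndS (p := 77505) (l := 5) rfl N77505 D213711
theorem N110473 : nd 110473 = n213712 := ndS (p := 77506) (l := 0) rfl N77506 D213712
theorem N110474 : nd 110474 = n213713 := ndS (p := 77506) (l := 1) rfl N77506 D213713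
theorem N110475 : nd 110475 = n213714 := ndS (p := 77506) (l := 7) rfl N77506 D213714
theorem N110476 : nd 110476 = n213715 := ndS (p := 77510) (l := 6) rfl N77510 D213715
theorem N110477 : nd 110477 = n213716 := ndS (p := 77512) (l := 6) rfl N77512 D213716
theorem N110478 : nd 110478 = n213717 := ndS (p := 77513) (l := 4) rfl N77513 D213717
theorem N110479 : nd 110479 = n213718 := ndS (p := 77514) (l := 0) rfl N77514 D213718
theorem N110480 : nd 110480 = n213719 := ndS (p := 77517) (l := 5) rfl N77517 D213719
theorem N110481 : nd 110481 = n213720 := ndS (p := 77519) (l := 0) rfl N77519 D213720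
theorem N110482 : nd 110482 = n213721 := ndS (p := 77519) (l := 1) rfl N77519 D213721
theorem N110483 : nd 110483 = n213722 := ndS (p := 77519) (l := 4) rfl N77519 D213722
theorem N110484 : nd 110484 = n213723 := ndS (p := 77520) (l := 0) rfl N77520 D213723
theorem N110485 : nd 110485 = n213724 := ndS (p := 77520) (l := 1) rfl N77520 D213724
theorem N110486 : nd 110486 = n213725 := ndS (p := 77523) (l := 0) rfl N77523 D213725
theorem N110487 : nd 110487 = n213726 := ndS (p := 77523) (l := 4) rfl N77523 D213726
theorem N110488 : nd 110488 = n213727 := ndS (p := 77527) (l := 4) rfl N77527 D213727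
theorem N110489 : nd 110489 = n213728 := ndS (p := 77527) (l := 6) rfl N77527 D213728
theorem N110490 : nd 110490 = n213729 := ndS (p := 77528) (l := 5) rfl N77528 D213729
theorem N110491 : nd 110491 = n213730 := ndS (p := 77529) (l := 4) rfl N77529 D213730
theorem N110492 : nd 110492 = n213731 := ndS (p := 77529) (l := 6) rfl N77529 D213731
theorem N110493 : nd 110493 = n213732 := ndS (p := 77530) (l := 4) rfl N77530 D213732
theorem N110494 : nd 110494 = n213733 := ndS (p := 77531) (l := 4) rfl N77531 D213733
theorem N110495 : nd 110495 = n213734 := ndS (p := 77531) (l := 6) rfl N77531 D213734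
theorem N110496 : nd 110496 = n213735 := ndS (p := 77532) (l := 0) rfl N77532 D213735
theorem N110497 : nd 110497 = n213736 := ndS (p := 77532) (l := 3) rfl N77532 D213736
theorem N110498 : nd 110498 = n213737 := ndS (p := 77532) (l := 5) rfl N77532 D213737
theorem N110499 : nd 110499 = n213738 := ndS (p := 77533) (l := 7) rfl N77533 D213738
theorem N110500 : nd 110500 = n213739 := ndS (p := 77534) (l := 2) rfl N77534 D213739
theorem N110501 : nd 110501 = n213740 := ndS (p := 77534) (l := 4) rfl N77534 D213740
theorem N110502 : nd 110502 = n213741 := ndS (p := 77536) (l := 1) rfl N77536 D213741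
theorem N110503 : nd 110503 = n213742 := ndS (p := 77536) (l := 2) rfl N77536 D213742
theorem N110504 : nd 110504 = n213743 := ndS (p := 77565) (l := 6) rfl N77565 D213743
theorem N110505 : nd 110505 = n213744 := ndS (p := 77567) (l := 5) rfl N77567 D213744
theorem N110506 : nd 110506 = n213745 := ndS (p := 77568) (l := 4) rfl N77568 D213745
theorem N110507 : nd 110507 = n213746 := ndS (p := 77568) (l := 6) rfl N77568 D213746
theorem N110508 : nd 110508 = n213747 := ndS (p := 77569) (l := 4) rfl N77569 D213747
theorem N110509 : nd 110509 = n213748 := ndS (p := 77579) (l := 4) rfl N77579 D213748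
theorem N110510 : nd 110510 = n213749 := ndS (p := 77587) (l := 6) rfl N77587 D213749
theorem N110511 : nd 110511 = n213750 := ndS (p := 77590) (l := 5) rfl N77590 D213750
theorem N110512 : nd 110512 = n213751 := ndS (p := 77595) (l := 0) rfl N77595 D213751
theorem N110513 : nd 110513 = n213752 := ndS (p := 77604) (l := 4) rfl N77604 D213752
theorem N110514 : nd 110514 = n213753 := ndS (p := 77632) (l := 4) rfl N77632 D213753
theorem N110515 : nd 110515 = n213754 := ndS (p := 77632) (l := 6) rfl N77632 D213754
theorem N110516 : nd 110516 = n213755 := ndS (p := 77637) (l := 6) rfl N77637 D213755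
theorem N110517 : nd 110517 = n213756 := ndS (p := 77640) (l := 4) rfl N77640 D213756
theorem N110518 : nd 110518 = n213757 := ndS (p := 77651) (l := 0) rfl N77651 D213757
theorem N110519 : nd 110519 = n213758 := ndS (p := 77651) (l := 5) rfl N77651 D213758
theorem N110520 : nd 110520 = n213759 := ndS (p := 77660) (l := 5) rfl N77660 D213759
theorem N110521 : nd 110521 = n213760 := ndS (p := 77664) (l := 5) rfl N77664 D213760
theorem N110522 : nd 110522 = n213761 := ndS (p := 77665) (l := 4) rfl N77665 D213761
theorem N110523 : nd 110523 = n213762 := ndS (p := 77669) (l := 5) rfl N77669 D213762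
theorem N110524 : nd 110524 = n213763 := ndS (p := 77671) (l := 0) rfl N77671 D213763
theorem N110525 : nd 110525 = n213764 := ndS (p := 77671) (l := 7) rfl N77671 D213764
theorem N110526 : nd 110526 = n213765 := ndS (p := 77673) (l := 5) rfl N77673 D213765
theorem N110527 : nd 110527 = n213766 := ndS (p := 77679) (l := 0) rfl N77679 D213766
theorem N110528 : nd 110528 = n213767 := ndS (p := 77679) (l := 7) rfl N77679 D213767
theorem N110529 : nd 110529 = n213768 := ndS (p := 77681) (l := 3) rfl N77681 D213768
theorem N110530 : nd 110530 = n213769 := ndS (p := 77691) (l := 0) rfl N77691 D213769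
theorem N110531 : nd 110531 = n213770 := ndS (p := 77691) (l := 4) rfl N77691 D213770
theorem N110532 : nd 110532 = n213771 := ndS (p := 77691) (l := 7) rfl N77691 D213771
theorem N110533 : nd 110533 = n213772 := ndS (p := 77694) (l := 5) rfl N77694 D213772
theorem N110534 : nd 110534 = n213773 := ndS (p := 77697) (l := 5) rfl N77697 D213773
theorem N110535 : nd 110535 = n213774 := ndS (p := 77702) (l := 4) rfl N77702 D213774
theorem N110536 : nd 110536 = n213775 := ndS (p := 77704) (l := 4) rfl N77704 D213775
theorem N110537 : nd 110537 = n213776 := ndS (p := 77705) (l := 5) rfl N77705 D213776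
theorem N110538 : nd 110538 = n213777 := ndS (p := 77708) (l := 6) rfl N77708 D213777
theorem N110539 : nd 110539 = n213778 := ndS (p := 77713) (l := 0) rfl N77713 D213778
theorem N110540 : nd 110540 = n213779 := ndS (p := 77719) (l := 6) rfl N77719 D213779
theorem N110541 : nd 110541 = n213780 := ndS (p := 77725) (l := 6) rfl N77725 D213780
theorem N110542 : nd 110542 = n213781 := ndS (p := 77734) (l := 5) rfl N77734 D213781
theorem N110543 : nd 110543 = n213782 := ndS (p := 77734) (l := 6) rfl N77734 D213782
theorem N110544 : nd 110544 = n213783 := ndS (p := 77735) (l := 5) rfl N77735 D213783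
theorem N110545 : nd 110545 = n213784 := ndS (p := 77736) (l := 5) rfl N77736 D213784
theorem N110546 : nd 110546 = n213785 := ndS (p := 77736) (l := 6) rfl N77736 D213785
theorem N110547 : nd 110547 = n213786 := ndS (p := 77737) (l := 5) rfl N77737 D213786
theorem N110548 : nd 110548 = n213787 := ndS (p := 77738) (l := 5) rfl N77738 D213787
theorem N110549 : nd 110549 = n213788 := ndS (p := 77738) (l := 6) rfl N77738 D213788
theorem N110550 : nd 110550 = n213789 := ndS (p := 77739) (l := 0) rfl N77739 D213789
theorem N110551 : nd 110551 = n213790 := ndS (p := 77739) (l := 1) rfl N77739 D213790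
theorem N110552 : nd 110552 = n213791 := ndS (p := 77739) (l := 4) rfl N77739 D213791
theorem N110553 : nd 110553 = n213792 := ndS (p := 77739) (l := 6) rfl N77739 D213792
theorem N110554 : nd 110554 = n213793 := ndS (p := 77740) (l := 5) rfl N77740 D213793
theorem N110555 : nd 110555 = n213794 := ndS (p := 77742) (l := 3) rfl N77742 D213794
theorem N110556 : nd 110556 = n213795 := ndS (p := 77742) (l := 5) rfl N77742 D213795
theorem N110557 : nd 110557 = n213796 := ndS (p := 77745) (l := 4) rfl N77745 D213796
theorem N110558 : nd 110558 = n213797 := ndS (p := 77745) (l := 6) rfl N77745 D213797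
theorem N110559 : nd 110559 = n213798 := ndS (p := 77746) (l := 0) rfl N77746 D213798
theorem N110560 : nd 110560 = n213799 := ndS (p := 77746) (l := 5) rfl N77746 D213799
theorem N110561 : nd 110561 = n213800 := ndS (p := 77746) (l := 7) rfl N77746 D213800
theorem N110562 : nd 110562 = n213801 := ndS (p := 77749) (l := 5) rfl N77749 D213801
theorem N110563 : nd 110563 = n213802 := ndS (p := 77749) (l := 6) rfl N77749 D213802
theorem N110564 : nd 110564 = n213803 := ndS (p := 77752) (l := 5) rfl N77752 D213803
theorem N110565 : nd 110565 = n213804 := ndS (p := 77754) (l := 3) rfl N77754 D213804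
theorem N110566 : nd 110566 = n213805 := ndS (p := 77755) (l := 0) rfl N77755 D213805
theorem N110567 : nd 110567 = n213806 := ndS (p := 77755) (l := 1) rfl N77755 D213806
theorem N110568 : nd 110568 = n213807 := ndS (p := 77755) (l := 4) rfl N77755 D213807
theorem N110569 : nd 110569 = n213808 := ndS (p := 77755) (l := 6) rfl N77755 D213808
theorem N110570 : nd 110570 = n213809 := ndS (p := 77756) (l := 0) rfl N77756 D213809
theorem N110571 : nd 110571 = n213810 := ndS (p := 77756) (l := 5) rfl N77756 D213810
theorem N110572 : nd 110572 = n213811 := ndS (p := 77757) (l := 3) rfl N77757 D213811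
theorem N110573 : nd 110573 = n213812 := ndS (p := 77757) (l := 4) rfl N77757 D213812
theorem N110574 : nd 110574 = n213813 := ndS (p := 77757) (l := 6) rfl N77757 D213813
theorem N110575 : nd 110575 = n213814 := ndS (p := 77759) (l := 4) rfl N77759 D213814
theorem N110576 : nd 110576 = n213815 := ndS (p := 77762) (l := 6) rfl N77762 D213815
theorem N110577 : nd 110577 = n213816 := ndS (p := 77764) (l := 0) rfl N77764 D213816
theorem N110578 : nd 110578 = n213817 := ndS (p := 77764) (l := 1) rfl N77764 D213817
theorem N110579 : nd 110579 = n213818 := ndS (p := 77764) (l := 7) rfl N77764 D213818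
theorem N110580 : nd 110580 = n213819 := ndS (p := 77765) (l := 3) rfl N77765 D213819
theorem N110581 : nd 110581 = n213820 := ndS (p := 77765) (l := 5) rfl N77765 D213820
theorem N110582 : nd 110582 = n213821 := ndS (p := 77766) (l := 3) rfl N77766 D213821
theorem N110583 : nd 110583 = n213822 := ndS (p := 77766) (l := 5) rfl N77766 D213822
theorem N110584 : nd 110584 = n213823 := ndS (p := 77767) (l := 7) rfl N77767 D213823
theorem N110585 : nd 110585 = n213824 := ndS (p := 77770) (l := 5) rfl N77770 D213824
theorem N110586 : nd 110586 = n213825 := ndS (p := 77773) (l := 3) rfl N77773 D213825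
theorem N110587 : nd 110587 = n213826 := ndS (p := 77773) (l := 5) rfl N77773 D213826
theorem N110588 : nd 110588 = n213827 := ndS (p := 77778) (l := 3) rfl N77778 D213827
theorem N110589 : nd 110589 = n213828 := ndS (p := 77778) (l := 4) rfl N77778 D213828
theorem N110590 : nd 110590 = n213829 := ndS (p := 77780) (l := 1) rfl N77780 D213829
theorem N110591 : nd 110591 = n213830 := ndS (p := 77781) (l := 3) rfl N77781 D213830
theorem N110592 : nd 110592 = n213831 := ndS (p := 77781) (l := 4) rfl N77781 D213831
theorem N110593 : nd 110593 = n213832 := ndS (p := 77782) (l := 3) rfl N77782 D213832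
theorem N110594 : nd 110594 = n213833 := ndS (p := 77791) (l := 6) rfl N77791 D213833
theorem N110595 : nd 110595 = n213834 := ndS (p := 77792) (l := 6) rfl N77792 D213834
theorem N110596 : nd 110596 = n213835 := ndS (p := 77793) (l := 6) rfl N77793 D213835
theorem N110597 : nd 110597 = n213836 := ndS (p := 77794) (l := 5) rfl N77794 D213836
theorem N110598 : nd 110598 = n213837 := ndS (p := 77794) (l := 7) rfl N77794 D213837
theorem N110599 : nd 110599 = n213838 := ndS (p := 77796) (l := 4) rfl N77796 D213838
theorem N110600 : nd 110600 = n213839 := ndS (p := 77803) (l := 3) rfl N77803 D213839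
theorem N110601 : nd 110601 = n213840 := ndS (p := 77805) (l := 2) rfl N77805 D213840
theorem N110602 : nd 110602 = n213841 := ndS (p := 77806) (l := 1) rfl N77806 D213841
theorem N110603 : nd 110603 = n213842 := ndS (p := 77807) (l := 1) rfl N77807 D213842
theorem N110604 : nd 110604 = n213843 := ndS (p := 77812) (l := 0) rfl N77812 D213843
theorem N110605 : nd 110605 = n213844 := ndS (p := 77812) (l := 1) rfl N77812 D213844
theorem N110606 : nd 110606 = n213845 := ndS (p := 77812) (l := 7) rfl N77812 D213845
theorem N110607 : nd 110607 = n213846 := ndS (p := 77813) (l := 0) rfl N77813 D213846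
theorem N110608 : nd 110608 = n213847 := ndS (p := 77815) (l := 3) rfl N77815 D213847
theorem N110609 : nd 110609 = n213848 := ndS (p := 77816) (l := 6) rfl N77816 D213848
theorem N110610 : nd 110610 = n213849 := ndS (p := 77818) (l := 0) rfl N77818 D213849
theorem N110611 : nd 110611 = n213850 := ndS (p := 77818) (l := 7) rfl N77818 D213850
theorem N110612 : nd 110612 = n213851 := ndS (p := 77819) (l := 5) rfl N77819 D213851
theorem N110613 : nd 110613 = n213852 := ndS (p := 77820) (l := 3) rfl N77820 D213852
theorem N110614 : nd 110614 = n213853 := ndS (p := 77820) (l := 5) rfl N77820 D213853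
theorem N110615 : nd 110615 = n213854 := ndS (p := 77820) (l := 6) rfl N77820 D213854
theorem N110616 : nd 110616 = n213855 := ndS (p := 77823) (l := 3) rfl N77823 D213855
theorem N110617 : nd 110617 = n213856 := ndS (p := 77823) (l := 5) rfl N77823 D213856
theorem N110618 : nd 110618 = n213857 := ndS (p := 77826) (l := 6) rfl N77826 D213857
theorem N110619 : nd 110619 = n213858 := ndS (p := 77827) (l := 6) rfl N77827 D213858
theorem N110620 : nd 110620 = n213859 := ndS (p := 77828) (l := 0) rfl N77828 D213859
theorem N110621 : nd 110621 = n213860 := ndS (p := 77828) (l := 1) rfl N77828 D213860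
theorem N110622 : nd 110622 = n213861 := ndS (p := 77828) (l := 7) rfl N77828 D213861
theorem N110623 : nd 110623 = n213862 := ndS (p := 77829) (l := 0) rfl N77829 D213862
theorem N110624 : nd 110624 = n213863 := ndS (p := 77829) (l := 1) rfl N77829 D213863
theorem N110625 : nd 110625 = n213864 := ndS (p := 77829) (l := 7) rfl N77829 D213864
theorem N110626 : nd 110626 = n213865 := ndS (p := 77831) (l := 0) rfl N77831 D213865
theorem N110627 : nd 110627 = n213866 := ndS (p := 77831) (l := 7) rfl N77831 D213866
theorem N110628 : nd 110628 = n213867 := ndS (p := 77832) (l := 1) rfl N77832 D213867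
theorem N110629 : nd 110629 = n213868 := ndS (p := 77832) (l := 7) rfl N77832 D213868
theorem N110630 : nd 110630 = n213869 := ndS (p := 77835) (l := 3) rfl N77835 D213869
theorem N110631 : nd 110631 = n213870 := ndS (p := 77835) (l := 5) rfl N77835 D213870
theorem N110632 : nd 110632 = n213871 := ndS (p := 77835) (l := 6) rfl N77835 D213871
theorem N110633 : nd 110633 = n213872 := ndS (p := 77837) (l := 3) rfl N77837 D213872
theorem N110634 : nd 110634 = n213873 := ndS (p := 77837) (l := 6) rfl N77837 D213873
theorem N110635 : nd 110635 = n213874 := ndS (p := 77838) (l := 6) rfl N77838 D213874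
theorem N110636 : nd 110636 = n213875 := ndS (p := 77841) (l := 6) rfl N77841 D213875
theorem N110637 : nd 110637 = n213876 := ndS (p := 77842) (l := 6) rfl N77842 D213876
theorem N110638 : nd 110638 = n213877 := ndS (p := 77845) (l := 4) rfl N77845 D213877
theorem N110639 : nd 110639 = n213878 := ndS (p := 77845) (l := 6) rfl N77845 D213878
theorem N110640 : nd 110640 = n213879 := ndS (p := 77846) (l := 6) rfl N77846 D213879
theorem N110641 : nd 110641 = n213880 := ndS (p := 77847) (l := 3) rfl N77847 D213880
theorem N110642 : nd 110642 = n213881 := ndS (p := 77848) (l := 5) rfl N77848 D213881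
theorem N110643 : nd 110643 = n213882 := ndS (p := 77848) (l := 6) rfl N77848 D213882
theorem N110644 : nd 110644 = n213883 := ndS (p := 77849) (l := 7) rfl N77849 D213883
theorem N110645 : nd 110645 = n213884 := ndS (p := 77851) (l := 6) rfl N77851 D213884
theorem N110646 : nd 110646 = n213885 := ndS (p := 77852) (l := 0) rfl N77852 D213885
theorem N110647 : nd 110647 = n213886 := ndS (p := 77852) (l := 1) rfl N77852 D213886
theorem N110648 : nd 110648 = n213887 := ndS (p := 77852) (l := 5) rfl N77852 D213887
theorem N110649 : nd 110649 = n213888 := ndS (p := 77852) (l := 7) rfl N77852 D213888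
theorem N110650 : nd 110650 = n213889 := ndS (p := 77853) (l := 5) rfl N77853 D213889
theorem N110651 : nd 110651 = n213890 := ndS (p := 77853) (l := 7) rfl N77853 D213890
theorem N110652 : nd 110652 = n213891 := ndS (p := 77859) (l := 0) rfl N77859 D213891
theorem N110653 : nd 110653 = n213892 := ndS (p := 77859) (l := 5) rfl N77859 D213892
theorem N110654 : nd 110654 = n213893 := ndS (p := 77861) (l := 3) rfl N77861 D213893
theorem N110655 : nd 110655 = n213894 := ndS (p := 77863) (l := 6) rfl N77863 D213894
theorem N110656 : nd 110656 = n213895 := ndS (p := 77864) (l := 0) rfl N77864 D213895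
theorem N110657 : nd 110657 = n213896 := ndS (p := 77864) (l := 5) rfl N77864 D213896
theorem N110658 : nd 110658 = n213897 := ndS (p := 77864) (l := 7) rfl N77864 D213897
theorem N110659 : nd 110659 = n213898 := ndS (p := 77865) (l := 7) rfl N77865 D213898
theorem N110660 : nd 110660 = n213899 := ndS (p := 77867) (l := 3) rfl N77867 D213899
theorem N110661 : nd 110661 = n213900 := ndS (p := 77871) (l := 5) rfl N77871 D213900
theorem N110662 : nd 110662 = n213901 := ndS (p := 77874) (l := 0) rfl N77874 D213901
theorem N110663 : nd 110663 = n213902 := ndS (p := 77874) (l := 1) rfl N77874 D213902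
theorem N110664 : nd 110664 = n213903 := ndS (p := 77876) (l := 1) rfl N77876 D213903
theorem N110665 : nd 110665 = n213904 := ndS (p := 77876) (l := 7) rfl N77876 D213904
theorem N110666 : nd 110666 = n213905 := ndS (p := 77877) (l := 3) rfl N77877 D213905
theorem N110667 : nd 110667 = n213906 := ndS (p := 77877) (l := 4) rfl N77877 D213906
theorem N110668 : nd 110668 = n213907 := ndS (p := 77877) (l := 5) rfl N77877 D213907
theorem N110669 : nd 110669 = n213908 := ndS (p := 77878) (l := 4) rfl N77878 D213908
theorem N110670 : nd 110670 = n213909 := ndS (p := 77878) (l := 5) rfl N77878 D213909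
theorem N110671 : nd 110671 = n213910 := ndS (p := 77878) (l := 6) rfl N77878 D213910
theorem N110672 : nd 110672 = n213911 := ndS (p := 77879) (l := 0) rfl N77879 D213911
theorem N110673 : nd 110673 = n213912 := ndS (p := 77882) (l := 1) rfl N77882 D213912
theorem N110674 : nd 110674 = n213913 := ndS (p := 77882) (l := 2) rfl N77882 D213913
theorem N110675 : nd 110675 = n213914 := ndS (p := 77885) (l := 3) rfl N77885 D213914
theorem N110676 : nd 110676 = n213915 := ndS (p := 77885) (l := 6) rfl N77885 D213915
theorem N110677 : nd 110677 = n213916 := ndS (p := 77888) (l := 0) rfl N77888 D213916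
theorem N110678 : nd 110678 = n213917 := ndS (p := 77889) (l := 6) rfl N77889 D213917
theorem N110679 : nd 110679 = n213918 := ndS (p := 77893) (l := 0) rfl N77893 D213918
theorem N110680 : nd 110680 = n213919 := ndS (p := 77893) (l := 5) rfl N77893 D213919
theorem N110681 : nd 110681 = n213920 := ndS (p := 77893) (l := 7) rfl N77893 D213920
theorem N110682 : nd 110682 = n213921 := ndS (p := 77894) (l := 3) rfl N77894 D213921
theorem N110683 : nd 110683 = n213922 := ndS (p := 77894) (l := 4) rfl N77894 D213922
theorem N110684 : nd 110684 = n213923 := ndS (p := 77894) (l := 5) rfl N77894 D213923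
theorem N110685 : nd 110685 = n213924 := ndS (p := 77894) (l := 6) rfl N77894 D213924
theorem N110686 : nd 110686 = n213925 := ndS (p := 77895) (l := 5) rfl N77895 D213925
theorem N110687 : nd 110687 = n213926 := ndS (p := 77896) (l := 0) rfl N77896 D213926
theorem N110688 : nd 110688 = n213927 := ndS (p := 77896) (l := 1) rfl N77896 D213927
theorem N110689 : nd 110689 = n213928 := ndS (p := 77896) (l := 7) rfl N77896 D213928
theorem N110690 : nd 110690 = n213929 := ndS (p := 77898) (l := 3) rfl N77898 D213929
theorem N110691 : nd 110691 = n213930 := ndS (p := 77898) (l := 4) rfl N77898 D213930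
theorem N110692 : nd 110692 = n213931 := ndS (p := 77898) (l := 5) rfl N77898 D213931
theorem N110693 : nd 110693 = n213932 := ndS (p := 77898) (l := 6) rfl N77898 D213932
theorem N110694 : nd 110694 = n213933 := ndS (p := 77899) (l := 4) rfl N77899 D213933
theorem N110695 : nd 110695 = n213934 := ndS (p := 77900) (l := 0) rfl N77900 D213934
theorem N110696 : nd 110696 = n213935 := ndS (p := 77900) (l := 1) rfl N77900 D213935
theorem N110697 : nd 110697 = n213936 := ndS (p := 77902) (l := 0) rfl N77902 D213936
theorem N110698 : nd 110698 = n213937 := ndS (p := 77902) (l := 2) rfl N77902 D213937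
theorem N110699 : nd 110699 = n213938 := ndS (p := 77902) (l := 5) rfl N77902 D213938
theorem N110700 : nd 110700 = n213939 := ndS (p := 77903) (l := 6) rfl N77903 D213939
theorem N110701 : nd 110701 = n213940 := ndS (p := 77905) (l := 6) rfl N77905 D213940
theorem N110702 : nd 110702 = n213941 := ndS (p := 77906) (l := 3) rfl N77906 D213941
theorem N110703 : nd 110703 = n213942 := ndS (p := 77906) (l := 6) rfl N77906 D213942
theorem N110704 : nd 110704 = n213943 := ndS (p := 77908) (l := 5) rfl N77908 D213943
theorem N110705 : nd 110705 = n213944 := ndS (p := 77909) (l := 2) rfl N77909 D213944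
theorem N110706 : nd 110706 = n213945 := ndS (p := 77909) (l := 5) rfl N77909 D213945
theorem N110707 : nd 110707 = n213946 := ndS (p := 77910) (l := 6) rfl N77910 D213946
theorem N110708 : nd 110708 = n213947 := ndS (p := 77911) (l := 1) rfl N77911 D213947
theorem N110709 : nd 110709 = n213948 := ndS (p := 77911) (l := 2) rfl N77911 D213948
theorem N110710 : nd 110710 = n213949 := ndS (p := 77911) (l := 5) rfl N77911 D213949
theorem N110711 : nd 110711 = n213950 := ndS (p := 77913) (l := 3) rfl N77913 D213950
theorem N110712 : nd 110712 = n213951 := ndS (p := 77913) (l := 5) rfl N77913 D213951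
theorem N110713 : nd 110713 = n213952 := ndS (p := 77914) (l := 1) rfl N77914 D213952
theorem N110714 : nd 110714 = n213953 := ndS (p := 77914) (l := 4) rfl N77914 D213953
theorem N110715 : nd 110715 = n213954 := ndS (p := 77914) (l := 7) rfl N77914 D213954
theorem N110716 : nd 110716 = n213955 := ndS (p := 77924) (l := 0) rfl N77924 D213955
theorem N110717 : nd 110717 = n213956 := ndS (p := 77924) (l := 2) rfl N77924 D213956
theorem N110718 : nd 110718 = n213957 := ndS (p := 77925) (l := 6) rfl N77925 D213957
theorem N110719 : nd 110719 = n213958 := ndS (p := 77926) (l := 6) rfl N77926 D213958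
theorem N110720 : nd 110720 = n213959 := ndS (p := 77929) (l := 4) rfl N77929 D213959
theorem N110721 : nd 110721 = n213960 := ndS (p := 77929) (l := 6) rfl N77929 D213960
theorem N110722 : nd 110722 = n213961 := ndS (p := 77931) (l := 6) rfl N77931 D213961
theorem N110723 : nd 110723 = n213963 := ndS (p := 77932) (l := 5) rfl N77932 D213963
theorem N110724 : nd 110724 = n213964 := ndS (p := 77933) (l := 6) rfl N77933 D213964
theorem N110725 : nd 110725 = n213965 := ndS (p := 77940) (l := 5) rfl N77940 D213965
theorem N110726 : nd 110726 = n213966 := ndS (p := 77941) (l := 1) rfl N77941 D213966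
theorem N110727 : nd 110727 = n213967 := ndS (p := 77941) (l := 7) rfl N77941 D213967
theorem N110728 : nd 110728 = n213968 := ndS (p := 77942) (l := 5) rfl N77942 D213968
theorem N110729 : nd 110729 = n213969 := ndS (p := 77942) (l := 6) rfl N77942 D213969
theorem N110730 : nd 110730 = n213970 := ndS (p := 77943) (l := 0) rfl N77943 D213970
theorem N110731 : nd 110731 = n213971 := ndS (p := 77943) (l := 7) rfl N77943 D213971
theorem N110732 : nd 110732 = n213972 := ndS (p := 77945) (l := 4) rfl N77945 D213972
theorem N110733 : nd 110733 = n213973 := ndS (p := 77945) (l := 5) rfl N77945 D213973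
theorem N110734 : nd 110734 = n213974 := ndS (p := 77946) (l := 4) rfl N77946 D213974
theorem N110735 : nd 110735 = n213975 := ndS (p := 77946) (l := 5) rfl N77946 D213975
theorem N110736 : nd 110736 = n213976 := ndS (p := 77946) (l := 6) rfl N77946 D213976
theorem N110737 : nd 110737 = n213977 := ndS (p := 77947) (l := 0) rfl N77947 D213977
theorem N110738 : nd 110738 = n213978 := ndS (p := 77947) (l := 1) rfl N77947 D213978
theorem N110739 : nd 110739 = n213979 := ndS (p := 77947) (l := 4) rfl N77947 D213979
theorem N110740 : nd 110740 = n213980 := ndS (p := 77947) (l := 7) rfl N77947 D213980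
theorem N110741 : nd 110741 = n213981 := ndS (p := 77949) (l := 4) rfl N77949 D213981
theorem N110742 : nd 110742 = n213982 := ndS (p := 77949) (l := 6) rfl N77949 D213982
theorem N110743 : nd 110743 = n213983 := ndS (p := 77951) (l := 5) rfl N77951 D213983
theorem N110744 : nd 110744 = n213984 := ndS (p := 77952) (l := 4) rfl N77952 D213984
theorem N110745 : nd 110745 = n213985 := ndS (p := 77952) (l := 6) rfl N77952 D213985
theorem N110746 : nd 110746 = n213986 := ndS (p := 77953) (l := 3) rfl N77953 D213986
theorem N110747 : nd 110747 = n213987 := ndS (p := 77954) (l := 6) rfl N77954 D213987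
theorem N110748 : nd 110748 = n213988 := ndS (p := 77955) (l := 4) rfl N77955 D213988
theorem N110749 : nd 110749 = n213989 := ndS (p := 77955) (l := 6) rfl N77955 D213989
theorem N110750 : nd 110750 = n213990 := ndS (p := 77956) (l := 5) rfl N77956 D213990
theorem N110751 : nd 110751 = n213991 := ndS (p := 77957) (l := 5) rfl N77957 D213991
theorem N110752 : nd 110752 = n213992 := ndS (p := 77958) (l := 4) rfl N77958 D213992
theorem N110753 : nd 110753 = n213993 := ndS (p := 77958) (l := 6) rfl N77958 D213993
theorem N110754 : nd 110754 = n213994 := ndS (p := 77959) (l := 6) rfl N77959 D213994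
theorem N110755 : nd 110755 = n213995 := ndS (p := 77960) (l := 0) rfl N77960 D213995
theorem N110756 : nd 110756 = n213996 := ndS (p := 77963) (l := 0) rfl N77963 D213996
theorem N110757 : nd 110757 = n213997 := ndS (p := 77963) (l := 1) rfl N77963 D213997
theorem N110758 : nd 110758 = n213998 := ndS (p := 77963) (l := 7) rfl N77963 D213998
theorem N110759 : nd 110759 = n213999 := ndS (p := 77964) (l := 4) rfl N77964 D213999
theorem N110760 : nd 110760 = n214000 := ndS (p := 77964) (l := 5) rfl N77964 D214000
theorem N110761 : nd 110761 = n214001 := ndS (p := 77964) (l := 6) rfl N77964 D214001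
theorem N110762 : nd 110762 = n214002 := ndS (p := 77965) (l := 4) rfl N77965 D214002
theorem N110763 : nd 110763 = n214003 := ndS (p := 77965) (l := 6) rfl N77965 D214003
theorem N110764 : nd 110764 = n214004 := ndS (p := 77966) (l := 0) rfl N77966 D214004
theorem N110765 : nd 110765 = n214005 := ndS (p := 77966) (l := 4) rfl N77966 D214005
theorem N110766 : nd 110766 = n214006 := ndS (p := 77969) (l := 3) rfl N77969 D214006
theorem N110767 : nd 110767 = n214007 := ndS (p := 77969) (l := 6) rfl N77969 D214007
theorem N110768 : nd 110768 = n214008 := ndS (p := 77971) (l := 1) rfl N77971 D214008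
theorem N110769 : nd 110769 = n214009 := ndS (p := 77973) (l := 0) rfl N77973 D214009
theorem N110770 : nd 110770 = n214010 := ndS (p := 77978) (l := 5) rfl N77978 D214010
theorem N110771 : nd 110771 = n214011 := ndS (p := 77979) (l := 3) rfl N77979 D214011
theorem N110772 : nd 110772 = n214012 := ndS (p := 77979) (l := 5) rfl N77979 D214012
theorem N110773 : nd 110773 = n214013 := ndS (p := 77979) (l := 6) rfl N77979 D214013
theorem N110774 : nd 110774 = n214014 := ndS (p := 77980) (l := 6) rfl N77980 D214014
theorem N110775 : nd 110775 = n214015 := ndS (p := 77984) (l := 0) rfl N77984 D214015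
theorem N110776 : nd 110776 = n214016 := ndS (p := 77984) (l := 1) rfl N77984 D214016
theorem N110777 : nd 110777 = n214017 := ndS (p := 77984) (l := 5) rfl N77984 D214017
theorem N110778 : nd 110778 = n214018 := ndS (p := 77984) (l := 7) rfl N77984 D214018
theorem N110779 : nd 110779 = n214019 := ndS (p := 77985) (l := 4) rfl N77985 D214019
theorem N110780 : nd 110780 = n214020 := ndS (p := 77987) (l := 5) rfl N77987 D214020
theorem N110781 : nd 110781 = n214022 := ndS (p := 77988) (l := 6) rfl N77988 D214022
theorem N110782 : nd 110782 = n214023 := ndS (p := 77989) (l := 0) rfl N77989 D214023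
theorem N110783 : nd 110783 = n214024 := ndS (p := 77989) (l := 1) rfl N77989 D214024
theorem N110784 : nd 110784 = n214025 := ndS (p := 77989) (l := 4) rfl N77989 D214025
theorem N110785 : nd 110785 = n214026 := ndS (p := 77989) (l := 7) rfl N77989 D214026
theorem N110786 : nd 110786 = n214027 := ndS (p := 77991) (l := 3) rfl N77991 D214027
theorem N110787 : nd 110787 = n214028 := ndS (p := 77996) (l := 0) rfl N77996 D214028
theorem N110788 : nd 110788 = n214029 := ndS (p := 77996) (l := 1) rfl N77996 D214029
theorem N110789 : nd 110789 = n214030 := ndS (p := 77996) (l := 5) rfl N77996 D214030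
theorem N110790 : nd 110790 = n214031 := ndS (p := 77996) (l := 7) rfl N77996 D214031
theorem N110791 : nd 110791 = n214032 := ndS (p := 77997) (l := 6) rfl N77997 D214032
theorem N110792 : nd 110792 = n214033 := ndS (p := 77998) (l := 5) rfl N77998 D214033
theorem N110793 : nd 110793 = n214034 := ndS (p := 77999) (l := 5) rfl N77999 D214034
theorem N110794 : nd 110794 = n214035 := ndS (p := 78000) (l := 4) rfl N78000 D214035
theorem N110795 : nd 110795 = n214036 := ndS (p := 78003) (l := 1) rfl N78003 D214036
theorem N110796 : nd 110796 = n214037 := ndS (p := 78005) (l := 6) rfl N78005 D214037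
theorem N110797 : nd 110797 = n214038 := ndS (p := 78006) (l := 0) rfl N78006 D214038
theorem N110798 : nd 110798 = n214039 := ndS (p := 78006) (l := 1) rfl N78006 D214039
theorem N110799 : nd 110799 = n214040 := ndS (p := 78006) (l := 5) rfl N78006 D214040
theorem N110800 : nd 110800 = n214041 := ndS (p := 78007) (l := 5) rfl N78007 D214041
theorem N110801 : nd 110801 = n214042 := ndS (p := 78008) (l := 6) rfl N78008 D214042
theorem N110802 : nd 110802 = n214043 := ndS (p := 78009) (l := 6) rfl N78009 D214043
theorem N110803 : nd 110803 = n214044 := ndS (p := 78012) (l := 0) rfl N78012 D214044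
theorem N110804 : nd 110804 = n214045 := ndS (p := 78012) (l := 7) rfl N78012 D214045
theorem N110805 : nd 110805 = n214046 := ndS (p := 78014) (l := 5) rfl N78014 D214046
theorem N110806 : nd 110806 = n214047 := ndS (p := 78018) (l := 3) rfl N78018 D214047
theorem N110807 : nd 110807 = n214049 := ndS (p := 78018) (l := 5) rfl N78018 D214049
theorem N110808 : nd 110808 = n214050 := ndS (p := 78019) (l := 5) rfl N78019 D214050
theorem N110809 : nd 110809 = n214051 := ndS (p := 78019) (l := 6) rfl N78019 D214051
theorem N110810 : nd 110810 = n214052 := ndS (p := 78020) (l := 0) rfl N78020 D214052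
theorem N110811 : nd 110811 = n214053 := ndS (p := 78020) (l := 1) rfl N78020 D214053
theorem N110812 : nd 110812 = n214054 := ndS (p := 78020) (l := 4) rfl N78020 D214054
theorem N110813 : nd 110813 = n214055 := ndS (p := 78020) (l := 7) rfl N78020 D214055
theorem N110814 : nd 110814 = n214056 := ndS (p := 78022) (l := 6) rfl N78022 D214056
theorem N110815 : nd 110815 = n214057 := ndS (p := 78023) (l := 0) rfl N78023 D214057
theorem N110816 : nd 110816 = n214058 := ndS (p := 78023) (l := 1) rfl N78023 D214058
theorem N110817 : nd 110817 = n214059 := ndS (p := 78023) (l := 5) rfl N78023 D214059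
theorem N110818 : nd 110818 = n214060 := ndS (p := 78023) (l := 7) rfl N78023 D214060
theorem N110819 : nd 110819 = n214061 := ndS (p := 78024) (l := 6) rfl N78024 D214061
theorem N110820 : nd 110820 = n214062 := ndS (p := 78026) (l := 0) rfl N78026 D214062
theorem N110821 : nd 110821 = n214063 := ndS (p := 78026) (l := 7) rfl N78026 D214063
theorem N110822 : nd 110822 = n214064 := ndS (p := 78028) (l := 3) rfl N78028 D214064
theorem N110823 : nd 110823 = n214065 := ndS (p := 78030) (l := 6) rfl N78030 D214065
theorem N110824 : nd 110824 = n214066 := ndS (p := 78031) (l := 7) rfl N78031 D214066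
theorem N110825 : nd 110825 = n214067 := ndS (p := 78035) (l := 0) rfl N78035 D214067
theorem N110826 : nd 110826 = n214068 := ndS (p := 78035) (l := 1) rfl N78035 D214068
theorem N110827 : nd 110827 = n214069 := ndS (p := 78038) (l := 5) rfl N78038 D214069
theorem N110828 : nd 110828 = n214070 := ndS (p := 78040) (l := 6) rfl N78040 D214070
theorem N110829 : nd 110829 = n214071 := ndS (p := 78041) (l := 5) rfl N78041 D214071
theorem N110830 : nd 110830 = n214072 := ndS (p := 78047) (l := 6) rfl N78047 D214072
theorem N110831 : nd 110831 = n214073 := ndS (p := 78049) (l := 1) rfl N78049 D214073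
theorem N110832 : nd 110832 = n214074 := ndS (p := 78051) (l := 5) rfl N78051 D214074
theorem N110833 : nd 110833 = n214075 := ndS (p := 78051) (l := 6) rfl N78051 D214075
theorem N110834 : nd 110834 = n214076 := ndS (p := 78052) (l := 4) rfl N78052 D214076
theorem N110835 : nd 110835 = n214077 := ndS (p := 78057) (l := 3) rfl N78057 D214077
theorem N110836 : nd 110836 = n214078 := ndS (p := 78061) (l := 3) rfl N78061 D214078
theorem N110837 : nd 110837 = n214079 := ndS (p := 78062) (l := 3) rfl N78062 D214079
theorem N110838 : nd 110838 = n214080 := ndS (p := 78062) (l := 6) rfl N78062 D214080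
theorem N110839 : nd 110839 = n214081 := ndS (p := 78064) (l := 1) rfl N78064 D214081
theorem N110840 : nd 110840 = n214082 := ndS (p := 78064) (l := 2) rfl N78064 D214082
theorem N110841 : nd 110841 = n214083 := ndS (p := 78064) (l := 6) rfl N78064 D214083
theorem N110842 : nd 110842 = n214084 := ndS (p := 78065) (l := 0) rfl N78065 D214084
theorem N110843 : nd 110843 = n214085 := ndS (p := 78066) (l := 2) rfl N78066 D214085
theorem N110844 : nd 110844 = n214086 := ndS (p := 78067) (l := 6) rfl N78067 D214086
theorem N110845 : nd 110845 = n214087 := ndS (p := 78069) (l := 0) rfl N78069 D214087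
theorem N110846 : nd 110846 = n214088 := ndS (p := 78069) (l := 1) rfl N78069 D214088
theorem N110847 : nd 110847 = n214089 := ndS (p := 78069) (l := 7) rfl N78069 D214089
theorem N110848 : nd 110848 = n214090 := ndS (p := 78071) (l := 3) rfl N78071 D214090
theorem N110849 : nd 110849 = n214091 := ndS (p := 78076) (l := 3) rfl N78076 D214091
theorem N110850 : nd 110850 = n214092 := ndS (p := 78077) (l := 2) rfl N78077 D214092
theorem N110851 : nd 110851 = n214093 := ndS (p := 78077) (l := 5) rfl N78077 D214093
theorem N110852 : nd 110852 = n214094 := ndS (p := 78079) (l := 2) rfl N78079 D214094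
theorem N110853 : nd 110853 = n214095 := ndS (p := 78079) (l := 5) rfl N78079 D214095
theorem N110854 : nd 110854 = n214096 := ndS (p := 78080) (l := 6) rfl N78080 D214096
theorem N110855 : nd 110855 = n214097 := ndS (p := 78083) (l := 1) rfl N78083 D214097
theorem N110856 : nd 110856 = n214098 := ndS (p := 78091) (l := 3) rfl N78091 D214098
theorem N110857 : nd 110857 = n214099 := ndS (p := 78091) (l := 4) rfl N78091 D214099
theorem N110858 : nd 110858 = n214100 := ndS (p := 78095) (l := 6) rfl N78095 D214100
theorem N110859 : nd 110859 = n214101 := ndS (p := 78097) (l := 4) rfl N78097 D214101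
theorem N110860 : nd 110860 = n214102 := ndS (p := 78097) (l := 5) rfl N78097 D214102
theorem N110861 : nd 110861 = n214103 := ndS (p := 78097) (l := 6) rfl N78097 D214103
theorem N110862 : nd 110862 = n214104 := ndS (p := 78098) (l := 6) rfl N78098 D214104
theorem N110863 : nd 110863 = n214105 := ndS (p := 78101) (l := 4) rfl N78101 D214105
theorem N110864 : nd 110864 = n214106 := ndS (p := 78103) (l := 6) rfl N78103 D214106
theorem N110865 : nd 110865 = n214107 := ndS (p := 78108) (l := 5) rfl N78108 D214107
theorem N110866 : nd 110866 = n214108 := ndS (p := 78111) (l := 2) rfl N78111 D214108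
theorem N110867 : nd 110867 = n214109 := ndS (p := 78114) (l := 4) rfl N78114 D214109
theorem N110868 : nd 110868 = n214110 := ndS (p := 78115) (l := 0) rfl N78115 D214110
theorem N110869 : nd 110869 = n214111 := ndS (p := 78115) (l := 2) rfl N78115 D214111
theorem N110870 : nd 110870 = n214112 := ndS (p := 78115) (l := 5) rfl N78115 D214112
theorem N110871 : nd 110871 = n214113 := ndS (p := 78116) (l := 4) rfl N78116 D214113
theorem N110872 : nd 110872 = n214114 := ndS (p := 78116) (l := 6) rfl N78116 D214114
theorem N110873 : nd 110873 = n214115 := ndS (p := 78117) (l := 4) rfl N78117 D214115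
theorem N110874 : nd 110874 = n214116 := ndS (p := 78118) (l := 3) rfl N78118 D214116
theorem N110875 : nd 110875 = n214117 := ndS (p := 78118) (l := 4) rfl N78118 D214117
theorem N110876 : nd 110876 = n214118 := ndS (p := 78119) (l := 0) rfl N78119 D214118
theorem N110877 : nd 110877 = n214119 := ndS (p := 78119) (l := 1) rfl N78119 D214119
theorem N110878 : nd 110878 = n214120 := ndS (p := 78119) (l := 3) rfl N78119 D214120
theorem N110879 : nd 110879 = n214121 := ndS (p := 78119) (l := 7) rfl N78119 D214121
theorem N110880 : nd 110880 = n214122 := ndS (p := 78120) (l := 6) rfl N78120 D214122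
theorem N110881 : nd 110881 = n214123 := ndS (p := 78121) (l := 0) rfl N78121 D214123
theorem N110882 : nd 110882 = n214124 := ndS (p := 78121) (l := 2) rfl N78121 D214124
theorem N110883 : nd 110883 = n214125 := ndS (p := 78121) (l := 5) rfl N78121 D214125
theorem N110884 : nd 110884 = n214126 := ndS (p := 78122) (l := 4) rfl N78122 D214126
theorem N110885 : nd 110885 = n214127 := ndS (p := 78122) (l := 6) rfl N78122 D214127
theorem N110886 : nd 110886 = n214128 := ndS (p := 78130) (l := 3) rfl N78130 D214128
theorem N110887 : nd 110887 = n214129 := ndS (p := 78130) (l := 5) rfl N78130 D214129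
theorem N110888 : nd 110888 = n214130 := ndS (p := 78135) (l := 6) rfl N78135 D214130
theorem N110889 : nd 110889 = n214131 := ndS (p := 78137) (l := 6) rfl N78137 D214131
theorem N110890 : nd 110890 = n214132 := ndS (p := 78138) (l := 0) rfl N78138 D214132
theorem N110891 : nd 110891 = n214133 := ndS (p := 78138) (l := 1) rfl N78138 D214133
theorem N110892 : nd 110892 = n214134 := ndS (p := 78142) (l := 1) rfl N78142 D214134
theorem N110893 : nd 110893 = n214135 := ndS (p := 78146) (l := 5) rfl N78146 D214135
theorem N110894 : nd 110894 = n214136 := ndS (p := 78148) (l := 2) rfl N78148 D214136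
theorem N110895 : nd 110895 = n214137 := ndS (p := 78148) (l := 6) rfl N78148 D214137
theorem N110896 : nd 110896 = n214138 := ndS (p := 78157) (l := 3) rfl N78157 D214138
theorem N110897 : nd 110897 = n214139 := ndS (p := 78158) (l := 3) rfl N78158 D214139
theorem N110898 : nd 110898 = n214140 := ndS (p := 78160) (l := 5) rfl N78160 D214140
theorem N110899 : nd 110899 = n214141 := ndS (p := 78162) (l := 4) rfl N78162 D214141
theorem N110900 : nd 110900 = n214142 := ndS (p := 78164) (l := 6) rfl N78164 D214142
theorem N110901 : nd 110901 = n214143 := ndS (p := 78168) (l := 6) rfl N78168 D214143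
theorem N110902 : nd 110902 = n214144 := ndS (p := 78169) (l := 6) rfl N78169 D214144
theorem N110903 : nd 110903 = n214145 := ndS (p := 78172) (l := 5) rfl N78172 D214145
theorem N110904 : nd 110904 = n214146 := ndS (p := 78185) (l := 6) rfl N78185 D214146
theorem N110905 : nd 110905 = n214147 := ndS (p := 78187) (l := 4) rfl N78187 D214147
theorem N110906 : nd 110906 = n214148 := ndS (p := 78188) (l := 3) rfl N78188 D214148
theorem N110907 : nd 110907 = n214149 := ndS (p := 78189) (l := 2) rfl N78189 D214149
theorem N110908 : nd 110908 = n214150 := ndS (p := 78190) (l := 5) rfl N78190 D214150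
theorem N110909 : nd 110909 = n214151 := ndS (p := 78191) (l := 4) rfl N78191 D214151
theorem N110910 : nd 110910 = n214152 := ndS (p := 78191) (l := 6) rfl N78191 D214152
theorem N110911 : nd 110911 = n214153 := ndS (p := 78192) (l := 5) rfl N78192 D214153
theorem N110912 : nd 110912 = n214154 := ndS (p := 78193) (l := 4) rfl N78193 D214154
theorem N110913 : nd 110913 = n214155 := ndS (p := 78193) (l := 6) rfl N78193 D214155
theorem N110914 : nd 110914 = n214156 := ndS (p := 78195) (l := 4) rfl N78195 D214156
theorem N110915 : nd 110915 = n214157 := ndS (p := 78196) (l := 4) rfl N78196 D214157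
theorem N110916 : nd 110916 = n214158 := ndS (p := 78197) (l := 6) rfl N78197 D214158
theorem N110917 : nd 110917 = n214159 := ndS (p := 78203) (l := 6) rfl N78203 D214159
theorem N110918 : nd 110918 = n214160 := ndS (p := 78204) (l := 1) rfl N78204 D214160
theorem N110919 : nd 110919 = n214161 := ndS (p := 78204) (l := 5) rfl N78204 D214161
theorem N110920 : nd 110920 = n214162 := ndS (p := 78205) (l := 6) rfl N78205 D214162
theorem N110921 : nd 110921 = n214163 := ndS (p := 78207) (l := 5) rfl N78207 D214163
theorem N110922 : nd 110922 = n214164 := ndS (p := 78208) (l := 4) rfl N78208 D214164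
theorem N110923 : nd 110923 = n214165 := ndS (p := 78209) (l := 6) rfl N78209 D214165
theorem N110924 : nd 110924 = n214166 := ndS (p := 78210) (l := 0) rfl N78210 D214166
theorem N110925 : nd 110925 = n214167 := ndS (p := 78210) (l := 1) rfl N78210 D214167
theorem N110926 : nd 110926 = n214168 := ndS (p := 78210) (l := 7) rfl N78210 D214168
theorem N110927 : nd 110927 = n214169 := ndS (p := 78216) (l := 6) rfl N78216 D214169
theorem N110928 : nd 110928 = n214170 := ndS (p := 78224) (l := 6) rfl N78224 D214170
theorem N110929 : nd 110929 = n214171 := ndS (p := 78225) (l := 6) rfl N78225 D214171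
theorem N110930 : nd 110930 = n214172 := ndS (p := 78226) (l := 0) rfl N78226 D214172
theorem N110931 : nd 110931 = n214173 := ndS (p := 78228) (l := 6) rfl N78228 D214173
theorem N110932 : nd 110932 = n214174 := ndS (p := 78232) (l := 3) rfl N78232 D214174
theorem N110933 : nd 110933 = n214175 := ndS (p := 78234) (l := 4) rfl N78234 D214175
theorem N110934 : nd 110934 = n214176 := ndS (p := 78235) (l := 5) rfl N78235 D214176
theorem N110935 : nd 110935 = n214177 := ndS (p := 78236) (l := 5) rfl N78236 D214177
theorem N110936 : nd 110936 = n214178 := ndS (p := 78236) (l := 6) rfl N78236 D214178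
theorem N110937 : nd 110937 = n214179 := ndS (p := 78239) (l := 0) rfl N78239 D214179
theorem N110938 : nd 110938 = n214180 := ndS (p := 78239) (l := 2) rfl N78239 D214180
theorem N110939 : nd 110939 = n214181 := ndS (p := 78240) (l := 1) rfl N78240 D214181
theorem N110940 : nd 110940 = n214182 := ndS (p := 78240) (l := 2) rfl N78240 D214182
theorem N110941 : nd 110941 = n214183 := ndS (p := 78240) (l := 6) rfl N78240 D214183
theorem N110942 : nd 110942 = n214184 := ndS (p := 78242) (l := 3) rfl N78242 D214184
theorem N110943 : nd 110943 = n214185 := ndS (p := 78243) (l := 6) rfl N78243 D214185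
theorem N110944 : nd 110944 = n214186 := ndS (p := 78244) (l := 0) rfl N78244 D214186
theorem N110945 : nd 110945 = n214187 := ndS (p := 78244) (l := 2) rfl N78244 D214187
theorem N110946 : nd 110946 = n214188 := ndS (p := 78246) (l := 5) rfl N78246 D214188
theorem N110947 : nd 110947 = n214189 := ndS (p := 78246) (l := 6) rfl N78246 D214189
theorem N110948 : nd 110948 = n214190 := ndS (p := 78250) (l := 6) rfl N78250 D214190
theorem N110949 : nd 110949 = n214191 := ndS (p := 78251) (l := 5) rfl N78251 D214191
theorem N110950 : nd 110950 = n214192 := ndS (p := 78259) (l := 6) rfl N78259 D214192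
theorem N110951 : nd 110951 = n214193 := ndS (p := 78260) (l := 5) rfl N78260 D214193
theorem N110952 : nd 110952 = n214194 := ndS (p := 78262) (l := 1) rfl N78262 D214194
theorem N110953 : nd 110953 = n214195 := ndS (p := 78262) (l := 5) rfl N78262 D214195
theorem N110954 : nd 110954 = n214196 := ndS (p := 78262) (l := 7) rfl N78262 D214196
theorem N110955 : nd 110955 = n214197 := ndS (p := 78263) (l := 5) rfl N78263 D214197
theorem N110956 : nd 110956 = n214198 := ndS (p := 78264) (l := 0) rfl N78264 D214198
theorem N110957 : nd 110957 = n214199 := ndS (p := 78264) (l := 7) rfl N78264 D214199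
theorem N110958 : nd 110958 = n214200 := ndS (p := 78266) (l := 0) rfl N78266 D214200
theorem N110959 : nd 110959 = n214201 := ndS (p := 78266) (l := 1) rfl N78266 D214201
theorem N110960 : nd 110960 = n214202 := ndS (p := 78266) (l := 4) rfl N78266 D214202
theorem N110961 : nd 110961 = n214203 := ndS (p := 78266) (l := 7) rfl N78266 D214203
theorem N110962 : nd 110962 = n214204 := ndS (p := 78268) (l := 0) rfl N78268 D214204
theorem N110963 : nd 110963 = n214205 := ndS (p := 78268) (l := 2) rfl N78268 D214205
theorem N110964 : nd 110964 = n214206 := ndS (p := 78268) (l := 5) rfl N78268 D214206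
theorem N110965 : nd 110965 = n214207 := ndS (p := 78269) (l := 4) rfl N78269 D214207
theorem N110966 : nd 110966 = n214208 := ndS (p := 78269) (l := 6) rfl N78269 D214208
theorem N110967 : nd 110967 = n214209 := ndS (p := 78270) (l := 4) rfl N78270 D214209
theorem N110968 : nd 110968 = n214210 := ndS (p := 78270) (l := 6) rfl N78270 D214210
theorem N110969 : nd 110969 = n214211 := ndS (p := 78271) (l := 3) rfl N78271 D214211
theorem N110970 : nd 110970 = n214212 := ndS (p := 78272) (l := 3) rfl N78272 D214212
theorem N110971 : nd 110971 = n214213 := ndS (p := 78272) (l := 5) rfl N78272 D214213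
theorem N110972 : nd 110972 = n214214 := ndS (p := 78272) (l := 7) rfl N78272 D214214
theorem N110973 : nd 110973 = n214215 := ndS (p := 78273) (l := 6) rfl N78273 D214215
theorem N110974 : nd 110974 = n214216 := ndS (p := 78274) (l := 5) rfl N78274 D214216
theorem N110975 : nd 110975 = n214217 := ndS (p := 78278) (l := 3) rfl N78278 D214217
theorem N110976 : nd 110976 = n214218 := ndS (p := 78278) (l := 5) rfl N78278 D214218
theorem N110977 : nd 110977 = n214219 := ndS (p := 78284) (l := 6) rfl N78284 D214219
theorem N110978 : nd 110978 = n214220 := ndS (p := 78285) (l := 3) rfl N78285 D214220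
theorem N110979 : nd 110979 = n214221 := ndS (p := 78292) (l := 1) rfl N78292 D214221
theorem N110980 : nd 110980 = n214222 := ndS (p := 78294) (l := 4) rfl N78294 D214222
theorem N110981 : nd 110981 = n214223 := ndS (p := 78298) (l := 5) rfl N78298 D214223
theorem N110982 : nd 110982 = n214224 := ndS (p := 78302) (l := 1) rfl N78302 D214224
theorem N110983 : nd 110983 = n214225 := ndS (p := 78303) (l := 5) rfl N78303 D214225
theorem N110984 : nd 110984 = n214226 := ndS (p := 78305) (l := 5) rfl N78305 D214226
theorem N110985 : nd 110985 = n214227 := ndS (p := 78306) (l := 3) rfl N78306 D214227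
theorem N110986 : nd 110986 = n214228 := ndS (p := 78311) (l := 4) rfl N78311 D214228
theorem N110987 : nd 110987 = n214229 := ndS (p := 78316) (l := 6) rfl N78316 D214229
theorem N110988 : nd 110988 = n214230 := ndS (p := 78318) (l := 5) rfl N78318 D214230
theorem N110989 : nd 110989 = n214231 := ndS (p := 78320) (l := 3) rfl N78320 D214231
theorem N110990 : nd 110990 = n214232 := ndS (p := 78325) (l := 5) rfl N78325 D214232
theorem N110991 : nd 110991 = n214233 := ndS (p := 78329) (l := 3) rfl N78329 D214233
theorem N110992 : nd 110992 = n214234 := ndS (p := 78339) (l := 5) rfl N78339 D214234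
theorem N110993 : nd 110993 = n214235 := ndS (p := 78342) (l := 7) rfl N78342 D214235
theorem N110994 : nd 110994 = n214236 := ndS (p := 78343) (l := 6) rfl N78343 D214236
theorem N110995 : nd 110995 = n214237 := ndS (p := 78351) (l := 6) rfl N78351 D214237
theorem N110996 : nd 110996 = n214238 := ndS (p := 78352) (l := 0) rfl N78352 D214238
theorem N110997 : nd 110997 = n214239 := ndS (p := 78364) (l := 4) rfl N78364 D214239
theorem N110998 : nd 110998 = n214240 := ndS (p := 78366) (l := 5) rfl N78366 D214240
theorem N110999 : nd 110999 = n214241 := ndS (p := 78367) (l := 5) rfl N78367 D214241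
theorem N111000 : nd 111000 = n214242 := ndS (p := 78368) (l := 6) rfl N78368 D214242
theorem N111001 : nd 111001 = n214243 := ndS (p := 78371) (l := 0) rfl N78371 D214243
theorem N111002 : nd 111002 = n214244 := ndS (p := 78382) (l := 6) rfl N78382 D214244
theorem N111003 : nd 111003 = n214245 := ndS (p := 78384) (l := 1) rfl N78384 D214245
theorem N111004 : nd 111004 = n214246 := ndS (p := 78388) (l := 5) rfl N78388 D214246
theorem N111005 : nd 111005 = n214247 := ndS (p := 78392) (l := 5) rfl N78392 D214247
theorem N111006 : nd 111006 = n214248 := ndS (p := 78393) (l := 6) rfl N78393 D214248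
theorem N111007 : nd 111007 = n214249 := ndS (p := 78397) (l := 4) rfl N78397 D214249
theorem N111008 : nd 111008 = n214250 := ndS (p := 78398) (l := 3) rfl N78398 D214250
theorem N111009 : nd 111009 = n214251 := ndS (p := 78407) (l := 5) rfl N78407 D214251
theorem N111010 : nd 111010 = n214252 := ndS (p := 78412) (l := 1) rfl N78412 D214252
theorem N111011 : nd 111011 = n214253 := ndS (p := 78413) (l := 5) rfl N78413 D214253
theorem N111012 : nd 111012 = n214254 := ndS (p := 78415) (l := 6) rfl N78415 D214254
theorem N111013 : nd 111013 = n214255 := ndS (p := 78416) (l := 5) rfl N78416 D214255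
theorem N111014 : nd 111014 = n214256 := ndS (p := 78416) (l := 6) rfl N78416 D214256
theorem N111015 : nd 111015 = n214257 := ndS (p := 78418) (l := 6) rfl N78418 D214257
theorem N111016 : nd 111016 = n214258 := ndS (p := 78424) (l := 4) rfl N78424 D214258
theorem N111017 : nd 111017 = n214259 := ndS (p := 78425) (l := 6) rfl N78425 D214259
theorem N111018 : nd 111018 = n214260 := ndS (p := 78426) (l := 5) rfl N78426 D214260
theorem N111019 : nd 111019 = n214261 := ndS (p := 78427) (l := 0) rfl N78427 D214261
theorem N111020 : nd 111020 = n214262 := ndS (p := 78427) (l := 1) rfl N78427 D214262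
theorem N111021 : nd 111021 = n214263 := ndS (p := 78428) (l := 3) rfl N78428 D214263
theorem N111022 : nd 111022 = n214264 := ndS (p := 78429) (l := 3) rfl N78429 D214264
theorem N111023 : nd 111023 = n214265 := ndS (p := 78429) (l := 5) rfl N78429 D214265
theorem N111024 : nd 111024 = n214266 := ndS (p := 78433) (l := 3) rfl N78433 D214266
theorem N111025 : nd 111025 = n214267 := ndS (p := 78433) (l := 5) rfl N78433 D214267
theorem N111026 : nd 111026 = n214268 := ndS (p := 78436) (l := 2) rfl N78436 D214268
theorem N111027 : nd 111027 = n214269 := ndS (p := 78439) (l := 6) rfl N78439 D214269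
theorem N111028 : nd 111028 = n214270 := ndS (p := 78441) (l := 5) rfl N78441 D214270
theorem N111029 : nd 111029 = n214271 := ndS (p := 78443) (l := 3) rfl N78443 D214271
theorem N111030 : nd 111030 = n214272 := ndS (p := 78444) (l := 4) rfl N78444 D214272
theorem N111031 : nd 111031 = n214273 := ndS (p := 78446) (l := 0) rfl N78446 D214273
theorem N111032 : nd 111032 = n214274 := ndS (p := 78446) (l := 2) rfl N78446 D214274
theorem N111033 : nd 111033 = n214275 := ndS (p := 78446) (l := 5) rfl N78446 D214275
theorem N111034 : nd 111034 = n214276 := ndS (p := 78450) (l := 5) rfl N78450 D214276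
theorem N111035 : nd 111035 = n214277 := ndS (p := 78452) (l := 5) rfl N78452 D214277
theorem N111036 : nd 111036 = n214278 := ndS (p := 78453) (l := 3) rfl N78453 D214278
theorem N111037 : nd 111037 = n214279 := ndS (p := 78455) (l := 1) rfl N78455 D214279
theorem N111038 : nd 111038 = n214280 := ndS (p := 78455) (l := 2) rfl N78455 D214280
theorem N111039 : nd 111039 = n214281 := ndS (p := 78455) (l := 6) rfl N78455 D214281
theorem N111040 : nd 111040 = n214282 := ndS (p := 78456) (l := 6) rfl N78456 D214282
theorem N111041 : nd 111041 = n214283 := ndS (p := 78458) (l := 5) rfl N78458 D214283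
theorem N111042 : nd 111042 = n214284 := ndS (p := 78467) (l := 5) rfl N78467 D214284
theorem N111043 : nd 111043 = n214285 := ndS (p := 78468) (l := 5) rfl N78468 D214285
theorem N111044 : nd 111044 = n214286 := ndS (p := 78469) (l := 6) rfl N78469 D214286
theorem N111045 : nd 111045 = n214287 := ndS (p := 78475) (l := 5) rfl N78475 D214287
theorem N111046 : nd 111046 = n214288 := ndS (p := 78476) (l := 6) rfl N78476 D214288
theorem N111047 : nd 111047 = n214289 := ndS (p := 78477) (l := 0) rfl N78477 D214289
theorem N111048 : nd 111048 = n214290 := ndS (p := 78477) (l := 5) rfl N78477 D214290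
theorem N111049 : nd 111049 = n214291 := ndS (p := 78484) (l := 0) rfl N78484 D214291
theorem N111050 : nd 111050 = n214292 := ndS (p := 78484) (l := 2) rfl N78484 D214292
theorem N111051 : nd 111051 = n214293 := ndS (p := 78488) (l := 6) rfl N78488 D214293
theorem N111052 : nd 111052 = n214294 := ndS (p := 78490) (l := 6) rfl N78490 D214294
theorem N111053 : nd 111053 = n214295 := ndS (p := 78491) (l := 3) rfl N78491 D214295
theorem N111054 : nd 111054 = n214296 := ndS (p := 78492) (l := 5) rfl N78492 D214296
theorem N111055 : nd 111055 = n214297 := ndS (p := 78493) (l := 0) rfl N78493 D214297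
theorem N111056 : nd 111056 = n214298 := ndS (p := 78493) (l := 1) rfl N78493 D214298
theorem N111057 : nd 111057 = n214299 := ndS (p := 78494) (l := 0) rfl N78494 D214299
theorem N111058 : nd 111058 = n214300 := ndS (p := 78494) (l := 1) rfl N78494 D214300
theorem N111059 : nd 111059 = n214301 := ndS (p := 78494) (l := 7) rfl N78494 D214301
theorem N111060 : nd 111060 = n214302 := ndS (p := 78495) (l := 3) rfl N78495 D214302
theorem N111061 : nd 111061 = n214303 := ndS (p := 78495) (l := 4) rfl N78495 D214303
theorem N111062 : nd 111062 = n214304 := ndS (p := 78499) (l := 5) rfl N78499 D214304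
theorem N111063 : nd 111063 = n214305 := ndS (p := 78502) (l := 3) rfl N78502 D214305
theorem N111064 : nd 111064 = n214306 := ndS (p := 78503) (l := 7) rfl N78503 D214306
theorem N111065 : nd 111065 = n214307 := ndS (p := 78504) (l := 3) rfl N78504 D214307
theorem N111066 : nd 111066 = n214308 := ndS (p := 78508) (l := 2) rfl N78508 D214308
theorem N111067 : nd 111067 = n214309 := ndS (p := 78508) (l := 4) rfl N78508 D214309
theorem N111068 : nd 111068 = n214310 := ndS (p := 78511) (l := 3) rfl N78511 D214310
theorem N111069 : nd 111069 = n214311 := ndS (p := 78514) (l := 2) rfl N78514 D214311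
theorem N111070 : nd 111070 = n214312 := ndS (p := 78514) (l := 6) rfl N78514 D214312
theorem N111071 : nd 111071 = n214313 := ndS (p := 78518) (l := 6) rfl N78518 D214313
theorem N111072 : nd 111072 = n214314 := ndS (p := 78521) (l := 4) rfl N78521 D214314
theorem N111073 : nd 111073 = n214315 := ndS (p := 78522) (l := 4) rfl N78522 D214315
theorem N111074 : nd 111074 = n214316 := ndS (p := 78525) (l := 4) rfl N78525 D214316
theorem N111075 : nd 111075 = n214317 := ndS (p := 78526) (l := 3) rfl N78526 D214317
theorem N111076 : nd 111076 = n214318 := ndS (p := 78528) (l := 1) rfl N78528 D214318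
theorem N111077 : nd 111077 = n214319 := ndS (p := 78528) (l := 2) rfl N78528 D214319
theorem N111078 : nd 111078 = n214320 := ndS (p := 78531) (l := 6) rfl N78531 D214320
theorem N111079 : nd 111079 = n214321 := ndS (p := 78532) (l := 3) rfl N78532 D214321
theorem N111080 : nd 111080 = n214322 := ndS (p := 78533) (l := 4) rfl N78533 D214322
theorem N111081 : nd 111081 = n214323 := ndS (p := 78535) (l := 0) rfl N78535 D214323
theorem N111082 : nd 111082 = n214324 := ndS (p := 78538) (l := 3) rfl N78538 D214324
theorem N111083 : nd 111083 = n214325 := ndS (p := 78538) (l := 5) rfl N78538 D214325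
theorem N111084 : nd 111084 = n214326 := ndS (p := 78538) (l := 6) rfl N78538 D214326
theorem N111085 : nd 111085 = n214327 := ndS (p := 78539) (l := 3) rfl N78539 D214327
theorem N111086 : nd 111086 = n214328 := ndS (p := 78539) (l := 5) rfl N78539 D214328
theorem N111087 : nd 111087 = n214329 := ndS (p := 78544) (l := 6) rfl N78544 D214329
theorem N111088 : nd 111088 = n214330 := ndS (p := 78546) (l := 7) rfl N78546 D214330
theorem N111089 : nd 111089 = n214331 := ndS (p := 78550) (l := 5) rfl N78550 D214331
theorem N111090 : nd 111090 = n214332 := ndS (p := 78559) (l := 6) rfl N78559 D214332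
theorem N111091 : nd 111091 = n214333 := ndS (p := 78562) (l := 6) rfl N78562 D214333
theorem N111092 : nd 111092 = n214334 := ndS (p := 78564) (l := 6) rfl N78564 D214334
theorem N111093 : nd 111093 = n214335 := ndS (p := 78568) (l := 4) rfl N78568 D214335
theorem N111094 : nd 111094 = n214336 := ndS (p := 78568) (l := 6) rfl N78568 D214336
theorem N111095 : nd 111095 = n214337 := ndS (p := 78570) (l := 3) rfl N78570 D214337
theorem N111096 : nd 111096 = n214338 := ndS (p := 78570) (l := 6) rfl N78570 D214338
theorem N111097 : nd 111097 = n214339 := ndS (p := 78592) (l := 5) rfl N78592 D214339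
theorem N111098 : nd 111098 = n214340 := ndS (p := 78597) (l := 4) rfl N78597 D214340
theorem N111099 : nd 111099 = n214341 := ndS (p := 78598) (l := 4) rfl N78598 D214341
theorem N111100 : nd 111100 = n214342 := ndS (p := 78598) (l := 6) rfl N78598 D214342
theorem N111101 : nd 111101 = n214343 := ndS (p := 78602) (l := 7) rfl N78602 D214343
theorem N111102 : nd 111102 = n214344 := ndS (p := 78613) (l := 4) rfl N78613 D214344
theorem N111103 : nd 111103 = n214345 := ndS (p := 78614) (l := 1) rfl N78614 D214345
theorem N111104 : nd 111104 = n214346 := ndS (p := 78626) (l := 5) rfl N78626 D214346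
theorem N111105 : nd 111105 = n214347 := ndS (p := 78633) (l := 7) rfl N78633 D214347
theorem N111106 : nd 111106 = n214348 := ndS (p := 78642) (l := 6) rfl N78642 D214348
theorem N111107 : nd 111107 = n214349 := ndS (p := 78645) (l := 5) rfl N78645 D214349
theorem N111108 : nd 111108 = n214350 := ndS (p := 78646) (l := 5) rfl N78646 D214350
theorem N111109 : nd 111109 = n214351 := ndS (p := 78647) (l := 6) rfl N78647 D214351
theorem N111110 : nd 111110 = n214352 := ndS (p := 78649) (l := 5) rfl N78649 D214352
theorem N111111 : nd 111111 = n214353 := ndS (p := 78650) (l := 5) rfl N78650 D214353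
theorem N111112 : nd 111112 = n214354 := ndS (p := 78655) (l := 3) rfl N78655 D214354
theorem N111113 : nd 111113 = n214355 := ndS (p := 78656) (l := 3) rfl N78656 D214355
theorem N111114 : nd 111114 = n214356 := ndS (p := 78659) (l := 4) rfl N78659 D214356
theorem N111115 : nd 111115 = n214357 := ndS (p := 78663) (l := 5) rfl N78663 D214357
theorem N111116 : nd 111116 = n214358 := ndS (p := 78665) (l := 5) rfl N78665 D214358
theorem N111117 : nd 111117 = n214359 := ndS (p := 78667) (l := 6) rfl N78667 D214359
theorem N111118 : nd 111118 = n214360 := ndS (p := 78671) (l := 4) rfl N78671 D214360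
theorem N111119 : nd 111119 = n214361 := ndS (p := 78671) (l := 6) rfl N78671 D214361
theorem N111120 : nd 111120 = n214362 := ndS (p := 78673) (l := 6) rfl N78673 D214362
theorem N111121 : nd 111121 = n214363 := ndS (p := 78674) (l := 0) rfl N78674 D214363
theorem N111122 : nd 111122 = n214364 := ndS (p := 78674) (l := 1) rfl N78674 D214364
theorem N111123 : nd 111123 = n214365 := ndS (p := 78674) (l := 5) rfl N78674 D214365
theorem N111124 : nd 111124 = n214366 := ndS (p := 78682) (l := 6) rfl N78682 D214366
theorem N111125 : nd 111125 = n214367 := ndS (p := 78684) (l := 2) rfl N78684 D214367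
theorem N111126 : nd 111126 = n214368 := ndS (p := 78686) (l := 6) rfl N78686 D214368
theorem N111127 : nd 111127 = n214369 := ndS (p := 78696) (l := 4) rfl N78696 D214369
theorem N111128 : nd 111128 = n214370 := ndS (p := 78698) (l := 0) rfl N78698 D214370
theorem N111129 : nd 111129 = n214371 := ndS (p := 78700) (l := 6) rfl N78700 D214371
theorem N111130 : nd 111130 = n214372 := ndS (p := 78720) (l := 4) rfl N78720 D214372
theorem N111131 : nd 111131 = n214373 := ndS (p := 78733) (l := 3) rfl N78733 D214373
theorem N111132 : nd 111132 = n214374 := ndS (p := 78733) (l := 4) rfl N78733 D214374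
theorem N111133 : nd 111133 = n214375 := ndS (p := 78735) (l := 5) rfl N78735 D214375
theorem N111134 : nd 111134 = n214376 := ndS (p := 78736) (l := 4) rfl N78736 D214376
theorem N111135 : nd 111135 = n214377 := ndS (p := 78746) (l := 5) rfl N78746 D214377
theorem N111136 : nd 111136 = n214378 := ndS (p := 78747) (l := 5) rfl N78747 D214378
theorem N111137 : nd 111137 = n214379 := ndS (p := 78749) (l := 5) rfl N78749 D214379
theorem N111138 : nd 111138 = n214380 := ndS (p := 78753) (l := 5) rfl N78753 D214380
theorem N111139 : nd 111139 = n214381 := ndS (p := 78755) (l := 0) rfl N78755 D214381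
theorem N111140 : nd 111140 = n214382 := ndS (p := 78755) (l := 4) rfl N78755 D214382
theorem N111141 : nd 111141 = n214383 := ndS (p := 78758) (l := 6) rfl N78758 D214383
theorem N111142 : nd 111142 = n214384 := ndS (p := 78760) (l := 4) rfl N78760 D214384
theorem N111143 : nd 111143 = n214385 := ndS (p := 78760) (l := 6) rfl N78760 D214385
theorem N111144 : nd 111144 = n214386 := ndS (p := 78762) (l := 3) rfl N78762 D214386
theorem N111145 : nd 111145 = n214387 := ndS (p := 78765) (l := 3) rfl N78765 D214387
theorem N111146 : nd 111146 = n214388 := ndS (p := 78765) (l := 5) rfl N78765 D214388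
theorem N111147 : nd 111147 = n214389 := ndS (p := 78766) (l := 2) rfl N78766 D214389
theorem N111148 : nd 111148 = n214390 := ndS (p := 78766) (l := 5) rfl N78766 D214390
theorem N111149 : nd 111149 = n214391 := ndS (p := 78767) (l := 0) rfl N78767 D214391
theorem N111150 : nd 111150 = n214392 := ndS (p := 78767) (l := 1) rfl N78767 D214392
theorem N111151 : nd 111151 = n214393 := ndS (p := 78768) (l := 0) rfl N78768 D214393
theorem N111152 : nd 111152 = n214394 := ndS (p := 78768) (l := 1) rfl N78768 D214394
theorem N111153 : nd 111153 = n214395 := ndS (p := 78769) (l := 7) rfl N78769 D214395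
theorem N111154 : nd 111154 = n214396 := ndS (p := 78771) (l := 6) rfl N78771 D214396
theorem N111155 : nd 111155 = n214397 := ndS (p := 78773) (l := 6) rfl N78773 D214397
theorem N111156 : nd 111156 = n214398 := ndS (p := 78774) (l := 7) rfl N78774 D214398
theorem N111157 : nd 111157 = n214399 := ndS (p := 78776) (l := 3) rfl N78776 D214399
theorem N111158 : nd 111158 = n214400 := ndS (p := 78778) (l := 3) rfl N78778 D214400
theorem N111159 : nd 111159 = n214401 := ndS (p := 78778) (l := 6) rfl N78778 D214401
theorem N111160 : nd 111160 = n214402 := ndS (p := 78779) (l := 7) rfl N78779 D214402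
theorem N111161 : nd 111161 = n214403 := ndS (p := 78780) (l := 1) rfl N78780 D214403
theorem N111162 : nd 111162 = n214404 := ndS (p := 78780) (l := 2) rfl N78780 D214404
theorem N111163 : nd 111163 = n214405 := ndS (p := 78781) (l := 0) rfl N78781 D214405
theorem N111164 : nd 111164 = n214406 := ndS (p := 78781) (l := 1) rfl N78781 D214406
theorem N111165 : nd 111165 = n214407 := ndS (p := 78781) (l := 7) rfl N78781 D214407
theorem N111166 : nd 111166 = n214408 := ndS (p := 78783) (l := 6) rfl N78783 D214408
theorem N111167 : nd 111167 = n214409 := ndS (p := 78785) (l := 0) rfl N78785 D214409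
theorem N111168 : nd 111168 = n214410 := ndS (p := 78785) (l := 1) rfl N78785 D214410
theorem N111169 : nd 111169 = n214411 := ndS (p := 78786) (l := 0) rfl N78786 D214411
theorem N111170 : nd 111170 = n214412 := ndS (p := 78786) (l := 1) rfl N78786 D214412
theorem N111171 : nd 111171 = n214413 := ndS (p := 78787) (l := 5) rfl N78787 D214413
theorem N111172 : nd 111172 = n214414 := ndS (p := 78788) (l := 3) rfl N78788 D214414
theorem N111173 : nd 111173 = n214415 := ndS (p := 78788) (l := 4) rfl N78788 D214415
theorem N111174 : nd 111174 = n214416 := ndS (p := 78794) (l := 3) rfl N78794 D214416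
theorem N111175 : nd 111175 = n214417 := ndS (p := 78794) (l := 5) rfl N78794 D214417
theorem N111176 : nd 111176 = n214418 := ndS (p := 78795) (l := 3) rfl N78795 D214418
theorem N111177 : nd 111177 = n214419 := ndS (p := 78795) (l := 4) rfl N78795 D214419
theorem N111178 : nd 111178 = n214420 := ndS (p := 78797) (l := 3) rfl N78797 D214420
theorem N111179 : nd 111179 = n214421 := ndS (p := 78797) (l := 4) rfl N78797 D214421
theorem N111180 : nd 111180 = n214422 := ndS (p := 78797) (l := 5) rfl N78797 D214422
theorem N111181 : nd 111181 = n214423 := ndS (p := 78798) (l := 4) rfl N78798 D214423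
theorem N111182 : nd 111182 = n214424 := ndS (p := 78800) (l := 6) rfl N78800 D214424
theorem N111183 : nd 111183 = n214425 := ndS (p := 78801) (l := 6) rfl N78801 D214425
theorem N111184 : nd 111184 = n214426 := ndS (p := 78802) (l := 1) rfl N78802 D214426
theorem N111185 : nd 111185 = n214427 := ndS (p := 78802) (l := 7) rfl N78802 D214427
theorem N111186 : nd 111186 = n214428 := ndS (p := 78803) (l := 0) rfl N78803 D214428
theorem N111187 : nd 111187 = n214429 := ndS (p := 78803) (l := 1) rfl N78803 D214429
theorem N111188 : nd 111188 = n214430 := ndS (p := 78803) (l := 6) rfl N78803 D214430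
theorem N111189 : nd 111189 = n214431 := ndS (p := 78806) (l := 6) rfl N78806 D214431
theorem N111190 : nd 111190 = n214432 := ndS (p := 78808) (l := 6) rfl N78808 D214432
theorem N111191 : nd 111191 = n214433 := ndS (p := 78810) (l := 6) rfl N78810 D214433
theorem N111192 : nd 111192 = n214434 := ndS (p := 78811) (l := 0) rfl N78811 D214434
theorem N111193 : nd 111193 = n214435 := ndS (p := 78811) (l := 1) rfl N78811 D214435
theorem N111194 : nd 111194 = n214436 := ndS (p := 78811) (l := 2) rfl N78811 D214436
theorem N111195 : nd 111195 = n214437 := ndS (p := 78814) (l := 6) rfl N78814 D214437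
theorem N111196 : nd 111196 = n214438 := ndS (p := 78827) (l := 1) rfl N78827 D214438
theorem N111197 : nd 111197 = n214439 := ndS (p := 78827) (l := 5) rfl N78827 D214439
theorem N111198 : nd 111198 = n214440 := ndS (p := 78829) (l := 5) rfl N78829 D214440
theorem N111199 : nd 111199 = n214441 := ndS (p := 78829) (l := 6) rfl N78829 D214441
theorem N111200 : nd 111200 = n214442 := ndS (p := 78830) (l := 5) rfl N78830 D214442
theorem N111201 : nd 111201 = n214443 := ndS (p := 78832) (l := 4) rfl N78832 D214443
theorem N111202 : nd 111202 = n214444 := ndS (p := 78832) (l := 6) rfl N78832 D214444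
theorem N111203 : nd 111203 = n214445 := ndS (p := 78833) (l := 3) rfl N78833 D214445
theorem N111204 : nd 111204 = n214446 := ndS (p := 78833) (l := 6) rfl N78833 D214446
theorem N111205 : nd 111205 = n214447 := ndS (p := 78834) (l := 0) rfl N78834 D214447
theorem N111206 : nd 111206 = n214448 := ndS (p := 78834) (l := 1) rfl N78834 D214448
theorem N111207 : nd 111207 = n214449 := ndS (p := 78834) (l := 7) rfl N78834 D214449
theorem N111208 : nd 111208 = n214450 := ndS (p := 78838) (l := 3) rfl N78838 D214450
theorem N111209 : nd 111209 = n214451 := ndS (p := 78842) (l := 6) rfl N78842 D214451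
theorem N111210 : nd 111210 = n214452 := ndS (p := 78844) (l := 5) rfl N78844 D214452
theorem N111211 : nd 111211 = n214453 := ndS (p := 78849) (l := 6) rfl N78849 D214453
theorem N111212 : nd 111212 = n214454 := ndS (p := 78850) (l := 1) rfl N78850 D214454
theorem N111213 : nd 111213 = n214455 := ndS (p := 78851) (l := 6) rfl N78851 D214455
theorem N111214 : nd 111214 = n214456 := ndS (p := 78852) (l := 4) rfl N78852 D214456
theorem N111215 : nd 111215 = n214457 := ndS (p := 78854) (l := 3) rfl N78854 D214457
theorem N111216 : nd 111216 = n214458 := ndS (p := 78854) (l := 6) rfl N78854 D214458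
theorem N111217 : nd 111217 = n214459 := ndS (p := 78857) (l := 4) rfl N78857 D214459
theorem N111218 : nd 111218 = n214460 := ndS (p := 78859) (l := 1) rfl N78859 D214460
theorem N111219 : nd 111219 = n214461 := ndS (p := 78864) (l := 6) rfl N78864 D214461
theorem N111220 : nd 111220 = n214462 := ndS (p := 78866) (l := 6) rfl N78866 D214462
theorem N111221 : nd 111221 = n214463 := ndS (p := 78868) (l := 5) rfl N78868 D214463
theorem N111222 : nd 111222 = n214464 := ndS (p := 78869) (l := 3) rfl N78869 D214464
theorem N111223 : nd 111223 = n214465 := ndS (p := 78869) (l := 5) rfl N78869 D214465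
theorem N111224 : nd 111224 = n214466 := ndS (p := 78871) (l := 0) rfl N78871 D214466
theorem N111225 : nd 111225 = n214467 := ndS (p := 78873) (l := 5) rfl N78873 D214467
theorem N111226 : nd 111226 = n214468 := ndS (p := 78874) (l := 0) rfl N78874 D214468
theorem N111227 : nd 111227 = n214469 := ndS (p := 78874) (l := 1) rfl N78874 D214469
theorem N111228 : nd 111228 = n214470 := ndS (p := 78876) (l := 7) rfl N78876 D214470
theorem N111229 : nd 111229 = n214471 := ndS (p := 78883) (l := 3) rfl N78883 D214471
theorem N111230 : nd 111230 = n214472 := ndS (p := 78885) (l := 4) rfl N78885 D214472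
theorem N111231 : nd 111231 = n214473 := ndS (p := 78889) (l := 6) rfl N78889 D214473
theorem N111232 : nd 111232 = n214474 := ndS (p := 78890) (l := 5) rfl N78890 D214474
theorem N111233 : nd 111233 = n214475 := ndS (p := 78895) (l := 6) rfl N78895 D214475
theorem N111234 : nd 111234 = n214476 := ndS (p := 78896) (l := 7) rfl N78896 D214476
theorem N111235 : nd 111235 = n214477 := ndS (p := 78899) (l := 7) rfl N78899 D214477
theorem N111236 : nd 111236 = n214478 := ndS (p := 78900) (l := 6) rfl N78900 D214478
theorem N111237 : nd 111237 = n214479 := ndS (p := 78901) (l := 6) rfl N78901 D214479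
theorem N111238 : nd 111238 = n214480 := ndS (p := 78905) (l := 5) rfl N78905 D214480
theorem N111239 : nd 111239 = n214481 := ndS (p := 78905) (l := 6) rfl N78905 D214481
theorem N111240 : nd 111240 = n214482 := ndS (p := 78906) (l := 5) rfl N78906 D214482
theorem N111241 : nd 111241 = n214483 := ndS (p := 78907) (l := 0) rfl N78907 D214483
theorem N111242 : nd 111242 = n214484 := ndS (p := 78907) (l := 1) rfl N78907 D214484
theorem N111243 : nd 111243 = n214485 := ndS (p := 78907) (l := 4) rfl N78907 D214485
theorem N111244 : nd 111244 = n214486 := ndS (p := 78909) (l := 7) rfl N78909 D214486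
theorem N111245 : nd 111245 = n214487 := ndS (p := 78910) (l := 1) rfl N78910 D214487
theorem N111246 : nd 111246 = n214488 := ndS (p := 78910) (l := 5) rfl N78910 D214488
theorem N111247 : nd 111247 = n214489 := ndS (p := 78911) (l := 5) rfl N78911 D214489
theorem N111248 : nd 111248 = n214490 := ndS (p := 78912) (l := 1) rfl N78912 D214490
theorem N111249 : nd 111249 = n214491 := ndS (p := 78913) (l := 1) rfl N78913 D214491
theorem N111250 : nd 111250 = n214492 := ndS (p := 78914) (l := 5) rfl N78914 D214492
theorem N111251 : nd 111251 = n214493 := ndS (p := 78914) (l := 7) rfl N78914 D214493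
theorem N111252 : nd 111252 = n214494 := ndS (p := 78915) (l := 6) rfl N78915 D214494
theorem N111253 : nd 111253 = n214495 := ndS (p := 78917) (l := 1) rfl N78917 D214495
theorem N111254 : nd 111254 = n214496 := ndS (p := 78918) (l := 7) rfl N78918 D214496
theorem N111255 : nd 111255 = n214497 := ndS (p := 78923) (l := 6) rfl N78923 D214497
theorem N111256 : nd 111256 = n214498 := ndS (p := 78939) (l := 6) rfl N78939 D214498
theorem N111257 : nd 111257 = n214499 := ndS (p := 78940) (l := 6) rfl N78940 D214499
theorem N111258 : nd 111258 = n214500 := ndS (p := 78945) (l := 6) rfl N78945 D214500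
theorem N111259 : nd 111259 = n214501 := ndS (p := 78947) (l := 6) rfl N78947 D214501
theorem N111260 : nd 111260 = n214502 := ndS (p := 78950) (l := 3) rfl N78950 D214502
theorem N111261 : nd 111261 = n214503 := ndS (p := 78950) (l := 6) rfl N78950 D214503
theorem N111262 : nd 111262 = n214504 := ndS (p := 78952) (l := 5) rfl N78952 D214504
theorem N111263 : nd 111263 = n214505 := ndS (p := 78953) (l := 3) rfl N78953 D214505
theorem N111264 : nd 111264 = n214506 := ndS (p := 78954) (l := 6) rfl N78954 D214506
theorem N111265 : nd 111265 = n214507 := ndS (p := 78957) (l := 6) rfl N78957 D214507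
theorem N111266 : nd 111266 = n214508 := ndS (p := 78960) (l := 4) rfl N78960 D214508
theorem N111267 : nd 111267 = n214509 := ndS (p := 78960) (l := 6) rfl N78960 D214509
theorem N111268 : nd 111268 = n214510 := ndS (p := 78961) (l := 5) rfl N78961 D214510
theorem N111269 : nd 111269 = n214511 := ndS (p := 78963) (l := 5) rfl N78963 D214511
theorem N111270 : nd 111270 = n214512 := ndS (p := 78964) (l := 5) rfl N78964 D214512
theorem N111271 : nd 111271 = n214513 := ndS (p := 78965) (l := 5) rfl N78965 D214513
theorem N111272 : nd 111272 = n214514 := ndS (p := 78966) (l := 0) rfl N78966 D214514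
theorem N111273 : nd 111273 = n214515 := ndS (p := 78966) (l := 1) rfl N78966 D214515
theorem N111274 : nd 111274 = n214516 := ndS (p := 78966) (l := 4) rfl N78966 D214516
theorem N111275 : nd 111275 = n214517 := ndS (p := 78966) (l := 7) rfl N78966 D214517
theorem N111276 : nd 111276 = n214518 := ndS (p := 78969) (l := 4) rfl N78969 D214518
theorem N111277 : nd 111277 = n214519 := ndS (p := 78971) (l := 0) rfl N78971 D214519
theorem N111278 : nd 111278 = n214520 := ndS (p := 78971) (l := 1) rfl N78971 D214520
theorem N111279 : nd 111279 = n214521 := ndS (p := 78971) (l := 4) rfl N78971 D214521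
theorem N111280 : nd 111280 = n214522 := ndS (p := 78972) (l := 4) rfl N78972 D214522
theorem N111281 : nd 111281 = n214523 := ndS (p := 78973) (l := 5) rfl N78973 D214523
theorem N111282 : nd 111282 = n214524 := ndS (p := 78975) (l := 0) rfl N78975 D214524
theorem N111283 : nd 111283 = n214525 := ndS (p := 78975) (l := 3) rfl N78975 D214525
theorem N111284 : nd 111284 = n214526 := ndS (p := 78975) (l := 5) rfl N78975 D214526
theorem N111285 : nd 111285 = n214527 := ndS (p := 78979) (l := 5) rfl N78979 D214527
theorem N111286 : nd 111286 = n214528 := ndS (p := 78980) (l := 0) rfl N78980 D214528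
theorem N111287 : nd 111287 = n214529 := ndS (p := 78981) (l := 5) rfl N78981 D214529
theorem N111288 : nd 111288 = n214530 := ndS (p := 78982) (l := 0) rfl N78982 D214530
theorem N111289 : nd 111289 = n214531 := ndS (p := 78982) (l := 4) rfl N78982 D214531
theorem N111290 : nd 111290 = n214532 := ndS (p := 78984) (l := 5) rfl N78984 D214532
theorem N111291 : nd 111291 = n214533 := ndS (p := 78986) (l := 3) rfl N78986 D214533
theorem N111292 : nd 111292 = n214534 := ndS (p := 78986) (l := 5) rfl N78986 D214534
theorem N111293 : nd 111293 = n214535 := ndS (p := 78986) (l := 6) rfl N78986 D214535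
theorem N111294 : nd 111294 = n214536 := ndS (p := 78988) (l := 6) rfl N78988 D214536
theorem N111295 : nd 111295 = n214537 := ndS (p := 78989) (l := 4) rfl N78989 D214537
theorem N111296 : nd 111296 = n214538 := ndS (p := 78991) (l := 5) rfl N78991 D214538
theorem N111297 : nd 111297 = n214539 := ndS (p := 78994) (l := 6) rfl N78994 D214539
theorem N111298 : nd 111298 = n214540 := ndS (p := 78996) (l := 4) rfl N78996 D214540
theorem N111299 : nd 111299 = n214541 := ndS (p := 78998) (l := 5) rfl N78998 D214541
theorem N111300 : nd 111300 = n214542 := ndS (p := 78999) (l := 4) rfl N78999 D214542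
theorem N111301 : nd 111301 = n214543 := ndS (p := 79008) (l := 5) rfl N79008 D214543
theorem N111302 : nd 111302 = n214544 := ndS (p := 79009) (l := 6) rfl N79009 D214544
theorem N111303 : nd 111303 = n214545 := ndS (p := 79010) (l := 1) rfl N79010 D214545
theorem N111304 : nd 111304 = n214546 := ndS (p := 79010) (l := 6) rfl N79010 D214546
theorem N111305 : nd 111305 = n214547 := ndS (p := 79013) (l := 1) rfl N79013 D214547
theorem N111306 : nd 111306 = n214548 := ndS (p := 79014) (l := 5) rfl N79014 D214548
theorem N111307 : nd 111307 = n214549 := ndS (p := 79017) (l := 5) rfl N79017 D214549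
theorem N111308 : nd 111308 = n214550 := ndS (p := 79017) (l := 6) rfl N79017 D214550
theorem N111309 : nd 111309 = n214551 := ndS (p := 79018) (l := 6) rfl N79018 D214551
theorem N111310 : nd 111310 = n214552 := ndS (p := 79021) (l := 3) rfl N79021 D214552
theorem N111311 : nd 111311 = n214553 := ndS (p := 79022) (l := 6) rfl N79022 D214553
theorem N111312 : nd 111312 = n214554 := ndS (p := 79023) (l := 6) rfl N79023 D214554
theorem N111313 : nd 111313 = n214555 := ndS (p := 79024) (l := 0) rfl N79024 D214555
theorem N111314 : nd 111314 = n214556 := ndS (p := 79024) (l := 1) rfl N79024 D214556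
theorem N111315 : nd 111315 = n214557 := ndS (p := 79024) (l := 7) rfl N79024 D214557
theorem N111316 : nd 111316 = n214558 := ndS (p := 79030) (l := 0) rfl N79030 D214558
theorem N111317 : nd 111317 = n214559 := ndS (p := 79035) (l := 6) rfl N79035 D214559
theorem N111318 : nd 111318 = n214560 := ndS (p := 79037) (l := 5) rfl N79037 D214560
theorem N111319 : nd 111319 = n214561 := ndS (p := 79039) (l := 6) rfl N79039 D214561
theorem N111320 : nd 111320 = n214562 := ndS (p := 79040) (l := 6) rfl N79040 D214562
theorem N111321 : nd 111321 = n214563 := ndS (p := 79045) (l := 3) rfl N79045 D214563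
theorem N111322 : nd 111322 = n214564 := ndS (p := 79046) (l := 4) rfl N79046 D214564
theorem N111323 : nd 111323 = n214565 := ndS (p := 79055) (l := 3) rfl N79055 D214565
theorem N111324 : nd 111324 = n214566 := ndS (p := 79059) (l := 5) rfl N79059 D214566
theorem N111325 : nd 111325 = n214567 := ndS (p := 79067) (l := 3) rfl N79067 D214567
theorem N111326 : nd 111326 = n214568 := ndS (p := 79079) (l := 6) rfl N79079 D214568
theorem N111327 : nd 111327 = n214569 := ndS (p := 79081) (l := 6) rfl N79081 D214569
theorem N111328 : nd 111328 = n214570 := ndS (p := 79085) (l := 0) rfl N79085 D214570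
theorem N111329 : nd 111329 = n214571 := ndS (p := 79085) (l := 1) rfl N79085 D214571
theorem N111330 : nd 111330 = n214572 := ndS (p := 79086) (l := 6) rfl N79086 D214572
theorem N111331 : nd 111331 = n214573 := ndS (p := 79090) (l := 6) rfl N79090 D214573
theorem N111332 : nd 111332 = n214574 := ndS (p := 79098) (l := 3) rfl N79098 D214574
theorem N111333 : nd 111333 = n214575 := ndS (p := 79098) (l := 5) rfl N79098 D214575
theorem N111334 : nd 111334 = n214576 := ndS (p := 79101) (l := 1) rfl N79101 D214576
theorem N111335 : nd 111335 = n214577 := ndS (p := 79101) (l := 2) rfl N79101 D214577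
theorem N111336 : nd 111336 = n214578 := ndS (p := 79101) (l := 5) rfl N79101 D214578
theorem N111337 : nd 111337 = n214579 := ndS (p := 79102) (l := 4) rfl N79102 D214579
theorem N111338 : nd 111338 = n214580 := ndS (p := 79102) (l := 6) rfl N79102 D214580
theorem N111339 : nd 111339 = n214581 := ndS (p := 79107) (l := 1) rfl N79107 D214581
theorem N111340 : nd 111340 = n214582 := ndS (p := 79110) (l := 0) rfl N79110 D214582
theorem N111341 : nd 111341 = n214583 := ndS (p := 79110) (l := 4) rfl N79110 D214583
theorem N111342 : nd 111342 = n214584 := ndS (p := 79110) (l := 7) rfl N79110 D214584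
theorem N111343 : nd 111343 = n214585 := ndS (p := 79112) (l := 5) rfl N79112 D214585
theorem N111344 : nd 111344 = n214586 := ndS (p := 79115) (l := 5) rfl N79115 D214586
theorem N111345 : nd 111345 = n214587 := ndS (p := 79116) (l := 4) rfl N79116 D214587
theorem N111346 : nd 111346 = n214588 := ndS (p := 79126) (l := 0) rfl N79126 D214588
theorem N111347 : nd 111347 = n214589 := ndS (p := 79126) (l := 7) rfl N79126 D214589
theorem N111348 : nd 111348 = n214590 := ndS (p := 79129) (l := 7) rfl N79129 D214590
theorem N111349 : nd 111349 = n214591 := ndS (p := 79132) (l := 1) rfl N79132 D214591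
theorem N111350 : nd 111350 = n214592 := ndS (p := 79134) (l := 6) rfl N79134 D214592
theorem N111351 : nd 111351 = n214593 := ndS (p := 79135) (l := 5) rfl N79135 D214593
theorem N111352 : nd 111352 = n214594 := ndS (p := 79136) (l := 6) rfl N79136 D214594
theorem N111353 : nd 111353 = n214595 := ndS (p := 79138) (l := 5) rfl N79138 D214595
theorem N111354 : nd 111354 = n214596 := ndS (p := 79146) (l := 3) rfl N79146 D214596
theorem N111355 : nd 111355 = n214597 := ndS (p := 79146) (l := 4) rfl N79146 D214597
theorem N111356 : nd 111356 = n214598 := ndS (p := 79146) (l := 5) rfl N79146 D214598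
theorem N111357 : nd 111357 = n214599 := ndS (p := 79147) (l := 4) rfl N79147 D214599
theorem N111358 : nd 111358 = n214600 := ndS (p := 79147) (l := 5) rfl N79147 D214600
theorem N111359 : nd 111359 = n214601 := ndS (p := 79149) (l := 6) rfl N79149 D214601
theorem N111360 : nd 111360 = n214602 := ndS (p := 79150) (l := 6) rfl N79150 D214602
theorem N111361 : nd 111361 = n214603 := ndS (p := 79154) (l := 0) rfl N79154 D214603
theorem N111362 : nd 111362 = n214604 := ndS (p := 79155) (l := 6) rfl N79155 D214604
theorem N111363 : nd 111363 = n214605 := ndS (p := 79161) (l := 4) rfl N79161 D214605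
theorem N111364 : nd 111364 = n214606 := ndS (p := 79162) (l := 5) rfl N79162 D214606
theorem N111365 : nd 111365 = n214607 := ndS (p := 79163) (l := 5) rfl N79163 D214607
theorem N111366 : nd 111366 = n214608 := ndS (p := 79164) (l := 0) rfl N79164 D214608
theorem N111367 : nd 111367 = n214609 := ndS (p := 79164) (l := 6) rfl N79164 D214609
theorem N111368 : nd 111368 = n214610 := ndS (p := 79165) (l := 0) rfl N79165 D214610
theorem N111369 : nd 111369 = n214611 := ndS (p := 79169) (l := 1) rfl N79169 D214611
theorem N111370 : nd 111370 = n214612 := ndS (p := 79169) (l := 2) rfl N79169 D214612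
theorem N111371 : nd 111371 = n214613 := ndS (p := 79169) (l := 5) rfl N79169 D214613
theorem N111372 : nd 111372 = n214614 := ndS (p := 79171) (l := 1) rfl N79171 D214614
theorem N111373 : nd 111373 = n214615 := ndS (p := 79171) (l := 2) rfl N79171 D214615
theorem N111374 : nd 111374 = n214616 := ndS (p := 79171) (l := 5) rfl N79171 D214616
theorem N111375 : nd 111375 = n214617 := ndS (p := 79176) (l := 6) rfl N79176 D214617
theorem N111376 : nd 111376 = n214618 := ndS (p := 79177) (l := 5) rfl N79177 D214618
theorem N111377 : nd 111377 = n214619 := ndS (p := 79178) (l := 5) rfl N79178 D214619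
theorem N111378 : nd 111378 = n214620 := ndS (p := 79180) (l := 6) rfl N79180 D214620
theorem N111379 : nd 111379 = n214621 := ndS (p := 79183) (l := 6) rfl N79183 D214621
theorem N111380 : nd 111380 = n214622 := ndS (p := 79184) (l := 0) rfl N79184 D214622
theorem N111381 : nd 111381 = n214623 := ndS (p := 79184) (l := 1) rfl N79184 D214623
theorem N111382 : nd 111382 = n214624 := ndS (p := 79184) (l := 7) rfl N79184 D214624
theorem N111383 : nd 111383 = n214625 := ndS (p := 79185) (l := 3) rfl N79185 D214625
theorem N111384 : nd 111384 = n214626 := ndS (p := 79186) (l := 3) rfl N79186 D214626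
theorem N111385 : nd 111385 = n214627 := ndS (p := 79187) (l := 5) rfl N79187 D214627
theorem N111386 : nd 111386 = n214628 := ndS (p := 79187) (l := 6) rfl N79187 D214628
theorem N111387 : nd 111387 = n214629 := ndS (p := 79188) (l := 1) rfl N79188 D214629
theorem N111388 : nd 111388 = n214630 := ndS (p := 79188) (l := 6) rfl N79188 D214630
theorem N111389 : nd 111389 = n214631 := ndS (p := 79191) (l := 3) rfl N79191 D214631
theorem N111390 : nd 111390 = n214632 := ndS (p := 79191) (l := 6) rfl N79191 D214632
theorem N111391 : nd 111391 = n214633 := ndS (p := 79193) (l := 5) rfl N79193 D214633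
theorem N111392 : nd 111392 = n214634 := ndS (p := 79196) (l := 4) rfl N79196 D214634
theorem N111393 : nd 111393 = n214635 := ndS (p := 79197) (l := 5) rfl N79197 D214635
theorem N111394 : nd 111394 = n214636 := ndS (p := 79198) (l := 5) rfl N79198 D214636
theorem N111395 : nd 111395 = n214637 := ndS (p := 79199) (l := 0) rfl N79199 D214637
theorem N111396 : nd 111396 = n214638 := ndS (p := 79199) (l := 1) rfl N79199 D214638
theorem N111397 : nd 111397 = n214639 := ndS (p := 79199) (l := 4) rfl N79199 D214639
theorem N111398 : nd 111398 = n214640 := ndS (p := 79201) (l := 5) rfl N79201 D214640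
theorem N111399 : nd 111399 = n214641 := ndS (p := 79202) (l := 5) rfl N79202 D214641
theorem N111400 : nd 111400 = n214642 := ndS (p := 79203) (l := 0) rfl N79203 D214642
theorem N111401 : nd 111401 = n214643 := ndS (p := 79203) (l := 4) rfl N79203 D214643
theorem N111402 : nd 111402 = n214644 := ndS (p := 79205) (l := 5) rfl N79205 D214644
theorem N111403 : nd 111403 = n214645 := ndS (p := 79206) (l := 4) rfl N79206 D214645
theorem N111404 : nd 111404 = n214646 := ndS (p := 79208) (l := 6) rfl N79208 D214646
theorem N111405 : nd 111405 = n214647 := ndS (p := 79209) (l := 4) rfl N79209 D214647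
theorem N111406 : nd 111406 = n214648 := ndS (p := 79209) (l := 6) rfl N79209 D214648
theorem N111407 : nd 111407 = n214649 := ndS (p := 79210) (l := 3) rfl N79210 D214649
theorem N111408 : nd 111408 = n214650 := ndS (p := 79211) (l := 0) rfl N79211 D214650
theorem N111409 : nd 111409 = n214651 := ndS (p := 79211) (l := 1) rfl N79211 D214651
theorem N111410 : nd 111410 = n214652 := ndS (p := 79211) (l := 6) rfl N79211 D214652
theorem N111411 : nd 111411 = n214653 := ndS (p := 79212) (l := 0) rfl N79212 D214653
theorem N111412 : nd 111412 = n214654 := ndS (p := 79212) (l := 1) rfl N79212 D214654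
theorem N111413 : nd 111413 = n214655 := ndS (p := 79212) (l := 7) rfl N79212 D214655
theorem N111414 : nd 111414 = n214656 := ndS (p := 79213) (l := 2) rfl N79213 D214656
theorem N111415 : nd 111415 = n214657 := ndS (p := 79213) (l := 4) rfl N79213 D214657
theorem N111416 : nd 111416 = n214658 := ndS (p := 79213) (l := 6) rfl N79213 D214658
theorem N111417 : nd 111417 = n214659 := ndS (p := 79215) (l := 2) rfl N79215 D214659
theorem N111418 : nd 111418 = n214660 := ndS (p := 79215) (l := 4) rfl N79215 D214660
theorem N111419 : nd 111419 = n214661 := ndS (p := 79216) (l := 4) rfl N79216 D214661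
theorem N111420 : nd 111420 = n214662 := ndS (p := 79217) (l := 6) rfl N79217 D214662
theorem N111421 : nd 111421 = n214663 := ndS (p := 79221) (l := 0) rfl N79221 D214663
theorem N111422 : nd 111422 = n214664 := ndS (p := 79225) (l := 4) rfl N79225 D214664
theorem N111423 : nd 111423 = n214665 := ndS (p := 79227) (l := 3) rfl N79227 D214665
theorem N111424 : nd 111424 = n214666 := ndS (p := 79227) (l := 5) rfl N79227 D214666
theorem N111425 : nd 111425 = n214667 := ndS (p := 79227) (l := 7) rfl N79227 D214667
theorem N111426 : nd 111426 = n214668 := ndS (p := 79231) (l := 5) rfl N79231 D214668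
theorem N111427 : nd 111427 = n214669 := ndS (p := 79232) (l := 1) rfl N79232 D214669
theorem N111428 : nd 111428 = n214670 := ndS (p := 79232) (l := 2) rfl N79232 D214670
theorem N111429 : nd 111429 = n214671 := ndS (p := 79232) (l := 5) rfl N79232 D214671
theorem N111430 : nd 111430 = n214672 := ndS (p := 79233) (l := 0) rfl N79233 D214672
theorem N111431 : nd 111431 = n214673 := ndS (p := 79233) (l := 1) rfl N79233 D214673
theorem N111432 : nd 111432 = n214674 := ndS (p := 79233) (l := 4) rfl N79233 D214674
theorem N111433 : nd 111433 = n214675 := ndS (p := 79235) (l := 3) rfl N79235 D214675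
theorem N111434 : nd 111434 = n214676 := ndS (p := 79237) (l := 5) rfl N79237 D214676
theorem N111435 : nd 111435 = n214677 := ndS (p := 79238) (l := 4) rfl N79238 D214677
theorem N111436 : nd 111436 = n214678 := ndS (p := 79238) (l := 6) rfl N79238 D214678
theorem N111437 : nd 111437 = n214679 := ndS (p := 79239) (l := 5) rfl N79239 D214679
theorem N111438 : nd 111438 = n214680 := ndS (p := 79240) (l := 4) rfl N79240 D214680
theorem N111439 : nd 111439 = n214681 := ndS (p := 79243) (l := 4) rfl N79243 D214681
theorem N111440 : nd 111440 = n214682 := ndS (p := 79244) (l := 3) rfl N79244 D214682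
theorem N111441 : nd 111441 = n214683 := ndS (p := 79245) (l := 5) rfl N79245 D214683
theorem N111442 : nd 111442 = n214684 := ndS (p := 79247) (l := 0) rfl N79247 D214684
theorem N111443 : nd 111443 = n214685 := ndS (p := 79247) (l := 1) rfl N79247 D214685
theorem N111444 : nd 111444 = n214686 := ndS (p := 79247) (l := 2) rfl N79247 D214686
theorem N111445 : nd 111445 = n214687 := ndS (p := 79247) (l := 5) rfl N79247 D214687
theorem N111446 : nd 111446 = n214688 := ndS (p := 79247) (l := 6) rfl N79247 D214688
theorem N111447 : nd 111447 = n214689 := ndS (p := 79248) (l := 6) rfl N79248 D214689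
theorem N111448 : nd 111448 = n214690 := ndS (p := 79249) (l := 5) rfl N79249 D214690
theorem N111449 : nd 111449 = n214691 := ndS (p := 79250) (l := 4) rfl N79250 D214691
theorem N111450 : nd 111450 = n214692 := ndS (p := 79250) (l := 6) rfl N79250 D214692
theorem N111451 : nd 111451 = n214693 := ndS (p := 79251) (l := 3) rfl N79251 D214693
theorem N111452 : nd 111452 = n214694 := ndS (p := 79251) (l := 5) rfl N79251 D214694
theorem N111453 : nd 111453 = n214695 := ndS (p := 79253) (l := 1) rfl N79253 D214695
theorem N111454 : nd 111454 = n214696 := ndS (p := 79253) (l := 4) rfl N79253 D214696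
theorem N111455 : nd 111455 = n214697 := ndS (p := 79254) (l := 1) rfl N79254 D214697
theorem N111456 : nd 111456 = n214698 := ndS (p := 79258) (l := 6) rfl N79258 D214698
theorem N111457 : nd 111457 = n214699 := ndS (p := 79260) (l := 5) rfl N79260 D214699
theorem N111458 : nd 111458 = n214700 := ndS (p := 79261) (l := 0) rfl N79261 D214700
theorem N111459 : nd 111459 = n214701 := ndS (p := 79261) (l := 1) rfl N79261 D214701
theorem N111460 : nd 111460 = n214702 := ndS (p := 79262) (l := 0) rfl N79262 D214702
theorem N111461 : nd 111461 = n214703 := ndS (p := 79262) (l := 1) rfl N79262 D214703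
theorem N111462 : nd 111462 = n214704 := ndS (p := 79262) (l := 7) rfl N79262 D214704
theorem N111463 : nd 111463 = n214705 := ndS (p := 79265) (l := 4) rfl N79265 D214705
theorem N111464 : nd 111464 = n214706 := ndS (p := 79265) (l := 5) rfl N79265 D214706
theorem N111465 : nd 111465 = n214707 := ndS (p := 79266) (l := 3) rfl N79266 D214707
theorem N111466 : nd 111466 = n214708 := ndS (p := 79266) (l := 5) rfl N79266 D214708
theorem N111467 : nd 111467 = n214709 := ndS (p := 79267) (l := 5) rfl N79267 D214709
theorem N111468 : nd 111468 = n214710 := ndS (p := 79268) (l := 0) rfl N79268 D214710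
theorem N111469 : nd 111469 = n214711 := ndS (p := 79269) (l := 0) rfl N79269 D214711
theorem N111470 : nd 111470 = n214712 := ndS (p := 79269) (l := 1) rfl N79269 D214712
theorem N111471 : nd 111471 = n214713 := ndS (p := 79269) (l := 7) rfl N79269 D214713
theorem N111472 : nd 111472 = n214714 := ndS (p := 79282) (l := 6) rfl N79282 D214714
theorem N111473 : nd 111473 = n214715 := ndS (p := 79284) (l := 7) rfl N79284 D214715
theorem N111474 : nd 111474 = n214716 := ndS (p := 79287) (l := 3) rfl N79287 D214716
theorem N111475 : nd 111475 = n214717 := ndS (p := 79292) (l := 5) rfl N79292 D214717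
theorem N111476 : nd 111476 = n214718 := ndS (p := 79300) (l := 4) rfl N79300 D214718
theorem N111477 : nd 111477 = n214719 := ndS (p := 79301) (l := 3) rfl N79301 D214719
theorem N111478 : nd 111478 = n214720 := ndS (p := 79301) (l := 5) rfl N79301 D214720
theorem N111479 : nd 111479 = n214721 := ndS (p := 79302) (l := 5) rfl N79302 D214721
theorem N111480 : nd 111480 = n214722 := ndS (p := 79303) (l := 1) rfl N79303 D214722
theorem N111481 : nd 111481 = n214723 := ndS (p := 79303) (l := 4) rfl N79303 D214723
theorem N111482 : nd 111482 = n214724 := ndS (p := 79304) (l := 0) rfl N79304 D214724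
theorem N111483 : nd 111483 = n214725 := ndS (p := 79305) (l := 1) rfl N79305 D214725
theorem N111484 : nd 111484 = n214726 := ndS (p := 79306) (l := 5) rfl N79306 D214726
theorem N111485 : nd 111485 = n214727 := ndS (p := 79307) (l := 5) rfl N79307 D214727
theorem N111486 : nd 111486 = n214728 := ndS (p := 79310) (l := 1) rfl N79310 D214728
theorem N111487 : nd 111487 = n214729 := ndS (p := 79310) (l := 7) rfl N79310 D214729
theorem N111488 : nd 111488 = n214730 := ndS (p := 79313) (l := 5) rfl N79313 D214730
theorem N111489 : nd 111489 = n214731 := ndS (p := 79314) (l := 4) rfl N79314 D214731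
theorem N111490 : nd 111490 = n214732 := ndS (p := 79315) (l := 0) rfl N79315 D214732
theorem N111491 : nd 111491 = n214733 := ndS (p := 79315) (l := 1) rfl N79315 D214733
theorem N111492 : nd 111492 = n214734 := ndS (p := 79315) (l := 7) rfl N79315 D214734
theorem N111493 : nd 111493 = n214735 := ndS (p := 79317) (l := 1) rfl N79317 D214735
theorem N111494 : nd 111494 = n214736 := ndS (p := 79317) (l := 5) rfl N79317 D214736
theorem N111495 : nd 111495 = n214737 := ndS (p := 79318) (l := 4) rfl N79318 D214737
theorem N111496 : nd 111496 = n214738 := ndS (p := 79319) (l := 2) rfl N79319 D214738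
theorem N111497 : nd 111497 = n214739 := ndS (p := 79319) (l := 5) rfl N79319 D214739
theorem N111498 : nd 111498 = n214740 := ndS (p := 79320) (l := 4) rfl N79320 D214740
theorem N111499 : nd 111499 = n214741 := ndS (p := 79320) (l := 6) rfl N79320 D214741
theorem N111500 : nd 111500 = n214742 := ndS (p := 79321) (l := 5) rfl N79321 D214742
theorem N111501 : nd 111501 = n214743 := ndS (p := 79323) (l := 3) rfl N79323 D214743
theorem N111502 : nd 111502 = n214744 := ndS (p := 79324) (l := 1) rfl N79324 D214744
theorem N111503 : nd 111503 = n214745 := ndS (p := 79324) (l := 7) rfl N79324 D214745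
theorem N111504 : nd 111504 = n214746 := ndS (p := 79325) (l := 2) rfl N79325 D214746
theorem N111505 : nd 111505 = n214747 := ndS (p := 79326) (l := 0) rfl N79326 D214747
theorem N111506 : nd 111506 = n214748 := ndS (p := 79326) (l := 1) rfl N79326 D214748
theorem N111507 : nd 111507 = n214749 := ndS (p := 79326) (l := 7) rfl N79326 D214749
theorem N111508 : nd 111508 = n214750 := ndS (p := 79327) (l := 3) rfl N79327 D214750
theorem N111509 : nd 111509 = n214751 := ndS (p := 79327) (l := 4) rfl N79327 D214751
theorem N111510 : nd 111510 = n214752 := ndS (p := 79327) (l := 6) rfl N79327 D214752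
theorem N111511 : nd 111511 = n214753 := ndS (p := 79328) (l := 4) rfl N79328 D214753
theorem N111512 : nd 111512 = n214754 := ndS (p := 79339) (l := 5) rfl N79339 D214754
theorem N111513 : nd 111513 = n214755 := ndS (p := 79344) (l := 0) rfl N79344 D214755
theorem N111514 : nd 111514 = n214756 := ndS (p := 79344) (l := 1) rfl N79344 D214756
theorem N111515 : nd 111515 = n214757 := ndS (p := 79344) (l := 4) rfl N79344 D214757
theorem N111516 : nd 111516 = n214758 := ndS (p := 79345) (l := 3) rfl N79345 D214758
theorem N111517 : nd 111517 = n214759 := ndS (p := 79345) (l := 6) rfl N79345 D214759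
theorem N111518 : nd 111518 = n214760 := ndS (p := 79347) (l := 5) rfl N79347 D214760
theorem N111519 : nd 111519 = n214761 := ndS (p := 79348) (l := 4) rfl N79348 D214761
theorem N111520 : nd 111520 = n214762 := ndS (p := 79348) (l := 6) rfl N79348 D214762
theorem N111521 : nd 111521 = n214763 := ndS (p := 79349) (l := 5) rfl N79349 D214763
theorem N111522 : nd 111522 = n214764 := ndS (p := 79357) (l := 2) rfl N79357 D214764
theorem N111523 : nd 111523 = n214765 := ndS (p := 79360) (l := 5) rfl N79360 D214765
theorem N111524 : nd 111524 = n214766 := ndS (p := 79361) (l := 0) rfl N79361 D214766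
theorem N111525 : nd 111525 = n214767 := ndS (p := 79361) (l := 1) rfl N79361 D214767
theorem N111526 : nd 111526 = n214768 := ndS (p := 79361) (l := 4) rfl N79361 D214768
theorem N111527 : nd 111527 = n214769 := ndS (p := 79362) (l := 7) rfl N79362 D214769
theorem N111528 : nd 111528 = n214770 := ndS (p := 79370) (l := 4) rfl N79370 D214770
theorem N111529 : nd 111529 = n214771 := ndS (p := 79378) (l := 4) rfl N79378 D214771
theorem N111530 : nd 111530 = n214772 := ndS (p := 79381) (l := 4) rfl N79381 D214772
theorem N111531 : nd 111531 = n214773 := ndS (p := 79396) (l := 5) rfl N79396 D214773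
theorem N111532 : nd 111532 = n214774 := ndS (p := 79401) (l := 4) rfl N79401 D214774
theorem N111533 : nd 111533 = n214775 := ndS (p := 79409) (l := 4) rfl N79409 D214775
theorem N111534 : nd 111534 = n214776 := ndS (p := 79413) (l := 4) rfl N79413 D214776
theorem N111535 : nd 111535 = n214777 := ndS (p := 79416) (l := 4) rfl N79416 D214777
theorem N111536 : nd 111536 = n214778 := ndS (p := 79417) (l := 1) rfl N79417 D214778
theorem N111537 : nd 111537 = n214779 := ndS (p := 79420) (l := 6) rfl N79420 D214779
theorem N111538 : nd 111538 = n214780 := ndS (p := 79422) (l := 4) rfl N79422 D214780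
theorem N111539 : nd 111539 = n214781 := ndS (p := 79429) (l := 2) rfl N79429 D214781
theorem N111540 : nd 111540 = n214782 := ndS (p := 79430) (l := 0) rfl N79430 D214782
theorem N111541 : nd 111541 = n214783 := ndS (p := 79430) (l := 1) rfl N79430 D214783
theorem N111542 : nd 111542 = n214784 := ndS (p := 79430) (l := 7) rfl N79430 D214784
theorem N111543 : nd 111543 = n214785 := ndS (p := 79431) (l := 4) rfl N79431 D214785
theorem N111544 : nd 111544 = n214786 := ndS (p := 79435) (l := 5) rfl N79435 D214786
theorem N111545 : nd 111545 = n214787 := ndS (p := 79441) (l := 0) rfl N79441 D214787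
theorem N111546 : nd 111546 = n214788 := ndS (p := 79443) (l := 4) rfl N79443 D214788
theorem N111547 : nd 111547 = n214789 := ndS (p := 79444) (l := 4) rfl N79444 D214789
theorem N111548 : nd 111548 = n214790 := ndS (p := 79445) (l := 4) rfl N79445 D214790
theorem N111549 : nd 111549 = n214791 := ndS (p := 79446) (l := 0) rfl N79446 D214791
theorem N111550 : nd 111550 = n214792 := ndS (p := 79446) (l := 3) rfl N79446 D214792
theorem N111551 : nd 111551 = n214793 := ndS (p := 79446) (l := 5) rfl N79446 D214793
theorem N111552 : nd 111552 = n214794 := ndS (p := 79446) (l := 7) rfl N79446 D214794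
theorem N111553 : nd 111553 = n214795 := ndS (p := 79449) (l := 5) rfl N79449 D214795
theorem N111554 : nd 111554 = n214796 := ndS (p := 79452) (l := 3) rfl N79452 D214796
theorem N111555 : nd 111555 = n214797 := ndS (p := 79452) (l := 5) rfl N79452 D214797
theorem N111556 : nd 111556 = n214798 := ndS (p := 79454) (l := 3) rfl N79454 D214798
theorem N111557 : nd 111557 = n214799 := ndS (p := 79454) (l := 5) rfl N79454 D214799
theorem N111558 : nd 111558 = n214800 := ndS (p := 79455) (l := 5) rfl N79455 D214800
theorem N111559 : nd 111559 = n214801 := ndS (p := 79456) (l := 1) rfl N79456 D214801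
theorem N111560 : nd 111560 = n214802 := ndS (p := 79456) (l := 2) rfl N79456 D214802
theorem N111561 : nd 111561 = n214803 := ndS (p := 79456) (l := 5) rfl N79456 D214803
theorem N111562 : nd 111562 = n214804 := ndS (p := 79457) (l := 6) rfl N79457 D214804
theorem N111563 : nd 111563 = n214805 := ndS (p := 79460) (l := 4) rfl N79460 D214805
theorem N111564 : nd 111564 = n214806 := ndS (p := 79460) (l := 6) rfl N79460 D214806
theorem N111565 : nd 111565 = n214807 := ndS (p := 79463) (l := 5) rfl N79463 D214807
theorem N111566 : nd 111566 = n214808 := ndS (p := 79464) (l := 6) rfl N79464 D214808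
theorem N111567 : nd 111567 = n214809 := ndS (p := 79465) (l := 5) rfl N79465 D214809
theorem N111568 : nd 111568 = n214810 := ndS (p := 79466) (l := 6) rfl N79466 D214810
theorem N111569 : nd 111569 = n214811 := ndS (p := 79469) (l := 2) rfl N79469 D214811
theorem N111570 : nd 111570 = n214812 := ndS (p := 79471) (l := 6) rfl N79471 D214812
theorem N111571 : nd 111571 = n214813 := ndS (p := 79474) (l := 5) rfl N79474 D214813
theorem N111572 : nd 111572 = n214814 := ndS (p := 79475) (l := 6) rfl N79475 D214814
theorem N111573 : nd 111573 = n214815 := ndS (p := 79477) (l := 6) rfl N79477 D214815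
theorem N111574 : nd 111574 = n214816 := ndS (p := 79478) (l := 0) rfl N79478 D214816
theorem N111575 : nd 111575 = n214817 := ndS (p := 79478) (l := 1) rfl N79478 D214817
theorem N111576 : nd 111576 = n214818 := ndS (p := 79478) (l := 7) rfl N79478 D214818
theorem N111577 : nd 111577 = n214819 := ndS (p := 79485) (l := 2) rfl N79485 D214819
theorem N111578 : nd 111578 = n214820 := ndS (p := 79486) (l := 6) rfl N79486 D214820
theorem N111579 : nd 111579 = n214821 := ndS (p := 79499) (l := 0) rfl N79499 D214821
theorem N111580 : nd 111580 = n214822 := ndS (p := 79499) (l := 1) rfl N79499 D214822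
theorem N111581 : nd 111581 = n214823 := ndS (p := 79500) (l := 6) rfl N79500 D214823
theorem N111582 : nd 111582 = n214824 := ndS (p := 79504) (l := 5) rfl N79504 D214824
theorem N111583 : nd 111583 = n214825 := ndS (p := 79505) (l := 5) rfl N79505 D214825
theorem N111584 : nd 111584 = n214826 := ndS (p := 79506) (l := 4) rfl N79506 D214826
theorem N111585 : nd 111585 = n214827 := ndS (p := 79506) (l := 6) rfl N79506 D214827
theorem N111586 : nd 111586 = n214828 := ndS (p := 79508) (l := 0) rfl N79508 D214828
theorem N111587 : nd 111587 = n214829 := ndS (p := 79508) (l := 1) rfl N79508 D214829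
theorem N111588 : nd 111588 = n214830 := ndS (p := 79510) (l := 3) rfl N79510 D214830
theorem N111589 : nd 111589 = n214831 := ndS (p := 79522) (l := 6) rfl N79522 D214831
theorem N111590 : nd 111590 = n214832 := ndS (p := 79523) (l := 1) rfl N79523 D214832
theorem N111591 : nd 111591 = n214833 := ndS (p := 79536) (l := 0) rfl N79536 D214833
theorem N111592 : nd 111592 = n214834 := ndS (p := 79540) (l := 5) rfl N79540 D214834
theorem N111593 : nd 111593 = n214835 := ndS (p := 79544) (l := 1) rfl N79544 D214835
theorem N111594 : nd 111594 = n214836 := ndS (p := 79545) (l := 5) rfl N79545 D214836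
theorem N111595 : nd 111595 = n214837 := ndS (p := 79551) (l := 0) rfl N79551 D214837
theorem N111596 : nd 111596 = n214838 := ndS (p := 79554) (l := 5) rfl N79554 D214838
theorem N111597 : nd 111597 = n214839 := ndS (p := 79560) (l := 6) rfl N79560 D214839
theorem N111598 : nd 111598 = n214840 := ndS (p := 79578) (l := 4) rfl N79578 D214840
theorem N111599 : nd 111599 = n214841 := ndS (p := 79579) (l := 5) rfl N79579 D214841
theorem N111600 : nd 111600 = n214842 := ndS (p := 79580) (l := 3) rfl N79580 D214842
theorem N111601 : nd 111601 = n214843 := ndS (p := 79581) (l := 4) rfl N79581 D214843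
theorem N111602 : nd 111602 = n214844 := ndS (p := 79584) (l := 1) rfl N79584 D214844
theorem N111603 : nd 111603 = n214845 := ndS (p := 79585) (l := 4) rfl N79585 D214845
theorem N111604 : nd 111604 = n214846 := ndS (p := 79587) (l := 0) rfl N79587 D214846
theorem N111605 : nd 111605 = n214847 := ndS (p := 79587) (l := 5) rfl N79587 D214847
theorem N111606 : nd 111606 = n214848 := ndS (p := 79591) (l := 3) rfl N79591 D214848
theorem N111607 : nd 111607 = n214849 := ndS (p := 79601) (l := 1) rfl N79601 D214849
theorem N111608 : nd 111608 = n214850 := ndS (p := 79603) (l := 5) rfl N79603 D214850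
theorem N111609 : nd 111609 = n214851 := ndS (p := 79609) (l := 0) rfl N79609 D214851
theorem N111610 : nd 111610 = n214852 := ndS (p := 79609) (l := 1) rfl N79609 D214852
theorem N111611 : nd 111611 = n214853 := ndS (p := 79616) (l := 6) rfl N79616 D214853
theorem N111612 : nd 111612 = n214854 := ndS (p := 79617) (l := 5) rfl N79617 D214854
theorem N111613 : nd 111613 = n214855 := ndS (p := 79619) (l := 4) rfl N79619 D214855
theorem N111614 : nd 111614 = n214856 := ndS (p := 79621) (l := 4) rfl N79621 D214856
theorem N111615 : nd 111615 = n214857 := ndS (p := 79622) (l := 0) rfl N79622 D214857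
theorem N111616 : nd 111616 = n214858 := ndS (p := 79622) (l := 6) rfl N79622 D214858
theorem N111617 : nd 111617 = n214859 := ndS (p := 79623) (l := 1) rfl N79623 D214859
theorem N111618 : nd 111618 = n214860 := ndS (p := 79626) (l := 4) rfl N79626 D214860
theorem N111619 : nd 111619 = n214861 := ndS (p := 79627) (l := 3) rfl N79627 D214861
theorem N111620 : nd 111620 = n214862 := ndS (p := 79628) (l := 5) rfl N79628 D214862
theorem N111621 : nd 111621 = n214863 := ndS (p := 79629) (l := 4) rfl N79629 D214863
theorem N111622 : nd 111622 = n214864 := ndS (p := 79629) (l := 6) rfl N79629 D214864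
theorem N111623 : nd 111623 = n214865 := ndS (p := 79630) (l := 0) rfl N79630 D214865
theorem N111624 : nd 111624 = n214866 := ndS (p := 79630) (l := 7) rfl N79630 D214866
theorem N111625 : nd 111625 = n214867 := ndS (p := 79633) (l := 5) rfl N79633 D214867
theorem N111626 : nd 111626 = n214868 := ndS (p := 79634) (l := 0) rfl N79634 D214868
theorem N111627 : nd 111627 = n214869 := ndS (p := 79634) (l := 6) rfl N79634 D214869
theorem N111628 : nd 111628 = n214870 := ndS (p := 79635) (l := 5) rfl N79635 D214870
theorem N111629 : nd 111629 = n214871 := ndS (p := 79637) (l := 3) rfl N79637 D214871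
theorem N111630 : nd 111630 = n214872 := ndS (p := 79637) (l := 4) rfl N79637 D214872
theorem N111631 : nd 111631 = n214873 := ndS (p := 79638) (l := 3) rfl N79638 D214873
theorem N111632 : nd 111632 = n214874 := ndS (p := 79638) (l := 6) rfl N79638 D214874
theorem N111633 : nd 111633 = n214875 := ndS (p := 79641) (l := 1) rfl N79641 D214875
theorem N111634 : nd 111634 = n214876 := ndS (p := 79642) (l := 5) rfl N79642 D214876
theorem N111635 : nd 111635 = n214877 := ndS (p := 79645) (l := 4) rfl N79645 D214877
theorem N111636 : nd 111636 = n214878 := ndS (p := 79646) (l := 3) rfl N79646 D214878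
theorem N111637 : nd 111637 = n214879 := ndS (p := 79646) (l := 5) rfl N79646 D214879
theorem N111638 : nd 111638 = n214880 := ndS (p := 79648) (l := 0) rfl N79648 D214880
theorem N111639 : nd 111639 = n214881 := ndS (p := 79648) (l := 1) rfl N79648 D214881
theorem N111640 : nd 111640 = n214882 := ndS (p := 79648) (l := 2) rfl N79648 D214882
theorem N111641 : nd 111641 = n214883 := ndS (p := 79648) (l := 6) rfl N79648 D214883
theorem N111642 : nd 111642 = n214884 := ndS (p := 79649) (l := 0) rfl N79649 D214884
theorem N111643 : nd 111643 = n214885 := ndS (p := 79649) (l := 1) rfl N79649 D214885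
theorem N111644 : nd 111644 = n214886 := ndS (p := 79649) (l := 5) rfl N79649 D214886
theorem N111645 : nd 111645 = n214887 := ndS (p := 79649) (l := 7) rfl N79649 D214887
theorem N111646 : nd 111646 = n214888 := ndS (p := 79650) (l := 4) rfl N79650 D214888
theorem N111647 : nd 111647 = n214889 := ndS (p := 79651) (l := 4) rfl N79651 D214889
theorem N111648 : nd 111648 = n214890 := ndS (p := 79658) (l := 5) rfl N79658 D214890
theorem N111649 : nd 111649 = n214891 := ndS (p := 79658) (l := 7) rfl N79658 D214891
theorem N111650 : nd 111650 = n214892 := ndS (p := 79659) (l := 5) rfl N79659 D214892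
theorem N111651 : nd 111651 = n214893 := ndS (p := 79667) (l := 6) rfl N79667 D214893
theorem N111652 : nd 111652 = n214894 := ndS (p := 79676) (l := 4) rfl N79676 D214894
theorem N111653 : nd 111653 = n214895 := ndS (p := 79680) (l := 7) rfl N79680 D214895
theorem N111654 : nd 111654 = n214896 := ndS (p := 79682) (l := 5) rfl N79682 D214896
theorem N111655 : nd 111655 = n214897 := ndS (p := 79683) (l := 4) rfl N79683 D214897
theorem N111656 : nd 111656 = n214898 := ndS (p := 79683) (l := 6) rfl N79683 D214898
theorem N111657 : nd 111657 = n214899 := ndS (p := 79684) (l := 0) rfl N79684 D214899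
theorem N111658 : nd 111658 = n214900 := ndS (p := 79684) (l := 1) rfl N79684 D214900
theorem N111659 : nd 111659 = n214901 := ndS (p := 79684) (l := 7) rfl N79684 D214901
theorem N111660 : nd 111660 = n214902 := ndS (p := 79685) (l := 0) rfl N79685 D214902
theorem N111661 : nd 111661 = n214903 := ndS (p := 79685) (l := 1) rfl N79685 D214903
theorem N111662 : nd 111662 = n214904 := ndS (p := 79688) (l := 6) rfl N79688 D214904
theorem N111663 : nd 111663 = n214905 := ndS (p := 79689) (l := 5) rfl N79689 D214905
theorem N111664 : nd 111664 = n214906 := ndS (p := 79695) (l := 4) rfl N79695 D214906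
theorem N111665 : nd 111665 = n214907 := ndS (p := 79696) (l := 0) rfl N79696 D214907
theorem N111666 : nd 111666 = n214908 := ndS (p := 79698) (l := 4) rfl N79698 D214908
theorem N111667 : nd 111667 = n214909 := ndS (p := 79698) (l := 6) rfl N79698 D214909
theorem N111668 : nd 111668 = n214910 := ndS (p := 79701) (l := 7) rfl N79701 D214910
theorem N111669 : nd 111669 = n214911 := ndS (p := 79702) (l := 3) rfl N79702 D214911
theorem N111670 : nd 111670 = n214912 := ndS (p := 79704) (l := 4) rfl N79704 D214912
theorem N111671 : nd 111671 = n214913 := ndS (p := 79708) (l := 2) rfl N79708 D214913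
theorem N111672 : nd 111672 = n214914 := ndS (p := 79710) (l := 1) rfl N79710 D214914
theorem N111673 : nd 111673 = n214915 := ndS (p := 79710) (l := 2) rfl N79710 D214915
theorem N111674 : nd 111674 = n214916 := ndS (p := 79716) (l := 6) rfl N79716 D214916
theorem N111675 : nd 111675 = n214917 := ndS (p := 79730) (l := 3) rfl N79730 D214917
theorem N111676 : nd 111676 = n214918 := ndS (p := 79736) (l := 6) rfl N79736 D214918
theorem N111677 : nd 111677 = n214919 := ndS (p := 79745) (l := 0) rfl N79745 D214919
theorem N111678 : nd 111678 = n214920 := ndS (p := 79745) (l := 5) rfl N79745 D214920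
theorem N111679 : nd 111679 = n214921 := ndS (p := 79747) (l := 1) rfl N79747 D214921
theorem N111680 : nd 111680 = n214922 := ndS (p := 79747) (l := 2) rfl N79747 D214922
theorem N111681 : nd 111681 = n214923 := ndS (p := 79748) (l := 5) rfl N79748 D214923
theorem N111682 : nd 111682 = n214924 := ndS (p := 79751) (l := 4) rfl N79751 D214924
theorem N111683 : nd 111683 = n214925 := ndS (p := 79754) (l := 5) rfl N79754 D214925
theorem N111684 : nd 111684 = n214926 := ndS (p := 79771) (l := 6) rfl N79771 D214926
theorem N111685 : nd 111685 = n214927 := ndS (p := 79785) (l := 0) rfl N79785 D214927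
theorem N111686 : nd 111686 = n214928 := ndS (p := 79785) (l := 2) rfl N79785 D214928
theorem N111687 : nd 111687 = n214929 := ndS (p := 79789) (l := 1) rfl N79789 D214929
theorem N111688 : nd 111688 = n214930 := ndS (p := 79793) (l := 4) rfl N79793 D214930
theorem N111689 : nd 111689 = n214931 := ndS (p := 79795) (l := 4) rfl N79795 D214931
theorem N111690 : nd 111690 = n214932 := ndS (p := 79796) (l := 4) rfl N79796 D214932
theorem N111691 : nd 111691 = n214933 := ndS (p := 79797) (l := 5) rfl N79797 D214933
theorem N111692 : nd 111692 = n214934 := ndS (p := 79799) (l := 0) rfl N79799 D214934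
theorem N111693 : nd 111693 = n214935 := ndS (p := 79807) (l := 4) rfl N79807 D214935
theorem N111694 : nd 111694 = n214936 := ndS (p := 79807) (l := 6) rfl N79807 D214936
theorem N111695 : nd 111695 = n214937 := ndS (p := 79810) (l := 7) rfl N79810 D214937
theorem N111696 : nd 111696 = n214938 := ndS (p := 79814) (l := 2) rfl N79814 D214938
theorem N111697 : nd 111697 = n214939 := ndS (p := 79816) (l := 3) rfl N79816 D214939
theorem N111698 : nd 111698 = n214940 := ndS (p := 79816) (l := 6) rfl N79816 D214940
theorem N111699 : nd 111699 = n214941 := ndS (p := 79817) (l := 3) rfl N79817 D214941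
theorem N111700 : nd 111700 = n214942 := ndS (p := 79819) (l := 3) rfl N79819 D214942
theorem N111701 : nd 111701 = n214943 := ndS (p := 79821) (l := 2) rfl N79821 D214943
theorem N111702 : nd 111702 = n214944 := ndS (p := 79821) (l := 5) rfl N79821 D214944
theorem N111703 : nd 111703 = n214945 := ndS (p := 79822) (l := 6) rfl N79822 D214945
theorem N111704 : nd 111704 = n214946 := ndS (p := 79823) (l := 5) rfl N79823 D214946
theorem N111705 : nd 111705 = n214947 := ndS (p := 79824) (l := 5) rfl N79824 D214947
theorem N111706 : nd 111706 = n214948 := ndS (p := 79825) (l := 5) rfl N79825 D214948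
theorem N111707 : nd 111707 = n214949 := ndS (p := 79826) (l := 6) rfl N79826 D214949
theorem N111708 : nd 111708 = n214950 := ndS (p := 79827) (l := 5) rfl N79827 D214950
theorem N111709 : nd 111709 = n214951 := ndS (p := 79830) (l := 0) rfl N79830 D214951
theorem N111710 : nd 111710 = n214952 := ndS (p := 79830) (l := 3) rfl N79830 D214952
theorem N111711 : nd 111711 = n214953 := ndS (p := 79830) (l := 6) rfl N79830 D214953
theorem N111712 : nd 111712 = n214954 := ndS (p := 79837) (l := 4) rfl N79837 D214954
theorem N111713 : nd 111713 = n214955 := ndS (p := 79839) (l := 6) rfl N79839 D214955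
theorem N111714 : nd 111714 = n214956 := ndS (p := 79840) (l := 0) rfl N79840 D214956
theorem N111715 : nd 111715 = n214957 := ndS (p := 79841) (l := 0) rfl N79841 D214957
theorem N111716 : nd 111716 = n214958 := ndS (p := 79841) (l := 4) rfl N79841 D214958
theorem N111717 : nd 111717 = n214959 := ndS (p := 79842) (l := 5) rfl N79842 D214959
theorem N111718 : nd 111718 = n214960 := ndS (p := 79843) (l := 3) rfl N79843 D214960
theorem N111719 : nd 111719 = n214961 := ndS (p := 79843) (l := 4) rfl N79843 D214961
theorem N111720 : nd 111720 = n214962 := ndS (p := 79844) (l := 6) rfl N79844 D214962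
theorem N111721 : nd 111721 = n214963 := ndS (p := 79846) (l := 5) rfl N79846 D214963
theorem N111722 : nd 111722 = n214964 := ndS (p := 79849) (l := 0) rfl N79849 D214964
theorem N111723 : nd 111723 = n214965 := ndS (p := 79854) (l := 1) rfl N79854 D214965
theorem N111724 : nd 111724 = n214966 := ndS (p := 79854) (l := 5) rfl N79854 D214966
theorem N111725 : nd 111725 = n214967 := ndS (p := 79854) (l := 7) rfl N79854 D214967
theorem N111726 : nd 111726 = n214968 := ndS (p := 79855) (l := 5) rfl N79855 D214968
theorem N111727 : nd 111727 = n214969 := ndS (p := 79858) (l := 3) rfl N79858 D214969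
theorem N111728 : nd 111728 = n214970 := ndS (p := 79858) (l := 5) rfl N79858 D214970
theorem N111729 : nd 111729 = n214971 := ndS (p := 79858) (l := 6) rfl N79858 D214971
theorem N111730 : nd 111730 = n214972 := ndS (p := 79859) (l := 0) rfl N79859 D214972
theorem N111731 : nd 111731 = n214973 := ndS (p := 79859) (l := 4) rfl N79859 D214973
theorem N111732 : nd 111732 = n214974 := ndS (p := 79859) (l := 7) rfl N79859 D214974
theorem N111733 : nd 111733 = n214975 := ndS (p := 79862) (l := 4) rfl N79862 D214975
theorem N111734 : nd 111734 = n214976 := ndS (p := 79864) (l := 4) rfl N79864 D214976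
theorem N111735 : nd 111735 = n214977 := ndS (p := 79865) (l := 3) rfl N79865 D214977
theorem N111736 : nd 111736 = n214978 := ndS (p := 79865) (l := 4) rfl N79865 D214978
theorem N111737 : nd 111737 = n214979 := ndS (p := 79865) (l := 6) rfl N79865 D214979
theorem N111738 : nd 111738 = n214980 := ndS (p := 79866) (l := 3) rfl N79866 D214980
theorem N111739 : nd 111739 = n214981 := ndS (p := 79866) (l := 4) rfl N79866 D214981
theorem N111740 : nd 111740 = n214982 := ndS (p := 79866) (l := 6) rfl N79866 D214982
theorem N111741 : nd 111741 = n214983 := ndS (p := 79867) (l := 1) rfl N79867 D214983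
theorem N111742 : nd 111742 = n214984 := ndS (p := 79867) (l := 3) rfl N79867 D214984
theorem N111743 : nd 111743 = n214985 := ndS (p := 79867) (l := 5) rfl N79867 D214985
theorem N111744 : nd 111744 = n214986 := ndS (p := 79867) (l := 7) rfl N79867 D214986
theorem N111745 : nd 111745 = n214987 := ndS (p := 79868) (l := 6) rfl N79868 D214987
theorem N111746 : nd 111746 = n214988 := ndS (p := 79869) (l := 2) rfl N79869 D214988
theorem N111747 : nd 111747 = n214989 := ndS (p := 79870) (l := 4) rfl N79870 D214989
theorem N111748 : nd 111748 = n214990 := ndS (p := 79873) (l := 5) rfl N79873 D214990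
theorem N111749 : nd 111749 = n214991 := ndS (p := 79874) (l := 1) rfl N79874 D214991
theorem N111750 : nd 111750 = n214992 := ndS (p := 79875) (l := 6) rfl N79875 D214992
theorem N111751 : nd 111751 = n214993 := ndS (p := 79877) (l := 3) rfl N79877 D214993
theorem N111752 : nd 111752 = n214994 := ndS (p := 79877) (l := 6) rfl N79877 D214994
theorem N111753 : nd 111753 = n214995 := ndS (p := 79879) (l := 6) rfl N79879 D214995
theorem N111754 : nd 111754 = n214996 := ndS (p := 79880) (l := 6) rfl N79880 D214996
theorem N111755 : nd 111755 = n214997 := ndS (p := 79881) (l := 5) rfl N79881 D214997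
theorem N111756 : nd 111756 = n214998 := ndS (p := 79884) (l := 0) rfl N79884 D214998
theorem N111757 : nd 111757 = n214999 := ndS (p := 79887) (l := 3) rfl N79887 D214999
theorem N111758 : nd 111758 = n215000 := ndS (p := 79902) (l := 1) rfl N79902 D215000
theorem N111759 : nd 111759 = n215001 := ndS (p := 79903) (l := 6) rfl N79903 D215001
theorem N111760 : nd 111760 = n215002 := ndS (p := 79906) (l := 7) rfl N79906 D215002
theorem N111761 : nd 111761 = n215003 := ndS (p := 79908) (l := 3) rfl N79908 D215003
theorem N111762 : nd 111762 = n215004 := ndS (p := 79917) (l := 5) rfl N79917 D215004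
theorem N111763 : nd 111763 = n215005 := ndS (p := 79926) (l := 4) rfl N79926 D215005
theorem N111764 : nd 111764 = n215006 := ndS (p := 79926) (l := 7) rfl N79926 D215006
theorem N111765 : nd 111765 = n215007 := ndS (p := 79928) (l := 3) rfl N79928 D215007
theorem N111766 : nd 111766 = n215008 := ndS (p := 79932) (l := 5) rfl N79932 D215008
theorem N111767 : nd 111767 = n215009 := ndS (p := 79932) (l := 6) rfl N79932 D215009
theorem N111768 : nd 111768 = n215010 := ndS (p := 79933) (l := 3) rfl N79933 D215010
theorem N111769 : nd 111769 = n215011 := ndS (p := 79933) (l := 5) rfl N79933 D215011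
theorem N111770 : nd 111770 = n215012 := ndS (p := 79934) (l := 5) rfl N79934 D215012
theorem N111771 : nd 111771 = n215013 := ndS (p := 79939) (l := 1) rfl N79939 D215013
theorem N111772 : nd 111772 = n215014 := ndS (p := 79940) (l := 0) rfl N79940 D215014
theorem N111773 : nd 111773 = n215015 := ndS (p := 79940) (l := 1) rfl N79940 D215015
theorem N111774 : nd 111774 = n215016 := ndS (p := 79942) (l := 4) rfl N79942 D215016
theorem N111775 : nd 111775 = n215017 := ndS (p := 79945) (l := 0) rfl N79945 D215017
theorem N111776 : nd 111776 = n215018 := ndS (p := 79946) (l := 6) rfl N79946 D215018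
theorem N111777 : nd 111777 = n215019 := ndS (p := 79947) (l := 1) rfl N79947 D215019
theorem N111778 : nd 111778 = n215020 := ndS (p := 79947) (l := 4) rfl N79947 D215020
theorem N111779 : nd 111779 = n215021 := ndS (p := 79948) (l := 5) rfl N79948 D215021
theorem N111780 : nd 111780 = n215022 := ndS (p := 79950) (l := 5) rfl N79950 D215022
theorem N111781 : nd 111781 = n215023 := ndS (p := 79954) (l := 5) rfl N79954 D215023
theorem N111782 : nd 111782 = n215024 := ndS (p := 79955) (l := 1) rfl N79955 D215024
theorem N111783 : nd 111783 = n215025 := ndS (p := 79957) (l := 5) rfl N79957 D215025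
theorem N111784 : nd 111784 = n215026 := ndS (p := 79958) (l := 6) rfl N79958 D215026
theorem N111785 : nd 111785 = n215027 := ndS (p := 79960) (l := 3) rfl N79960 D215027
theorem N111786 : nd 111786 = n215028 := ndS (p := 79961) (l := 3) rfl N79961 D215028
theorem N111787 : nd 111787 = n215029 := ndS (p := 79961) (l := 6) rfl N79961 D215029
theorem N111788 : nd 111788 = n215030 := ndS (p := 79963) (l := 0) rfl N79963 D215030
theorem N111789 : nd 111789 = n215031 := ndS (p := 79963) (l := 7) rfl N79963 D215031
theorem N111790 : nd 111790 = n215032 := ndS (p := 79970) (l := 6) rfl N79970 D215032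
theorem N111791 : nd 111791 = n215033 := ndS (p := 79971) (l := 4) rfl N79971 D215033
theorem N111792 : nd 111792 = n215034 := ndS (p := 79971) (l := 7) rfl N79971 D215034
theorem N111793 : nd 111793 = n215035 := ndS (p := 79974) (l := 4) rfl N79974 D215035
theorem N111794 : nd 111794 = n215036 := ndS (p := 79975) (l := 4) rfl N79975 D215036
theorem N111795 : nd 111795 = n215037 := ndS (p := 79976) (l := 3) rfl N79976 D215037
theorem N111796 : nd 111796 = n215038 := ndS (p := 79976) (l := 5) rfl N79976 D215038
theorem N111797 : nd 111797 = n215039 := ndS (p := 79976) (l := 7) rfl N79976 D215039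
theorem N111798 : nd 111798 = n215040 := ndS (p := 79979) (l := 5) rfl N79979 D215040
theorem N111799 : nd 111799 = n215041 := ndS (p := 79979) (l := 7) rfl N79979 D215041
theorem N111800 : nd 111800 = n215042 := ndS (p := 79980) (l := 0) rfl N79980 D215042
theorem N111801 : nd 111801 = n215043 := ndS (p := 79980) (l := 7) rfl N79980 D215043
theorem N111802 : nd 111802 = n215044 := ndS (p := 79987) (l := 5) rfl N79987 D215044
theorem N111803 : nd 111803 = n215045 := ndS (p := 79988) (l := 7) rfl N79988 D215045
theorem N111804 : nd 111804 = n215046 := ndS (p := 79998) (l := 4) rfl N79998 D215046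
theorem N111805 : nd 111805 = n215047 := ndS (p := 79998) (l := 6) rfl N79998 D215047
theorem N111806 : nd 111806 = n215048 := ndS (p := 80000) (l := 3) rfl N80000 D215048
theorem N111807 : nd 111807 = n215049 := ndS (p := 80021) (l := 5) rfl N80021 D215049
theorem N111808 : nd 111808 = n215050 := ndS (p := 80026) (l := 5) rfl N80026 D215050
theorem N111809 : nd 111809 = n215051 := ndS (p := 80026) (l := 7) rfl N80026 D215051
theorem N111810 : nd 111810 = n215052 := ndS (p := 80037) (l := 5) rfl N80037 D215052
theorem N111811 : nd 111811 = n215053 := ndS (p := 80038) (l := 1) rfl N80038 D215053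
theorem N111812 : nd 111812 = n215054 := ndS (p := 80044) (l := 3) rfl N80044 D215054
theorem N111813 : nd 111813 = n215055 := ndS (p := 80044) (l := 4) rfl N80044 D215055
theorem N111814 : nd 111814 = n215056 := ndS (p := 80048) (l := 0) rfl N80048 D215056
theorem N111815 : nd 111815 = n215057 := ndS (p := 80050) (l := 3) rfl N80050 D215057
theorem N111816 : nd 111816 = n215058 := ndS (p := 80065) (l := 6) rfl N80065 D215058
theorem N111817 : nd 111817 = n215059 := ndS (p := 80066) (l := 3) rfl N80066 D215059
theorem N111818 : nd 111818 = n215060 := ndS (p := 80072) (l := 3) rfl N80072 D215060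
theorem N111819 : nd 111819 = n215061 := ndS (p := 80072) (l := 5) rfl N80072 D215061
theorem N111820 : nd 111820 = n215062 := ndS (p := 80073) (l := 5) rfl N80073 D215062
theorem N111821 : nd 111821 = n215063 := ndS (p := 80075) (l := 1) rfl N80075 D215063
theorem N111822 : nd 111822 = n215064 := ndS (p := 80075) (l := 4) rfl N80075 D215064
theorem N111823 : nd 111823 = n215065 := ndS (p := 80075) (l := 6) rfl N80075 D215065
theorem N111824 : nd 111824 = n215066 := ndS (p := 80078) (l := 6) rfl N80078 D215066
theorem N111825 : nd 111825 = n215067 := ndS (p := 80082) (l := 5) rfl N80082 D215067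
theorem N111826 : nd 111826 = n215068 := ndS (p := 80083) (l := 0) rfl N80083 D215068
theorem N111827 : nd 111827 = n215069 := ndS (p := 80087) (l := 5) rfl N80087 D215069
theorem N111828 : nd 111828 = n215070 := ndS (p := 80089) (l := 3) rfl N80089 D215070
theorem N111829 : nd 111829 = n215071 := ndS (p := 80090) (l := 0) rfl N80090 D215071
theorem N111830 : nd 111830 = n215072 := ndS (p := 80090) (l := 5) rfl N80090 D215072
theorem N111831 : nd 111831 = n215073 := ndS (p := 80094) (l := 1) rfl N80094 D215073
theorem N111832 : nd 111832 = n215074 := ndS (p := 80094) (l := 2) rfl N80094 D215074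
theorem N111833 : nd 111833 = n215075 := ndS (p := 80096) (l := 5) rfl N80096 D215075
theorem N111834 : nd 111834 = n215076 := ndS (p := 80102) (l := 4) rfl N80102 D215076
theorem N111835 : nd 111835 = n215077 := ndS (p := 80102) (l := 6) rfl N80102 D215077
theorem N111836 : nd 111836 = n215078 := ndS (p := 80106) (l := 4) rfl N80106 D215078
theorem N111837 : nd 111837 = n215079 := ndS (p := 80107) (l := 3) rfl N80107 D215079
theorem N111838 : nd 111838 = n215080 := ndS (p := 80112) (l := 4) rfl N80112 D215080
theorem N111839 : nd 111839 = n215081 := ndS (p := 80113) (l := 4) rfl N80113 D215081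
theorem N111840 : nd 111840 = n215082 := ndS (p := 80119) (l := 1) rfl N80119 D215082
theorem N111841 : nd 111841 = n215083 := ndS (p := 80122) (l := 5) rfl N80122 D215083
theorem N111842 : nd 111842 = n215084 := ndS (p := 80126) (l := 6) rfl N80126 D215084
theorem N111843 : nd 111843 = n215085 := ndS (p := 80131) (l := 4) rfl N80131 D215085
theorem N111844 : nd 111844 = n215086 := ndS (p := 80132) (l := 4) rfl N80132 D215086
theorem N111845 : nd 111845 = n215087 := ndS (p := 80133) (l := 5) rfl N80133 D215087
theorem N111846 : nd 111846 = n215088 := ndS (p := 80136) (l := 0) rfl N80136 D215088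
theorem N111847 : nd 111847 = n215089 := ndS (p := 80136) (l := 5) rfl N80136 D215089
theorem N111848 : nd 111848 = n215090 := ndS (p := 80154) (l := 5) rfl N80154 D215090
theorem N111849 : nd 111849 = n215091 := ndS (p := 80155) (l := 0) rfl N80155 D215091
theorem N111850 : nd 111850 = n215092 := ndS (p := 80155) (l := 1) rfl N80155 D215092
theorem N111851 : nd 111851 = n215093 := ndS (p := 80165) (l := 5) rfl N80165 D215093
theorem N111852 : nd 111852 = n215094 := ndS (p := 80168) (l := 5) rfl N80168 D215094
theorem N111853 : nd 111853 = n215095 := ndS (p := 80169) (l := 4) rfl N80169 D215095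
theorem N111854 : nd 111854 = n215096 := ndS (p := 80169) (l := 6) rfl N80169 D215096
theorem N111855 : nd 111855 = n215097 := ndS (p := 80171) (l := 5) rfl N80171 D215097
theorem N111856 : nd 111856 = n215098 := ndS (p := 80175) (l := 4) rfl N80175 D215098
theorem N111857 : nd 111857 = n215099 := ndS (p := 80180) (l := 3) rfl N80180 D215099
theorem N111858 : nd 111858 = n215100 := ndS (p := 80201) (l := 3) rfl N80201 D215100
theorem N111859 : nd 111859 = n215101 := ndS (p := 80201) (l := 6) rfl N80201 D215101
theorem N111860 : nd 111860 = n215102 := ndS (p := 80204) (l := 3) rfl N80204 D215102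
theorem N111861 : nd 111861 = n215103 := ndS (p := 80204) (l := 4) rfl N80204 D215103
theorem N111862 : nd 111862 = n215104 := ndS (p := 80208) (l := 6) rfl N80208 D215104
theorem N111863 : nd 111863 = n215105 := ndS (p := 80209) (l := 3) rfl N80209 D215105
theorem N111864 : nd 111864 = n215106 := ndS (p := 80212) (l := 6) rfl N80212 D215106
theorem N111865 : nd 111865 = n215107 := ndS (p := 80217) (l := 6) rfl N80217 D215107
theorem N111866 : nd 111866 = n215108 := ndS (p := 80220) (l := 6) rfl N80220 D215108
theorem N111867 : nd 111867 = n215109 := ndS (p := 80221) (l := 4) rfl N80221 D215109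
theorem N111868 : nd 111868 = n215110 := ndS (p := 80225) (l := 3) rfl N80225 D215110
theorem N111869 : nd 111869 = n215111 := ndS (p := 80225) (l := 6) rfl N80225 D215111
theorem N111870 : nd 111870 = n215112 := ndS (p := 80226) (l := 6) rfl N80226 D215112
theorem N111871 : nd 111871 = n215113 := ndS (p := 80230) (l := 4) rfl N80230 D215113
theorem N111872 : nd 111872 = n215114 := ndS (p := 80231) (l := 2) rfl N80231 D215114
theorem N111873 : nd 111873 = n215115 := ndS (p := 80240) (l := 4) rfl N80240 D215115
theorem N111874 : nd 111874 = n215116 := ndS (p := 80240) (l := 6) rfl N80240 D215116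
theorem N111875 : nd 111875 = n215117 := ndS (p := 80241) (l := 3) rfl N80241 D215117
theorem N111876 : nd 111876 = n215118 := ndS (p := 80244) (l := 3) rfl N80244 D215118
theorem N111877 : nd 111877 = n215119 := ndS (p := 80245) (l := 5) rfl N80245 D215119
theorem N111878 : nd 111878 = n215120 := ndS (p := 80246) (l := 4) rfl N80246 D215120
theorem N111879 : nd 111879 = n215121 := ndS (p := 80246) (l := 6) rfl N80246 D215121
theorem N111880 : nd 111880 = n215122 := ndS (p := 80247) (l := 0) rfl N80247 D215122
theorem N111881 : nd 111881 = n215123 := ndS (p := 80247) (l := 1) rfl N80247 D215123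
theorem N111882 : nd 111882 = n215124 := ndS (p := 80247) (l := 7) rfl N80247 D215124
theorem N111883 : nd 111883 = n215125 := ndS (p := 80252) (l := 1) rfl N80252 D215125
theorem N111884 : nd 111884 = n215126 := ndS (p := 80254) (l := 1) rfl N80254 D215126
theorem N111885 : nd 111885 = n215127 := ndS (p := 80254) (l := 7) rfl N80254 D215127
theorem N111886 : nd 111886 = n215128 := ndS (p := 80255) (l := 4) rfl N80255 D215128
theorem N111887 : nd 111887 = n215129 := ndS (p := 80257) (l := 0) rfl N80257 D215129
theorem N111888 : nd 111888 = n215130 := ndS (p := 80257) (l := 1) rfl N80257 D215130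
theorem N111889 : nd 111889 = n215131 := ndS (p := 80258) (l := 1) rfl N80258 D215131
theorem N111890 : nd 111890 = n215132 := ndS (p := 80259) (l := 1) rfl N80259 D215132
theorem N111891 : nd 111891 = n215133 := ndS (p := 80259) (l := 5) rfl N80259 D215133
theorem N111892 : nd 111892 = n215134 := ndS (p := 80260) (l := 4) rfl N80260 D215134
theorem N111893 : nd 111893 = n215135 := ndS (p := 80262) (l := 5) rfl N80262 D215135
theorem N111894 : nd 111894 = n215136 := ndS (p := 80263) (l := 4) rfl N80263 D215136
theorem N111895 : nd 111895 = n215137 := ndS (p := 80264) (l := 6) rfl N80264 D215137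
theorem N111896 : nd 111896 = n215138 := ndS (p := 80266) (l := 0) rfl N80266 D215138
theorem N111897 : nd 111897 = n215139 := ndS (p := 80266) (l := 1) rfl N80266 D215139
theorem N111898 : nd 111898 = n215141 := ndS (p := 80267) (l := 3) rfl N80267 D215141
theorem N111899 : nd 111899 = n215142 := ndS (p := 80267) (l := 4) rfl N80267 D215142
theorem N111900 : nd 111900 = n215143 := ndS (p := 80267) (l := 5) rfl N80267 D215143
theorem N111901 : nd 111901 = n215144 := ndS (p := 80267) (l := 6) rfl N80267 D215144
theorem N111902 : nd 111902 = n215146 := ndS (p := 80268) (l := 3) rfl N80268 D215146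
theorem N111903 : nd 111903 = n215147 := ndS (p := 80268) (l := 5) rfl N80268 D215147
theorem N111904 : nd 111904 = n215148 := ndS (p := 80268) (l := 6) rfl N80268 D215148
theorem N111905 : nd 111905 = n215149 := ndS (p := 80270) (l := 5) rfl N80270 D215149
theorem N111906 : nd 111906 = n215150 := ndS (p := 80277) (l := 6) rfl N80277 D215150
theorem N111907 : nd 111907 = n215151 := ndS (p := 80287) (l := 1) rfl N80287 D215151
theorem N111908 : nd 111908 = n215152 := ndS (p := 80299) (l := 4) rfl N80299 D215152
theorem N111909 : nd 111909 = n215153 := ndS (p := 80307) (l := 1) rfl N80307 D215153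
theorem N111910 : nd 111910 = n215154 := ndS (p := 80308) (l := 4) rfl N80308 D215154
theorem N111911 : nd 111911 = n215155 := ndS (p := 80311) (l := 4) rfl N80311 D215155
theorem N111912 : nd 111912 = n215156 := ndS (p := 80312) (l := 0) rfl N80312 D215156
theorem N111913 : nd 111913 = n215157 := ndS (p := 80312) (l := 5) rfl N80312 D215157
theorem N111914 : nd 111914 = n215158 := ndS (p := 80316) (l := 3) rfl N80316 D215158
theorem N111915 : nd 111915 = n215159 := ndS (p := 80316) (l := 6) rfl N80316 D215159
theorem N111916 : nd 111916 = n215160 := ndS (p := 80317) (l := 0) rfl N80317 D215160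
theorem N111917 : nd 111917 = n215161 := ndS (p := 80317) (l := 1) rfl N80317 D215161
theorem N111918 : nd 111918 = n215162 := ndS (p := 80317) (l := 7) rfl N80317 D215162
theorem N111919 : nd 111919 = n215163 := ndS (p := 80328) (l := 6) rfl N80328 D215163
theorem N111920 : nd 111920 = n215164 := ndS (p := 80329) (l := 6) rfl N80329 D215164
theorem N111921 : nd 111921 = n215165 := ndS (p := 80330) (l := 1) rfl N80330 D215165
theorem N111922 : nd 111922 = n215166 := ndS (p := 80336) (l := 6) rfl N80336 D215166
theorem N111923 : nd 111923 = n215167 := ndS (p := 80345) (l := 6) rfl N80345 D215167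
theorem N111924 : nd 111924 = n215168 := ndS (p := 80358) (l := 1) rfl N80358 D215168
theorem N111925 : nd 111925 = n215169 := ndS (p := 80360) (l := 0) rfl N80360 D215169
theorem N111926 : nd 111926 = n215170 := ndS (p := 80360) (l := 2) rfl N80360 D215170
theorem N111927 : nd 111927 = n215171 := ndS (p := 80363) (l := 4) rfl N80363 D215171
theorem N111928 : nd 111928 = n215172 := ndS (p := 80368) (l := 2) rfl N80368 D215172
theorem N111929 : nd 111929 = n215173 := ndS (p := 80377) (l := 7) rfl N80377 D215173
theorem N111930 : nd 111930 = n215174 := ndS (p := 80379) (l := 2) rfl N80379 D215174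
theorem N111931 : nd 111931 = n215175 := ndS (p := 80403) (l := 4) rfl N80403 D215175
theorem N111932 : nd 111932 = n215176 := ndS (p := 80406) (l := 6) rfl N80406 D215176
theorem N111933 : nd 111933 = n215177 := ndS (p := 80409) (l := 6) rfl N80409 D215177
theorem N111934 : nd 111934 = n215178 := ndS (p := 80419) (l := 4) rfl N80419 D215178
theorem N111935 : nd 111935 = n215179 := ndS (p := 80424) (l := 5) rfl N80424 D215179
theorem N111936 : nd 111936 = n215180 := ndS (p := 80426) (l := 0) rfl N80426 D215180
theorem N111937 : nd 111937 = n215181 := ndS (p := 80428) (l := 2) rfl N80428 D215181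
theorem N111938 : nd 111938 = n215182 := ndS (p := 80428) (l := 6) rfl N80428 D215182
theorem N111939 : nd 111939 = n215183 := ndS (p := 80443) (l := 0) rfl N80443 D215183
theorem N111940 : nd 111940 = n215184 := ndS (p := 80452) (l := 5) rfl N80452 D215184
theorem N111941 : nd 111941 = n215185 := ndS (p := 80461) (l := 6) rfl N80461 D215185
theorem N111942 : nd 111942 = n215186 := ndS (p := 80468) (l := 5) rfl N80468 D215186
theorem N111943 : nd 111943 = n215187 := ndS (p := 80469) (l := 6) rfl N80469 D215187
theorem N111944 : nd 111944 = n215188 := ndS (p := 80479) (l := 1) rfl N80479 D215188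
theorem N111945 : nd 111945 = n215189 := ndS (p := 80486) (l := 5) rfl N80486 D215189
theorem N111946 : nd 111946 = n215190 := ndS (p := 80487) (l := 4) rfl N80487 D215190
theorem N111947 : nd 111947 = n215191 := ndS (p := 80502) (l := 5) rfl N80502 D215191
theorem N111948 : nd 111948 = n215192 := ndS (p := 80506) (l := 6) rfl N80506 D215192
theorem N111949 : nd 111949 = n215193 := ndS (p := 80507) (l := 0) rfl N80507 D215193
theorem N111950 : nd 111950 = n215194 := ndS (p := 80507) (l := 7) rfl N80507 D215194
theorem N111951 : nd 111951 = n215195 := ndS (p := 80508) (l := 2) rfl N80508 D215195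
theorem N111952 : nd 111952 = n215196 := ndS (p := 80508) (l := 6) rfl N80508 D215196
theorem N111953 : nd 111953 = n215197 := ndS (p := 80509) (l := 6) rfl N80509 D215197
theorem N111954 : nd 111954 = n215198 := ndS (p := 80510) (l := 1) rfl N80510 D215198
theorem N111955 : nd 111955 = n215199 := ndS (p := 80510) (l := 7) rfl N80510 D215199
theorem N111956 : nd 111956 = n215200 := ndS (p := 80511) (l := 3) rfl N80511 D215200
theorem N111957 : nd 111957 = n215201 := ndS (p := 80511) (l := 6) rfl N80511 D215201
theorem N111958 : nd 111958 = n215202 := ndS (p := 80512) (l := 1) rfl N80512 D215202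
theorem N111959 : nd 111959 = n215203 := ndS (p := 80512) (l := 2) rfl N80512 D215203
theorem N111960 : nd 111960 = n215204 := ndS (p := 80512) (l := 5) rfl N80512 D215204
theorem N111961 : nd 111961 = n215205 := ndS (p := 80512) (l := 6) rfl N80512 D215205
theorem N111962 : nd 111962 = n215206 := ndS (p := 80514) (l := 0) rfl N80514 D215206
theorem N111963 : nd 111963 = n215207 := ndS (p := 80514) (l := 7) rfl N80514 D215207
theorem N111964 : nd 111964 = n215208 := ndS (p := 80515) (l := 3) rfl N80515 D215208
theorem N111965 : nd 111965 = n215209 := ndS (p := 80515) (l := 4) rfl N80515 D215209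
theorem N111966 : nd 111966 = n215210 := ndS (p := 80516) (l := 4) rfl N80516 D215210
theorem N111967 : nd 111967 = n215211 := ndS (p := 80520) (l := 3) rfl N80520 D215211
theorem N111968 : nd 111968 = n215212 := ndS (p := 80520) (l := 6) rfl N80520 D215212
theorem N111969 : nd 111969 = n215213 := ndS (p := 80521) (l := 0) rfl N80521 D215213
theorem N111970 : nd 111970 = n215214 := ndS (p := 80521) (l := 1) rfl N80521 D215214
theorem N111971 : nd 111971 = n215215 := ndS (p := 80524) (l := 3) rfl N80524 D215215
theorem N111972 : nd 111972 = n215216 := ndS (p := 80526) (l := 0) rfl N80526 D215216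
theorem N111973 : nd 111973 = n215217 := ndS (p := 80528) (l := 6) rfl N80528 D215217
theorem N111974 : nd 111974 = n215218 := ndS (p := 80529) (l := 6) rfl N80529 D215218
theorem N111975 : nd 111975 = n215219 := ndS (p := 80536) (l := 1) rfl N80536 D215219
theorem N111976 : nd 111976 = n215220 := ndS (p := 80538) (l := 0) rfl N80538 D215220
theorem N111977 : nd 111977 = n215221 := ndS (p := 80538) (l := 1) rfl N80538 D215221
theorem N111978 : nd 111978 = n215222 := ndS (p := 80538) (l := 5) rfl N80538 D215222
theorem N111979 : nd 111979 = n215223 := ndS (p := 80539) (l := 6) rfl N80539 D215223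
theorem N111980 : nd 111980 = n215224 := ndS (p := 80540) (l := 4) rfl N80540 D215224
theorem N111981 : nd 111981 = n215225 := ndS (p := 80540) (l := 5) rfl N80540 D215225
theorem N111982 : nd 111982 = n215226 := ndS (p := 80541) (l := 5) rfl N80541 D215226
theorem N111983 : nd 111983 = n215227 := ndS (p := 80542) (l := 0) rfl N80542 D215227
theorem N111984 : nd 111984 = n215228 := ndS (p := 80542) (l := 1) rfl N80542 D215228
theorem N111985 : nd 111985 = n215229 := ndS (p := 80542) (l := 4) rfl N80542 D215229
theorem N111986 : nd 111986 = n215230 := ndS (p := 80542) (l := 6) rfl N80542 D215230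
theorem N111987 : nd 111987 = n215231 := ndS (p := 80543) (l := 7) rfl N80543 D215231
theorem N111988 : nd 111988 = n215232 := ndS (p := 80547) (l := 3) rfl N80547 D215232
theorem N111989 : nd 111989 = n215233 := ndS (p := 80549) (l := 6) rfl N80549 D215233
theorem N111990 : nd 111990 = n215234 := ndS (p := 80551) (l := 1) rfl N80551 D215234
theorem N111991 : nd 111991 = n215235 := ndS (p := 80552) (l := 0) rfl N80552 D215235
theorem N111992 : nd 111992 = n215236 := ndS (p := 80552) (l := 5) rfl N80552 D215236
theorem N111993 : nd 111993 = n215237 := ndS (p := 80554) (l := 0) rfl N80554 D215237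
theorem N111994 : nd 111994 = n215238 := ndS (p := 80554) (l := 1) rfl N80554 D215238
theorem N111995 : nd 111995 = n215239 := ndS (p := 80554) (l := 2) rfl N80554 D215239
theorem N111996 : nd 111996 = n215240 := ndS (p := 80555) (l := 5) rfl N80555 D215240
theorem N111997 : nd 111997 = n215241 := ndS (p := 80556) (l := 5) rfl N80556 D215241
theorem N111998 : nd 111998 = n215242 := ndS (p := 80559) (l := 3) rfl N80559 D215242
theorem N111999 : nd 111999 = n215243 := ndS (p := 80566) (l := 5) rfl N80566 D215243
theorem N112000 : nd 112000 = n215244 := ndS (p := 80567) (l := 4) rfl N80567 D215244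
theorem N112001 : nd 112001 = n215245 := ndS (p := 80567) (l := 6) rfl N80567 D215245
theorem N112002 : nd 112002 = n215246 := ndS (p := 80570) (l := 4) rfl N80570 D215246
theorem N112003 : nd 112003 = n215247 := ndS (p := 80571) (l := 4) rfl N80571 D215247
theorem N112004 : nd 112004 = n215248 := ndS (p := 80572) (l := 3) rfl N80572 D215248
theorem N112005 : nd 112005 = n215249 := ndS (p := 80573) (l := 5) rfl N80573 D215249
theorem N112006 : nd 112006 = n215250 := ndS (p := 80574) (l := 0) rfl N80574 D215250
theorem N112007 : nd 112007 = n215251 := ndS (p := 80574) (l := 1) rfl N80574 D215251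
theorem N112008 : nd 112008 = n215252 := ndS (p := 80575) (l := 1) rfl N80575 D215252
theorem N112009 : nd 112009 = n215253 := ndS (p := 80576) (l := 5) rfl N80576 D215253
theorem N112010 : nd 112010 = n215254 := ndS (p := 80576) (l := 6) rfl N80576 D215254
theorem N112011 : nd 112011 = n215255 := ndS (p := 80578) (l := 0) rfl N80578 D215255
theorem N112012 : nd 112012 = n215256 := ndS (p := 80578) (l := 7) rfl N80578 D215256
theorem N112013 : nd 112013 = n215257 := ndS (p := 80583) (l := 3) rfl N80583 D215257
theorem N112014 : nd 112014 = n215258 := ndS (p := 80583) (l := 6) rfl N80583 D215258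
theorem N112015 : nd 112015 = n215259 := ndS (p := 80584) (l := 3) rfl N80584 D215259
theorem N112016 : nd 112016 = n215260 := ndS (p := 80585) (l := 0) rfl N80585 D215260
theorem N112017 : nd 112017 = n215261 := ndS (p := 80586) (l := 2) rfl N80586 D215261
theorem N112018 : nd 112018 = n215262 := ndS (p := 80586) (l := 4) rfl N80586 D215262
theorem N112019 : nd 112019 = n215263 := ndS (p := 80587) (l := 7) rfl N80587 D215263
theorem N112020 : nd 112020 = n215264 := ndS (p := 80588) (l := 2) rfl N80588 D215264
theorem N112021 : nd 112021 = n215265 := ndS (p := 80588) (l := 4) rfl N80588 D215265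
theorem N112022 : nd 112022 = n215266 := ndS (p := 80588) (l := 6) rfl N80588 D215266
theorem N112023 : nd 112023 = n215267 := ndS (p := 80589) (l := 7) rfl N80589 D215267
theorem N112024 : nd 112024 = n215268 := ndS (p := 80598) (l := 0) rfl N80598 D215268
theorem N112025 : nd 112025 = n215269 := ndS (p := 80601) (l := 2) rfl N80601 D215269
theorem N112026 : nd 112026 = n215270 := ndS (p := 80604) (l := 4) rfl N80604 D215270
theorem N112027 : nd 112027 = n215271 := ndS (p := 80605) (l := 6) rfl N80605 D215271
theorem N112028 : nd 112028 = n215272 := ndS (p := 80608) (l := 3) rfl N80608 D215272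
theorem N112029 : nd 112029 = n215273 := ndS (p := 80609) (l := 4) rfl N80609 D215273
theorem N112030 : nd 112030 = n215274 := ndS (p := 80610) (l := 0) rfl N80610 D215274
theorem N112031 : nd 112031 = n215275 := ndS (p := 80612) (l := 6) rfl N80612 D215275
theorem N112032 : nd 112032 = n215276 := ndS (p := 80614) (l := 6) rfl N80614 D215276
theorem N112033 : nd 112033 = n215277 := ndS (p := 80619) (l := 6) rfl N80619 D215277
theorem N112034 : nd 112034 = n215278 := ndS (p := 80622) (l := 1) rfl N80622 D215278
theorem N112035 : nd 112035 = n215279 := ndS (p := 80624) (l := 4) rfl N80624 D215279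
theorem N112036 : nd 112036 = n215280 := ndS (p := 80624) (l := 6) rfl N80624 D215280
theorem N112037 : nd 112037 = n215281 := ndS (p := 80627) (l := 4) rfl N80627 D215281
theorem N112038 : nd 112038 = n215282 := ndS (p := 80633) (l := 4) rfl N80633 D215282
theorem N112039 : nd 112039 = n215283 := ndS (p := 80635) (l := 5) rfl N80635 D215283
theorem N112040 : nd 112040 = n215284 := ndS (p := 80636) (l := 5) rfl N80636 D215284
theorem N112041 : nd 112041 = n215285 := ndS (p := 80640) (l := 4) rfl N80640 D215285
theorem N112042 : nd 112042 = n215286 := ndS (p := 80641) (l := 3) rfl N80641 D215286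
theorem N112043 : nd 112043 = n215287 := ndS (p := 80642) (l := 6) rfl N80642 D215287
theorem N112044 : nd 112044 = n215288 := ndS (p := 80644) (l := 6) rfl N80644 D215288
theorem N112045 : nd 112045 = n215289 := ndS (p := 80650) (l := 4) rfl N80650 D215289
theorem N112046 : nd 112046 = n215290 := ndS (p := 80650) (l := 6) rfl N80650 D215290
theorem N112047 : nd 112047 = n215291 := ndS (p := 80651) (l := 4) rfl N80651 D215291
theorem N112048 : nd 112048 = n215292 := ndS (p := 80653) (l := 1) rfl N80653 D215292
theorem N112049 : nd 112049 = n215293 := ndS (p := 80653) (l := 7) rfl N80653 D215293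
theorem N112050 : nd 112050 = n215294 := ndS (p := 80657) (l := 5) rfl N80657 D215294
theorem N112051 : nd 112051 = n215295 := ndS (p := 80658) (l := 4) rfl N80658 D215295
theorem N112052 : nd 112052 = n215296 := ndS (p := 80659) (l := 4) rfl N80659 D215296
theorem N112053 : nd 112053 = n215297 := ndS (p := 80659) (l := 6) rfl N80659 D215297
theorem N112054 : nd 112054 = n215298 := ndS (p := 80660) (l := 4) rfl N80660 D215298
theorem N112055 : nd 112055 = n215299 := ndS (p := 80660) (l := 6) rfl N80660 D215299
theorem N112056 : nd 112056 = n215300 := ndS (p := 80661) (l := 0) rfl N80661 D215300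
theorem N112057 : nd 112057 = n215301 := ndS (p := 80661) (l := 1) rfl N80661 D215301
theorem N112058 : nd 112058 = n215302 := ndS (p := 80661) (l := 6) rfl N80661 D215302
theorem N112059 : nd 112059 = n215303 := ndS (p := 80662) (l := 7) rfl N80662 D215303
theorem N112060 : nd 112060 = n215304 := ndS (p := 80663) (l := 6) rfl N80663 D215304
theorem N112061 : nd 112061 = n215305 := ndS (p := 80674) (l := 5) rfl N80674 D215305
theorem N112062 : nd 112062 = n215306 := ndS (p := 80675) (l := 5) rfl N80675 D215306
theorem N112063 : nd 112063 = n215307 := ndS (p := 80677) (l := 4) rfl N80677 D215307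
theorem N112064 : nd 112064 = n215308 := ndS (p := 80683) (l := 5) rfl N80683 D215308
theorem N112065 : nd 112065 = n215309 := ndS (p := 80684) (l := 6) rfl N80684 D215309
theorem N112066 : nd 112066 = n215310 := ndS (p := 80687) (l := 3) rfl N80687 D215310
theorem N112067 : nd 112067 = n215311 := ndS (p := 80688) (l := 5) rfl N80688 D215311
theorem N112068 : nd 112068 = n215312 := ndS (p := 80697) (l := 5) rfl N80697 D215312
theorem N112069 : nd 112069 = n215313 := ndS (p := 80699) (l := 5) rfl N80699 D215313
theorem N112070 : nd 112070 = n215314 := ndS (p := 80702) (l := 5) rfl N80702 D215314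
theorem N112071 : nd 112071 = n215315 := ndS (p := 80713) (l := 3) rfl N80713 D215315
theorem N112072 : nd 112072 = n215316 := ndS (p := 80749) (l := 5) rfl N80749 D215316
theorem N112073 : nd 112073 = n215317 := ndS (p := 80750) (l := 5) rfl N80750 D215317
theorem N112074 : nd 112074 = n215318 := ndS (p := 80758) (l := 3) rfl N80758 D215318
theorem N112075 : nd 112075 = n215319 := ndS (p := 80783) (l := 1) rfl N80783 D215319
theorem N112076 : nd 112076 = n215320 := ndS (p := 80787) (l := 1) rfl N80787 D215320
theorem N112077 : nd 112077 = n215321 := ndS (p := 80787) (l := 2) rfl N80787 D215321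
theorem N112078 : nd 112078 = n215322 := ndS (p := 80787) (l := 5) rfl N80787 D215322
theorem N112079 : nd 112079 = n215323 := ndS (p := 80792) (l := 0) rfl N80792 D215323
theorem N112080 : nd 112080 = n215324 := ndS (p := 80792) (l := 1) rfl N80792 D215324
theorem N112081 : nd 112081 = n215325 := ndS (p := 80795) (l := 3) rfl N80795 D215325
theorem N112082 : nd 112082 = n215326 := ndS (p := 80798) (l := 1) rfl N80798 D215326
theorem N112083 : nd 112083 = n215327 := ndS (p := 80800) (l := 4) rfl N80800 D215327
theorem N112084 : nd 112084 = n215328 := ndS (p := 80805) (l := 3) rfl N80805 D215328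
theorem N112085 : nd 112085 = n215329 := ndS (p := 80805) (l := 5) rfl N80805 D215329
theorem N112086 : nd 112086 = n215330 := ndS (p := 80806) (l := 1) rfl N80806 D215330
theorem N112087 : nd 112087 = n215331 := ndS (p := 80806) (l := 2) rfl N80806 D215331
theorem N112088 : nd 112088 = n215332 := ndS (p := 80809) (l := 0) rfl N80809 D215332
theorem N112089 : nd 112089 = n215333 := ndS (p := 80809) (l := 1) rfl N80809 D215333
theorem N112090 : nd 112090 = n215334 := ndS (p := 80810) (l := 5) rfl N80810 D215334
theorem N112091 : nd 112091 = n215335 := ndS (p := 80811) (l := 6) rfl N80811 D215335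
theorem N112092 : nd 112092 = n215336 := ndS (p := 80813) (l := 6) rfl N80813 D215336
theorem N112093 : nd 112093 = n215337 := ndS (p := 80815) (l := 6) rfl N80815 D215337
theorem N112094 : nd 112094 = n215338 := ndS (p := 80816) (l := 6) rfl N80816 D215338
theorem N112095 : nd 112095 = n215339 := ndS (p := 80817) (l := 6) rfl N80817 D215339
theorem N112096 : nd 112096 = n215340 := ndS (p := 80818) (l := 7) rfl N80818 D215340
theorem N112097 : nd 112097 = n215341 := ndS (p := 80829) (l := 1) rfl N80829 D215341
theorem N112098 : nd 112098 = n215342 := ndS (p := 80829) (l := 3) rfl N80829 D215342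
theorem N112099 : nd 112099 = n215343 := ndS (p := 80829) (l := 5) rfl N80829 D215343
theorem N112100 : nd 112100 = n215344 := ndS (p := 80832) (l := 3) rfl N80832 D215344
theorem N112101 : nd 112101 = n215345 := ndS (p := 80832) (l := 7) rfl N80832 D215345
theorem N112102 : nd 112102 = n215346 := ndS (p := 80836) (l := 0) rfl N80836 D215346
theorem N112103 : nd 112103 = n215347 := ndS (p := 80836) (l := 2) rfl N80836 D215347
theorem N112104 : nd 112104 = n215348 := ndS (p := 80836) (l := 5) rfl N80836 D215348
theorem N112105 : nd 112105 = n215349 := ndS (p := 80837) (l := 6) rfl N80837 D215349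
theorem N112106 : nd 112106 = n215350 := ndS (p := 80843) (l := 0) rfl N80843 D215350
theorem N112107 : nd 112107 = n215351 := ndS (p := 80843) (l := 7) rfl N80843 D215351
theorem N112108 : nd 112108 = n215352 := ndS (p := 80851) (l := 0) rfl N80851 D215352
theorem N112109 : nd 112109 = n215353 := ndS (p := 80860) (l := 3) rfl N80860 D215353
theorem N112110 : nd 112110 = n215354 := ndS (p := 80873) (l := 5) rfl N80873 D215354
theorem N112111 : nd 112111 = n215355 := ndS (p := 80880) (l := 4) rfl N80880 D215355
theorem N112112 : nd 112112 = n215356 := ndS (p := 80880) (l := 6) rfl N80880 D215356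
theorem N112113 : nd 112113 = n215357 := ndS (p := 80906) (l := 6) rfl N80906 D215357
theorem N112114 : nd 112114 = n215358 := ndS (p := 80914) (l := 6) rfl N80914 D215358
theorem N112115 : nd 112115 = n215359 := ndS (p := 80919) (l := 0) rfl N80919 D215359
theorem N112116 : nd 112116 = n215360 := ndS (p := 80919) (l := 1) rfl N80919 D215360
theorem N112117 : nd 112117 = n215361 := ndS (p := 80920) (l := 2) rfl N80920 D215361
theorem N112118 : nd 112118 = n215362 := ndS (p := 80921) (l := 6) rfl N80921 D215362
theorem N112119 : nd 112119 = n215363 := ndS (p := 80923) (l := 5) rfl N80923 D215363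
theorem N112120 : nd 112120 = n215364 := ndS (p := 80925) (l := 5) rfl N80925 D215364
theorem N112121 : nd 112121 = n215365 := ndS (p := 80932) (l := 1) rfl N80932 D215365
theorem N112122 : nd 112122 = n215366 := ndS (p := 80932) (l := 7) rfl N80932 D215366
theorem N112123 : nd 112123 = n215367 := ndS (p := 80935) (l := 6) rfl N80935 D215367
theorem N112124 : nd 112124 = n215368 := ndS (p := 80937) (l := 6) rfl N80937 D215368
theorem N112125 : nd 112125 = n215369 := ndS (p := 80941) (l := 5) rfl N80941 D215369
theorem N112126 : nd 112126 = n215370 := ndS (p := 80944) (l := 1) rfl N80944 D215370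
theorem N112127 : nd 112127 = n215371 := ndS (p := 80946) (l := 5) rfl N80946 D215371
theorem N112128 : nd 112128 = n215372 := ndS (p := 80949) (l := 5) rfl N80949 D215372
theorem N112129 : nd 112129 = n215373 := ndS (p := 80959) (l := 1) rfl N80959 D215373
theorem N112130 : nd 112130 = n215374 := ndS (p := 80971) (l := 3) rfl N80971 D215374
theorem N112131 : nd 112131 = n215375 := ndS (p := 80972) (l := 3) rfl N80972 D215375
theorem N112132 : nd 112132 = n215376 := ndS (p := 80974) (l := 5) rfl N80974 D215376
theorem N112133 : nd 112133 = n215377 := ndS (p := 80977) (l := 3) rfl N80977 D215377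
theorem N112134 : nd 112134 = n215378 := ndS (p := 80979) (l := 3) rfl N80979 D215378
theorem N112135 : nd 112135 = n215379 := ndS (p := 80980) (l := 5) rfl N80980 D215379
theorem N112136 : nd 112136 = n215380 := ndS (p := 80980) (l := 6) rfl N80980 D215380
theorem N112137 : nd 112137 = n215381 := ndS (p := 80983) (l := 4) rfl N80983 D215381
theorem N112138 : nd 112138 = n215382 := ndS (p := 80984) (l := 1) rfl N80984 D215382
theorem N112139 : nd 112139 = n215383 := ndS (p := 80985) (l := 6) rfl N80985 D215383
theorem N112140 : nd 112140 = n215384 := ndS (p := 80988) (l := 2) rfl N80988 D215384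
theorem N112141 : nd 112141 = n215385 := ndS (p := 80988) (l := 5) rfl N80988 D215385
theorem N112142 : nd 112142 = n215386 := ndS (p := 80994) (l := 3) rfl N80994 D215386
theorem N112143 : nd 112143 = n215387 := ndS (p := 80994) (l := 6) rfl N80994 D215387
theorem N112144 : nd 112144 = n215388 := ndS (p := 81011) (l := 5) rfl N81011 D215388
theorem N112145 : nd 112145 = n215389 := ndS (p := 81020) (l := 6) rfl N81020 D215389
theorem N112146 : nd 112146 = n215390 := ndS (p := 81022) (l := 4) rfl N81022 D215390
theorem N112147 : nd 112147 = n215391 := ndS (p := 81025) (l := 0) rfl N81025 D215391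
theorem N112148 : nd 112148 = n215392 := ndS (p := 81025) (l := 1) rfl N81025 D215392
theorem N112149 : nd 112149 = n215393 := ndS (p := 81027) (l := 7) rfl N81027 D215393
theorem N112150 : nd 112150 = n215394 := ndS (p := 81030) (l := 7) rfl N81030 D215394
theorem N112151 : nd 112151 = n215395 := ndS (p := 81032) (l := 4) rfl N81032 D215395
theorem N112152 : nd 112152 = n215396 := ndS (p := 81032) (l := 6) rfl N81032 D215396
theorem N112153 : nd 112153 = n215397 := ndS (p := 81035) (l := 4) rfl N81035 D215397
theorem N112154 : nd 112154 = n215398 := ndS (p := 81036) (l := 4) rfl N81036 D215398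
theorem N112155 : nd 112155 = n215399 := ndS (p := 81036) (l := 6) rfl N81036 D215399
theorem N112156 : nd 112156 = n215400 := ndS (p := 81037) (l := 6) rfl N81037 D215400
theorem N112157 : nd 112157 = n215401 := ndS (p := 81038) (l := 0) rfl N81038 D215401
theorem N112158 : nd 112158 = n215402 := ndS (p := 81038) (l := 1) rfl N81038 D215402
theorem N112159 : nd 112159 = n215403 := ndS (p := 81045) (l := 3) rfl N81045 D215403
theorem N112160 : nd 112160 = n215404 := ndS (p := 81055) (l := 6) rfl N81055 D215404
theorem N112161 : nd 112161 = n215405 := ndS (p := 81056) (l := 3) rfl N81056 D215405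
theorem N112162 : nd 112162 = n215406 := ndS (p := 81057) (l := 6) rfl N81057 D215406
theorem N112163 : nd 112163 = n215407 := ndS (p := 81061) (l := 6) rfl N81061 D215407
theorem N112164 : nd 112164 = n215408 := ndS (p := 81062) (l := 4) rfl N81062 D215408
theorem N112165 : nd 112165 = n215409 := ndS (p := 81063) (l := 4) rfl N81063 D215409
theorem N112166 : nd 112166 = n215410 := ndS (p := 81064) (l := 4) rfl N81064 D215410
theorem N112167 : nd 112167 = n215411 := ndS (p := 81065) (l := 3) rfl N81065 D215411
theorem N112168 : nd 112168 = n215412 := ndS (p := 81072) (l := 5) rfl N81072 D215412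
theorem N112169 : nd 112169 = n215413 := ndS (p := 81073) (l := 5) rfl N81073 D215413
theorem N112170 : nd 112170 = n215414 := ndS (p := 81076) (l := 0) rfl N81076 D215414
theorem N112171 : nd 112171 = n215415 := ndS (p := 81078) (l := 5) rfl N81078 D215415
theorem N112172 : nd 112172 = n215416 := ndS (p := 81085) (l := 3) rfl N81085 D215416
theorem N112173 : nd 112173 = n215417 := ndS (p := 81085) (l := 5) rfl N81085 D215417
theorem N112174 : nd 112174 = n215418 := ndS (p := 81085) (l := 6) rfl N81085 D215418
theorem N112175 : nd 112175 = n215419 := ndS (p := 81090) (l := 3) rfl N81090 D215419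
theorem N112176 : nd 112176 = n215420 := ndS (p := 81090) (l := 5) rfl N81090 D215420
theorem N112177 : nd 112177 = n215421 := ndS (p := 81090) (l := 6) rfl N81090 D215421
theorem N112178 : nd 112178 = n215422 := ndS (p := 81093) (l := 3) rfl N81093 D215422
theorem N112179 : nd 112179 = n215423 := ndS (p := 81093) (l := 6) rfl N81093 D215423
theorem N112180 : nd 112180 = n215424 := ndS (p := 81094) (l := 7) rfl N81094 D215424
theorem N112181 : nd 112181 = n215425 := ndS (p := 81095) (l := 3) rfl N81095 D215425
theorem N112182 : nd 112182 = n215426 := ndS (p := 81097) (l := 2) rfl N81097 D215426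
theorem N112183 : nd 112183 = n215427 := ndS (p := 81097) (l := 7) rfl N81097 D215427
theorem N112184 : nd 112184 = n215428 := ndS (p := 81102) (l := 4) rfl N81102 D215428
theorem N112185 : nd 112185 = n215429 := ndS (p := 81103) (l := 4) rfl N81103 D215429
theorem N112186 : nd 112186 = n215430 := ndS (p := 81104) (l := 3) rfl N81104 D215430
theorem N112187 : nd 112187 = n215431 := ndS (p := 81104) (l := 5) rfl N81104 D215431
theorem N112188 : nd 112188 = n215432 := ndS (p := 81109) (l := 5) rfl N81109 D215432
theorem N112189 : nd 112189 = n215433 := ndS (p := 81110) (l := 5) rfl N81110 D215433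
theorem N112190 : nd 112190 = n215434 := ndS (p := 81111) (l := 5) rfl N81111 D215434
theorem N112191 : nd 112191 = n215435 := ndS (p := 81112) (l := 6) rfl N81112 D215435
theorem N112192 : nd 112192 = n215436 := ndS (p := 81113) (l := 5) rfl N81113 D215436
theorem N112193 : nd 112193 = n215437 := ndS (p := 81114) (l := 3) rfl N81114 D215437
theorem N112194 : nd 112194 = n215438 := ndS (p := 81115) (l := 6) rfl N81115 D215438
theorem N112195 : nd 112195 = n215439 := ndS (p := 81119) (l := 3) rfl N81119 D215439
theorem N112196 : nd 112196 = n215440 := ndS (p := 81119) (l := 5) rfl N81119 D215440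
theorem N112197 : nd 112197 = n215441 := ndS (p := 81121) (l := 1) rfl N81121 D215441
theorem N112198 : nd 112198 = n215442 := ndS (p := 81121) (l := 2) rfl N81121 D215442
theorem N112199 : nd 112199 = n215443 := ndS (p := 81121) (l := 5) rfl N81121 D215443
theorem N112200 : nd 112200 = n215444 := ndS (p := 81122) (l := 6) rfl N81122 D215444
theorem N112201 : nd 112201 = n215445 := ndS (p := 81123) (l := 5) rfl N81123 D215445
theorem N112202 : nd 112202 = n215446 := ndS (p := 81128) (l := 0) rfl N81128 D215446
theorem N112203 : nd 112203 = n215447 := ndS (p := 81128) (l := 1) rfl N81128 D215447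
theorem N112204 : nd 112204 = n215448 := ndS (p := 81128) (l := 2) rfl N81128 D215448
theorem N112205 : nd 112205 = n215449 := ndS (p := 81128) (l := 5) rfl N81128 D215449
theorem N112206 : nd 112206 = n215450 := ndS (p := 81129) (l := 6) rfl N81129 D215450
theorem N112207 : nd 112207 = n215451 := ndS (p := 81130) (l := 7) rfl N81130 D215451
theorem N112208 : nd 112208 = n215452 := ndS (p := 81132) (l := 0) rfl N81132 D215452
theorem N112209 : nd 112209 = n215453 := ndS (p := 81132) (l := 1) rfl N81132 D215453
theorem N112210 : nd 112210 = n215454 := ndS (p := 81132) (l := 2) rfl N81132 D215454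
theorem N112211 : nd 112211 = n215455 := ndS (p := 81132) (l := 4) rfl N81132 D215455
theorem N112212 : nd 112212 = n215456 := ndS (p := 81132) (l := 5) rfl N81132 D215456
theorem N112213 : nd 112213 = n215457 := ndS (p := 81133) (l := 6) rfl N81133 D215457
theorem N112214 : nd 112214 = n215458 := ndS (p := 81134) (l := 6) rfl N81134 D215458
theorem N112215 : nd 112215 = n215459 := ndS (p := 81135) (l := 0) rfl N81135 D215459
theorem N112216 : nd 112216 = n215460 := ndS (p := 81135) (l := 7) rfl N81135 D215460
theorem N112217 : nd 112217 = n215461 := ndS (p := 81136) (l := 3) rfl N81136 D215461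
theorem N112218 : nd 112218 = n215462 := ndS (p := 81137) (l := 5) rfl N81137 D215462
theorem N112219 : nd 112219 = n215463 := ndS (p := 81138) (l := 0) rfl N81138 D215463
theorem N112220 : nd 112220 = n215464 := ndS (p := 81138) (l := 1) rfl N81138 D215464
theorem N112221 : nd 112221 = n215465 := ndS (p := 81138) (l := 6) rfl N81138 D215465
theorem N112222 : nd 112222 = n215466 := ndS (p := 81140) (l := 3) rfl N81140 D215466
theorem N112223 : nd 112223 = n215467 := ndS (p := 81140) (l := 6) rfl N81140 D215467
theorem N112224 : nd 112224 = n215468 := ndS (p := 81141) (l := 0) rfl N81141 D215468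
theorem N112225 : nd 112225 = n215469 := ndS (p := 81141) (l := 1) rfl N81141 D215469
theorem N112226 : nd 112226 = n215470 := ndS (p := 81141) (l := 7) rfl N81141 D215470
theorem N112227 : nd 112227 = n215471 := ndS (p := 81143) (l := 5) rfl N81143 D215471
theorem N112228 : nd 112228 = n215472 := ndS (p := 81145) (l := 5) rfl N81145 D215472
theorem N112229 : nd 112229 = n215473 := ndS (p := 81149) (l := 6) rfl N81149 D215473
theorem N112230 : nd 112230 = n215474 := ndS (p := 81152) (l := 0) rfl N81152 D215474
theorem N112231 : nd 112231 = n215475 := ndS (p := 81152) (l := 1) rfl N81152 D215475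
theorem N112232 : nd 112232 = n215476 := ndS (p := 81152) (l := 7) rfl N81152 D215476
theorem N112233 : nd 112233 = n215477 := ndS (p := 81153) (l := 4) rfl N81153 D215477
theorem N112234 : nd 112234 = n215478 := ndS (p := 81153) (l := 5) rfl N81153 D215478
theorem N112235 : nd 112235 = n215479 := ndS (p := 81154) (l := 5) rfl N81154 D215479
theorem N112236 : nd 112236 = n215480 := ndS (p := 81156) (l := 0) rfl N81156 D215480
theorem N112237 : nd 112237 = n215481 := ndS (p := 81156) (l := 1) rfl N81156 D215481
theorem N112238 : nd 112238 = n215482 := ndS (p := 81158) (l := 3) rfl N81158 D215482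
theorem N112239 : nd 112239 = n215483 := ndS (p := 81158) (l := 6) rfl N81158 D215483
theorem N112240 : nd 112240 = n215484 := ndS (p := 81159) (l := 0) rfl N81159 D215484
theorem N112241 : nd 112241 = n215485 := ndS (p := 81159) (l := 1) rfl N81159 D215485
theorem N112242 : nd 112242 = n215486 := ndS (p := 81160) (l := 4) rfl N81160 D215486
theorem N112243 : nd 112243 = n215487 := ndS (p := 81161) (l := 5) rfl N81161 D215487
theorem N112244 : nd 112244 = n215488 := ndS (p := 81162) (l := 0) rfl N81162 D215488
theorem N112245 : nd 112245 = n215489 := ndS (p := 81162) (l := 1) rfl N81162 D215489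
theorem N112246 : nd 112246 = n215490 := ndS (p := 81162) (l := 4) rfl N81162 D215490
theorem N112247 : nd 112247 = n215491 := ndS (p := 81162) (l := 6) rfl N81162 D215491
theorem N112248 : nd 112248 = n215494 := ndS (p := 81168) (l := 0) rfl N81168 D215494
theorem N112249 : nd 112249 = n215495 := ndS (p := 81169) (l := 5) rfl N81169 D215495
theorem N112250 : nd 112250 = n215496 := ndS (p := 81172) (l := 6) rfl N81172 D215496
theorem N112251 : nd 112251 = n215497 := ndS (p := 81173) (l := 0) rfl N81173 D215497
theorem N112252 : nd 112252 = n215498 := ndS (p := 81173) (l := 1) rfl N81173 D215498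
theorem N112253 : nd 112253 = n215499 := ndS (p := 81173) (l := 7) rfl N81173 D215499
theorem N112254 : nd 112254 = n215500 := ndS (p := 81174) (l := 5) rfl N81174 D215500
theorem N112255 : nd 112255 = n215501 := ndS (p := 81176) (l := 4) rfl N81176 D215501
theorem N112256 : nd 112256 = n215502 := ndS (p := 81176) (l := 6) rfl N81176 D215502
theorem N112257 : nd 112257 = n215503 := ndS (p := 81177) (l := 3) rfl N81177 D215503
theorem N112258 : nd 112258 = n215504 := ndS (p := 81177) (l := 4) rfl N81177 D215504
theorem N112259 : nd 112259 = n215505 := ndS (p := 81177) (l := 6) rfl N81177 D215505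
theorem N112260 : nd 112260 = n215506 := ndS (p := 81178) (l := 3) rfl N81178 D215506
theorem N112261 : nd 112261 = n215507 := ndS (p := 81178) (l := 4) rfl N81178 D215507
theorem N112262 : nd 112262 = n215508 := ndS (p := 81178) (l := 6) rfl N81178 D215508
theorem N112263 : nd 112263 = n215509 := ndS (p := 81179) (l := 1) rfl N81179 D215509
theorem N112264 : nd 112264 = n215510 := ndS (p := 81179) (l := 3) rfl N81179 D215510
theorem N112265 : nd 112265 = n215511 := ndS (p := 81179) (l := 6) rfl N81179 D215511
theorem N112266 : nd 112266 = n215512 := ndS (p := 81180) (l := 0) rfl N81180 D215512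
theorem N112267 : nd 112267 = n215513 := ndS (p := 81180) (l := 7) rfl N81180 D215513
theorem N112268 : nd 112268 = n215514 := ndS (p := 81181) (l := 6) rfl N81181 D215514
theorem N112269 : nd 112269 = n215515 := ndS (p := 81182) (l := 0) rfl N81182 D215515
theorem N112270 : nd 112270 = n215516 := ndS (p := 81182) (l := 1) rfl N81182 D215516
theorem N112271 : nd 112271 = n215517 := ndS (p := 81182) (l := 7) rfl N81182 D215517
theorem N112272 : nd 112272 = n215518 := ndS (p := 81184) (l := 0) rfl N81184 D215518
theorem N112273 : nd 112273 = n215519 := ndS (p := 81184) (l := 7) rfl N81184 D215519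
theorem N112274 : nd 112274 = n215520 := ndS (p := 81185) (l := 0) rfl N81185 D215520
theorem N112275 : nd 112275 = n215521 := ndS (p := 81186) (l := 0) rfl N81186 D215521
theorem N112276 : nd 112276 = n215522 := ndS (p := 81186) (l := 1) rfl N81186 D215522
theorem N112277 : nd 112277 = n215523 := ndS (p := 81188) (l := 6) rfl N81188 D215523
theorem N112278 : nd 112278 = n215524 := ndS (p := 81189) (l := 6) rfl N81189 D215524
theorem N112279 : nd 112279 = n215525 := ndS (p := 81190) (l := 0) rfl N81190 D215525
theorem N112280 : nd 112280 = n215526 := ndS (p := 81190) (l := 1) rfl N81190 D215526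
theorem N112281 : nd 112281 = n215527 := ndS (p := 81191) (l := 1) rfl N81191 D215527
theorem N112282 : nd 112282 = n215528 := ndS (p := 81199) (l := 4) rfl N81199 D215528
theorem N112283 : nd 112283 = n215529 := ndS (p := 81205) (l := 5) rfl N81205 D215529
theorem N112284 : nd 112284 = n215530 := ndS (p := 81206) (l := 0) rfl N81206 D215530
theorem N112285 : nd 112285 = n215531 := ndS (p := 81208) (l := 5) rfl N81208 D215531
theorem N112286 : nd 112286 = n215532 := ndS (p := 81222) (l := 5) rfl N81222 D215532
theorem N112287 : nd 112287 = n215533 := ndS (p := 81223) (l := 2) rfl N81223 D215533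
theorem N112288 : nd 112288 = n215534 := ndS (p := 81223) (l := 4) rfl N81223 D215534
theorem N112289 : nd 112289 = n215535 := ndS (p := 81224) (l := 2) rfl N81224 D215535
theorem N112290 : nd 112290 = n215536 := ndS (p := 81224) (l := 4) rfl N81224 D215536
theorem N112291 : nd 112291 = n215537 := ndS (p := 81225) (l := 3) rfl N81225 D215537
theorem N112292 : nd 112292 = n215538 := ndS (p := 81229) (l := 3) rfl N81229 D215538
theorem N112293 : nd 112293 = n215539 := ndS (p := 81232) (l := 6) rfl N81232 D215539
theorem N112294 : nd 112294 = n215540 := ndS (p := 81233) (l := 5) rfl N81233 D215540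
theorem N112295 : nd 112295 = n215541 := ndS (p := 81238) (l := 7) rfl N81238 D215541
theorem N112296 : nd 112296 = n215542 := ndS (p := 81243) (l := 6) rfl N81243 D215542
theorem N112297 : nd 112297 = n215543 := ndS (p := 81244) (l := 0) rfl N81244 D215543
theorem N112298 : nd 112298 = n215544 := ndS (p := 81244) (l := 1) rfl N81244 D215544
theorem N112299 : nd 112299 = n215545 := ndS (p := 81248) (l := 4) rfl N81248 D215545
theorem N112300 : nd 112300 = n215546 := ndS (p := 81249) (l := 0) rfl N81249 D215546
theorem N112301 : nd 112301 = n215547 := ndS (p := 81249) (l := 1) rfl N81249 D215547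
theorem N112302 : nd 112302 = n215548 := ndS (p := 81249) (l := 5) rfl N81249 D215548
theorem N112303 : nd 112303 = n215549 := ndS (p := 81250) (l := 6) rfl N81250 D215549
theorem N112304 : nd 112304 = n215550 := ndS (p := 81251) (l := 0) rfl N81251 D215550
theorem N112305 : nd 112305 = n215551 := ndS (p := 81254) (l := 3) rfl N81254 D215551
theorem N112306 : nd 112306 = n215552 := ndS (p := 81256) (l := 0) rfl N81256 D215552
theorem N112307 : nd 112307 = n215553 := ndS (p := 81258) (l := 0) rfl N81258 D215553
theorem N112308 : nd 112308 = n215554 := ndS (p := 81258) (l := 1) rfl N81258 D215554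
theorem N112309 : nd 112309 = n215555 := ndS (p := 81273) (l := 6) rfl N81273 D215555
theorem N112310 : nd 112310 = n215556 := ndS (p := 81278) (l := 1) rfl N81278 D215556
theorem N112311 : nd 112311 = n215557 := ndS (p := 81281) (l := 0) rfl N81281 D215557
theorem N112312 : nd 112312 = n215558 := ndS (p := 81281) (l := 1) rfl N81281 D215558
theorem N112313 : nd 112313 = n215559 := ndS (p := 81287) (l := 6) rfl N81287 D215559
theorem N112314 : nd 112314 = n215560 := ndS (p := 81324) (l := 1) rfl N81324 D215560
theorem N112315 : nd 112315 = n215561 := ndS (p := 81325) (l := 3) rfl N81325 D215561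
theorem N112316 : nd 112316 = n215562 := ndS (p := 81356) (l := 6) rfl N81356 D215562
theorem N112317 : nd 112317 = n215563 := ndS (p := 81357) (l := 5) rfl N81357 D215563
theorem N112318 : nd 112318 = n215564 := ndS (p := 81361) (l := 3) rfl N81361 D215564
theorem N112319 : nd 112319 = n215565 := ndS (p := 81371) (l := 6) rfl N81371 D215565
theorem N112320 : nd 112320 = n215566 := ndS (p := 81372) (l := 3) rfl N81372 D215566
theorem N112321 : nd 112321 = n215567 := ndS (p := 81372) (l := 4) rfl N81372 D215567
theorem N112322 : nd 112322 = n215568 := ndS (p := 81373) (l := 3) rfl N81373 D215568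
theorem N112323 : nd 112323 = n215569 := ndS (p := 81373) (l := 6) rfl N81373 D215569
theorem N112324 : nd 112324 = n215570 := ndS (p := 81376) (l := 0) rfl N81376 D215570
theorem N112325 : nd 112325 = n215571 := ndS (p := 81376) (l := 1) rfl N81376 D215571
theorem N112326 : nd 112326 = n215572 := ndS (p := 81376) (l := 6) rfl N81376 D215572
theorem N112327 : nd 112327 = n215573 := ndS (p := 81378) (l := 5) rfl N81378 D215573
theorem N112328 : nd 112328 = n215574 := ndS (p := 81379) (l := 6) rfl N81379 D215574
theorem N112329 : nd 112329 = n215575 := ndS (p := 81381) (l := 0) rfl N81381 D215575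
theorem N112330 : nd 112330 = n215576 := ndS (p := 81381) (l := 7) rfl N81381 D215576
theorem N112331 : nd 112331 = n215577 := ndS (p := 81383) (l := 3) rfl N81383 D215577
theorem N112332 : nd 112332 = n215578 := ndS (p := 81383) (l := 6) rfl N81383 D215578
theorem N112333 : nd 112333 = n215579 := ndS (p := 81385) (l := 0) rfl N81385 D215579
theorem N112334 : nd 112334 = n215580 := ndS (p := 81385) (l := 1) rfl N81385 D215580
theorem N112335 : nd 112335 = n215581 := ndS (p := 81385) (l := 7) rfl N81385 D215581
theorem N112336 : nd 112336 = n215582 := ndS (p := 81386) (l := 2) rfl N81386 D215582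
theorem N112337 : nd 112337 = n215583 := ndS (p := 81386) (l := 4) rfl N81386 D215583
theorem N112338 : nd 112338 = n215584 := ndS (p := 81386) (l := 6) rfl N81386 D215584
theorem N112339 : nd 112339 = n215585 := ndS (p := 81389) (l := 6) rfl N81389 D215585
theorem N112340 : nd 112340 = n215586 := ndS (p := 81390) (l := 3) rfl N81390 D215586
theorem N112341 : nd 112341 = n215587 := ndS (p := 81391) (l := 0) rfl N81391 D215587
theorem N112342 : nd 112342 = n215588 := ndS (p := 81391) (l := 6) rfl N81391 D215588
theorem N112343 : nd 112343 = n215589 := ndS (p := 81392) (l := 6) rfl N81392 D215589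
theorem N112344 : nd 112344 = n215590 := ndS (p := 81394) (l := 6) rfl N81394 D215590
theorem N112345 : nd 112345 = n215591 := ndS (p := 81397) (l := 7) rfl N81397 D215591
theorem N112346 : nd 112346 = n215592 := ndS (p := 81399) (l := 3) rfl N81399 D215592
theorem N112347 : nd 112347 = n215593 := ndS (p := 81399) (l := 6) rfl N81399 D215593
theorem N112348 : nd 112348 = n215594 := ndS (p := 81400) (l := 7) rfl N81400 D215594
theorem N112349 : nd 112349 = n215595 := ndS (p := 81401) (l := 6) rfl N81401 D215595
theorem N112350 : nd 112350 = n215596 := ndS (p := 81415) (l := 6) rfl N81415 D215596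
theorem N112351 : nd 112351 = n215597 := ndS (p := 81419) (l := 5) rfl N81419 D215597
theorem N112352 : nd 112352 = n215598 := ndS (p := 81421) (l := 5) rfl N81421 D215598
theorem N112353 : nd 112353 = n215599 := ndS (p := 81422) (l := 3) rfl N81422 D215599
theorem N112354 : nd 112354 = n215600 := ndS (p := 81422) (l := 5) rfl N81422 D215600
theorem N112355 : nd 112355 = n215601 := ndS (p := 81432) (l := 0) rfl N81432 D215601
theorem N112356 : nd 112356 = n215602 := ndS (p := 81432) (l := 1) rfl N81432 D215602
theorem N112357 : nd 112357 = n215603 := ndS (p := 81439) (l := 5) rfl N81439 D215603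
theorem N112358 : nd 112358 = n215604 := ndS (p := 81442) (l := 5) rfl N81442 D215604
theorem N112359 : nd 112359 = n215605 := ndS (p := 81443) (l := 4) rfl N81443 D215605
theorem N112360 : nd 112360 = n215606 := ndS (p := 81444) (l := 6) rfl N81444 D215606
theorem N112361 : nd 112361 = n215607 := ndS (p := 81448) (l := 4) rfl N81448 D215607
theorem N112362 : nd 112362 = n215608 := ndS (p := 81461) (l := 4) rfl N81461 D215608
theorem N112363 : nd 112363 = n215609 := ndS (p := 81465) (l := 4) rfl N81465 D215609
theorem N112364 : nd 112364 = n215610 := ndS (p := 81468) (l := 4) rfl N81468 D215610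
theorem N112365 : nd 112365 = n215611 := ndS (p := 81471) (l := 4) rfl N81471 D215611
theorem N112366 : nd 112366 = n215612 := ndS (p := 81475) (l := 3) rfl N81475 D215612
theorem N112367 : nd 112367 = n215613 := ndS (p := 81476) (l := 5) rfl N81476 D215613
theorem N112368 : nd 112368 = n215614 := ndS (p := 81477) (l := 4) rfl N81477 D215614
theorem N112369 : nd 112369 = n215615 := ndS (p := 81477) (l := 6) rfl N81477 D215615
theorem N112370 : nd 112370 = n215616 := ndS (p := 81480) (l := 6) rfl N81480 D215616
theorem N112371 : nd 112371 = n215617 := ndS (p := 81482) (l := 5) rfl N81482 D215617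
theorem N112372 : nd 112372 = n215618 := ndS (p := 81482) (l := 7) rfl N81482 D215618
theorem N112373 : nd 112373 = n215619 := ndS (p := 81490) (l := 0) rfl N81490 D215619
theorem N112374 : nd 112374 = n215620 := ndS (p := 81490) (l := 5) rfl N81490 D215620
theorem N112375 : nd 112375 = n215621 := ndS (p := 81496) (l := 5) rfl N81496 D215621
theorem N112376 : nd 112376 = n215622 := ndS (p := 81497) (l := 3) rfl N81497 D215622
theorem N112377 : nd 112377 = n215623 := ndS (p := 81497) (l := 6) rfl N81497 D215623
theorem N112378 : nd 112378 = n215624 := ndS (p := 81507) (l := 5) rfl N81507 D215624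
theorem N112379 : nd 112379 = n215625 := ndS (p := 81513) (l := 7) rfl N81513 D215625
theorem N112380 : nd 112380 = n215626 := ndS (p := 81526) (l := 3) rfl N81526 D215626
theorem N112381 : nd 112381 = n215627 := ndS (p := 81526) (l := 6) rfl N81526 D215627
theorem N112382 : nd 112382 = n215628 := ndS (p := 81533) (l := 2) rfl N81533 D215628
theorem N112383 : nd 112383 = n215629 := ndS (p := 81536) (l := 4) rfl N81536 D215629
theorem N112384 : nd 112384 = n215630 := ndS (p := 81539) (l := 5) rfl N81539 D215630
theorem N112385 : nd 112385 = n215631 := ndS (p := 81540) (l := 4) rfl N81540 D215631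
theorem N112386 : nd 112386 = n215632 := ndS (p := 81542) (l := 6) rfl N81542 D215632
theorem N112387 : nd 112387 = n215633 := ndS (p := 81543) (l := 4) rfl N81543 D215633
theorem N112388 : nd 112388 = n215634 := ndS (p := 81543) (l := 6) rfl N81543 D215634
theorem N112389 : nd 112389 = n215635 := ndS (p := 81544) (l := 4) rfl N81544 D215635
theorem N112390 : nd 112390 = n215636 := ndS (p := 81546) (l := 4) rfl N81546 D215636
theorem N112391 : nd 112391 = n215637 := ndS (p := 81549) (l := 4) rfl N81549 D215637
theorem N112392 : nd 112392 = n215638 := ndS (p := 81550) (l := 4) rfl N81550 D215638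
theorem N112393 : nd 112393 = n215639 := ndS (p := 81551) (l := 4) rfl N81551 D215639
theorem N112394 : nd 112394 = n215640 := ndS (p := 81555) (l := 0) rfl N81555 D215640
theorem N112395 : nd 112395 = n215641 := ndS (p := 81555) (l := 1) rfl N81555 D215641
theorem N112396 : nd 112396 = n215642 := ndS (p := 81558) (l := 0) rfl N81558 D215642
theorem N112397 : nd 112397 = n215643 := ndS (p := 81558) (l := 1) rfl N81558 D215643
theorem N112398 : nd 112398 = n215644 := ndS (p := 81558) (l := 2) rfl N81558 D215644
theorem N112399 : nd 112399 = n215645 := ndS (p := 81560) (l := 3) rfl N81560 D215645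
theorem N112400 : nd 112400 = n215646 := ndS (p := 81561) (l := 3) rfl N81561 D215646
theorem N112401 : nd 112401 = n215647 := ndS (p := 81566) (l := 4) rfl N81566 D215647
theorem N112402 : nd 112402 = n215648 := ndS (p := 81570) (l := 0) rfl N81570 D215648
theorem N112403 : nd 112403 = n215649 := ndS (p := 81570) (l := 1) rfl N81570 D215649
theorem N112404 : nd 112404 = n215650 := ndS (p := 81572) (l := 3) rfl N81572 D215650
theorem N112405 : nd 112405 = n215651 := ndS (p := 81572) (l := 5) rfl N81572 D215651
theorem N112406 : nd 112406 = n215652 := ndS (p := 81575) (l := 2) rfl N81575 D215652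
theorem N112407 : nd 112407 = n215653 := ndS (p := 81575) (l := 4) rfl N81575 D215653
theorem N112408 : nd 112408 = n215654 := ndS (p := 81575) (l := 5) rfl N81575 D215654
theorem N112409 : nd 112409 = n215655 := ndS (p := 81577) (l := 6) rfl N81577 D215655
theorem N112410 : nd 112410 = n215656 := ndS (p := 81580) (l := 0) rfl N81580 D215656
theorem N112411 : nd 112411 = n215657 := ndS (p := 81580) (l := 1) rfl N81580 D215657
theorem N112412 : nd 112412 = n215658 := ndS (p := 81581) (l := 3) rfl N81581 D215658
theorem N112413 : nd 112413 = n215659 := ndS (p := 81581) (l := 6) rfl N81581 D215659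
theorem N112414 : nd 112414 = n215660 := ndS (p := 81582) (l := 5) rfl N81582 D215660
theorem N112415 : nd 112415 = n215661 := ndS (p := 81584) (l := 6) rfl N81584 D215661
theorem N112416 : nd 112416 = n215662 := ndS (p := 81586) (l := 0) rfl N81586 D215662
theorem N112417 : nd 112417 = n215663 := ndS (p := 81586) (l := 1) rfl N81586 D215663
theorem N112418 : nd 112418 = n215664 := ndS (p := 81586) (l := 5) rfl N81586 D215664
theorem N112419 : nd 112419 = n215665 := ndS (p := 81591) (l := 4) rfl N81591 D215665
theorem N112420 : nd 112420 = n215666 := ndS (p := 81592) (l := 4) rfl N81592 D215666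
theorem N112421 : nd 112421 = n215667 := ndS (p := 81595) (l := 4) rfl N81595 D215667
theorem N112422 : nd 112422 = n215668 := ndS (p := 81595) (l := 6) rfl N81595 D215668
theorem N112423 : nd 112423 = n215669 := ndS (p := 81596) (l := 0) rfl N81596 D215669
theorem N112424 : nd 112424 = n215670 := ndS (p := 81596) (l := 1) rfl N81596 D215670
theorem N112425 : nd 112425 = n215671 := ndS (p := 81596) (l := 5) rfl N81596 D215671
theorem N112426 : nd 112426 = n215672 := ndS (p := 81596) (l := 6) rfl N81596 D215672
theorem N112427 : nd 112427 = n215673 := ndS (p := 81599) (l := 6) rfl N81599 D215673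
theorem N112428 : nd 112428 = n215674 := ndS (p := 81601) (l := 1) rfl N81601 D215674
theorem N112429 : nd 112429 = n215675 := ndS (p := 81601) (l := 4) rfl N81601 D215675
theorem N112430 : nd 112430 = n215676 := ndS (p := 81601) (l := 7) rfl N81601 D215676
theorem N112431 : nd 112431 = n215677 := ndS (p := 81609) (l := 3) rfl N81609 D215677
theorem N112432 : nd 112432 = n215678 := ndS (p := 81610) (l := 7) rfl N81610 D215678
theorem N112433 : nd 112433 = n215679 := ndS (p := 81611) (l := 3) rfl N81611 D215679
theorem N112434 : nd 112434 = n215680 := ndS (p := 81612) (l := 6) rfl N81612 D215680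
theorem N112435 : nd 112435 = n215681 := ndS (p := 81617) (l := 1) rfl N81617 D215681
theorem N112436 : nd 112436 = n215682 := ndS (p := 81620) (l := 4) rfl N81620 D215682
theorem N112437 : nd 112437 = n215683 := ndS (p := 81629) (l := 3) rfl N81629 D215683
theorem N112438 : nd 112438 = n215684 := ndS (p := 81630) (l := 4) rfl N81630 D215684
theorem N112439 : nd 112439 = n215685 := ndS (p := 81630) (l := 6) rfl N81630 D215685
theorem N112440 : nd 112440 = n215686 := ndS (p := 81631) (l := 3) rfl N81631 D215686
theorem N112441 : nd 112441 = n215687 := ndS (p := 81632) (l := 0) rfl N81632 D215687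
theorem N112442 : nd 112442 = n215688 := ndS (p := 81632) (l := 1) rfl N81632 D215688
theorem N112443 : nd 112443 = n215689 := ndS (p := 81632) (l := 5) rfl N81632 D215689
theorem N112444 : nd 112444 = n215690 := ndS (p := 81635) (l := 3) rfl N81635 D215690
theorem N112445 : nd 112445 = n215691 := ndS (p := 81635) (l := 6) rfl N81635 D215691
theorem N112446 : nd 112446 = n215692 := ndS (p := 81636) (l := 6) rfl N81636 D215692
theorem N112447 : nd 112447 = n215693 := ndS (p := 81637) (l := 1) rfl N81637 D215693
theorem N112448 : nd 112448 = n215694 := ndS (p := 81637) (l := 5) rfl N81637 D215694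
theorem N112449 : nd 112449 = n215695 := ndS (p := 81637) (l := 6) rfl N81637 D215695
theorem N112450 : nd 112450 = n215696 := ndS (p := 81638) (l := 6) rfl N81638 D215696
theorem N112451 : nd 112451 = n215697 := ndS (p := 81639) (l := 0) rfl N81639 D215697
theorem N112452 : nd 112452 = n215698 := ndS (p := 81639) (l := 1) rfl N81639 D215698
theorem N112453 : nd 112453 = n215699 := ndS (p := 81639) (l := 5) rfl N81639 D215699
theorem N112454 : nd 112454 = n215700 := ndS (p := 81641) (l := 4) rfl N81641 D215700
theorem N112455 : nd 112455 = n215701 := ndS (p := 81642) (l := 5) rfl N81642 D215701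
theorem N112456 : nd 112456 = n215702 := ndS (p := 81642) (l := 6) rfl N81642 D215702
theorem N112457 : nd 112457 = n215703 := ndS (p := 81643) (l := 5) rfl N81643 D215703
theorem N112458 : nd 112458 = n215704 := ndS (p := 81644) (l := 3) rfl N81644 D215704
theorem N112459 : nd 112459 = n215705 := ndS (p := 81644) (l := 5) rfl N81644 D215705
theorem N112460 : nd 112460 = n215706 := ndS (p := 81644) (l := 6) rfl N81644 D215706
theorem N112461 : nd 112461 = n215707 := ndS (p := 81645) (l := 5) rfl N81645 D215707
theorem N112462 : nd 112462 = n215708 := ndS (p := 81646) (l := 0) rfl N81646 D215708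
theorem N112463 : nd 112463 = n215709 := ndS (p := 81646) (l := 1) rfl N81646 D215709
theorem N112464 : nd 112464 = n215710 := ndS (p := 81646) (l := 7) rfl N81646 D215710
theorem N112465 : nd 112465 = n215711 := ndS (p := 81648) (l := 7) rfl N81648 D215711
theorem N112466 : nd 112466 = n215712 := ndS (p := 81650) (l := 6) rfl N81650 D215712
theorem N112467 : nd 112467 = n215713 := ndS (p := 81651) (l := 7) rfl N81651 D215713
theorem N112468 : nd 112468 = n215714 := ndS (p := 81655) (l := 5) rfl N81655 D215714
theorem N112469 : nd 112469 = n215715 := ndS (p := 81657) (l := 6) rfl N81657 D215715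
theorem N112470 : nd 112470 = n215716 := ndS (p := 81659) (l := 1) rfl N81659 D215716
theorem N112471 : nd 112471 = n215717 := ndS (p := 81659) (l := 5) rfl N81659 D215717
theorem N112472 : nd 112472 = n215718 := ndS (p := 81659) (l := 7) rfl N81659 D215718
theorem N112473 : nd 112473 = n215719 := ndS (p := 81662) (l := 7) rfl N81662 D215719
theorem N112474 : nd 112474 = n215720 := ndS (p := 81669) (l := 6) rfl N81669 D215720
theorem N112475 : nd 112475 = n215721 := ndS (p := 81675) (l := 1) rfl N81675 D215721
theorem N112476 : nd 112476 = n215722 := ndS (p := 81678) (l := 5) rfl N81678 D215722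
theorem N112477 : nd 112477 = n215723 := ndS (p := 81683) (l := 0) rfl N81683 D215723
theorem N112478 : nd 112478 = n215724 := ndS (p := 81687) (l := 5) rfl N81687 D215724
theorem N112479 : nd 112479 = n215725 := ndS (p := 81690) (l := 3) rfl N81690 D215725
theorem N112480 : nd 112480 = n215726 := ndS (p := 81705) (l := 4) rfl N81705 D215726
theorem N112481 : nd 112481 = n215727 := ndS (p := 81708) (l := 3) rfl N81708 D215727
theorem N112482 : nd 112482 = n215728 := ndS (p := 81708) (l := 5) rfl N81708 D215728
theorem N112483 : nd 112483 = n215729 := ndS (p := 81710) (l := 5) rfl N81710 D215729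
theorem N112484 : nd 112484 = n215730 := ndS (p := 81716) (l := 3) rfl N81716 D215730
theorem N112485 : nd 112485 = n215731 := ndS (p := 81721) (l := 6) rfl N81721 D215731
theorem N112486 : nd 112486 = n215732 := ndS (p := 81739) (l := 2) rfl N81739 D215732
theorem N112487 : nd 112487 = n215733 := ndS (p := 81740) (l := 0) rfl N81740 D215733
theorem N112488 : nd 112488 = n215734 := ndS (p := 81740) (l := 2) rfl N81740 D215734
theorem N112489 : nd 112489 = n215735 := ndS (p := 81744) (l := 3) rfl N81744 D215735
theorem N112490 : nd 112490 = n215736 := ndS (p := 81756) (l := 6) rfl N81756 D215736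
theorem N112491 : nd 112491 = n215737 := ndS (p := 81765) (l := 5) rfl N81765 D215737
theorem N112492 : nd 112492 = n215738 := ndS (p := 81766) (l := 6) rfl N81766 D215738
theorem N112493 : nd 112493 = n215739 := ndS (p := 81774) (l := 4) rfl N81774 D215739
theorem N112494 : nd 112494 = n215740 := ndS (p := 81778) (l := 3) rfl N81778 D215740
theorem N112495 : nd 112495 = n215741 := ndS (p := 81778) (l := 5) rfl N81778 D215741
theorem N112496 : nd 112496 = n215742 := ndS (p := 81781) (l := 4) rfl N81781 D215742
theorem N112497 : nd 112497 = n215743 := ndS (p := 81784) (l := 3) rfl N81784 D215743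
theorem N112498 : nd 112498 = n215744 := ndS (p := 81786) (l := 5) rfl N81786 D215744
theorem N112499 : nd 112499 = n215745 := ndS (p := 81790) (l := 4) rfl N81790 D215745
theorem N112500 : nd 112500 = n215746 := ndS (p := 81791) (l := 4) rfl N81791 D215746
theorem N112501 : nd 112501 = n215747 := ndS (p := 81791) (l := 6) rfl N81791 D215747
theorem N112502 : nd 112502 = n215748 := ndS (p := 81793) (l := 5) rfl N81793 D215748
theorem N112503 : nd 112503 = n215749 := ndS (p := 81797) (l := 5) rfl N81797 D215749
theorem N112504 : nd 112504 = n215750 := ndS (p := 81803) (l := 3) rfl N81803 D215750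
theorem N112505 : nd 112505 = n215751 := ndS (p := 81810) (l := 5) rfl N81810 D215751
theorem N112506 : nd 112506 = n215752 := ndS (p := 81811) (l := 5) rfl N81811 D215752
theorem N112507 : nd 112507 = n215753 := ndS (p := 81812) (l := 6) rfl N81812 D215753
theorem N112508 : nd 112508 = n215754 := ndS (p := 81817) (l := 5) rfl N81817 D215754
theorem N112509 : nd 112509 = n215755 := ndS (p := 81822) (l := 2) rfl N81822 D215755
theorem N112510 : nd 112510 = n215756 := ndS (p := 81822) (l := 4) rfl N81822 D215756
theorem N112511 : nd 112511 = n215757 := ndS (p := 81832) (l := 2) rfl N81832 D215757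
theorem N112512 : nd 112512 = n215758 := ndS (p := 81833) (l := 4) rfl N81833 D215758
theorem N112513 : nd 112513 = n215759 := ndS (p := 81835) (l := 5) rfl N81835 D215759
theorem N112514 : nd 112514 = n215760 := ndS (p := 81836) (l := 6) rfl N81836 D215760
theorem N112515 : nd 112515 = n215761 := ndS (p := 81838) (l := 3) rfl N81838 D215761
theorem N112516 : nd 112516 = n215762 := ndS (p := 81838) (l := 6) rfl N81838 D215762
theorem N112517 : nd 112517 = n215763 := ndS (p := 81840) (l := 4) rfl N81840 D215763
theorem N112518 : nd 112518 = n215764 := ndS (p := 81840) (l := 6) rfl N81840 D215764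
theorem N112519 : nd 112519 = n215765 := ndS (p := 81841) (l := 4) rfl N81841 D215765
theorem N112520 : nd 112520 = n215766 := ndS (p := 81842) (l := 0) rfl N81842 D215766
theorem N112521 : nd 112521 = n215767 := ndS (p := 81843) (l := 6) rfl N81843 D215767
theorem N112522 : nd 112522 = n215768 := ndS (p := 81844) (l := 0) rfl N81844 D215768
theorem N112523 : nd 112523 = n215769 := ndS (p := 81846) (l := 3) rfl N81846 D215769
theorem N112524 : nd 112524 = n215770 := ndS (p := 81846) (l := 5) rfl N81846 D215770
theorem N112525 : nd 112525 = n215771 := ndS (p := 81847) (l := 6) rfl N81847 D215771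
theorem N112526 : nd 112526 = n215772 := ndS (p := 81848) (l := 0) rfl N81848 D215772
theorem N112527 : nd 112527 = n215774 := ndS (p := 81850) (l := 5) rfl N81850 D215774
theorem N112528 : nd 112528 = n215775 := ndS (p := 81851) (l := 0) rfl N81851 D215775
theorem N112529 : nd 112529 = n215776 := ndS (p := 81851) (l := 1) rfl N81851 D215776
theorem N112530 : nd 112530 = n215777 := ndS (p := 81851) (l := 5) rfl N81851 D215777
theorem N112531 : nd 112531 = n215778 := ndS (p := 81852) (l := 6) rfl N81852 D215778
theorem N112532 : nd 112532 = n215779 := ndS (p := 81858) (l := 3) rfl N81858 D215779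
theorem N112533 : nd 112533 = n215780 := ndS (p := 81858) (l := 5) rfl N81858 D215780
theorem N112534 : nd 112534 = n215781 := ndS (p := 81859) (l := 4) rfl N81859 D215781
theorem N112535 : nd 112535 = n215782 := ndS (p := 81859) (l := 5) rfl N81859 D215782
theorem N112536 : nd 112536 = n215783 := ndS (p := 81860) (l := 5) rfl N81860 D215783
theorem N112537 : nd 112537 = n215784 := ndS (p := 81868) (l := 6) rfl N81868 D215784
theorem N112538 : nd 112538 = n215785 := ndS (p := 81869) (l := 6) rfl N81869 D215785
theorem N112539 : nd 112539 = n215786 := ndS (p := 81871) (l := 5) rfl N81871 D215786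
theorem N112540 : nd 112540 = n215787 := ndS (p := 81872) (l := 6) rfl N81872 D215787
theorem N112541 : nd 112541 = n215788 := ndS (p := 81876) (l := 3) rfl N81876 D215788
theorem N112542 : nd 112542 = n215789 := ndS (p := 81876) (l := 6) rfl N81876 D215789
theorem N112543 : nd 112543 = n215790 := ndS (p := 81882) (l := 3) rfl N81882 D215790
theorem N112544 : nd 112544 = n215791 := ndS (p := 81882) (l := 5) rfl N81882 D215791
theorem N112545 : nd 112545 = n215792 := ndS (p := 81882) (l := 6) rfl N81882 D215792
theorem N112546 : nd 112546 = n215793 := ndS (p := 81883) (l := 0) rfl N81883 D215793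
theorem N112547 : nd 112547 = n215794 := ndS (p := 81883) (l := 1) rfl N81883 D215794
theorem N112548 : nd 112548 = n215795 := ndS (p := 81883) (l := 7) rfl N81883 D215795
theorem N112549 : nd 112549 = n215796 := ndS (p := 81884) (l := 5) rfl N81884 D215796
theorem N112550 : nd 112550 = n215797 := ndS (p := 81885) (l := 0) rfl N81885 D215797
theorem N112551 : nd 112551 = n215798 := ndS (p := 81885) (l := 7) rfl N81885 D215798
theorem N112552 : nd 112552 = n215799 := ndS (p := 81886) (l := 4) rfl N81886 D215799
theorem N112553 : nd 112553 = n215800 := ndS (p := 81887) (l := 3) rfl N81887 D215800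
theorem N112554 : nd 112554 = n215801 := ndS (p := 81887) (l := 5) rfl N81887 D215801
theorem N112555 : nd 112555 = n215802 := ndS (p := 81888) (l := 3) rfl N81888 D215802
theorem N112556 : nd 112556 = n215803 := ndS (p := 81888) (l := 5) rfl N81888 D215803
theorem N112557 : nd 112557 = n215804 := ndS (p := 81888) (l := 6) rfl N81888 D215804
theorem N112558 : nd 112558 = n215805 := ndS (p := 81890) (l := 5) rfl N81890 D215805
theorem N112559 : nd 112559 = n215806 := ndS (p := 81891) (l := 3) rfl N81891 D215806
theorem N112560 : nd 112560 = n215807 := ndS (p := 81891) (l := 5) rfl N81891 D215807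
theorem N112561 : nd 112561 = n215808 := ndS (p := 81892) (l := 1) rfl N81892 D215808
theorem N112562 : nd 112562 = n215809 := ndS (p := 81893) (l := 6) rfl N81893 D215809
theorem N112563 : nd 112563 = n215810 := ndS (p := 81896) (l := 6) rfl N81896 D215810
theorem N112564 : nd 112564 = n215811 := ndS (p := 81897) (l := 0) rfl N81897 D215811
theorem N112565 : nd 112565 = n215812 := ndS (p := 81898) (l := 6) rfl N81898 D215812
theorem N112566 : nd 112566 = n215813 := ndS (p := 81901) (l := 3) rfl N81901 D215813
theorem N112567 : nd 112567 = n215814 := ndS (p := 81901) (l := 5) rfl N81901 D215814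
theorem N112568 : nd 112568 = n215815 := ndS (p := 81901) (l := 6) rfl N81901 D215815
theorem N112569 : nd 112569 = n215816 := ndS (p := 81903) (l := 7) rfl N81903 D215816
theorem N112570 : nd 112570 = n215817 := ndS (p := 81907) (l := 6) rfl N81907 D215817
theorem N112571 : nd 112571 = n215818 := ndS (p := 81909) (l := 0) rfl N81909 D215818
theorem N112572 : nd 112572 = n215819 := ndS (p := 81909) (l := 1) rfl N81909 D215819
theorem N112573 : nd 112573 = n215820 := ndS (p := 81909) (l := 5) rfl N81909 D215820
theorem N112574 : nd 112574 = n215821 := ndS (p := 81909) (l := 7) rfl N81909 D215821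
theorem N112575 : nd 112575 = n215822 := ndS (p := 81910) (l := 4) rfl N81910 D215822
theorem N112576 : nd 112576 = n215823 := ndS (p := 81911) (l := 3) rfl N81911 D215823
theorem N112577 : nd 112577 = n215824 := ndS (p := 81911) (l := 4) rfl N81911 D215824
theorem N112578 : nd 112578 = n215825 := ndS (p := 81913) (l := 0) rfl N81913 D215825
theorem N112579 : nd 112579 = n215826 := ndS (p := 81916) (l := 6) rfl N81916 D215826
theorem N112580 : nd 112580 = n215827 := ndS (p := 81917) (l := 3) rfl N81917 D215827
theorem N112581 : nd 112581 = n215828 := ndS (p := 81919) (l := 0) rfl N81919 D215828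
theorem N112582 : nd 112582 = n215829 := ndS (p := 81921) (l := 0) rfl N81921 D215829
theorem N112583 : nd 112583 = n215830 := ndS (p := 81921) (l := 7) rfl N81921 D215830
theorem N112584 : nd 112584 = n215831 := ndS (p := 81922) (l := 0) rfl N81922 D215831
theorem N112585 : nd 112585 = n215832 := ndS (p := 81922) (l := 1) rfl N81922 D215832
theorem N112586 : nd 112586 = n215833 := ndS (p := 81924) (l := 0) rfl N81924 D215833
theorem N112587 : nd 112587 = n215834 := ndS (p := 81924) (l := 1) rfl N81924 D215834
theorem N112588 : nd 112588 = n215835 := ndS (p := 81924) (l := 5) rfl N81924 D215835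
theorem N112589 : nd 112589 = n215836 := ndS (p := 81924) (l := 7) rfl N81924 D215836
theorem N112590 : nd 112590 = n215837 := ndS (p := 81925) (l := 4) rfl N81925 D215837
theorem N112591 : nd 112591 = n215838 := ndS (p := 81925) (l := 5) rfl N81925 D215838
theorem N112592 : nd 112592 = n215839 := ndS (p := 81926) (l := 3) rfl N81926 D215839
theorem N112593 : nd 112593 = n215840 := ndS (p := 81926) (l := 4) rfl N81926 D215840
theorem N112594 : nd 112594 = n215841 := ndS (p := 81928) (l := 5) rfl N81928 D215841
theorem N112595 : nd 112595 = n215842 := ndS (p := 81928) (l := 6) rfl N81928 D215842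
theorem N112596 : nd 112596 = n215843 := ndS (p := 81929) (l := 0) rfl N81929 D215843
theorem N112597 : nd 112597 = n215844 := ndS (p := 81929) (l := 1) rfl N81929 D215844
theorem N112598 : nd 112598 = n215848 := ndS (p := 81931) (l := 4) rfl N81931 D215848
theorem N112599 : nd 112599 = n215849 := ndS (p := 81931) (l := 5) rfl N81931 D215849
theorem N112600 : nd 112600 = n215850 := ndS (p := 81931) (l := 6) rfl N81931 D215850
theorem N112601 : nd 112601 = n215851 := ndS (p := 81933) (l := 5) rfl N81933 D215851
theorem N112602 : nd 112602 = n215852 := ndS (p := 81933) (l := 7) rfl N81933 D215852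
theorem N112603 : nd 112603 = n215853 := ndS (p := 81934) (l := 0) rfl N81934 D215853
theorem N112604 : nd 112604 = n215854 := ndS (p := 81934) (l := 2) rfl N81934 D215854
theorem N112605 : nd 112605 = n215855 := ndS (p := 81934) (l := 3) rfl N81934 D215855
theorem N112606 : nd 112606 = n215856 := ndS (p := 81934) (l := 4) rfl N81934 D215856
theorem N112607 : nd 112607 = n215857 := ndS (p := 81934) (l := 5) rfl N81934 D215857
theorem N112608 : nd 112608 = n215858 := ndS (p := 81934) (l := 7) rfl N81934 D215858
theorem N112609 : nd 112609 = n215859 := ndS (p := 81935) (l := 6) rfl N81935 D215859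
theorem N112610 : nd 112610 = n215860 := ndS (p := 81936) (l := 5) rfl N81936 D215860
theorem N112611 : nd 112611 = n215861 := ndS (p := 81937) (l := 0) rfl N81937 D215861
theorem N112612 : nd 112612 = n215862 := ndS (p := 81937) (l := 4) rfl N81937 D215862
theorem N112613 : nd 112613 = n215863 := ndS (p := 81938) (l := 6) rfl N81938 D215863
theorem N112614 : nd 112614 = n215864 := ndS (p := 81941) (l := 3) rfl N81941 D215864
theorem N112615 : nd 112615 = n215865 := ndS (p := 81941) (l := 4) rfl N81941 D215865
theorem N112616 : nd 112616 = n215866 := ndS (p := 81941) (l := 6) rfl N81941 D215866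
theorem N112617 : nd 112617 = n215867 := ndS (p := 81942) (l := 3) rfl N81942 D215867
theorem N112618 : nd 112618 = n215868 := ndS (p := 81942) (l := 4) rfl N81942 D215868
theorem N112619 : nd 112619 = n215869 := ndS (p := 81945) (l := 0) rfl N81945 D215869
theorem N112620 : nd 112620 = n215870 := ndS (p := 81945) (l := 1) rfl N81945 D215870
theorem N112621 : nd 112621 = n215872 := ndS (p := 81946) (l := 7) rfl N81946 D215872
theorem N112622 : nd 112622 = n215873 := ndS (p := 81947) (l := 4) rfl N81947 D215873
theorem N112623 : nd 112623 = n215874 := ndS (p := 81948) (l := 3) rfl N81948 D215874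
theorem N112624 : nd 112624 = n215875 := ndS (p := 81948) (l := 4) rfl N81948 D215875
theorem N112625 : nd 112625 = n215876 := ndS (p := 81950) (l := 5) rfl N81950 D215876
theorem N112626 : nd 112626 = n215877 := ndS (p := 81951) (l := 3) rfl N81951 D215877
theorem N112627 : nd 112627 = n215878 := ndS (p := 81951) (l := 5) rfl N81951 D215878
theorem N112628 : nd 112628 = n215879 := ndS (p := 81953) (l := 0) rfl N81953 D215879
theorem N112629 : nd 112629 = n215880 := ndS (p := 81955) (l := 0) rfl N81955 D215880
theorem N112630 : nd 112630 = n215881 := ndS (p := 81955) (l := 5) rfl N81955 D215881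
theorem N112631 : nd 112631 = n215882 := ndS (p := 81960) (l := 4) rfl N81960 D215882
theorem N112632 : nd 112632 = n215883 := ndS (p := 81965) (l := 3) rfl N81965 D215883
theorem N112633 : nd 112633 = n215884 := ndS (p := 81966) (l := 3) rfl N81966 D215884
theorem N112634 : nd 112634 = n215885 := ndS (p := 81967) (l := 5) rfl N81967 D215885
theorem N112635 : nd 112635 = n215886 := ndS (p := 81968) (l := 0) rfl N81968 D215886
theorem N112636 : nd 112636 = n215887 := ndS (p := 81968) (l := 1) rfl N81968 D215887
theorem N112637 : nd 112637 = n215888 := ndS (p := 81971) (l := 4) rfl N81971 D215888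
theorem N112638 : nd 112638 = n215889 := ndS (p := 81972) (l := 3) rfl N81972 D215889
theorem N112639 : nd 112639 = n215890 := ndS (p := 81972) (l := 4) rfl N81972 D215890
theorem N112640 : nd 112640 = n215891 := ndS (p := 81978) (l := 5) rfl N81978 D215891
theorem N112641 : nd 112641 = n215892 := ndS (p := 81979) (l := 4) rfl N81979 D215892
theorem N112642 : nd 112642 = n215893 := ndS (p := 81979) (l := 6) rfl N81979 D215893
theorem N112643 : nd 112643 = n215894 := ndS (p := 81980) (l := 0) rfl N81980 D215894
theorem N112644 : nd 112644 = n215895 := ndS (p := 81982) (l := 3) rfl N81982 D215895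
theorem N112645 : nd 112645 = n215896 := ndS (p := 81983) (l := 1) rfl N81983 D215896
theorem N112646 : nd 112646 = n215897 := ndS (p := 81983) (l := 7) rfl N81983 D215897
theorem N112647 : nd 112647 = n215898 := ndS (p := 81989) (l := 0) rfl N81989 D215898
theorem N112648 : nd 112648 = n215899 := ndS (p := 81989) (l := 2) rfl N81989 D215899
theorem N112649 : nd 112649 = n215900 := ndS (p := 81993) (l := 4) rfl N81993 D215900
theorem N112650 : nd 112650 = n215901 := ndS (p := 81996) (l := 0) rfl N81996 D215901
theorem N112651 : nd 112651 = n215902 := ndS (p := 81996) (l := 1) rfl N81996 D215902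
theorem N112652 : nd 112652 = n215903 := ndS (p := 81996) (l := 5) rfl N81996 D215903
theorem N112653 : nd 112653 = n215904 := ndS (p := 81998) (l := 5) rfl N81998 D215904
theorem N112654 : nd 112654 = n215905 := ndS (p := 82003) (l := 0) rfl N82003 D215905
theorem N112655 : nd 112655 = n215906 := ndS (p := 82005) (l := 4) rfl N82005 D215906
theorem N112656 : nd 112656 = n215907 := ndS (p := 82010) (l := 3) rfl N82010 D215907
theorem N112657 : nd 112657 = n215908 := ndS (p := 82020) (l := 6) rfl N82020 D215908
theorem N112658 : nd 112658 = n215909 := ndS (p := 82023) (l := 3) rfl N82023 D215909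
theorem N112659 : nd 112659 = n215910 := ndS (p := 82027) (l := 5) rfl N82027 D215910
theorem N112660 : nd 112660 = n215911 := ndS (p := 82031) (l := 5) rfl N82031 D215911
theorem N112661 : nd 112661 = n215912 := ndS (p := 82036) (l := 0) rfl N82036 D215912
theorem N112662 : nd 112662 = n215913 := ndS (p := 82036) (l := 7) rfl N82036 D215913
theorem N112663 : nd 112663 = n215914 := ndS (p := 82044) (l := 3) rfl N82044 D215914
theorem N112664 : nd 112664 = n215915 := ndS (p := 82044) (l := 5) rfl N82044 D215915
theorem N112665 : nd 112665 = n215916 := ndS (p := 82052) (l := 5) rfl N82052 D215916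
theorem N112666 : nd 112666 = n215917 := ndS (p := 82053) (l := 4) rfl N82053 D215917
theorem N112667 : nd 112667 = n215918 := ndS (p := 82054) (l := 4) rfl N82054 D215918
theorem N112668 : nd 112668 = n215919 := ndS (p := 82055) (l := 6) rfl N82055 D215919
theorem N112669 : nd 112669 = n215920 := ndS (p := 82078) (l := 6) rfl N82078 D215920
theorem N112670 : nd 112670 = n215921 := ndS (p := 82079) (l := 5) rfl N82079 D215921
theorem N112671 : nd 112671 = n215922 := ndS (p := 82081) (l := 6) rfl N82081 D215922
theorem N112672 : nd 112672 = n215923 := ndS (p := 82082) (l := 5) rfl N82082 D215923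
theorem N112673 : nd 112673 = n215924 := ndS (p := 82084) (l := 3) rfl N82084 D215924
theorem N112674 : nd 112674 = n215925 := ndS (p := 82084) (l := 6) rfl N82084 D215925
theorem N112675 : nd 112675 = n215926 := ndS (p := 82096) (l := 5) rfl N82096 D215926
theorem N112676 : nd 112676 = n215927 := ndS (p := 82100) (l := 6) rfl N82100 D215927
theorem N112677 : nd 112677 = n215928 := ndS (p := 82101) (l := 6) rfl N82101 D215928
theorem N112678 : nd 112678 = n215929 := ndS (p := 82102) (l := 0) rfl N82102 D215929
theorem N112679 : nd 112679 = n215930 := ndS (p := 82102) (l := 1) rfl N82102 D215930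
theorem N112680 : nd 112680 = n215931 := ndS (p := 82103) (l := 1) rfl N82103 D215931
theorem N112681 : nd 112681 = n215932 := ndS (p := 82104) (l := 1) rfl N82104 D215932
theorem N112682 : nd 112682 = n215933 := ndS (p := 82107) (l := 1) rfl N82107 D215933
theorem N112683 : nd 112683 = n215934 := ndS (p := 82107) (l := 7) rfl N82107 D215934
theorem N112684 : nd 112684 = n215935 := ndS (p := 82108) (l := 0) rfl N82108 D215935
theorem N112685 : nd 112685 = n215936 := ndS (p := 82108) (l := 1) rfl N82108 D215936
theorem N112686 : nd 112686 = n215937 := ndS (p := 82109) (l := 0) rfl N82109 D215937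
theorem N112687 : nd 112687 = n215938 := ndS (p := 82109) (l := 1) rfl N82109 D215938
theorem N112688 : nd 112688 = n215939 := ndS (p := 82109) (l := 5) rfl N82109 D215939
theorem N112689 : nd 112689 = n215940 := ndS (p := 82110) (l := 5) rfl N82110 D215940
theorem N112690 : nd 112690 = n215941 := ndS (p := 82111) (l := 5) rfl N82111 D215941
theorem N112691 : nd 112691 = n215942 := ndS (p := 82111) (l := 6) rfl N82111 D215942
theorem N112692 : nd 112692 = n215943 := ndS (p := 82115) (l := 5) rfl N82115 D215943
theorem N112693 : nd 112693 = n215944 := ndS (p := 82115) (l := 6) rfl N82115 D215944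
theorem N112694 : nd 112694 = n215945 := ndS (p := 82116) (l := 6) rfl N82116 D215945
theorem N112695 : nd 112695 = n215946 := ndS (p := 82118) (l := 4) rfl N82118 D215946
theorem N112696 : nd 112696 = n215947 := ndS (p := 82119) (l := 5) rfl N82119 D215947
theorem N112697 : nd 112697 = n215948 := ndS (p := 82125) (l := 6) rfl N82125 D215948
theorem N112698 : nd 112698 = n215949 := ndS (p := 82126) (l := 3) rfl N82126 D215949
theorem N112699 : nd 112699 = n215950 := ndS (p := 82127) (l := 6) rfl N82127 D215950
theorem N112700 : nd 112700 = n215951 := ndS (p := 82128) (l := 0) rfl N82128 D215951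
theorem N112701 : nd 112701 = n215952 := ndS (p := 82128) (l := 7) rfl N82128 D215952
theorem N112702 : nd 112702 = n215953 := ndS (p := 82133) (l := 5) rfl N82133 D215953
theorem N112703 : nd 112703 = n215954 := ndS (p := 82136) (l := 0) rfl N82136 D215954
theorem N112704 : nd 112704 = n215955 := ndS (p := 82146) (l := 5) rfl N82146 D215955
theorem N112705 : nd 112705 = n215956 := ndS (p := 82147) (l := 2) rfl N82147 D215956
theorem N112706 : nd 112706 = n215957 := ndS (p := 82147) (l := 6) rfl N82147 D215957
theorem N112707 : nd 112707 = n215958 := ndS (p := 82155) (l := 3) rfl N82155 D215958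
theorem N112708 : nd 112708 = n215959 := ndS (p := 82156) (l := 5) rfl N82156 D215959
theorem N112709 : nd 112709 = n215960 := ndS (p := 82161) (l := 0) rfl N82161 D215960
theorem N112710 : nd 112710 = n215961 := ndS (p := 82161) (l := 6) rfl N82161 D215961
theorem N112711 : nd 112711 = n215962 := ndS (p := 82163) (l := 5) rfl N82163 D215962
theorem N112712 : nd 112712 = n215963 := ndS (p := 82167) (l := 5) rfl N82167 D215963
theorem N112713 : nd 112713 = n215964 := ndS (p := 82174) (l := 4) rfl N82174 D215964
theorem N112714 : nd 112714 = n215965 := ndS (p := 82174) (l := 6) rfl N82174 D215965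
theorem N112715 : nd 112715 = n215966 := ndS (p := 82177) (l := 0) rfl N82177 D215966
theorem N112716 : nd 112716 = n215967 := ndS (p := 82177) (l := 1) rfl N82177 D215967
theorem N112717 : nd 112717 = n215968 := ndS (p := 82177) (l := 7) rfl N82177 D215968
theorem N112718 : nd 112718 = n215969 := ndS (p := 82178) (l := 6) rfl N82178 D215969
theorem N112719 : nd 112719 = n215970 := ndS (p := 82179) (l := 0) rfl N82179 D215970
theorem N112720 : nd 112720 = n215971 := ndS (p := 82179) (l := 6) rfl N82179 D215971
theorem N112721 : nd 112721 = n215972 := ndS (p := 82180) (l := 0) rfl N82180 D215972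
theorem N112722 : nd 112722 = n215973 := ndS (p := 82186) (l := 4) rfl N82186 D215973
theorem N112723 : nd 112723 = n215974 := ndS (p := 82189) (l := 6) rfl N82189 D215974
theorem N112724 : nd 112724 = n215975 := ndS (p := 82193) (l := 0) rfl N82193 D215975
theorem N112725 : nd 112725 = n215976 := ndS (p := 82194) (l := 3) rfl N82194 D215976
theorem N112726 : nd 112726 = n215977 := ndS (p := 82194) (l := 6) rfl N82194 D215977
theorem N112727 : nd 112727 = n215978 := ndS (p := 82206) (l := 5) rfl N82206 D215978
theorem N112728 : nd 112728 = n215979 := ndS (p := 82206) (l := 6) rfl N82206 D215979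
theorem N112729 : nd 112729 = n215980 := ndS (p := 82209) (l := 4) rfl N82209 D215980
theorem N112730 : nd 112730 = n215981 := ndS (p := 82215) (l := 5) rfl N82215 D215981
theorem N112731 : nd 112731 = n215982 := ndS (p := 82217) (l := 0) rfl N82217 D215982
theorem N112732 : nd 112732 = n215983 := ndS (p := 82219) (l := 3) rfl N82219 D215983
theorem N112733 : nd 112733 = n215984 := ndS (p := 82219) (l := 5) rfl N82219 D215984
theorem N112734 : nd 112734 = n215985 := ndS (p := 82223) (l := 3) rfl N82223 D215985
theorem N112735 : nd 112735 = n215986 := ndS (p := 82225) (l := 6) rfl N82225 D215986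
theorem N112736 : nd 112736 = n215987 := ndS (p := 82226) (l := 5) rfl N82226 D215987
theorem N112737 : nd 112737 = n215988 := ndS (p := 82232) (l := 4) rfl N82232 D215988
theorem N112738 : nd 112738 = n215989 := ndS (p := 82243) (l := 4) rfl N82243 D215989
theorem N112739 : nd 112739 = n215990 := ndS (p := 82247) (l := 5) rfl N82247 D215990
theorem N112740 : nd 112740 = n215991 := ndS (p := 82249) (l := 0) rfl N82249 D215991
theorem N112741 : nd 112741 = n215992 := ndS (p := 82249) (l := 4) rfl N82249 D215992
theorem N112742 : nd 112742 = n215993 := ndS (p := 82249) (l := 7) rfl N82249 D215993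
theorem N112743 : nd 112743 = n215994 := ndS (p := 82251) (l := 3) rfl N82251 D215994
theorem N112744 : nd 112744 = n215995 := ndS (p := 82254) (l := 1) rfl N82254 D215995
theorem N112745 : nd 112745 = n215996 := ndS (p := 82254) (l := 5) rfl N82254 D215996
theorem N112746 : nd 112746 = n215997 := ndS (p := 82255) (l := 4) rfl N82255 D215997
theorem N112747 : nd 112747 = n215998 := ndS (p := 82257) (l := 3) rfl N82257 D215998
theorem N112748 : nd 112748 = n215999 := ndS (p := 82261) (l := 3) rfl N82261 D215999
theorem N112749 : nd 112749 = n216000 := ndS (p := 82261) (l := 5) rfl N82261 D216000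
theorem N112750 : nd 112750 = n216001 := ndS (p := 82263) (l := 0) rfl N82263 D216001
theorem N112751 : nd 112751 = n216002 := ndS (p := 82263) (l := 1) rfl N82263 D216002
theorem N112752 : nd 112752 = n216003 := ndS (p := 82263) (l := 4) rfl N82263 D216003
theorem N112753 : nd 112753 = n216004 := ndS (p := 82263) (l := 7) rfl N82263 D216004
theorem N112754 : nd 112754 = n216005 := ndS (p := 82266) (l := 4) rfl N82266 D216005
theorem N112755 : nd 112755 = n216006 := ndS (p := 82267) (l := 4) rfl N82267 D216006
theorem N112756 : nd 112756 = n216007 := ndS (p := 82268) (l := 3) rfl N82268 D216007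
theorem N112757 : nd 112757 = n216008 := ndS (p := 82268) (l := 5) rfl N82268 D216008
theorem N112758 : nd 112758 = n216009 := ndS (p := 82269) (l := 6) rfl N82269 D216009
theorem N112759 : nd 112759 = n216010 := ndS (p := 82271) (l := 1) rfl N82271 D216010
theorem N112760 : nd 112760 = n216011 := ndS (p := 82272) (l := 0) rfl N82272 D216011
theorem N112761 : nd 112761 = n216012 := ndS (p := 82272) (l := 1) rfl N82272 D216012
theorem N112762 : nd 112762 = n216013 := ndS (p := 82276) (l := 0) rfl N82276 D216013
theorem N112763 : nd 112763 = n216014 := ndS (p := 82276) (l := 2) rfl N82276 D216014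
theorem N112764 : nd 112764 = n216015 := ndS (p := 82276) (l := 4) rfl N82276 D216015
theorem N112765 : nd 112765 = n216016 := ndS (p := 82276) (l := 6) rfl N82276 D216016
theorem N112766 : nd 112766 = n216017 := ndS (p := 82278) (l := 4) rfl N82278 D216017
theorem N112767 : nd 112767 = n216018 := ndS (p := 82279) (l := 0) rfl N82279 D216018
theorem N112768 : nd 112768 = n216019 := ndS (p := 82279) (l := 5) rfl N82279 D216019
theorem N112769 : nd 112769 = n216020 := ndS (p := 82280) (l := 4) rfl N82280 D216020
theorem N112770 : nd 112770 = n216021 := ndS (p := 82281) (l := 5) rfl N82281 D216021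
theorem N112771 : nd 112771 = n216022 := ndS (p := 82283) (l := 1) rfl N82283 D216022
theorem N112772 : nd 112772 = n216023 := ndS (p := 82283) (l := 4) rfl N82283 D216023
theorem N112773 : nd 112773 = n216024 := ndS (p := 82283) (l := 6) rfl N82283 D216024
theorem N112774 : nd 112774 = n216025 := ndS (p := 82284) (l := 3) rfl N82284 D216025
theorem N112775 : nd 112775 = n216026 := ndS (p := 82284) (l := 5) rfl N82284 D216026
theorem N112776 : nd 112776 = n216027 := ndS (p := 82285) (l := 4) rfl N82285 D216027
theorem N112777 : nd 112777 = n216028 := ndS (p := 82286) (l := 3) rfl N82286 D216028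
theorem N112778 : nd 112778 = n216029 := ndS (p := 82286) (l := 4) rfl N82286 D216029
theorem N112779 : nd 112779 = n216030 := ndS (p := 82287) (l := 3) rfl N82287 D216030
theorem N112780 : nd 112780 = n216031 := ndS (p := 82287) (l := 4) rfl N82287 D216031
theorem N112781 : nd 112781 = n216032 := ndS (p := 82288) (l := 0) rfl N82288 D216032
theorem N112782 : nd 112782 = n216033 := ndS (p := 82288) (l := 1) rfl N82288 D216033
theorem N112783 : nd 112783 = n216034 := ndS (p := 82288) (l := 3) rfl N82288 D216034
theorem N112784 : nd 112784 = n216035 := ndS (p := 82288) (l := 5) rfl N82288 D216035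
theorem N112785 : nd 112785 = n216036 := ndS (p := 82288) (l := 7) rfl N82288 D216036
theorem N112786 : nd 112786 = n216037 := ndS (p := 82291) (l := 6) rfl N82291 D216037
theorem N112787 : nd 112787 = n216038 := ndS (p := 82292) (l := 6) rfl N82292 D216038
theorem N112788 : nd 112788 = n216039 := ndS (p := 82294) (l := 3) rfl N82294 D216039
theorem N112789 : nd 112789 = n216040 := ndS (p := 82294) (l := 6) rfl N82294 D216040
theorem N112790 : nd 112790 = n216041 := ndS (p := 82295) (l := 0) rfl N82295 D216041
theorem N112791 : nd 112791 = n216042 := ndS (p := 82295) (l := 1) rfl N82295 D216042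
theorem N112792 : nd 112792 = n216043 := ndS (p := 82295) (l := 2) rfl N82295 D216043
theorem N112793 : nd 112793 = n216044 := ndS (p := 82299) (l := 0) rfl N82299 D216044
theorem N112794 : nd 112794 = n216045 := ndS (p := 82299) (l := 1) rfl N82299 D216045
theorem N112795 : nd 112795 = n216046 := ndS (p := 82303) (l := 4) rfl N82303 D216046
theorem N112796 : nd 112796 = n216047 := ndS (p := 82303) (l := 6) rfl N82303 D216047
theorem N112797 : nd 112797 = n216048 := ndS (p := 82304) (l := 7) rfl N82304 D216048
theorem N112798 : nd 112798 = n216049 := ndS (p := 82307) (l := 5) rfl N82307 D216049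
theorem N112799 : nd 112799 = n216050 := ndS (p := 82310) (l := 1) rfl N82310 D216050
theorem N112800 : nd 112800 = n216051 := ndS (p := 82311) (l := 6) rfl N82311 D216051
theorem N112801 : nd 112801 = n216052 := ndS (p := 82312) (l := 6) rfl N82312 D216052
theorem N112802 : nd 112802 = n216053 := ndS (p := 82313) (l := 6) rfl N82313 D216053
theorem N112803 : nd 112803 = n216054 := ndS (p := 82315) (l := 6) rfl N82315 D216054
theorem N112804 : nd 112804 = n216055 := ndS (p := 82320) (l := 6) rfl N82320 D216055
theorem N112805 : nd 112805 = n216056 := ndS (p := 82322) (l := 3) rfl N82322 D216056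
theorem N112806 : nd 112806 = n216057 := ndS (p := 82326) (l := 3) rfl N82326 D216057
theorem N112807 : nd 112807 = n216058 := ndS (p := 82340) (l := 5) rfl N82340 D216058
theorem N112808 : nd 112808 = n216059 := ndS (p := 82341) (l := 3) rfl N82341 D216059
theorem N112809 : nd 112809 = n216060 := ndS (p := 82346) (l := 3) rfl N82346 D216060
theorem N112810 : nd 112810 = n216061 := ndS (p := 82347) (l := 6) rfl N82347 D216061
theorem N112811 : nd 112811 = n216062 := ndS (p := 82353) (l := 6) rfl N82353 D216062
theorem N112812 : nd 112812 = n216063 := ndS (p := 82356) (l := 5) rfl N82356 D216063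
theorem N112813 : nd 112813 = n216064 := ndS (p := 82358) (l := 3) rfl N82358 D216064
theorem N112814 : nd 112814 = n216065 := ndS (p := 82360) (l := 0) rfl N82360 D216065
theorem N112815 : nd 112815 = n216066 := ndS (p := 82363) (l := 5) rfl N82363 D216066
theorem N112816 : nd 112816 = n216067 := ndS (p := 82371) (l := 5) rfl N82371 D216067
theorem N112817 : nd 112817 = n216068 := ndS (p := 82374) (l := 6) rfl N82374 D216068
theorem N112818 : nd 112818 = n216069 := ndS (p := 82389) (l := 6) rfl N82389 D216069
theorem N112819 : nd 112819 = n216070 := ndS (p := 82395) (l := 1) rfl N82395 D216070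
theorem N112820 : nd 112820 = n216071 := ndS (p := 82399) (l := 5) rfl N82399 D216071
theorem N112821 : nd 112821 = n216072 := ndS (p := 82401) (l := 1) rfl N82401 D216072
theorem N112822 : nd 112822 = n216073 := ndS (p := 82402) (l := 4) rfl N82402 D216073
theorem N112823 : nd 112823 = n216074 := ndS (p := 82402) (l := 6) rfl N82402 D216074
theorem N112824 : nd 112824 = n216075 := ndS (p := 82405) (l := 6) rfl N82405 D216075
theorem N112825 : nd 112825 = n216076 := ndS (p := 82408) (l := 4) rfl N82408 D216076
theorem N112826 : nd 112826 = n216077 := ndS (p := 82410) (l := 3) rfl N82410 D216077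
theorem N112827 : nd 112827 = n216078 := ndS (p := 82411) (l := 6) rfl N82411 D216078
theorem N112828 : nd 112828 = n216079 := ndS (p := 82415) (l := 6) rfl N82415 D216079
theorem N112829 : nd 112829 = n216080 := ndS (p := 82416) (l := 4) rfl N82416 D216080
theorem N112830 : nd 112830 = n216081 := ndS (p := 82416) (l := 6) rfl N82416 D216081
theorem N112831 : nd 112831 = n216082 := ndS (p := 82419) (l := 4) rfl N82419 D216082
theorem N112832 : nd 112832 = n216083 := ndS (p := 82421) (l := 1) rfl N82421 D216083
theorem N112833 : nd 112833 = n216084 := ndS (p := 82422) (l := 5) rfl N82422 D216084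
theorem N112834 : nd 112834 = n216085 := ndS (p := 82424) (l := 4) rfl N82424 D216085
theorem N112835 : nd 112835 = n216086 := ndS (p := 82428) (l := 6) rfl N82428 D216086
theorem N112836 : nd 112836 = n216087 := ndS (p := 82431) (l := 5) rfl N82431 D216087
theorem N112837 : nd 112837 = n216088 := ndS (p := 82432) (l := 6) rfl N82432 D216088
theorem N112838 : nd 112838 = n216089 := ndS (p := 82437) (l := 3) rfl N82437 D216089
theorem N112839 : nd 112839 = n216090 := ndS (p := 82437) (l := 4) rfl N82437 D216090
theorem N112840 : nd 112840 = n216091 := ndS (p := 82438) (l := 3) rfl N82438 D216091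
theorem N112841 : nd 112841 = n216092 := ndS (p := 82443) (l := 5) rfl N82443 D216092
theorem N112842 : nd 112842 = n216093 := ndS (p := 82445) (l := 1) rfl N82445 D216093
theorem N112843 : nd 112843 = n216094 := ndS (p := 82446) (l := 1) rfl N82446 D216094
theorem N112844 : nd 112844 = n216095 := ndS (p := 82446) (l := 4) rfl N82446 D216095
theorem N112845 : nd 112845 = n216096 := ndS (p := 82449) (l := 6) rfl N82449 D216096
theorem N112846 : nd 112846 = n216097 := ndS (p := 82455) (l := 2) rfl N82455 D216097
theorem N112847 : nd 112847 = n216098 := ndS (p := 82465) (l := 5) rfl N82465 D216098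
theorem N112848 : nd 112848 = n216099 := ndS (p := 82473) (l := 4) rfl N82473 D216099
theorem N112849 : nd 112849 = n216100 := ndS (p := 82476) (l := 1) rfl N82476 D216100
theorem N112850 : nd 112850 = n216101 := ndS (p := 82477) (l := 5) rfl N82477 D216101
theorem N112851 : nd 112851 = n216102 := ndS (p := 82478) (l := 4) rfl N82478 D216102
theorem N112852 : nd 112852 = n216103 := ndS (p := 82479) (l := 4) rfl N82479 D216103
theorem N112853 : nd 112853 = n216104 := ndS (p := 82479) (l := 6) rfl N82479 D216104
theorem N112854 : nd 112854 = n216105 := ndS (p := 82487) (l := 2) rfl N82487 D216105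
theorem N112855 : nd 112855 = n216106 := ndS (p := 82487) (l := 5) rfl N82487 D216106
theorem N112856 : nd 112856 = n216107 := ndS (p := 82488) (l := 6) rfl N82488 D216107
theorem N112857 : nd 112857 = n216108 := ndS (p := 82493) (l := 1) rfl N82493 D216108
theorem N112858 : nd 112858 = n216109 := ndS (p := 82493) (l := 5) rfl N82493 D216109
theorem N112859 : nd 112859 = n216110 := ndS (p := 82498) (l := 5) rfl N82498 D216110
theorem N112860 : nd 112860 = n216111 := ndS (p := 82499) (l := 6) rfl N82499 D216111
theorem N112861 : nd 112861 = n216112 := ndS (p := 82520) (l := 5) rfl N82520 D216112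
theorem N112862 : nd 112862 = n216113 := ndS (p := 82520) (l := 6) rfl N82520 D216113
theorem N112863 : nd 112863 = n216114 := ndS (p := 82541) (l := 1) rfl N82541 D216114
theorem N112864 : nd 112864 = n216115 := ndS (p := 82541) (l := 4) rfl N82541 D216115
theorem N112865 : nd 112865 = n216116 := ndS (p := 82545) (l := 4) rfl N82545 D216116
theorem N112866 : nd 112866 = n216117 := ndS (p := 82562) (l := 6) rfl N82562 D216117
theorem N112867 : nd 112867 = n216118 := ndS (p := 82567) (l := 6) rfl N82567 D216118
theorem N112868 : nd 112868 = n216119 := ndS (p := 82568) (l := 3) rfl N82568 D216119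
theorem N112869 : nd 112869 = n216120 := ndS (p := 82571) (l := 6) rfl N82571 D216120
theorem N112870 : nd 112870 = n216121 := ndS (p := 82572) (l := 6) rfl N82572 D216121
theorem N112871 : nd 112871 = n216122 := ndS (p := 82579) (l := 6) rfl N82579 D216122
theorem N112872 : nd 112872 = n216123 := ndS (p := 82581) (l := 6) rfl N82581 D216123
theorem N112873 : nd 112873 = n216124 := ndS (p := 82590) (l := 4) rfl N82590 D216124
theorem N112874 : nd 112874 = n216125 := ndS (p := 82597) (l := 3) rfl N82597 D216125
theorem N112875 : nd 112875 = n216126 := ndS (p := 82597) (l := 6) rfl N82597 D216126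
theorem N112876 : nd 112876 = n216127 := ndS (p := 82603) (l := 4) rfl N82603 D216127
theorem N112877 : nd 112877 = n216128 := ndS (p := 82604) (l := 4) rfl N82604 D216128
theorem N112878 : nd 112878 = n216129 := ndS (p := 82605) (l := 4) rfl N82605 D216129
theorem N112879 : nd 112879 = n216130 := ndS (p := 82606) (l := 0) rfl N82606 D216130
theorem N112880 : nd 112880 = n216131 := ndS (p := 82606) (l := 5) rfl N82606 D216131
theorem N112881 : nd 112881 = n216132 := ndS (p := 82606) (l := 6) rfl N82606 D216132
theorem N112882 : nd 112882 = n216133 := ndS (p := 82611) (l := 4) rfl N82611 D216133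
theorem N112883 : nd 112883 = n216134 := ndS (p := 82612) (l := 5) rfl N82612 D216134
theorem N112884 : nd 112884 = n216135 := ndS (p := 82615) (l := 6) rfl N82615 D216135
theorem N112885 : nd 112885 = n216136 := ndS (p := 82616) (l := 3) rfl N82616 D216136
theorem N112886 : nd 112886 = n216137 := ndS (p := 82616) (l := 6) rfl N82616 D216137
theorem N112887 : nd 112887 = n216138 := ndS (p := 82617) (l := 0) rfl N82617 D216138
theorem N112888 : nd 112888 = n216139 := ndS (p := 82617) (l := 1) rfl N82617 D216139
theorem N112889 : nd 112889 = n216140 := ndS (p := 82617) (l := 7) rfl N82617 D216140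
theorem N112890 : nd 112890 = n216141 := ndS (p := 82619) (l := 3) rfl N82619 D216141
theorem N112891 : nd 112891 = n216142 := ndS (p := 82621) (l := 5) rfl N82621 D216142
theorem N112892 : nd 112892 = n216143 := ndS (p := 82622) (l := 0) rfl N82622 D216143
theorem N112893 : nd 112893 = n216144 := ndS (p := 82622) (l := 4) rfl N82622 D216144
theorem N112894 : nd 112894 = n216145 := ndS (p := 82623) (l := 3) rfl N82623 D216145
theorem N112895 : nd 112895 = n216146 := ndS (p := 82624) (l := 0) rfl N82624 D216146
theorem N112896 : nd 112896 = n216147 := ndS (p := 82624) (l := 1) rfl N82624 D216147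
theorem N112897 : nd 112897 = n216148 := ndS (p := 82624) (l := 2) rfl N82624 D216148
theorem N112898 : nd 112898 = n216149 := ndS (p := 82625) (l := 3) rfl N82625 D216149
theorem N112899 : nd 112899 = n216150 := ndS (p := 82626) (l := 0) rfl N82626 D216150
theorem N112900 : nd 112900 = n216151 := ndS (p := 82626) (l := 1) rfl N82626 D216151
theorem N112901 : nd 112901 = n216152 := ndS (p := 82627) (l := 3) rfl N82627 D216152
theorem N112902 : nd 112902 = n216153 := ndS (p := 82631) (l := 1) rfl N82631 D216153
theorem N112903 : nd 112903 = n216154 := ndS (p := 82631) (l := 3) rfl N82631 D216154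
theorem N112904 : nd 112904 = n216155 := ndS (p := 82631) (l := 5) rfl N82631 D216155
theorem N112905 : nd 112905 = n216156 := ndS (p := 82637) (l := 0) rfl N82637 D216156
theorem N112906 : nd 112906 = n216157 := ndS (p := 82637) (l := 1) rfl N82637 D216157
theorem N112907 : nd 112907 = n216158 := ndS (p := 82637) (l := 7) rfl N82637 D216158
theorem N112908 : nd 112908 = n216159 := ndS (p := 82639) (l := 0) rfl N82639 D216159
theorem N112909 : nd 112909 = n216160 := ndS (p := 82640) (l := 6) rfl N82640 D216160
theorem N112910 : nd 112910 = n216161 := ndS (p := 82641) (l := 3) rfl N82641 D216161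
theorem N112911 : nd 112911 = n216162 := ndS (p := 82642) (l := 7) rfl N82642 D216162
theorem N112912 : nd 112912 = n216163 := ndS (p := 82643) (l := 2) rfl N82643 D216163
theorem N112913 : nd 112913 = n216164 := ndS (p := 82644) (l := 4) rfl N82644 D216164
theorem N112914 : nd 112914 = n216165 := ndS (p := 82645) (l := 6) rfl N82645 D216165
theorem N112915 : nd 112915 = n216166 := ndS (p := 82647) (l := 6) rfl N82647 D216166
theorem N112916 : nd 112916 = n216167 := ndS (p := 82648) (l := 4) rfl N82648 D216167
theorem N112917 : nd 112917 = n216168 := ndS (p := 82648) (l := 6) rfl N82648 D216168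
theorem N112918 : nd 112918 = n216169 := ndS (p := 82652) (l := 4) rfl N82652 D216169
theorem N112919 : nd 112919 = n216170 := ndS (p := 82652) (l := 6) rfl N82652 D216170
theorem N112920 : nd 112920 = n216171 := ndS (p := 82657) (l := 0) rfl N82657 D216171
theorem N112921 : nd 112921 = n216172 := ndS (p := 82657) (l := 1) rfl N82657 D216172
theorem N112922 : nd 112922 = n216173 := ndS (p := 82657) (l := 2) rfl N82657 D216173
theorem N112923 : nd 112923 = n216174 := ndS (p := 82657) (l := 5) rfl N82657 D216174
theorem N112924 : nd 112924 = n216175 := ndS (p := 82658) (l := 6) rfl N82658 D216175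
theorem N112925 : nd 112925 = n216176 := ndS (p := 82660) (l := 4) rfl N82660 D216176
theorem N112926 : nd 112926 = n216177 := ndS (p := 82660) (l := 6) rfl N82660 D216177
theorem N112927 : nd 112927 = n216178 := ndS (p := 82661) (l := 4) rfl N82661 D216178
theorem N112928 : nd 112928 = n216179 := ndS (p := 82661) (l := 6) rfl N82661 D216179
theorem N112929 : nd 112929 = n216180 := ndS (p := 82663) (l := 4) rfl N82663 D216180
theorem N112930 : nd 112930 = n216181 := ndS (p := 82663) (l := 6) rfl N82663 D216181
theorem N112931 : nd 112931 = n216182 := ndS (p := 82664) (l := 3) rfl N82664 D216182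
theorem N112932 : nd 112932 = n216183 := ndS (p := 82664) (l := 4) rfl N82664 D216183
theorem N112933 : nd 112933 = n216184 := ndS (p := 82664) (l := 6) rfl N82664 D216184
theorem N112934 : nd 112934 = n216185 := ndS (p := 82665) (l := 0) rfl N82665 D216185
theorem N112935 : nd 112935 = n216186 := ndS (p := 82665) (l := 1) rfl N82665 D216186
theorem N112936 : nd 112936 = n216187 := ndS (p := 82665) (l := 3) rfl N82665 D216187
theorem N112937 : nd 112937 = n216188 := ndS (p := 82665) (l := 5) rfl N82665 D216188
theorem N112938 : nd 112938 = n216189 := ndS (p := 82665) (l := 6) rfl N82665 D216189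
theorem N112939 : nd 112939 = n216190 := ndS (p := 82666) (l := 1) rfl N82666 D216190
theorem N112940 : nd 112940 = n216191 := ndS (p := 82666) (l := 7) rfl N82666 D216191
theorem N112941 : nd 112941 = n216192 := ndS (p := 82667) (l := 4) rfl N82667 D216192
theorem N112942 : nd 112942 = n216193 := ndS (p := 82668) (l := 4) rfl N82668 D216193
theorem N112943 : nd 112943 = n216194 := ndS (p := 82668) (l := 6) rfl N82668 D216194
theorem N112944 : nd 112944 = n216195 := ndS (p := 82670) (l := 7) rfl N82670 D216195
theorem N112945 : nd 112945 = n216196 := ndS (p := 82671) (l := 3) rfl N82671 D216196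
theorem N112946 : nd 112946 = n216197 := ndS (p := 82673) (l := 0) rfl N82673 D216197
theorem N112947 : nd 112947 = n216198 := ndS (p := 82673) (l := 1) rfl N82673 D216198
theorem N112948 : nd 112948 = n216199 := ndS (p := 82673) (l := 2) rfl N82673 D216199
theorem N112949 : nd 112949 = n216200 := ndS (p := 82673) (l := 6) rfl N82673 D216200
theorem N112950 : nd 112950 = n216201 := ndS (p := 82676) (l := 5) rfl N82676 D216201
theorem N112951 : nd 112951 = n216202 := ndS (p := 82678) (l := 4) rfl N82678 D216202
theorem N112952 : nd 112952 = n216203 := ndS (p := 82679) (l := 4) rfl N82679 D216203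
theorem N112953 : nd 112953 = n216204 := ndS (p := 82681) (l := 4) rfl N82681 D216204
theorem N112954 : nd 112954 = n216205 := ndS (p := 82682) (l := 1) rfl N82682 D216205
theorem N112955 : nd 112955 = n216206 := ndS (p := 82685) (l := 3) rfl N82685 D216206
theorem N112956 : nd 112956 = n216207 := ndS (p := 82686) (l := 4) rfl N82686 D216207
theorem N112957 : nd 112957 = n216208 := ndS (p := 82686) (l := 6) rfl N82686 D216208
theorem N112958 : nd 112958 = n216209 := ndS (p := 82687) (l := 0) rfl N82687 D216209
theorem N112959 : nd 112959 = n216210 := ndS (p := 82687) (l := 1) rfl N82687 D216210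
theorem N112960 : nd 112960 = n216211 := ndS (p := 82687) (l := 3) rfl N82687 D216211
theorem N112961 : nd 112961 = n216212 := ndS (p := 82687) (l := 6) rfl N82687 D216212
theorem N112962 : nd 112962 = n216213 := ndS (p := 82688) (l := 0) rfl N82688 D216213
theorem N112963 : nd 112963 = n216214 := ndS (p := 82688) (l := 1) rfl N82688 D216214
theorem N112964 : nd 112964 = n216215 := ndS (p := 82688) (l := 7) rfl N82688 D216215
theorem N112965 : nd 112965 = n216216 := ndS (p := 82689) (l := 3) rfl N82689 D216216
theorem N112966 : nd 112966 = n216217 := ndS (p := 82690) (l := 0) rfl N82690 D216217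
theorem N112967 : nd 112967 = n216218 := ndS (p := 82690) (l := 1) rfl N82690 D216218
theorem N112968 : nd 112968 = n216219 := ndS (p := 82690) (l := 2) rfl N82690 D216219
theorem N112969 : nd 112969 = n216220 := ndS (p := 82692) (l := 3) rfl N82692 D216220
theorem N112970 : nd 112970 = n216221 := ndS (p := 82694) (l := 6) rfl N82694 D216221
theorem N112971 : nd 112971 = n216222 := ndS (p := 82695) (l := 3) rfl N82695 D216222
theorem N112972 : nd 112972 = n216223 := ndS (p := 82696) (l := 0) rfl N82696 D216223
theorem N112973 : nd 112973 = n216224 := ndS (p := 82697) (l := 0) rfl N82697 D216224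
theorem N112974 : nd 112974 = n216225 := ndS (p := 82697) (l := 2) rfl N82697 D216225
theorem N112975 : nd 112975 = n216226 := ndS (p := 82697) (l := 4) rfl N82697 D216226
theorem N112976 : nd 112976 = n216227 := ndS (p := 82697) (l := 6) rfl N82697 D216227
theorem N112977 : nd 112977 = n216228 := ndS (p := 82699) (l := 0) rfl N82699 D216228
theorem N112978 : nd 112978 = n216229 := ndS (p := 82699) (l := 1) rfl N82699 D216229
theorem N112979 : nd 112979 = n216230 := ndS (p := 82699) (l := 2) rfl N82699 D216230
theorem N112980 : nd 112980 = n216231 := ndS (p := 82699) (l := 4) rfl N82699 D216231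
theorem N112981 : nd 112981 = n216232 := ndS (p := 82700) (l := 0) rfl N82700 D216232
theorem N112982 : nd 112982 = n216233 := ndS (p := 82700) (l := 2) rfl N82700 D216233
theorem N112983 : nd 112983 = n216234 := ndS (p := 82700) (l := 3) rfl N82700 D216234
theorem N112984 : nd 112984 = n216235 := ndS (p := 82700) (l := 4) rfl N82700 D216235
theorem N112985 : nd 112985 = n216236 := ndS (p := 82700) (l := 5) rfl N82700 D216236
theorem N112986 : nd 112986 = n216237 := ndS (p := 82700) (l := 6) rfl N82700 D216237
theorem N112987 : nd 112987 = n216238 := ndS (p := 82700) (l := 7) rfl N82700 D216238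
theorem N112988 : nd 112988 = n216239 := ndS (p := 82701) (l := 3) rfl N82701 D216239
theorem N112989 : nd 112989 = n216240 := ndS (p := 82701) (l := 4) rfl N82701 D216240
theorem N112990 : nd 112990 = n216241 := ndS (p := 82701) (l := 5) rfl N82701 D216241
theorem N112991 : nd 112991 = n216244 := ndS (p := 82702) (l := 5) rfl N82702 D216244
theorem N112992 : nd 112992 = n216245 := ndS (p := 82703) (l := 1) rfl N82703 D216245
theorem N112993 : nd 112993 = n216246 := ndS (p := 82703) (l := 6) rfl N82703 D216246
theorem N112994 : nd 112994 = n216247 := ndS (p := 82704) (l := 6) rfl N82704 D216247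
theorem N112995 : nd 112995 = n216248 := ndS (p := 82708) (l := 6) rfl N82708 D216248
theorem N112996 : nd 112996 = n216249 := ndS (p := 82710) (l := 6) rfl N82710 D216249
theorem N112997 : nd 112997 = n216250 := ndS (p := 82711) (l := 4) rfl N82711 D216250
theorem N112998 : nd 112998 = n216251 := ndS (p := 82714) (l := 3) rfl N82714 D216251
theorem N112999 : nd 112999 = n216252 := ndS (p := 82715) (l := 6) rfl N82715 D216252
theorem N113000 : nd 113000 = n216253 := ndS (p := 82716) (l := 0) rfl N82716 D216253
theorem N113001 : nd 113001 = n216254 := ndS (p := 82717) (l := 6) rfl N82717 D216254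
theorem N113002 : nd 113002 = n216255 := ndS (p := 82718) (l := 3) rfl N82718 D216255
theorem N113003 : nd 113003 = n216256 := ndS (p := 82718) (l := 6) rfl N82718 D216256
theorem N113004 : nd 113004 = n216257 := ndS (p := 82719) (l := 7) rfl N82719 D216257
theorem N113005 : nd 113005 = n216258 := ndS (p := 82720) (l := 4) rfl N82720 D216258
theorem N113006 : nd 113006 = n216259 := ndS (p := 82721) (l := 3) rfl N82721 D216259
theorem N113007 : nd 113007 = n216260 := ndS (p := 82722) (l := 7) rfl N82722 D216260
theorem N113008 : nd 113008 = n216261 := ndS (p := 82723) (l := 0) rfl N82723 D216261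
theorem N113009 : nd 113009 = n216262 := ndS (p := 82723) (l := 1) rfl N82723 D216262
theorem N113010 : nd 113010 = n216263 := ndS (p := 82723) (l := 2) rfl N82723 D216263
theorem N113011 : nd 113011 = n216264 := ndS (p := 82723) (l := 6) rfl N82723 D216264
theorem N113012 : nd 113012 = n216265 := ndS (p := 82724) (l := 5) rfl N82724 D216265
theorem N113013 : nd 113013 = n216266 := ndS (p := 82725) (l := 3) rfl N82725 D216266
theorem N113014 : nd 113014 = n216267 := ndS (p := 82725) (l := 5) rfl N82725 D216267
theorem N113015 : nd 113015 = n216268 := ndS (p := 82726) (l := 3) rfl N82726 D216268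
theorem N113016 : nd 113016 = n216269 := ndS (p := 82726) (l := 6) rfl N82726 D216269
theorem N113017 : nd 113017 = n216270 := ndS (p := 82727) (l := 1) rfl N82727 D216270
theorem N113018 : nd 113018 = n216271 := ndS (p := 82730) (l := 1) rfl N82730 D216271
theorem N113019 : nd 113019 = n216272 := ndS (p := 82730) (l := 2) rfl N82730 D216272
theorem N113020 : nd 113020 = n216273 := ndS (p := 82732) (l := 3) rfl N82732 D216273
theorem N113021 : nd 113021 = n216274 := ndS (p := 82732) (l := 4) rfl N82732 D216274
theorem N113022 : nd 113022 = n216275 := ndS (p := 82732) (l := 6) rfl N82732 D216275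
theorem N113023 : nd 113023 = n216276 := ndS (p := 82733) (l := 3) rfl N82733 D216276
theorem N113024 : nd 113024 = n216277 := ndS (p := 82736) (l := 1) rfl N82736 D216277
theorem N113025 : nd 113025 = n216278 := ndS (p := 82737) (l := 3) rfl N82737 D216278
theorem N113026 : nd 113026 = n216279 := ndS (p := 82737) (l := 6) rfl N82737 D216279
theorem N113027 : nd 113027 = n216280 := ndS (p := 82738) (l := 3) rfl N82738 D216280
theorem N113028 : nd 113028 = n216281 := ndS (p := 82740) (l := 0) rfl N82740 D216281
theorem N113029 : nd 113029 = n216282 := ndS (p := 82741) (l := 4) rfl N82741 D216282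
theorem N113030 : nd 113030 = n216283 := ndS (p := 82743) (l := 2) rfl N82743 D216283
theorem N113031 : nd 113031 = n216284 := ndS (p := 82745) (l := 2) rfl N82745 D216284
theorem N113032 : nd 113032 = n216285 := ndS (p := 82746) (l := 3) rfl N82746 D216285
theorem N113033 : nd 113033 = n216286 := ndS (p := 82759) (l := 0) rfl N82759 D216286
theorem N113034 : nd 113034 = n216287 := ndS (p := 82761) (l := 5) rfl N82761 D216287
theorem N113035 : nd 113035 = n216288 := ndS (p := 82762) (l := 5) rfl N82762 D216288
theorem N113036 : nd 113036 = n216289 := ndS (p := 82768) (l := 6) rfl N82768 D216289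
theorem N113037 : nd 113037 = n216290 := ndS (p := 82769) (l := 3) rfl N82769 D216290
theorem N113038 : nd 113038 = n216291 := ndS (p := 82776) (l := 3) rfl N82776 D216291
theorem N113039 : nd 113039 = n216292 := ndS (p := 82776) (l := 6) rfl N82776 D216292
theorem N113040 : nd 113040 = n216293 := ndS (p := 82782) (l := 5) rfl N82782 D216293
theorem N113041 : nd 113041 = n216294 := ndS (p := 82784) (l := 0) rfl N82784 D216294
theorem N113042 : nd 113042 = n216295 := ndS (p := 82784) (l := 1) rfl N82784 D216295
theorem N113043 : nd 113043 = n216296 := ndS (p := 82784) (l := 7) rfl N82784 D216296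
theorem N113044 : nd 113044 = n216297 := ndS (p := 82786) (l := 4) rfl N82786 D216297
theorem N113045 : nd 113045 = n216298 := ndS (p := 82787) (l := 3) rfl N82787 D216298
theorem N113046 : nd 113046 = n216299 := ndS (p := 82800) (l := 3) rfl N82800 D216299
theorem N113047 : nd 113047 = n216300 := ndS (p := 82804) (l := 4) rfl N82804 D216300
theorem N113048 : nd 113048 = n216301 := ndS (p := 82805) (l := 3) rfl N82805 D216301
theorem N113049 : nd 113049 = n216302 := ndS (p := 82805) (l := 4) rfl N82805 D216302
theorem N113050 : nd 113050 = n216303 := ndS (p := 82808) (l := 6) rfl N82808 D216303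
theorem N113051 : nd 113051 = n216304 := ndS (p := 82810) (l := 0) rfl N82810 D216304
theorem N113052 : nd 113052 = n216305 := ndS (p := 82810) (l := 1) rfl N82810 D216305
theorem N113053 : nd 113053 = n216306 := ndS (p := 82810) (l := 7) rfl N82810 D216306
theorem N113054 : nd 113054 = n216307 := ndS (p := 82812) (l := 4) rfl N82812 D216307
theorem N113055 : nd 113055 = n216308 := ndS (p := 82812) (l := 5) rfl N82812 D216308
theorem N113056 : nd 113056 = n216309 := ndS (p := 82813) (l := 3) rfl N82813 D216309
theorem N113057 : nd 113057 = n216310 := ndS (p := 82813) (l := 6) rfl N82813 D216310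
theorem N113058 : nd 113058 = n216311 := ndS (p := 82819) (l := 5) rfl N82819 D216311
theorem N113059 : nd 113059 = n216312 := ndS (p := 82824) (l := 5) rfl N82824 D216312
theorem N113060 : nd 113060 = n216313 := ndS (p := 82825) (l := 5) rfl N82825 D216313
theorem N113061 : nd 113061 = n216314 := ndS (p := 82826) (l := 0) rfl N82826 D216314
theorem N113062 : nd 113062 = n216315 := ndS (p := 82828) (l := 4) rfl N82828 D216315
theorem N113063 : nd 113063 = n216316 := ndS (p := 82828) (l := 6) rfl N82828 D216316
theorem N113064 : nd 113064 = n216317 := ndS (p := 82830) (l := 6) rfl N82830 D216317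
theorem N113065 : nd 113065 = n216318 := ndS (p := 82831) (l := 6) rfl N82831 D216318
theorem N113066 : nd 113066 = n216319 := ndS (p := 82833) (l := 4) rfl N82833 D216319
theorem N113067 : nd 113067 = n216320 := ndS (p := 82833) (l := 6) rfl N82833 D216320
theorem N113068 : nd 113068 = n216321 := ndS (p := 82834) (l := 4) rfl N82834 D216321
theorem N113069 : nd 113069 = n216322 := ndS (p := 82835) (l := 3) rfl N82835 D216322
theorem N113070 : nd 113070 = n216323 := ndS (p := 82836) (l := 3) rfl N82836 D216323
theorem N113071 : nd 113071 = n216324 := ndS (p := 82837) (l := 0) rfl N82837 D216324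
theorem N113072 : nd 113072 = n216325 := ndS (p := 82837) (l := 1) rfl N82837 D216325
theorem N113073 : nd 113073 = n216326 := ndS (p := 82841) (l := 6) rfl N82841 D216326
theorem N113074 : nd 113074 = n216327 := ndS (p := 82846) (l := 5) rfl N82846 D216327
theorem N113075 : nd 113075 = n216328 := ndS (p := 82847) (l := 6) rfl N82847 D216328
theorem N113076 : nd 113076 = n216329 := ndS (p := 82849) (l := 3) rfl N82849 D216329
theorem N113077 : nd 113077 = n216330 := ndS (p := 82851) (l := 3) rfl N82851 D216330
theorem N113078 : nd 113078 = n216331 := ndS (p := 82851) (l := 7) rfl N82851 D216331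
theorem N113079 : nd 113079 = n216332 := ndS (p := 82853) (l := 6) rfl N82853 D216332
theorem N113080 : nd 113080 = n216333 := ndS (p := 82855) (l := 4) rfl N82855 D216333
theorem N113081 : nd 113081 = n216334 := ndS (p := 82855) (l := 6) rfl N82855 D216334
theorem N113082 : nd 113082 = n216335 := ndS (p := 82857) (l := 0) rfl N82857 D216335
theorem N113083 : nd 113083 = n216336 := ndS (p := 82862) (l := 4) rfl N82862 D216336
theorem N113084 : nd 113084 = n216337 := ndS (p := 82862) (l := 6) rfl N82862 D216337
theorem N113085 : nd 113085 = n216338 := ndS (p := 82864) (l := 5) rfl N82864 D216338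
theorem N113086 : nd 113086 = n216339 := ndS (p := 82866) (l := 6) rfl N82866 D216339
theorem N113087 : nd 113087 = n216340 := ndS (p := 82870) (l := 4) rfl N82870 D216340
theorem N113088 : nd 113088 = n216341 := ndS (p := 82870) (l := 6) rfl N82870 D216341
theorem N113089 : nd 113089 = n216342 := ndS (p := 82875) (l := 4) rfl N82875 D216342
theorem N113090 : nd 113090 = n216343 := ndS (p := 82875) (l := 6) rfl N82875 D216343
theorem N113091 : nd 113091 = n216344 := ndS (p := 82876) (l := 3) rfl N82876 D216344
theorem N113092 : nd 113092 = n216345 := ndS (p := 82877) (l := 0) rfl N82877 D216345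
theorem N113093 : nd 113093 = n216346 := ndS (p := 82877) (l := 1) rfl N82877 D216346
theorem N113094 : nd 113094 = n216347 := ndS (p := 82879) (l := 7) rfl N82879 D216347
theorem N113095 : nd 113095 = n216348 := ndS (p := 82880) (l := 5) rfl N82880 D216348
theorem N113096 : nd 113096 = n216349 := ndS (p := 82889) (l := 6) rfl N82889 D216349
theorem N113097 : nd 113097 = n216350 := ndS (p := 82890) (l := 6) rfl N82890 D216350
theorem N113098 : nd 113098 = n216351 := ndS (p := 82891) (l := 7) rfl N82891 D216351
theorem N113099 : nd 113099 = n216352 := ndS (p := 82894) (l := 0) rfl N82894 D216352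
theorem N113100 : nd 113100 = n216353 := ndS (p := 82900) (l := 1) rfl N82900 D216353
theorem N113101 : nd 113101 = n216354 := ndS (p := 82902) (l := 3) rfl N82902 D216354
theorem N113102 : nd 113102 = n216355 := ndS (p := 82905) (l := 3) rfl N82905 D216355
theorem N113103 : nd 113103 = n216356 := ndS (p := 82905) (l := 5) rfl N82905 D216356
theorem N113104 : nd 113104 = n216357 := ndS (p := 82906) (l := 0) rfl N82906 D216357
theorem N113105 : nd 113105 = n216358 := ndS (p := 82906) (l := 7) rfl N82906 D216358
theorem N113106 : nd 113106 = n216359 := ndS (p := 82907) (l := 0) rfl N82907 D216359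
theorem N113107 : nd 113107 = n216360 := ndS (p := 82907) (l := 1) rfl N82907 D216360
theorem N113108 : nd 113108 = n216361 := ndS (p := 82908) (l := 0) rfl N82908 D216361
theorem N113109 : nd 113109 = n216362 := ndS (p := 82909) (l := 4) rfl N82909 D216362
theorem N113110 : nd 113110 = n216363 := ndS (p := 82912) (l := 0) rfl N82912 D216363
theorem N113111 : nd 113111 = n216364 := ndS (p := 82912) (l := 1) rfl N82912 D216364
theorem N113112 : nd 113112 = n216365 := ndS (p := 82912) (l := 2) rfl N82912 D216365
theorem N113113 : nd 113113 = n216366 := ndS (p := 82915) (l := 3) rfl N82915 D216366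
theorem N113114 : nd 113114 = n216367 := ndS (p := 82918) (l := 0) rfl N82918 D216367
theorem N113115 : nd 113115 = n216368 := ndS (p := 82918) (l := 3) rfl N82918 D216368
theorem N113116 : nd 113116 = n216369 := ndS (p := 82918) (l := 4) rfl N82918 D216369
theorem N113117 : nd 113117 = n216370 := ndS (p := 82919) (l := 3) rfl N82919 D216370
theorem N113118 : nd 113118 = n216371 := ndS (p := 82921) (l := 4) rfl N82921 D216371
theorem N113119 : nd 113119 = n216372 := ndS (p := 82925) (l := 3) rfl N82925 D216372
theorem N113120 : nd 113120 = n216373 := ndS (p := 82926) (l := 4) rfl N82926 D216373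
theorem N113121 : nd 113121 = n216374 := ndS (p := 82926) (l := 6) rfl N82926 D216374
theorem N113122 : nd 113122 = n216375 := ndS (p := 82927) (l := 3) rfl N82927 D216375
theorem N113123 : nd 113123 = n216376 := ndS (p := 82928) (l := 1) rfl N82928 D216376
theorem N113124 : nd 113124 = n216377 := ndS (p := 82929) (l := 4) rfl N82929 D216377
theorem N113125 : nd 113125 = n216378 := ndS (p := 82930) (l := 0) rfl N82930 D216378
theorem N113126 : nd 113126 = n216379 := ndS (p := 82930) (l := 2) rfl N82930 D216379
theorem N113127 : nd 113127 = n216380 := ndS (p := 82936) (l := 5) rfl N82936 D216380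
theorem N113128 : nd 113128 = n216381 := ndS (p := 82938) (l := 5) rfl N82938 D216381
theorem N113129 : nd 113129 = n216382 := ndS (p := 82939) (l := 4) rfl N82939 D216382
theorem N113130 : nd 113130 = n216383 := ndS (p := 82949) (l := 3) rfl N82949 D216383
theorem N113131 : nd 113131 = n216384 := ndS (p := 82954) (l := 3) rfl N82954 D216384
theorem N113132 : nd 113132 = n216385 := ndS (p := 82955) (l := 7) rfl N82955 D216385
theorem N113133 : nd 113133 = n216386 := ndS (p := 82958) (l := 4) rfl N82958 D216386
theorem N113134 : nd 113134 = n216387 := ndS (p := 82958) (l := 6) rfl N82958 D216387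
theorem N113135 : nd 113135 = n216388 := ndS (p := 82962) (l := 6) rfl N82962 D216388
theorem N113136 : nd 113136 = n216389 := ndS (p := 82963) (l := 0) rfl N82963 D216389
theorem N113137 : nd 113137 = n216390 := ndS (p := 82963) (l := 1) rfl N82963 D216390
theorem N113138 : nd 113138 = n216391 := ndS (p := 82963) (l := 7) rfl N82963 D216391
theorem N113139 : nd 113139 = n216392 := ndS (p := 82967) (l := 3) rfl N82967 D216392
theorem N113140 : nd 113140 = n216393 := ndS (p := 82969) (l := 1) rfl N82969 D216393
theorem N113141 : nd 113141 = n216394 := ndS (p := 82969) (l := 2) rfl N82969 D216394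
theorem N113142 : nd 113142 = n216395 := ndS (p := 82972) (l := 3) rfl N82972 D216395
theorem N113143 : nd 113143 = n216396 := ndS (p := 82972) (l := 6) rfl N82972 D216396
theorem N113144 : nd 113144 = n216397 := ndS (p := 82973) (l := 1) rfl N82973 D216397
theorem N113145 : nd 113145 = n216398 := ndS (p := 82975) (l := 5) rfl N82975 D216398
theorem N113146 : nd 113146 = n216399 := ndS (p := 82977) (l := 5) rfl N82977 D216399
theorem N113147 : nd 113147 = n216400 := ndS (p := 82978) (l := 5) rfl N82978 D216400
theorem N113148 : nd 113148 = n216401 := ndS (p := 82979) (l := 5) rfl N82979 D216401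
theorem N113149 : nd 113149 = n216402 := ndS (p := 82985) (l := 6) rfl N82985 D216402
theorem N113150 : nd 113150 = n216403 := ndS (p := 82993) (l := 4) rfl N82993 D216403
theorem N113151 : nd 113151 = n216404 := ndS (p := 82998) (l := 5) rfl N82998 D216404
theorem N113152 : nd 113152 = n216405 := ndS (p := 82999) (l := 1) rfl N82999 D216405
theorem N113153 : nd 113153 = n216406 := ndS (p := 82999) (l := 2) rfl N82999 D216406
theorem N113154 : nd 113154 = n216407 := ndS (p := 83006) (l := 1) rfl N83006 D216407
theorem N113155 : nd 113155 = n216408 := ndS (p := 83008) (l := 5) rfl N83008 D216408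
theorem N113156 : nd 113156 = n216409 := ndS (p := 83011) (l := 3) rfl N83011 D216409
theorem N113157 : nd 113157 = n216410 := ndS (p := 83011) (l := 6) rfl N83011 D216410
theorem N113158 : nd 113158 = n216411 := ndS (p := 83013) (l := 6) rfl N83013 D216411
theorem N113159 : nd 113159 = n216412 := ndS (p := 83014) (l := 0) rfl N83014 D216412
theorem N113160 : nd 113160 = n216413 := ndS (p := 83014) (l := 1) rfl N83014 D216413
theorem N113161 : nd 113161 = n216414 := ndS (p := 83014) (l := 7) rfl N83014 D216414
theorem N113162 : nd 113162 = n216415 := ndS (p := 83015) (l := 3) rfl N83015 D216415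
theorem N113163 : nd 113163 = n216416 := ndS (p := 83015) (l := 4) rfl N83015 D216416
theorem N113164 : nd 113164 = n216417 := ndS (p := 83016) (l := 4) rfl N83016 D216417
theorem N113165 : nd 113165 = n216418 := ndS (p := 83018) (l := 5) rfl N83018 D216418
theorem N113166 : nd 113166 = n216419 := ndS (p := 83019) (l := 0) rfl N83019 D216419
theorem N113167 : nd 113167 = n216420 := ndS (p := 83019) (l := 6) rfl N83019 D216420
theorem N113168 : nd 113168 = n216421 := ndS (p := 83020) (l := 5) rfl N83020 D216421
theorem N113169 : nd 113169 = n216422 := ndS (p := 83021) (l := 6) rfl N83021 D216422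
theorem N113170 : nd 113170 = n216423 := ndS (p := 83023) (l := 6) rfl N83023 D216423
theorem N113171 : nd 113171 = n216424 := ndS (p := 83024) (l := 5) rfl N83024 D216424
theorem N113172 : nd 113172 = n216425 := ndS (p := 83024) (l := 7) rfl N83024 D216425
theorem N113173 : nd 113173 = n216426 := ndS (p := 83026) (l := 5) rfl N83026 D216426
theorem N113174 : nd 113174 = n216427 := ndS (p := 83027) (l := 6) rfl N83027 D216427
theorem N113175 : nd 113175 = n216428 := ndS (p := 83031) (l := 5) rfl N83031 D216428
theorem N113176 : nd 113176 = n216429 := ndS (p := 83031) (l := 6) rfl N83031 D216429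
theorem N113177 : nd 113177 = n216430 := ndS (p := 83032) (l := 7) rfl N83032 D216430
theorem N113178 : nd 113178 = n216431 := ndS (p := 83033) (l := 6) rfl N83033 D216431
theorem N113179 : nd 113179 = n216432 := ndS (p := 83034) (l := 3) rfl N83034 D216432
theorem N113180 : nd 113180 = n216433 := ndS (p := 83034) (l := 5) rfl N83034 D216433
theorem N113181 : nd 113181 = n216434 := ndS (p := 83036) (l := 3) rfl N83036 D216434
theorem N113182 : nd 113182 = n216435 := ndS (p := 83036) (l := 5) rfl N83036 D216435
theorem N113183 : nd 113183 = n216436 := ndS (p := 83036) (l := 6) rfl N83036 D216436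
theorem N113184 : nd 113184 = n216437 := ndS (p := 83037) (l := 3) rfl N83037 D216437
theorem N113185 : nd 113185 = n216438 := ndS (p := 83037) (l := 4) rfl N83037 D216438
theorem N113186 : nd 113186 = n216439 := ndS (p := 83037) (l := 5) rfl N83037 D216439
theorem N113187 : nd 113187 = n216440 := ndS (p := 83039) (l := 1) rfl N83039 D216440
theorem N113188 : nd 113188 = n216441 := ndS (p := 83039) (l := 7) rfl N83039 D216441
theorem N113189 : nd 113189 = n216442 := ndS (p := 83042) (l := 6) rfl N83042 D216442
theorem N113190 : nd 113190 = n216443 := ndS (p := 83044) (l := 6) rfl N83044 D216443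
theorem N113191 : nd 113191 = n216444 := ndS (p := 83045) (l := 0) rfl N83045 D216444
theorem N113192 : nd 113192 = n216445 := ndS (p := 83046) (l := 0) rfl N83046 D216445
theorem N113193 : nd 113193 = n216446 := ndS (p := 83046) (l := 2) rfl N83046 D216446
theorem N113194 : nd 113194 = n216447 := ndS (p := 83048) (l := 1) rfl N83048 D216447
theorem N113195 : nd 113195 = n216448 := ndS (p := 83048) (l := 2) rfl N83048 D216448
theorem N113196 : nd 113196 = n216449 := ndS (p := 83049) (l := 6) rfl N83049 D216449
theorem N113197 : nd 113197 = n216450 := ndS (p := 83050) (l := 3) rfl N83050 D216450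
theorem N113198 : nd 113198 = n216451 := ndS (p := 83050) (l := 6) rfl N83050 D216451
theorem N113199 : nd 113199 = n216452 := ndS (p := 83052) (l := 0) rfl N83052 D216452
theorem N113200 : nd 113200 = n216453 := ndS (p := 83052) (l := 1) rfl N83052 D216453
theorem N113201 : nd 113201 = n216454 := ndS (p := 83052) (l := 2) rfl N83052 D216454
theorem N113202 : nd 113202 = n216455 := ndS (p := 83054) (l := 2) rfl N83054 D216455
theorem N113203 : nd 113203 = n216456 := ndS (p := 83055) (l := 0) rfl N83055 D216456
theorem N113204 : nd 113204 = n216457 := ndS (p := 83055) (l := 1) rfl N83055 D216457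
theorem N113205 : nd 113205 = n216458 := ndS (p := 83055) (l := 2) rfl N83055 D216458
theorem N113206 : nd 113206 = n216459 := ndS (p := 83057) (l := 3) rfl N83057 D216459
theorem N113207 : nd 113207 = n216460 := ndS (p := 83057) (l := 4) rfl N83057 D216460
theorem N113208 : nd 113208 = n216461 := ndS (p := 83057) (l := 5) rfl N83057 D216461
theorem N113209 : nd 113209 = n216462 := ndS (p := 83058) (l := 3) rfl N83058 D216462
theorem N113210 : nd 113210 = n216463 := ndS (p := 83061) (l := 6) rfl N83061 D216463
theorem N113211 : nd 113211 = n216464 := ndS (p := 83062) (l := 6) rfl N83062 D216464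
theorem N113212 : nd 113212 = n216465 := ndS (p := 83063) (l := 0) rfl N83063 D216465
theorem N113213 : nd 113213 = n216466 := ndS (p := 83064) (l := 6) rfl N83064 D216466
theorem N113214 : nd 113214 = n216467 := ndS (p := 83065) (l := 1) rfl N83065 D216467
theorem N113215 : nd 113215 = n216468 := ndS (p := 83067) (l := 0) rfl N83067 D216468
theorem N113216 : nd 113216 = n216469 := ndS (p := 83067) (l := 1) rfl N83067 D216469
theorem N113217 : nd 113217 = n216470 := ndS (p := 83067) (l := 2) rfl N83067 D216470
theorem N113218 : nd 113218 = n216471 := ndS (p := 83071) (l := 4) rfl N83071 D216471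
theorem N113219 : nd 113219 = n216472 := ndS (p := 83074) (l := 0) rfl N83074 D216472
theorem N113220 : nd 113220 = n216473 := ndS (p := 83074) (l := 1) rfl N83074 D216473
theorem N113221 : nd 113221 = n216474 := ndS (p := 83074) (l := 2) rfl N83074 D216474
theorem N113222 : nd 113222 = n216475 := ndS (p := 83076) (l := 4) rfl N83076 D216475
theorem N113223 : nd 113223 = n216476 := ndS (p := 83077) (l := 5) rfl N83077 D216476
theorem N113224 : nd 113224 = n216477 := ndS (p := 83079) (l := 6) rfl N83079 D216477
theorem N113225 : nd 113225 = n216478 := ndS (p := 83080) (l := 3) rfl N83080 D216478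
theorem N113226 : nd 113226 = n216479 := ndS (p := 83082) (l := 1) rfl N83082 D216479
theorem N113227 : nd 113227 = n216480 := ndS (p := 83085) (l := 5) rfl N83085 D216480
theorem N113228 : nd 113228 = n216481 := ndS (p := 83086) (l := 1) rfl N83086 D216481
theorem N113229 : nd 113229 = n216482 := ndS (p := 83086) (l := 4) rfl N83086 D216482
theorem N113230 : nd 113230 = n216483 := ndS (p := 83089) (l := 5) rfl N83089 D216483
theorem N113231 : nd 113231 = n216484 := ndS (p := 83089) (l := 7) rfl N83089 D216484
theorem N113232 : nd 113232 = n216485 := ndS (p := 83091) (l := 5) rfl N83091 D216485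
theorem N113233 : nd 113233 = n216486 := ndS (p := 83093) (l := 4) rfl N83093 D216486
theorem N113234 : nd 113234 = n216487 := ndS (p := 83093) (l := 6) rfl N83093 D216487
theorem N113235 : nd 113235 = n216488 := ndS (p := 83094) (l := 5) rfl N83094 D216488
theorem N113236 : nd 113236 = n216489 := ndS (p := 83094) (l := 6) rfl N83094 D216489
theorem N113237 : nd 113237 = n216490 := ndS (p := 83102) (l := 7) rfl N83102 D216490
theorem N113238 : nd 113238 = n216491 := ndS (p := 83104) (l := 6) rfl N83104 D216491
theorem N113239 : nd 113239 = n216492 := ndS (p := 83106) (l := 7) rfl N83106 D216492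
theorem N113240 : nd 113240 = n216493 := ndS (p := 83109) (l := 0) rfl N83109 D216493
theorem N113241 : nd 113241 = n216494 := ndS (p := 83109) (l := 2) rfl N83109 D216494
theorem N113242 : nd 113242 = n216495 := ndS (p := 83109) (l := 7) rfl N83109 D216495
theorem N113243 : nd 113243 = n216496 := ndS (p := 83113) (l := 6) rfl N83113 D216496
theorem N113244 : nd 113244 = n216497 := ndS (p := 83114) (l := 4) rfl N83114 D216497
theorem N113245 : nd 113245 = n216498 := ndS (p := 83114) (l := 6) rfl N83114 D216498
theorem N113246 : nd 113246 = n216499 := ndS (p := 83116) (l := 0) rfl N83116 D216499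
theorem N113247 : nd 113247 = n216500 := ndS (p := 83116) (l := 3) rfl N83116 D216500
theorem N113248 : nd 113248 = n216501 := ndS (p := 83116) (l := 6) rfl N83116 D216501
theorem N113249 : nd 113249 = n216502 := ndS (p := 83117) (l := 0) rfl N83117 D216502
theorem N113250 : nd 113250 = n216503 := ndS (p := 83117) (l := 1) rfl N83117 D216503
theorem N113251 : nd 113251 = n216504 := ndS (p := 83117) (l := 7) rfl N83117 D216504
theorem N113252 : nd 113252 = n216505 := ndS (p := 83120) (l := 0) rfl N83120 D216505
theorem N113253 : nd 113253 = n216506 := ndS (p := 83124) (l := 6) rfl N83124 D216506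
theorem N113254 : nd 113254 = n216507 := ndS (p := 83128) (l := 3) rfl N83128 D216507
theorem N113255 : nd 113255 = n216508 := ndS (p := 83128) (l := 6) rfl N83128 D216508
theorem N113256 : nd 113256 = n216509 := ndS (p := 83129) (l := 0) rfl N83129 D216509
theorem N113257 : nd 113257 = n216510 := ndS (p := 83129) (l := 7) rfl N83129 D216510
theorem N113258 : nd 113258 = n216511 := ndS (p := 83130) (l := 1) rfl N83130 D216511
theorem N113259 : nd 113259 = n216512 := ndS (p := 83130) (l := 2) rfl N83130 D216512
theorem N113260 : nd 113260 = n216513 := ndS (p := 83134) (l := 1) rfl N83134 D216513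
theorem N113261 : nd 113261 = n216514 := ndS (p := 83137) (l := 3) rfl N83137 D216514
theorem N113262 : nd 113262 = n216515 := ndS (p := 83139) (l := 2) rfl N83139 D216515
theorem N113263 : nd 113263 = n216516 := ndS (p := 83140) (l := 6) rfl N83140 D216516
theorem N113264 : nd 113264 = n216517 := ndS (p := 83144) (l := 3) rfl N83144 D216517
theorem N113265 : nd 113265 = n216518 := ndS (p := 83144) (l := 4) rfl N83144 D216518
theorem N113266 : nd 113266 = n216519 := ndS (p := 83145) (l := 4) rfl N83145 D216519
theorem N113267 : nd 113267 = n216520 := ndS (p := 83145) (l := 6) rfl N83145 D216520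
theorem N113268 : nd 113268 = n216521 := ndS (p := 83146) (l := 3) rfl N83146 D216521
theorem N113269 : nd 113269 = n216522 := ndS (p := 83146) (l := 5) rfl N83146 D216522
theorem N113270 : nd 113270 = n216523 := ndS (p := 83152) (l := 4) rfl N83152 D216523
theorem N113271 : nd 113271 = n216524 := ndS (p := 83157) (l := 3) rfl N83157 D216524
theorem N113272 : nd 113272 = n216525 := ndS (p := 83157) (l := 5) rfl N83157 D216525
theorem N113273 : nd 113273 = n216526 := ndS (p := 83158) (l := 6) rfl N83158 D216526
theorem N113274 : nd 113274 = n216527 := ndS (p := 83166) (l := 6) rfl N83166 D216527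
theorem N113275 : nd 113275 = n216528 := ndS (p := 83167) (l := 5) rfl N83167 D216528
theorem N113276 : nd 113276 = n216529 := ndS (p := 83173) (l := 3) rfl N83173 D216529
theorem N113277 : nd 113277 = n216530 := ndS (p := 83174) (l := 6) rfl N83174 D216530
theorem N113278 : nd 113278 = n216531 := ndS (p := 83175) (l := 0) rfl N83175 D216531
theorem N113279 : nd 113279 = n216532 := ndS (p := 83175) (l := 1) rfl N83175 D216532
theorem N113280 : nd 113280 = n216533 := ndS (p := 83176) (l := 5) rfl N83176 D216533
theorem N113281 : nd 113281 = n216534 := ndS (p := 83176) (l := 6) rfl N83176 D216534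
theorem N113282 : nd 113282 = n216535 := ndS (p := 83178) (l := 1) rfl N83178 D216535
theorem N113283 : nd 113283 = n216536 := ndS (p := 83178) (l := 7) rfl N83178 D216536
theorem N113284 : nd 113284 = n216537 := ndS (p := 83179) (l := 5) rfl N83179 D216537
theorem N113285 : nd 113285 = n216538 := ndS (p := 83179) (l := 6) rfl N83179 D216538
theorem N113286 : nd 113286 = n216539 := ndS (p := 83180) (l := 5) rfl N83180 D216539
theorem N113287 : nd 113287 = n216540 := ndS (p := 83182) (l := 0) rfl N83182 D216540
theorem N113288 : nd 113288 = n216541 := ndS (p := 83182) (l := 1) rfl N83182 D216541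
theorem N113289 : nd 113289 = n216542 := ndS (p := 83182) (l := 4) rfl N83182 D216542
theorem N113290 : nd 113290 = n216543 := ndS (p := 83184) (l := 0) rfl N83184 D216543
theorem N113291 : nd 113291 = n216544 := ndS (p := 83188) (l := 6) rfl N83188 D216544
theorem N113292 : nd 113292 = n216545 := ndS (p := 83189) (l := 7) rfl N83189 D216545
theorem N113293 : nd 113293 = n216546 := ndS (p := 83198) (l := 6) rfl N83198 D216546
theorem N113294 : nd 113294 = n216547 := ndS (p := 83200) (l := 0) rfl N83200 D216547
theorem N113295 : nd 113295 = n216548 := ndS (p := 83200) (l := 1) rfl N83200 D216548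
theorem N113296 : nd 113296 = n216549 := ndS (p := 83200) (l := 7) rfl N83200 D216549
theorem N113297 : nd 113297 = n216550 := ndS (p := 83207) (l := 1) rfl N83207 D216550
theorem N113298 : nd 113298 = n216551 := ndS (p := 83207) (l := 7) rfl N83207 D216551
theorem N113299 : nd 113299 = n216552 := ndS (p := 83211) (l := 5) rfl N83211 D216552
theorem N113300 : nd 113300 = n216553 := ndS (p := 83211) (l := 6) rfl N83211 D216553
theorem N113301 : nd 113301 = n216554 := ndS (p := 83212) (l := 0) rfl N83212 D216554
theorem N113302 : nd 113302 = n216555 := ndS (p := 83212) (l := 1) rfl N83212 D216555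
theorem N113303 : nd 113303 = n216556 := ndS (p := 83212) (l := 7) rfl N83212 D216556
theorem N113304 : nd 113304 = n216557 := ndS (p := 83214) (l := 3) rfl N83214 D216557
theorem N113305 : nd 113305 = n216558 := ndS (p := 83228) (l := 4) rfl N83228 D216558
theorem N113306 : nd 113306 = n216559 := ndS (p := 83230) (l := 4) rfl N83230 D216559
theorem N113307 : nd 113307 = n216560 := ndS (p := 83235) (l := 5) rfl N83235 D216560
theorem N113308 : nd 113308 = n216561 := ndS (p := 83242) (l := 7) rfl N83242 D216561
theorem N113309 : nd 113309 = n216562 := ndS (p := 83244) (l := 4) rfl N83244 D216562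
theorem N113310 : nd 113310 = n216563 := ndS (p := 83248) (l := 7) rfl N83248 D216563
theorem N113311 : nd 113311 = n216564 := ndS (p := 83249) (l := 6) rfl N83249 D216564
theorem N113312 : nd 113312 = n216565 := ndS (p := 83254) (l := 6) rfl N83254 D216565
theorem N113313 : nd 113313 = n216566 := ndS (p := 83257) (l := 7) rfl N83257 D216566
theorem N113314 : nd 113314 = n216567 := ndS (p := 83258) (l := 6) rfl N83258 D216567
theorem N113315 : nd 113315 = n216568 := ndS (p := 83260) (l := 5) rfl N83260 D216568
theorem N113316 : nd 113316 = n216569 := ndS (p := 83260) (l := 7) rfl N83260 D216569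
theorem N113317 : nd 113317 = n216570 := ndS (p := 83264) (l := 5) rfl N83264 D216570
theorem N113318 : nd 113318 = n216571 := ndS (p := 83267) (l := 4) rfl N83267 D216571
theorem N113319 : nd 113319 = n216572 := ndS (p := 83268) (l := 7) rfl N83268 D216572
theorem N113320 : nd 113320 = n216573 := ndS (p := 83269) (l := 1) rfl N83269 D216573
theorem N113321 : nd 113321 = n216574 := ndS (p := 83273) (l := 3) rfl N83273 D216574
theorem N113322 : nd 113322 = n216575 := ndS (p := 83273) (l := 5) rfl N83273 D216575
theorem N113323 : nd 113323 = n216576 := ndS (p := 83279) (l := 5) rfl N83279 D216576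
theorem N113324 : nd 113324 = n216577 := ndS (p := 83281) (l := 5) rfl N83281 D216577
theorem N113325 : nd 113325 = n216578 := ndS (p := 83282) (l := 1) rfl N83282 D216578
theorem N113326 : nd 113326 = n216579 := ndS (p := 83283) (l := 5) rfl N83283 D216579
theorem N113327 : nd 113327 = n216580 := ndS (p := 83284) (l := 5) rfl N83284 D216580
theorem N113328 : nd 113328 = n216581 := ndS (p := 83286) (l := 3) rfl N83286 D216581
theorem N113329 : nd 113329 = n216582 := ndS (p := 83287) (l := 4) rfl N83287 D216582
theorem N113330 : nd 113330 = n216583 := ndS (p := 83289) (l := 5) rfl N83289 D216583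
theorem N113331 : nd 113331 = n216584 := ndS (p := 83293) (l := 3) rfl N83293 D216584
theorem N113332 : nd 113332 = n216585 := ndS (p := 83299) (l := 7) rfl N83299 D216585
theorem N113333 : nd 113333 = n216586 := ndS (p := 83300) (l := 5) rfl N83300 D216586
theorem N113334 : nd 113334 = n216587 := ndS (p := 83304) (l := 6) rfl N83304 D216587
theorem N113335 : nd 113335 = n216588 := ndS (p := 83305) (l := 5) rfl N83305 D216588
theorem N113336 : nd 113336 = n216589 := ndS (p := 83305) (l := 6) rfl N83305 D216589
theorem N113337 : nd 113337 = n216590 := ndS (p := 83307) (l := 1) rfl N83307 D216590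
theorem N113338 : nd 113338 = n216591 := ndS (p := 83309) (l := 1) rfl N83309 D216591
theorem N113339 : nd 113339 = n216592 := ndS (p := 83309) (l := 4) rfl N83309 D216592
theorem N113340 : nd 113340 = n216593 := ndS (p := 83312) (l := 0) rfl N83312 D216593
theorem N113341 : nd 113341 = n216594 := ndS (p := 83312) (l := 1) rfl N83312 D216594
theorem N113342 : nd 113342 = n216595 := ndS (p := 83313) (l := 4) rfl N83313 D216595
theorem N113343 : nd 113343 = n216596 := ndS (p := 83314) (l := 4) rfl N83314 D216596
theorem N113344 : nd 113344 = n216597 := ndS (p := 83317) (l := 3) rfl N83317 D216597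
theorem N113345 : nd 113345 = n216598 := ndS (p := 83319) (l := 5) rfl N83319 D216598
theorem N113346 : nd 113346 = n216599 := ndS (p := 83320) (l := 4) rfl N83320 D216599
theorem N113347 : nd 113347 = n216600 := ndS (p := 83323) (l := 3) rfl N83323 D216600
theorem N113348 : nd 113348 = n216601 := ndS (p := 83325) (l := 5) rfl N83325 D216601
theorem N113349 : nd 113349 = n216602 := ndS (p := 83327) (l := 3) rfl N83327 D216602
theorem N113350 : nd 113350 = n216603 := ndS (p := 83328) (l := 0) rfl N83328 D216603
theorem N113351 : nd 113351 = n216604 := ndS (p := 83328) (l := 1) rfl N83328 D216604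
theorem N113352 : nd 113352 = n216605 := ndS (p := 83328) (l := 2) rfl N83328 D216605
theorem N113353 : nd 113353 = n216606 := ndS (p := 83329) (l := 0) rfl N83329 D216606
theorem N113354 : nd 113354 = n216607 := ndS (p := 83329) (l := 1) rfl N83329 D216607
theorem N113355 : nd 113355 = n216608 := ndS (p := 83329) (l := 5) rfl N83329 D216608
theorem N113356 : nd 113356 = n216609 := ndS (p := 83330) (l := 4) rfl N83330 D216609
theorem N113357 : nd 113357 = n216610 := ndS (p := 83331) (l := 3) rfl N83331 D216610
theorem N113358 : nd 113358 = n216611 := ndS (p := 83331) (l := 4) rfl N83331 D216611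
theorem N113359 : nd 113359 = n216612 := ndS (p := 83332) (l := 0) rfl N83332 D216612
theorem N113360 : nd 113360 = n216613 := ndS (p := 83332) (l := 1) rfl N83332 D216613
theorem N113361 : nd 113361 = n216614 := ndS (p := 83332) (l := 4) rfl N83332 D216614
theorem N113362 : nd 113362 = n216615 := ndS (p := 83336) (l := 4) rfl N83336 D216615
theorem N113363 : nd 113363 = n216616 := ndS (p := 83337) (l := 3) rfl N83337 D216616
theorem N113364 : nd 113364 = n216617 := ndS (p := 83337) (l := 4) rfl N83337 D216617
theorem N113365 : nd 113365 = n216618 := ndS (p := 83337) (l := 6) rfl N83337 D216618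
theorem N113366 : nd 113366 = n216619 := ndS (p := 83338) (l := 1) rfl N83338 D216619
theorem N113367 : nd 113367 = n216620 := ndS (p := 83338) (l := 5) rfl N83338 D216620
theorem N113368 : nd 113368 = n216621 := ndS (p := 83339) (l := 1) rfl N83339 D216621
theorem N113369 : nd 113369 = n216622 := ndS (p := 83340) (l := 7) rfl N83340 D216622
theorem N113370 : nd 113370 = n216623 := ndS (p := 83342) (l := 0) rfl N83342 D216623
theorem N113371 : nd 113371 = n216624 := ndS (p := 83342) (l := 7) rfl N83342 D216624
theorem N113372 : nd 113372 = n216625 := ndS (p := 83345) (l := 1) rfl N83345 D216625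
theorem N113373 : nd 113373 = n216626 := ndS (p := 83345) (l := 2) rfl N83345 D216626
theorem N113374 : nd 113374 = n216627 := ndS (p := 83345) (l := 5) rfl N83345 D216627
theorem N113375 : nd 113375 = n216628 := ndS (p := 83345) (l := 6) rfl N83345 D216628
theorem N113376 : nd 113376 = n216629 := ndS (p := 83347) (l := 1) rfl N83347 D216629
theorem N113377 : nd 113377 = n216630 := ndS (p := 83347) (l := 5) rfl N83347 D216630
theorem N113378 : nd 113378 = n216631 := ndS (p := 83348) (l := 4) rfl N83348 D216631
theorem N113379 : nd 113379 = n216632 := ndS (p := 83349) (l := 1) rfl N83349 D216632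
theorem N113380 : nd 113380 = n216633 := ndS (p := 83349) (l := 2) rfl N83349 D216633
theorem N113381 : nd 113381 = n216634 := ndS (p := 83349) (l := 4) rfl N83349 D216634
theorem N113382 : nd 113382 = n216635 := ndS (p := 83351) (l := 3) rfl N83351 D216635
theorem N113383 : nd 113383 = n216636 := ndS (p := 83351) (l := 4) rfl N83351 D216636
theorem N113384 : nd 113384 = n216637 := ndS (p := 83351) (l := 5) rfl N83351 D216637
theorem N113385 : nd 113385 = n216638 := ndS (p := 83352) (l := 3) rfl N83352 D216638
theorem N113386 : nd 113386 = n216639 := ndS (p := 83352) (l := 4) rfl N83352 D216639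
theorem N113387 : nd 113387 = n216640 := ndS (p := 83352) (l := 5) rfl N83352 D216640
theorem N113388 : nd 113388 = n216641 := ndS (p := 83352) (l := 6) rfl N83352 D216641
theorem N113389 : nd 113389 = n216642 := ndS (p := 83356) (l := 3) rfl N83356 D216642
theorem N113390 : nd 113390 = n216643 := ndS (p := 83356) (l := 5) rfl N83356 D216643
theorem N113391 : nd 113391 = n216644 := ndS (p := 83356) (l := 6) rfl N83356 D216644
theorem N113392 : nd 113392 = n216645 := ndS (p := 83358) (l := 3) rfl N83358 D216645
theorem N113393 : nd 113393 = n216646 := ndS (p := 83358) (l := 6) rfl N83358 D216646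
theorem N113394 : nd 113394 = n216647 := ndS (p := 83361) (l := 5) rfl N83361 D216647
theorem N113395 : nd 113395 = n216648 := ndS (p := 83363) (l := 3) rfl N83363 D216648
theorem N113396 : nd 113396 = n216649 := ndS (p := 83363) (l := 5) rfl N83363 D216649
theorem N113397 : nd 113397 = n216650 := ndS (p := 83363) (l := 6) rfl N83363 D216650
theorem N113398 : nd 113398 = n216651 := ndS (p := 83365) (l := 3) rfl N83365 D216651
theorem N113399 : nd 113399 = n216652 := ndS (p := 83365) (l := 5) rfl N83365 D216652
theorem N113400 : nd 113400 = n216653 := ndS (p := 83366) (l := 3) rfl N83366 D216653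
theorem N113401 : nd 113401 = n216654 := ndS (p := 83366) (l := 6) rfl N83366 D216654
theorem N113402 : nd 113402 = n216655 := ndS (p := 83367) (l := 0) rfl N83367 D216655
theorem N113403 : nd 113403 = n216656 := ndS (p := 83367) (l := 1) rfl N83367 D216656
theorem N113404 : nd 113404 = n216657 := ndS (p := 83367) (l := 2) rfl N83367 D216657
theorem N113405 : nd 113405 = n216658 := ndS (p := 83367) (l := 5) rfl N83367 D216658
theorem N113406 : nd 113406 = n216659 := ndS (p := 83368) (l := 6) rfl N83368 D216659
theorem N113407 : nd 113407 = n216660 := ndS (p := 83369) (l := 0) rfl N83369 D216660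
theorem N113408 : nd 113408 = n216661 := ndS (p := 83369) (l := 7) rfl N83369 D216661
theorem N113409 : nd 113409 = n216662 := ndS (p := 83370) (l := 3) rfl N83370 D216662
theorem N113410 : nd 113410 = n216663 := ndS (p := 83370) (l := 4) rfl N83370 D216663
theorem N113411 : nd 113411 = n216664 := ndS (p := 83374) (l := 3) rfl N83374 D216664
theorem N113412 : nd 113412 = n216665 := ndS (p := 83376) (l := 4) rfl N83376 D216665
theorem N113413 : nd 113413 = n216666 := ndS (p := 83376) (l := 5) rfl N83376 D216666
theorem N113414 : nd 113414 = n216667 := ndS (p := 83377) (l := 3) rfl N83377 D216667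
theorem N113415 : nd 113415 = n216668 := ndS (p := 83377) (l := 4) rfl N83377 D216668
theorem N113416 : nd 113416 = n216669 := ndS (p := 83377) (l := 5) rfl N83377 D216669
theorem N113417 : nd 113417 = n216670 := ndS (p := 83378) (l := 6) rfl N83378 D216670
theorem N113418 : nd 113418 = n216671 := ndS (p := 83379) (l := 0) rfl N83379 D216671
theorem N113419 : nd 113419 = n216672 := ndS (p := 83383) (l := 3) rfl N83383 D216672
theorem N113420 : nd 113420 = n216673 := ndS (p := 83385) (l := 0) rfl N83385 D216673
theorem N113421 : nd 113421 = n216674 := ndS (p := 83385) (l := 1) rfl N83385 D216674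
theorem N113422 : nd 113422 = n216675 := ndS (p := 83388) (l := 1) rfl N83388 D216675
theorem N113423 : nd 113423 = n216676 := ndS (p := 83388) (l := 5) rfl N83388 D216676
theorem N113424 : nd 113424 = n216677 := ndS (p := 83392) (l := 3) rfl N83392 D216677
theorem N113425 : nd 113425 = n216678 := ndS (p := 83392) (l := 4) rfl N83392 D216678
theorem N113426 : nd 113426 = n216679 := ndS (p := 83396) (l := 6) rfl N83396 D216679
theorem N113427 : nd 113427 = n216680 := ndS (p := 83398) (l := 2) rfl N83398 D216680
theorem N113428 : nd 113428 = n216681 := ndS (p := 83399) (l := 3) rfl N83399 D216681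
theorem N113429 : nd 113429 = n216682 := ndS (p := 83400) (l := 3) rfl N83400 D216682
theorem N113430 : nd 113430 = n216683 := ndS (p := 83402) (l := 5) rfl N83402 D216683
theorem N113431 : nd 113431 = n216685 := ndS (p := 83409) (l := 5) rfl N83409 D216685
theorem N113432 : nd 113432 = n216686 := ndS (p := 83409) (l := 6) rfl N83409 D216686
theorem N113433 : nd 113433 = n216687 := ndS (p := 83410) (l := 0) rfl N83410 D216687
theorem N113434 : nd 113434 = n216688 := ndS (p := 83410) (l := 1) rfl N83410 D216688
theorem N113435 : nd 113435 = n216689 := ndS (p := 83410) (l := 4) rfl N83410 D216689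
theorem N113436 : nd 113436 = n216690 := ndS (p := 83410) (l := 6) rfl N83410 D216690
theorem N113437 : nd 113437 = n216691 := ndS (p := 83411) (l := 5) rfl N83411 D216691
theorem N113438 : nd 113438 = n216692 := ndS (p := 83415) (l := 3) rfl N83415 D216692
theorem N113439 : nd 113439 = n216693 := ndS (p := 83416) (l := 3) rfl N83416 D216693
theorem N113440 : nd 113440 = n216694 := ndS (p := 83417) (l := 6) rfl N83417 D216694
theorem N113441 : nd 113441 = n216695 := ndS (p := 83418) (l := 1) rfl N83418 D216695
theorem N113442 : nd 113442 = n216696 := ndS (p := 83419) (l := 6) rfl N83419 D216696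
theorem N113443 : nd 113443 = n216697 := ndS (p := 83425) (l := 3) rfl N83425 D216697
theorem N113444 : nd 113444 = n216698 := ndS (p := 83426) (l := 4) rfl N83426 D216698
theorem N113445 : nd 113445 = n216699 := ndS (p := 83428) (l := 3) rfl N83428 D216699
theorem N113446 : nd 113446 = n216700 := ndS (p := 83429) (l := 3) rfl N83429 D216700
theorem N113447 : nd 113447 = n216701 := ndS (p := 83429) (l := 6) rfl N83429 D216701
theorem N113448 : nd 113448 = n216702 := ndS (p := 83430) (l := 6) rfl N83430 D216702
theorem N113449 : nd 113449 = n216703 := ndS (p := 83431) (l := 0) rfl N83431 D216703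
theorem N113450 : nd 113450 = n216704 := ndS (p := 83431) (l := 1) rfl N83431 D216704
theorem N113451 : nd 113451 = n216705 := ndS (p := 83431) (l := 7) rfl N83431 D216705
theorem N113452 : nd 113452 = n216706 := ndS (p := 83433) (l := 6) rfl N83433 D216706
theorem N113453 : nd 113453 = n216707 := ndS (p := 83435) (l := 1) rfl N83435 D216707
theorem N113454 : nd 113454 = n216708 := ndS (p := 83436) (l := 0) rfl N83436 D216708
theorem N113455 : nd 113455 = n216709 := ndS (p := 83436) (l := 1) rfl N83436 D216709
theorem N113456 : nd 113456 = n216710 := ndS (p := 83439) (l := 6) rfl N83439 D216710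
theorem N113457 : nd 113457 = n216711 := ndS (p := 83440) (l := 4) rfl N83440 D216711
theorem N113458 : nd 113458 = n216712 := ndS (p := 83441) (l := 3) rfl N83441 D216712
theorem N113459 : nd 113459 = n216713 := ndS (p := 83442) (l := 5) rfl N83442 D216713
theorem N113460 : nd 113460 = n216714 := ndS (p := 83446) (l := 6) rfl N83446 D216714
theorem N113461 : nd 113461 = n216715 := ndS (p := 83448) (l := 0) rfl N83448 D216715
theorem N113462 : nd 113462 = n216716 := ndS (p := 83448) (l := 1) rfl N83448 D216716
theorem N113463 : nd 113463 = n216717 := ndS (p := 83451) (l := 3) rfl N83451 D216717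
theorem N113464 : nd 113464 = n216718 := ndS (p := 83451) (l := 6) rfl N83451 D216718
theorem N113465 : nd 113465 = n216719 := ndS (p := 83452) (l := 0) rfl N83452 D216719
theorem N113466 : nd 113466 = n216720 := ndS (p := 83457) (l := 5) rfl N83457 D216720
theorem N113467 : nd 113467 = n216721 := ndS (p := 83457) (l := 6) rfl N83457 D216721
theorem N113468 : nd 113468 = n216722 := ndS (p := 83462) (l := 4) rfl N83462 D216722
theorem N113469 : nd 113469 = n216723 := ndS (p := 83462) (l := 6) rfl N83462 D216723
theorem N113470 : nd 113470 = n216724 := ndS (p := 83463) (l := 4) rfl N83463 D216724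
theorem N113471 : nd 113471 = n216725 := ndS (p := 83464) (l := 6) rfl N83464 D216725
theorem N113472 : nd 113472 = n216726 := ndS (p := 83467) (l := 6) rfl N83467 D216726
theorem N113473 : nd 113473 = n216727 := ndS (p := 83468) (l := 1) rfl N83468 D216727
theorem N113474 : nd 113474 = n216728 := ndS (p := 83469) (l := 0) rfl N83469 D216728
theorem N113475 : nd 113475 = n216729 := ndS (p := 83472) (l := 6) rfl N83472 D216729
theorem N113476 : nd 113476 = n216730 := ndS (p := 83474) (l := 4) rfl N83474 D216730
theorem N113477 : nd 113477 = n216731 := ndS (p := 83475) (l := 3) rfl N83475 D216731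
theorem N113478 : nd 113478 = n216732 := ndS (p := 83477) (l := 4) rfl N83477 D216732
theorem N113479 : nd 113479 = n216733 := ndS (p := 83477) (l := 5) rfl N83477 D216733
theorem N113480 : nd 113480 = n216734 := ndS (p := 83477) (l := 6) rfl N83477 D216734
theorem N113481 : nd 113481 = n216735 := ndS (p := 83479) (l := 1) rfl N83479 D216735
theorem N113482 : nd 113482 = n216736 := ndS (p := 83479) (l := 7) rfl N83479 D216736
theorem N113483 : nd 113483 = n216737 := ndS (p := 83480) (l := 5) rfl N83480 D216737
theorem N113484 : nd 113484 = n216738 := ndS (p := 83480) (l := 6) rfl N83480 D216738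
theorem N113485 : nd 113485 = n216739 := ndS (p := 83481) (l := 5) rfl N83481 D216739
theorem N113486 : nd 113486 = n216740 := ndS (p := 83483) (l := 4) rfl N83483 D216740
theorem N113487 : nd 113487 = n216741 := ndS (p := 83483) (l := 6) rfl N83483 D216741
theorem N113488 : nd 113488 = n216742 := ndS (p := 83484) (l := 3) rfl N83484 D216742
theorem N113489 : nd 113489 = n216743 := ndS (p := 83488) (l := 3) rfl N83488 D216743
theorem N113490 : nd 113490 = n216744 := ndS (p := 83491) (l := 0) rfl N83491 D216744
theorem N113491 : nd 113491 = n216745 := ndS (p := 83491) (l := 1) rfl N83491 D216745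
theorem N113492 : nd 113492 = n216746 := ndS (p := 83491) (l := 7) rfl N83491 D216746
theorem N113493 : nd 113493 = n216747 := ndS (p := 83496) (l := 0) rfl N83496 D216747
theorem N113494 : nd 113494 = n216748 := ndS (p := 83496) (l := 1) rfl N83496 D216748
theorem N113495 : nd 113495 = n216749 := ndS (p := 83498) (l := 6) rfl N83498 D216749
theorem N113496 : nd 113496 = n216750 := ndS (p := 83500) (l := 4) rfl N83500 D216750
theorem N113497 : nd 113497 = n216751 := ndS (p := 83505) (l := 5) rfl N83505 D216751
theorem N113498 : nd 113498 = n216752 := ndS (p := 83507) (l := 1) rfl N83507 D216752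
theorem N113499 : nd 113499 = n216753 := ndS (p := 83510) (l := 6) rfl N83510 D216753
theorem N113500 : nd 113500 = n216754 := ndS (p := 83512) (l := 0) rfl N83512 D216754
theorem N113501 : nd 113501 = n216755 := ndS (p := 83512) (l := 6) rfl N83512 D216755
theorem N113502 : nd 113502 = n216756 := ndS (p := 83513) (l := 0) rfl N83513 D216756
theorem N113503 : nd 113503 = n216757 := ndS (p := 83513) (l := 1) rfl N83513 D216757
theorem N113504 : nd 113504 = n216758 := ndS (p := 83513) (l := 7) rfl N83513 D216758
theorem N113505 : nd 113505 = n216759 := ndS (p := 83514) (l := 3) rfl N83514 D216759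
theorem N113506 : nd 113506 = n216760 := ndS (p := 83514) (l := 6) rfl N83514 D216760
theorem N113507 : nd 113507 = n216761 := ndS (p := 83515) (l := 3) rfl N83515 D216761
theorem N113508 : nd 113508 = n216762 := ndS (p := 83515) (l := 6) rfl N83515 D216762
theorem N113509 : nd 113509 = n216763 := ndS (p := 83525) (l := 3) rfl N83525 D216763
theorem N113510 : nd 113510 = n216764 := ndS (p := 83526) (l := 3) rfl N83526 D216764
theorem N113511 : nd 113511 = n216766 := ndS (p := 83531) (l := 1) rfl N83531 D216766
theorem N113512 : nd 113512 = n216767 := ndS (p := 83531) (l := 7) rfl N83531 D216767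
theorem N113513 : nd 113513 = n216768 := ndS (p := 83532) (l := 4) rfl N83532 D216768
theorem N113514 : nd 113514 = n216769 := ndS (p := 83534) (l := 3) rfl N83534 D216769
theorem N113515 : nd 113515 = n216770 := ndS (p := 83534) (l := 6) rfl N83534 D216770
theorem N113516 : nd 113516 = n216771 := ndS (p := 83536) (l := 0) rfl N83536 D216771
theorem N113517 : nd 113517 = n216772 := ndS (p := 83536) (l := 7) rfl N83536 D216772
theorem N113518 : nd 113518 = n216773 := ndS (p := 83537) (l := 6) rfl N83537 D216773
theorem N113519 : nd 113519 = n216774 := ndS (p := 83538) (l := 1) rfl N83538 D216774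
theorem N113520 : nd 113520 = n216775 := ndS (p := 83538) (l := 7) rfl N83538 D216775
theorem N113521 : nd 113521 = n216776 := ndS (p := 83539) (l := 3) rfl N83539 D216776
theorem N113522 : nd 113522 = n216777 := ndS (p := 83539) (l := 6) rfl N83539 D216777
theorem N113523 : nd 113523 = n216778 := ndS (p := 83540) (l := 6) rfl N83540 D216778
theorem N113524 : nd 113524 = n216779 := ndS (p := 83541) (l := 1) rfl N83541 D216779
theorem N113525 : nd 113525 = n216780 := ndS (p := 83541) (l := 6) rfl N83541 D216780
theorem N113526 : nd 113526 = n216781 := ndS (p := 83542) (l := 0) rfl N83542 D216781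
theorem N113527 : nd 113527 = n216782 := ndS (p := 83542) (l := 1) rfl N83542 D216782
theorem N113528 : nd 113528 = n216783 := ndS (p := 83543) (l := 3) rfl N83543 D216783
theorem N113529 : nd 113529 = n216784 := ndS (p := 83543) (l := 4) rfl N83543 D216784
theorem N113530 : nd 113530 = n216785 := ndS (p := 83543) (l := 6) rfl N83543 D216785
theorem N113531 : nd 113531 = n216786 := ndS (p := 83544) (l := 4) rfl N83544 D216786
theorem N113532 : nd 113532 = n216787 := ndS (p := 83544) (l := 6) rfl N83544 D216787
theorem N113533 : nd 113533 = n216788 := ndS (p := 83545) (l := 4) rfl N83545 D216788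
theorem N113534 : nd 113534 = n216789 := ndS (p := 83547) (l := 4) rfl N83547 D216789
theorem N113535 : nd 113535 = n216790 := ndS (p := 83548) (l := 0) rfl N83548 D216790
theorem N113536 : nd 113536 = n216791 := ndS (p := 83548) (l := 1) rfl N83548 D216791
theorem N113537 : nd 113537 = n216792 := ndS (p := 83548) (l := 3) rfl N83548 D216792
theorem N113538 : nd 113538 = n216793 := ndS (p := 83548) (l := 5) rfl N83548 D216793
theorem N113539 : nd 113539 = n216794 := ndS (p := 83549) (l := 3) rfl N83549 D216794
theorem N113540 : nd 113540 = n216795 := ndS (p := 83549) (l := 5) rfl N83549 D216795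
theorem N113541 : nd 113541 = n216796 := ndS (p := 83550) (l := 5) rfl N83550 D216796
theorem N113542 : nd 113542 = n216797 := ndS (p := 83550) (l := 6) rfl N83550 D216797
theorem N113543 : nd 113543 = n216798 := ndS (p := 83553) (l := 4) rfl N83553 D216798
theorem N113544 : nd 113544 = n216799 := ndS (p := 83553) (l := 5) rfl N83553 D216799
theorem N113545 : nd 113545 = n216800 := ndS (p := 83555) (l := 1) rfl N83555 D216800
theorem N113546 : nd 113546 = n216801 := ndS (p := 83555) (l := 2) rfl N83555 D216801
theorem N113547 : nd 113547 = n216802 := ndS (p := 83555) (l := 4) rfl N83555 D216802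
theorem N113548 : nd 113548 = n216803 := ndS (p := 83555) (l := 6) rfl N83555 D216803
theorem N113549 : nd 113549 = n216804 := ndS (p := 83558) (l := 3) rfl N83558 D216804
theorem N113550 : nd 113550 = n216805 := ndS (p := 83558) (l := 5) rfl N83558 D216805
theorem N113551 : nd 113551 = n216806 := ndS (p := 83561) (l := 5) rfl N83561 D216806
theorem N113552 : nd 113552 = n216807 := ndS (p := 83563) (l := 4) rfl N83563 D216807
theorem N113553 : nd 113553 = n216808 := ndS (p := 83563) (l := 6) rfl N83563 D216808
theorem N113554 : nd 113554 = n216809 := ndS (p := 83564) (l := 4) rfl N83564 D216809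
theorem N113555 : nd 113555 = n216810 := ndS (p := 83564) (l := 6) rfl N83564 D216810
theorem N113556 : nd 113556 = n216811 := ndS (p := 83565) (l := 0) rfl N83565 D216811
theorem N113557 : nd 113557 = n216812 := ndS (p := 83575) (l := 5) rfl N83575 D216812
theorem N113558 : nd 113558 = n216813 := ndS (p := 83575) (l := 6) rfl N83575 D216813
theorem N113559 : nd 113559 = n216814 := ndS (p := 83576) (l := 1) rfl N83576 D216814
theorem N113560 : nd 113560 = n216815 := ndS (p := 83576) (l := 7) rfl N83576 D216815
theorem N113561 : nd 113561 = n216816 := ndS (p := 83577) (l := 3) rfl N83577 D216816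
theorem N113562 : nd 113562 = n216817 := ndS (p := 83578) (l := 6) rfl N83578 D216817
theorem N113563 : nd 113563 = n216818 := ndS (p := 83580) (l := 5) rfl N83580 D216818
theorem N113564 : nd 113564 = n216819 := ndS (p := 83582) (l := 4) rfl N83582 D216819
theorem N113565 : nd 113565 = n216820 := ndS (p := 83583) (l := 1) rfl N83583 D216820
theorem N113566 : nd 113566 = n216821 := ndS (p := 83583) (l := 5) rfl N83583 D216821
theorem N113567 : nd 113567 = n216822 := ndS (p := 83591) (l := 3) rfl N83591 D216822
theorem N113568 : nd 113568 = n216823 := ndS (p := 83599) (l := 5) rfl N83599 D216823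
theorem N113569 : nd 113569 = n216824 := ndS (p := 83609) (l := 0) rfl N83609 D216824
theorem N113570 : nd 113570 = n216825 := ndS (p := 83609) (l := 1) rfl N83609 D216825
theorem N113571 : nd 113571 = n216826 := ndS (p := 83609) (l := 4) rfl N83609 D216826
theorem N113572 : nd 113572 = n216827 := ndS (p := 83610) (l := 4) rfl N83610 D216827
theorem N113573 : nd 113573 = n216828 := ndS (p := 83617) (l := 4) rfl N83617 D216828
theorem N113574 : nd 113574 = n216829 := ndS (p := 83623) (l := 4) rfl N83623 D216829
theorem N113575 : nd 113575 = n216830 := ndS (p := 83629) (l := 0) rfl N83629 D216830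
theorem N113576 : nd 113576 = n216831 := ndS (p := 83643) (l := 4) rfl N83643 D216831
theorem N113577 : nd 113577 = n216832 := ndS (p := 83645) (l := 4) rfl N83645 D216832
theorem N113578 : nd 113578 = n216833 := ndS (p := 83650) (l := 5) rfl N83650 D216833
theorem N113579 : nd 113579 = n216834 := ndS (p := 83651) (l := 1) rfl N83651 D216834
theorem N113580 : nd 113580 = n216835 := ndS (p := 83656) (l := 6) rfl N83656 D216835
theorem N113581 : nd 113581 = n216836 := ndS (p := 83657) (l := 4) rfl N83657 D216836
theorem N113582 : nd 113582 = n216837 := ndS (p := 83660) (l := 5) rfl N83660 D216837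
theorem N113583 : nd 113583 = n216838 := ndS (p := 83662) (l := 1) rfl N83662 D216838
theorem N113584 : nd 113584 = n216839 := ndS (p := 83662) (l := 5) rfl N83662 D216839
theorem N113585 : nd 113585 = n216840 := ndS (p := 83667) (l := 4) rfl N83667 D216840
theorem N113586 : nd 113586 = n216841 := ndS (p := 83675) (l := 4) rfl N83675 D216841
theorem N113587 : nd 113587 = n216842 := ndS (p := 83675) (l := 6) rfl N83675 D216842
theorem N113588 : nd 113588 = n216843 := ndS (p := 83676) (l := 5) rfl N83676 D216843
theorem N113589 : nd 113589 = n216844 := ndS (p := 83677) (l := 3) rfl N83677 D216844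
theorem N113590 : nd 113590 = n216845 := ndS (p := 83677) (l := 4) rfl N83677 D216845
theorem N113591 : nd 113591 = n216846 := ndS (p := 83677) (l := 6) rfl N83677 D216846
theorem N113592 : nd 113592 = n216847 := ndS (p := 83678) (l := 4) rfl N83678 D216847
theorem N113593 : nd 113593 = n216848 := ndS (p := 83682) (l := 4) rfl N83682 D216848
theorem N113594 : nd 113594 = n216849 := ndS (p := 83682) (l := 6) rfl N83682 D216849
theorem N113595 : nd 113595 = n216850 := ndS (p := 83683) (l := 0) rfl N83683 D216850
theorem N113596 : nd 113596 = n216851 := ndS (p := 83683) (l := 7) rfl N83683 D216851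
theorem N113597 : nd 113597 = n216852 := ndS (p := 83684) (l := 5) rfl N83684 D216852
theorem N113598 : nd 113598 = n216853 := ndS (p := 83685) (l := 6) rfl N83685 D216853
theorem N113599 : nd 113599 = n216854 := ndS (p := 83688) (l := 3) rfl N83688 D216854
theorem N113600 : nd 113600 = n216855 := ndS (p := 83688) (l := 6) rfl N83688 D216855
theorem N113601 : nd 113601 = n216856 := ndS (p := 83689) (l := 1) rfl N83689 D216856
theorem N113602 : nd 113602 = n216857 := ndS (p := 83690) (l := 6) rfl N83690 D216857
theorem N113603 : nd 113603 = n216858 := ndS (p := 83691) (l := 0) rfl N83691 D216858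
theorem N113604 : nd 113604 = n216859 := ndS (p := 83691) (l := 1) rfl N83691 D216859
theorem N113605 : nd 113605 = n216860 := ndS (p := 83692) (l := 3) rfl N83692 D216860
theorem N113606 : nd 113606 = n216861 := ndS (p := 83693) (l := 6) rfl N83693 D216861
theorem N113607 : nd 113607 = n216862 := ndS (p := 83694) (l := 6) rfl N83694 D216862
theorem N113608 : nd 113608 = n216863 := ndS (p := 83695) (l := 0) rfl N83695 D216863
theorem N113609 : nd 113609 = n216864 := ndS (p := 83695) (l := 7) rfl N83695 D216864
theorem N113610 : nd 113610 = n216865 := ndS (p := 83697) (l := 0) rfl N83697 D216865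
theorem N113611 : nd 113611 = n216866 := ndS (p := 83697) (l := 1) rfl N83697 D216866
theorem N113612 : nd 113612 = n216867 := ndS (p := 83698) (l := 4) rfl N83698 D216867
theorem N113613 : nd 113613 = n216868 := ndS (p := 83698) (l := 6) rfl N83698 D216868
theorem N113614 : nd 113614 = n216869 := ndS (p := 83699) (l := 3) rfl N83699 D216869
theorem N113615 : nd 113615 = n216870 := ndS (p := 83701) (l := 6) rfl N83701 D216870
theorem N113616 : nd 113616 = n216871 := ndS (p := 83702) (l := 0) rfl N83702 D216871
theorem N113617 : nd 113617 = n216872 := ndS (p := 83702) (l := 7) rfl N83702 D216872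
theorem N113618 : nd 113618 = n216873 := ndS (p := 83707) (l := 6) rfl N83707 D216873
theorem N113619 : nd 113619 = n216874 := ndS (p := 83708) (l := 5) rfl N83708 D216874
theorem N113620 : nd 113620 = n216875 := ndS (p := 83708) (l := 6) rfl N83708 D216875
theorem N113621 : nd 113621 = n216876 := ndS (p := 83709) (l := 0) rfl N83709 D216876
theorem N113622 : nd 113622 = n216877 := ndS (p := 83709) (l := 7) rfl N83709 D216877
theorem N113623 : nd 113623 = n216878 := ndS (p := 83710) (l := 5) rfl N83710 D216878
theorem N113624 : nd 113624 = n216879 := ndS (p := 83718) (l := 1) rfl N83718 D216879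
theorem N113625 : nd 113625 = n216880 := ndS (p := 83720) (l := 4) rfl N83720 D216880
theorem N113626 : nd 113626 = n216881 := ndS (p := 83728) (l := 5) rfl N83728 D216881
theorem N113627 : nd 113627 = n216882 := ndS (p := 83730) (l := 5) rfl N83730 D216882
theorem N113628 : nd 113628 = n216883 := ndS (p := 83731) (l := 6) rfl N83731 D216883
theorem N113629 : nd 113629 = n216884 := ndS (p := 83736) (l := 4) rfl N83736 D216884
theorem N113630 : nd 113630 = n216885 := ndS (p := 83739) (l := 3) rfl N83739 D216885
theorem N113631 : nd 113631 = n216886 := ndS (p := 83739) (l := 6) rfl N83739 D216886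
theorem N113632 : nd 113632 = n216887 := ndS (p := 83740) (l := 7) rfl N83740 D216887
theorem N113633 : nd 113633 = n216888 := ndS (p := 83742) (l := 7) rfl N83742 D216888
theorem N113634 : nd 113634 = n216889 := ndS (p := 83743) (l := 4) rfl N83743 D216889
theorem N113635 : nd 113635 = n216890 := ndS (p := 83744) (l := 4) rfl N83744 D216890
theorem N113636 : nd 113636 = n216891 := ndS (p := 83749) (l := 5) rfl N83749 D216891
theorem N113637 : nd 113637 = n216892 := ndS (p := 83750) (l := 0) rfl N83750 D216892
theorem N113638 : nd 113638 = n216893 := ndS (p := 83750) (l := 1) rfl N83750 D216893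
theorem N113639 : nd 113639 = n216894 := ndS (p := 83751) (l := 6) rfl N83751 D216894
theorem N113640 : nd 113640 = n216895 := ndS (p := 83752) (l := 0) rfl N83752 D216895
theorem N113641 : nd 113641 = n216896 := ndS (p := 83752) (l := 6) rfl N83752 D216896
theorem N113642 : nd 113642 = n216897 := ndS (p := 83760) (l := 4) rfl N83760 D216897
theorem N113643 : nd 113643 = n216898 := ndS (p := 83761) (l := 4) rfl N83761 D216898
theorem N113644 : nd 113644 = n216899 := ndS (p := 83762) (l := 4) rfl N83762 D216899
theorem N113645 : nd 113645 = n216900 := ndS (p := 83762) (l := 6) rfl N83762 D216900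
theorem N113646 : nd 113646 = n216901 := ndS (p := 83763) (l := 3) rfl N83763 D216901
theorem N113647 : nd 113647 = n216902 := ndS (p := 83764) (l := 4) rfl N83764 D216902
theorem N113648 : nd 113648 = n216903 := ndS (p := 83764) (l := 6) rfl N83764 D216903
theorem N113649 : nd 113649 = n216904 := ndS (p := 83765) (l := 0) rfl N83765 D216904
theorem N113650 : nd 113650 = n216905 := ndS (p := 83765) (l := 5) rfl N83765 D216905
theorem N113651 : nd 113651 = n216906 := ndS (p := 83765) (l := 6) rfl N83765 D216906
theorem N113652 : nd 113652 = n216907 := ndS (p := 83766) (l := 0) rfl N83766 D216907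
theorem N113653 : nd 113653 = n216908 := ndS (p := 83766) (l := 1) rfl N83766 D216908
theorem N113654 : nd 113654 = n216909 := ndS (p := 83766) (l := 7) rfl N83766 D216909
theorem N113655 : nd 113655 = n216910 := ndS (p := 83770) (l := 5) rfl N83770 D216910
theorem N113656 : nd 113656 = n216911 := ndS (p := 83774) (l := 0) rfl N83774 D216911
theorem N113657 : nd 113657 = n216912 := ndS (p := 83774) (l := 1) rfl N83774 D216912
theorem N113658 : nd 113658 = n216913 := ndS (p := 83774) (l := 7) rfl N83774 D216913
theorem N113659 : nd 113659 = n216914 := ndS (p := 83775) (l := 6) rfl N83775 D216914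
theorem N113660 : nd 113660 = n216915 := ndS (p := 83781) (l := 0) rfl N83781 D216915
theorem N113661 : nd 113661 = n216916 := ndS (p := 83781) (l := 1) rfl N83781 D216916
theorem N113662 : nd 113662 = n216917 := ndS (p := 83781) (l := 7) rfl N83781 D216917
theorem N113663 : nd 113663 = n216918 := ndS (p := 83782) (l := 5) rfl N83782 D216918
theorem N113664 : nd 113664 = n216919 := ndS (p := 83783) (l := 3) rfl N83783 D216919
theorem N113665 : nd 113665 = n216920 := ndS (p := 83783) (l := 5) rfl N83783 D216920
theorem N113666 : nd 113666 = n216921 := ndS (p := 83787) (l := 0) rfl N83787 D216921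
theorem N113667 : nd 113667 = n216922 := ndS (p := 83787) (l := 1) rfl N83787 D216922
theorem N113668 : nd 113668 = n216923 := ndS (p := 83787) (l := 3) rfl N83787 D216923
theorem N113669 : nd 113669 = n216924 := ndS (p := 83787) (l := 5) rfl N83787 D216924
theorem N113670 : nd 113670 = n216925 := ndS (p := 83789) (l := 3) rfl N83789 D216925
theorem N113671 : nd 113671 = n216926 := ndS (p := 83789) (l := 5) rfl N83789 D216926
theorem N113672 : nd 113672 = n216927 := ndS (p := 83790) (l := 5) rfl N83790 D216927
theorem N113673 : nd 113673 = n216928 := ndS (p := 83791) (l := 0) rfl N83791 D216928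
theorem N113674 : nd 113674 = n216929 := ndS (p := 83791) (l := 7) rfl N83791 D216929
theorem N113675 : nd 113675 = n216930 := ndS (p := 83792) (l := 6) rfl N83792 D216930
theorem N113676 : nd 113676 = n216931 := ndS (p := 83793) (l := 5) rfl N83793 D216931
theorem N113677 : nd 113677 = n216932 := ndS (p := 83795) (l := 3) rfl N83795 D216932
theorem N113678 : nd 113678 = n216933 := ndS (p := 83795) (l := 4) rfl N83795 D216933
theorem N113679 : nd 113679 = n216934 := ndS (p := 83795) (l := 5) rfl N83795 D216934
theorem N113680 : nd 113680 = n216935 := ndS (p := 83796) (l := 5) rfl N83796 D216935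
theorem N113681 : nd 113681 = n216936 := ndS (p := 83797) (l := 1) rfl N83797 D216936
theorem N113682 : nd 113682 = n216937 := ndS (p := 83797) (l := 4) rfl N83797 D216937
theorem N113683 : nd 113683 = n216938 := ndS (p := 83797) (l := 6) rfl N83797 D216938
theorem N113684 : nd 113684 = n216939 := ndS (p := 83805) (l := 6) rfl N83805 D216939
theorem N113685 : nd 113685 = n216940 := ndS (p := 83809) (l := 5) rfl N83809 D216940
theorem N113686 : nd 113686 = n216941 := ndS (p := 83813) (l := 6) rfl N83813 D216941
theorem N113687 : nd 113687 = n216942 := ndS (p := 83814) (l := 7) rfl N83814 D216942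
theorem N113688 : nd 113688 = n216943 := ndS (p := 83815) (l := 3) rfl N83815 D216943
theorem N113689 : nd 113689 = n216944 := ndS (p := 83816) (l := 6) rfl N83816 D216944
theorem N113690 : nd 113690 = n216945 := ndS (p := 83817) (l := 1) rfl N83817 D216945
theorem N113691 : nd 113691 = n216946 := ndS (p := 83817) (l := 7) rfl N83817 D216946
theorem N113692 : nd 113692 = n216947 := ndS (p := 83819) (l := 1) rfl N83819 D216947
theorem N113693 : nd 113693 = n216948 := ndS (p := 83819) (l := 4) rfl N83819 D216948
theorem N113694 : nd 113694 = n216949 := ndS (p := 83819) (l := 6) rfl N83819 D216949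
theorem N113695 : nd 113695 = n216950 := ndS (p := 83820) (l := 2) rfl N83820 D216950
theorem N113696 : nd 113696 = n216951 := ndS (p := 83820) (l := 4) rfl N83820 D216951
theorem N113697 : nd 113697 = n216952 := ndS (p := 83821) (l := 4) rfl N83821 D216952
theorem N113698 : nd 113698 = n216953 := ndS (p := 83822) (l := 0) rfl N83822 D216953
theorem N113699 : nd 113699 = n216954 := ndS (p := 83822) (l := 5) rfl N83822 D216954
theorem N113700 : nd 113700 = n216955 := ndS (p := 83822) (l := 7) rfl N83822 D216955
theorem N113701 : nd 113701 = n216956 := ndS (p := 83824) (l := 1) rfl N83824 D216956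
theorem N113702 : nd 113702 = n216957 := ndS (p := 83826) (l := 0) rfl N83826 D216957
theorem N113703 : nd 113703 = n216958 := ndS (p := 83827) (l := 6) rfl N83827 D216958
theorem N113704 : nd 113704 = n216959 := ndS (p := 83834) (l := 6) rfl N83834 D216959
theorem N113705 : nd 113705 = n216960 := ndS (p := 83835) (l := 7) rfl N83835 D216960
theorem N113706 : nd 113706 = n216961 := ndS (p := 83847) (l := 4) rfl N83847 D216961
theorem N113707 : nd 113707 = n216962 := ndS (p := 83849) (l := 6) rfl N83849 D216962
theorem N113708 : nd 113708 = n216963 := ndS (p := 83855) (l := 5) rfl N83855 D216963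
theorem N113709 : nd 113709 = n216964 := ndS (p := 83857) (l := 6) rfl N83857 D216964
theorem N113710 : nd 113710 = n216965 := ndS (p := 83859) (l := 5) rfl N83859 D216965
theorem N113711 : nd 113711 = n216966 := ndS (p := 83860) (l := 4) rfl N83860 D216966
theorem N113712 : nd 113712 = n216967 := ndS (p := 83863) (l := 0) rfl N83863 D216967
theorem N113713 : nd 113713 = n216968 := ndS (p := 83871) (l := 5) rfl N83871 D216968
theorem N113714 : nd 113714 = n216969 := ndS (p := 83872) (l := 5) rfl N83872 D216969
theorem N113715 : nd 113715 = n216970 := ndS (p := 83873) (l := 5) rfl N83873 D216970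
theorem N113716 : nd 113716 = n216971 := ndS (p := 83878) (l := 5) rfl N83878 D216971
theorem N113717 : nd 113717 = n216972 := ndS (p := 83878) (l := 7) rfl N83878 D216972
theorem N113718 : nd 113718 = n216973 := ndS (p := 83879) (l := 5) rfl N83879 D216973
theorem N113719 : nd 113719 = n216974 := ndS (p := 83880) (l := 3) rfl N83880 D216974
theorem N113720 : nd 113720 = n216975 := ndS (p := 83880) (l := 6) rfl N83880 D216975
theorem N113721 : nd 113721 = n216976 := ndS (p := 83881) (l := 1) rfl N83881 D216976
theorem N113722 : nd 113722 = n216977 := ndS (p := 83886) (l := 7) rfl N83886 D216977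
theorem N113723 : nd 113723 = n216978 := ndS (p := 83887) (l := 2) rfl N83887 D216978
theorem N113724 : nd 113724 = n216979 := ndS (p := 83891) (l := 7) rfl N83891 D216979
theorem N113725 : nd 113725 = n216980 := ndS (p := 83894) (l := 5) rfl N83894 D216980
theorem N113726 : nd 113726 = n216981 := ndS (p := 83895) (l := 5) rfl N83895 D216981
theorem N113727 : nd 113727 = n216982 := ndS (p := 83896) (l := 0) rfl N83896 D216982
theorem N113728 : nd 113728 = n216983 := ndS (p := 83896) (l := 7) rfl N83896 D216983
theorem N113729 : nd 113729 = n216984 := ndS (p := 83898) (l := 4) rfl N83898 D216984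
theorem N113730 : nd 113730 = n216985 := ndS (p := 83898) (l := 6) rfl N83898 D216985
theorem N113731 : nd 113731 = n216986 := ndS (p := 83902) (l := 3) rfl N83902 D216986
theorem N113732 : nd 113732 = n216987 := ndS (p := 83902) (l := 4) rfl N83902 D216987
theorem N113733 : nd 113733 = n216988 := ndS (p := 83902) (l := 6) rfl N83902 D216988
theorem N113734 : nd 113734 = n216989 := ndS (p := 83903) (l := 4) rfl N83903 D216989
theorem N113735 : nd 113735 = n216990 := ndS (p := 83904) (l := 3) rfl N83904 D216990
theorem N113736 : nd 113736 = n216991 := ndS (p := 83904) (l := 5) rfl N83904 D216991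
theorem N113737 : nd 113737 = n216992 := ndS (p := 83905) (l := 6) rfl N83905 D216992
theorem N113738 : nd 113738 = n216993 := ndS (p := 83906) (l := 0) rfl N83906 D216993
theorem N113739 : nd 113739 = n216994 := ndS (p := 83906) (l := 1) rfl N83906 D216994
theorem N113740 : nd 113740 = n216995 := ndS (p := 83906) (l := 2) rfl N83906 D216995
theorem N113741 : nd 113741 = n216996 := ndS (p := 83906) (l := 7) rfl N83906 D216996
theorem N113742 : nd 113742 = n216997 := ndS (p := 83908) (l := 0) rfl N83908 D216997
theorem N113743 : nd 113743 = n216998 := ndS (p := 83910) (l := 0) rfl N83910 D216998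
theorem N113744 : nd 113744 = n216999 := ndS (p := 83914) (l := 5) rfl N83914 D216999
theorem N113745 : nd 113745 = n217000 := ndS (p := 83915) (l := 5) rfl N83915 D217000
theorem N113746 : nd 113746 = n217001 := ndS (p := 83916) (l := 7) rfl N83916 D217001
theorem N113747 : nd 113747 = n217002 := ndS (p := 83918) (l := 6) rfl N83918 D217002
theorem N113748 : nd 113748 = n217003 := ndS (p := 83920) (l := 4) rfl N83920 D217003
theorem N113749 : nd 113749 = n217004 := ndS (p := 83924) (l := 5) rfl N83924 D217004
theorem N113750 : nd 113750 = n217005 := ndS (p := 83926) (l := 0) rfl N83926 D217005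
theorem N113751 : nd 113751 = n217006 := ndS (p := 83926) (l := 1) rfl N83926 D217006
theorem N113752 : nd 113752 = n217007 := ndS (p := 83926) (l := 7) rfl N83926 D217007
theorem N113753 : nd 113753 = n217008 := ndS (p := 83927) (l := 6) rfl N83927 D217008
theorem N113754 : nd 113754 = n217009 := ndS (p := 83928) (l := 7) rfl N83928 D217009
theorem N113755 : nd 113755 = n217010 := ndS (p := 83929) (l := 4) rfl N83929 D217010
theorem N113756 : nd 113756 = n217011 := ndS (p := 83930) (l := 0) rfl N83930 D217011
theorem N113757 : nd 113757 = n217012 := ndS (p := 83930) (l := 1) rfl N83930 D217012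
theorem N113758 : nd 113758 = n217013 := ndS (p := 83930) (l := 5) rfl N83930 D217013
theorem N113759 : nd 113759 = n217014 := ndS (p := 83930) (l := 6) rfl N83930 D217014
theorem N113760 : nd 113760 = n217015 := ndS (p := 83931) (l := 7) rfl N83931 D217015
theorem N113761 : nd 113761 = n217016 := ndS (p := 83936) (l := 4) rfl N83936 D217016
theorem N113762 : nd 113762 = n217017 := ndS (p := 83937) (l := 5) rfl N83937 D217017
theorem N113763 : nd 113763 = n217018 := ndS (p := 83937) (l := 6) rfl N83937 D217018
theorem N113764 : nd 113764 = n217019 := ndS (p := 83940) (l := 4) rfl N83940 D217019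
theorem N113765 : nd 113765 = n217020 := ndS (p := 83941) (l := 1) rfl N83941 D217020
theorem N113766 : nd 113766 = n217021 := ndS (p := 83941) (l := 5) rfl N83941 D217021
theorem N113767 : nd 113767 = n217022 := ndS (p := 83944) (l := 5) rfl N83944 D217022
theorem N113768 : nd 113768 = n217023 := ndS (p := 83951) (l := 6) rfl N83951 D217023
theorem N113769 : nd 113769 = n217024 := ndS (p := 83953) (l := 3) rfl N83953 D217024
theorem N113770 : nd 113770 = n217025 := ndS (p := 83953) (l := 5) rfl N83953 D217025
theorem N113771 : nd 113771 = n217026 := ndS (p := 83954) (l := 0) rfl N83954 D217026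
theorem N113772 : nd 113772 = n217027 := ndS (p := 83954) (l := 1) rfl N83954 D217027
theorem N113773 : nd 113773 = n217028 := ndS (p := 83954) (l := 2) rfl N83954 D217028
theorem N113774 : nd 113774 = n217029 := ndS (p := 83957) (l := 4) rfl N83957 D217029
theorem N113775 : nd 113775 = n217030 := ndS (p := 83957) (l := 6) rfl N83957 D217030
theorem N113776 : nd 113776 = n217031 := ndS (p := 83959) (l := 4) rfl N83959 D217031
theorem N113777 : nd 113777 = n217032 := ndS (p := 83960) (l := 0) rfl N83960 D217032
theorem N113778 : nd 113778 = n217033 := ndS (p := 83960) (l := 3) rfl N83960 D217033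
theorem N113779 : nd 113779 = n217034 := ndS (p := 83963) (l := 5) rfl N83963 D217034
theorem N113780 : nd 113780 = n217035 := ndS (p := 83966) (l := 5) rfl N83966 D217035
theorem N113781 : nd 113781 = n217036 := ndS (p := 83966) (l := 6) rfl N83966 D217036
theorem N113782 : nd 113782 = n217037 := ndS (p := 83967) (l := 1) rfl N83967 D217037
theorem N113783 : nd 113783 = n217038 := ndS (p := 83969) (l := 7) rfl N83969 D217038
theorem N113784 : nd 113784 = n217039 := ndS (p := 83976) (l := 4) rfl N83976 D217039
theorem N113785 : nd 113785 = n217040 := ndS (p := 83976) (l := 6) rfl N83976 D217040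
theorem N113786 : nd 113786 = n217041 := ndS (p := 83980) (l := 3) rfl N83980 D217041
theorem N113787 : nd 113787 = n217042 := ndS (p := 83983) (l := 6) rfl N83983 D217042
theorem N113788 : nd 113788 = n217043 := ndS (p := 83987) (l := 3) rfl N83987 D217043
theorem N113789 : nd 113789 = n217044 := ndS (p := 83987) (l := 6) rfl N83987 D217044
theorem N113790 : nd 113790 = n217045 := ndS (p := 83988) (l := 0) rfl N83988 D217045
theorem N113791 : nd 113791 = n217046 := ndS (p := 83988) (l := 7) rfl N83988 D217046
theorem N113792 : nd 113792 = n217047 := ndS (p := 83989) (l := 2) rfl N83989 D217047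
theorem N113793 : nd 113793 = n217048 := ndS (p := 83995) (l := 4) rfl N83995 D217048
theorem N113794 : nd 113794 = n217049 := ndS (p := 83995) (l := 6) rfl N83995 D217049
theorem N113795 : nd 113795 = n217050 := ndS (p := 83997) (l := 4) rfl N83997 D217050
theorem N113796 : nd 113796 = n217051 := ndS (p := 83999) (l := 3) rfl N83999 D217051
theorem N113797 : nd 113797 = n217052 := ndS (p := 83999) (l := 6) rfl N83999 D217052
theorem N113798 : nd 113798 = n217053 := ndS (p := 84000) (l := 0) rfl N84000 D217053
theorem N113799 : nd 113799 = n217054 := ndS (p := 84000) (l := 1) rfl N84000 D217054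
theorem N113800 : nd 113800 = n217055 := ndS (p := 84000) (l := 7) rfl N84000 D217055
theorem N113801 : nd 113801 = n217056 := ndS (p := 84003) (l := 0) rfl N84003 D217056
theorem N113802 : nd 113802 = n217057 := ndS (p := 84003) (l := 1) rfl N84003 D217057
theorem N113803 : nd 113803 = n217058 := ndS (p := 84003) (l := 2) rfl N84003 D217058
theorem N113804 : nd 113804 = n217059 := ndS (p := 84004) (l := 7) rfl N84004 D217059
theorem N113805 : nd 113805 = n217060 := ndS (p := 84005) (l := 6) rfl N84005 D217060
theorem N113806 : nd 113806 = n217061 := ndS (p := 84008) (l := 1) rfl N84008 D217061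
theorem N113807 : nd 113807 = n217062 := ndS (p := 84008) (l := 3) rfl N84008 D217062
theorem N113808 : nd 113808 = n217063 := ndS (p := 84008) (l := 6) rfl N84008 D217063
theorem N113809 : nd 113809 = n217064 := ndS (p := 84009) (l := 0) rfl N84009 D217064
theorem N113810 : nd 113810 = n217065 := ndS (p := 84009) (l := 7) rfl N84009 D217065
theorem N113811 : nd 113811 = n217066 := ndS (p := 84011) (l := 1) rfl N84011 D217066
theorem N113812 : nd 113812 = n217067 := ndS (p := 84011) (l := 7) rfl N84011 D217067
theorem N113813 : nd 113813 = n217068 := ndS (p := 84012) (l := 5) rfl N84012 D217068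
theorem N113814 : nd 113814 = n217069 := ndS (p := 84013) (l := 5) rfl N84013 D217069
theorem N113815 : nd 113815 = n217070 := ndS (p := 84014) (l := 1) rfl N84014 D217070
theorem N113816 : nd 113816 = n217071 := ndS (p := 84014) (l := 4) rfl N84014 D217071
theorem N113817 : nd 113817 = n217072 := ndS (p := 84014) (l := 7) rfl N84014 D217072
theorem N113818 : nd 113818 = n217073 := ndS (p := 84016) (l := 6) rfl N84016 D217073
theorem N113819 : nd 113819 = n217074 := ndS (p := 84017) (l := 3) rfl N84017 D217074
theorem N113820 : nd 113820 = n217075 := ndS (p := 84017) (l := 6) rfl N84017 D217075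
theorem N113821 : nd 113821 = n217076 := ndS (p := 84018) (l := 1) rfl N84018 D217076
theorem N113822 : nd 113822 = n217077 := ndS (p := 84019) (l := 0) rfl N84019 D217077
theorem N113823 : nd 113823 = n217078 := ndS (p := 84027) (l := 5) rfl N84027 D217078
theorem N113824 : nd 113824 = n217079 := ndS (p := 84032) (l := 4) rfl N84032 D217079
theorem N113825 : nd 113825 = n217080 := ndS (p := 84032) (l := 7) rfl N84032 D217080
theorem N113826 : nd 113826 = n217081 := ndS (p := 84035) (l := 6) rfl N84035 D217081
theorem N113827 : nd 113827 = n217082 := ndS (p := 84036) (l := 0) rfl N84036 D217082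
theorem N113828 : nd 113828 = n217083 := ndS (p := 84036) (l := 1) rfl N84036 D217083
theorem N113829 : nd 113829 = n217084 := ndS (p := 84036) (l := 5) rfl N84036 D217084
theorem N113830 : nd 113830 = n217085 := ndS (p := 84039) (l := 5) rfl N84039 D217085
theorem N113831 : nd 113831 = n217086 := ndS (p := 84039) (l := 7) rfl N84039 D217086
theorem N113832 : nd 113832 = n217087 := ndS (p := 84040) (l := 5) rfl N84040 D217087
theorem N113833 : nd 113833 = n217088 := ndS (p := 84041) (l := 0) rfl N84041 D217088
theorem N113834 : nd 113834 = n217089 := ndS (p := 84041) (l := 4) rfl N84041 D217089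
theorem N113835 : nd 113835 = n217090 := ndS (p := 84042) (l := 4) rfl N84042 D217090
theorem N113836 : nd 113836 = n217091 := ndS (p := 84045) (l := 1) rfl N84045 D217091
theorem N113837 : nd 113837 = n217092 := ndS (p := 84049) (l := 6) rfl N84049 D217092
theorem N113838 : nd 113838 = n217093 := ndS (p := 84052) (l := 6) rfl N84052 D217093
theorem N113839 : nd 113839 = n217094 := ndS (p := 84053) (l := 7) rfl N84053 D217094
theorem N113840 : nd 113840 = n217095 := ndS (p := 84056) (l := 0) rfl N84056 D217095
theorem N113841 : nd 113841 = n217096 := ndS (p := 84056) (l := 1) rfl N84056 D217096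
theorem N113842 : nd 113842 = n217097 := ndS (p := 84056) (l := 6) rfl N84056 D217097
theorem N113843 : nd 113843 = n217098 := ndS (p := 84058) (l := 0) rfl N84058 D217098
theorem N113844 : nd 113844 = n217099 := ndS (p := 84059) (l := 6) rfl N84059 D217099
theorem N113845 : nd 113845 = n217100 := ndS (p := 84060) (l := 1) rfl N84060 D217100
theorem N113846 : nd 113846 = n217101 := ndS (p := 84060) (l := 7) rfl N84060 D217101
theorem N113847 : nd 113847 = n217102 := ndS (p := 84062) (l := 1) rfl N84062 D217102
theorem N113848 : nd 113848 = n217103 := ndS (p := 84063) (l := 0) rfl N84063 D217103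
theorem N113849 : nd 113849 = n217104 := ndS (p := 84064) (l := 4) rfl N84064 D217104
theorem N113850 : nd 113850 = n217105 := ndS (p := 84064) (l := 6) rfl N84064 D217105
theorem N113851 : nd 113851 = n217106 := ndS (p := 84065) (l := 6) rfl N84065 D217106
theorem N113852 : nd 113852 = n217107 := ndS (p := 84066) (l := 5) rfl N84066 D217107
theorem N113853 : nd 113853 = n217108 := ndS (p := 84066) (l := 7) rfl N84066 D217108
theorem N113854 : nd 113854 = n217109 := ndS (p := 84067) (l := 5) rfl N84067 D217109
theorem N113855 : nd 113855 = n217110 := ndS (p := 84070) (l := 6) rfl N84070 D217110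
theorem N113856 : nd 113856 = n217111 := ndS (p := 84072) (l := 3) rfl N84072 D217111
theorem N113857 : nd 113857 = n217112 := ndS (p := 84073) (l := 4) rfl N84073 D217112
theorem N113858 : nd 113858 = n217113 := ndS (p := 84074) (l := 1) rfl N84074 D217113
theorem N113859 : nd 113859 = n217114 := ndS (p := 84075) (l := 7) rfl N84075 D217114
theorem N113860 : nd 113860 = n217115 := ndS (p := 84076) (l := 6) rfl N84076 D217115
theorem N113861 : nd 113861 = n217116 := ndS (p := 84078) (l := 6) rfl N84078 D217116
theorem N113862 : nd 113862 = n217117 := ndS (p := 84080) (l := 6) rfl N84080 D217117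
theorem N113863 : nd 113863 = n217118 := ndS (p := 84082) (l := 6) rfl N84082 D217118
theorem N113864 : nd 113864 = n217119 := ndS (p := 84083) (l := 1) rfl N84083 D217119
theorem N113865 : nd 113865 = n217120 := ndS (p := 84091) (l := 0) rfl N84091 D217120
theorem N113866 : nd 113866 = n217121 := ndS (p := 84096) (l := 0) rfl N84096 D217121
theorem N113867 : nd 113867 = n217122 := ndS (p := 84103) (l := 5) rfl N84103 D217122
theorem N113868 : nd 113868 = n217123 := ndS (p := 84104) (l := 4) rfl N84104 D217123
theorem N113869 : nd 113869 = n217124 := ndS (p := 84104) (l := 6) rfl N84104 D217124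
theorem N113870 : nd 113870 = n217125 := ndS (p := 84106) (l := 5) rfl N84106 D217125
theorem N113871 : nd 113871 = n217126 := ndS (p := 84106) (l := 6) rfl N84106 D217126
theorem N113872 : nd 113872 = n217127 := ndS (p := 84107) (l := 4) rfl N84107 D217127
theorem N113873 : nd 113873 = n217128 := ndS (p := 84107) (l := 6) rfl N84107 D217128
theorem N113874 : nd 113874 = n217129 := ndS (p := 84109) (l := 4) rfl N84109 D217129
theorem N113875 : nd 113875 = n217130 := ndS (p := 84109) (l := 6) rfl N84109 D217130
theorem N113876 : nd 113876 = n217131 := ndS (p := 84111) (l := 3) rfl N84111 D217131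
theorem N113877 : nd 113877 = n217132 := ndS (p := 84111) (l := 5) rfl N84111 D217132
theorem N113878 : nd 113878 = n217133 := ndS (p := 84112) (l := 0) rfl N84112 D217133
theorem N113879 : nd 113879 = n217134 := ndS (p := 84112) (l := 1) rfl N84112 D217134
theorem N113880 : nd 113880 = n217135 := ndS (p := 84118) (l := 6) rfl N84118 D217135
theorem N113881 : nd 113881 = n217136 := ndS (p := 84120) (l := 6) rfl N84120 D217136
theorem N113882 : nd 113882 = n217137 := ndS (p := 84122) (l := 1) rfl N84122 D217137
theorem N113883 : nd 113883 = n217138 := ndS (p := 84142) (l := 6) rfl N84142 D217138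
theorem N113884 : nd 113884 = n217139 := ndS (p := 84149) (l := 1) rfl N84149 D217139
theorem N113885 : nd 113885 = n217140 := ndS (p := 84152) (l := 6) rfl N84152 D217140
theorem N113886 : nd 113886 = n217141 := ndS (p := 84156) (l := 5) rfl N84156 D217141
theorem N113887 : nd 113887 = n217142 := ndS (p := 84156) (l := 7) rfl N84156 D217142
theorem N113888 : nd 113888 = n217143 := ndS (p := 84158) (l := 4) rfl N84158 D217143
theorem N113889 : nd 113889 = n217144 := ndS (p := 84160) (l := 6) rfl N84160 D217144
theorem N113890 : nd 113890 = n217145 := ndS (p := 84162) (l := 1) rfl N84162 D217145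
theorem N113891 : nd 113891 = n217146 := ndS (p := 84162) (l := 6) rfl N84162 D217146
theorem N113892 : nd 113892 = n217147 := ndS (p := 84163) (l := 0) rfl N84163 D217147
theorem N113893 : nd 113893 = n217148 := ndS (p := 84163) (l := 7) rfl N84163 D217148
theorem N113894 : nd 113894 = n217149 := ndS (p := 84164) (l := 6) rfl N84164 D217149
theorem N113895 : nd 113895 = n217150 := ndS (p := 84166) (l := 4) rfl N84166 D217150
theorem N113896 : nd 113896 = n217151 := ndS (p := 84166) (l := 6) rfl N84166 D217151
theorem N113897 : nd 113897 = n217152 := ndS (p := 84168) (l := 0) rfl N84168 D217152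
theorem N113898 : nd 113898 = n217153 := ndS (p := 84175) (l := 4) rfl N84175 D217153
theorem N113899 : nd 113899 = n217154 := ndS (p := 84175) (l := 6) rfl N84175 D217154
theorem N113900 : nd 113900 = n217155 := ndS (p := 84182) (l := 4) rfl N84182 D217155
theorem N113901 : nd 113901 = n217156 := ndS (p := 84183) (l := 0) rfl N84183 D217156
theorem N113902 : nd 113902 = n217157 := ndS (p := 84183) (l := 1) rfl N84183 D217157
theorem N113903 : nd 113903 = n217158 := ndS (p := 84183) (l := 5) rfl N84183 D217158
theorem N113904 : nd 113904 = n217159 := ndS (p := 84183) (l := 6) rfl N84183 D217159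
theorem N113905 : nd 113905 = n217160 := ndS (p := 84184) (l := 1) rfl N84184 D217160
theorem N113906 : nd 113906 = n217161 := ndS (p := 84188) (l := 5) rfl N84188 D217161
theorem N113907 : nd 113907 = n217162 := ndS (p := 84189) (l := 5) rfl N84189 D217162
theorem N113908 : nd 113908 = n217163 := ndS (p := 84198) (l := 2) rfl N84198 D217163
theorem N113909 : nd 113909 = n217164 := ndS (p := 84199) (l := 0) rfl N84199 D217164
theorem N113910 : nd 113910 = n217165 := ndS (p := 84199) (l := 5) rfl N84199 D217165
theorem N113911 : nd 113911 = n217166 := ndS (p := 84199) (l := 7) rfl N84199 D217166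
theorem N113912 : nd 113912 = n217167 := ndS (p := 84200) (l := 3) rfl N84200 D217167
theorem N113913 : nd 113913 = n217168 := ndS (p := 84200) (l := 4) rfl N84200 D217168
theorem N113914 : nd 113914 = n217169 := ndS (p := 84200) (l := 5) rfl N84200 D217169
theorem N113915 : nd 113915 = n217170 := ndS (p := 84200) (l := 6) rfl N84200 D217170
theorem N113916 : nd 113916 = n217171 := ndS (p := 84201) (l := 5) rfl N84201 D217171
theorem N113917 : nd 113917 = n217172 := ndS (p := 84210) (l := 1) rfl N84210 D217172
theorem N113918 : nd 113918 = n217173 := ndS (p := 84210) (l := 7) rfl N84210 D217173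
theorem N113919 : nd 113919 = n217174 := ndS (p := 84215) (l := 3) rfl N84215 D217174
theorem N113920 : nd 113920 = n217175 := ndS (p := 84216) (l := 5) rfl N84216 D217175
theorem N113921 : nd 113921 = n217176 := ndS (p := 84217) (l := 6) rfl N84217 D217176
theorem N113922 : nd 113922 = n217177 := ndS (p := 84219) (l := 1) rfl N84219 D217177
theorem N113923 : nd 113923 = n217178 := ndS (p := 84227) (l := 0) rfl N84227 D217178
theorem N113924 : nd 113924 = n217179 := ndS (p := 84227) (l := 1) rfl N84227 D217179
theorem N113925 : nd 113925 = n217180 := ndS (p := 84229) (l := 7) rfl N84229 D217180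
theorem N113926 : nd 113926 = n217181 := ndS (p := 84231) (l := 6) rfl N84231 D217181
theorem N113927 : nd 113927 = n217182 := ndS (p := 84246) (l := 5) rfl N84246 D217182
theorem N113928 : nd 113928 = n217183 := ndS (p := 84255) (l := 5) rfl N84255 D217183
theorem N113929 : nd 113929 = n217184 := ndS (p := 84256) (l := 5) rfl N84256 D217184
theorem N113930 : nd 113930 = n217185 := ndS (p := 84259) (l := 5) rfl N84259 D217185
theorem N113931 : nd 113931 = n217186 := ndS (p := 84262) (l := 7) rfl N84262 D217186
theorem N113932 : nd 113932 = n217187 := ndS (p := 84267) (l := 5) rfl N84267 D217187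
theorem N113933 : nd 113933 = n217188 := ndS (p := 84268) (l := 4) rfl N84268 D217188
theorem N113934 : nd 113934 = n217189 := ndS (p := 84271) (l := 5) rfl N84271 D217189
theorem N113935 : nd 113935 = n217190 := ndS (p := 84276) (l := 0) rfl N84276 D217190
theorem N113936 : nd 113936 = n217191 := ndS (p := 84276) (l := 1) rfl N84276 D217191
theorem N113937 : nd 113937 = n217192 := ndS (p := 84276) (l := 4) rfl N84276 D217192
theorem N113938 : nd 113938 = n217193 := ndS (p := 84276) (l := 6) rfl N84276 D217193
theorem N113939 : nd 113939 = n217194 := ndS (p := 84278) (l := 4) rfl N84278 D217194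
theorem N113940 : nd 113940 = n217195 := ndS (p := 84278) (l := 6) rfl N84278 D217195
theorem N113941 : nd 113941 = n217196 := ndS (p := 84279) (l := 5) rfl N84279 D217196
theorem N113942 : nd 113942 = n217197 := ndS (p := 84280) (l := 3) rfl N84280 D217197
theorem N113943 : nd 113943 = n217198 := ndS (p := 84280) (l := 4) rfl N84280 D217198
theorem N113944 : nd 113944 = n217199 := ndS (p := 84280) (l := 6) rfl N84280 D217199
theorem N113945 : nd 113945 = n217200 := ndS (p := 84281) (l := 0) rfl N84281 D217200
theorem N113946 : nd 113946 = n217201 := ndS (p := 84281) (l := 1) rfl N84281 D217201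
theorem N113947 : nd 113947 = n217202 := ndS (p := 84281) (l := 3) rfl N84281 D217202
theorem N113948 : nd 113948 = n217203 := ndS (p := 84282) (l := 1) rfl N84282 D217203
theorem N113949 : nd 113949 = n217204 := ndS (p := 84282) (l := 2) rfl N84282 D217204
theorem N113950 : nd 113950 = n217205 := ndS (p := 84283) (l := 6) rfl N84283 D217205
theorem N113951 : nd 113951 = n217206 := ndS (p := 84284) (l := 3) rfl N84284 D217206
theorem N113952 : nd 113952 = n217207 := ndS (p := 84285) (l := 0) rfl N84285 D217207
theorem N113953 : nd 113953 = n217208 := ndS (p := 84285) (l := 1) rfl N84285 D217208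
theorem N113954 : nd 113954 = n217209 := ndS (p := 84285) (l := 7) rfl N84285 D217209
theorem N113955 : nd 113955 = n217210 := ndS (p := 84286) (l := 6) rfl N84286 D217210
theorem N113956 : nd 113956 = n217211 := ndS (p := 84288) (l := 1) rfl N84288 D217211
theorem N113957 : nd 113957 = n217212 := ndS (p := 84288) (l := 7) rfl N84288 D217212
theorem N113958 : nd 113958 = n217213 := ndS (p := 84289) (l := 3) rfl N84289 D217213
theorem N113959 : nd 113959 = n217214 := ndS (p := 84293) (l := 3) rfl N84293 D217214
theorem N113960 : nd 113960 = n217215 := ndS (p := 84294) (l := 6) rfl N84294 D217215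
theorem N113961 : nd 113961 = n217216 := ndS (p := 84295) (l := 6) rfl N84295 D217216
theorem N113962 : nd 113962 = n217217 := ndS (p := 84296) (l := 0) rfl N84296 D217217
theorem N113963 : nd 113963 = n217218 := ndS (p := 84296) (l := 1) rfl N84296 D217218
theorem N113964 : nd 113964 = n217219 := ndS (p := 84297) (l := 2) rfl N84297 D217219
theorem N113965 : nd 113965 = n217220 := ndS (p := 84298) (l := 0) rfl N84298 D217220
theorem N113966 : nd 113966 = n217221 := ndS (p := 84298) (l := 1) rfl N84298 D217221
theorem N113967 : nd 113967 = n217222 := ndS (p := 84298) (l := 7) rfl N84298 D217222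
theorem N113968 : nd 113968 = n217223 := ndS (p := 84299) (l := 4) rfl N84299 D217223
theorem N113969 : nd 113969 = n217224 := ndS (p := 84299) (l := 6) rfl N84299 D217224
theorem N113970 : nd 113970 = n217225 := ndS (p := 84300) (l := 4) rfl N84300 D217225
theorem N113971 : nd 113971 = n217226 := ndS (p := 84302) (l := 3) rfl N84302 D217226
theorem N113972 : nd 113972 = n217227 := ndS (p := 84303) (l := 0) rfl N84303 D217227
theorem N113973 : nd 113973 = n217228 := ndS (p := 84303) (l := 7) rfl N84303 D217228
theorem N113974 : nd 113974 = n217229 := ndS (p := 84304) (l := 1) rfl N84304 D217229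
theorem N113975 : nd 113975 = n217230 := ndS (p := 84305) (l := 1) rfl N84305 D217230
theorem N113976 : nd 113976 = n217231 := ndS (p := 84305) (l := 5) rfl N84305 D217231
theorem N113977 : nd 113977 = n217232 := ndS (p := 84306) (l := 3) rfl N84306 D217232
theorem N113978 : nd 113978 = n217233 := ndS (p := 84306) (l := 5) rfl N84306 D217233
theorem N113979 : nd 113979 = n217234 := ndS (p := 84310) (l := 0) rfl N84310 D217234
theorem N113980 : nd 113980 = n217235 := ndS (p := 84310) (l := 1) rfl N84310 D217235
theorem N113981 : nd 113981 = n217236 := ndS (p := 84310) (l := 7) rfl N84310 D217236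
theorem N113982 : nd 113982 = n217237 := ndS (p := 84311) (l := 1) rfl N84311 D217237
theorem N113983 : nd 113983 = n217238 := ndS (p := 84311) (l := 2) rfl N84311 D217238
theorem N113984 : nd 113984 = n217239 := ndS (p := 84311) (l := 6) rfl N84311 D217239
theorem N113985 : nd 113985 = n217240 := ndS (p := 84312) (l := 1) rfl N84312 D217240
theorem N113986 : nd 113986 = n217241 := ndS (p := 84312) (l := 7) rfl N84312 D217241
theorem N113987 : nd 113987 = n217242 := ndS (p := 84313) (l := 3) rfl N84313 D217242
theorem N113988 : nd 113988 = n217243 := ndS (p := 84317) (l := 0) rfl N84317 D217243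
theorem N113989 : nd 113989 = n217244 := ndS (p := 84317) (l := 2) rfl N84317 D217244
theorem N113990 : nd 113990 = n217245 := ndS (p := 84317) (l := 6) rfl N84317 D217245
theorem N113991 : nd 113991 = n217246 := ndS (p := 84318) (l := 7) rfl N84318 D217246
theorem N113992 : nd 113992 = n217247 := ndS (p := 84319) (l := 3) rfl N84319 D217247
theorem N113993 : nd 113993 = n217248 := ndS (p := 84319) (l := 4) rfl N84319 D217248
theorem N113994 : nd 113994 = n217249 := ndS (p := 84320) (l := 3) rfl N84320 D217249
theorem N113995 : nd 113995 = n217250 := ndS (p := 84324) (l := 5) rfl N84324 D217250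
theorem N113996 : nd 113996 = n217251 := ndS (p := 84326) (l := 3) rfl N84326 D217251
theorem N113997 : nd 113997 = n217252 := ndS (p := 84326) (l := 4) rfl N84326 D217252
theorem N113998 : nd 113998 = n217253 := ndS (p := 84327) (l := 4) rfl N84327 D217253
theorem N113999 : nd 113999 = n217254 := ndS (p := 84328) (l := 3) rfl N84328 D217254
theorem N114000 : nd 114000 = n217255 := ndS (p := 84328) (l := 6) rfl N84328 D217255
theorem N114001 : nd 114001 = n217256 := ndS (p := 84329) (l := 0) rfl N84329 D217256
theorem N114002 : nd 114002 = n217257 := ndS (p := 84329) (l := 1) rfl N84329 D217257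
theorem N114003 : nd 114003 = n217258 := ndS (p := 84329) (l := 7) rfl N84329 D217258
theorem N114004 : nd 114004 = n217259 := ndS (p := 84331) (l := 2) rfl N84331 D217259
theorem N114005 : nd 114005 = n217260 := ndS (p := 84343) (l := 6) rfl N84343 D217260
theorem N114006 : nd 114006 = n217261 := ndS (p := 84344) (l := 5) rfl N84344 D217261
theorem N114007 : nd 114007 = n217262 := ndS (p := 84345) (l := 5) rfl N84345 D217262
theorem N114008 : nd 114008 = n217263 := ndS (p := 84349) (l := 2) rfl N84349 D217263
theorem N114009 : nd 114009 = n217264 := ndS (p := 84355) (l := 6) rfl N84355 D217264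
theorem N114010 : nd 114010 = n217265 := ndS (p := 84356) (l := 0) rfl N84356 D217265
theorem N114011 : nd 114011 = n217266 := ndS (p := 84356) (l := 1) rfl N84356 D217266
theorem N114012 : nd 114012 = n217267 := ndS (p := 84357) (l := 5) rfl N84357 D217267
theorem N114013 : nd 114013 = n217268 := ndS (p := 84362) (l := 5) rfl N84362 D217268
theorem N114014 : nd 114014 = n217269 := ndS (p := 84363) (l := 1) rfl N84363 D217269
theorem N114015 : nd 114015 = n217270 := ndS (p := 84363) (l := 4) rfl N84363 D217270
theorem N114016 : nd 114016 = n217271 := ndS (p := 84363) (l := 7) rfl N84363 D217271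
theorem N114017 : nd 114017 = n217272 := ndS (p := 84365) (l := 2) rfl N84365 D217272
theorem N114018 : nd 114018 = n217273 := ndS (p := 84365) (l := 5) rfl N84365 D217273
theorem N114019 : nd 114019 = n217274 := ndS (p := 84366) (l := 1) rfl N84366 D217274
theorem N114020 : nd 114020 = n217275 := ndS (p := 84366) (l := 4) rfl N84366 D217275
theorem N114021 : nd 114021 = n217276 := ndS (p := 84366) (l := 6) rfl N84366 D217276
theorem N114022 : nd 114022 = n217277 := ndS (p := 84369) (l := 4) rfl N84369 D217277
theorem N114023 : nd 114023 = n217278 := ndS (p := 84370) (l := 5) rfl N84370 D217278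
theorem N114024 : nd 114024 = n217279 := ndS (p := 84372) (l := 3) rfl N84372 D217279
theorem N114025 : nd 114025 = n217280 := ndS (p := 84376) (l := 1) rfl N84376 D217280
theorem N114026 : nd 114026 = n217281 := ndS (p := 84377) (l := 0) rfl N84377 D217281
theorem N114027 : nd 114027 = n217282 := ndS (p := 84380) (l := 3) rfl N84380 D217282
theorem N114028 : nd 114028 = n217283 := ndS (p := 84384) (l := 0) rfl N84384 D217283
theorem N114029 : nd 114029 = n217284 := ndS (p := 84386) (l := 3) rfl N84386 D217284
theorem N114030 : nd 114030 = n217285 := ndS (p := 84386) (l := 5) rfl N84386 D217285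
theorem N114031 : nd 114031 = n217286 := ndS (p := 84405) (l := 4) rfl N84405 D217286
theorem N114032 : nd 114032 = n217287 := ndS (p := 84405) (l := 6) rfl N84405 D217287
theorem N114033 : nd 114033 = n217288 := ndS (p := 84406) (l := 0) rfl N84406 D217288
theorem N114034 : nd 114034 = n217289 := ndS (p := 84406) (l := 5) rfl N84406 D217289
theorem N114035 : nd 114035 = n217290 := ndS (p := 84407) (l := 0) rfl N84407 D217290
theorem N114036 : nd 114036 = n217291 := ndS (p := 84407) (l := 1) rfl N84407 D217291
theorem N114037 : nd 114037 = n217292 := ndS (p := 84407) (l := 7) rfl N84407 D217292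
theorem N114038 : nd 114038 = n217293 := ndS (p := 84409) (l := 3) rfl N84409 D217293
theorem N114039 : nd 114039 = n217294 := ndS (p := 84409) (l := 6) rfl N84409 D217294
theorem N114040 : nd 114040 = n217295 := ndS (p := 84415) (l := 6) rfl N84415 D217295
theorem N114041 : nd 114041 = n217296 := ndS (p := 84416) (l := 0) rfl N84416 D217296
theorem N114042 : nd 114042 = n217297 := ndS (p := 84416) (l := 1) rfl N84416 D217297
theorem N114043 : nd 114043 = n217298 := ndS (p := 84416) (l := 7) rfl N84416 D217298
theorem N114044 : nd 114044 = n217299 := ndS (p := 84417) (l := 6) rfl N84417 D217299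
theorem N114045 : nd 114045 = n217300 := ndS (p := 84418) (l := 3) rfl N84418 D217300
theorem N114046 : nd 114046 = n217301 := ndS (p := 84419) (l := 0) rfl N84419 D217301
theorem N114047 : nd 114047 = n217302 := ndS (p := 84419) (l := 7) rfl N84419 D217302
theorem N114048 : nd 114048 = n217303 := ndS (p := 84420) (l := 3) rfl N84420 D217303
theorem N114049 : nd 114049 = n217304 := ndS (p := 84422) (l := 3) rfl N84422 D217304
theorem N114050 : nd 114050 = n217305 := ndS (p := 84422) (l := 6) rfl N84422 D217305
theorem N114051 : nd 114051 = n217306 := ndS (p := 84423) (l := 6) rfl N84423 D217306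
theorem N114052 : nd 114052 = n217307 := ndS (p := 84425) (l := 3) rfl N84425 D217307
theorem N114053 : nd 114053 = n217308 := ndS (p := 84427) (l := 4) rfl N84427 D217308
theorem N114054 : nd 114054 = n217309 := ndS (p := 84428) (l := 1) rfl N84428 D217309
theorem N114055 : nd 114055 = n217310 := ndS (p := 84428) (l := 7) rfl N84428 D217310
theorem N114056 : nd 114056 = n217311 := ndS (p := 84430) (l := 0) rfl N84430 D217311
theorem N114057 : nd 114057 = n217312 := ndS (p := 84430) (l := 1) rfl N84430 D217312
theorem N114058 : nd 114058 = n217313 := ndS (p := 84430) (l := 6) rfl N84430 D217313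
theorem N114059 : nd 114059 = n217314 := ndS (p := 84431) (l := 0) rfl N84431 D217314
theorem N114060 : nd 114060 = n217315 := ndS (p := 84431) (l := 1) rfl N84431 D217315
theorem N114061 : nd 114061 = n217316 := ndS (p := 84431) (l := 7) rfl N84431 D217316
theorem N114062 : nd 114062 = n217317 := ndS (p := 84432) (l := 4) rfl N84432 D217317
theorem N114063 : nd 114063 = n217318 := ndS (p := 84433) (l := 0) rfl N84433 D217318
theorem N114064 : nd 114064 = n217319 := ndS (p := 84433) (l := 1) rfl N84433 D217319
theorem N114065 : nd 114065 = n217320 := ndS (p := 84433) (l := 6) rfl N84433 D217320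
theorem N114066 : nd 114066 = n217321 := ndS (p := 84435) (l := 4) rfl N84435 D217321
theorem N114067 : nd 114067 = n217322 := ndS (p := 84436) (l := 3) rfl N84436 D217322
theorem N114068 : nd 114068 = n217323 := ndS (p := 84436) (l := 4) rfl N84436 D217323
theorem N114069 : nd 114069 = n217324 := ndS (p := 84437) (l := 7) rfl N84437 D217324
theorem N114070 : nd 114070 = n217325 := ndS (p := 84447) (l := 6) rfl N84447 D217325
theorem N114071 : nd 114071 = n217326 := ndS (p := 84448) (l := 5) rfl N84448 D217326
theorem N114072 : nd 114072 = n217327 := ndS (p := 84455) (l := 3) rfl N84455 D217327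
theorem N114073 : nd 114073 = n217328 := ndS (p := 84460) (l := 1) rfl N84460 D217328
theorem N114074 : nd 114074 = n217329 := ndS (p := 84464) (l := 2) rfl N84464 D217329
theorem N114075 : nd 114075 = n217330 := ndS (p := 84464) (l := 6) rfl N84464 D217330
theorem N114076 : nd 114076 = n217331 := ndS (p := 84465) (l := 0) rfl N84465 D217331
theorem N114077 : nd 114077 = n217332 := ndS (p := 84466) (l := 1) rfl N84466 D217332
theorem N114078 : nd 114078 = n217333 := ndS (p := 84467) (l := 4) rfl N84467 D217333
theorem N114079 : nd 114079 = n217334 := ndS (p := 84481) (l := 5) rfl N84481 D217334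
theorem N114080 : nd 114080 = n217335 := ndS (p := 84482) (l := 4) rfl N84482 D217335
theorem N114081 : nd 114081 = n217336 := ndS (p := 84486) (l := 1) rfl N84486 D217336
theorem N114082 : nd 114082 = n217337 := ndS (p := 84488) (l := 1) rfl N84488 D217337
theorem N114083 : nd 114083 = n217338 := ndS (p := 84494) (l := 7) rfl N84494 D217338
theorem N114084 : nd 114084 = n217339 := ndS (p := 84495) (l := 0) rfl N84495 D217339
theorem N114085 : nd 114085 = n217340 := ndS (p := 84496) (l := 5) rfl N84496 D217340
theorem N114086 : nd 114086 = n217341 := ndS (p := 84496) (l := 7) rfl N84496 D217341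
theorem N114087 : nd 114087 = n217342 := ndS (p := 84497) (l := 3) rfl N84497 D217342
theorem N114088 : nd 114088 = n217343 := ndS (p := 84497) (l := 5) rfl N84497 D217343
theorem N114089 : nd 114089 = n217344 := ndS (p := 84500) (l := 5) rfl N84500 D217344
theorem N114090 : nd 114090 = n217345 := ndS (p := 84501) (l := 4) rfl N84501 D217345
theorem N114091 : nd 114091 = n217346 := ndS (p := 84501) (l := 6) rfl N84501 D217346
theorem N114092 : nd 114092 = n217347 := ndS (p := 84502) (l := 3) rfl N84502 D217347
theorem N114093 : nd 114093 = n217348 := ndS (p := 84502) (l := 4) rfl N84502 D217348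
theorem N114094 : nd 114094 = n217349 := ndS (p := 84502) (l := 6) rfl N84502 D217349
theorem N114095 : nd 114095 = n217350 := ndS (p := 84503) (l := 4) rfl N84503 D217350
theorem N114096 : nd 114096 = n217351 := ndS (p := 84503) (l := 6) rfl N84503 D217351
theorem N114097 : nd 114097 = n217352 := ndS (p := 84504) (l := 0) rfl N84504 D217352
theorem N114098 : nd 114098 = n217353 := ndS (p := 84504) (l := 1) rfl N84504 D217353
theorem N114099 : nd 114099 = n217354 := ndS (p := 84504) (l := 3) rfl N84504 D217354
theorem N114100 : nd 114100 = n217355 := ndS (p := 84504) (l := 5) rfl N84504 D217355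
theorem N114101 : nd 114101 = n217356 := ndS (p := 84506) (l := 2) rfl N84506 D217356
theorem N114102 : nd 114102 = n217357 := ndS (p := 84506) (l := 6) rfl N84506 D217357
theorem N114103 : nd 114103 = n217358 := ndS (p := 84509) (l := 6) rfl N84509 D217358
theorem N114104 : nd 114104 = n217359 := ndS (p := 84510) (l := 6) rfl N84510 D217359
theorem N114105 : nd 114105 = n217360 := ndS (p := 84512) (l := 6) rfl N84512 D217360
theorem N114106 : nd 114106 = n217361 := ndS (p := 84515) (l := 6) rfl N84515 D217361
theorem N114107 : nd 114107 = n217362 := ndS (p := 84516) (l := 0) rfl N84516 D217362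
theorem N114108 : nd 114108 = n217363 := ndS (p := 84516) (l := 1) rfl N84516 D217363
theorem N114109 : nd 114109 = n217364 := ndS (p := 84516) (l := 7) rfl N84516 D217364
theorem N114110 : nd 114110 = n217365 := ndS (p := 84517) (l := 1) rfl N84517 D217365
theorem N114111 : nd 114111 = n217366 := ndS (p := 84518) (l := 7) rfl N84518 D217366
theorem N114112 : nd 114112 = n217367 := ndS (p := 84519) (l := 3) rfl N84519 D217367
theorem N114113 : nd 114113 = n217368 := ndS (p := 84519) (l := 5) rfl N84519 D217368
theorem N114114 : nd 114114 = n217369 := ndS (p := 84520) (l := 5) rfl N84520 D217369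
theorem N114115 : nd 114115 = n217370 := ndS (p := 84522) (l := 6) rfl N84522 D217370
theorem N114116 : nd 114116 = n217371 := ndS (p := 84523) (l := 6) rfl N84523 D217371
theorem N114117 : nd 114117 = n217372 := ndS (p := 84524) (l := 0) rfl N84524 D217372
theorem N114118 : nd 114118 = n217373 := ndS (p := 84524) (l := 1) rfl N84524 D217373
theorem N114119 : nd 114119 = n217374 := ndS (p := 84524) (l := 7) rfl N84524 D217374
theorem N114120 : nd 114120 = n217375 := ndS (p := 84526) (l := 6) rfl N84526 D217375
theorem N114121 : nd 114121 = n217376 := ndS (p := 84527) (l := 1) rfl N84527 D217376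
theorem N114122 : nd 114122 = n217377 := ndS (p := 84527) (l := 7) rfl N84527 D217377
theorem N114123 : nd 114123 = n217378 := ndS (p := 84528) (l := 3) rfl N84528 D217378
theorem N114124 : nd 114124 = n217379 := ndS (p := 84528) (l := 6) rfl N84528 D217379
theorem N114125 : nd 114125 = n217380 := ndS (p := 84530) (l := 7) rfl N84530 D217380
theorem N114126 : nd 114126 = n217381 := ndS (p := 84532) (l := 3) rfl N84532 D217381
theorem N114127 : nd 114127 = n217382 := ndS (p := 84532) (l := 6) rfl N84532 D217382
theorem N114128 : nd 114128 = n217383 := ndS (p := 84536) (l := 6) rfl N84536 D217383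
theorem N114129 : nd 114129 = n217384 := ndS (p := 84537) (l := 5) rfl N84537 D217384
theorem N114130 : nd 114130 = n217385 := ndS (p := 84538) (l := 3) rfl N84538 D217385
theorem N114131 : nd 114131 = n217386 := ndS (p := 84538) (l := 4) rfl N84538 D217386
theorem N114132 : nd 114132 = n217387 := ndS (p := 84538) (l := 5) rfl N84538 D217387
theorem N114133 : nd 114133 = n217388 := ndS (p := 84539) (l := 4) rfl N84539 D217388
theorem N114134 : nd 114134 = n217389 := ndS (p := 84539) (l := 6) rfl N84539 D217389
theorem N114135 : nd 114135 = n217390 := ndS (p := 84541) (l := 4) rfl N84541 D217390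
theorem N114136 : nd 114136 = n217391 := ndS (p := 84541) (l := 6) rfl N84541 D217391
theorem N114137 : nd 114137 = n217392 := ndS (p := 84542) (l := 0) rfl N84542 D217392
theorem N114138 : nd 114138 = n217393 := ndS (p := 84542) (l := 1) rfl N84542 D217393
theorem N114139 : nd 114139 = n217394 := ndS (p := 84543) (l := 0) rfl N84543 D217394
theorem N114140 : nd 114140 = n217395 := ndS (p := 84543) (l := 1) rfl N84543 D217395
theorem N114141 : nd 114141 = n217396 := ndS (p := 84545) (l := 0) rfl N84545 D217396
theorem N114142 : nd 114142 = n217397 := ndS (p := 84545) (l := 2) rfl N84545 D217397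
theorem N114143 : nd 114143 = n217398 := ndS (p := 84545) (l := 4) rfl N84545 D217398
theorem N114144 : nd 114144 = n217399 := ndS (p := 84545) (l := 6) rfl N84545 D217399
theorem N114145 : nd 114145 = n217400 := ndS (p := 84546) (l := 5) rfl N84546 D217400
theorem N114146 : nd 114146 = n217401 := ndS (p := 84548) (l := 6) rfl N84548 D217401
theorem N114147 : nd 114147 = n217402 := ndS (p := 84555) (l := 4) rfl N84555 D217402
theorem N114148 : nd 114148 = n217403 := ndS (p := 84556) (l := 6) rfl N84556 D217403
theorem N114149 : nd 114149 = n217404 := ndS (p := 84557) (l := 3) rfl N84557 D217404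
theorem N114150 : nd 114150 = n217405 := ndS (p := 84558) (l := 5) rfl N84558 D217405
theorem N114151 : nd 114151 = n217406 := ndS (p := 84561) (l := 3) rfl N84561 D217406
theorem N114152 : nd 114152 = n217407 := ndS (p := 84573) (l := 4) rfl N84573 D217407
theorem N114153 : nd 114153 = n217408 := ndS (p := 84573) (l := 6) rfl N84573 D217408
theorem N114154 : nd 114154 = n217409 := ndS (p := 84574) (l := 0) rfl N84574 D217409
theorem N114155 : nd 114155 = n217410 := ndS (p := 84574) (l := 1) rfl N84574 D217410
theorem N114156 : nd 114156 = n217411 := ndS (p := 84575) (l := 0) rfl N84575 D217411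
theorem N114157 : nd 114157 = n217412 := ndS (p := 84575) (l := 1) rfl N84575 D217412
theorem N114158 : nd 114158 = n217413 := ndS (p := 84575) (l := 7) rfl N84575 D217413
theorem N114159 : nd 114159 = n217414 := ndS (p := 84578) (l := 3) rfl N84578 D217414
theorem N114160 : nd 114160 = n217415 := ndS (p := 84578) (l := 5) rfl N84578 D217415
theorem N114161 : nd 114161 = n217416 := ndS (p := 84579) (l := 3) rfl N84579 D217416
theorem N114162 : nd 114162 = n217417 := ndS (p := 84579) (l := 5) rfl N84579 D217417
theorem N114163 : nd 114163 = n217418 := ndS (p := 84581) (l := 5) rfl N84581 D217418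
theorem N114164 : nd 114164 = n217419 := ndS (p := 84582) (l := 5) rfl N84582 D217419
theorem N114165 : nd 114165 = n217420 := ndS (p := 84583) (l := 4) rfl N84583 D217420
theorem N114166 : nd 114166 = n217421 := ndS (p := 84583) (l := 6) rfl N84583 D217421
theorem N114167 : nd 114167 = n217422 := ndS (p := 84584) (l := 4) rfl N84584 D217422
theorem N114168 : nd 114168 = n217423 := ndS (p := 84584) (l := 6) rfl N84584 D217423
theorem N114169 : nd 114169 = n217424 := ndS (p := 84585) (l := 4) rfl N84585 D217424
theorem N114170 : nd 114170 = n217425 := ndS (p := 84585) (l := 6) rfl N84585 D217425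
theorem N114171 : nd 114171 = n217426 := ndS (p := 84586) (l := 0) rfl N84586 D217426
theorem N114172 : nd 114172 = n217428 := ndS (p := 84586) (l := 3) rfl N84586 D217428
theorem N114173 : nd 114173 = n217429 := ndS (p := 84586) (l := 5) rfl N84586 D217429
theorem N114174 : nd 114174 = n217430 := ndS (p := 84586) (l := 6) rfl N84586 D217430
theorem N114175 : nd 114175 = n217431 := ndS (p := 84587) (l := 0) rfl N84587 D217431
theorem N114176 : nd 114176 = n217432 := ndS (p := 84587) (l := 1) rfl N84587 D217432
theorem N114177 : nd 114177 = n217433 := ndS (p := 84587) (l := 7) rfl N84587 D217433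
theorem N114178 : nd 114178 = n217434 := ndS (p := 84588) (l := 4) rfl N84588 D217434
theorem N114179 : nd 114179 = n217435 := ndS (p := 84590) (l := 3) rfl N84590 D217435
theorem N114180 : nd 114180 = n217436 := ndS (p := 84591) (l := 3) rfl N84591 D217436
theorem N114181 : nd 114181 = n217437 := ndS (p := 84594) (l := 4) rfl N84594 D217437
theorem N114182 : nd 114182 = n217438 := ndS (p := 84594) (l := 6) rfl N84594 D217438
theorem N114183 : nd 114183 = n217439 := ndS (p := 84596) (l := 4) rfl N84596 D217439
theorem N114184 : nd 114184 = n217440 := ndS (p := 84598) (l := 3) rfl N84598 D217440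
theorem N114185 : nd 114185 = n217441 := ndS (p := 84599) (l := 4) rfl N84599 D217441
theorem N114186 : nd 114186 = n217442 := ndS (p := 84599) (l := 6) rfl N84599 D217442
theorem N114187 : nd 114187 = n217443 := ndS (p := 84600) (l := 3) rfl N84600 D217443
theorem N114188 : nd 114188 = n217444 := ndS (p := 84601) (l := 0) rfl N84601 D217444
theorem N114189 : nd 114189 = n217445 := ndS (p := 84601) (l := 1) rfl N84601 D217445
theorem N114190 : nd 114190 = n217446 := ndS (p := 84602) (l := 1) rfl N84602 D217446
theorem N114191 : nd 114191 = n217447 := ndS (p := 84602) (l := 2) rfl N84602 D217447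
theorem N114192 : nd 114192 = n217448 := ndS (p := 84603) (l := 5) rfl N84603 D217448
theorem N114193 : nd 114193 = n217449 := ndS (p := 84603) (l := 7) rfl N84603 D217449
theorem N114194 : nd 114194 = n217450 := ndS (p := 84604) (l := 5) rfl N84604 D217450
theorem N114195 : nd 114195 = n217451 := ndS (p := 84605) (l := 3) rfl N84605 D217451
theorem N114196 : nd 114196 = n217452 := ndS (p := 84605) (l := 5) rfl N84605 D217452
theorem N114197 : nd 114197 = n217453 := ndS (p := 84608) (l := 6) rfl N84608 D217453
theorem N114198 : nd 114198 = n217454 := ndS (p := 84609) (l := 0) rfl N84609 D217454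
theorem N114199 : nd 114199 = n217455 := ndS (p := 84609) (l := 5) rfl N84609 D217455
theorem N114200 : nd 114200 = n217456 := ndS (p := 84609) (l := 7) rfl N84609 D217456
theorem N114201 : nd 114201 = n217457 := ndS (p := 84610) (l := 4) rfl N84610 D217457
theorem N114202 : nd 114202 = n217458 := ndS (p := 84613) (l := 6) rfl N84613 D217458
theorem N114203 : nd 114203 = n217459 := ndS (p := 84614) (l := 0) rfl N84614 D217459
theorem N114204 : nd 114204 = n217460 := ndS (p := 84614) (l := 7) rfl N84614 D217460
theorem N114205 : nd 114205 = n217461 := ndS (p := 84615) (l := 1) rfl N84615 D217461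
theorem N114206 : nd 114206 = n217462 := ndS (p := 84616) (l := 3) rfl N84616 D217462
theorem N114207 : nd 114207 = n217463 := ndS (p := 84619) (l := 5) rfl N84619 D217463
theorem N114208 : nd 114208 = n217464 := ndS (p := 84620) (l := 0) rfl N84620 D217464
theorem N114209 : nd 114209 = n217465 := ndS (p := 84620) (l := 1) rfl N84620 D217465
theorem N114210 : nd 114210 = n217466 := ndS (p := 84620) (l := 5) rfl N84620 D217466
theorem N114211 : nd 114211 = n217467 := ndS (p := 84621) (l := 4) rfl N84621 D217467
theorem N114212 : nd 114212 = n217468 := ndS (p := 84622) (l := 3) rfl N84622 D217468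
theorem N114213 : nd 114213 = n217469 := ndS (p := 84622) (l := 4) rfl N84622 D217469
theorem N114214 : nd 114214 = n217470 := ndS (p := 84622) (l := 6) rfl N84622 D217470
theorem N114215 : nd 114215 = n217471 := ndS (p := 84624) (l := 0) rfl N84624 D217471
theorem N114216 : nd 114216 = n217472 := ndS (p := 84624) (l := 4) rfl N84624 D217472
theorem N114217 : nd 114217 = n217473 := ndS (p := 84625) (l := 6) rfl N84625 D217473
theorem N114218 : nd 114218 = n217474 := ndS (p := 84632) (l := 2) rfl N84632 D217474
theorem N114219 : nd 114219 = n217475 := ndS (p := 84632) (l := 4) rfl N84632 D217475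
theorem N114220 : nd 114220 = n217476 := ndS (p := 84632) (l := 6) rfl N84632 D217476
theorem N114221 : nd 114221 = n217477 := ndS (p := 84633) (l := 3) rfl N84633 D217477
theorem N114222 : nd 114222 = n217478 := ndS (p := 84633) (l := 6) rfl N84633 D217478
theorem N114223 : nd 114223 = n217479 := ndS (p := 84635) (l := 1) rfl N84635 D217479
theorem N114224 : nd 114224 = n217480 := ndS (p := 84636) (l := 1) rfl N84636 D217480
theorem N114225 : nd 114225 = n217481 := ndS (p := 84636) (l := 2) rfl N84636 D217481
theorem N114226 : nd 114226 = n217482 := ndS (p := 84652) (l := 3) rfl N84652 D217482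
theorem N114227 : nd 114227 = n217483 := ndS (p := 84652) (l := 5) rfl N84652 D217483
theorem N114228 : nd 114228 = n217484 := ndS (p := 84657) (l := 0) rfl N84657 D217484
theorem N114229 : nd 114229 = n217485 := ndS (p := 84657) (l := 6) rfl N84657 D217485
theorem N114230 : nd 114230 = n217486 := ndS (p := 84660) (l := 3) rfl N84660 D217486
theorem N114231 : nd 114231 = n217487 := ndS (p := 84663) (l := 5) rfl N84663 D217487
theorem N114232 : nd 114232 = n217488 := ndS (p := 84665) (l := 5) rfl N84665 D217488
theorem N114233 : nd 114233 = n217489 := ndS (p := 84666) (l := 0) rfl N84666 D217489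
theorem N114234 : nd 114234 = n217490 := ndS (p := 84666) (l := 1) rfl N84666 D217490
theorem N114235 : nd 114235 = n217491 := ndS (p := 84669) (l := 3) rfl N84669 D217491
theorem N114236 : nd 114236 = n217492 := ndS (p := 84673) (l := 3) rfl N84673 D217492
theorem N114237 : nd 114237 = n217493 := ndS (p := 84673) (l := 6) rfl N84673 D217493
theorem N114238 : nd 114238 = n217494 := ndS (p := 84677) (l := 4) rfl N84677 D217494
theorem N114239 : nd 114239 = n217495 := ndS (p := 84681) (l := 6) rfl N84681 D217495
theorem N114240 : nd 114240 = n217496 := ndS (p := 84687) (l := 4) rfl N84687 D217496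
theorem N114241 : nd 114241 = n217497 := ndS (p := 84688) (l := 4) rfl N84688 D217497
theorem N114242 : nd 114242 = n217498 := ndS (p := 84689) (l := 1) rfl N84689 D217498
theorem N114243 : nd 114243 = n217499 := ndS (p := 84689) (l := 5) rfl N84689 D217499
theorem N114244 : nd 114244 = n217500 := ndS (p := 84694) (l := 3) rfl N84694 D217500
theorem N114245 : nd 114245 = n217501 := ndS (p := 84694) (l := 6) rfl N84694 D217501
theorem N114246 : nd 114246 = n217502 := ndS (p := 84697) (l := 6) rfl N84697 D217502
theorem N114247 : nd 114247 = n217503 := ndS (p := 84698) (l := 6) rfl N84698 D217503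
theorem N114248 : nd 114248 = n217504 := ndS (p := 84700) (l := 1) rfl N84700 D217504
theorem N114249 : nd 114249 = n217505 := ndS (p := 84701) (l := 1) rfl N84701 D217505
theorem N114250 : nd 114250 = n217506 := ndS (p := 84701) (l := 2) rfl N84701 D217506
theorem N114251 : nd 114251 = n217507 := ndS (p := 84701) (l := 4) rfl N84701 D217507
theorem N114252 : nd 114252 = n217508 := ndS (p := 84701) (l := 6) rfl N84701 D217508
theorem N114253 : nd 114253 = n217509 := ndS (p := 84712) (l := 0) rfl N84712 D217509
theorem N114254 : nd 114254 = n217510 := ndS (p := 84717) (l := 4) rfl N84717 D217510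
theorem N114255 : nd 114255 = n217511 := ndS (p := 84725) (l := 4) rfl N84725 D217511
theorem N114256 : nd 114256 = n217512 := ndS (p := 84732) (l := 4) rfl N84732 D217512
theorem N114257 : nd 114257 = n217513 := ndS (p := 84742) (l := 1) rfl N84742 D217513
theorem N114258 : nd 114258 = n217514 := ndS (p := 84742) (l := 2) rfl N84742 D217514
theorem N114259 : nd 114259 = n217515 := ndS (p := 84743) (l := 1) rfl N84743 D217515
theorem N114260 : nd 114260 = n217516 := ndS (p := 84743) (l := 7) rfl N84743 D217516
theorem N114261 : nd 114261 = n217517 := ndS (p := 84744) (l := 3) rfl N84744 D217517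
theorem N114262 : nd 114262 = n217518 := ndS (p := 84759) (l := 2) rfl N84759 D217518
theorem N114263 : nd 114263 = n217519 := ndS (p := 84759) (l := 5) rfl N84759 D217519
theorem N114264 : nd 114264 = n217520 := ndS (p := 84760) (l := 0) rfl N84760 D217520
theorem N114265 : nd 114265 = n217521 := ndS (p := 84760) (l := 1) rfl N84760 D217521
theorem N114266 : nd 114266 = n217522 := ndS (p := 84760) (l := 4) rfl N84760 D217522
theorem N114267 : nd 114267 = n217523 := ndS (p := 84760) (l := 6) rfl N84760 D217523
theorem N114268 : nd 114268 = n217524 := ndS (p := 84761) (l := 1) rfl N84761 D217524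
theorem N114269 : nd 114269 = n217525 := ndS (p := 84761) (l := 5) rfl N84761 D217525
theorem N114270 : nd 114270 = n217526 := ndS (p := 84764) (l := 0) rfl N84764 D217526
theorem N114271 : nd 114271 = n217527 := ndS (p := 84764) (l := 1) rfl N84764 D217527
theorem N114272 : nd 114272 = n217528 := ndS (p := 84764) (l := 5) rfl N84764 D217528
theorem N114273 : nd 114273 = n217529 := ndS (p := 84770) (l := 4) rfl N84770 D217529
theorem N114274 : nd 114274 = n217530 := ndS (p := 84788) (l := 2) rfl N84788 D217530
theorem N114275 : nd 114275 = n217531 := ndS (p := 84789) (l := 7) rfl N84789 D217531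
theorem N114276 : nd 114276 = n217532 := ndS (p := 84790) (l := 4) rfl N84790 D217532
theorem N114277 : nd 114277 = n217533 := ndS (p := 84790) (l := 6) rfl N84790 D217533
theorem N114278 : nd 114278 = n217534 := ndS (p := 84796) (l := 3) rfl N84796 D217534
theorem N114279 : nd 114279 = n217535 := ndS (p := 84798) (l := 6) rfl N84798 D217535
theorem N114280 : nd 114280 = n217536 := ndS (p := 84799) (l := 1) rfl N84799 D217536
theorem N114281 : nd 114281 = n217537 := ndS (p := 84799) (l := 7) rfl N84799 D217537
theorem N114282 : nd 114282 = n217538 := ndS (p := 84801) (l := 6) rfl N84801 D217538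
theorem N114283 : nd 114283 = n217539 := ndS (p := 84805) (l := 5) rfl N84805 D217539
theorem N114284 : nd 114284 = n217540 := ndS (p := 84805) (l := 7) rfl N84805 D217540
theorem N114285 : nd 114285 = n217541 := ndS (p := 84806) (l := 4) rfl N84806 D217541
theorem N114286 : nd 114286 = n217542 := ndS (p := 84810) (l := 4) rfl N84810 D217542
theorem N114287 : nd 114287 = n217543 := ndS (p := 84811) (l := 4) rfl N84811 D217543
theorem N114288 : nd 114288 = n217544 := ndS (p := 84812) (l := 4) rfl N84812 D217544
theorem N114289 : nd 114289 = n217545 := ndS (p := 84813) (l := 0) rfl N84813 D217545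
theorem N114290 : nd 114290 = n217546 := ndS (p := 84813) (l := 1) rfl N84813 D217546
theorem N114291 : nd 114291 = n217547 := ndS (p := 84813) (l := 5) rfl N84813 D217547
theorem N114292 : nd 114292 = n217548 := ndS (p := 84820) (l := 4) rfl N84820 D217548
theorem N114293 : nd 114293 = n217549 := ndS (p := 84824) (l := 1) rfl N84824 D217549
theorem N114294 : nd 114294 = n217550 := ndS (p := 84824) (l := 5) rfl N84824 D217550
theorem N114295 : nd 114295 = n217551 := ndS (p := 84827) (l := 7) rfl N84827 D217551
theorem N114296 : nd 114296 = n217552 := ndS (p := 84828) (l := 5) rfl N84828 D217552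
theorem N114297 : nd 114297 = n217553 := ndS (p := 84833) (l := 4) rfl N84833 D217553
theorem N114298 : nd 114298 = n217554 := ndS (p := 84833) (l := 6) rfl N84833 D217554
theorem N114299 : nd 114299 = n217555 := ndS (p := 84835) (l := 0) rfl N84835 D217555
theorem N114300 : nd 114300 = n217556 := ndS (p := 84835) (l := 1) rfl N84835 D217556
theorem N114301 : nd 114301 = n217557 := ndS (p := 84836) (l := 6) rfl N84836 D217557
theorem N114302 : nd 114302 = n217558 := ndS (p := 84838) (l := 0) rfl N84838 D217558
theorem N114303 : nd 114303 = n217559 := ndS (p := 84838) (l := 1) rfl N84838 D217559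
theorem N114304 : nd 114304 = n217560 := ndS (p := 84839) (l := 4) rfl N84839 D217560
theorem N114305 : nd 114305 = n217561 := ndS (p := 84839) (l := 6) rfl N84839 D217561
theorem N114306 : nd 114306 = n217562 := ndS (p := 84842) (l := 5) rfl N84842 D217562
theorem N114307 : nd 114307 = n217563 := ndS (p := 84843) (l := 3) rfl N84843 D217563
theorem N114308 : nd 114308 = n217564 := ndS (p := 84844) (l := 3) rfl N84844 D217564
theorem N114309 : nd 114309 = n217565 := ndS (p := 84844) (l := 6) rfl N84844 D217565
theorem N114310 : nd 114310 = n217566 := ndS (p := 84847) (l := 3) rfl N84847 D217566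
theorem N114311 : nd 114311 = n217567 := ndS (p := 84848) (l := 3) rfl N84848 D217567
theorem N114312 : nd 114312 = n217568 := ndS (p := 84848) (l := 5) rfl N84848 D217568
theorem N114313 : nd 114313 = n217569 := ndS (p := 84849) (l := 6) rfl N84849 D217569
theorem N114314 : nd 114314 = n217570 := ndS (p := 84850) (l := 5) rfl N84850 D217570
theorem N114315 : nd 114315 = n217571 := ndS (p := 84853) (l := 3) rfl N84853 D217571
theorem N114316 : nd 114316 = n217572 := ndS (p := 84854) (l := 0) rfl N84854 D217572
theorem N114317 : nd 114317 = n217573 := ndS (p := 84854) (l := 6) rfl N84854 D217573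
theorem N114318 : nd 114318 = n217574 := ndS (p := 84855) (l := 7) rfl N84855 D217574
theorem N114319 : nd 114319 = n217575 := ndS (p := 84858) (l := 3) rfl N84858 D217575
theorem N114320 : nd 114320 = n217576 := ndS (p := 84864) (l := 4) rfl N84864 D217576
theorem N114321 : nd 114321 = n217577 := ndS (p := 84864) (l := 6) rfl N84864 D217577
theorem N114322 : nd 114322 = n217578 := ndS (p := 84866) (l := 7) rfl N84866 D217578
theorem N114323 : nd 114323 = n217579 := ndS (p := 84867) (l := 5) rfl N84867 D217579
theorem N114324 : nd 114324 = n217580 := ndS (p := 84872) (l := 4) rfl N84872 D217580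
theorem N114325 : nd 114325 = n217581 := ndS (p := 84872) (l := 6) rfl N84872 D217581
theorem N114326 : nd 114326 = n217582 := ndS (p := 84874) (l := 5) rfl N84874 D217582
theorem N114327 : nd 114327 = n217583 := ndS (p := 84874) (l := 6) rfl N84874 D217583
theorem N114328 : nd 114328 = n217584 := ndS (p := 84875) (l := 1) rfl N84875 D217584
theorem N114329 : nd 114329 = n217585 := ndS (p := 84875) (l := 7) rfl N84875 D217585
theorem N114330 : nd 114330 = n217586 := ndS (p := 84876) (l := 4) rfl N84876 D217586
theorem N114331 : nd 114331 = n217587 := ndS (p := 84890) (l := 5) rfl N84890 D217587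
theorem N114332 : nd 114332 = n217588 := ndS (p := 84891) (l := 1) rfl N84891 D217588
theorem N114333 : nd 114333 = n217589 := ndS (p := 84893) (l := 7) rfl N84893 D217589
theorem N114334 : nd 114334 = n217590 := ndS (p := 84894) (l := 6) rfl N84894 D217590
theorem N114335 : nd 114335 = n217591 := ndS (p := 84895) (l := 3) rfl N84895 D217591
theorem N114336 : nd 114336 = n217592 := ndS (p := 84897) (l := 3) rfl N84897 D217592
theorem N114337 : nd 114337 = n217593 := ndS (p := 84898) (l := 3) rfl N84898 D217593
theorem N114338 : nd 114338 = n217594 := ndS (p := 84899) (l := 6) rfl N84899 D217594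
theorem N114339 : nd 114339 = n217595 := ndS (p := 84900) (l := 0) rfl N84900 D217595
theorem N114340 : nd 114340 = n217596 := ndS (p := 84900) (l := 5) rfl N84900 D217596
theorem N114341 : nd 114341 = n217597 := ndS (p := 84900) (l := 7) rfl N84900 D217597
theorem N114342 : nd 114342 = n217598 := ndS (p := 84901) (l := 3) rfl N84901 D217598
theorem N114343 : nd 114343 = n217599 := ndS (p := 84902) (l := 5) rfl N84902 D217599
theorem N114344 : nd 114344 = n217600 := ndS (p := 84904) (l := 0) rfl N84904 D217600
theorem N114345 : nd 114345 = n217601 := ndS (p := 84907) (l := 5) rfl N84907 D217601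
theorem N114346 : nd 114346 = n217602 := ndS (p := 84909) (l := 5) rfl N84909 D217602
theorem N114347 : nd 114347 = n217603 := ndS (p := 84910) (l := 7) rfl N84910 D217603
theorem N114348 : nd 114348 = n217604 := ndS (p := 84911) (l := 5) rfl N84911 D217604
theorem N114349 : nd 114349 = n217605 := ndS (p := 84915) (l := 1) rfl N84915 D217605
theorem N114350 : nd 114350 = n217606 := ndS (p := 84917) (l := 3) rfl N84917 D217606
theorem N114351 : nd 114351 = n217607 := ndS (p := 84917) (l := 6) rfl N84917 D217607
theorem N114352 : nd 114352 = n217608 := ndS (p := 84920) (l := 4) rfl N84920 D217608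
theorem N114353 : nd 114353 = n217609 := ndS (p := 84920) (l := 5) rfl N84920 D217609
theorem N114354 : nd 114354 = n217610 := ndS (p := 84921) (l := 3) rfl N84921 D217610
theorem N114355 : nd 114355 = n217611 := ndS (p := 84921) (l := 5) rfl N84921 D217611
theorem N114356 : nd 114356 = n217612 := ndS (p := 84921) (l := 6) rfl N84921 D217612
theorem N114357 : nd 114357 = n217613 := ndS (p := 84924) (l := 3) rfl N84924 D217613
theorem N114358 : nd 114358 = n217614 := ndS (p := 84924) (l := 5) rfl N84924 D217614
theorem N114359 : nd 114359 = n217615 := ndS (p := 84925) (l := 3) rfl N84925 D217615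
theorem N114360 : nd 114360 = n217616 := ndS (p := 84925) (l := 5) rfl N84925 D217616
theorem N114361 : nd 114361 = n217617 := ndS (p := 84925) (l := 6) rfl N84925 D217617
theorem N114362 : nd 114362 = n217618 := ndS (p := 84927) (l := 0) rfl N84927 D217618
theorem N114363 : nd 114363 = n217619 := ndS (p := 84927) (l := 1) rfl N84927 D217619
theorem N114364 : nd 114364 = n217620 := ndS (p := 84927) (l := 7) rfl N84927 D217620
theorem N114365 : nd 114365 = n217621 := ndS (p := 84929) (l := 3) rfl N84929 D217621
theorem N114366 : nd 114366 = n217622 := ndS (p := 84929) (l := 5) rfl N84929 D217622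
theorem N114367 : nd 114367 = n217623 := ndS (p := 84934) (l := 6) rfl N84934 D217623
theorem N114368 : nd 114368 = n217624 := ndS (p := 84942) (l := 4) rfl N84942 D217624
theorem N114369 : nd 114369 = n217625 := ndS (p := 84943) (l := 1) rfl N84943 D217625
theorem N114370 : nd 114370 = n217626 := ndS (p := 84943) (l := 3) rfl N84943 D217626
theorem N114371 : nd 114371 = n217627 := ndS (p := 84943) (l := 5) rfl N84943 D217627
theorem N114372 : nd 114372 = n217628 := ndS (p := 84950) (l := 7) rfl N84950 D217628
theorem N114373 : nd 114373 = n217629 := ndS (p := 84953) (l := 5) rfl N84953 D217629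
theorem N114374 : nd 114374 = n217630 := ndS (p := 84955) (l := 3) rfl N84955 D217630
theorem N114375 : nd 114375 = n217631 := ndS (p := 84955) (l := 5) rfl N84955 D217631
theorem N114376 : nd 114376 = n217632 := ndS (p := 84955) (l := 6) rfl N84955 D217632
theorem N114377 : nd 114377 = n217633 := ndS (p := 84957) (l := 0) rfl N84957 D217633
theorem N114378 : nd 114378 = n217634 := ndS (p := 84957) (l := 1) rfl N84957 D217634
theorem N114379 : nd 114379 = n217635 := ndS (p := 84957) (l := 2) rfl N84957 D217635
theorem N114380 : nd 114380 = n217636 := ndS (p := 84957) (l := 6) rfl N84957 D217636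
theorem N114381 : nd 114381 = n217637 := ndS (p := 84959) (l := 4) rfl N84959 D217637
theorem N114382 : nd 114382 = n217638 := ndS (p := 84961) (l := 4) rfl N84961 D217638
theorem N114383 : nd 114383 = n217639 := ndS (p := 84962) (l := 6) rfl N84962 D217639
theorem N114384 : nd 114384 = n217640 := ndS (p := 84964) (l := 2) rfl N84964 D217640
theorem N114385 : nd 114385 = n217641 := ndS (p := 84964) (l := 3) rfl N84964 D217641
theorem N114386 : nd 114386 = n217642 := ndS (p := 84964) (l := 4) rfl N84964 D217642
theorem N114387 : nd 114387 = n217643 := ndS (p := 84964) (l := 5) rfl N84964 D217643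
theorem N114388 : nd 114388 = n217644 := ndS (p := 84964) (l := 7) rfl N84964 D217644
theorem N114389 : nd 114389 = n217646 := ndS (p := 84965) (l := 4) rfl N84965 D217646
theorem N114390 : nd 114390 = n217647 := ndS (p := 84965) (l := 5) rfl N84965 D217647
theorem N114391 : nd 114391 = n217648 := ndS (p := 84965) (l := 6) rfl N84965 D217648
theorem N114392 : nd 114392 = n217649 := ndS (p := 84969) (l := 5) rfl N84969 D217649
theorem N114393 : nd 114393 = n217650 := ndS (p := 84973) (l := 4) rfl N84973 D217650
theorem N114394 : nd 114394 = n217651 := ndS (p := 84973) (l := 6) rfl N84973 D217651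
theorem N114395 : nd 114395 = n217652 := ndS (p := 84974) (l := 7) rfl N84974 D217652
theorem N114396 : nd 114396 = n217653 := ndS (p := 84977) (l := 4) rfl N84977 D217653
theorem N114397 : nd 114397 = n217654 := ndS (p := 84980) (l := 3) rfl N84980 D217654
theorem N114398 : nd 114398 = n217655 := ndS (p := 84980) (l := 4) rfl N84980 D217655
theorem N114399 : nd 114399 = n217656 := ndS (p := 84980) (l := 5) rfl N84980 D217656
theorem N114400 : nd 114400 = n217657 := ndS (p := 84981) (l := 3) rfl N84981 D217657
theorem N114401 : nd 114401 = n217658 := ndS (p := 84983) (l := 4) rfl N84983 D217658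
theorem N114402 : nd 114402 = n217659 := ndS (p := 84990) (l := 5) rfl N84990 D217659
theorem N114403 : nd 114403 = n217660 := ndS (p := 84992) (l := 0) rfl N84992 D217660
theorem N114404 : nd 114404 = n217661 := ndS (p := 84992) (l := 1) rfl N84992 D217661
theorem N114405 : nd 114405 = n217662 := ndS (p := 84992) (l := 3) rfl N84992 D217662
theorem N114406 : nd 114406 = n217663 := ndS (p := 84992) (l := 5) rfl N84992 D217663
theorem N114407 : nd 114407 = n217664 := ndS (p := 84993) (l := 3) rfl N84993 D217664
theorem N114408 : nd 114408 = n217665 := ndS (p := 84993) (l := 5) rfl N84993 D217665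
theorem N114409 : nd 114409 = n217666 := ndS (p := 84995) (l := 3) rfl N84995 D217666
theorem N114410 : nd 114410 = n217667 := ndS (p := 84995) (l := 5) rfl N84995 D217667
theorem N114411 : nd 114411 = n217668 := ndS (p := 84995) (l := 6) rfl N84995 D217668
theorem N114412 : nd 114412 = n217669 := ndS (p := 84996) (l := 0) rfl N84996 D217669
theorem N114413 : nd 114413 = n217670 := ndS (p := 84997) (l := 3) rfl N84997 D217670
theorem N114414 : nd 114414 = n217671 := ndS (p := 84997) (l := 5) rfl N84997 D217671
theorem N114415 : nd 114415 = n217672 := ndS (p := 84997) (l := 6) rfl N84997 D217672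
theorem N114416 : nd 114416 = n217673 := ndS (p := 84998) (l := 3) rfl N84998 D217673
theorem N114417 : nd 114417 = n217674 := ndS (p := 84998) (l := 5) rfl N84998 D217674
theorem N114418 : nd 114418 = n217675 := ndS (p := 84998) (l := 6) rfl N84998 D217675
theorem N114419 : nd 114419 = n217676 := ndS (p := 84999) (l := 5) rfl N84999 D217676
theorem N114420 : nd 114420 = n217677 := ndS (p := 85000) (l := 1) rfl N85000 D217677
theorem N114421 : nd 114421 = n217678 := ndS (p := 85000) (l := 4) rfl N85000 D217678
theorem N114422 : nd 114422 = n217679 := ndS (p := 85000) (l := 6) rfl N85000 D217679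
theorem N114423 : nd 114423 = n217680 := ndS (p := 85006) (l := 5) rfl N85006 D217680
theorem N114424 : nd 114424 = n217681 := ndS (p := 85011) (l := 5) rfl N85011 D217681
theorem N114425 : nd 114425 = n217682 := ndS (p := 85016) (l := 4) rfl N85016 D217682
theorem N114426 : nd 114426 = n217683 := ndS (p := 85024) (l := 5) rfl N85024 D217683
theorem N114427 : nd 114427 = n217684 := ndS (p := 85025) (l := 5) rfl N85025 D217684
theorem N114428 : nd 114428 = n217685 := ndS (p := 85026) (l := 2) rfl N85026 D217685
theorem N114429 : nd 114429 = n217686 := ndS (p := 85026) (l := 7) rfl N85026 D217686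
theorem N114430 : nd 114430 = n217687 := ndS (p := 85029) (l := 4) rfl N85029 D217687
theorem N114431 : nd 114431 = n217688 := ndS (p := 85031) (l := 6) rfl N85031 D217688
theorem N114432 : nd 114432 = n217689 := ndS (p := 85034) (l := 0) rfl N85034 D217689
theorem N114433 : nd 114433 = n217690 := ndS (p := 85034) (l := 5) rfl N85034 D217690
theorem N114434 : nd 114434 = n217691 := ndS (p := 85034) (l := 6) rfl N85034 D217691
theorem N114435 : nd 114435 = n217692 := ndS (p := 85038) (l := 4) rfl N85038 D217692
theorem N114436 : nd 114436 = n217693 := ndS (p := 85040) (l := 0) rfl N85040 D217693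
theorem N114437 : nd 114437 = n217694 := ndS (p := 85040) (l := 2) rfl N85040 D217694
theorem N114438 : nd 114438 = n217695 := ndS (p := 85043) (l := 0) rfl N85043 D217695
theorem N114439 : nd 114439 = n217696 := ndS (p := 85043) (l := 2) rfl N85043 D217696
theorem N114440 : nd 114440 = n217697 := ndS (p := 85048) (l := 6) rfl N85048 D217697
theorem N114441 : nd 114441 = n217698 := ndS (p := 85049) (l := 3) rfl N85049 D217698
theorem N114442 : nd 114442 = n217699 := ndS (p := 85049) (l := 5) rfl N85049 D217699
theorem N114443 : nd 114443 = n217700 := ndS (p := 85050) (l := 3) rfl N85050 D217700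
theorem N114444 : nd 114444 = n217701 := ndS (p := 85052) (l := 6) rfl N85052 D217701
theorem N114445 : nd 114445 = n217702 := ndS (p := 85054) (l := 7) rfl N85054 D217702
theorem N114446 : nd 114446 = n217703 := ndS (p := 85055) (l := 3) rfl N85055 D217703
theorem N114447 : nd 114447 = n217704 := ndS (p := 85055) (l := 6) rfl N85055 D217704
theorem N114448 : nd 114448 = n217705 := ndS (p := 85056) (l := 6) rfl N85056 D217705
theorem N114449 : nd 114449 = n217706 := ndS (p := 85058) (l := 4) rfl N85058 D217706
theorem N114450 : nd 114450 = n217707 := ndS (p := 85062) (l := 4) rfl N85062 D217707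
theorem N114451 : nd 114451 = n217708 := ndS (p := 85063) (l := 5) rfl N85063 D217708
theorem N114452 : nd 114452 = n217709 := ndS (p := 85065) (l := 5) rfl N85065 D217709
theorem N114453 : nd 114453 = n217710 := ndS (p := 85070) (l := 5) rfl N85070 D217710
theorem N114454 : nd 114454 = n217711 := ndS (p := 85074) (l := 6) rfl N85074 D217711
theorem N114455 : nd 114455 = n217712 := ndS (p := 85075) (l := 3) rfl N85075 D217712
theorem N114456 : nd 114456 = n217713 := ndS (p := 85077) (l := 6) rfl N85077 D217713
theorem N114457 : nd 114457 = n217714 := ndS (p := 85078) (l := 0) rfl N85078 D217714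
theorem N114458 : nd 114458 = n217715 := ndS (p := 85079) (l := 6) rfl N85079 D217715
theorem N114459 : nd 114459 = n217716 := ndS (p := 85080) (l := 7) rfl N85080 D217716
theorem N114460 : nd 114460 = n217717 := ndS (p := 85087) (l := 3) rfl N85087 D217717
theorem N114461 : nd 114461 = n217718 := ndS (p := 85089) (l := 1) rfl N85089 D217718
theorem N114462 : nd 114462 = n217719 := ndS (p := 85089) (l := 2) rfl N85089 D217719
theorem N114463 : nd 114463 = n217720 := ndS (p := 85089) (l := 5) rfl N85089 D217720
theorem N114464 : nd 114464 = n217721 := ndS (p := 85091) (l := 7) rfl N85091 D217721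
theorem N114465 : nd 114465 = n217722 := ndS (p := 85096) (l := 5) rfl N85096 D217722
theorem N114466 : nd 114466 = n217723 := ndS (p := 85097) (l := 3) rfl N85097 D217723
theorem N114467 : nd 114467 = n217724 := ndS (p := 85097) (l := 6) rfl N85097 D217724
theorem N114468 : nd 114468 = n217725 := ndS (p := 85098) (l := 0) rfl N85098 D217725
theorem N114469 : nd 114469 = n217726 := ndS (p := 85101) (l := 4) rfl N85101 D217726
theorem N114470 : nd 114470 = n217727 := ndS (p := 85104) (l := 5) rfl N85104 D217727
theorem N114471 : nd 114471 = n217728 := ndS (p := 85112) (l := 0) rfl N85112 D217728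
theorem N114472 : nd 114472 = n217729 := ndS (p := 85112) (l := 1) rfl N85112 D217729
theorem N114473 : nd 114473 = n217730 := ndS (p := 85112) (l := 5) rfl N85112 D217730
theorem N114474 : nd 114474 = n217731 := ndS (p := 85113) (l := 6) rfl N85113 D217731
theorem N114475 : nd 114475 = n217732 := ndS (p := 85116) (l := 6) rfl N85116 D217732
theorem N114476 : nd 114476 = n217733 := ndS (p := 85119) (l := 6) rfl N85119 D217733
theorem N114477 : nd 114477 = n217734 := ndS (p := 85123) (l := 3) rfl N85123 D217734
theorem N114478 : nd 114478 = n217735 := ndS (p := 85125) (l := 5) rfl N85125 D217735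
theorem N114479 : nd 114479 = n217736 := ndS (p := 85126) (l := 0) rfl N85126 D217736
theorem N114480 : nd 114480 = n217737 := ndS (p := 85126) (l := 1) rfl N85126 D217737
theorem N114481 : nd 114481 = n217738 := ndS (p := 85127) (l := 4) rfl N85127 D217738
theorem N114482 : nd 114482 = n217739 := ndS (p := 85128) (l := 0) rfl N85128 D217739
theorem N114483 : nd 114483 = n217740 := ndS (p := 85129) (l := 0) rfl N85129 D217740
theorem N114484 : nd 114484 = n217741 := ndS (p := 85129) (l := 7) rfl N85129 D217741
theorem N114485 : nd 114485 = n217742 := ndS (p := 85130) (l := 5) rfl N85130 D217742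
theorem N114486 : nd 114486 = n217743 := ndS (p := 85131) (l := 1) rfl N85131 D217743
theorem N114487 : nd 114487 = n217744 := ndS (p := 85132) (l := 5) rfl N85132 D217744
theorem N114488 : nd 114488 = n217745 := ndS (p := 85134) (l := 3) rfl N85134 D217745
theorem N114489 : nd 114489 = n217746 := ndS (p := 85134) (l := 5) rfl N85134 D217746
theorem N114490 : nd 114490 = n217747 := ndS (p := 85134) (l := 6) rfl N85134 D217747
theorem N114491 : nd 114491 = n217748 := ndS (p := 85135) (l := 3) rfl N85135 D217748
theorem N114492 : nd 114492 = n217749 := ndS (p := 85135) (l := 5) rfl N85135 D217749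
theorem N114493 : nd 114493 = n217750 := ndS (p := 85136) (l := 1) rfl N85136 D217750
theorem N114494 : nd 114494 = n217751 := ndS (p := 85137) (l := 0) rfl N85137 D217751
theorem N114495 : nd 114495 = n217752 := ndS (p := 85137) (l := 1) rfl N85137 D217752
theorem N114496 : nd 114496 = n217753 := ndS (p := 85137) (l := 4) rfl N85137 D217753
theorem N114497 : nd 114497 = n217754 := ndS (p := 85140) (l := 3) rfl N85140 D217754
theorem N114498 : nd 114498 = n217755 := ndS (p := 85143) (l := 5) rfl N85143 D217755
theorem N114499 : nd 114499 = n217756 := ndS (p := 85144) (l := 5) rfl N85144 D217756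
theorem N114500 : nd 114500 = n217757 := ndS (p := 85149) (l := 1) rfl N85149 D217757
theorem N114501 : nd 114501 = n217758 := ndS (p := 85149) (l := 2) rfl N85149 D217758
theorem N114502 : nd 114502 = n217759 := ndS (p := 85153) (l := 4) rfl N85153 D217759
theorem N114503 : nd 114503 = n217760 := ndS (p := 85154) (l := 4) rfl N85154 D217760
theorem N114504 : nd 114504 = n217761 := ndS (p := 85154) (l := 6) rfl N85154 D217761
theorem N114505 : nd 114505 = n217762 := ndS (p := 85157) (l := 5) rfl N85157 D217762
theorem N114506 : nd 114506 = n217763 := ndS (p := 85158) (l := 1) rfl N85158 D217763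
theorem N114507 : nd 114507 = n217764 := ndS (p := 85161) (l := 0) rfl N85161 D217764
theorem N114508 : nd 114508 = n217765 := ndS (p := 85161) (l := 7) rfl N85161 D217765
theorem N114509 : nd 114509 = n217766 := ndS (p := 85165) (l := 4) rfl N85165 D217766
theorem N114510 : nd 114510 = n217767 := ndS (p := 85166) (l := 3) rfl N85166 D217767
theorem N114511 : nd 114511 = n217768 := ndS (p := 85166) (l := 6) rfl N85166 D217768
theorem N114512 : nd 114512 = n217769 := ndS (p := 85167) (l := 4) rfl N85167 D217769
theorem N114513 : nd 114513 = n217770 := ndS (p := 85168) (l := 5) rfl N85168 D217770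
theorem N114514 : nd 114514 = n217771 := ndS (p := 85169) (l := 3) rfl N85169 D217771
theorem N114515 : nd 114515 = n217772 := ndS (p := 85169) (l := 4) rfl N85169 D217772
theorem N114516 : nd 114516 = n217773 := ndS (p := 85170) (l := 4) rfl N85170 D217773
theorem N114517 : nd 114517 = n217774 := ndS (p := 85171) (l := 0) rfl N85171 D217774
theorem N114518 : nd 114518 = n217775 := ndS (p := 85171) (l := 1) rfl N85171 D217775
theorem N114519 : nd 114519 = n217776 := ndS (p := 85171) (l := 3) rfl N85171 D217776
theorem N114520 : nd 114520 = n217777 := ndS (p := 85171) (l := 7) rfl N85171 D217777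
theorem N114521 : nd 114521 = n217778 := ndS (p := 85178) (l := 4) rfl N85178 D217778
theorem N114522 : nd 114522 = n217779 := ndS (p := 85181) (l := 4) rfl N85181 D217779
theorem N114523 : nd 114523 = n217780 := ndS (p := 85181) (l := 6) rfl N85181 D217780
theorem N114524 : nd 114524 = n217781 := ndS (p := 85182) (l := 5) rfl N85182 D217781
theorem N114525 : nd 114525 = n217782 := ndS (p := 85183) (l := 0) rfl N85183 D217782
theorem N114526 : nd 114526 = n217783 := ndS (p := 85183) (l := 1) rfl N85183 D217783
theorem N114527 : nd 114527 = n217784 := ndS (p := 85183) (l := 5) rfl N85183 D217784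
theorem N114528 : nd 114528 = n217785 := ndS (p := 85183) (l := 7) rfl N85183 D217785
theorem N114529 : nd 114529 = n217786 := ndS (p := 85188) (l := 3) rfl N85188 D217786
theorem N114530 : nd 114530 = n217787 := ndS (p := 85192) (l := 5) rfl N85192 D217787
theorem N114531 : nd 114531 = n217788 := ndS (p := 85192) (l := 6) rfl N85192 D217788
theorem N114532 : nd 114532 = n217789 := ndS (p := 85194) (l := 0) rfl N85194 D217789
theorem N114533 : nd 114533 = n217790 := ndS (p := 85194) (l := 1) rfl N85194 D217790
theorem N114534 : nd 114534 = n217791 := ndS (p := 85194) (l := 7) rfl N85194 D217791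
theorem N114535 : nd 114535 = n217792 := ndS (p := 85196) (l := 3) rfl N85196 D217792
theorem N114536 : nd 114536 = n217793 := ndS (p := 85197) (l := 5) rfl N85197 D217793
theorem N114537 : nd 114537 = n217794 := ndS (p := 85198) (l := 0) rfl N85198 D217794
theorem N114538 : nd 114538 = n217795 := ndS (p := 85198) (l := 1) rfl N85198 D217795
theorem N114539 : nd 114539 = n217796 := ndS (p := 85199) (l := 0) rfl N85199 D217796
theorem N114540 : nd 114540 = n217797 := ndS (p := 85199) (l := 5) rfl N85199 D217797
theorem N114541 : nd 114541 = n217798 := ndS (p := 85211) (l := 6) rfl N85211 D217798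
theorem N114542 : nd 114542 = n217799 := ndS (p := 85212) (l := 6) rfl N85212 D217799
theorem N114543 : nd 114543 = n217800 := ndS (p := 85214) (l := 0) rfl N85214 D217800
theorem N114544 : nd 114544 = n217801 := ndS (p := 85224) (l := 5) rfl N85224 D217801
theorem N114545 : nd 114545 = n217802 := ndS (p := 85224) (l := 6) rfl N85224 D217802
theorem N114546 : nd 114546 = n217803 := ndS (p := 85228) (l := 6) rfl N85228 D217803
theorem N114547 : nd 114547 = n217804 := ndS (p := 85229) (l := 6) rfl N85229 D217804
theorem N114548 : nd 114548 = n217805 := ndS (p := 85231) (l := 4) rfl N85231 D217805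
theorem N114549 : nd 114549 = n217806 := ndS (p := 85232) (l := 6) rfl N85232 D217806
theorem N114550 : nd 114550 = n217807 := ndS (p := 85233) (l := 4) rfl N85233 D217807
theorem N114551 : nd 114551 = n217808 := ndS (p := 85234) (l := 0) rfl N85234 D217808
theorem N114552 : nd 114552 = n217809 := ndS (p := 85234) (l := 1) rfl N85234 D217809
theorem N114553 : nd 114553 = n217810 := ndS (p := 85234) (l := 6) rfl N85234 D217810
theorem N114554 : nd 114554 = n217811 := ndS (p := 85235) (l := 0) rfl N85235 D217811
theorem N114555 : nd 114555 = n217812 := ndS (p := 85235) (l := 7) rfl N85235 D217812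
theorem N114556 : nd 114556 = n217813 := ndS (p := 85244) (l := 3) rfl N85244 D217813
theorem N114557 : nd 114557 = n217814 := ndS (p := 85248) (l := 4) rfl N85248 D217814
theorem N114558 : nd 114558 = n217815 := ndS (p := 85250) (l := 6) rfl N85250 D217815
theorem N114559 : nd 114559 = n217816 := ndS (p := 85251) (l := 5) rfl N85251 D217816
theorem N114560 : nd 114560 = n217817 := ndS (p := 85255) (l := 3) rfl N85255 D217817
theorem N114561 : nd 114561 = n217818 := ndS (p := 85255) (l := 5) rfl N85255 D217818
theorem N114562 : nd 114562 = n217819 := ndS (p := 85255) (l := 6) rfl N85255 D217819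
theorem N114563 : nd 114563 = n217820 := ndS (p := 85256) (l := 6) rfl N85256 D217820
theorem N114564 : nd 114564 = n217821 := ndS (p := 85257) (l := 0) rfl N85257 D217821
theorem N114565 : nd 114565 = n217822 := ndS (p := 85258) (l := 5) rfl N85258 D217822
theorem N114566 : nd 114566 = n217823 := ndS (p := 85258) (l := 6) rfl N85258 D217823
theorem N114567 : nd 114567 = n217824 := ndS (p := 85259) (l := 6) rfl N85259 D217824
theorem N114568 : nd 114568 = n217825 := ndS (p := 85260) (l := 4) rfl N85260 D217825
theorem N114569 : nd 114569 = n217826 := ndS (p := 85260) (l := 6) rfl N85260 D217826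
theorem N114570 : nd 114570 = n217827 := ndS (p := 85262) (l := 4) rfl N85262 D217827
theorem N114571 : nd 114571 = n217828 := ndS (p := 85267) (l := 6) rfl N85267 D217828
theorem N114572 : nd 114572 = n217829 := ndS (p := 85269) (l := 0) rfl N85269 D217829
theorem N114573 : nd 114573 = n217830 := ndS (p := 85269) (l := 5) rfl N85269 D217830
theorem N114574 : nd 114574 = n217831 := ndS (p := 85277) (l := 5) rfl N85277 D217831
theorem N114575 : nd 114575 = n217832 := ndS (p := 85278) (l := 5) rfl N85278 D217832
theorem N114576 : nd 114576 = n217833 := ndS (p := 85282) (l := 6) rfl N85282 D217833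
theorem N114577 : nd 114577 = n217834 := ndS (p := 85284) (l := 5) rfl N85284 D217834
theorem N114578 : nd 114578 = n217835 := ndS (p := 85288) (l := 4) rfl N85288 D217835
theorem N114579 : nd 114579 = n217836 := ndS (p := 85290) (l := 5) rfl N85290 D217836
theorem N114580 : nd 114580 = n217837 := ndS (p := 85291) (l := 5) rfl N85291 D217837
theorem N114581 : nd 114581 = n217838 := ndS (p := 85292) (l := 5) rfl N85292 D217838
theorem N114582 : nd 114582 = n217839 := ndS (p := 85292) (l := 6) rfl N85292 D217839
theorem N114583 : nd 114583 = n217840 := ndS (p := 85293) (l := 0) rfl N85293 D217840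
theorem N114584 : nd 114584 = n217841 := ndS (p := 85295) (l := 4) rfl N85295 D217841
theorem N114585 : nd 114585 = n217842 := ndS (p := 85301) (l := 6) rfl N85301 D217842
theorem N114586 : nd 114586 = n217843 := ndS (p := 85305) (l := 1) rfl N85305 D217843
theorem N114587 : nd 114587 = n217844 := ndS (p := 85305) (l := 7) rfl N85305 D217844
theorem N114588 : nd 114588 = n217845 := ndS (p := 85309) (l := 6) rfl N85309 D217845
theorem N114589 : nd 114589 = n217846 := ndS (p := 85310) (l := 1) rfl N85310 D217846
theorem N114590 : nd 114590 = n217847 := ndS (p := 85310) (l := 5) rfl N85310 D217847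
theorem N114591 : nd 114591 = n217848 := ndS (p := 85310) (l := 7) rfl N85310 D217848
theorem N114592 : nd 114592 = n217849 := ndS (p := 85311) (l := 1) rfl N85311 D217849
theorem N114593 : nd 114593 = n217850 := ndS (p := 85311) (l := 7) rfl N85311 D217850
theorem N114594 : nd 114594 = n217851 := ndS (p := 85313) (l := 2) rfl N85313 D217851
theorem N114595 : nd 114595 = n217852 := ndS (p := 85314) (l := 3) rfl N85314 D217852
theorem N114596 : nd 114596 = n217853 := ndS (p := 85315) (l := 4) rfl N85315 D217853
theorem N114597 : nd 114597 = n217854 := ndS (p := 85316) (l := 2) rfl N85316 D217854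
theorem N114598 : nd 114598 = n217855 := ndS (p := 85316) (l := 6) rfl N85316 D217855
theorem N114599 : nd 114599 = n217856 := ndS (p := 85317) (l := 5) rfl N85317 D217856
theorem N114600 : nd 114600 = n217857 := ndS (p := 85318) (l := 4) rfl N85318 D217857
theorem N114601 : nd 114601 = n217858 := ndS (p := 85319) (l := 0) rfl N85319 D217858
theorem N114602 : nd 114602 = n217859 := ndS (p := 85319) (l := 5) rfl N85319 D217859
theorem N114603 : nd 114603 = n217860 := ndS (p := 85322) (l := 3) rfl N85322 D217860
theorem N114604 : nd 114604 = n217861 := ndS (p := 85322) (l := 5) rfl N85322 D217861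
theorem N114605 : nd 114605 = n217862 := ndS (p := 85322) (l := 7) rfl N85322 D217862
theorem N114606 : nd 114606 = n217863 := ndS (p := 85324) (l := 0) rfl N85324 D217863
theorem N114607 : nd 114607 = n217864 := ndS (p := 85324) (l := 1) rfl N85324 D217864
theorem N114608 : nd 114608 = n217865 := ndS (p := 85324) (l := 2) rfl N85324 D217865
theorem N114609 : nd 114609 = n217866 := ndS (p := 85330) (l := 4) rfl N85330 D217866
theorem N114610 : nd 114610 = n217867 := ndS (p := 85330) (l := 5) rfl N85330 D217867
theorem N114611 : nd 114611 = n217868 := ndS (p := 85331) (l := 4) rfl N85331 D217868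
theorem N114612 : nd 114612 = n217869 := ndS (p := 85331) (l := 5) rfl N85331 D217869
theorem N114613 : nd 114613 = n217870 := ndS (p := 85333) (l := 4) rfl N85333 D217870
theorem N114614 : nd 114614 = n217871 := ndS (p := 85334) (l := 6) rfl N85334 D217871
theorem N114615 : nd 114615 = n217872 := ndS (p := 85335) (l := 6) rfl N85335 D217872
theorem N114616 : nd 114616 = n217873 := ndS (p := 85337) (l := 5) rfl N85337 D217873
theorem N114617 : nd 114617 = n217874 := ndS (p := 85337) (l := 6) rfl N85337 D217874
theorem N114618 : nd 114618 = n217875 := ndS (p := 85338) (l := 0) rfl N85338 D217875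
theorem N114619 : nd 114619 = n217876 := ndS (p := 85338) (l := 1) rfl N85338 D217876
theorem N114620 : nd 114620 = n217877 := ndS (p := 85338) (l := 7) rfl N85338 D217877
theorem N114621 : nd 114621 = n217878 := ndS (p := 85341) (l := 5) rfl N85341 D217878
theorem N114622 : nd 114622 = n217879 := ndS (p := 85348) (l := 3) rfl N85348 D217879
theorem N114623 : nd 114623 = n217880 := ndS (p := 85348) (l := 5) rfl N85348 D217880
theorem N114624 : nd 114624 = n217881 := ndS (p := 85348) (l := 6) rfl N85348 D217881
theorem N114625 : nd 114625 = n217882 := ndS (p := 85350) (l := 5) rfl N85350 D217882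
theorem N114626 : nd 114626 = n217883 := ndS (p := 85351) (l := 6) rfl N85351 D217883
theorem N114627 : nd 114627 = n217884 := ndS (p := 85352) (l := 3) rfl N85352 D217884
theorem N114628 : nd 114628 = n217885 := ndS (p := 85352) (l := 5) rfl N85352 D217885
theorem N114629 : nd 114629 = n217886 := ndS (p := 85352) (l := 6) rfl N85352 D217886
theorem N114630 : nd 114630 = n217887 := ndS (p := 85354) (l := 5) rfl N85354 D217887
theorem N114631 : nd 114631 = n217888 := ndS (p := 85355) (l := 5) rfl N85355 D217888
theorem N114632 : nd 114632 = n217889 := ndS (p := 85355) (l := 6) rfl N85355 D217889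
theorem N114633 : nd 114633 = n217890 := ndS (p := 85356) (l := 5) rfl N85356 D217890
theorem N114634 : nd 114634 = n217891 := ndS (p := 85357) (l := 1) rfl N85357 D217891
theorem N114635 : nd 114635 = n217892 := ndS (p := 85358) (l := 1) rfl N85358 D217892
theorem N114636 : nd 114636 = n217893 := ndS (p := 85358) (l := 4) rfl N85358 D217893
theorem N114637 : nd 114637 = n217894 := ndS (p := 85358) (l := 6) rfl N85358 D217894
theorem N114638 : nd 114638 = n217895 := ndS (p := 85362) (l := 7) rfl N85362 D217895
theorem N114639 : nd 114639 = n217896 := ndS (p := 85364) (l := 5) rfl N85364 D217896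
theorem N114640 : nd 114640 = n217897 := ndS (p := 85366) (l := 5) rfl N85366 D217897
theorem N114641 : nd 114641 = n217898 := ndS (p := 85372) (l := 0) rfl N85372 D217898
theorem N114642 : nd 114642 = n217899 := ndS (p := 85372) (l := 1) rfl N85372 D217899
theorem N114643 : nd 114643 = n217900 := ndS (p := 85372) (l := 5) rfl N85372 D217900
theorem N114644 : nd 114644 = n217901 := ndS (p := 85372) (l := 6) rfl N85372 D217901
theorem N114645 : nd 114645 = n217902 := ndS (p := 85379) (l := 5) rfl N85379 D217902
theorem N114646 : nd 114646 = n217903 := ndS (p := 85380) (l := 4) rfl N85380 D217903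
theorem N114647 : nd 114647 = n217904 := ndS (p := 85382) (l := 4) rfl N85382 D217904
theorem N114648 : nd 114648 = n217905 := ndS (p := 85384) (l := 4) rfl N85384 D217905
theorem N114649 : nd 114649 = n217906 := ndS (p := 85389) (l := 6) rfl N85389 D217906
theorem N114650 : nd 114650 = n217907 := ndS (p := 85390) (l := 5) rfl N85390 D217907
theorem N114651 : nd 114651 = n217908 := ndS (p := 85390) (l := 6) rfl N85390 D217908
theorem N114652 : nd 114652 = n217909 := ndS (p := 85391) (l := 1) rfl N85391 D217909
theorem N114653 : nd 114653 = n217910 := ndS (p := 85391) (l := 7) rfl N85391 D217910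
theorem N114654 : nd 114654 = n217911 := ndS (p := 85392) (l := 3) rfl N85392 D217911
theorem N114655 : nd 114655 = n217912 := ndS (p := 85392) (l := 5) rfl N85392 D217912
theorem N114656 : nd 114656 = n217913 := ndS (p := 85393) (l := 6) rfl N85393 D217913
theorem N114657 : nd 114657 = n217914 := ndS (p := 85398) (l := 3) rfl N85398 D217914
theorem N114658 : nd 114658 = n217915 := ndS (p := 85399) (l := 3) rfl N85399 D217915
theorem N114659 : nd 114659 = n217916 := ndS (p := 85404) (l := 1) rfl N85404 D217916
theorem N114660 : nd 114660 = n217917 := ndS (p := 85404) (l := 4) rfl N85404 D217917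
theorem N114661 : nd 114661 = n217918 := ndS (p := 85405) (l := 6) rfl N85405 D217918
theorem N114662 : nd 114662 = n217919 := ndS (p := 85409) (l := 5) rfl N85409 D217919
theorem N114663 : nd 114663 = n217920 := ndS (p := 85413) (l := 1) rfl N85413 D217920
theorem N114664 : nd 114664 = n217921 := ndS (p := 85413) (l := 6) rfl N85413 D217921
theorem N114665 : nd 114665 = n217922 := ndS (p := 85418) (l := 6) rfl N85418 D217922
theorem N114666 : nd 114666 = n217923 := ndS (p := 85419) (l := 0) rfl N85419 D217923
theorem N114667 : nd 114667 = n217924 := ndS (p := 85421) (l := 5) rfl N85421 D217924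
theorem N114668 : nd 114668 = n217925 := ndS (p := 85425) (l := 6) rfl N85425 D217925
theorem N114669 : nd 114669 = n217926 := ndS (p := 85426) (l := 6) rfl N85426 D217926
theorem N114670 : nd 114670 = n217927 := ndS (p := 85427) (l := 1) rfl N85427 D217927
theorem N114671 : nd 114671 = n217928 := ndS (p := 85427) (l := 7) rfl N85427 D217928
theorem N114672 : nd 114672 = n217929 := ndS (p := 85428) (l := 2) rfl N85428 D217929
theorem N114673 : nd 114673 = n217930 := ndS (p := 85428) (l := 6) rfl N85428 D217930
theorem N114674 : nd 114674 = n217931 := ndS (p := 85430) (l := 5) rfl N85430 D217931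
theorem N114675 : nd 114675 = n217932 := ndS (p := 85430) (l := 7) rfl N85430 D217932
theorem N114676 : nd 114676 = n217933 := ndS (p := 85436) (l := 6) rfl N85436 D217933
theorem N114677 : nd 114677 = n217934 := ndS (p := 85437) (l := 6) rfl N85437 D217934
theorem N114678 : nd 114678 = n217935 := ndS (p := 85438) (l := 3) rfl N85438 D217935
theorem N114679 : nd 114679 = n217936 := ndS (p := 85438) (l := 5) rfl N85438 D217936
theorem N114680 : nd 114680 = n217937 := ndS (p := 85439) (l := 5) rfl N85439 D217937
theorem N114681 : nd 114681 = n217938 := ndS (p := 85440) (l := 0) rfl N85440 D217938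
theorem N114682 : nd 114682 = n217939 := ndS (p := 85441) (l := 0) rfl N85441 D217939
theorem N114683 : nd 114683 = n217940 := ndS (p := 85441) (l := 1) rfl N85441 D217940
theorem N114684 : nd 114684 = n217941 := ndS (p := 85441) (l := 3) rfl N85441 D217941
theorem N114685 : nd 114685 = n217942 := ndS (p := 85441) (l := 5) rfl N85441 D217942
theorem N114686 : nd 114686 = n217943 := ndS (p := 85442) (l := 2) rfl N85442 D217943
theorem N114687 : nd 114687 = n217944 := ndS (p := 85442) (l := 4) rfl N85442 D217944
theorem N114688 : nd 114688 = n217945 := ndS (p := 85442) (l := 5) rfl N85442 D217945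
theorem N114689 : nd 114689 = n217946 := ndS (p := 85443) (l := 0) rfl N85443 D217946
theorem N114690 : nd 114690 = n217947 := ndS (p := 85443) (l := 1) rfl N85443 D217947
theorem N114691 : nd 114691 = n217948 := ndS (p := 85443) (l := 4) rfl N85443 D217948
theorem N114692 : nd 114692 = n217949 := ndS (p := 85444) (l := 1) rfl N85444 D217949
theorem N114693 : nd 114693 = n217950 := ndS (p := 85444) (l := 2) rfl N85444 D217950
theorem N114694 : nd 114694 = n217951 := ndS (p := 85444) (l := 5) rfl N85444 D217951
theorem N114695 : nd 114695 = n217952 := ndS (p := 85444) (l := 6) rfl N85444 D217952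
theorem N114696 : nd 114696 = n217953 := ndS (p := 85445) (l := 4) rfl N85445 D217953
theorem N114697 : nd 114697 = n217954 := ndS (p := 85447) (l := 3) rfl N85447 D217954
theorem N114698 : nd 114698 = n217955 := ndS (p := 85448) (l := 3) rfl N85448 D217955
theorem N114699 : nd 114699 = n217956 := ndS (p := 85448) (l := 6) rfl N85448 D217956
theorem N114700 : nd 114700 = n217957 := ndS (p := 85449) (l := 1) rfl N85449 D217957
theorem N114701 : nd 114701 = n217958 := ndS (p := 85449) (l := 3) rfl N85449 D217958
theorem N114702 : nd 114702 = n217959 := ndS (p := 85449) (l := 5) rfl N85449 D217959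
theorem N114703 : nd 114703 = n217960 := ndS (p := 85449) (l := 7) rfl N85449 D217960
theorem N114704 : nd 114704 = n217961 := ndS (p := 85451) (l := 0) rfl N85451 D217961
theorem N114705 : nd 114705 = n217962 := ndS (p := 85454) (l := 5) rfl N85454 D217962
theorem N114706 : nd 114706 = n217963 := ndS (p := 85456) (l := 5) rfl N85456 D217963
theorem N114707 : nd 114707 = n217964 := ndS (p := 85459) (l := 6) rfl N85459 D217964
theorem N114708 : nd 114708 = n217965 := ndS (p := 85461) (l := 5) rfl N85461 D217965
theorem N114709 : nd 114709 = n217966 := ndS (p := 85467) (l := 4) rfl N85467 D217966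
theorem N114710 : nd 114710 = n217967 := ndS (p := 85467) (l := 6) rfl N85467 D217967
theorem N114711 : nd 114711 = n217968 := ndS (p := 85469) (l := 1) rfl N85469 D217968
theorem N114712 : nd 114712 = n217969 := ndS (p := 85469) (l := 7) rfl N85469 D217969
theorem N114713 : nd 114713 = n217970 := ndS (p := 85470) (l := 6) rfl N85470 D217970
theorem N114714 : nd 114714 = n217971 := ndS (p := 85471) (l := 6) rfl N85471 D217971
theorem N114715 : nd 114715 = n217972 := ndS (p := 85475) (l := 1) rfl N85475 D217972
theorem N114716 : nd 114716 = n217973 := ndS (p := 85475) (l := 7) rfl N85475 D217973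
theorem N114717 : nd 114717 = n217974 := ndS (p := 85479) (l := 4) rfl N85479 D217974
theorem N114718 : nd 114718 = n217975 := ndS (p := 85480) (l := 3) rfl N85480 D217975
theorem N114719 : nd 114719 = n217976 := ndS (p := 85482) (l := 1) rfl N85482 D217976
theorem N114720 : nd 114720 = n217977 := ndS (p := 85483) (l := 4) rfl N85483 D217977
theorem N114721 : nd 114721 = n217978 := ndS (p := 85487) (l := 5) rfl N85487 D217978
theorem N114722 : nd 114722 = n217979 := ndS (p := 85498) (l := 6) rfl N85498 D217979
theorem N114723 : nd 114723 = n217980 := ndS (p := 85499) (l := 1) rfl N85499 D217980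
theorem N114724 : nd 114724 = n217981 := ndS (p := 85499) (l := 7) rfl N85499 D217981
theorem N114725 : nd 114725 = n217982 := ndS (p := 85501) (l := 5) rfl N85501 D217982
theorem N114726 : nd 114726 = n217983 := ndS (p := 85506) (l := 6) rfl N85506 D217983
theorem N114727 : nd 114727 = n217984 := ndS (p := 85508) (l := 4) rfl N85508 D217984
theorem N114728 : nd 114728 = n217985 := ndS (p := 85510) (l := 6) rfl N85510 D217985
theorem N114729 : nd 114729 = n217986 := ndS (p := 85512) (l := 3) rfl N85512 D217986
theorem N114730 : nd 114730 = n217987 := ndS (p := 85512) (l := 5) rfl N85512 D217987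
theorem N114731 : nd 114731 = n217988 := ndS (p := 85513) (l := 1) rfl N85513 D217988
theorem N114732 : nd 114732 = n217989 := ndS (p := 85513) (l := 4) rfl N85513 D217989
theorem N114733 : nd 114733 = n217990 := ndS (p := 85513) (l := 7) rfl N85513 D217990
theorem N114734 : nd 114734 = n217991 := ndS (p := 85516) (l := 3) rfl N85516 D217991
theorem N114735 : nd 114735 = n217992 := ndS (p := 85516) (l := 6) rfl N85516 D217992
theorem N114736 : nd 114736 = n217993 := ndS (p := 85518) (l := 1) rfl N85518 D217993
theorem N114737 : nd 114737 = n217994 := ndS (p := 85518) (l := 4) rfl N85518 D217994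
theorem N114738 : nd 114738 = n217995 := ndS (p := 85519) (l := 5) rfl N85519 D217995
theorem N114739 : nd 114739 = n217996 := ndS (p := 85519) (l := 6) rfl N85519 D217996
theorem N114740 : nd 114740 = n217997 := ndS (p := 85520) (l := 4) rfl N85520 D217997
theorem N114741 : nd 114741 = n217998 := ndS (p := 85522) (l := 5) rfl N85522 D217998
theorem N114742 : nd 114742 = n217999 := ndS (p := 85523) (l := 3) rfl N85523 D217999
theorem N114743 : nd 114743 = n218000 := ndS (p := 85524) (l := 3) rfl N85524 D218000
theorem N114744 : nd 114744 = n218001 := ndS (p := 85524) (l := 5) rfl N85524 D218001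
theorem N114745 : nd 114745 = n218002 := ndS (p := 85524) (l := 7) rfl N85524 D218002
theorem N114746 : nd 114746 = n218003 := ndS (p := 85527) (l := 6) rfl N85527 D218003
theorem N114747 : nd 114747 = n218004 := ndS (p := 85528) (l := 4) rfl N85528 D218004
theorem N114748 : nd 114748 = n218005 := ndS (p := 85529) (l := 5) rfl N85529 D218005
theorem N114749 : nd 114749 = n218006 := ndS (p := 85530) (l := 1) rfl N85530 D218006
theorem N114750 : nd 114750 = n218007 := ndS (p := 85535) (l := 5) rfl N85535 D218007
theorem N114751 : nd 114751 = n218008 := ndS (p := 85536) (l := 6) rfl N85536 D218008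
theorem N114752 : nd 114752 = n218009 := ndS (p := 85542) (l := 3) rfl N85542 D218009
theorem N114753 : nd 114753 = n218010 := ndS (p := 85544) (l := 7) rfl N85544 D218010
theorem N114754 : nd 114754 = n218011 := ndS (p := 85548) (l := 0) rfl N85548 D218011
theorem N114755 : nd 114755 = n218012 := ndS (p := 85548) (l := 2) rfl N85548 D218012
theorem N114756 : nd 114756 = n218013 := ndS (p := 85548) (l := 4) rfl N85548 D218013
theorem N114757 : nd 114757 = n218014 := ndS (p := 85549) (l := 6) rfl N85549 D218014
theorem N114758 : nd 114758 = n218015 := ndS (p := 85550) (l := 6) rfl N85550 D218015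
theorem N114759 : nd 114759 = n218016 := ndS (p := 85551) (l := 1) rfl N85551 D218016
theorem N114760 : nd 114760 = n218017 := ndS (p := 85551) (l := 7) rfl N85551 D218017
theorem N114761 : nd 114761 = n218018 := ndS (p := 85559) (l := 1) rfl N85559 D218018
theorem N114762 : nd 114762 = n218019 := ndS (p := 85562) (l := 1) rfl N85562 D218019
theorem N114763 : nd 114763 = n218020 := ndS (p := 85562) (l := 3) rfl N85562 D218020
theorem N114764 : nd 114764 = n218021 := ndS (p := 85562) (l := 5) rfl N85562 D218021
theorem N114765 : nd 114765 = n218022 := ndS (p := 85565) (l := 5) rfl N85565 D218022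
theorem N114766 : nd 114766 = n218023 := ndS (p := 85569) (l := 6) rfl N85569 D218023
theorem N114767 : nd 114767 = n218024 := ndS (p := 85572) (l := 6) rfl N85572 D218024
theorem N114768 : nd 114768 = n218025 := ndS (p := 85573) (l := 7) rfl N85573 D218025
theorem N114769 : nd 114769 = n218026 := ndS (p := 85579) (l := 6) rfl N85579 D218026
theorem N114770 : nd 114770 = n218027 := ndS (p := 85580) (l := 0) rfl N85580 D218027
theorem N114771 : nd 114771 = n218028 := ndS (p := 85585) (l := 3) rfl N85585 D218028
theorem N114772 : nd 114772 = n218029 := ndS (p := 85585) (l := 6) rfl N85585 D218029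
theorem N114773 : nd 114773 = n218030 := ndS (p := 85587) (l := 0) rfl N85587 D218030
theorem N114774 : nd 114774 = n218031 := ndS (p := 85591) (l := 4) rfl N85591 D218031
theorem N114775 : nd 114775 = n218032 := ndS (p := 85594) (l := 0) rfl N85594 D218032
theorem N114776 : nd 114776 = n218033 := ndS (p := 85594) (l := 5) rfl N85594 D218033
theorem N114777 : nd 114777 = n218034 := ndS (p := 85595) (l := 7) rfl N85595 D218034
theorem N114778 : nd 114778 = n218035 := ndS (p := 85597) (l := 5) rfl N85597 D218035
theorem N114779 : nd 114779 = n218036 := ndS (p := 85599) (l := 4) rfl N85599 D218036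
theorem N114780 : nd 114780 = n218037 := ndS (p := 85601) (l := 6) rfl N85601 D218037
theorem N114781 : nd 114781 = n218038 := ndS (p := 85602) (l := 6) rfl N85602 D218038
theorem N114782 : nd 114782 = n218039 := ndS (p := 85604) (l := 6) rfl N85604 D218039
theorem N114783 : nd 114783 = n218040 := ndS (p := 85606) (l := 5) rfl N85606 D218040
theorem N114784 : nd 114784 = n218041 := ndS (p := 85612) (l := 4) rfl N85612 D218041
theorem N114785 : nd 114785 = n218042 := ndS (p := 85614) (l := 1) rfl N85614 D218042
theorem N114786 : nd 114786 = n218043 := ndS (p := 85617) (l := 6) rfl N85617 D218043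
theorem N114787 : nd 114787 = n218044 := ndS (p := 85627) (l := 4) rfl N85627 D218044
theorem N114788 : nd 114788 = n218045 := ndS (p := 85627) (l := 5) rfl N85627 D218045
theorem N114789 : nd 114789 = n218046 := ndS (p := 85628) (l := 5) rfl N85628 D218046
theorem N114790 : nd 114790 = n218047 := ndS (p := 85633) (l := 3) rfl N85633 D218047
theorem N114791 : nd 114791 = n218048 := ndS (p := 85633) (l := 5) rfl N85633 D218048
theorem N114792 : nd 114792 = n218049 := ndS (p := 85635) (l := 6) rfl N85635 D218049
theorem N114793 : nd 114793 = n218050 := ndS (p := 85636) (l := 5) rfl N85636 D218050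
theorem N114794 : nd 114794 = n218051 := ndS (p := 85640) (l := 3) rfl N85640 D218051
theorem N114795 : nd 114795 = n218052 := ndS (p := 85642) (l := 6) rfl N85642 D218052
theorem N114796 : nd 114796 = n218053 := ndS (p := 85651) (l := 1) rfl N85651 D218053
theorem N114797 : nd 114797 = n218054 := ndS (p := 85652) (l := 6) rfl N85652 D218054
theorem N114798 : nd 114798 = n218055 := ndS (p := 85656) (l := 4) rfl N85656 D218055
theorem N114799 : nd 114799 = n218056 := ndS (p := 85657) (l := 5) rfl N85657 D218056
theorem N114800 : nd 114800 = n218057 := ndS (p := 85658) (l := 3) rfl N85658 D218057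
theorem N114801 : nd 114801 = n218058 := ndS (p := 85658) (l := 5) rfl N85658 D218058
theorem N114802 : nd 114802 = n218059 := ndS (p := 85659) (l := 5) rfl N85659 D218059
theorem N114803 : nd 114803 = n218060 := ndS (p := 85660) (l := 0) rfl N85660 D218060
theorem N114804 : nd 114804 = n218061 := ndS (p := 85660) (l := 1) rfl N85660 D218061
theorem N114805 : nd 114805 = n218062 := ndS (p := 85660) (l := 4) rfl N85660 D218062
theorem N114806 : nd 114806 = n218063 := ndS (p := 85662) (l := 5) rfl N85662 D218063
theorem N114807 : nd 114807 = n218064 := ndS (p := 85664) (l := 4) rfl N85664 D218064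
theorem N114808 : nd 114808 = n218065 := ndS (p := 85664) (l := 5) rfl N85664 D218065
theorem N114809 : nd 114809 = n218066 := ndS (p := 85674) (l := 4) rfl N85674 D218066
theorem N114810 : nd 114810 = n218067 := ndS (p := 85677) (l := 5) rfl N85677 D218067
theorem N114811 : nd 114811 = n218068 := ndS (p := 85678) (l := 5) rfl N85678 D218068
theorem N114812 : nd 114812 = n218069 := ndS (p := 85681) (l := 5) rfl N85681 D218069
theorem N114813 : nd 114813 = n218070 := ndS (p := 85683) (l := 5) rfl N85683 D218070
theorem N114814 : nd 114814 = n218071 := ndS (p := 85684) (l := 3) rfl N85684 D218071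
theorem N114815 : nd 114815 = n218072 := ndS (p := 85684) (l := 6) rfl N85684 D218072
theorem N114816 : nd 114816 = n218073 := ndS (p := 85691) (l := 0) rfl N85691 D218073
theorem N114817 : nd 114817 = n218074 := ndS (p := 85691) (l := 2) rfl N85691 D218074
theorem N114818 : nd 114818 = n218075 := ndS (p := 85692) (l := 3) rfl N85692 D218075
theorem N114819 : nd 114819 = n218076 := ndS (p := 85693) (l := 0) rfl N85693 D218076
theorem N114820 : nd 114820 = n218077 := ndS (p := 85693) (l := 4) rfl N85693 D218077
theorem N114821 : nd 114821 = n218078 := ndS (p := 85693) (l := 6) rfl N85693 D218078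
theorem N114822 : nd 114822 = n218079 := ndS (p := 85694) (l := 1) rfl N85694 D218079
theorem N114823 : nd 114823 = n218080 := ndS (p := 85695) (l := 1) rfl N85695 D218080
theorem N114824 : nd 114824 = n218081 := ndS (p := 85698) (l := 7) rfl N85698 D218081
theorem N114825 : nd 114825 = n218082 := ndS (p := 85700) (l := 7) rfl N85700 D218082
theorem N114826 : nd 114826 = n218083 := ndS (p := 85702) (l := 5) rfl N85702 D218083
theorem N114827 : nd 114827 = n218084 := ndS (p := 85703) (l := 5) rfl N85703 D218084
theorem N114828 : nd 114828 = n218085 := ndS (p := 85708) (l := 1) rfl N85708 D218085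
theorem N114829 : nd 114829 = n218086 := ndS (p := 85708) (l := 5) rfl N85708 D218086
theorem N114830 : nd 114830 = n218087 := ndS (p := 85710) (l := 3) rfl N85710 D218087
theorem N114831 : nd 114831 = n218088 := ndS (p := 85710) (l := 5) rfl N85710 D218088
theorem N114832 : nd 114832 = n218089 := ndS (p := 85714) (l := 5) rfl N85714 D218089
theorem N114833 : nd 114833 = n218090 := ndS (p := 85716) (l := 5) rfl N85716 D218090
theorem N114834 : nd 114834 = n218091 := ndS (p := 85718) (l := 5) rfl N85718 D218091
theorem N114835 : nd 114835 = n218092 := ndS (p := 85719) (l := 1) rfl N85719 D218092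
theorem N114836 : nd 114836 = n218093 := ndS (p := 85719) (l := 4) rfl N85719 D218093
theorem N114837 : nd 114837 = n218094 := ndS (p := 85720) (l := 5) rfl N85720 D218094
theorem N114838 : nd 114838 = n218095 := ndS (p := 85721) (l := 5) rfl N85721 D218095
theorem N114839 : nd 114839 = n218096 := ndS (p := 85722) (l := 0) rfl N85722 D218096
theorem N114840 : nd 114840 = n218097 := ndS (p := 85722) (l := 1) rfl N85722 D218097
theorem N114841 : nd 114841 = n218098 := ndS (p := 85722) (l := 7) rfl N85722 D218098
theorem N114842 : nd 114842 = n218099 := ndS (p := 85727) (l := 5) rfl N85727 D218099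
theorem N114843 : nd 114843 = n218100 := ndS (p := 85735) (l := 5) rfl N85735 D218100
theorem N114844 : nd 114844 = n218101 := ndS (p := 85736) (l := 5) rfl N85736 D218101
theorem N114845 : nd 114845 = n218102 := ndS (p := 85739) (l := 5) rfl N85739 D218102
theorem N114846 : nd 114846 = n218103 := ndS (p := 85740) (l := 6) rfl N85740 D218103
theorem N114847 : nd 114847 = n218104 := ndS (p := 85745) (l := 4) rfl N85745 D218104
theorem N114848 : nd 114848 = n218105 := ndS (p := 85746) (l := 4) rfl N85746 D218105
theorem N114849 : nd 114849 = n218106 := ndS (p := 85747) (l := 6) rfl N85747 D218106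
theorem N114850 : nd 114850 = n218107 := ndS (p := 85748) (l := 0) rfl N85748 D218107
theorem N114851 : nd 114851 = n218108 := ndS (p := 85748) (l := 1) rfl N85748 D218108
theorem N114852 : nd 114852 = n218109 := ndS (p := 85748) (l := 5) rfl N85748 D218109
theorem N114853 : nd 114853 = n218110 := ndS (p := 85748) (l := 7) rfl N85748 D218110
theorem N114854 : nd 114854 = n218111 := ndS (p := 85749) (l := 5) rfl N85749 D218111
theorem N114855 : nd 114855 = n218112 := ndS (p := 85750) (l := 5) rfl N85750 D218112
theorem N114856 : nd 114856 = n218113 := ndS (p := 85750) (l := 6) rfl N85750 D218113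
theorem N114857 : nd 114857 = n218114 := ndS (p := 85751) (l := 0) rfl N85751 D218114
theorem N114858 : nd 114858 = n218115 := ndS (p := 85751) (l := 7) rfl N85751 D218115
theorem N114859 : nd 114859 = n218116 := ndS (p := 85753) (l := 5) rfl N85753 D218116
theorem N114860 : nd 114860 = n218117 := ndS (p := 85756) (l := 5) rfl N85756 D218117
theorem N114861 : nd 114861 = n218118 := ndS (p := 85757) (l := 5) rfl N85757 D218118
theorem N114862 : nd 114862 = n218119 := ndS (p := 85758) (l := 4) rfl N85758 D218119
theorem N114863 : nd 114863 = n218120 := ndS (p := 85759) (l := 7) rfl N85759 D218120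
theorem N114864 : nd 114864 = n218121 := ndS (p := 85760) (l := 0) rfl N85760 D218121
theorem N114865 : nd 114865 = n218122 := ndS (p := 85760) (l := 1) rfl N85760 D218122
theorem N114866 : nd 114866 = n218123 := ndS (p := 85760) (l := 2) rfl N85760 D218123
theorem N114867 : nd 114867 = n218124 := ndS (p := 85767) (l := 5) rfl N85767 D218124
theorem N114868 : nd 114868 = n218125 := ndS (p := 85768) (l := 6) rfl N85768 D218125
theorem N114869 : nd 114869 = n218126 := ndS (p := 85774) (l := 6) rfl N85774 D218126
theorem N114870 : nd 114870 = n218127 := ndS (p := 85779) (l := 5) rfl N85779 D218127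
theorem N114871 : nd 114871 = n218128 := ndS (p := 85780) (l := 0) rfl N85780 D218128
theorem N114872 : nd 114872 = n218129 := ndS (p := 85780) (l := 1) rfl N85780 D218129
theorem N114873 : nd 114873 = n218130 := ndS (p := 85780) (l := 4) rfl N85780 D218130
theorem N114874 : nd 114874 = n218131 := ndS (p := 85780) (l := 7) rfl N85780 D218131
theorem N114875 : nd 114875 = n218132 := ndS (p := 85795) (l := 4) rfl N85795 D218132
theorem N114876 : nd 114876 = n218133 := ndS (p := 85801) (l := 5) rfl N85801 D218133
theorem N114877 : nd 114877 = n218134 := ndS (p := 85803) (l := 4) rfl N85803 D218134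
theorem N114878 : nd 114878 = n218135 := ndS (p := 85803) (l := 7) rfl N85803 D218135
theorem N114879 : nd 114879 = n218136 := ndS (p := 85818) (l := 4) rfl N85818 D218136
theorem N114880 : nd 114880 = n218137 := ndS (p := 85824) (l := 0) rfl N85824 D218137
theorem N114881 : nd 114881 = n218138 := ndS (p := 85824) (l := 7) rfl N85824 D218138
theorem N114882 : nd 114882 = n218139 := ndS (p := 85827) (l := 6) rfl N85827 D218139
theorem N114883 : nd 114883 = n218140 := ndS (p := 85828) (l := 5) rfl N85828 D218140
theorem N114884 : nd 114884 = n218141 := ndS (p := 85833) (l := 6) rfl N85833 D218141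
theorem N114885 : nd 114885 = n218142 := ndS (p := 85837) (l := 6) rfl N85837 D218142
theorem N114886 : nd 114886 = n218143 := ndS (p := 85838) (l := 0) rfl N85838 D218143
theorem N114887 : nd 114887 = n218144 := ndS (p := 85838) (l := 1) rfl N85838 D218144
theorem N114888 : nd 114888 = n218145 := ndS (p := 85839) (l := 3) rfl N85839 D218145
theorem N114889 : nd 114889 = n218146 := ndS (p := 85839) (l := 5) rfl N85839 D218146
theorem N114890 : nd 114890 = n218147 := ndS (p := 85840) (l := 5) rfl N85840 D218147
theorem N114891 : nd 114891 = n218148 := ndS (p := 85842) (l := 4) rfl N85842 D218148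
theorem N114892 : nd 114892 = n218149 := ndS (p := 85842) (l := 5) rfl N85842 D218149
theorem N114893 : nd 114893 = n218150 := ndS (p := 85843) (l := 0) rfl N85843 D218150
theorem N114894 : nd 114894 = n218151 := ndS (p := 85843) (l := 1) rfl N85843 D218151
theorem N114895 : nd 114895 = n218152 := ndS (p := 85843) (l := 4) rfl N85843 D218152
theorem N114896 : nd 114896 = n218153 := ndS (p := 85844) (l := 5) rfl N85844 D218153
theorem N114897 : nd 114897 = n218154 := ndS (p := 85845) (l := 4) rfl N85845 D218154
theorem N114898 : nd 114898 = n218155 := ndS (p := 85851) (l := 6) rfl N85851 D218155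
theorem N114899 : nd 114899 = n218156 := ndS (p := 85852) (l := 0) rfl N85852 D218156
theorem N114900 : nd 114900 = n218157 := ndS (p := 85855) (l := 3) rfl N85855 D218157
theorem N114901 : nd 114901 = n218158 := ndS (p := 85855) (l := 6) rfl N85855 D218158
theorem N114902 : nd 114902 = n218159 := ndS (p := 85858) (l := 1) rfl N85858 D218159
theorem N114903 : nd 114903 = n218160 := ndS (p := 85858) (l := 7) rfl N85858 D218160
theorem N114904 : nd 114904 = n218161 := ndS (p := 85859) (l := 6) rfl N85859 D218161
theorem N114905 : nd 114905 = n218162 := ndS (p := 85860) (l := 0) rfl N85860 D218162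
theorem N114906 : nd 114906 = n218163 := ndS (p := 85860) (l := 7) rfl N85860 D218163
theorem N114907 : nd 114907 = n218164 := ndS (p := 85864) (l := 6) rfl N85864 D218164
theorem N114908 : nd 114908 = n218165 := ndS (p := 85867) (l := 1) rfl N85867 D218165
theorem N114909 : nd 114909 = n218166 := ndS (p := 85867) (l := 6) rfl N85867 D218166
theorem N114910 : nd 114910 = n218167 := ndS (p := 85868) (l := 7) rfl N85868 D218167
theorem N114911 : nd 114911 = n218168 := ndS (p := 85872) (l := 7) rfl N85872 D218168
theorem N114912 : nd 114912 = n218169 := ndS (p := 85876) (l := 6) rfl N85876 D218169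
theorem N114913 : nd 114913 = n218170 := ndS (p := 85877) (l := 7) rfl N85877 D218170
theorem N114914 : nd 114914 = n218171 := ndS (p := 85878) (l := 5) rfl N85878 D218171
theorem N114915 : nd 114915 = n218172 := ndS (p := 85879) (l := 6) rfl N85879 D218172
theorem N114916 : nd 114916 = n218173 := ndS (p := 85883) (l := 5) rfl N85883 D218173
theorem N114917 : nd 114917 = n218174 := ndS (p := 85884) (l := 5) rfl N85884 D218174
theorem N114918 : nd 114918 = n218175 := ndS (p := 85887) (l := 0) rfl N85887 D218175
theorem N114919 : nd 114919 = n218176 := ndS (p := 85887) (l := 6) rfl N85887 D218176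
theorem N114920 : nd 114920 = n218177 := ndS (p := 85888) (l := 6) rfl N85888 D218177
theorem N114921 : nd 114921 = n218178 := ndS (p := 85890) (l := 1) rfl N85890 D218178
theorem N114922 : nd 114922 = n218179 := ndS (p := 85892) (l := 0) rfl N85892 D218179
theorem N114923 : nd 114923 = n218180 := ndS (p := 85893) (l := 1) rfl N85893 D218180
theorem N114924 : nd 114924 = n218181 := ndS (p := 85893) (l := 5) rfl N85893 D218181
theorem N114925 : nd 114925 = n218182 := ndS (p := 85894) (l := 4) rfl N85894 D218182
theorem N114926 : nd 114926 = n218183 := ndS (p := 85895) (l := 3) rfl N85895 D218183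
theorem N114927 : nd 114927 = n218184 := ndS (p := 85895) (l := 4) rfl N85895 D218184
theorem N114928 : nd 114928 = n218185 := ndS (p := 85898) (l := 0) rfl N85898 D218185
theorem N114929 : nd 114929 = n218186 := ndS (p := 85898) (l := 7) rfl N85898 D218186
theorem N114930 : nd 114930 = n218187 := ndS (p := 85899) (l := 7) rfl N85899 D218187
theorem N114931 : nd 114931 = n218188 := ndS (p := 85904) (l := 5) rfl N85904 D218188
theorem N114932 : nd 114932 = n218189 := ndS (p := 85904) (l := 7) rfl N85904 D218189
theorem N114933 : nd 114933 = n218190 := ndS (p := 85914) (l := 0) rfl N85914 D218190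
theorem N114934 : nd 114934 = n218191 := ndS (p := 85916) (l := 6) rfl N85916 D218191
theorem N114935 : nd 114935 = n218192 := ndS (p := 85924) (l := 4) rfl N85924 D218192
theorem N114936 : nd 114936 = n218193 := ndS (p := 85924) (l := 6) rfl N85924 D218193
theorem N114937 : nd 114937 = n218194 := ndS (p := 85925) (l := 4) rfl N85925 D218194
theorem N114938 : nd 114938 = n218195 := ndS (p := 85925) (l := 6) rfl N85925 D218195
theorem N114939 : nd 114939 = n218196 := ndS (p := 85929) (l := 4) rfl N85929 D218196
theorem N114940 : nd 114940 = n218197 := ndS (p := 85930) (l := 4) rfl N85930 D218197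
theorem N114941 : nd 114941 = n218198 := ndS (p := 85934) (l := 0) rfl N85934 D218198
theorem N114942 : nd 114942 = n218199 := ndS (p := 85936) (l := 0) rfl N85936 D218199
theorem N114943 : nd 114943 = n218200 := ndS (p := 85937) (l := 0) rfl N85937 D218200
theorem N114944 : nd 114944 = n218201 := ndS (p := 85944) (l := 0) rfl N85944 D218201
theorem N114945 : nd 114945 = n218202 := ndS (p := 85944) (l := 1) rfl N85944 D218202
theorem N114946 : nd 114946 = n218203 := ndS (p := 85945) (l := 5) rfl N85945 D218203
theorem N114947 : nd 114947 = n218204 := ndS (p := 85948) (l := 5) rfl N85948 D218204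
theorem N114948 : nd 114948 = n218205 := ndS (p := 85954) (l := 5) rfl N85954 D218205
theorem N114949 : nd 114949 = n218206 := ndS (p := 85961) (l := 4) rfl N85961 D218206
theorem N114950 : nd 114950 = n218207 := ndS (p := 85962) (l := 3) rfl N85962 D218207
theorem N114951 : nd 114951 = n218208 := ndS (p := 85967) (l := 1) rfl N85967 D218208
theorem N114952 : nd 114952 = n218209 := ndS (p := 85967) (l := 2) rfl N85967 D218209
theorem N114953 : nd 114953 = n218210 := ndS (p := 85983) (l := 5) rfl N85983 D218210
theorem N114954 : nd 114954 = n218211 := ndS (p := 85983) (l := 6) rfl N85983 D218211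
theorem N114955 : nd 114955 = n218212 := ndS (p := 85991) (l := 5) rfl N85991 D218212
theorem N114956 : nd 114956 = n218213 := ndS (p := 85995) (l := 3) rfl N85995 D218213
theorem N114957 : nd 114957 = n218214 := ndS (p := 85995) (l := 5) rfl N85995 D218214
theorem N114958 : nd 114958 = n218215 := ndS (p := 85999) (l := 6) rfl N85999 D218215
theorem N114959 : nd 114959 = n218216 := ndS (p := 86000) (l := 4) rfl N86000 D218216
theorem N114960 : nd 114960 = n218217 := ndS (p := 86004) (l := 3) rfl N86004 D218217
theorem N114961 : nd 114961 = n218218 := ndS (p := 86004) (l := 5) rfl N86004 D218218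
theorem N114962 : nd 114962 = n218219 := ndS (p := 86004) (l := 6) rfl N86004 D218219
theorem N114963 : nd 114963 = n218220 := ndS (p := 86006) (l := 0) rfl N86006 D218220
theorem N114964 : nd 114964 = n218221 := ndS (p := 86008) (l := 1) rfl N86008 D218221
theorem N114965 : nd 114965 = n218222 := ndS (p := 86008) (l := 7) rfl N86008 D218222
theorem N114966 : nd 114966 = n218223 := ndS (p := 86017) (l := 4) rfl N86017 D218223
theorem N114967 : nd 114967 = n218224 := ndS (p := 86019) (l := 6) rfl N86019 D218224
theorem N114968 : nd 114968 = n218225 := ndS (p := 86023) (l := 0) rfl N86023 D218225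
theorem N114969 : nd 114969 = n218226 := ndS (p := 86023) (l := 3) rfl N86023 D218226
theorem N114970 : nd 114970 = n218227 := ndS (p := 86025) (l := 5) rfl N86025 D218227
theorem N114971 : nd 114971 = n218228 := ndS (p := 86028) (l := 1) rfl N86028 D218228
theorem N114972 : nd 114972 = n218229 := ndS (p := 86028) (l := 7) rfl N86028 D218229
theorem N114973 : nd 114973 = n218230 := ndS (p := 86033) (l := 4) rfl N86033 D218230
theorem N114974 : nd 114974 = n218231 := ndS (p := 86033) (l := 6) rfl N86033 D218231
theorem N114975 : nd 114975 = n218232 := ndS (p := 86034) (l := 3) rfl N86034 D218232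
theorem N114976 : nd 114976 = n218233 := ndS (p := 86035) (l := 1) rfl N86035 D218233
theorem N114977 : nd 114977 = n218234 := ndS (p := 86041) (l := 4) rfl N86041 D218234
theorem N114978 : nd 114978 = n218235 := ndS (p := 86046) (l := 0) rfl N86046 D218235
theorem N114979 : nd 114979 = n218236 := ndS (p := 86046) (l := 7) rfl N86046 D218236
theorem N114980 : nd 114980 = n218237 := ndS (p := 86049) (l := 6) rfl N86049 D218237
theorem N114981 : nd 114981 = n218238 := ndS (p := 86050) (l := 6) rfl N86050 D218238
theorem N114982 : nd 114982 = n218239 := ndS (p := 86057) (l := 7) rfl N86057 D218239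
theorem N114983 : nd 114983 = n218240 := ndS (p := 86058) (l := 6) rfl N86058 D218240
theorem N114984 : nd 114984 = n218241 := ndS (p := 86061) (l := 5) rfl N86061 D218241
theorem N114985 : nd 114985 = n218242 := ndS (p := 86062) (l := 0) rfl N86062 D218242
theorem N114986 : nd 114986 = n218243 := ndS (p := 86063) (l := 0) rfl N86063 D218243
theorem N114987 : nd 114987 = n218244 := ndS (p := 86063) (l := 1) rfl N86063 D218244
theorem N114988 : nd 114988 = n218245 := ndS (p := 86068) (l := 0) rfl N86068 D218245
theorem N114989 : nd 114989 = n218246 := ndS (p := 86068) (l := 1) rfl N86068 D218246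
theorem N114990 : nd 114990 = n218247 := ndS (p := 86070) (l := 3) rfl N86070 D218247
theorem N114991 : nd 114991 = n218248 := ndS (p := 86073) (l := 2) rfl N86073 D218248
theorem N114992 : nd 114992 = n218249 := ndS (p := 86075) (l := 0) rfl N86075 D218249
theorem N114993 : nd 114993 = n218250 := ndS (p := 86075) (l := 1) rfl N86075 D218250
theorem N114994 : nd 114994 = n218251 := ndS (p := 86075) (l := 2) rfl N86075 D218251
theorem N114995 : nd 114995 = n218252 := ndS (p := 86075) (l := 4) rfl N86075 D218252
theorem N114996 : nd 114996 = n218253 := ndS (p := 86075) (l := 6) rfl N86075 D218253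
theorem N114997 : nd 114997 = n218254 := ndS (p := 86079) (l := 3) rfl N86079 D218254
theorem N114998 : nd 114998 = n218255 := ndS (p := 86079) (l := 6) rfl N86079 D218255
theorem N114999 : nd 114999 = n218256 := ndS (p := 86084) (l := 5) rfl N86084 D218256
theorem N115000 : nd 115000 = n218257 := ndS (p := 86084) (l := 6) rfl N86084 D218257
theorem N115001 : nd 115001 = n218258 := ndS (p := 86087) (l := 3) rfl N86087 D218258
theorem N115002 : nd 115002 = n218259 := ndS (p := 86087) (l := 5) rfl N86087 D218259
theorem N115003 : nd 115003 = n218260 := ndS (p := 86087) (l := 6) rfl N86087 D218260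
theorem N115004 : nd 115004 = n218261 := ndS (p := 86091) (l := 3) rfl N86091 D218261
theorem N115005 : nd 115005 = n218262 := ndS (p := 86091) (l := 6) rfl N86091 D218262
theorem N115006 : nd 115006 = n218263 := ndS (p := 86096) (l := 5) rfl N86096 D218263
theorem N115007 : nd 115007 = n218264 := ndS (p := 86101) (l := 3) rfl N86101 D218264
theorem N115008 : nd 115008 = n218265 := ndS (p := 86101) (l := 6) rfl N86101 D218265
theorem N115009 : nd 115009 = n218266 := ndS (p := 86107) (l := 5) rfl N86107 D218266
theorem N115010 : nd 115010 = n218267 := ndS (p := 86109) (l := 3) rfl N86109 D218267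
theorem N115011 : nd 115011 = n218268 := ndS (p := 86109) (l := 5) rfl N86109 D218268
theorem N115012 : nd 115012 = n218269 := ndS (p := 86117) (l := 5) rfl N86117 D218269
theorem N115013 : nd 115013 = n218270 := ndS (p := 86118) (l := 1) rfl N86118 D218270
theorem N115014 : nd 115014 = n218271 := ndS (p := 86118) (l := 7) rfl N86118 D218271
theorem N115015 : nd 115015 = n218272 := ndS (p := 86120) (l := 6) rfl N86120 D218272
theorem N115016 : nd 115016 = n218273 := ndS (p := 86124) (l := 0) rfl N86124 D218273
theorem N115017 : nd 115017 = n218274 := ndS (p := 86131) (l := 0) rfl N86131 D218274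
theorem N115018 : nd 115018 = n218275 := ndS (p := 86131) (l := 1) rfl N86131 D218275
theorem N115019 : nd 115019 = n218276 := ndS (p := 86137) (l := 6) rfl N86137 D218276
theorem N115020 : nd 115020 = n218277 := ndS (p := 86138) (l := 1) rfl N86138 D218277
theorem N115021 : nd 115021 = n218278 := ndS (p := 86143) (l := 6) rfl N86143 D218278
theorem N115022 : nd 115022 = n218279 := ndS (p := 86144) (l := 4) rfl N86144 D218279
theorem N115023 : nd 115023 = n218280 := ndS (p := 86146) (l := 5) rfl N86146 D218280
theorem N115024 : nd 115024 = n218281 := ndS (p := 86147) (l := 3) rfl N86147 D218281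
theorem N115025 : nd 115025 = n218282 := ndS (p := 86148) (l := 4) rfl N86148 D218282
theorem N115026 : nd 115026 = n218283 := ndS (p := 86150) (l := 4) rfl N86150 D218283
theorem N115027 : nd 115027 = n218284 := ndS (p := 86151) (l := 7) rfl N86151 D218284
theorem N115028 : nd 115028 = n218285 := ndS (p := 86161) (l := 6) rfl N86161 D218285
theorem N115029 : nd 115029 = n218286 := ndS (p := 86164) (l := 5) rfl N86164 D218286
theorem N115030 : nd 115030 = n218287 := ndS (p := 86168) (l := 6) rfl N86168 D218287
theorem N115031 : nd 115031 = n218288 := ndS (p := 86169) (l := 0) rfl N86169 D218288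
theorem N115032 : nd 115032 = n218289 := ndS (p := 86169) (l := 4) rfl N86169 D218289
theorem N115033 : nd 115033 = n218290 := ndS (p := 86170) (l := 6) rfl N86170 D218290
theorem N115034 : nd 115034 = n218291 := ndS (p := 86174) (l := 5) rfl N86174 D218291
theorem N115035 : nd 115035 = n218292 := ndS (p := 86176) (l := 4) rfl N86176 D218292
theorem N115036 : nd 115036 = n218293 := ndS (p := 86177) (l := 4) rfl N86177 D218293
theorem N115037 : nd 115037 = n218294 := ndS (p := 86177) (l := 6) rfl N86177 D218294
theorem N115038 : nd 115038 = n218295 := ndS (p := 86181) (l := 2) rfl N86181 D218295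
theorem N115039 : nd 115039 = n218296 := ndS (p := 86182) (l := 5) rfl N86182 D218296
theorem N115040 : nd 115040 = n218297 := ndS (p := 86183) (l := 5) rfl N86183 D218297
theorem N115041 : nd 115041 = n218298 := ndS (p := 86184) (l := 5) rfl N86184 D218298
theorem N115042 : nd 115042 = n218299 := ndS (p := 86186) (l := 6) rfl N86186 D218299
theorem N115043 : nd 115043 = n218300 := ndS (p := 86193) (l := 0) rfl N86193 D218300
theorem N115044 : nd 115044 = n218301 := ndS (p := 86195) (l := 6) rfl N86195 D218301
theorem N115045 : nd 115045 = n218302 := ndS (p := 86198) (l := 5) rfl N86198 D218302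
theorem N115046 : nd 115046 = n218303 := ndS (p := 86201) (l := 1) rfl N86201 D218303
theorem N115047 : nd 115047 = n218304 := ndS (p := 86205) (l := 0) rfl N86205 D218304
theorem N115048 : nd 115048 = n218305 := ndS (p := 86205) (l := 1) rfl N86205 D218305
theorem N115049 : nd 115049 = n218306 := ndS (p := 86207) (l := 5) rfl N86207 D218306
theorem N115050 : nd 115050 = n218307 := ndS (p := 86214) (l := 5) rfl N86214 D218307
theorem N115051 : nd 115051 = n218308 := ndS (p := 86215) (l := 4) rfl N86215 D218308
theorem N115052 : nd 115052 = n218309 := ndS (p := 86218) (l := 1) rfl N86218 D218309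
theorem N115053 : nd 115053 = n218310 := ndS (p := 86218) (l := 7) rfl N86218 D218310
theorem N115054 : nd 115054 = n218311 := ndS (p := 86220) (l := 6) rfl N86220 D218311
theorem N115055 : nd 115055 = n218312 := ndS (p := 86221) (l := 6) rfl N86221 D218312
theorem N115056 : nd 115056 = n218313 := ndS (p := 86224) (l := 1) rfl N86224 D218313
theorem N115057 : nd 115057 = n218314 := ndS (p := 86227) (l := 5) rfl N86227 D218314
theorem N115058 : nd 115058 = n218315 := ndS (p := 86242) (l := 4) rfl N86242 D218315
theorem N115059 : nd 115059 = n218316 := ndS (p := 86245) (l := 6) rfl N86245 D218316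
theorem N115060 : nd 115060 = n218317 := ndS (p := 86247) (l := 3) rfl N86247 D218317
theorem N115061 : nd 115061 = n218318 := ndS (p := 86249) (l := 1) rfl N86249 D218318
theorem N115062 : nd 115062 = n218319 := ndS (p := 86253) (l := 3) rfl N86253 D218319
theorem N115063 : nd 115063 = n218320 := ndS (p := 86257) (l := 6) rfl N86257 D218320
theorem N115064 : nd 115064 = n218321 := ndS (p := 86262) (l := 5) rfl N86262 D218321
theorem N115065 : nd 115065 = n218322 := ndS (p := 86263) (l := 4) rfl N86263 D218322
theorem N115066 : nd 115066 = n218323 := ndS (p := 86263) (l := 7) rfl N86263 D218323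
theorem N115067 : nd 115067 = n218324 := ndS (p := 86265) (l := 4) rfl N86265 D218324
theorem N115068 : nd 115068 = n218325 := ndS (p := 86265) (l := 5) rfl N86265 D218325
theorem N115069 : nd 115069 = n218326 := ndS (p := 86266) (l := 5) rfl N86266 D218326
theorem N115070 : nd 115070 = n218327 := ndS (p := 86266) (l := 6) rfl N86266 D218327
theorem N115071 : nd 115071 = n218328 := ndS (p := 86268) (l := 1) rfl N86268 D218328
theorem N115072 : nd 115072 = n218329 := ndS (p := 86268) (l := 7) rfl N86268 D218329
theorem N115073 : nd 115073 = n218330 := ndS (p := 86269) (l := 4) rfl N86269 D218330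
theorem N115074 : nd 115074 = n218331 := ndS (p := 86270) (l := 5) rfl N86270 D218331
theorem N115075 : nd 115075 = n218332 := ndS (p := 86275) (l := 0) rfl N86275 D218332
theorem N115076 : nd 115076 = n218333 := ndS (p := 86275) (l := 2) rfl N86275 D218333
theorem N115077 : nd 115077 = n218334 := ndS (p := 86275) (l := 4) rfl N86275 D218334
theorem N115078 : nd 115078 = n218335 := ndS (p := 86275) (l := 6) rfl N86275 D218335
theorem N115079 : nd 115079 = n218336 := ndS (p := 86277) (l := 2) rfl N86277 D218336
theorem N115080 : nd 115080 = n218337 := ndS (p := 86277) (l := 6) rfl N86277 D218337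
theorem N115081 : nd 115081 = n218338 := ndS (p := 86278) (l := 0) rfl N86278 D218338
theorem N115082 : nd 115082 = n218339 := ndS (p := 86278) (l := 7) rfl N86278 D218339
theorem N115083 : nd 115083 = n218340 := ndS (p := 86285) (l := 5) rfl N86285 D218340
theorem N115084 : nd 115084 = n218341 := ndS (p := 86286) (l := 3) rfl N86286 D218341
theorem N115085 : nd 115085 = n218342 := ndS (p := 86286) (l := 6) rfl N86286 D218342
theorem N115086 : nd 115086 = n218343 := ndS (p := 86292) (l := 6) rfl N86292 D218343
theorem N115087 : nd 115087 = n218344 := ndS (p := 86295) (l := 5) rfl N86295 D218344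
theorem N115088 : nd 115088 = n218345 := ndS (p := 86300) (l := 3) rfl N86300 D218345
theorem N115089 : nd 115089 = n218346 := ndS (p := 86305) (l := 3) rfl N86305 D218346
theorem N115090 : nd 115090 = n218347 := ndS (p := 86305) (l := 5) rfl N86305 D218347
theorem N115091 : nd 115091 = n218348 := ndS (p := 86312) (l := 6) rfl N86312 D218348
theorem N115092 : nd 115092 = n218349 := ndS (p := 86313) (l := 6) rfl N86313 D218349
theorem N115093 : nd 115093 = n218350 := ndS (p := 86321) (l := 0) rfl N86321 D218350
theorem N115094 : nd 115094 = n218351 := ndS (p := 86321) (l := 7) rfl N86321 D218351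
theorem N115095 : nd 115095 = n218352 := ndS (p := 86323) (l := 3) rfl N86323 D218352
theorem N115096 : nd 115096 = n218353 := ndS (p := 86325) (l := 4) rfl N86325 D218353
theorem N115097 : nd 115097 = n218354 := ndS (p := 86330) (l := 4) rfl N86330 D218354
theorem N115098 : nd 115098 = n218355 := ndS (p := 86331) (l := 0) rfl N86331 D218355
theorem N115099 : nd 115099 = n218356 := ndS (p := 86331) (l := 3) rfl N86331 D218356
theorem N115100 : nd 115100 = n218357 := ndS (p := 86331) (l := 5) rfl N86331 D218357
theorem N115101 : nd 115101 = n218358 := ndS (p := 86331) (l := 6) rfl N86331 D218358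
theorem N115102 : nd 115102 = n218359 := ndS (p := 86337) (l := 0) rfl N86337 D218359
theorem N115103 : nd 115103 = n218360 := ndS (p := 86337) (l := 1) rfl N86337 D218360
theorem N115104 : nd 115104 = n218361 := ndS (p := 86337) (l := 5) rfl N86337 D218361
theorem N115105 : nd 115105 = n218362 := ndS (p := 86338) (l := 4) rfl N86338 D218362
theorem N115106 : nd 115106 = n218363 := ndS (p := 86340) (l := 1) rfl N86340 D218363
theorem N115107 : nd 115107 = n218364 := ndS (p := 86344) (l := 5) rfl N86344 D218364
theorem N115108 : nd 115108 = n218365 := ndS (p := 86346) (l := 4) rfl N86346 D218365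
theorem N115109 : nd 115109 = n218366 := ndS (p := 86350) (l := 0) rfl N86350 D218366
theorem N115110 : nd 115110 = n218367 := ndS (p := 86350) (l := 1) rfl N86350 D218367
theorem N115111 : nd 115111 = n218368 := ndS (p := 86350) (l := 3) rfl N86350 D218368
theorem N115112 : nd 115112 = n218369 := ndS (p := 86352) (l := 5) rfl N86352 D218369
theorem N115113 : nd 115113 = n218370 := ndS (p := 86355) (l := 6) rfl N86355 D218370
theorem N115114 : nd 115114 = n218371 := ndS (p := 86356) (l := 0) rfl N86356 D218371
theorem N115115 : nd 115115 = n218372 := ndS (p := 86356) (l := 1) rfl N86356 D218372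
theorem N115116 : nd 115116 = n218373 := ndS (p := 86356) (l := 5) rfl N86356 D218373
theorem N115117 : nd 115117 = n218374 := ndS (p := 86362) (l := 6) rfl N86362 D218374
theorem N115118 : nd 115118 = n218375 := ndS (p := 86363) (l := 4) rfl N86363 D218375
theorem N115119 : nd 115119 = n218376 := ndS (p := 86363) (l := 6) rfl N86363 D218376
theorem N115120 : nd 115120 = n218377 := ndS (p := 86365) (l := 3) rfl N86365 D218377
theorem N115121 : nd 115121 = n218378 := ndS (p := 86367) (l := 5) rfl N86367 D218378
theorem N115122 : nd 115122 = n218379 := ndS (p := 86375) (l := 5) rfl N86375 D218379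
theorem N115123 : nd 115123 = n218380 := ndS (p := 86379) (l := 0) rfl N86379 D218380
theorem N115124 : nd 115124 = n218381 := ndS (p := 86379) (l := 2) rfl N86379 D218381
theorem N115125 : nd 115125 = n218382 := ndS (p := 86379) (l := 5) rfl N86379 D218382
theorem N115126 : nd 115126 = n218383 := ndS (p := 86379) (l := 6) rfl N86379 D218383
theorem N115127 : nd 115127 = n218384 := ndS (p := 86381) (l := 6) rfl N86381 D218384
theorem N115128 : nd 115128 = n218385 := ndS (p := 86382) (l := 5) rfl N86382 D218385
theorem N115129 : nd 115129 = n218386 := ndS (p := 86384) (l := 3) rfl N86384 D218386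
theorem N115130 : nd 115130 = n218387 := ndS (p := 86385) (l := 6) rfl N86385 D218387
theorem N115131 : nd 115131 = n218388 := ndS (p := 86397) (l := 3) rfl N86397 D218388
theorem N115132 : nd 115132 = n218389 := ndS (p := 86399) (l := 5) rfl N86399 D218389
theorem N115133 : nd 115133 = n218390 := ndS (p := 86400) (l := 0) rfl N86400 D218390
theorem N115134 : nd 115134 = n218391 := ndS (p := 86400) (l := 4) rfl N86400 D218391
theorem N115135 : nd 115135 = n218392 := ndS (p := 86401) (l := 2) rfl N86401 D218392
theorem N115136 : nd 115136 = n218393 := ndS (p := 86401) (l := 4) rfl N86401 D218393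
theorem N115137 : nd 115137 = n218394 := ndS (p := 86401) (l := 5) rfl N86401 D218394
theorem N115138 : nd 115138 = n218395 := ndS (p := 86401) (l := 6) rfl N86401 D218395
theorem N115139 : nd 115139 = n218396 := ndS (p := 86402) (l := 4) rfl N86402 D218396
theorem N115140 : nd 115140 = n218397 := ndS (p := 86403) (l := 5) rfl N86403 D218397
theorem N115141 : nd 115141 = n218398 := ndS (p := 86418) (l := 0) rfl N86418 D218398
theorem N115142 : nd 115142 = n218399 := ndS (p := 86424) (l := 0) rfl N86424 D218399
theorem N115143 : nd 115143 = n218400 := ndS (p := 86424) (l := 1) rfl N86424 D218400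
theorem N115144 : nd 115144 = n218401 := ndS (p := 86424) (l := 2) rfl N86424 D218401
theorem N115145 : nd 115145 = n218402 := ndS (p := 86427) (l := 2) rfl N86427 D218402
theorem N115146 : nd 115146 = n218403 := ndS (p := 86428) (l := 0) rfl N86428 D218403
theorem N115147 : nd 115147 = n218404 := ndS (p := 86433) (l := 3) rfl N86433 D218404
theorem N115148 : nd 115148 = n218405 := ndS (p := 86434) (l := 1) rfl N86434 D218405
theorem N115149 : nd 115149 = n218406 := ndS (p := 86434) (l := 2) rfl N86434 D218406
theorem N115150 : nd 115150 = n218407 := ndS (p := 86434) (l := 6) rfl N86434 D218407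
theorem N115151 : nd 115151 = n218408 := ndS (p := 86437) (l := 4) rfl N86437 D218408
theorem N115152 : nd 115152 = n218409 := ndS (p := 86440) (l := 6) rfl N86440 D218409
theorem N115153 : nd 115153 = n218410 := ndS (p := 86441) (l := 0) rfl N86441 D218410
theorem N115154 : nd 115154 = n218411 := ndS (p := 86441) (l := 1) rfl N86441 D218411
theorem N115155 : nd 115155 = n218412 := ndS (p := 86441) (l := 7) rfl N86441 D218412
theorem N115156 : nd 115156 = n218413 := ndS (p := 86442) (l := 4) rfl N86442 D218413
theorem N115157 : nd 115157 = n218414 := ndS (p := 86442) (l := 5) rfl N86442 D218414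
theorem N115158 : nd 115158 = n218415 := ndS (p := 86443) (l := 4) rfl N86443 D218415
theorem N115159 : nd 115159 = n218416 := ndS (p := 86445) (l := 0) rfl N86445 D218416
theorem N115160 : nd 115160 = n218417 := ndS (p := 86445) (l := 1) rfl N86445 D218417
theorem N115161 : nd 115161 = n218418 := ndS (p := 86445) (l := 2) rfl N86445 D218418
theorem N115162 : nd 115162 = n218419 := ndS (p := 86445) (l := 6) rfl N86445 D218419
theorem N115163 : nd 115163 = n218420 := ndS (p := 86446) (l := 7) rfl N86446 D218420
theorem N115164 : nd 115164 = n218421 := ndS (p := 86447) (l := 3) rfl N86447 D218421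
theorem N115165 : nd 115165 = n218422 := ndS (p := 86448) (l := 4) rfl N86448 D218422
theorem N115166 : nd 115166 = n218423 := ndS (p := 86450) (l := 6) rfl N86450 D218423
theorem N115167 : nd 115167 = n218424 := ndS (p := 86454) (l := 1) rfl N86454 D218424
theorem N115168 : nd 115168 = n218425 := ndS (p := 86454) (l := 2) rfl N86454 D218425
theorem N115169 : nd 115169 = n218426 := ndS (p := 86454) (l := 6) rfl N86454 D218426
theorem N115170 : nd 115170 = n218427 := ndS (p := 86455) (l := 7) rfl N86455 D218427
theorem N115171 : nd 115171 = n218428 := ndS (p := 86456) (l := 5) rfl N86456 D218428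
theorem N115172 : nd 115172 = n218429 := ndS (p := 86457) (l := 6) rfl N86457 D218429
theorem N115173 : nd 115173 = n218430 := ndS (p := 86461) (l := 0) rfl N86461 D218430
theorem N115174 : nd 115174 = n218431 := ndS (p := 86461) (l := 1) rfl N86461 D218431
theorem N115175 : nd 115175 = n218432 := ndS (p := 86461) (l := 2) rfl N86461 D218432
theorem N115176 : nd 115176 = n218433 := ndS (p := 86462) (l := 5) rfl N86462 D218433
theorem N115177 : nd 115177 = n218434 := ndS (p := 86462) (l := 7) rfl N86462 D218434
theorem N115178 : nd 115178 = n218435 := ndS (p := 86468) (l := 0) rfl N86468 D218435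
theorem N115179 : nd 115179 = n218436 := ndS (p := 86477) (l := 1) rfl N86477 D218436
theorem N115180 : nd 115180 = n218437 := ndS (p := 86484) (l := 5) rfl N86484 D218437
theorem N115181 : nd 115181 = n218438 := ndS (p := 86488) (l := 5) rfl N86488 D218438
theorem N115182 : nd 115182 = n218439 := ndS (p := 86488) (l := 6) rfl N86488 D218439
theorem N115183 : nd 115183 = n218440 := ndS (p := 86491) (l := 3) rfl N86491 D218440
theorem N115184 : nd 115184 = n218441 := ndS (p := 86491) (l := 5) rfl N86491 D218441
theorem N115185 : nd 115185 = n218442 := ndS (p := 86492) (l := 5) rfl N86492 D218442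
theorem N115186 : nd 115186 = n218443 := ndS (p := 86493) (l := 1) rfl N86493 D218443
theorem N115187 : nd 115187 = n218444 := ndS (p := 86493) (l := 2) rfl N86493 D218444
theorem N115188 : nd 115188 = n218445 := ndS (p := 86494) (l := 0) rfl N86494 D218445
theorem N115189 : nd 115189 = n218446 := ndS (p := 86495) (l := 7) rfl N86495 D218446
theorem N115190 : nd 115190 = n218447 := ndS (p := 86497) (l := 4) rfl N86497 D218447
theorem N115191 : nd 115191 = n218448 := ndS (p := 86497) (l := 6) rfl N86497 D218448
theorem N115192 : nd 115192 = n218449 := ndS (p := 86499) (l := 0) rfl N86499 D218449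
theorem N115193 : nd 115193 = n218450 := ndS (p := 86499) (l := 1) rfl N86499 D218450
theorem N115194 : nd 115194 = n218451 := ndS (p := 86499) (l := 2) rfl N86499 D218451
theorem N115195 : nd 115195 = n218452 := ndS (p := 86499) (l := 6) rfl N86499 D218452
theorem N115196 : nd 115196 = n218453 := ndS (p := 86500) (l := 6) rfl N86500 D218453
theorem N115197 : nd 115197 = n218454 := ndS (p := 86501) (l := 5) rfl N86501 D218454
theorem N115198 : nd 115198 = n218455 := ndS (p := 86502) (l := 3) rfl N86502 D218455
theorem N115199 : nd 115199 = n218456 := ndS (p := 86502) (l := 6) rfl N86502 D218456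
theorem N115200 : nd 115200 = n218457 := ndS (p := 86504) (l := 0) rfl N86504 D218457
theorem N115201 : nd 115201 = n218458 := ndS (p := 86504) (l := 6) rfl N86504 D218458
theorem N115202 : nd 115202 = n218459 := ndS (p := 86505) (l := 0) rfl N86505 D218459
theorem N115203 : nd 115203 = n218460 := ndS (p := 86505) (l := 5) rfl N86505 D218460
theorem N115204 : nd 115204 = n218461 := ndS (p := 86506) (l := 3) rfl N86506 D218461
theorem N115205 : nd 115205 = n218462 := ndS (p := 86507) (l := 6) rfl N86507 D218462
theorem N115206 : nd 115206 = n218463 := ndS (p := 86508) (l := 1) rfl N86508 D218463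
theorem N115207 : nd 115207 = n218464 := ndS (p := 86508) (l := 2) rfl N86508 D218464
theorem N115208 : nd 115208 = n218465 := ndS (p := 86508) (l := 5) rfl N86508 D218465
theorem N115209 : nd 115209 = n218466 := ndS (p := 86508) (l := 6) rfl N86508 D218466
theorem N115210 : nd 115210 = n218467 := ndS (p := 86512) (l := 1) rfl N86512 D218467
theorem N115211 : nd 115211 = n218468 := ndS (p := 86512) (l := 5) rfl N86512 D218468
theorem N115212 : nd 115212 = n218469 := ndS (p := 86513) (l := 6) rfl N86513 D218469
theorem N115213 : nd 115213 = n218470 := ndS (p := 86519) (l := 6) rfl N86519 D218470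
theorem N115214 : nd 115214 = n218471 := ndS (p := 86521) (l := 6) rfl N86521 D218471
theorem N115215 : nd 115215 = n218472 := ndS (p := 86522) (l := 6) rfl N86522 D218472
theorem N115216 : nd 115216 = n218473 := ndS (p := 86523) (l := 3) rfl N86523 D218473
theorem N115217 : nd 115217 = n218474 := ndS (p := 86525) (l := 0) rfl N86525 D218474
theorem N115218 : nd 115218 = n218475 := ndS (p := 86525) (l := 1) rfl N86525 D218475
theorem N115219 : nd 115219 = n218476 := ndS (p := 86525) (l := 7) rfl N86525 D218476
theorem N115220 : nd 115220 = n218477 := ndS (p := 86527) (l := 5) rfl N86527 D218477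
theorem N115221 : nd 115221 = n218478 := ndS (p := 86530) (l := 6) rfl N86530 D218478
theorem N115222 : nd 115222 = n218479 := ndS (p := 86531) (l := 1) rfl N86531 D218479
theorem N115223 : nd 115223 = n218480 := ndS (p := 86536) (l := 1) rfl N86536 D218480
theorem N115224 : nd 115224 = n218481 := ndS (p := 86536) (l := 2) rfl N86536 D218481
theorem N115225 : nd 115225 = n218482 := ndS (p := 86537) (l := 6) rfl N86537 D218482
theorem N115226 : nd 115226 = n218483 := ndS (p := 86538) (l := 7) rfl N86538 D218483
theorem N115227 : nd 115227 = n218484 := ndS (p := 86544) (l := 3) rfl N86544 D218484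
theorem N115228 : nd 115228 = n218485 := ndS (p := 86544) (l := 5) rfl N86544 D218485
theorem N115229 : nd 115229 = n218486 := ndS (p := 86546) (l := 2) rfl N86546 D218486
theorem N115230 : nd 115230 = n218487 := ndS (p := 86546) (l := 6) rfl N86546 D218487
theorem N115231 : nd 115231 = n218488 := ndS (p := 86548) (l := 4) rfl N86548 D218488
theorem N115232 : nd 115232 = n218489 := ndS (p := 86549) (l := 4) rfl N86549 D218489
theorem N115233 : nd 115233 = n218490 := ndS (p := 86551) (l := 0) rfl N86551 D218490
theorem N115234 : nd 115234 = n218491 := ndS (p := 86551) (l := 1) rfl N86551 D218491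
theorem N115235 : nd 115235 = n218492 := ndS (p := 86551) (l := 2) rfl N86551 D218492
theorem N115236 : nd 115236 = n218493 := ndS (p := 86551) (l := 4) rfl N86551 D218493
theorem N115237 : nd 115237 = n218494 := ndS (p := 86551) (l := 6) rfl N86551 D218494
theorem N115238 : nd 115238 = n218495 := ndS (p := 86552) (l := 5) rfl N86552 D218495
theorem N115239 : nd 115239 = n218496 := ndS (p := 86553) (l := 6) rfl N86553 D218496
theorem N115240 : nd 115240 = n218497 := ndS (p := 86556) (l := 3) rfl N86556 D218497
theorem N115241 : nd 115241 = n218498 := ndS (p := 86562) (l := 4) rfl N86562 D218498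
theorem N115242 : nd 115242 = n218499 := ndS (p := 86565) (l := 3) rfl N86565 D218499
theorem N115243 : nd 115243 = n218500 := ndS (p := 86565) (l := 6) rfl N86565 D218500
theorem N115244 : nd 115244 = n218501 := ndS (p := 86572) (l := 6) rfl N86572 D218501
theorem N115245 : nd 115245 = n218502 := ndS (p := 86575) (l := 5) rfl N86575 D218502
theorem N115246 : nd 115246 = n218503 := ndS (p := 86576) (l := 3) rfl N86576 D218503
theorem N115247 : nd 115247 = n218504 := ndS (p := 86577) (l := 6) rfl N86577 D218504
theorem N115248 : nd 115248 = n218505 := ndS (p := 86578) (l := 0) rfl N86578 D218505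
theorem N115249 : nd 115249 = n218506 := ndS (p := 86578) (l := 1) rfl N86578 D218506
theorem N115250 : nd 115250 = n218507 := ndS (p := 86578) (l := 5) rfl N86578 D218507
theorem N115251 : nd 115251 = n218508 := ndS (p := 86578) (l := 7) rfl N86578 D218508
theorem N115252 : nd 115252 = n218509 := ndS (p := 86582) (l := 6) rfl N86582 D218509
theorem N115253 : nd 115253 = n218510 := ndS (p := 86589) (l := 0) rfl N86589 D218510
theorem N115254 : nd 115254 = n218511 := ndS (p := 86589) (l := 1) rfl N86589 D218511
theorem N115255 : nd 115255 = n218512 := ndS (p := 86589) (l := 2) rfl N86589 D218512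
theorem N115256 : nd 115256 = n218513 := ndS (p := 86592) (l := 6) rfl N86592 D218513
theorem N115257 : nd 115257 = n218514 := ndS (p := 86596) (l := 3) rfl N86596 D218514
theorem N115258 : nd 115258 = n218515 := ndS (p := 86598) (l := 3) rfl N86598 D218515
theorem N115259 : nd 115259 = n218516 := ndS (p := 86598) (l := 5) rfl N86598 D218516
theorem N115260 : nd 115260 = n218517 := ndS (p := 86598) (l := 6) rfl N86598 D218517
theorem N115261 : nd 115261 = n218518 := ndS (p := 86603) (l := 7) rfl N86603 D218518
theorem N115262 : nd 115262 = n218519 := ndS (p := 86604) (l := 2) rfl N86604 D218519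
theorem N115263 : nd 115263 = n218520 := ndS (p := 86605) (l := 7) rfl N86605 D218520
theorem N115264 : nd 115264 = n218521 := ndS (p := 86609) (l := 3) rfl N86609 D218521
theorem N115265 : nd 115265 = n218522 := ndS (p := 86615) (l := 3) rfl N86615 D218522
theorem N115266 : nd 115266 = n218523 := ndS (p := 86615) (l := 6) rfl N86615 D218523
theorem N115267 : nd 115267 = n218524 := ndS (p := 86618) (l := 3) rfl N86618 D218524
theorem N115268 : nd 115268 = n218525 := ndS (p := 86618) (l := 5) rfl N86618 D218525
theorem N115269 : nd 115269 = n218526 := ndS (p := 86620) (l := 3) rfl N86620 D218526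
theorem N115270 : nd 115270 = n218527 := ndS (p := 86620) (l := 4) rfl N86620 D218527
theorem N115271 : nd 115271 = n218528 := ndS (p := 86621) (l := 6) rfl N86621 D218528
theorem N115272 : nd 115272 = n218529 := ndS (p := 86622) (l := 6) rfl N86622 D218529
theorem N115273 : nd 115273 = n218530 := ndS (p := 86623) (l := 1) rfl N86623 D218530
theorem N115274 : nd 115274 = n218531 := ndS (p := 86623) (l := 5) rfl N86623 D218531
theorem N115275 : nd 115275 = n218532 := ndS (p := 86623) (l := 7) rfl N86623 D218532
theorem N115276 : nd 115276 = n218533 := ndS (p := 86627) (l := 3) rfl N86627 D218533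
theorem N115277 : nd 115277 = n218534 := ndS (p := 86627) (l := 6) rfl N86627 D218534
theorem N115278 : nd 115278 = n218535 := ndS (p := 86629) (l := 6) rfl N86629 D218535
theorem N115279 : nd 115279 = n218536 := ndS (p := 86630) (l := 4) rfl N86630 D218536
theorem N115280 : nd 115280 = n218537 := ndS (p := 86630) (l := 6) rfl N86630 D218537
theorem N115281 : nd 115281 = n218538 := ndS (p := 86631) (l := 1) rfl N86631 D218538
theorem N115282 : nd 115282 = n218539 := ndS (p := 86631) (l := 4) rfl N86631 D218539
theorem N115283 : nd 115283 = n218540 := ndS (p := 86632) (l := 0) rfl N86632 D218540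
theorem N115284 : nd 115284 = n218541 := ndS (p := 86632) (l := 3) rfl N86632 D218541
theorem N115285 : nd 115285 = n218542 := ndS (p := 86632) (l := 7) rfl N86632 D218542
theorem N115286 : nd 115286 = n218543 := ndS (p := 86633) (l := 0) rfl N86633 D218543
theorem N115287 : nd 115287 = n218544 := ndS (p := 86634) (l := 0) rfl N86634 D218544
theorem N115288 : nd 115288 = n218545 := ndS (p := 86634) (l := 7) rfl N86634 D218545
theorem N115289 : nd 115289 = n218546 := ndS (p := 86635) (l := 6) rfl N86635 D218546
theorem N115290 : nd 115290 = n218547 := ndS (p := 86636) (l := 6) rfl N86636 D218547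
theorem N115291 : nd 115291 = n218548 := ndS (p := 86638) (l := 4) rfl N86638 D218548
theorem N115292 : nd 115292 = n218549 := ndS (p := 86639) (l := 7) rfl N86639 D218549
theorem N115293 : nd 115293 = n218550 := ndS (p := 86641) (l := 4) rfl N86641 D218550
theorem N115294 : nd 115294 = n218551 := ndS (p := 86642) (l := 4) rfl N86642 D218551
theorem N115295 : nd 115295 = n218552 := ndS (p := 86642) (l := 6) rfl N86642 D218552
theorem N115296 : nd 115296 = n218553 := ndS (p := 86643) (l := 0) rfl N86643 D218553
theorem N115297 : nd 115297 = n218554 := ndS (p := 86643) (l := 1) rfl N86643 D218554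
theorem N115298 : nd 115298 = n218555 := ndS (p := 86644) (l := 0) rfl N86644 D218555
theorem N115299 : nd 115299 = n218556 := ndS (p := 86644) (l := 1) rfl N86644 D218556
theorem N115300 : nd 115300 = n218557 := ndS (p := 86645) (l := 3) rfl N86645 D218557
theorem N115301 : nd 115301 = n218558 := ndS (p := 86645) (l := 5) rfl N86645 D218558
theorem N115302 : nd 115302 = n218559 := ndS (p := 86646) (l := 6) rfl N86646 D218559
theorem N115303 : nd 115303 = n218560 := ndS (p := 86648) (l := 5) rfl N86648 D218560
theorem N115304 : nd 115304 = n218561 := ndS (p := 86648) (l := 6) rfl N86648 D218561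
theorem N115305 : nd 115305 = n218562 := ndS (p := 86649) (l := 3) rfl N86649 D218562
theorem N115306 : nd 115306 = n218563 := ndS (p := 86649) (l := 5) rfl N86649 D218563
theorem N115307 : nd 115307 = n218564 := ndS (p := 86663) (l := 0) rfl N86663 D218564
theorem N115308 : nd 115308 = n218565 := ndS (p := 86663) (l := 1) rfl N86663 D218565
theorem N115309 : nd 115309 = n218566 := ndS (p := 86664) (l := 7) rfl N86664 D218566
theorem N115310 : nd 115310 = n218567 := ndS (p := 86666) (l := 6) rfl N86666 D218567
theorem N115311 : nd 115311 = n218568 := ndS (p := 86677) (l := 1) rfl N86677 D218568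
theorem N115312 : nd 115312 = n218569 := ndS (p := 86677) (l := 5) rfl N86677 D218569
theorem N115313 : nd 115313 = n218570 := ndS (p := 86684) (l := 0) rfl N86684 D218570
theorem N115314 : nd 115314 = n218571 := ndS (p := 86686) (l := 7) rfl N86686 D218571
theorem N115315 : nd 115315 = n218572 := ndS (p := 86690) (l := 0) rfl N86690 D218572
theorem N115316 : nd 115316 = n218573 := ndS (p := 86690) (l := 2) rfl N86690 D218573
theorem N115317 : nd 115317 = n218574 := ndS (p := 86691) (l := 1) rfl N86691 D218574
theorem N115318 : nd 115318 = n218575 := ndS (p := 86691) (l := 5) rfl N86691 D218575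
theorem N115319 : nd 115319 = n218576 := ndS (p := 86691) (l := 7) rfl N86691 D218576
theorem N115320 : nd 115320 = n218577 := ndS (p := 86694) (l := 4) rfl N86694 D218577
theorem N115321 : nd 115321 = n218578 := ndS (p := 86695) (l := 4) rfl N86695 D218578
theorem N115322 : nd 115322 = n218579 := ndS (p := 86695) (l := 6) rfl N86695 D218579
theorem N115323 : nd 115323 = n218580 := ndS (p := 86700) (l := 1) rfl N86700 D218580
theorem N115324 : nd 115324 = n218581 := ndS (p := 86702) (l := 3) rfl N86702 D218581
theorem N115325 : nd 115325 = n218582 := ndS (p := 86704) (l := 7) rfl N86704 D218582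
theorem N115326 : nd 115326 = n218583 := ndS (p := 86712) (l := 0) rfl N86712 D218583
theorem N115327 : nd 115327 = n218584 := ndS (p := 86715) (l := 6) rfl N86715 D218584
theorem N115328 : nd 115328 = n218585 := ndS (p := 86716) (l := 1) rfl N86716 D218585
theorem N115329 : nd 115329 = n218586 := ndS (p := 86716) (l := 7) rfl N86716 D218586
theorem N115330 : nd 115330 = n218587 := ndS (p := 86717) (l := 7) rfl N86717 D218587
theorem N115331 : nd 115331 = n218588 := ndS (p := 86725) (l := 5) rfl N86725 D218588
theorem N115332 : nd 115332 = n218589 := ndS (p := 86727) (l := 1) rfl N86727 D218589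
theorem N115333 : nd 115333 = n218590 := ndS (p := 86727) (l := 5) rfl N86727 D218590
theorem N115334 : nd 115334 = n218591 := ndS (p := 86727) (l := 6) rfl N86727 D218591
theorem N115335 : nd 115335 = n218592 := ndS (p := 86732) (l := 0) rfl N86732 D218592
theorem N115336 : nd 115336 = n218593 := ndS (p := 86732) (l := 1) rfl N86732 D218593
theorem N115337 : nd 115337 = n218594 := ndS (p := 86732) (l := 5) rfl N86732 D218594
theorem N115338 : nd 115338 = n218595 := ndS (p := 86732) (l := 7) rfl N86732 D218595
theorem N115339 : nd 115339 = n218596 := ndS (p := 86734) (l := 3) rfl N86734 D218596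
theorem N115340 : nd 115340 = n218597 := ndS (p := 86737) (l := 5) rfl N86737 D218597
theorem N115341 : nd 115341 = n218598 := ndS (p := 86738) (l := 0) rfl N86738 D218598
theorem N115342 : nd 115342 = n218599 := ndS (p := 86740) (l := 6) rfl N86740 D218599
theorem N115343 : nd 115343 = n218600 := ndS (p := 86742) (l := 1) rfl N86742 D218600
theorem N115344 : nd 115344 = n218601 := ndS (p := 86742) (l := 7) rfl N86742 D218601
theorem N115345 : nd 115345 = n218602 := ndS (p := 86744) (l := 0) rfl N86744 D218602
theorem N115346 : nd 115346 = n218603 := ndS (p := 86744) (l := 2) rfl N86744 D218603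
theorem N115347 : nd 115347 = n218604 := ndS (p := 86744) (l := 6) rfl N86744 D218604
theorem N115348 : nd 115348 = n218605 := ndS (p := 86746) (l := 4) rfl N86746 D218605
theorem N115349 : nd 115349 = n218606 := ndS (p := 86749) (l := 3) rfl N86749 D218606
theorem N115350 : nd 115350 = n218607 := ndS (p := 86749) (l := 4) rfl N86749 D218607
theorem N115351 : nd 115351 = n218608 := ndS (p := 86751) (l := 3) rfl N86751 D218608
theorem N115352 : nd 115352 = n218609 := ndS (p := 86751) (l := 5) rfl N86751 D218609
theorem N115353 : nd 115353 = n218610 := ndS (p := 86756) (l := 4) rfl N86756 D218610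
theorem N115354 : nd 115354 = n218611 := ndS (p := 86762) (l := 0) rfl N86762 D218611
theorem N115355 : nd 115355 = n218612 := ndS (p := 86763) (l := 7) rfl N86763 D218612
theorem N115356 : nd 115356 = n218613 := ndS (p := 86769) (l := 7) rfl N86769 D218613
theorem N115357 : nd 115357 = n218614 := ndS (p := 86773) (l := 5) rfl N86773 D218614
theorem N115358 : nd 115358 = n218615 := ndS (p := 86781) (l := 5) rfl N86781 D218615
theorem N115359 : nd 115359 = n218616 := ndS (p := 86786) (l := 5) rfl N86786 D218616
theorem N115360 : nd 115360 = n218617 := ndS (p := 86788) (l := 3) rfl N86788 D218617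
theorem N115361 : nd 115361 = n218618 := ndS (p := 86791) (l := 5) rfl N86791 D218618
theorem N115362 : nd 115362 = n218619 := ndS (p := 86798) (l := 5) rfl N86798 D218619
theorem N115363 : nd 115363 = n218620 := ndS (p := 86799) (l := 0) rfl N86799 D218620
theorem N115364 : nd 115364 = n218621 := ndS (p := 86799) (l := 1) rfl N86799 D218621
theorem N115365 : nd 115365 = n218622 := ndS (p := 86800) (l := 3) rfl N86800 D218622
theorem N115366 : nd 115366 = n218623 := ndS (p := 86804) (l := 6) rfl N86804 D218623
theorem N115367 : nd 115367 = n218624 := ndS (p := 86805) (l := 0) rfl N86805 D218624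
theorem N115368 : nd 115368 = n218625 := ndS (p := 86805) (l := 1) rfl N86805 D218625
theorem N115369 : nd 115369 = n218626 := ndS (p := 86812) (l := 7) rfl N86812 D218626
theorem N115370 : nd 115370 = n218627 := ndS (p := 86846) (l := 6) rfl N86846 D218627
theorem N115371 : nd 115371 = n218628 := ndS (p := 86847) (l := 7) rfl N86847 D218628
theorem N115372 : nd 115372 = n218629 := ndS (p := 86857) (l := 3) rfl N86857 D218629
theorem N115373 : nd 115373 = n218630 := ndS (p := 86859) (l := 2) rfl N86859 D218630
theorem N115374 : nd 115374 = n218631 := ndS (p := 86861) (l := 3) rfl N86861 D218631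
theorem N115375 : nd 115375 = n218632 := ndS (p := 86861) (l := 6) rfl N86861 D218632
theorem N115376 : nd 115376 = n218633 := ndS (p := 86864) (l := 6) rfl N86864 D218633
theorem N115377 : nd 115377 = n218634 := ndS (p := 86871) (l := 5) rfl N86871 D218634
theorem N115378 : nd 115378 = n218635 := ndS (p := 86874) (l := 4) rfl N86874 D218635
theorem N115379 : nd 115379 = n218636 := ndS (p := 86876) (l := 4) rfl N86876 D218636
theorem N115380 : nd 115380 = n218637 := ndS (p := 86877) (l := 0) rfl N86877 D218637
theorem N115381 : nd 115381 = n218638 := ndS (p := 86877) (l := 5) rfl N86877 D218638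
theorem N115382 : nd 115382 = n218639 := ndS (p := 86880) (l := 0) rfl N86880 D218639
theorem N115383 : nd 115383 = n218640 := ndS (p := 86880) (l := 3) rfl N86880 D218640
theorem N115384 : nd 115384 = n218641 := ndS (p := 86880) (l := 5) rfl N86880 D218641
theorem N115385 : nd 115385 = n218642 := ndS (p := 86881) (l := 5) rfl N86881 D218642
theorem N115386 : nd 115386 = n218643 := ndS (p := 86887) (l := 7) rfl N86887 D218643
theorem N115387 : nd 115387 = n218644 := ndS (p := 86890) (l := 5) rfl N86890 D218644
theorem N115388 : nd 115388 = n218645 := ndS (p := 86892) (l := 1) rfl N86892 D218645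
theorem N115389 : nd 115389 = n218646 := ndS (p := 86894) (l := 2) rfl N86894 D218646
theorem N115390 : nd 115390 = n218647 := ndS (p := 86897) (l := 0) rfl N86897 D218647
theorem N115391 : nd 115391 = n218648 := ndS (p := 86901) (l := 5) rfl N86901 D218648
theorem N115392 : nd 115392 = n218649 := ndS (p := 86903) (l := 3) rfl N86903 D218649
theorem N115393 : nd 115393 = n218650 := ndS (p := 86906) (l := 5) rfl N86906 D218650
theorem N115394 : nd 115394 = n218651 := ndS (p := 86907) (l := 5) rfl N86907 D218651
theorem N115395 : nd 115395 = n218652 := ndS (p := 86908) (l := 5) rfl N86908 D218652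
theorem N115396 : nd 115396 = n218653 := ndS (p := 86908) (l := 6) rfl N86908 D218653
theorem N115397 : nd 115397 = n218654 := ndS (p := 86909) (l := 4) rfl N86909 D218654
theorem N115398 : nd 115398 = n218655 := ndS (p := 86913) (l := 5) rfl N86913 D218655
theorem N115399 : nd 115399 = n218656 := ndS (p := 86917) (l := 5) rfl N86917 D218656
theorem N115400 : nd 115400 = n218657 := ndS (p := 86918) (l := 3) rfl N86918 D218657
theorem N115401 : nd 115401 = n218658 := ndS (p := 86921) (l := 0) rfl N86921 D218658
theorem N115402 : nd 115402 = n218659 := ndS (p := 86921) (l := 1) rfl N86921 D218659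
theorem N115403 : nd 115403 = n218660 := ndS (p := 86926) (l := 0) rfl N86926 D218660
theorem N115404 : nd 115404 = n218661 := ndS (p := 86926) (l := 4) rfl N86926 D218661
theorem N115405 : nd 115405 = n218662 := ndS (p := 86927) (l := 0) rfl N86927 D218662
theorem N115406 : nd 115406 = n218663 := ndS (p := 86931) (l := 0) rfl N86931 D218663
theorem N115407 : nd 115407 = n218664 := ndS (p := 86931) (l := 2) rfl N86931 D218664
theorem N115408 : nd 115408 = n218665 := ndS (p := 86947) (l := 4) rfl N86947 D218665
theorem N115409 : nd 115409 = n218666 := ndS (p := 86948) (l := 3) rfl N86948 D218666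
theorem N115410 : nd 115410 = n218667 := ndS (p := 86948) (l := 6) rfl N86948 D218667
theorem N115411 : nd 115411 = n218668 := ndS (p := 86955) (l := 4) rfl N86955 D218668
theorem N115412 : nd 115412 = n218669 := ndS (p := 86963) (l := 6) rfl N86963 D218669
theorem N115413 : nd 115413 = n218670 := ndS (p := 86964) (l := 0) rfl N86964 D218670
theorem N115414 : nd 115414 = n218671 := ndS (p := 86975) (l := 4) rfl N86975 D218671
theorem N115415 : nd 115415 = n218672 := ndS (p := 86976) (l := 6) rfl N86976 D218672
theorem N115416 : nd 115416 = n218673 := ndS (p := 86985) (l := 6) rfl N86985 D218673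
theorem N115417 : nd 115417 = n218674 := ndS (p := 86986) (l := 0) rfl N86986 D218674
theorem N115418 : nd 115418 = n218675 := ndS (p := 86988) (l := 5) rfl N86988 D218675
theorem N115419 : nd 115419 = n218676 := ndS (p := 86989) (l := 4) rfl N86989 D218676
theorem N115420 : nd 115420 = n218677 := ndS (p := 86996) (l := 6) rfl N86996 D218677
theorem N115421 : nd 115421 = n218678 := ndS (p := 86997) (l := 0) rfl N86997 D218678
theorem N115422 : nd 115422 = n218679 := ndS (p := 86997) (l := 7) rfl N86997 D218679
theorem N115423 : nd 115423 = n218680 := ndS (p := 87006) (l := 6) rfl N87006 D218680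
theorem N115424 : nd 115424 = n218681 := ndS (p := 87010) (l := 6) rfl N87010 D218681
theorem N115425 : nd 115425 = n218682 := ndS (p := 87011) (l := 0) rfl N87011 D218682
theorem N115426 : nd 115426 = n218683 := ndS (p := 87011) (l := 7) rfl N87011 D218683
theorem N115427 : nd 115427 = n218684 := ndS (p := 87016) (l := 4) rfl N87016 D218684
theorem N115428 : nd 115428 = n218685 := ndS (p := 87017) (l := 7) rfl N87017 D218685
theorem N115429 : nd 115429 = n218686 := ndS (p := 87023) (l := 5) rfl N87023 D218686
theorem N115430 : nd 115430 = n218687 := ndS (p := 87044) (l := 6) rfl N87044 D218687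
theorem N115431 : nd 115431 = n218688 := ndS (p := 87054) (l := 4) rfl N87054 D218688
theorem N115432 : nd 115432 = n218689 := ndS (p := 87054) (l := 6) rfl N87054 D218689
theorem N115433 : nd 115433 = n218690 := ndS (p := 87055) (l := 6) rfl N87055 D218690
theorem N115434 : nd 115434 = n218691 := ndS (p := 87064) (l := 5) rfl N87064 D218691
theorem N115435 : nd 115435 = n218692 := ndS (p := 87065) (l := 4) rfl N87065 D218692
theorem N115436 : nd 115436 = n218693 := ndS (p := 87065) (l := 6) rfl N87065 D218693
theorem N115437 : nd 115437 = n218694 := ndS (p := 87066) (l := 3) rfl N87066 D218694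
theorem N115438 : nd 115438 = n218695 := ndS (p := 87069) (l := 3) rfl N87069 D218695
theorem N115439 : nd 115439 = n218696 := ndS (p := 87071) (l := 6) rfl N87071 D218696
theorem N115440 : nd 115440 = n218697 := ndS (p := 87072) (l := 0) rfl N87072 D218697
theorem N115441 : nd 115441 = n218698 := ndS (p := 87083) (l := 0) rfl N87083 D218698
theorem N115442 : nd 115442 = n218699 := ndS (p := 87083) (l := 4) rfl N87083 D218699
theorem N115443 : nd 115443 = n218700 := ndS (p := 87084) (l := 4) rfl N87084 D218700
theorem N115444 : nd 115444 = n218701 := ndS (p := 87084) (l := 7) rfl N87084 D218701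
theorem N115445 : nd 115445 = n218702 := ndS (p := 87086) (l := 0) rfl N87086 D218702
theorem N115446 : nd 115446 = n218703 := ndS (p := 87086) (l := 1) rfl N87086 D218703
theorem N115447 : nd 115447 = n218704 := ndS (p := 87086) (l := 3) rfl N87086 D218704
theorem N115448 : nd 115448 = n218705 := ndS (p := 87086) (l := 5) rfl N87086 D218705
theorem N115449 : nd 115449 = n218706 := ndS (p := 87091) (l := 4) rfl N87091 D218706
theorem N115450 : nd 115450 = n218707 := ndS (p := 87094) (l := 5) rfl N87094 D218707
theorem N115451 : nd 115451 = n218708 := ndS (p := 87095) (l := 3) rfl N87095 D218708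
theorem N115452 : nd 115452 = n218709 := ndS (p := 87098) (l := 6) rfl N87098 D218709
theorem N115453 : nd 115453 = n218710 := ndS (p := 87100) (l := 4) rfl N87100 D218710
theorem N115454 : nd 115454 = n218711 := ndS (p := 87104) (l := 5) rfl N87104 D218711
theorem N115455 : nd 115455 = n218712 := ndS (p := 87107) (l := 6) rfl N87107 D218712
theorem N115456 : nd 115456 = n218713 := ndS (p := 87108) (l := 0) rfl N87108 D218713
theorem N115457 : nd 115457 = n218714 := ndS (p := 87108) (l := 1) rfl N87108 D218714
theorem N115458 : nd 115458 = n218715 := ndS (p := 87108) (l := 3) rfl N87108 D218715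
theorem N115459 : nd 115459 = n218716 := ndS (p := 87108) (l := 5) rfl N87108 D218716
theorem N115460 : nd 115460 = n218717 := ndS (p := 87108) (l := 6) rfl N87108 D218717
theorem N115461 : nd 115461 = n218718 := ndS (p := 87109) (l := 7) rfl N87109 D218718
theorem N115462 : nd 115462 = n218719 := ndS (p := 87110) (l := 3) rfl N87110 D218719
theorem N115463 : nd 115463 = n218720 := ndS (p := 87110) (l := 5) rfl N87110 D218720
theorem N115464 : nd 115464 = n218721 := ndS (p := 87112) (l := 3) rfl N87112 D218721
theorem N115465 : nd 115465 = n218722 := ndS (p := 87113) (l := 1) rfl N87113 D218722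
theorem N115466 : nd 115466 = n218723 := ndS (p := 87113) (l := 5) rfl N87113 D218723
theorem N115467 : nd 115467 = n218724 := ndS (p := 87114) (l := 0) rfl N87114 D218724
theorem N115468 : nd 115468 = n218725 := ndS (p := 87114) (l := 1) rfl N87114 D218725
theorem N115469 : nd 115469 = n218726 := ndS (p := 87117) (l := 4) rfl N87117 D218726
theorem N115470 : nd 115470 = n218727 := ndS (p := 87119) (l := 4) rfl N87119 D218727
theorem N115471 : nd 115471 = n218728 := ndS (p := 87119) (l := 6) rfl N87119 D218728
theorem N115472 : nd 115472 = n218729 := ndS (p := 87130) (l := 3) rfl N87130 D218729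
theorem N115473 : nd 115473 = n218730 := ndS (p := 87132) (l := 6) rfl N87132 D218730
theorem N115474 : nd 115474 = n218731 := ndS (p := 87135) (l := 4) rfl N87135 D218731
theorem N115475 : nd 115475 = n218732 := ndS (p := 87140) (l := 5) rfl N87140 D218732
theorem N115476 : nd 115476 = n218733 := ndS (p := 87141) (l := 4) rfl N87141 D218733
theorem N115477 : nd 115477 = n218734 := ndS (p := 87141) (l := 5) rfl N87141 D218734
theorem N115478 : nd 115478 = n218735 := ndS (p := 87149) (l := 1) rfl N87149 D218735
theorem N115479 : nd 115479 = n218736 := ndS (p := 87149) (l := 2) rfl N87149 D218736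
theorem N115480 : nd 115480 = n218737 := ndS (p := 87149) (l := 4) rfl N87149 D218737
theorem N115481 : nd 115481 = n218738 := ndS (p := 87150) (l := 5) rfl N87150 D218738
theorem N115482 : nd 115482 = n218739 := ndS (p := 87151) (l := 4) rfl N87151 D218739
theorem N115483 : nd 115483 = n218740 := ndS (p := 87155) (l := 3) rfl N87155 D218740
theorem N115484 : nd 115484 = n218741 := ndS (p := 87156) (l := 0) rfl N87156 D218741
theorem N115485 : nd 115485 = n218742 := ndS (p := 87162) (l := 3) rfl N87162 D218742
theorem N115486 : nd 115486 = n218743 := ndS (p := 87162) (l := 6) rfl N87162 D218743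
theorem N115487 : nd 115487 = n218744 := ndS (p := 87164) (l := 7) rfl N87164 D218744
theorem N115488 : nd 115488 = n218745 := ndS (p := 87165) (l := 3) rfl N87165 D218745
theorem N115489 : nd 115489 = n218746 := ndS (p := 87165) (l := 6) rfl N87165 D218746
theorem N115490 : nd 115490 = n218747 := ndS (p := 87168) (l := 0) rfl N87168 D218747
theorem N115491 : nd 115491 = n218748 := ndS (p := 87168) (l := 5) rfl N87168 D218748
theorem N115492 : nd 115492 = n218749 := ndS (p := 87170) (l := 4) rfl N87170 D218749
theorem N115493 : nd 115493 = n218750 := ndS (p := 87171) (l := 0) rfl N87171 D218750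
theorem N115494 : nd 115494 = n218751 := ndS (p := 87172) (l := 1) rfl N87172 D218751
theorem N115495 : nd 115495 = n218752 := ndS (p := 87172) (l := 7) rfl N87172 D218752
theorem N115496 : nd 115496 = n218753 := ndS (p := 87173) (l := 5) rfl N87173 D218753
theorem N115497 : nd 115497 = n218754 := ndS (p := 87174) (l := 4) rfl N87174 D218754
theorem N115498 : nd 115498 = n218755 := ndS (p := 87174) (l := 6) rfl N87174 D218755
theorem N115499 : nd 115499 = n218756 := ndS (p := 87175) (l := 5) rfl N87175 D218756
theorem N115500 : nd 115500 = n218757 := ndS (p := 87175) (l := 7) rfl N87175 D218757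
theorem N115501 : nd 115501 = n218758 := ndS (p := 87176) (l := 4) rfl N87176 D218758
theorem N115502 : nd 115502 = n218759 := ndS (p := 87176) (l := 6) rfl N87176 D218759
theorem N115503 : nd 115503 = n218760 := ndS (p := 87177) (l := 3) rfl N87177 D218760
theorem N115504 : nd 115504 = n218761 := ndS (p := 87177) (l := 4) rfl N87177 D218761
theorem N115505 : nd 115505 = n218762 := ndS (p := 87178) (l := 3) rfl N87178 D218762
theorem N115506 : nd 115506 = n218763 := ndS (p := 87182) (l := 0) rfl N87182 D218763
theorem N115507 : nd 115507 = n218764 := ndS (p := 87182) (l := 1) rfl N87182 D218764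
theorem N115508 : nd 115508 = n218765 := ndS (p := 87182) (l := 4) rfl N87182 D218765
theorem N115509 : nd 115509 = n218766 := ndS (p := 87184) (l := 1) rfl N87184 D218766
theorem N115510 : nd 115510 = n218767 := ndS (p := 87185) (l := 4) rfl N87185 D218767
theorem N115511 : nd 115511 = n218768 := ndS (p := 87185) (l := 6) rfl N87185 D218768
theorem N115512 : nd 115512 = n218769 := ndS (p := 87195) (l := 5) rfl N87195 D218769
theorem N115513 : nd 115513 = n218770 := ndS (p := 87198) (l := 6) rfl N87198 D218770
theorem N115514 : nd 115514 = n218771 := ndS (p := 87199) (l := 3) rfl N87199 D218771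
theorem N115515 : nd 115515 = n218772 := ndS (p := 87199) (l := 6) rfl N87199 D218772
theorem N115516 : nd 115516 = n218773 := ndS (p := 87201) (l := 5) rfl N87201 D218773
theorem N115517 : nd 115517 = n218774 := ndS (p := 87202) (l := 0) rfl N87202 D218774
theorem N115518 : nd 115518 = n218775 := ndS (p := 87202) (l := 1) rfl N87202 D218775
theorem N115519 : nd 115519 = n218776 := ndS (p := 87202) (l := 4) rfl N87202 D218776
theorem N115520 : nd 115520 = n218777 := ndS (p := 87212) (l := 2) rfl N87212 D218777
theorem N115521 : nd 115521 = n218778 := ndS (p := 87212) (l := 4) rfl N87212 D218778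
theorem N115522 : nd 115522 = n218779 := ndS (p := 87212) (l := 6) rfl N87212 D218779
theorem N115523 : nd 115523 = n218780 := ndS (p := 87213) (l := 3) rfl N87213 D218780
theorem N115524 : nd 115524 = n218781 := ndS (p := 87215) (l := 4) rfl N87215 D218781
theorem N115525 : nd 115525 = n218782 := ndS (p := 87217) (l := 3) rfl N87217 D218782
theorem N115526 : nd 115526 = n218783 := ndS (p := 87218) (l := 3) rfl N87218 D218783
theorem N115527 : nd 115527 = n218784 := ndS (p := 87219) (l := 1) rfl N87219 D218784
theorem N115528 : nd 115528 = n218785 := ndS (p := 87219) (l := 2) rfl N87219 D218785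
theorem N115529 : nd 115529 = n218786 := ndS (p := 87219) (l := 7) rfl N87219 D218786
theorem N115530 : nd 115530 = n218787 := ndS (p := 87222) (l := 5) rfl N87222 D218787
theorem N115531 : nd 115531 = n218788 := ndS (p := 87223) (l := 4) rfl N87223 D218788
theorem N115532 : nd 115532 = n218789 := ndS (p := 87223) (l := 6) rfl N87223 D218789
theorem N115533 : nd 115533 = n218790 := ndS (p := 87224) (l := 4) rfl N87224 D218790
theorem N115534 : nd 115534 = n218791 := ndS (p := 87224) (l := 6) rfl N87224 D218791
theorem N115535 : nd 115535 = n218792 := ndS (p := 87226) (l := 6) rfl N87226 D218792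
theorem N115536 : nd 115536 = n218793 := ndS (p := 87227) (l := 4) rfl N87227 D218793
theorem N115537 : nd 115537 = n218794 := ndS (p := 87228) (l := 0) rfl N87228 D218794
theorem N115538 : nd 115538 = n218795 := ndS (p := 87233) (l := 4) rfl N87233 D218795
theorem N115539 : nd 115539 = n218796 := ndS (p := 87233) (l := 6) rfl N87233 D218796
theorem N115540 : nd 115540 = n218797 := ndS (p := 87234) (l := 6) rfl N87234 D218797
theorem N115541 : nd 115541 = n218798 := ndS (p := 87236) (l := 4) rfl N87236 D218798
theorem N115542 : nd 115542 = n218799 := ndS (p := 87237) (l := 0) rfl N87237 D218799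
theorem N115543 : nd 115543 = n218800 := ndS (p := 87237) (l := 1) rfl N87237 D218800
theorem N115544 : nd 115544 = n218801 := ndS (p := 87237) (l := 6) rfl N87237 D218801
theorem N115545 : nd 115545 = n218802 := ndS (p := 87238) (l := 0) rfl N87238 D218802
theorem N115546 : nd 115546 = n218803 := ndS (p := 87238) (l := 1) rfl N87238 D218803
theorem N115547 : nd 115547 = n218804 := ndS (p := 87238) (l := 7) rfl N87238 D218804
theorem N115548 : nd 115548 = n218805 := ndS (p := 87244) (l := 6) rfl N87244 D218805
theorem N115549 : nd 115549 = n218806 := ndS (p := 87245) (l := 4) rfl N87245 D218806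
theorem N115550 : nd 115550 = n218807 := ndS (p := 87246) (l := 5) rfl N87246 D218807
theorem N115551 : nd 115551 = n218808 := ndS (p := 87248) (l := 3) rfl N87248 D218808
theorem N115552 : nd 115552 = n218809 := ndS (p := 87258) (l := 0) rfl N87258 D218809
theorem N115553 : nd 115553 = n218810 := ndS (p := 87258) (l := 1) rfl N87258 D218810
theorem N115554 : nd 115554 = n218811 := ndS (p := 87262) (l := 3) rfl N87262 D218811
theorem N115555 : nd 115555 = n218812 := ndS (p := 87262) (l := 5) rfl N87262 D218812
theorem N115556 : nd 115556 = n218813 := ndS (p := 87263) (l := 4) rfl N87263 D218813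
theorem N115557 : nd 115557 = n218814 := ndS (p := 87264) (l := 3) rfl N87264 D218814
theorem N115558 : nd 115558 = n218815 := ndS (p := 87265) (l := 6) rfl N87265 D218815
theorem N115559 : nd 115559 = n218816 := ndS (p := 87266) (l := 6) rfl N87266 D218816
theorem N115560 : nd 115560 = n218817 := ndS (p := 87269) (l := 0) rfl N87269 D218817
theorem N115561 : nd 115561 = n218818 := ndS (p := 87269) (l := 1) rfl N87269 D218818
theorem N115562 : nd 115562 = n218819 := ndS (p := 87270) (l := 6) rfl N87270 D218819
theorem N115563 : nd 115563 = n218820 := ndS (p := 87271) (l := 3) rfl N87271 D218820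
theorem N115564 : nd 115564 = n218821 := ndS (p := 87274) (l := 6) rfl N87274 D218821
theorem N115565 : nd 115565 = n218822 := ndS (p := 87277) (l := 4) rfl N87277 D218822
theorem N115566 : nd 115566 = n218823 := ndS (p := 87278) (l := 4) rfl N87278 D218823
theorem N115567 : nd 115567 = n218824 := ndS (p := 87278) (l := 6) rfl N87278 D218824
theorem N115568 : nd 115568 = n218825 := ndS (p := 87280) (l := 3) rfl N87280 D218825
theorem N115569 : nd 115569 = n218826 := ndS (p := 87282) (l := 4) rfl N87282 D218826
theorem N115570 : nd 115570 = n218827 := ndS (p := 87282) (l := 5) rfl N87282 D218827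
theorem N115571 : nd 115571 = n218828 := ndS (p := 87283) (l := 5) rfl N87283 D218828
theorem N115572 : nd 115572 = n218829 := ndS (p := 87286) (l := 7) rfl N87286 D218829
theorem N115573 : nd 115573 = n218830 := ndS (p := 87290) (l := 3) rfl N87290 D218830
theorem N115574 : nd 115574 = n218831 := ndS (p := 87291) (l := 1) rfl N87291 D218831
theorem N115575 : nd 115575 = n218832 := ndS (p := 87295) (l := 3) rfl N87295 D218832
theorem N115576 : nd 115576 = n218833 := ndS (p := 87295) (l := 6) rfl N87295 D218833
theorem N115577 : nd 115577 = n218834 := ndS (p := 87297) (l := 0) rfl N87297 D218834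
theorem N115578 : nd 115578 = n218835 := ndS (p := 87301) (l := 6) rfl N87301 D218835
theorem N115579 : nd 115579 = n218836 := ndS (p := 87302) (l := 0) rfl N87302 D218836
theorem N115580 : nd 115580 = n218837 := ndS (p := 87302) (l := 1) rfl N87302 D218837
theorem N115581 : nd 115581 = n218838 := ndS (p := 87304) (l := 0) rfl N87304 D218838
theorem N115582 : nd 115582 = n218839 := ndS (p := 87304) (l := 2) rfl N87304 D218839
theorem N115583 : nd 115583 = n218840 := ndS (p := 87309) (l := 6) rfl N87309 D218840
theorem N115584 : nd 115584 = n218841 := ndS (p := 87311) (l := 6) rfl N87311 D218841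
theorem N115585 : nd 115585 = n218842 := ndS (p := 87313) (l := 3) rfl N87313 D218842
theorem N115586 : nd 115586 = n218843 := ndS (p := 87313) (l := 6) rfl N87313 D218843
theorem N115587 : nd 115587 = n218844 := ndS (p := 87317) (l := 0) rfl N87317 D218844
theorem N115588 : nd 115588 = n218845 := ndS (p := 87317) (l := 2) rfl N87317 D218845
theorem N115589 : nd 115589 = n218846 := ndS (p := 87317) (l := 6) rfl N87317 D218846
theorem N115590 : nd 115590 = n218847 := ndS (p := 87318) (l := 7) rfl N87318 D218847
theorem N115591 : nd 115591 = n218849 := ndS (p := 87319) (l := 4) rfl N87319 D218849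
theorem N115592 : nd 115592 = n218850 := ndS (p := 87319) (l := 5) rfl N87319 D218850
theorem N115593 : nd 115593 = n218851 := ndS (p := 87319) (l := 6) rfl N87319 D218851
theorem N115594 : nd 115594 = n218852 := ndS (p := 87320) (l := 3) rfl N87320 D218852
theorem N115595 : nd 115595 = n218853 := ndS (p := 87322) (l := 1) rfl N87322 D218853
theorem N115596 : nd 115596 = n218854 := ndS (p := 87323) (l := 0) rfl N87323 D218854
theorem N115597 : nd 115597 = n218855 := ndS (p := 87323) (l := 1) rfl N87323 D218855
theorem N115598 : nd 115598 = n218856 := ndS (p := 87323) (l := 6) rfl N87323 D218856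
theorem N115599 : nd 115599 = n218857 := ndS (p := 87324) (l := 0) rfl N87324 D218857
theorem N115600 : nd 115600 = n218858 := ndS (p := 87326) (l := 5) rfl N87326 D218858
theorem N115601 : nd 115601 = n218859 := ndS (p := 87328) (l := 6) rfl N87328 D218859
theorem N115602 : nd 115602 = n218860 := ndS (p := 87329) (l := 6) rfl N87329 D218860
theorem N115603 : nd 115603 = n218861 := ndS (p := 87330) (l := 0) rfl N87330 D218861
theorem N115604 : nd 115604 = n218862 := ndS (p := 87330) (l := 7) rfl N87330 D218862
theorem N115605 : nd 115605 = n218863 := ndS (p := 87335) (l := 0) rfl N87335 D218863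
theorem N115606 : nd 115606 = n218864 := ndS (p := 87335) (l := 1) rfl N87335 D218864
theorem N115607 : nd 115607 = n218865 := ndS (p := 87336) (l := 3) rfl N87336 D218865
theorem N115608 : nd 115608 = n218866 := ndS (p := 87336) (l := 4) rfl N87336 D218866
theorem N115609 : nd 115609 = n218867 := ndS (p := 87336) (l := 6) rfl N87336 D218867
theorem N115610 : nd 115610 = n218868 := ndS (p := 87337) (l := 3) rfl N87337 D218868
theorem N115611 : nd 115611 = n218869 := ndS (p := 87337) (l := 4) rfl N87337 D218869
theorem N115612 : nd 115612 = n218870 := ndS (p := 87337) (l := 6) rfl N87337 D218870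
theorem N115613 : nd 115613 = n218871 := ndS (p := 87338) (l := 3) rfl N87338 D218871
theorem N115614 : nd 115614 = n218872 := ndS (p := 87338) (l := 5) rfl N87338 D218872
theorem N115615 : nd 115615 = n218873 := ndS (p := 87338) (l := 6) rfl N87338 D218873
theorem N115616 : nd 115616 = n218874 := ndS (p := 87339) (l := 0) rfl N87339 D218874
theorem N115617 : nd 115617 = n218875 := ndS (p := 87339) (l := 1) rfl N87339 D218875
theorem N115618 : nd 115618 = n218876 := ndS (p := 87339) (l := 7) rfl N87339 D218876
theorem N115619 : nd 115619 = n218877 := ndS (p := 87340) (l := 0) rfl N87340 D218877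
theorem N115620 : nd 115620 = n218878 := ndS (p := 87340) (l := 1) rfl N87340 D218878
theorem N115621 : nd 115621 = n218879 := ndS (p := 87341) (l := 7) rfl N87341 D218879
theorem N115622 : nd 115622 = n218880 := ndS (p := 87343) (l := 4) rfl N87343 D218880
theorem N115623 : nd 115623 = n218881 := ndS (p := 87347) (l := 1) rfl N87347 D218881
theorem N115624 : nd 115624 = n218882 := ndS (p := 87347) (l := 5) rfl N87347 D218882
theorem N115625 : nd 115625 = n218883 := ndS (p := 87350) (l := 5) rfl N87350 D218883
theorem N115626 : nd 115626 = n218884 := ndS (p := 87351) (l := 5) rfl N87351 D218884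
theorem N115627 : nd 115627 = n218885 := ndS (p := 87356) (l := 4) rfl N87356 D218885
theorem N115628 : nd 115628 = n218886 := ndS (p := 87358) (l := 5) rfl N87358 D218886
theorem N115629 : nd 115629 = n218887 := ndS (p := 87360) (l := 4) rfl N87360 D218887
theorem N115630 : nd 115630 = n218888 := ndS (p := 87360) (l := 6) rfl N87360 D218888
theorem N115631 : nd 115631 = n218889 := ndS (p := 87363) (l := 3) rfl N87363 D218889
theorem N115632 : nd 115632 = n218890 := ndS (p := 87368) (l := 6) rfl N87368 D218890
theorem N115633 : nd 115633 = n218891 := ndS (p := 87370) (l := 6) rfl N87370 D218891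
theorem N115634 : nd 115634 = n218892 := ndS (p := 87371) (l := 1) rfl N87371 D218892
theorem N115635 : nd 115635 = n218893 := ndS (p := 87378) (l := 3) rfl N87378 D218893
theorem N115636 : nd 115636 = n218894 := ndS (p := 87379) (l := 4) rfl N87379 D218894
theorem N115637 : nd 115637 = n218895 := ndS (p := 87382) (l := 4) rfl N87382 D218895
theorem N115638 : nd 115638 = n218896 := ndS (p := 87382) (l := 6) rfl N87382 D218896
theorem N115639 : nd 115639 = n218897 := ndS (p := 87388) (l := 0) rfl N87388 D218897
theorem N115640 : nd 115640 = n218898 := ndS (p := 87388) (l := 1) rfl N87388 D218898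
theorem N115641 : nd 115641 = n218899 := ndS (p := 87389) (l := 0) rfl N87389 D218899
theorem N115642 : nd 115642 = n218900 := ndS (p := 87389) (l := 1) rfl N87389 D218900
theorem N115643 : nd 115643 = n218901 := ndS (p := 87390) (l := 3) rfl N87390 D218901
theorem N115644 : nd 115644 = n218902 := ndS (p := 87401) (l := 0) rfl N87401 D218902
theorem N115645 : nd 115645 = n218903 := ndS (p := 87402) (l := 4) rfl N87402 D218903
theorem N115646 : nd 115646 = n218904 := ndS (p := 87402) (l := 6) rfl N87402 D218904
theorem N115647 : nd 115647 = n218905 := ndS (p := 87404) (l := 6) rfl N87404 D218905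
theorem N115648 : nd 115648 = n218906 := ndS (p := 87406) (l := 0) rfl N87406 D218906
theorem N115649 : nd 115649 = n218907 := ndS (p := 87406) (l := 1) rfl N87406 D218907
theorem N115650 : nd 115650 = n218908 := ndS (p := 87406) (l := 3) rfl N87406 D218908
theorem N115651 : nd 115651 = n218909 := ndS (p := 87407) (l := 6) rfl N87407 D218909
theorem N115652 : nd 115652 = n218910 := ndS (p := 87408) (l := 4) rfl N87408 D218910
theorem N115653 : nd 115653 = n218911 := ndS (p := 87410) (l := 6) rfl N87410 D218911
theorem N115654 : nd 115654 = n218912 := ndS (p := 87411) (l := 0) rfl N87411 D218912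
theorem N115655 : nd 115655 = n218913 := ndS (p := 87411) (l := 7) rfl N87411 D218913
theorem N115656 : nd 115656 = n218914 := ndS (p := 87413) (l := 6) rfl N87413 D218914
theorem N115657 : nd 115657 = n218915 := ndS (p := 87414) (l := 0) rfl N87414 D218915
theorem N115658 : nd 115658 = n218916 := ndS (p := 87416) (l := 6) rfl N87416 D218916
theorem N115659 : nd 115659 = n218917 := ndS (p := 87420) (l := 3) rfl N87420 D218917
theorem N115660 : nd 115660 = n218918 := ndS (p := 87423) (l := 4) rfl N87423 D218918
theorem N115661 : nd 115661 = n218919 := ndS (p := 87423) (l := 6) rfl N87423 D218919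
theorem N115662 : nd 115662 = n218920 := ndS (p := 87427) (l := 1) rfl N87427 D218920
theorem N115663 : nd 115663 = n218921 := ndS (p := 87428) (l := 4) rfl N87428 D218921
theorem N115664 : nd 115664 = n218922 := ndS (p := 87429) (l := 7) rfl N87429 D218922
theorem N115665 : nd 115665 = n218923 := ndS (p := 87431) (l := 3) rfl N87431 D218923
theorem N115666 : nd 115666 = n218924 := ndS (p := 87432) (l := 0) rfl N87432 D218924
theorem N115667 : nd 115667 = n218925 := ndS (p := 87432) (l := 1) rfl N87432 D218925
theorem N115668 : nd 115668 = n218926 := ndS (p := 87432) (l := 2) rfl N87432 D218926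
theorem N115669 : nd 115669 = n218927 := ndS (p := 87432) (l := 7) rfl N87432 D218927
theorem N115670 : nd 115670 = n218928 := ndS (p := 87433) (l := 6) rfl N87433 D218928
theorem N115671 : nd 115671 = n218929 := ndS (p := 87435) (l := 5) rfl N87435 D218929
theorem N115672 : nd 115672 = n218930 := ndS (p := 87441) (l := 0) rfl N87441 D218930
theorem N115673 : nd 115673 = n218931 := ndS (p := 87441) (l := 1) rfl N87441 D218931
theorem N115674 : nd 115674 = n218932 := ndS (p := 87441) (l := 2) rfl N87441 D218932
theorem N115675 : nd 115675 = n218933 := ndS (p := 87442) (l := 3) rfl N87442 D218933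
theorem N115676 : nd 115676 = n218934 := ndS (p := 87442) (l := 4) rfl N87442 D218934
theorem N115677 : nd 115677 = n218935 := ndS (p := 87442) (l := 6) rfl N87442 D218935
theorem N115678 : nd 115678 = n218936 := ndS (p := 87442) (l := 7) rfl N87442 D218936
theorem N115679 : nd 115679 = n218937 := ndS (p := 87443) (l := 4) rfl N87443 D218937
theorem N115680 : nd 115680 = n218938 := ndS (p := 87446) (l := 0) rfl N87446 D218938
theorem N115681 : nd 115681 = n218939 := ndS (p := 87446) (l := 1) rfl N87446 D218939
theorem N115682 : nd 115682 = n218940 := ndS (p := 87448) (l := 3) rfl N87448 D218940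
theorem N115683 : nd 115683 = n218941 := ndS (p := 87448) (l := 6) rfl N87448 D218941
theorem N115684 : nd 115684 = n218942 := ndS (p := 87468) (l := 7) rfl N87468 D218942
theorem N115685 : nd 115685 = n218943 := ndS (p := 87474) (l := 4) rfl N87474 D218943
theorem N115686 : nd 115686 = n218944 := ndS (p := 87478) (l := 0) rfl N87478 D218944
theorem N115687 : nd 115687 = n218945 := ndS (p := 87478) (l := 1) rfl N87478 D218945
theorem N115688 : nd 115688 = n218946 := ndS (p := 87482) (l := 3) rfl N87482 D218946
theorem N115689 : nd 115689 = n218947 := ndS (p := 87483) (l := 6) rfl N87483 D218947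
theorem N115690 : nd 115690 = n218948 := ndS (p := 87487) (l := 6) rfl N87487 D218948
theorem N115691 : nd 115691 = n218949 := ndS (p := 87490) (l := 4) rfl N87490 D218949
theorem N115692 : nd 115692 = n218950 := ndS (p := 87491) (l := 1) rfl N87491 D218950
theorem N115693 : nd 115693 = n218951 := ndS (p := 87491) (l := 3) rfl N87491 D218951
theorem N115694 : nd 115694 = n218952 := ndS (p := 87491) (l := 5) rfl N87491 D218952
theorem N115695 : nd 115695 = n218954 := ndS (p := 87496) (l := 0) rfl N87496 D218954
theorem N115696 : nd 115696 = n218955 := ndS (p := 87496) (l := 1) rfl N87496 D218955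
theorem N115697 : nd 115697 = n218956 := ndS (p := 87512) (l := 0) rfl N87512 D218956
theorem N115698 : nd 115698 = n218957 := ndS (p := 87512) (l := 1) rfl N87512 D218957
theorem N115699 : nd 115699 = n218958 := ndS (p := 87512) (l := 7) rfl N87512 D218958
theorem N115700 : nd 115700 = n218959 := ndS (p := 87521) (l := 6) rfl N87521 D218959
theorem N115701 : nd 115701 = n218960 := ndS (p := 87536) (l := 3) rfl N87536 D218960
theorem N115702 : nd 115702 = n218961 := ndS (p := 87536) (l := 5) rfl N87536 D218961
theorem N115703 : nd 115703 = n218962 := ndS (p := 87539) (l := 5) rfl N87539 D218962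
theorem N115704 : nd 115704 = n218963 := ndS (p := 87542) (l := 4) rfl N87542 D218963
theorem N115705 : nd 115705 = n218964 := ndS (p := 87542) (l := 7) rfl N87542 D218964
theorem N115706 : nd 115706 = n218965 := ndS (p := 87544) (l := 4) rfl N87544 D218965
theorem N115707 : nd 115707 = n218966 := ndS (p := 87554) (l := 5) rfl N87554 D218966
theorem N115708 : nd 115708 = n218967 := ndS (p := 87556) (l := 0) rfl N87556 D218967
theorem N115709 : nd 115709 = n218968 := ndS (p := 87560) (l := 0) rfl N87560 D218968
theorem N115710 : nd 115710 = n218969 := ndS (p := 87564) (l := 4) rfl N87564 D218969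
theorem N115711 : nd 115711 = n218970 := ndS (p := 87566) (l := 6) rfl N87566 D218970
theorem N115712 : nd 115712 = n218971 := ndS (p := 87572) (l := 5) rfl N87572 D218971
theorem N115713 : nd 115713 = n218972 := ndS (p := 87580) (l := 3) rfl N87580 D218972
theorem N115714 : nd 115714 = n218973 := ndS (p := 87582) (l := 4) rfl N87582 D218973
theorem N115715 : nd 115715 = n218974 := ndS (p := 87588) (l := 0) rfl N87588 D218974
theorem N115716 : nd 115716 = n218975 := ndS (p := 87588) (l := 3) rfl N87588 D218975
theorem N115717 : nd 115717 = n218976 := ndS (p := 87594) (l := 4) rfl N87594 D218976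
theorem N115718 : nd 115718 = n218977 := ndS (p := 87595) (l := 1) rfl N87595 D218977
theorem N115719 : nd 115719 = n218978 := ndS (p := 87595) (l := 5) rfl N87595 D218978
theorem N115720 : nd 115720 = n218979 := ndS (p := 87598) (l := 5) rfl N87598 D218979
theorem N115721 : nd 115721 = n218980 := ndS (p := 87599) (l := 5) rfl N87599 D218980
theorem N115722 : nd 115722 = n218981 := ndS (p := 87602) (l := 0) rfl N87602 D218981
theorem N115723 : nd 115723 = n218982 := ndS (p := 87604) (l := 3) rfl N87604 D218982
theorem N115724 : nd 115724 = n218983 := ndS (p := 87607) (l := 4) rfl N87607 D218983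
theorem N115725 : nd 115725 = n218984 := ndS (p := 87607) (l := 6) rfl N87607 D218984
theorem N115726 : nd 115726 = n218985 := ndS (p := 87608) (l := 4) rfl N87608 D218985
theorem N115727 : nd 115727 = n218986 := ndS (p := 87608) (l := 6) rfl N87608 D218986
theorem N115728 : nd 115728 = n218987 := ndS (p := 87612) (l := 5) rfl N87612 D218987
theorem N115729 : nd 115729 = n218988 := ndS (p := 87613) (l := 0) rfl N87613 D218988
theorem N115730 : nd 115730 = n218989 := ndS (p := 87613) (l := 1) rfl N87613 D218989
theorem N115731 : nd 115731 = n218990 := ndS (p := 87616) (l := 5) rfl N87616 D218990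
theorem N115732 : nd 115732 = n218991 := ndS (p := 87628) (l := 4) rfl N87628 D218991
theorem N115733 : nd 115733 = n218992 := ndS (p := 87633) (l := 5) rfl N87633 D218992
theorem N115734 : nd 115734 = n218993 := ndS (p := 87637) (l := 6) rfl N87637 D218993
theorem N115735 : nd 115735 = n218994 := ndS (p := 87639) (l := 0) rfl N87639 D218994
theorem N115736 : nd 115736 = n218995 := ndS (p := 87639) (l := 1) rfl N87639 D218995
theorem N115737 : nd 115737 = n218996 := ndS (p := 87639) (l := 7) rfl N87639 D218996
theorem N115738 : nd 115738 = n218997 := ndS (p := 87640) (l := 1) rfl N87640 D218997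
theorem N115739 : nd 115739 = n218998 := ndS (p := 87640) (l := 2) rfl N87640 D218998
theorem N115740 : nd 115740 = n218999 := ndS (p := 87645) (l := 6) rfl N87645 D218999
theorem N115741 : nd 115741 = n219000 := ndS (p := 87651) (l := 6) rfl N87651 D219000
theorem N115742 : nd 115742 = n219001 := ndS (p := 87652) (l := 6) rfl N87652 D219001
theorem N115743 : nd 115743 = n219002 := ndS (p := 87653) (l := 7) rfl N87653 D219002
theorem N115744 : nd 115744 = n219003 := ndS (p := 87654) (l := 2) rfl N87654 D219003
theorem N115745 : nd 115745 = n219004 := ndS (p := 87654) (l := 4) rfl N87654 D219004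
theorem N115746 : nd 115746 = n219005 := ndS (p := 87658) (l := 2) rfl N87658 D219005
theorem N115747 : nd 115747 = n219006 := ndS (p := 87662) (l := 5) rfl N87662 D219006
theorem N115748 : nd 115748 = n219007 := ndS (p := 87663) (l := 3) rfl N87663 D219007
theorem N115749 : nd 115749 = n219008 := ndS (p := 87664) (l := 3) rfl N87664 D219008
theorem N115750 : nd 115750 = n219009 := ndS (p := 87672) (l := 3) rfl N87672 D219009
theorem N115751 : nd 115751 = n219010 := ndS (p := 87672) (l := 6) rfl N87672 D219010
theorem N115752 : nd 115752 = n219011 := ndS (p := 87677) (l := 2) rfl N87677 D219011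
theorem N115753 : nd 115753 = n219012 := ndS (p := 87678) (l := 3) rfl N87678 D219012
theorem N115754 : nd 115754 = n219013 := ndS (p := 87678) (l := 4) rfl N87678 D219013
theorem N115755 : nd 115755 = n219014 := ndS (p := 87692) (l := 0) rfl N87692 D219014
theorem N115756 : nd 115756 = n219015 := ndS (p := 87692) (l := 7) rfl N87692 D219015
theorem N115757 : nd 115757 = n219016 := ndS (p := 87705) (l := 2) rfl N87705 D219016
theorem N115758 : nd 115758 = n219017 := ndS (p := 87707) (l := 5) rfl N87707 D219017
theorem N115759 : nd 115759 = n219018 := ndS (p := 87712) (l := 0) rfl N87712 D219018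
theorem N115760 : nd 115760 = n219019 := ndS (p := 87714) (l := 7) rfl N87714 D219019
theorem N115761 : nd 115761 = n219020 := ndS (p := 87716) (l := 0) rfl N87716 D219020
theorem N115762 : nd 115762 = n219021 := ndS (p := 87720) (l := 5) rfl N87720 D219021
theorem N115763 : nd 115763 = n219022 := ndS (p := 87723) (l := 1) rfl N87723 D219022
theorem N115764 : nd 115764 = n219023 := ndS (p := 87725) (l := 5) rfl N87725 D219023
theorem N115765 : nd 115765 = n219024 := ndS (p := 87733) (l := 1) rfl N87733 D219024
theorem N115766 : nd 115766 = n219025 := ndS (p := 87733) (l := 7) rfl N87733 D219025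
theorem N115767 : nd 115767 = n219026 := ndS (p := 87736) (l := 4) rfl N87736 D219026
theorem N115768 : nd 115768 = n219027 := ndS (p := 87738) (l := 4) rfl N87738 D219027
theorem N115769 : nd 115769 = n219028 := ndS (p := 87739) (l := 4) rfl N87739 D219028
theorem N115770 : nd 115770 = n219029 := ndS (p := 87744) (l := 5) rfl N87744 D219029
theorem N115771 : nd 115771 = n219030 := ndS (p := 87753) (l := 1) rfl N87753 D219030
theorem N115772 : nd 115772 = n219031 := ndS (p := 87767) (l := 7) rfl N87767 D219031
theorem N115773 : nd 115773 = n219032 := ndS (p := 87770) (l := 5) rfl N87770 D219032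
theorem N115774 : nd 115774 = n219033 := ndS (p := 87771) (l := 5) rfl N87771 D219033
theorem N115775 : nd 115775 = n219034 := ndS (p := 87774) (l := 4) rfl N87774 D219034
theorem N115776 : nd 115776 = n219035 := ndS (p := 87775) (l := 3) rfl N87775 D219035
theorem N115777 : nd 115777 = n219036 := ndS (p := 87779) (l := 3) rfl N87779 D219036
theorem N115778 : nd 115778 = n219037 := ndS (p := 87783) (l := 4) rfl N87783 D219037
theorem N115779 : nd 115779 = n219038 := ndS (p := 87785) (l := 5) rfl N87785 D219038
theorem N115780 : nd 115780 = n219039 := ndS (p := 87787) (l := 6) rfl N87787 D219039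
theorem N115781 : nd 115781 = n219040 := ndS (p := 87790) (l := 5) rfl N87790 D219040
theorem N115782 : nd 115782 = n219041 := ndS (p := 87791) (l := 4) rfl N87791 D219041
theorem N115783 : nd 115783 = n219042 := ndS (p := 87799) (l := 4) rfl N87799 D219042
theorem N115784 : nd 115784 = n219043 := ndS (p := 87800) (l := 3) rfl N87800 D219043
theorem N115785 : nd 115785 = n219044 := ndS (p := 87803) (l := 5) rfl N87803 D219044
theorem N115786 : nd 115786 = n219045 := ndS (p := 87805) (l := 6) rfl N87805 D219045
theorem N115787 : nd 115787 = n219046 := ndS (p := 87812) (l := 1) rfl N87812 D219046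
theorem N115788 : nd 115788 = n219047 := ndS (p := 87812) (l := 7) rfl N87812 D219047
theorem N115789 : nd 115789 = n219048 := ndS (p := 87816) (l := 6) rfl N87816 D219048
theorem N115790 : nd 115790 = n219049 := ndS (p := 87818) (l := 0) rfl N87818 D219049
theorem N115791 : nd 115791 = n219050 := ndS (p := 87831) (l := 5) rfl N87831 D219050
theorem N115792 : nd 115792 = n219051 := ndS (p := 87845) (l := 6) rfl N87845 D219051
theorem N115793 : nd 115793 = n219052 := ndS (p := 87846) (l := 0) rfl N87846 D219052
theorem N115794 : nd 115794 = n219053 := ndS (p := 87846) (l := 1) rfl N87846 D219053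
theorem N115795 : nd 115795 = n219054 := ndS (p := 87846) (l := 2) rfl N87846 D219054
theorem N115796 : nd 115796 = n219055 := ndS (p := 87848) (l := 3) rfl N87848 D219055
theorem N115797 : nd 115797 = n219056 := ndS (p := 87849) (l := 6) rfl N87849 D219056
theorem N115798 : nd 115798 = n219057 := ndS (p := 87851) (l := 3) rfl N87851 D219057
theorem N115799 : nd 115799 = n219058 := ndS (p := 87851) (l := 4) rfl N87851 D219058
theorem N115800 : nd 115800 = n219059 := ndS (p := 87856) (l := 2) rfl N87856 D219059
theorem N115801 : nd 115801 = n219060 := ndS (p := 87856) (l := 6) rfl N87856 D219060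
theorem N115802 : nd 115802 = n219061 := ndS (p := 87858) (l := 0) rfl N87858 D219061
theorem N115803 : nd 115803 = n219062 := ndS (p := 87860) (l := 0) rfl N87860 D219062
theorem N115804 : nd 115804 = n219063 := ndS (p := 87860) (l := 3) rfl N87860 D219063
theorem N115805 : nd 115805 = n219064 := ndS (p := 87860) (l := 5) rfl N87860 D219064
theorem N115806 : nd 115806 = n219065 := ndS (p := 87862) (l := 5) rfl N87862 D219065
theorem N115807 : nd 115807 = n219066 := ndS (p := 87865) (l := 6) rfl N87865 D219066
theorem N115808 : nd 115808 = n219067 := ndS (p := 87870) (l := 5) rfl N87870 D219067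
theorem N115809 : nd 115809 = n219068 := ndS (p := 87870) (l := 6) rfl N87870 D219068
theorem N115810 : nd 115810 = n219069 := ndS (p := 87876) (l := 3) rfl N87876 D219069
theorem N115811 : nd 115811 = n219070 := ndS (p := 87876) (l := 5) rfl N87876 D219070
theorem N115812 : nd 115812 = n219071 := ndS (p := 87877) (l := 6) rfl N87877 D219071
theorem N115813 : nd 115813 = n219072 := ndS (p := 87878) (l := 0) rfl N87878 D219072
theorem N115814 : nd 115814 = n219073 := ndS (p := 87878) (l := 5) rfl N87878 D219073
theorem N115815 : nd 115815 = n219074 := ndS (p := 87881) (l := 3) rfl N87881 D219074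
theorem N115816 : nd 115816 = n219075 := ndS (p := 87881) (l := 5) rfl N87881 D219075
theorem N115817 : nd 115817 = n219076 := ndS (p := 87883) (l := 5) rfl N87883 D219076
theorem N115818 : nd 115818 = n219077 := ndS (p := 87885) (l := 0) rfl N87885 D219077
theorem N115819 : nd 115819 = n219078 := ndS (p := 87885) (l := 1) rfl N87885 D219078
theorem N115820 : nd 115820 = n219079 := ndS (p := 87890) (l := 1) rfl N87890 D219079
theorem N115821 : nd 115821 = n219080 := ndS (p := 87890) (l := 7) rfl N87890 D219080
theorem N115822 : nd 115822 = n219081 := ndS (p := 87897) (l := 2) rfl N87897 D219081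
theorem N115823 : nd 115823 = n219082 := ndS (p := 87897) (l := 4) rfl N87897 D219082
theorem N115824 : nd 115824 = n219083 := ndS (p := 87898) (l := 7) rfl N87898 D219083
theorem N115825 : nd 115825 = n219084 := ndS (p := 87903) (l := 0) rfl N87903 D219084
theorem N115826 : nd 115826 = n219085 := ndS (p := 87903) (l := 1) rfl N87903 D219085
theorem N115827 : nd 115827 = n219086 := ndS (p := 87904) (l := 0) rfl N87904 D219086
theorem N115828 : nd 115828 = n219087 := ndS (p := 87904) (l := 1) rfl N87904 D219087
theorem N115829 : nd 115829 = n219088 := ndS (p := 87904) (l := 2) rfl N87904 D219088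
theorem N115830 : nd 115830 = n219089 := ndS (p := 87908) (l := 5) rfl N87908 D219089
theorem N115831 : nd 115831 = n219090 := ndS (p := 87909) (l := 4) rfl N87909 D219090
theorem N115832 : nd 115832 = n219091 := ndS (p := 87910) (l := 4) rfl N87910 D219091
theorem N115833 : nd 115833 = n219092 := ndS (p := 87910) (l := 6) rfl N87910 D219092
theorem N115834 : nd 115834 = n219093 := ndS (p := 87912) (l := 3) rfl N87912 D219093
theorem N115835 : nd 115835 = n219094 := ndS (p := 87912) (l := 4) rfl N87912 D219094
theorem N115836 : nd 115836 = n219095 := ndS (p := 87913) (l := 4) rfl N87913 D219095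
theorem N115837 : nd 115837 = n219096 := ndS (p := 87927) (l := 4) rfl N87927 D219096
theorem N115838 : nd 115838 = n219097 := ndS (p := 87928) (l := 4) rfl N87928 D219097
theorem N115839 : nd 115839 = n219098 := ndS (p := 87932) (l := 4) rfl N87932 D219098
theorem N115840 : nd 115840 = n219099 := ndS (p := 87934) (l := 4) rfl N87934 D219099
theorem N115841 : nd 115841 = n219100 := ndS (p := 87936) (l := 5) rfl N87936 D219100
theorem N115842 : nd 115842 = n219101 := ndS (p := 87938) (l := 6) rfl N87938 D219101
theorem N115843 : nd 115843 = n219102 := ndS (p := 87940) (l := 6) rfl N87940 D219102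
theorem N115844 : nd 115844 = n219103 := ndS (p := 87941) (l := 6) rfl N87941 D219103
theorem N115845 : nd 115845 = n219104 := ndS (p := 87943) (l := 4) rfl N87943 D219104
theorem N115846 : nd 115846 = n219105 := ndS (p := 87944) (l := 3) rfl N87944 D219105
theorem N115847 : nd 115847 = n219106 := ndS (p := 87945) (l := 0) rfl N87945 D219106
theorem N115848 : nd 115848 = n219107 := ndS (p := 87945) (l := 1) rfl N87945 D219107
theorem N115849 : nd 115849 = n219108 := ndS (p := 87945) (l := 7) rfl N87945 D219108
theorem N115850 : nd 115850 = n219109 := ndS (p := 87946) (l := 0) rfl N87946 D219109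
theorem N115851 : nd 115851 = n219110 := ndS (p := 87946) (l := 1) rfl N87946 D219110
theorem N115852 : nd 115852 = n219111 := ndS (p := 87946) (l := 4) rfl N87946 D219111
theorem N115853 : nd 115853 = n219112 := ndS (p := 87946) (l := 6) rfl N87946 D219112
theorem N115854 : nd 115854 = n219113 := ndS (p := 87948) (l := 3) rfl N87948 D219113
theorem N115855 : nd 115855 = n219114 := ndS (p := 87948) (l := 6) rfl N87948 D219114
theorem N115856 : nd 115856 = n219115 := ndS (p := 87949) (l := 0) rfl N87949 D219115
theorem N115857 : nd 115857 = n219116 := ndS (p := 87949) (l := 1) rfl N87949 D219116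
theorem N115858 : nd 115858 = n219117 := ndS (p := 87949) (l := 7) rfl N87949 D219117
theorem N115859 : nd 115859 = n219118 := ndS (p := 87950) (l := 6) rfl N87950 D219118
theorem N115860 : nd 115860 = n219119 := ndS (p := 87951) (l := 0) rfl N87951 D219119
theorem N115861 : nd 115861 = n219120 := ndS (p := 87951) (l := 1) rfl N87951 D219120
theorem N115862 : nd 115862 = n219121 := ndS (p := 87951) (l := 7) rfl N87951 D219121
theorem N115863 : nd 115863 = n219122 := ndS (p := 87953) (l := 3) rfl N87953 D219122
theorem N115864 : nd 115864 = n219123 := ndS (p := 87953) (l := 5) rfl N87953 D219123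
theorem N115865 : nd 115865 = n219124 := ndS (p := 87954) (l := 0) rfl N87954 D219124
theorem N115866 : nd 115866 = n219125 := ndS (p := 87955) (l := 5) rfl N87955 D219125
theorem N115867 : nd 115867 = n219126 := ndS (p := 87955) (l := 6) rfl N87955 D219126
theorem N115868 : nd 115868 = n219127 := ndS (p := 87956) (l := 3) rfl N87956 D219127
theorem N115869 : nd 115869 = n219128 := ndS (p := 87956) (l := 5) rfl N87956 D219128
theorem N115870 : nd 115870 = n219129 := ndS (p := 87957) (l := 0) rfl N87957 D219129
theorem N115871 : nd 115871 = n219130 := ndS (p := 87957) (l := 1) rfl N87957 D219130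
theorem N115872 : nd 115872 = n219131 := ndS (p := 87957) (l := 7) rfl N87957 D219131
theorem N115873 : nd 115873 = n219132 := ndS (p := 87958) (l := 0) rfl N87958 D219132
theorem N115874 : nd 115874 = n219133 := ndS (p := 87958) (l := 1) rfl N87958 D219133
theorem N115875 : nd 115875 = n219134 := ndS (p := 87962) (l := 5) rfl N87962 D219134
theorem N115876 : nd 115876 = n219135 := ndS (p := 87963) (l := 0) rfl N87963 D219135
theorem N115877 : nd 115877 = n219136 := ndS (p := 87963) (l := 1) rfl N87963 D219136
theorem N115878 : nd 115878 = n219137 := ndS (p := 87963) (l := 6) rfl N87963 D219137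
theorem N115879 : nd 115879 = n219138 := ndS (p := 87964) (l := 3) rfl N87964 D219138
theorem N115880 : nd 115880 = n219139 := ndS (p := 87969) (l := 1) rfl N87969 D219139
theorem N115881 : nd 115881 = n219140 := ndS (p := 87970) (l := 4) rfl N87970 D219140
theorem N115882 : nd 115882 = n219141 := ndS (p := 87970) (l := 6) rfl N87970 D219141
theorem N115883 : nd 115883 = n219142 := ndS (p := 87971) (l := 3) rfl N87971 D219142
theorem N115884 : nd 115884 = n219143 := ndS (p := 87975) (l := 0) rfl N87975 D219143
theorem N115885 : nd 115885 = n219144 := ndS (p := 87975) (l := 1) rfl N87975 D219144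
theorem N115886 : nd 115886 = n219145 := ndS (p := 87975) (l := 7) rfl N87975 D219145
theorem N115887 : nd 115887 = n219146 := ndS (p := 87976) (l := 6) rfl N87976 D219146
theorem N115888 : nd 115888 = n219147 := ndS (p := 87977) (l := 3) rfl N87977 D219147
theorem N115889 : nd 115889 = n219148 := ndS (p := 87980) (l := 6) rfl N87980 D219148
theorem N115890 : nd 115890 = n219149 := ndS (p := 87982) (l := 4) rfl N87982 D219149
theorem N115891 : nd 115891 = n219150 := ndS (p := 87982) (l := 6) rfl N87982 D219150
theorem N115892 : nd 115892 = n219151 := ndS (p := 87984) (l := 4) rfl N87984 D219151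
theorem N115893 : nd 115893 = n219152 := ndS (p := 87985) (l := 4) rfl N87985 D219152
theorem N115894 : nd 115894 = n219153 := ndS (p := 87985) (l := 6) rfl N87985 D219153
theorem N115895 : nd 115895 = n219154 := ndS (p := 87987) (l := 6) rfl N87987 D219154
theorem N115896 : nd 115896 = n219155 := ndS (p := 87992) (l := 6) rfl N87992 D219155
theorem N115897 : nd 115897 = n219156 := ndS (p := 87993) (l := 5) rfl N87993 D219156
theorem N115898 : nd 115898 = n219157 := ndS (p := 87995) (l := 1) rfl N87995 D219157
theorem N115899 : nd 115899 = n219158 := ndS (p := 87995) (l := 2) rfl N87995 D219158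
theorem N115900 : nd 115900 = n219159 := ndS (p := 87996) (l := 7) rfl N87996 D219159
theorem N115901 : nd 115901 = n219160 := ndS (p := 87997) (l := 5) rfl N87997 D219160
theorem N115902 : nd 115902 = n219161 := ndS (p := 87998) (l := 3) rfl N87998 D219161
theorem N115903 : nd 115903 = n219162 := ndS (p := 87999) (l := 0) rfl N87999 D219162
theorem N115904 : nd 115904 = n219163 := ndS (p := 87999) (l := 7) rfl N87999 D219163
theorem N115905 : nd 115905 = n219164 := ndS (p := 88001) (l := 6) rfl N88001 D219164
theorem N115906 : nd 115906 = n219165 := ndS (p := 88003) (l := 3) rfl N88003 D219165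
theorem N115907 : nd 115907 = n219166 := ndS (p := 88003) (l := 4) rfl N88003 D219166
theorem N115908 : nd 115908 = n219167 := ndS (p := 88004) (l := 4) rfl N88004 D219167
theorem N115909 : nd 115909 = n219168 := ndS (p := 88004) (l := 5) rfl N88004 D219168
theorem N115910 : nd 115910 = n219169 := ndS (p := 88004) (l := 6) rfl N88004 D219169
theorem N115911 : nd 115911 = n219170 := ndS (p := 88006) (l := 1) rfl N88006 D219170
theorem N115912 : nd 115912 = n219171 := ndS (p := 88006) (l := 6) rfl N88006 D219171
theorem N115913 : nd 115913 = n219172 := ndS (p := 88008) (l := 6) rfl N88008 D219172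
theorem N115914 : nd 115914 = n219173 := ndS (p := 88011) (l := 0) rfl N88011 D219173
theorem N115915 : nd 115915 = n219174 := ndS (p := 88011) (l := 1) rfl N88011 D219174
theorem N115916 : nd 115916 = n219175 := ndS (p := 88011) (l := 2) rfl N88011 D219175
theorem N115917 : nd 115917 = n219176 := ndS (p := 88011) (l := 4) rfl N88011 D219176
theorem N115918 : nd 115918 = n219177 := ndS (p := 88011) (l := 6) rfl N88011 D219177
theorem N115919 : nd 115919 = n219178 := ndS (p := 88012) (l := 5) rfl N88012 D219178
theorem N115920 : nd 115920 = n219179 := ndS (p := 88012) (l := 7) rfl N88012 D219179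
theorem N115921 : nd 115921 = n219180 := ndS (p := 88014) (l := 2) rfl N88014 D219180
theorem N115922 : nd 115922 = n219181 := ndS (p := 88014) (l := 3) rfl N88014 D219181
theorem N115923 : nd 115923 = n219182 := ndS (p := 88014) (l := 4) rfl N88014 D219182
theorem N115924 : nd 115924 = n219183 := ndS (p := 88014) (l := 5) rfl N88014 D219183
theorem N115925 : nd 115925 = n219184 := ndS (p := 88014) (l := 6) rfl N88014 D219184
theorem N115926 : nd 115926 = n219185 := ndS (p := 88014) (l := 7) rfl N88014 D219185
theorem N115927 : nd 115927 = n219186 := ndS (p := 88015) (l := 3) rfl N88015 D219186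
theorem N115928 : nd 115928 = n219187 := ndS (p := 88015) (l := 5) rfl N88015 D219187
theorem N115929 : nd 115929 = n219188 := ndS (p := 88015) (l := 6) rfl N88015 D219188
theorem N115930 : nd 115930 = n219189 := ndS (p := 88017) (l := 4) rfl N88017 D219189
theorem N115931 : nd 115931 = n219190 := ndS (p := 88017) (l := 6) rfl N88017 D219190
theorem N115932 : nd 115932 = n219191 := ndS (p := 88018) (l := 6) rfl N88018 D219191
theorem N115933 : nd 115933 = n219192 := ndS (p := 88020) (l := 0) rfl N88020 D219192
theorem N115934 : nd 115934 = n219193 := ndS (p := 88020) (l := 1) rfl N88020 D219193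
theorem N115935 : nd 115935 = n219194 := ndS (p := 88020) (l := 5) rfl N88020 D219194
theorem N115936 : nd 115936 = n219195 := ndS (p := 88021) (l := 3) rfl N88021 D219195
theorem N115937 : nd 115937 = n219196 := ndS (p := 88021) (l := 6) rfl N88021 D219196
theorem N115938 : nd 115938 = n219197 := ndS (p := 88022) (l := 6) rfl N88022 D219197
theorem N115939 : nd 115939 = n219198 := ndS (p := 88023) (l := 3) rfl N88023 D219198
theorem N115940 : nd 115940 = n219199 := ndS (p := 88023) (l := 5) rfl N88023 D219199
theorem N115941 : nd 115941 = n219200 := ndS (p := 88023) (l := 6) rfl N88023 D219200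
theorem N115942 : nd 115942 = n219201 := ndS (p := 88024) (l := 1) rfl N88024 D219201
theorem N115943 : nd 115943 = n219202 := ndS (p := 88025) (l := 2) rfl N88025 D219202
theorem N115944 : nd 115944 = n219203 := ndS (p := 88025) (l := 6) rfl N88025 D219203
theorem N115945 : nd 115945 = n219204 := ndS (p := 88030) (l := 7) rfl N88030 D219204
theorem N115946 : nd 115946 = n219205 := ndS (p := 88032) (l := 1) rfl N88032 D219205
theorem N115947 : nd 115947 = n219206 := ndS (p := 88032) (l := 7) rfl N88032 D219206
theorem N115948 : nd 115948 = n219207 := ndS (p := 88037) (l := 4) rfl N88037 D219207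
theorem N115949 : nd 115949 = n219208 := ndS (p := 88042) (l := 3) rfl N88042 D219208
theorem N115950 : nd 115950 = n219209 := ndS (p := 88042) (l := 6) rfl N88042 D219209
theorem N115951 : nd 115951 = n219210 := ndS (p := 88044) (l := 3) rfl N88044 D219210
theorem N115952 : nd 115952 = n219211 := ndS (p := 88045) (l := 3) rfl N88045 D219211
theorem N115953 : nd 115953 = n219212 := ndS (p := 88045) (l := 6) rfl N88045 D219212
theorem N115954 : nd 115954 = n219213 := ndS (p := 88047) (l := 1) rfl N88047 D219213
theorem N115955 : nd 115955 = n219214 := ndS (p := 88049) (l := 4) rfl N88049 D219214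
theorem N115956 : nd 115956 = n219215 := ndS (p := 88053) (l := 4) rfl N88053 D219215
theorem N115957 : nd 115957 = n219216 := ndS (p := 88055) (l := 2) rfl N88055 D219216
theorem N115958 : nd 115958 = n219217 := ndS (p := 88055) (l := 4) rfl N88055 D219217
theorem N115959 : nd 115959 = n219218 := ndS (p := 88056) (l := 0) rfl N88056 D219218
theorem N115960 : nd 115960 = n219219 := ndS (p := 88056) (l := 2) rfl N88056 D219219
theorem N115961 : nd 115961 = n219220 := ndS (p := 88059) (l := 4) rfl N88059 D219220
theorem N115962 : nd 115962 = n219221 := ndS (p := 88059) (l := 6) rfl N88059 D219221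
theorem N115963 : nd 115963 = n219222 := ndS (p := 88060) (l := 6) rfl N88060 D219222
theorem N115964 : nd 115964 = n219223 := ndS (p := 88063) (l := 6) rfl N88063 D219223
theorem N115965 : nd 115965 = n219224 := ndS (p := 88066) (l := 5) rfl N88066 D219224
theorem N115966 : nd 115966 = n219225 := ndS (p := 88067) (l := 1) rfl N88067 D219225
theorem N115967 : nd 115967 = n219226 := ndS (p := 88068) (l := 3) rfl N88068 D219226
theorem N115968 : nd 115968 = n219227 := ndS (p := 88069) (l := 6) rfl N88069 D219227
theorem N115969 : nd 115969 = n219228 := ndS (p := 88072) (l := 6) rfl N88072 D219228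
theorem N115970 : nd 115970 = n219229 := ndS (p := 88082) (l := 5) rfl N88082 D219229
theorem N115971 : nd 115971 = n219230 := ndS (p := 88083) (l := 0) rfl N88083 D219230
theorem N115972 : nd 115972 = n219231 := ndS (p := 88083) (l := 4) rfl N88083 D219231
theorem N115973 : nd 115973 = n219232 := ndS (p := 88083) (l := 7) rfl N88083 D219232
theorem N115974 : nd 115974 = n219233 := ndS (p := 88086) (l := 5) rfl N88086 D219233
theorem N115975 : nd 115975 = n219234 := ndS (p := 88088) (l := 4) rfl N88088 D219234
theorem N115976 : nd 115976 = n219235 := ndS (p := 88088) (l := 6) rfl N88088 D219235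
theorem N115977 : nd 115977 = n219236 := ndS (p := 88089) (l := 4) rfl N88089 D219236
theorem N115978 : nd 115978 = n219237 := ndS (p := 88094) (l := 0) rfl N88094 D219237
theorem N115979 : nd 115979 = n219238 := ndS (p := 88094) (l := 1) rfl N88094 D219238
theorem N115980 : nd 115980 = n219239 := ndS (p := 88094) (l := 4) rfl N88094 D219239
theorem N115981 : nd 115981 = n219240 := ndS (p := 88097) (l := 4) rfl N88097 D219240
theorem N115982 : nd 115982 = n219241 := ndS (p := 88099) (l := 6) rfl N88099 D219241
theorem N115983 : nd 115983 = n219242 := ndS (p := 88100) (l := 4) rfl N88100 D219242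
theorem N115984 : nd 115984 = n219243 := ndS (p := 88101) (l := 1) rfl N88101 D219243
theorem N115985 : nd 115985 = n219244 := ndS (p := 88101) (l := 5) rfl N88101 D219244
theorem N115986 : nd 115986 = n219245 := ndS (p := 88102) (l := 6) rfl N88102 D219245
theorem N115987 : nd 115987 = n219246 := ndS (p := 88104) (l := 5) rfl N88104 D219246
theorem N115988 : nd 115988 = n219247 := ndS (p := 88106) (l := 3) rfl N88106 D219247
theorem N115989 : nd 115989 = n219248 := ndS (p := 88106) (l := 6) rfl N88106 D219248
theorem N115990 : nd 115990 = n219249 := ndS (p := 88110) (l := 4) rfl N88110 D219249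
theorem N115991 : nd 115991 = n219250 := ndS (p := 88112) (l := 5) rfl N88112 D219250
theorem N115992 : nd 115992 = n219251 := ndS (p := 88114) (l := 3) rfl N88114 D219251
theorem N115993 : nd 115993 = n219252 := ndS (p := 88115) (l := 7) rfl N88115 D219252
theorem N115994 : nd 115994 = n219253 := ndS (p := 88117) (l := 3) rfl N88117 D219253
theorem N115995 : nd 115995 = n219254 := ndS (p := 88117) (l := 6) rfl N88117 D219254
theorem N115996 : nd 115996 = n219255 := ndS (p := 88120) (l := 5) rfl N88120 D219255
theorem N115997 : nd 115997 = n219256 := ndS (p := 88124) (l := 0) rfl N88124 D219256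
theorem N115998 : nd 115998 = n219257 := ndS (p := 88124) (l := 1) rfl N88124 D219257
theorem N115999 : nd 115999 = n219258 := ndS (p := 88125) (l := 1) rfl N88125 D219258
theorem N116000 : nd 116000 = n219259 := ndS (p := 88125) (l := 4) rfl N88125 D219259
theorem N116001 : nd 116001 = n219260 := ndS (p := 88130) (l := 4) rfl N88130 D219260
theorem N116002 : nd 116002 = n219261 := ndS (p := 88130) (l := 6) rfl N88130 D219261
theorem N116003 : nd 116003 = n219262 := ndS (p := 88131) (l := 0) rfl N88131 D219262
theorem N116004 : nd 116004 = n219263 := ndS (p := 88131) (l := 7) rfl N88131 D219263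
theorem N116005 : nd 116005 = n219264 := ndS (p := 88133) (l := 5) rfl N88133 D219264
theorem N116006 : nd 116006 = n219265 := ndS (p := 88135) (l := 6) rfl N88135 D219265
theorem N116007 : nd 116007 = n219266 := ndS (p := 88137) (l := 0) rfl N88137 D219266
theorem N116008 : nd 116008 = n219267 := ndS (p := 88137) (l := 5) rfl N88137 D219267
theorem N116009 : nd 116009 = n219268 := ndS (p := 88137) (l := 6) rfl N88137 D219268
theorem N116010 : nd 116010 = n219269 := ndS (p := 88138) (l := 1) rfl N88138 D219269
theorem N116011 : nd 116011 = n219270 := ndS (p := 88139) (l := 3) rfl N88139 D219270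
theorem N116012 : nd 116012 = n219271 := ndS (p := 88139) (l := 5) rfl N88139 D219271
theorem N116013 : nd 116013 = n219272 := ndS (p := 88142) (l := 6) rfl N88142 D219272
theorem N116014 : nd 116014 = n219273 := ndS (p := 88144) (l := 2) rfl N88144 D219273
theorem N116015 : nd 116015 = n219274 := ndS (p := 88145) (l := 3) rfl N88145 D219274
theorem N116016 : nd 116016 = n219275 := ndS (p := 88145) (l := 4) rfl N88145 D219275
theorem N116017 : nd 116017 = n219276 := ndS (p := 88145) (l := 5) rfl N88145 D219276
theorem N116018 : nd 116018 = n219277 := ndS (p := 88147) (l := 4) rfl N88147 D219277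
theorem N116019 : nd 116019 = n219278 := ndS (p := 88147) (l := 6) rfl N88147 D219278
theorem N116020 : nd 116020 = n219279 := ndS (p := 88150) (l := 5) rfl N88150 D219279
theorem N116021 : nd 116021 = n219280 := ndS (p := 88151) (l := 3) rfl N88151 D219280
theorem N116022 : nd 116022 = n219281 := ndS (p := 88155) (l := 3) rfl N88155 D219281
theorem N116023 : nd 116023 = n219282 := ndS (p := 88155) (l := 6) rfl N88155 D219282
theorem N116024 : nd 116024 = n219283 := ndS (p := 88159) (l := 3) rfl N88159 D219283
theorem N116025 : nd 116025 = n219284 := ndS (p := 88163) (l := 4) rfl N88163 D219284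
theorem N116026 : nd 116026 = n219285 := ndS (p := 88168) (l := 3) rfl N88168 D219285
theorem N116027 : nd 116027 = n219286 := ndS (p := 88168) (l := 4) rfl N88168 D219286
theorem N116028 : nd 116028 = n219287 := ndS (p := 88172) (l := 4) rfl N88172 D219287
theorem N116029 : nd 116029 = n219288 := ndS (p := 88174) (l := 6) rfl N88174 D219288
theorem N116030 : nd 116030 = n219289 := ndS (p := 88178) (l := 6) rfl N88178 D219289
theorem N116031 : nd 116031 = n219290 := ndS (p := 88183) (l := 5) rfl N88183 D219290
theorem N116032 : nd 116032 = n219291 := ndS (p := 88187) (l := 5) rfl N88187 D219291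
theorem N116033 : nd 116033 = n219292 := ndS (p := 88216) (l := 4) rfl N88216 D219292
theorem N116034 : nd 116034 = n219293 := ndS (p := 88221) (l := 5) rfl N88221 D219293
theorem N116035 : nd 116035 = n219294 := ndS (p := 88230) (l := 0) rfl N88230 D219294
theorem N116036 : nd 116036 = n219295 := ndS (p := 88230) (l := 1) rfl N88230 D219295
theorem N116037 : nd 116037 = n219296 := ndS (p := 88230) (l := 4) rfl N88230 D219296
theorem N116038 : nd 116038 = n219297 := ndS (p := 88231) (l := 3) rfl N88231 D219297
theorem N116039 : nd 116039 = n219298 := ndS (p := 88232) (l := 4) rfl N88232 D219298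
theorem N116040 : nd 116040 = n219299 := ndS (p := 88233) (l := 1) rfl N88233 D219299
theorem N116041 : nd 116041 = n219300 := ndS (p := 88234) (l := 0) rfl N88234 D219300
theorem N116042 : nd 116042 = n219301 := ndS (p := 88234) (l := 6) rfl N88234 D219301
theorem N116043 : nd 116043 = n219302 := ndS (p := 88243) (l := 5) rfl N88243 D219302
theorem N116044 : nd 116044 = n219303 := ndS (p := 88243) (l := 7) rfl N88243 D219303
theorem N116045 : nd 116045 = n219304 := ndS (p := 88244) (l := 4) rfl N88244 D219304
theorem N116046 : nd 116046 = n219305 := ndS (p := 88245) (l := 3) rfl N88245 D219305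
theorem N116047 : nd 116047 = n219306 := ndS (p := 88249) (l := 4) rfl N88249 D219306
theorem N116048 : nd 116048 = n219307 := ndS (p := 88249) (l := 6) rfl N88249 D219307
theorem N116049 : nd 116049 = n219308 := ndS (p := 88251) (l := 5) rfl N88251 D219308
theorem N116050 : nd 116050 = n219309 := ndS (p := 88259) (l := 5) rfl N88259 D219309
theorem N116051 : nd 116051 = n219310 := ndS (p := 88259) (l := 6) rfl N88259 D219310
theorem N116052 : nd 116052 = n219311 := ndS (p := 88261) (l := 5) rfl N88261 D219311
theorem N116053 : nd 116053 = n219312 := ndS (p := 88261) (l := 6) rfl N88261 D219312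
theorem N116054 : nd 116054 = n219313 := ndS (p := 88263) (l := 4) rfl N88263 D219313
theorem N116055 : nd 116055 = n219314 := ndS (p := 88264) (l := 5) rfl N88264 D219314
theorem N116056 : nd 116056 = n219315 := ndS (p := 88264) (l := 6) rfl N88264 D219315
theorem N116057 : nd 116057 = n219316 := ndS (p := 88266) (l := 5) rfl N88266 D219316
theorem N116058 : nd 116058 = n219317 := ndS (p := 88270) (l := 1) rfl N88270 D219317
theorem N116059 : nd 116059 = n219318 := ndS (p := 88270) (l := 4) rfl N88270 D219318
theorem N116060 : nd 116060 = n219319 := ndS (p := 88270) (l := 6) rfl N88270 D219319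
theorem N116061 : nd 116061 = n219320 := ndS (p := 88278) (l := 5) rfl N88278 D219320
theorem N116062 : nd 116062 = n219321 := ndS (p := 88282) (l := 5) rfl N88282 D219321
theorem N116063 : nd 116063 = n219322 := ndS (p := 88283) (l := 5) rfl N88283 D219322
theorem N116064 : nd 116064 = n219323 := ndS (p := 88284) (l := 3) rfl N88284 D219323
theorem N116065 : nd 116065 = n219324 := ndS (p := 88284) (l := 5) rfl N88284 D219324
theorem N116066 : nd 116066 = n219325 := ndS (p := 88288) (l := 5) rfl N88288 D219325
theorem N116067 : nd 116067 = n219326 := ndS (p := 88289) (l := 5) rfl N88289 D219326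
theorem N116068 : nd 116068 = n219327 := ndS (p := 88294) (l := 0) rfl N88294 D219327
theorem N116069 : nd 116069 = n219328 := ndS (p := 88314) (l := 5) rfl N88314 D219328
theorem N116070 : nd 116070 = n219329 := ndS (p := 88326) (l := 0) rfl N88326 D219329
theorem N116071 : nd 116071 = n219330 := ndS (p := 88326) (l := 1) rfl N88326 D219330
theorem N116072 : nd 116072 = n219331 := ndS (p := 88332) (l := 0) rfl N88332 D219331
theorem N116073 : nd 116073 = n219332 := ndS (p := 88337) (l := 1) rfl N88337 D219332
theorem N116074 : nd 116074 = n219333 := ndS (p := 88339) (l := 0) rfl N88339 D219333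
theorem N116075 : nd 116075 = n219334 := ndS (p := 88339) (l := 7) rfl N88339 D219334
theorem N116076 : nd 116076 = n219335 := ndS (p := 88341) (l := 6) rfl N88341 D219335
theorem N116077 : nd 116077 = n219336 := ndS (p := 88343) (l := 6) rfl N88343 D219336
theorem N116078 : nd 116078 = n219337 := ndS (p := 88344) (l := 0) rfl N88344 D219337
theorem N116079 : nd 116079 = n219338 := ndS (p := 88344) (l := 1) rfl N88344 D219338
theorem N116080 : nd 116080 = n219339 := ndS (p := 88344) (l := 7) rfl N88344 D219339
theorem N116081 : nd 116081 = n219340 := ndS (p := 88348) (l := 7) rfl N88348 D219340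
theorem N116082 : nd 116082 = n219341 := ndS (p := 88351) (l := 6) rfl N88351 D219341
theorem N116083 : nd 116083 = n219342 := ndS (p := 88354) (l := 5) rfl N88354 D219342
theorem N116084 : nd 116084 = n219343 := ndS (p := 88356) (l := 5) rfl N88356 D219343
theorem N116085 : nd 116085 = n219344 := ndS (p := 88360) (l := 1) rfl N88360 D219344
theorem N116086 : nd 116086 = n219345 := ndS (p := 88365) (l := 0) rfl N88365 D219345
theorem N116087 : nd 116087 = n219346 := ndS (p := 88365) (l := 1) rfl N88365 D219346
theorem N116088 : nd 116088 = n219347 := ndS (p := 88366) (l := 7) rfl N88366 D219347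
theorem N116089 : nd 116089 = n219348 := ndS (p := 88368) (l := 6) rfl N88368 D219348
theorem N116090 : nd 116090 = n219349 := ndS (p := 88371) (l := 1) rfl N88371 D219349
theorem N116091 : nd 116091 = n219350 := ndS (p := 88379) (l := 0) rfl N88379 D219350
theorem N116092 : nd 116092 = n219351 := ndS (p := 88382) (l := 5) rfl N88382 D219351
theorem N116093 : nd 116093 = n219352 := ndS (p := 88383) (l := 6) rfl N88383 D219352
theorem N116094 : nd 116094 = n219353 := ndS (p := 88385) (l := 6) rfl N88385 D219353
theorem N116095 : nd 116095 = n219354 := ndS (p := 88386) (l := 5) rfl N88386 D219354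
theorem N116096 : nd 116096 = n219355 := ndS (p := 88387) (l := 0) rfl N88387 D219355
theorem N116097 : nd 116097 = n219356 := ndS (p := 88387) (l := 3) rfl N88387 D219356
theorem N116098 : nd 116098 = n219357 := ndS (p := 88392) (l := 6) rfl N88392 D219357
theorem N116099 : nd 116099 = n219358 := ndS (p := 88393) (l := 3) rfl N88393 D219358
theorem N116100 : nd 116100 = n219359 := ndS (p := 88393) (l := 5) rfl N88393 D219359
theorem N116101 : nd 116101 = n219360 := ndS (p := 88393) (l := 6) rfl N88393 D219360
theorem N116102 : nd 116102 = n219361 := ndS (p := 88396) (l := 5) rfl N88396 D219361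
theorem N116103 : nd 116103 = n219362 := ndS (p := 88399) (l := 3) rfl N88399 D219362
theorem N116104 : nd 116104 = n219363 := ndS (p := 88405) (l := 6) rfl N88405 D219363
theorem N116105 : nd 116105 = n219364 := ndS (p := 88407) (l := 7) rfl N88407 D219364
theorem N116106 : nd 116106 = n219365 := ndS (p := 88410) (l := 6) rfl N88410 D219365
theorem N116107 : nd 116107 = n219366 := ndS (p := 88411) (l := 0) rfl N88411 D219366
theorem N116108 : nd 116108 = n219367 := ndS (p := 88411) (l := 1) rfl N88411 D219367
theorem N116109 : nd 116109 = n219368 := ndS (p := 88411) (l := 7) rfl N88411 D219368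
theorem N116110 : nd 116110 = n219369 := ndS (p := 88417) (l := 0) rfl N88417 D219369
theorem N116111 : nd 116111 = n219370 := ndS (p := 88417) (l := 1) rfl N88417 D219370
theorem N116112 : nd 116112 = n219371 := ndS (p := 88418) (l := 3) rfl N88418 D219371
theorem N116113 : nd 116113 = n219372 := ndS (p := 88418) (l := 4) rfl N88418 D219372
theorem N116114 : nd 116114 = n219373 := ndS (p := 88421) (l := 0) rfl N88421 D219373
theorem N116115 : nd 116115 = n219374 := ndS (p := 88421) (l := 1) rfl N88421 D219374
theorem N116116 : nd 116116 = n219375 := ndS (p := 88423) (l := 5) rfl N88423 D219375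
theorem N116117 : nd 116117 = n219376 := ndS (p := 88424) (l := 3) rfl N88424 D219376
theorem N116118 : nd 116118 = n219377 := ndS (p := 88424) (l := 6) rfl N88424 D219377
theorem N116119 : nd 116119 = n219378 := ndS (p := 88431) (l := 5) rfl N88431 D219378
theorem N116120 : nd 116120 = n219379 := ndS (p := 88438) (l := 4) rfl N88438 D219379
theorem N116121 : nd 116121 = n219380 := ndS (p := 88441) (l := 1) rfl N88441 D219380
theorem N116122 : nd 116122 = n219381 := ndS (p := 88442) (l := 6) rfl N88442 D219381
theorem N116123 : nd 116123 = n219382 := ndS (p := 88444) (l := 6) rfl N88444 D219382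
theorem N116124 : nd 116124 = n219383 := ndS (p := 88451) (l := 1) rfl N88451 D219383
theorem N116125 : nd 116125 = n219384 := ndS (p := 88452) (l := 3) rfl N88452 D219384
theorem N116126 : nd 116126 = n219385 := ndS (p := 88460) (l := 4) rfl N88460 D219385
theorem N116127 : nd 116127 = n219386 := ndS (p := 88461) (l := 4) rfl N88461 D219386
theorem N116128 : nd 116128 = n219387 := ndS (p := 88464) (l := 0) rfl N88464 D219387
theorem N116129 : nd 116129 = n219388 := ndS (p := 88464) (l := 1) rfl N88464 D219388
theorem N116130 : nd 116130 = n219389 := ndS (p := 88467) (l := 5) rfl N88467 D219389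
theorem N116131 : nd 116131 = n219390 := ndS (p := 88470) (l := 5) rfl N88470 D219390
theorem N116132 : nd 116132 = n219391 := ndS (p := 88479) (l := 6) rfl N88479 D219391
theorem N116133 : nd 116133 = n219392 := ndS (p := 88484) (l := 4) rfl N88484 D219392
theorem N116134 : nd 116134 = n219393 := ndS (p := 88484) (l := 6) rfl N88484 D219393
theorem N116135 : nd 116135 = n219394 := ndS (p := 88485) (l := 0) rfl N88485 D219394
theorem N116136 : nd 116136 = n219395 := ndS (p := 88485) (l := 1) rfl N88485 D219395
theorem N116137 : nd 116137 = n219396 := ndS (p := 88486) (l := 5) rfl N88486 D219396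
theorem N116138 : nd 116138 = n219397 := ndS (p := 88493) (l := 4) rfl N88493 D219397
theorem N116139 : nd 116139 = n219398 := ndS (p := 88495) (l := 0) rfl N88495 D219398
theorem N116140 : nd 116140 = n219399 := ndS (p := 88495) (l := 1) rfl N88495 D219399
theorem N116141 : nd 116141 = n219400 := ndS (p := 88495) (l := 6) rfl N88495 D219400
theorem N116142 : nd 116142 = n219401 := ndS (p := 88500) (l := 5) rfl N88500 D219401
theorem N116143 : nd 116143 = n219402 := ndS (p := 88502) (l := 0) rfl N88502 D219402
theorem N116144 : nd 116144 = n219403 := ndS (p := 88503) (l := 4) rfl N88503 D219403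
theorem N116145 : nd 116145 = n219404 := ndS (p := 88505) (l := 6) rfl N88505 D219404
theorem N116146 : nd 116146 = n219405 := ndS (p := 88506) (l := 4) rfl N88506 D219405
theorem N116147 : nd 116147 = n219406 := ndS (p := 88513) (l := 4) rfl N88513 D219406
theorem N116148 : nd 116148 = n219407 := ndS (p := 88514) (l := 3) rfl N88514 D219407
theorem N116149 : nd 116149 = n219408 := ndS (p := 88514) (l := 5) rfl N88514 D219408
theorem N116150 : nd 116150 = n219409 := ndS (p := 88516) (l := 4) rfl N88516 D219409
theorem N116151 : nd 116151 = n219410 := ndS (p := 88519) (l := 6) rfl N88519 D219410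
theorem N116152 : nd 116152 = n219411 := ndS (p := 88531) (l := 3) rfl N88531 D219411
theorem N116153 : nd 116153 = n219412 := ndS (p := 88531) (l := 5) rfl N88531 D219412
theorem N116154 : nd 116154 = n219413 := ndS (p := 88533) (l := 6) rfl N88533 D219413
theorem N116155 : nd 116155 = n219414 := ndS (p := 88534) (l := 0) rfl N88534 D219414
theorem N116156 : nd 116156 = n219415 := ndS (p := 88534) (l := 1) rfl N88534 D219415
theorem N116157 : nd 116157 = n219416 := ndS (p := 88534) (l := 3) rfl N88534 D219416
theorem N116158 : nd 116158 = n219417 := ndS (p := 88539) (l := 6) rfl N88539 D219417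
theorem N116159 : nd 116159 = n219418 := ndS (p := 88541) (l := 3) rfl N88541 D219418
theorem N116160 : nd 116160 = n219419 := ndS (p := 88543) (l := 0) rfl N88543 D219419
theorem N116161 : nd 116161 = n219420 := ndS (p := 88543) (l := 3) rfl N88543 D219420
theorem N116162 : nd 116162 = n219421 := ndS (p := 88544) (l := 0) rfl N88544 D219421
theorem N116163 : nd 116163 = n219422 := ndS (p := 88544) (l := 7) rfl N88544 D219422
theorem N116164 : nd 116164 = n219423 := ndS (p := 88548) (l := 3) rfl N88548 D219423
theorem N116165 : nd 116165 = n219424 := ndS (p := 88548) (l := 6) rfl N88548 D219424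
theorem N116166 : nd 116166 = n219425 := ndS (p := 88549) (l := 0) rfl N88549 D219425
theorem N116167 : nd 116167 = n219426 := ndS (p := 88552) (l := 3) rfl N88552 D219426
theorem N116168 : nd 116168 = n219427 := ndS (p := 88552) (l := 4) rfl N88552 D219427
theorem N116169 : nd 116169 = n219428 := ndS (p := 88552) (l := 6) rfl N88552 D219428
theorem N116170 : nd 116170 = n219429 := ndS (p := 88555) (l := 0) rfl N88555 D219429
theorem N116171 : nd 116171 = n219430 := ndS (p := 88560) (l := 7) rfl N88560 D219430
theorem N116172 : nd 116172 = n219431 := ndS (p := 88561) (l := 6) rfl N88561 D219431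
theorem N116173 : nd 116173 = n219432 := ndS (p := 88563) (l := 0) rfl N88563 D219432
theorem N116174 : nd 116174 = n219433 := ndS (p := 88570) (l := 0) rfl N88570 D219433
theorem N116175 : nd 116175 = n219434 := ndS (p := 88572) (l := 3) rfl N88572 D219434
theorem N116176 : nd 116176 = n219435 := ndS (p := 88580) (l := 6) rfl N88580 D219435
theorem N116177 : nd 116177 = n219436 := ndS (p := 88588) (l := 6) rfl N88588 D219436
theorem N116178 : nd 116178 = n219437 := ndS (p := 88590) (l := 3) rfl N88590 D219437
theorem N116179 : nd 116179 = n219438 := ndS (p := 88590) (l := 6) rfl N88590 D219438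
theorem N116180 : nd 116180 = n219439 := ndS (p := 88591) (l := 0) rfl N88591 D219439
theorem N116181 : nd 116181 = n219440 := ndS (p := 88593) (l := 0) rfl N88593 D219440
theorem N116182 : nd 116182 = n219441 := ndS (p := 88594) (l := 3) rfl N88594 D219441
theorem N116183 : nd 116183 = n219442 := ndS (p := 88594) (l := 5) rfl N88594 D219442
theorem N116184 : nd 116184 = n219443 := ndS (p := 88594) (l := 6) rfl N88594 D219443
theorem N116185 : nd 116185 = n219444 := ndS (p := 88598) (l := 5) rfl N88598 D219444
theorem N116186 : nd 116186 = n219445 := ndS (p := 88598) (l := 6) rfl N88598 D219445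
theorem N116187 : nd 116187 = n219446 := ndS (p := 88603) (l := 4) rfl N88603 D219446
theorem N116188 : nd 116188 = n219447 := ndS (p := 88607) (l := 0) rfl N88607 D219447
theorem N116189 : nd 116189 = n219448 := ndS (p := 88607) (l := 4) rfl N88607 D219448
theorem N116190 : nd 116190 = n219449 := ndS (p := 88610) (l := 4) rfl N88610 D219449
theorem N116191 : nd 116191 = n219450 := ndS (p := 88611) (l := 4) rfl N88611 D219450
theorem N116192 : nd 116192 = n219451 := ndS (p := 88611) (l := 6) rfl N88611 D219451
theorem N116193 : nd 116193 = n219452 := ndS (p := 88612) (l := 6) rfl N88612 D219452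
theorem N116194 : nd 116194 = n219453 := ndS (p := 88614) (l := 0) rfl N88614 D219453
theorem N116195 : nd 116195 = n219454 := ndS (p := 88614) (l := 7) rfl N88614 D219454
theorem N116196 : nd 116196 = n219455 := ndS (p := 88615) (l := 6) rfl N88615 D219455
theorem N116197 : nd 116197 = n219456 := ndS (p := 88618) (l := 4) rfl N88618 D219456
theorem N116198 : nd 116198 = n219457 := ndS (p := 88622) (l := 4) rfl N88622 D219457
theorem N116199 : nd 116199 = n219458 := ndS (p := 88624) (l := 0) rfl N88624 D219458
theorem N116200 : nd 116200 = n219459 := ndS (p := 88627) (l := 6) rfl N88627 D219459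
theorem N116201 : nd 116201 = n219460 := ndS (p := 88628) (l := 1) rfl N88628 D219460
theorem N116202 : nd 116202 = n219461 := ndS (p := 88630) (l := 6) rfl N88630 D219461
theorem N116203 : nd 116203 = n219462 := ndS (p := 88633) (l := 4) rfl N88633 D219462
theorem N116204 : nd 116204 = n219463 := ndS (p := 88637) (l := 5) rfl N88637 D219463
theorem N116205 : nd 116205 = n219464 := ndS (p := 88638) (l := 5) rfl N88638 D219464
theorem N116206 : nd 116206 = n219465 := ndS (p := 88641) (l := 5) rfl N88641 D219465
theorem N116207 : nd 116207 = n219466 := ndS (p := 88646) (l := 6) rfl N88646 D219466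
theorem N116208 : nd 116208 = n219467 := ndS (p := 88653) (l := 1) rfl N88653 D219467
theorem N116209 : nd 116209 = n219468 := ndS (p := 88659) (l := 0) rfl N88659 D219468
theorem N116210 : nd 116210 = n219469 := ndS (p := 88661) (l := 1) rfl N88661 D219469
theorem N116211 : nd 116211 = n219470 := ndS (p := 88661) (l := 5) rfl N88661 D219470
theorem N116212 : nd 116212 = n219471 := ndS (p := 88668) (l := 0) rfl N88668 D219471
theorem N116213 : nd 116213 = n219472 := ndS (p := 88670) (l := 1) rfl N88670 D219472
theorem N116214 : nd 116214 = n219473 := ndS (p := 88670) (l := 6) rfl N88670 D219473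
theorem N116215 : nd 116215 = n219474 := ndS (p := 88671) (l := 5) rfl N88671 D219474
theorem N116216 : nd 116216 = n219475 := ndS (p := 88674) (l := 4) rfl N88674 D219475
theorem N116217 : nd 116217 = n219476 := ndS (p := 88675) (l := 0) rfl N88675 D219476
theorem N116218 : nd 116218 = n219477 := ndS (p := 88675) (l := 1) rfl N88675 D219477
theorem N116219 : nd 116219 = n219478 := ndS (p := 88680) (l := 0) rfl N88680 D219478
theorem N116220 : nd 116220 = n219479 := ndS (p := 88680) (l := 6) rfl N88680 D219479
theorem N116221 : nd 116221 = n219480 := ndS (p := 88681) (l := 0) rfl N88681 D219480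
theorem N116222 : nd 116222 = n219481 := ndS (p := 88683) (l := 3) rfl N88683 D219481
theorem N116223 : nd 116223 = n219482 := ndS (p := 88688) (l := 0) rfl N88688 D219482
theorem N116224 : nd 116224 = n219483 := ndS (p := 88688) (l := 1) rfl N88688 D219483
theorem N116225 : nd 116225 = n219484 := ndS (p := 88688) (l := 7) rfl N88688 D219484
theorem N116226 : nd 116226 = n219485 := ndS (p := 88689) (l := 3) rfl N88689 D219485
theorem N116227 : nd 116227 = n219486 := ndS (p := 88690) (l := 5) rfl N88690 D219486
theorem N116228 : nd 116228 = n219487 := ndS (p := 88693) (l := 0) rfl N88693 D219487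
theorem N116229 : nd 116229 = n219488 := ndS (p := 88693) (l := 1) rfl N88693 D219488
theorem N116230 : nd 116230 = n219489 := ndS (p := 88693) (l := 2) rfl N88693 D219489
theorem N116231 : nd 116231 = n219490 := ndS (p := 88693) (l := 5) rfl N88693 D219490
theorem N116232 : nd 116232 = n219491 := ndS (p := 88702) (l := 4) rfl N88702 D219491
theorem N116233 : nd 116233 = n219492 := ndS (p := 88702) (l := 6) rfl N88702 D219492
theorem N116234 : nd 116234 = n219493 := ndS (p := 88704) (l := 6) rfl N88704 D219493
theorem N116235 : nd 116235 = n219494 := ndS (p := 88705) (l := 0) rfl N88705 D219494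
theorem N116236 : nd 116236 = n219495 := ndS (p := 88705) (l := 7) rfl N88705 D219495
theorem N116237 : nd 116237 = n219496 := ndS (p := 88712) (l := 6) rfl N88712 D219496
theorem N116238 : nd 116238 = n219497 := ndS (p := 88713) (l := 7) rfl N88713 D219497
theorem N116239 : nd 116239 = n219498 := ndS (p := 88714) (l := 0) rfl N88714 D219498
theorem N116240 : nd 116240 = n219499 := ndS (p := 88714) (l := 1) rfl N88714 D219499
theorem N116241 : nd 116241 = n219500 := ndS (p := 88714) (l := 5) rfl N88714 D219500
theorem N116242 : nd 116242 = n219501 := ndS (p := 88714) (l := 6) rfl N88714 D219501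
theorem N116243 : nd 116243 = n219502 := ndS (p := 88715) (l := 6) rfl N88715 D219502
theorem N116244 : nd 116244 = n219503 := ndS (p := 88716) (l := 0) rfl N88716 D219503
theorem N116245 : nd 116245 = n219504 := ndS (p := 88716) (l := 1) rfl N88716 D219504
theorem N116246 : nd 116246 = n219505 := ndS (p := 88716) (l := 5) rfl N88716 D219505
theorem N116247 : nd 116247 = n219506 := ndS (p := 88716) (l := 7) rfl N88716 D219506
theorem N116248 : nd 116248 = n219507 := ndS (p := 88717) (l := 4) rfl N88717 D219507
theorem N116249 : nd 116249 = n219508 := ndS (p := 88718) (l := 4) rfl N88718 D219508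
theorem N116250 : nd 116250 = n219509 := ndS (p := 88720) (l := 6) rfl N88720 D219509
theorem N116251 : nd 116251 = n219510 := ndS (p := 88734) (l := 0) rfl N88734 D219510
theorem N116252 : nd 116252 = n219511 := ndS (p := 88734) (l := 5) rfl N88734 D219511
theorem N116253 : nd 116253 = n219512 := ndS (p := 88736) (l := 6) rfl N88736 D219512
theorem N116254 : nd 116254 = n219513 := ndS (p := 88737) (l := 5) rfl N88737 D219513
theorem N116255 : nd 116255 = n219514 := ndS (p := 88738) (l := 1) rfl N88738 D219514
theorem N116256 : nd 116256 = n219515 := ndS (p := 88738) (l := 2) rfl N88738 D219515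
theorem N116257 : nd 116257 = n219516 := ndS (p := 88738) (l := 6) rfl N88738 D219516
theorem N116258 : nd 116258 = n219517 := ndS (p := 88739) (l := 1) rfl N88739 D219517
theorem N116259 : nd 116259 = n219518 := ndS (p := 88739) (l := 7) rfl N88739 D219518
theorem N116260 : nd 116260 = n219519 := ndS (p := 88740) (l := 4) rfl N88740 D219519
theorem N116261 : nd 116261 = n219520 := ndS (p := 88740) (l := 5) rfl N88740 D219520
theorem N116262 : nd 116262 = n219521 := ndS (p := 88741) (l := 0) rfl N88741 D219521
theorem N116263 : nd 116263 = n219522 := ndS (p := 88741) (l := 4) rfl N88741 D219522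
theorem N116264 : nd 116264 = n219523 := ndS (p := 88741) (l := 7) rfl N88741 D219523
theorem N116265 : nd 116265 = n219524 := ndS (p := 88753) (l := 0) rfl N88753 D219524
theorem N116266 : nd 116266 = n219525 := ndS (p := 88753) (l := 4) rfl N88753 D219525
theorem N116267 : nd 116267 = n219526 := ndS (p := 88753) (l := 6) rfl N88753 D219526
theorem N116268 : nd 116268 = n219527 := ndS (p := 88754) (l := 4) rfl N88754 D219527
theorem N116269 : nd 116269 = n219528 := ndS (p := 88755) (l := 4) rfl N88755 D219528
theorem N116270 : nd 116270 = n219529 := ndS (p := 88756) (l := 1) rfl N88756 D219529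
theorem N116271 : nd 116271 = n219530 := ndS (p := 88756) (l := 3) rfl N88756 D219530
theorem N116272 : nd 116272 = n219531 := ndS (p := 88759) (l := 3) rfl N88759 D219531
theorem N116273 : nd 116273 = n219532 := ndS (p := 88760) (l := 0) rfl N88760 D219532
theorem N116274 : nd 116274 = n219533 := ndS (p := 88760) (l := 2) rfl N88760 D219533
theorem N116275 : nd 116275 = n219534 := ndS (p := 88760) (l := 6) rfl N88760 D219534
theorem N116276 : nd 116276 = n219535 := ndS (p := 88762) (l := 5) rfl N88762 D219535
theorem N116277 : nd 116277 = n219536 := ndS (p := 88763) (l := 4) rfl N88763 D219536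
theorem N116278 : nd 116278 = n219537 := ndS (p := 88763) (l := 5) rfl N88763 D219537
theorem N116279 : nd 116279 = n219538 := ndS (p := 88763) (l := 6) rfl N88763 D219538
theorem N116280 : nd 116280 = n219539 := ndS (p := 88764) (l := 0) rfl N88764 D219539
theorem N116281 : nd 116281 = n219540 := ndS (p := 88764) (l := 4) rfl N88764 D219540
theorem N116282 : nd 116282 = n219541 := ndS (p := 88766) (l := 4) rfl N88766 D219541
theorem N116283 : nd 116283 = n219542 := ndS (p := 88768) (l := 7) rfl N88768 D219542
theorem N116284 : nd 116284 = n219543 := ndS (p := 88777) (l := 3) rfl N88777 D219543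
theorem N116285 : nd 116285 = n219544 := ndS (p := 88780) (l := 2) rfl N88780 D219544
theorem N116286 : nd 116286 = n219545 := ndS (p := 88785) (l := 3) rfl N88785 D219545
theorem N116287 : nd 116287 = n219546 := ndS (p := 88786) (l := 1) rfl N88786 D219546
theorem N116288 : nd 116288 = n219547 := ndS (p := 88787) (l := 5) rfl N88787 D219547
theorem N116289 : nd 116289 = n219548 := ndS (p := 88791) (l := 6) rfl N88791 D219548
theorem N116290 : nd 116290 = n219549 := ndS (p := 88805) (l := 0) rfl N88805 D219549
theorem N116291 : nd 116291 = n219550 := ndS (p := 88809) (l := 6) rfl N88809 D219550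
theorem N116292 : nd 116292 = n219551 := ndS (p := 88814) (l := 5) rfl N88814 D219551
theorem N116293 : nd 116293 = n219552 := ndS (p := 88823) (l := 4) rfl N88823 D219552
theorem N116294 : nd 116294 = n219553 := ndS (p := 88825) (l := 6) rfl N88825 D219553
theorem N116295 : nd 116295 = n219554 := ndS (p := 88832) (l := 0) rfl N88832 D219554
theorem N116296 : nd 116296 = n219555 := ndS (p := 88832) (l := 1) rfl N88832 D219555
theorem N116297 : nd 116297 = n219556 := ndS (p := 88832) (l := 7) rfl N88832 D219556
theorem N116298 : nd 116298 = n219557 := ndS (p := 88834) (l := 0) rfl N88834 D219557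
theorem N116299 : nd 116299 = n219558 := ndS (p := 88835) (l := 6) rfl N88835 D219558
theorem N116300 : nd 116300 = n219559 := ndS (p := 88843) (l := 6) rfl N88843 D219559
theorem N116301 : nd 116301 = n219560 := ndS (p := 88849) (l := 6) rfl N88849 D219560
theorem N116302 : nd 116302 = n219561 := ndS (p := 88850) (l := 1) rfl N88850 D219561
theorem N116303 : nd 116303 = n219562 := ndS (p := 88853) (l := 6) rfl N88853 D219562
theorem N116304 : nd 116304 = n219563 := ndS (p := 88857) (l := 6) rfl N88857 D219563
theorem N116305 : nd 116305 = n219564 := ndS (p := 88860) (l := 5) rfl N88860 D219564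
theorem N116306 : nd 116306 = n219565 := ndS (p := 88862) (l := 6) rfl N88862 D219565
theorem N116307 : nd 116307 = n219566 := ndS (p := 88864) (l := 1) rfl N88864 D219566
theorem N116308 : nd 116308 = n219567 := ndS (p := 88864) (l := 7) rfl N88864 D219567
theorem N116309 : nd 116309 = n219568 := ndS (p := 88868) (l := 0) rfl N88868 D219568
theorem N116310 : nd 116310 = n219569 := ndS (p := 88868) (l := 1) rfl N88868 D219569
theorem N116311 : nd 116311 = n219570 := ndS (p := 88868) (l := 7) rfl N88868 D219570
theorem N116312 : nd 116312 = n219571 := ndS (p := 88870) (l := 5) rfl N88870 D219571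
theorem N116313 : nd 116313 = n219572 := ndS (p := 88877) (l := 1) rfl N88877 D219572
theorem N116314 : nd 116314 = n219573 := ndS (p := 88877) (l := 2) rfl N88877 D219573
theorem N116315 : nd 116315 = n219574 := ndS (p := 88878) (l := 6) rfl N88878 D219574
theorem N116316 : nd 116316 = n219575 := ndS (p := 88879) (l := 0) rfl N88879 D219575
theorem N116317 : nd 116317 = n219576 := ndS (p := 88879) (l := 1) rfl N88879 D219576
theorem N116318 : nd 116318 = n219577 := ndS (p := 88879) (l := 5) rfl N88879 D219577
theorem N116319 : nd 116319 = n219578 := ndS (p := 88885) (l := 0) rfl N88885 D219578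
theorem N116320 : nd 116320 = n219579 := ndS (p := 88885) (l := 1) rfl N88885 D219579
theorem N116321 : nd 116321 = n219580 := ndS (p := 88889) (l := 5) rfl N88889 D219580
theorem N116322 : nd 116322 = n219581 := ndS (p := 88899) (l := 6) rfl N88899 D219581
theorem N116323 : nd 116323 = n219582 := ndS (p := 88902) (l := 0) rfl N88902 D219582
theorem N116324 : nd 116324 = n219583 := ndS (p := 88908) (l := 5) rfl N88908 D219583
theorem N116325 : nd 116325 = n219584 := ndS (p := 88909) (l := 0) rfl N88909 D219584
theorem N116326 : nd 116326 = n219585 := ndS (p := 88909) (l := 1) rfl N88909 D219585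
theorem N116327 : nd 116327 = n219586 := ndS (p := 88911) (l := 0) rfl N88911 D219586
theorem N116328 : nd 116328 = n219587 := ndS (p := 88911) (l := 4) rfl N88911 D219587
theorem N116329 : nd 116329 = n219588 := ndS (p := 88915) (l := 5) rfl N88915 D219588
theorem N116330 : nd 116330 = n219589 := ndS (p := 88917) (l := 1) rfl N88917 D219589
theorem N116331 : nd 116331 = n219590 := ndS (p := 88917) (l := 2) rfl N88917 D219590
theorem N116332 : nd 116332 = n219591 := ndS (p := 88918) (l := 3) rfl N88918 D219591
theorem N116333 : nd 116333 = n219592 := ndS (p := 88920) (l := 6) rfl N88920 D219592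
theorem N116334 : nd 116334 = n219593 := ndS (p := 88923) (l := 0) rfl N88923 D219593
theorem N116335 : nd 116335 = n219594 := ndS (p := 88923) (l := 1) rfl N88923 D219594
theorem N116336 : nd 116336 = n219595 := ndS (p := 88923) (l := 7) rfl N88923 D219595
theorem N116337 : nd 116337 = n219596 := ndS (p := 88927) (l := 6) rfl N88927 D219596
theorem N116338 : nd 116338 = n219597 := ndS (p := 88928) (l := 0) rfl N88928 D219597
theorem N116339 : nd 116339 = n219598 := ndS (p := 88928) (l := 1) rfl N88928 D219598
theorem N116340 : nd 116340 = n219599 := ndS (p := 88928) (l := 7) rfl N88928 D219599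
theorem N116341 : nd 116341 = n219600 := ndS (p := 88932) (l := 3) rfl N88932 D219600
theorem N116342 : nd 116342 = n219601 := ndS (p := 88932) (l := 5) rfl N88932 D219601
theorem N116343 : nd 116343 = n219602 := ndS (p := 88933) (l := 0) rfl N88933 D219602
theorem N116344 : nd 116344 = n219603 := ndS (p := 88933) (l := 1) rfl N88933 D219603
theorem N116345 : nd 116345 = n219604 := ndS (p := 88933) (l := 7) rfl N88933 D219604
theorem N116346 : nd 116346 = n219605 := ndS (p := 88934) (l := 4) rfl N88934 D219605
theorem N116347 : nd 116347 = n219606 := ndS (p := 88935) (l := 3) rfl N88935 D219606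
theorem N116348 : nd 116348 = n219607 := ndS (p := 88935) (l := 5) rfl N88935 D219607
theorem N116349 : nd 116349 = n219608 := ndS (p := 88935) (l := 6) rfl N88935 D219608
theorem N116350 : nd 116350 = n219609 := ndS (p := 88937) (l := 3) rfl N88937 D219609
theorem N116351 : nd 116351 = n219610 := ndS (p := 88937) (l := 5) rfl N88937 D219610
theorem N116352 : nd 116352 = n219611 := ndS (p := 88937) (l := 6) rfl N88937 D219611
theorem N116353 : nd 116353 = n219612 := ndS (p := 88938) (l := 5) rfl N88938 D219612
theorem N116354 : nd 116354 = n219613 := ndS (p := 88939) (l := 0) rfl N88939 D219613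
theorem N116355 : nd 116355 = n219614 := ndS (p := 88939) (l := 1) rfl N88939 D219614
theorem N116356 : nd 116356 = n219615 := ndS (p := 88939) (l := 4) rfl N88939 D219615
theorem N116357 : nd 116357 = n219616 := ndS (p := 88945) (l := 4) rfl N88945 D219616
theorem N116358 : nd 116358 = n219617 := ndS (p := 88945) (l := 6) rfl N88945 D219617
theorem N116359 : nd 116359 = n219618 := ndS (p := 88948) (l := 5) rfl N88948 D219618
theorem N116360 : nd 116360 = n219619 := ndS (p := 88951) (l := 0) rfl N88951 D219619
theorem N116361 : nd 116361 = n219620 := ndS (p := 88952) (l := 5) rfl N88952 D219620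
theorem N116362 : nd 116362 = n219621 := ndS (p := 88954) (l := 5) rfl N88954 D219621
theorem N116363 : nd 116363 = n219622 := ndS (p := 88956) (l := 5) rfl N88956 D219622
theorem N116364 : nd 116364 = n219623 := ndS (p := 88957) (l := 0) rfl N88957 D219623
theorem N116365 : nd 116365 = n219624 := ndS (p := 88957) (l := 6) rfl N88957 D219624
theorem N116366 : nd 116366 = n219625 := ndS (p := 88959) (l := 4) rfl N88959 D219625
theorem N116367 : nd 116367 = n219626 := ndS (p := 88960) (l := 4) rfl N88960 D219626
theorem N116368 : nd 116368 = n219627 := ndS (p := 88964) (l := 3) rfl N88964 D219627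
theorem N116369 : nd 116369 = n219628 := ndS (p := 88964) (l := 5) rfl N88964 D219628
theorem N116370 : nd 116370 = n219629 := ndS (p := 88966) (l := 3) rfl N88966 D219629
theorem N116371 : nd 116371 = n219630 := ndS (p := 88967) (l := 0) rfl N88967 D219630
theorem N116372 : nd 116372 = n219631 := ndS (p := 88967) (l := 1) rfl N88967 D219631
theorem N116373 : nd 116373 = n219632 := ndS (p := 88973) (l := 4) rfl N88973 D219632
theorem N116374 : nd 116374 = n219633 := ndS (p := 88974) (l := 7) rfl N88974 D219633
theorem N116375 : nd 116375 = n219634 := ndS (p := 88976) (l := 3) rfl N88976 D219634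
theorem N116376 : nd 116376 = n219635 := ndS (p := 88978) (l := 6) rfl N88978 D219635
theorem N116377 : nd 116377 = n219636 := ndS (p := 88983) (l := 7) rfl N88983 D219636
theorem N116378 : nd 116378 = n219637 := ndS (p := 88991) (l := 5) rfl N88991 D219637
theorem N116379 : nd 116379 = n219638 := ndS (p := 88998) (l := 4) rfl N88998 D219638
theorem N116380 : nd 116380 = n219639 := ndS (p := 88998) (l := 6) rfl N88998 D219639
theorem N116381 : nd 116381 = n219640 := ndS (p := 89001) (l := 3) rfl N89001 D219640
theorem N116382 : nd 116382 = n219641 := ndS (p := 89004) (l := 5) rfl N89004 D219641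
theorem N116383 : nd 116383 = n219642 := ndS (p := 89007) (l := 5) rfl N89007 D219642
theorem N116384 : nd 116384 = n219643 := ndS (p := 89014) (l := 1) rfl N89014 D219643
theorem N116385 : nd 116385 = n219644 := ndS (p := 89014) (l := 3) rfl N89014 D219644
theorem N116386 : nd 116386 = n219645 := ndS (p := 89014) (l := 5) rfl N89014 D219645
theorem N116387 : nd 116387 = n219646 := ndS (p := 89016) (l := 5) rfl N89016 D219646
theorem N116388 : nd 116388 = n219647 := ndS (p := 89017) (l := 0) rfl N89017 D219647
theorem N116389 : nd 116389 = n219648 := ndS (p := 89017) (l := 1) rfl N89017 D219648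
theorem N116390 : nd 116390 = n219649 := ndS (p := 89017) (l := 7) rfl N89017 D219649
theorem N116391 : nd 116391 = n219650 := ndS (p := 89021) (l := 6) rfl N89021 D219650
theorem N116392 : nd 116392 = n219651 := ndS (p := 89022) (l := 5) rfl N89022 D219651
theorem N116393 : nd 116393 = n219652 := ndS (p := 89023) (l := 0) rfl N89023 D219652
theorem N116394 : nd 116394 = n219653 := ndS (p := 89023) (l := 7) rfl N89023 D219653
theorem N116395 : nd 116395 = n219654 := ndS (p := 89026) (l := 6) rfl N89026 D219654
theorem N116396 : nd 116396 = n219655 := ndS (p := 89027) (l := 7) rfl N89027 D219655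
theorem N116397 : nd 116397 = n219656 := ndS (p := 89031) (l := 3) rfl N89031 D219656
theorem N116398 : nd 116398 = n219657 := ndS (p := 89033) (l := 3) rfl N89033 D219657
theorem N116399 : nd 116399 = n219658 := ndS (p := 89040) (l := 5) rfl N89040 D219658
theorem N116400 : nd 116400 = n219659 := ndS (p := 89040) (l := 6) rfl N89040 D219659
theorem N116401 : nd 116401 = n219660 := ndS (p := 89041) (l := 6) rfl N89041 D219660
theorem N116402 : nd 116402 = n219661 := ndS (p := 89043) (l := 4) rfl N89043 D219661
theorem N116403 : nd 116403 = n219662 := ndS (p := 89048) (l := 0) rfl N89048 D219662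
theorem N116404 : nd 116404 = n219663 := ndS (p := 89048) (l := 7) rfl N89048 D219663
theorem N116405 : nd 116405 = n219664 := ndS (p := 89049) (l := 6) rfl N89049 D219664
theorem N116406 : nd 116406 = n219665 := ndS (p := 89059) (l := 5) rfl N89059 D219665
theorem N116407 : nd 116407 = n219666 := ndS (p := 89065) (l := 5) rfl N89065 D219666
theorem N116408 : nd 116408 = n219667 := ndS (p := 89067) (l := 5) rfl N89067 D219667
theorem N116409 : nd 116409 = n219668 := ndS (p := 89068) (l := 3) rfl N89068 D219668
theorem N116410 : nd 116410 = n219669 := ndS (p := 89068) (l := 5) rfl N89068 D219669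
theorem N116411 : nd 116411 = n219670 := ndS (p := 89068) (l := 6) rfl N89068 D219670
theorem N116412 : nd 116412 = n219671 := ndS (p := 89071) (l := 6) rfl N89071 D219671
theorem N116413 : nd 116413 = n219672 := ndS (p := 89074) (l := 6) rfl N89074 D219672
theorem N116414 : nd 116414 = n219673 := ndS (p := 89075) (l := 3) rfl N89075 D219673
theorem N116415 : nd 116415 = n219674 := ndS (p := 89075) (l := 6) rfl N89075 D219674
theorem N116416 : nd 116416 = n219675 := ndS (p := 89086) (l := 3) rfl N89086 D219675
theorem N116417 : nd 116417 = n219676 := ndS (p := 89089) (l := 4) rfl N89089 D219676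
theorem N116418 : nd 116418 = n219677 := ndS (p := 89093) (l := 4) rfl N89093 D219677
theorem N116419 : nd 116419 = n219678 := ndS (p := 89095) (l := 6) rfl N89095 D219678
theorem N116420 : nd 116420 = n219679 := ndS (p := 89097) (l := 6) rfl N89097 D219679
theorem N116421 : nd 116421 = n219680 := ndS (p := 89098) (l := 0) rfl N89098 D219680
theorem N116422 : nd 116422 = n219681 := ndS (p := 89098) (l := 1) rfl N89098 D219681
theorem N116423 : nd 116423 = n219682 := ndS (p := 89098) (l := 7) rfl N89098 D219682
theorem N116424 : nd 116424 = n219683 := ndS (p := 89110) (l := 1) rfl N89110 D219683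
theorem N116425 : nd 116425 = n219684 := ndS (p := 89113) (l := 4) rfl N89113 D219684
theorem N116426 : nd 116426 = n219685 := ndS (p := 89114) (l := 4) rfl N89114 D219685
theorem N116427 : nd 116427 = n219686 := ndS (p := 89116) (l := 3) rfl N89116 D219686
theorem N116428 : nd 116428 = n219687 := ndS (p := 89118) (l := 5) rfl N89118 D219687
theorem N116429 : nd 116429 = n219688 := ndS (p := 89120) (l := 3) rfl N89120 D219688
theorem N116430 : nd 116430 = n219689 := ndS (p := 89122) (l := 5) rfl N89122 D219689
theorem N116431 : nd 116431 = n219690 := ndS (p := 89124) (l := 5) rfl N89124 D219690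
theorem N116432 : nd 116432 = n219691 := ndS (p := 89125) (l := 5) rfl N89125 D219691
theorem N116433 : nd 116433 = n219692 := ndS (p := 89126) (l := 1) rfl N89126 D219692
theorem N116434 : nd 116434 = n219693 := ndS (p := 89126) (l := 4) rfl N89126 D219693
theorem N116435 : nd 116435 = n219694 := ndS (p := 89126) (l := 6) rfl N89126 D219694
theorem N116436 : nd 116436 = n219695 := ndS (p := 89126) (l := 7) rfl N89126 D219695
theorem N116437 : nd 116437 = n219696 := ndS (p := 89128) (l := 0) rfl N89128 D219696
theorem N116438 : nd 116438 = n219697 := ndS (p := 89142) (l := 5) rfl N89142 D219697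
theorem N116439 : nd 116439 = n219698 := ndS (p := 89144) (l := 3) rfl N89144 D219698
theorem N116440 : nd 116440 = n219699 := ndS (p := 89144) (l := 5) rfl N89144 D219699
theorem N116441 : nd 116441 = n219700 := ndS (p := 89146) (l := 6) rfl N89146 D219700
theorem N116442 : nd 116442 = n219701 := ndS (p := 89154) (l := 6) rfl N89154 D219701
theorem N116443 : nd 116443 = n219702 := ndS (p := 89157) (l := 4) rfl N89157 D219702
theorem N116444 : nd 116444 = n219703 := ndS (p := 89165) (l := 4) rfl N89165 D219703
theorem N116445 : nd 116445 = n219704 := ndS (p := 89167) (l := 4) rfl N89167 D219704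
theorem N116446 : nd 116446 = n219705 := ndS (p := 89167) (l := 6) rfl N89167 D219705
theorem N116447 : nd 116447 = n219706 := ndS (p := 89170) (l := 4) rfl N89170 D219706
theorem N116448 : nd 116448 = n219707 := ndS (p := 89175) (l := 5) rfl N89175 D219707
theorem N116449 : nd 116449 = n219708 := ndS (p := 89181) (l := 6) rfl N89181 D219708
theorem N116450 : nd 116450 = n219709 := ndS (p := 89183) (l := 1) rfl N89183 D219709
theorem N116451 : nd 116451 = n219710 := ndS (p := 89191) (l := 7) rfl N89191 D219710
theorem N116452 : nd 116452 = n219711 := ndS (p := 89202) (l := 4) rfl N89202 D219711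
theorem N116453 : nd 116453 = n219712 := ndS (p := 89209) (l := 6) rfl N89209 D219712
theorem N116454 : nd 116454 = n219713 := ndS (p := 89211) (l := 4) rfl N89211 D219713
theorem N116455 : nd 116455 = n219714 := ndS (p := 89212) (l := 4) rfl N89212 D219714
theorem N116456 : nd 116456 = n219715 := ndS (p := 89216) (l := 6) rfl N89216 D219715
theorem N116457 : nd 116457 = n219716 := ndS (p := 89217) (l := 4) rfl N89217 D219716
theorem N116458 : nd 116458 = n219717 := ndS (p := 89218) (l := 6) rfl N89218 D219717
theorem N116459 : nd 116459 = n219718 := ndS (p := 89220) (l := 5) rfl N89220 D219718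
theorem N116460 : nd 116460 = n219719 := ndS (p := 89224) (l := 6) rfl N89224 D219719
theorem N116461 : nd 116461 = n219720 := ndS (p := 89225) (l := 6) rfl N89225 D219720
theorem N116462 : nd 116462 = n219721 := ndS (p := 89226) (l := 5) rfl N89226 D219721
theorem N116463 : nd 116463 = n219722 := ndS (p := 89235) (l := 3) rfl N89235 D219722
theorem N116464 : nd 116464 = n219723 := ndS (p := 89237) (l := 1) rfl N89237 D219723
theorem N116465 : nd 116465 = n219724 := ndS (p := 89244) (l := 3) rfl N89244 D219724
theorem N116466 : nd 116466 = n219725 := ndS (p := 89245) (l := 3) rfl N89245 D219725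
theorem N116467 : nd 116467 = n219726 := ndS (p := 89251) (l := 3) rfl N89251 D219726
theorem N116468 : nd 116468 = n219727 := ndS (p := 89253) (l := 5) rfl N89253 D219727
theorem N116469 : nd 116469 = n219728 := ndS (p := 89256) (l := 6) rfl N89256 D219728
theorem N116470 : nd 116470 = n219729 := ndS (p := 89257) (l := 0) rfl N89257 D219729
theorem N116471 : nd 116471 = n219730 := ndS (p := 89257) (l := 1) rfl N89257 D219730
theorem N116472 : nd 116472 = n219731 := ndS (p := 89257) (l := 7) rfl N89257 D219731
theorem N116473 : nd 116473 = n219732 := ndS (p := 89262) (l := 4) rfl N89262 D219732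
theorem N116474 : nd 116474 = n219733 := ndS (p := 89266) (l := 5) rfl N89266 D219733
theorem N116475 : nd 116475 = n219734 := ndS (p := 89267) (l := 5) rfl N89267 D219734
theorem N116476 : nd 116476 = n219735 := ndS (p := 89268) (l := 3) rfl N89268 D219735
theorem N116477 : nd 116477 = n219736 := ndS (p := 89270) (l := 0) rfl N89270 D219736
theorem N116478 : nd 116478 = n219737 := ndS (p := 89270) (l := 1) rfl N89270 D219737
theorem N116479 : nd 116479 = n219738 := ndS (p := 89270) (l := 7) rfl N89270 D219738
theorem N116480 : nd 116480 = n219739 := ndS (p := 89273) (l := 1) rfl N89273 D219739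
theorem N116481 : nd 116481 = n219740 := ndS (p := 89273) (l := 2) rfl N89273 D219740
theorem N116482 : nd 116482 = n219741 := ndS (p := 89274) (l := 0) rfl N89274 D219741
theorem N116483 : nd 116483 = n219742 := ndS (p := 89275) (l := 3) rfl N89275 D219742
theorem N116484 : nd 116484 = n219743 := ndS (p := 89275) (l := 6) rfl N89275 D219743
theorem N116485 : nd 116485 = n219744 := ndS (p := 89277) (l := 6) rfl N89277 D219744
theorem N116486 : nd 116486 = n219745 := ndS (p := 89278) (l := 0) rfl N89278 D219745
theorem N116487 : nd 116487 = n219746 := ndS (p := 89278) (l := 7) rfl N89278 D219746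
theorem N116488 : nd 116488 = n219747 := ndS (p := 89279) (l := 3) rfl N89279 D219747
theorem N116489 : nd 116489 = n219748 := ndS (p := 89280) (l := 6) rfl N89280 D219748
theorem N116490 : nd 116490 = n219749 := ndS (p := 89282) (l := 6) rfl N89282 D219749
theorem N116491 : nd 116491 = n219750 := ndS (p := 89283) (l := 5) rfl N89283 D219750
theorem N116492 : nd 116492 = n219751 := ndS (p := 89283) (l := 6) rfl N89283 D219751
theorem N116493 : nd 116493 = n219752 := ndS (p := 89284) (l := 0) rfl N89284 D219752
theorem N116494 : nd 116494 = n219753 := ndS (p := 89284) (l := 7) rfl N89284 D219753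
theorem N116495 : nd 116495 = n219754 := ndS (p := 89294) (l := 3) rfl N89294 D219754
theorem N116496 : nd 116496 = n219755 := ndS (p := 89294) (l := 5) rfl N89294 D219755
theorem N116497 : nd 116497 = n219756 := ndS (p := 89296) (l := 5) rfl N89296 D219756
theorem N116498 : nd 116498 = n219757 := ndS (p := 89297) (l := 7) rfl N89297 D219757
theorem N116499 : nd 116499 = n219758 := ndS (p := 89298) (l := 3) rfl N89298 D219758
theorem N116500 : nd 116500 = n219759 := ndS (p := 89298) (l := 5) rfl N89298 D219759
theorem N116501 : nd 116501 = n219760 := ndS (p := 89299) (l := 5) rfl N89299 D219760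
theorem N116502 : nd 116502 = n219761 := ndS (p := 89299) (l := 6) rfl N89299 D219761
theorem N116503 : nd 116503 = n219762 := ndS (p := 89300) (l := 0) rfl N89300 D219762
theorem N116504 : nd 116504 = n219763 := ndS (p := 89301) (l := 0) rfl N89301 D219763
theorem N116505 : nd 116505 = n219764 := ndS (p := 89301) (l := 1) rfl N89301 D219764
theorem N116506 : nd 116506 = n219765 := ndS (p := 89302) (l := 4) rfl N89302 D219765
theorem N116507 : nd 116507 = n219766 := ndS (p := 89303) (l := 4) rfl N89303 D219766
theorem N116508 : nd 116508 = n219767 := ndS (p := 89304) (l := 0) rfl N89304 D219767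
theorem N116509 : nd 116509 = n219768 := ndS (p := 89305) (l := 4) rfl N89305 D219768
theorem N116510 : nd 116510 = n219769 := ndS (p := 89308) (l := 6) rfl N89308 D219769
theorem N116511 : nd 116511 = n219770 := ndS (p := 89311) (l := 6) rfl N89311 D219770
theorem N116512 : nd 116512 = n219771 := ndS (p := 89313) (l := 6) rfl N89313 D219771
theorem N116513 : nd 116513 = n219772 := ndS (p := 89317) (l := 1) rfl N89317 D219772
theorem N116514 : nd 116514 = n219773 := ndS (p := 89327) (l := 3) rfl N89327 D219773
theorem N116515 : nd 116515 = n219774 := ndS (p := 89329) (l := 4) rfl N89329 D219774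
theorem N116516 : nd 116516 = n219775 := ndS (p := 89332) (l := 5) rfl N89332 D219775
theorem N116517 : nd 116517 = n219776 := ndS (p := 89333) (l := 6) rfl N89333 D219776
theorem N116518 : nd 116518 = n219777 := ndS (p := 89334) (l := 6) rfl N89334 D219777
theorem N116519 : nd 116519 = n219778 := ndS (p := 89335) (l := 6) rfl N89335 D219778
theorem N116520 : nd 116520 = n219779 := ndS (p := 89336) (l := 6) rfl N89336 D219779
theorem N116521 : nd 116521 = n219780 := ndS (p := 89338) (l := 6) rfl N89338 D219780
theorem N116522 : nd 116522 = n219781 := ndS (p := 89339) (l := 3) rfl N89339 D219781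
theorem N116523 : nd 116523 = n219782 := ndS (p := 89339) (l := 6) rfl N89339 D219782
theorem N116524 : nd 116524 = n219783 := ndS (p := 89340) (l := 0) rfl N89340 D219783
theorem N116525 : nd 116525 = n219784 := ndS (p := 89340) (l := 5) rfl N89340 D219784
theorem N116526 : nd 116526 = n219785 := ndS (p := 89340) (l := 7) rfl N89340 D219785
theorem N116527 : nd 116527 = n219786 := ndS (p := 89341) (l := 4) rfl N89341 D219786
theorem N116528 : nd 116528 = n219787 := ndS (p := 89342) (l := 1) rfl N89342 D219787
theorem N116529 : nd 116529 = n219788 := ndS (p := 89342) (l := 7) rfl N89342 D219788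
theorem N116530 : nd 116530 = n219789 := ndS (p := 89343) (l := 6) rfl N89343 D219789
theorem N116531 : nd 116531 = n219790 := ndS (p := 89344) (l := 3) rfl N89344 D219790
theorem N116532 : nd 116532 = n219791 := ndS (p := 89345) (l := 0) rfl N89345 D219791
theorem N116533 : nd 116533 = n219792 := ndS (p := 89345) (l := 7) rfl N89345 D219792
theorem N116534 : nd 116534 = n219793 := ndS (p := 89348) (l := 1) rfl N89348 D219793
theorem N116535 : nd 116535 = n219794 := ndS (p := 89354) (l := 4) rfl N89354 D219794
theorem N116536 : nd 116536 = n219795 := ndS (p := 89358) (l := 3) rfl N89358 D219795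
theorem N116537 : nd 116537 = n219796 := ndS (p := 89360) (l := 3) rfl N89360 D219796
theorem N116538 : nd 116538 = n219797 := ndS (p := 89361) (l := 5) rfl N89361 D219797
theorem N116539 : nd 116539 = n219798 := ndS (p := 89363) (l := 5) rfl N89363 D219798
theorem N116540 : nd 116540 = n219799 := ndS (p := 89368) (l := 1) rfl N89368 D219799
theorem N116541 : nd 116541 = n219800 := ndS (p := 89371) (l := 6) rfl N89371 D219800
theorem N116542 : nd 116542 = n219801 := ndS (p := 89373) (l := 3) rfl N89373 D219801
theorem N116543 : nd 116543 = n219802 := ndS (p := 89373) (l := 5) rfl N89373 D219802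
theorem N116544 : nd 116544 = n219803 := ndS (p := 89373) (l := 6) rfl N89373 D219803
theorem N116545 : nd 116545 = n219804 := ndS (p := 89375) (l := 3) rfl N89375 D219804
theorem N116546 : nd 116546 = n219805 := ndS (p := 89375) (l := 5) rfl N89375 D219805
theorem N116547 : nd 116547 = n219806 := ndS (p := 89376) (l := 0) rfl N89376 D219806
theorem N116548 : nd 116548 = n219807 := ndS (p := 89383) (l := 6) rfl N89383 D219807
theorem N116549 : nd 116549 = n219808 := ndS (p := 89386) (l := 1) rfl N89386 D219808
theorem N116550 : nd 116550 = n219809 := ndS (p := 89386) (l := 5) rfl N89386 D219809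
theorem N116551 : nd 116551 = n219810 := ndS (p := 89392) (l := 4) rfl N89392 D219810
theorem N116552 : nd 116552 = n219811 := ndS (p := 89395) (l := 0) rfl N89395 D219811
theorem N116553 : nd 116553 = n219812 := ndS (p := 89395) (l := 1) rfl N89395 D219812
theorem N116554 : nd 116554 = n219813 := ndS (p := 89395) (l := 4) rfl N89395 D219813
theorem N116555 : nd 116555 = n219814 := ndS (p := 89395) (l := 7) rfl N89395 D219814
theorem N116556 : nd 116556 = n219815 := ndS (p := 89397) (l := 4) rfl N89397 D219815
theorem N116557 : nd 116557 = n219816 := ndS (p := 89397) (l := 6) rfl N89397 D219816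
theorem N116558 : nd 116558 = n219817 := ndS (p := 89399) (l := 4) rfl N89399 D219817
theorem N116559 : nd 116559 = n219818 := ndS (p := 89401) (l := 4) rfl N89401 D219818
theorem N116560 : nd 116560 = n219819 := ndS (p := 89401) (l := 6) rfl N89401 D219819
theorem N116561 : nd 116561 = n219820 := ndS (p := 89402) (l := 4) rfl N89402 D219820
theorem N116562 : nd 116562 = n219821 := ndS (p := 89402) (l := 6) rfl N89402 D219821
theorem N116563 : nd 116563 = n219822 := ndS (p := 89403) (l := 0) rfl N89403 D219822
theorem N116564 : nd 116564 = n219823 := ndS (p := 89403) (l := 1) rfl N89403 D219823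
theorem N116565 : nd 116565 = n219824 := ndS (p := 89403) (l := 7) rfl N89403 D219824
theorem N116566 : nd 116566 = n219825 := ndS (p := 89404) (l := 6) rfl N89404 D219825
theorem N116567 : nd 116567 = n219826 := ndS (p := 89408) (l := 7) rfl N89408 D219826
theorem N116568 : nd 116568 = n219827 := ndS (p := 89411) (l := 6) rfl N89411 D219827
theorem N116569 : nd 116569 = n219828 := ndS (p := 89416) (l := 1) rfl N89416 D219828
theorem N116570 : nd 116570 = n219829 := ndS (p := 89416) (l := 2) rfl N89416 D219829
theorem N116571 : nd 116571 = n219830 := ndS (p := 89416) (l := 7) rfl N89416 D219830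
theorem N116572 : nd 116572 = n219831 := ndS (p := 89418) (l := 6) rfl N89418 D219831
theorem N116573 : nd 116573 = n219832 := ndS (p := 89425) (l := 4) rfl N89425 D219832
theorem N116574 : nd 116574 = n219833 := ndS (p := 89425) (l := 6) rfl N89425 D219833
theorem N116575 : nd 116575 = n219834 := ndS (p := 89426) (l := 4) rfl N89426 D219834
theorem N116576 : nd 116576 = n219835 := ndS (p := 89427) (l := 3) rfl N89427 D219835
theorem N116577 : nd 116577 = n219836 := ndS (p := 89427) (l := 4) rfl N89427 D219836
theorem N116578 : nd 116578 = n219837 := ndS (p := 89428) (l := 3) rfl N89428 D219837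
theorem N116579 : nd 116579 = n219838 := ndS (p := 89428) (l := 5) rfl N89428 D219838
theorem N116580 : nd 116580 = n219839 := ndS (p := 89428) (l := 6) rfl N89428 D219839
theorem N116581 : nd 116581 = n219840 := ndS (p := 89429) (l := 1) rfl N89429 D219840
theorem N116582 : nd 116582 = n219841 := ndS (p := 89429) (l := 7) rfl N89429 D219841
theorem N116583 : nd 116583 = n219842 := ndS (p := 89433) (l := 6) rfl N89433 D219842
theorem N116584 : nd 116584 = n219843 := ndS (p := 89440) (l := 0) rfl N89440 D219843
theorem N116585 : nd 116585 = n219844 := ndS (p := 89440) (l := 1) rfl N89440 D219844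
theorem N116586 : nd 116586 = n219845 := ndS (p := 89440) (l := 2) rfl N89440 D219845
theorem N116587 : nd 116587 = n219846 := ndS (p := 89440) (l := 5) rfl N89440 D219846
theorem N116588 : nd 116588 = n219847 := ndS (p := 89440) (l := 6) rfl N89440 D219847
theorem N116589 : nd 116589 = n219848 := ndS (p := 89441) (l := 6) rfl N89441 D219848
theorem N116590 : nd 116590 = n219849 := ndS (p := 89442) (l := 5) rfl N89442 D219849
theorem N116591 : nd 116591 = n219850 := ndS (p := 89446) (l := 4) rfl N89446 D219850
theorem N116592 : nd 116592 = n219851 := ndS (p := 89446) (l := 6) rfl N89446 D219851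
theorem N116593 : nd 116593 = n219852 := ndS (p := 89447) (l := 5) rfl N89447 D219852
theorem N116594 : nd 116594 = n219853 := ndS (p := 89451) (l := 0) rfl N89451 D219853
theorem N116595 : nd 116595 = n219854 := ndS (p := 89451) (l := 1) rfl N89451 D219854
theorem N116596 : nd 116596 = n219855 := ndS (p := 89451) (l := 3) rfl N89451 D219855
theorem N116597 : nd 116597 = n219856 := ndS (p := 89451) (l := 5) rfl N89451 D219856
theorem N116598 : nd 116598 = n219857 := ndS (p := 89451) (l := 6) rfl N89451 D219857
theorem N116599 : nd 116599 = n219858 := ndS (p := 89452) (l := 0) rfl N89452 D219858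
theorem N116600 : nd 116600 = n219859 := ndS (p := 89452) (l := 5) rfl N89452 D219859
theorem N116601 : nd 116601 = n219860 := ndS (p := 89452) (l := 7) rfl N89452 D219860
theorem N116602 : nd 116602 = n219861 := ndS (p := 89455) (l := 4) rfl N89455 D219861
theorem N116603 : nd 116603 = n219862 := ndS (p := 89462) (l := 0) rfl N89462 D219862
theorem N116604 : nd 116604 = n219863 := ndS (p := 89462) (l := 2) rfl N89462 D219863
theorem N116605 : nd 116605 = n219864 := ndS (p := 89462) (l := 5) rfl N89462 D219864
theorem N116606 : nd 116606 = n219865 := ndS (p := 89471) (l := 6) rfl N89471 D219865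
theorem N116607 : nd 116607 = n219866 := ndS (p := 89472) (l := 3) rfl N89472 D219866
theorem N116608 : nd 116608 = n219867 := ndS (p := 89472) (l := 5) rfl N89472 D219867
theorem N116609 : nd 116609 = n219868 := ndS (p := 89472) (l := 6) rfl N89472 D219868
theorem N116610 : nd 116610 = n219869 := ndS (p := 89473) (l := 7) rfl N89473 D219869
theorem N116611 : nd 116611 = n219870 := ndS (p := 89474) (l := 6) rfl N89474 D219870
theorem N116612 : nd 116612 = n219871 := ndS (p := 89475) (l := 0) rfl N89475 D219871
theorem N116613 : nd 116613 = n219872 := ndS (p := 89475) (l := 7) rfl N89475 D219872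
theorem N116614 : nd 116614 = n219873 := ndS (p := 89477) (l := 2) rfl N89477 D219873
theorem N116615 : nd 116615 = n219874 := ndS (p := 89482) (l := 3) rfl N89482 D219874
theorem N116616 : nd 116616 = n219875 := ndS (p := 89482) (l := 6) rfl N89482 D219875
theorem N116617 : nd 116617 = n219876 := ndS (p := 89484) (l := 3) rfl N89484 D219876
theorem N116618 : nd 116618 = n219877 := ndS (p := 89485) (l := 6) rfl N89485 D219877
theorem N116619 : nd 116619 = n219878 := ndS (p := 89486) (l := 3) rfl N89486 D219878
theorem N116620 : nd 116620 = n219879 := ndS (p := 89488) (l := 0) rfl N89488 D219879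
theorem N116621 : nd 116621 = n219880 := ndS (p := 89488) (l := 7) rfl N89488 D219880
theorem N116622 : nd 116622 = n219881 := ndS (p := 89489) (l := 3) rfl N89489 D219881
theorem N116623 : nd 116623 = n219882 := ndS (p := 89489) (l := 5) rfl N89489 D219882
theorem N116624 : nd 116624 = n219883 := ndS (p := 89490) (l := 6) rfl N89490 D219883
theorem N116625 : nd 116625 = n219884 := ndS (p := 89491) (l := 5) rfl N89491 D219884
theorem N116626 : nd 116626 = n219885 := ndS (p := 89493) (l := 0) rfl N89493 D219885
theorem N116627 : nd 116627 = n219886 := ndS (p := 89493) (l := 5) rfl N89493 D219886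
theorem N116628 : nd 116628 = n219887 := ndS (p := 89494) (l := 6) rfl N89494 D219887
theorem N116629 : nd 116629 = n219888 := ndS (p := 89496) (l := 4) rfl N89496 D219888
theorem N116630 : nd 116630 = n219889 := ndS (p := 89497) (l := 5) rfl N89497 D219889
theorem N116631 : nd 116631 = n219890 := ndS (p := 89500) (l := 5) rfl N89500 D219890
theorem N116632 : nd 116632 = n219891 := ndS (p := 89509) (l := 5) rfl N89509 D219891
theorem N116633 : nd 116633 = n219892 := ndS (p := 89509) (l := 6) rfl N89509 D219892
theorem N116634 : nd 116634 = n219893 := ndS (p := 89510) (l := 0) rfl N89510 D219893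
theorem N116635 : nd 116635 = n219894 := ndS (p := 89510) (l := 7) rfl N89510 D219894
theorem N116636 : nd 116636 = n219895 := ndS (p := 89512) (l := 5) rfl N89512 D219895
theorem N116637 : nd 116637 = n219896 := ndS (p := 89512) (l := 6) rfl N89512 D219896
theorem N116638 : nd 116638 = n219897 := ndS (p := 89514) (l := 5) rfl N89514 D219897
theorem N116639 : nd 116639 = n219898 := ndS (p := 89514) (l := 6) rfl N89514 D219898
theorem N116640 : nd 116640 = n219899 := ndS (p := 89516) (l := 3) rfl N89516 D219899
theorem N116641 : nd 116641 = n219900 := ndS (p := 89516) (l := 5) rfl N89516 D219900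
theorem N116642 : nd 116642 = n219901 := ndS (p := 89518) (l := 6) rfl N89518 D219901
theorem N116643 : nd 116643 = n219902 := ndS (p := 89519) (l := 5) rfl N89519 D219902
theorem N116644 : nd 116644 = n219903 := ndS (p := 89520) (l := 0) rfl N89520 D219903
theorem N116645 : nd 116645 = n219904 := ndS (p := 89520) (l := 1) rfl N89520 D219904
theorem N116646 : nd 116646 = n219905 := ndS (p := 89520) (l := 2) rfl N89520 D219905
theorem N116647 : nd 116647 = n219906 := ndS (p := 89520) (l := 5) rfl N89520 D219906
theorem N116648 : nd 116648 = n219907 := ndS (p := 89520) (l := 6) rfl N89520 D219907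
theorem N116649 : nd 116649 = n219908 := ndS (p := 89521) (l := 4) rfl N89521 D219908
theorem N116650 : nd 116650 = n219909 := ndS (p := 89521) (l := 6) rfl N89521 D219909
theorem N116651 : nd 116651 = n219910 := ndS (p := 89522) (l := 0) rfl N89522 D219910
theorem N116652 : nd 116652 = n219911 := ndS (p := 89522) (l := 1) rfl N89522 D219911
theorem N116653 : nd 116653 = n219912 := ndS (p := 89522) (l := 7) rfl N89522 D219912
theorem N116654 : nd 116654 = n219913 := ndS (p := 89523) (l := 5) rfl N89523 D219913
theorem N116655 : nd 116655 = n219914 := ndS (p := 89523) (l := 6) rfl N89523 D219914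
theorem N116656 : nd 116656 = n219915 := ndS (p := 89524) (l := 4) rfl N89524 D219915
theorem N116657 : nd 116657 = n219916 := ndS (p := 89525) (l := 0) rfl N89525 D219916
theorem N116658 : nd 116658 = n219917 := ndS (p := 89525) (l := 4) rfl N89525 D219917
theorem N116659 : nd 116659 = n219918 := ndS (p := 89525) (l := 7) rfl N89525 D219918
theorem N116660 : nd 116660 = n219919 := ndS (p := 89530) (l := 0) rfl N89530 D219919
theorem N116661 : nd 116661 = n219920 := ndS (p := 89530) (l := 7) rfl N89530 D219920
theorem N116662 : nd 116662 = n219921 := ndS (p := 89531) (l := 6) rfl N89531 D219921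
theorem N116663 : nd 116663 = n219922 := ndS (p := 89538) (l := 2) rfl N89538 D219922
theorem N116664 : nd 116664 = n219923 := ndS (p := 89539) (l := 5) rfl N89539 D219923
theorem N116665 : nd 116665 = n219924 := ndS (p := 89540) (l := 0) rfl N89540 D219924
theorem N116666 : nd 116666 = n219925 := ndS (p := 89540) (l := 1) rfl N89540 D219925
theorem N116667 : nd 116667 = n219926 := ndS (p := 89540) (l := 7) rfl N89540 D219926
theorem N116668 : nd 116668 = n219927 := ndS (p := 89542) (l := 1) rfl N89542 D219927
theorem N116669 : nd 116669 = n219928 := ndS (p := 89542) (l := 2) rfl N89542 D219928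
theorem N116670 : nd 116670 = n219929 := ndS (p := 89542) (l := 5) rfl N89542 D219929
theorem N116671 : nd 116671 = n219930 := ndS (p := 89542) (l := 6) rfl N89542 D219930
theorem N116672 : nd 116672 = n219931 := ndS (p := 89543) (l := 0) rfl N89543 D219931
theorem N116673 : nd 116673 = n219932 := ndS (p := 89544) (l := 5) rfl N89544 D219932
theorem N116674 : nd 116674 = n219933 := ndS (p := 89545) (l := 5) rfl N89545 D219933
theorem N116675 : nd 116675 = n219934 := ndS (p := 89545) (l := 6) rfl N89545 D219934
theorem N116676 : nd 116676 = n219935 := ndS (p := 89546) (l := 6) rfl N89546 D219935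
theorem N116677 : nd 116677 = n219936 := ndS (p := 89550) (l := 7) rfl N89550 D219936
theorem N116678 : nd 116678 = n219937 := ndS (p := 89552) (l := 3) rfl N89552 D219937
theorem N116679 : nd 116679 = n219938 := ndS (p := 89553) (l := 0) rfl N89553 D219938
theorem N116680 : nd 116680 = n219939 := ndS (p := 89553) (l := 7) rfl N89553 D219939
theorem N116681 : nd 116681 = n219940 := ndS (p := 89557) (l := 5) rfl N89557 D219940
theorem N116682 : nd 116682 = n219941 := ndS (p := 89558) (l := 7) rfl N89558 D219941
theorem N116683 : nd 116683 = n219942 := ndS (p := 89560) (l := 2) rfl N89560 D219942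
theorem N116684 : nd 116684 = n219943 := ndS (p := 89560) (l := 5) rfl N89560 D219943
theorem N116685 : nd 116685 = n219944 := ndS (p := 89560) (l := 6) rfl N89560 D219944
theorem N116686 : nd 116686 = n219945 := ndS (p := 89561) (l := 1) rfl N89561 D219945
theorem N116687 : nd 116687 = n219946 := ndS (p := 89561) (l := 4) rfl N89561 D219946
theorem N116688 : nd 116688 = n219947 := ndS (p := 89563) (l := 5) rfl N89563 D219947
theorem N116689 : nd 116689 = n219948 := ndS (p := 89563) (l := 6) rfl N89563 D219948
theorem N116690 : nd 116690 = n219949 := ndS (p := 89569) (l := 5) rfl N89569 D219949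
theorem N116691 : nd 116691 = n219950 := ndS (p := 89570) (l := 5) rfl N89570 D219950
theorem N116692 : nd 116692 = n219951 := ndS (p := 89571) (l := 0) rfl N89571 D219951
theorem N116693 : nd 116693 = n219952 := ndS (p := 89580) (l := 0) rfl N89580 D219952
theorem N116694 : nd 116694 = n219953 := ndS (p := 89580) (l := 1) rfl N89580 D219953
theorem N116695 : nd 116695 = n219954 := ndS (p := 89580) (l := 6) rfl N89580 D219954
theorem N116696 : nd 116696 = n219955 := ndS (p := 89583) (l := 6) rfl N89583 D219955
theorem N116697 : nd 116697 = n219956 := ndS (p := 89594) (l := 3) rfl N89594 D219956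
theorem N116698 : nd 116698 = n219957 := ndS (p := 89600) (l := 6) rfl N89600 D219957
theorem N116699 : nd 116699 = n219958 := ndS (p := 89604) (l := 5) rfl N89604 D219958
theorem N116700 : nd 116700 = n219959 := ndS (p := 89605) (l := 6) rfl N89605 D219959
theorem N116701 : nd 116701 = n219960 := ndS (p := 89608) (l := 4) rfl N89608 D219960
theorem N116702 : nd 116702 = n219961 := ndS (p := 89609) (l := 3) rfl N89609 D219961
theorem N116703 : nd 116703 = n219962 := ndS (p := 89611) (l := 3) rfl N89611 D219962
theorem N116704 : nd 116704 = n219963 := ndS (p := 89612) (l := 4) rfl N89612 D219963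
theorem N116705 : nd 116705 = n219964 := ndS (p := 89615) (l := 3) rfl N89615 D219964
theorem N116706 : nd 116706 = n219965 := ndS (p := 89615) (l := 5) rfl N89615 D219965
theorem N116707 : nd 116707 = n219966 := ndS (p := 89623) (l := 5) rfl N89623 D219966
theorem N116708 : nd 116708 = n219967 := ndS (p := 89625) (l := 5) rfl N89625 D219967
theorem N116709 : nd 116709 = n219968 := ndS (p := 89626) (l := 6) rfl N89626 D219968
theorem N116710 : nd 116710 = n219969 := ndS (p := 89636) (l := 3) rfl N89636 D219969
theorem N116711 : nd 116711 = n219970 := ndS (p := 89636) (l := 5) rfl N89636 D219970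
theorem N116712 : nd 116712 = n219971 := ndS (p := 89638) (l := 5) rfl N89638 D219971
theorem N116713 : nd 116713 = n219972 := ndS (p := 89639) (l := 5) rfl N89639 D219972
theorem N116714 : nd 116714 = n219973 := ndS (p := 89641) (l := 6) rfl N89641 D219973
theorem N116715 : nd 116715 = n219974 := ndS (p := 89642) (l := 7) rfl N89642 D219974
theorem N116716 : nd 116716 = n219975 := ndS (p := 89643) (l := 5) rfl N89643 D219975
theorem N116717 : nd 116717 = n219976 := ndS (p := 89648) (l := 6) rfl N89648 D219976
theorem N116718 : nd 116718 = n219977 := ndS (p := 89651) (l := 4) rfl N89651 D219977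
theorem N116719 : nd 116719 = n219978 := ndS (p := 89653) (l := 0) rfl N89653 D219978
theorem N116720 : nd 116720 = n219979 := ndS (p := 89655) (l := 3) rfl N89655 D219979
theorem N116721 : nd 116721 = n219980 := ndS (p := 89655) (l := 5) rfl N89655 D219980
theorem N116722 : nd 116722 = n219981 := ndS (p := 89655) (l := 6) rfl N89655 D219981
theorem N116723 : nd 116723 = n219982 := ndS (p := 89656) (l := 5) rfl N89656 D219982
theorem N116724 : nd 116724 = n219983 := ndS (p := 89657) (l := 5) rfl N89657 D219983
theorem N116725 : nd 116725 = n219984 := ndS (p := 89658) (l := 1) rfl N89658 D219984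
theorem N116726 : nd 116726 = n219985 := ndS (p := 89662) (l := 6) rfl N89662 D219985
theorem N116727 : nd 116727 = n219986 := ndS (p := 89667) (l := 6) rfl N89667 D219986
theorem N116728 : nd 116728 = n219987 := ndS (p := 89668) (l := 7) rfl N89668 D219987
theorem N116729 : nd 116729 = n219988 := ndS (p := 89671) (l := 4) rfl N89671 D219988
theorem N116730 : nd 116730 = n219989 := ndS (p := 89673) (l := 1) rfl N89673 D219989
theorem N116731 : nd 116731 = n219990 := ndS (p := 89673) (l := 5) rfl N89673 D219990
theorem N116732 : nd 116732 = n219991 := ndS (p := 89678) (l := 6) rfl N89678 D219991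
theorem N116733 : nd 116733 = n219992 := ndS (p := 89681) (l := 1) rfl N89681 D219992
theorem N116734 : nd 116734 = n219993 := ndS (p := 89682) (l := 3) rfl N89682 D219993
theorem N116735 : nd 116735 = n219994 := ndS (p := 89682) (l := 5) rfl N89682 D219994
theorem N116736 : nd 116736 = n219995 := ndS (p := 89682) (l := 6) rfl N89682 D219995
theorem N116737 : nd 116737 = n219996 := ndS (p := 89684) (l := 3) rfl N89684 D219996
theorem N116738 : nd 116738 = n219997 := ndS (p := 89684) (l := 6) rfl N89684 D219997
theorem N116739 : nd 116739 = n219998 := ndS (p := 89686) (l := 0) rfl N89686 D219998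
theorem N116740 : nd 116740 = n219999 := ndS (p := 89686) (l := 6) rfl N89686 D219999
theorem N116741 : nd 116741 = n220000 := ndS (p := 89696) (l := 3) rfl N89696 D220000
theorem N116742 : nd 116742 = n220001 := ndS (p := 89699) (l := 4) rfl N89699 D220001
theorem N116743 : nd 116743 = n220002 := ndS (p := 89700) (l := 1) rfl N89700 D220002
theorem N116744 : nd 116744 = n220003 := ndS (p := 89701) (l := 0) rfl N89701 D220003
theorem N116745 : nd 116745 = n220004 := ndS (p := 89701) (l := 1) rfl N89701 D220004
theorem N116746 : nd 116746 = n220005 := ndS (p := 89701) (l := 6) rfl N89701 D220005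
theorem N116747 : nd 116747 = n220006 := ndS (p := 89702) (l := 5) rfl N89702 D220006
theorem N116748 : nd 116748 = n220007 := ndS (p := 89703) (l := 1) rfl N89703 D220007
theorem N116749 : nd 116749 = n220008 := ndS (p := 89703) (l := 4) rfl N89703 D220008
theorem N116750 : nd 116750 = n220009 := ndS (p := 89703) (l := 5) rfl N89703 D220009
theorem N116751 : nd 116751 = n220010 := ndS (p := 89706) (l := 5) rfl N89706 D220010
theorem N116752 : nd 116752 = n220011 := ndS (p := 89707) (l := 5) rfl N89707 D220011
theorem N116753 : nd 116753 = n220012 := ndS (p := 89708) (l := 0) rfl N89708 D220012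
theorem N116754 : nd 116754 = n220013 := ndS (p := 89708) (l := 1) rfl N89708 D220013
theorem N116755 : nd 116755 = n220014 := ndS (p := 89708) (l := 7) rfl N89708 D220014
theorem N116756 : nd 116756 = n220015 := ndS (p := 89710) (l := 3) rfl N89710 D220015
theorem N116757 : nd 116757 = n220016 := ndS (p := 89711) (l := 3) rfl N89711 D220016
theorem N116758 : nd 116758 = n220017 := ndS (p := 89711) (l := 6) rfl N89711 D220017
theorem N116759 : nd 116759 = n220018 := ndS (p := 89714) (l := 6) rfl N89714 D220018
theorem N116760 : nd 116760 = n220019 := ndS (p := 89729) (l := 6) rfl N89729 D220019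
theorem N116761 : nd 116761 = n220020 := ndS (p := 89734) (l := 4) rfl N89734 D220020
theorem N116762 : nd 116762 = n220021 := ndS (p := 89739) (l := 4) rfl N89739 D220021
theorem N116763 : nd 116763 = n220022 := ndS (p := 89743) (l := 4) rfl N89743 D220022
theorem N116764 : nd 116764 = n220023 := ndS (p := 89748) (l := 0) rfl N89748 D220023
theorem N116765 : nd 116765 = n220024 := ndS (p := 89754) (l := 1) rfl N89754 D220024
theorem N116766 : nd 116766 = n220025 := ndS (p := 89754) (l := 5) rfl N89754 D220025
theorem N116767 : nd 116767 = n220026 := ndS (p := 89754) (l := 7) rfl N89754 D220026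
theorem N116768 : nd 116768 = n220027 := ndS (p := 89755) (l := 5) rfl N89755 D220027
theorem N116769 : nd 116769 = n220028 := ndS (p := 89756) (l := 4) rfl N89756 D220028
theorem N116770 : nd 116770 = n220029 := ndS (p := 89759) (l := 7) rfl N89759 D220029
theorem N116771 : nd 116771 = n220030 := ndS (p := 89762) (l := 5) rfl N89762 D220030
theorem N116772 : nd 116772 = n220031 := ndS (p := 89764) (l := 6) rfl N89764 D220031
theorem N116773 : nd 116773 = n220032 := ndS (p := 89774) (l := 5) rfl N89774 D220032
theorem N116774 : nd 116774 = n220033 := ndS (p := 89775) (l := 5) rfl N89775 D220033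
theorem N116775 : nd 116775 = n220034 := ndS (p := 89777) (l := 0) rfl N89777 D220034
theorem N116776 : nd 116776 = n220035 := ndS (p := 89777) (l := 2) rfl N89777 D220035
theorem N116777 : nd 116777 = n220036 := ndS (p := 89777) (l := 6) rfl N89777 D220036
theorem N116778 : nd 116778 = n220037 := ndS (p := 89801) (l := 6) rfl N89801 D220037
theorem N116779 : nd 116779 = n220038 := ndS (p := 89808) (l := 1) rfl N89808 D220038
theorem N116780 : nd 116780 = n220039 := ndS (p := 89815) (l := 6) rfl N89815 D220039
theorem N116781 : nd 116781 = n220040 := ndS (p := 89816) (l := 6) rfl N89816 D220040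
theorem N116782 : nd 116782 = n220041 := ndS (p := 89822) (l := 1) rfl N89822 D220041
theorem N116783 : nd 116783 = n220042 := ndS (p := 89825) (l := 6) rfl N89825 D220042
theorem N116784 : nd 116784 = n220043 := ndS (p := 89826) (l := 4) rfl N89826 D220043
theorem N116785 : nd 116785 = n220044 := ndS (p := 89827) (l := 6) rfl N89827 D220044
theorem N116786 : nd 116786 = n220045 := ndS (p := 89835) (l := 6) rfl N89835 D220045
theorem N116787 : nd 116787 = n220046 := ndS (p := 89842) (l := 5) rfl N89842 D220046
theorem N116788 : nd 116788 = n220047 := ndS (p := 89843) (l := 1) rfl N89843 D220047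
theorem N116789 : nd 116789 = n220048 := ndS (p := 89848) (l := 0) rfl N89848 D220048
theorem N116790 : nd 116790 = n220049 := ndS (p := 89848) (l := 4) rfl N89848 D220049
theorem N116791 : nd 116791 = n220050 := ndS (p := 89848) (l := 6) rfl N89848 D220050
theorem N116792 : nd 116792 = n220051 := ndS (p := 89849) (l := 3) rfl N89849 D220051
theorem N116793 : nd 116793 = n220052 := ndS (p := 89856) (l := 6) rfl N89856 D220052
theorem N116794 : nd 116794 = n220053 := ndS (p := 89869) (l := 5) rfl N89869 D220053
theorem N116795 : nd 116795 = n220054 := ndS (p := 89875) (l := 6) rfl N89875 D220054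
theorem N116796 : nd 116796 = n220055 := ndS (p := 89878) (l := 5) rfl N89878 D220055
theorem N116797 : nd 116797 = n220056 := ndS (p := 89882) (l := 6) rfl N89882 D220056
theorem N116798 : nd 116798 = n220057 := ndS (p := 89892) (l := 3) rfl N89892 D220057
theorem N116799 : nd 116799 = n220058 := ndS (p := 89892) (l := 5) rfl N89892 D220058
theorem N116800 : nd 116800 = n220059 := ndS (p := 89893) (l := 5) rfl N89893 D220059
theorem N116801 : nd 116801 = n220060 := ndS (p := 89897) (l := 5) rfl N89897 D220060
theorem N116802 : nd 116802 = n220061 := ndS (p := 89901) (l := 4) rfl N89901 D220061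
theorem N116803 : nd 116803 = n220062 := ndS (p := 89902) (l := 5) rfl N89902 D220062
theorem N116804 : nd 116804 = n220063 := ndS (p := 89909) (l := 6) rfl N89909 D220063
theorem N116805 : nd 116805 = n220064 := ndS (p := 89911) (l := 6) rfl N89911 D220064
theorem N116806 : nd 116806 = n220065 := ndS (p := 89918) (l := 6) rfl N89918 D220065
theorem N116807 : nd 116807 = n220066 := ndS (p := 89929) (l := 5) rfl N89929 D220066
theorem N116808 : nd 116808 = n220067 := ndS (p := 89938) (l := 6) rfl N89938 D220067
theorem N116809 : nd 116809 = n220068 := ndS (p := 89939) (l := 5) rfl N89939 D220068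
theorem N116810 : nd 116810 = n220069 := ndS (p := 89943) (l := 5) rfl N89943 D220069
theorem N116811 : nd 116811 = n220070 := ndS (p := 89947) (l := 1) rfl N89947 D220070
theorem N116812 : nd 116812 = n220071 := ndS (p := 89951) (l := 3) rfl N89951 D220071
theorem N116813 : nd 116813 = n220072 := ndS (p := 89955) (l := 5) rfl N89955 D220072
theorem N116814 : nd 116814 = n220073 := ndS (p := 89958) (l := 6) rfl N89958 D220073
theorem N116815 : nd 116815 = n220074 := ndS (p := 89959) (l := 6) rfl N89959 D220074
theorem N116816 : nd 116816 = n220075 := ndS (p := 89960) (l := 6) rfl N89960 D220075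
theorem N116817 : nd 116817 = n220076 := ndS (p := 89961) (l := 0) rfl N89961 D220076
theorem N116818 : nd 116818 = n220077 := ndS (p := 89961) (l := 1) rfl N89961 D220077
theorem N116819 : nd 116819 = n220078 := ndS (p := 89961) (l := 3) rfl N89961 D220078
theorem N116820 : nd 116820 = n220079 := ndS (p := 89961) (l := 7) rfl N89961 D220079
theorem N116821 : nd 116821 = n220080 := ndS (p := 89963) (l := 6) rfl N89963 D220080
theorem N116822 : nd 116822 = n220081 := ndS (p := 89964) (l := 7) rfl N89964 D220081
theorem N116823 : nd 116823 = n220082 := ndS (p := 89966) (l := 0) rfl N89966 D220082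
theorem N116824 : nd 116824 = n220083 := ndS (p := 89968) (l := 6) rfl N89968 D220083
theorem N116825 : nd 116825 = n220084 := ndS (p := 89970) (l := 1) rfl N89970 D220084
theorem N116826 : nd 116826 = n220085 := ndS (p := 89972) (l := 6) rfl N89972 D220085
theorem N116827 : nd 116827 = n220086 := ndS (p := 89976) (l := 6) rfl N89976 D220086
theorem N116828 : nd 116828 = n220087 := ndS (p := 89980) (l := 0) rfl N89980 D220087
theorem N116829 : nd 116829 = n220088 := ndS (p := 89980) (l := 4) rfl N89980 D220088
theorem N116830 : nd 116830 = n220089 := ndS (p := 89983) (l := 0) rfl N89983 D220089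
theorem N116831 : nd 116831 = n220090 := ndS (p := 89983) (l := 2) rfl N89983 D220090
theorem N116832 : nd 116832 = n220091 := ndS (p := 89983) (l := 4) rfl N89983 D220091
theorem N116833 : nd 116833 = n220092 := ndS (p := 89983) (l := 5) rfl N89983 D220092
theorem N116834 : nd 116834 = n220093 := ndS (p := 89983) (l := 6) rfl N89983 D220093
theorem N116835 : nd 116835 = n220094 := ndS (p := 89985) (l := 7) rfl N89985 D220094
theorem N116836 : nd 116836 = n220095 := ndS (p := 89987) (l := 3) rfl N89987 D220095
theorem N116837 : nd 116837 = n220096 := ndS (p := 89994) (l := 0) rfl N89994 D220096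
theorem N116838 : nd 116838 = n220097 := ndS (p := 89994) (l := 1) rfl N89994 D220097
theorem N116839 : nd 116839 = n220098 := ndS (p := 90003) (l := 4) rfl N90003 D220098
theorem N116840 : nd 116840 = n220099 := ndS (p := 90003) (l := 6) rfl N90003 D220099
theorem N116841 : nd 116841 = n220100 := ndS (p := 90004) (l := 0) rfl N90004 D220100
theorem N116842 : nd 116842 = n220101 := ndS (p := 90004) (l := 1) rfl N90004 D220101
theorem N116843 : nd 116843 = n220102 := ndS (p := 90004) (l := 5) rfl N90004 D220102
theorem N116844 : nd 116844 = n220103 := ndS (p := 90005) (l := 7) rfl N90005 D220103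
theorem N116845 : nd 116845 = n220104 := ndS (p := 90006) (l := 1) rfl N90006 D220104
theorem N116846 : nd 116846 = n220105 := ndS (p := 90006) (l := 4) rfl N90006 D220105
theorem N116847 : nd 116847 = n220106 := ndS (p := 90006) (l := 7) rfl N90006 D220106
theorem N116848 : nd 116848 = n220107 := ndS (p := 90009) (l := 6) rfl N90009 D220107
theorem N116849 : nd 116849 = n220108 := ndS (p := 90010) (l := 0) rfl N90010 D220108
theorem N116850 : nd 116850 = n220109 := ndS (p := 90010) (l := 5) rfl N90010 D220109
theorem N116851 : nd 116851 = n220110 := ndS (p := 90010) (l := 6) rfl N90010 D220110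
theorem N116852 : nd 116852 = n220111 := ndS (p := 90011) (l := 5) rfl N90011 D220111
theorem N116853 : nd 116853 = n220112 := ndS (p := 90011) (l := 7) rfl N90011 D220112
theorem N116854 : nd 116854 = n220113 := ndS (p := 90012) (l := 4) rfl N90012 D220113
theorem N116855 : nd 116855 = n220114 := ndS (p := 90012) (l := 7) rfl N90012 D220114
theorem N116856 : nd 116856 = n220115 := ndS (p := 90017) (l := 6) rfl N90017 D220115
theorem N116857 : nd 116857 = n220116 := ndS (p := 90019) (l := 6) rfl N90019 D220116
theorem N116858 : nd 116858 = n220117 := ndS (p := 90025) (l := 6) rfl N90025 D220117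
theorem N116859 : nd 116859 = n220118 := ndS (p := 90026) (l := 3) rfl N90026 D220118
theorem N116860 : nd 116860 = n220119 := ndS (p := 90028) (l := 3) rfl N90028 D220119
theorem N116861 : nd 116861 = n220120 := ndS (p := 90028) (l := 6) rfl N90028 D220120
theorem N116862 : nd 116862 = n220121 := ndS (p := 90029) (l := 0) rfl N90029 D220121
theorem N116863 : nd 116863 = n220122 := ndS (p := 90029) (l := 1) rfl N90029 D220122
theorem N116864 : nd 116864 = n220123 := ndS (p := 90029) (l := 7) rfl N90029 D220123
theorem N116865 : nd 116865 = n220124 := ndS (p := 90031) (l := 1) rfl N90031 D220124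
theorem N116866 : nd 116866 = n220125 := ndS (p := 90033) (l := 6) rfl N90033 D220125
theorem N116867 : nd 116867 = n220126 := ndS (p := 90035) (l := 3) rfl N90035 D220126
theorem N116868 : nd 116868 = n220127 := ndS (p := 90035) (l := 6) rfl N90035 D220127
theorem N116869 : nd 116869 = n220128 := ndS (p := 90040) (l := 7) rfl N90040 D220128
theorem N116870 : nd 116870 = n220129 := ndS (p := 90041) (l := 0) rfl N90041 D220129
theorem N116871 : nd 116871 = n220130 := ndS (p := 90041) (l := 2) rfl N90041 D220130
theorem N116872 : nd 116872 = n220131 := ndS (p := 90041) (l := 5) rfl N90041 D220131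
theorem N116873 : nd 116873 = n220132 := ndS (p := 90042) (l := 7) rfl N90042 D220132
theorem N116874 : nd 116874 = n220133 := ndS (p := 90047) (l := 3) rfl N90047 D220133
theorem N116875 : nd 116875 = n220134 := ndS (p := 90047) (l := 6) rfl N90047 D220134
theorem N116876 : nd 116876 = n220135 := ndS (p := 90053) (l := 3) rfl N90053 D220135
theorem N116877 : nd 116877 = n220136 := ndS (p := 90062) (l := 6) rfl N90062 D220136
theorem N116878 : nd 116878 = n220137 := ndS (p := 90063) (l := 0) rfl N90063 D220137
theorem N116879 : nd 116879 = n220138 := ndS (p := 90063) (l := 1) rfl N90063 D220138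
theorem N116880 : nd 116880 = n220139 := ndS (p := 90063) (l := 7) rfl N90063 D220139
theorem N116881 : nd 116881 = n220140 := ndS (p := 90065) (l := 5) rfl N90065 D220140
theorem N116882 : nd 116882 = n220141 := ndS (p := 90066) (l := 7) rfl N90066 D220141
theorem N116883 : nd 116883 = n220142 := ndS (p := 90069) (l := 6) rfl N90069 D220142
theorem N116884 : nd 116884 = n220143 := ndS (p := 90073) (l := 0) rfl N90073 D220143
theorem N116885 : nd 116885 = n220144 := ndS (p := 90075) (l := 1) rfl N90075 D220144
theorem N116886 : nd 116886 = n220145 := ndS (p := 90076) (l := 4) rfl N90076 D220145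
theorem N116887 : nd 116887 = n220146 := ndS (p := 90081) (l := 6) rfl N90081 D220146
theorem N116888 : nd 116888 = n220147 := ndS (p := 90082) (l := 0) rfl N90082 D220147
theorem N116889 : nd 116889 = n220148 := ndS (p := 90082) (l := 5) rfl N90082 D220148
theorem N116890 : nd 116890 = n220149 := ndS (p := 90082) (l := 7) rfl N90082 D220149
theorem N116891 : nd 116891 = n220150 := ndS (p := 90083) (l := 4) rfl N90083 D220150
theorem N116892 : nd 116892 = n220151 := ndS (p := 90086) (l := 0) rfl N90086 D220151
theorem N116893 : nd 116893 = n220152 := ndS (p := 90086) (l := 1) rfl N90086 D220152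
theorem N116894 : nd 116894 = n220153 := ndS (p := 90086) (l := 5) rfl N90086 D220153
theorem N116895 : nd 116895 = n220154 := ndS (p := 90086) (l := 7) rfl N90086 D220154
theorem N116896 : nd 116896 = n220155 := ndS (p := 90087) (l := 6) rfl N90087 D220155
theorem N116897 : nd 116897 = n220156 := ndS (p := 90090) (l := 5) rfl N90090 D220156
theorem N116898 : nd 116898 = n220157 := ndS (p := 90091) (l := 7) rfl N90091 D220157
theorem N116899 : nd 116899 = n220158 := ndS (p := 90094) (l := 6) rfl N90094 D220158
theorem N116900 : nd 116900 = n220159 := ndS (p := 90095) (l := 6) rfl N90095 D220159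
theorem N116901 : nd 116901 = n220160 := ndS (p := 90096) (l := 5) rfl N90096 D220160
theorem N116902 : nd 116902 = n220161 := ndS (p := 90097) (l := 4) rfl N90097 D220161
theorem N116903 : nd 116903 = n220162 := ndS (p := 90098) (l := 4) rfl N90098 D220162
theorem N116904 : nd 116904 = n220163 := ndS (p := 90101) (l := 1) rfl N90101 D220163
theorem N116905 : nd 116905 = n220164 := ndS (p := 90102) (l := 6) rfl N90102 D220164
theorem N116906 : nd 116906 = n220165 := ndS (p := 90103) (l := 6) rfl N90103 D220165
theorem N116907 : nd 116907 = n220166 := ndS (p := 90104) (l := 5) rfl N90104 D220166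
theorem N116908 : nd 116908 = n220167 := ndS (p := 90104) (l := 7) rfl N90104 D220167
theorem N116909 : nd 116909 = n220168 := ndS (p := 90105) (l := 0) rfl N90105 D220168
theorem N116910 : nd 116910 = n220169 := ndS (p := 90108) (l := 6) rfl N90108 D220169
theorem N116911 : nd 116911 = n220170 := ndS (p := 90109) (l := 6) rfl N90109 D220170
theorem N116912 : nd 116912 = n220171 := ndS (p := 90110) (l := 3) rfl N90110 D220171
theorem N116913 : nd 116913 = n220172 := ndS (p := 90110) (l := 6) rfl N90110 D220172
theorem N116914 : nd 116914 = n220173 := ndS (p := 90111) (l := 6) rfl N90111 D220173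
theorem N116915 : nd 116915 = n220174 := ndS (p := 90112) (l := 6) rfl N90112 D220174
theorem N116916 : nd 116916 = n220175 := ndS (p := 90123) (l := 4) rfl N90123 D220175
theorem N116917 : nd 116917 = n220176 := ndS (p := 90127) (l := 5) rfl N90127 D220176
theorem N116918 : nd 116918 = n220177 := ndS (p := 90127) (l := 7) rfl N90127 D220177
theorem N116919 : nd 116919 = n220178 := ndS (p := 90130) (l := 6) rfl N90130 D220178
theorem N116920 : nd 116920 = n220179 := ndS (p := 90133) (l := 4) rfl N90133 D220179
theorem N116921 : nd 116921 = n220180 := ndS (p := 90133) (l := 5) rfl N90133 D220180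
theorem N116922 : nd 116922 = n220181 := ndS (p := 90136) (l := 3) rfl N90136 D220181
theorem N116923 : nd 116923 = n220182 := ndS (p := 90142) (l := 0) rfl N90142 D220182
theorem N116924 : nd 116924 = n220183 := ndS (p := 90144) (l := 3) rfl N90144 D220183
theorem N116925 : nd 116925 = n220184 := ndS (p := 90144) (l := 6) rfl N90144 D220184
theorem N116926 : nd 116926 = n220185 := ndS (p := 90145) (l := 6) rfl N90145 D220185
theorem N116927 : nd 116927 = n220186 := ndS (p := 90156) (l := 4) rfl N90156 D220186
theorem N116928 : nd 116928 = n220187 := ndS (p := 90158) (l := 6) rfl N90158 D220187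
theorem N116929 : nd 116929 = n220188 := ndS (p := 90159) (l := 6) rfl N90159 D220188
theorem N116930 : nd 116930 = n220189 := ndS (p := 90169) (l := 6) rfl N90169 D220189
theorem N116931 : nd 116931 = n220190 := ndS (p := 90170) (l := 5) rfl N90170 D220190
theorem N116932 : nd 116932 = n220191 := ndS (p := 90174) (l := 4) rfl N90174 D220191
theorem N116933 : nd 116933 = n220192 := ndS (p := 90174) (l := 6) rfl N90174 D220192
theorem N116934 : nd 116934 = n220193 := ndS (p := 90176) (l := 4) rfl N90176 D220193
theorem N116935 : nd 116935 = n220194 := ndS (p := 90180) (l := 5) rfl N90180 D220194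
theorem N116936 : nd 116936 = n220195 := ndS (p := 90183) (l := 5) rfl N90183 D220195
theorem N116937 : nd 116937 = n220196 := ndS (p := 90183) (l := 6) rfl N90183 D220196
theorem N116938 : nd 116938 = n220197 := ndS (p := 90185) (l := 5) rfl N90185 D220197
theorem N116939 : nd 116939 = n220198 := ndS (p := 90186) (l := 5) rfl N90186 D220198
theorem N116940 : nd 116940 = n220199 := ndS (p := 90187) (l := 4) rfl N90187 D220199
theorem N116941 : nd 116941 = n220200 := ndS (p := 90188) (l := 3) rfl N90188 D220200
theorem N116942 : nd 116942 = n220201 := ndS (p := 90188) (l := 5) rfl N90188 D220201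
theorem N116943 : nd 116943 = n220202 := ndS (p := 90189) (l := 5) rfl N90189 D220202
theorem N116944 : nd 116944 = n220203 := ndS (p := 90189) (l := 6) rfl N90189 D220203
theorem N116945 : nd 116945 = n220204 := ndS (p := 90191) (l := 5) rfl N90191 D220204
theorem N116946 : nd 116946 = n220205 := ndS (p := 90191) (l := 6) rfl N90191 D220205
theorem N116947 : nd 116947 = n220206 := ndS (p := 90192) (l := 5) rfl N90192 D220206
theorem N116948 : nd 116948 = n220207 := ndS (p := 90193) (l := 1) rfl N90193 D220207
theorem N116949 : nd 116949 = n220208 := ndS (p := 90193) (l := 4) rfl N90193 D220208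
theorem N116950 : nd 116950 = n220209 := ndS (p := 90193) (l := 6) rfl N90193 D220209
theorem N116951 : nd 116951 = n220210 := ndS (p := 90196) (l := 1) rfl N90196 D220210
theorem N116952 : nd 116952 = n220211 := ndS (p := 90202) (l := 6) rfl N90202 D220211
theorem N116953 : nd 116953 = n220212 := ndS (p := 90203) (l := 7) rfl N90203 D220212
theorem N116954 : nd 116954 = n220213 := ndS (p := 90204) (l := 6) rfl N90204 D220213
theorem N116955 : nd 116955 = n220214 := ndS (p := 90206) (l := 3) rfl N90206 D220214
theorem N116956 : nd 116956 = n220215 := ndS (p := 90209) (l := 6) rfl N90209 D220215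
theorem N116957 : nd 116957 = n220216 := ndS (p := 90210) (l := 5) rfl N90210 D220216
theorem N116958 : nd 116958 = n220217 := ndS (p := 90214) (l := 0) rfl N90214 D220217
theorem N116959 : nd 116959 = n220218 := ndS (p := 90215) (l := 5) rfl N90215 D220218
theorem N116960 : nd 116960 = n220219 := ndS (p := 90218) (l := 0) rfl N90218 D220219
theorem N116961 : nd 116961 = n220220 := ndS (p := 90221) (l := 3) rfl N90221 D220220
theorem N116962 : nd 116962 = n220221 := ndS (p := 90221) (l := 5) rfl N90221 D220221
theorem N116963 : nd 116963 = n220222 := ndS (p := 90221) (l := 6) rfl N90221 D220222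
theorem N116964 : nd 116964 = n220223 := ndS (p := 90222) (l := 1) rfl N90222 D220223
theorem N116965 : nd 116965 = n220224 := ndS (p := 90222) (l := 7) rfl N90222 D220224
theorem N116966 : nd 116966 = n220225 := ndS (p := 90223) (l := 0) rfl N90223 D220225
theorem N116967 : nd 116967 = n220226 := ndS (p := 90223) (l := 2) rfl N90223 D220226
theorem N116968 : nd 116968 = n220227 := ndS (p := 90223) (l := 6) rfl N90223 D220227
theorem N116969 : nd 116969 = n220228 := ndS (p := 90225) (l := 5) rfl N90225 D220228
theorem N116970 : nd 116970 = n220229 := ndS (p := 90229) (l := 3) rfl N90229 D220229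
theorem N116971 : nd 116971 = n220230 := ndS (p := 90245) (l := 6) rfl N90245 D220230
theorem N116972 : nd 116972 = n220231 := ndS (p := 90246) (l := 1) rfl N90246 D220231
theorem N116973 : nd 116973 = n220232 := ndS (p := 90246) (l := 5) rfl N90246 D220232
theorem N116974 : nd 116974 = n220233 := ndS (p := 90246) (l := 7) rfl N90246 D220233
theorem N116975 : nd 116975 = n220234 := ndS (p := 90254) (l := 5) rfl N90254 D220234
theorem N116976 : nd 116976 = n220235 := ndS (p := 90254) (l := 7) rfl N90254 D220235
theorem N116977 : nd 116977 = n220236 := ndS (p := 90256) (l := 4) rfl N90256 D220236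
theorem N116978 : nd 116978 = n220237 := ndS (p := 90259) (l := 3) rfl N90259 D220237
theorem N116979 : nd 116979 = n220238 := ndS (p := 90260) (l := 6) rfl N90260 D220238
theorem N116980 : nd 116980 = n220239 := ndS (p := 90262) (l := 0) rfl N90262 D220239
theorem N116981 : nd 116981 = n220240 := ndS (p := 90262) (l := 7) rfl N90262 D220240
theorem N116982 : nd 116982 = n220241 := ndS (p := 90268) (l := 0) rfl N90268 D220241
theorem N116983 : nd 116983 = n220242 := ndS (p := 90272) (l := 5) rfl N90272 D220242
theorem N116984 : nd 116984 = n220243 := ndS (p := 90275) (l := 2) rfl N90275 D220243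
theorem N116985 : nd 116985 = n220244 := ndS (p := 90275) (l := 6) rfl N90275 D220244
theorem N116986 : nd 116986 = n220245 := ndS (p := 90277) (l := 7) rfl N90277 D220245
theorem N116987 : nd 116987 = n220246 := ndS (p := 90278) (l := 2) rfl N90278 D220246
theorem N116988 : nd 116988 = n220247 := ndS (p := 90287) (l := 5) rfl N90287 D220247
theorem N116989 : nd 116989 = n220248 := ndS (p := 90287) (l := 6) rfl N90287 D220248
theorem N116990 : nd 116990 = n220249 := ndS (p := 90288) (l := 1) rfl N90288 D220249
theorem N116991 : nd 116991 = n220250 := ndS (p := 90288) (l := 7) rfl N90288 D220250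
theorem N116992 : nd 116992 = n220251 := ndS (p := 90289) (l := 6) rfl N90289 D220251
theorem N116993 : nd 116993 = n220252 := ndS (p := 90293) (l := 0) rfl N90293 D220252
theorem N116994 : nd 116994 = n220253 := ndS (p := 90293) (l := 5) rfl N90293 D220253
theorem N116995 : nd 116995 = n220254 := ndS (p := 90302) (l := 3) rfl N90302 D220254
theorem N116996 : nd 116996 = n220255 := ndS (p := 90302) (l := 5) rfl N90302 D220255
theorem N116997 : nd 116997 = n220256 := ndS (p := 90304) (l := 6) rfl N90304 D220256
theorem N116998 : nd 116998 = n220257 := ndS (p := 90305) (l := 0) rfl N90305 D220257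
theorem N116999 : nd 116999 = n220258 := ndS (p := 90312) (l := 1) rfl N90312 D220258
theorem N117000 : nd 117000 = n220259 := ndS (p := 90313) (l := 1) rfl N90313 D220259
theorem N117001 : nd 117001 = n220260 := ndS (p := 90314) (l := 0) rfl N90314 D220260
theorem N117002 : nd 117002 = n220261 := ndS (p := 90314) (l := 2) rfl N90314 D220261
theorem N117003 : nd 117003 = n220262 := ndS (p := 90314) (l := 5) rfl N90314 D220262
theorem N117004 : nd 117004 = n220263 := ndS (p := 90315) (l := 6) rfl N90315 D220263
theorem N117005 : nd 117005 = n220264 := ndS (p := 90318) (l := 3) rfl N90318 D220264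
theorem N117006 : nd 117006 = n220265 := ndS (p := 90318) (l := 5) rfl N90318 D220265
theorem N117007 : nd 117007 = n220266 := ndS (p := 90318) (l := 6) rfl N90318 D220266
theorem N117008 : nd 117008 = n220267 := ndS (p := 90321) (l := 2) rfl N90321 D220267
theorem N117009 : nd 117009 = n220268 := ndS (p := 90322) (l := 1) rfl N90322 D220268
theorem N117010 : nd 117010 = n220269 := ndS (p := 90323) (l := 1) rfl N90323 D220269
theorem N117011 : nd 117011 = n220270 := ndS (p := 90323) (l := 7) rfl N90323 D220270
theorem N117012 : nd 117012 = n220271 := ndS (p := 90329) (l := 6) rfl N90329 D220271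
theorem N117013 : nd 117013 = n220272 := ndS (p := 90331) (l := 5) rfl N90331 D220272
theorem N117014 : nd 117014 = n220273 := ndS (p := 90331) (l := 7) rfl N90331 D220273
theorem N117015 : nd 117015 = n220274 := ndS (p := 90340) (l := 3) rfl N90340 D220274
theorem N117016 : nd 117016 = n220275 := ndS (p := 90340) (l := 5) rfl N90340 D220275
theorem N117017 : nd 117017 = n220276 := ndS (p := 90341) (l := 1) rfl N90341 D220276
theorem N117018 : nd 117018 = n220277 := ndS (p := 90341) (l := 7) rfl N90341 D220277
theorem N117019 : nd 117019 = n220278 := ndS (p := 90342) (l := 0) rfl N90342 D220278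
theorem N117020 : nd 117020 = n220279 := ndS (p := 90342) (l := 2) rfl N90342 D220279
theorem N117021 : nd 117021 = n220280 := ndS (p := 90342) (l := 5) rfl N90342 D220280
theorem N117022 : nd 117022 = n220281 := ndS (p := 90343) (l := 6) rfl N90343 D220281
theorem N117023 : nd 117023 = n220282 := ndS (p := 90345) (l := 3) rfl N90345 D220282
theorem N117024 : nd 117024 = n220283 := ndS (p := 90346) (l := 4) rfl N90346 D220283
theorem N117025 : nd 117025 = n220284 := ndS (p := 90346) (l := 6) rfl N90346 D220284
theorem N117026 : nd 117026 = n220285 := ndS (p := 90353) (l := 5) rfl N90353 D220285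
theorem N117027 : nd 117027 = n220286 := ndS (p := 90354) (l := 5) rfl N90354 D220286
theorem N117028 : nd 117028 = n220287 := ndS (p := 90356) (l := 5) rfl N90356 D220287
theorem N117029 : nd 117029 = n220288 := ndS (p := 90358) (l := 0) rfl N90358 D220288
theorem N117030 : nd 117030 = n220289 := ndS (p := 90358) (l := 1) rfl N90358 D220289
theorem N117031 : nd 117031 = n220290 := ndS (p := 90359) (l := 3) rfl N90359 D220290
theorem N117032 : nd 117032 = n220291 := ndS (p := 90361) (l := 5) rfl N90361 D220291
theorem N117033 : nd 117033 = n220292 := ndS (p := 90362) (l := 1) rfl N90362 D220292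
theorem N117034 : nd 117034 = n220293 := ndS (p := 90362) (l := 4) rfl N90362 D220293
theorem N117035 : nd 117035 = n220294 := ndS (p := 90365) (l := 0) rfl N90365 D220294
theorem N117036 : nd 117036 = n220295 := ndS (p := 90365) (l := 7) rfl N90365 D220295
theorem N117037 : nd 117037 = n220296 := ndS (p := 90370) (l := 4) rfl N90370 D220296
theorem N117038 : nd 117038 = n220297 := ndS (p := 90370) (l := 6) rfl N90370 D220297
theorem N117039 : nd 117039 = n220298 := ndS (p := 90373) (l := 0) rfl N90373 D220298
theorem N117040 : nd 117040 = n220299 := ndS (p := 90375) (l := 4) rfl N90375 D220299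
theorem N117041 : nd 117041 = n220300 := ndS (p := 90375) (l := 6) rfl N90375 D220300
theorem N117042 : nd 117042 = n220301 := ndS (p := 90377) (l := 4) rfl N90377 D220301
theorem N117043 : nd 117043 = n220302 := ndS (p := 90378) (l := 4) rfl N90378 D220302
theorem N117044 : nd 117044 = n220303 := ndS (p := 90379) (l := 3) rfl N90379 D220303
theorem N117045 : nd 117045 = n220304 := ndS (p := 90379) (l := 4) rfl N90379 D220304
theorem N117046 : nd 117046 = n220305 := ndS (p := 90379) (l := 6) rfl N90379 D220305
theorem N117047 : nd 117047 = n220306 := ndS (p := 90380) (l := 0) rfl N90380 D220306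
theorem N117048 : nd 117048 = n220307 := ndS (p := 90380) (l := 1) rfl N90380 D220307
theorem N117049 : nd 117049 = n220308 := ndS (p := 90381) (l := 3) rfl N90381 D220308
theorem N117050 : nd 117050 = n220309 := ndS (p := 90381) (l := 6) rfl N90381 D220309
theorem N117051 : nd 117051 = n220310 := ndS (p := 90382) (l := 6) rfl N90382 D220310
theorem N117052 : nd 117052 = n220311 := ndS (p := 90400) (l := 7) rfl N90400 D220311
theorem N117053 : nd 117053 = n220312 := ndS (p := 90403) (l := 1) rfl N90403 D220312
theorem N117054 : nd 117054 = n220313 := ndS (p := 90410) (l := 6) rfl N90410 D220313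
theorem N117055 : nd 117055 = n220314 := ndS (p := 90417) (l := 5) rfl N90417 D220314
theorem N117056 : nd 117056 = n220315 := ndS (p := 90424) (l := 5) rfl N90424 D220315
theorem N117057 : nd 117057 = n220316 := ndS (p := 90431) (l := 6) rfl N90431 D220316
theorem N117058 : nd 117058 = n220317 := ndS (p := 90436) (l := 4) rfl N90436 D220317
theorem N117059 : nd 117059 = n220318 := ndS (p := 90437) (l := 6) rfl N90437 D220318
theorem N117060 : nd 117060 = n220319 := ndS (p := 90441) (l := 0) rfl N90441 D220319
theorem N117061 : nd 117061 = n220320 := ndS (p := 90441) (l := 1) rfl N90441 D220320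
theorem N117062 : nd 117062 = n220321 := ndS (p := 90444) (l := 4) rfl N90444 D220321
theorem N117063 : nd 117063 = n220322 := ndS (p := 90447) (l := 0) rfl N90447 D220322
theorem N117064 : nd 117064 = n220323 := ndS (p := 90451) (l := 1) rfl N90451 D220323
theorem N117065 : nd 117065 = n220324 := ndS (p := 90451) (l := 4) rfl N90451 D220324
theorem N117066 : nd 117066 = n220325 := ndS (p := 90453) (l := 6) rfl N90453 D220325
theorem N117067 : nd 117067 = n220326 := ndS (p := 90461) (l := 4) rfl N90461 D220326
theorem N117068 : nd 117068 = n220327 := ndS (p := 90461) (l := 6) rfl N90461 D220327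
theorem N117069 : nd 117069 = n220328 := ndS (p := 90463) (l := 4) rfl N90463 D220328
theorem N117070 : nd 117070 = n220329 := ndS (p := 90465) (l := 4) rfl N90465 D220329
theorem N117071 : nd 117071 = n220330 := ndS (p := 90466) (l := 3) rfl N90466 D220330
theorem N117072 : nd 117072 = n220331 := ndS (p := 90470) (l := 5) rfl N90470 D220331
theorem N117073 : nd 117073 = n220332 := ndS (p := 90471) (l := 3) rfl N90471 D220332
theorem N117074 : nd 117074 = n220333 := ndS (p := 90475) (l := 1) rfl N90475 D220333
theorem N117075 : nd 117075 = n220334 := ndS (p := 90475) (l := 5) rfl N90475 D220334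
theorem N117076 : nd 117076 = n220335 := ndS (p := 90475) (l := 7) rfl N90475 D220335
theorem N117077 : nd 117077 = n220336 := ndS (p := 90477) (l := 6) rfl N90477 D220336
theorem N117078 : nd 117078 = n220337 := ndS (p := 90480) (l := 3) rfl N90480 D220337
theorem N117079 : nd 117079 = n220338 := ndS (p := 90482) (l := 5) rfl N90482 D220338
theorem N117080 : nd 117080 = n220339 := ndS (p := 90485) (l := 0) rfl N90485 D220339
theorem N117081 : nd 117081 = n220340 := ndS (p := 90485) (l := 1) rfl N90485 D220340
theorem N117082 : nd 117082 = n220341 := ndS (p := 90486) (l := 6) rfl N90486 D220341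
theorem N117083 : nd 117083 = n220342 := ndS (p := 90487) (l := 5) rfl N90487 D220342
theorem N117084 : nd 117084 = n220343 := ndS (p := 90489) (l := 1) rfl N90489 D220343
theorem N117085 : nd 117085 = n220344 := ndS (p := 90490) (l := 1) rfl N90490 D220344
theorem N117086 : nd 117086 = n220345 := ndS (p := 90490) (l := 2) rfl N90490 D220345
theorem N117087 : nd 117087 = n220346 := ndS (p := 90490) (l := 5) rfl N90490 D220346
theorem N117088 : nd 117088 = n220347 := ndS (p := 90491) (l := 6) rfl N90491 D220347
theorem N117089 : nd 117089 = n220348 := ndS (p := 90493) (l := 0) rfl N90493 D220348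
theorem N117090 : nd 117090 = n220349 := ndS (p := 90493) (l := 2) rfl N90493 D220349
theorem N117091 : nd 117091 = n220350 := ndS (p := 90493) (l := 4) rfl N90493 D220350
theorem N117092 : nd 117092 = n220351 := ndS (p := 90493) (l := 7) rfl N90493 D220351
theorem N117093 : nd 117093 = n220352 := ndS (p := 90494) (l := 3) rfl N90494 D220352
theorem N117094 : nd 117094 = n220353 := ndS (p := 90494) (l := 4) rfl N90494 D220353
theorem N117095 : nd 117095 = n220354 := ndS (p := 90494) (l := 6) rfl N90494 D220354
theorem N117096 : nd 117096 = n220355 := ndS (p := 90496) (l := 1) rfl N90496 D220355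
theorem N117097 : nd 117097 = n220356 := ndS (p := 90497) (l := 6) rfl N90497 D220356
theorem N117098 : nd 117098 = n220357 := ndS (p := 90498) (l := 6) rfl N90498 D220357
theorem N117099 : nd 117099 = n220358 := ndS (p := 90507) (l := 5) rfl N90507 D220358
theorem N117100 : nd 117100 = n220359 := ndS (p := 90513) (l := 5) rfl N90513 D220359
theorem N117101 : nd 117101 = n220360 := ndS (p := 90513) (l := 6) rfl N90513 D220360
theorem N117102 : nd 117102 = n220361 := ndS (p := 90517) (l := 5) rfl N90517 D220361
theorem N117103 : nd 117103 = n220362 := ndS (p := 90519) (l := 3) rfl N90519 D220362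
theorem N117104 : nd 117104 = n220363 := ndS (p := 90519) (l := 6) rfl N90519 D220363
theorem N117105 : nd 117105 = n220364 := ndS (p := 90528) (l := 6) rfl N90528 D220364
theorem N117106 : nd 117106 = n220365 := ndS (p := 90534) (l := 0) rfl N90534 D220365
theorem N117107 : nd 117107 = n220366 := ndS (p := 90541) (l := 7) rfl N90541 D220366
theorem N117108 : nd 117108 = n220367 := ndS (p := 90544) (l := 7) rfl N90544 D220367
theorem N117109 : nd 117109 = n220368 := ndS (p := 90546) (l := 4) rfl N90546 D220368
theorem N117110 : nd 117110 = n220369 := ndS (p := 90551) (l := 1) rfl N90551 D220369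
theorem N117111 : nd 117111 = n220370 := ndS (p := 90568) (l := 4) rfl N90568 D220370
theorem N117112 : nd 117112 = n220371 := ndS (p := 90572) (l := 0) rfl N90572 D220371
theorem N117113 : nd 117113 = n220372 := ndS (p := 90573) (l := 4) rfl N90573 D220372
theorem N117114 : nd 117114 = n220373 := ndS (p := 90573) (l := 5) rfl N90573 D220373
theorem N117115 : nd 117115 = n220374 := ndS (p := 90574) (l := 5) rfl N90574 D220374
theorem N117116 : nd 117116 = n220375 := ndS (p := 90580) (l := 3) rfl N90580 D220375
theorem N117117 : nd 117117 = n220376 := ndS (p := 90580) (l := 5) rfl N90580 D220376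
theorem N117118 : nd 117118 = n220377 := ndS (p := 90584) (l := 6) rfl N90584 D220377
theorem N117119 : nd 117119 = n220378 := ndS (p := 90585) (l := 6) rfl N90585 D220378
theorem N117120 : nd 117120 = n220379 := ndS (p := 90586) (l := 0) rfl N90586 D220379
theorem N117121 : nd 117121 = n220380 := ndS (p := 90586) (l := 1) rfl N90586 D220380
theorem N117122 : nd 117122 = n220381 := ndS (p := 90586) (l := 5) rfl N90586 D220381
theorem N117123 : nd 117123 = n220382 := ndS (p := 90586) (l := 7) rfl N90586 D220382
theorem N117124 : nd 117124 = n220383 := ndS (p := 90588) (l := 5) rfl N90588 D220383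
theorem N117125 : nd 117125 = n220384 := ndS (p := 90594) (l := 1) rfl N90594 D220384
theorem N117126 : nd 117126 = n220385 := ndS (p := 90594) (l := 3) rfl N90594 D220385
theorem N117127 : nd 117127 = n220386 := ndS (p := 90595) (l := 0) rfl N90595 D220386
theorem N117128 : nd 117128 = n220387 := ndS (p := 90595) (l := 5) rfl N90595 D220387
theorem N117129 : nd 117129 = n220388 := ndS (p := 90597) (l := 3) rfl N90597 D220388
theorem N117130 : nd 117130 = n220389 := ndS (p := 90599) (l := 0) rfl N90599 D220389
theorem N117131 : nd 117131 = n220390 := ndS (p := 90599) (l := 7) rfl N90599 D220390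
theorem N117132 : nd 117132 = n220391 := ndS (p := 90604) (l := 3) rfl N90604 D220391
theorem N117133 : nd 117133 = n220392 := ndS (p := 90606) (l := 3) rfl N90606 D220392
theorem N117134 : nd 117134 = n220393 := ndS (p := 90607) (l := 3) rfl N90607 D220393
theorem N117135 : nd 117135 = n220394 := ndS (p := 90615) (l := 0) rfl N90615 D220394
theorem N117136 : nd 117136 = n220395 := ndS (p := 90615) (l := 1) rfl N90615 D220395
theorem N117137 : nd 117137 = n220396 := ndS (p := 90617) (l := 0) rfl N90617 D220396
theorem N117138 : nd 117138 = n220397 := ndS (p := 90619) (l := 1) rfl N90619 D220397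
theorem N117139 : nd 117139 = n220398 := ndS (p := 90621) (l := 6) rfl N90621 D220398
theorem N117140 : nd 117140 = n220399 := ndS (p := 90622) (l := 0) rfl N90622 D220399
theorem N117141 : nd 117141 = n220400 := ndS (p := 90622) (l := 7) rfl N90622 D220400
theorem N117142 : nd 117142 = n220401 := ndS (p := 90627) (l := 0) rfl N90627 D220401
theorem N117143 : nd 117143 = n220402 := ndS (p := 90627) (l := 1) rfl N90627 D220402
theorem N117144 : nd 117144 = n220403 := ndS (p := 90633) (l := 3) rfl N90633 D220403
theorem N117145 : nd 117145 = n220404 := ndS (p := 90633) (l := 6) rfl N90633 D220404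
theorem N117146 : nd 117146 = n220405 := ndS (p := 90636) (l := 5) rfl N90636 D220405
theorem N117147 : nd 117147 = n220406 := ndS (p := 90638) (l := 6) rfl N90638 D220406
theorem N117148 : nd 117148 = n220407 := ndS (p := 90644) (l := 6) rfl N90644 D220407
theorem N117149 : nd 117149 = n220408 := ndS (p := 90652) (l := 3) rfl N90652 D220408
theorem N117150 : nd 117150 = n220409 := ndS (p := 90652) (l := 5) rfl N90652 D220409
theorem N117151 : nd 117151 = n220410 := ndS (p := 90662) (l := 3) rfl N90662 D220410
theorem N117152 : nd 117152 = n220411 := ndS (p := 90662) (l := 5) rfl N90662 D220411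
theorem N117153 : nd 117153 = n220412 := ndS (p := 90667) (l := 6) rfl N90667 D220412
theorem N117154 : nd 117154 = n220413 := ndS (p := 90668) (l := 5) rfl N90668 D220413
theorem N117155 : nd 117155 = n220414 := ndS (p := 90668) (l := 7) rfl N90668 D220414
theorem N117156 : nd 117156 = n220415 := ndS (p := 90671) (l := 6) rfl N90671 D220415
theorem N117157 : nd 117157 = n220416 := ndS (p := 90680) (l := 3) rfl N90680 D220416
theorem N117158 : nd 117158 = n220417 := ndS (p := 90684) (l := 4) rfl N90684 D220417
theorem N117159 : nd 117159 = n220418 := ndS (p := 90688) (l := 0) rfl N90688 D220418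
theorem N117160 : nd 117160 = n220419 := ndS (p := 90688) (l := 7) rfl N90688 D220419
theorem N117161 : nd 117161 = n220420 := ndS (p := 90691) (l := 6) rfl N90691 D220420
theorem N117162 : nd 117162 = n220421 := ndS (p := 90692) (l := 0) rfl N90692 D220421
theorem N117163 : nd 117163 = n220422 := ndS (p := 90692) (l := 1) rfl N90692 D220422
theorem N117164 : nd 117164 = n220423 := ndS (p := 90692) (l := 5) rfl N90692 D220423
theorem N117165 : nd 117165 = n220424 := ndS (p := 90693) (l := 4) rfl N90693 D220424
theorem N117166 : nd 117166 = n220425 := ndS (p := 90693) (l := 5) rfl N90693 D220425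
theorem N117167 : nd 117167 = n220426 := ndS (p := 90693) (l := 6) rfl N90693 D220426
theorem N117168 : nd 117168 = n220427 := ndS (p := 90704) (l := 4) rfl N90704 D220427
theorem N117169 : nd 117169 = n220428 := ndS (p := 90708) (l := 1) rfl N90708 D220428
theorem N117170 : nd 117170 = n220429 := ndS (p := 90709) (l := 3) rfl N90709 D220429
theorem N117171 : nd 117171 = n220430 := ndS (p := 90711) (l := 6) rfl N90711 D220430
theorem N117172 : nd 117172 = n220431 := ndS (p := 90712) (l := 1) rfl N90712 D220431
theorem N117173 : nd 117173 = n220432 := ndS (p := 90714) (l := 0) rfl N90714 D220432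
theorem N117174 : nd 117174 = n220433 := ndS (p := 90719) (l := 5) rfl N90719 D220433
theorem N117175 : nd 117175 = n220434 := ndS (p := 90720) (l := 6) rfl N90720 D220434
theorem N117176 : nd 117176 = n220435 := ndS (p := 90721) (l := 4) rfl N90721 D220435
theorem N117177 : nd 117177 = n220436 := ndS (p := 90721) (l := 6) rfl N90721 D220436
theorem N117178 : nd 117178 = n220437 := ndS (p := 90722) (l := 3) rfl N90722 D220437
theorem N117179 : nd 117179 = n220438 := ndS (p := 90722) (l := 4) rfl N90722 D220438
theorem N117180 : nd 117180 = n220439 := ndS (p := 90723) (l := 0) rfl N90723 D220439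
theorem N117181 : nd 117181 = n220440 := ndS (p := 90723) (l := 1) rfl N90723 D220440
theorem N117182 : nd 117182 = n220441 := ndS (p := 90725) (l := 3) rfl N90725 D220441
theorem N117183 : nd 117183 = n220442 := ndS (p := 90726) (l := 2) rfl N90726 D220442
theorem N117184 : nd 117184 = n220443 := ndS (p := 90726) (l := 4) rfl N90726 D220443
theorem N117185 : nd 117185 = n220444 := ndS (p := 90727) (l := 3) rfl N90727 D220444
theorem N117186 : nd 117186 = n220445 := ndS (p := 90729) (l := 0) rfl N90729 D220445
theorem N117187 : nd 117187 = n220446 := ndS (p := 90731) (l := 1) rfl N90731 D220446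
theorem N117188 : nd 117188 = n220447 := ndS (p := 90734) (l := 6) rfl N90734 D220447
theorem N117189 : nd 117189 = n220448 := ndS (p := 90748) (l := 3) rfl N90748 D220448
theorem N117190 : nd 117190 = n220449 := ndS (p := 90748) (l := 5) rfl N90748 D220449
theorem N117191 : nd 117191 = n220450 := ndS (p := 90748) (l := 6) rfl N90748 D220450
theorem N117192 : nd 117192 = n220451 := ndS (p := 90749) (l := 5) rfl N90749 D220451
theorem N117193 : nd 117193 = n220452 := ndS (p := 90751) (l := 0) rfl N90751 D220452
theorem N117194 : nd 117194 = n220453 := ndS (p := 90751) (l := 1) rfl N90751 D220453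
theorem N117195 : nd 117195 = n220454 := ndS (p := 90752) (l := 1) rfl N90752 D220454
theorem N117196 : nd 117196 = n220455 := ndS (p := 90752) (l := 7) rfl N90752 D220455
theorem N117197 : nd 117197 = n220456 := ndS (p := 90753) (l := 5) rfl N90753 D220456
theorem N117198 : nd 117198 = n220457 := ndS (p := 90754) (l := 1) rfl N90754 D220457
theorem N117199 : nd 117199 = n220458 := ndS (p := 90754) (l := 7) rfl N90754 D220458
theorem N117200 : nd 117200 = n220459 := ndS (p := 90758) (l := 6) rfl N90758 D220459
theorem N117201 : nd 117201 = n220460 := ndS (p := 90765) (l := 5) rfl N90765 D220460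
theorem N117202 : nd 117202 = n220461 := ndS (p := 90766) (l := 6) rfl N90766 D220461
theorem N117203 : nd 117203 = n220462 := ndS (p := 90774) (l := 4) rfl N90774 D220462
theorem N117204 : nd 117204 = n220463 := ndS (p := 90777) (l := 5) rfl N90777 D220463
theorem N117205 : nd 117205 = n220464 := ndS (p := 90794) (l := 6) rfl N90794 D220464
theorem N117206 : nd 117206 = n220465 := ndS (p := 90797) (l := 3) rfl N90797 D220465
theorem N117207 : nd 117207 = n220466 := ndS (p := 90797) (l := 6) rfl N90797 D220466
theorem N117208 : nd 117208 = n220467 := ndS (p := 90799) (l := 3) rfl N90799 D220467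
theorem N117209 : nd 117209 = n220468 := ndS (p := 90800) (l := 6) rfl N90800 D220468
theorem N117210 : nd 117210 = n220469 := ndS (p := 90801) (l := 0) rfl N90801 D220469
theorem N117211 : nd 117211 = n220470 := ndS (p := 90801) (l := 1) rfl N90801 D220470
theorem N117212 : nd 117212 = n220471 := ndS (p := 90803) (l := 4) rfl N90803 D220471
theorem N117213 : nd 117213 = n220472 := ndS (p := 90804) (l := 4) rfl N90804 D220472
theorem N117214 : nd 117214 = n220473 := ndS (p := 90807) (l := 3) rfl N90807 D220473
theorem N117215 : nd 117215 = n220474 := ndS (p := 90810) (l := 3) rfl N90810 D220474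
theorem N117216 : nd 117216 = n220475 := ndS (p := 90810) (l := 5) rfl N90810 D220475
theorem N117217 : nd 117217 = n220476 := ndS (p := 90811) (l := 7) rfl N90811 D220476
theorem N117218 : nd 117218 = n220477 := ndS (p := 90815) (l := 1) rfl N90815 D220477
theorem N117219 : nd 117219 = n220478 := ndS (p := 90816) (l := 6) rfl N90816 D220478
theorem N117220 : nd 117220 = n220479 := ndS (p := 90818) (l := 5) rfl N90818 D220479
theorem N117221 : nd 117221 = n220480 := ndS (p := 90822) (l := 3) rfl N90822 D220480
theorem N117222 : nd 117222 = n220481 := ndS (p := 90822) (l := 6) rfl N90822 D220481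
theorem N117223 : nd 117223 = n220482 := ndS (p := 90827) (l := 0) rfl N90827 D220482
theorem N117224 : nd 117224 = n220483 := ndS (p := 90827) (l := 1) rfl N90827 D220483
theorem N117225 : nd 117225 = n220484 := ndS (p := 90827) (l := 6) rfl N90827 D220484
theorem N117226 : nd 117226 = n220485 := ndS (p := 90828) (l := 0) rfl N90828 D220485
theorem N117227 : nd 117227 = n220486 := ndS (p := 90828) (l := 1) rfl N90828 D220486
theorem N117228 : nd 117228 = n220487 := ndS (p := 90828) (l := 7) rfl N90828 D220487
theorem N117229 : nd 117229 = n220488 := ndS (p := 90829) (l := 3) rfl N90829 D220488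
theorem N117230 : nd 117230 = n220489 := ndS (p := 90829) (l := 6) rfl N90829 D220489
theorem N117231 : nd 117231 = n220490 := ndS (p := 90834) (l := 4) rfl N90834 D220490
theorem N117232 : nd 117232 = n220491 := ndS (p := 90834) (l := 7) rfl N90834 D220491
theorem N117233 : nd 117233 = n220492 := ndS (p := 90840) (l := 3) rfl N90840 D220492
theorem N117234 : nd 117234 = n220493 := ndS (p := 90842) (l := 5) rfl N90842 D220493
theorem N117235 : nd 117235 = n220494 := ndS (p := 90843) (l := 4) rfl N90843 D220494
theorem N117236 : nd 117236 = n220495 := ndS (p := 90843) (l := 6) rfl N90843 D220495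
theorem N117237 : nd 117237 = n220496 := ndS (p := 90846) (l := 4) rfl N90846 D220496
theorem N117238 : nd 117238 = n220497 := ndS (p := 90850) (l := 4) rfl N90850 D220497
theorem N117239 : nd 117239 = n220498 := ndS (p := 90851) (l := 4) rfl N90851 D220498
theorem N117240 : nd 117240 = n220499 := ndS (p := 90853) (l := 1) rfl N90853 D220499
theorem N117241 : nd 117241 = n220500 := ndS (p := 90860) (l := 0) rfl N90860 D220500
theorem N117242 : nd 117242 = n220501 := ndS (p := 90862) (l := 4) rfl N90862 D220501
theorem N117243 : nd 117243 = n220502 := ndS (p := 90863) (l := 0) rfl N90863 D220502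
theorem N117244 : nd 117244 = n220503 := ndS (p := 90863) (l := 1) rfl N90863 D220503
theorem N117245 : nd 117245 = n220504 := ndS (p := 90863) (l := 3) rfl N90863 D220504
theorem N117246 : nd 117246 = n220505 := ndS (p := 90865) (l := 5) rfl N90865 D220505
theorem N117247 : nd 117247 = n220506 := ndS (p := 90869) (l := 6) rfl N90869 D220506
theorem N117248 : nd 117248 = n220507 := ndS (p := 90872) (l := 6) rfl N90872 D220507
theorem N117249 : nd 117249 = n220508 := ndS (p := 90873) (l := 3) rfl N90873 D220508
theorem N117250 : nd 117250 = n220509 := ndS (p := 90873) (l := 5) rfl N90873 D220509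
theorem N117251 : nd 117251 = n220510 := ndS (p := 90873) (l := 6) rfl N90873 D220510
theorem N117252 : nd 117252 = n220511 := ndS (p := 90875) (l := 3) rfl N90875 D220511
theorem N117253 : nd 117253 = n220512 := ndS (p := 90876) (l := 6) rfl N90876 D220512
theorem N117254 : nd 117254 = n220513 := ndS (p := 90877) (l := 3) rfl N90877 D220513
theorem N117255 : nd 117255 = n220514 := ndS (p := 90877) (l := 5) rfl N90877 D220514
theorem N117256 : nd 117256 = n220515 := ndS (p := 90877) (l := 6) rfl N90877 D220515
theorem N117257 : nd 117257 = n220516 := ndS (p := 90879) (l := 3) rfl N90879 D220516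
theorem N117258 : nd 117258 = n220517 := ndS (p := 90879) (l := 5) rfl N90879 D220517
theorem N117259 : nd 117259 = n220518 := ndS (p := 90881) (l := 6) rfl N90881 D220518
theorem N117260 : nd 117260 = n220519 := ndS (p := 90890) (l := 3) rfl N90890 D220519
theorem N117261 : nd 117261 = n220520 := ndS (p := 90890) (l := 6) rfl N90890 D220520
theorem N117262 : nd 117262 = n220521 := ndS (p := 90891) (l := 0) rfl N90891 D220521
theorem N117263 : nd 117263 = n220522 := ndS (p := 90891) (l := 7) rfl N90891 D220522
theorem N117264 : nd 117264 = n220523 := ndS (p := 90892) (l := 1) rfl N90892 D220523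
theorem N117265 : nd 117265 = n220524 := ndS (p := 90892) (l := 2) rfl N90892 D220524
theorem N117266 : nd 117266 = n220525 := ndS (p := 90895) (l := 3) rfl N90895 D220525
theorem N117267 : nd 117267 = n220526 := ndS (p := 90895) (l := 6) rfl N90895 D220526
theorem N117268 : nd 117268 = n220527 := ndS (p := 90896) (l := 5) rfl N90896 D220527
theorem N117269 : nd 117269 = n220528 := ndS (p := 90898) (l := 3) rfl N90898 D220528
theorem N117270 : nd 117270 = n220529 := ndS (p := 90900) (l := 0) rfl N90900 D220529
theorem N117271 : nd 117271 = n220530 := ndS (p := 90901) (l := 5) rfl N90901 D220530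
theorem N117272 : nd 117272 = n220531 := ndS (p := 90902) (l := 1) rfl N90902 D220531
theorem N117273 : nd 117273 = n220532 := ndS (p := 90903) (l := 3) rfl N90903 D220532
theorem N117274 : nd 117274 = n220533 := ndS (p := 90903) (l := 5) rfl N90903 D220533
theorem N117275 : nd 117275 = n220534 := ndS (p := 90903) (l := 6) rfl N90903 D220534
theorem N117276 : nd 117276 = n220535 := ndS (p := 90905) (l := 5) rfl N90905 D220535
theorem N117277 : nd 117277 = n220536 := ndS (p := 90911) (l := 6) rfl N90911 D220536
theorem N117278 : nd 117278 = n220537 := ndS (p := 90914) (l := 0) rfl N90914 D220537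
theorem N117279 : nd 117279 = n220538 := ndS (p := 90914) (l := 2) rfl N90914 D220538
theorem N117280 : nd 117280 = n220539 := ndS (p := 90914) (l := 5) rfl N90914 D220539
theorem N117281 : nd 117281 = n220540 := ndS (p := 90917) (l := 4) rfl N90917 D220540
theorem N117282 : nd 117282 = n220541 := ndS (p := 90918) (l := 3) rfl N90918 D220541
theorem N117283 : nd 117283 = n220542 := ndS (p := 90919) (l := 6) rfl N90919 D220542
theorem N117284 : nd 117284 = n220543 := ndS (p := 90920) (l := 4) rfl N90920 D220543
theorem N117285 : nd 117285 = n220544 := ndS (p := 90921) (l := 4) rfl N90921 D220544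
theorem N117286 : nd 117286 = n220545 := ndS (p := 90924) (l := 1) rfl N90924 D220545
theorem N117287 : nd 117287 = n220546 := ndS (p := 90924) (l := 7) rfl N90924 D220546
theorem N117288 : nd 117288 = n220547 := ndS (p := 90926) (l := 7) rfl N90926 D220547
theorem N117289 : nd 117289 = n220548 := ndS (p := 90928) (l := 1) rfl N90928 D220548
theorem N117290 : nd 117290 = n220549 := ndS (p := 90928) (l := 4) rfl N90928 D220549
theorem N117291 : nd 117291 = n220550 := ndS (p := 90929) (l := 1) rfl N90929 D220550
theorem N117292 : nd 117292 = n220551 := ndS (p := 90930) (l := 5) rfl N90930 D220551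
theorem N117293 : nd 117293 = n220552 := ndS (p := 90932) (l := 7) rfl N90932 D220552
theorem N117294 : nd 117294 = n220553 := ndS (p := 90934) (l := 6) rfl N90934 D220553
theorem N117295 : nd 117295 = n220554 := ndS (p := 90936) (l := 3) rfl N90936 D220554
theorem N117296 : nd 117296 = n220555 := ndS (p := 90938) (l := 6) rfl N90938 D220555
theorem N117297 : nd 117297 = n220556 := ndS (p := 90943) (l := 5) rfl N90943 D220556
theorem N117298 : nd 117298 = n220557 := ndS (p := 90944) (l := 5) rfl N90944 D220557
theorem N117299 : nd 117299 = n220558 := ndS (p := 90947) (l := 5) rfl N90947 D220558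
theorem N117300 : nd 117300 = n220559 := ndS (p := 90949) (l := 3) rfl N90949 D220559
theorem N117301 : nd 117301 = n220560 := ndS (p := 90949) (l := 6) rfl N90949 D220560
theorem N117302 : nd 117302 = n220561 := ndS (p := 90950) (l := 0) rfl N90950 D220561
theorem N117303 : nd 117303 = n220562 := ndS (p := 90950) (l := 7) rfl N90950 D220562
theorem N117304 : nd 117304 = n220563 := ndS (p := 90952) (l := 4) rfl N90952 D220563
theorem N117305 : nd 117305 = n220564 := ndS (p := 90952) (l := 6) rfl N90952 D220564
theorem N117306 : nd 117306 = n220565 := ndS (p := 90953) (l := 0) rfl N90953 D220565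
theorem N117307 : nd 117307 = n220566 := ndS (p := 90953) (l := 7) rfl N90953 D220566
theorem N117308 : nd 117308 = n220567 := ndS (p := 90954) (l := 4) rfl N90954 D220567
theorem N117309 : nd 117309 = n220568 := ndS (p := 90954) (l := 5) rfl N90954 D220568
theorem N117310 : nd 117310 = n220569 := ndS (p := 90955) (l := 3) rfl N90955 D220569
theorem N117311 : nd 117311 = n220570 := ndS (p := 90955) (l := 5) rfl N90955 D220570
theorem N117312 : nd 117312 = n220571 := ndS (p := 90961) (l := 5) rfl N90961 D220571
theorem N117313 : nd 117313 = n220572 := ndS (p := 90965) (l := 5) rfl N90965 D220572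
theorem N117314 : nd 117314 = n220573 := ndS (p := 90966) (l := 6) rfl N90966 D220573
theorem N117315 : nd 117315 = n220574 := ndS (p := 90968) (l := 1) rfl N90968 D220574
theorem N117316 : nd 117316 = n220575 := ndS (p := 90968) (l := 7) rfl N90968 D220575
theorem N117317 : nd 117317 = n220576 := ndS (p := 90971) (l := 6) rfl N90971 D220576
theorem N117318 : nd 117318 = n220577 := ndS (p := 90973) (l := 5) rfl N90973 D220577
theorem N117319 : nd 117319 = n220578 := ndS (p := 90973) (l := 7) rfl N90973 D220578
theorem N117320 : nd 117320 = n220579 := ndS (p := 90975) (l := 4) rfl N90975 D220579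
theorem N117321 : nd 117321 = n220580 := ndS (p := 90976) (l := 6) rfl N90976 D220580
theorem N117322 : nd 117322 = n220581 := ndS (p := 90979) (l := 6) rfl N90979 D220581
theorem N117323 : nd 117323 = n220582 := ndS (p := 90980) (l := 1) rfl N90980 D220582
theorem N117324 : nd 117324 = n220583 := ndS (p := 90980) (l := 7) rfl N90980 D220583
theorem N117325 : nd 117325 = n220584 := ndS (p := 90985) (l := 6) rfl N90985 D220584
theorem N117326 : nd 117326 = n220585 := ndS (p := 90990) (l := 7) rfl N90990 D220585
theorem N117327 : nd 117327 = n220586 := ndS (p := 90991) (l := 3) rfl N90991 D220586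
theorem N117328 : nd 117328 = n220587 := ndS (p := 90992) (l := 1) rfl N90992 D220587
theorem N117329 : nd 117329 = n220588 := ndS (p := 90996) (l := 6) rfl N90996 D220588
theorem N117330 : nd 117330 = n220589 := ndS (p := 90997) (l := 6) rfl N90997 D220589
theorem N117331 : nd 117331 = n220590 := ndS (p := 90999) (l := 0) rfl N90999 D220590
theorem N117332 : nd 117332 = n220591 := ndS (p := 90999) (l := 1) rfl N90999 D220591
theorem N117333 : nd 117333 = n220592 := ndS (p := 90999) (l := 5) rfl N90999 D220592
theorem N117334 : nd 117334 = n220593 := ndS (p := 90999) (l := 7) rfl N90999 D220593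
theorem N117335 : nd 117335 = n220594 := ndS (p := 91003) (l := 5) rfl N91003 D220594
theorem N117336 : nd 117336 = n220595 := ndS (p := 91007) (l := 5) rfl N91007 D220595
theorem N117337 : nd 117337 = n220596 := ndS (p := 91013) (l := 5) rfl N91013 D220596
theorem N117338 : nd 117338 = n220597 := ndS (p := 91014) (l := 6) rfl N91014 D220597
theorem N117339 : nd 117339 = n220598 := ndS (p := 91020) (l := 5) rfl N91020 D220598
theorem N117340 : nd 117340 = n220599 := ndS (p := 91026) (l := 5) rfl N91026 D220599
theorem N117341 : nd 117341 = n220600 := ndS (p := 91029) (l := 5) rfl N91029 D220600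
theorem N117342 : nd 117342 = n220601 := ndS (p := 91040) (l := 1) rfl N91040 D220601
theorem N117343 : nd 117343 = n220602 := ndS (p := 91040) (l := 5) rfl N91040 D220602
theorem N117344 : nd 117344 = n220603 := ndS (p := 91044) (l := 4) rfl N91044 D220603
theorem N117345 : nd 117345 = n220604 := ndS (p := 91053) (l := 1) rfl N91053 D220604
theorem N117346 : nd 117346 = n220605 := ndS (p := 91065) (l := 5) rfl N91065 D220605
theorem N117347 : nd 117347 = n220606 := ndS (p := 91066) (l := 5) rfl N91066 D220606
theorem N117348 : nd 117348 = n220607 := ndS (p := 91068) (l := 6) rfl N91068 D220607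
theorem N117349 : nd 117349 = n220608 := ndS (p := 91074) (l := 7) rfl N91074 D220608
theorem N117350 : nd 117350 = n220609 := ndS (p := 91079) (l := 3) rfl N91079 D220609
theorem N117351 : nd 117351 = n220610 := ndS (p := 91081) (l := 6) rfl N91081 D220610
theorem N117352 : nd 117352 = n220611 := ndS (p := 91083) (l := 3) rfl N91083 D220611
theorem N117353 : nd 117353 = n220612 := ndS (p := 91095) (l := 3) rfl N91095 D220612
theorem N117354 : nd 117354 = n220613 := ndS (p := 91095) (l := 5) rfl N91095 D220613
theorem N117355 : nd 117355 = n220614 := ndS (p := 91095) (l := 7) rfl N91095 D220614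
theorem N117356 : nd 117356 = n220615 := ndS (p := 91098) (l := 4) rfl N91098 D220615
theorem N117357 : nd 117357 = n220616 := ndS (p := 91099) (l := 5) rfl N91099 D220616
theorem N117358 : nd 117358 = n220617 := ndS (p := 91104) (l := 4) rfl N91104 D220617
theorem N117359 : nd 117359 = n220618 := ndS (p := 91105) (l := 3) rfl N91105 D220618
theorem N117360 : nd 117360 = n220619 := ndS (p := 91106) (l := 4) rfl N91106 D220619
theorem N117361 : nd 117361 = n220620 := ndS (p := 91107) (l := 3) rfl N91107 D220620
theorem N117362 : nd 117362 = n220621 := ndS (p := 91107) (l := 6) rfl N91107 D220621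
theorem N117363 : nd 117363 = n220622 := ndS (p := 91110) (l := 4) rfl N91110 D220622
theorem N117364 : nd 117364 = n220623 := ndS (p := 91110) (l := 7) rfl N91110 D220623
theorem N117365 : nd 117365 = n220624 := ndS (p := 91113) (l := 6) rfl N91113 D220624
theorem N117366 : nd 117366 = n220625 := ndS (p := 91116) (l := 5) rfl N91116 D220625
theorem N117367 : nd 117367 = n220626 := ndS (p := 91120) (l := 0) rfl N91120 D220626
theorem N117368 : nd 117368 = n220627 := ndS (p := 91120) (l := 1) rfl N91120 D220627
theorem N117369 : nd 117369 = n220628 := ndS (p := 91120) (l := 2) rfl N91120 D220628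
theorem N117370 : nd 117370 = n220629 := ndS (p := 91120) (l := 5) rfl N91120 D220629
theorem N117371 : nd 117371 = n220630 := ndS (p := 91121) (l := 6) rfl N91121 D220630
theorem N117372 : nd 117372 = n220631 := ndS (p := 91122) (l := 7) rfl N91122 D220631
theorem N117373 : nd 117373 = n220632 := ndS (p := 91123) (l := 4) rfl N91123 D220632
theorem N117374 : nd 117374 = n220633 := ndS (p := 91124) (l := 3) rfl N91124 D220633
theorem N117375 : nd 117375 = n220634 := ndS (p := 91124) (l := 4) rfl N91124 D220634
theorem N117376 : nd 117376 = n220635 := ndS (p := 91124) (l := 6) rfl N91124 D220635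
theorem N117377 : nd 117377 = n220636 := ndS (p := 91125) (l := 4) rfl N91125 D220636
theorem N117378 : nd 117378 = n220637 := ndS (p := 91125) (l := 7) rfl N91125 D220637
theorem N117379 : nd 117379 = n220638 := ndS (p := 91127) (l := 5) rfl N91127 D220638
theorem N117380 : nd 117380 = n220639 := ndS (p := 91128) (l := 1) rfl N91128 D220639
theorem N117381 : nd 117381 = n220640 := ndS (p := 91129) (l := 6) rfl N91129 D220640
theorem N117382 : nd 117382 = n220641 := ndS (p := 91131) (l := 3) rfl N91131 D220641
theorem N117383 : nd 117383 = n220642 := ndS (p := 91134) (l := 4) rfl N91134 D220642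
theorem N117384 : nd 117384 = n220643 := ndS (p := 91135) (l := 3) rfl N91135 D220643
theorem N117385 : nd 117385 = n220644 := ndS (p := 91135) (l := 4) rfl N91135 D220644
theorem N117386 : nd 117386 = n220645 := ndS (p := 91135) (l := 6) rfl N91135 D220645
theorem N117387 : nd 117387 = n220646 := ndS (p := 91139) (l := 5) rfl N91139 D220646
theorem N117388 : nd 117388 = n220647 := ndS (p := 91140) (l := 4) rfl N91140 D220647
theorem N117389 : nd 117389 = n220648 := ndS (p := 91140) (l := 6) rfl N91140 D220648
theorem N117390 : nd 117390 = n220649 := ndS (p := 91145) (l := 3) rfl N91145 D220649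
theorem N117391 : nd 117391 = n220650 := ndS (p := 91145) (l := 6) rfl N91145 D220650
theorem N117392 : nd 117392 = n220651 := ndS (p := 91151) (l := 7) rfl N91151 D220651
theorem N117393 : nd 117393 = n220652 := ndS (p := 91152) (l := 6) rfl N91152 D220652
theorem N117394 : nd 117394 = n220653 := ndS (p := 91153) (l := 6) rfl N91153 D220653
theorem N117395 : nd 117395 = n220654 := ndS (p := 91154) (l := 0) rfl N91154 D220654
theorem N117396 : nd 117396 = n220655 := ndS (p := 91154) (l := 7) rfl N91154 D220655
theorem N117397 : nd 117397 = n220656 := ndS (p := 91155) (l := 6) rfl N91155 D220656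
theorem N117398 : nd 117398 = n220657 := ndS (p := 91159) (l := 6) rfl N91159 D220657
theorem N117399 : nd 117399 = n220658 := ndS (p := 91160) (l := 6) rfl N91160 D220658
theorem N117400 : nd 117400 = n220659 := ndS (p := 91161) (l := 7) rfl N91161 D220659
theorem N117401 : nd 117401 = n220660 := ndS (p := 91162) (l := 0) rfl N91162 D220660
theorem N117402 : nd 117402 = n220661 := ndS (p := 91162) (l := 1) rfl N91162 D220661
theorem N117403 : nd 117403 = n220662 := ndS (p := 91162) (l := 7) rfl N91162 D220662
theorem N117404 : nd 117404 = n220663 := ndS (p := 91164) (l := 4) rfl N91164 D220663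
theorem N117405 : nd 117405 = n220664 := ndS (p := 91164) (l := 6) rfl N91164 D220664
theorem N117406 : nd 117406 = n220665 := ndS (p := 91168) (l := 5) rfl N91168 D220665
theorem N117407 : nd 117407 = n220666 := ndS (p := 91179) (l := 4) rfl N91179 D220666
theorem N117408 : nd 117408 = n220667 := ndS (p := 91185) (l := 0) rfl N91185 D220667
theorem N117409 : nd 117409 = n220668 := ndS (p := 91188) (l := 5) rfl N91188 D220668
theorem N117410 : nd 117410 = n220669 := ndS (p := 91190) (l := 4) rfl N91190 D220669
theorem N117411 : nd 117411 = n220670 := ndS (p := 91195) (l := 6) rfl N91195 D220670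
theorem N117412 : nd 117412 = n220671 := ndS (p := 91199) (l := 7) rfl N91199 D220671
theorem N117413 : nd 117413 = n220672 := ndS (p := 91205) (l := 1) rfl N91205 D220672
theorem N117414 : nd 117414 = n220673 := ndS (p := 91211) (l := 5) rfl N91211 D220673
theorem N117415 : nd 117415 = n220674 := ndS (p := 91219) (l := 4) rfl N91219 D220674
theorem N117416 : nd 117416 = n220675 := ndS (p := 91219) (l := 6) rfl N91219 D220675
theorem N117417 : nd 117417 = n220676 := ndS (p := 91221) (l := 4) rfl N91221 D220676
theorem N117418 : nd 117418 = n220677 := ndS (p := 91222) (l := 5) rfl N91222 D220677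
theorem N117419 : nd 117419 = n220678 := ndS (p := 91230) (l := 1) rfl N91230 D220678
theorem N117420 : nd 117420 = n220679 := ndS (p := 91230) (l := 7) rfl N91230 D220679
theorem N117421 : nd 117421 = n220680 := ndS (p := 91233) (l := 3) rfl N91233 D220680
theorem N117422 : nd 117422 = n220681 := ndS (p := 91233) (l := 6) rfl N91233 D220681
theorem N117423 : nd 117423 = n220682 := ndS (p := 91235) (l := 6) rfl N91235 D220682
theorem N117424 : nd 117424 = n220683 := ndS (p := 91236) (l := 5) rfl N91236 D220683
theorem N117425 : nd 117425 = n220684 := ndS (p := 91236) (l := 7) rfl N91236 D220684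
theorem N117426 : nd 117426 = n220685 := ndS (p := 91237) (l := 3) rfl N91237 D220685
theorem N117427 : nd 117427 = n220686 := ndS (p := 91237) (l := 5) rfl N91237 D220686
theorem N117428 : nd 117428 = n220687 := ndS (p := 91239) (l := 4) rfl N91239 D220687
theorem N117429 : nd 117429 = n220688 := ndS (p := 91241) (l := 3) rfl N91241 D220688
theorem N117430 : nd 117430 = n220689 := ndS (p := 91241) (l := 5) rfl N91241 D220689
theorem N117431 : nd 117431 = n220690 := ndS (p := 91242) (l := 5) rfl N91242 D220690
theorem N117432 : nd 117432 = n220691 := ndS (p := 91242) (l := 6) rfl N91242 D220691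
theorem N117433 : nd 117433 = n220692 := ndS (p := 91245) (l := 6) rfl N91245 D220692
theorem N117434 : nd 117434 = n220693 := ndS (p := 91249) (l := 5) rfl N91249 D220693
theorem N117435 : nd 117435 = n220694 := ndS (p := 91256) (l := 5) rfl N91256 D220694
theorem N117436 : nd 117436 = n220695 := ndS (p := 91258) (l := 6) rfl N91258 D220695
theorem N117437 : nd 117437 = n220696 := ndS (p := 91260) (l := 3) rfl N91260 D220696
theorem N117438 : nd 117438 = n220697 := ndS (p := 91260) (l := 5) rfl N91260 D220697
theorem N117439 : nd 117439 = n220698 := ndS (p := 91263) (l := 5) rfl N91263 D220698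
theorem N117440 : nd 117440 = n220699 := ndS (p := 91265) (l := 5) rfl N91265 D220699
theorem N117441 : nd 117441 = n220700 := ndS (p := 91276) (l := 5) rfl N91276 D220700
theorem N117442 : nd 117442 = n220701 := ndS (p := 91280) (l := 6) rfl N91280 D220701
theorem N117443 : nd 117443 = n220702 := ndS (p := 91288) (l := 6) rfl N91288 D220702
theorem N117444 : nd 117444 = n220703 := ndS (p := 91301) (l := 6) rfl N91301 D220703
theorem N117445 : nd 117445 = n220704 := ndS (p := 91302) (l := 6) rfl N91302 D220704
theorem N117446 : nd 117446 = n220705 := ndS (p := 91323) (l := 6) rfl N91323 D220705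
theorem N117447 : nd 117447 = n220706 := ndS (p := 91325) (l := 5) rfl N91325 D220706
theorem N117448 : nd 117448 = n220707 := ndS (p := 91338) (l := 6) rfl N91338 D220707
theorem N117449 : nd 117449 = n220708 := ndS (p := 91343) (l := 5) rfl N91343 D220708
theorem N117450 : nd 117450 = n220709 := ndS (p := 91346) (l := 5) rfl N91346 D220709
theorem N117451 : nd 117451 = n220710 := ndS (p := 91346) (l := 6) rfl N91346 D220710
theorem N117452 : nd 117452 = n220711 := ndS (p := 91348) (l := 5) rfl N91348 D220711
theorem N117453 : nd 117453 = n220712 := ndS (p := 91349) (l := 3) rfl N91349 D220712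
theorem N117454 : nd 117454 = n220713 := ndS (p := 91349) (l := 5) rfl N91349 D220713
theorem N117455 : nd 117455 = n220714 := ndS (p := 91350) (l := 0) rfl N91350 D220714
theorem N117456 : nd 117456 = n220715 := ndS (p := 91350) (l := 6) rfl N91350 D220715
theorem N117457 : nd 117457 = n220716 := ndS (p := 91351) (l := 0) rfl N91351 D220716
theorem N117458 : nd 117458 = n220717 := ndS (p := 91351) (l := 5) rfl N91351 D220717
theorem N117459 : nd 117459 = n220718 := ndS (p := 91352) (l := 1) rfl N91352 D220718
theorem N117460 : nd 117460 = n220719 := ndS (p := 91353) (l := 3) rfl N91353 D220719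
theorem N117461 : nd 117461 = n220720 := ndS (p := 91366) (l := 5) rfl N91366 D220720
theorem N117462 : nd 117462 = n220721 := ndS (p := 91370) (l := 5) rfl N91370 D220721
theorem N117463 : nd 117463 = n220722 := ndS (p := 91372) (l := 1) rfl N91372 D220722
theorem N117464 : nd 117464 = n220723 := ndS (p := 91372) (l := 7) rfl N91372 D220723
theorem N117465 : nd 117465 = n220724 := ndS (p := 91376) (l := 6) rfl N91376 D220724
theorem N117466 : nd 117466 = n220725 := ndS (p := 91377) (l := 1) rfl N91377 D220725
theorem N117467 : nd 117467 = n220726 := ndS (p := 91377) (l := 7) rfl N91377 D220726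
theorem N117468 : nd 117468 = n220727 := ndS (p := 91382) (l := 4) rfl N91382 D220727
theorem N117469 : nd 117469 = n220728 := ndS (p := 91392) (l := 1) rfl N91392 D220728
theorem N117470 : nd 117470 = n220729 := ndS (p := 91392) (l := 6) rfl N91392 D220729
theorem N117471 : nd 117471 = n220730 := ndS (p := 91401) (l := 4) rfl N91401 D220730
theorem N117472 : nd 117472 = n220731 := ndS (p := 91406) (l := 1) rfl N91406 D220731
theorem N117473 : nd 117473 = n220732 := ndS (p := 91409) (l := 0) rfl N91409 D220732
theorem N117474 : nd 117474 = n220733 := ndS (p := 91426) (l := 5) rfl N91426 D220733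
theorem N117475 : nd 117475 = n220734 := ndS (p := 91431) (l := 3) rfl N91431 D220734
theorem N117476 : nd 117476 = n220735 := ndS (p := 91440) (l := 6) rfl N91440 D220735
theorem N117477 : nd 117477 = n220736 := ndS (p := 91443) (l := 0) rfl N91443 D220736
theorem N117478 : nd 117478 = n220737 := ndS (p := 91443) (l := 1) rfl N91443 D220737
theorem N117479 : nd 117479 = n220738 := ndS (p := 91443) (l := 7) rfl N91443 D220738
theorem N117480 : nd 117480 = n220739 := ndS (p := 91446) (l := 7) rfl N91446 D220739
theorem N117481 : nd 117481 = n220740 := ndS (p := 91449) (l := 0) rfl N91449 D220740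
theorem N117482 : nd 117482 = n220741 := ndS (p := 91450) (l := 0) rfl N91450 D220741
theorem N117483 : nd 117483 = n220742 := ndS (p := 91456) (l := 3) rfl N91456 D220742
theorem N117484 : nd 117484 = n220743 := ndS (p := 91458) (l := 5) rfl N91458 D220743
theorem N117485 : nd 117485 = n220744 := ndS (p := 91463) (l := 0) rfl N91463 D220744
theorem N117486 : nd 117486 = n220745 := ndS (p := 91464) (l := 3) rfl N91464 D220745
theorem N117487 : nd 117487 = n220746 := ndS (p := 91464) (l := 5) rfl N91464 D220746
theorem N117488 : nd 117488 = n220747 := ndS (p := 91464) (l := 6) rfl N91464 D220747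
theorem N117489 : nd 117489 = n220748 := ndS (p := 91467) (l := 5) rfl N91467 D220748
theorem N117490 : nd 117490 = n220749 := ndS (p := 91468) (l := 0) rfl N91468 D220749
theorem N117491 : nd 117491 = n220750 := ndS (p := 91468) (l := 1) rfl N91468 D220750
theorem N117492 : nd 117492 = n220751 := ndS (p := 91468) (l := 5) rfl N91468 D220751
theorem N117493 : nd 117493 = n220752 := ndS (p := 91468) (l := 7) rfl N91468 D220752
theorem N117494 : nd 117494 = n220753 := ndS (p := 91469) (l := 1) rfl N91469 D220753
theorem N117495 : nd 117495 = n220754 := ndS (p := 91475) (l := 5) rfl N91475 D220754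
theorem N117496 : nd 117496 = n220755 := ndS (p := 91477) (l := 5) rfl N91477 D220755
theorem N117497 : nd 117497 = n220756 := ndS (p := 91477) (l := 6) rfl N91477 D220756
theorem N117498 : nd 117498 = n220757 := ndS (p := 91478) (l := 2) rfl N91478 D220757
theorem N117499 : nd 117499 = n220758 := ndS (p := 91478) (l := 7) rfl N91478 D220758
theorem N117500 : nd 117500 = n220759 := ndS (p := 91479) (l := 4) rfl N91479 D220759
theorem N117501 : nd 117501 = n220760 := ndS (p := 91480) (l := 6) rfl N91480 D220760
theorem N117502 : nd 117502 = n220761 := ndS (p := 91482) (l := 4) rfl N91482 D220761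
theorem N117503 : nd 117503 = n220762 := ndS (p := 91483) (l := 4) rfl N91483 D220762
theorem N117504 : nd 117504 = n220763 := ndS (p := 91490) (l := 1) rfl N91490 D220763
theorem N117505 : nd 117505 = n220764 := ndS (p := 91494) (l := 3) rfl N91494 D220764
theorem N117506 : nd 117506 = n220765 := ndS (p := 91496) (l := 5) rfl N91496 D220765
theorem N117507 : nd 117507 = n220766 := ndS (p := 91496) (l := 7) rfl N91496 D220766
theorem N117508 : nd 117508 = n220767 := ndS (p := 91497) (l := 3) rfl N91497 D220767
theorem N117509 : nd 117509 = n220768 := ndS (p := 91509) (l := 5) rfl N91509 D220768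
theorem N117510 : nd 117510 = n220769 := ndS (p := 91511) (l := 4) rfl N91511 D220769
theorem N117511 : nd 117511 = n220770 := ndS (p := 91518) (l := 6) rfl N91518 D220770
theorem N117512 : nd 117512 = n220771 := ndS (p := 91520) (l := 5) rfl N91520 D220771
theorem N117513 : nd 117513 = n220772 := ndS (p := 91522) (l := 6) rfl N91522 D220772
theorem N117514 : nd 117514 = n220773 := ndS (p := 91530) (l := 0) rfl N91530 D220773
theorem N117515 : nd 117515 = n220774 := ndS (p := 91532) (l := 0) rfl N91532 D220774
theorem N117516 : nd 117516 = n220775 := ndS (p := 91532) (l := 7) rfl N91532 D220775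
theorem N117517 : nd 117517 = n220776 := ndS (p := 91537) (l := 5) rfl N91537 D220776
theorem N117518 : nd 117518 = n220777 := ndS (p := 91538) (l := 4) rfl N91538 D220777
theorem N117519 : nd 117519 = n220778 := ndS (p := 91539) (l := 5) rfl N91539 D220778
theorem N117520 : nd 117520 = n220779 := ndS (p := 91542) (l := 3) rfl N91542 D220779
theorem N117521 : nd 117521 = n220780 := ndS (p := 91544) (l := 3) rfl N91544 D220780
theorem N117522 : nd 117522 = n220781 := ndS (p := 91544) (l := 5) rfl N91544 D220781
theorem N117523 : nd 117523 = n220782 := ndS (p := 91545) (l := 5) rfl N91545 D220782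
theorem N117524 : nd 117524 = n220783 := ndS (p := 91550) (l := 5) rfl N91550 D220783
theorem N117525 : nd 117525 = n220784 := ndS (p := 91550) (l := 6) rfl N91550 D220784
theorem N117526 : nd 117526 = n220785 := ndS (p := 91551) (l := 0) rfl N91551 D220785
theorem N117527 : nd 117527 = n220786 := ndS (p := 91551) (l := 1) rfl N91551 D220786
theorem N117528 : nd 117528 = n220787 := ndS (p := 91552) (l := 5) rfl N91552 D220787
theorem N117529 : nd 117529 = n220788 := ndS (p := 91553) (l := 3) rfl N91553 D220788
theorem N117530 : nd 117530 = n220789 := ndS (p := 91567) (l := 6) rfl N91567 D220789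
theorem N117531 : nd 117531 = n220790 := ndS (p := 91569) (l := 1) rfl N91569 D220790
theorem N117532 : nd 117532 = n220791 := ndS (p := 91570) (l := 5) rfl N91570 D220791
theorem N117533 : nd 117533 = n220792 := ndS (p := 91571) (l := 5) rfl N91571 D220792
theorem N117534 : nd 117534 = n220793 := ndS (p := 91573) (l := 5) rfl N91573 D220793
theorem N117535 : nd 117535 = n220794 := ndS (p := 91573) (l := 7) rfl N91573 D220794
theorem N117536 : nd 117536 = n220795 := ndS (p := 91578) (l := 6) rfl N91578 D220795
theorem N117537 : nd 117537 = n220796 := ndS (p := 91579) (l := 5) rfl N91579 D220796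
theorem N117538 : nd 117538 = n220797 := ndS (p := 91580) (l := 6) rfl N91580 D220797
theorem N117539 : nd 117539 = n220798 := ndS (p := 91581) (l := 0) rfl N91581 D220798
theorem N117540 : nd 117540 = n220799 := ndS (p := 91581) (l := 1) rfl N91581 D220799
theorem N117541 : nd 117541 = n220800 := ndS (p := 91581) (l := 7) rfl N91581 D220800
theorem N117542 : nd 117542 = n220801 := ndS (p := 91585) (l := 0) rfl N91585 D220801
theorem N117543 : nd 117543 = n220802 := ndS (p := 91585) (l := 2) rfl N91585 D220802
theorem N117544 : nd 117544 = n220803 := ndS (p := 91585) (l := 6) rfl N91585 D220803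
theorem N117545 : nd 117545 = n220804 := ndS (p := 91586) (l := 5) rfl N91586 D220804
theorem N117546 : nd 117546 = n220805 := ndS (p := 91587) (l := 0) rfl N91587 D220805
theorem N117547 : nd 117547 = n220806 := ndS (p := 91587) (l := 1) rfl N91587 D220806
theorem N117548 : nd 117548 = n220807 := ndS (p := 91587) (l := 2) rfl N91587 D220807
theorem N117549 : nd 117549 = n220808 := ndS (p := 91592) (l := 4) rfl N91592 D220808
theorem N117550 : nd 117550 = n220809 := ndS (p := 91596) (l := 3) rfl N91596 D220809
theorem N117551 : nd 117551 = n220810 := ndS (p := 91596) (l := 5) rfl N91596 D220810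
theorem N117552 : nd 117552 = n220811 := ndS (p := 91596) (l := 6) rfl N91596 D220811
theorem N117553 : nd 117553 = n220812 := ndS (p := 91597) (l := 5) rfl N91597 D220812
theorem N117554 : nd 117554 = n220813 := ndS (p := 91598) (l := 0) rfl N91598 D220813
theorem N117555 : nd 117555 = n220814 := ndS (p := 91598) (l := 4) rfl N91598 D220814
theorem N117556 : nd 117556 = n220815 := ndS (p := 91604) (l := 0) rfl N91604 D220815
theorem N117557 : nd 117557 = n220816 := ndS (p := 91604) (l := 2) rfl N91604 D220816
theorem N117558 : nd 117558 = n220817 := ndS (p := 91608) (l := 6) rfl N91608 D220817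
theorem N117559 : nd 117559 = n220818 := ndS (p := 91615) (l := 0) rfl N91615 D220818
theorem N117560 : nd 117560 = n220819 := ndS (p := 91618) (l := 6) rfl N91618 D220819
theorem N117561 : nd 117561 = n220820 := ndS (p := 91628) (l := 6) rfl N91628 D220820
theorem N117562 : nd 117562 = n220821 := ndS (p := 91631) (l := 1) rfl N91631 D220821
theorem N117563 : nd 117563 = n220822 := ndS (p := 91631) (l := 7) rfl N91631 D220822
theorem N117564 : nd 117564 = n220823 := ndS (p := 91635) (l := 0) rfl N91635 D220823
theorem N117565 : nd 117565 = n220824 := ndS (p := 91635) (l := 1) rfl N91635 D220824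
theorem N117566 : nd 117566 = n220825 := ndS (p := 91635) (l := 2) rfl N91635 D220825
theorem N117567 : nd 117567 = n220826 := ndS (p := 91635) (l := 6) rfl N91635 D220826
theorem N117568 : nd 117568 = n220827 := ndS (p := 91636) (l := 5) rfl N91636 D220827
theorem N117569 : nd 117569 = n220828 := ndS (p := 91636) (l := 7) rfl N91636 D220828
theorem N117570 : nd 117570 = n220829 := ndS (p := 91637) (l := 5) rfl N91637 D220829
theorem N117571 : nd 117571 = n220830 := ndS (p := 91640) (l := 0) rfl N91640 D220830
theorem N117572 : nd 117572 = n220831 := ndS (p := 91640) (l := 1) rfl N91640 D220831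
theorem N117573 : nd 117573 = n220832 := ndS (p := 91640) (l := 2) rfl N91640 D220832
theorem N117574 : nd 117574 = n220833 := ndS (p := 91647) (l := 5) rfl N91647 D220833
theorem N117575 : nd 117575 = n220834 := ndS (p := 91648) (l := 6) rfl N91648 D220834
theorem N117576 : nd 117576 = n220835 := ndS (p := 91655) (l := 0) rfl N91655 D220835
theorem N117577 : nd 117577 = n220836 := ndS (p := 91655) (l := 1) rfl N91655 D220836
theorem N117578 : nd 117578 = n220837 := ndS (p := 91655) (l := 7) rfl N91655 D220837
theorem N117579 : nd 117579 = n220838 := ndS (p := 91658) (l := 0) rfl N91658 D220838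
theorem N117580 : nd 117580 = n220839 := ndS (p := 91658) (l := 7) rfl N91658 D220839
theorem N117581 : nd 117581 = n220840 := ndS (p := 91660) (l := 6) rfl N91660 D220840
theorem N117582 : nd 117582 = n220841 := ndS (p := 91663) (l := 1) rfl N91663 D220841
theorem N117583 : nd 117583 = n220842 := ndS (p := 91663) (l := 4) rfl N91663 D220842
theorem N117584 : nd 117584 = n220843 := ndS (p := 91664) (l := 3) rfl N91664 D220843
theorem N117585 : nd 117585 = n220844 := ndS (p := 91665) (l := 3) rfl N91665 D220844
theorem N117586 : nd 117586 = n220845 := ndS (p := 91665) (l := 5) rfl N91665 D220845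
theorem N117587 : nd 117587 = n220846 := ndS (p := 91666) (l := 3) rfl N91666 D220846
theorem N117588 : nd 117588 = n220847 := ndS (p := 91672) (l := 3) rfl N91672 D220847
theorem N117589 : nd 117589 = n220848 := ndS (p := 91682) (l := 6) rfl N91682 D220848
theorem N117590 : nd 117590 = n220849 := ndS (p := 91684) (l := 6) rfl N91684 D220849
theorem N117591 : nd 117591 = n220850 := ndS (p := 91685) (l := 6) rfl N91685 D220850
theorem N117592 : nd 117592 = n220851 := ndS (p := 91688) (l := 4) rfl N91688 D220851
theorem N117593 : nd 117593 = n220852 := ndS (p := 91699) (l := 5) rfl N91699 D220852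
theorem N117594 : nd 117594 = n220853 := ndS (p := 91699) (l := 7) rfl N91699 D220853
theorem N117595 : nd 117595 = n220854 := ndS (p := 91701) (l := 3) rfl N91701 D220854
theorem N117596 : nd 117596 = n220855 := ndS (p := 91702) (l := 1) rfl N91702 D220855
theorem N117597 : nd 117597 = n220856 := ndS (p := 91718) (l := 5) rfl N91718 D220856
theorem N117598 : nd 117598 = n220857 := ndS (p := 91737) (l := 1) rfl N91737 D220857
theorem N117599 : nd 117599 = n220858 := ndS (p := 91741) (l := 1) rfl N91741 D220858
theorem N117600 : nd 117600 = n220859 := ndS (p := 91741) (l := 6) rfl N91741 D220859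
theorem N117601 : nd 117601 = n220860 := ndS (p := 91742) (l := 7) rfl N91742 D220860
theorem N117602 : nd 117602 = n220861 := ndS (p := 91743) (l := 5) rfl N91743 D220861
theorem N117603 : nd 117603 = n220862 := ndS (p := 91746) (l := 6) rfl N91746 D220862
theorem N117604 : nd 117604 = n220863 := ndS (p := 91752) (l := 3) rfl N91752 D220863
theorem N117605 : nd 117605 = n220864 := ndS (p := 91754) (l := 5) rfl N91754 D220864
theorem N117606 : nd 117606 = n220865 := ndS (p := 91755) (l := 1) rfl N91755 D220865
theorem N117607 : nd 117607 = n220866 := ndS (p := 91756) (l := 4) rfl N91756 D220866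
theorem N117608 : nd 117608 = n220867 := ndS (p := 91756) (l := 6) rfl N91756 D220867
theorem N117609 : nd 117609 = n220868 := ndS (p := 91757) (l := 4) rfl N91757 D220868
theorem N117610 : nd 117610 = n220869 := ndS (p := 91757) (l := 6) rfl N91757 D220869
theorem N117611 : nd 117611 = n220870 := ndS (p := 91758) (l := 3) rfl N91758 D220870
theorem N117612 : nd 117612 = n220871 := ndS (p := 91758) (l := 4) rfl N91758 D220871
theorem N117613 : nd 117613 = n220872 := ndS (p := 91761) (l := 4) rfl N91761 D220872
theorem N117614 : nd 117614 = n220873 := ndS (p := 91762) (l := 5) rfl N91762 D220873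
theorem N117615 : nd 117615 = n220874 := ndS (p := 91762) (l := 6) rfl N91762 D220874
theorem N117616 : nd 117616 = n220875 := ndS (p := 91764) (l := 3) rfl N91764 D220875
theorem N117617 : nd 117617 = n220876 := ndS (p := 91768) (l := 5) rfl N91768 D220876
theorem N117618 : nd 117618 = n220877 := ndS (p := 91770) (l := 5) rfl N91770 D220877
theorem N117619 : nd 117619 = n220878 := ndS (p := 91771) (l := 5) rfl N91771 D220878
theorem N117620 : nd 117620 = n220879 := ndS (p := 91772) (l := 0) rfl N91772 D220879
theorem N117621 : nd 117621 = n220880 := ndS (p := 91772) (l := 1) rfl N91772 D220880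
theorem N117622 : nd 117622 = n220881 := ndS (p := 91775) (l := 4) rfl N91775 D220881
theorem N117623 : nd 117623 = n220882 := ndS (p := 91777) (l := 2) rfl N91777 D220882
theorem N117624 : nd 117624 = n220883 := ndS (p := 91777) (l := 4) rfl N91777 D220883
theorem N117625 : nd 117625 = n220884 := ndS (p := 91777) (l := 5) rfl N91777 D220884
theorem N117626 : nd 117626 = n220885 := ndS (p := 91788) (l := 0) rfl N91788 D220885
theorem N117627 : nd 117627 = n220886 := ndS (p := 91790) (l := 5) rfl N91790 D220886
theorem N117628 : nd 117628 = n220887 := ndS (p := 91797) (l := 6) rfl N91797 D220887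
theorem N117629 : nd 117629 = n220888 := ndS (p := 91798) (l := 0) rfl N91798 D220888
theorem N117630 : nd 117630 = n220889 := ndS (p := 91798) (l := 1) rfl N91798 D220889
theorem N117631 : nd 117631 = n220890 := ndS (p := 91806) (l := 0) rfl N91806 D220890
theorem N117632 : nd 117632 = n220891 := ndS (p := 91811) (l := 1) rfl N91811 D220891
theorem N117633 : nd 117633 = n220892 := ndS (p := 91819) (l := 4) rfl N91819 D220892
theorem N117634 : nd 117634 = n220893 := ndS (p := 91820) (l := 4) rfl N91820 D220893
theorem N117635 : nd 117635 = n220894 := ndS (p := 91820) (l := 6) rfl N91820 D220894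
theorem N117636 : nd 117636 = n220895 := ndS (p := 91834) (l := 3) rfl N91834 D220895
theorem N117637 : nd 117637 = n220896 := ndS (p := 91834) (l := 5) rfl N91834 D220896
theorem N117638 : nd 117638 = n220897 := ndS (p := 91860) (l := 4) rfl N91860 D220897
theorem N117639 : nd 117639 = n220898 := ndS (p := 91862) (l := 1) rfl N91862 D220898
theorem N117640 : nd 117640 = n220899 := ndS (p := 91865) (l := 6) rfl N91865 D220899
theorem N117641 : nd 117641 = n220900 := ndS (p := 91866) (l := 2) rfl N91866 D220900
theorem N117642 : nd 117642 = n220901 := ndS (p := 91866) (l := 5) rfl N91866 D220901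
theorem N117643 : nd 117643 = n220902 := ndS (p := 91868) (l := 0) rfl N91868 D220902
theorem N117644 : nd 117644 = n220903 := ndS (p := 91868) (l := 5) rfl N91868 D220903
theorem N117645 : nd 117645 = n220904 := ndS (p := 91869) (l := 3) rfl N91869 D220904
theorem N117646 : nd 117646 = n220905 := ndS (p := 91869) (l := 6) rfl N91869 D220905
theorem N117647 : nd 117647 = n220906 := ndS (p := 91878) (l := 5) rfl N91878 D220906
theorem N117648 : nd 117648 = n220907 := ndS (p := 91884) (l := 5) rfl N91884 D220907
theorem N117649 : nd 117649 = n220908 := ndS (p := 91888) (l := 6) rfl N91888 D220908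
theorem N117650 : nd 117650 = n220909 := ndS (p := 91891) (l := 4) rfl N91891 D220909
theorem N117651 : nd 117651 = n220910 := ndS (p := 91895) (l := 4) rfl N91895 D220910
theorem N117652 : nd 117652 = n220911 := ndS (p := 91895) (l := 6) rfl N91895 D220911
theorem N117653 : nd 117653 = n220912 := ndS (p := 91896) (l := 3) rfl N91896 D220912
theorem N117654 : nd 117654 = n220913 := ndS (p := 91896) (l := 4) rfl N91896 D220913
theorem N117655 : nd 117655 = n220914 := ndS (p := 91896) (l := 6) rfl N91896 D220914
theorem N117656 : nd 117656 = n220915 := ndS (p := 91897) (l := 0) rfl N91897 D220915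
theorem N117657 : nd 117657 = n220916 := ndS (p := 91897) (l := 1) rfl N91897 D220916
theorem N117658 : nd 117658 = n220917 := ndS (p := 91899) (l := 4) rfl N91899 D220917
theorem N117659 : nd 117659 = n220918 := ndS (p := 91911) (l := 6) rfl N91911 D220918
theorem N117660 : nd 117660 = n220919 := ndS (p := 91912) (l := 0) rfl N91912 D220919
theorem N117661 : nd 117661 = n220920 := ndS (p := 91912) (l := 1) rfl N91912 D220920
theorem N117662 : nd 117662 = n220921 := ndS (p := 91917) (l := 2) rfl N91917 D220921
theorem N117663 : nd 117663 = n220922 := ndS (p := 91921) (l := 3) rfl N91921 D220922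
theorem N117664 : nd 117664 = n220923 := ndS (p := 91921) (l := 5) rfl N91921 D220923
theorem N117665 : nd 117665 = n220924 := ndS (p := 91924) (l := 0) rfl N91924 D220924
theorem N117666 : nd 117666 = n220925 := ndS (p := 91931) (l := 0) rfl N91931 D220925
theorem N117667 : nd 117667 = n220926 := ndS (p := 91931) (l := 1) rfl N91931 D220926
theorem N117668 : nd 117668 = n220927 := ndS (p := 91932) (l := 1) rfl N91932 D220927
theorem N117669 : nd 117669 = n220928 := ndS (p := 91933) (l := 5) rfl N91933 D220928
theorem N117670 : nd 117670 = n220929 := ndS (p := 91950) (l := 6) rfl N91950 D220929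
theorem N117671 : nd 117671 = n220930 := ndS (p := 91957) (l := 7) rfl N91957 D220930
theorem N117672 : nd 117672 = n220931 := ndS (p := 91959) (l := 6) rfl N91959 D220931
theorem N117673 : nd 117673 = n220932 := ndS (p := 91970) (l := 5) rfl N91970 D220932
theorem N117674 : nd 117674 = n220933 := ndS (p := 91975) (l := 0) rfl N91975 D220933
theorem N117675 : nd 117675 = n220934 := ndS (p := 91975) (l := 1) rfl N91975 D220934
theorem N117676 : nd 117676 = n220935 := ndS (p := 91987) (l := 5) rfl N91987 D220935
theorem N117677 : nd 117677 = n220936 := ndS (p := 91991) (l := 4) rfl N91991 D220936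
theorem N117678 : nd 117678 = n220937 := ndS (p := 91991) (l := 6) rfl N91991 D220937
theorem N117679 : nd 117679 = n220938 := ndS (p := 91992) (l := 0) rfl N91992 D220938
theorem N117680 : nd 117680 = n220939 := ndS (p := 91992) (l := 1) rfl N91992 D220939
theorem N117681 : nd 117681 = n220940 := ndS (p := 91997) (l := 4) rfl N91997 D220940
theorem N117682 : nd 117682 = n220941 := ndS (p := 92008) (l := 6) rfl N92008 D220941
theorem N117683 : nd 117683 = n220942 := ndS (p := 92015) (l := 6) rfl N92015 D220942
theorem N117684 : nd 117684 = n220943 := ndS (p := 92024) (l := 4) rfl N92024 D220943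
theorem N117685 : nd 117685 = n220944 := ndS (p := 92024) (l := 5) rfl N92024 D220944
theorem N117686 : nd 117686 = n220945 := ndS (p := 92028) (l := 3) rfl N92028 D220945
theorem N117687 : nd 117687 = n220946 := ndS (p := 92043) (l := 6) rfl N92043 D220946
theorem N117688 : nd 117688 = n220947 := ndS (p := 92044) (l := 3) rfl N92044 D220947
theorem N117689 : nd 117689 = n220948 := ndS (p := 92044) (l := 6) rfl N92044 D220948
theorem N117690 : nd 117690 = n220949 := ndS (p := 92055) (l := 6) rfl N92055 D220949
theorem N117691 : nd 117691 = n220950 := ndS (p := 92057) (l := 7) rfl N92057 D220950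
theorem N117692 : nd 117692 = n220951 := ndS (p := 92064) (l := 3) rfl N92064 D220951
theorem N117693 : nd 117693 = n220952 := ndS (p := 92064) (l := 5) rfl N92064 D220952
theorem N117694 : nd 117694 = n220953 := ndS (p := 92064) (l := 7) rfl N92064 D220953
theorem N117695 : nd 117695 = n220954 := ndS (p := 92066) (l := 5) rfl N92066 D220954
theorem N117696 : nd 117696 = n220955 := ndS (p := 92069) (l := 5) rfl N92069 D220955
theorem N117697 : nd 117697 = n220956 := ndS (p := 92077) (l := 1) rfl N92077 D220956
theorem N117698 : nd 117698 = n220957 := ndS (p := 92079) (l := 6) rfl N92079 D220957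
theorem N117699 : nd 117699 = n220958 := ndS (p := 92085) (l := 5) rfl N92085 D220958
theorem N117700 : nd 117700 = n220959 := ndS (p := 92086) (l := 5) rfl N92086 D220959
theorem N117701 : nd 117701 = n220960 := ndS (p := 92093) (l := 5) rfl N92093 D220960
theorem N117702 : nd 117702 = n220961 := ndS (p := 92094) (l := 7) rfl N92094 D220961
theorem N117703 : nd 117703 = n220962 := ndS (p := 92100) (l := 2) rfl N92100 D220962
theorem N117704 : nd 117704 = n220963 := ndS (p := 92101) (l := 2) rfl N92101 D220963
theorem N117705 : nd 117705 = n220964 := ndS (p := 92105) (l := 2) rfl N92105 D220964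
theorem N117706 : nd 117706 = n220965 := ndS (p := 92105) (l := 4) rfl N92105 D220965
theorem N117707 : nd 117707 = n220966 := ndS (p := 92106) (l := 4) rfl N92106 D220966
theorem N117708 : nd 117708 = n220967 := ndS (p := 92108) (l := 4) rfl N92108 D220967
theorem N117709 : nd 117709 = n220968 := ndS (p := 92111) (l := 6) rfl N92111 D220968
theorem N117710 : nd 117710 = n220969 := ndS (p := 92119) (l := 0) rfl N92119 D220969
theorem N117711 : nd 117711 = n220970 := ndS (p := 92121) (l := 4) rfl N92121 D220970
theorem N117712 : nd 117712 = n220971 := ndS (p := 92121) (l := 6) rfl N92121 D220971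
theorem N117713 : nd 117713 = n220972 := ndS (p := 92123) (l := 1) rfl N92123 D220972
theorem N117714 : nd 117714 = n220973 := ndS (p := 92124) (l := 4) rfl N92124 D220973
theorem N117715 : nd 117715 = n220974 := ndS (p := 92125) (l := 7) rfl N92125 D220974
theorem N117716 : nd 117716 = n220975 := ndS (p := 92126) (l := 3) rfl N92126 D220975
theorem N117717 : nd 117717 = n220976 := ndS (p := 92126) (l := 5) rfl N92126 D220976
theorem N117718 : nd 117718 = n220977 := ndS (p := 92126) (l := 7) rfl N92126 D220977
theorem N117719 : nd 117719 = n220978 := ndS (p := 92128) (l := 1) rfl N92128 D220978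
theorem N117720 : nd 117720 = n220979 := ndS (p := 92128) (l := 2) rfl N92128 D220979
theorem N117721 : nd 117721 = n220980 := ndS (p := 92131) (l := 5) rfl N92131 D220980
theorem N117722 : nd 117722 = n220981 := ndS (p := 92131) (l := 7) rfl N92131 D220981
theorem N117723 : nd 117723 = n220982 := ndS (p := 92141) (l := 6) rfl N92141 D220982
theorem N117724 : nd 117724 = n220983 := ndS (p := 92142) (l := 1) rfl N92142 D220983
theorem N117725 : nd 117725 = n220984 := ndS (p := 92142) (l := 5) rfl N92142 D220984
theorem N117726 : nd 117726 = n220985 := ndS (p := 92142) (l := 7) rfl N92142 D220985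
theorem N117727 : nd 117727 = n220986 := ndS (p := 92143) (l := 5) rfl N92143 D220986
theorem N117728 : nd 117728 = n220987 := ndS (p := 92146) (l := 4) rfl N92146 D220987
theorem N117729 : nd 117729 = n220988 := ndS (p := 92146) (l := 6) rfl N92146 D220988
theorem N117730 : nd 117730 = n220989 := ndS (p := 92149) (l := 5) rfl N92149 D220989
theorem N117731 : nd 117731 = n220990 := ndS (p := 92152) (l := 4) rfl N92152 D220990
theorem N117732 : nd 117732 = n220991 := ndS (p := 92155) (l := 0) rfl N92155 D220991
theorem N117733 : nd 117733 = n220992 := ndS (p := 92155) (l := 5) rfl N92155 D220992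
theorem N117734 : nd 117734 = n220993 := ndS (p := 92156) (l := 5) rfl N92156 D220993
theorem N117735 : nd 117735 = n220994 := ndS (p := 92164) (l := 4) rfl N92164 D220994
theorem N117736 : nd 117736 = n220995 := ndS (p := 92168) (l := 5) rfl N92168 D220995
theorem N117737 : nd 117737 = n220996 := ndS (p := 92176) (l := 6) rfl N92176 D220996
theorem N117738 : nd 117738 = n220997 := ndS (p := 92177) (l := 1) rfl N92177 D220997
theorem N117739 : nd 117739 = n220998 := ndS (p := 92188) (l := 4) rfl N92188 D220998
theorem N117740 : nd 117740 = n220999 := ndS (p := 92204) (l := 4) rfl N92204 D220999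
theorem N117741 : nd 117741 = n221000 := ndS (p := 92211) (l := 4) rfl N92211 D221000
theorem N117742 : nd 117742 = n221001 := ndS (p := 92214) (l := 6) rfl N92214 D221001
theorem N117743 : nd 117743 = n221002 := ndS (p := 92217) (l := 4) rfl N92217 D221002
theorem N117744 : nd 117744 = n221003 := ndS (p := 92221) (l := 5) rfl N92221 D221003
theorem N117745 : nd 117745 = n221004 := ndS (p := 92222) (l := 3) rfl N92222 D221004
theorem N117746 : nd 117746 = n221005 := ndS (p := 92223) (l := 4) rfl N92223 D221005
theorem N117747 : nd 117747 = n221006 := ndS (p := 92227) (l := 5) rfl N92227 D221006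
theorem N117748 : nd 117748 = n221007 := ndS (p := 92232) (l := 5) rfl N92232 D221007
theorem N117749 : nd 117749 = n221008 := ndS (p := 92241) (l := 3) rfl N92241 D221008
theorem N117750 : nd 117750 = n221009 := ndS (p := 92250) (l := 6) rfl N92250 D221009
theorem N117751 : nd 117751 = n221010 := ndS (p := 92252) (l := 5) rfl N92252 D221010
theorem N117752 : nd 117752 = n221011 := ndS (p := 92253) (l := 6) rfl N92253 D221011
theorem N117753 : nd 117753 = n221012 := ndS (p := 92256) (l := 4) rfl N92256 D221012
theorem N117754 : nd 117754 = n221013 := ndS (p := 92258) (l := 5) rfl N92258 D221013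
theorem N117755 : nd 117755 = n221014 := ndS (p := 92258) (l := 6) rfl N92258 D221014
theorem N117756 : nd 117756 = n221015 := ndS (p := 92259) (l := 4) rfl N92259 D221015
theorem N117757 : nd 117757 = n221016 := ndS (p := 92259) (l := 6) rfl N92259 D221016
theorem N117758 : nd 117758 = n221017 := ndS (p := 92260) (l := 0) rfl N92260 D221017
theorem N117759 : nd 117759 = n221018 := ndS (p := 92260) (l := 1) rfl N92260 D221018
theorem N117760 : nd 117760 = n221019 := ndS (p := 92260) (l := 7) rfl N92260 D221019
theorem N117761 : nd 117761 = n221020 := ndS (p := 92261) (l := 7) rfl N92261 D221020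
theorem N117762 : nd 117762 = n221021 := ndS (p := 92265) (l := 5) rfl N92265 D221021
theorem N117763 : nd 117763 = n221022 := ndS (p := 92272) (l := 2) rfl N92272 D221022
theorem N117764 : nd 117764 = n221023 := ndS (p := 92272) (l := 4) rfl N92272 D221023
theorem N117765 : nd 117765 = n221024 := ndS (p := 92273) (l := 5) rfl N92273 D221024
theorem N117766 : nd 117766 = n221025 := ndS (p := 92274) (l := 3) rfl N92274 D221025
theorem N117767 : nd 117767 = n221026 := ndS (p := 92274) (l := 6) rfl N92274 D221026
theorem N117768 : nd 117768 = n221027 := ndS (p := 92277) (l := 5) rfl N92277 D221027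
theorem N117769 : nd 117769 = n221028 := ndS (p := 92282) (l := 3) rfl N92282 D221028
theorem N117770 : nd 117770 = n221029 := ndS (p := 92284) (l := 3) rfl N92284 D221029
theorem N117771 : nd 117771 = n221030 := ndS (p := 92285) (l := 0) rfl N92285 D221030
theorem N117772 : nd 117772 = n221031 := ndS (p := 92285) (l := 2) rfl N92285 D221031
theorem N117773 : nd 117773 = n221032 := ndS (p := 92287) (l := 3) rfl N92287 D221032
theorem N117774 : nd 117774 = n221033 := ndS (p := 92288) (l := 6) rfl N92288 D221033
theorem N117775 : nd 117775 = n221034 := ndS (p := 92291) (l := 5) rfl N92291 D221034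
theorem N117776 : nd 117776 = n221035 := ndS (p := 92292) (l := 4) rfl N92292 D221035
theorem N117777 : nd 117777 = n221036 := ndS (p := 92294) (l := 0) rfl N92294 D221036
theorem N117778 : nd 117778 = n221037 := ndS (p := 92294) (l := 5) rfl N92294 D221037
theorem N117779 : nd 117779 = n221038 := ndS (p := 92295) (l := 5) rfl N92295 D221038
theorem N117780 : nd 117780 = n221039 := ndS (p := 92297) (l := 0) rfl N92297 D221039
theorem N117781 : nd 117781 = n221040 := ndS (p := 92297) (l := 1) rfl N92297 D221040
theorem N117782 : nd 117782 = n221041 := ndS (p := 92299) (l := 6) rfl N92299 D221041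
theorem N117783 : nd 117783 = n221042 := ndS (p := 92301) (l := 0) rfl N92301 D221042
theorem N117784 : nd 117784 = n221043 := ndS (p := 92303) (l := 5) rfl N92303 D221043
theorem N117785 : nd 117785 = n221044 := ndS (p := 92308) (l := 3) rfl N92308 D221044
theorem N117786 : nd 117786 = n221045 := ndS (p := 92311) (l := 2) rfl N92311 D221045
theorem N117787 : nd 117787 = n221046 := ndS (p := 92311) (l := 6) rfl N92311 D221046
theorem N117788 : nd 117788 = n221047 := ndS (p := 92314) (l := 5) rfl N92314 D221047
theorem N117789 : nd 117789 = n221048 := ndS (p := 92316) (l := 4) rfl N92316 D221048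
theorem N117790 : nd 117790 = n221049 := ndS (p := 92316) (l := 6) rfl N92316 D221049
theorem N117791 : nd 117791 = n221050 := ndS (p := 92317) (l := 3) rfl N92317 D221050
theorem N117792 : nd 117792 = n221051 := ndS (p := 92317) (l := 4) rfl N92317 D221051
theorem N117793 : nd 117793 = n221052 := ndS (p := 92320) (l := 5) rfl N92320 D221052
theorem N117794 : nd 117794 = n221053 := ndS (p := 92321) (l := 6) rfl N92321 D221053
theorem N117795 : nd 117795 = n221054 := ndS (p := 92325) (l := 6) rfl N92325 D221054
theorem N117796 : nd 117796 = n221055 := ndS (p := 92326) (l := 1) rfl N92326 D221055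
theorem N117797 : nd 117797 = n221056 := ndS (p := 92326) (l := 5) rfl N92326 D221056
theorem N117798 : nd 117798 = n221057 := ndS (p := 92331) (l := 4) rfl N92331 D221057
theorem N117799 : nd 117799 = n221058 := ndS (p := 92334) (l := 3) rfl N92334 D221058
theorem N117800 : nd 117800 = n221059 := ndS (p := 92335) (l := 6) rfl N92335 D221059
theorem N117801 : nd 117801 = n221060 := ndS (p := 92337) (l := 0) rfl N92337 D221060
theorem N117802 : nd 117802 = n221061 := ndS (p := 92337) (l := 1) rfl N92337 D221061
theorem N117803 : nd 117803 = n221062 := ndS (p := 92337) (l := 5) rfl N92337 D221062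
theorem N117804 : nd 117804 = n221063 := ndS (p := 92338) (l := 3) rfl N92338 D221063
theorem N117805 : nd 117805 = n221064 := ndS (p := 92338) (l := 5) rfl N92338 D221064
theorem N117806 : nd 117806 = n221065 := ndS (p := 92341) (l := 3) rfl N92341 D221065
theorem N117807 : nd 117807 = n221066 := ndS (p := 92341) (l := 5) rfl N92341 D221066
theorem N117808 : nd 117808 = n221067 := ndS (p := 92342) (l := 3) rfl N92342 D221067
theorem N117809 : nd 117809 = n221068 := ndS (p := 92342) (l := 5) rfl N92342 D221068
theorem N117810 : nd 117810 = n221069 := ndS (p := 92345) (l := 6) rfl N92345 D221069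
theorem N117811 : nd 117811 = n221070 := ndS (p := 92347) (l := 0) rfl N92347 D221070
theorem N117812 : nd 117812 = n221071 := ndS (p := 92347) (l := 1) rfl N92347 D221071
theorem N117813 : nd 117813 = n221072 := ndS (p := 92347) (l := 5) rfl N92347 D221072
theorem N117814 : nd 117814 = n221073 := ndS (p := 92347) (l := 7) rfl N92347 D221073
theorem N117815 : nd 117815 = n221074 := ndS (p := 92348) (l := 5) rfl N92348 D221074
theorem N117816 : nd 117816 = n221075 := ndS (p := 92349) (l := 0) rfl N92349 D221075
theorem N117817 : nd 117817 = n221076 := ndS (p := 92349) (l := 4) rfl N92349 D221076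
theorem N117818 : nd 117818 = n221077 := ndS (p := 92349) (l := 7) rfl N92349 D221077
theorem N117819 : nd 117819 = n221078 := ndS (p := 92352) (l := 6) rfl N92352 D221078
theorem N117820 : nd 117820 = n221079 := ndS (p := 92353) (l := 6) rfl N92353 D221079
theorem N117821 : nd 117821 = n221080 := ndS (p := 92354) (l := 0) rfl N92354 D221080
theorem N117822 : nd 117822 = n221081 := ndS (p := 92354) (l := 1) rfl N92354 D221081
theorem N117823 : nd 117823 = n221082 := ndS (p := 92354) (l := 5) rfl N92354 D221082
theorem N117824 : nd 117824 = n221083 := ndS (p := 92355) (l := 0) rfl N92355 D221083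
theorem N117825 : nd 117825 = n221084 := ndS (p := 92355) (l := 1) rfl N92355 D221084
theorem N117826 : nd 117826 = n221085 := ndS (p := 92357) (l := 6) rfl N92357 D221085
theorem N117827 : nd 117827 = n221086 := ndS (p := 92358) (l := 0) rfl N92358 D221086
theorem N117828 : nd 117828 = n221087 := ndS (p := 92358) (l := 5) rfl N92358 D221087
theorem N117829 : nd 117829 = n221088 := ndS (p := 92358) (l := 7) rfl N92358 D221088
theorem N117830 : nd 117830 = n221089 := ndS (p := 92360) (l := 1) rfl N92360 D221089
theorem N117831 : nd 117831 = n221090 := ndS (p := 92360) (l := 7) rfl N92360 D221090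
theorem N117832 : nd 117832 = n221091 := ndS (p := 92361) (l := 5) rfl N92361 D221091
theorem N117833 : nd 117833 = n221092 := ndS (p := 92362) (l := 5) rfl N92362 D221092
theorem N117834 : nd 117834 = n221093 := ndS (p := 92363) (l := 4) rfl N92363 D221093
theorem N117835 : nd 117835 = n221094 := ndS (p := 92367) (l := 5) rfl N92367 D221094
theorem N117836 : nd 117836 = n221095 := ndS (p := 92367) (l := 6) rfl N92367 D221095
theorem N117837 : nd 117837 = n221096 := ndS (p := 92373) (l := 4) rfl N92373 D221096
theorem N117838 : nd 117838 = n221097 := ndS (p := 92374) (l := 7) rfl N92374 D221097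
theorem N117839 : nd 117839 = n221098 := ndS (p := 92377) (l := 6) rfl N92377 D221098
theorem N117840 : nd 117840 = n221099 := ndS (p := 92381) (l := 4) rfl N92381 D221099
theorem N117841 : nd 117841 = n221100 := ndS (p := 92381) (l := 6) rfl N92381 D221100
theorem N117842 : nd 117842 = n221101 := ndS (p := 92386) (l := 6) rfl N92386 D221101
theorem N117843 : nd 117843 = n221102 := ndS (p := 92388) (l := 6) rfl N92388 D221102
theorem N117844 : nd 117844 = n221103 := ndS (p := 92389) (l := 1) rfl N92389 D221103
theorem N117845 : nd 117845 = n221104 := ndS (p := 92389) (l := 7) rfl N92389 D221104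
theorem N117846 : nd 117846 = n221105 := ndS (p := 92390) (l := 5) rfl N92390 D221105
theorem N117847 : nd 117847 = n221106 := ndS (p := 92390) (l := 7) rfl N92390 D221106
theorem N117848 : nd 117848 = n221107 := ndS (p := 92391) (l := 3) rfl N92391 D221107
theorem N117849 : nd 117849 = n221108 := ndS (p := 92393) (l := 5) rfl N92393 D221108
theorem N117850 : nd 117850 = n221109 := ndS (p := 92394) (l := 5) rfl N92394 D221109
theorem N117851 : nd 117851 = n221110 := ndS (p := 92396) (l := 1) rfl N92396 D221110
theorem N117852 : nd 117852 = n221111 := ndS (p := 92396) (l := 4) rfl N92396 D221111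
theorem N117853 : nd 117853 = n221112 := ndS (p := 92396) (l := 7) rfl N92396 D221112
theorem N117854 : nd 117854 = n221113 := ndS (p := 92398) (l := 3) rfl N92398 D221113
theorem N117855 : nd 117855 = n221114 := ndS (p := 92398) (l := 5) rfl N92398 D221114
theorem N117856 : nd 117856 = n221115 := ndS (p := 92398) (l := 6) rfl N92398 D221115
theorem N117857 : nd 117857 = n221116 := ndS (p := 92399) (l := 5) rfl N92399 D221116
theorem N117858 : nd 117858 = n221117 := ndS (p := 92399) (l := 6) rfl N92399 D221117
theorem N117859 : nd 117859 = n221118 := ndS (p := 92400) (l := 1) rfl N92400 D221118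
theorem N117860 : nd 117860 = n221119 := ndS (p := 92400) (l := 7) rfl N92400 D221119
theorem N117861 : nd 117861 = n221120 := ndS (p := 92402) (l := 1) rfl N92402 D221120
theorem N117862 : nd 117862 = n221121 := ndS (p := 92402) (l := 4) rfl N92402 D221121
theorem N117863 : nd 117863 = n221122 := ndS (p := 92403) (l := 6) rfl N92403 D221122
theorem N117864 : nd 117864 = n221123 := ndS (p := 92404) (l := 4) rfl N92404 D221123
theorem N117865 : nd 117865 = n221124 := ndS (p := 92404) (l := 6) rfl N92404 D221124
theorem N117866 : nd 117866 = n221125 := ndS (p := 92405) (l := 4) rfl N92405 D221125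
theorem N117867 : nd 117867 = n221126 := ndS (p := 92409) (l := 6) rfl N92409 D221126
theorem N117868 : nd 117868 = n221127 := ndS (p := 92410) (l := 4) rfl N92410 D221127
theorem N117869 : nd 117869 = n221128 := ndS (p := 92412) (l := 6) rfl N92412 D221128
theorem N117870 : nd 117870 = n221129 := ndS (p := 92413) (l := 0) rfl N92413 D221129
theorem N117871 : nd 117871 = n221130 := ndS (p := 92413) (l := 1) rfl N92413 D221130
theorem N117872 : nd 117872 = n221131 := ndS (p := 92415) (l := 6) rfl N92415 D221131
theorem N117873 : nd 117873 = n221132 := ndS (p := 92419) (l := 6) rfl N92419 D221132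
theorem N117874 : nd 117874 = n221133 := ndS (p := 92422) (l := 1) rfl N92422 D221133
theorem N117875 : nd 117875 = n221134 := ndS (p := 92422) (l := 5) rfl N92422 D221134
theorem N117876 : nd 117876 = n221135 := ndS (p := 92422) (l := 7) rfl N92422 D221135
theorem N117877 : nd 117877 = n221136 := ndS (p := 92428) (l := 6) rfl N92428 D221136
theorem N117878 : nd 117878 = n221137 := ndS (p := 92435) (l := 5) rfl N92435 D221137
theorem N117879 : nd 117879 = n221138 := ndS (p := 92436) (l := 5) rfl N92436 D221138
theorem N117880 : nd 117880 = n221139 := ndS (p := 92437) (l := 6) rfl N92437 D221139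
theorem N117881 : nd 117881 = n221140 := ndS (p := 92442) (l := 7) rfl N92442 D221140
theorem N117882 : nd 117882 = n221141 := ndS (p := 92444) (l := 6) rfl N92444 D221141
theorem N117883 : nd 117883 = n221142 := ndS (p := 92460) (l := 4) rfl N92460 D221142
theorem N117884 : nd 117884 = n221143 := ndS (p := 92462) (l := 6) rfl N92462 D221143
theorem N117885 : nd 117885 = n221144 := ndS (p := 92463) (l := 0) rfl N92463 D221144
theorem N117886 : nd 117886 = n221145 := ndS (p := 92463) (l := 1) rfl N92463 D221145
theorem N117887 : nd 117887 = n221146 := ndS (p := 92465) (l := 4) rfl N92465 D221146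
theorem N117888 : nd 117888 = n221147 := ndS (p := 92465) (l := 6) rfl N92465 D221147
theorem N117889 : nd 117889 = n221148 := ndS (p := 92467) (l := 5) rfl N92467 D221148
theorem N117890 : nd 117890 = n221149 := ndS (p := 92472) (l := 6) rfl N92472 D221149
theorem N117891 : nd 117891 = n221150 := ndS (p := 92474) (l := 1) rfl N92474 D221150
theorem N117892 : nd 117892 = n221151 := ndS (p := 92474) (l := 5) rfl N92474 D221151
theorem N117893 : nd 117893 = n221152 := ndS (p := 92475) (l := 6) rfl N92475 D221152
theorem N117894 : nd 117894 = n221153 := ndS (p := 92476) (l := 1) rfl N92476 D221153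
theorem N117895 : nd 117895 = n221154 := ndS (p := 92476) (l := 5) rfl N92476 D221154
theorem N117896 : nd 117896 = n221155 := ndS (p := 92476) (l := 7) rfl N92476 D221155
theorem N117897 : nd 117897 = n221156 := ndS (p := 92477) (l := 3) rfl N92477 D221156
theorem N117898 : nd 117898 = n221157 := ndS (p := 92477) (l := 6) rfl N92477 D221157
theorem N117899 : nd 117899 = n221158 := ndS (p := 92480) (l := 0) rfl N92480 D221158
theorem N117900 : nd 117900 = n221159 := ndS (p := 92480) (l := 7) rfl N92480 D221159
theorem N117901 : nd 117901 = n221160 := ndS (p := 92481) (l := 6) rfl N92481 D221160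
theorem N117902 : nd 117902 = n221161 := ndS (p := 92483) (l := 1) rfl N92483 D221161
theorem N117903 : nd 117903 = n221162 := ndS (p := 92483) (l := 7) rfl N92483 D221162
theorem N117904 : nd 117904 = n221163 := ndS (p := 92485) (l := 3) rfl N92485 D221163
theorem N117905 : nd 117905 = n221164 := ndS (p := 92485) (l := 5) rfl N92485 D221164
theorem N117906 : nd 117906 = n221165 := ndS (p := 92486) (l := 0) rfl N92486 D221165
theorem N117907 : nd 117907 = n221166 := ndS (p := 92486) (l := 1) rfl N92486 D221166
theorem N117908 : nd 117908 = n221167 := ndS (p := 92489) (l := 3) rfl N92489 D221167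
theorem N117909 : nd 117909 = n221168 := ndS (p := 92499) (l := 0) rfl N92499 D221168
theorem N117910 : nd 117910 = n221169 := ndS (p := 92499) (l := 1) rfl N92499 D221169
theorem N117911 : nd 117911 = n221170 := ndS (p := 92500) (l := 5) rfl N92500 D221170
theorem N117912 : nd 117912 = n221171 := ndS (p := 92501) (l := 0) rfl N92501 D221171
theorem N117913 : nd 117913 = n221172 := ndS (p := 92505) (l := 6) rfl N92505 D221172
theorem N117914 : nd 117914 = n221173 := ndS (p := 92511) (l := 1) rfl N92511 D221173
theorem N117915 : nd 117915 = n221174 := ndS (p := 92511) (l := 7) rfl N92511 D221174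
theorem N117916 : nd 117916 = n221175 := ndS (p := 92515) (l := 6) rfl N92515 D221175
theorem N117917 : nd 117917 = n221176 := ndS (p := 92518) (l := 6) rfl N92518 D221176
theorem N117918 : nd 117918 = n221177 := ndS (p := 92521) (l := 3) rfl N92521 D221177
theorem N117919 : nd 117919 = n221178 := ndS (p := 92529) (l := 6) rfl N92529 D221178
theorem N117920 : nd 117920 = n221179 := ndS (p := 92532) (l := 1) rfl N92532 D221179
theorem N117921 : nd 117921 = n221180 := ndS (p := 92535) (l := 6) rfl N92535 D221180
theorem N117922 : nd 117922 = n221181 := ndS (p := 92546) (l := 6) rfl N92546 D221181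
theorem N117923 : nd 117923 = n221182 := ndS (p := 92549) (l := 5) rfl N92549 D221182
theorem N117924 : nd 117924 = n221183 := ndS (p := 92550) (l := 3) rfl N92550 D221183
theorem N117925 : nd 117925 = n221184 := ndS (p := 92554) (l := 5) rfl N92554 D221184
theorem N117926 : nd 117926 = n221185 := ndS (p := 92569) (l := 5) rfl N92569 D221185
theorem N117927 : nd 117927 = n221186 := ndS (p := 92570) (l := 6) rfl N92570 D221186
theorem N117928 : nd 117928 = n221187 := ndS (p := 92587) (l := 5) rfl N92587 D221187
theorem N117929 : nd 117929 = n221188 := ndS (p := 92591) (l := 6) rfl N92591 D221188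
theorem N117930 : nd 117930 = n221189 := ndS (p := 92611) (l := 0) rfl N92611 D221189
theorem N117931 : nd 117931 = n221190 := ndS (p := 92611) (l := 2) rfl N92611 D221190
theorem N117932 : nd 117932 = n221191 := ndS (p := 92612) (l := 6) rfl N92612 D221191
theorem N117933 : nd 117933 = n221192 := ndS (p := 92615) (l := 5) rfl N92615 D221192
theorem N117934 : nd 117934 = n221193 := ndS (p := 92616) (l := 5) rfl N92616 D221193
theorem N117935 : nd 117935 = n221194 := ndS (p := 92617) (l := 3) rfl N92617 D221194
theorem N117936 : nd 117936 = n221195 := ndS (p := 92617) (l := 5) rfl N92617 D221195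
theorem N117937 : nd 117937 = n221196 := ndS (p := 92618) (l := 0) rfl N92618 D221196
theorem N117938 : nd 117938 = n221197 := ndS (p := 92618) (l := 1) rfl N92618 D221197
theorem N117939 : nd 117939 = n221198 := ndS (p := 92618) (l := 7) rfl N92618 D221198
theorem N117940 : nd 117940 = n221199 := ndS (p := 92619) (l := 6) rfl N92619 D221199
theorem N117941 : nd 117941 = n221200 := ndS (p := 92620) (l := 0) rfl N92620 D221200
theorem N117942 : nd 117942 = n221201 := ndS (p := 92620) (l := 5) rfl N92620 D221201
theorem N117943 : nd 117943 = n221202 := ndS (p := 92627) (l := 0) rfl N92627 D221202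
theorem N117944 : nd 117944 = n221203 := ndS (p := 92627) (l := 1) rfl N92627 D221203
theorem N117945 : nd 117945 = n221204 := ndS (p := 92627) (l := 6) rfl N92627 D221204
theorem N117946 : nd 117946 = n221205 := ndS (p := 92629) (l := 4) rfl N92629 D221205
theorem N117947 : nd 117947 = n221206 := ndS (p := 92630) (l := 6) rfl N92630 D221206
theorem N117948 : nd 117948 = n221207 := ndS (p := 92633) (l := 5) rfl N92633 D221207
theorem N117949 : nd 117949 = n221208 := ndS (p := 92638) (l := 4) rfl N92638 D221208
theorem N117950 : nd 117950 = n221209 := ndS (p := 92639) (l := 4) rfl N92639 D221209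
theorem N117951 : nd 117951 = n221210 := ndS (p := 92641) (l := 4) rfl N92641 D221210
theorem N117952 : nd 117952 = n221211 := ndS (p := 92646) (l := 5) rfl N92646 D221211
theorem N117953 : nd 117953 = n221212 := ndS (p := 92650) (l := 4) rfl N92650 D221212
theorem N117954 : nd 117954 = n221213 := ndS (p := 92652) (l := 0) rfl N92652 D221213
theorem N117955 : nd 117955 = n221214 := ndS (p := 92652) (l := 1) rfl N92652 D221214
theorem N117956 : nd 117956 = n221215 := ndS (p := 92654) (l := 3) rfl N92654 D221215
theorem N117957 : nd 117957 = n221216 := ndS (p := 92655) (l := 5) rfl N92655 D221216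
theorem N117958 : nd 117958 = n221217 := ndS (p := 92659) (l := 4) rfl N92659 D221217
theorem N117959 : nd 117959 = n221218 := ndS (p := 92660) (l := 0) rfl N92660 D221218
theorem N117960 : nd 117960 = n221219 := ndS (p := 92660) (l := 3) rfl N92660 D221219
theorem N117961 : nd 117961 = n221220 := ndS (p := 92661) (l := 6) rfl N92661 D221220
theorem N117962 : nd 117962 = n221221 := ndS (p := 92683) (l := 0) rfl N92683 D221221
theorem N117963 : nd 117963 = n221222 := ndS (p := 92683) (l := 1) rfl N92683 D221222
theorem N117964 : nd 117964 = n221223 := ndS (p := 92683) (l := 5) rfl N92683 D221223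
theorem N117965 : nd 117965 = n221224 := ndS (p := 92683) (l := 7) rfl N92683 D221224
theorem N117966 : nd 117966 = n221225 := ndS (p := 92684) (l := 6) rfl N92684 D221225
theorem N117967 : nd 117967 = n221226 := ndS (p := 92688) (l := 4) rfl N92688 D221226
theorem N117968 : nd 117968 = n221227 := ndS (p := 92689) (l := 1) rfl N92689 D221227
theorem N117969 : nd 117969 = n221228 := ndS (p := 92692) (l := 6) rfl N92692 D221228
theorem N117970 : nd 117970 = n221229 := ndS (p := 92694) (l := 3) rfl N92694 D221229
theorem N117971 : nd 117971 = n221230 := ndS (p := 92694) (l := 6) rfl N92694 D221230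
theorem N117972 : nd 117972 = n221231 := ndS (p := 92695) (l := 0) rfl N92695 D221231
theorem N117973 : nd 117973 = n221232 := ndS (p := 92696) (l := 0) rfl N92696 D221232
theorem N117974 : nd 117974 = n221233 := ndS (p := 92697) (l := 4) rfl N92697 D221233
theorem N117975 : nd 117975 = n221234 := ndS (p := 92698) (l := 3) rfl N92698 D221234
theorem N117976 : nd 117976 = n221235 := ndS (p := 92698) (l := 6) rfl N92698 D221235
theorem N117977 : nd 117977 = n221236 := ndS (p := 92703) (l := 1) rfl N92703 D221236
theorem N117978 : nd 117978 = n221237 := ndS (p := 92703) (l := 7) rfl N92703 D221237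
theorem N117979 : nd 117979 = n221238 := ndS (p := 92704) (l := 4) rfl N92704 D221238
theorem N117980 : nd 117980 = n221239 := ndS (p := 92705) (l := 4) rfl N92705 D221239
theorem N117981 : nd 117981 = n221240 := ndS (p := 92707) (l := 0) rfl N92707 D221240
theorem N117982 : nd 117982 = n221241 := ndS (p := 92707) (l := 4) rfl N92707 D221241
theorem N117983 : nd 117983 = n221242 := ndS (p := 92708) (l := 5) rfl N92708 D221242
theorem N117984 : nd 117984 = n221243 := ndS (p := 92709) (l := 4) rfl N92709 D221243
theorem N117985 : nd 117985 = n221244 := ndS (p := 92710) (l := 5) rfl N92710 D221244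
theorem N117986 : nd 117986 = n221245 := ndS (p := 92715) (l := 5) rfl N92715 D221245
theorem N117987 : nd 117987 = n221246 := ndS (p := 92716) (l := 5) rfl N92716 D221246
theorem N117988 : nd 117988 = n221247 := ndS (p := 92720) (l := 6) rfl N92720 D221247
theorem N117989 : nd 117989 = n221248 := ndS (p := 92723) (l := 5) rfl N92723 D221248
theorem N117990 : nd 117990 = n221249 := ndS (p := 92728) (l := 5) rfl N92728 D221249
theorem N117991 : nd 117991 = n221250 := ndS (p := 92739) (l := 0) rfl N92739 D221250
theorem N117992 : nd 117992 = n221251 := ndS (p := 92739) (l := 1) rfl N92739 D221251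
theorem N117993 : nd 117993 = n221252 := ndS (p := 92742) (l := 7) rfl N92742 D221252
theorem N117994 : nd 117994 = n221253 := ndS (p := 92747) (l := 7) rfl N92747 D221253
theorem N117995 : nd 117995 = n221254 := ndS (p := 92749) (l := 5) rfl N92749 D221254
theorem N117996 : nd 117996 = n221255 := ndS (p := 92750) (l := 0) rfl N92750 D221255
theorem N117997 : nd 117997 = n221256 := ndS (p := 92762) (l := 6) rfl N92762 D221256
theorem N117998 : nd 117998 = n221257 := ndS (p := 92769) (l := 5) rfl N92769 D221257
theorem N117999 : nd 117999 = n221258 := ndS (p := 92776) (l := 3) rfl N92776 D221258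
theorem N118000 : nd 118000 = n221259 := ndS (p := 92789) (l := 4) rfl N92789 D221259
theorem N118001 : nd 118001 = n221260 := ndS (p := 92791) (l := 4) rfl N92791 D221260
theorem N118002 : nd 118002 = n221261 := ndS (p := 92792) (l := 4) rfl N92792 D221261
theorem N118003 : nd 118003 = n221262 := ndS (p := 92797) (l := 4) rfl N92797 D221262
theorem N118004 : nd 118004 = n221263 := ndS (p := 92804) (l := 0) rfl N92804 D221263
theorem N118005 : nd 118005 = n221264 := ndS (p := 92804) (l := 1) rfl N92804 D221264
theorem N118006 : nd 118006 = n221265 := ndS (p := 92804) (l := 4) rfl N92804 D221265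
theorem N118007 : nd 118007 = n221266 := ndS (p := 92816) (l := 1) rfl N92816 D221266
theorem N118008 : nd 118008 = n221267 := ndS (p := 92827) (l := 3) rfl N92827 D221267
theorem N118009 : nd 118009 = n221268 := ndS (p := 92827) (l := 6) rfl N92827 D221268
theorem N118010 : nd 118010 = n221269 := ndS (p := 92828) (l := 0) rfl N92828 D221269
theorem N118011 : nd 118011 = n221270 := ndS (p := 92828) (l := 1) rfl N92828 D221270
theorem N118012 : nd 118012 = n221271 := ndS (p := 92828) (l := 2) rfl N92828 D221271
theorem N118013 : nd 118013 = n221272 := ndS (p := 92828) (l := 5) rfl N92828 D221272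
theorem N118014 : nd 118014 = n221273 := ndS (p := 92835) (l := 6) rfl N92835 D221273
theorem N118015 : nd 118015 = n221274 := ndS (p := 92839) (l := 1) rfl N92839 D221274
theorem N118016 : nd 118016 = n221275 := ndS (p := 92839) (l := 7) rfl N92839 D221275
theorem N118017 : nd 118017 = n221276 := ndS (p := 92843) (l := 4) rfl N92843 D221276
theorem N118018 : nd 118018 = n221277 := ndS (p := 92845) (l := 2) rfl N92845 D221277
theorem N118019 : nd 118019 = n221278 := ndS (p := 92849) (l := 4) rfl N92849 D221278
theorem N118020 : nd 118020 = n221279 := ndS (p := 92851) (l := 1) rfl N92851 D221279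
theorem N118021 : nd 118021 = n221280 := ndS (p := 92851) (l := 3) rfl N92851 D221280
theorem N118022 : nd 118022 = n221281 := ndS (p := 92851) (l := 6) rfl N92851 D221281
theorem N118023 : nd 118023 = n221282 := ndS (p := 92867) (l := 4) rfl N92867 D221282
theorem N118024 : nd 118024 = n221283 := ndS (p := 92867) (l := 6) rfl N92867 D221283
theorem N118025 : nd 118025 = n221284 := ndS (p := 92870) (l := 6) rfl N92870 D221284
theorem N118026 : nd 118026 = n221285 := ndS (p := 92871) (l := 6) rfl N92871 D221285
theorem N118027 : nd 118027 = n221286 := ndS (p := 92873) (l := 0) rfl N92873 D221286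
theorem N118028 : nd 118028 = n221287 := ndS (p := 92873) (l := 7) rfl N92873 D221287
theorem N118029 : nd 118029 = n221288 := ndS (p := 92874) (l := 0) rfl N92874 D221288
theorem N118030 : nd 118030 = n221289 := ndS (p := 92874) (l := 7) rfl N92874 D221289
theorem N118031 : nd 118031 = n221290 := ndS (p := 92876) (l := 2) rfl N92876 D221290
theorem N118032 : nd 118032 = n221291 := ndS (p := 92876) (l := 4) rfl N92876 D221291
theorem N118033 : nd 118033 = n221292 := ndS (p := 92887) (l := 3) rfl N92887 D221292
theorem N118034 : nd 118034 = n221293 := ndS (p := 92887) (l := 4) rfl N92887 D221293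
theorem N118035 : nd 118035 = n221294 := ndS (p := 92890) (l := 3) rfl N92890 D221294
theorem N118036 : nd 118036 = n221295 := ndS (p := 92894) (l := 5) rfl N92894 D221295
theorem N118037 : nd 118037 = n221296 := ndS (p := 92896) (l := 5) rfl N92896 D221296
theorem N118038 : nd 118038 = n221297 := ndS (p := 92897) (l := 0) rfl N92897 D221297
theorem N118039 : nd 118039 = n221298 := ndS (p := 92899) (l := 4) rfl N92899 D221298
theorem N118040 : nd 118040 = n221299 := ndS (p := 92902) (l := 5) rfl N92902 D221299
theorem N118041 : nd 118041 = n221300 := ndS (p := 92916) (l := 5) rfl N92916 D221300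
theorem N118042 : nd 118042 = n221301 := ndS (p := 92916) (l := 6) rfl N92916 D221301
theorem N118043 : nd 118043 = n221302 := ndS (p := 92919) (l := 5) rfl N92919 D221302
theorem N118044 : nd 118044 = n221303 := ndS (p := 92928) (l := 0) rfl N92928 D221303
theorem N118045 : nd 118045 = n221304 := ndS (p := 92929) (l := 1) rfl N92929 D221304
theorem N118046 : nd 118046 = n221305 := ndS (p := 92933) (l := 6) rfl N92933 D221305
theorem N118047 : nd 118047 = n221306 := ndS (p := 92938) (l := 6) rfl N92938 D221306
theorem N118048 : nd 118048 = n221307 := ndS (p := 92941) (l := 5) rfl N92941 D221307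
theorem N118049 : nd 118049 = n221308 := ndS (p := 92945) (l := 3) rfl N92945 D221308
theorem N118050 : nd 118050 = n221309 := ndS (p := 92956) (l := 6) rfl N92956 D221309
theorem N118051 : nd 118051 = n221310 := ndS (p := 92961) (l := 6) rfl N92961 D221310
theorem N118052 : nd 118052 = n221311 := ndS (p := 92962) (l := 7) rfl N92962 D221311
theorem N118053 : nd 118053 = n221312 := ndS (p := 92968) (l := 4) rfl N92968 D221312
theorem N118054 : nd 118054 = n221313 := ndS (p := 92968) (l := 6) rfl N92968 D221313
theorem N118055 : nd 118055 = n221314 := ndS (p := 92969) (l := 0) rfl N92969 D221314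
theorem N118056 : nd 118056 = n221315 := ndS (p := 92969) (l := 7) rfl N92969 D221315
theorem N118057 : nd 118057 = n221316 := ndS (p := 92976) (l := 7) rfl N92976 D221316
theorem N118058 : nd 118058 = n221317 := ndS (p := 92977) (l := 3) rfl N92977 D221317
theorem N118059 : nd 118059 = n221318 := ndS (p := 92980) (l := 1) rfl N92980 D221318
theorem N118060 : nd 118060 = n221319 := ndS (p := 92996) (l := 7) rfl N92996 D221319
theorem N118061 : nd 118061 = n221320 := ndS (p := 92997) (l := 4) rfl N92997 D221320
theorem N118062 : nd 118062 = n221321 := ndS (p := 92999) (l := 4) rfl N92999 D221321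
theorem N118063 : nd 118063 = n221322 := ndS (p := 93002) (l := 0) rfl N93002 D221322
theorem N118064 : nd 118064 = n221323 := ndS (p := 93016) (l := 6) rfl N93016 D221323
theorem N118065 : nd 118065 = n221324 := ndS (p := 93019) (l := 6) rfl N93019 D221324
theorem N118066 : nd 118066 = n221325 := ndS (p := 93020) (l := 4) rfl N93020 D221325
theorem N118067 : nd 118067 = n221326 := ndS (p := 93020) (l := 6) rfl N93020 D221326
theorem N118068 : nd 118068 = n221327 := ndS (p := 93021) (l := 4) rfl N93021 D221327
theorem N118069 : nd 118069 = n221328 := ndS (p := 93021) (l := 6) rfl N93021 D221328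
theorem N118070 : nd 118070 = n221329 := ndS (p := 93022) (l := 5) rfl N93022 D221329
theorem N118071 : nd 118071 = n221330 := ndS (p := 93023) (l := 5) rfl N93023 D221330
theorem N118072 : nd 118072 = n221331 := ndS (p := 93025) (l := 1) rfl N93025 D221331
theorem N118073 : nd 118073 = n221332 := ndS (p := 93025) (l := 7) rfl N93025 D221332
theorem N118074 : nd 118074 = n221333 := ndS (p := 93028) (l := 3) rfl N93028 D221333
theorem N118075 : nd 118075 = n221334 := ndS (p := 93035) (l := 4) rfl N93035 D221334
theorem N118076 : nd 118076 = n221335 := ndS (p := 93039) (l := 4) rfl N93039 D221335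
theorem N118077 : nd 118077 = n221336 := ndS (p := 93040) (l := 5) rfl N93040 D221336
theorem N118078 : nd 118078 = n221337 := ndS (p := 93041) (l := 4) rfl N93041 D221337
theorem N118079 : nd 118079 = n221338 := ndS (p := 93043) (l := 1) rfl N93043 D221338
theorem N118080 : nd 118080 = n221339 := ndS (p := 93043) (l := 3) rfl N93043 D221339
theorem N118081 : nd 118081 = n221340 := ndS (p := 93045) (l := 4) rfl N93045 D221340
theorem N118082 : nd 118082 = n221341 := ndS (p := 93064) (l := 5) rfl N93064 D221341
theorem N118083 : nd 118083 = n221342 := ndS (p := 93065) (l := 7) rfl N93065 D221342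
theorem N118084 : nd 118084 = n221343 := ndS (p := 93086) (l := 0) rfl N93086 D221343
theorem N118085 : nd 118085 = n221344 := ndS (p := 93086) (l := 1) rfl N93086 D221344
theorem N118086 : nd 118086 = n221345 := ndS (p := 93086) (l := 4) rfl N93086 D221345
theorem N118087 : nd 118087 = n221346 := ndS (p := 93086) (l := 7) rfl N93086 D221346
theorem N118088 : nd 118088 = n221347 := ndS (p := 93098) (l := 6) rfl N93098 D221347
theorem N118089 : nd 118089 = n221348 := ndS (p := 93100) (l := 6) rfl N93100 D221348
theorem N118090 : nd 118090 = n221349 := ndS (p := 93101) (l := 0) rfl N93101 D221349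
theorem N118091 : nd 118091 = n221350 := ndS (p := 93101) (l := 6) rfl N93101 D221350
theorem N118092 : nd 118092 = n221351 := ndS (p := 93103) (l := 4) rfl N93103 D221351
theorem N118093 : nd 118093 = n221352 := ndS (p := 93105) (l := 7) rfl N93105 D221352
theorem N118094 : nd 118094 = n221353 := ndS (p := 93114) (l := 4) rfl N93114 D221353
theorem N118095 : nd 118095 = n221354 := ndS (p := 93114) (l := 6) rfl N93114 D221354
theorem N118096 : nd 118096 = n221355 := ndS (p := 93115) (l := 6) rfl N93115 D221355
theorem N118097 : nd 118097 = n221356 := ndS (p := 93118) (l := 5) rfl N93118 D221356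
theorem N118098 : nd 118098 = n221357 := ndS (p := 93121) (l := 1) rfl N93121 D221357
theorem N118099 : nd 118099 = n221358 := ndS (p := 93122) (l := 3) rfl N93122 D221358
theorem N118100 : nd 118100 = n221359 := ndS (p := 93122) (l := 5) rfl N93122 D221359
theorem N118101 : nd 118101 = n221360 := ndS (p := 93123) (l := 4) rfl N93123 D221360
theorem N118102 : nd 118102 = n221361 := ndS (p := 93127) (l := 7) rfl N93127 D221361
theorem N118103 : nd 118103 = n221362 := ndS (p := 93128) (l := 0) rfl N93128 D221362
theorem N118104 : nd 118104 = n221363 := ndS (p := 93138) (l := 7) rfl N93138 D221363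
theorem N118105 : nd 118105 = n221364 := ndS (p := 93140) (l := 2) rfl N93140 D221364
theorem N118106 : nd 118106 = n221365 := ndS (p := 93140) (l := 5) rfl N93140 D221365
theorem N118107 : nd 118107 = n221366 := ndS (p := 93140) (l := 6) rfl N93140 D221366
theorem N118108 : nd 118108 = n221367 := ndS (p := 93142) (l := 5) rfl N93142 D221367
theorem N118109 : nd 118109 = n221368 := ndS (p := 93142) (l := 7) rfl N93142 D221368
theorem N118110 : nd 118110 = n221369 := ndS (p := 93147) (l := 7) rfl N93147 D221369
theorem N118111 : nd 118111 = n221370 := ndS (p := 93148) (l := 0) rfl N93148 D221370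
theorem N118112 : nd 118112 = n221371 := ndS (p := 93164) (l := 3) rfl N93164 D221371
theorem N118113 : nd 118113 = n221372 := ndS (p := 93169) (l := 5) rfl N93169 D221372
theorem N118114 : nd 118114 = n221373 := ndS (p := 93174) (l := 6) rfl N93174 D221373
theorem N118115 : nd 118115 = n221374 := ndS (p := 93179) (l := 5) rfl N93179 D221374
theorem N118116 : nd 118116 = n221375 := ndS (p := 93180) (l := 4) rfl N93180 D221375
theorem N118117 : nd 118117 = n221376 := ndS (p := 93187) (l := 4) rfl N93187 D221376
theorem N118118 : nd 118118 = n221377 := ndS (p := 93190) (l := 2) rfl N93190 D221377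
theorem N118119 : nd 118119 = n221378 := ndS (p := 93223) (l := 4) rfl N93223 D221378
theorem N118120 : nd 118120 = n221379 := ndS (p := 93227) (l := 0) rfl N93227 D221379
theorem N118121 : nd 118121 = n221380 := ndS (p := 93230) (l := 6) rfl N93230 D221380
theorem N118122 : nd 118122 = n221381 := ndS (p := 93231) (l := 1) rfl N93231 D221381
theorem N118123 : nd 118123 = n221382 := ndS (p := 93231) (l := 7) rfl N93231 D221382
theorem N118124 : nd 118124 = n221383 := ndS (p := 93236) (l := 5) rfl N93236 D221383
theorem N118125 : nd 118125 = n221384 := ndS (p := 93237) (l := 5) rfl N93237 D221384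
theorem N118126 : nd 118126 = n221385 := ndS (p := 93238) (l := 0) rfl N93238 D221385
theorem N118127 : nd 118127 = n221386 := ndS (p := 93238) (l := 1) rfl N93238 D221386
theorem N118128 : nd 118128 = n221387 := ndS (p := 93239) (l := 0) rfl N93239 D221387
theorem N118129 : nd 118129 = n221388 := ndS (p := 93242) (l := 0) rfl N93242 D221388
theorem N118130 : nd 118130 = n221389 := ndS (p := 93248) (l := 5) rfl N93248 D221389
theorem N118131 : nd 118131 = n221390 := ndS (p := 93254) (l := 1) rfl N93254 D221390
theorem N118132 : nd 118132 = n221391 := ndS (p := 93254) (l := 5) rfl N93254 D221391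
theorem N118133 : nd 118133 = n221392 := ndS (p := 93255) (l := 4) rfl N93255 D221392
theorem N118134 : nd 118134 = n221393 := ndS (p := 93256) (l := 6) rfl N93256 D221393
theorem N118135 : nd 118135 = n221394 := ndS (p := 93262) (l := 1) rfl N93262 D221394
theorem N118136 : nd 118136 = n221395 := ndS (p := 93275) (l := 4) rfl N93275 D221395
theorem N118137 : nd 118137 = n221396 := ndS (p := 93276) (l := 5) rfl N93276 D221396
theorem N118138 : nd 118138 = n221397 := ndS (p := 93277) (l := 6) rfl N93277 D221397
theorem N118139 : nd 118139 = n221398 := ndS (p := 93279) (l := 2) rfl N93279 D221398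
theorem N118140 : nd 118140 = n221399 := ndS (p := 93279) (l := 5) rfl N93279 D221399
theorem N118141 : nd 118141 = n221400 := ndS (p := 93281) (l := 6) rfl N93281 D221400
theorem N118142 : nd 118142 = n221401 := ndS (p := 93283) (l := 4) rfl N93283 D221401
theorem N118143 : nd 118143 = n221402 := ndS (p := 93289) (l := 4) rfl N93289 D221402
theorem N118144 : nd 118144 = n221403 := ndS (p := 93291) (l := 0) rfl N93291 D221403
theorem N118145 : nd 118145 = n221404 := ndS (p := 93293) (l := 5) rfl N93293 D221404
theorem N118146 : nd 118146 = n221405 := ndS (p := 93297) (l := 5) rfl N93297 D221405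
theorem N118147 : nd 118147 = n221406 := ndS (p := 93298) (l := 5) rfl N93298 D221406
theorem N118148 : nd 118148 = n221407 := ndS (p := 93301) (l := 7) rfl N93301 D221407
theorem N118149 : nd 118149 = n221408 := ndS (p := 93305) (l := 4) rfl N93305 D221408
theorem N118150 : nd 118150 = n221409 := ndS (p := 93306) (l := 6) rfl N93306 D221409
theorem N118151 : nd 118151 = n221410 := ndS (p := 93308) (l := 6) rfl N93308 D221410
theorem N118152 : nd 118152 = n221411 := ndS (p := 93310) (l := 4) rfl N93310 D221411
theorem N118153 : nd 118153 = n221412 := ndS (p := 93312) (l := 6) rfl N93312 D221412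
theorem N118154 : nd 118154 = n221413 := ndS (p := 93313) (l := 3) rfl N93313 D221413
theorem N118155 : nd 118155 = n221414 := ndS (p := 93320) (l := 5) rfl N93320 D221414
theorem N118156 : nd 118156 = n221415 := ndS (p := 93320) (l := 7) rfl N93320 D221415
theorem N118157 : nd 118157 = n221416 := ndS (p := 93323) (l := 5) rfl N93323 D221416
theorem N118158 : nd 118158 = n221417 := ndS (p := 93334) (l := 7) rfl N93334 D221417
theorem N118159 : nd 118159 = n221418 := ndS (p := 93338) (l := 0) rfl N93338 D221418
theorem N118160 : nd 118160 = n221419 := ndS (p := 93339) (l := 6) rfl N93339 D221419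
theorem N118161 : nd 118161 = n221420 := ndS (p := 93342) (l := 4) rfl N93342 D221420
theorem N118162 : nd 118162 = n221421 := ndS (p := 93342) (l := 6) rfl N93342 D221421
theorem N118163 : nd 118163 = n221422 := ndS (p := 93343) (l := 0) rfl N93343 D221422
theorem N118164 : nd 118164 = n221423 := ndS (p := 93343) (l := 6) rfl N93343 D221423
theorem N118165 : nd 118165 = n221424 := ndS (p := 93344) (l := 7) rfl N93344 D221424
theorem N118166 : nd 118166 = n221425 := ndS (p := 93350) (l := 5) rfl N93350 D221425
theorem N118167 : nd 118167 = n221426 := ndS (p := 93351) (l := 4) rfl N93351 D221426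
theorem N118168 : nd 118168 = n221427 := ndS (p := 93369) (l := 4) rfl N93369 D221427
theorem N118169 : nd 118169 = n221428 := ndS (p := 93375) (l := 7) rfl N93375 D221428
theorem N118170 : nd 118170 = n221429 := ndS (p := 93383) (l := 4) rfl N93383 D221429
theorem N118171 : nd 118171 = n221430 := ndS (p := 93392) (l := 0) rfl N93392 D221430
theorem N118172 : nd 118172 = n221431 := ndS (p := 93392) (l := 7) rfl N93392 D221431
theorem N118173 : nd 118173 = n221432 := ndS (p := 93394) (l := 6) rfl N93394 D221432
theorem N118174 : nd 118174 = n221433 := ndS (p := 93395) (l := 6) rfl N93395 D221433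
theorem N118175 : nd 118175 = n221434 := ndS (p := 93398) (l := 4) rfl N93398 D221434
theorem N118176 : nd 118176 = n221435 := ndS (p := 93398) (l := 5) rfl N93398 D221435
theorem N118177 : nd 118177 = n221436 := ndS (p := 93400) (l := 5) rfl N93400 D221436
theorem N118178 : nd 118178 = n221437 := ndS (p := 93401) (l := 1) rfl N93401 D221437
theorem N118179 : nd 118179 = n221438 := ndS (p := 93401) (l := 4) rfl N93401 D221438
theorem N118180 : nd 118180 = n221439 := ndS (p := 93402) (l := 4) rfl N93402 D221439
theorem N118181 : nd 118181 = n221440 := ndS (p := 93403) (l := 3) rfl N93403 D221440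
theorem N118182 : nd 118182 = n221441 := ndS (p := 93403) (l := 4) rfl N93403 D221441
theorem N118183 : nd 118183 = n221442 := ndS (p := 93403) (l := 6) rfl N93403 D221442
theorem N118184 : nd 118184 = n221443 := ndS (p := 93404) (l := 0) rfl N93404 D221443
theorem N118185 : nd 118185 = n221444 := ndS (p := 93404) (l := 1) rfl N93404 D221444
theorem N118186 : nd 118186 = n221445 := ndS (p := 93404) (l := 3) rfl N93404 D221445
theorem N118187 : nd 118187 = n221446 := ndS (p := 93405) (l := 0) rfl N93405 D221446
theorem N118188 : nd 118188 = n221447 := ndS (p := 93405) (l := 5) rfl N93405 D221447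
theorem N118189 : nd 118189 = n221448 := ndS (p := 93406) (l := 6) rfl N93406 D221448
theorem N118190 : nd 118190 = n221449 := ndS (p := 93411) (l := 5) rfl N93411 D221449
theorem N118191 : nd 118191 = n221450 := ndS (p := 93412) (l := 4) rfl N93412 D221450
theorem N118192 : nd 118192 = n221451 := ndS (p := 93413) (l := 2) rfl N93413 D221451
theorem N118193 : nd 118193 = n221452 := ndS (p := 93413) (l := 5) rfl N93413 D221452
theorem N118194 : nd 118194 = n221453 := ndS (p := 93415) (l := 3) rfl N93415 D221453
theorem N118195 : nd 118195 = n221454 := ndS (p := 93415) (l := 6) rfl N93415 D221454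
theorem N118196 : nd 118196 = n221455 := ndS (p := 93419) (l := 4) rfl N93419 D221455
theorem N118197 : nd 118197 = n221456 := ndS (p := 93419) (l := 6) rfl N93419 D221456
theorem N118198 : nd 118198 = n221457 := ndS (p := 93432) (l := 0) rfl N93432 D221457
theorem N118199 : nd 118199 = n221458 := ndS (p := 93432) (l := 7) rfl N93432 D221458
theorem N118200 : nd 118200 = n221459 := ndS (p := 93434) (l := 1) rfl N93434 D221459
theorem N118201 : nd 118201 = n221460 := ndS (p := 93434) (l := 7) rfl N93434 D221460
theorem N118202 : nd 118202 = n221461 := ndS (p := 93435) (l := 5) rfl N93435 D221461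
theorem N118203 : nd 118203 = n221462 := ndS (p := 93436) (l := 5) rfl N93436 D221462
theorem N118204 : nd 118204 = n221463 := ndS (p := 93437) (l := 1) rfl N93437 D221463
theorem N118205 : nd 118205 = n221464 := ndS (p := 93437) (l := 4) rfl N93437 D221464
theorem N118206 : nd 118206 = n221465 := ndS (p := 93438) (l := 3) rfl N93438 D221465
theorem N118207 : nd 118207 = n221466 := ndS (p := 93441) (l := 5) rfl N93441 D221466
theorem N118208 : nd 118208 = n221467 := ndS (p := 93442) (l := 4) rfl N93442 D221467
theorem N118209 : nd 118209 = n221468 := ndS (p := 93442) (l := 6) rfl N93442 D221468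
theorem N118210 : nd 118210 = n221469 := ndS (p := 93446) (l := 0) rfl N93446 D221469
theorem N118211 : nd 118211 = n221470 := ndS (p := 93446) (l := 1) rfl N93446 D221470
theorem N118212 : nd 118212 = n221471 := ndS (p := 93446) (l := 7) rfl N93446 D221471
theorem N118213 : nd 118213 = n221472 := ndS (p := 93450) (l := 6) rfl N93450 D221472
theorem N118214 : nd 118214 = n221473 := ndS (p := 93452) (l := 1) rfl N93452 D221473
theorem N118215 : nd 118215 = n221474 := ndS (p := 93452) (l := 7) rfl N93452 D221474
theorem N118216 : nd 118216 = n221475 := ndS (p := 93459) (l := 6) rfl N93459 D221475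
theorem N118217 : nd 118217 = n221476 := ndS (p := 93463) (l := 4) rfl N93463 D221476
theorem N118218 : nd 118218 = n221477 := ndS (p := 93465) (l := 5) rfl N93465 D221477
theorem N118219 : nd 118219 = n221478 := ndS (p := 93466) (l := 5) rfl N93466 D221478
theorem N118220 : nd 118220 = n221479 := ndS (p := 93470) (l := 5) rfl N93470 D221479
theorem N118221 : nd 118221 = n221480 := ndS (p := 93472) (l := 0) rfl N93472 D221480
theorem N118222 : nd 118222 = n221481 := ndS (p := 93472) (l := 1) rfl N93472 D221481
theorem N118223 : nd 118223 = n221482 := ndS (p := 93472) (l := 4) rfl N93472 D221482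
theorem N118224 : nd 118224 = n221483 := ndS (p := 93472) (l := 7) rfl N93472 D221483
theorem N118225 : nd 118225 = n221484 := ndS (p := 93482) (l := 6) rfl N93482 D221484
theorem N118226 : nd 118226 = n221485 := ndS (p := 93495) (l := 6) rfl N93495 D221485
theorem N118227 : nd 118227 = n221486 := ndS (p := 93496) (l := 0) rfl N93496 D221486
theorem N118228 : nd 118228 = n221487 := ndS (p := 93496) (l := 5) rfl N93496 D221487
theorem N118229 : nd 118229 = n221488 := ndS (p := 93501) (l := 0) rfl N93501 D221488
theorem N118230 : nd 118230 = n221489 := ndS (p := 93503) (l := 5) rfl N93503 D221489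
theorem N118231 : nd 118231 = n221490 := ndS (p := 93504) (l := 5) rfl N93504 D221490
theorem N118232 : nd 118232 = n221491 := ndS (p := 93509) (l := 3) rfl N93509 D221491
theorem N118233 : nd 118233 = n221492 := ndS (p := 93509) (l := 5) rfl N93509 D221492
theorem N118234 : nd 118234 = n221493 := ndS (p := 93510) (l := 5) rfl N93510 D221493
theorem N118235 : nd 118235 = n221494 := ndS (p := 93510) (l := 6) rfl N93510 D221494
theorem N118236 : nd 118236 = n221495 := ndS (p := 93511) (l := 0) rfl N93511 D221495
theorem N118237 : nd 118237 = n221496 := ndS (p := 93511) (l := 1) rfl N93511 D221496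
theorem N118238 : nd 118238 = n221497 := ndS (p := 93511) (l := 4) rfl N93511 D221497
theorem N118239 : nd 118239 = n221498 := ndS (p := 93514) (l := 7) rfl N93514 D221498
theorem N118240 : nd 118240 = n221499 := ndS (p := 93515) (l := 6) rfl N93515 D221499
theorem N118241 : nd 118241 = n221500 := ndS (p := 93516) (l := 5) rfl N93516 D221500
theorem N118242 : nd 118242 = n221501 := ndS (p := 93517) (l := 3) rfl N93517 D221501
theorem N118243 : nd 118243 = n221502 := ndS (p := 93517) (l := 6) rfl N93517 D221502
theorem N118244 : nd 118244 = n221503 := ndS (p := 93518) (l := 3) rfl N93518 D221503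
theorem N118245 : nd 118245 = n221504 := ndS (p := 93519) (l := 0) rfl N93519 D221504
theorem N118246 : nd 118246 = n221505 := ndS (p := 93519) (l := 7) rfl N93519 D221505
theorem N118247 : nd 118247 = n221506 := ndS (p := 93522) (l := 4) rfl N93522 D221506
theorem N118248 : nd 118248 = n221507 := ndS (p := 93523) (l := 5) rfl N93523 D221507
theorem N118249 : nd 118249 = n221508 := ndS (p := 93525) (l := 4) rfl N93525 D221508
theorem N118250 : nd 118250 = n221509 := ndS (p := 93527) (l := 6) rfl N93527 D221509
theorem N118251 : nd 118251 = n221510 := ndS (p := 93532) (l := 5) rfl N93532 D221510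
theorem N118252 : nd 118252 = n221511 := ndS (p := 93533) (l := 3) rfl N93533 D221511
theorem N118253 : nd 118253 = n221512 := ndS (p := 93533) (l := 5) rfl N93533 D221512
theorem N118254 : nd 118254 = n221513 := ndS (p := 93534) (l := 3) rfl N93534 D221513
theorem N118255 : nd 118255 = n221514 := ndS (p := 93534) (l := 4) rfl N93534 D221514
theorem N118256 : nd 118256 = n221515 := ndS (p := 93534) (l := 5) rfl N93534 D221515
theorem N118257 : nd 118257 = n221516 := ndS (p := 93535) (l := 0) rfl N93535 D221516
theorem N118258 : nd 118258 = n221517 := ndS (p := 93536) (l := 5) rfl N93536 D221517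
theorem N118259 : nd 118259 = n221518 := ndS (p := 93537) (l := 4) rfl N93537 D221518
theorem N118260 : nd 118260 = n221519 := ndS (p := 93537) (l := 6) rfl N93537 D221519
theorem N118261 : nd 118261 = n221520 := ndS (p := 93538) (l := 4) rfl N93538 D221520
theorem N118262 : nd 118262 = n221521 := ndS (p := 93539) (l := 4) rfl N93539 D221521
theorem N118263 : nd 118263 = n221522 := ndS (p := 93539) (l := 6) rfl N93539 D221522
theorem N118264 : nd 118264 = n221523 := ndS (p := 93542) (l := 5) rfl N93542 D221523
theorem N118265 : nd 118265 = n221524 := ndS (p := 93543) (l := 2) rfl N93543 D221524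
theorem N118266 : nd 118266 = n221525 := ndS (p := 93545) (l := 0) rfl N93545 D221525
theorem N118267 : nd 118267 = n221526 := ndS (p := 93551) (l := 0) rfl N93551 D221526
theorem N118268 : nd 118268 = n221527 := ndS (p := 93551) (l := 1) rfl N93551 D221527
theorem N118269 : nd 118269 = n221528 := ndS (p := 93551) (l := 5) rfl N93551 D221528
theorem N118270 : nd 118270 = n221529 := ndS (p := 93554) (l := 5) rfl N93554 D221529
theorem N118271 : nd 118271 = n221530 := ndS (p := 93556) (l := 6) rfl N93556 D221530
theorem N118272 : nd 118272 = n221531 := ndS (p := 93558) (l := 4) rfl N93558 D221531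
theorem N118273 : nd 118273 = n221532 := ndS (p := 93565) (l := 0) rfl N93565 D221532
theorem N118274 : nd 118274 = n221533 := ndS (p := 93568) (l := 6) rfl N93568 D221533
theorem N118275 : nd 118275 = n221534 := ndS (p := 93571) (l := 6) rfl N93571 D221534
theorem N118276 : nd 118276 = n221535 := ndS (p := 93572) (l := 6) rfl N93572 D221535
theorem N118277 : nd 118277 = n221536 := ndS (p := 93575) (l := 5) rfl N93575 D221536
theorem N118278 : nd 118278 = n221537 := ndS (p := 93575) (l := 7) rfl N93575 D221537
theorem N118279 : nd 118279 = n221538 := ndS (p := 93576) (l := 6) rfl N93576 D221538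
theorem N118280 : nd 118280 = n221539 := ndS (p := 93578) (l := 1) rfl N93578 D221539
theorem N118281 : nd 118281 = n221540 := ndS (p := 93579) (l := 1) rfl N93579 D221540
theorem N118282 : nd 118282 = n221541 := ndS (p := 93579) (l := 7) rfl N93579 D221541
theorem N118283 : nd 118283 = n221542 := ndS (p := 93580) (l := 5) rfl N93580 D221542
theorem N118284 : nd 118284 = n221543 := ndS (p := 93582) (l := 6) rfl N93582 D221543
theorem N118285 : nd 118285 = n221544 := ndS (p := 93583) (l := 4) rfl N93583 D221544
theorem N118286 : nd 118286 = n221545 := ndS (p := 93585) (l := 6) rfl N93585 D221545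
theorem N118287 : nd 118287 = n221546 := ndS (p := 93589) (l := 5) rfl N93589 D221546
theorem N118288 : nd 118288 = n221547 := ndS (p := 93590) (l := 5) rfl N93590 D221547
theorem N118289 : nd 118289 = n221548 := ndS (p := 93591) (l := 1) rfl N93591 D221548
theorem N118290 : nd 118290 = n221549 := ndS (p := 93592) (l := 0) rfl N93592 D221549
theorem N118291 : nd 118291 = n221550 := ndS (p := 93592) (l := 1) rfl N93592 D221550
theorem N118292 : nd 118292 = n221551 := ndS (p := 93593) (l := 4) rfl N93593 D221551
theorem N118293 : nd 118293 = n221552 := ndS (p := 93594) (l := 5) rfl N93594 D221552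
theorem N118294 : nd 118294 = n221553 := ndS (p := 93595) (l := 6) rfl N93595 D221553
theorem N118295 : nd 118295 = n221554 := ndS (p := 93596) (l := 0) rfl N93596 D221554
theorem N118296 : nd 118296 = n221555 := ndS (p := 93596) (l := 1) rfl N93596 D221555
theorem N118297 : nd 118297 = n221556 := ndS (p := 93596) (l := 5) rfl N93596 D221556
theorem N118298 : nd 118298 = n221557 := ndS (p := 93596) (l := 7) rfl N93596 D221557
theorem N118299 : nd 118299 = n221558 := ndS (p := 93600) (l := 6) rfl N93600 D221558
theorem N118300 : nd 118300 = n221559 := ndS (p := 93622) (l := 3) rfl N93622 D221559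
theorem N118301 : nd 118301 = n221560 := ndS (p := 93634) (l := 6) rfl N93634 D221560
theorem N118302 : nd 118302 = n221561 := ndS (p := 93638) (l := 6) rfl N93638 D221561
theorem N118303 : nd 118303 = n221562 := ndS (p := 93639) (l := 6) rfl N93639 D221562
theorem N118304 : nd 118304 = n221563 := ndS (p := 93642) (l := 1) rfl N93642 D221563
theorem N118305 : nd 118305 = n221564 := ndS (p := 93650) (l := 5) rfl N93650 D221564
theorem N118306 : nd 118306 = n221565 := ndS (p := 93655) (l := 5) rfl N93655 D221565
theorem N118307 : nd 118307 = n221566 := ndS (p := 93655) (l := 6) rfl N93655 D221566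
theorem N118308 : nd 118308 = n221567 := ndS (p := 93657) (l := 1) rfl N93657 D221567
theorem N118309 : nd 118309 = n221568 := ndS (p := 93658) (l := 2) rfl N93658 D221568
theorem N118310 : nd 118310 = n221569 := ndS (p := 93658) (l := 6) rfl N93658 D221569
theorem N118311 : nd 118311 = n221570 := ndS (p := 93659) (l := 6) rfl N93659 D221570
theorem N118312 : nd 118312 = n221571 := ndS (p := 93661) (l := 2) rfl N93661 D221571
theorem N118313 : nd 118313 = n221572 := ndS (p := 93668) (l := 6) rfl N93668 D221572
theorem N118314 : nd 118314 = n221573 := ndS (p := 93672) (l := 5) rfl N93672 D221573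
theorem N118315 : nd 118315 = n221574 := ndS (p := 93676) (l := 0) rfl N93676 D221574
theorem N118316 : nd 118316 = n221575 := ndS (p := 93677) (l := 6) rfl N93677 D221575
theorem N118317 : nd 118317 = n221576 := ndS (p := 93682) (l := 5) rfl N93682 D221576
theorem N118318 : nd 118318 = n221577 := ndS (p := 93688) (l := 6) rfl N93688 D221577
theorem N118319 : nd 118319 = n221578 := ndS (p := 93689) (l := 0) rfl N93689 D221578
theorem N118320 : nd 118320 = n221579 := ndS (p := 93689) (l := 1) rfl N93689 D221579
theorem N118321 : nd 118321 = n221580 := ndS (p := 93691) (l := 3) rfl N93691 D221580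
theorem N118322 : nd 118322 = n221581 := ndS (p := 93691) (l := 5) rfl N93691 D221581
theorem N118323 : nd 118323 = n221582 := ndS (p := 93692) (l := 5) rfl N93692 D221582
theorem N118324 : nd 118324 = n221583 := ndS (p := 93693) (l := 0) rfl N93693 D221583
theorem N118325 : nd 118325 = n221584 := ndS (p := 93698) (l := 3) rfl N93698 D221584
theorem N118326 : nd 118326 = n221585 := ndS (p := 93707) (l := 5) rfl N93707 D221585
theorem N118327 : nd 118327 = n221586 := ndS (p := 93707) (l := 6) rfl N93707 D221586
theorem N118328 : nd 118328 = n221587 := ndS (p := 93710) (l := 5) rfl N93710 D221587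
theorem N118329 : nd 118329 = n221588 := ndS (p := 93711) (l := 0) rfl N93711 D221588
theorem N118330 : nd 118330 = n221589 := ndS (p := 93712) (l := 0) rfl N93712 D221589
theorem N118331 : nd 118331 = n221590 := ndS (p := 93713) (l := 1) rfl N93713 D221590
theorem N118332 : nd 118332 = n221591 := ndS (p := 93714) (l := 5) rfl N93714 D221591
theorem N118333 : nd 118333 = n221592 := ndS (p := 93715) (l := 5) rfl N93715 D221592
theorem N118334 : nd 118334 = n221593 := ndS (p := 93716) (l := 4) rfl N93716 D221593
theorem N118335 : nd 118335 = n221594 := ndS (p := 93719) (l := 2) rfl N93719 D221594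
theorem N118336 : nd 118336 = n221595 := ndS (p := 93719) (l := 4) rfl N93719 D221595
theorem N118337 : nd 118337 = n221596 := ndS (p := 93723) (l := 0) rfl N93723 D221596
theorem N118338 : nd 118338 = n221597 := ndS (p := 93726) (l := 4) rfl N93726 D221597
theorem N118339 : nd 118339 = n221598 := ndS (p := 93728) (l := 0) rfl N93728 D221598
theorem N118340 : nd 118340 = n221599 := ndS (p := 93736) (l := 1) rfl N93736 D221599
theorem N118341 : nd 118341 = n221600 := ndS (p := 93737) (l := 4) rfl N93737 D221600
theorem N118342 : nd 118342 = n221601 := ndS (p := 93742) (l := 6) rfl N93742 D221601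
theorem N118343 : nd 118343 = n221602 := ndS (p := 93752) (l := 1) rfl N93752 D221602
theorem N118344 : nd 118344 = n221603 := ndS (p := 93760) (l := 6) rfl N93760 D221603
theorem N118345 : nd 118345 = n221604 := ndS (p := 93762) (l := 6) rfl N93762 D221604
theorem N118346 : nd 118346 = n221605 := ndS (p := 93765) (l := 6) rfl N93765 D221605
theorem N118347 : nd 118347 = n221606 := ndS (p := 93769) (l := 5) rfl N93769 D221606
theorem N118348 : nd 118348 = n221607 := ndS (p := 93773) (l := 5) rfl N93773 D221607
theorem N118349 : nd 118349 = n221608 := ndS (p := 93774) (l := 1) rfl N93774 D221608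
theorem N118350 : nd 118350 = n221609 := ndS (p := 93777) (l := 1) rfl N93777 D221609
theorem N118351 : nd 118351 = n221610 := ndS (p := 93780) (l := 1) rfl N93780 D221610
theorem N118352 : nd 118352 = n221611 := ndS (p := 93780) (l := 5) rfl N93780 D221611
theorem N118353 : nd 118353 = n221612 := ndS (p := 93781) (l := 6) rfl N93781 D221612
theorem N118354 : nd 118354 = n221613 := ndS (p := 93783) (l := 3) rfl N93783 D221613
theorem N118355 : nd 118355 = n221614 := ndS (p := 93783) (l := 5) rfl N93783 D221614
theorem N118356 : nd 118356 = n221615 := ndS (p := 93783) (l := 6) rfl N93783 D221615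
theorem N118357 : nd 118357 = n221616 := ndS (p := 93787) (l := 3) rfl N93787 D221616
theorem N118358 : nd 118358 = n221617 := ndS (p := 93788) (l := 6) rfl N93788 D221617
theorem N118359 : nd 118359 = n221618 := ndS (p := 93796) (l := 5) rfl N93796 D221618
theorem N118360 : nd 118360 = n221619 := ndS (p := 93809) (l := 4) rfl N93809 D221619
theorem N118361 : nd 118361 = n221620 := ndS (p := 93816) (l := 5) rfl N93816 D221620
theorem N118362 : nd 118362 = n221621 := ndS (p := 93825) (l := 0) rfl N93825 D221621
theorem N118363 : nd 118363 = n221622 := ndS (p := 93826) (l := 7) rfl N93826 D221622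
theorem N118364 : nd 118364 = n221623 := ndS (p := 93833) (l := 6) rfl N93833 D221623
theorem N118365 : nd 118365 = n221624 := ndS (p := 93840) (l := 0) rfl N93840 D221624
theorem N118366 : nd 118366 = n221625 := ndS (p := 93840) (l := 1) rfl N93840 D221625
theorem N118367 : nd 118367 = n221626 := ndS (p := 93840) (l := 7) rfl N93840 D221626
theorem N118368 : nd 118368 = n221627 := ndS (p := 93848) (l := 3) rfl N93848 D221627
theorem N118369 : nd 118369 = n221628 := ndS (p := 93858) (l := 0) rfl N93858 D221628
theorem N118370 : nd 118370 = n221629 := ndS (p := 93858) (l := 1) rfl N93858 D221629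
theorem N118371 : nd 118371 = n221630 := ndS (p := 93858) (l := 5) rfl N93858 D221630
theorem N118372 : nd 118372 = n221631 := ndS (p := 93858) (l := 7) rfl N93858 D221631
theorem N118373 : nd 118373 = n221632 := ndS (p := 93859) (l := 3) rfl N93859 D221632
theorem N118374 : nd 118374 = n221633 := ndS (p := 93859) (l := 5) rfl N93859 D221633
theorem N118375 : nd 118375 = n221634 := ndS (p := 93860) (l := 4) rfl N93860 D221634
theorem N118376 : nd 118376 = n221635 := ndS (p := 93861) (l := 0) rfl N93861 D221635
theorem N118377 : nd 118377 = n221636 := ndS (p := 93861) (l := 1) rfl N93861 D221636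
theorem N118378 : nd 118378 = n221637 := ndS (p := 93861) (l := 4) rfl N93861 D221637
theorem N118379 : nd 118379 = n221638 := ndS (p := 93864) (l := 4) rfl N93864 D221638
theorem N118380 : nd 118380 = n221639 := ndS (p := 93870) (l := 5) rfl N93870 D221639
theorem N118381 : nd 118381 = n221640 := ndS (p := 93873) (l := 5) rfl N93873 D221640
theorem N118382 : nd 118382 = n221641 := ndS (p := 93873) (l := 7) rfl N93873 D221641
theorem N118383 : nd 118383 = n221642 := ndS (p := 93874) (l := 4) rfl N93874 D221642
theorem N118384 : nd 118384 = n221643 := ndS (p := 93874) (l := 5) rfl N93874 D221643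
theorem N118385 : nd 118385 = n221644 := ndS (p := 93876) (l := 7) rfl N93876 D221644
theorem N118386 : nd 118386 = n221645 := ndS (p := 93879) (l := 6) rfl N93879 D221645
theorem N118387 : nd 118387 = n221646 := ndS (p := 93881) (l := 3) rfl N93881 D221646
theorem N118388 : nd 118388 = n221647 := ndS (p := 93882) (l := 6) rfl N93882 D221647
theorem N118389 : nd 118389 = n221648 := ndS (p := 93887) (l := 6) rfl N93887 D221648
theorem N118390 : nd 118390 = n221649 := ndS (p := 93888) (l := 7) rfl N93888 D221649
theorem N118391 : nd 118391 = n221650 := ndS (p := 93894) (l := 6) rfl N93894 D221650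
theorem N118392 : nd 118392 = n221651 := ndS (p := 93896) (l := 5) rfl N93896 D221651
theorem N118393 : nd 118393 = n221652 := ndS (p := 93901) (l := 3) rfl N93901 D221652
theorem N118394 : nd 118394 = n221653 := ndS (p := 93901) (l := 5) rfl N93901 D221653
theorem N118395 : nd 118395 = n221654 := ndS (p := 93902) (l := 5) rfl N93902 D221654
theorem N118396 : nd 118396 = n221655 := ndS (p := 93903) (l := 0) rfl N93903 D221655
theorem N118397 : nd 118397 = n221656 := ndS (p := 93915) (l := 1) rfl N93915 D221656
theorem N118398 : nd 118398 = n221657 := ndS (p := 93915) (l := 7) rfl N93915 D221657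
theorem N118399 : nd 118399 = n221658 := ndS (p := 93916) (l := 6) rfl N93916 D221658
theorem N118400 : nd 118400 = n221659 := ndS (p := 93918) (l := 5) rfl N93918 D221659
theorem N118401 : nd 118401 = n221660 := ndS (p := 93918) (l := 7) rfl N93918 D221660
theorem N118402 : nd 118402 = n221661 := ndS (p := 93922) (l := 6) rfl N93922 D221661
theorem N118403 : nd 118403 = n221662 := ndS (p := 93923) (l := 6) rfl N93923 D221662
theorem N118404 : nd 118404 = n221663 := ndS (p := 93924) (l := 5) rfl N93924 D221663
theorem N118405 : nd 118405 = n221664 := ndS (p := 93924) (l := 7) rfl N93924 D221664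
theorem N118406 : nd 118406 = n221665 := ndS (p := 93928) (l := 4) rfl N93928 D221665
theorem N118407 : nd 118407 = n221666 := ndS (p := 93928) (l := 7) rfl N93928 D221666
theorem N118408 : nd 118408 = n221667 := ndS (p := 93930) (l := 3) rfl N93930 D221667
theorem N118409 : nd 118409 = n221668 := ndS (p := 93930) (l := 5) rfl N93930 D221668
theorem N118410 : nd 118410 = n221669 := ndS (p := 93935) (l := 0) rfl N93935 D221669
theorem N118411 : nd 118411 = n221670 := ndS (p := 93937) (l := 2) rfl N93937 D221670
theorem N118412 : nd 118412 = n221671 := ndS (p := 93951) (l := 5) rfl N93951 D221671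
theorem N118413 : nd 118413 = n221672 := ndS (p := 93952) (l := 5) rfl N93952 D221672
theorem N118414 : nd 118414 = n221673 := ndS (p := 93952) (l := 6) rfl N93952 D221673
theorem N118415 : nd 118415 = n221674 := ndS (p := 93954) (l := 1) rfl N93954 D221674
theorem N118416 : nd 118416 = n221675 := ndS (p := 93956) (l := 3) rfl N93956 D221675
theorem N118417 : nd 118417 = n221676 := ndS (p := 93965) (l := 3) rfl N93965 D221676
theorem N118418 : nd 118418 = n221677 := ndS (p := 93969) (l := 6) rfl N93969 D221677
theorem N118419 : nd 118419 = n221678 := ndS (p := 93980) (l := 5) rfl N93980 D221678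
theorem N118420 : nd 118420 = n221679 := ndS (p := 93981) (l := 6) rfl N93981 D221679
theorem N118421 : nd 118421 = n221680 := ndS (p := 94019) (l := 6) rfl N94019 D221680
theorem N118422 : nd 118422 = n221681 := ndS (p := 94022) (l := 4) rfl N94022 D221681
theorem N118423 : nd 118423 = n221682 := ndS (p := 94032) (l := 5) rfl N94032 D221682
theorem N118424 : nd 118424 = n221683 := ndS (p := 94033) (l := 3) rfl N94033 D221683
theorem N118425 : nd 118425 = n221684 := ndS (p := 94052) (l := 4) rfl N94052 D221684
theorem N118426 : nd 118426 = n221685 := ndS (p := 94053) (l := 6) rfl N94053 D221685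
theorem N118427 : nd 118427 = n221686 := ndS (p := 94055) (l := 0) rfl N94055 D221686
theorem N118428 : nd 118428 = n221687 := ndS (p := 94061) (l := 6) rfl N94061 D221687
theorem N118429 : nd 118429 = n221688 := ndS (p := 94062) (l := 4) rfl N94062 D221688
theorem N118430 : nd 118430 = n221689 := ndS (p := 94062) (l := 6) rfl N94062 D221689
theorem N118431 : nd 118431 = n221690 := ndS (p := 94068) (l := 4) rfl N94068 D221690
theorem N118432 : nd 118432 = n221691 := ndS (p := 94095) (l := 1) rfl N94095 D221691
theorem N118433 : nd 118433 = n221692 := ndS (p := 94095) (l := 4) rfl N94095 D221692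
theorem N118434 : nd 118434 = n221693 := ndS (p := 94102) (l := 4) rfl N94102 D221693
theorem N118435 : nd 118435 = n221694 := ndS (p := 94103) (l := 3) rfl N94103 D221694
theorem N118436 : nd 118436 = n221695 := ndS (p := 94103) (l := 5) rfl N94103 D221695
theorem N118437 : nd 118437 = n221696 := ndS (p := 94115) (l := 5) rfl N94115 D221696
theorem N118438 : nd 118438 = n221697 := ndS (p := 94116) (l := 4) rfl N94116 D221697
theorem N118439 : nd 118439 = n221698 := ndS (p := 94117) (l := 3) rfl N94117 D221698
theorem N118440 : nd 118440 = n221699 := ndS (p := 94118) (l := 2) rfl N94118 D221699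
theorem N118441 : nd 118441 = n221700 := ndS (p := 94118) (l := 5) rfl N94118 D221700
theorem N118442 : nd 118442 = n221701 := ndS (p := 94119) (l := 4) rfl N94119 D221701
theorem N118443 : nd 118443 = n221702 := ndS (p := 94119) (l := 6) rfl N94119 D221702
theorem N118444 : nd 118444 = n221703 := ndS (p := 94141) (l := 0) rfl N94141 D221703
theorem N118445 : nd 118445 = n221704 := ndS (p := 94141) (l := 7) rfl N94141 D221704
theorem N118446 : nd 118446 = n221705 := ndS (p := 94144) (l := 6) rfl N94144 D221705
theorem N118447 : nd 118447 = n221706 := ndS (p := 94148) (l := 5) rfl N94148 D221706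
theorem N118448 : nd 118448 = n221707 := ndS (p := 94151) (l := 6) rfl N94151 D221707
theorem N118449 : nd 118449 = n221708 := ndS (p := 94154) (l := 6) rfl N94154 D221708
theorem N118450 : nd 118450 = n221709 := ndS (p := 94155) (l := 0) rfl N94155 D221709
theorem N118451 : nd 118451 = n221710 := ndS (p := 94155) (l := 1) rfl N94155 D221710
theorem N118452 : nd 118452 = n221711 := ndS (p := 94155) (l := 7) rfl N94155 D221711
theorem N118453 : nd 118453 = n221712 := ndS (p := 94159) (l := 6) rfl N94159 D221712
theorem N118454 : nd 118454 = n221713 := ndS (p := 94162) (l := 7) rfl N94162 D221713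
theorem N118455 : nd 118455 = n221714 := ndS (p := 94163) (l := 6) rfl N94163 D221714
theorem N118456 : nd 118456 = n221715 := ndS (p := 94173) (l := 5) rfl N94173 D221715
theorem N118457 : nd 118457 = n221716 := ndS (p := 94174) (l := 7) rfl N94174 D221716
theorem N118458 : nd 118458 = n221717 := ndS (p := 94175) (l := 4) rfl N94175 D221717
theorem N118459 : nd 118459 = n221718 := ndS (p := 94185) (l := 7) rfl N94185 D221718
theorem N118460 : nd 118460 = n221719 := ndS (p := 94189) (l := 7) rfl N94189 D221719
theorem N118461 : nd 118461 = n221720 := ndS (p := 94192) (l := 6) rfl N94192 D221720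
theorem N118462 : nd 118462 = n221721 := ndS (p := 94193) (l := 0) rfl N94193 D221721
theorem N118463 : nd 118463 = n221722 := ndS (p := 94193) (l := 1) rfl N94193 D221722
theorem N118464 : nd 118464 = n221723 := ndS (p := 94193) (l := 5) rfl N94193 D221723
theorem N118465 : nd 118465 = n221724 := ndS (p := 94194) (l := 5) rfl N94194 D221724
theorem N118466 : nd 118466 = n221725 := ndS (p := 94194) (l := 7) rfl N94194 D221725
theorem N118467 : nd 118467 = n221726 := ndS (p := 94195) (l := 3) rfl N94195 D221726
theorem N118468 : nd 118468 = n221727 := ndS (p := 94195) (l := 5) rfl N94195 D221727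
theorem N118469 : nd 118469 = n221728 := ndS (p := 94196) (l := 4) rfl N94196 D221728
theorem N118470 : nd 118470 = n221729 := ndS (p := 94198) (l := 6) rfl N94198 D221729
theorem N118471 : nd 118471 = n221730 := ndS (p := 94199) (l := 6) rfl N94199 D221730
theorem N118472 : nd 118472 = n221731 := ndS (p := 94205) (l := 6) rfl N94205 D221731
theorem N118473 : nd 118473 = n221732 := ndS (p := 94208) (l := 0) rfl N94208 D221732
theorem N118474 : nd 118474 = n221733 := ndS (p := 94208) (l := 1) rfl N94208 D221733
theorem N118475 : nd 118475 = n221734 := ndS (p := 94208) (l := 7) rfl N94208 D221734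
theorem N118476 : nd 118476 = n221735 := ndS (p := 94209) (l := 5) rfl N94209 D221735
theorem N118477 : nd 118477 = n221736 := ndS (p := 94211) (l := 6) rfl N94211 D221736
theorem N118478 : nd 118478 = n221737 := ndS (p := 94218) (l := 1) rfl N94218 D221737
theorem N118479 : nd 118479 = n221738 := ndS (p := 94228) (l := 0) rfl N94228 D221738
theorem N118480 : nd 118480 = n221739 := ndS (p := 94229) (l := 4) rfl N94229 D221739
theorem N118481 : nd 118481 = n221740 := ndS (p := 94231) (l := 0) rfl N94231 D221740
theorem N118482 : nd 118482 = n221741 := ndS (p := 94231) (l := 7) rfl N94231 D221741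
theorem N118483 : nd 118483 = n221742 := ndS (p := 94234) (l := 5) rfl N94234 D221742
theorem N118484 : nd 118484 = n221743 := ndS (p := 94236) (l := 5) rfl N94236 D221743
theorem N118485 : nd 118485 = n221744 := ndS (p := 94241) (l := 6) rfl N94241 D221744
theorem N118486 : nd 118486 = n221745 := ndS (p := 94246) (l := 2) rfl N94246 D221745
theorem N118487 : nd 118487 = n221746 := ndS (p := 94248) (l := 6) rfl N94248 D221746
theorem N118488 : nd 118488 = n221747 := ndS (p := 94255) (l := 6) rfl N94255 D221747
theorem N118489 : nd 118489 = n221748 := ndS (p := 94260) (l := 1) rfl N94260 D221748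
theorem N118490 : nd 118490 = n221749 := ndS (p := 94263) (l := 3) rfl N94263 D221749
theorem N118491 : nd 118491 = n221750 := ndS (p := 94263) (l := 6) rfl N94263 D221750
theorem N118492 : nd 118492 = n221751 := ndS (p := 94266) (l := 3) rfl N94266 D221751
theorem N118493 : nd 118493 = n221752 := ndS (p := 94266) (l := 5) rfl N94266 D221752
theorem N118494 : nd 118494 = n221753 := ndS (p := 94266) (l := 6) rfl N94266 D221753
theorem N118495 : nd 118495 = n221754 := ndS (p := 94267) (l := 0) rfl N94267 D221754
theorem N118496 : nd 118496 = n221755 := ndS (p := 94267) (l := 1) rfl N94267 D221755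
theorem N118497 : nd 118497 = n221756 := ndS (p := 94269) (l := 2) rfl N94269 D221756
theorem N118498 : nd 118498 = n221757 := ndS (p := 94270) (l := 4) rfl N94270 D221757
theorem N118499 : nd 118499 = n221758 := ndS (p := 94270) (l := 6) rfl N94270 D221758
theorem N118500 : nd 118500 = n221759 := ndS (p := 94279) (l := 3) rfl N94279 D221759
theorem N118501 : nd 118501 = n221760 := ndS (p := 94279) (l := 6) rfl N94279 D221760
theorem N118502 : nd 118502 = n221761 := ndS (p := 94280) (l := 6) rfl N94280 D221761
theorem N118503 : nd 118503 = n221762 := ndS (p := 94281) (l := 0) rfl N94281 D221762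
theorem N118504 : nd 118504 = n221763 := ndS (p := 94281) (l := 1) rfl N94281 D221763
theorem N118505 : nd 118505 = n221764 := ndS (p := 94281) (l := 5) rfl N94281 D221764
theorem N118506 : nd 118506 = n221765 := ndS (p := 94287) (l := 1) rfl N94287 D221765
theorem N118507 : nd 118507 = n221766 := ndS (p := 94287) (l := 5) rfl N94287 D221766
theorem N118508 : nd 118508 = n221767 := ndS (p := 94287) (l := 7) rfl N94287 D221767
theorem N118509 : nd 118509 = n221768 := ndS (p := 94288) (l := 1) rfl N94288 D221768
theorem N118510 : nd 118510 = n221769 := ndS (p := 94288) (l := 5) rfl N94288 D221769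
theorem N118511 : nd 118511 = n221770 := ndS (p := 94289) (l := 4) rfl N94289 D221770
theorem N118512 : nd 118512 = n221771 := ndS (p := 94289) (l := 5) rfl N94289 D221771
theorem N118513 : nd 118513 = n221772 := ndS (p := 94290) (l := 5) rfl N94290 D221772
theorem N118514 : nd 118514 = n221773 := ndS (p := 94291) (l := 1) rfl N94291 D221773
theorem N118515 : nd 118515 = n221774 := ndS (p := 94291) (l := 4) rfl N94291 D221774
theorem N118516 : nd 118516 = n221775 := ndS (p := 94291) (l := 7) rfl N94291 D221775
theorem N118517 : nd 118517 = n221776 := ndS (p := 94294) (l := 0) rfl N94294 D221776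
theorem N118518 : nd 118518 = n221777 := ndS (p := 94294) (l := 1) rfl N94294 D221777
theorem N118519 : nd 118519 = n221778 := ndS (p := 94295) (l := 3) rfl N94295 D221778
theorem N118520 : nd 118520 = n221779 := ndS (p := 94295) (l := 5) rfl N94295 D221779
theorem N118521 : nd 118521 = n221780 := ndS (p := 94295) (l := 6) rfl N94295 D221780
theorem N118522 : nd 118522 = n221781 := ndS (p := 94296) (l := 5) rfl N94296 D221781
theorem N118523 : nd 118523 = n221782 := ndS (p := 94297) (l := 0) rfl N94297 D221782
theorem N118524 : nd 118524 = n221783 := ndS (p := 94297) (l := 1) rfl N94297 D221783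
theorem N118525 : nd 118525 = n221784 := ndS (p := 94297) (l := 4) rfl N94297 D221784
theorem N118526 : nd 118526 = n221785 := ndS (p := 94297) (l := 7) rfl N94297 D221785
theorem N118527 : nd 118527 = n221786 := ndS (p := 94299) (l := 5) rfl N94299 D221786
theorem N118528 : nd 118528 = n221787 := ndS (p := 94301) (l := 5) rfl N94301 D221787
theorem N118529 : nd 118529 = n221788 := ndS (p := 94301) (l := 6) rfl N94301 D221788
theorem N118530 : nd 118530 = n221789 := ndS (p := 94302) (l := 6) rfl N94302 D221789
theorem N118531 : nd 118531 = n221790 := ndS (p := 94304) (l := 3) rfl N94304 D221790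
theorem N118532 : nd 118532 = n221791 := ndS (p := 94304) (l := 4) rfl N94304 D221791
theorem N118533 : nd 118533 = n221792 := ndS (p := 94304) (l := 6) rfl N94304 D221792
theorem N118534 : nd 118534 = n221793 := ndS (p := 94305) (l := 1) rfl N94305 D221793
theorem N118535 : nd 118535 = n221794 := ndS (p := 94305) (l := 7) rfl N94305 D221794
theorem N118536 : nd 118536 = n221795 := ndS (p := 94306) (l := 6) rfl N94306 D221795
theorem N118537 : nd 118537 = n221796 := ndS (p := 94314) (l := 3) rfl N94314 D221796
theorem N118538 : nd 118538 = n221797 := ndS (p := 94314) (l := 5) rfl N94314 D221797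
theorem N118539 : nd 118539 = n221798 := ndS (p := 94315) (l := 0) rfl N94315 D221798
theorem N118540 : nd 118540 = n221799 := ndS (p := 94315) (l := 7) rfl N94315 D221799
theorem N118541 : nd 118541 = n221800 := ndS (p := 94317) (l := 6) rfl N94317 D221800
theorem N118542 : nd 118542 = n221801 := ndS (p := 94319) (l := 0) rfl N94319 D221801
theorem N118543 : nd 118543 = n221802 := ndS (p := 94319) (l := 1) rfl N94319 D221802
theorem N118544 : nd 118544 = n221803 := ndS (p := 94319) (l := 4) rfl N94319 D221803
theorem N118545 : nd 118545 = n221804 := ndS (p := 94321) (l := 4) rfl N94321 D221804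
theorem N118546 : nd 118546 = n221805 := ndS (p := 94323) (l := 5) rfl N94323 D221805
theorem N118547 : nd 118547 = n221806 := ndS (p := 94324) (l := 4) rfl N94324 D221806
theorem N118548 : nd 118548 = n221807 := ndS (p := 94325) (l := 3) rfl N94325 D221807
theorem N118549 : nd 118549 = n221808 := ndS (p := 94326) (l := 6) rfl N94326 D221808
theorem N118550 : nd 118550 = n221809 := ndS (p := 94332) (l := 1) rfl N94332 D221809
theorem N118551 : nd 118551 = n221810 := ndS (p := 94332) (l := 5) rfl N94332 D221810
theorem N118552 : nd 118552 = n221811 := ndS (p := 94332) (l := 7) rfl N94332 D221811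
theorem N118553 : nd 118553 = n221812 := ndS (p := 94333) (l := 4) rfl N94333 D221812
theorem N118554 : nd 118554 = n221813 := ndS (p := 94333) (l := 5) rfl N94333 D221813
theorem N118555 : nd 118555 = n221814 := ndS (p := 94334) (l := 3) rfl N94334 D221814
theorem N118556 : nd 118556 = n221815 := ndS (p := 94334) (l := 5) rfl N94334 D221815
theorem N118557 : nd 118557 = n221816 := ndS (p := 94335) (l := 0) rfl N94335 D221816
theorem N118558 : nd 118558 = n221817 := ndS (p := 94335) (l := 1) rfl N94335 D221817
theorem N118559 : nd 118559 = n221818 := ndS (p := 94335) (l := 4) rfl N94335 D221818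
theorem N118560 : nd 118560 = n221819 := ndS (p := 94335) (l := 7) rfl N94335 D221819
theorem N118561 : nd 118561 = n221820 := ndS (p := 94337) (l := 6) rfl N94337 D221820
theorem N118562 : nd 118562 = n221821 := ndS (p := 94339) (l := 3) rfl N94339 D221821
theorem N118563 : nd 118563 = n221822 := ndS (p := 94339) (l := 5) rfl N94339 D221822
theorem N118564 : nd 118564 = n221823 := ndS (p := 94340) (l := 3) rfl N94340 D221823
theorem N118565 : nd 118565 = n221824 := ndS (p := 94340) (l := 5) rfl N94340 D221824
theorem N118566 : nd 118566 = n221825 := ndS (p := 94341) (l := 0) rfl N94341 D221825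
theorem N118567 : nd 118567 = n221826 := ndS (p := 94341) (l := 1) rfl N94341 D221826
theorem N118568 : nd 118568 = n221827 := ndS (p := 94341) (l := 7) rfl N94341 D221827
theorem N118569 : nd 118569 = n221828 := ndS (p := 94343) (l := 6) rfl N94343 D221828
theorem N118570 : nd 118570 = n221829 := ndS (p := 94344) (l := 1) rfl N94344 D221829
theorem N118571 : nd 118571 = n221830 := ndS (p := 94344) (l := 7) rfl N94344 D221830
theorem N118572 : nd 118572 = n221831 := ndS (p := 94345) (l := 6) rfl N94345 D221831
theorem N118573 : nd 118573 = n221832 := ndS (p := 94346) (l := 5) rfl N94346 D221832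
theorem N118574 : nd 118574 = n221833 := ndS (p := 94346) (l := 6) rfl N94346 D221833
theorem N118575 : nd 118575 = n221834 := ndS (p := 94347) (l := 5) rfl N94347 D221834
theorem N118576 : nd 118576 = n221835 := ndS (p := 94347) (l := 6) rfl N94347 D221835
theorem N118577 : nd 118577 = n221836 := ndS (p := 94348) (l := 0) rfl N94348 D221836
theorem N118578 : nd 118578 = n221837 := ndS (p := 94348) (l := 1) rfl N94348 D221837
theorem N118579 : nd 118579 = n221838 := ndS (p := 94348) (l := 4) rfl N94348 D221838
theorem N118580 : nd 118580 = n221839 := ndS (p := 94348) (l := 7) rfl N94348 D221839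
theorem N118581 : nd 118581 = n221840 := ndS (p := 94351) (l := 6) rfl N94351 D221840
theorem N118582 : nd 118582 = n221841 := ndS (p := 94355) (l := 5) rfl N94355 D221841
theorem N118583 : nd 118583 = n221842 := ndS (p := 94356) (l := 6) rfl N94356 D221842
theorem N118584 : nd 118584 = n221843 := ndS (p := 94357) (l := 0) rfl N94357 D221843
theorem N118585 : nd 118585 = n221844 := ndS (p := 94357) (l := 5) rfl N94357 D221844
theorem N118586 : nd 118586 = n221845 := ndS (p := 94357) (l := 7) rfl N94357 D221845
theorem N118587 : nd 118587 = n221846 := ndS (p := 94358) (l := 5) rfl N94358 D221846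
theorem N118588 : nd 118588 = n221847 := ndS (p := 94359) (l := 4) rfl N94359 D221847
theorem N118589 : nd 118589 = n221848 := ndS (p := 94372) (l := 1) rfl N94372 D221848
theorem N118590 : nd 118590 = n221849 := ndS (p := 94372) (l := 5) rfl N94372 D221849
theorem N118591 : nd 118591 = n221850 := ndS (p := 94372) (l := 7) rfl N94372 D221850
theorem N118592 : nd 118592 = n221851 := ndS (p := 94374) (l := 6) rfl N94374 D221851
theorem N118593 : nd 118593 = n221852 := ndS (p := 94376) (l := 3) rfl N94376 D221852
theorem N118594 : nd 118594 = n221853 := ndS (p := 94378) (l := 7) rfl N94378 D221853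
theorem N118595 : nd 118595 = n221854 := ndS (p := 94379) (l := 5) rfl N94379 D221854
theorem N118596 : nd 118596 = n221855 := ndS (p := 94379) (l := 6) rfl N94379 D221855
theorem N118597 : nd 118597 = n221856 := ndS (p := 94381) (l := 1) rfl N94381 D221856
theorem N118598 : nd 118598 = n221857 := ndS (p := 94381) (l := 7) rfl N94381 D221857
theorem N118599 : nd 118599 = n221858 := ndS (p := 94388) (l := 3) rfl N94388 D221858
theorem N118600 : nd 118600 = n221859 := ndS (p := 94388) (l := 6) rfl N94388 D221859
theorem N118601 : nd 118601 = n221860 := ndS (p := 94393) (l := 6) rfl N94393 D221860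
theorem N118602 : nd 118602 = n221861 := ndS (p := 94398) (l := 5) rfl N94398 D221861
theorem N118603 : nd 118603 = n221862 := ndS (p := 94403) (l := 6) rfl N94403 D221862
theorem N118604 : nd 118604 = n221863 := ndS (p := 94407) (l := 3) rfl N94407 D221863
theorem N118605 : nd 118605 = n221864 := ndS (p := 94409) (l := 3) rfl N94409 D221864
theorem N118606 : nd 118606 = n221865 := ndS (p := 94423) (l := 5) rfl N94423 D221865
theorem N118607 : nd 118607 = n221866 := ndS (p := 94424) (l := 5) rfl N94424 D221866
theorem N118608 : nd 118608 = n221867 := ndS (p := 94425) (l := 0) rfl N94425 D221867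
theorem N118609 : nd 118609 = n221868 := ndS (p := 94425) (l := 1) rfl N94425 D221868
theorem N118610 : nd 118610 = n221869 := ndS (p := 94425) (l := 4) rfl N94425 D221869
theorem N118611 : nd 118611 = n221870 := ndS (p := 94425) (l := 7) rfl N94425 D221870
theorem N118612 : nd 118612 = n221871 := ndS (p := 94427) (l := 4) rfl N94427 D221871
theorem N118613 : nd 118613 = n221872 := ndS (p := 94428) (l := 3) rfl N94428 D221872
theorem N118614 : nd 118614 = n221873 := ndS (p := 94428) (l := 4) rfl N94428 D221873
theorem N118615 : nd 118615 = n221874 := ndS (p := 94428) (l := 6) rfl N94428 D221874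
theorem N118616 : nd 118616 = n221875 := ndS (p := 94450) (l := 2) rfl N94450 D221875
theorem N118617 : nd 118617 = n221876 := ndS (p := 94450) (l := 5) rfl N94450 D221876
theorem N118618 : nd 118618 = n221877 := ndS (p := 94451) (l := 6) rfl N94451 D221877
theorem N118619 : nd 118619 = n221878 := ndS (p := 94454) (l := 5) rfl N94454 D221878
theorem N118620 : nd 118620 = n221879 := ndS (p := 94459) (l := 3) rfl N94459 D221879
theorem N118621 : nd 118621 = n221880 := ndS (p := 94459) (l := 5) rfl N94459 D221880
theorem N118622 : nd 118622 = n221881 := ndS (p := 94460) (l := 5) rfl N94460 D221881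
theorem N118623 : nd 118623 = n221882 := ndS (p := 94461) (l := 1) rfl N94461 D221882
theorem N118624 : nd 118624 = n221883 := ndS (p := 94461) (l := 7) rfl N94461 D221883
theorem N118625 : nd 118625 = n221884 := ndS (p := 94467) (l := 0) rfl N94467 D221884
theorem N118626 : nd 118626 = n221885 := ndS (p := 94491) (l := 6) rfl N94491 D221885
theorem N118627 : nd 118627 = n221886 := ndS (p := 94493) (l := 0) rfl N94493 D221886
theorem N118628 : nd 118628 = n221887 := ndS (p := 94494) (l := 3) rfl N94494 D221887
theorem N118629 : nd 118629 = n221888 := ndS (p := 94494) (l := 6) rfl N94494 D221888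
theorem N118630 : nd 118630 = n221889 := ndS (p := 94498) (l := 0) rfl N94498 D221889
theorem N118631 : nd 118631 = n221890 := ndS (p := 94502) (l := 3) rfl N94502 D221890
theorem N118632 : nd 118632 = n221891 := ndS (p := 94507) (l := 2) rfl N94507 D221891
theorem N118633 : nd 118633 = n221892 := ndS (p := 94513) (l := 6) rfl N94513 D221892
theorem N118634 : nd 118634 = n221893 := ndS (p := 94516) (l := 3) rfl N94516 D221893
theorem N118635 : nd 118635 = n221894 := ndS (p := 94517) (l := 0) rfl N94517 D221894
theorem N118636 : nd 118636 = n221895 := ndS (p := 94519) (l := 2) rfl N94519 D221895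
theorem N118637 : nd 118637 = n221896 := ndS (p := 94537) (l := 5) rfl N94537 D221896
theorem N118638 : nd 118638 = n221897 := ndS (p := 94542) (l := 4) rfl N94542 D221897
theorem N118639 : nd 118639 = n221898 := ndS (p := 94545) (l := 6) rfl N94545 D221898
theorem N118640 : nd 118640 = n221899 := ndS (p := 94547) (l := 3) rfl N94547 D221899
theorem N118641 : nd 118641 = n221900 := ndS (p := 94548) (l := 6) rfl N94548 D221900
theorem N118642 : nd 118642 = n221901 := ndS (p := 94560) (l := 0) rfl N94560 D221901
theorem N118643 : nd 118643 = n221902 := ndS (p := 94560) (l := 1) rfl N94560 D221902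
theorem N118644 : nd 118644 = n221903 := ndS (p := 94560) (l := 4) rfl N94560 D221903
theorem N118645 : nd 118645 = n221904 := ndS (p := 94571) (l := 6) rfl N94571 D221904
theorem N118646 : nd 118646 = n221905 := ndS (p := 94574) (l := 5) rfl N94574 D221905
theorem N118647 : nd 118647 = n221906 := ndS (p := 94578) (l := 7) rfl N94578 D221906
theorem N118648 : nd 118648 = n221907 := ndS (p := 94587) (l := 6) rfl N94587 D221907
theorem N118649 : nd 118649 = n221908 := ndS (p := 94590) (l := 4) rfl N94590 D221908
theorem N118650 : nd 118650 = n221909 := ndS (p := 94593) (l := 2) rfl N94593 D221909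
theorem N118651 : nd 118651 = n221910 := ndS (p := 94599) (l := 2) rfl N94599 D221910
theorem N118652 : nd 118652 = n221911 := ndS (p := 94613) (l := 0) rfl N94613 D221911
theorem N118653 : nd 118653 = n221912 := ndS (p := 94629) (l := 4) rfl N94629 D221912
theorem N118654 : nd 118654 = n221913 := ndS (p := 94630) (l := 3) rfl N94630 D221913
theorem N118655 : nd 118655 = n221914 := ndS (p := 94631) (l := 6) rfl N94631 D221914
theorem N118656 : nd 118656 = n221915 := ndS (p := 94634) (l := 6) rfl N94634 D221915
theorem N118657 : nd 118657 = n221916 := ndS (p := 94635) (l := 7) rfl N94635 D221916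
theorem N118658 : nd 118658 = n221917 := ndS (p := 94636) (l := 3) rfl N94636 D221917
theorem N118659 : nd 118659 = n221918 := ndS (p := 94636) (l := 6) rfl N94636 D221918
theorem N118660 : nd 118660 = n221919 := ndS (p := 94637) (l := 0) rfl N94637 D221919
theorem N118661 : nd 118661 = n221920 := ndS (p := 94637) (l := 1) rfl N94637 D221920
theorem N118662 : nd 118662 = n221921 := ndS (p := 94637) (l := 5) rfl N94637 D221921
theorem N118663 : nd 118663 = n221922 := ndS (p := 94639) (l := 6) rfl N94639 D221922
theorem N118664 : nd 118664 = n221923 := ndS (p := 94640) (l := 4) rfl N94640 D221923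
theorem N118665 : nd 118665 = n221924 := ndS (p := 94641) (l := 0) rfl N94641 D221924
theorem N118666 : nd 118666 = n221925 := ndS (p := 94642) (l := 6) rfl N94642 D221925
theorem N118667 : nd 118667 = n221926 := ndS (p := 94648) (l := 6) rfl N94648 D221926
theorem N118668 : nd 118668 = n221927 := ndS (p := 94649) (l := 0) rfl N94649 D221927
theorem N118669 : nd 118669 = n221928 := ndS (p := 94653) (l := 6) rfl N94653 D221928
theorem N118670 : nd 118670 = n221929 := ndS (p := 94656) (l := 5) rfl N94656 D221929
theorem N118671 : nd 118671 = n221930 := ndS (p := 94658) (l := 0) rfl N94658 D221930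
theorem N118672 : nd 118672 = n221931 := ndS (p := 94672) (l := 6) rfl N94672 D221931
theorem N118673 : nd 118673 = n221932 := ndS (p := 94675) (l := 0) rfl N94675 D221932
theorem N118674 : nd 118674 = n221933 := ndS (p := 94680) (l := 6) rfl N94680 D221933
theorem N118675 : nd 118675 = n221934 := ndS (p := 94681) (l := 7) rfl N94681 D221934
theorem N118676 : nd 118676 = n221935 := ndS (p := 94684) (l := 5) rfl N94684 D221935
theorem N118677 : nd 118677 = n221936 := ndS (p := 94687) (l := 1) rfl N94687 D221936
theorem N118678 : nd 118678 = n221937 := ndS (p := 94708) (l := 6) rfl N94708 D221937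
theorem N118679 : nd 118679 = n221938 := ndS (p := 94710) (l := 3) rfl N94710 D221938
theorem N118680 : nd 118680 = n221939 := ndS (p := 94711) (l := 7) rfl N94711 D221939
theorem N118681 : nd 118681 = n221940 := ndS (p := 94713) (l := 4) rfl N94713 D221940
theorem N118682 : nd 118682 = n221941 := ndS (p := 94715) (l := 0) rfl N94715 D221941
theorem N118683 : nd 118683 = n221942 := ndS (p := 94739) (l := 5) rfl N94739 D221942
theorem N118684 : nd 118684 = n221943 := ndS (p := 94749) (l := 5) rfl N94749 D221943
theorem N118685 : nd 118685 = n221944 := ndS (p := 94750) (l := 5) rfl N94750 D221944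
theorem N118686 : nd 118686 = n221945 := ndS (p := 94754) (l := 5) rfl N94754 D221945
theorem N118687 : nd 118687 = n221946 := ndS (p := 94758) (l := 5) rfl N94758 D221946
theorem N118688 : nd 118688 = n221947 := ndS (p := 94759) (l := 0) rfl N94759 D221947
theorem N118689 : nd 118689 = n221948 := ndS (p := 94761) (l := 4) rfl N94761 D221948
theorem N118690 : nd 118690 = n221949 := ndS (p := 94761) (l := 6) rfl N94761 D221949
theorem N118691 : nd 118691 = n221950 := ndS (p := 94767) (l := 5) rfl N94767 D221950
theorem N118692 : nd 118692 = n221951 := ndS (p := 94768) (l := 2) rfl N94768 D221951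
theorem N118693 : nd 118693 = n221952 := ndS (p := 94776) (l := 1) rfl N94776 D221952
theorem N118694 : nd 118694 = n221953 := ndS (p := 94776) (l := 5) rfl N94776 D221953
theorem N118695 : nd 118695 = n221954 := ndS (p := 94777) (l := 7) rfl N94777 D221954
theorem N118696 : nd 118696 = n221955 := ndS (p := 94784) (l := 3) rfl N94784 D221955
theorem N118697 : nd 118697 = n221956 := ndS (p := 94790) (l := 6) rfl N94790 D221956
theorem N118698 : nd 118698 = n221957 := ndS (p := 94792) (l := 3) rfl N94792 D221957
theorem N118699 : nd 118699 = n221958 := ndS (p := 94799) (l := 6) rfl N94799 D221958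
theorem N118700 : nd 118700 = n221959 := ndS (p := 94800) (l := 4) rfl N94800 D221959
theorem N118701 : nd 118701 = n221960 := ndS (p := 94804) (l := 4) rfl N94804 D221960
theorem N118702 : nd 118702 = n221961 := ndS (p := 94820) (l := 5) rfl N94820 D221961
theorem N118703 : nd 118703 = n221962 := ndS (p := 94822) (l := 6) rfl N94822 D221962
theorem N118704 : nd 118704 = n221963 := ndS (p := 94823) (l := 5) rfl N94823 D221963
theorem N118705 : nd 118705 = n221964 := ndS (p := 94831) (l := 6) rfl N94831 D221964
theorem N118706 : nd 118706 = n221965 := ndS (p := 94837) (l := 7) rfl N94837 D221965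
theorem N118707 : nd 118707 = n221966 := ndS (p := 94838) (l := 5) rfl N94838 D221966
theorem N118708 : nd 118708 = n221967 := ndS (p := 94840) (l := 6) rfl N94840 D221967
theorem N118709 : nd 118709 = n221968 := ndS (p := 94847) (l := 6) rfl N94847 D221968
theorem N118710 : nd 118710 = n221969 := ndS (p := 94849) (l := 5) rfl N94849 D221969
theorem N118711 : nd 118711 = n221970 := ndS (p := 94851) (l := 0) rfl N94851 D221970
theorem N118712 : nd 118712 = n221971 := ndS (p := 94854) (l := 1) rfl N94854 D221971
theorem N118713 : nd 118713 = n221972 := ndS (p := 94854) (l := 7) rfl N94854 D221972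
theorem N118714 : nd 118714 = n221973 := ndS (p := 94857) (l := 0) rfl N94857 D221973
theorem N118715 : nd 118715 = n221974 := ndS (p := 94857) (l := 1) rfl N94857 D221974
theorem N118716 : nd 118716 = n221975 := ndS (p := 94857) (l := 5) rfl N94857 D221975
theorem N118717 : nd 118717 = n221976 := ndS (p := 94858) (l := 5) rfl N94858 D221976
theorem N118718 : nd 118718 = n221977 := ndS (p := 94861) (l := 4) rfl N94861 D221977
theorem N118719 : nd 118719 = n221978 := ndS (p := 94862) (l := 6) rfl N94862 D221978
theorem N118720 : nd 118720 = n221979 := ndS (p := 94866) (l := 3) rfl N94866 D221979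
theorem N118721 : nd 118721 = n221980 := ndS (p := 94867) (l := 3) rfl N94867 D221980
theorem N118722 : nd 118722 = n221981 := ndS (p := 94868) (l := 0) rfl N94868 D221981
theorem N118723 : nd 118723 = n221982 := ndS (p := 94868) (l := 1) rfl N94868 D221982
theorem N118724 : nd 118724 = n221983 := ndS (p := 94868) (l := 7) rfl N94868 D221983
theorem N118725 : nd 118725 = n221984 := ndS (p := 94881) (l := 3) rfl N94881 D221984
theorem N118726 : nd 118726 = n221985 := ndS (p := 94883) (l := 5) rfl N94883 D221985
theorem N118727 : nd 118727 = n221986 := ndS (p := 94884) (l := 0) rfl N94884 D221986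
theorem N118728 : nd 118728 = n221987 := ndS (p := 94884) (l := 1) rfl N94884 D221987
theorem N118729 : nd 118729 = n221988 := ndS (p := 94884) (l := 4) rfl N94884 D221988
theorem N118730 : nd 118730 = n221989 := ndS (p := 94888) (l := 6) rfl N94888 D221989
theorem N118731 : nd 118731 = n221990 := ndS (p := 94889) (l := 4) rfl N94889 D221990
theorem N118732 : nd 118732 = n221991 := ndS (p := 94889) (l := 6) rfl N94889 D221991
theorem N118733 : nd 118733 = n221992 := ndS (p := 94892) (l := 5) rfl N94892 D221992
theorem N118734 : nd 118734 = n221993 := ndS (p := 94894) (l := 2) rfl N94894 D221993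
theorem N118735 : nd 118735 = n221994 := ndS (p := 94899) (l := 3) rfl N94899 D221994
theorem N118736 : nd 118736 = n221995 := ndS (p := 94901) (l := 0) rfl N94901 D221995
theorem N118737 : nd 118737 = n221996 := ndS (p := 94901) (l := 1) rfl N94901 D221996
theorem N118738 : nd 118738 = n221997 := ndS (p := 94901) (l := 2) rfl N94901 D221997
theorem N118739 : nd 118739 = n221998 := ndS (p := 94902) (l := 1) rfl N94902 D221998
theorem N118740 : nd 118740 = n221999 := ndS (p := 94905) (l := 2) rfl N94905 D221999
theorem N118741 : nd 118741 = n222000 := ndS (p := 94907) (l := 4) rfl N94907 D222000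
theorem N118742 : nd 118742 = n222001 := ndS (p := 94911) (l := 0) rfl N94911 D222001
theorem N118743 : nd 118743 = n222002 := ndS (p := 94911) (l := 2) rfl N94911 D222002
theorem N118744 : nd 118744 = n222003 := ndS (p := 94922) (l := 4) rfl N94922 D222003
theorem N118745 : nd 118745 = n222004 := ndS (p := 94925) (l := 5) rfl N94925 D222004
theorem N118746 : nd 118746 = n222005 := ndS (p := 94944) (l := 3) rfl N94944 D222005
theorem N118747 : nd 118747 = n222006 := ndS (p := 94956) (l := 3) rfl N94956 D222006
theorem N118748 : nd 118748 = n222007 := ndS (p := 94956) (l := 6) rfl N94956 D222007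
theorem N118749 : nd 118749 = n222008 := ndS (p := 94960) (l := 3) rfl N94960 D222008
theorem N118750 : nd 118750 = n222009 := ndS (p := 94965) (l := 7) rfl N94965 D222009
theorem N118751 : nd 118751 = n222010 := ndS (p := 94968) (l := 5) rfl N94968 D222010
theorem N118752 : nd 118752 = n222011 := ndS (p := 94973) (l := 6) rfl N94973 D222011
theorem N118753 : nd 118753 = n222012 := ndS (p := 94977) (l := 4) rfl N94977 D222012
theorem N118754 : nd 118754 = n222013 := ndS (p := 94978) (l := 4) rfl N94978 D222013
theorem N118755 : nd 118755 = n222014 := ndS (p := 94979) (l := 0) rfl N94979 D222014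
theorem N118756 : nd 118756 = n222015 := ndS (p := 94979) (l := 1) rfl N94979 D222015
theorem N118757 : nd 118757 = n222016 := ndS (p := 94986) (l := 5) rfl N94986 D222016
theorem N118758 : nd 118758 = n222017 := ndS (p := 94988) (l := 5) rfl N94988 D222017
theorem N118759 : nd 118759 = n222018 := ndS (p := 94989) (l := 5) rfl N94989 D222018
theorem N118760 : nd 118760 = n222019 := ndS (p := 94994) (l := 4) rfl N94994 D222019
theorem N118761 : nd 118761 = n222020 := ndS (p := 94995) (l := 4) rfl N94995 D222020
theorem N118762 : nd 118762 = n222021 := ndS (p := 94996) (l := 4) rfl N94996 D222021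
theorem N118763 : nd 118763 = n222022 := ndS (p := 95000) (l := 3) rfl N95000 D222022
theorem N118764 : nd 118764 = n222023 := ndS (p := 95005) (l := 6) rfl N95005 D222023
theorem N118765 : nd 118765 = n222024 := ndS (p := 95006) (l := 6) rfl N95006 D222024
theorem N118766 : nd 118766 = n222025 := ndS (p := 95008) (l := 0) rfl N95008 D222025
theorem N118767 : nd 118767 = n222026 := ndS (p := 95008) (l := 3) rfl N95008 D222026
theorem N118768 : nd 118768 = n222027 := ndS (p := 95008) (l := 4) rfl N95008 D222027
theorem N118769 : nd 118769 = n222028 := ndS (p := 95008) (l := 5) rfl N95008 D222028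
theorem N118770 : nd 118770 = n222029 := ndS (p := 95008) (l := 7) rfl N95008 D222029
theorem N118771 : nd 118771 = n222030 := ndS (p := 95009) (l := 4) rfl N95009 D222030
theorem N118772 : nd 118772 = n222031 := ndS (p := 95009) (l := 5) rfl N95009 D222031
theorem N118773 : nd 118773 = n222032 := ndS (p := 95011) (l := 1) rfl N95011 D222032
theorem N118774 : nd 118774 = n222033 := ndS (p := 95011) (l := 4) rfl N95011 D222033
theorem N118775 : nd 118775 = n222034 := ndS (p := 95011) (l := 7) rfl N95011 D222034
theorem N118776 : nd 118776 = n222035 := ndS (p := 95014) (l := 3) rfl N95014 D222035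
theorem N118777 : nd 118777 = n222036 := ndS (p := 95014) (l := 6) rfl N95014 D222036
theorem N118778 : nd 118778 = n222037 := ndS (p := 95029) (l := 0) rfl N95029 D222037
theorem N118779 : nd 118779 = n222038 := ndS (p := 95029) (l := 1) rfl N95029 D222038
theorem N118780 : nd 118780 = n222039 := ndS (p := 95030) (l := 3) rfl N95030 D222039
theorem N118781 : nd 118781 = n222040 := ndS (p := 95031) (l := 6) rfl N95031 D222040
theorem N118782 : nd 118782 = n222041 := ndS (p := 95033) (l := 3) rfl N95033 D222041
theorem N118783 : nd 118783 = n222042 := ndS (p := 95038) (l := 6) rfl N95038 D222042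
theorem N118784 : nd 118784 = n222043 := ndS (p := 95044) (l := 5) rfl N95044 D222043
theorem N118785 : nd 118785 = n222044 := ndS (p := 95045) (l := 6) rfl N95045 D222044
theorem N118786 : nd 118786 = n222045 := ndS (p := 95048) (l := 6) rfl N95048 D222045
theorem N118787 : nd 118787 = n222046 := ndS (p := 95053) (l := 4) rfl N95053 D222046
theorem N118788 : nd 118788 = n222047 := ndS (p := 95071) (l := 4) rfl N95071 D222047
theorem N118789 : nd 118789 = n222048 := ndS (p := 95072) (l := 3) rfl N95072 D222048
theorem N118790 : nd 118790 = n222049 := ndS (p := 95073) (l := 5) rfl N95073 D222049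
theorem N118791 : nd 118791 = n222050 := ndS (p := 95073) (l := 7) rfl N95073 D222050
theorem N118792 : nd 118792 = n222051 := ndS (p := 95077) (l := 0) rfl N95077 D222051
theorem N118793 : nd 118793 = n222052 := ndS (p := 95079) (l := 6) rfl N95079 D222052
theorem N118794 : nd 118794 = n222053 := ndS (p := 95080) (l := 6) rfl N95080 D222053
theorem N118795 : nd 118795 = n222054 := ndS (p := 95085) (l := 6) rfl N95085 D222054
theorem N118796 : nd 118796 = n222055 := ndS (p := 95086) (l := 0) rfl N95086 D222055
theorem N118797 : nd 118797 = n222056 := ndS (p := 95094) (l := 1) rfl N95094 D222056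
theorem N118798 : nd 118798 = n222057 := ndS (p := 95108) (l := 4) rfl N95108 D222057
theorem N118799 : nd 118799 = n222058 := ndS (p := 95116) (l := 0) rfl N95116 D222058
theorem N118800 : nd 118800 = n222059 := ndS (p := 95118) (l := 6) rfl N95118 D222059
theorem N118801 : nd 118801 = n222060 := ndS (p := 95126) (l := 0) rfl N95126 D222060
theorem N118802 : nd 118802 = n222061 := ndS (p := 95127) (l := 4) rfl N95127 D222061
theorem N118803 : nd 118803 = n222062 := ndS (p := 95132) (l := 4) rfl N95132 D222062
theorem N118804 : nd 118804 = n222063 := ndS (p := 95134) (l := 3) rfl N95134 D222063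
theorem N118805 : nd 118805 = n222064 := ndS (p := 95136) (l := 6) rfl N95136 D222064
theorem N118806 : nd 118806 = n222065 := ndS (p := 95141) (l := 6) rfl N95141 D222065
theorem N118807 : nd 118807 = n222066 := ndS (p := 95159) (l := 6) rfl N95159 D222066
theorem N118808 : nd 118808 = n222067 := ndS (p := 95160) (l := 5) rfl N95160 D222067
theorem N118809 : nd 118809 = n222068 := ndS (p := 95173) (l := 3) rfl N95173 D222068
theorem N118810 : nd 118810 = n222069 := ndS (p := 95181) (l := 6) rfl N95181 D222069
theorem N118811 : nd 118811 = n222070 := ndS (p := 95185) (l := 6) rfl N95185 D222070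
theorem N118812 : nd 118812 = n222071 := ndS (p := 95189) (l := 3) rfl N95189 D222071
theorem N118813 : nd 118813 = n222072 := ndS (p := 95193) (l := 6) rfl N95193 D222072
theorem N118814 : nd 118814 = n222073 := ndS (p := 95194) (l := 7) rfl N95194 D222073
theorem N118815 : nd 118815 = n222074 := ndS (p := 95197) (l := 6) rfl N95197 D222074
theorem N118816 : nd 118816 = n222075 := ndS (p := 95214) (l := 3) rfl N95214 D222075
theorem N118817 : nd 118817 = n222076 := ndS (p := 95221) (l := 0) rfl N95221 D222076
theorem N118818 : nd 118818 = n222077 := ndS (p := 95230) (l := 7) rfl N95230 D222077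
theorem N118819 : nd 118819 = n222078 := ndS (p := 95236) (l := 6) rfl N95236 D222078
theorem N118820 : nd 118820 = n222079 := ndS (p := 95237) (l := 0) rfl N95237 D222079
theorem N118821 : nd 118821 = n222080 := ndS (p := 95238) (l := 3) rfl N95238 D222080
theorem N118822 : nd 118822 = n222081 := ndS (p := 95243) (l := 4) rfl N95243 D222081
theorem N118823 : nd 118823 = n222082 := ndS (p := 95247) (l := 5) rfl N95247 D222082
theorem N118824 : nd 118824 = n222083 := ndS (p := 95248) (l := 5) rfl N95248 D222083
theorem N118825 : nd 118825 = n222084 := ndS (p := 95249) (l := 3) rfl N95249 D222084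
theorem N118826 : nd 118826 = n222085 := ndS (p := 95250) (l := 0) rfl N95250 D222085
theorem N118827 : nd 118827 = n222086 := ndS (p := 95252) (l := 3) rfl N95252 D222086
theorem N118828 : nd 118828 = n222087 := ndS (p := 95260) (l := 0) rfl N95260 D222087
theorem N118829 : nd 118829 = n222088 := ndS (p := 95276) (l := 1) rfl N95276 D222088
theorem N118830 : nd 118830 = n222089 := ndS (p := 95277) (l := 5) rfl N95277 D222089
theorem N118831 : nd 118831 = n222090 := ndS (p := 95278) (l := 6) rfl N95278 D222090
theorem N118832 : nd 118832 = n222091 := ndS (p := 95294) (l := 4) rfl N95294 D222091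
theorem N118833 : nd 118833 = n222092 := ndS (p := 95296) (l := 4) rfl N95296 D222092
theorem N118834 : nd 118834 = n222093 := ndS (p := 95305) (l := 3) rfl N95305 D222093
theorem N118835 : nd 118835 = n222094 := ndS (p := 95305) (l := 5) rfl N95305 D222094
theorem N118836 : nd 118836 = n222095 := ndS (p := 95306) (l := 5) rfl N95306 D222095
theorem N118837 : nd 118837 = n222096 := ndS (p := 95307) (l := 0) rfl N95307 D222096
theorem N118838 : nd 118838 = n222097 := ndS (p := 95307) (l := 1) rfl N95307 D222097
theorem N118839 : nd 118839 = n222098 := ndS (p := 95307) (l := 4) rfl N95307 D222098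
theorem N118840 : nd 118840 = n222099 := ndS (p := 95310) (l := 3) rfl N95310 D222099
theorem N118841 : nd 118841 = n222100 := ndS (p := 95310) (l := 4) rfl N95310 D222100
theorem N118842 : nd 118842 = n222101 := ndS (p := 95310) (l := 6) rfl N95310 D222101
theorem N118843 : nd 118843 = n222102 := ndS (p := 95311) (l := 4) rfl N95311 D222102
theorem N118844 : nd 118844 = n222103 := ndS (p := 95312) (l := 3) rfl N95312 D222103
theorem N118845 : nd 118845 = n222104 := ndS (p := 95316) (l := 6) rfl N95316 D222104
theorem N118846 : nd 118846 = n222105 := ndS (p := 95317) (l := 6) rfl N95317 D222105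
theorem N118847 : nd 118847 = n222106 := ndS (p := 95318) (l := 1) rfl N95318 D222106
theorem N118848 : nd 118848 = n222107 := ndS (p := 95322) (l := 6) rfl N95322 D222107
theorem N118849 : nd 118849 = n222108 := ndS (p := 95323) (l := 7) rfl N95323 D222108
theorem N118850 : nd 118850 = n222109 := ndS (p := 95325) (l := 1) rfl N95325 D222109
theorem N118851 : nd 118851 = n222110 := ndS (p := 95325) (l := 5) rfl N95325 D222110
theorem N118852 : nd 118852 = n222111 := ndS (p := 95326) (l := 3) rfl N95326 D222111
theorem N118853 : nd 118853 = n222112 := ndS (p := 95326) (l := 5) rfl N95326 D222112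
theorem N118854 : nd 118854 = n222113 := ndS (p := 95327) (l := 5) rfl N95327 D222113
theorem N118855 : nd 118855 = n222114 := ndS (p := 95328) (l := 4) rfl N95328 D222114
theorem N118856 : nd 118856 = n222115 := ndS (p := 95328) (l := 7) rfl N95328 D222115
theorem N118857 : nd 118857 = n222116 := ndS (p := 95352) (l := 1) rfl N95352 D222116
theorem N118858 : nd 118858 = n222117 := ndS (p := 95352) (l := 5) rfl N95352 D222117
theorem N118859 : nd 118859 = n222118 := ndS (p := 95355) (l := 4) rfl N95355 D222118
theorem N118860 : nd 118860 = n222119 := ndS (p := 95356) (l := 4) rfl N95356 D222119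
theorem N118861 : nd 118861 = n222120 := ndS (p := 95357) (l := 4) rfl N95357 D222120
theorem N118862 : nd 118862 = n222121 := ndS (p := 95360) (l := 0) rfl N95360 D222121
theorem N118863 : nd 118863 = n222122 := ndS (p := 95360) (l := 5) rfl N95360 D222122
theorem N118864 : nd 118864 = n222123 := ndS (p := 95363) (l := 5) rfl N95363 D222123
theorem N118865 : nd 118865 = n222124 := ndS (p := 95364) (l := 5) rfl N95364 D222124
theorem N118866 : nd 118866 = n222125 := ndS (p := 95366) (l := 6) rfl N95366 D222125
theorem N118867 : nd 118867 = n222126 := ndS (p := 95367) (l := 0) rfl N95367 D222126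
theorem N118868 : nd 118868 = n222127 := ndS (p := 95376) (l := 6) rfl N95376 D222127
theorem N118869 : nd 118869 = n222128 := ndS (p := 95381) (l := 5) rfl N95381 D222128
theorem N118870 : nd 118870 = n222129 := ndS (p := 95384) (l := 5) rfl N95384 D222129
theorem N118871 : nd 118871 = n222130 := ndS (p := 95388) (l := 0) rfl N95388 D222130
theorem N118872 : nd 118872 = n222131 := ndS (p := 95388) (l := 7) rfl N95388 D222131
theorem N118873 : nd 118873 = n222132 := ndS (p := 95391) (l := 0) rfl N95391 D222132
theorem N118874 : nd 118874 = n222133 := ndS (p := 95391) (l := 1) rfl N95391 D222133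
theorem N118875 : nd 118875 = n222134 := ndS (p := 95401) (l := 0) rfl N95401 D222134
theorem N118876 : nd 118876 = n222135 := ndS (p := 95401) (l := 1) rfl N95401 D222135
theorem N118877 : nd 118877 = n222136 := ndS (p := 95401) (l := 4) rfl N95401 D222136
theorem N118878 : nd 118878 = n222137 := ndS (p := 95403) (l := 2) rfl N95403 D222137
theorem N118879 : nd 118879 = n222138 := ndS (p := 95403) (l := 5) rfl N95403 D222138
theorem N118880 : nd 118880 = n222139 := ndS (p := 95406) (l := 5) rfl N95406 D222139
theorem N118881 : nd 118881 = n222140 := ndS (p := 95406) (l := 7) rfl N95406 D222140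
theorem N118882 : nd 118882 = n222141 := ndS (p := 95407) (l := 4) rfl N95407 D222141
theorem N118883 : nd 118883 = n222142 := ndS (p := 95409) (l := 0) rfl N95409 D222142
theorem N118884 : nd 118884 = n222143 := ndS (p := 95409) (l := 7) rfl N95409 D222143
theorem N118885 : nd 118885 = n222144 := ndS (p := 95411) (l := 5) rfl N95411 D222144
theorem N118886 : nd 118886 = n222145 := ndS (p := 95414) (l := 5) rfl N95414 D222145
theorem N118887 : nd 118887 = n222146 := ndS (p := 95416) (l := 0) rfl N95416 D222146
theorem N118888 : nd 118888 = n222147 := ndS (p := 95416) (l := 1) rfl N95416 D222147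
theorem N118889 : nd 118889 = n222148 := ndS (p := 95416) (l := 4) rfl N95416 D222148
theorem N118890 : nd 118890 = n222149 := ndS (p := 95416) (l := 6) rfl N95416 D222149
theorem N118891 : nd 118891 = n222150 := ndS (p := 95419) (l := 3) rfl N95419 D222150
theorem N118892 : nd 118892 = n222151 := ndS (p := 95419) (l := 6) rfl N95419 D222151
theorem N118893 : nd 118893 = n222152 := ndS (p := 95421) (l := 4) rfl N95421 D222152
theorem N118894 : nd 118894 = n222153 := ndS (p := 95422) (l := 2) rfl N95422 D222153
theorem N118895 : nd 118895 = n222154 := ndS (p := 95422) (l := 6) rfl N95422 D222154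
theorem N118896 : nd 118896 = n222155 := ndS (p := 95423) (l := 0) rfl N95423 D222155
theorem N118897 : nd 118897 = n222156 := ndS (p := 95423) (l := 1) rfl N95423 D222156
theorem N118898 : nd 118898 = n222157 := ndS (p := 95424) (l := 0) rfl N95424 D222157
theorem N118899 : nd 118899 = n222158 := ndS (p := 95424) (l := 1) rfl N95424 D222158
theorem N118900 : nd 118900 = n222159 := ndS (p := 95425) (l := 2) rfl N95425 D222159
theorem N118901 : nd 118901 = n222160 := ndS (p := 95425) (l := 4) rfl N95425 D222160
theorem N118902 : nd 118902 = n222161 := ndS (p := 95425) (l := 6) rfl N95425 D222161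
theorem N118903 : nd 118903 = n222162 := ndS (p := 95426) (l := 3) rfl N95426 D222162
theorem N118904 : nd 118904 = n222163 := ndS (p := 95427) (l := 5) rfl N95427 D222163
theorem N118905 : nd 118905 = n222164 := ndS (p := 95427) (l := 7) rfl N95427 D222164
theorem N118906 : nd 118906 = n222165 := ndS (p := 95441) (l := 6) rfl N95441 D222165
theorem N118907 : nd 118907 = n222166 := ndS (p := 95442) (l := 0) rfl N95442 D222166
theorem N118908 : nd 118908 = n222167 := ndS (p := 95442) (l := 1) rfl N95442 D222167
theorem N118909 : nd 118909 = n222168 := ndS (p := 95442) (l := 7) rfl N95442 D222168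
theorem N118910 : nd 118910 = n222169 := ndS (p := 95447) (l := 4) rfl N95447 D222169
theorem N118911 : nd 118911 = n222170 := ndS (p := 95450) (l := 1) rfl N95450 D222170
theorem N118912 : nd 118912 = n222171 := ndS (p := 95457) (l := 5) rfl N95457 D222171
theorem N118913 : nd 118913 = n222172 := ndS (p := 95471) (l := 5) rfl N95471 D222172
theorem N118914 : nd 118914 = n222173 := ndS (p := 95476) (l := 4) rfl N95476 D222173
theorem N118915 : nd 118915 = n222174 := ndS (p := 95476) (l := 6) rfl N95476 D222174
theorem N118916 : nd 118916 = n222175 := ndS (p := 95478) (l := 4) rfl N95478 D222175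
theorem N118917 : nd 118917 = n222176 := ndS (p := 95480) (l := 4) rfl N95480 D222176
theorem N118918 : nd 118918 = n222177 := ndS (p := 95480) (l := 6) rfl N95480 D222177
theorem N118919 : nd 118919 = n222178 := ndS (p := 95481) (l := 1) rfl N95481 D222178
theorem N118920 : nd 118920 = n222179 := ndS (p := 95481) (l := 7) rfl N95481 D222179
theorem N118921 : nd 118921 = n222180 := ndS (p := 95489) (l := 5) rfl N95489 D222180
theorem N118922 : nd 118922 = n222181 := ndS (p := 95492) (l := 2) rfl N95492 D222181
theorem N118923 : nd 118923 = n222182 := ndS (p := 95493) (l := 5) rfl N95493 D222182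
theorem N118924 : nd 118924 = n222183 := ndS (p := 95495) (l := 0) rfl N95495 D222183
theorem N118925 : nd 118925 = n222184 := ndS (p := 95495) (l := 7) rfl N95495 D222184
theorem N118926 : nd 118926 = n222185 := ndS (p := 95505) (l := 0) rfl N95505 D222185
theorem N118927 : nd 118927 = n222186 := ndS (p := 95508) (l := 1) rfl N95508 D222186
theorem N118928 : nd 118928 = n222187 := ndS (p := 95508) (l := 2) rfl N95508 D222187
theorem N118929 : nd 118929 = n222188 := ndS (p := 95510) (l := 3) rfl N95510 D222188
theorem N118930 : nd 118930 = n222189 := ndS (p := 95524) (l := 5) rfl N95524 D222189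
theorem N118931 : nd 118931 = n222190 := ndS (p := 95524) (l := 6) rfl N95524 D222190
theorem N118932 : nd 118932 = n222191 := ndS (p := 95544) (l := 5) rfl N95544 D222191
theorem N118933 : nd 118933 = n222192 := ndS (p := 95555) (l := 1) rfl N95555 D222192
theorem N118934 : nd 118934 = n222193 := ndS (p := 95558) (l := 4) rfl N95558 D222193
theorem N118935 : nd 118935 = n222194 := ndS (p := 95570) (l := 5) rfl N95570 D222194
theorem N118936 : nd 118936 = n222195 := ndS (p := 95571) (l := 0) rfl N95571 D222195
theorem N118937 : nd 118937 = n222196 := ndS (p := 95571) (l := 4) rfl N95571 D222196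
theorem N118938 : nd 118938 = n222197 := ndS (p := 95571) (l := 7) rfl N95571 D222197
theorem N118939 : nd 118939 = n222198 := ndS (p := 95573) (l := 0) rfl N95573 D222198
theorem N118940 : nd 118940 = n222199 := ndS (p := 95577) (l := 1) rfl N95577 D222199
theorem N118941 : nd 118941 = n222200 := ndS (p := 95583) (l := 1) rfl N95583 D222200
theorem N118942 : nd 118942 = n222201 := ndS (p := 95599) (l := 6) rfl N95599 D222201
theorem N118943 : nd 118943 = n222202 := ndS (p := 95600) (l := 6) rfl N95600 D222202
theorem N118944 : nd 118944 = n222203 := ndS (p := 95607) (l := 0) rfl N95607 D222203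
theorem N118945 : nd 118945 = n222204 := ndS (p := 95607) (l := 1) rfl N95607 D222204
theorem N118946 : nd 118946 = n222205 := ndS (p := 95607) (l := 2) rfl N95607 D222205
theorem N118947 : nd 118947 = n222206 := ndS (p := 95610) (l := 4) rfl N95610 D222206
theorem N118948 : nd 118948 = n222207 := ndS (p := 95620) (l := 2) rfl N95620 D222207
theorem N118949 : nd 118949 = n222208 := ndS (p := 95624) (l := 5) rfl N95624 D222208
theorem N118950 : nd 118950 = n222209 := ndS (p := 95626) (l := 5) rfl N95626 D222209
theorem N118951 : nd 118951 = n222210 := ndS (p := 95627) (l := 5) rfl N95627 D222210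
theorem N118952 : nd 118952 = n222211 := ndS (p := 95629) (l := 5) rfl N95629 D222211
theorem N118953 : nd 118953 = n222212 := ndS (p := 95631) (l := 5) rfl N95631 D222212
theorem N118954 : nd 118954 = n222213 := ndS (p := 95634) (l := 4) rfl N95634 D222213
theorem N118955 : nd 118955 = n222214 := ndS (p := 95640) (l := 4) rfl N95640 D222214
theorem N118956 : nd 118956 = n222215 := ndS (p := 95645) (l := 3) rfl N95645 D222215
theorem N118957 : nd 118957 = n222216 := ndS (p := 95645) (l := 6) rfl N95645 D222216
theorem N118958 : nd 118958 = n222217 := ndS (p := 95649) (l := 5) rfl N95649 D222217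
theorem N118959 : nd 118959 = n222218 := ndS (p := 95651) (l := 2) rfl N95651 D222218
theorem N118960 : nd 118960 = n222219 := ndS (p := 95651) (l := 6) rfl N95651 D222219
theorem N118961 : nd 118961 = n222220 := ndS (p := 95652) (l := 6) rfl N95652 D222220
theorem N118962 : nd 118962 = n222221 := ndS (p := 95654) (l := 2) rfl N95654 D222221
theorem N118963 : nd 118963 = n222222 := ndS (p := 95654) (l := 4) rfl N95654 D222222
theorem N118964 : nd 118964 = n222223 := ndS (p := 95659) (l := 5) rfl N95659 D222223
theorem N118965 : nd 118965 = n222224 := ndS (p := 95661) (l := 5) rfl N95661 D222224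
theorem N118966 : nd 118966 = n222225 := ndS (p := 95665) (l := 4) rfl N95665 D222225
theorem N118967 : nd 118967 = n222226 := ndS (p := 95670) (l := 3) rfl N95670 D222226
theorem N118968 : nd 118968 = n222227 := ndS (p := 95688) (l := 6) rfl N95688 D222227
theorem N118969 : nd 118969 = n222228 := ndS (p := 95690) (l := 0) rfl N95690 D222228
theorem N118970 : nd 118970 = n222229 := ndS (p := 95700) (l := 5) rfl N95700 D222229
theorem N118971 : nd 118971 = n222230 := ndS (p := 95700) (l := 7) rfl N95700 D222230
theorem N118972 : nd 118972 = n222231 := ndS (p := 95712) (l := 4) rfl N95712 D222231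
theorem N118973 : nd 118973 = n222232 := ndS (p := 95713) (l := 5) rfl N95713 D222232
theorem N118974 : nd 118974 = n222233 := ndS (p := 95714) (l := 5) rfl N95714 D222233
theorem N118975 : nd 118975 = n222234 := ndS (p := 95716) (l := 6) rfl N95716 D222234
theorem N118976 : nd 118976 = n222235 := ndS (p := 95721) (l := 0) rfl N95721 D222235
theorem N118977 : nd 118977 = n222236 := ndS (p := 95729) (l := 5) rfl N95729 D222236
theorem N118978 : nd 118978 = n222237 := ndS (p := 95735) (l := 4) rfl N95735 D222237
theorem N118979 : nd 118979 = n222238 := ndS (p := 95736) (l := 4) rfl N95736 D222238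
theorem N118980 : nd 118980 = n222239 := ndS (p := 95741) (l := 4) rfl N95741 D222239
theorem N118981 : nd 118981 = n222240 := ndS (p := 95742) (l := 5) rfl N95742 D222240
theorem N118982 : nd 118982 = n222241 := ndS (p := 95743) (l := 5) rfl N95743 D222241
theorem N118983 : nd 118983 = n222242 := ndS (p := 95744) (l := 0) rfl N95744 D222242
theorem N118984 : nd 118984 = n222243 := ndS (p := 95756) (l := 2) rfl N95756 D222243
theorem N118985 : nd 118985 = n222244 := ndS (p := 95758) (l := 4) rfl N95758 D222244
theorem N118986 : nd 118986 = n222245 := ndS (p := 95759) (l := 5) rfl N95759 D222245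
theorem N118987 : nd 118987 = n222246 := ndS (p := 95769) (l := 4) rfl N95769 D222246
theorem N118988 : nd 118988 = n222247 := ndS (p := 95788) (l := 5) rfl N95788 D222247
theorem N118989 : nd 118989 = n222248 := ndS (p := 95799) (l := 3) rfl N95799 D222248
theorem N118990 : nd 118990 = n222249 := ndS (p := 95808) (l := 5) rfl N95808 D222249
theorem N118991 : nd 118991 = n222250 := ndS (p := 95830) (l := 6) rfl N95830 D222250
theorem N118992 : nd 118992 = n222251 := ndS (p := 95837) (l := 5) rfl N95837 D222251
theorem N118993 : nd 118993 = n222252 := ndS (p := 95850) (l := 4) rfl N95850 D222252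
theorem N118994 : nd 118994 = n222253 := ndS (p := 95851) (l := 4) rfl N95851 D222253
theorem N118995 : nd 118995 = n222254 := ndS (p := 95852) (l := 0) rfl N95852 D222254
theorem N118996 : nd 118996 = n222255 := ndS (p := 95856) (l := 4) rfl N95856 D222255
theorem N118997 : nd 118997 = n222256 := ndS (p := 95857) (l := 4) rfl N95857 D222256
theorem N118998 : nd 118998 = n222257 := ndS (p := 95867) (l := 4) rfl N95867 D222257
theorem N118999 : nd 118999 = n222258 := ndS (p := 95867) (l := 6) rfl N95867 D222258
theorem N119000 : nd 119000 = n222259 := ndS (p := 95872) (l := 3) rfl N95872 D222259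
theorem N119001 : nd 119001 = n222260 := ndS (p := 95872) (l := 6) rfl N95872 D222260
theorem N119002 : nd 119002 = n222261 := ndS (p := 95878) (l := 5) rfl N95878 D222261
theorem N119003 : nd 119003 = n222262 := ndS (p := 95879) (l := 1) rfl N95879 D222262
theorem N119004 : nd 119004 = n222263 := ndS (p := 95880) (l := 1) rfl N95880 D222263
theorem N119005 : nd 119005 = n222264 := ndS (p := 95886) (l := 0) rfl N95886 D222264
theorem N119006 : nd 119006 = n222265 := ndS (p := 95889) (l := 0) rfl N95889 D222265
theorem N119007 : nd 119007 = n222266 := ndS (p := 95889) (l := 5) rfl N95889 D222266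
theorem N119008 : nd 119008 = n222267 := ndS (p := 95889) (l := 7) rfl N95889 D222267
theorem N119009 : nd 119009 = n222268 := ndS (p := 95895) (l := 4) rfl N95895 D222268
theorem N119010 : nd 119010 = n222269 := ndS (p := 95896) (l := 4) rfl N95896 D222269
theorem N119011 : nd 119011 = n222270 := ndS (p := 95917) (l := 6) rfl N95917 D222270
theorem N119012 : nd 119012 = n222271 := ndS (p := 95918) (l := 6) rfl N95918 D222271
theorem N119013 : nd 119013 = n222272 := ndS (p := 95919) (l := 0) rfl N95919 D222272
theorem N119014 : nd 119014 = n222273 := ndS (p := 95919) (l := 7) rfl N95919 D222273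
theorem N119015 : nd 119015 = n222274 := ndS (p := 95925) (l := 6) rfl N95925 D222274
theorem N119016 : nd 119016 = n222275 := ndS (p := 95928) (l := 6) rfl N95928 D222275
theorem N119017 : nd 119017 = n222276 := ndS (p := 95947) (l := 3) rfl N95947 D222276
theorem N119018 : nd 119018 = n222277 := ndS (p := 95947) (l := 5) rfl N95947 D222277
theorem N119019 : nd 119019 = n222278 := ndS (p := 95947) (l := 6) rfl N95947 D222278
theorem N119020 : nd 119020 = n222279 := ndS (p := 95948) (l := 0) rfl N95948 D222279
theorem N119021 : nd 119021 = n222280 := ndS (p := 95955) (l := 6) rfl N95955 D222280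
theorem N119022 : nd 119022 = n222281 := ndS (p := 95963) (l := 5) rfl N95963 D222281
theorem N119023 : nd 119023 = n222282 := ndS (p := 95965) (l := 5) rfl N95965 D222282
theorem N119024 : nd 119024 = n222283 := ndS (p := 95966) (l := 6) rfl N95966 D222283
theorem N119025 : nd 119025 = n222284 := ndS (p := 95968) (l := 0) rfl N95968 D222284
theorem N119026 : nd 119026 = n222285 := ndS (p := 95968) (l := 3) rfl N95968 D222285
theorem N119027 : nd 119027 = n222286 := ndS (p := 95986) (l := 0) rfl N95986 D222286
theorem N119028 : nd 119028 = n222287 := ndS (p := 95986) (l := 1) rfl N95986 D222287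
theorem N119029 : nd 119029 = n222288 := ndS (p := 95989) (l := 6) rfl N95989 D222288
theorem N119030 : nd 119030 = n222289 := ndS (p := 95992) (l := 3) rfl N95992 D222289
theorem N119031 : nd 119031 = n222290 := ndS (p := 95992) (l := 4) rfl N95992 D222290
theorem N119032 : nd 119032 = n222291 := ndS (p := 95995) (l := 6) rfl N95995 D222291
theorem N119033 : nd 119033 = n222292 := ndS (p := 95996) (l := 3) rfl N95996 D222292
theorem N119034 : nd 119034 = n222293 := ndS (p := 96001) (l := 3) rfl N96001 D222293
theorem N119035 : nd 119035 = n222294 := ndS (p := 96001) (l := 6) rfl N96001 D222294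
theorem N119036 : nd 119036 = n222295 := ndS (p := 96009) (l := 3) rfl N96009 D222295
theorem N119037 : nd 119037 = n222296 := ndS (p := 96011) (l := 5) rfl N96011 D222296
theorem N119038 : nd 119038 = n222297 := ndS (p := 96017) (l := 6) rfl N96017 D222297
theorem N119039 : nd 119039 = n222298 := ndS (p := 96024) (l := 0) rfl N96024 D222298
theorem N119040 : nd 119040 = n222299 := ndS (p := 96024) (l := 1) rfl N96024 D222299
theorem N119041 : nd 119041 = n222300 := ndS (p := 96024) (l := 4) rfl N96024 D222300
theorem N119042 : nd 119042 = n222301 := ndS (p := 96027) (l := 2) rfl N96027 D222301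
theorem N119043 : nd 119043 = n222302 := ndS (p := 96029) (l := 3) rfl N96029 D222302
theorem N119044 : nd 119044 = n222303 := ndS (p := 96033) (l := 5) rfl N96033 D222303
theorem N119045 : nd 119045 = n222304 := ndS (p := 96037) (l := 5) rfl N96037 D222304
theorem N119046 : nd 119046 = n222305 := ndS (p := 96047) (l := 1) rfl N96047 D222305
theorem N119047 : nd 119047 = n222306 := ndS (p := 96047) (l := 7) rfl N96047 D222306
theorem N119048 : nd 119048 = n222307 := ndS (p := 96055) (l := 6) rfl N96055 D222307
theorem N119049 : nd 119049 = n222308 := ndS (p := 96057) (l := 0) rfl N96057 D222308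
theorem N119050 : nd 119050 = n222309 := ndS (p := 96057) (l := 5) rfl N96057 D222309
theorem N119051 : nd 119051 = n222310 := ndS (p := 96057) (l := 7) rfl N96057 D222310
theorem N119052 : nd 119052 = n222311 := ndS (p := 96083) (l := 5) rfl N96083 D222311
theorem N119053 : nd 119053 = n222312 := ndS (p := 96089) (l := 4) rfl N96089 D222312
theorem N119054 : nd 119054 = n222313 := ndS (p := 96089) (l := 6) rfl N96089 D222313
theorem N119055 : nd 119055 = n222314 := ndS (p := 96091) (l := 1) rfl N96091 D222314
theorem N119056 : nd 119056 = n222315 := ndS (p := 96091) (l := 7) rfl N96091 D222315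
theorem N119057 : nd 119057 = n222316 := ndS (p := 96099) (l := 0) rfl N96099 D222316
theorem N119058 : nd 119058 = n222317 := ndS (p := 96101) (l := 1) rfl N96101 D222317
theorem N119059 : nd 119059 = n222318 := ndS (p := 96101) (l := 6) rfl N96101 D222318
theorem N119060 : nd 119060 = n222319 := ndS (p := 96113) (l := 5) rfl N96113 D222319
theorem N119061 : nd 119061 = n222320 := ndS (p := 96116) (l := 0) rfl N96116 D222320
theorem N119062 : nd 119062 = n222321 := ndS (p := 96116) (l := 1) rfl N96116 D222321
theorem N119063 : nd 119063 = n222322 := ndS (p := 96116) (l := 4) rfl N96116 D222322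
theorem N119064 : nd 119064 = n222323 := ndS (p := 96116) (l := 7) rfl N96116 D222323
theorem N119065 : nd 119065 = n222324 := ndS (p := 96119) (l := 4) rfl N96119 D222324
theorem N119066 : nd 119066 = n222325 := ndS (p := 96126) (l := 6) rfl N96126 D222325
theorem N119067 : nd 119067 = n222326 := ndS (p := 96129) (l := 0) rfl N96129 D222326
theorem N119068 : nd 119068 = n222327 := ndS (p := 96129) (l := 1) rfl N96129 D222327
theorem N119069 : nd 119069 = n222328 := ndS (p := 96130) (l := 0) rfl N96130 D222328
theorem N119070 : nd 119070 = n222329 := ndS (p := 96135) (l := 4) rfl N96135 D222329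
theorem N119071 : nd 119071 = n222330 := ndS (p := 96142) (l := 6) rfl N96142 D222330
theorem N119072 : nd 119072 = n222331 := ndS (p := 96148) (l := 5) rfl N96148 D222331
theorem N119073 : nd 119073 = n222332 := ndS (p := 96149) (l := 1) rfl N96149 D222332
theorem N119074 : nd 119074 = n222333 := ndS (p := 96149) (l := 4) rfl N96149 D222333
theorem N119075 : nd 119075 = n222334 := ndS (p := 96151) (l := 4) rfl N96151 D222334
theorem N119076 : nd 119076 = n222335 := ndS (p := 96152) (l := 1) rfl N96152 D222335
theorem N119077 : nd 119077 = n222336 := ndS (p := 96154) (l := 6) rfl N96154 D222336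
theorem N119078 : nd 119078 = n222337 := ndS (p := 96155) (l := 6) rfl N96155 D222337
theorem N119079 : nd 119079 = n222338 := ndS (p := 96160) (l := 6) rfl N96160 D222338
theorem N119080 : nd 119080 = n222339 := ndS (p := 96161) (l := 1) rfl N96161 D222339
theorem N119081 : nd 119081 = n222340 := ndS (p := 96166) (l := 1) rfl N96166 D222340
theorem N119082 : nd 119082 = n222341 := ndS (p := 96169) (l := 7) rfl N96169 D222341
theorem N119083 : nd 119083 = n222342 := ndS (p := 96170) (l := 6) rfl N96170 D222342
theorem N119084 : nd 119084 = n222343 := ndS (p := 96173) (l := 6) rfl N96173 D222343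
theorem N119085 : nd 119085 = n222344 := ndS (p := 96177) (l := 0) rfl N96177 D222344
theorem N119086 : nd 119086 = n222345 := ndS (p := 96181) (l := 6) rfl N96181 D222345
theorem N119087 : nd 119087 = n222346 := ndS (p := 96187) (l := 0) rfl N96187 D222346
theorem N119088 : nd 119088 = n222347 := ndS (p := 96190) (l := 3) rfl N96190 D222347
theorem N119089 : nd 119089 = n222348 := ndS (p := 96190) (l := 5) rfl N96190 D222348
theorem N119090 : nd 119090 = n222349 := ndS (p := 96199) (l := 4) rfl N96199 D222349
theorem N119091 : nd 119091 = n222350 := ndS (p := 96200) (l := 1) rfl N96200 D222350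
theorem N119092 : nd 119092 = n222351 := ndS (p := 96202) (l := 5) rfl N96202 D222351
theorem N119093 : nd 119093 = n222352 := ndS (p := 96203) (l := 4) rfl N96203 D222352
theorem N119094 : nd 119094 = n222353 := ndS (p := 96221) (l := 4) rfl N96221 D222353
theorem N119095 : nd 119095 = n222354 := ndS (p := 96244) (l := 4) rfl N96244 D222354
theorem N119096 : nd 119096 = n222355 := ndS (p := 96244) (l := 6) rfl N96244 D222355
theorem N119097 : nd 119097 = n222356 := ndS (p := 96257) (l := 6) rfl N96257 D222356
theorem N119098 : nd 119098 = n222357 := ndS (p := 96263) (l := 3) rfl N96263 D222357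
theorem N119099 : nd 119099 = n222358 := ndS (p := 96264) (l := 1) rfl N96264 D222358
theorem N119100 : nd 119100 = n222359 := ndS (p := 96265) (l := 6) rfl N96265 D222359
theorem N119101 : nd 119101 = n222360 := ndS (p := 96269) (l := 5) rfl N96269 D222360
theorem N119102 : nd 119102 = n222361 := ndS (p := 96274) (l := 4) rfl N96274 D222361
theorem N119103 : nd 119103 = n222362 := ndS (p := 96276) (l := 3) rfl N96276 D222362
theorem N119104 : nd 119104 = n222363 := ndS (p := 96279) (l := 6) rfl N96279 D222363
theorem N119105 : nd 119105 = n222364 := ndS (p := 96286) (l := 6) rfl N96286 D222364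
theorem N119106 : nd 119106 = n222365 := ndS (p := 96288) (l := 6) rfl N96288 D222365
theorem N119107 : nd 119107 = n222366 := ndS (p := 96289) (l := 1) rfl N96289 D222366
theorem N119108 : nd 119108 = n222367 := ndS (p := 96289) (l := 5) rfl N96289 D222367
theorem N119109 : nd 119109 = n222368 := ndS (p := 96289) (l := 7) rfl N96289 D222368
theorem N119110 : nd 119110 = n222369 := ndS (p := 96293) (l := 5) rfl N96293 D222369
theorem N119111 : nd 119111 = n222370 := ndS (p := 96294) (l := 4) rfl N96294 D222370
theorem N119112 : nd 119112 = n222371 := ndS (p := 96300) (l := 5) rfl N96300 D222371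
theorem N119113 : nd 119113 = n222372 := ndS (p := 96310) (l := 4) rfl N96310 D222372
theorem N119114 : nd 119114 = n222373 := ndS (p := 96310) (l := 6) rfl N96310 D222373
theorem N119115 : nd 119115 = n222374 := ndS (p := 96311) (l := 4) rfl N96311 D222374
theorem N119116 : nd 119116 = n222375 := ndS (p := 96325) (l := 5) rfl N96325 D222375
theorem N119117 : nd 119117 = n222376 := ndS (p := 96329) (l := 1) rfl N96329 D222376
theorem N119118 : nd 119118 = n222377 := ndS (p := 96336) (l := 0) rfl N96336 D222377
theorem N119119 : nd 119119 = n222378 := ndS (p := 96337) (l := 3) rfl N96337 D222378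
theorem N119120 : nd 119120 = n222379 := ndS (p := 96339) (l := 5) rfl N96339 D222379
theorem N119121 : nd 119121 = n222380 := ndS (p := 96343) (l := 5) rfl N96343 D222380
theorem N119122 : nd 119122 = n222381 := ndS (p := 96351) (l := 5) rfl N96351 D222381
theorem N119123 : nd 119123 = n222382 := ndS (p := 96352) (l := 6) rfl N96352 D222382
theorem N119124 : nd 119124 = n222383 := ndS (p := 96354) (l := 6) rfl N96354 D222383
theorem N119125 : nd 119125 = n222384 := ndS (p := 96355) (l := 5) rfl N96355 D222384
theorem N119126 : nd 119126 = n222385 := ndS (p := 96359) (l := 0) rfl N96359 D222385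
theorem N119127 : nd 119127 = n222386 := ndS (p := 96361) (l := 5) rfl N96361 D222386
theorem N119128 : nd 119128 = n222387 := ndS (p := 96362) (l := 0) rfl N96362 D222387
theorem N119129 : nd 119129 = n222388 := ndS (p := 96362) (l := 1) rfl N96362 D222388
theorem N119130 : nd 119130 = n222389 := ndS (p := 96364) (l := 3) rfl N96364 D222389
theorem N119131 : nd 119131 = n222390 := ndS (p := 96366) (l := 5) rfl N96366 D222390
theorem N119132 : nd 119132 = n222391 := ndS (p := 96369) (l := 5) rfl N96369 D222391
theorem N119133 : nd 119133 = n222392 := ndS (p := 96370) (l := 1) rfl N96370 D222392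
theorem N119134 : nd 119134 = n222393 := ndS (p := 96373) (l := 4) rfl N96373 D222393
theorem N119135 : nd 119135 = n222394 := ndS (p := 96374) (l := 0) rfl N96374 D222394
theorem N119136 : nd 119136 = n222395 := ndS (p := 96374) (l := 7) rfl N96374 D222395
theorem N119137 : nd 119137 = n222396 := ndS (p := 96375) (l := 6) rfl N96375 D222396
theorem N119138 : nd 119138 = n222397 := ndS (p := 96378) (l := 5) rfl N96378 D222397
theorem N119139 : nd 119139 = n222398 := ndS (p := 96381) (l := 3) rfl N96381 D222398
theorem N119140 : nd 119140 = n222399 := ndS (p := 96381) (l := 6) rfl N96381 D222399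
theorem N119141 : nd 119141 = n222400 := ndS (p := 96382) (l := 5) rfl N96382 D222400
theorem N119142 : nd 119142 = n222401 := ndS (p := 96383) (l := 4) rfl N96383 D222401
theorem N119143 : nd 119143 = n222402 := ndS (p := 96388) (l := 2) rfl N96388 D222402
theorem N119144 : nd 119144 = n222403 := ndS (p := 96389) (l := 3) rfl N96389 D222403
theorem N119145 : nd 119145 = n222404 := ndS (p := 96390) (l := 1) rfl N96390 D222404
theorem N119146 : nd 119146 = n222405 := ndS (p := 96391) (l := 5) rfl N96391 D222405
theorem N119147 : nd 119147 = n222406 := ndS (p := 96392) (l := 5) rfl N96392 D222406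
theorem N119148 : nd 119148 = n222407 := ndS (p := 96393) (l := 1) rfl N96393 D222407
theorem N119149 : nd 119149 = n222408 := ndS (p := 96400) (l := 2) rfl N96400 D222408
theorem N119150 : nd 119150 = n222409 := ndS (p := 96405) (l := 4) rfl N96405 D222409
theorem N119151 : nd 119151 = n222410 := ndS (p := 96418) (l := 0) rfl N96418 D222410
theorem N119152 : nd 119152 = n222411 := ndS (p := 96427) (l := 3) rfl N96427 D222411
theorem N119153 : nd 119153 = n222412 := ndS (p := 96427) (l := 6) rfl N96427 D222412
theorem N119154 : nd 119154 = n222413 := ndS (p := 96431) (l := 3) rfl N96431 D222413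
theorem N119155 : nd 119155 = n222414 := ndS (p := 96434) (l := 4) rfl N96434 D222414
theorem N119156 : nd 119156 = n222415 := ndS (p := 96438) (l := 4) rfl N96438 D222415
theorem N119157 : nd 119157 = n222416 := ndS (p := 96439) (l := 6) rfl N96439 D222416
theorem N119158 : nd 119158 = n222417 := ndS (p := 96442) (l := 6) rfl N96442 D222417
theorem N119159 : nd 119159 = n222418 := ndS (p := 96443) (l := 3) rfl N96443 D222418
theorem N119160 : nd 119160 = n222419 := ndS (p := 96462) (l := 4) rfl N96462 D222419
theorem N119161 : nd 119161 = n222420 := ndS (p := 96462) (l := 6) rfl N96462 D222420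
theorem N119162 : nd 119162 = n222421 := ndS (p := 96463) (l := 6) rfl N96463 D222421
theorem N119163 : nd 119163 = n222422 := ndS (p := 96468) (l := 5) rfl N96468 D222422
theorem N119164 : nd 119164 = n222423 := ndS (p := 96474) (l := 1) rfl N96474 D222423
theorem N119165 : nd 119165 = n222424 := ndS (p := 96475) (l := 0) rfl N96475 D222424
theorem N119166 : nd 119166 = n222425 := ndS (p := 96493) (l := 1) rfl N96493 D222425
theorem N119167 : nd 119167 = n222426 := ndS (p := 96493) (l := 6) rfl N96493 D222426
theorem N119168 : nd 119168 = n222427 := ndS (p := 96495) (l := 6) rfl N96495 D222427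
theorem N119169 : nd 119169 = n222428 := ndS (p := 96502) (l := 3) rfl N96502 D222428
theorem N119170 : nd 119170 = n222429 := ndS (p := 96502) (l := 5) rfl N96502 D222429
theorem N119171 : nd 119171 = n222430 := ndS (p := 96503) (l := 1) rfl N96503 D222430
theorem N119172 : nd 119172 = n222431 := ndS (p := 96503) (l := 7) rfl N96503 D222431
theorem N119173 : nd 119173 = n222432 := ndS (p := 96507) (l := 4) rfl N96507 D222432
theorem N119174 : nd 119174 = n222433 := ndS (p := 96509) (l := 6) rfl N96509 D222433
theorem N119175 : nd 119175 = n222434 := ndS (p := 96511) (l := 3) rfl N96511 D222434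
theorem N119176 : nd 119176 = n222435 := ndS (p := 96511) (l := 6) rfl N96511 D222435
theorem N119177 : nd 119177 = n222436 := ndS (p := 96512) (l := 1) rfl N96512 D222436
theorem N119178 : nd 119178 = n222437 := ndS (p := 96515) (l := 5) rfl N96515 D222437
theorem N119179 : nd 119179 = n222438 := ndS (p := 96516) (l := 4) rfl N96516 D222438
theorem N119180 : nd 119180 = n222439 := ndS (p := 96517) (l := 4) rfl N96517 D222439
theorem N119181 : nd 119181 = n222440 := ndS (p := 96518) (l := 0) rfl N96518 D222440
theorem N119182 : nd 119182 = n222441 := ndS (p := 96520) (l := 1) rfl N96520 D222441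
theorem N119183 : nd 119183 = n222442 := ndS (p := 96524) (l := 5) rfl N96524 D222442
theorem N119184 : nd 119184 = n222443 := ndS (p := 96535) (l := 4) rfl N96535 D222443
theorem N119185 : nd 119185 = n222444 := ndS (p := 96547) (l := 6) rfl N96547 D222444
theorem N119186 : nd 119186 = n222445 := ndS (p := 96549) (l := 0) rfl N96549 D222445
theorem N119187 : nd 119187 = n222446 := ndS (p := 96549) (l := 1) rfl N96549 D222446
theorem N119188 : nd 119188 = n222447 := ndS (p := 96549) (l := 7) rfl N96549 D222447
theorem N119189 : nd 119189 = n222448 := ndS (p := 96551) (l := 3) rfl N96551 D222448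
theorem N119190 : nd 119190 = n222449 := ndS (p := 96554) (l := 0) rfl N96554 D222449
theorem N119191 : nd 119191 = n222450 := ndS (p := 96573) (l := 0) rfl N96573 D222450
theorem N119192 : nd 119192 = n222451 := ndS (p := 96573) (l := 4) rfl N96573 D222451
theorem N119193 : nd 119193 = n222452 := ndS (p := 96576) (l := 1) rfl N96576 D222452
theorem N119194 : nd 119194 = n222453 := ndS (p := 96577) (l := 6) rfl N96577 D222453
theorem N119195 : nd 119195 = n222454 := ndS (p := 96580) (l := 3) rfl N96580 D222454
theorem N119196 : nd 119196 = n222455 := ndS (p := 96583) (l := 3) rfl N96583 D222455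
theorem N119197 : nd 119197 = n222456 := ndS (p := 96588) (l := 3) rfl N96588 D222456
theorem N119198 : nd 119198 = n222457 := ndS (p := 96590) (l := 0) rfl N96590 D222457
theorem N119199 : nd 119199 = n222458 := ndS (p := 96590) (l := 4) rfl N96590 D222458
theorem N119200 : nd 119200 = n222459 := ndS (p := 96591) (l := 3) rfl N96591 D222459
theorem N119201 : nd 119201 = n222460 := ndS (p := 96594) (l := 2) rfl N96594 D222460
theorem N119202 : nd 119202 = n222461 := ndS (p := 96594) (l := 6) rfl N96594 D222461
theorem N119203 : nd 119203 = n222462 := ndS (p := 96596) (l := 4) rfl N96596 D222462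
theorem N119204 : nd 119204 = n222463 := ndS (p := 96596) (l := 7) rfl N96596 D222463
theorem N119205 : nd 119205 = n222464 := ndS (p := 96597) (l := 4) rfl N96597 D222464
theorem N119206 : nd 119206 = n222465 := ndS (p := 96606) (l := 0) rfl N96606 D222465
theorem N119207 : nd 119207 = n222466 := ndS (p := 96606) (l := 7) rfl N96606 D222466
theorem N119208 : nd 119208 = n222467 := ndS (p := 96607) (l := 4) rfl N96607 D222467
theorem N119209 : nd 119209 = n222468 := ndS (p := 96618) (l := 4) rfl N96618 D222468
theorem N119210 : nd 119210 = n222469 := ndS (p := 96619) (l := 4) rfl N96619 D222469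
theorem N119211 : nd 119211 = n222470 := ndS (p := 96628) (l := 0) rfl N96628 D222470
theorem N119212 : nd 119212 = n222471 := ndS (p := 96628) (l := 1) rfl N96628 D222471
theorem N119213 : nd 119213 = n222472 := ndS (p := 96640) (l := 6) rfl N96640 D222472
theorem N119214 : nd 119214 = n222473 := ndS (p := 96644) (l := 0) rfl N96644 D222473
theorem N119215 : nd 119215 = n222474 := ndS (p := 96644) (l := 7) rfl N96644 D222474
theorem N119216 : nd 119216 = n222475 := ndS (p := 96647) (l := 0) rfl N96647 D222475
theorem N119217 : nd 119217 = n222476 := ndS (p := 96647) (l := 1) rfl N96647 D222476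
theorem N119218 : nd 119218 = n222477 := ndS (p := 96647) (l := 7) rfl N96647 D222477
theorem N119219 : nd 119219 = n222478 := ndS (p := 96651) (l := 3) rfl N96651 D222478
theorem N119220 : nd 119220 = n222479 := ndS (p := 96654) (l := 5) rfl N96654 D222479
theorem N119221 : nd 119221 = n222480 := ndS (p := 96655) (l := 5) rfl N96655 D222480
theorem N119222 : nd 119222 = n222481 := ndS (p := 96661) (l := 4) rfl N96661 D222481
theorem N119223 : nd 119223 = n222482 := ndS (p := 96661) (l := 6) rfl N96661 D222482
theorem N119224 : nd 119224 = n222483 := ndS (p := 96663) (l := 7) rfl N96663 D222483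
theorem N119225 : nd 119225 = n222484 := ndS (p := 96681) (l := 1) rfl N96681 D222484
theorem N119226 : nd 119226 = n222485 := ndS (p := 96683) (l := 3) rfl N96683 D222485
theorem N119227 : nd 119227 = n222486 := ndS (p := 96683) (l := 5) rfl N96683 D222486
theorem N119228 : nd 119228 = n222487 := ndS (p := 96693) (l := 6) rfl N96693 D222487
theorem N119229 : nd 119229 = n222488 := ndS (p := 96696) (l := 2) rfl N96696 D222488
theorem N119230 : nd 119230 = n222489 := ndS (p := 96703) (l := 1) rfl N96703 D222489
theorem N119231 : nd 119231 = n222490 := ndS (p := 96703) (l := 2) rfl N96703 D222490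
theorem N119232 : nd 119232 = n222491 := ndS (p := 96719) (l := 3) rfl N96719 D222491
theorem N119233 : nd 119233 = n222492 := ndS (p := 96721) (l := 5) rfl N96721 D222492
theorem N119234 : nd 119234 = n222493 := ndS (p := 96729) (l := 1) rfl N96729 D222493
theorem N119235 : nd 119235 = n222494 := ndS (p := 96754) (l := 5) rfl N96754 D222494
theorem N119236 : nd 119236 = n222495 := ndS (p := 96773) (l := 0) rfl N96773 D222495
theorem N119237 : nd 119237 = n222496 := ndS (p := 96776) (l := 4) rfl N96776 D222496
theorem N119238 : nd 119238 = n222497 := ndS (p := 96791) (l := 6) rfl N96791 D222497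
theorem N119239 : nd 119239 = n222498 := ndS (p := 96808) (l := 6) rfl N96808 D222498
theorem N119240 : nd 119240 = n222499 := ndS (p := 96810) (l := 5) rfl N96810 D222499
theorem N119241 : nd 119241 = n222500 := ndS (p := 96811) (l := 0) rfl N96811 D222500
theorem N119242 : nd 119242 = n222501 := ndS (p := 96811) (l := 1) rfl N96811 D222501
theorem N119243 : nd 119243 = n222502 := ndS (p := 96811) (l := 7) rfl N96811 D222502
theorem N119244 : nd 119244 = n222503 := ndS (p := 96813) (l := 5) rfl N96813 D222503
theorem N119245 : nd 119245 = n222504 := ndS (p := 96826) (l := 5) rfl N96826 D222504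
theorem N119246 : nd 119246 = n222505 := ndS (p := 96829) (l := 3) rfl N96829 D222505
theorem N119247 : nd 119247 = n222506 := ndS (p := 96831) (l := 5) rfl N96831 D222506
theorem N119248 : nd 119248 = n222507 := ndS (p := 96836) (l := 5) rfl N96836 D222507
theorem N119249 : nd 119249 = n222508 := ndS (p := 96841) (l := 3) rfl N96841 D222508
theorem N119250 : nd 119250 = n222509 := ndS (p := 96843) (l := 5) rfl N96843 D222509
theorem N119251 : nd 119251 = n222510 := ndS (p := 96844) (l := 5) rfl N96844 D222510
theorem N119252 : nd 119252 = n222511 := ndS (p := 96844) (l := 6) rfl N96844 D222511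
theorem N119253 : nd 119253 = n222512 := ndS (p := 96845) (l := 4) rfl N96845 D222512
theorem N119254 : nd 119254 = n222513 := ndS (p := 96857) (l := 3) rfl N96857 D222513
theorem N119255 : nd 119255 = n222514 := ndS (p := 96861) (l := 5) rfl N96861 D222514
theorem N119256 : nd 119256 = n222515 := ndS (p := 96868) (l := 4) rfl N96868 D222515
theorem N119257 : nd 119257 = n222516 := ndS (p := 96881) (l := 5) rfl N96881 D222516
theorem N119258 : nd 119258 = n222517 := ndS (p := 96886) (l := 6) rfl N96886 D222517
theorem N119259 : nd 119259 = n222518 := ndS (p := 96889) (l := 3) rfl N96889 D222518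
theorem N119260 : nd 119260 = n222519 := ndS (p := 96892) (l := 0) rfl N96892 D222519
theorem N119261 : nd 119261 = n222520 := ndS (p := 96892) (l := 2) rfl N96892 D222520
theorem N119262 : nd 119262 = n222521 := ndS (p := 96897) (l := 0) rfl N96897 D222521
theorem N119263 : nd 119263 = n222522 := ndS (p := 96897) (l := 1) rfl N96897 D222522
theorem N119264 : nd 119264 = n222523 := ndS (p := 96919) (l := 4) rfl N96919 D222523
theorem N119265 : nd 119265 = n222524 := ndS (p := 96924) (l := 7) rfl N96924 D222524
theorem N119266 : nd 119266 = n222525 := ndS (p := 96925) (l := 6) rfl N96925 D222525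
theorem N119267 : nd 119267 = n222526 := ndS (p := 96932) (l := 0) rfl N96932 D222526
theorem N119268 : nd 119268 = n222527 := ndS (p := 96932) (l := 7) rfl N96932 D222527
theorem N119269 : nd 119269 = n222528 := ndS (p := 96938) (l := 5) rfl N96938 D222528
theorem N119270 : nd 119270 = n222529 := ndS (p := 96947) (l := 0) rfl N96947 D222529
theorem N119271 : nd 119271 = n222530 := ndS (p := 96950) (l := 5) rfl N96950 D222530
theorem N119272 : nd 119272 = n222531 := ndS (p := 96958) (l := 3) rfl N96958 D222531
theorem N119273 : nd 119273 = n222532 := ndS (p := 96958) (l := 4) rfl N96958 D222532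
theorem N119274 : nd 119274 = n222533 := ndS (p := 96987) (l := 6) rfl N96987 D222533
theorem N119275 : nd 119275 = n222534 := ndS (p := 96994) (l := 1) rfl N96994 D222534
theorem N119276 : nd 119276 = n222535 := ndS (p := 96994) (l := 2) rfl N96994 D222535
theorem N119277 : nd 119277 = n222536 := ndS (p := 96995) (l := 6) rfl N96995 D222536
theorem N119278 : nd 119278 = n222537 := ndS (p := 96996) (l := 5) rfl N96996 D222537
theorem N119279 : nd 119279 = n222538 := ndS (p := 96998) (l := 0) rfl N96998 D222538
theorem N119280 : nd 119280 = n222539 := ndS (p := 97000) (l := 5) rfl N97000 D222539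
theorem N119281 : nd 119281 = n222540 := ndS (p := 97002) (l := 4) rfl N97002 D222540
theorem N119282 : nd 119282 = n222541 := ndS (p := 97004) (l := 4) rfl N97004 D222541
theorem N119283 : nd 119283 = n222542 := ndS (p := 97005) (l := 4) rfl N97005 D222542
theorem N119284 : nd 119284 = n222543 := ndS (p := 97009) (l := 5) rfl N97009 D222543
theorem N119285 : nd 119285 = n222544 := ndS (p := 97009) (l := 6) rfl N97009 D222544
theorem N119286 : nd 119286 = n222545 := ndS (p := 97010) (l := 6) rfl N97010 D222545
theorem N119287 : nd 119287 = n222546 := ndS (p := 97011) (l := 5) rfl N97011 D222546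
theorem N119288 : nd 119288 = n222547 := ndS (p := 97011) (l := 6) rfl N97011 D222547
theorem N119289 : nd 119289 = n222548 := ndS (p := 97013) (l := 0) rfl N97013 D222548
theorem N119290 : nd 119290 = n222549 := ndS (p := 97013) (l := 1) rfl N97013 D222549
theorem N119291 : nd 119291 = n222550 := ndS (p := 97013) (l := 5) rfl N97013 D222550
theorem N119292 : nd 119292 = n222551 := ndS (p := 97013) (l := 7) rfl N97013 D222551
theorem N119293 : nd 119293 = n222552 := ndS (p := 97020) (l := 0) rfl N97020 D222552
theorem N119294 : nd 119294 = n222553 := ndS (p := 97020) (l := 1) rfl N97020 D222553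
theorem N119295 : nd 119295 = n222554 := ndS (p := 97020) (l := 7) rfl N97020 D222554
theorem N119296 : nd 119296 = n222555 := ndS (p := 97026) (l := 0) rfl N97026 D222555
theorem N119297 : nd 119297 = n222556 := ndS (p := 97027) (l := 4) rfl N97027 D222556
theorem N119298 : nd 119298 = n222557 := ndS (p := 97030) (l := 4) rfl N97030 D222557
theorem N119299 : nd 119299 = n222558 := ndS (p := 97031) (l := 3) rfl N97031 D222558
theorem N119300 : nd 119300 = n222559 := ndS (p := 97031) (l := 4) rfl N97031 D222559
theorem N119301 : nd 119301 = n222560 := ndS (p := 97032) (l := 4) rfl N97032 D222560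
theorem N119302 : nd 119302 = n222561 := ndS (p := 97058) (l := 4) rfl N97058 D222561
theorem N119303 : nd 119303 = n222562 := ndS (p := 97061) (l := 5) rfl N97061 D222562
theorem N119304 : nd 119304 = n222563 := ndS (p := 97099) (l := 3) rfl N97099 D222563
theorem N119305 : nd 119305 = n222564 := ndS (p := 97099) (l := 5) rfl N97099 D222564
theorem N119306 : nd 119306 = n222565 := ndS (p := 97100) (l := 6) rfl N97100 D222565
theorem N119307 : nd 119307 = n222566 := ndS (p := 97102) (l := 5) rfl N97102 D222566
theorem N119308 : nd 119308 = n222567 := ndS (p := 97103) (l := 6) rfl N97103 D222567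
theorem N119309 : nd 119309 = n222568 := ndS (p := 97107) (l := 5) rfl N97107 D222568
theorem N119310 : nd 119310 = n222569 := ndS (p := 97108) (l := 6) rfl N97108 D222569
theorem N119311 : nd 119311 = n222570 := ndS (p := 97109) (l := 6) rfl N97109 D222570
theorem N119312 : nd 119312 = n222571 := ndS (p := 97111) (l := 0) rfl N97111 D222571
theorem N119313 : nd 119313 = n222572 := ndS (p := 97111) (l := 1) rfl N97111 D222572
theorem N119314 : nd 119314 = n222573 := ndS (p := 97111) (l := 7) rfl N97111 D222573
theorem N119315 : nd 119315 = n222574 := ndS (p := 97112) (l := 5) rfl N97112 D222574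
theorem N119316 : nd 119316 = n222575 := ndS (p := 97113) (l := 3) rfl N97113 D222575
theorem N119317 : nd 119317 = n222576 := ndS (p := 97113) (l := 5) rfl N97113 D222576
theorem N119318 : nd 119318 = n222577 := ndS (p := 97119) (l := 6) rfl N97119 D222577
theorem N119319 : nd 119319 = n222578 := ndS (p := 97128) (l := 2) rfl N97128 D222578
theorem N119320 : nd 119320 = n222579 := ndS (p := 97128) (l := 6) rfl N97128 D222579
theorem N119321 : nd 119321 = n222580 := ndS (p := 97132) (l := 5) rfl N97132 D222580
theorem N119322 : nd 119322 = n222581 := ndS (p := 97135) (l := 2) rfl N97135 D222581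
theorem N119323 : nd 119323 = n222582 := ndS (p := 97135) (l := 5) rfl N97135 D222582
theorem N119324 : nd 119324 = n222583 := ndS (p := 97136) (l := 6) rfl N97136 D222583
theorem N119325 : nd 119325 = n222584 := ndS (p := 97142) (l := 6) rfl N97142 D222584
theorem N119326 : nd 119326 = n222585 := ndS (p := 97143) (l := 5) rfl N97143 D222585
theorem N119327 : nd 119327 = n222586 := ndS (p := 97150) (l := 5) rfl N97150 D222586
theorem N119328 : nd 119328 = n222587 := ndS (p := 97152) (l := 5) rfl N97152 D222587
theorem N119329 : nd 119329 = n222588 := ndS (p := 97158) (l := 2) rfl N97158 D222588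
theorem N119330 : nd 119330 = n222589 := ndS (p := 97166) (l := 5) rfl N97166 D222589
theorem N119331 : nd 119331 = n222590 := ndS (p := 97169) (l := 5) rfl N97169 D222590
theorem N119332 : nd 119332 = n222591 := ndS (p := 97178) (l := 7) rfl N97178 D222591
theorem N119333 : nd 119333 = n222592 := ndS (p := 97193) (l := 5) rfl N97193 D222592
theorem N119334 : nd 119334 = n222593 := ndS (p := 97212) (l := 5) rfl N97212 D222593
theorem N119335 : nd 119335 = n222594 := ndS (p := 97218) (l := 0) rfl N97218 D222594
theorem N119336 : nd 119336 = n222595 := ndS (p := 97219) (l := 3) rfl N97219 D222595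
theorem N119337 : nd 119337 = n222596 := ndS (p := 97220) (l := 0) rfl N97220 D222596
theorem N119338 : nd 119338 = n222597 := ndS (p := 97221) (l := 4) rfl N97221 D222597
theorem N119339 : nd 119339 = n222598 := ndS (p := 97222) (l := 3) rfl N97222 D222598
theorem N119340 : nd 119340 = n222599 := ndS (p := 97227) (l := 5) rfl N97227 D222599
theorem N119341 : nd 119341 = n222600 := ndS (p := 97233) (l := 5) rfl N97233 D222600
theorem N119342 : nd 119342 = n222601 := ndS (p := 97234) (l := 0) rfl N97234 D222601
theorem N119343 : nd 119343 = n222602 := ndS (p := 97234) (l := 4) rfl N97234 D222602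
theorem N119344 : nd 119344 = n222603 := ndS (p := 97234) (l := 7) rfl N97234 D222603
theorem N119345 : nd 119345 = n222604 := ndS (p := 97240) (l := 0) rfl N97240 D222604
theorem N119346 : nd 119346 = n222605 := ndS (p := 97244) (l := 3) rfl N97244 D222605
theorem N119347 : nd 119347 = n222606 := ndS (p := 97250) (l := 5) rfl N97250 D222606
theorem N119348 : nd 119348 = n222607 := ndS (p := 97251) (l := 3) rfl N97251 D222607
theorem N119349 : nd 119349 = n222608 := ndS (p := 97253) (l := 4) rfl N97253 D222608
theorem N119350 : nd 119350 = n222609 := ndS (p := 97259) (l := 0) rfl N97259 D222609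
theorem N119351 : nd 119351 = n222610 := ndS (p := 97260) (l := 6) rfl N97260 D222610
theorem N119352 : nd 119352 = n222611 := ndS (p := 97265) (l := 6) rfl N97265 D222611
theorem N119353 : nd 119353 = n222612 := ndS (p := 97266) (l := 6) rfl N97266 D222612
theorem N119354 : nd 119354 = n222613 := ndS (p := 97279) (l := 2) rfl N97279 D222613
theorem N119355 : nd 119355 = n222614 := ndS (p := 97280) (l := 5) rfl N97280 D222614
theorem N119356 : nd 119356 = n222615 := ndS (p := 97280) (l := 7) rfl N97280 D222615
theorem N119357 : nd 119357 = n222616 := ndS (p := 97292) (l := 6) rfl N97292 D222616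
theorem N119358 : nd 119358 = n222617 := ndS (p := 97293) (l := 5) rfl N97293 D222617
theorem N119359 : nd 119359 = n222618 := ndS (p := 97295) (l := 5) rfl N97295 D222618
theorem N119360 : nd 119360 = n222619 := ndS (p := 97302) (l := 5) rfl N97302 D222619
theorem N119361 : nd 119361 = n222620 := ndS (p := 97304) (l := 4) rfl N97304 D222620
theorem N119362 : nd 119362 = n222621 := ndS (p := 97309) (l := 0) rfl N97309 D222621
theorem N119363 : nd 119363 = n222622 := ndS (p := 97311) (l := 6) rfl N97311 D222622
theorem N119364 : nd 119364 = n222623 := ndS (p := 97313) (l := 5) rfl N97313 D222623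
theorem N119365 : nd 119365 = n222624 := ndS (p := 97314) (l := 6) rfl N97314 D222624
theorem N119366 : nd 119366 = n222625 := ndS (p := 97321) (l := 6) rfl N97321 D222625
theorem N119367 : nd 119367 = n222626 := ndS (p := 97324) (l := 0) rfl N97324 D222626
theorem N119368 : nd 119368 = n222627 := ndS (p := 97324) (l := 5) rfl N97324 D222627
theorem N119369 : nd 119369 = n222628 := ndS (p := 97326) (l := 6) rfl N97326 D222628
theorem N119370 : nd 119370 = n222629 := ndS (p := 97335) (l := 5) rfl N97335 D222629
theorem N119371 : nd 119371 = n222630 := ndS (p := 97337) (l := 5) rfl N97337 D222630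
theorem N119372 : nd 119372 = n222631 := ndS (p := 97340) (l := 5) rfl N97340 D222631
theorem N119373 : nd 119373 = n222632 := ndS (p := 97363) (l := 3) rfl N97363 D222632
theorem N119374 : nd 119374 = n222633 := ndS (p := 97370) (l := 5) rfl N97370 D222633
theorem N119375 : nd 119375 = n222634 := ndS (p := 97371) (l := 4) rfl N97371 D222634
theorem N119376 : nd 119376 = n222635 := ndS (p := 97375) (l := 3) rfl N97375 D222635
theorem N119377 : nd 119377 = n222636 := ndS (p := 97391) (l := 6) rfl N97391 D222636
theorem N119378 : nd 119378 = n222637 := ndS (p := 97395) (l := 5) rfl N97395 D222637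
theorem N119379 : nd 119379 = n222638 := ndS (p := 97408) (l := 2) rfl N97408 D222638
theorem N119380 : nd 119380 = n222639 := ndS (p := 97425) (l := 6) rfl N97425 D222639
theorem N119381 : nd 119381 = n222640 := ndS (p := 97426) (l := 3) rfl N97426 D222640
theorem N119382 : nd 119382 = n222641 := ndS (p := 97426) (l := 4) rfl N97426 D222641
theorem N119383 : nd 119383 = n222642 := ndS (p := 97438) (l := 3) rfl N97438 D222642
theorem N119384 : nd 119384 = n222643 := ndS (p := 97439) (l := 0) rfl N97439 D222643
theorem N119385 : nd 119385 = n222644 := ndS (p := 97441) (l := 4) rfl N97441 D222644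
theorem N119386 : nd 119386 = n222645 := ndS (p := 97442) (l := 4) rfl N97442 D222645
theorem N119387 : nd 119387 = n222646 := ndS (p := 97444) (l := 1) rfl N97444 D222646
theorem N119388 : nd 119388 = n222647 := ndS (p := 97444) (l := 3) rfl N97444 D222647
theorem N119389 : nd 119389 = n222648 := ndS (p := 97444) (l := 5) rfl N97444 D222648
theorem N119390 : nd 119390 = n222649 := ndS (p := 97445) (l := 7) rfl N97445 D222649
theorem N119391 : nd 119391 = n222650 := ndS (p := 97450) (l := 4) rfl N97450 D222650
theorem N119392 : nd 119392 = n222651 := ndS (p := 97450) (l := 6) rfl N97450 D222651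
theorem N119393 : nd 119393 = n222652 := ndS (p := 97452) (l := 0) rfl N97452 D222652
theorem N119394 : nd 119394 = n222653 := ndS (p := 97452) (l := 3) rfl N97452 D222653
theorem N119395 : nd 119395 = n222654 := ndS (p := 97452) (l := 5) rfl N97452 D222654
theorem N119396 : nd 119396 = n222655 := ndS (p := 97452) (l := 6) rfl N97452 D222655
theorem N119397 : nd 119397 = n222656 := ndS (p := 97453) (l := 7) rfl N97453 D222656
theorem N119398 : nd 119398 = n222657 := ndS (p := 97454) (l := 0) rfl N97454 D222657
theorem N119399 : nd 119399 = n222658 := ndS (p := 97454) (l := 1) rfl N97454 D222658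
theorem N119400 : nd 119400 = n222659 := ndS (p := 97454) (l := 3) rfl N97454 D222659
theorem N119401 : nd 119401 = n222660 := ndS (p := 97454) (l := 6) rfl N97454 D222660
theorem N119402 : nd 119402 = n222661 := ndS (p := 97457) (l := 3) rfl N97457 D222661
theorem N119403 : nd 119403 = n222662 := ndS (p := 97459) (l := 3) rfl N97459 D222662
theorem N119404 : nd 119404 = n222663 := ndS (p := 97460) (l := 6) rfl N97460 D222663
theorem N119405 : nd 119405 = n222664 := ndS (p := 97461) (l := 1) rfl N97461 D222664
theorem N119406 : nd 119406 = n222665 := ndS (p := 97462) (l := 5) rfl N97462 D222665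
theorem N119407 : nd 119407 = n222666 := ndS (p := 97462) (l := 7) rfl N97462 D222666
theorem N119408 : nd 119408 = n222667 := ndS (p := 97464) (l := 4) rfl N97464 D222667
theorem N119409 : nd 119409 = n222668 := ndS (p := 97471) (l := 0) rfl N97471 D222668
theorem N119410 : nd 119410 = n222669 := ndS (p := 97471) (l := 1) rfl N97471 D222669
theorem N119411 : nd 119411 = n222670 := ndS (p := 97471) (l := 4) rfl N97471 D222670
theorem N119412 : nd 119412 = n222671 := ndS (p := 97475) (l := 7) rfl N97475 D222671
theorem N119413 : nd 119413 = n222672 := ndS (p := 97503) (l := 7) rfl N97503 D222672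
theorem N119414 : nd 119414 = n222673 := ndS (p := 97514) (l := 6) rfl N97514 D222673
theorem N119415 : nd 119415 = n222674 := ndS (p := 97528) (l := 5) rfl N97528 D222674
theorem N119416 : nd 119416 = n222675 := ndS (p := 97539) (l := 4) rfl N97539 D222675
theorem N119417 : nd 119417 = n222676 := ndS (p := 97558) (l := 4) rfl N97558 D222676
theorem N119418 : nd 119418 = n222677 := ndS (p := 97559) (l := 1) rfl N97559 D222677
theorem N119419 : nd 119419 = n222678 := ndS (p := 97559) (l := 5) rfl N97559 D222678
theorem N119420 : nd 119420 = n222679 := ndS (p := 97559) (l := 7) rfl N97559 D222679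
theorem N119421 : nd 119421 = n222680 := ndS (p := 97566) (l := 6) rfl N97566 D222680
theorem N119422 : nd 119422 = n222681 := ndS (p := 97569) (l := 6) rfl N97569 D222681
theorem N119423 : nd 119423 = n222682 := ndS (p := 97570) (l := 6) rfl N97570 D222682
theorem N119424 : nd 119424 = n222683 := ndS (p := 97573) (l := 6) rfl N97573 D222683
theorem N119425 : nd 119425 = n222684 := ndS (p := 97578) (l := 7) rfl N97578 D222684
theorem N119426 : nd 119426 = n222685 := ndS (p := 97580) (l := 5) rfl N97580 D222685
theorem N119427 : nd 119427 = n222686 := ndS (p := 97581) (l := 6) rfl N97581 D222686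
theorem N119428 : nd 119428 = n222687 := ndS (p := 97584) (l := 6) rfl N97584 D222687
theorem N119429 : nd 119429 = n222688 := ndS (p := 97585) (l := 5) rfl N97585 D222688
theorem N119430 : nd 119430 = n222689 := ndS (p := 97593) (l := 3) rfl N97593 D222689
theorem N119431 : nd 119431 = n222690 := ndS (p := 97599) (l := 4) rfl N97599 D222690
theorem N119432 : nd 119432 = n222691 := ndS (p := 97627) (l := 6) rfl N97627 D222691
theorem N119433 : nd 119433 = n222692 := ndS (p := 97640) (l := 4) rfl N97640 D222692
theorem N119434 : nd 119434 = n222693 := ndS (p := 97646) (l := 6) rfl N97646 D222693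
theorem N119435 : nd 119435 = n222694 := ndS (p := 97657) (l := 4) rfl N97657 D222694
theorem N119436 : nd 119436 = n222695 := ndS (p := 97669) (l := 1) rfl N97669 D222695
theorem N119437 : nd 119437 = n222696 := ndS (p := 97669) (l := 5) rfl N97669 D222696
theorem N119438 : nd 119438 = n222697 := ndS (p := 97672) (l := 3) rfl N97672 D222697
theorem N119439 : nd 119439 = n222698 := ndS (p := 97672) (l := 5) rfl N97672 D222698
theorem N119440 : nd 119440 = n222699 := ndS (p := 97672) (l := 6) rfl N97672 D222699
theorem N119441 : nd 119441 = n222700 := ndS (p := 97675) (l := 5) rfl N97675 D222700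
theorem N119442 : nd 119442 = n222701 := ndS (p := 97676) (l := 5) rfl N97676 D222701
theorem N119443 : nd 119443 = n222702 := ndS (p := 97679) (l := 0) rfl N97679 D222702
theorem N119444 : nd 119444 = n222703 := ndS (p := 97679) (l := 1) rfl N97679 D222703
theorem N119445 : nd 119445 = n222704 := ndS (p := 97681) (l := 0) rfl N97681 D222704
theorem N119446 : nd 119446 = n222705 := ndS (p := 97684) (l := 6) rfl N97684 D222705
theorem N119447 : nd 119447 = n222706 := ndS (p := 97688) (l := 0) rfl N97688 D222706
theorem N119448 : nd 119448 = n222707 := ndS (p := 97689) (l := 6) rfl N97689 D222707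
theorem N119449 : nd 119449 = n222708 := ndS (p := 97690) (l := 6) rfl N97690 D222708
theorem N119450 : nd 119450 = n222709 := ndS (p := 97706) (l := 0) rfl N97706 D222709
theorem N119451 : nd 119451 = n222710 := ndS (p := 97706) (l := 1) rfl N97706 D222710
theorem N119452 : nd 119452 = n222711 := ndS (p := 97706) (l := 3) rfl N97706 D222711
theorem N119453 : nd 119453 = n222712 := ndS (p := 97706) (l := 7) rfl N97706 D222712
theorem N119454 : nd 119454 = n222713 := ndS (p := 97718) (l := 4) rfl N97718 D222713
theorem N119455 : nd 119455 = n222714 := ndS (p := 97729) (l := 6) rfl N97729 D222714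
theorem N119456 : nd 119456 = n222715 := ndS (p := 97730) (l := 6) rfl N97730 D222715
theorem N119457 : nd 119457 = n222716 := ndS (p := 97733) (l := 4) rfl N97733 D222716
theorem N119458 : nd 119458 = n222717 := ndS (p := 97735) (l := 0) rfl N97735 D222717
theorem N119459 : nd 119459 = n222718 := ndS (p := 97735) (l := 5) rfl N97735 D222718
theorem N119460 : nd 119460 = n222719 := ndS (p := 97735) (l := 7) rfl N97735 D222719
theorem N119461 : nd 119461 = n222720 := ndS (p := 97740) (l := 4) rfl N97740 D222720
theorem N119462 : nd 119462 = n222721 := ndS (p := 97742) (l := 3) rfl N97742 D222721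
theorem N119463 : nd 119463 = n222722 := ndS (p := 97744) (l := 1) rfl N97744 D222722
theorem N119464 : nd 119464 = n222723 := ndS (p := 97755) (l := 6) rfl N97755 D222723
theorem N119465 : nd 119465 = n222724 := ndS (p := 97760) (l := 5) rfl N97760 D222724
theorem N119466 : nd 119466 = n222725 := ndS (p := 97764) (l := 3) rfl N97764 D222725
theorem N119467 : nd 119467 = n222726 := ndS (p := 97783) (l := 3) rfl N97783 D222726
theorem N119468 : nd 119468 = n222727 := ndS (p := 97792) (l := 0) rfl N97792 D222727
theorem N119469 : nd 119469 = n222728 := ndS (p := 97792) (l := 1) rfl N97792 D222728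
theorem N119470 : nd 119470 = n222729 := ndS (p := 97797) (l := 6) rfl N97797 D222729
theorem N119471 : nd 119471 = n222730 := ndS (p := 97798) (l := 5) rfl N97798 D222730
theorem N119472 : nd 119472 = n222731 := ndS (p := 97799) (l := 4) rfl N97799 D222731
theorem N119473 : nd 119473 = n222732 := ndS (p := 97804) (l := 1) rfl N97804 D222732
theorem N119474 : nd 119474 = n222733 := ndS (p := 97804) (l := 5) rfl N97804 D222733
theorem N119475 : nd 119475 = n222734 := ndS (p := 97811) (l := 5) rfl N97811 D222734
theorem N119476 : nd 119476 = n222735 := ndS (p := 97812) (l := 4) rfl N97812 D222735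
theorem N119477 : nd 119477 = n222736 := ndS (p := 97818) (l := 4) rfl N97818 D222736
theorem N119478 : nd 119478 = n222737 := ndS (p := 97819) (l := 6) rfl N97819 D222737
theorem N119479 : nd 119479 = n222738 := ndS (p := 97823) (l := 3) rfl N97823 D222738
theorem N119480 : nd 119480 = n222739 := ndS (p := 97823) (l := 5) rfl N97823 D222739
theorem N119481 : nd 119481 = n222740 := ndS (p := 97827) (l := 5) rfl N97827 D222740
theorem N119482 : nd 119482 = n222741 := ndS (p := 97828) (l := 3) rfl N97828 D222741
theorem N119483 : nd 119483 = n222742 := ndS (p := 97828) (l := 5) rfl N97828 D222742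
theorem N119484 : nd 119484 = n222743 := ndS (p := 97830) (l := 0) rfl N97830 D222743
theorem N119485 : nd 119485 = n222744 := ndS (p := 97830) (l := 1) rfl N97830 D222744
theorem N119486 : nd 119486 = n222745 := ndS (p := 97830) (l := 4) rfl N97830 D222745
theorem N119487 : nd 119487 = n222746 := ndS (p := 97830) (l := 7) rfl N97830 D222746
theorem N119488 : nd 119488 = n222747 := ndS (p := 97838) (l := 3) rfl N97838 D222747
theorem N119489 : nd 119489 = n222748 := ndS (p := 97838) (l := 6) rfl N97838 D222748
theorem N119490 : nd 119490 = n222749 := ndS (p := 97841) (l := 5) rfl N97841 D222749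
theorem N119491 : nd 119491 = n222750 := ndS (p := 97841) (l := 7) rfl N97841 D222750
theorem N119492 : nd 119492 = n222751 := ndS (p := 97849) (l := 4) rfl N97849 D222751
theorem N119493 : nd 119493 = n222752 := ndS (p := 97868) (l := 1) rfl N97868 D222752
theorem N119494 : nd 119494 = n222753 := ndS (p := 97868) (l := 2) rfl N97868 D222753
theorem N119495 : nd 119495 = n222754 := ndS (p := 97868) (l := 6) rfl N97868 D222754
theorem N119496 : nd 119496 = n222755 := ndS (p := 97883) (l := 6) rfl N97883 D222755
theorem N119497 : nd 119497 = n222756 := ndS (p := 97885) (l := 6) rfl N97885 D222756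
theorem N119498 : nd 119498 = n222757 := ndS (p := 97887) (l := 6) rfl N97887 D222757
theorem N119499 : nd 119499 = n222758 := ndS (p := 97890) (l := 4) rfl N97890 D222758
theorem N119500 : nd 119500 = n222759 := ndS (p := 97892) (l := 3) rfl N97892 D222759
theorem N119501 : nd 119501 = n222760 := ndS (p := 97892) (l := 6) rfl N97892 D222760
theorem N119502 : nd 119502 = n222761 := ndS (p := 97900) (l := 1) rfl N97900 D222761
theorem N119503 : nd 119503 = n222762 := ndS (p := 97900) (l := 2) rfl N97900 D222762
theorem N119504 : nd 119504 = n222763 := ndS (p := 97908) (l := 5) rfl N97908 D222763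
theorem N119505 : nd 119505 = n222764 := ndS (p := 97919) (l := 4) rfl N97919 D222764
theorem N119506 : nd 119506 = n222765 := ndS (p := 97922) (l := 6) rfl N97922 D222765
theorem N119507 : nd 119507 = n222766 := ndS (p := 97927) (l := 6) rfl N97927 D222766
theorem N119508 : nd 119508 = n222767 := ndS (p := 97929) (l := 0) rfl N97929 D222767
theorem N119509 : nd 119509 = n222768 := ndS (p := 97931) (l := 5) rfl N97931 D222768
theorem N119510 : nd 119510 = n222769 := ndS (p := 97956) (l := 3) rfl N97956 D222769
theorem N119511 : nd 119511 = n222770 := ndS (p := 97959) (l := 6) rfl N97959 D222770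
theorem N119512 : nd 119512 = n222771 := ndS (p := 97974) (l := 0) rfl N97974 D222771
theorem N119513 : nd 119513 = n222772 := ndS (p := 97976) (l := 5) rfl N97976 D222772
theorem N119514 : nd 119514 = n222773 := ndS (p := 97990) (l := 3) rfl N97990 D222773
theorem N119515 : nd 119515 = n222774 := ndS (p := 97994) (l := 3) rfl N97994 D222774
theorem N119516 : nd 119516 = n222775 := ndS (p := 97994) (l := 5) rfl N97994 D222775
theorem N119517 : nd 119517 = n222776 := ndS (p := 97996) (l := 0) rfl N97996 D222776
theorem N119518 : nd 119518 = n222777 := ndS (p := 97996) (l := 4) rfl N97996 D222777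
theorem N119519 : nd 119519 = n222778 := ndS (p := 98000) (l := 3) rfl N98000 D222778
theorem N119520 : nd 119520 = n222779 := ndS (p := 98011) (l := 4) rfl N98011 D222779
theorem N119521 : nd 119521 = n222780 := ndS (p := 98012) (l := 0) rfl N98012 D222780
theorem N119522 : nd 119522 = n222781 := ndS (p := 98014) (l := 5) rfl N98014 D222781
theorem N119523 : nd 119523 = n222782 := ndS (p := 98018) (l := 7) rfl N98018 D222782
theorem N119524 : nd 119524 = n222783 := ndS (p := 98022) (l := 3) rfl N98022 D222783
theorem N119525 : nd 119525 = n222784 := ndS (p := 98027) (l := 6) rfl N98027 D222784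
theorem N119526 : nd 119526 = n222785 := ndS (p := 98028) (l := 1) rfl N98028 D222785
theorem N119527 : nd 119527 = n222786 := ndS (p := 98028) (l := 2) rfl N98028 D222786
theorem N119528 : nd 119528 = n222787 := ndS (p := 98040) (l := 4) rfl N98040 D222787
theorem N119529 : nd 119529 = n222788 := ndS (p := 98042) (l := 1) rfl N98042 D222788
theorem N119530 : nd 119530 = n222789 := ndS (p := 98042) (l := 6) rfl N98042 D222789
theorem N119531 : nd 119531 = n222790 := ndS (p := 98045) (l := 6) rfl N98045 D222790
theorem N119532 : nd 119532 = n222791 := ndS (p := 98046) (l := 6) rfl N98046 D222791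
theorem N119533 : nd 119533 = n222792 := ndS (p := 98051) (l := 5) rfl N98051 D222792
theorem N119534 : nd 119534 = n222793 := ndS (p := 98052) (l := 3) rfl N98052 D222793
theorem N119535 : nd 119535 = n222794 := ndS (p := 98052) (l := 5) rfl N98052 D222794
theorem N119536 : nd 119536 = n222795 := ndS (p := 98054) (l := 0) rfl N98054 D222795
theorem N119537 : nd 119537 = n222796 := ndS (p := 98054) (l := 1) rfl N98054 D222796
theorem N119538 : nd 119538 = n222797 := ndS (p := 98055) (l := 3) rfl N98055 D222797
theorem N119539 : nd 119539 = n222798 := ndS (p := 98055) (l := 4) rfl N98055 D222798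
theorem N119540 : nd 119540 = n222799 := ndS (p := 98058) (l := 6) rfl N98058 D222799
theorem N119541 : nd 119541 = n222800 := ndS (p := 98075) (l := 3) rfl N98075 D222800
theorem N119542 : nd 119542 = n222801 := ndS (p := 98090) (l := 5) rfl N98090 D222801
theorem N119543 : nd 119543 = n222802 := ndS (p := 98092) (l := 4) rfl N98092 D222802
theorem N119544 : nd 119544 = n222803 := ndS (p := 98095) (l := 5) rfl N98095 D222803
theorem N119545 : nd 119545 = n222804 := ndS (p := 98099) (l := 1) rfl N98099 D222804
theorem N119546 : nd 119546 = n222805 := ndS (p := 98103) (l := 5) rfl N98103 D222805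
theorem N119547 : nd 119547 = n222806 := ndS (p := 98104) (l := 0) rfl N98104 D222806
theorem N119548 : nd 119548 = n222807 := ndS (p := 98104) (l := 1) rfl N98104 D222807
theorem N119549 : nd 119549 = n222808 := ndS (p := 98104) (l := 3) rfl N98104 D222808
theorem N119550 : nd 119550 = n222809 := ndS (p := 98104) (l := 7) rfl N98104 D222809
theorem N119551 : nd 119551 = n222810 := ndS (p := 98109) (l := 1) rfl N98109 D222810
theorem N119552 : nd 119552 = n222811 := ndS (p := 98118) (l := 4) rfl N98118 D222811
theorem N119553 : nd 119553 = n222812 := ndS (p := 98129) (l := 5) rfl N98129 D222812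
theorem N119554 : nd 119554 = n222813 := ndS (p := 98145) (l := 4) rfl N98145 D222813
theorem N119555 : nd 119555 = n222814 := ndS (p := 98160) (l := 4) rfl N98160 D222814
theorem N119556 : nd 119556 = n222815 := ndS (p := 98165) (l := 5) rfl N98165 D222815
theorem N119557 : nd 119557 = n222816 := ndS (p := 98187) (l := 5) rfl N98187 D222816
theorem N119558 : nd 119558 = n222817 := ndS (p := 98194) (l := 5) rfl N98194 D222817
theorem N119559 : nd 119559 = n222818 := ndS (p := 98203) (l := 4) rfl N98203 D222818
theorem N119560 : nd 119560 = n222819 := ndS (p := 98206) (l := 0) rfl N98206 D222819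
theorem N119561 : nd 119561 = n222820 := ndS (p := 98206) (l := 1) rfl N98206 D222820
theorem N119562 : nd 119562 = n222821 := ndS (p := 98211) (l := 2) rfl N98211 D222821
theorem N119563 : nd 119563 = n222822 := ndS (p := 98212) (l := 3) rfl N98212 D222822
theorem N119564 : nd 119564 = n222823 := ndS (p := 98214) (l := 6) rfl N98214 D222823
theorem N119565 : nd 119565 = n222824 := ndS (p := 98224) (l := 2) rfl N98224 D222824
theorem N119566 : nd 119566 = n222825 := ndS (p := 98224) (l := 5) rfl N98224 D222825
theorem N119567 : nd 119567 = n222826 := ndS (p := 98230) (l := 1) rfl N98230 D222826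
theorem N119568 : nd 119568 = n222827 := ndS (p := 98233) (l := 6) rfl N98233 D222827
theorem N119569 : nd 119569 = n222828 := ndS (p := 98234) (l := 1) rfl N98234 D222828
theorem N119570 : nd 119570 = n222829 := ndS (p := 98234) (l := 5) rfl N98234 D222829
theorem N119571 : nd 119571 = n222830 := ndS (p := 98235) (l := 4) rfl N98235 D222830
theorem N119572 : nd 119572 = n222831 := ndS (p := 98237) (l := 5) rfl N98237 D222831
theorem N119573 : nd 119573 = n222832 := ndS (p := 98238) (l := 4) rfl N98238 D222832
theorem N119574 : nd 119574 = n222833 := ndS (p := 98240) (l := 4) rfl N98240 D222833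
theorem N119575 : nd 119575 = n222834 := ndS (p := 98263) (l := 4) rfl N98263 D222834
theorem N119576 : nd 119576 = n222835 := ndS (p := 98264) (l := 1) rfl N98264 D222835
theorem N119577 : nd 119577 = n222836 := ndS (p := 98277) (l := 0) rfl N98277 D222836
theorem N119578 : nd 119578 = n222837 := ndS (p := 98279) (l := 3) rfl N98279 D222837
theorem N119579 : nd 119579 = n222838 := ndS (p := 98280) (l := 6) rfl N98280 D222838
theorem N119580 : nd 119580 = n222839 := ndS (p := 98283) (l := 6) rfl N98283 D222839
theorem N119581 : nd 119581 = n222840 := ndS (p := 98291) (l := 3) rfl N98291 D222840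
theorem N119582 : nd 119582 = n222841 := ndS (p := 98292) (l := 4) rfl N98292 D222841
theorem N119583 : nd 119583 = n222842 := ndS (p := 98311) (l := 1) rfl N98311 D222842
theorem N119584 : nd 119584 = n222843 := ndS (p := 98330) (l := 0) rfl N98330 D222843
theorem N119585 : nd 119585 = n222844 := ndS (p := 98336) (l := 4) rfl N98336 D222844
theorem N119586 : nd 119586 = n222845 := ndS (p := 98337) (l := 4) rfl N98337 D222845
theorem N119587 : nd 119587 = n222846 := ndS (p := 98339) (l := 4) rfl N98339 D222846
theorem N119588 : nd 119588 = n222847 := ndS (p := 98340) (l := 5) rfl N98340 D222847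
theorem N119589 : nd 119589 = n222848 := ndS (p := 98344) (l := 4) rfl N98344 D222848
theorem N119590 : nd 119590 = n222849 := ndS (p := 98349) (l := 5) rfl N98349 D222849
theorem N119591 : nd 119591 = n222850 := ndS (p := 98351) (l := 5) rfl N98351 D222850
theorem N119592 : nd 119592 = n222851 := ndS (p := 98376) (l := 5) rfl N98376 D222851
theorem N119593 : nd 119593 = n222852 := ndS (p := 98377) (l := 6) rfl N98377 D222852
theorem N119594 : nd 119594 = n222853 := ndS (p := 98388) (l := 4) rfl N98388 D222853
theorem N119595 : nd 119595 = n222854 := ndS (p := 98388) (l := 6) rfl N98388 D222854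
theorem N119596 : nd 119596 = n222855 := ndS (p := 98408) (l := 4) rfl N98408 D222855
theorem N119597 : nd 119597 = n222856 := ndS (p := 98415) (l := 6) rfl N98415 D222856
theorem N119598 : nd 119598 = n222857 := ndS (p := 98417) (l := 5) rfl N98417 D222857
theorem N119599 : nd 119599 = n222858 := ndS (p := 98419) (l := 4) rfl N98419 D222858
theorem N119600 : nd 119600 = n222859 := ndS (p := 98420) (l := 5) rfl N98420 D222859
theorem N119601 : nd 119601 = n222860 := ndS (p := 98420) (l := 6) rfl N98420 D222860
theorem N119602 : nd 119602 = n222861 := ndS (p := 98423) (l := 5) rfl N98423 D222861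
theorem N119603 : nd 119603 = n222862 := ndS (p := 98424) (l := 5) rfl N98424 D222862
theorem N119604 : nd 119604 = n222863 := ndS (p := 98427) (l := 5) rfl N98427 D222863
theorem N119605 : nd 119605 = n222864 := ndS (p := 98429) (l := 5) rfl N98429 D222864
theorem N119606 : nd 119606 = n222865 := ndS (p := 98430) (l := 5) rfl N98430 D222865
theorem N119607 : nd 119607 = n222866 := ndS (p := 98431) (l := 0) rfl N98431 D222866
theorem N119608 : nd 119608 = n222867 := ndS (p := 98432) (l := 3) rfl N98432 D222867
theorem N119609 : nd 119609 = n222868 := ndS (p := 98434) (l := 5) rfl N98434 D222868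
theorem N119610 : nd 119610 = n222869 := ndS (p := 98435) (l := 6) rfl N98435 D222869
theorem N119611 : nd 119611 = n222870 := ndS (p := 98445) (l := 6) rfl N98445 D222870
theorem N119612 : nd 119612 = n222871 := ndS (p := 98452) (l := 4) rfl N98452 D222871
theorem N119613 : nd 119613 = n222872 := ndS (p := 98453) (l := 4) rfl N98453 D222872
theorem N119614 : nd 119614 = n222873 := ndS (p := 98454) (l := 5) rfl N98454 D222873
theorem N119615 : nd 119615 = n222874 := ndS (p := 98455) (l := 4) rfl N98455 D222874
theorem N119616 : nd 119616 = n222875 := ndS (p := 98455) (l := 6) rfl N98455 D222875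
theorem N119617 : nd 119617 = n222876 := ndS (p := 98463) (l := 4) rfl N98463 D222876
theorem N119618 : nd 119618 = n222877 := ndS (p := 98468) (l := 0) rfl N98468 D222877
theorem N119619 : nd 119619 = n222878 := ndS (p := 98482) (l := 1) rfl N98482 D222878
theorem N119620 : nd 119620 = n222879 := ndS (p := 98486) (l := 3) rfl N98486 D222879
theorem N119621 : nd 119621 = n222880 := ndS (p := 98500) (l := 0) rfl N98500 D222880
theorem N119622 : nd 119622 = n222881 := ndS (p := 98500) (l := 2) rfl N98500 D222881
theorem N119623 : nd 119623 = n222882 := ndS (p := 98508) (l := 3) rfl N98508 D222882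
theorem N119624 : nd 119624 = n222883 := ndS (p := 98509) (l := 1) rfl N98509 D222883
theorem N119625 : nd 119625 = n222884 := ndS (p := 98509) (l := 7) rfl N98509 D222884
theorem N119626 : nd 119626 = n222885 := ndS (p := 98515) (l := 0) rfl N98515 D222885
theorem N119627 : nd 119627 = n222886 := ndS (p := 98515) (l := 4) rfl N98515 D222886
theorem N119628 : nd 119628 = n222887 := ndS (p := 98516) (l := 5) rfl N98516 D222887
theorem N119629 : nd 119629 = n222888 := ndS (p := 98517) (l := 5) rfl N98517 D222888
theorem N119630 : nd 119630 = n222889 := ndS (p := 98523) (l := 5) rfl N98523 D222889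
theorem N119631 : nd 119631 = n222890 := ndS (p := 98531) (l := 2) rfl N98531 D222890
theorem N119632 : nd 119632 = n222891 := ndS (p := 98533) (l := 0) rfl N98533 D222891
theorem N119633 : nd 119633 = n222892 := ndS (p := 98533) (l := 2) rfl N98533 D222892
theorem N119634 : nd 119634 = n222893 := ndS (p := 98533) (l := 4) rfl N98533 D222893
theorem N119635 : nd 119635 = n222894 := ndS (p := 98533) (l := 7) rfl N98533 D222894
theorem N119636 : nd 119636 = n222895 := ndS (p := 98534) (l := 4) rfl N98534 D222895
theorem N119637 : nd 119637 = n222896 := ndS (p := 98535) (l := 5) rfl N98535 D222896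
theorem N119638 : nd 119638 = n222897 := ndS (p := 98537) (l := 6) rfl N98537 D222897
theorem N119639 : nd 119639 = n222898 := ndS (p := 98557) (l := 3) rfl N98557 D222898
theorem N119640 : nd 119640 = n222899 := ndS (p := 98561) (l := 2) rfl N98561 D222899
theorem N119641 : nd 119641 = n222900 := ndS (p := 98562) (l := 7) rfl N98562 D222900
theorem N119642 : nd 119642 = n222901 := ndS (p := 98563) (l := 4) rfl N98563 D222901
theorem N119643 : nd 119643 = n222902 := ndS (p := 98568) (l := 1) rfl N98568 D222902
theorem N119644 : nd 119644 = n222903 := ndS (p := 98568) (l := 4) rfl N98568 D222903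
theorem N119645 : nd 119645 = n222904 := ndS (p := 98570) (l := 3) rfl N98570 D222904
theorem N119646 : nd 119646 = n222905 := ndS (p := 98575) (l := 4) rfl N98575 D222905
theorem N119647 : nd 119647 = n222906 := ndS (p := 98581) (l := 5) rfl N98581 D222906
theorem N119648 : nd 119648 = n222907 := ndS (p := 98581) (l := 7) rfl N98581 D222907
theorem N119649 : nd 119649 = n222908 := ndS (p := 98587) (l := 5) rfl N98587 D222908
theorem N119650 : nd 119650 = n222909 := ndS (p := 98587) (l := 7) rfl N98587 D222909
theorem N119651 : nd 119651 = n222910 := ndS (p := 98592) (l := 0) rfl N98592 D222910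
theorem N119652 : nd 119652 = n222911 := ndS (p := 98592) (l := 1) rfl N98592 D222911
theorem N119653 : nd 119653 = n222912 := ndS (p := 98594) (l := 0) rfl N98594 D222912
theorem N119654 : nd 119654 = n222913 := ndS (p := 98594) (l := 1) rfl N98594 D222913
theorem N119655 : nd 119655 = n222914 := ndS (p := 98601) (l := 3) rfl N98601 D222914
theorem N119656 : nd 119656 = n222915 := ndS (p := 98605) (l := 4) rfl N98605 D222915
theorem N119657 : nd 119657 = n222916 := ndS (p := 98617) (l := 5) rfl N98617 D222916
theorem N119658 : nd 119658 = n222917 := ndS (p := 98618) (l := 0) rfl N98618 D222917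
theorem N119659 : nd 119659 = n222918 := ndS (p := 98618) (l := 2) rfl N98618 D222918
theorem N119660 : nd 119660 = n222919 := ndS (p := 98618) (l := 4) rfl N98618 D222919
theorem N119661 : nd 119661 = n222920 := ndS (p := 98618) (l := 6) rfl N98618 D222920
theorem N119662 : nd 119662 = n222921 := ndS (p := 98621) (l := 5) rfl N98621 D222921
theorem N119663 : nd 119663 = n222922 := ndS (p := 98622) (l := 5) rfl N98622 D222922
theorem N119664 : nd 119664 = n222923 := ndS (p := 98623) (l := 1) rfl N98623 D222923
theorem N119665 : nd 119665 = n222924 := ndS (p := 98623) (l := 4) rfl N98623 D222924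
theorem N119666 : nd 119666 = n222925 := ndS (p := 98624) (l := 3) rfl N98624 D222925
theorem N119667 : nd 119667 = n222926 := ndS (p := 98626) (l := 0) rfl N98626 D222926
theorem N119668 : nd 119668 = n222927 := ndS (p := 98626) (l := 1) rfl N98626 D222927
theorem N119669 : nd 119669 = n222928 := ndS (p := 98629) (l := 1) rfl N98629 D222928
theorem N119670 : nd 119670 = n222929 := ndS (p := 98630) (l := 5) rfl N98630 D222929
theorem N119671 : nd 119671 = n222930 := ndS (p := 98632) (l := 1) rfl N98632 D222930
theorem N119672 : nd 119672 = n222931 := ndS (p := 98632) (l := 5) rfl N98632 D222931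
theorem N119673 : nd 119673 = n222932 := ndS (p := 98662) (l := 6) rfl N98662 D222932
theorem N119674 : nd 119674 = n222933 := ndS (p := 98668) (l := 3) rfl N98668 D222933
theorem N119675 : nd 119675 = n222934 := ndS (p := 98669) (l := 5) rfl N98669 D222934
theorem N119676 : nd 119676 = n222935 := ndS (p := 98673) (l := 4) rfl N98673 D222935
theorem N119677 : nd 119677 = n222936 := ndS (p := 98673) (l := 6) rfl N98673 D222936
theorem N119678 : nd 119678 = n222937 := ndS (p := 98687) (l := 4) rfl N98687 D222937
theorem N119679 : nd 119679 = n222938 := ndS (p := 98687) (l := 6) rfl N98687 D222938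
theorem N119680 : nd 119680 = n222939 := ndS (p := 98690) (l := 5) rfl N98690 D222939
theorem N119681 : nd 119681 = n222940 := ndS (p := 98692) (l := 5) rfl N98692 D222940
theorem N119682 : nd 119682 = n222941 := ndS (p := 98693) (l := 5) rfl N98693 D222941
theorem N119683 : nd 119683 = n222942 := ndS (p := 98710) (l := 3) rfl N98710 D222942
theorem N119684 : nd 119684 = n222943 := ndS (p := 98716) (l := 6) rfl N98716 D222943
theorem N119685 : nd 119685 = n222944 := ndS (p := 98718) (l := 3) rfl N98718 D222944
theorem N119686 : nd 119686 = n222945 := ndS (p := 98723) (l := 5) rfl N98723 D222945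
theorem N119687 : nd 119687 = n222946 := ndS (p := 98731) (l := 3) rfl N98731 D222946
theorem N119688 : nd 119688 = n222947 := ndS (p := 98734) (l := 5) rfl N98734 D222947
theorem N119689 : nd 119689 = n222948 := ndS (p := 98751) (l := 6) rfl N98751 D222948
theorem N119690 : nd 119690 = n222949 := ndS (p := 98775) (l := 6) rfl N98775 D222949
theorem N119691 : nd 119691 = n222950 := ndS (p := 98776) (l := 1) rfl N98776 D222950
theorem N119692 : nd 119692 = n222951 := ndS (p := 98777) (l := 0) rfl N98777 D222951
theorem N119693 : nd 119693 = n222952 := ndS (p := 98786) (l := 4) rfl N98786 D222952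
theorem N119694 : nd 119694 = n222953 := ndS (p := 98787) (l := 0) rfl N98787 D222953
theorem N119695 : nd 119695 = n222954 := ndS (p := 98795) (l := 4) rfl N98795 D222954
theorem N119696 : nd 119696 = n222955 := ndS (p := 98796) (l := 3) rfl N98796 D222955
theorem N119697 : nd 119697 = n222956 := ndS (p := 98796) (l := 6) rfl N98796 D222956
theorem N119698 : nd 119698 = n222957 := ndS (p := 98801) (l := 5) rfl N98801 D222957
theorem N119699 : nd 119699 = n222958 := ndS (p := 98802) (l := 3) rfl N98802 D222958
theorem N119700 : nd 119700 = n222959 := ndS (p := 98802) (l := 5) rfl N98802 D222959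
theorem N119701 : nd 119701 = n222960 := ndS (p := 98803) (l := 3) rfl N98803 D222960
theorem N119702 : nd 119702 = n222961 := ndS (p := 98803) (l := 5) rfl N98803 D222961
theorem N119703 : nd 119703 = n222962 := ndS (p := 98804) (l := 0) rfl N98804 D222962
theorem N119704 : nd 119704 = n222963 := ndS (p := 98804) (l := 1) rfl N98804 D222963
theorem N119705 : nd 119705 = n222964 := ndS (p := 98804) (l := 7) rfl N98804 D222964
theorem N119706 : nd 119706 = n222965 := ndS (p := 98808) (l := 0) rfl N98808 D222965
theorem N119707 : nd 119707 = n222966 := ndS (p := 98828) (l := 5) rfl N98828 D222966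
theorem N119708 : nd 119708 = n222967 := ndS (p := 98829) (l := 5) rfl N98829 D222967
theorem N119709 : nd 119709 = n222968 := ndS (p := 98834) (l := 3) rfl N98834 D222968
theorem N119710 : nd 119710 = n222969 := ndS (p := 98834) (l := 5) rfl N98834 D222969
theorem N119711 : nd 119711 = n222970 := ndS (p := 98835) (l := 5) rfl N98835 D222970
theorem N119712 : nd 119712 = n222971 := ndS (p := 98836) (l := 0) rfl N98836 D222971
theorem N119713 : nd 119713 = n222972 := ndS (p := 98836) (l := 1) rfl N98836 D222972
theorem N119714 : nd 119714 = n222973 := ndS (p := 98836) (l := 4) rfl N98836 D222973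
theorem N119715 : nd 119715 = n222974 := ndS (p := 98836) (l := 7) rfl N98836 D222974
theorem N119716 : nd 119716 = n222975 := ndS (p := 98840) (l := 0) rfl N98840 D222975
theorem N119717 : nd 119717 = n222976 := ndS (p := 98840) (l := 6) rfl N98840 D222976
theorem N119718 : nd 119718 = n222977 := ndS (p := 98845) (l := 0) rfl N98845 D222977
theorem N119719 : nd 119719 = n222978 := ndS (p := 98845) (l := 5) rfl N98845 D222978
theorem N119720 : nd 119720 = n222979 := ndS (p := 98845) (l := 7) rfl N98845 D222979
theorem N119721 : nd 119721 = n222980 := ndS (p := 98846) (l := 6) rfl N98846 D222980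
theorem N119722 : nd 119722 = n222981 := ndS (p := 98848) (l := 5) rfl N98848 D222981
theorem N119723 : nd 119723 = n222982 := ndS (p := 98849) (l := 5) rfl N98849 D222982
theorem N119724 : nd 119724 = n222983 := ndS (p := 98850) (l := 5) rfl N98850 D222983
theorem N119725 : nd 119725 = n222984 := ndS (p := 98850) (l := 6) rfl N98850 D222984
theorem N119726 : nd 119726 = n222985 := ndS (p := 98856) (l := 5) rfl N98856 D222985
theorem N119727 : nd 119727 = n222986 := ndS (p := 98857) (l := 6) rfl N98857 D222986
theorem N119728 : nd 119728 = n222987 := ndS (p := 98858) (l := 0) rfl N98858 D222987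
theorem N119729 : nd 119729 = n222988 := ndS (p := 98858) (l := 1) rfl N98858 D222988
theorem N119730 : nd 119730 = n222989 := ndS (p := 98859) (l := 0) rfl N98859 D222989
theorem N119731 : nd 119731 = n222990 := ndS (p := 98859) (l := 1) rfl N98859 D222990
theorem N119732 : nd 119732 = n222991 := ndS (p := 98860) (l := 5) rfl N98860 D222991
theorem N119733 : nd 119733 = n222992 := ndS (p := 98861) (l := 4) rfl N98861 D222992
theorem N119734 : nd 119734 = n222993 := ndS (p := 98861) (l := 5) rfl N98861 D222993
theorem N119735 : nd 119735 = n222994 := ndS (p := 98863) (l := 3) rfl N98863 D222994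
theorem N119736 : nd 119736 = n222995 := ndS (p := 98863) (l := 5) rfl N98863 D222995
theorem N119737 : nd 119737 = n222996 := ndS (p := 98868) (l := 3) rfl N98868 D222996
theorem N119738 : nd 119738 = n222997 := ndS (p := 98873) (l := 5) rfl N98873 D222997
theorem N119739 : nd 119739 = n222998 := ndS (p := 98876) (l := 5) rfl N98876 D222998
theorem N119740 : nd 119740 = n222999 := ndS (p := 98877) (l := 5) rfl N98877 D222999
theorem N119741 : nd 119741 = n223000 := ndS (p := 98878) (l := 1) rfl N98878 D223000
theorem N119742 : nd 119742 = n223001 := ndS (p := 98879) (l := 5) rfl N98879 D223001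
theorem N119743 : nd 119743 = n223002 := ndS (p := 98879) (l := 6) rfl N98879 D223002
theorem N119744 : nd 119744 = n223003 := ndS (p := 98886) (l := 7) rfl N98886 D223003
theorem N119745 : nd 119745 = n223004 := ndS (p := 98888) (l := 0) rfl N98888 D223004
theorem N119746 : nd 119746 = n223005 := ndS (p := 98889) (l := 3) rfl N98889 D223005
theorem N119747 : nd 119747 = n223006 := ndS (p := 98890) (l := 3) rfl N98890 D223006
theorem N119748 : nd 119748 = n223007 := ndS (p := 98891) (l := 0) rfl N98891 D223007
theorem N119749 : nd 119749 = n223008 := ndS (p := 98891) (l := 7) rfl N98891 D223008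
theorem N119750 : nd 119750 = n223009 := ndS (p := 98893) (l := 5) rfl N98893 D223009
theorem N119751 : nd 119751 = n223010 := ndS (p := 98894) (l := 1) rfl N98894 D223010
theorem N119752 : nd 119752 = n223011 := ndS (p := 98896) (l := 6) rfl N98896 D223011
theorem N119753 : nd 119753 = n223012 := ndS (p := 98898) (l := 5) rfl N98898 D223012
theorem N119754 : nd 119754 = n223013 := ndS (p := 98902) (l := 6) rfl N98902 D223013
theorem N119755 : nd 119755 = n223014 := ndS (p := 98903) (l := 1) rfl N98903 D223014
theorem N119756 : nd 119756 = n223015 := ndS (p := 98903) (l := 5) rfl N98903 D223015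
theorem N119757 : nd 119757 = n223016 := ndS (p := 98906) (l := 5) rfl N98906 D223016
theorem N119758 : nd 119758 = n223017 := ndS (p := 98907) (l := 6) rfl N98907 D223017
theorem N119759 : nd 119759 = n223018 := ndS (p := 98909) (l := 6) rfl N98909 D223018
theorem N119760 : nd 119760 = n223019 := ndS (p := 98910) (l := 6) rfl N98910 D223019
theorem N119761 : nd 119761 = n223020 := ndS (p := 98912) (l := 5) rfl N98912 D223020
theorem N119762 : nd 119762 = n223021 := ndS (p := 98913) (l := 5) rfl N98913 D223021
theorem N119763 : nd 119763 = n223022 := ndS (p := 98913) (l := 6) rfl N98913 D223022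
theorem N119764 : nd 119764 = n223023 := ndS (p := 98914) (l := 4) rfl N98914 D223023
theorem N119765 : nd 119765 = n223024 := ndS (p := 98918) (l := 0) rfl N98918 D223024
theorem N119766 : nd 119766 = n223025 := ndS (p := 98918) (l := 1) rfl N98918 D223025
theorem N119767 : nd 119767 = n223026 := ndS (p := 98922) (l := 3) rfl N98922 D223026
theorem N119768 : nd 119768 = n223027 := ndS (p := 98924) (l := 0) rfl N98924 D223027
theorem N119769 : nd 119769 = n223028 := ndS (p := 98924) (l := 1) rfl N98924 D223028
theorem N119770 : nd 119770 = n223029 := ndS (p := 98924) (l := 7) rfl N98924 D223029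
theorem N119771 : nd 119771 = n223030 := ndS (p := 98931) (l := 0) rfl N98931 D223030
theorem N119772 : nd 119772 = n223031 := ndS (p := 98931) (l := 1) rfl N98931 D223031
theorem N119773 : nd 119773 = n223032 := ndS (p := 98934) (l := 4) rfl N98934 D223032
theorem N119774 : nd 119774 = n223033 := ndS (p := 98934) (l := 6) rfl N98934 D223033
theorem N119775 : nd 119775 = n223034 := ndS (p := 98936) (l := 6) rfl N98936 D223034
theorem N119776 : nd 119776 = n223035 := ndS (p := 98937) (l := 4) rfl N98937 D223035
theorem N119777 : nd 119777 = n223036 := ndS (p := 98939) (l := 6) rfl N98939 D223036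
theorem N119778 : nd 119778 = n223037 := ndS (p := 98940) (l := 3) rfl N98940 D223037
theorem N119779 : nd 119779 = n223038 := ndS (p := 98940) (l := 4) rfl N98940 D223038
theorem N119780 : nd 119780 = n223039 := ndS (p := 98940) (l := 6) rfl N98940 D223039
theorem N119781 : nd 119781 = n223040 := ndS (p := 98941) (l := 1) rfl N98941 D223040
theorem N119782 : nd 119782 = n223041 := ndS (p := 98941) (l := 3) rfl N98941 D223041
theorem N119783 : nd 119783 = n223042 := ndS (p := 98942) (l := 6) rfl N98942 D223042
theorem N119784 : nd 119784 = n223043 := ndS (p := 98944) (l := 5) rfl N98944 D223043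
theorem N119785 : nd 119785 = n223044 := ndS (p := 98947) (l := 4) rfl N98947 D223044
theorem N119786 : nd 119786 = n223045 := ndS (p := 98947) (l := 6) rfl N98947 D223045
theorem N119787 : nd 119787 = n223046 := ndS (p := 98948) (l := 2) rfl N98948 D223046
theorem N119788 : nd 119788 = n223047 := ndS (p := 98948) (l := 5) rfl N98948 D223047
theorem N119789 : nd 119789 = n223048 := ndS (p := 98950) (l := 4) rfl N98950 D223048
theorem N119790 : nd 119790 = n223049 := ndS (p := 98950) (l := 6) rfl N98950 D223049
theorem N119791 : nd 119791 = n223050 := ndS (p := 98951) (l := 5) rfl N98951 D223050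
theorem N119792 : nd 119792 = n223051 := ndS (p := 98951) (l := 7) rfl N98951 D223051
theorem N119793 : nd 119793 = n223052 := ndS (p := 98952) (l := 4) rfl N98952 D223052
theorem N119794 : nd 119794 = n223053 := ndS (p := 98953) (l := 3) rfl N98953 D223053
theorem N119795 : nd 119795 = n223054 := ndS (p := 98954) (l := 0) rfl N98954 D223054
theorem N119796 : nd 119796 = n223055 := ndS (p := 98954) (l := 5) rfl N98954 D223055
theorem N119797 : nd 119797 = n223056 := ndS (p := 98954) (l := 7) rfl N98954 D223056
theorem N119798 : nd 119798 = n223057 := ndS (p := 98956) (l := 5) rfl N98956 D223057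
theorem N119799 : nd 119799 = n223058 := ndS (p := 98959) (l := 5) rfl N98959 D223058
theorem N119800 : nd 119800 = n223059 := ndS (p := 98960) (l := 5) rfl N98960 D223059
theorem N119801 : nd 119801 = n223060 := ndS (p := 98961) (l := 1) rfl N98961 D223060
theorem N119802 : nd 119802 = n223061 := ndS (p := 98961) (l := 4) rfl N98961 D223061
theorem N119803 : nd 119803 = n223062 := ndS (p := 98963) (l := 3) rfl N98963 D223062
theorem N119804 : nd 119804 = n223063 := ndS (p := 98966) (l := 2) rfl N98966 D223063
theorem N119805 : nd 119805 = n223064 := ndS (p := 98966) (l := 6) rfl N98966 D223064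
theorem N119806 : nd 119806 = n223065 := ndS (p := 98968) (l := 1) rfl N98968 D223065
theorem N119807 : nd 119807 = n223066 := ndS (p := 98969) (l := 4) rfl N98969 D223066
theorem N119808 : nd 119808 = n223067 := ndS (p := 98970) (l := 3) rfl N98970 D223067
theorem N119809 : nd 119809 = n223068 := ndS (p := 98971) (l := 0) rfl N98971 D223068
theorem N119810 : nd 119810 = n223069 := ndS (p := 98971) (l := 1) rfl N98971 D223069
theorem N119811 : nd 119811 = n223070 := ndS (p := 98971) (l := 7) rfl N98971 D223070
theorem N119812 : nd 119812 = n223071 := ndS (p := 98972) (l := 3) rfl N98972 D223071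
theorem N119813 : nd 119813 = n223072 := ndS (p := 98974) (l := 0) rfl N98974 D223072
theorem N119814 : nd 119814 = n223073 := ndS (p := 98974) (l := 2) rfl N98974 D223073
theorem N119815 : nd 119815 = n223074 := ndS (p := 98974) (l := 7) rfl N98974 D223074
theorem N119816 : nd 119816 = n223075 := ndS (p := 98976) (l := 6) rfl N98976 D223075
theorem N119817 : nd 119817 = n223076 := ndS (p := 98977) (l := 0) rfl N98977 D223076
theorem N119818 : nd 119818 = n223077 := ndS (p := 98977) (l := 1) rfl N98977 D223077
theorem N119819 : nd 119819 = n223078 := ndS (p := 98978) (l := 4) rfl N98978 D223078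
theorem N119820 : nd 119820 = n223079 := ndS (p := 98978) (l := 6) rfl N98978 D223079
theorem N119821 : nd 119821 = n223080 := ndS (p := 98979) (l := 5) rfl N98979 D223080
theorem N119822 : nd 119822 = n223081 := ndS (p := 98981) (l := 4) rfl N98981 D223081
theorem N119823 : nd 119823 = n223082 := ndS (p := 98981) (l := 6) rfl N98981 D223082
theorem N119824 : nd 119824 = n223083 := ndS (p := 98982) (l := 3) rfl N98982 D223083
theorem N119825 : nd 119825 = n223084 := ndS (p := 98986) (l := 5) rfl N98986 D223084
theorem N119826 : nd 119826 = n223085 := ndS (p := 98989) (l := 0) rfl N98989 D223085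
theorem N119827 : nd 119827 = n223086 := ndS (p := 98989) (l := 2) rfl N98989 D223086
theorem N119828 : nd 119828 = n223087 := ndS (p := 98989) (l := 6) rfl N98989 D223087
theorem N119829 : nd 119829 = n223088 := ndS (p := 98996) (l := 3) rfl N98996 D223088
theorem N119830 : nd 119830 = n223089 := ndS (p := 98996) (l := 6) rfl N98996 D223089
theorem N119831 : nd 119831 = n223090 := ndS (p := 99003) (l := 1) rfl N99003 D223090
theorem N119832 : nd 119832 = n223091 := ndS (p := 99005) (l := 0) rfl N99005 D223091
theorem N119833 : nd 119833 = n223092 := ndS (p := 99005) (l := 4) rfl N99005 D223092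
theorem N119834 : nd 119834 = n223093 := ndS (p := 99006) (l := 5) rfl N99006 D223093
theorem N119835 : nd 119835 = n223094 := ndS (p := 99013) (l := 0) rfl N99013 D223094
theorem N119836 : nd 119836 = n223095 := ndS (p := 99015) (l := 1) rfl N99015 D223095
theorem N119837 : nd 119837 = n223096 := ndS (p := 99015) (l := 7) rfl N99015 D223096
theorem N119838 : nd 119838 = n223097 := ndS (p := 99031) (l := 3) rfl N99031 D223097
theorem N119839 : nd 119839 = n223098 := ndS (p := 99037) (l := 4) rfl N99037 D223098
theorem N119840 : nd 119840 = n223099 := ndS (p := 99042) (l := 1) rfl N99042 D223099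
theorem N119841 : nd 119841 = n223100 := ndS (p := 99053) (l := 5) rfl N99053 D223100
theorem N119842 : nd 119842 = n223101 := ndS (p := 99054) (l := 1) rfl N99054 D223101
theorem N119843 : nd 119843 = n223102 := ndS (p := 99056) (l := 3) rfl N99056 D223102
theorem N119844 : nd 119844 = n223103 := ndS (p := 99056) (l := 6) rfl N99056 D223103
theorem N119845 : nd 119845 = n223104 := ndS (p := 99059) (l := 3) rfl N99059 D223104
theorem N119846 : nd 119846 = n223105 := ndS (p := 99061) (l := 6) rfl N99061 D223105
theorem N119847 : nd 119847 = n223106 := ndS (p := 99062) (l := 3) rfl N99062 D223106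
theorem N119848 : nd 119848 = n223107 := ndS (p := 99062) (l := 6) rfl N99062 D223107
theorem N119849 : nd 119849 = n223108 := ndS (p := 99063) (l := 6) rfl N99063 D223108
theorem N119850 : nd 119850 = n223109 := ndS (p := 99064) (l := 6) rfl N99064 D223109
theorem N119851 : nd 119851 = n223110 := ndS (p := 99067) (l := 5) rfl N99067 D223110
theorem N119852 : nd 119852 = n223111 := ndS (p := 99070) (l := 6) rfl N99070 D223111
theorem N119853 : nd 119853 = n223112 := ndS (p := 99073) (l := 5) rfl N99073 D223112
theorem N119854 : nd 119854 = n223113 := ndS (p := 99076) (l := 6) rfl N99076 D223113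
theorem N119855 : nd 119855 = n223114 := ndS (p := 99077) (l := 7) rfl N99077 D223114
theorem N119856 : nd 119856 = n223115 := ndS (p := 99078) (l := 0) rfl N99078 D223115
theorem N119857 : nd 119857 = n223116 := ndS (p := 99079) (l := 0) rfl N99079 D223116
theorem N119858 : nd 119858 = n223117 := ndS (p := 99079) (l := 7) rfl N99079 D223117
theorem N119859 : nd 119859 = n223118 := ndS (p := 99081) (l := 5) rfl N99081 D223118
theorem N119860 : nd 119860 = n223119 := ndS (p := 99082) (l := 7) rfl N99082 D223119
theorem N119861 : nd 119861 = n223120 := ndS (p := 99085) (l := 6) rfl N99085 D223120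
theorem N119862 : nd 119862 = n223121 := ndS (p := 99090) (l := 1) rfl N99090 D223121
theorem N119863 : nd 119863 = n223122 := ndS (p := 99090) (l := 7) rfl N99090 D223122
theorem N119864 : nd 119864 = n223123 := ndS (p := 99091) (l := 0) rfl N99091 D223123
theorem N119865 : nd 119865 = n223124 := ndS (p := 99091) (l := 1) rfl N99091 D223124
theorem N119866 : nd 119866 = n223125 := ndS (p := 99091) (l := 7) rfl N99091 D223125
theorem N119867 : nd 119867 = n223126 := ndS (p := 99097) (l := 1) rfl N99097 D223126
theorem N119868 : nd 119868 = n223127 := ndS (p := 99097) (l := 7) rfl N99097 D223127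
theorem N119869 : nd 119869 = n223128 := ndS (p := 99098) (l := 3) rfl N99098 D223128
theorem N119870 : nd 119870 = n223129 := ndS (p := 99100) (l := 6) rfl N99100 D223129
theorem N119871 : nd 119871 = n223130 := ndS (p := 99102) (l := 6) rfl N99102 D223130
theorem N119872 : nd 119872 = n223131 := ndS (p := 99104) (l := 3) rfl N99104 D223131
theorem N119873 : nd 119873 = n223132 := ndS (p := 99108) (l := 6) rfl N99108 D223132
theorem N119874 : nd 119874 = n223133 := ndS (p := 99113) (l := 5) rfl N99113 D223133
theorem N119875 : nd 119875 = n223134 := ndS (p := 99114) (l := 5) rfl N99114 D223134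
theorem N119876 : nd 119876 = n223135 := ndS (p := 99119) (l := 5) rfl N99119 D223135
theorem N119877 : nd 119877 = n223136 := ndS (p := 99120) (l := 5) rfl N99120 D223136
theorem N119878 : nd 119878 = n223137 := ndS (p := 99122) (l := 5) rfl N99122 D223137
theorem N119879 : nd 119879 = n223138 := ndS (p := 99123) (l := 0) rfl N99123 D223138
theorem N119880 : nd 119880 = n223139 := ndS (p := 99123) (l := 4) rfl N99123 D223139
theorem N119881 : nd 119881 = n223140 := ndS (p := 99127) (l := 3) rfl N99127 D223140
theorem N119882 : nd 119882 = n223141 := ndS (p := 99127) (l := 4) rfl N99127 D223141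
theorem N119883 : nd 119883 = n223142 := ndS (p := 99128) (l := 4) rfl N99128 D223142
theorem N119884 : nd 119884 = n223143 := ndS (p := 99128) (l := 6) rfl N99128 D223143
theorem N119885 : nd 119885 = n223144 := ndS (p := 99130) (l := 0) rfl N99130 D223144
theorem N119886 : nd 119886 = n223145 := ndS (p := 99130) (l := 1) rfl N99130 D223145
theorem N119887 : nd 119887 = n223146 := ndS (p := 99134) (l := 6) rfl N99134 D223146
theorem N119888 : nd 119888 = n223147 := ndS (p := 99138) (l := 0) rfl N99138 D223147
theorem N119889 : nd 119889 = n223148 := ndS (p := 99138) (l := 1) rfl N99138 D223148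
theorem N119890 : nd 119890 = n223149 := ndS (p := 99140) (l := 6) rfl N99140 D223149
theorem N119891 : nd 119891 = n223150 := ndS (p := 99141) (l := 0) rfl N99141 D223150
theorem N119892 : nd 119892 = n223151 := ndS (p := 99141) (l := 1) rfl N99141 D223151
theorem N119893 : nd 119893 = n223152 := ndS (p := 99141) (l := 7) rfl N99141 D223152
theorem N119894 : nd 119894 = n223153 := ndS (p := 99144) (l := 1) rfl N99144 D223153
theorem N119895 : nd 119895 = n223154 := ndS (p := 99149) (l := 7) rfl N99149 D223154
theorem N119896 : nd 119896 = n223155 := ndS (p := 99152) (l := 6) rfl N99152 D223155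
theorem N119897 : nd 119897 = n223156 := ndS (p := 99167) (l := 1) rfl N99167 D223156
theorem N119898 : nd 119898 = n223157 := ndS (p := 99168) (l := 0) rfl N99168 D223157
theorem N119899 : nd 119899 = n223158 := ndS (p := 99169) (l := 1) rfl N99169 D223158
theorem N119900 : nd 119900 = n223159 := ndS (p := 99173) (l := 4) rfl N99173 D223159
theorem N119901 : nd 119901 = n223160 := ndS (p := 99174) (l := 5) rfl N99174 D223160
theorem N119902 : nd 119902 = n223161 := ndS (p := 99184) (l := 5) rfl N99184 D223161
theorem N119903 : nd 119903 = n223162 := ndS (p := 99184) (l := 6) rfl N99184 D223162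
theorem N119904 : nd 119904 = n223163 := ndS (p := 99195) (l := 6) rfl N99195 D223163
theorem N119905 : nd 119905 = n223164 := ndS (p := 99201) (l := 5) rfl N99201 D223164
theorem N119906 : nd 119906 = n223165 := ndS (p := 99204) (l := 6) rfl N99204 D223165
theorem N119907 : nd 119907 = n223166 := ndS (p := 99205) (l := 1) rfl N99205 D223166
theorem N119908 : nd 119908 = n223167 := ndS (p := 99207) (l := 5) rfl N99207 D223167
theorem N119909 : nd 119909 = n223168 := ndS (p := 99208) (l := 3) rfl N99208 D223168
theorem N119910 : nd 119910 = n223169 := ndS (p := 99210) (l := 0) rfl N99210 D223169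
theorem N119911 : nd 119911 = n223170 := ndS (p := 99210) (l := 1) rfl N99210 D223170
theorem N119912 : nd 119912 = n223171 := ndS (p := 99210) (l := 4) rfl N99210 D223171
theorem N119913 : nd 119913 = n223172 := ndS (p := 99215) (l := 1) rfl N99215 D223172
theorem N119914 : nd 119914 = n223173 := ndS (p := 99221) (l := 1) rfl N99221 D223173
theorem N119915 : nd 119915 = n223174 := ndS (p := 99221) (l := 7) rfl N99221 D223174
theorem N119916 : nd 119916 = n223175 := ndS (p := 99223) (l := 5) rfl N99223 D223175
theorem N119917 : nd 119917 = n223176 := ndS (p := 99223) (l := 6) rfl N99223 D223176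
theorem N119918 : nd 119918 = n223177 := ndS (p := 99224) (l := 1) rfl N99224 D223177
theorem N119919 : nd 119919 = n223178 := ndS (p := 99224) (l := 4) rfl N99224 D223178
theorem N119920 : nd 119920 = n223179 := ndS (p := 99224) (l := 7) rfl N99224 D223179
theorem N119921 : nd 119921 = n223180 := ndS (p := 99230) (l := 4) rfl N99230 D223180
theorem N119922 : nd 119922 = n223181 := ndS (p := 99237) (l := 1) rfl N99237 D223181
theorem N119923 : nd 119923 = n223182 := ndS (p := 99241) (l := 5) rfl N99241 D223182
theorem N119924 : nd 119924 = n223183 := ndS (p := 99244) (l := 0) rfl N99244 D223183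
theorem N119925 : nd 119925 = n223184 := ndS (p := 99244) (l := 4) rfl N99244 D223184
theorem N119926 : nd 119926 = n223185 := ndS (p := 99245) (l := 4) rfl N99245 D223185
theorem N119927 : nd 119927 = n223186 := ndS (p := 99245) (l := 6) rfl N99245 D223186
theorem N119928 : nd 119928 = n223187 := ndS (p := 99246) (l := 5) rfl N99246 D223187
theorem N119929 : nd 119929 = n223188 := ndS (p := 99249) (l := 0) rfl N99249 D223188
theorem N119930 : nd 119930 = n223189 := ndS (p := 99252) (l := 0) rfl N99252 D223189
theorem N119931 : nd 119931 = n223190 := ndS (p := 99255) (l := 4) rfl N99255 D223190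
theorem N119932 : nd 119932 = n223191 := ndS (p := 99266) (l := 3) rfl N99266 D223191
theorem N119933 : nd 119933 = n223192 := ndS (p := 99267) (l := 4) rfl N99267 D223192
theorem N119934 : nd 119934 = n223193 := ndS (p := 99268) (l := 1) rfl N99268 D223193
theorem N119935 : nd 119935 = n223194 := ndS (p := 99268) (l := 7) rfl N99268 D223194
theorem N119936 : nd 119936 = n223195 := ndS (p := 99270) (l := 0) rfl N99270 D223195
theorem N119937 : nd 119937 = n223196 := ndS (p := 99270) (l := 1) rfl N99270 D223196
theorem N119938 : nd 119938 = n223197 := ndS (p := 99275) (l := 4) rfl N99275 D223197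
theorem N119939 : nd 119939 = n223198 := ndS (p := 99276) (l := 5) rfl N99276 D223198
theorem N119940 : nd 119940 = n223199 := ndS (p := 99279) (l := 7) rfl N99279 D223199
theorem N119941 : nd 119941 = n223200 := ndS (p := 99285) (l := 1) rfl N99285 D223200
theorem N119942 : nd 119942 = n223201 := ndS (p := 99286) (l := 5) rfl N99286 D223201
theorem N119943 : nd 119943 = n223202 := ndS (p := 99289) (l := 5) rfl N99289 D223202
theorem N119944 : nd 119944 = n223203 := ndS (p := 99294) (l := 0) rfl N99294 D223203
theorem N119945 : nd 119945 = n223204 := ndS (p := 99320) (l := 6) rfl N99320 D223204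
theorem N119946 : nd 119946 = n223205 := ndS (p := 99321) (l := 7) rfl N99321 D223205
theorem N119947 : nd 119947 = n223206 := ndS (p := 99322) (l := 5) rfl N99322 D223206
theorem N119948 : nd 119948 = n223207 := ndS (p := 99342) (l := 5) rfl N99342 D223207
theorem N119949 : nd 119949 = n223208 := ndS (p := 99357) (l := 5) rfl N99357 D223208
theorem N119950 : nd 119950 = n223209 := ndS (p := 99365) (l := 7) rfl N99365 D223209
theorem N119951 : nd 119951 = n223210 := ndS (p := 99369) (l := 3) rfl N99369 D223210
theorem N119952 : nd 119952 = n223211 := ndS (p := 99369) (l := 4) rfl N99369 D223211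
theorem N119953 : nd 119953 = n223212 := ndS (p := 99369) (l := 6) rfl N99369 D223212
theorem N119954 : nd 119954 = n223213 := ndS (p := 99374) (l := 6) rfl N99374 D223213
theorem N119955 : nd 119955 = n223214 := ndS (p := 99375) (l := 5) rfl N99375 D223214
theorem N119956 : nd 119956 = n223215 := ndS (p := 99376) (l := 6) rfl N99376 D223215
theorem N119957 : nd 119957 = n223216 := ndS (p := 99377) (l := 7) rfl N99377 D223216
theorem N119958 : nd 119958 = n223217 := ndS (p := 99378) (l := 3) rfl N99378 D223217
theorem N119959 : nd 119959 = n223218 := ndS (p := 99378) (l := 4) rfl N99378 D223218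
theorem N119960 : nd 119960 = n223219 := ndS (p := 99379) (l := 4) rfl N99379 D223219
theorem N119961 : nd 119961 = n223220 := ndS (p := 99380) (l := 4) rfl N99380 D223220
theorem N119962 : nd 119962 = n223221 := ndS (p := 99383) (l := 4) rfl N99383 D223221
theorem N119963 : nd 119963 = n223222 := ndS (p := 99383) (l := 7) rfl N99383 D223222
theorem N119964 : nd 119964 = n223223 := ndS (p := 99385) (l := 1) rfl N99385 D223223
theorem N119965 : nd 119965 = n223224 := ndS (p := 99385) (l := 2) rfl N99385 D223224
theorem N119966 : nd 119966 = n223225 := ndS (p := 99385) (l := 5) rfl N99385 D223225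
theorem N119967 : nd 119967 = n223226 := ndS (p := 99386) (l := 4) rfl N99386 D223226
theorem N119968 : nd 119968 = n223227 := ndS (p := 99387) (l := 3) rfl N99387 D223227
theorem N119969 : nd 119969 = n223228 := ndS (p := 99388) (l := 3) rfl N99388 D223228
theorem N119970 : nd 119970 = n223229 := ndS (p := 99388) (l := 5) rfl N99388 D223229
theorem N119971 : nd 119971 = n223230 := ndS (p := 99392) (l := 5) rfl N99392 D223230
theorem N119972 : nd 119972 = n223231 := ndS (p := 99394) (l := 3) rfl N99394 D223231
theorem N119973 : nd 119973 = n223232 := ndS (p := 99394) (l := 5) rfl N99394 D223232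
theorem N119974 : nd 119974 = n223233 := ndS (p := 99395) (l := 0) rfl N99395 D223233
theorem N119975 : nd 119975 = n223234 := ndS (p := 99395) (l := 1) rfl N99395 D223234
theorem N119976 : nd 119976 = n223235 := ndS (p := 99397) (l := 5) rfl N99397 D223235
theorem N119977 : nd 119977 = n223236 := ndS (p := 99399) (l := 5) rfl N99399 D223236
theorem N119978 : nd 119978 = n223237 := ndS (p := 99399) (l := 7) rfl N99399 D223237
theorem N119979 : nd 119979 = n223238 := ndS (p := 99400) (l := 3) rfl N99400 D223238
theorem N119980 : nd 119980 = n223239 := ndS (p := 99404) (l := 3) rfl N99404 D223239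
theorem N119981 : nd 119981 = n223240 := ndS (p := 99407) (l := 4) rfl N99407 D223240
theorem N119982 : nd 119982 = n223241 := ndS (p := 99409) (l := 6) rfl N99409 D223241
theorem N119983 : nd 119983 = n223242 := ndS (p := 99410) (l := 1) rfl N99410 D223242
theorem N119984 : nd 119984 = n223243 := ndS (p := 99410) (l := 7) rfl N99410 D223243
theorem N119985 : nd 119985 = n223244 := ndS (p := 99418) (l := 3) rfl N99418 D223244
theorem N119986 : nd 119986 = n223245 := ndS (p := 99419) (l := 3) rfl N99419 D223245
theorem N119987 : nd 119987 = n223246 := ndS (p := 99419) (l := 6) rfl N99419 D223246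
theorem N119988 : nd 119988 = n223247 := ndS (p := 99425) (l := 0) rfl N99425 D223247
theorem N119989 : nd 119989 = n223248 := ndS (p := 99429) (l := 6) rfl N99429 D223248
theorem N119990 : nd 119990 = n223249 := ndS (p := 99430) (l := 1) rfl N99430 D223249
theorem N119991 : nd 119991 = n223250 := ndS (p := 99431) (l := 5) rfl N99431 D223250
theorem N119992 : nd 119992 = n223251 := ndS (p := 99441) (l := 3) rfl N99441 D223251
theorem N119993 : nd 119993 = n223252 := ndS (p := 99442) (l := 7) rfl N99442 D223252
theorem N119994 : nd 119994 = n223253 := ndS (p := 99444) (l := 5) rfl N99444 D223253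
theorem N119995 : nd 119995 = n223254 := ndS (p := 99445) (l := 6) rfl N99445 D223254
theorem N119996 : nd 119996 = n223255 := ndS (p := 99451) (l := 6) rfl N99451 D223255
theorem N119997 : nd 119997 = n223256 := ndS (p := 99455) (l := 1) rfl N99455 D223256
theorem N119998 : nd 119998 = n223257 := ndS (p := 99455) (l := 7) rfl N99455 D223257
theorem N119999 : nd 119999 = n223258 := ndS (p := 99462) (l := 0) rfl N99462 D223258
theorem N120000 : nd 120000 = n223259 := ndS (p := 99466) (l := 6) rfl N99466 D223259

end Cfsg.Agent.Helper17.ONTC
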